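import Groth.Statements.S0480
import Mathlib
-- import your own Groth.Agent.* helpers here

set_option autoImplicit false
universe v u
open CategoryTheory
open CohDer

namespace Groth.Agent.S0480

open CategoryTheory.Limits Opposite CochainComplex HomComplex

section helpers
variable {A : Type u} [Category.{v} A] [Abelian A] {T : Type v} (I : T → CochainComplex A ℤ)
  [HasProduct I]

lemma lift_exists (X : A) (j : ℤ) (a : ∀ t, X ⟶ (I t).X j) :
    ∃ b : X ⟶ (∏ᶜ I).X j, ∀ t, b ≫ (Pi.π I t).f j = a t := by
  let H := HomologicalComplex.evalCompCoyonedaCorepresentable (ComplexShape.up ℤ) X j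
  refine ⟨H.homEquiv (Pi.lift fun t => H.homEquiv.symm (a t)), fun t => ?_⟩
  have := H.homEquiv_comp (Pi.π I t) (Pi.lift fun t => H.homEquiv.symm (a t))
  simp only [Pi.lift, limit.lift_π, Fan.mk_π_app, Equiv.apply_symm_apply] at this
  rw [this]
  rfl

lemma hom_ext' (X : A) (j : ℤ) (b b' : X ⟶ (∏ᶜ I).X j)
    (h : ∀ t, b ≫ (Pi.π I t).f j = b' ≫ (Pi.π I t).f j) : b = b' := by
  let H := HomologicalComplex.evalCompCoyonedaCorepresentable (ComplexShape.up ℤ) X j
  apply H.homEquiv.symm.injective
  apply Pi.hom_ext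
  intro t
  apply H.homEquiv.injective
  have e1 := H.homEquiv_comp (Pi.π I t) (H.homEquiv.symm b)
  have e2 := H.homEquiv_comp (Pi.π I t) (H.homEquiv.symm b')
  simp only [Equiv.apply_symm_apply] at e1 e2
  rw [e1, e2]
  exact h t

end helpers

open CategoryTheory.Limits in
/-- In an abelian category, if the product of a family of K-injective cochain complexes exists (it is
then the termwise product), it is again K-injective. -/
theorem result {A : Type u} [Category.{v} A] [Abelian A] {T : Type v} (I : T → CochainComplex A ℤ)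
    [HasProduct I] (h : ∀ t, (I t).IsKInjective) : (∏ᶜ I).IsKInjective := by
  classical
  refine ⟨fun {K} f hK => ?_⟩
  have key : ∀ t, ∃ ht : Cochain K (I t) (-1), δ (-1) 0 ht = Cochain.ofHom (f ≫ Pi.π I t) := by
    intro t
    have := h t
    obtain ⟨H0⟩ := IsKInjective.nonempty_homotopy_zero (f ≫ Pi.π I t) hK
    obtain ⟨h0, hh0⟩ := Cochain.equivHomotopy _ _ H0
    simp only [Int.reduceNeg, Cochain.ofHom_zero, add_zero] at hh0
    exact ⟨h0, hh0.symm⟩
  choose ht hht using key
  let hh : Cochain K (∏ᶜ I) (-1) := Cochain.mk (fun p q hpq =>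
    (lift_exists I (K.X p) q (fun t => (ht t).v p q hpq)).choose)
  have hfac : ∀ t, hh.comp (Cochain.ofHom (Pi.π I t)) (add_zero _) = ht t := by
    intro t
    ext p q hpq
    rw [Cochain.comp_zero_cochain_v, Cochain.ofHom_v, Cochain.mk_v]
    exact (lift_exists I (K.X p) q (fun t => (ht t).v p q hpq)).choose_spec t
  refine ⟨(Cochain.equivHomotopy f 0).symm ⟨hh, ?_⟩⟩
  rw [Cochain.ofHom_zero, add_zero]
  ext p
  apply hom_ext' I
  intro t
  have e1 := Cochain.congr_v (congrArg (δ (-1) 0) (hfac t)) p p (add_zero p)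
  rw [δ_comp_ofHom, hht t, Cochain.comp_zero_cochain_v, Cochain.ofHom_v, Cochain.ofHom_v] at e1
  simp only [Cochain.ofHom_v]
  exact e1.symm

end Groth.Agent.S0480
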