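import Groth.Statements.S14100
import Mathlib

set_option autoImplicit false
universe w v u
open DCoh

namespace Groth.Agent.S14100

open CategoryTheory Limits Pretriangulated DerivedCategory

section
variable {C : Type u} [Category.{v} C] [Abelian C] [HasDerivedCategory.{w} C]


theorem eq_zero_of_amp_zero {X Y : DerivedCategory C} (a : ℤ) [X.IsGE a] [X.IsLE a]
    [Y.IsGE a] [Y.IsLE a] (f : X ⟶ Y) (hf : (homologyFunctor C a).map f = 0) : f = 0 := by
  obtain ⟨A, ⟨eX⟩⟩ := exists_iso_singleFunctor_obj_of_isGE_of_isLE X a
  obtain ⟨B, ⟨eY⟩⟩ := exists_iso_singleFunctor_obj_of_isGE_of_isLE Y a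
  obtain ⟨φ, hφ⟩ := (singleFunctor C a).map_surjective (eX.inv ≫ f ≫ eY.hom)
  have h1 : (homologyFunctor C a).map ((singleFunctor C a).map φ) = 0 := by
    rw [hφ, Functor.map_comp, Functor.map_comp, hf, zero_comp, comp_zero]
  have h2 : φ = 0 := by
    have := NatIso.naturality_1 (singleFunctorCompHomologyFunctorIso C a) φ
    dsimp at this
    rw [← this, h1, zero_comp, comp_zero]
  have h3 : eX.inv ≫ f ≫ eY.hom = 0 := by rw [← hφ, h2, Functor.map_zero]
  calc f = eX.hom ≫ (eX.inv ≫ f ≫ eY.hom) ≫ eY.inv := by simp
    _ = 0 := by rw [h3, zero_comp, comp_zero]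

theorem homology_truncGE_map_eq_zero (m : ℤ) {X Y : DerivedCategory C} (f : X ⟶ Y)
    (hf : ∀ q, (homologyFunctor C q).map f = 0) (q : ℤ) :
    (homologyFunctor C q).map (((DerivedCategory.TStructure.t (C := C)).truncGE m).map f) = 0 := by
  by_cases hq : q < m
  · exact (isZero_of_isGE (((DerivedCategory.TStructure.t (C := C)).truncGE m).obj Y) m q hq).eq_of_tgt _ _
  · have hT := (DerivedCategory.TStructure.t (C := C)).triangleLTGE_distinguished m X
    have hepi : Epi ((homologyFunctor C q).map (((DerivedCategory.TStructure.t (C := C)).truncGEπ m).app X)) := by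
      refine (HomologySequence.epi_homologyMap_mor₂_iff _ hT q (q + 1) rfl).mpr ?_
      exact (isZero_of_isLE (((DerivedCategory.TStructure.t (C := C)).truncLT m).obj X) (m - 1) (q + 1) (by omega)).eq_of_tgt _ _
    rw [← cancel_epi ((homologyFunctor C q).map (((DerivedCategory.TStructure.t (C := C)).truncGEπ m).app X)), comp_zero,
      ← Functor.map_comp, ← ((DerivedCategory.TStructure.t (C := C)).truncGEπ m).naturality f, Functor.map_comp]
    dsimp
    rw [hf q, zero_comp]

theorem homology_truncLT_map_eq_zero (m : ℤ) {X Y : DerivedCategory C} (f : X ⟶ Y)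
    (hf : ∀ q, (homologyFunctor C q).map f = 0) (q : ℤ) :
    (homologyFunctor C q).map (((DerivedCategory.TStructure.t (C := C)).truncLT m).map f) = 0 := by
  by_cases hq : m ≤ q
  · exact (isZero_of_isLE (((DerivedCategory.TStructure.t (C := C)).truncLT m).obj X) (m - 1) q (by omega)).eq_of_src _ _
  · have hT := (DerivedCategory.TStructure.t (C := C)).triangleLTGE_distinguished m Y
    have hmono : Mono ((homologyFunctor C q).map (((DerivedCategory.TStructure.t (C := C)).truncLTι m).app Y)) := by
      refine (HomologySequence.mono_homologyMap_mor₁_iff _ hT (q - 1) q (by omega)).mpr ?_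
      exact (isZero_of_isGE (((DerivedCategory.TStructure.t (C := C)).truncGE m).obj Y) m (q - 1) (by omega)).eq_of_src _ _
    rw [← cancel_mono ((homologyFunctor C q).map (((DerivedCategory.TStructure.t (C := C)).truncLTι m).app Y)), zero_comp,
      ← Functor.map_comp, ((DerivedCategory.TStructure.t (C := C)).truncLTι m).naturality f, Functor.map_comp]
    dsimp
    rw [hf q, comp_zero]

/-- composite of the first `k` maps -/
noncomputable def compTo {X : ℕ → DerivedCategory C} (f : ∀ i, X i ⟶ X (i + 1)) : ∀ k, X 0 ⟶ X k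
  | 0 => 𝟙 _
  | k + 1 => compTo f k ≫ f k

theorem compTo_natural {X X' : ℕ → DerivedCategory C} (f : ∀ i, X i ⟶ X (i + 1))
    (f' : ∀ i, X' i ⟶ X' (i + 1)) (π : ∀ i, X i ⟶ X' i)
    (hπ : ∀ i, f i ≫ π (i + 1) = π i ≫ f' i) :
    ∀ k, compTo f k ≫ π k = π 0 ≫ compTo f' k
  | 0 => by simp [compTo]
  | k + 1 => by
    simp only [compTo, Category.assoc]
    rw [hπ k, ← Category.assoc, compTo_natural f f' π hπ k, Category.assoc]

theorem main : ∀ (n : ℕ) (a : ℤ) (X : ℕ → DerivedCategory C) (f : ∀ i, X i ⟶ X (i + 1)),
    (∀ i ≤ n + 1, (X i).IsGE a) → (∀ i ≤ n + 1, (X i).IsLE (a + n)) →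
    (∀ i ≤ n, ∀ q, (homologyFunctor C q).map (f i) = 0) → compTo f (n + 1) = 0 := by
  intro n
  induction n with
  | zero =>
    intro a X f hGE hLE hz
    have h0 := hGE 0 (by omega)
    have h1 := hGE 1 (by omega)
    have h0' : (X 0).IsLE a := by simpa using hLE 0 (by omega)
    have h1' : (X 1).IsLE a := by simpa using hLE 1 (by omega)
    simp only [compTo, Category.id_comp]
    exact eq_zero_of_amp_zero a (f 0) (hz 0 le_rfl a)
  | succ n ih =>
    intro a X f hGE hLE hz
    have hIH := ih (a + 1) (fun i => ((DerivedCategory.TStructure.t (C := C)).truncGE (a + 1)).obj (X i))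
      (fun i => ((DerivedCategory.TStructure.t (C := C)).truncGE (a + 1)).map (f i))
      (fun i _ => inferInstance)
      (fun i hi => by
        have := hLE i (by omega)
        have h2 : a + ((n + 1 : ℕ) : ℤ) = a + 1 + (n : ℤ) := by push_cast; ring
        rw [h2] at this
        infer_instance)
      (fun i hi q => homology_truncGE_map_eq_zero (a + 1) (f i) (hz i (by omega)) q)
    -- the last map factors through the truncation
    have hlast : ((DerivedCategory.TStructure.t (C := C)).truncLTι (a + 1)).app (X (n + 1)) ≫ f (n + 1) = 0 := by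
      have hnat := ((DerivedCategory.TStructure.t (C := C)).truncLTι (a + 1)).naturality (f (n + 1))
      dsimp at hnat
      rw [← hnat]
      have h1 := hGE (n + 1) (by omega)
      have h2 := hGE (n + 2) (by omega)
      have hz' : ((DerivedCategory.TStructure.t (C := C)).truncLT (a + 1)).map (f (n + 1)) = 0 :=
        eq_zero_of_amp_zero a _
          (homology_truncLT_map_eq_zero (a + 1) (f (n + 1)) (hz (n + 1) le_rfl) a)
      rw [hz', zero_comp]
    obtain ⟨h, hh⟩ := Triangle.yoneda_exact₂ _
      ((DerivedCategory.TStructure.t (C := C)).triangleLTGE_distinguished (a + 1) (X (n + 1))) (f (n + 1)) hlast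
    have hh' : f (n + 1) = ((DerivedCategory.TStructure.t (C := C)).truncGEπ (a + 1)).app (X (n + 1)) ≫ h := hh
    show compTo f (n + 1) ≫ f (n + 1) = 0
    rw [hh', ← Category.assoc,
      compTo_natural f (fun i => ((DerivedCategory.TStructure.t (C := C)).truncGE (a + 1)).map (f i))
        (fun i => ((DerivedCategory.TStructure.t (C := C)).truncGEπ (a + 1)).app (X i))
        (fun i => ((DerivedCategory.TStructure.t (C := C)).truncGEπ (a + 1)).naturality (f i)) (n + 1),
      Category.assoc, hIH, zero_comp, comp_zero]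

end

open CategoryTheory in
/-- Let C be an abelian category, a an integer and n a natural number, and let K_0 → K_1 → ⋯ → K_{n+1}
be composable morphisms in the derived category of C such that each K_i has cohomology concentrated
in degrees a, …, a+n and each map K_i → K_{i+1} induces zero on every cohomology object. Then the
composite K_0 → K_{n+1} is zero. (The chain is given as a functor from the ordered set of natural
numbers; only its values on 0, …, n+1 matter.) -/
theorem result
    (C : Type u) [Category.{v} C] [Abelian C] [HasDerivedCategory.{w} C]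
    (a : ℤ) (n : ℕ) (K : ℕ ⥤ DerivedCategory C)
    (hGE : ∀ i : ℕ, i ≤ n + 1 → (K.obj i).IsGE a)
    (hLE : ∀ i : ℕ, i ≤ n + 1 → (K.obj i).IsLE (a + n))
    (hzero : ∀ i : ℕ, i ≤ n → ∀ q : ℤ,
      (DerivedCategory.homologyFunctor C q).map (K.map (homOfLE (Nat.le_succ i))) = 0) :
    K.map (homOfLE (Nat.zero_le (n + 1))) = 0 := by
  have key : ∀ k : ℕ, K.map (homOfLE (Nat.zero_le k)) =
      compTo (fun i => K.map (homOfLE (Nat.le_succ i))) k := by
    intro k
    induction k with
    | zero =>
      simp only [compTo]
      rw [← K.map_id]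
      rfl
    | succ k ih =>
      simp only [compTo]
      rw [← ih, ← K.map_comp]
      rfl
  rw [key]
  exact main n a (fun i => K.obj i) (fun i => K.map (homOfLE (Nat.le_succ i))) hGE hLE hzero

end Groth.Agent.S14100
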