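import Groth.Statements.S14388
import Mathlib
import Groth.Agent.S14100

set_option autoImplicit false
open CategoryTheory CategoryTheory.Limits
universe w v u
open CohDer

namespace Groth.Agent.S14388

open CategoryTheory Limits Pretriangulated DerivedCategory

section
variable {C : Type u} [Category.{v} C] [Abelian C] [HasDerivedCategory.{w} C]

noncomputable abbrev tt : Triangulated.TStructure (DerivedCategory C) := DerivedCategory.TStructure.t

theorem isIso_homology_truncGEπ (m j : ℤ) (hj : m ≤ j) (X : DerivedCategory C) :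
    IsIso ((homologyFunctor C j).map ((tt.truncGEπ m).app X)) := by
  have hT := tt.triangleLTGE_distinguished m X
  have hepi : Epi ((homologyFunctor C j).map ((tt.truncGEπ m).app X)) := by
    refine (HomologySequence.epi_homologyMap_mor₂_iff _ hT j (j + 1) rfl).mpr ?_
    exact (isZero_of_isLE ((tt.truncLT m).obj X) (m - 1) (j + 1) (by omega)).eq_of_tgt _ _
  have hmono : Mono ((homologyFunctor C j).map ((tt.truncGEπ m).app X)) := by
    refine (HomologySequence.mono_homologyMap_mor₂_iff _ hT j).mpr ?_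
    exact (isZero_of_isLE ((tt.truncLT m).obj X) (m - 1) j (by omega)).eq_of_src _ _
  exact isIso_of_mono_of_epi _

theorem isIso_homology_truncLTι (m j : ℤ) (hj : j < m) (X : DerivedCategory C) :
    IsIso ((homologyFunctor C j).map ((tt.truncLTι m).app X)) := by
  have hT := tt.triangleLTGE_distinguished m X
  have hmono : Mono ((homologyFunctor C j).map ((tt.truncLTι m).app X)) := by
    refine (HomologySequence.mono_homologyMap_mor₁_iff _ hT (j - 1) j (by omega)).mpr ?_
    exact (isZero_of_isGE ((tt.truncGE m).obj X) m (j - 1) (by omega)).eq_of_src _ _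
  have hepi : Epi ((homologyFunctor C j).map ((tt.truncLTι m).app X)) := by
    refine (HomologySequence.epi_homologyMap_mor₁_iff _ hT j).mpr ?_
    exact (isZero_of_isGE ((tt.truncGE m).obj X) m j hj).eq_of_tgt _ _
  exact isIso_of_mono_of_epi _

theorem homology_truncGE_map_eq_zero' (m q : ℤ) {X Y : DerivedCategory C} (f : X ⟶ Y)
    (hf : (homologyFunctor C q).map f = 0) :
    (homologyFunctor C q).map ((tt.truncGE m).map f) = 0 := by
  by_cases hq : q < m
  · exact (isZero_of_isGE ((tt.truncGE m).obj Y) m q hq).eq_of_tgt _ _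
  · have := isIso_homology_truncGEπ m q (by omega) X
    rw [← cancel_epi ((homologyFunctor C q).map ((tt.truncGEπ m).app X)), comp_zero,
      ← Functor.map_comp, ← (tt.truncGEπ m).naturality f, Functor.map_comp]
    dsimp
    rw [hf, zero_comp]

theorem homology_truncLT_map_eq_zero' (m q : ℤ) {X Y : DerivedCategory C} (f : X ⟶ Y)
    (hf : (homologyFunctor C q).map f = 0) :
    (homologyFunctor C q).map ((tt.truncLT m).map f) = 0 := by
  by_cases hq : m ≤ q
  · exact (isZero_of_isLE ((tt.truncLT m).obj X) (m - 1) q (by omega)).eq_of_src _ _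
  · have := isIso_homology_truncLTι m q (by omega) Y
    rw [← cancel_mono ((homologyFunctor C q).map ((tt.truncLTι m).app Y)), zero_comp,
      ← Functor.map_comp, (tt.truncLTι m).naturality f, Functor.map_comp]
    dsimp
    rw [hf, comp_zero]


theorem lemmaA {n : ℤ} {X Y : DerivedCategory C} (f : (tt.truncGE n).obj X ⟶ Y)
    (hf : (tt.truncGEπ n).app X ≫ f = 0) [tt.IsGE Y (n - 1)] : f = 0 := by
  obtain ⟨g, hg⟩ := Triangle.yoneda_exact₃ _ (tt.triangleLTGE_distinguished n X) f hf
  have hg' := tt.zero_of_isLE_of_isGE g (n - 2) (n - 1) (by omega)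
    (by exact tt.isLE_shift _ (n - 1) 1 (n - 2) (by omega)) inferInstance
  rw [hg, hg']
  exact comp_zero

theorem lemmaB {n : ℤ} {X Y : DerivedCategory C} (f : Y ⟶ (tt.truncLT n).obj X)
    (hf : f ≫ (tt.truncLTι n).app X = 0) [tt.IsLE Y n] : f = 0 := by
  obtain ⟨g, hg⟩ := Triangle.coyoneda_exact₂ _ (inv_rot_of_distTriang _
    (tt.triangleLTGE_distinguished n X)) f hf
  have hg' := tt.zero_of_isLE_of_isGE g n (n + 1) (by omega) inferInstance
    (by apply (tt.isGE_shift _ n (-1) (n + 1) (by omega)))
  rw [hg, hg']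
  exact zero_comp

theorem isIso_of_isZero_isZero {D : Type*} [Category D] [HasZeroMorphisms D] {A B : D}
    (f : A ⟶ B) (hA : IsZero A) (hB : IsZero B) : IsIso f :=
  ⟨⟨0, hA.eq_of_src _ _, hB.eq_of_src _ _⟩⟩

theorem isZero_homology_of_amp (X : DerivedCategory C) (a j : ℤ) (hj : j ≠ a) [X.IsGE a]
    [X.IsLE a] : IsZero ((homologyFunctor C j).obj X) := by
  rcases lt_or_gt_of_ne hj with h | h
  · exact isZero_of_isGE X a j h
  · exact isZero_of_isLE X a j h

end

/-- Let A be an abelian category, D(A) its derived category with the canonical t-structure and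
truncation functors τ_{≥a}, τ_{<b}, and write τ_[a,b] = τ_{≥a} ∘ τ_{<b+1}, so that τ_[q,q] K is
H^q(K) placed in degree q. Let f : K → K' be a morphism in D(A) and q an integer such that the
induced maps H^(q-1)(K) → H^(q-1)(K') and H^q(K) → H^q(K') are both zero. Then there is a unique
morphism L : τ_[q,q] K → τ_[q-1,q-1] K' such that τ_[q-1,q](f) : τ_[q-1,q] K → τ_[q-1,q] K' is the
composite of the canonical projection τ_[q-1,q] K → τ_[q,q] K, the morphism L, and the canonical
inclusion τ_[q-1,q-1] K' → τ_[q-1,q] K'. (Under τ_[n,n] ≅ H^n(−)[−n] the morphism L corresponds to a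
morphism L_f[−q] : H^q(K)[−q] → H^(q-1)(K')[1−q].) -/
theorem result {C : Type u} [Category.{v} C] [Abelian C]
    [HasDerivedCategory.{w} C] {K K' : DerivedCategory C} (f : K ⟶ K') (q : ℤ)
    (h₁ : (DerivedCategory.homologyFunctor C (q - 1)).map f = 0)
    (h₂ : (DerivedCategory.homologyFunctor C q).map f = 0) :
    ∃! L : ((DerivedCategory.TStructure.t (C := C)).truncGELT q (q + 1)).obj K ⟶
        ((DerivedCategory.TStructure.t (C := C)).truncGELT (q - 1) q).obj K',
      ((DerivedCategory.TStructure.t (C := C)).truncGELT (q - 1) (q + 1)).map f =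
        ((DerivedCategory.TStructure.t (C := C)).natTransTruncGEOfLE (q - 1) q (sub_one_lt q).le).app
            (((DerivedCategory.TStructure.t (C := C)).truncLT (q + 1)).obj K) ≫ L ≫
          ((DerivedCategory.TStructure.t (C := C)).truncGE (q - 1)).map
            (((DerivedCategory.TStructure.t (C := C)).natTransTruncLTOfLE q (q + 1) (lt_add_one q).le).app K') := by
  -- notation
  set Z := (tt.truncLT (q + 1)).obj K with hZ
  set Z' := (tt.truncLT (q + 1)).obj K' with hZ'
  set Z'' := (tt.truncLT q).obj K' with hZ''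
  set X := (tt.truncGE (q - 1)).obj Z with hX
  set X' := (tt.truncGE (q - 1)).obj Z' with hX'
  set Y := (tt.truncGE q).obj Z with hY
  set Y' := (tt.truncGE (q - 1)).obj Z'' with hY'
  set P : X ⟶ Y := (tt.natTransTruncGEOfLE (q - 1) q (sub_one_lt q).le).app Z with hP
  set ν : Z'' ⟶ Z' := (tt.natTransTruncLTOfLE q (q + 1) (lt_add_one q).le).app K' with hν
  set I : Y' ⟶ X' := (tt.truncGE (q - 1)).map ν with hI
  set g : X ⟶ X' := (tt.truncGE (q - 1)).map ((tt.truncLT (q + 1)).map f) with hg
  -- amplitude instances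
  have iZ : tt.IsLE Z q := by rw [hZ]; infer_instance
  have iZ' : tt.IsLE Z' q := by rw [hZ']; infer_instance
  have iZ'' : tt.IsLE Z'' (q - 1) := by rw [hZ'']; infer_instance
  have iX1 : tt.IsGE X (q - 1) := by rw [hX]; infer_instance
  have iX2 : tt.IsLE X q := by rw [hX]; infer_instance
  have iX'1 : tt.IsGE X' (q - 1) := by rw [hX']; infer_instance
  have iX'2 : tt.IsLE X' q := by rw [hX']; infer_instance
  have iY1 : tt.IsGE Y q := by rw [hY]; infer_instance
  have iY2 : tt.IsLE Y q := by rw [hY]; infer_instance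
  have iY'1 : tt.IsGE Y' (q - 1) := by rw [hY']; infer_instance
  have iY'2 : tt.IsLE Y' (q - 1) := by rw [hY']; infer_instance
  -- ψ
  have iψ : IsIso ((tt.truncGE q).map ((tt.truncGEπ (q - 1)).app Z)) :=
    tt.isIso_truncGE_map_truncGEπ_app q (q - 1) (by omega) Z
  set ψ : Y ⟶ (tt.truncGE q).obj X := (tt.truncGE q).map ((tt.truncGEπ (q - 1)).app Z) with hψ
  have hPψ : P ≫ ψ = (tt.truncGEπ q).app X := by
    have : tt.IsGE ((tt.truncGE q).obj X) (q - 1) := tt.isGE_of_ge _ (q - 1) q (by omega)
    apply tt.from_truncGE_obj_ext (n := q - 1)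
    have h1 : (tt.truncGEπ (q - 1)).app Z ≫ P = (tt.truncGEπ q).app Z :=
      tt.π_natTransTruncGEOfLE_app (q - 1) q (sub_one_lt q).le Z
    have h2 := (tt.truncGEπ q).naturality ((tt.truncGEπ (q - 1)).app Z)
    dsimp at h2
    rw [← Category.assoc, h1, hψ, ← h2]
  have hP' : P = (tt.truncGEπ q).app X ≫ inv ψ := by
    rw [← hPψ, Category.assoc, IsIso.hom_inv_id, Category.comp_id]
  -- homology of g
  have hg1 : (homologyFunctor C (q - 1)).map g = 0 :=
    homology_truncGE_map_eq_zero' _ _ _ (homology_truncLT_map_eq_zero' _ _ f h₁)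
  have hg2 : (homologyFunctor C q).map g = 0 :=
    homology_truncGE_map_eq_zero' _ _ _ (homology_truncLT_map_eq_zero' _ _ f h₂)
  -- ψ'
  set ψ' : Y' ⟶ (tt.truncLT q).obj X' := tt.liftTruncLT I (q - 1) q (by omega) with hψ'
  have hψ'ι : ψ' ≫ (tt.truncLTι q).app X' = I := tt.liftTruncLT_ι I (q - 1) q (by omega)
  have iTX'1 : tt.IsGE ((tt.truncLT q).obj X') (q - 1) := inferInstance
  have iTX'2 : tt.IsLE ((tt.truncLT q).obj X') (q - 1) := inferInstance
  have iψ' : IsIso ψ' := by
    rw [DerivedCategory.isIso_iff]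
    intro j
    by_cases hj : j = q - 1
    · subst hj
      have i1 := isIso_homology_truncLTι q (q - 1) (by omega) X'
      have i2 := isIso_homology_truncGEπ (q - 1) (q - 1) le_rfl Z''
      have i3 := isIso_homology_truncGEπ (q - 1) (q - 1) le_rfl Z'
      have i4 := isIso_homology_truncLTι q (q - 1) (by omega) K'
      have i5 := isIso_homology_truncLTι (q + 1) (q - 1) (by omega) K'
      have iν : IsIso ((homologyFunctor C (q - 1)).map ν) := by
        have h1 : ν ≫ (tt.truncLTι (q + 1)).app K' = (tt.truncLTι q).app K' :=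
          tt.natTransTruncLTOfLE_ι_app q (q + 1) (lt_add_one q).le K'
        have h2 : (homologyFunctor C (q - 1)).map ν ≫
            (homologyFunctor C (q - 1)).map ((tt.truncLTι (q + 1)).app K') =
            (homologyFunctor C (q - 1)).map ((tt.truncLTι q).app K') := by
          rw [← Functor.map_comp, h1]
        have : IsIso ((homologyFunctor C (q - 1)).map ν ≫
            (homologyFunctor C (q - 1)).map ((tt.truncLTι (q + 1)).app K')) := by
          rw [h2]; infer_instance
        exact IsIso.of_isIso_comp_right _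
          ((homologyFunctor C (q - 1)).map ((tt.truncLTι (q + 1)).app K'))
      have iI : IsIso ((homologyFunctor C (q - 1)).map I) := by
        have h1 := (tt.truncGEπ (q - 1)).naturality ν
        dsimp at h1
        have h2 : (homologyFunctor C (q - 1)).map ((tt.truncGEπ (q - 1)).app Z'') ≫
            (homologyFunctor C (q - 1)).map I =
            (homologyFunctor C (q - 1)).map ν ≫
            (homologyFunctor C (q - 1)).map ((tt.truncGEπ (q - 1)).app Z') := by
          rw [← Functor.map_comp, ← Functor.map_comp, hI, h1]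
        have : IsIso ((homologyFunctor C (q - 1)).map ((tt.truncGEπ (q - 1)).app Z'') ≫
            (homologyFunctor C (q - 1)).map I) := by
          rw [h2]; infer_instance
        exact IsIso.of_isIso_comp_left
          ((homologyFunctor C (q - 1)).map ((tt.truncGEπ (q - 1)).app Z'')) _
      have h3 : (homologyFunctor C (q - 1)).map ψ' ≫
          (homologyFunctor C (q - 1)).map ((tt.truncLTι q).app X') =
          (homologyFunctor C (q - 1)).map I := by
        rw [← Functor.map_comp, hψ'ι]
      have : IsIso ((homologyFunctor C (q - 1)).map ψ' ≫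
          (homologyFunctor C (q - 1)).map ((tt.truncLTι q).app X')) := by
        rw [h3]; exact iI
      exact IsIso.of_isIso_comp_right _
        ((homologyFunctor C (q - 1)).map ((tt.truncLTι q).app X'))
    · exact isIso_of_isZero_isZero _ (isZero_homology_of_amp Y' (q - 1) j hj)
        (isZero_homology_of_amp ((tt.truncLT q).obj X') (q - 1) j hj)
  -- existence
  have hE1 : (tt.truncLTι q).app X ≫ g = 0 := by
    have hnat := (tt.truncLTι q).naturality g
    dsimp at hnat
    rw [← hnat]
    have i1 : tt.IsGE ((tt.truncLT q).obj X) (q - 1) := inferInstance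
    have i2 : tt.IsLE ((tt.truncLT q).obj X) (q - 1) := inferInstance
    have hz : (tt.truncLT q).map g = 0 :=
      Groth.Agent.S14100.eq_zero_of_amp_zero (q - 1) _
        (homology_truncLT_map_eq_zero' q (q - 1) g hg1)
    rw [hz, zero_comp]
  obtain ⟨g₁, hg₁'⟩ : ∃ g₁ : (tt.truncGE q).obj X ⟶ X', g = (tt.truncGEπ q).app X ≫ g₁ :=
    Triangle.yoneda_exact₂ _ (tt.triangleLTGE_distinguished q X) g hE1
  have hHg₁ : (homologyFunctor C q).map g₁ = 0 := by
    have i1 := isIso_homology_truncGEπ q q le_rfl X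
    rw [← cancel_epi ((homologyFunctor C q).map ((tt.truncGEπ q).app X)), comp_zero,
      ← Functor.map_comp, ← hg₁', hg2]
  set g₂ : Y ⟶ X' := ψ ≫ g₁ with hg₂
  have hgP : g = P ≫ g₂ := by
    rw [hg₂, ← Category.assoc, hPψ, ← hg₁']
  have hE2 : g₂ ≫ (tt.truncGEπ q).app X' = 0 := by
    have i1 : tt.IsGE ((tt.truncGE q).obj X') q := inferInstance
    have i2 : tt.IsLE ((tt.truncGE q).obj X') q := inferInstance
    apply Groth.Agent.S14100.eq_zero_of_amp_zero q
    rw [hg₂, Functor.map_comp, Functor.map_comp, hHg₁, comp_zero, zero_comp]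
  obtain ⟨g₃, hg₃'⟩ : ∃ g₃ : Y ⟶ (tt.truncLT q).obj X', g₂ = g₃ ≫ (tt.truncLTι q).app X' :=
    Triangle.coyoneda_exact₂ _ (tt.triangleLTGE_distinguished q X') g₂ hE2
  refine ⟨g₃ ≫ inv ψ', ?_, ?_⟩
  · show g = P ≫ (g₃ ≫ inv ψ') ≫ I
    rw [← hψ'ι, Category.assoc, IsIso.inv_hom_id_assoc, ← hg₃', ← hgP]
  · have key : ∀ L' : Y ⟶ Y', g = P ≫ L' ≫ I → L' = g₃ ≫ inv ψ' := ?_
    · intro L' hL'
      exact key L' hL'
    intro L' hL''
    -- first cancel P
    have h1 : P ≫ (L' ≫ I - g₂) = 0 := by
      rw [Preadditive.comp_sub, ← hL'', ← hgP, sub_self]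
    have h2 : inv ψ ≫ (L' ≫ I - g₂) = 0 := by
      apply lemmaA (n := q) (X := X)
      rw [← Category.assoc, ← hP', h1]
    have h3 : L' ≫ I - g₂ = 0 := by
      have := congrArg (fun z => ψ ≫ z) h2
      simpa using this
    have h4 : (L' ≫ ψ' - g₃) ≫ (tt.truncLTι q).app X' = 0 := by
      rw [Preadditive.sub_comp, Category.assoc, hψ'ι, ← hg₃', h3]
    have h5 : L' ≫ ψ' - g₃ = 0 := lemmaB (n := q) (X := X') _ h4
    rw [sub_eq_zero] at h5
    rw [← h5, Category.assoc, IsIso.hom_inv_id, Category.comp_id]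

end Groth.Agent.S14388
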