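import Groth.Statements.S0973
import Mathlib
import Groth.Agent.S14388
import Groth.Agent.S14100
-- import your own Groth.Agent.* helpers here

set_option autoImplicit false
universe w v u
open CategoryTheory CategoryTheory.Limits
open CohDer

namespace Groth.Agent.S0973

open DerivedCategory Pretriangulated
open Groth.Agent.S14388

section der
variable {A : Type u} [Category.{v} A] [Abelian A] [HasDerivedCategory.{w} A]

/-- an object concentrated in degree `c` is the single of its `H^c` -/
lemma iso_single_of_amp (X : DerivedCategory A) (c : ℤ) [X.IsGE c] [X.IsLE c] :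
    Nonempty (X ≅ (singleFunctor A c).obj ((homologyFunctor A c).obj X)) := by
  obtain ⟨Y, ⟨e⟩⟩ := exists_iso_singleFunctor_obj_of_isGE_of_isLE X c
  have e' : Y ≅ (homologyFunctor A c).obj X :=
    ((singleFunctorCompHomologyFunctorIso A c).app Y).symm ≪≫ (homologyFunctor A c).mapIso e.symm
  exact ⟨e ≪≫ (singleFunctor A c).mapIso e'⟩

/-- the vanishing lemma: maps from a single object to `L⟦1⟧` vanish if they do on the
cohomology objects of `L` -/
lemma hom_single_shift_eq_zero (M : A) (i : ℤ) (k : ℕ) : ∀ (L : DerivedCategory A) (a : ℤ),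
    L.IsGE a → L.IsLE (a + k - 1) →
    (∀ j : ℤ, a ≤ j → j ≤ a + k - 1 → ∀ φ : (singleFunctor A i).obj M ⟶
      ((singleFunctor A j).obj ((homologyFunctor A j).obj L))⟦(1 : ℤ)⟧, φ = 0) →
    ∀ ψ : (singleFunctor A i).obj M ⟶ L⟦(1 : ℤ)⟧, ψ = 0 := by
  induction k with
  | zero =>
    intro L a hGE hLE _ ψ
    have hzero : IsZero L := tt.isZero L (a + ((0 : ℕ) : ℤ) - 1) a (by simp)
    exact (((shiftFunctor (DerivedCategory A) (1 : ℤ)).map_isZero hzero)).eq_of_tgt _ _
  | succ k ih =>
    intro L a hGE hLE hφ ψ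
    have hc : a + ((k + 1 : ℕ) : ℤ) - 1 = a + k := by push_cast; ring
    rw [hc] at hLE
    set c : ℤ := a + k with hcdef
    -- the truncation triangle
    have hT := tt.triangleLTGE_distinguished c L
    have hT2 := rot_of_distTriang _ (rot_of_distTriang _ hT)
    -- top piece
    have hQGE : ((tt.truncGE c).obj L).IsGE c := inferInstance
    have hQLE : ((tt.truncGE c).obj L).IsLE c := inferInstance
    obtain ⟨eQ⟩ := iso_single_of_amp ((tt.truncGE c).obj L) c
    have hπiso := isIso_homology_truncGEπ c c le_rfl L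
    let eH : (homologyFunctor A c).obj ((tt.truncGE c).obj L) ≅ (homologyFunctor A c).obj L :=
      (asIso ((homologyFunctor A c).map ((tt.truncGEπ c).app L))).symm
    let e : (tt.truncGE c).obj L ≅ (singleFunctor A c).obj ((homologyFunctor A c).obj L) :=
      eQ ≪≫ (singleFunctor A c).mapIso eH
    have h1 : ψ ≫ ((tt.truncGEπ c).app L)⟦(1 : ℤ)⟧' = 0 := by
      have := hφ c (by omega) (by rw [hc]) (ψ ≫ ((tt.truncGEπ c).app L)⟦(1 : ℤ)⟧' ≫ e.hom⟦(1 : ℤ)⟧')
      rw [← Category.assoc] at this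
      have hiso : IsIso (e.hom⟦(1 : ℤ)⟧') := inferInstance
      rwa [← cancel_mono (e.hom⟦(1 : ℤ)⟧'), zero_comp]
    obtain ⟨g, hg⟩ : ∃ g : (singleFunctor A i).obj M ⟶ ((tt.truncLT c).obj L)⟦(1 : ℤ)⟧,
        ψ = g ≫ (-((tt.truncLTι c).app L)⟦(1 : ℤ)⟧') :=
      Triangle.coyoneda_exact₃ _ hT2 ψ (by
        show ψ ≫ (-((tt.truncGEπ c).app L)⟦(1 : ℤ)⟧') = 0
        rw [Preadditive.comp_neg, h1, neg_zero])
    have hg0 : g = 0 := by
      apply ih ((tt.truncLT c).obj L) a inferInstance
      · have : ((tt.truncLT c).obj L).IsLE (c - 1) := inferInstance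
        have e' : a + (k : ℤ) - 1 = c - 1 := by rw [hcdef]
        rw [e']
        exact this
      · intro j hj1 hj2 φ
        have hjc : j < c := by omega
        have hιiso := isIso_homology_truncLTι c j hjc L
        let eJ : (homologyFunctor A j).obj ((tt.truncLT c).obj L) ≅ (homologyFunctor A j).obj L :=
          asIso ((homologyFunctor A j).map ((tt.truncLTι c).app L))
        have := hφ j hj1 (by rw [hc]; omega) (φ ≫ ((singleFunctor A j).map eJ.hom)⟦(1 : ℤ)⟧')
        have hiso : IsIso (((singleFunctor A j).map eJ.hom)⟦(1 : ℤ)⟧') := inferInstance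
        rwa [← cancel_mono (((singleFunctor A j).map eJ.hom)⟦(1 : ℤ)⟧'), zero_comp]
    rw [hg, hg0, zero_comp]

/-- existence of a map `H^i(K)[-i] ⟶ K` inducing an isomorphism on `H^i` -/
lemma exists_section (K : DerivedCategory A) (a : ℤ) [K.IsGE a] (i : ℤ) (hai : a ≤ i)
    (hExt' : ∀ j : ℤ, a ≤ j → j < i → ∀ φ : (singleFunctor A i).obj ((homologyFunctor A i).obj K) ⟶
      ((singleFunctor A j).obj ((homologyFunctor A j).obj K))⟦(1 : ℤ)⟧, φ = 0) :
    ∃ ι : (singleFunctor A i).obj ((homologyFunctor A i).obj K) ⟶ K,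
      IsIso ((homologyFunctor A i).map ι) := by
  let K' := (tt.truncLT (i + 1)).obj K
  have hK'GE : K'.IsGE a := inferInstance
  have hK'LE : K'.IsLE i := inferInstance
  let L := (tt.truncLT i).obj K'
  let Q := (tt.truncGE i).obj K'
  have hQGE : Q.IsGE i := inferInstance
  have hQLE : Q.IsLE i := inferInstance
  have hT := tt.triangleLTGE_distinguished i K'
  obtain ⟨eQ⟩ := iso_single_of_amp Q i
  have h1 := isIso_homology_truncGEπ i i le_rfl K'
  have h2 := isIso_homology_truncLTι (i + 1) i (by omega) K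
  let eH : (homologyFunctor A i).obj Q ≅ (homologyFunctor A i).obj K :=
    (asIso ((homologyFunctor A i).map ((tt.truncGEπ i).app K'))).symm ≪≫
      asIso ((homologyFunctor A i).map ((tt.truncLTι (i + 1)).app K))
  let e' : (singleFunctor A i).obj ((homologyFunctor A i).obj K) ≅ Q :=
    ((singleFunctor A i).mapIso eH).symm ≪≫ eQ.symm
  -- the connecting map vanishes
  have hδ : (tt.truncGEδLT i).app K' = 0 := by
    have hLGE : L.IsGE a := inferInstance
    have hLLE : L.IsLE (a + ((i - a).toNat : ℤ) - 1) := by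
      have : L.IsLE (i - 1) := inferInstance
      have e : a + ((i - a).toNat : ℤ) - 1 = i - 1 := by omega
      rw [e]
      exact this
    have := hom_single_shift_eq_zero ((homologyFunctor A i).obj K) i (i - a).toNat L a hLGE hLLE
      (fun j hj1 hj2 φ => by
        have hji : j < i := by omega
        have h3 := isIso_homology_truncLTι i j hji K'
        have h4 := isIso_homology_truncLTι (i + 1) j (by omega) K
        let eJ : (homologyFunctor A j).obj L ≅ (homologyFunctor A j).obj K :=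
          asIso ((homologyFunctor A j).map ((tt.truncLTι i).app K')) ≪≫
            asIso ((homologyFunctor A j).map ((tt.truncLTι (i + 1)).app K))
        have := hExt' j hj1 hji (φ ≫ ((singleFunctor A j).map eJ.hom)⟦(1 : ℤ)⟧')
        have hiso : IsIso (((singleFunctor A j).map eJ.hom)⟦(1 : ℤ)⟧') := inferInstance
        rwa [← cancel_mono (((singleFunctor A j).map eJ.hom)⟦(1 : ℤ)⟧'), zero_comp])
      (e'.hom ≫ (tt.truncGEδLT i).app K')
    rwa [← cancel_epi e'.hom, comp_zero]
  obtain ⟨s, hs⟩ : ∃ s : Q ⟶ K', 𝟙 Q = s ≫ (tt.truncGEπ i).app K' :=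
    Triangle.coyoneda_exact₃ _ hT (𝟙 Q) (by
      show 𝟙 Q ≫ (tt.truncGEδLT i).app K' = 0
      rw [hδ, comp_zero])
  refine ⟨e'.hom ≫ s ≫ (tt.truncLTι (i + 1)).app K, ?_⟩
  rw [Functor.map_comp, Functor.map_comp]
  have hsiso : IsIso ((homologyFunctor A i).map s) := by
    have : (homologyFunctor A i).map s ≫ (homologyFunctor A i).map ((tt.truncGEπ i).app K') = 𝟙 _ := by
      rw [← Functor.map_comp, ← hs, CategoryTheory.Functor.map_id]
    have h5 : (homologyFunctor A i).map s = inv ((homologyFunctor A i).map ((tt.truncGEπ i).app K')) := by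
      rw [← cancel_mono ((homologyFunctor A i).map ((tt.truncGEπ i).app K')), this, IsIso.inv_hom_id]
    rw [h5]
    infer_instance
  infer_instance

lemma faithful_zero {C D : Type*} [Category C] [Category D] [HasZeroMorphisms C]
    [HasZeroMorphisms D] (F : C ⥤ D) [F.Faithful] [F.PreservesZeroMorphisms] {X Y : C}
    (φ : X ⟶ Y) {X' Y' : D} (e₁ : X' ≅ F.obj X) (e₂ : F.obj Y ≅ Y')
    (h : e₁.hom ≫ F.map φ ≫ e₂.hom = 0) : φ = 0 := by
  apply F.map_injective
  rw [F.map_zero, ← cancel_epi e₁.hom, ← cancel_mono e₂.hom, Category.assoc, h, comp_zero,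
    zero_comp]

lemma hExt_convert (M N : A) (i j : ℤ) (p : ℕ) (hp : (p : ℤ) = i - j + 1)
    (h : ∀ f : (singleFunctor A 0).obj M ⟶ ((singleFunctor A 0).obj N)⟦(p : ℤ)⟧, f = 0)
    (φ : (singleFunctor A i).obj M ⟶ ((singleFunctor A j).obj N)⟦(1 : ℤ)⟧) : φ = 0 := by
  let α : ((singleFunctor A i).obj M)⟦i⟧ ≅ (singleFunctor A 0).obj M :=
    ((singleFunctors A).shiftIso i 0 i (by simp)).app M
  let β : ((singleFunctor A j).obj N)⟦j⟧ ≅ (singleFunctor A 0).obj N :=
    ((singleFunctors A).shiftIso j 0 j (by simp)).app N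
  let γ₁ : (((singleFunctor A j).obj N)⟦(1 : ℤ)⟧)⟦i⟧ ≅ ((singleFunctor A j).obj N)⟦(1 + i : ℤ)⟧ :=
    ((shiftFunctorAdd' (DerivedCategory A) (1 : ℤ) i (1 + i) rfl).app _).symm
  let γ₂ : ((singleFunctor A j).obj N)⟦(1 + i : ℤ)⟧ ≅ (((singleFunctor A j).obj N)⟦j⟧)⟦(p : ℤ)⟧ :=
    (shiftFunctorAdd' (DerivedCategory A) j (p : ℤ) (1 + i) (by omega)).app _
  let γ₃ : (((singleFunctor A j).obj N)⟦j⟧)⟦(p : ℤ)⟧ ≅ ((singleFunctor A 0).obj N)⟦(p : ℤ)⟧ :=
    (shiftFunctor _ (p : ℤ)).mapIso β
  exact faithful_zero (shiftFunctor (DerivedCategory A) i) φ α.symm (γ₁ ≪≫ γ₂ ≪≫ γ₃) (h _)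

end der

/-- Let K be an object of the derived category of an abelian category with cohomology concentrated in
degrees a, …, b. Suppose that for all i > j and p ≥ 2 every morphism H^i(K) ⟶ H^j(K)[p] in the
derived category (an element of Ext^p) vanishes. Then K splits: it is isomorphic to ⨁_{a ≤ i ≤ b}
Hⁱ(K)[-i]. -/
theorem result {A : Type u} [Category.{v} A] [Abelian A] [HasDerivedCategory.{w} A]
    (K : DerivedCategory A) (a b : ℤ) [K.IsGE a] [K.IsLE b]
    (hExt : ∀ (i j : ℤ) (p : ℕ), j < i → 2 ≤ p →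
      ∀ f : (DerivedCategory.singleFunctor A 0).obj ((DerivedCategory.homologyFunctor A i).obj K) ⟶
        ((DerivedCategory.singleFunctor A 0).obj ((DerivedCategory.homologyFunctor A j).obj K))⟦(p : ℤ)⟧, f = 0)
    [HasBiproduct (fun i : Finset.Icc a b => (DerivedCategory.singleFunctor A (i : ℤ)).obj ((DerivedCategory.homologyFunctor A (i : ℤ)).obj K))] :
    Nonempty (K ≅ ⨁ (fun i : Finset.Icc a b => (DerivedCategory.singleFunctor A (i : ℤ)).obj ((DerivedCategory.homologyFunctor A (i : ℤ)).obj K))) := by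
  classical
  have hExt' : ∀ (i j : ℤ), j < i → ∀ φ : (singleFunctor A i).obj ((homologyFunctor A i).obj K) ⟶
      ((singleFunctor A j).obj ((homologyFunctor A j).obj K))⟦(1 : ℤ)⟧, φ = 0 := by
    intro i j hji φ
    exact hExt_convert _ _ i j (i - j + 1).toNat (by omega) (hExt i j _ hji (by omega)) φ
  let F : Finset.Icc a b → DerivedCategory A := fun i =>
    (singleFunctor A (i : ℤ)).obj ((homologyFunctor A (i : ℤ)).obj K)
  have hι : ∀ i : Finset.Icc a b, ∃ ι : F i ⟶ K, IsIso ((homologyFunctor A (i : ℤ)).map ι) :=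
    fun i => exists_section K a i (Finset.mem_Icc.1 i.2).1 (fun j _ hj φ => hExt' i j hj φ)
  choose ι hιiso using hι
  have hiso : IsIso (biproduct.desc ι) := by
    rw [isIso_iff]
    intro n
    have hmap := biproduct.mapBiproduct_hom_desc (homologyFunctor A n) (f := F) ι
    rw [← hmap]
    refine @IsIso.comp_isIso _ _ _ _ _ _ _ inferInstance ?_
    by_cases hn : n ∈ Finset.Icc a b
    · let n₀ : Finset.Icc a b := ⟨n, hn⟩
      have hz : ∀ j : Finset.Icc a b, j ≠ n₀ → IsZero ((homologyFunctor A n).obj (F j)) :=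
        fun j hj => isZero_homology_of_amp (F j) (j : ℤ) n (fun h => hj (Subtype.ext h.symm))
      have := hιiso n₀
      refine ⟨⟨inv ((homologyFunctor A n).map (ι n₀)) ≫
        biproduct.ι (fun j => (homologyFunctor A n).obj (F j)) n₀, ?_, ?_⟩⟩
      · apply biproduct.hom_ext'
        intro j
        by_cases hj : j = n₀
        · subst hj
          simp
          rfl
        · exact (hz j hj).eq_of_src _ _
      · simp
    · apply isIso_of_isZero_isZero
      · rw [IsZero.iff_id_eq_zero]
        apply biproduct.hom_ext'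
        intro j
        exact (isZero_homology_of_amp (F j) (j : ℤ) n (fun h => hn (h ▸ j.2))).eq_of_src _ _
      · rw [Finset.mem_Icc, not_and_or, not_le, not_le] at hn
        rcases hn with h | h
        · exact isZero_of_isGE K a n h
        · exact isZero_of_isLE K b n h
  exact ⟨(asIso (biproduct.desc ι)).symm⟩

end Groth.Agent.S0973
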