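import Groth.Statements.S7077
import Mathlib
import Groth.Agent.S14388
import Groth.Agent.S0973
-- import your own Groth.Agent.* helpers here

set_option autoImplicit false
universe u
attribute [local instance] HasDerivedCategory.standard
open CategoryTheory
open DRing

namespace Groth.Agent.S7077

open DerivedCategory Pretriangulated Limits
open Groth.Agent.S14388

section der
universe w v u'
variable {A : Type u'} [Category.{v} A] [Abelian A] [HasDerivedCategory.{w} A]

/-- maps from a projective object placed in degree `i` to an object of `D^{≤ n}`, `n < i`, vanish -/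
lemma hom_single_proj_eq_zero (P : A) [Projective P] (i n : ℤ) (hn : n < i)
    (L : DerivedCategory A) [L.IsLE n] (φ : (singleFunctor A i).obj P ⟶ L) : φ = 0 := by
  obtain ⟨K, hK, ⟨e⟩⟩ := L.exists_iso_Q_obj_of_isLE n
  have h : φ ≫ e.hom = 0 :=
    from_singleFunctor_obj_eq_zero_of_projective (P := P) (L := K) (i := i) (φ ≫ e.hom) n hn
  rw [← cancel_mono e.hom, h, zero_comp]

/-- if `K ∈ D^{[-1,0]}` has no maps to any `N[1]`, then `K` is a retract of `F[0]` for any
projective `F` with an epimorphism onto `H^0(K)`. -/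
lemma retract_of_ext_vanishing (K : DerivedCategory A) [K.IsLE 0] [K.IsGE (-1)]
    (F : A) [Projective F] (p : F ⟶ (homologyFunctor A 0).obj K) [Epi p]
    (h : ∀ (N : A) (ξ : K ⟶ ((singleFunctor A 0).obj N)⟦(1 : ℤ)⟧), ξ = 0) :
    ∃ (s : K ⟶ (singleFunctor A 0).obj F) (φ : (singleFunctor A 0).obj F ⟶ K), s ≫ φ = 𝟙 K := by
  -- step 1: lift
  obtain ⟨π, hπ⟩ : ∃ π : K ⟶ (tt.truncGE 0).obj K, π = (tt.truncGEπ 0).app K := ⟨_, rfl⟩
  have hπiso : IsIso ((homologyFunctor A 0).map π) := by
    rw [hπ]; exact isIso_homology_truncGEπ 0 0 le_rfl K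
  have i1 : ((tt.truncGE 0).obj K).IsGE 0 := inferInstance
  have i2 : ((tt.truncGE 0).obj K).IsLE 0 := inferInstance
  obtain ⟨e₀⟩ := Groth.Agent.S0973.iso_single_of_amp ((tt.truncGE 0).obj K) 0
  obtain ⟨ψ, hψ⟩ : ∃ ψ : (singleFunctor A 0).obj F ⟶ (tt.truncGE 0).obj K,
      ψ = (singleFunctor A 0).map (p ≫ (homologyFunctor A 0).map π) ≫ e₀.inv := ⟨_, rfl⟩
  have hT := tt.triangleLTGE_distinguished 0 K
  have i0 : ((tt.truncLT 0).obj K).IsLE (-1) :=
    (inferInstance : ((tt.truncLT 0).obj K).IsLE (0 - 1))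
  have i3 : (((tt.truncLT 0).obj K)⟦(1 : ℤ)⟧).IsLE (-2) :=
    tt.isLE_shift ((tt.truncLT 0).obj K) (-1) 1 (-2) (by lia)
  obtain ⟨δ₀, hδ₀⟩ : ∃ δ₀ : (tt.truncGE 0).obj K ⟶ ((tt.truncLT 0).obj K)⟦(1 : ℤ)⟧,
      δ₀ = (tt.truncGEδLT 0).app K := ⟨_, rfl⟩
  have hz : ψ ≫ δ₀ = 0 :=
    hom_single_proj_eq_zero F 0 (-2) (by lia) _ _
  rw [hδ₀] at hz
  obtain ⟨φ, hφ⟩ : ∃ φ : (singleFunctor A 0).obj F ⟶ K, ψ = φ ≫ (tt.truncGEπ 0).app K :=
    Triangle.coyoneda_exact₃ _ hT ψ hz
  rw [← hπ] at hφ
  -- step 2: H^0(φ) is epi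
  have hψepi : Epi ((homologyFunctor A 0).map ψ) := by
    rw [hψ, Functor.map_comp]
    have : Epi ((homologyFunctor A 0).map ((singleFunctor A 0).map
        (p ≫ (homologyFunctor A 0).map π))) := by
      have hnat := (singleFunctorCompHomologyFunctorIso A 0).hom.naturality
        (p ≫ (homologyFunctor A 0).map π)
      dsimp at hnat
      have : (homologyFunctor A 0).map ((singleFunctor A 0).map
          (p ≫ (homologyFunctor A 0).map π)) =
          (singleFunctorCompHomologyFunctorIso A 0).hom.app _ ≫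
            (p ≫ (homologyFunctor A 0).map π) ≫
            (singleFunctorCompHomologyFunctorIso A 0).inv.app _ := by
        rw [← Category.assoc, ← hnat, Category.assoc, Iso.hom_inv_id_app]
        exact (Category.comp_id _).symm
      rw [this]
      infer_instance
    infer_instance
  have hφepi : Epi ((homologyFunctor A 0).map φ) := by
    have h1 : (homologyFunctor A 0).map ψ =
        (homologyFunctor A 0).map φ ≫ (homologyFunctor A 0).map π := by
      rw [hφ, Functor.map_comp]
    have h2 : (homologyFunctor A 0).map φ =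
        (homologyFunctor A 0).map ψ ≫ inv ((homologyFunctor A 0).map π) := by
      rw [h1, Category.assoc, IsIso.hom_inv_id, Category.comp_id]
    rw [h2]
    infer_instance
  -- step 3: cone
  obtain ⟨C, g, δ, hC⟩ := distinguished_cocone_triangle φ
  have hCLE : C.IsLE (-1) := by
    rw [isLE_iff]
    intro i hi
    have hex := HomologySequence.exact₃ _ hC i (i + 1) rfl
    refine hex.isZero_of_both_zeros ?_ ?_
    · show (homologyFunctor A i).map g = 0
      by_cases hi0 : 0 < i
      · exact (isZero_of_isLE K 0 i hi0).eq_of_src _ _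
      · obtain rfl : i = 0 := by lia
        rw [← cancel_epi ((homologyFunctor A 0).map φ), comp_zero, ← Functor.map_comp]
        have : φ ≫ g = 0 := comp_distTriang_mor_zero₁₂ _ hC
        rw [this, Functor.map_zero]
    · exact (isZero_of_isLE ((singleFunctor A 0).obj F) 0 (i + 1) (by lia)).eq_of_tgt _ _
  have hCGE : C.IsGE (-1) := by
    rw [isGE_iff]
    intro i hi
    have hex := HomologySequence.exact₃ _ hC i (i + 1) rfl
    refine hex.isZero_of_both_zeros ?_ ?_
    · exact (isZero_of_isGE K (-1) i hi).eq_of_src _ _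
    · exact (isZero_of_isGE ((singleFunctor A 0).obj F) 0 (i + 1) (by lia)).eq_of_tgt _ _
  obtain ⟨e⟩ := Groth.Agent.S0973.iso_single_of_amp C (-1)
  let α : (singleFunctor A (-1)).obj ((homologyFunctor A (-1)).obj C) ≅
      ((singleFunctor A 0).obj ((homologyFunctor A (-1)).obj C))⟦(1 : ℤ)⟧ :=
    (((singleFunctors A).shiftIso 1 (-1) 0 (by simp)).app _).symm
  have hg : g = 0 := by
    have := h _ (g ≫ e.hom ≫ α.hom)
    rw [← Category.assoc] at this
    have h2 : g ≫ e.hom = 0 := by
      rw [← cancel_mono α.hom, this, zero_comp]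
    rw [← cancel_mono e.hom, h2, zero_comp]
  obtain ⟨s, hs⟩ : ∃ s : K ⟶ (singleFunctor A 0).obj F, 𝟙 K = s ≫ φ :=
    Triangle.coyoneda_exact₂ _ hC (𝟙 K) (by show 𝟙 K ≫ g = 0; rw [hg, comp_zero])
  exact ⟨s, φ, hs.symm⟩

end der

/-- (1)⇔(2): let R be a commutative ring and K an object of D(R) whose cohomology modules vanish outside
degrees -1 and 0. Then H^{-1}(K) vanishes and H^0(K) is a projective R-module if and only if
Ext^1_R(K, M) = Hom_{D(R)}(K, M[1]) vanishes for every R-module M. -/
theorem result {R : Type u} [CommRing R] (K : Dual.D R)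
    (hK : ∀ i : ℤ, i ≠ -1 → i ≠ 0 → Subsingleton (Dual.HD R K i)) :
    (Subsingleton (Dual.HD R K (-1)) ∧ Module.Projective R (Dual.HD R K 0)) ↔
      ∀ (M : Type u) [AddCommGroup M] [Module R M], Subsingleton (K ⟶ (Dual.inD R M)⟦(1 : ℤ)⟧) := by
  have hKLE : K.IsLE 0 := (isLE_iff _ _).2 (fun i hi =>
    have := hK i (by omega) (by omega); ModuleCat.isZero_of_subsingleton _)
  have hKGE : K.IsGE (-1) := (isGE_iff _ _).2 (fun i hi =>
    have := hK i (by omega) (by omega); ModuleCat.isZero_of_subsingleton _)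
  constructor
  · rintro ⟨h1, h0⟩ M _ _
    have hKGE0 : K.IsGE 0 := (isGE_iff _ _).2 (fun i hi => by
      by_cases hi1 : i = -1
      · subst hi1; exact ModuleCat.isZero_of_subsingleton _
      · have := hK i hi1 (by omega); exact ModuleCat.isZero_of_subsingleton _)
    obtain ⟨e⟩ := Groth.Agent.S0973.iso_single_of_amp K 0
    have hproj : Projective ((homologyFunctor (ModuleCat.{u} R) 0).obj K) :=
      ModuleCat.projective_of_categoryTheory_projective _
    have i3 : (((singleFunctor (ModuleCat.{u} R) 0).obj (ModuleCat.of R M))⟦(1 : ℤ)⟧).IsLE (-1) :=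
      tt.isLE_shift _ 0 1 (-1) (by lia)
    refine ⟨fun f g => ?_⟩
    have hz : ∀ f : K ⟶ (Dual.inD R M)⟦(1 : ℤ)⟧, f = 0 := by
      intro f
      have := hom_single_proj_eq_zero ((homologyFunctor (ModuleCat.{u} R) 0).obj K) 0 (-1)
        (by lia) _ (e.inv ≫ f)
      rw [← cancel_epi e.inv, this, comp_zero]
    rw [hz f, hz g]
  · intro h
    obtain ⟨H, hH⟩ : ∃ H : ModuleCat.{u} R, H = (homologyFunctor (ModuleCat.{u} R) 0).obj K :=
      ⟨_, rfl⟩
    obtain ⟨F, p, hF, hp⟩ : ∃ (F : ModuleCat.{u} R)
        (p : F ⟶ (homologyFunctor (ModuleCat.{u} R) 0).obj K), Projective F ∧ Epi p :=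
      ⟨Projective.over _, Projective.π _, inferInstance, inferInstance⟩
    obtain ⟨s, φ, hsφ⟩ := retract_of_ext_vanishing K F p
      (fun N ξ => by
        have := h N
        exact Subsingleton.elim _ _)
    constructor
    · -- H^{-1}(K) is a retract of zero
      have hz : IsZero ((homologyFunctor (ModuleCat.{u} R) (-1)).obj K) := by
        rw [IsZero.iff_id_eq_zero, ← CategoryTheory.Functor.map_id, ← hsφ, Functor.map_comp]
        have : IsZero ((homologyFunctor (ModuleCat.{u} R) (-1)).obj
            ((singleFunctor (ModuleCat.{u} R) 0).obj F)) :=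
          isZero_of_isGE _ 0 (-1) (by lia)
        rw [this.eq_of_tgt ((homologyFunctor (ModuleCat.{u} R) (-1)).map s) 0, zero_comp]
      exact ModuleCat.subsingleton_of_isZero hz
    · -- H^0(K) is a retract of a projective
      let r : Retract ((homologyFunctor (ModuleCat.{u} R) 0).obj K) F :=
        { i := (homologyFunctor (ModuleCat.{u} R) 0).map s ≫
            (singleFunctorCompHomologyFunctorIso (ModuleCat.{u} R) 0).hom.app _
          r := (singleFunctorCompHomologyFunctorIso (ModuleCat.{u} R) 0).inv.app _ ≫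
            (homologyFunctor (ModuleCat.{u} R) 0).map φ
          retract := by
            rw [Category.assoc, Iso.hom_inv_id_app_assoc, ← Functor.map_comp, hsφ,
              CategoryTheory.Functor.map_id] }
      have : Projective ((homologyFunctor (ModuleCat.{u} R) 0).obj K) := r.projective
      exact ModuleCat.projective_of_module_projective _

end Groth.Agent.S7077
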