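import Groth.Statements.S6965
import Mathlib
import Groth.Agent.S14388
import Groth.Agent.Lib.Helper21DTrunc
-- import your own Groth.Agent.* helpers here

set_option autoImplicit false
universe u
open CategoryTheory CategoryTheory.Limits
attribute [local instance] HasDerivedCategory.standard
open DRing

namespace Groth.Agent.S6965

open HomologicalComplex DerivedCategory Groth.Agent.S14388
open Groth.Agent.Lib.Helper21.DTrunc

section gen
universe w v' u'
variable {A : Type u'} [Category.{v'} A] [Abelian A] [HasDerivedCategory.{w} A]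

lemma exists_chain_map_inj (S L : CochainComplex A ℤ) [L.IsKInjective]
    (φ : Q.obj S ⟶ Q.obj L) : ∃ f : S ⟶ L, Q.map f = φ := by
  obtain ⟨g, hg⟩ := (CochainComplex.IsKInjective.Qh_map_bijective
    ((HomotopyCategory.quotient A (ComplexShape.up ℤ)).obj S) L).2 φ
  obtain ⟨f, rfl⟩ := (HomotopyCategory.quotient A (ComplexShape.up ℤ)).map_surjective g
  exact ⟨f, hg⟩

lemma homotopy_of_Q_map_eq_zero_inj (S L : CochainComplex A ℤ) [L.IsKInjective] (f : S ⟶ L)
    (h : Q.map f = 0) : Nonempty (Homotopy f 0) := by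
  have h2 : (HomotopyCategory.quotient A (ComplexShape.up ℤ)).map f =
      (HomotopyCategory.quotient A (ComplexShape.up ℤ)).map 0 := by
    apply (CochainComplex.IsKInjective.Qh_map_bijective _ _).1
    rw [Functor.map_zero, Functor.map_zero]
    exact h
  exact ⟨HomotopyCategory.homotopyOfEq _ _ h2⟩

lemma homotopy_of_Q_map_eq_zero_proj (S L : CochainComplex A ℤ) [S.IsKProjective] (f : S ⟶ L)
    (h : Q.map f = 0) : Nonempty (Homotopy f 0) := by
  have h2 : (HomotopyCategory.quotient A (ComplexShape.up ℤ)).map f =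
      (HomotopyCategory.quotient A (ComplexShape.up ℤ)).map 0 := by
    apply (CochainComplex.IsKProjective.Qh_map_bijective _ _).1
    rw [Functor.map_zero, Functor.map_zero]
    exact h
  exact ⟨HomotopyCategory.homotopyOfEq _ _ h2⟩

end gen

variable {R : Type u} [CommRing R]

/-- Baer-type criterion: if `E^b` is injective and every chain map `(R/I)[-(b+1)] ⟶ E` is
null-homotopic, then the module of cycles `Z^b(E)` is injective. -/
lemma injective_cycles (E : DRing.Cx R) (b : ℤ) (hEb : Module.Injective R (E.X b))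
    (h : ∀ (I : Ideal R) (c : (single (ModuleCat.{u} R) (ComplexShape.up ℤ) (b + 1)).obj
      (ModuleCat.of R (R ⧸ I)) ⟶ E), Nonempty (Homotopy c 0)) :
    Module.Injective R (E.cycles b) := by
  apply Module.Baer.injective
  intro I φ
  obtain ⟨ψ, hψ⟩ := Module.Baer.of_injective hEb I ((E.iCycles b).hom ∘ₗ φ)
  have hcyc : ∀ z : E.cycles b, (E.d b (b + 1)).hom ((E.iCycles b).hom z) = 0 := by
    intro z
    have := E.iCycles_d b (b + 1)
    exact congrArg (fun k => k.hom z) this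
  obtain ⟨g₀, hg₀⟩ : ∃ g₀ : R →ₗ[R] E.X (b + 1), g₀ = (E.d b (b + 1)).hom ∘ₗ ψ := ⟨_, rfl⟩
  have hker : I ≤ LinearMap.ker g₀ := by
    intro x hx
    rw [LinearMap.mem_ker, hg₀, LinearMap.comp_apply, hψ x hx, LinearMap.comp_apply]
    exact hcyc _
  obtain ⟨g, hg⟩ : ∃ g : (R ⧸ I) →ₗ[R] E.X (b + 1), g ∘ₗ Submodule.mkQ I = g₀ :=
    ⟨Submodule.liftQ I g₀ hker, Submodule.liftQ_mkQ I g₀ hker⟩
  have hdg : ModuleCat.ofHom g ≫ E.d (b + 1) (b + 2) = 0 := by
    apply ModuleCat.hom_ext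
    apply LinearMap.ext
    intro y
    obtain ⟨x, rfl⟩ := Submodule.mkQ_surjective I y
    have h1 : g (Submodule.mkQ I x) = g₀ x := by rw [← hg]; rfl
    have h2 := E.d_comp_d b (b + 1) (b + 2)
    have h3 := congrArg (fun k => k.hom (ψ x)) h2
    simp only [ModuleCat.hom_comp, LinearMap.comp_apply, ModuleCat.hom_zero,
      LinearMap.zero_apply] at h3
    simp only [ModuleCat.hom_comp, ModuleCat.hom_ofHom, LinearMap.comp_apply,
      ModuleCat.hom_zero, LinearMap.zero_apply]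
    rw [h1, hg₀, LinearMap.comp_apply]
    exact h3
  obtain ⟨c, hc⟩ : ∃ c : (single (ModuleCat.{u} R) (ComplexShape.up ℤ) (b + 1)).obj
      (ModuleCat.of R (R ⧸ I)) ⟶ E,
      c.f (b + 1) = (singleObjXSelf (ComplexShape.up ℤ) (b + 1) _).hom ≫ ModuleCat.ofHom g :=
    ⟨mkHomFromSingle (ModuleCat.ofHom g) (fun k hk => by
      obtain rfl : b + 1 + 1 = k := hk
      rw [show b + 1 + 1 = b + 2 by ring]
      exact hdg), mkHomFromSingle_f _ _⟩
  obtain ⟨ho⟩ := h I c
  have hcm := ho.comm (b + 1)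
  rw [dNext_eq ho.hom (show (ComplexShape.up ℤ).Rel (b + 1) (b + 1 + 1) by simp),
    prevD_eq ho.hom (show (ComplexShape.up ℤ).Rel b (b + 1) by simp),
    HomologicalComplex.single_obj_d, zero_comp, zero_add, HomologicalComplex.zero_f, add_zero,
    hc] at hcm
  obtain ⟨k, hk⟩ : ∃ k : ModuleCat.of R (R ⧸ I) ⟶ E.X b, k ≫ E.d b (b + 1) = ModuleCat.ofHom g :=
    ⟨(singleObjXSelf (ComplexShape.up ℤ) (b + 1) _).inv ≫ ho.hom (b + 1) b, by
      rw [Category.assoc, ← hcm, Iso.inv_hom_id_assoc]⟩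
  have hk' : ∀ y : R ⧸ I, (E.d b (b + 1)).hom (k.hom y) = g y := by
    intro y
    have := congrArg (fun m => m.hom y) hk
    simpa using this
  obtain ⟨ψ', hψ'⟩ : ∃ ψ' : R →ₗ[R] E.X b, ψ' = ψ - k.hom ∘ₗ Submodule.mkQ I := ⟨_, rfl⟩
  have hdψ' : ModuleCat.ofHom ψ' ≫ E.d b (b + 1) = 0 := by
    apply ModuleCat.hom_ext
    apply LinearMap.ext
    intro x
    simp only [ModuleCat.hom_comp, ModuleCat.hom_ofHom, LinearMap.comp_apply,
      ModuleCat.hom_zero, LinearMap.zero_apply]
    rw [hψ', LinearMap.sub_apply, map_sub, LinearMap.comp_apply, hk', ← LinearMap.comp_apply g,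
      hg, hg₀, LinearMap.comp_apply, sub_self]
  refine ⟨(E.liftCycles (ModuleCat.ofHom ψ') (b + 1) (by simp) hdψ').hom, fun x hx => ?_⟩
  have hinj : Function.Injective (E.iCycles b).hom := by
    rw [← ModuleCat.mono_iff_injective]
    infer_instance
  apply hinj
  have h1 := E.liftCycles_i (ModuleCat.ofHom ψ') (b + 1) (by simp) hdψ'
  have h2 := congrArg (fun m => m.hom x) h1
  simp only [ModuleCat.hom_comp, ModuleCat.hom_ofHom, LinearMap.comp_apply] at h2
  rw [h2, hψ', LinearMap.sub_apply, LinearMap.comp_apply, hψ x hx, LinearMap.comp_apply]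
  have h0 : Submodule.mkQ I x = 0 := (Submodule.Quotient.mk_eq_zero I).2 hx
  rw [h0, map_zero, sub_zero]

/-- vanishing of `Hom(M[0], K[j])` kills every chain map `M[-j] ⟶ E` in `D(R)` -/
lemma Q_map_eq_zero (j : ℤ) (K : Dual.D R) (M : ModuleCat.{u} R)
    (h : Subsingleton ((DerivedCategory.singleFunctor (ModuleCat.{u} R) 0).obj M ⟶
      (shiftFunctor (Dual.D R) j).obj K))
    (E : DRing.Cx R) (e : Q.obj E ≅ K)
    (c : (single (ModuleCat.{u} R) (ComplexShape.up ℤ) j).obj M ⟶ E) : Q.map c = 0 := by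
  obtain ⟨β, hβ⟩ : ∃ β : (DerivedCategory.singleFunctor (ModuleCat.{u} R) j ⋙
      shiftFunctor (DerivedCategory (ModuleCat.{u} R)) j) ≅
      DerivedCategory.singleFunctor (ModuleCat.{u} R) 0,
      β = (DerivedCategory.singleFunctors (ModuleCat.{u} R)).shiftIso j 0 j (by lia) :=
    ⟨_, rfl⟩
  obtain ⟨φ, hφ⟩ : ∃ φ : (DerivedCategory.singleFunctor (ModuleCat.{u} R) j).obj M ⟶ Q.obj E,
      φ = Q.map c := ⟨_, rfl⟩
  have hx : β.inv.app M ≫ (shiftFunctor (Dual.D R) j).map φ ≫
      (shiftFunctor (Dual.D R) j).map e.hom = 0 := h.elim _ _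
  have h0 : (shiftFunctor (Dual.D R) j).map φ = 0 := by
    have h1 : β.hom.app M ≫ (β.inv.app M ≫ (shiftFunctor (Dual.D R) j).map φ ≫
        (shiftFunctor (Dual.D R) j).map e.hom) ≫ (shiftFunctor (Dual.D R) j).map e.inv = 0 := by
      rw [hx, zero_comp, comp_zero]
    simpa [← Functor.map_comp] using h1
  have h00 : φ = 0 := (shiftFunctor (Dual.D R) j).map_injective (by rw [h0, Functor.map_zero])
  exact hφ.symm.trans h00

/-- if every chain map `(R/0)[-j] ⟶ E` vanishes in `D(R)` then `E` is exact in degree `j` -/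
lemma exactAt_of_Q_map_eq_zero (E : DRing.Cx R) (j : ℤ)
    (h : ∀ c : (single (ModuleCat.{u} R) (ComplexShape.up ℤ) j).obj
      (ModuleCat.of R (R ⧸ (⊥ : Ideal R))) ⟶ E, Q.map c = 0) : E.ExactAt j := by
  rw [E.exactAt_iff' (j - 1) j (j + 1) (by simp) (by simp), ShortComplex.moduleCat_exact_iff]
  intro z' hz
  obtain ⟨z, hzz⟩ : ∃ z : E.X j, z = z' := ⟨_, rfl⟩
  have hz' : (E.d j (j + 1)).hom z = 0 := by rw [hzz]; exact hz
  obtain ⟨eq, heq⟩ : ∃ eq : (R ⧸ (⊥ : Ideal R)) ≃ₗ[R] R,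
      eq = Submodule.quotEquivOfEqBot ⊥ rfl := ⟨_, rfl⟩
  obtain ⟨g, hg⟩ : ∃ g : (R ⧸ (⊥ : Ideal R)) →ₗ[R] E.X j,
      ∀ y, g y = eq y • z :=
    ⟨(LinearMap.toSpanSingleton R (E.X j) z) ∘ₗ eq.toLinearMap, fun y => rfl⟩
  have hdg : ModuleCat.ofHom g ≫ E.d j (j + 1) = 0 := by
    apply ModuleCat.hom_ext
    apply LinearMap.ext
    intro y
    simp only [ModuleCat.hom_comp, ModuleCat.hom_ofHom, LinearMap.comp_apply,
      ModuleCat.hom_zero, LinearMap.zero_apply]
    rw [hg, map_smul, hz', smul_zero]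
  obtain ⟨S, hS⟩ : ∃ S : DRing.Cx R, S = (single (ModuleCat.{u} R) (ComplexShape.up ℤ) j).obj
      (ModuleCat.of R (R ⧸ (⊥ : Ideal R))) := ⟨_, rfl⟩
  subst hS
  obtain ⟨c, hc⟩ : ∃ c : (single (ModuleCat.{u} R) (ComplexShape.up ℤ) j).obj
      (ModuleCat.of R (R ⧸ (⊥ : Ideal R))) ⟶ E,
      c.f j = (singleObjXSelf (ComplexShape.up ℤ) j _).hom ≫ ModuleCat.ofHom g :=
    ⟨mkHomFromSingle (ModuleCat.ofHom g) (fun k hk => by
      obtain rfl : j + 1 = k := hk
      exact hdg), mkHomFromSingle_f _ _⟩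
  have hprojR : Module.Projective R (R ⧸ (⊥ : Ideal R)) :=
    Module.Projective.of_equiv eq.symm
  have hproj : ∀ n : ℤ, Projective (((single (ModuleCat.{u} R) (ComplexShape.up ℤ) j).obj
      (ModuleCat.of R (R ⧸ (⊥ : Ideal R)))).X n) := by
    intro n
    by_cases hn : n = j
    · subst hn
      exact Projective.of_iso (singleObjXSelf (ComplexShape.up ℤ) n _).symm
        (ModuleCat.projective_of_categoryTheory_projective _)
    · exact (isZero_single_obj_X (ComplexShape.up ℤ) j _ n hn).projective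
  have hle : CochainComplex.IsStrictlyLE ((single (ModuleCat.{u} R) (ComplexShape.up ℤ) j).obj
      (ModuleCat.of R (R ⧸ (⊥ : Ideal R)))) j := by
    rw [CochainComplex.isStrictlyLE_iff]
    intro n hn
    exact isZero_single_obj_X (ComplexShape.up ℤ) j _ n (by lia)
  have hKP : CochainComplex.IsKProjective ((single (ModuleCat.{u} R) (ComplexShape.up ℤ) j).obj
      (ModuleCat.of R (R ⧸ (⊥ : Ideal R)))) := CochainComplex.isKProjective_of_projective _ j
  obtain ⟨ho⟩ := homotopy_of_Q_map_eq_zero_proj _ E c (h c)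
  have hcm := ho.comm j
  rw [dNext_eq ho.hom (show (ComplexShape.up ℤ).Rel j (j + 1) by simp),
    prevD_eq ho.hom (show (ComplexShape.up ℤ).Rel (j - 1) j by simp),
    HomologicalComplex.single_obj_d, zero_comp, zero_add, HomologicalComplex.zero_f, add_zero,
    hc] at hcm
  refine ⟨(ho.hom j (j - 1)).hom ((singleObjXSelf (ComplexShape.up ℤ) j
    (ModuleCat.of R (R ⧸ (⊥ : Ideal R)))).inv.hom (Submodule.mkQ ⊥ (1 : R))), ?_⟩
  have h1 := congrArg (fun m => m.hom ((singleObjXSelf (ComplexShape.up ℤ) j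
    (ModuleCat.of R (R ⧸ (⊥ : Ideal R)))).inv.hom (Submodule.mkQ ⊥ (1 : R)))) hcm
  simp only [ModuleCat.hom_comp, ModuleCat.hom_ofHom, LinearMap.comp_apply] at h1
  have h2 : (singleObjXSelf (ComplexShape.up ℤ) j
      (ModuleCat.of R (R ⧸ (⊥ : Ideal R)))).hom.hom ((singleObjXSelf (ComplexShape.up ℤ) j
      (ModuleCat.of R (R ⧸ (⊥ : Ideal R)))).inv.hom (Submodule.mkQ ⊥ (1 : R))) =
      Submodule.mkQ ⊥ (1 : R) := by
    have := congrArg (fun m => m.hom (Submodule.mkQ ⊥ (1 : R)))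
      (singleObjXSelf (ComplexShape.up ℤ) j (ModuleCat.of R (R ⧸ (⊥ : Ideal R)))).inv_hom_id
    simpa using this
  rw [h2] at h1
  show (E.d (j - 1) j).hom _ = z'
  rw [← h1, hg, heq, ← hzz]
  have : (Submodule.quotEquivOfEqBot (⊥ : Ideal R) rfl) (Submodule.mkQ ⊥ (1 : R)) = 1 :=
    Submodule.quotEquivOfEqBot_apply_mk _ _ _
  rw [this, one_smul]

/-- (1) ⇒ (2) -/
lemma subsingleton_of_rep (K : Dual.D R) (a b : ℤ) (E : DRing.Cx R)
    (hE : DRing.VanishesOutside E a b) (hinj : DRing.TermwiseInjective E) (e : DRing.toD E ≅ K)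
    (N : ModuleCat.{u} R) (i : ℤ) (hi : i < a ∨ b < i) :
    Subsingleton ((DerivedCategory.singleFunctor (ModuleCat.{u} R) 0).obj N ⟶
      (shiftFunctor (Dual.D R) i).obj K) := by
  obtain ⟨E', hE'⟩ : ∃ E' : DRing.Cx R, E' = (shiftFunctor (DRing.Cx R) i).obj E := ⟨_, rfl⟩
  have hX : ∀ n : ℤ, E'.X n = E.X (n + i) := fun n => by rw [hE']; rfl
  have hinj' : ∀ n : ℤ, Injective (E'.X n) := fun n => by
    rw [hX]
    exact Module.injective_object_of_injective_module R (E.X (n + i)) (inj := hinj (n + i))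
  have hge : E'.IsStrictlyGE (a - i) := by
    rw [CochainComplex.isStrictlyGE_iff]
    intro n hn
    rw [hX]
    exact hE (n + i) (Or.inl (by lia))
  have hKI : E'.IsKInjective := CochainComplex.isKInjective_of_injective _ (a - i)
  have γ : Q.obj E' ≅ (shiftFunctor (Dual.D R) i).obj (Q.obj E) := by
    subst hE'
    exact (Q.commShiftIso i).app E
  have hz : ∀ f : (DerivedCategory.singleFunctor (ModuleCat.{u} R) 0).obj N ⟶
      (shiftFunctor (Dual.D R) i).obj K, f = 0 := fun f => by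
    obtain ⟨φ, hφ⟩ : ∃ φ : Q.obj ((single (ModuleCat.{u} R) (ComplexShape.up ℤ) 0).obj N) ⟶
        Q.obj E', φ = f ≫ (shiftFunctor (Dual.D R) i).map e.inv ≫ γ.inv := ⟨_, rfl⟩
    obtain ⟨c, hc⟩ := exists_chain_map_inj _ _ φ
    have hc0 : c = 0 := by
      ext : 1
      have : IsZero (E'.X 0) := by
        rw [hX]
        exact hE (0 + i) (by lia)
      exact this.eq_of_tgt _ _
    have h0 : f ≫ (shiftFunctor (Dual.D R) i).map e.inv ≫ γ.inv = 0 :=
      hφ.symm.trans (by rw [← hc, hc0, Functor.map_zero]; rfl)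
    have h1 : f = (f ≫ (shiftFunctor (Dual.D R) i).map e.inv ≫ γ.inv) ≫ γ.hom ≫
        (shiftFunctor (Dual.D R) i).map e.hom := by
      simp [← Functor.map_comp]
    rw [h1, h0, zero_comp]
  exact ⟨fun f g => by rw [hz f, hz g]⟩

/-- (3) ⇒ (1) -/
lemma rep_of_subsingleton (K : Dual.D R) (a b : ℤ)
    (h3 : ∀ (I : Ideal R) (i : ℤ), (i < a ∨ b < i) →
      Subsingleton (DRing.ExtD R (Dual.inD R (R ⧸ I)) K i)) :
    DRing.HasInjAmplitudeIn R a b K := by
  obtain ⟨K', ⟨e'⟩⟩ : ∃ K' : DRing.Cx R, Nonempty (Q.obj K' ≅ K) :=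
    ⟨_, ⟨Q.objObjPreimageIso K⟩⟩
  have hex : ∀ i : ℤ, (i < a ∨ b < i) → K'.ExactAt i := fun i hi =>
    exactAt_of_Q_map_eq_zero K' i (fun c => Q_map_eq_zero i K _ (h3 ⊥ i hi) K' e' c)
  have hK'ge : K'.IsGE a := (CochainComplex.isGE_iff K' a).2 (fun i hi => hex i (Or.inl hi))
  have hK'le : K'.IsLE b := (CochainComplex.isLE_iff K' b).2 (fun i hi => hex i (Or.inr hi))
  have hQge : (Q.obj K').IsGE a := (DerivedCategory.isGE_Q_obj_iff K' a).2 hK'ge
  have hQle : (Q.obj K').IsLE b := (DerivedCategory.isLE_Q_obj_iff K' b).2 hK'le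
  have hKge : K.IsGE a := tt.isGE_of_iso e' a
  have hKle : K.IsLE b := tt.isLE_of_iso e' b
  obtain ⟨K'', hK'', ⟨e''⟩⟩ := K.exists_iso_Q_obj_of_isGE a
  obtain ⟨E, ι, hι, hEinj, hEa⟩ :=
    CochainComplex.Plus.modelCategoryQuillen.exists_quasiIso_injective K'' a
  have hιiso : IsIso (Q.map ι) := (DerivedCategory.isIso_Q_map_iff_quasiIso (φ := ι)).2 hι
  obtain ⟨e, -⟩ : ∃ e : Q.obj E ≅ K, e = (asIso (Q.map ι)).symm ≪≫ e''.symm := ⟨_, rfl⟩
  have hKI : E.IsKInjective := CochainComplex.isKInjective_of_injective E a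
  have hQEle : (Q.obj E).IsLE b := tt.isLE_of_iso e.symm b
  have hEle : E.IsLE b := (DerivedCategory.isLE_Q_obj_iff E b).1 hQEle
  have hcyc : Module.Injective R (E.cycles b) := by
    apply injective_cycles E b
    · exact Module.injective_module_of_injective_object R (E.X b) (inj := hEinj b)
    · intro I c
      exact homotopy_of_Q_map_eq_zero_inj _ E c
        (Q_map_eq_zero (b + 1) K _ (h3 I (b + 1) (Or.inr (by lia))) E e c)
  have hcyc' : Injective (E.cycles b) :=
    Module.injective_object_of_injective_module R (E.cycles b)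
  have hTinj : ∀ i : ℤ, Injective ((E.truncLE b).X i) := by
    intro i
    rcases lt_trichotomy i b with hi | hi | hi
    · exact Injective.of_iso (E.truncLEXIso b i hi).symm (hEinj i)
    · subst hi
      exact Injective.of_iso (E.truncLEXIsoCycles i).symm hcyc'
    · exact ((E.truncLE b).isZero_of_isStrictlyLE b i hi).injective
  refine ⟨E.truncLE b, ?_, ?_, ?_⟩
  · intro i hi
    rcases lt_trichotomy i b with hib | hib | hib
    · rcases hi with hi | hi
      · exact IsZero.of_iso (E.isZero_of_isStrictlyGE a i hi) (E.truncLEXIso b i hib)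
      · lia
    · subst hib
      rcases hi with hi | hi
      · refine IsZero.of_iso ?_ (E.truncLEXIsoCycles i)
        exact IsZero.of_mono (E.iCycles i) (E.isZero_of_isStrictlyGE a i hi)
      · lia
    · exact (E.truncLE b).isZero_of_isStrictlyLE b i hib
  · intro i
    exact Module.injective_module_of_injective_object R ((E.truncLE b).X i) (inj := hTinj i)
  · have hq : QuasiIso (E.ιTruncLE b) := inferInstance
    have hqiso : IsIso (Q.map (E.ιTruncLE b)) :=
      (DerivedCategory.isIso_Q_map_iff_quasiIso (φ := E.ιTruncLE b)).2 hq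
    exact ⟨asIso (Q.map (E.ιTruncLE b)) ≪≫ e⟩

/-- Let R be a commutative ring, K an object of D(R) and a, b integers. These three conditions are
equivalent: (1) the injective amplitude of K lies in [a, b], meaning K is isomorphic in D(R) to a
complex of injective R-modules vanishing outside [a, b]; (2) Hom(N[0], K[i]) = 0 in D(R) for every
R-module N and every integer i outside [a, b]; (3) Hom((R/I)[0], K[i]) = 0 in D(R) for every ideal I
of R and every integer i outside [a, b]. -/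
theorem result (R : Type u) [CommRing R] (K : Dual.D R) (a b : ℤ) :
    [DRing.HasInjAmplitudeIn R a b K,
      ∀ (N : Type u) [AddCommGroup N] [Module R N] (i : ℤ), (i < a ∨ b < i) →
        Subsingleton (DRing.ExtD R (Dual.inD R N) K i),
      ∀ (I : Ideal R) (i : ℤ), (i < a ∨ b < i) → Subsingleton (DRing.ExtD R (Dual.inD R (R ⧸ I)) K i)].TFAE := by
  tfae_have 1 → 2 := by
    rintro ⟨E, hE, hinj, ⟨e⟩⟩ N _ _ i hi
    exact subsingleton_of_rep K a b E hE hinj e (ModuleCat.of R N) i hi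
  tfae_have 2 → 3 := fun h I i hi => h (R ⧸ I) i hi
  tfae_have 3 → 1 := fun h3 => rep_of_subsingleton K a b h3
  tfae_finish

end Groth.Agent.S6965
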