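import Groth.Statements.S7036
import Mathlib
import Groth.Agent.S6965
import Groth.Agent.Lib.Helper1Devissage
-- import your own Groth.Agent.* helpers here

set_option autoImplicit false
universe u
open CategoryTheory CategoryTheory.Limits
attribute [local instance] HasDerivedCategory.standard
open DRing

namespace Groth.Agent.S7036

open DerivedCategory Pretriangulated
open Groth.Agent.Lib.Helper1.Devissage

variable {R : Type u} [CommRing R]

lemma injAmp_mono {K : Dual.D R} {a b a' b' : ℤ} (h : DRing.HasInjAmplitudeIn R a b K)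
    (ha : a' ≤ a) (hb : b ≤ b') : DRing.HasInjAmplitudeIn R a' b' K := by
  obtain ⟨E, hE, hinj, he⟩ := h
  exact ⟨E, fun i hi => hE i (by omega), hinj, he⟩

lemma finInj_of_iso {K K' : Dual.D R} (e : K ≅ K') (h : DRing.HasFiniteInjDim R K) :
    DRing.HasFiniteInjDim R K' := by
  obtain ⟨a, b, E, hE, hinj, ⟨e'⟩⟩ := h
  exact ⟨a, b, E, hE, hinj, ⟨e' ≪≫ e⟩⟩

lemma finInj_shift {K : Dual.D R} (h : DRing.HasFiniteInjDim R K) (n : ℤ) :
    DRing.HasFiniteInjDim R ((shiftFunctor (Dual.D R) n).obj K) := by
  obtain ⟨a, b, E, hE, hinj, ⟨e⟩⟩ := h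
  refine ⟨a - n, b - n, (shiftFunctor (DRing.Cx R) n).obj E, fun i hi => hE (i + n) (by omega),
    fun i => hinj (i + n), ⟨(Q.commShiftIso n).app E ≪≫ (shiftFunctor _ n).mapIso e⟩⟩

lemma finInj_of_isZero {K : Dual.D R} (h : IsZero K) : DRing.HasFiniteInjDim R K := by
  refine ⟨0, 0, HomologicalComplex.zero, fun i _ => Limits.isZero_zero _, fun i => ?_,
    ⟨(Q.map_isZero HomologicalComplex.isZero_zero).iso h⟩⟩
  have hz : IsZero ((HomologicalComplex.zero : DRing.Cx R).X i) := Limits.isZero_zero _
  have : Injective ((HomologicalComplex.zero : DRing.Cx R).X i) := hz.injective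
  exact Module.injective_module_of_injective_object R ((HomologicalComplex.zero : DRing.Cx R).X i)

lemma finInj_ext (T : Triangle (Dual.D R)) (hT : T ∈ distTriang (Dual.D R))
    (h1 : DRing.HasFiniteInjDim R T.obj₁) (h3 : DRing.HasFiniteInjDim R T.obj₃) :
    DRing.HasFiniteInjDim R T.obj₂ := by
  obtain ⟨a1, b1, h1⟩ := h1
  obtain ⟨a3, b3, h3⟩ := h3
  have h1' := injAmp_mono h1 (min_le_left a1 a3) (le_max_left b1 b3)
  have h3' := injAmp_mono h3 (min_le_right a1 a3) (le_max_right b1 b3)
  refine ⟨min a1 a3, max b1 b3, ?_⟩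
  have t1 := (Groth.Agent.S6965.result R T.obj₁ (min a1 a3) (max b1 b3)).out 0 1
  have t3 := (Groth.Agent.S6965.result R T.obj₃ (min a1 a3) (max b1 b3)).out 0 1
  have t2 := (Groth.Agent.S6965.result R T.obj₂ (min a1 a3) (max b1 b3)).out 0 1
  rw [t2]
  intro N _ _ i hi
  have s1 := t1.1 h1' N i hi
  have s3 := t3.1 h3' N i hi
  have hTi := Triangle.shift_distinguished T hT i
  refine ⟨fun f g => ?_⟩
  have hz : ∀ f : Dual.inD R N ⟶ (shiftFunctor (Dual.D R) i).obj T.obj₂, f = 0 := by
    intro f
    obtain ⟨g, hg⟩ := Triangle.coyoneda_exact₂ _ hTi f (s3.elim _ _)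
    have : g = 0 := s1.elim _ _
    rw [hg, this, zero_comp]
    rfl
  rw [hz f, hz g]

/-- "finite injective dimension" as an `ObjectProperty` -/
def finInj (R : Type u) [CommRing R] : ObjectProperty (Dual.D R) :=
  fun K => DRing.HasFiniteInjDim R K

instance : (finInj R).IsClosedUnderIsomorphisms := ⟨fun e h => finInj_of_iso e h⟩

lemma finInj_single (M : ModuleCat.{u} R)
    (h : DRing.HasFiniteInjDim R ((DerivedCategory.singleFunctor (ModuleCat.{u} R) 0).obj M)) (j : ℤ) :
    DRing.HasFiniteInjDim R ((DerivedCategory.singleFunctor (ModuleCat.{u} R) j).obj M) :=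
  finInj_of_iso (((DerivedCategory.singleFunctors (ModuleCat.{u} R)).shiftIso (-j) j 0 (by lia)).app M)
    (finInj_shift h (-j))

/-- Let R be a commutative ring. (1) If K is an object of D(R) whose cohomology vanishes outside a
bounded range and every cohomology module H^i(K), placed in degree 0, has finite injective
dimension, then K has finite injective dimension. (2) If K is a bounded cochain complex of R-modules
and every term K^i, placed in degree 0, has finite injective dimension, then K has finite injective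
dimension. -/
theorem result (R : Type u) [CommRing R] :
    (∀ (K : Dual.D R), (∃ a b : ℤ, ∀ i : ℤ, (i < a ∨ b < i) → Subsingleton (Dual.HD R K i)) →
        (∀ i : ℤ, DRing.HasFiniteInjDim R (Dual.inD R (Dual.HD R K i))) → DRing.HasFiniteInjDim R K) ∧
      (∀ (K : DRing.Cx R) (a b : ℤ), DRing.VanishesOutside K a b →
        (∀ i : ℤ, DRing.HasFiniteInjDim R (Dual.inD R (K.X i))) → DRing.HasFiniteInjDim R (DRing.toD K)) := by
  constructor
  · rintro K ⟨a, b, hab⟩ hK
    apply induction_homology' (finInj R) (fun K hK => finInj_of_isZero hK)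
      (fun T hT h1 h3 => finInj_ext T hT h1 h3) K a b
    · intro i hi
      have := hab i hi
      exact ModuleCat.isZero_of_subsingleton _
    · intro j _ _
      exact finInj_single _ (hK j) j
  · intro K a b hab hK
    apply induction_terms' (finInj R) (fun K hK => finInj_of_isZero hK)
      (fun T hT h1 h3 => finInj_ext T hT h1 h3) ?_ K a b hab
    · intro j _ _
      exact finInj_single _ (hK j) j
    · rintro j X Y ⟨e⟩ h
      exact finInj_of_iso ((DerivedCategory.singleFunctor (ModuleCat.{u} R) j).mapIso e) h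

end Groth.Agent.S7036
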