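import Groth.Statements.S5155
import Mathlib

set_option autoImplicit false
universe u
open Matlis

namespace Groth.Agent.S5155

open IsLocalRing

section Helpers

variable {A : Type u} [CommRing A] [IsLocalRing A] {E : Type u} [AddCommGroup E] [Module A E]

/-- elements of the maximal ideal kill the residue field -/
lemma smul_residue_eq_zero {a : A} (ha : a ∈ maximalIdeal A) (c : ResidueField A) : a • c = 0 := by
  rw [Algebra.smul_def]
  have : algebraMap A (ResidueField A) a = 0 := by
    rw [ResidueField.algebraMap_eq, residue_eq_zero_iff]; exact ha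
  rw [this, zero_mul]

lemma residue_eq_smul_one (a : A) : residue A a = a • (1 : ResidueField A) := by
  rw [Algebra.smul_def, mul_one, ResidueField.algebraMap_eq]

/-- linear maps out of the residue field are determined by the value at `1` -/
lemma hom_ext_one {g h : ResidueField A →ₗ[A] E} (H : g 1 = h 1) : g = h := by
  ext c
  obtain ⟨a, rfl⟩ := residue_surjective c
  rw [residue_eq_smul_one, map_smul, map_smul, H]

/-- the map `k → E` attached to a socle element -/
noncomputable def socleHom (e : E) (he : ∀ b ∈ maximalIdeal A, b • e = 0) :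
    ResidueField A →ₗ[A] E :=
  Submodule.liftQ (maximalIdeal A) (LinearMap.toSpanSingleton A E e) (by
    intro b hb
    simpa using he b hb)

lemma socleHom_one (e : E) (he : ∀ b ∈ maximalIdeal A, b • e = 0) : socleHom e he 1 = e := by
  show (LinearMap.toSpanSingleton A E e) 1 = e
  simp

lemma isInjectiveHull_of (hinj : Module.Injective A E)
    (htor : LocCoh.IsPowerTorsion (maximalIdeal A) E)
    (hs : IsSimpleModule A (ResidueField A →ₗ[A] E)) :
    ∃ f : ResidueField A →ₗ[A] E, InjHull.IsInjectiveHull f := by
  haveI := hs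
  haveI : Nontrivial (ResidueField A →ₗ[A] E) := IsSimpleModule.nontrivial A _
  obtain ⟨f, hf⟩ := exists_ne (0 : ResidueField A →ₗ[A] E)
  refine ⟨f, ⟨⟨?_, ?_⟩, hinj⟩⟩
  · rw [injective_iff_map_eq_zero]
    intro c hc
    by_contra hc0
    apply hf
    apply hom_ext_one
    obtain ⟨b, hb⟩ := residue_surjective (c⁻¹)
    have h1 : (1 : ResidueField A) = b • c := by
      rw [Algebra.smul_def, ResidueField.algebraMap_eq, hb, inv_mul_cancel₀ hc0]
    rw [h1, map_smul, hc, smul_zero, LinearMap.zero_apply]
  · intro N hN
    obtain ⟨e, heN, he0⟩ := Submodule.exists_mem_ne_zero_of_ne_bot hN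
    classical
    have hex := htor e
    have hn0 : Nat.find hex ≠ 0 := by
      intro h0
      have := Nat.find_spec hex
      rw [h0, pow_zero] at this
      exact he0 (by simpa using this 1 (by simp))
    obtain ⟨k, hk⟩ := Nat.exists_eq_succ_of_ne_zero hn0
    have hmin : ¬ ∀ a ∈ maximalIdeal A ^ k, a • e = 0 :=
      Nat.find_min hex (by rw [hk]; exact Nat.lt_succ_self k)
    push Not at hmin
    obtain ⟨a, hak, hae⟩ := hmin
    have hsoc : ∀ b ∈ maximalIdeal A, b • (a • e) = 0 := by
      intro b hb
      rw [smul_smul]
      apply Nat.find_spec hex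
      rw [hk, pow_succ']
      exact Ideal.mul_mem_mul hb hak
    have hψ1 := socleHom_one (a • e) hsoc
    obtain ⟨b, hb⟩ := IsSimpleModule.toSpanSingleton_surjective A hf (socleHom (a • e) hsoc)
    have hmem : a • e ∈ LinearMap.range f := by
      refine ⟨b • 1, ?_⟩
      rw [map_smul, ← hψ1, ← hb]
      simp
    intro hbot
    have : a • e ∈ N ⊓ LinearMap.range f := ⟨N.smul_mem a heN, hmem⟩
    rw [hbot, Submodule.mem_bot] at this
    exact hae this

/-- every map `k → E` lands in the image of an essential `f : k → E`. -/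
lemma exists_eq_of_essential {f : ResidueField A →ₗ[A] E} (hf : InjHull.IsEssentialInj f)
    (h : ResidueField A →ₗ[A] E) : ∃ c : ResidueField A, h 1 = f c := by
  by_cases h0 : h 1 = 0
  · exact ⟨0, by rw [h0, map_zero]⟩
  have hN : Submodule.span A {h 1} ≠ ⊥ := by
    intro hbot
    exact h0 ((Submodule.span_singleton_eq_bot).1 hbot)
  obtain ⟨z, hz, hz0⟩ := Submodule.exists_mem_ne_zero_of_ne_bot (hf.essential _ hN)
  obtain ⟨hz1, ⟨c', hc'⟩⟩ := hz
  obtain ⟨a, ha⟩ := Submodule.mem_span_singleton.1 hz1
  have hau : IsUnit a := by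
    by_contra hna
    have ham : a ∈ maximalIdeal A := (mem_maximalIdeal a).2 hna
    apply hz0
    rw [← ha, ← map_smul, smul_residue_eq_zero ham, map_zero]
  obtain ⟨u, rfl⟩ := hau
  refine ⟨(↑u⁻¹ : A) • c', ?_⟩
  rw [map_smul, hc', ← ha, smul_smul, Units.inv_mul, one_smul]

lemma isSimpleModule_hom_of_hull {f : ResidueField A →ₗ[A] E} (hf : InjHull.IsEssentialInj f) :
    IsSimpleModule A (ResidueField A →ₗ[A] E) := by
  have hf0 : f ≠ 0 := by
    intro h
    have : f 1 = f 0 := by rw [h]; simp
    exact one_ne_zero (hf.injective this)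
  rw [isSimpleModule_iff_toSpanSingleton_surjective]
  refine ⟨⟨f, 0, hf0⟩, ?_⟩
  intro g hg h
  obtain ⟨cg, hcg⟩ := exists_eq_of_essential hf g
  obtain ⟨ch, hch⟩ := exists_eq_of_essential hf h
  have hcg0 : cg ≠ 0 := by
    intro h0
    apply hg
    apply hom_ext_one
    rw [hcg, h0, map_zero, LinearMap.zero_apply]
  obtain ⟨b, hb⟩ := residue_surjective (ch * cg⁻¹)
  refine ⟨b, ?_⟩
  apply hom_ext_one
  show (b • g) 1 = h 1
  rw [LinearMap.smul_apply, hcg, hch, ← map_smul, Algebra.smul_def, ResidueField.algebraMap_eq, hb,
    mul_assoc, inv_mul_cancel₀ hcg0, mul_one]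

lemma isPowerTorsion_of_hull [IsNoetherianRing A] {f : ResidueField A →ₗ[A] E}
    (hf : InjHull.IsEssentialInj f) : LocCoh.IsPowerTorsion (maximalIdeal A) E := by
  intro e
  let X : Submodule A E := Submodule.span A {e}
  haveI : Module.Finite A X := Module.Finite.span_singleton A e
  have hass : ∀ p ∈ associatedPrimes A X, p = maximalIdeal A := by
    intro p hp
    obtain ⟨hpprime, x, hx⟩ := (isAssociatedPrime_iff).1 hp
    have hx0 : (x : E) ≠ 0 := by
      intro h0
      apply hpprime.ne_top
      rw [hx, Ideal.eq_top_iff_one, Submodule.mem_colon_singleton, Submodule.mem_bot, one_smul]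
      exact Subtype.ext h0
    have hN : Submodule.span A {(x : E)} ≠ ⊥ := fun hbot =>
      hx0 ((Submodule.span_singleton_eq_bot).1 hbot)
    obtain ⟨z, hz, hz0⟩ := Submodule.exists_mem_ne_zero_of_ne_bot (hf.essential _ hN)
    obtain ⟨hz1, ⟨c, hc⟩⟩ := hz
    obtain ⟨a, ha⟩ := Submodule.mem_span_singleton.1 hz1
    have hap : a ∉ p := by
      intro hap
      rw [hx, Submodule.mem_colon_singleton, Submodule.mem_bot] at hap
      apply hz0
      rw [← ha]
      exact congrArg Subtype.val hap
    have hle : maximalIdeal A ≤ p := by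
      intro b hb
      have hba : b * a ∈ p := by
        rw [hx, Submodule.mem_colon_singleton, Submodule.mem_bot]
        apply Subtype.ext
        show (b * a) • (x : E) = 0
        rw [mul_smul, ha, ← hc, ← map_smul, smul_residue_eq_zero hb, map_zero]
      exact (hpprime.mem_or_mem hba).resolve_right hap
    exact ((maximalIdeal.isMaximal A).eq_of_le hpprime.ne_top hle).symm
  have hrad : maximalIdeal A ≤ (Module.annihilator A X).radical := by
    rw [← Ideal.sInf_minimalPrimes]
    refine le_sInf ?_
    intro p hp
    rw [hass p (Module.associatedPrimes.minimalPrimes_annihilator_subset_associatedPrimes A X hp)]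
  obtain ⟨n, hn⟩ := Ideal.exists_radical_pow_le_of_fg (Module.annihilator A X)
    (IsNoetherian.noetherian _)
  refine ⟨n, fun a ha => ?_⟩
  have h1 : a ∈ Module.annihilator A X := hn (Ideal.pow_right_mono hrad n ha)
  have h2 := Module.mem_annihilator.1 h1 ⟨e, Submodule.mem_span_singleton_self e⟩
  exact congrArg Subtype.val h2

end Helpers

/-- Let A be a Noetherian local ring with residue field k. An A-module E is an injective hull of k if
and only if E is injective, E is m-power torsion, and Hom_A(k, E) is simple (one-dimensional over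
k). (The torsion condition is needed: for a prime p ≠ m the module E(k) ⊕ E(A/p) is injective with
Hom_A(k, −) simple, represents the same functor on modules of finite length, and is not an injective
hull of k; the published definition of a dualizing module leaves this condition implicit and the
published proof uses it.) -/
theorem result (A : Type u) [CommRing A] [IsLocalRing A] [IsNoetherianRing A] (E : Type u) [AddCommGroup E] [Module A E] : (∃ f : IsLocalRing.ResidueField A →ₗ[A] E, InjHull.IsInjectiveHull f) ↔ (Module.Injective A E ∧ LocCoh.IsPowerTorsion (IsLocalRing.maximalIdeal A) E ∧ IsSimpleModule A (IsLocalRing.ResidueField A →ₗ[A] E)) := by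
  constructor
  · rintro ⟨f, hf⟩
    exact ⟨hf.isInjective, isPowerTorsion_of_hull hf.toIsEssentialInj,
      isSimpleModule_hom_of_hull hf.toIsEssentialInj⟩
  · rintro ⟨h1, h2, h3⟩
    exact isInjectiveHull_of h1 h2 h3

end Groth.Agent.S5155
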