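import Groth.Statements.S6990
import Mathlib
import Groth.Agent.S14388
-- import your own Groth.Agent.* helpers here

set_option autoImplicit false
universe u
open CategoryTheory CategoryTheory.Limits
attribute [local instance] HasDerivedCategory.standard
open DRing

namespace Groth.Agent.S6990

open DerivedCategory Groth.Agent.S14388 CategoryTheory.Pretriangulated

section gen
universe w v' u'
variable {A : Type u'} [Category.{v'} A] [Abelian A] [HasDerivedCategory.{w} A]

lemma exists_chain_map (P L : CochainComplex A ℤ) [P.IsKProjective]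
    (φ : Q.obj P ⟶ Q.obj L) : ∃ f : P ⟶ L, Q.map f = φ := by
  obtain ⟨g, hg⟩ := (CochainComplex.IsKProjective.Qh_map_bijective P
    ((HomotopyCategory.quotient A (ComplexShape.up ℤ)).obj L)).2 φ
  obtain ⟨f, rfl⟩ := (HomotopyCategory.quotient A (ComplexShape.up ℤ)).map_surjective g
  exact ⟨f, hg⟩

/-- maps from a bounded above complex of projectives living in degrees `≥ a` to an object of
`D^{≤ a - 1}` vanish -/
lemma hom_eq_zero (P : CochainComplex A ℤ) (a b : ℤ)
    (hP : ∀ i : ℤ, i < a ∨ b < i → IsZero (P.X i)) [∀ i : ℤ, Projective (P.X i)]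
    (X : DerivedCategory A) [X.IsLE (a - 1)] (φ : Q.obj P ⟶ X) : φ = 0 := by
  have hPle : P.IsStrictlyLE b := by
    rw [CochainComplex.isStrictlyLE_iff]
    intro i hi
    exact hP i (Or.inr hi)
  have : P.IsKProjective := CochainComplex.isKProjective_of_projective P b
  obtain ⟨X', hX', ⟨e⟩⟩ := X.exists_iso_Q_obj_of_isLE (a - 1)
  obtain ⟨c, hc⟩ := exists_chain_map P X' (φ ≫ e.hom)
  have hc0 : c = 0 := by
    ext i : 1
    by_cases hi : i < a
    · exact (hP i (Or.inl hi)).eq_of_src _ _
    · exact (X'.isZero_of_isStrictlyLE (a - 1) i (by lia)).eq_of_tgt _ _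
  rw [← cancel_mono e.hom, zero_comp, ← hc, hc0, Functor.map_zero]

end gen

open CategoryTheory.Pretriangulated in
/-- Let R be a commutative ring, a, b integers, L an object of D(R) isomorphic to a complex of
projective R-modules vanishing outside [a, b], and K an object of D(R). (1) If H^i(K) = 0 for all i
≥ a, then every morphism L → K in D(R) is zero. (2) If H^i(K) = 0 for all i ≥ a + 1, then for every
distinguished triangle K → M → L → K[1] there is an isomorphism M ≅ K ⊕ L carrying K → M to the
first inclusion and whose composite with the second projection is M → L. -/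
theorem result (R : Type u) [CommRing R] (a b : ℤ)
    (L : Dual.D R) (hL : ∃ P : DRing.Cx R, DRing.VanishesOutside P a b ∧ (∀ i : ℤ, Module.Projective R (P.X i)) ∧
      Nonempty (DRing.toD P ≅ L)) (K : Dual.D R) :
    ((∀ i : ℤ, a ≤ i → Subsingleton (Dual.HD R K i)) → Subsingleton (L ⟶ K)) ∧
      ((∀ i : ℤ, a + 1 ≤ i → Subsingleton (Dual.HD R K i)) → ∀ (T : Triangle (Dual.D R)), T ∈ distinguishedTriangles →
        T.obj₁ = K → T.obj₃ = L → ∀ [HasBinaryBiproduct T.obj₁ T.obj₃],
          ∃ e : T.obj₂ ≅ T.obj₁ ⊞ T.obj₃, T.mor₁ ≫ e.hom = biprod.inl ∧ e.hom ≫ biprod.snd = T.mor₂) := by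
  obtain ⟨P, hP, hproj, ⟨e⟩⟩ := hL
  have : ∀ i : ℤ, Projective (P.X i) := fun i =>
    have := hproj i
    ModuleCat.projective_of_categoryTheory_projective _
  constructor
  · intro hK
    have hKle : K.IsLE (a - 1) := (DerivedCategory.isLE_iff K (a - 1)).2 (fun i hi => by
      have := hK i (by lia)
      exact ModuleCat.isZero_of_subsingleton _)
    refine ⟨fun f g => ?_⟩
    have hz : ∀ f : L ⟶ K, f = 0 := fun f => by
      have h := hom_eq_zero P a b hP K (e.hom ≫ f)
      rw [← cancel_epi e.hom, h, comp_zero]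
    rw [hz f, hz g]
  · intro hK T hT h1 h3 _
    subst h1 h3
    have hKle : T.obj₁.IsLE a := (DerivedCategory.isLE_iff T.obj₁ a).2 (fun i hi => by
      have := hK i (by lia)
      exact ModuleCat.isZero_of_subsingleton _)
    have hKs : (T.obj₁⟦(1 : ℤ)⟧).IsLE (a - 1) := tt.isLE_shift T.obj₁ a 1 (a - 1) (by lia)
    have hz : T.mor₃ = 0 := by
      have h := hom_eq_zero P a b hP _ (e.hom ≫ T.mor₃)
      rw [← cancel_epi e.hom, h, comp_zero]
    obtain ⟨e', h1, h2⟩ := exists_iso_binaryBiproduct_of_distTriang T hT hz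
    exact ⟨e', h1, h2.symm⟩

end Groth.Agent.S6990
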