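import Groth.Statements.S7017
import Mathlib
import Groth.Agent.Lib.Helper1Cone
-- import your own Groth.Agent.* helpers here

set_option autoImplicit false
universe u
open CategoryTheory CategoryTheory.Limits
attribute [local instance] HasDerivedCategory.standard
open DRing

namespace Groth.Agent.S7017

open Groth.Agent.Lib.Helper1.Cone

/-- finite free modules -/
def FF {R : Type u} [CommRing R] (X : ModuleCat.{u} R) : Prop :=
  Module.Finite R X ∧ Module.Free R X

lemma FF_iso {R : Type u} [CommRing R] (X Y : ModuleCat.{u} R) (e : X ≅ Y) (h : FF X) : FF Y := by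
  obtain ⟨h1, h2⟩ := h
  exact ⟨Module.Finite.equiv e.toLinearEquiv, Module.Free.of_equiv e.toLinearEquiv⟩

lemma FF_sum {R : Type u} [CommRing R] (X Y : ModuleCat.{u} R) (hX : FF X) (hY : FF Y) :
    FF (X ⊞ Y) := by
  obtain ⟨h1, h2⟩ := hX
  obtain ⟨h3, h4⟩ := hY
  refine FF_iso _ _ (ModuleCat.biprodIsoProd X Y).symm ⟨?_, ?_⟩
  · exact inferInstanceAs (Module.Finite R (X × Y))
  · exact inferInstanceAs (Module.Free R (X × Y))

lemma FF_proj {R : Type u} [CommRing R] (X : ModuleCat.{u} R) (h : FF X) :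
    Module.Projective R X := by
  obtain ⟨h1, h2⟩ := h
  exact Module.Projective.of_free

lemma isPseudoCoherent'_iff {R : Type u} [CommRing R] (K : Dual.D R) :
    DRing.IsPseudoCoherent' R K ↔ Rep (FF (R := R)) False K := by
  constructor
  · rintro ⟨E, b, hE, hff, ⟨e⟩⟩
    exact ⟨E, ⟨b, hE⟩, fun h => h.elim, hff, ⟨e⟩⟩
  · rintro ⟨E, ⟨b, hb⟩, -, h3, ⟨e⟩⟩
    exact ⟨E, b, hb, h3, ⟨e⟩⟩

open CategoryTheory.Pretriangulated in
/-- Let R be a commutative ring and K → L → M → K[1] a distinguished triangle in D(R). Whenever two of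
K, L, M are pseudo-coherent (isomorphic in D(R) to bounded above complexes of finite free modules),
the remaining one is as well. -/
theorem result (R : Type u) [CommRing R] (T : Triangle (Dual.D R))
    (hT : T ∈ distinguishedTriangles) :
    (DRing.IsPseudoCoherent' R T.obj₁ → DRing.IsPseudoCoherent' R T.obj₂ → DRing.IsPseudoCoherent' R T.obj₃) ∧
      (DRing.IsPseudoCoherent' R T.obj₁ → DRing.IsPseudoCoherent' R T.obj₃ → DRing.IsPseudoCoherent' R T.obj₂) ∧
      (DRing.IsPseudoCoherent' R T.obj₂ → DRing.IsPseudoCoherent' R T.obj₃ → DRing.IsPseudoCoherent' R T.obj₁) := by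
  simp only [isPseudoCoherent'_iff]
  exact Rep.two_out_of_three FF_proj FF_iso FF_sum T hT

end Groth.Agent.S7017
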