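import Groth.Statements.S2068
import Mathlib
import Groth.Agent.Lib.Helper1PC
-- import your own Groth.Agent.* helpers here

set_option autoImplicit false
universe u
open CategoryTheory
attribute [local instance] HasDerivedCategory.standard
open CAlg

namespace Groth.Agent.S2068

open Groth.Agent.Lib.Helper1.PC DerivedCategory

/-- exactness of a representing complex in a degree where the cohomology vanishes -/
lemma exactAt_of_isZero {A : Type u} [CommRing A] (E : DRing.Cx A) (i : ℤ)
    (h : Limits.IsZero ((homologyFunctor (ModuleCat.{u} A) i).obj (Q.obj E))) : E.ExactAt i := by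
  rw [HomologicalComplex.exactAt_iff_isZero_homology]
  exact ((homologyFunctorFactors (ModuleCat.{u} A) i).app E).isZero_iff.1 h

/-- If `K` is `m`-pseudo-coherent in `D(A)`, its cohomology in degree `m` is a finitely generated module
when nothing above degree `m` survives, and its cohomology in degree `m+1` is finitely presented
when nothing above degree `m+1` survives. -/
theorem result {A : Type u} [CommRing A] (K : Dual.D A) (m : ℤ)
    (hK : DRing.IsPseudoCoherent A m K) :
    ((∀ i : ℤ, m < i → Limits.IsZero ((DerivedCategory.homologyFunctor (ModuleCat.{u} A) i).obj K)) →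
        Module.Finite A ((DerivedCategory.homologyFunctor (ModuleCat.{u} A) m).obj K)) ∧
      ((∀ i : ℤ, m + 1 < i → Limits.IsZero ((DerivedCategory.homologyFunctor (ModuleCat.{u} A) i).obj K)) →
        Module.FinitePresentation A ((DerivedCategory.homologyFunctor (ModuleCat.{u} A) (m + 1)).obj K)) := by
  obtain ⟨E, a, b, α, hE, hff, h1, h2⟩ := hK
  have hfp : ∀ i : ℤ, Module.Finite A (E.X i) ∧ Module.Projective A (E.X i) := fun i =>
    ⟨(hff i).1, have := (hff i).2; Module.Projective.of_free⟩
  have hb : ∀ i : ℤ, b < i → Limits.IsZero (E.X i) := fun i hi => hE i (Or.inr hi)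
  have hex : ∀ i : ℤ, m < i →
      Limits.IsZero ((homologyFunctor (ModuleCat.{u} A) i).obj K) → E.ExactAt i := by
    intro i hi hz
    have := h1 i hi
    exact exactAt_of_isZero E i (Limits.IsZero.of_iso hz (asIso ((homologyFunctor _ i).map α)))
  constructor
  · intro hz
    obtain ⟨k1, -⟩ := ker_d_finite_projective E m b hb (fun i _ => hfp i)
      (fun i hi => hex i hi (hz i hi)) m le_rfl
    have f1 : Module.Finite A ((HomologicalComplex.homologyFunctor (ModuleCat.{u} A)
        (ComplexShape.up ℤ) m).obj E) := finite_homology_of_ker E m k1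
    have f2 : Module.Finite A ((homologyFunctor (ModuleCat.{u} A) m).obj (Q.obj E)) :=
      Module.Finite.equiv ((homologyFunctorFactors (ModuleCat.{u} A) m).app E).symm.toLinearEquiv
    exact Module.Finite.of_surjective ((homologyFunctor _ m).map α).hom
      ((ModuleCat.epi_iff_surjective _).1 h2)
  · intro hz
    obtain ⟨k1, k2⟩ := ker_d_finite_projective E (m + 1) b hb (fun i _ => hfp i)
      (fun i hi => hex i (by lia) (hz i hi)) (m + 1) le_rfl
    have k3 : Module.FinitePresentation A (LinearMap.ker (E.d (m + 1) (m + 1 + 1)).hom) :=
      Module.finitePresentation_of_projective _ _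
    have k4 : Module.Finite A (E.X (m + 1 - 1)) := by
      rw [show m + 1 - 1 = m by ring]
      exact (hff m).1
    have f1 : Module.FinitePresentation A ((HomologicalComplex.homologyFunctor (ModuleCat.{u} A)
        (ComplexShape.up ℤ) (m + 1)).obj E) := fp_homology_of_ker E (m + 1) k3 k4
    have f2 : Module.FinitePresentation A
        ((homologyFunctor (ModuleCat.{u} A) (m + 1)).obj (Q.obj E)) :=
      Module.FinitePresentation.of_equiv
        ((homologyFunctorFactors (ModuleCat.{u} A) (m + 1)).app E).symm.toLinearEquiv
    have := h1 (m + 1) (by lia)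
    exact Module.FinitePresentation.of_equiv
      (asIso ((homologyFunctor _ (m + 1)).map α)).toLinearEquiv

end Groth.Agent.S2068
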