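import Groth.Statements.S6938
import Mathlib
import Groth.Agent.Lib.Helper1PCBiprod
-- import your own Groth.Agent.* helpers here

set_option autoImplicit false
universe u
open CategoryTheory CategoryTheory.Limits
attribute [local instance] HasDerivedCategory.standard
open DRing

namespace Groth.Agent.S6938

open Groth.Agent.Lib.Helper1.PC Groth.Agent.Lib.Helper1.PCTower DerivedCategory

lemma isPC_of_pc' {R : Type u} [CommRing R] (K : Dual.D R) (h : DRing.IsPseudoCoherent' R K)
    (m : ℤ) : DRing.IsPseudoCoherent R m K := by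
  obtain ⟨E, b, hE, hff, ⟨e⟩⟩ := h
  exact isPC_of_iso e (isPC_of_bddAbove_finProj E b hE
    (fun i => ⟨(hff i).1, have := (hff i).2; Module.Projective.of_free⟩) m)

lemma isPC_single_shift {R : Type u} [CommRing R] (X : ModuleCat.{u} R) (n j : ℤ)
    (h : DRing.IsPseudoCoherent R n ((singleFunctor (ModuleCat.{u} R) 0).obj X)) :
    DRing.IsPseudoCoherent R (n + j) ((singleFunctor (ModuleCat.{u} R) j).obj X) :=
  isPC_of_iso (((singleFunctors (ModuleCat.{u} R)).shiftIso (-j) j 0 (by lia)).app X)
    (isPC_shift h (-j) (n + j) (by lia))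

/-- termwise criterion -/
lemma isPC_of_termwise {R : Type u} [CommRing R] (m : ℤ) (K : DRing.Cx R) (b : ℤ)
    (hb : DRing.VanishesAbove K b)
    (h : ∀ i : ℤ, DRing.IsPseudoCoherent R (m - i) ((singleFunctor (ModuleCat.{u} R) 0).obj (K.X i))) :
    DRing.IsPseudoCoherent R m (Q.obj K) := by
  refine isPC_of_conn _ (conn_sigmaGEι K m) (isPC_of_terms m (sigmaGE K m) m b ?_ ?_)
  · rintro i (hi | hi)
    · exact isZero_sigmaGE_X K m i hi
    · exact isZero_sigmaGE_X' K m i (hb i hi)
  · intro j hj _
    have h1 := isPC_single_shift (K.X j) (m - j) j (h j)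
    rw [show m - j + j = m by ring] at h1
    exact isPC_of_iso ((singleFunctor (ModuleCat.{u} R) j).mapIso (sigmaGEXIso K m j hj).symm) h1

/-- Let R be a commutative ring, m an integer and K a bounded above cochain complex of R-modules. If the
module K^i is (m - i)-pseudo-coherent for every i, then K is m-pseudo-coherent in D(R). If every K^i
is a pseudo-coherent module, then K is pseudo-coherent. -/
theorem result (R : Type u) [CommRing R] (m : ℤ)
    (K : DRing.Cx R) (b : ℤ) (hb : DRing.VanishesAbove K b) :
    ((∀ i : ℤ, DRing.IsPseudoCoherentModule R (m - i) (K.X i)) → DRing.IsPseudoCoherent R m (DRing.toD K)) ∧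
      ((∀ i : ℤ, DRing.IsPseudoCoherentModule' R (K.X i)) → DRing.IsPseudoCoherent' R (DRing.toD K)) := by
  refine ⟨fun h => isPC_of_termwise m K b hb h, fun h => ?_⟩
  apply isPseudoCoherent'_of_forall
  intro m'
  exact isPC_of_termwise m' K b hb (fun i => isPC_of_pc' _ (h i) _)

end Groth.Agent.S6938
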