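import Groth.Statements.S7048
import Groth.Agent.Lib.Helper10DerComplete
-- import your own Groth.Agent.* helpers here

set_option autoImplicit false
universe u
attribute [local instance] HasDerivedCategory.standard
open DRing

namespace Groth.Agent.S7048

/-- For a commutative ring A, an ideal I and an A-module M which is I-adically complete, the object M[0]
of D(A) is derived complete with respect to I. -/
theorem result {A : Type u} [CommRing A] (I : Ideal A)
    (M : Type u) [AddCommGroup M] [Module A M] [IsAdicComplete I M] :
    DRing.IsDerivedComplete I (Dual.inD A M) := by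
  rw [Groth.Agent.Lib.Helper10.DerComplete.isDerivedComplete_iff]
  intro f hf
  have hmem : ∀ (k : ℕ) (x : M), f ^ k • x ∈ (I ^ k • ⊤ : Submodule A M) := fun k x =>
    Submodule.smul_mem_smul (Ideal.pow_mem_pow hf k) Submodule.mem_top
  have hanti : ∀ {a b : ℕ}, a ≤ b → (I ^ b • ⊤ : Submodule A M) ≤ I ^ a • ⊤ := fun h =>
    Submodule.smul_mono_left (Ideal.pow_le_pow_right h)
  constructor
  · intro m hm n
    have hk : ∀ k n, m n = f ^ k • m (n + k) := by
      intro k
      induction k with
      | zero => intro n; simp
      | succ k ih =>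
        intro n
        rw [ih n, hm (n + k), smul_smul, ← pow_succ, add_assoc]
    apply IsHausdorff.haus (inferInstance : IsHausdorff I M)
    intro k
    rw [SModEq.zero, hk k n]
    exact hmem k _
  · intro y
    let s : ℕ → ℕ → M := fun n K => ∑ k ∈ Finset.range K, f ^ k • y (n + k)
    have hs : ∀ n, ∀ {a b : ℕ}, a ≤ b → s n a ≡ s n b [SMOD (I ^ a • ⊤ : Submodule A M)] := by
      intro n a b hab
      obtain ⟨j, rfl⟩ := Nat.exists_eq_add_of_le hab
      apply SModEq.symm
      rw [SModEq.sub_mem]
      induction j with
      | zero => simp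
      | succ j ih =>
        have h1 : s n (a + (j + 1)) = s n (a + j) + f ^ (a + j) • y (n + (a + j)) := by
          change ∑ k ∈ Finset.range (a + (j + 1)), _ = _
          rw [← add_assoc, Finset.sum_range_succ]
        rw [h1, add_sub_right_comm]
        exact Submodule.add_mem _ (ih (Nat.le_add_right a j))
          (hanti (Nat.le_add_right a j) (hmem _ _))
    choose L hL using fun n => IsPrecomplete.prec (inferInstance : IsPrecomplete I M) (hs n)
    have hrec : ∀ n K, s n (K + 1) = y n + f • s (n + 1) K := by
      intro n K
      change ∑ k ∈ Finset.range (K + 1), _ = _ + f • ∑ k ∈ Finset.range K, _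
      rw [Finset.sum_range_succ', Finset.smul_sum, add_comm]
      congr 1
      · simp
      · refine Finset.sum_congr rfl fun k _ => ?_
        rw [smul_smul, ← pow_succ', Nat.add_right_comm n 1 k, add_assoc]
    refine ⟨L, fun n => ?_⟩
    rw [← sub_eq_zero]
    apply IsHausdorff.haus (inferInstance : IsHausdorff I M)
    intro K
    have h1 : L n ≡ s n (K + 1) [SMOD (I ^ K • ⊤ : Submodule A M)] :=
      ((hL n (K + 1)).symm).mono (hanti (Nat.le_succ K))
    have h2 : f • L (n + 1) ≡ f • s (n + 1) K [SMOD (I ^ K • ⊤ : Submodule A M)] :=
      ((hL (n + 1) K).symm).smul f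
    have h3 := (h1.sub h2).sub (SModEq.refl (y n))
    rw [hrec, add_sub_cancel_right, sub_self] at h3
    exact h3

end Groth.Agent.S7048
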