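import Groth.Statements.S14414
import Mathlib
import Groth.Agent.Lib.Helper13TorMore
-- import your own Groth.Agent.* helpers here

set_option autoImplicit false
universe u
open CategoryTheory CategoryTheory.Limits
open CAlg

namespace Groth.Agent.S14414

theorem aux {R : Type u} [CommRing R] (M : ModuleCat.{u} R) (q : ℕ) :
    ∀ (N : ModuleCat.{u} R) [HasProjectiveDimensionLE N q] (i : ℕ), q < i →
      IsZero (((Tor (ModuleCat.{u} R) i).obj M).obj N) := by
  induction q with
  | zero =>
    intro N hN i hi
    obtain ⟨j, rfl⟩ : ∃ j, i = j + 1 := ⟨i - 1, by omega⟩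
    have : Projective N := (projective_iff_hasProjectiveDimensionLE_zero N).2 hN
    exact Functor.isZero_leftDerived_obj_projective_succ _ j _
  | succ q ih =>
    intro N hN i hi
    obtain ⟨j, rfl⟩ : ∃ j, i = j + 1 := ⟨i - 1, by omega⟩
    let π := Projective.π N
    let S : ShortComplex (ModuleCat.{u} R) := ShortComplex.mk (kernel.ι π) π (kernel.condition π)
    have hS : S.ShortExact := by
      have hex : S.Exact := ShortComplex.exact_of_f_is_kernel _ (kernelIsKernel π)
      have : Mono S.f := inferInstanceAs (Mono (kernel.ι π))
      have : Epi S.g := inferInstanceAs (Epi (Projective.π N))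
      exact ShortComplex.ShortExact.mk hex
    have hP : Projective S.X₂ := inferInstanceAs (Projective (Projective.over N))
    have hN' : HasProjectiveDimensionLT S.X₃ (q + 2) := hN
    have hK : HasProjectiveDimensionLT S.X₁ (q + 1) :=
      (hS.hasProjectiveDimensionLT_X₃_iff q hP).1 hN'
    have hK' : HasProjectiveDimensionLE (kernel π) q := hK
    refine Groth.Agent.Helper13Tor.isZero_tor₂_X₃ M S hS j ?_ ?_
    · exact Functor.isZero_leftDerived_obj_projective_succ _ j _
    · exact ih (kernel π) j (by omega)

/-- Let R be a commutative ring and N an R-module of projective dimension at most q, in the sense that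
Ext^i_R(N, N′) = 0 for all i > q and all N′ (equivalently, N has a projective resolution of length
at most q). Then for every R-module M and every i > q, Tor_i^R(M, N) — the value at N of the i-th
left derived functor of M ⊗_R (-) — is zero. -/
theorem result (R : Type u) [CommRing R]
    (M N : ModuleCat.{u} R) (q : ℕ) [HasProjectiveDimensionLE N q] (i : ℕ) (hi : q < i) :
    IsZero (((CategoryTheory.Tor (ModuleCat.{u} R) i).obj M).obj N) := by
  exact aux M q N i hi

end Groth.Agent.S14414
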