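import Groth.Statements.S5809
import Mathlib
import Groth.Agent.Lib.Helper13Devissage
import Groth.Agent.Lib.Helper13TorMore
import Groth.Agent.S14414
-- import your own Groth.Agent.* helpers here

set_option autoImplicit false
universe u
open CategoryTheory
open EGA41

namespace Groth.Agent.S5809

open Groth.Agent.Helper13Tor CategoryTheory.Limits

theorem aux (A : Type u) [CommRing A] [IsLocalRing A] [IsNoetherianRing A] (n : ℕ) :
    ∀ (M : Type u) [AddCommGroup M] [Module A M] [Module.Finite A M],
      IsZero (((Tor (ModuleCat.{u} A) (n + 1)).obj
          (ModuleCat.of A (IsLocalRing.ResidueField A))).obj (ModuleCat.of A M)) →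
        HasProjectiveDimensionLT (ModuleCat.of A M) (n + 1) := by
  induction n with
  | zero =>
    intro M _ _ _ h
    obtain ⟨m, g, hg⟩ := Module.Finite.exists_fin' A M
    let K := LinearMap.ker g
    have hex : Function.Exact K.subtype g := LinearMap.exact_subtype_ker_map g
    have hS := Groth.Agent.Helper13Devissage.shortExact_mk K.subtype g
      (Submodule.injective_subtype _) hg hex
    have hproj : Projective (ModuleCat.of A (Fin m → A)) := by
      have : Module.Projective A (ModuleCat.of A (Fin m → A)) :=
        inferInstanceAs (Module.Projective A (Fin m → A))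
      exact (IsProjective.iff_projective _).1 this
    have h₂ : IsZero (((Tor (ModuleCat.{u} A) 1).obj
        (ModuleCat.of A (IsLocalRing.ResidueField A))).obj (ModuleCat.of A (Fin m → A))) :=
      Functor.isZero_leftDerived_obj_projective_succ _ 0 _
    have hinj := (isZero_tor_one_iff_lTensor_injective
      (ModuleCat.of A (IsLocalRing.ResidueField A)) _ hS h₂).1 h
    have hinj' : Function.Injective
        (LinearMap.lTensor (IsLocalRing.ResidueField A) K.subtype) := hinj
    have hfree : Module.Free A M :=
      Module.free_of_lTensor_residueField_injective K.subtype g hg hex hinj'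
    have : Module.Projective A (ModuleCat.of A M) := inferInstanceAs (Module.Projective A M)
    have hp : Projective (ModuleCat.of A M) := (IsProjective.iff_projective _).1 this
    exact projective_iff_hasProjectiveDimensionLT_one.1 hp
  | succ n ih =>
    intro M _ _ _ h
    obtain ⟨m, g, hg⟩ := Module.Finite.exists_fin' A M
    let K := LinearMap.ker g
    have hex : Function.Exact K.subtype g := LinearMap.exact_subtype_ker_map g
    have hS := Groth.Agent.Helper13Devissage.shortExact_mk K.subtype g
      (Submodule.injective_subtype _) hg hex
    have hproj : Projective (ModuleCat.of A (Fin m → A)) := by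
      have : Module.Projective A (ModuleCat.of A (Fin m → A)) :=
        inferInstanceAs (Module.Projective A (Fin m → A))
      exact (IsProjective.iff_projective _).1 this
    have h₂ : IsZero (((Tor (ModuleCat.{u} A) (n + 1)).obj
        (ModuleCat.of A (IsLocalRing.ResidueField A))).obj (ModuleCat.of A (Fin m → A))) :=
      Functor.isZero_leftDerived_obj_projective_succ _ n _
    have hK : IsZero (((Tor (ModuleCat.{u} A) (n + 1)).obj
        (ModuleCat.of A (IsLocalRing.ResidueField A))).obj (ModuleCat.of A K)) :=
      isZero_tor₂_X₁ _ _ hS (n + 1) h h₂
    have hKpd := ih K hK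
    exact (hS.hasProjectiveDimensionLT_X₃_iff n hproj).2 hKpd

/-- Let A be a Noetherian local ring with residue field k, M a finitely generated A-module and n ≥ 0.
For M to have projective dimension at most n it is necessary that Tor^A_i(M, k) = 0 for all i > n,
and it suffices that Tor^A_(n+1)(M, k) = 0. (Tor is written here as the left derived functors of k ⊗
- evaluated at M, i.e. computed from a projective resolution of M.) -/
theorem result (A : Type u) [CommRing A] [IsLocalRing A]
    [IsNoetherianRing A] (M : Type u) [AddCommGroup M] [Module A M] [Module.Finite A M] (n : ℕ) :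
    (HasProjectiveDimensionLT (ModuleCat.of A M) (n + 1) →
        ∀ i : ℕ, n < i → Limits.IsZero (((Tor (ModuleCat.{u} A) i).obj
          (ModuleCat.of A (IsLocalRing.ResidueField A))).obj (ModuleCat.of A M))) ∧
      (Limits.IsZero (((Tor (ModuleCat.{u} A) (n + 1)).obj
          (ModuleCat.of A (IsLocalRing.ResidueField A))).obj (ModuleCat.of A M)) →
        HasProjectiveDimensionLT (ModuleCat.of A M) (n + 1)) := by
  constructor
  · intro h i hi
    have : HasProjectiveDimensionLE (ModuleCat.of A M) n := h
    exact Groth.Agent.S14414.result A _ (ModuleCat.of A M) n i hi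
  · exact aux A n M

end Groth.Agent.S5809
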