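import Groth.Statements.S5788
import Mathlib

set_option autoImplicit false
universe u
open CategoryTheory
open EGA41

namespace Groth.Agent.S5788

open CategoryTheory Abelian CategoryTheory.Limits

theorem baer_of_ext {A : Type u} [CommRing A] (M : ModuleCat.{u} A)
    (h : ∀ I : Ideal A, Subsingleton (Ext (ModuleCat.of A (A ⧸ I)) M 1)) :
    Injective M := by
  have hB : Module.Baer A M := by
    intro I g
    let S : ShortComplex (ModuleCat.{u} A) :=
      ShortComplex.mk (ModuleCat.ofHom I.subtype) (ModuleCat.ofHom (Submodule.mkQ I)) (by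
        ext y
        show Submodule.mkQ I (I.subtype y) = 0
        rw [Submodule.mkQ_apply, Submodule.Quotient.mk_eq_zero]
        exact y.2)
    have hS : S.ShortExact := by
      refine ModuleCat.shortComplex_shortExact S ?_ (Submodule.injective_subtype I)
        (Submodule.mkQ_surjective I)
      intro y
      show Submodule.mkQ I y = 0 ↔ _
      rw [Submodule.mkQ_apply, Submodule.Quotient.mk_eq_zero]
      constructor
      · intro hy; exact ⟨⟨y, hy⟩, rfl⟩
      · rintro ⟨z, rfl⟩; exact z.2
    haveI := h I
    obtain ⟨x₂, hx₂⟩ := Ext.contravariant_sequence_exact₁ hS M (Ext.mk₀ (ModuleCat.ofHom g))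
      (zero_add 1) (Subsingleton.elim _ _)
    obtain ⟨g', rfl⟩ := (Ext.mk₀_bijective _ _).2 x₂
    rw [Ext.mk₀_comp_mk₀, (Ext.mk₀_bijective _ _).1.eq_iff] at hx₂
    refine ⟨g'.hom, fun x mem => ?_⟩
    have := congrArg (fun φ => φ.hom ⟨x, mem⟩) hx₂
    exact this
  haveI : Module.Injective A M := hB.injective
  exact Module.injective_object_of_injective_module A M

theorem main {A : Type u} [CommRing A] : ∀ (n : ℕ) (M : ModuleCat.{u} A),
    (∀ I : Ideal A, Subsingleton (Ext (ModuleCat.of A (A ⧸ I)) M (n + 1))) →
    HasInjectiveDimensionLT M (n + 1)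
  | 0, M, h => by
    haveI := baer_of_ext M h
    infer_instance
  | n + 1, M, h => by
    let S : ShortComplex (ModuleCat.{u} A) :=
      ShortComplex.mk (Injective.ι M) (cokernel.π (Injective.ι M)) (cokernel.condition _)
    have hS : S.ShortExact := { exact := ShortComplex.exact_cokernel (Injective.ι M) }
    have hE : Injective S.X₂ := inferInstanceAs (Injective (Injective.under M))
    have hC : HasInjectiveDimensionLT S.X₃ (n + 1) := by
      apply main n
      intro I
      refine ⟨fun a b => ?_⟩
      have key : ∀ z : Ext (ModuleCat.of A (A ⧸ I)) S.X₃ (n + 1), z = 0 := by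
        intro z
        haveI := h I
        obtain ⟨x₂, hx₂⟩ := Ext.covariant_sequence_exact₃ _ hS z (rfl : n + 1 + 1 = n + 2)
          (Subsingleton.elim _ _)
        rw [← hx₂, Ext.eq_zero_of_injective x₂, Ext.zero_comp]
      rw [key a, key b]
    exact (hS.hasInjectiveDimensionLT_X₃_iff n hE).mp hC

/-- Let A be a ring, M an A-module and n ≥ 0. Then M has injective dimension at most n if and only if
Ext^(n+1)_A(N, M) = 0 for every monogenous A-module N, i.e. for every N of the form A/I with I an
ideal of A. -/
theorem result (A : Type u) [CommRing A] (M : Type u)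
    [AddCommGroup M] [Module A M] (n : ℕ) :
    HasInjectiveDimensionLT (ModuleCat.of A M) (n + 1) ↔
      ∀ I : Ideal A, Subsingleton (Abelian.Ext (ModuleCat.of A (A ⧸ I)) (ModuleCat.of A M) (n + 1)) := by
  constructor
  · intro h I
    exact HasInjectiveDimensionLT.subsingleton (ModuleCat.of A M) (n + 1) (n + 1) le_rfl _
  · intro h
    exact main n (ModuleCat.of A M) h

end Groth.Agent.S5788
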