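import Groth.Statements.S5805
import Mathlib
import Groth.Agent.S5804

set_option autoImplicit false
universe u
open CategoryTheory
open EGA41

namespace Groth.Agent.S5805

open CategoryTheory Abelian CategoryTheory.Limits

section
variable {A : Type u} [CommRing A]

theorem ext_mid_zero {X₁ X₂ X₃ : Type u} [AddCommGroup X₁] [Module A X₁] [AddCommGroup X₂]
    [Module A X₂] [AddCommGroup X₃] [Module A X₃] (f : X₁ →ₗ[A] X₂) (g : X₂ →ₗ[A] X₃)
    (hf : Function.Injective f) (hg : Function.Surjective g) (hfg : Function.Exact f g)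
    (L : ModuleCat.{u} A) (i : ℕ) (h1 : Subsingleton (Ext (ModuleCat.of A X₁) L i))
    (h3 : Subsingleton (Ext (ModuleCat.of A X₃) L i)) :
    Subsingleton (Ext (ModuleCat.of A X₂) L i) := by
  let S : ShortComplex (ModuleCat.{u} A) :=
    ShortComplex.mk (ModuleCat.ofHom f) (ModuleCat.ofHom g)
      (ModuleCat.hom_ext (LinearMap.ext fun y => hfg.apply_apply_eq_zero y))
  have hS : S.ShortExact := ModuleCat.shortComplex_shortExact S hfg hf hg
  refine ⟨fun a b => ?_⟩
  have key : ∀ z : Ext S.X₂ L i, z = 0 := by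
    intro z
    obtain ⟨z₃, hz₃⟩ := Ext.contravariant_sequence_exact₂ hS L z (Subsingleton.elim _ _)
    rw [← hz₃, Subsingleton.elim z₃ 0, Ext.comp_zero]
  exact (key a).trans (key b).symm

theorem ext_subsingleton_of_equiv₁ {X Y : Type u} [AddCommGroup X] [Module A X] [AddCommGroup Y]
    [Module A Y] (e : X ≃ₗ[A] Y) (L : ModuleCat.{u} A) (i : ℕ)
    (h : Subsingleton (Ext (ModuleCat.of A X) L i)) :
    Subsingleton (Ext (ModuleCat.of A Y) L i) := by
  refine ⟨fun a b => ?_⟩
  have key : ∀ z : Ext (ModuleCat.of A Y) L i, z = 0 := by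
    intro z
    have h1 : z = (Ext.mk₀ (ModuleCat.ofHom e.symm.toLinearMap)).comp
        ((Ext.mk₀ (ModuleCat.ofHom e.toLinearMap)).comp z (zero_add i)) (zero_add i) := by
      rw [← Ext.comp_assoc_of_second_deg_zero, Ext.mk₀_comp_mk₀]
      have : ModuleCat.ofHom e.symm.toLinearMap ≫ ModuleCat.ofHom e.toLinearMap =
          𝟙 (ModuleCat.of A Y) := by
        ext y
        simp
      rw [this, Ext.mk₀_id_comp]
    rw [h1, Subsingleton.elim ((Ext.mk₀ (ModuleCat.ofHom e.toLinearMap)).comp z (zero_add i)) 0,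
      Ext.comp_zero]
  rw [key a, key b]

theorem ext_subsingleton_of_subsingleton (X : Type u) [AddCommGroup X] [Module A X]
    [Subsingleton X] (L : ModuleCat.{u} A) (i : ℕ) :
    Subsingleton (Ext (ModuleCat.of A X) L i) := by
  have hz : IsZero (ModuleCat.of A X) := ModuleCat.isZero_of_subsingleton _
  refine ⟨fun a b => ?_⟩
  have key : ∀ z : Ext (ModuleCat.of A X) L i, z = 0 := by
    intro z
    rw [← Ext.mk₀_id_comp z, hz.eq_of_src (𝟙 _) 0, Ext.mk₀_zero, Ext.zero_comp]
  rw [key a, key b]

/-- prime filtration argument. -/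
theorem filt_lemma [IsNoetherianRing A] (L : ModuleCat.{u} A) (n : ℕ) (I : Ideal A)
    (hq : ∀ q : Ideal A, q.IsPrime → I ≤ q → ∀ i > n,
      Subsingleton (Ext (ModuleCat.of A (A ⧸ q)) L i))
    (N : Type u) [AddCommGroup N] [Module A N] [hN : Module.Finite A N] :
    (∀ a ∈ I, ∀ y : N, a • y = 0) → ∀ i > n, Subsingleton (Ext (ModuleCat.of A N) L i) := by
  induction hN using IsNoetherianRing.induction_on_isQuotientEquivQuotientPrime A with
  | subsingleton N =>
    intro _ i _
    exact ext_subsingleton_of_subsingleton N L i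
  | quotient N q e =>
    intro hk i hi
    have hIq : I ≤ q.1 := by
      intro a ha
      have h1 := hk a ha (e.symm (Ideal.Quotient.mk q.1 1))
      rw [← map_smul, LinearEquiv.map_eq_zero_iff] at h1
      rw [← Ideal.Quotient.eq_zero_iff_mem]
      rw [← Ideal.Quotient.mkₐ_eq_mk A, ← map_smul, Ideal.Quotient.mkₐ_eq_mk, smul_eq_mul,
        mul_one] at h1
      exact h1
    exact ext_subsingleton_of_equiv₁ e.symm L i (hq q.1 q.2 hIq i hi)
  | exact N₁ N₂ N₃ f g hf hg hfg ih1 ih3 =>
    intro hk i hi
    refine ext_mid_zero f g hf hg hfg L i (ih1 ?_ i hi) (ih3 ?_ i hi)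
    · intro a ha y
      apply hf
      rw [map_smul, map_zero]
      exact hk a ha _
    · intro a ha y
      obtain ⟨y, rfl⟩ := hg y
      rw [← map_smul, hk a ha, map_zero]

theorem ses_ideal (J' : Ideal A) (x : A) (hreg : IsSMulRegular (A ⧸ J') x) :
    ∃ (π : ModuleCat.of A (A ⧸ J') ⟶ ModuleCat.of A (A ⧸ (J' ⊔ Ideal.span {x})))
      (w : (x • 𝟙 (ModuleCat.of A (A ⧸ J'))) ≫ π = 0),
      (ShortComplex.mk (x • 𝟙 (ModuleCat.of A (A ⧸ J'))) π w).ShortExact := by
  have hle : J' ≤ J' ⊔ Ideal.span {x} := le_sup_left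
  have hx : x ∈ J' ⊔ Ideal.span {x} := Ideal.mem_sup_right (Ideal.mem_span_singleton_self x)
  have hex : Function.Exact (x • 𝟙 (ModuleCat.of A (A ⧸ J')) :
      ModuleCat.of A (A ⧸ J') ⟶ ModuleCat.of A (A ⧸ J')).hom
      (ModuleCat.ofHom (Submodule.factor hle) :
        ModuleCat.of A (A ⧸ J') ⟶ ModuleCat.of A (A ⧸ (J' ⊔ Ideal.span {x}))).hom := by
    intro y
    obtain ⟨a, rfl⟩ := Ideal.Quotient.mk_surjective y
    constructor
    · intro hy
      have h1 : Ideal.Quotient.mk (J' ⊔ Ideal.span {x}) a = 0 := hy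
      rw [Ideal.Quotient.eq_zero_iff_mem, Submodule.mem_sup] at h1
      obtain ⟨j, hj, s, hs, rfl⟩ := h1
      obtain ⟨c, rfl⟩ := Ideal.mem_span_singleton'.mp hs
      refine ⟨Ideal.Quotient.mk J' c, ?_⟩
      show x • Ideal.Quotient.mk J' c = Ideal.Quotient.mk J' (j + c * x)
      rw [map_add, Ideal.Quotient.eq_zero_iff_mem.mpr hj, zero_add, mul_comm, ← smul_eq_mul,
        ← Ideal.Quotient.mkₐ_eq_mk A, map_smul]
    · rintro ⟨z, hz⟩
      obtain ⟨c, rfl⟩ := Ideal.Quotient.mk_surjective z
      rw [← hz]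
      show (Submodule.factor hle) (x • Ideal.Quotient.mk J' c) = 0
      rw [map_smul]
      show x • Ideal.Quotient.mk (J' ⊔ Ideal.span {x}) c = 0
      rw [← Ideal.Quotient.mkₐ_eq_mk A, ← map_smul, Ideal.Quotient.mkₐ_eq_mk,
        Ideal.Quotient.eq_zero_iff_mem, smul_eq_mul]
      exact Ideal.mul_mem_right _ _ hx
  have hsurj : Function.Surjective (ModuleCat.ofHom (Submodule.factor hle) :
      ModuleCat.of A (A ⧸ J') ⟶ ModuleCat.of A (A ⧸ (J' ⊔ Ideal.span {x}))).hom := by
    intro y
    obtain ⟨a, rfl⟩ := Ideal.Quotient.mk_surjective y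
    exact ⟨Ideal.Quotient.mk J' a, rfl⟩
  have w : (x • 𝟙 (ModuleCat.of A (A ⧸ J'))) ≫ (ModuleCat.ofHom (Submodule.factor hle) :
      ModuleCat.of A (A ⧸ J') ⟶ ModuleCat.of A (A ⧸ (J' ⊔ Ideal.span {x}))) = 0 :=
    ModuleCat.hom_ext (LinearMap.ext fun y => hex.apply_apply_eq_zero y)
  exact ⟨_, w, ModuleCat.shortComplex_shortExact _ hex hreg hsurj⟩

theorem step1 [IsNoetherianRing A] [IsLocalRing A] (n : ℕ)
    (hk : HasProjectiveDimensionLT (ModuleCat.of A (IsLocalRing.ResidueField A)) (n + 1))
    (L : ModuleCat.{u} A) [Module.Finite A L] :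
    ∀ p : Ideal A, p.IsPrime → ∀ i > n, Subsingleton (Ext (ModuleCat.of A (A ⧸ p)) L i) := by
  intro p
  induction p using IsNoetherian.induction with
  | hgt p ih =>
    intro hp i hi
    by_cases hpm : p = IsLocalRing.maximalIdeal A
    · subst hpm
      have e : IsLocalRing.ResidueField A ≃ₗ[A] (A ⧸ IsLocalRing.maximalIdeal A) :=
        { toFun := id
          invFun := id
          map_add' := fun _ _ => rfl
          map_smul' := fun a y => by
            obtain ⟨y, rfl⟩ := Ideal.Quotient.mk_surjective y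
            rfl
          left_inv := fun _ => rfl
          right_inv := fun _ => rfl }
      exact ext_subsingleton_of_equiv₁ e L i
        (HasProjectiveDimensionLT.subsingleton _ (n + 1) i (by omega) L)
    · have hlt : p < IsLocalRing.maximalIdeal A :=
        lt_of_le_of_ne (IsLocalRing.le_maximalIdeal hp.ne_top) hpm
      obtain ⟨x, hxm, hxp⟩ := SetLike.exists_of_lt hlt
      have hreg : IsSMulRegular (A ⧸ p) x := by
        intro a b hab
        obtain ⟨a, rfl⟩ := Ideal.Quotient.mk_surjective a
        obtain ⟨b, rfl⟩ := Ideal.Quotient.mk_surjective b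
        have h1 : Ideal.Quotient.mk p (x * (a - b)) = 0 := by
          have h2 : x • Ideal.Quotient.mk p a - x • Ideal.Quotient.mk p b = 0 :=
            sub_eq_zero.mpr hab
          rw [← smul_sub, ← map_sub, ← Ideal.Quotient.mkₐ_eq_mk A, ← map_smul,
            Ideal.Quotient.mkₐ_eq_mk, smul_eq_mul] at h2
          exact h2
        rw [Ideal.Quotient.eq_zero_iff_mem] at h1
        have h3 := (hp.mem_or_mem h1).resolve_left hxp
        rw [← sub_eq_zero, ← map_sub, Ideal.Quotient.eq_zero_iff_mem]
        exact h3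
      obtain ⟨π, w, hS⟩ := ses_ideal p x hreg
      have hN' : ∀ j > n, Subsingleton
          (Ext (ModuleCat.of A (A ⧸ (p ⊔ Ideal.span {x}))) L j) := by
        refine filt_lemma L n (p ⊔ Ideal.span {x}) ?_ (A ⧸ (p ⊔ Ideal.span {x})) ?_
        · intro q hq hle j hj
          have hpq : p < q := by
            refine lt_of_le_of_ne (le_trans le_sup_left hle) ?_
            rintro rfl
            exact hxp (hle (Ideal.mem_sup_right (Ideal.mem_span_singleton_self x)))
          exact ih q hpq hq j hj
        · intro a ha y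
          obtain ⟨y, rfl⟩ := Ideal.Quotient.mk_surjective y
          rw [← Ideal.Quotient.mkₐ_eq_mk A, ← map_smul, Ideal.Quotient.mkₐ_eq_mk,
            Ideal.Quotient.eq_zero_iff_mem, smul_eq_mul]
          exact Ideal.mul_mem_right _ _ ha
      have htop : (⊤ : Submodule A (Ext (ModuleCat.of A (A ⧸ p)) L i)) ≤
          Ideal.span {x} • ⊤ := by
        intro z _
        haveI := hN' (i + 1) (by omega)
        obtain ⟨z₂, hz₂⟩ := Ext.contravariant_sequence_exact₁ hS L z (add_comm 1 i)
          (Subsingleton.elim _ _)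
        have h4 : x • z₂ = z := by
          rw [← hz₂]
          show x • z₂ = (Ext.mk₀ (x • 𝟙 _)).comp z₂ _
          rw [Ext.mk₀_smul, Ext.smul_comp, Ext.mk₀_id_comp]
        rw [← h4]
        exact Submodule.smul_mem_smul (Ideal.mem_span_singleton_self x) Submodule.mem_top
      have hbot := Submodule.eq_bot_of_le_smul_of_le_jacobson_bot (Ideal.span {x}) _
        (Module.Finite.fg_top) htop (by
          rw [IsLocalRing.jacobson_eq_maximalIdeal ⊥ bot_ne_top, Ideal.span_le]
          simpa using hxm)
      exact ⟨fun a b => by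
        have ha : a ∈ (⊤ : Submodule A _) := Submodule.mem_top
        have hb : b ∈ (⊤ : Submodule A _) := Submodule.mem_top
        rw [hbot, Submodule.mem_bot] at ha hb
        rw [ha, hb]⟩

end

/-- Let A be a Noetherian local ring with residue field k and n ≥ 0. Then the global dimension of A is
at most n as soon as the projective dimension of the A-module k is at most n: every A-module then
has projective dimension at most n. (The published statement phrases the criterion through the
vanishing of Tor^A_{n+1}(k, k), to which dim.proj_A(k) ≤ n is equivalent for finitely generated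
modules over a Noetherian local ring; this row states the projective-dimension form that the
published proof establishes.) -/
theorem result (A : Type u) [CommRing A] [IsLocalRing A]
    [IsNoetherianRing A] (n : ℕ)
    (hk : HasProjectiveDimensionLT (ModuleCat.of A (IsLocalRing.ResidueField A)) (n + 1)) (M : Type u)
    [AddCommGroup M] [Module A M] : HasProjectiveDimensionLT (ModuleCat.of A M) (n + 1) := by
  apply Groth.Agent.S5804.result A n
  intro I
  refine ModuleCat.hasProjectiveDimensionLT_of_forall_finite (ModuleCat.of A (A ⧸ I)) (n + 1) ?_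
  intro L hL
  refine filt_lemma L n ⊥ ?_ (A ⧸ I) ?_ (n + 1) (by omega)
  · intro q hq _ i hi
    exact step1 n hk L q hq i hi
  · intro a ha y
    rw [Ideal.mem_bot] at ha
    rw [ha, zero_smul]

end Groth.Agent.S5805
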