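import Groth.Statements.S0563
import Mathlib
import Groth.Agent.S5805
import Groth.Agent.Lib.Helper5RLR3

set_option autoImplicit false
universe u
open CategoryTheory
open CAlg

namespace Groth.Agent.S0563

open CategoryTheory Abelian

/-- Over a regular local ring R of Krull dimension d, every R-module has projective dimension at most d
(encoded as `HasProjectiveDimensionLT _ (d + 1)`). -/
theorem result (R : Type u) [CommRing R]
    [IsRegularLocalRing R] (d : ℕ) (hd : ringKrullDim R = d) (M : Type u) [AddCommGroup M]
    [Module R M] : HasProjectiveDimensionLT (ModuleCat.of R M) (d + 1) := by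
  have hNoeth : IsNoetherianRing R := inferInstance
  obtain ⟨rs, hlen, hrs, hreg⟩ := Groth.Agent.Lib.Helper5.exists_isRegular_ofList_eq_maximalIdeal R
  have hdl : rs.length = d := by
    rw [hd] at hlen
    exact_mod_cast hlen.symm
  have hmem : ∀ r ∈ rs, r ∈ IsLocalRing.maximalIdeal R := by
    intro r hr
    rw [← hrs]
    exact Ideal.subset_span hr
  have h1 := ModuleCat.projectiveDimension_quotient_eq_add_length_of_isWeaklyRegular
    (ModuleCat.of R R) rs hreg.toIsWeaklyRegular hmem
  have h0 : projectiveDimension (ModuleCat.of R R) = 0 := by
    haveI : Projective (ModuleCat.of R R) :=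
      (ModuleCat.of R R).projective_of_categoryTheory_projective
    exact ModuleCat.projectiveDimension_eq_zero_of_projective (ModuleCat.of R R)
  rw [h0, zero_add] at h1
  have heq : (Ideal.ofList rs • ⊤ : Submodule R R) = IsLocalRing.maximalIdeal R := by
    rw [smul_eq_mul, Ideal.mul_top, hrs]
  have e : (R ⧸ (Ideal.ofList rs • ⊤ : Submodule R R)) ≃ₗ[R] IsLocalRing.ResidueField R :=
    (Submodule.quotEquivOfEq _ _ heq).trans
      { toFun := id
        invFun := id
        map_add' := fun _ _ => rfl
        map_smul' := fun a y => by
          obtain ⟨y, rfl⟩ := Ideal.Quotient.mk_surjective y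
          rfl
        left_inv := fun _ => rfl
        right_inv := fun _ => rfl }
  rw [projectiveDimension_eq_of_iso e.toModuleIso] at h1
  have hk : HasProjectiveDimensionLT (ModuleCat.of R (IsLocalRing.ResidueField R)) (d + 1) := by
    have : projectiveDimension (ModuleCat.of R (IsLocalRing.ResidueField R)) ≤ (d : ℕ) := by
      rw [h1, hdl]
    exact (projectiveDimension_le_iff _ d).mp this
  exact Groth.Agent.S5805.result R d hk M

end Groth.Agent.S0563
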