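import Groth.Statements.S2035
import Groth.Agent.Lib.Helper19FSLocalField

set_option autoImplicit false
universe u
open CAlg

namespace Groth.Agent.S2035

/-- Let `k` be a field of characteristic zero and `A` a Noetherian local `k`-algebra. Then `A` is a
regular local ring if and only if `k → A` is formally smooth for the adic topology of the maximal
ideal. -/
theorem result {k A : Type u} [Field k] [CharZero k]
    [CommRing A] [IsLocalRing A] [IsNoetherianRing A] [Algebra k A] :
    IsRegularLocalRing A ↔ CAlgX.IsAdicFormallySmooth k A (IsLocalRing.maximalIdeal A) := by
  have hfs : Algebra.FormallySmooth k (IsLocalRing.ResidueField A) := by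
    obtain ⟨ι, x, hx⟩ := exists_isTranscendenceBasis' k (IsLocalRing.ResidueField A)
    have halg := hx.isAlgebraic_field
    have : Algebra.IsSeparable (IntermediateField.adjoin k (Set.range x))
      (IsLocalRing.ResidueField A) := inferInstance
    exact Algebra.FormallySmooth.of_algebraicIndependent_of_isSeparable hx.1
  have : Algebra.IsGeometricallyReduced k (IsLocalRing.ResidueField A) :=
    Groth.Agent.Lib.Helper19.PBasis.formallySmooth_field_iff.1 hfs
  exact (Groth.Agent.Lib.Helper19.FSLocalField.tfae_formallySmoothAdic_local_algebra_over_field
    (k := k) (A := A)).out 3 0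

end Groth.Agent.S2035
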