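import Groth.Statements.S9297
import Mathlib
import Groth.Agent.Lib.Helper28Equidim
import Groth.Agent.Lib.Helper28DepthFlat3
-- import your own Groth.Agent.* helpers here

set_option autoImplicit false
universe u
open EGA4

namespace Groth.Agent.S9297
open Groth.Agent.Lib.Helper28

theorem ringKrullDim_quotient_eq_coheight {R : Type u} [CommRing R] (p : PrimeSpectrum R) :
    ringKrullDim (R ⧸ p.asIdeal) = ((Order.coheight p : ℕ∞) : WithBot ℕ∞) := by
  rw [ringKrullDim_quotient, Order.coheight_eq_krullDim_Ici]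
  have : PrimeSpectrum.zeroLocus (p.asIdeal : Set R) = Set.Ici p := by
    ext q
    rw [PrimeSpectrum.mem_zeroLocus, Set.mem_Ici, SetLike.coe_subset_coe,
      PrimeSpectrum.asIdeal_le_asIdeal]
  rw [this]

theorem exists_minimalPrimes_ringKrullDim_quotient_eq (R : Type u) [CommRing R]
    [IsNoetherianRing R] [Nontrivial R] :
    ∃ q ∈ minimalPrimes R, ringKrullDim (R ⧸ q) = ringKrullDim R := by
  classical
  have hfin : (minimalPrimes R).Finite := minimalPrimes.finite_of_isNoetherianRing R
  have hne : (minimalPrimes R).Nonempty := by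
    obtain ⟨m, hm⟩ := Ideal.exists_maximal R
    obtain ⟨q, hq, -⟩ := Ideal.exists_minimalPrimes_le (I := ⊥) (J := m) bot_le
    exact ⟨q, hq⟩
  let f : Ideal R → WithBot ℕ∞ := fun q => ringKrullDim (R ⧸ q)
  obtain ⟨q0, hq0, hmax⟩ := Set.exists_max_image (minimalPrimes R) f hfin hne
  refine ⟨q0, hq0, le_antisymm (ringKrullDim_quotient_le q0) ?_⟩
  rw [ringKrullDim, Order.krullDim_eq_iSup_coheight]
  apply iSup_le
  intro p
  obtain ⟨q, hq, hqp⟩ := Ideal.exists_minimalPrimes_le (I := ⊥) (J := p.asIdeal) bot_le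
  have hqprime : q.IsPrime := hq.1.1
  have h1 : Order.coheight p ≤ Order.coheight (⟨q, hqprime⟩ : PrimeSpectrum R) :=
    Order.coheight_anti (show (⟨q, hqprime⟩ : PrimeSpectrum R) ≤ p from hqp)
  calc ((Order.coheight p : ℕ∞) : WithBot ℕ∞)
      ≤ ((Order.coheight (⟨q, hqprime⟩ : PrimeSpectrum R) : ℕ∞) : WithBot ℕ∞) :=
        WithBot.coe_le_coe.mpr h1
    _ = ringKrullDim (R ⧸ q) := (ringKrullDim_quotient_eq_coheight ⟨q, hqprime⟩).symm
    _ ≤ ringKrullDim (R ⧸ q0) := hmax q hq

theorem withBot_enat_add_left_cancel (n : ℕ) {a b : WithBot ℕ∞}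
    (h : ((n : ℕ∞) : WithBot ℕ∞) + a = ((n : ℕ∞) : WithBot ℕ∞) + b) : a = b := by
  induction a with
  | bot =>
    induction b with
    | bot => rfl
    | coe b =>
      rw [WithBot.add_bot] at h
      exact absurd h.symm (by rw [← WithBot.coe_add]; exact WithBot.coe_ne_bot)
  | coe a =>
    induction b with
    | bot =>
      rw [WithBot.add_bot] at h
      exact absurd h (by rw [← WithBot.coe_add]; exact WithBot.coe_ne_bot)
    | coe b =>
      rw [← WithBot.coe_add, ← WithBot.coe_add, WithBot.coe_inj, add_comm _ a, add_comm _ b] at h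
      rw [ENat.add_left_injective_of_ne_top (ENat.natCast_ne_top n) h]

/-- Let A → B be a flat local homomorphism of Noetherian local rings with B catenary and Spec(B)
equidimensional. Then Spec(B/pB) is equidimensional for every prime p of A. -/
theorem result (A B : Type u) [CommRing A] [CommRing B]
    [IsNoetherianRing A] [IsNoetherianRing B] [IsLocalRing A] [IsLocalRing B] [Algebra A B]
    [IsLocalHom (algebraMap A B)] [Module.Flat A B] (hcat : CAlg.IsCatenary B) (heq : EGA4.IsEquidim B)
    (p : Ideal A) [p.IsPrime] : EGA4.IsEquidim (B ⧸ Ideal.map (algebraMap A B) p) := by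
  have hI : p.map (algebraMap A B) ≠ ⊤ := by
    intro h
    have hle : p.map (algebraMap A B) ≤ IsLocalRing.maximalIdeal B := by
      rw [Ideal.map_le_iff_le_comap, IsLocalRing.maximalIdeal_comap]
      exact IsLocalRing.le_maximalIdeal (Ideal.IsPrime.ne_top inferInstance)
    rw [h] at hle
    exact (IsLocalRing.maximalIdeal.isMaximal B).ne_top (top_le_iff.mp hle)
  have hnt : Nontrivial (B ⧸ p.map (algebraMap A B)) := Ideal.Quotient.nontrivial_iff.2 hI
  obtain ⟨n, hn⟩ := ENat.ne_top_iff_exists.mp (Ideal.height_ne_top_of_isPrime (I := p))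
  have key : ∀ Q' ∈ minimalPrimes (B ⧸ p.map (algebraMap A B)),
      ((n : ℕ∞) : WithBot ℕ∞) + ringKrullDim ((B ⧸ p.map (algebraMap A B)) ⧸ Q') =
        ringKrullDim B := by
    intro Q' hQ'
    have hQ'prime : Q'.IsPrime := hQ'.1.1
    have hQmin : Q'.comap (Ideal.Quotient.mk (p.map (algebraMap A B))) ∈
        (p.map (algebraMap A B)).minimalPrimes := by
      rw [Ideal.minimalPrimes_eq_comap]
      exact ⟨Q', hQ', rfl⟩
    have hht := (depth_height_localization_eq_of_mem_minimalPrimes_map p _ hQmin).2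
    have h1 := height_add_ringKrullDim_quotient_eq_of_isEquidim heq hcat
      (Q'.comap (Ideal.Quotient.mk (p.map (algebraMap A B))))
    rw [hht, ← hn] at h1
    rw [← h1]
    congr 1
    have hsurj : Function.Surjective ((Ideal.Quotient.mk Q').comp
        (Ideal.Quotient.mk (p.map (algebraMap A B)))) :=
      Ideal.Quotient.mk_surjective.comp Ideal.Quotient.mk_surjective
    have hker : RingHom.ker ((Ideal.Quotient.mk Q').comp
        (Ideal.Quotient.mk (p.map (algebraMap A B)))) =
        Q'.comap (Ideal.Quotient.mk (p.map (algebraMap A B))) := by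
      rw [← RingHom.comap_ker, Ideal.mk_ker]
    exact (ringKrullDim_eq_of_ringEquiv
      ((Ideal.quotEquivOfEq hker.symm).trans
        (RingHom.quotientKerEquivOfSurjective hsurj))).symm
  intro Q' hQ'
  obtain ⟨q0, hq0, h0⟩ := exists_minimalPrimes_ringKrullDim_quotient_eq
    (B ⧸ p.map (algebraMap A B))
  rw [← h0]
  exact withBot_enat_add_left_cancel n ((key Q' hQ').trans (key q0 hq0).symm)

end Groth.Agent.S9297
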