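import Groth.Statements.S4704
import Mathlib
import Groth.Agent.Lib.Helper28GeomFibre3
-- import your own Groth.Agent.* helpers here

set_option autoImplicit false
universe u
open EGA4

namespace Groth.Agent.S4704
open Groth.Agent.Lib.Helper28 IsLocalRing TensorProduct

/-- Let A → A' be a local homomorphism of Noetherian local rings which is regular (flat, with
geometrically regular fibres). If the completion map of A' is regular (the formal fibres of A' are
geometrically regular), then the completion map of A is regular. -/
theorem result (A A' : Type u) [CommRing A] [CommRing A'] [IsNoetherianRing A]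
    [IsNoetherianRing A'] [IsLocalRing A] [IsLocalRing A'] [Algebra A A'] [IsLocalHom (algebraMap A A')]
    (hf : CAlg.IsRegularHom A A') (hA' : CAlg.IsRegularHom A' (EGA4.Cpl A')) :
    CAlg.IsRegularHom A (EGA4.Cpl A) := by
  have hflat := hf.1
  have hflat' := hA'.1
  refine ⟨inferInstance, fun p _ => ⟨isNoetherianRing_fiber p, ?_⟩⟩
  intro k' _ _ hfin
  exact formalFibre_property_of_flat_local A A' (fun R _ => IsRegularRing R)
    (fun R S _ _ e h => IsRegularRing.of_ringEquiv (R := R) e)
    (fun R' _ _ _ _ _ h => isRegularRing_tensorProduct_of_quasiFinite (fun q _ => (hA'.2 q).2))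
    (fun R' T _ _ _ _ _ _ h => isRegularRing_of_faithfullyFlat (R := R') (S := T))
    p k' ((hf.2 p).2 k' hfin)

end Groth.Agent.S4704
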