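import Groth.Statements.S9408
import Mathlib
import Groth.Agent.Lib.Helper6SmReg
-- import your own Groth.Agent.* helpers here

set_option autoImplicit false
universe u
open CAlg

namespace Groth.Agent.S9408
open Groth.Agent.Lib.Helper28 TensorProduct

open TensorProduct in
/-- smooth over a regular ring is regular. -/
theorem isRegularRing_of_smooth (A B : Type u) [CommRing A] [CommRing B] [Algebra A B]
    [IsRegularRing A] [Algebra.Smooth A B] : IsRegularRing B := by
  have : Algebra.FinitePresentation A B := inferInstance
  have : IsNoetherianRing B := Algebra.FiniteType.isNoetherianRing A B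
  rw [isRegularRing_iff]
  intro q hq
  have : Algebra.IsSmoothAt A q := inferInstance
  exact Groth.Agent.Lib.Helper6.SmReg.isRegularLocalRing_of_isSmoothAt (R := A) q

open TensorProduct in
theorem smooth_tensor_right (k A B k' : Type u) [Field k] [CommRing A] [CommRing B] [Field k']
    [Algebra k A] [Algebra k B] [Algebra A B] [IsScalarTower k A B] [Algebra k k']
    [Algebra.Smooth A B] :
    @Algebra.Smooth (A ⊗[k] k') _ (B ⊗[k] k') _
      (Algebra.TensorProduct.map (IsScalarTower.toAlgHom k A B) (AlgHom.id k k')).toRingHom.toAlgebra := by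
  let alg : Algebra (A ⊗[k] k') (B ⊗[k] k') :=
    (Algebra.TensorProduct.map (IsScalarTower.toAlgHom k A B) (AlgHom.id k k')).toRingHom.toAlgebra
  have hst : IsScalarTower A (A ⊗[k] k') (B ⊗[k] k') := by
    refine IsScalarTower.of_algebraMap_eq' ?_
    ext a
    simp [RingHom.algebraMap_toAlgebra, Algebra.TensorProduct.algebraMap_apply]
  have hpo : Algebra.IsPushout A B (A ⊗[k] k') (B ⊗[k] k') := by
    apply Algebra.IsPushout.tensorProduct_tensorProduct k k' A B
    ext x
    simp [RingHom.algebraMap_toAlgebra]
  have hpo' : Algebra.IsPushout A (A ⊗[k] k') B (B ⊗[k] k') := hpo.symm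
  exact Algebra.Smooth.of_equiv (Algebra.IsPushout.equiv A (A ⊗[k] k') B (B ⊗[k] k'))

/-- Over a field k, geometric regularity ascends along smooth maps of k-algebras: for A Noetherian and
geometrically regular over k and B smooth over A, B is geometrically regular over k. -/
theorem result (k : Type u) [Field k] (A : Type u) [CommRing A]
    [Algebra k A] [IsNoetherianRing A] (B : Type u) [CommRing B] [Algebra k B] [Algebra A B]
    [IsScalarTower k A B] [Algebra.Smooth A B] (hA : CAlg.IsGeometricallyRegular k A) :
    CAlg.IsGeometricallyRegular k B := by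
  intro k' _ _ hfin
  have h0 : IsRegularRing (k' ⊗[k] A) := hA k' hfin
  have h1 : IsRegularRing (A ⊗[k] k') :=
    IsRegularRing.of_ringEquiv (R := k' ⊗[k] A) (Algebra.TensorProduct.comm k k' A).toRingEquiv
  let alg : Algebra (A ⊗[k] k') (B ⊗[k] k') :=
    (Algebra.TensorProduct.map (IsScalarTower.toAlgHom k A B) (AlgHom.id k k')).toRingHom.toAlgebra
  have hsm : Algebra.Smooth (A ⊗[k] k') (B ⊗[k] k') := smooth_tensor_right k A B k'
  have h2 : IsRegularRing (B ⊗[k] k') := isRegularRing_of_smooth (A ⊗[k] k') (B ⊗[k] k')
  exact IsRegularRing.of_ringEquiv (R := B ⊗[k] k') (Algebra.TensorProduct.comm k B k').toRingEquiv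

end Groth.Agent.S9408
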