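import Groth.Statements.S9431
import Groth.Agent.Lib.Helper12SepGen
import Mathlib.RingTheory.Smooth.Locus
import Mathlib.FieldTheory.IntermediateField.Adjoin.Algebra

set_option autoImplicit false
universe u
open CAlg

namespace Groth.Agent.S9431


open scoped IntermediateField.algebraAdjoinAdjoin in
theorem aux (k : Type u) [Field k]
    (K : Type u) [Field K] [Algebra k K] [Algebra.IsGeometricallyReduced k K] (E : Finset K) :
    ∃ A : Subalgebra k K, (↑E : Set K) ⊆ (A : Set K) ∧ Algebra.Smooth k A := by
  classical
  let L := IntermediateField.adjoin k (E : Set K)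
  let A0 := Algebra.adjoin k (E : Set K)
  have hft : Algebra.FiniteType k A0 := .adjoin_of_finite E.finite_toSet
  have hfp : Algebra.FinitePresentation k A0 := Algebra.FinitePresentation.of_finiteType.mp hft
  have : Algebra.EssFiniteType A0 L := .of_isLocalization _ (nonZeroDivisors _)
  have : Algebra.EssFiniteType k L := .comp _ A0 _
  have : Algebra.IsGeometricallyReduced k L :=
    Algebra.IsGeometricallyReduced.of_injective L.val L.val.injective
  have hL : Algebra.FormallySmooth k L := Groth.Agent.Lib.Helper12.SepGen.formallySmooth k L
  -- generic point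
  have hbot : (⊥ : PrimeSpectrum A0) ∈ Algebra.smoothLocus k A0 := by
    change Algebra.FormallySmooth k (Localization.AtPrime (⊥ : Ideal A0))
    have hM : (⊥ : Ideal A0).primeCompl = nonZeroDivisors A0 := by
      ext x
      simp [Ideal.primeCompl, mem_nonZeroDivisors_iff_ne_zero]
    have : IsLocalization (⊥ : Ideal A0).primeCompl L := by
      rw [hM]; infer_instance
    let e : Localization.AtPrime (⊥ : Ideal A0) ≃ₐ[A0] L :=
      IsLocalization.algEquiv (⊥ : Ideal A0).primeCompl _ _
    exact Algebra.FormallySmooth.of_equiv (e.restrictScalars k).symm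
  obtain ⟨_, ⟨_, ⟨g, rfl⟩, rfl⟩, hbg, hg⟩ :=
    PrimeSpectrum.isBasis_basic_opens.exists_subset_of_mem_open hbot Algebra.isOpen_smoothLocus
  have hsm : Algebra.Smooth k (Localization.Away g) :=
    Algebra.basicOpen_subset_smoothLocus_iff_smooth.mp hg
  have hg0 : g ≠ 0 := by
    intro h
    apply hbg
    change g ∈ (⊥ : Ideal A0)
    rw [h]; exact Submodule.zero_mem _
  have hunit : ∀ y : Submonoid.powers g, IsUnit (A0.val (y : A0)) := by
    rintro ⟨_, n, rfl⟩
    rw [map_pow]
    apply IsUnit.pow
    rw [isUnit_iff_ne_zero]
    intro h0
    exact hg0 (Subtype.ext h0)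
  let φ : Localization.Away g →ₐ[k] K := IsLocalization.liftAlgHom (M := Submonoid.powers g)
    (f := A0.val) hunit
  have hφinj : Function.Injective φ := by
    change Function.Injective (IsLocalization.lift (M := Submonoid.powers g) (g := A0.val.toRingHom) hunit)
    rw [IsLocalization.lift_injective_iff]
    intro x y
    have h1 : Function.Injective (algebraMap A0 (Localization.Away g)) :=
      IsLocalization.injective _ (powers_le_nonZeroDivisors_of_noZeroDivisors hg0)
    constructor
    · intro h; rw [h1 h]
    · intro h; rw [Subtype.val_injective h]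
  refine ⟨φ.range, ?_, ?_⟩
  · intro x hx
    refine ⟨algebraMap A0 (Localization.Away g) ⟨x, Algebra.subset_adjoin hx⟩, ?_⟩
    change IsLocalization.lift (M := Submonoid.powers g) (g := A0.val.toRingHom) hunit _ = x
    rw [IsLocalization.lift_eq]
    rfl
  · exact Algebra.Smooth.of_equiv (AlgEquiv.ofInjective φ hφinj)



/-- For a separable (geometrically reduced) field extension K/k, every finite subset of K lies in a
k-subalgebra of K which is smooth over k; in particular K is a filtered colimit of smooth
k-algebras. -/
theorem result (k : Type u) [Field k]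
    (K : Type u) [Field K] [Algebra k K] [Algebra.IsGeometricallyReduced k K] (E : Finset K) :
    ∃ A : Subalgebra k K, (↑E : Set K) ⊆ (A : Set K) ∧ Algebra.Smooth k A := by
  exact aux k K E

end Groth.Agent.S9431
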