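import Groth.Statements.S17537
-- import your own Groth.Agent.* helpers here

set_option autoImplicit false
universe u v
open CAlg

namespace Groth.Agent.S17537

open AdicCompletion Submodule in
theorem aux {A : Type u} [CommRing A] (I : Ideal A)
    (M : Type v) [AddCommGroup M] [Module A M] :
    IsAdicComplete I (AdicCompletion I M) ↔
      ∀ (n : ℕ) (x : AdicCompletion I M), ∃ y : M,
        x - AdicCompletion.of I M y ∈ (I ^ n • ⊤ : Submodule A (AdicCompletion I M)) := by
  have hof : ∀ (n : ℕ) (y : M), y ∈ (I ^ n • ⊤ : Submodule A M) →
      of I M y ∈ (I ^ n • ⊤ : Submodule A (AdicCompletion I M)) := by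
    intro n y hy
    have h2 : (I ^ n • ⊤ : Submodule A M).map (of I M) ≤ I ^ n • ⊤ := by
      rw [Submodule.map_smul'']
      exact Submodule.smul_mono le_rfl le_top
    exact h2 (Submodule.mem_map_of_mem hy)
  constructor
  · intro hc n x
    obtain ⟨f, rfl⟩ := mk_surjective I M x
    have hcau : ∀ {m n : ℕ}, m ≤ n → of I M (f m) ≡ of I M (f n)
        [SMOD (I ^ m • ⊤ : Submodule A (AdicCompletion I M))] := by
      intro m n hmn
      rw [SModEq.sub_mem, ← map_sub]
      apply hof
      rw [← SModEq.sub_mem]
      exact f.property hmn
    obtain ⟨L, hL⟩ := hc.toIsPrecomplete.prec hcau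
    have hLx : L = AdicCompletion.mk I M f := by
      ext k
      have h1 := hL k
      rw [SModEq.sub_mem] at h1
      have h2 := pow_smul_top_le_ker_eval (I := I) (M := M) k h1
      rw [LinearMap.mem_ker, map_sub, sub_eq_zero, eval_apply, eval_apply] at h2
      rw [← h2]
      rfl
    refine ⟨f n, ?_⟩
    have h1 := hL n
    rw [SModEq.sub_mem] at h1
    rw [← hLx]
    have : L - of I M (f n) = -(of I M (f n) - L) := by abel
    rw [this]
    exact Submodule.neg_mem _ h1
  · intro H
    have hker : ∀ n : ℕ, (eval I M n).ker ≤ (I ^ n • ⊤ : Submodule A (AdicCompletion I M)) := by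
      intro n z hz
      obtain ⟨y, hy⟩ := H n z
      have h1 := pow_smul_top_le_ker_eval (I := I) (M := M) n hy
      rw [LinearMap.mem_ker] at hz h1
      rw [map_sub, hz, zero_sub, neg_eq_zero, eval_of, mkQ_apply, Quotient.mk_eq_zero] at h1
      have h2 := hof n y h1
      have : z = (z - of I M y) + of I M y := by abel
      rw [this]
      exact Submodule.add_mem _ hy h2
    have heq : ∀ n : ℕ, (I ^ n • ⊤ : Submodule A (AdicCompletion I M)) = (eval I M n).ker :=
      fun n => le_antisymm (pow_smul_top_le_ker_eval (I := I) (M := M) n) (hker n)
    exact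
      { prec' := fun x hx => by
          let L : AdicCompletion I M := {
            val i := (x i).val i
            property {m n} h' := by
              simp only [transitionMap_comp_eval_apply]
              specialize hx h'
              rwa [SModEq.sub_mem, heq, LinearMap.mem_ker, _root_.map_sub,
                sub_eq_zero, eval_apply, eval_apply, eq_comm] at hx
          }
          use L; intro i
          rw [SModEq.sub_mem, heq, LinearMap.mem_ker, map_sub, sub_eq_zero, eval_apply, eval_apply] }


/-- For a commutative ring A, an ideal I and an A-module M, the I-adic completion M^ of M is itself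
I-adically complete if and only if, for every n, every element of M^ is congruent modulo I^n M^ to
the image of an element of M (the maps M/I^n M → M^/I^n M^ are surjective). -/
theorem result {A : Type u} [CommRing A] (I : Ideal A)
    (M : Type v) [AddCommGroup M] [Module A M] :
    IsAdicComplete I (AdicCompletion I M) ↔
      ∀ (n : ℕ) (x : AdicCompletion I M), ∃ y : M,
        x - AdicCompletion.of I M y ∈ (I ^ n • ⊤ : Submodule A (AdicCompletion I M)) := by
  exact aux I M

end Groth.Agent.S17537
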