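import Groth.Statements.S2093
import Mathlib
import Groth.Agent.Lib.Helper28FlatNormal
import Groth.Agent.Lib.Helper28DepthDom
import Groth.Agent.Lib.Helper28Serre
import Groth.Agent.Lib.Helper5RLR
import Groth.Agent.Lib.Helper5Depth
import Groth.Agent.Lib.Helper28ComplQuot
import Groth.Agent.Lib.Helper28ComplAss
import Groth.Agent.Lib.Helper19ComplNoeth
-- import your own Groth.Agent.* helpers here

set_option autoImplicit false
universe u
open CAlg

namespace Groth.Agent.S2093
open Groth.Agent.Lib.Helper28 IsLocalRing TensorProduct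

open Groth.Agent.Lib.Helper28 IsLocalRing TensorProduct in
/-- Flat `R → S`, `x` regular on `R`, `q ∈ Ass_S(S/xS)`: then `q ∩ R ∈ Ass_R(R/xR)` and the
fibre local ring at `q` has depth zero. -/
theorem mem_associatedPrimes_and_depth_fib_eq_zero {R S : Type u} [CommRing R] [CommRing S]
    [IsNoetherianRing R] [IsNoetherianRing S] [Algebra R S] [Module.Flat R S] (x : R)
    (hreg : IsSMulRegular R x) (q : Ideal S) [q.IsPrime]
    (hq : q ∈ associatedPrimes S (S ⧸ Ideal.span {algebraMap R S x}))
    [IsLocalRing (EGA4.FibLocRing R S q)] :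
    q.comap (algebraMap R S) ∈ associatedPrimes R (R ⧸ Ideal.span {x}) ∧
      LocCoh.depth (EGA4.FibLocRing R S q) (EGA4.FibLocRing R S q) = 0 := by
  have hreg' : IsSMulRegular S (algebraMap R S x) := hreg.of_flat
  have hxq : algebraMap R S x ∈ q := mem_of_mem_associatedPrimes_quotient_span_singleton hq
  have hxp : x ∈ q.comap (algebraMap R S) := hxq
  obtain ⟨h1, -⟩ := localization_quotient_span_singleton_add_one q hxq hreg'
  have h0 := (depth_localization_eq_zero_iff (M := S ⧸ Ideal.span {algebraMap R S x}) q).mpr hq
  rw [h0, zero_add] at h1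
  obtain ⟨h2, -⟩ := localization_quotient_span_singleton_add_one (q.comap (algebraMap R S)) hxp hreg
  have h3 := depth_localization_eq_add_fibLocRing (A := R) q
  rw [← h1, ← h2] at h3
  -- 1 = (d + 1) + f
  have hd : LocCoh.depth (Localization.AtPrime (q.comap (algebraMap R S)))
      (LocalizedModule (q.comap (algebraMap R S)).primeCompl (R ⧸ Ideal.span {x})) = 0 ∧
      LocCoh.depth (EGA4.FibLocRing R S q) (EGA4.FibLocRing R S q) = 0 := by
    generalize LocCoh.depth (Localization.AtPrime (q.comap (algebraMap R S)))
      (LocalizedModule (q.comap (algebraMap R S)).primeCompl (R ⧸ Ideal.span {x})) = d at h3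
    generalize LocCoh.depth (EGA4.FibLocRing R S q) (EGA4.FibLocRing R S q) = f at h3
    have h4 : 1 + (d + f) = 1 + 0 := by
      rw [add_zero]
      calc 1 + (d + f) = d + 1 + f := by abel
        _ = 1 := h3.symm
    have h5 : d + f = 0 := ENat.add_right_injective_of_ne_top ENat.one_ne_top h4
    exact ⟨(add_eq_zero.mp h5).1, (add_eq_zero.mp h5).2⟩
  exact ⟨(depth_localization_eq_zero_iff (M := R ⧸ Ideal.span {x}) _).mp hd.1, hd.2⟩


open Groth.Agent.Lib.Helper28 IsLocalRing TensorProduct in
/-- Flat `R → S`, `q` prime of `S` over `p`, with `pS` radical, `R_p` regular and the fibre local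
ring of depth zero: then `S_q` is a regular local ring, in particular a domain. -/
theorem isDomain_localization_of_depth_fib_eq_zero {R S : Type u} [CommRing R] [CommRing S]
    [IsNoetherianRing R] [IsNoetherianRing S] [Algebra R S] [Module.Flat R S]
    (q : Ideal S) [q.IsPrime]
    (hrad : ((q.comap (algebraMap R S)).map (algebraMap R S)).IsRadical)
    (hA : IsRegularLocalRing (Localization.AtPrime (q.comap (algebraMap R S))))
    [IsLocalRing (EGA4.FibLocRing R S q)]
    (hd : LocCoh.depth (EGA4.FibLocRing R S q) (EGA4.FibLocRing R S q) = 0) :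
    IsDomain (Localization.AtPrime q) := by
  have hrad' : ((q.comap (algebraMap R S)).map (algebraMap R (Localization.AtPrime q))).IsRadical := by
    rw [IsScalarTower.algebraMap_eq R S (Localization.AtPrime q), ← Ideal.map_map]
    unfold Ideal.IsRadical
    rw [← IsLocalization.map_radical q.primeCompl, hrad.radical]
  have hred : IsReduced (EGA4.FibLocRing R S q) :=
    (Ideal.isRadical_iff_quotient_reduced _).mp hrad'
  have hass := Groth.Agent.Lib.Helper5.depth_eq_zero_iff_maximalIdeal_mem_associatedPrimes.mp hd
  have hmin := mem_minimalPrimes_of_mem_associatedPrimes_of_isReduced hass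
  have hbot := maximalIdeal_eq_bot_of_isReduced_of_mem_minimalPrimes hmin
  have hF : IsRegularLocalRing (EGA4.FibLocRing R S q) :=
    isRegularLocalRing_of_maximalIdeal_eq_bot hbot
  have hreg : IsRegularLocalRing (Localization.AtPrime q) :=
    isRegularLocalRing_localization_of_fibLocRing q hA hF
  exact Groth.Agent.Lib.Helper5.isDomain_of_isRegularLocalRing _


open Groth.Agent.Lib.Helper28 IsLocalRing TensorProduct in
/-- Reducedness criterion: `S` Noetherian local, `x` a regular element of the maximal ideal such
that `S_q` is a domain for every associated prime `q` of `S/xS`. Then `S` is reduced. -/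
theorem isReduced_of_forall_isDomain_localization_associatedPrimes {S : Type u} [CommRing S]
    [IsNoetherianRing S] [IsLocalRing S] (x : S) (hx : x ∈ maximalIdeal S)
    (hreg : IsSMulRegular S x)
    (h : ∀ q ∈ associatedPrimes S (S ⧸ Ideal.span {x}), ∀ [q.IsPrime],
      IsDomain (Localization.AtPrime q)) : IsReduced S := by
  -- every nilpotent is divisible by `x`
  have hdiv : ∀ y : S, IsNilpotent y → y ∈ Ideal.span {x} := by
    intro y hy
    by_contra hyx
    have hz : (Ideal.Quotient.mk (Ideal.span {x}) y) ≠ 0 := by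
      rwa [Ne, Ideal.Quotient.eq_zero_iff_mem]
    obtain ⟨q, hq, hle⟩ := exists_le_isAssociatedPrime_of_isNoetherianRing S
      (Ideal.Quotient.mk (Ideal.span {x}) y) hz
    have hqp : q.IsPrime := hq.isPrime
    have hdom := h q hq
    have hy0 : algebraMap S (Localization.AtPrime q) y = 0 :=
      (hy.map (algebraMap S (Localization.AtPrime q))).eq_zero
    rw [IsLocalization.map_eq_zero_iff q.primeCompl] at hy0
    obtain ⟨s, hs⟩ := hy0
    apply s.2
    apply hle
    rw [Submodule.mem_colon_singleton, Submodule.mem_bot]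
    change Ideal.Quotient.mk (Ideal.span {x}) ((s : S) * y) = 0
    rw [hs, map_zero]
  -- Nakayama on the nilradical
  have hN : nilradical S = ⊥ := by
    apply Submodule.eq_bot_of_le_smul_of_le_jacobson_bot (Ideal.span {x}) (nilradical S)
      ((isNoetherianRing_iff_ideal_fg S).mp inferInstance _)
    · intro y hy
      have hy' : IsNilpotent y := mem_nilradical.mp hy
      obtain ⟨y₁, hy₁⟩ := Ideal.mem_span_singleton'.mp (hdiv y hy')
      rw [smul_eq_mul, ← hy₁]
      refine Ideal.mul_mem_mul_rev (Ideal.mem_span_singleton_self x) ?_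
      rw [mem_nilradical]
      obtain ⟨k, hk⟩ := hy'
      refine ⟨k, ?_⟩
      rw [← hy₁, mul_pow, mul_comm] at hk
      have hregk : IsSMulRegular S (x ^ k) := hreg.pow k
      apply hregk
      change x ^ k * y₁ ^ k = x ^ k * 0
      rw [hk, mul_zero]
    · rw [IsLocalRing.jacobson_eq_maximalIdeal ⊥ bot_ne_top, Ideal.span_le]
      intro a ha
      rw [Set.mem_singleton_iff.mp ha]
      exact hx
  refine ⟨fun y hy => ?_⟩
  have : y ∈ nilradical S := mem_nilradical.mpr hy
  rwa [hN] at this


/-- Let `(R, 𝔪)` be a Noetherian local domain and `x ∈ 𝔪` nonzero such that `R/xR` has no embedded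
associated primes, and for every associated prime `𝔭` of `R/xR` the local ring `R_𝔭` is regular and
the completion of `R/𝔭` is reduced. Then the completion of `R` is reduced. -/
theorem result {R : Type u} [CommRing R] [IsDomain R] [IsLocalRing R]
    [IsNoetherianRing R] (x : R) (hx : x ≠ 0) (hxm : x ∈ IsLocalRing.maximalIdeal R)
    (hemb : ∀ p ∈ associatedPrimes R (R ⧸ Ideal.span {x}), p ∈ (Ideal.span {x}).minimalPrimes)
    (hreg : ∀ p ∈ associatedPrimes R (R ⧸ Ideal.span {x}), ∀ (_ : p.IsPrime),
      IsRegularLocalRing (Localization.AtPrime p) ∧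
        IsReduced (AdicCompletion ((IsLocalRing.maximalIdeal R).map (Ideal.Quotient.mk p)) (R ⧸ p))) :
    IsReduced (AdicCompletion (IsLocalRing.maximalIdeal R) R) := by
  have hNS : IsNoetherianRing (AdicCompletion (IsLocalRing.maximalIdeal R) R) :=
    Groth.Agent.Lib.Helper19.isNoetherianRing_adicCompletion _
  have hxreg : IsSMulRegular R x := (IsRegular.of_ne_zero hx).isSMulRegular
  have hlochom := isLocalHom_algebraMap_adicCompletion R
  have hx'm : algebraMap R (AdicCompletion (IsLocalRing.maximalIdeal R) R) x ∈
      maximalIdeal (AdicCompletion (IsLocalRing.maximalIdeal R) R) :=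
    IsLocalRing.map_maximalIdeal_le (algebraMap R _) (Ideal.mem_map_of_mem _ hxm)
  refine isReduced_of_forall_isDomain_localization_associatedPrimes
    (algebraMap R (AdicCompletion (IsLocalRing.maximalIdeal R) R) x) hx'm hxreg.of_flat ?_
  intro q hq _
  have hloc : IsLocalRing (EGA4.FibLocRing R (AdicCompletion (IsLocalRing.maximalIdeal R) R) q) :=
    isLocalRing_fibLocRing q
  obtain ⟨hp, hd⟩ := mem_associatedPrimes_and_depth_fib_eq_zero x hxreg q hq
  obtain ⟨hregp, hredp⟩ := hreg _ hp inferInstance
  obtain ⟨e, -⟩ := exists_ringEquiv_adicCompletion_quotient (IsLocalRing.maximalIdeal R)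
    (q.comap (algebraMap R (AdicCompletion (IsLocalRing.maximalIdeal R) R)))
  have hred : IsReduced (AdicCompletion (IsLocalRing.maximalIdeal R) R ⧸
      (q.comap (algebraMap R (AdicCompletion (IsLocalRing.maximalIdeal R) R))).map
        (algebraMap R (AdicCompletion (IsLocalRing.maximalIdeal R) R))) :=
    isReduced_of_injective e e.injective
  exact isDomain_localization_of_depth_fib_eq_zero q
    ((Ideal.isRadical_iff_quotient_reduced _).mpr hred) hregp hd

end Groth.Agent.S2093
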