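import Groth.Statements.S9294
import Mathlib
import Groth.Agent.Lib.Helper28GeomFibre2
-- import your own Groth.Agent.* helpers here

set_option autoImplicit false
universe u
open CAlg

namespace Groth.Agent.S9294
open Groth.Agent.Lib.Helper28 IsLocalRing TensorProduct

/-- If A → B and B → C are regular ring maps and every fibre ring of the composite A → C is Noetherian,
the composite is regular. -/
theorem result (A B C : Type u) [CommRing A] [CommRing B] [CommRing C]
    [Algebra A B] [Algebra B C] [Algebra A C] [IsScalarTower A B C]
    (hAB : CAlg.IsRegularHom A B) (hBC : CAlg.IsRegularHom B C)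
    (hN : ∀ (p : Ideal A) [p.IsPrime], IsNoetherianRing (p.Fiber C)) :
    CAlg.IsRegularHom A C := by
  have hf1 := hAB.1
  have hf2 := hBC.1
  refine ⟨Module.Flat.trans A B C, fun p _ => ⟨hN p, ?_⟩⟩
  intro k' _ _ hfin
  have := (hAB.2 p).1
  have := hN p
  exact tensor_fiber_comp_of_property A B C p k' (fun R _ => IsRegularRing R)
    (fun R S _ _ e h => IsRegularRing.of_ringEquiv (R := R) e)
    (fun R' _ _ _ _ _ h => isRegularRing_tensorProduct_of_quasiFinite (fun q _ => (hBC.2 q).2))
    ((hAB.2 p).2 k' hfin)

end Groth.Agent.S9294
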