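import Groth.Statements.S4737
import Mathlib
import Groth.Agent.Lib.Helper28GeomFibre6
-- import your own Groth.Agent.* helpers here

set_option autoImplicit false
universe u
open EGA4

namespace Groth.Agent.S4737
open Groth.Agent.Lib.Helper28 IsLocalRing TensorProduct

/-- The property 'geometrically regular', case of a local ring: let A be a Noetherian local ring whose
completion map A → Â is regular (the formal fibres of A are geometrically regular). Then for every
proper ideal I of A, the completion map of the local ring A/I is regular. -/
theorem result (A : Type u) [CommRing A] [IsNoetherianRing A] [IsLocalRing A]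
    (hA : CAlg.IsRegularHom A (EGA4.Cpl A)) (I : Ideal A) [Nontrivial (A ⧸ I)] :
    CAlg.IsRegularHom (A ⧸ I) (EGA4.Cpl (A ⧸ I)) := by
  obtain ⟨e⟩ := nonempty_algEquiv_tensor_adicCompletion_quotient A I
  refine ⟨inferInstance, fun P' _ => ⟨isNoetherianRing_fiber P', ?_⟩⟩
  intro k'' _ _ hfin
  exact tensor_fiber_of_property_of_algEquiv e
    (fun T _ => IsRegularRing T) (fun T T' _ _ e h => IsRegularRing.of_ringEquiv (R := T) e)
    (fun p _ k' _ _ hk' => (hA.2 p).2 k' hk') P' k''

end Groth.Agent.S4737
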