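import Groth.Statements.S9227
import Mathlib
import Groth.Agent.Lib.Helper5RLR2

set_option autoImplicit false
universe u
open CAlg

namespace Groth.Agent.S9227

/-- Let R be a regular ring, f an element of R and D a derivation of R with D(f) a unit of R. Then for
every polynomial p with integer coefficients the ring R[z]/(p(z) - f) is regular; in particular
R[z]/(z^n - f) is regular for every n ≥ 1. -/
theorem result (R : Type u) [CommRing R]
    [IsRegularRing R] (f : R) (D : Derivation ℤ R R) (hD : IsUnit (D f)) (p : Polynomial ℤ) :
    IsRegularRing (Polynomial R ⧸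
      Ideal.span ({Polynomial.map (Int.castRingHom R) p - Polynomial.C f} : Set (Polynomial R))) := by
  classical
  let _ : Differential R := ⟨D⟩
  let D0 := Differential.mapCoeffs (A := R)
  have hD0C : ∀ a : R, D0 (Polynomial.C a) = Polynomial.C (D a) := fun a =>
    Differential.mapCoeffs_C a
  have hD0p : D0 (Polynomial.map (Int.castRingHom R) p) = 0 := by
    ext i
    rw [Differential.coeff_mapCoeffs, Polynomial.coeff_map, Polynomial.coeff_zero]
    change D ((Int.castRingHom R) (p.coeff i)) = 0
    rw [eq_intCast]
    exact Derivation.map_intCast D _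
  let D' : @Derivation ℤ (Polynomial R) (Polynomial R) _ _ _ (Ring.toIntAlgebra _) _ _ :=
    @Derivation.mk' ℤ _ (Polynomial R) _ (Ring.toIntAlgebra _) (Polynomial R) _ _ _
      ((D0 : Polynomial R →+ Polynomial R).toIntLinearMap) (fun a b => D0.leibniz a b)
  have hD' : ∀ q : Polynomial R, D' q = D0 q := fun _ => rfl
  apply Groth.Agent.Lib.Helper5.isRegularRing_quotient_span_singleton_of_derivation _ D'
  have h1 : D' (Polynomial.map (Int.castRingHom R) p - Polynomial.C f) = - Polynomial.C (D f) := by
    rw [hD', map_sub, hD0C, hD0p, zero_sub]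
  rw [h1]
  exact ((hD.map Polynomial.C).neg).map _

end Groth.Agent.S9227
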