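import Groth.Statements.S2033
import Groth.Agent.Lib.Helper7Smoothing29

set_option autoImplicit false
set_option linter.style.haveILetI false
universe u
open Smoothing

namespace Groth.Agent.S2033

open TensorProduct in
/-- Let `R` be Noetherian, `A → Λ` an `R`-algebra map with `A` finitely presented, `𝔮 ⊆ Λ` a prime
minimal over the radical of the extended singular ideal of `A`, and `𝔭` its contraction to `R`. If
the localized problem `R_𝔭 → R_𝔭 ⊗ A → Λ_𝔮` can be resolved at `𝔮Λ_𝔮`, then `A → Λ` factors through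
a finitely presented `R`-algebra `C` whose singular ideal over `R` does not extend into `𝔮`. -/
theorem result {R A Λ Rₚ Λq : Type u} [CommRing R] [IsNoetherianRing R] [CommRing A]
    [Algebra R A] [Algebra.FinitePresentation R A] [CommRing Λ] [Algebra R Λ] (φ : A →ₐ[R] Λ)
    (𝔮 : Ideal Λ) [𝔮.IsPrime] (hmin : 𝔮 ∈ (Smoothing.singRad R φ).minimalPrimes)
    [CommRing Rₚ] [Algebra R Rₚ] [IsLocalization.AtPrime Rₚ (𝔮.comap (algebraMap R Λ))]
    [CommRing Λq] [Algebra Λ Λq] [IsLocalization.AtPrime Λq 𝔮] [Algebra R Λq] [IsScalarTower R Λ Λq]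
    [Algebra Rₚ Λq] [IsScalarTower R Rₚ Λq]
    (hres : Smoothing.Resolvable Rₚ
      (Algebra.TensorProduct.lift (Algebra.ofId Rₚ Λq) ((IsScalarTower.toAlgHom R Λ Λq).comp φ)
        (fun _ _ => Commute.all _ _) : Rₚ ⊗[R] A →ₐ[Rₚ] Λq) (𝔮.map (algebraMap Λ Λq))) :
    ∃ (C : Type u) (_ : CommRing C) (_ : Algebra R C), Algebra.FinitePresentation R C ∧
      ∃ (g : A →ₐ[R] C) (h : C →ₐ[R] Λ), h.comp g = φ ∧
        ¬ (Smoothing.singularIdeal R C).map h ≤ 𝔮 := by
  classical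
  obtain ⟨B₀, _, _, hfp, g₀, h₀, hcomp₀, -, hns⟩ := hres
  letI : Algebra R B₀ := ((algebraMap Rₚ B₀).comp (algebraMap R Rₚ)).toAlgebra
  haveI : IsScalarTower R Rₚ B₀ := IsScalarTower.of_algebraMap_eq (fun _ => rfl)
  haveI h𝔪 : (𝔮.map (algebraMap Λ Λq)).IsPrime :=
    Ideal.isPrime_map_of_isLocalizationAtPrime 𝔮 (S := Λq) le_rfl
  -- extract b
  have hns' : ¬ (Smoothing.singularIdeal Rₚ B₀).map h₀ ≤ 𝔮.map (algebraMap Λ Λq) := by
    intro hle
    apply hns
    rw [Smoothing.singRad]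
    exact (Ideal.IsPrime.radical_le_iff h𝔪).mpr hle
  rw [Ideal.map_le_iff_le_comap] at hns'
  obtain ⟨b, hb, hbn⟩ := SetLike.not_le_iff_exists.mp hns'
  haveI : IsLocalRing Λq := IsLocalization.AtPrime.isLocalRing Λq 𝔮
  have hbu : IsUnit (h₀ b) := by
    rw [← IsLocalRing.notMem_maximalIdeal, ← IsLocalization.AtPrime.map_eq_maximalIdeal 𝔮 Λq]
    exact hbn
  let gA : A →ₐ[R] B₀ := (g₀.restrictScalars R).comp Algebra.TensorProduct.includeRight
  refine Groth.Agent.Lib.Helper7.Smoothing.delocalize_of_resolution φ 𝔮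
    (𝔮.comap (algebraMap R Λ)).primeCompl gA h₀ ?_ b hb hbu
  intro a
  have := DFunLike.congr_fun hcomp₀ ((1 : Rₚ) ⊗ₜ[R] a)
  simp only [AlgHom.comp_apply, Algebra.TensorProduct.lift_tmul, map_one, one_mul] at this
  exact this


end Groth.Agent.S2033
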