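import Groth.Statements.S2031
import Groth.Agent.Lib.Helper7Smoothing44

set_option autoImplicit false
universe u
open Smoothing

namespace Groth.Agent.S2031

/-- Let `A` be a finitely presented `R`-algebra and `a ∈ A` such that `A_a` is smooth over `R` with
stably free module of differentials. Then `a^e` is strictly standard in `A` over `R` for all
sufficiently large `e`. -/
theorem result {R A : Type u} [CommRing R] [CommRing A]
    [Algebra R A] [Algebra.FinitePresentation R A] (a : A) [Algebra.Smooth R (Localization.Away a)]
    (p q : ℕ) (e : (Ω[Localization.Away a⁄R] × (Fin p → Localization.Away a)) ≃ₗ[Localization.Away a]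
      (Fin q → Localization.Away a)) :
    ∃ e₀ : ℕ, ∀ n : ℕ, e₀ ≤ n → Smoothing.IsStrictlyStandard R A (a ^ n) := by
  classical
  obtain ⟨n₀, f₀, hf₀, -⟩ := (Algebra.FinitePresentation.out : ∃ (n : ℕ)
    (f : MvPolynomial (Fin n) R →ₐ[R] A), Function.Surjective f ∧ (RingHom.ker f.toRingHom).FG)
  have hsurj : Function.Surjective (MvPolynomial.aeval (R := R)
      (Fin.append (fun i => f₀ (MvPolynomial.X i)) (fun _ : Fin q => (0 : A)))) := by
    have h1 : (MvPolynomial.aeval (R := R)
        (Fin.append (fun i => f₀ (MvPolynomial.X i)) (fun _ : Fin q => (0 : A)))).comp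
        (MvPolynomial.rename (Fin.castAdd q)) = f₀ := by
      apply MvPolynomial.algHom_ext
      intro i
      simp [Fin.append_left]
    intro y
    obtain ⟨x, rfl⟩ := hf₀ y
    exact ⟨MvPolynomial.rename (Fin.castAdd q) x, AlgHom.congr_fun h1 x⟩
  have hG : ∀ k : Fin q, (Algebra.Generators.ofSurjective _ hsurj).val (Fin.natAdd n₀ k) = 0 := by
    intro k
    simp [Fin.append_right]
  obtain ⟨β⟩ := Groth.Agent.Lib.Helper7.Smoothing.nonempty_basis_locCot
    (Algebra.Generators.ofSurjective _ hsurj) hG a e
  by_cases hT : Nontrivial (Localization.Away a)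
  · have hpq : p ≤ q := by
      refine le_of_fin_surjective (Localization.Away a)
        ((LinearMap.snd (Localization.Away a) Ω[Localization.Away a⁄R]
          (Fin p → Localization.Away a)) ∘ₗ e.symm.toLinearMap) ?_
      exact Prod.snd_surjective.comp e.symm.surjective
    exact Groth.Agent.Lib.Helper7.Smoothing.exists_pow_isStrictlyStandard_of_basis
      (Nat.add_le_add_left hpq n₀) (Algebra.Generators.ofSurjective _ hsurj) a β
  · rw [not_nontrivial_iff_subsingleton] at hT
    have h0 : (0 : A) ∈ Submonoid.powers a := by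
      rw [← IsLocalization.subsingleton_iff (S := Localization.Away a)]
      exact hT
    obtain ⟨K, hK⟩ := h0
    have hK' : a ^ K = 0 := hK
    -- zero is strictly standard
    have hzero : Smoothing.IsStrictlyStandard R A 0 := by
      have hfg : (RingHom.ker f₀.toRingHom).FG :=
        Algebra.FinitePresentation.ker_fG_of_surjective f₀ hf₀
      obtain ⟨m', r, hr⟩ := Submodule.fg_iff_exists_fin_generating_family.mp hfg
      refine Groth.Agent.Lib.Helper7.Smoothing.isStrictlyStandard_of_data (c := 0) (Nat.zero_le n₀)
        f₀ hf₀ Fin.elim0 r (fun j => j.elim0) hr.symm 0 (Ideal.zero_mem _) ?_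
      intro b' hb' ℓ
      refine Ideal.mem_sup_right ?_
      rw [pow_two]
      refine Ideal.mul_mem_mul hb' ?_
      rw [← hr]
      exact Submodule.subset_span ⟨ℓ, rfl⟩
    refine ⟨K, fun n hn => ?_⟩
    have h1 : a ^ n = 0 := by
      have : a ^ n = a ^ (n - K) * a ^ K := by rw [← pow_add]; congr 1; omega
      rw [this, hK', mul_zero]
    rw [h1]
    exact hzero


end Groth.Agent.S2031
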