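import Groth.Statements.S2110
import Groth.Agent.Lib.Helper10SymKaehler
import Groth.Agent.Lib.Helper13SymLoc
import Groth.Agent.Lib.Helper13SymFT
import Groth.Agent.Lib.Helper26SymSmooth
import Mathlib

set_option autoImplicit false
set_option linter.style.haveILetI false
universe u
open Smoothing

namespace Groth.Agent.S2110

open TensorProduct

-- freeness of Kaehler differentials transfers along algebra isomorphisms
theorem free_kaehler_of_algEquiv {R B B' : Type u} [CommRing R] [CommRing B] [CommRing B']
    [Algebra R B] [Algebra R B'] (e : B ≃ₐ[R] B') [Module.Free B Ω[B⁄R]] :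
    Module.Free B' Ω[B'⁄R] := by
  letI : Algebra B B' := e.toAlgHom.toRingHom.toAlgebra
  haveI : IsScalarTower R B B' := IsScalarTower.of_algebraMap_eq (fun r => (e.commutes r).symm)
  haveI : Algebra.FormallyEtale B B' :=
    Algebra.FormallyEtale.of_equiv (A := B) (AlgEquiv.ofRingEquiv (f := e.toRingEquiv) (fun x => rfl))
  exact Module.Free.of_equiv (KaehlerDifferential.tensorKaehlerEquivOfFormallyEtale R B B')

-- the first exact sequence for a formally smooth algebra splits
theorem free_kaehler_of_smooth_tower {R S T : Type u} [CommRing R] [CommRing S] [CommRing T]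
    [Algebra R S] [Algebra R T] [Algebra S T] [IsScalarTower R S T]
    [Algebra.FormallySmooth S T] (N : Type u) [AddCommGroup N] [Module S N]
    (eN : Ω[T⁄S] ≃ₗ[T] T ⊗[S] N) [Module.Free S (N × Ω[S⁄R])] : Module.Free T Ω[T⁄R] := by
  have hinj : Function.Injective (KaehlerDifferential.mapBaseChange R S T) := by
    rw [← LinearMap.ker_eq_bot, (Algebra.H1Cotangent.exact_δ_mapBaseChange R S T).linearMap_ker_eq,
      LinearMap.range_eq_bot]
    ext x
    rw [Subsingleton.elim x 0, map_zero]
    rfl
  have hexact := KaehlerDifferential.exact_mapBaseChange_map R S T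
  have hsurj := KaehlerDifferential.map_surjective R S T
  obtain ⟨σ, hσ⟩ := Module.projective_lifting_property (KaehlerDifferential.map R S T T)
    LinearMap.id hsurj
  have e1 := (hexact.splitSurjectiveEquiv hinj ⟨σ, hσ⟩).1
  have e2 : (T ⊗[S] Ω[S⁄R] × Ω[T⁄S]) ≃ₗ[T] (T ⊗[S] Ω[S⁄R] × T ⊗[S] N) :=
    LinearEquiv.prodCongr (LinearEquiv.refl _ _) eN
  have e3 : T ⊗[S] (N × Ω[S⁄R]) ≃ₗ[T] (T ⊗[S] N × T ⊗[S] Ω[S⁄R]) :=
    TensorProduct.prodRight S T T N Ω[S⁄R]
  have e4 : (T ⊗[S] N × T ⊗[S] Ω[S⁄R]) ≃ₗ[T] (T ⊗[S] Ω[S⁄R] × T ⊗[S] N) :=
    LinearEquiv.prodComm T _ _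
  exact Module.Free.of_equiv (((e1.trans e2).trans e4.symm).trans e3.symm).symm


theorem mk_eq_zero_iff' {A M : Type*} [CommRing A] [AddCommGroup M] [Module A M] (S : Submonoid A)
    (z : M) (s : S) : LocalizedModule.mk z s = 0 ↔ ∃ c : S, c • z = 0 := by
  rw [← LocalizedModule.zero_mk s, LocalizedModule.mk_eq]
  constructor
  · rintro ⟨u, hu⟩
    refine ⟨u * s, ?_⟩
    rw [mul_smul, hu, smul_zero, smul_zero]
  · rintro ⟨c, hc⟩
    refine ⟨c, ?_⟩
    rw [smul_comm, hc, smul_zero, smul_zero]

theorem free_prod_of_exact {S : Type*} [CommRing S] {M1 M2 M3 M3' : Type*} [AddCommGroup M1]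
    [AddCommGroup M2] [AddCommGroup M3] [AddCommGroup M3'] [Module S M1] [Module S M2] [Module S M3]
    [Module S M3'] (f : M1 →ₗ[S] M2) (g : M2 →ₗ[S] M3) (hinj : Function.Injective f)
    (hexact : Function.Exact f g) (hsurj : Function.Surjective g) [Module.Projective S M3]
    [Module.Free S M2] (e : M3 ≃ₗ[S] M3') : Module.Free S (M1 × M3') := by
  obtain ⟨σ, hσ⟩ := Module.projective_lifting_property g LinearMap.id hsurj
  have e1 := (hexact.splitSurjectiveEquiv hinj ⟨σ, hσ⟩).1
  exact Module.Free.of_equiv (e1.trans (LinearEquiv.prodCongr (LinearEquiv.refl _ _) e))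

-- the localized conormal sequence of a smooth localization splits
theorem free_prod_of_smooth_away {R A : Type u} [CommRing R] [CommRing A] [Algebra R A]
    {ι : Type} (G : Algebra.Generators R A ι) (a : A)
    [Algebra.FormallySmooth R (Localization.Away a)] :
    Module.Free (Localization.Away a)
      (LocalizedModule (Submonoid.powers a) G.toExtension.Cotangent × Ω[Localization.Away a⁄R]) := by
  obtain ⟨Sa, hSa⟩ : ∃ Sa : Submonoid A, Sa = Submonoid.powers a := ⟨_, rfl⟩
  subst hSa
  obtain ⟨F1, hF1⟩ : ∃ F1, F1 =
    LocalizedModule.map (Submonoid.powers a) G.toExtension.cotangentComplex := ⟨_, rfl⟩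
  obtain ⟨F2, hF2⟩ : ∃ F2, F2 =
    LocalizedModule.map (Submonoid.powers a) G.toExtension.toKaehler := ⟨_, rfl⟩
  have hexact : Function.Exact F1 F2 := by
    rw [hF1, hF2]
    exact LocalizedModule.map_exact (Submonoid.powers a) _ _
      G.toExtension.exact_cotangentComplex_toKaehler
  have hsurj : Function.Surjective F2 := by
    rw [hF2]
    exact IsLocalizedModule.map_surjective (Submonoid.powers a) _ _ _
      G.toExtension.toKaehler_surjective
  -- every element of H1 is killed by a power of a
  have hH1 : ∀ z : G.toExtension.Cotangent, G.toExtension.cotangentComplex z = 0 →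
      ∃ c ∈ Submonoid.powers a, c • z = 0 := by
    intro z hz
    let z' : G.toExtension.H1Cotangent := ⟨z, hz⟩
    have h1 : Algebra.H1Cotangent.map R R A (Localization.Away a) (G.equivH1Cotangent z') = 0 :=
      Subsingleton.elim _ _
    obtain ⟨c, hc⟩ := (IsLocalizedModule.eq_zero_iff (Submonoid.powers a)
      (Algebra.H1Cotangent.map R R A (Localization.Away a))).mp h1
    refine ⟨c, c.2, ?_⟩
    have h2 : G.equivH1Cotangent ((c : A) • z') = G.equivH1Cotangent 0 := by
      rw [map_smul, map_zero]; exact hc
    have h3 : (c : A) • z' = 0 := G.equivH1Cotangent.injective h2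
    exact congrArg Subtype.val h3
  have hinj : Function.Injective F1 := by
    rw [injective_iff_map_eq_zero]
    intro x hx
    induction x using LocalizedModule.induction_on with
    | h z s =>
      have h1 : F1 (LocalizedModule.mk z s) = LocalizedModule.mk (G.toExtension.cotangentComplex z) s := by
        rw [hF1]
        exact LocalizedModule.map_mk _ _ _ _
      rw [h1, mk_eq_zero_iff'] at hx
      obtain ⟨t, ht⟩ := hx
      have h2 : G.toExtension.cotangentComplex (t • z) = 0 := by
        rw [Submonoid.smul_def, map_smul]; exact ht
      obtain ⟨c, hc, hcz⟩ := hH1 _ h2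
      rw [mk_eq_zero_iff']
      refine ⟨⟨c, hc⟩ * t, ?_⟩
      rw [mul_smul]
      exact hcz
  let eΩ : LocalizedModule (Submonoid.powers a) Ω[A⁄R] ≃ₗ[Localization (Submonoid.powers a)]
      Ω[Localization.Away a⁄R] :=
    (IsLocalizedModule.iso (Submonoid.powers a)
      (KaehlerDifferential.map R R A (Localization.Away a))).extendScalarsOfIsLocalization
      (Submonoid.powers a) (Localization (Submonoid.powers a))
  haveI : Module.Projective (Localization (Submonoid.powers a))
      (LocalizedModule (Submonoid.powers a) Ω[A⁄R]) :=
    Module.Projective.of_equiv eΩ.symm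
  haveI : Module.Free (Localization (Submonoid.powers a))
      (LocalizedModule (Submonoid.powers a) G.toExtension.CotangentSpace) :=
    Module.free_of_isLocalizedModule (Rₛ := Localization (Submonoid.powers a))
      (Mₛ := LocalizedModule (Submonoid.powers a) G.toExtension.CotangentSpace)
      (Submonoid.powers a)
      (LocalizedModule.mkLinearMap (Submonoid.powers a) G.toExtension.CotangentSpace)
  exact free_prod_of_exact (S := Localization (Submonoid.powers a))
    (M1 := LocalizedModule (Submonoid.powers a) G.toExtension.Cotangent)
    (M2 := LocalizedModule (Submonoid.powers a) G.toExtension.CotangentSpace)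
    (M3 := LocalizedModule (Submonoid.powers a) Ω[A⁄R])
    F1 F2 hinj hexact hsurj eΩ


theorem main_free {R A : Type u} [CommRing R] [CommRing A] [Algebra R A] {ι : Type}
    (G : Algebra.Generators R A ι) (a : A)
    [Algebra.FormallySmooth R (Localization.Away a)] :
    Module.Free (Localization.Away (algebraMap A (SymmetricAlgebra A G.toExtension.Cotangent) a))
      Ω[Localization.Away (algebraMap A (SymmetricAlgebra A G.toExtension.Cotangent) a)⁄R] := by
  haveI hfree : Module.Free (Localization.Away a)
      (LocalizedModule (Submonoid.powers a) G.toExtension.Cotangent × Ω[Localization.Away a⁄R]) :=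
    free_prod_of_smooth_away G a
  haveI : Module.Projective (Localization.Away a)
      (LocalizedModule (Submonoid.powers a) G.toExtension.Cotangent) :=
    Module.Projective.of_split
      (LinearMap.inl (Localization.Away a)
        (LocalizedModule (Submonoid.powers a) G.toExtension.Cotangent) Ω[Localization.Away a⁄R])
      (LinearMap.fst (Localization.Away a)
        (LocalizedModule (Submonoid.powers a) G.toExtension.Cotangent) Ω[Localization.Away a⁄R])
      (by ext; simp)
  haveI : Algebra.FormallySmooth (Localization.Away a)
      (SymmetricAlgebra (Localization.Away a)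
        (LocalizedModule (Submonoid.powers a) G.toExtension.Cotangent)) :=
    Groth.Agent.Lib.Helper26.SymSmooth.formallySmooth
      (SymmetricAlgebra.isSymmetricAlgebra_ι (R := Localization.Away a)
        (M := LocalizedModule (Submonoid.powers a) G.toExtension.Cotangent))
  have eN : Ω[SymmetricAlgebra (Localization.Away a)
        (LocalizedModule (Submonoid.powers a) G.toExtension.Cotangent)⁄Localization.Away a] ≃ₗ[
      SymmetricAlgebra (Localization.Away a)
        (LocalizedModule (Submonoid.powers a) G.toExtension.Cotangent)]
      (SymmetricAlgebra (Localization.Away a)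
        (LocalizedModule (Submonoid.powers a) G.toExtension.Cotangent)) ⊗[Localization.Away a]
        (LocalizedModule (Submonoid.powers a) G.toExtension.Cotangent) :=
    (LinearEquiv.ofBijective _ (Groth.Agent.Lib.Helper10.kaehler_symmetricAlgebra_bijective
      (Localization.Away a) (LocalizedModule (Submonoid.powers a) G.toExtension.Cotangent))).symm
  haveI hT' : Module.Free (SymmetricAlgebra (Localization.Away a)
        (LocalizedModule (Submonoid.powers a) G.toExtension.Cotangent))
      Ω[SymmetricAlgebra (Localization.Away a)
        (LocalizedModule (Submonoid.powers a) G.toExtension.Cotangent)⁄R] :=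
    free_kaehler_of_smooth_tower (R := R) (S := Localization.Away a)
      (LocalizedModule (Submonoid.powers a) G.toExtension.Cotangent) eN
  letI algCT : Algebra (SymmetricAlgebra A G.toExtension.Cotangent)
      (SymmetricAlgebra (Localization.Away a)
        (LocalizedModule (Submonoid.powers a) G.toExtension.Cotangent)) :=
    (Groth.Agent.Helper13SymLoc.symMapₐ (R' := Localization.Away a)
      (LocalizedModule.mkLinearMap (Submonoid.powers a) G.toExtension.Cotangent)).toRingHom.toAlgebra
  haveI hloc : IsLocalization.Away (algebraMap A (SymmetricAlgebra A G.toExtension.Cotangent) a)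
      (SymmetricAlgebra (Localization.Away a)
        (LocalizedModule (Submonoid.powers a) G.toExtension.Cotangent)) :=
    Groth.Agent.Helper13SymLoc.isLocalization_symMapₐ a
      (LocalizedModule.mkLinearMap (Submonoid.powers a) G.toExtension.Cotangent)
  haveI : IsScalarTower R (SymmetricAlgebra A G.toExtension.Cotangent)
      (SymmetricAlgebra (Localization.Away a)
        (LocalizedModule (Submonoid.powers a) G.toExtension.Cotangent)) := by
    apply IsScalarTower.of_algebraMap_eq
    intro r
    rw [IsScalarTower.algebraMap_apply R A (SymmetricAlgebra A G.toExtension.Cotangent)]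
    change _ = (Groth.Agent.Helper13SymLoc.symMapₐ (R' := Localization.Away a)
      (LocalizedModule.mkLinearMap (Submonoid.powers a) G.toExtension.Cotangent))
      (algebraMap A _ (algebraMap R A r))
    rw [AlgHom.commutes, IsScalarTower.algebraMap_apply A (Localization.Away a),
      ← IsScalarTower.algebraMap_apply R A (Localization.Away a),
      ← IsScalarTower.algebraMap_apply R (Localization.Away a)]
  have e : (SymmetricAlgebra (Localization.Away a)
        (LocalizedModule (Submonoid.powers a) G.toExtension.Cotangent)) ≃ₐ[R]
      Localization.Away (algebraMap A (SymmetricAlgebra A G.toExtension.Cotangent) a) :=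
    (IsLocalization.algEquiv
      (Submonoid.powers (algebraMap A (SymmetricAlgebra A G.toExtension.Cotangent) a))
      (SymmetricAlgebra (Localization.Away a)
        (LocalizedModule (Submonoid.powers a) G.toExtension.Cotangent))
      (Localization.Away (algebraMap A (SymmetricAlgebra A G.toExtension.Cotangent) a))).restrictScalars R
  exact free_kaehler_of_algEquiv e

/-- Let `A` be a finitely presented `R`-algebra. There is an `A`-algebra `C` of finite type with an
`A`-algebra retraction `C → A` such that for every `a ∈ A` with `A_a` smooth over `R`, the module of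
differentials of `C_a` over `R` is a free `C_a`-module. -/
theorem result {R A : Type u} [CommRing R] [CommRing A] [Algebra R A]
    [Algebra.FinitePresentation R A] :
    ∃ (C : Type u) (_ : CommRing C) (_ : Algebra A C) (_ : Algebra R C) (_ : IsScalarTower R A C),
      Algebra.FiniteType A C ∧ Nonempty (C →ₐ[A] A) ∧
      ∀ a : A, Algebra.Smooth R (Localization.Away a) →
        Module.Free (Localization.Away (algebraMap A C a)) Ω[Localization.Away (algebraMap A C a)⁄R] := by
  obtain ⟨P, hP⟩ : ∃ P, P = Algebra.Presentation.ofFinitePresentation R A := ⟨_, rfl⟩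
  haveI : Module.Finite A P.toGenerators.toExtension.Cotangent :=
    Algebra.Extension.Cotangent.finite P.fg_ker
  refine ⟨SymmetricAlgebra A P.toGenerators.toExtension.Cotangent, inferInstance, inferInstance,
    inferInstance, inferInstance, Groth.Agent.Helper13SymLoc.finiteType_symmetricAlgebra,
    ⟨SymmetricAlgebra.algebraMapInv⟩, ?_⟩
  intro a hsm
  haveI : Algebra.FormallySmooth R (Localization.Away a) := hsm.formallySmooth
  exact main_free P.toGenerators a

end Groth.Agent.S2110
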