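import Groth.Statements.S4805
-- import your own Groth.Agent.* helpers here
import Mathlib

set_option autoImplicit false
universe u
open CategoryTheory AlgebraicGeometry
open Lim8

namespace Groth.Agent.S4805

open CategoryTheory.Limits

attribute [local instance] IsCofiltered.isConnected

section PullbackAlgebra

variable {T S₀ X₀ Y₀ V : Scheme.{u}}

/-- The canonical map `T ×_{S₀} X₀ ⟶ T ×_{S₀} Y₀`. -/
noncomputable def Fmap (φ : T ⟶ S₀) (f₀ : X₀ ⟶ Y₀) (g₀ : Y₀ ⟶ S₀) :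
    pullback φ (f₀ ≫ g₀) ⟶ pullback φ g₀ :=
  pullback.lift (pullback.fst _ _) (pullback.snd _ _ ≫ f₀)
    (by rw [Category.assoc]; exact pullback.condition)

@[reassoc]
lemma Fmap_fst (φ : T ⟶ S₀) (f₀ : X₀ ⟶ Y₀) (g₀ : Y₀ ⟶ S₀) :
    Fmap φ f₀ g₀ ≫ pullback.fst φ g₀ = pullback.fst φ (f₀ ≫ g₀) :=
  pullback.lift_fst _ _ _

@[reassoc]
lemma Fmap_snd (φ : T ⟶ S₀) (f₀ : X₀ ⟶ Y₀) (g₀ : Y₀ ⟶ S₀) :
    Fmap φ f₀ g₀ ≫ pullback.snd φ g₀ = pullback.snd φ (f₀ ≫ g₀) ≫ f₀ :=
  pullback.lift_snd _ _ _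

/-- Lemma R: the right square is a pullback. -/
lemma isPullback_Fmap (φ : T ⟶ S₀) (f₀ : X₀ ⟶ Y₀) (g₀ : Y₀ ⟶ S₀) :
    IsPullback (pullback.snd φ (f₀ ≫ g₀)) (Fmap φ f₀ g₀) f₀ (pullback.snd φ g₀) := by
  have hbot : IsPullback (pullback.snd φ g₀) (pullback.fst φ g₀) g₀ φ :=
    (IsPullback.of_hasPullback φ g₀).flip
  have hout : IsPullback (pullback.snd φ (f₀ ≫ g₀)) (Fmap φ f₀ g₀ ≫ pullback.fst φ g₀)
      (f₀ ≫ g₀) φ := by
    rw [Fmap_fst]
    exact (IsPullback.of_hasPullback φ (f₀ ≫ g₀)).flip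
  exact IsPullback.of_bot hout (Fmap_snd φ f₀ g₀).symm hbot

noncomputable def topmap (φ : T ⟶ S₀) (f₀ : X₀ ⟶ Y₀) (g₀ : Y₀ ⟶ S₀) (v : V ⟶ Y₀) :
    pullback φ (pullback.snd f₀ v ≫ v ≫ g₀) ⟶ pullback φ (f₀ ≫ g₀) :=
  pullback.lift (pullback.fst _ _) (pullback.snd _ _ ≫ pullback.fst f₀ v)
    (by
      rw [Category.assoc, ← Category.assoc (pullback.fst f₀ v), pullback.condition (f := f₀),
        Category.assoc]
      exact pullback.condition)

@[reassoc]
lemma topmap_fst (φ : T ⟶ S₀) (f₀ : X₀ ⟶ Y₀) (g₀ : Y₀ ⟶ S₀) (v : V ⟶ Y₀) :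
    topmap φ f₀ g₀ v ≫ pullback.fst φ (f₀ ≫ g₀) = pullback.fst _ _ :=
  pullback.lift_fst _ _ _

@[reassoc]
lemma topmap_snd (φ : T ⟶ S₀) (f₀ : X₀ ⟶ Y₀) (g₀ : Y₀ ⟶ S₀) (v : V ⟶ Y₀) :
    topmap φ f₀ g₀ v ≫ pullback.snd φ (f₀ ≫ g₀) = pullback.snd _ _ ≫ pullback.fst f₀ v :=
  pullback.lift_snd _ _ _

noncomputable def botmap (φ : T ⟶ S₀) (g₀ : Y₀ ⟶ S₀) (v : V ⟶ Y₀) :
    pullback φ (v ≫ g₀) ⟶ pullback φ g₀ :=
  pullback.lift (pullback.fst _ _) (pullback.snd _ _ ≫ v)
    (by rw [Category.assoc]; exact pullback.condition)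

@[reassoc]
lemma botmap_fst (φ : T ⟶ S₀) (g₀ : Y₀ ⟶ S₀) (v : V ⟶ Y₀) :
    botmap φ g₀ v ≫ pullback.fst φ g₀ = pullback.fst _ _ :=
  pullback.lift_fst _ _ _

@[reassoc]
lemma botmap_snd (φ : T ⟶ S₀) (g₀ : Y₀ ⟶ S₀) (v : V ⟶ Y₀) :
    botmap φ g₀ v ≫ pullback.snd φ g₀ = pullback.snd _ _ ≫ v :=
  pullback.lift_snd _ _ _

/-- Lemma Q. -/
lemma isPullback_topmap (φ : T ⟶ S₀) (f₀ : X₀ ⟶ Y₀) (g₀ : Y₀ ⟶ S₀) (v : V ⟶ Y₀) :
    IsPullback (topmap φ f₀ g₀ v) (Fmap φ (pullback.snd f₀ v) (v ≫ g₀)) (Fmap φ f₀ g₀)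
      (botmap φ g₀ v) := by
  have R1 := isPullback_Fmap φ f₀ g₀
  have R2 := isPullback_Fmap φ (pullback.snd f₀ v) (v ≫ g₀)
  have P0 : IsPullback (pullback.fst f₀ v) (pullback.snd f₀ v) f₀ v :=
    IsPullback.of_hasPullback f₀ v
  have hout := R2.paste_horiz P0
  refine IsPullback.of_right ?_ ?_ R1
  · rw [topmap_snd, botmap_snd]; exact hout
  · apply pullback.hom_ext
    · rw [Category.assoc, Category.assoc, Fmap_fst, botmap_fst, topmap_fst, Fmap_fst]
    · rw [Category.assoc, Category.assoc, Fmap_snd, botmap_snd, topmap_snd_assoc,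
        Fmap_snd_assoc, pullback.condition]

end PullbackAlgebra

section System

variable {I : Type u} [SmallCategory I] (D : I ⥤ Scheme.{u}) (c : Cone D) {i₀ : I}
  {V : Scheme.{u}} (xi : V ⟶ D.obj i₀)

/-- transition maps of the base-changed system -/
noncomputable def trans {j k : Over i₀} (w : k ⟶ j) :
    pullback (D.map k.hom) xi ⟶ pullback (D.map j.hom) xi :=
  pullback.lift (pullback.fst _ _ ≫ D.map w.left) (pullback.snd _ _)
    (by rw [Category.assoc, ← D.map_comp, Over.w w]; exact pullback.condition)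

@[reassoc]
lemma trans_fst {j k : Over i₀} (w : k ⟶ j) :
    trans D xi w ≫ pullback.fst (D.map j.hom) xi = pullback.fst _ _ ≫ D.map w.left :=
  pullback.lift_fst _ _ _

@[reassoc]
lemma trans_snd {j k : Over i₀} (w : k ⟶ j) :
    trans D xi w ≫ pullback.snd (D.map j.hom) xi = pullback.snd _ _ :=
  pullback.lift_snd _ _ _

/-- projection maps of the base-changed limit cone -/
noncomputable def proj (j : Over i₀) :
    pullback (c.π.app i₀) xi ⟶ pullback (D.map j.hom) xi :=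
  pullback.lift (pullback.fst _ _ ≫ c.π.app j.left) (pullback.snd _ _)
    (by rw [Category.assoc, c.w]; exact pullback.condition)

@[reassoc]
lemma proj_fst (j : Over i₀) :
    proj D c xi j ≫ pullback.fst (D.map j.hom) xi = pullback.fst _ _ ≫ c.π.app j.left :=
  pullback.lift_fst _ _ _

@[reassoc]
lemma proj_snd (j : Over i₀) :
    proj D c xi j ≫ pullback.snd (D.map j.hom) xi = pullback.snd _ _ :=
  pullback.lift_snd _ _ _

@[reassoc]
lemma proj_trans {j k : Over i₀} (w : k ⟶ j) :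
    proj D c xi k ≫ trans D xi w = proj D c xi j := by
  apply pullback.hom_ext
  · rw [Category.assoc, trans_fst, proj_fst_assoc, proj_fst, c.w]
  · rw [Category.assoc, trans_snd, proj_snd, proj_snd]

@[reassoc]
lemma trans_comp {j k l : Over i₀} (w : k ⟶ j) (w' : l ⟶ k) :
    trans D xi (w' ≫ w) = trans D xi w' ≫ trans D xi w := by
  apply pullback.hom_ext
  · rw [Category.assoc, trans_fst, trans_fst, trans_fst_assoc, Over.comp_left, D.map_comp]
  · rw [Category.assoc, trans_snd, trans_snd, trans_snd]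

section Descend

variable [IsCofiltered I] (hc : IsLimit c) [∀ (i j : I) (f : i ⟶ j), IsAffineHom (D.map f)]

include hc in
set_option backward.isDefEq.respectTransparency false in
/-- Lemma C: morphisms from the limit of the base-changed system descend. -/
lemma exists_descend_hom [CompactSpace V] [QuasiSeparatedSpace V] {T : Scheme.{u}}
    (p : T ⟶ D.obj i₀) [LocallyOfFinitePresentation p]
    (a : pullback (c.π.app i₀) xi ⟶ T) (ha : a ≫ p = pullback.snd _ _ ≫ xi) :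
    ∃ (j : Over i₀) (h : pullback (D.map j.hom) xi ⟶ T),
      proj D c xi j ≫ h = a ∧ h ≫ p = pullback.snd _ _ ≫ xi := by
  classical
  let D' : Over i₀ ⥤ Scheme.{u} := Over.post D ⋙ Over.pullback xi ⋙ Over.forget _
  let c' : Cone D' := (Over.pullback xi ⋙ Over.forget _).mapCone ((Over.conePost _ _).obj c)
  have hc' : IsLimit c' :=
    isLimitOfPreserves (Over.pullback xi ⋙ Over.forget _) (Over.isLimitConePost _ hc)
  let d : ∀ j : Over i₀, D.obj j.left ⟶ D.obj i₀ := fun j => D.map j.hom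
  have hmapeq : ∀ {j k : Over i₀} (w : j ⟶ k), D'.map w = trans D xi w := fun w => rfl
  let sn : ∀ j : Over i₀, D'.obj j ⟶ V := fun j => pullback.snd (d j) xi
  have hmap_snd : ∀ {j k : Over i₀} (w : j ⟶ k), D'.map w ≫ sn k = sn j := by
    intro j k w
    rw [hmapeq]; exact trans_snd D xi w
  let t : D' ⟶ (Functor.const (Over i₀)).obj (D.obj i₀) :=
    { app := fun j => sn j ≫ xi
      naturality := by
        intro j k w
        simp only [Functor.const_obj_obj, Functor.const_obj_map, Category.comp_id]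
        rw [← Category.assoc, hmap_snd] }
  have haffD : ∀ j : Over i₀, IsAffineHom (d j) := fun j =>
    ‹∀ (i j : I) (f : i ⟶ j), IsAffineHom (D.map f)› _ _ _
  have haffsnd : ∀ j : Over i₀, IsAffineHom (sn j) := fun j =>
    MorphismProperty.of_isPullback (IsPullback.of_hasPullback (d j) xi) (haffD j)
  have haff : ∀ {j k : Over i₀} (w : j ⟶ k), IsAffineHom (D'.map w) := by
    intro j k w
    have := haffsnd k
    have h1 : IsAffineHom (D'.map w ≫ sn k) := by
      rw [hmap_snd]; exact haffsnd j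
    exact IsAffineHom.of_comp (D'.map w) (sn k)
  have hcomp : ∀ j : Over i₀, CompactSpace (D'.obj j) := fun j =>
    have := haffsnd j
    QuasiCompact.compactSpace_of_compactSpace (sn j)
  have hqs : ∀ j : Over i₀, QuasiSeparatedSpace (D'.obj j) := fun j =>
    have := haffsnd j
    quasiSeparatedSpace_of_quasiSeparated (sn j)
  have hπeq : ∀ j : Over i₀, c'.π.app j = proj D c xi j := fun j => rfl
  have ha' : c'.π ≫ t = (Functor.const _).map (a ≫ p) := by
    ext j : 2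
    change c'.π.app j ≫ sn j ≫ xi = a ≫ p
    rw [hπeq, ha]
    exact proj_snd_assoc D c xi j xi
  obtain ⟨j, g, hg1, hg2⟩ :=
    Scheme.exists_π_app_comp_eq_of_locallyOfFinitePresentation D' t p c' hc' a ha'
  exact ⟨j, g, hg1, hg2⟩

include hc in
set_option backward.isDefEq.respectTransparency false in
/-- Lemma B: equalities of morphisms out of the base-changed system descend. -/
lemma exists_descend_eq [CompactSpace V] {T : Scheme.{u}}
    (p : T ⟶ D.obj i₀) [LocallyOfFiniteType p] (j : Over i₀)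
    (a b : pullback (D.map j.hom) xi ⟶ T) (ha : a ≫ p = pullback.snd _ _ ≫ xi)
    (hb : b ≫ p = pullback.snd _ _ ≫ xi)
    (hab : proj D c xi j ≫ a = proj D c xi j ≫ b) :
    ∃ (k : Over i₀) (w : k ⟶ j), trans D xi w ≫ a = trans D xi w ≫ b := by
  classical
  let D' : Over i₀ ⥤ Scheme.{u} := Over.post D ⋙ Over.pullback xi ⋙ Over.forget _
  let c' : Cone D' := (Over.pullback xi ⋙ Over.forget _).mapCone ((Over.conePost _ _).obj c)
  have hc' : IsLimit c' :=
    isLimitOfPreserves (Over.pullback xi ⋙ Over.forget _) (Over.isLimitConePost _ hc)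
  let d : ∀ j : Over i₀, D.obj j.left ⟶ D.obj i₀ := fun j => D.map j.hom
  have hmapeq : ∀ {j k : Over i₀} (w : j ⟶ k), D'.map w = trans D xi w := fun w => rfl
  let sn : ∀ j : Over i₀, D'.obj j ⟶ V := fun j => pullback.snd (d j) xi
  have hmap_snd : ∀ {j k : Over i₀} (w : j ⟶ k), D'.map w ≫ sn k = sn j := by
    intro j k w
    rw [hmapeq]; exact trans_snd D xi w
  let t : D' ⟶ (Functor.const (Over i₀)).obj (D.obj i₀) :=
    { app := fun j => sn j ≫ xi
      naturality := by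
        intro j k w
        simp only [Functor.const_obj_obj, Functor.const_obj_map, Category.comp_id]
        rw [← Category.assoc, hmap_snd] }
  have haffD : ∀ j : Over i₀, IsAffineHom (d j) := fun j =>
    ‹∀ (i j : I) (f : i ⟶ j), IsAffineHom (D.map f)› _ _ _
  have haffsnd : ∀ j : Over i₀, IsAffineHom (sn j) := fun j =>
    MorphismProperty.of_isPullback (IsPullback.of_hasPullback (d j) xi) (haffD j)
  have haff : ∀ {j k : Over i₀} (w : j ⟶ k), IsAffineHom (D'.map w) := by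
    intro j k w
    have := haffsnd k
    have h1 : IsAffineHom (D'.map w ≫ sn k) := by
      rw [hmap_snd]; exact haffsnd j
    exact IsAffineHom.of_comp (D'.map w) (sn k)
  have hcomp : ∀ j : Over i₀, CompactSpace (D'.obj j) := fun j =>
    have := haffsnd j
    QuasiCompact.compactSpace_of_compactSpace (sn j)
  have hπeq : ∀ j : Over i₀, c'.π.app j = proj D c xi j := fun j => rfl
  obtain ⟨k, w, hw⟩ := Scheme.exists_hom_comp_eq_comp_of_locallyOfFiniteType D' t p c' hc'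
    (i := j) a b ha.symm hb.symm hab
  exact ⟨k, w, hw⟩

end Descend

end System

section Main

variable {I : Type u} [SmallCategory I] [IsCofiltered I] (D : I ⥤ Scheme.{u}) (c : Cone D)
  (hc : IsLimit c) [∀ (i j : I) (f : i ⟶ j), IsAffineHom (D.map f)] {i₀ : I}
  {X₀ Y₀ : Scheme.{u}} (f₀ : X₀ ⟶ Y₀) (g₀ : Y₀ ⟶ D.obj i₀)

lemma trans_Fmap {j k : Over i₀} (w : k ⟶ j) :
    trans D (f₀ ≫ g₀) w ≫ Fmap (D.map j.hom) f₀ g₀ =
      Fmap (D.map k.hom) f₀ g₀ ≫ trans D g₀ w := by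
  apply pullback.hom_ext
  · rw [Category.assoc, Category.assoc, Fmap_fst, trans_fst, trans_fst, Fmap_fst_assoc]
  · rw [Category.assoc, Category.assoc, Fmap_snd, trans_snd, trans_snd_assoc, Fmap_snd]

lemma proj_Fmap (j : Over i₀) :
    proj D c (f₀ ≫ g₀) j ≫ Fmap (D.map j.hom) f₀ g₀ =
      Fmap (c.π.app i₀) f₀ g₀ ≫ proj D c g₀ j := by
  apply pullback.hom_ext
  · rw [Category.assoc, Category.assoc, Fmap_fst, proj_fst, proj_fst, Fmap_fst_assoc]
  · rw [Category.assoc, Category.assoc, Fmap_snd, proj_snd, proj_snd_assoc, Fmap_snd]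

include hc in
/-- Main lemma for quasi-compact quasi-separated `Y₀` and quasi-compact `X₀`. -/
theorem main_qcqs [CompactSpace Y₀] [QuasiSeparatedSpace Y₀] [CompactSpace X₀]
    [LocallyOfFiniteType g₀] [LocallyOfFinitePresentation (f₀ ≫ g₀)]
    [IsIso (Fmap (c.π.app i₀) f₀ g₀)] :
    ∃ j : Over i₀, ∀ (k : Over i₀) (_ : k ⟶ j), IsIso (Fmap (D.map k.hom) f₀ g₀) := by
  -- the inverse at the limit
  let G := inv (Fmap (c.π.app i₀) f₀ g₀)
  have hGF : G ≫ Fmap (c.π.app i₀) f₀ g₀ = 𝟙 _ := IsIso.inv_hom_id _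
  have hFG : Fmap (c.π.app i₀) f₀ g₀ ≫ G = 𝟙 _ := IsIso.hom_inv_id _
  -- Step 1
  let a : pullback (c.π.app i₀) g₀ ⟶ X₀ := G ≫ pullback.snd _ _
  have haf : a ≫ f₀ = pullback.snd _ _ := by
    simp only [a, Category.assoc]
    rw [← Fmap_snd, reassoc_of% hGF]
  have ha : a ≫ (f₀ ≫ g₀) = pullback.snd _ _ ≫ g₀ := by
    rw [← Category.assoc, haf]
  obtain ⟨j₁, h₁, hh₁, hh₁'⟩ := exists_descend_hom D c g₀ hc (f₀ ≫ g₀) a ha
  -- Step 2
  obtain ⟨j₂, u₂, hu₂⟩ := exists_descend_eq D c g₀ hc g₀ j₁ (h₁ ≫ f₀) (pullback.snd _ _)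
    (by rw [Category.assoc]; exact hh₁') rfl
    (by rw [reassoc_of% hh₁, haf, proj_snd])
  let h₂ : pullback (D.map j₂.hom) g₀ ⟶ X₀ := trans D g₀ u₂ ≫ h₁
  have hh₂ : proj D c g₀ j₂ ≫ h₂ = a := by
    simp only [h₂]; rw [proj_trans_assoc, hh₁]
  have hh₂f : h₂ ≫ f₀ = pullback.snd _ _ := by
    simp only [h₂, Category.assoc]; rw [hu₂, trans_snd]
  -- Step 3
  have : LocallyOfFiniteType (f₀ ≫ g₀) := inferInstance
  obtain ⟨j₃, u₃, hu₃⟩ := exists_descend_eq D c (f₀ ≫ g₀) hc (f₀ ≫ g₀) j₂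
    (Fmap (D.map j₂.hom) f₀ g₀ ≫ h₂) (pullback.snd _ _)
    (by rw [Category.assoc, reassoc_of% hh₂f, Fmap_snd_assoc]) rfl
    (by
      rw [reassoc_of% (proj_Fmap D c f₀ g₀ j₂), hh₂, proj_snd]
      simp only [a]
      rw [reassoc_of% hFG])
  refine ⟨j₃, fun k u => ?_⟩
  let h : pullback (D.map k.hom) g₀ ⟶ X₀ := trans D g₀ (u ≫ u₃) ≫ h₂
  have hhf : h ≫ f₀ = pullback.snd _ _ := by
    simp only [h, Category.assoc]; rw [hh₂f, trans_snd]
  have hFh : Fmap (D.map k.hom) f₀ g₀ ≫ h = pullback.snd _ _ := by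
    simp only [h]
    rw [← Category.assoc, ← trans_Fmap, trans_comp, Category.assoc, Category.assoc, hu₃,
      trans_snd, trans_snd]
  let s : pullback (D.map k.hom) g₀ ⟶ pullback (D.map k.hom) (f₀ ≫ g₀) :=
    pullback.lift (pullback.fst _ _) h (by
      rw [← Category.assoc, hhf]; exact pullback.condition)
  refine ⟨s, ?_, ?_⟩
  · apply pullback.hom_ext
    · rw [Category.assoc, pullback.lift_fst, Fmap_fst, Category.id_comp]
    · rw [Category.assoc, pullback.lift_snd, hFh, Category.id_comp]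
  · apply pullback.hom_ext
    · rw [Category.assoc, Fmap_fst, pullback.lift_fst, Category.id_comp]
    · rw [Category.assoc, Fmap_snd, pullback.lift_snd_assoc, hhf, Category.id_comp]

end Main

lemma isIso_snd_of_eq {A B C : Scheme.{u}} (F : A ⟶ C) (b b' : B ⟶ C) (h : b = b')
    [IsIso (pullback.snd F b')] : IsIso (pullback.snd F b) := by
  subst h; infer_instance

/-- Let S = lim S_i be a cofiltered limit of schemes with affine transition maps and S_{i₀} a
quasi-compact stage; let Y₀ ⟶ S_{i₀} be of finite type and quasi-separated, X₀ ⟶ S_{i₀} of finite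
presentation (locally of finite presentation, quasi-compact and quasi-separated), f₀ : X₀ ⟶ Y₀ an
S_{i₀}-morphism, and f : X ⟶ Y its base change along S ⟶ S_{i₀} (base changes are expressed by
pullback squares). If f is an isomorphism, then for some index j over i₀ the base change f_j : X_j ⟶
Y_j of f₀ along S_j ⟶ S_{i₀} is an isomorphism. (Note the hypotheses: the stage S_{i₀} is only
assumed quasi-compact, and Y₀ only of finite type and quasi-separated over it.) -/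
theorem result {I : Type u} [SmallCategory I] [IsCofiltered I]
    (D : I ⥤ Scheme.{u}) (c : Limits.Cone D) (hc : Limits.IsLimit c)
    [∀ (i j : I) (f : i ⟶ j), IsAffineHom (D.map f)] (i₀ : I) [CompactSpace (D.obj i₀)]
    {X₀ Y₀ : Scheme.{u}} (f₀ : X₀ ⟶ Y₀) (g₀ : Y₀ ⟶ D.obj i₀)
    [LocallyOfFiniteType g₀] [QuasiCompact g₀] [QuasiSeparated g₀]
    [LocallyOfFinitePresentation (f₀ ≫ g₀)] [QuasiCompact (f₀ ≫ g₀)] [QuasiSeparated (f₀ ≫ g₀)]
    {X Y : Scheme.{u}} (f : X ⟶ Y) (g : Y ⟶ c.pt) (qY : Y ⟶ Y₀) (qX : X ⟶ X₀)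
    (hY : IsPullback qY g g₀ (c.π.app i₀)) (hX : IsPullback qX f f₀ qY) [IsIso f] :
    ∃ (j : I) (φ : j ⟶ i₀) (Xj Yj : Scheme.{u}) (fj : Xj ⟶ Yj) (gj : Yj ⟶ D.obj j) (pY : Yj ⟶ Y₀)
      (pX : Xj ⟶ X₀), IsPullback pY gj g₀ (D.map φ) ∧ IsPullback pX fj f₀ pY ∧ IsIso fj := by
  classical
  have hY₀c : CompactSpace Y₀ := QuasiCompact.compactSpace_of_compactSpace g₀
  have hf₀qc : QuasiCompact f₀ := QuasiCompact.of_comp f₀ g₀
  -- the canonical map at the limit is an isomorphism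
  have hFinf : IsIso (Fmap (c.π.app i₀) f₀ g₀) := by
    let eY : Y ≅ pullback (c.π.app i₀) g₀ := hY.flip.isoPullback
    have hXY : IsPullback qX (f ≫ g) (f₀ ≫ g₀) (c.π.app i₀) := hX.paste_vert hY
    let eX : X ≅ pullback (c.π.app i₀) (f₀ ≫ g₀) := hXY.flip.isoPullback
    have key : eX.hom ≫ Fmap (c.π.app i₀) f₀ g₀ = f ≫ eY.hom := by
      apply pullback.hom_ext
      · rw [Category.assoc, Fmap_fst, Category.assoc]
        simp only [eX, eY, IsPullback.isoPullback_hom_fst]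
      · rw [Category.assoc, Fmap_snd, Category.assoc]
        simp only [eX, eY, IsPullback.isoPullback_hom_snd, IsPullback.isoPullback_hom_snd_assoc]
        exact hX.w
    have : Fmap (c.π.app i₀) f₀ g₀ = eX.inv ≫ f ≫ eY.hom := by
      rw [← key, Iso.inv_hom_id_assoc]
    rw [this]; infer_instance
  let 𝒰 := Y₀.affineCover.finiteSubcover
  have hk : ∀ k : 𝒰.I₀, ∃ j : Over i₀, ∀ (k' : Over i₀) (_ : k' ⟶ j),
      IsIso (Fmap (D.map k'.hom) (pullback.snd f₀ (𝒰.f k)) (𝒰.f k ≫ g₀)) := by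
    intro k
    have : CompactSpace ↥(pullback f₀ (𝒰.f k)) :=
      QuasiCompact.compactSpace_of_compactSpace (pullback.snd f₀ (𝒰.f k))
    have : LocallyOfFiniteType (𝒰.f k ≫ g₀) := inferInstance
    have : LocallyOfFinitePresentation (pullback.snd f₀ (𝒰.f k) ≫ 𝒰.f k ≫ g₀) := by
      have e : pullback.snd f₀ (𝒰.f k) ≫ 𝒰.f k ≫ g₀ = pullback.fst f₀ (𝒰.f k) ≫ f₀ ≫ g₀ := by
        rw [← Category.assoc, ← pullback.condition, Category.assoc]
      rw [e]; infer_instance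
    have : IsIso (Fmap (c.π.app i₀) (pullback.snd f₀ (𝒰.f k)) (𝒰.f k ≫ g₀)) :=
      (isPullback_topmap (c.π.app i₀) f₀ g₀ (𝒰.f k)).isIso_snd_of_isIso
    exact main_qcqs D c hc (pullback.snd f₀ (𝒰.f k)) (𝒰.f k ≫ g₀)
  choose jk hjk using hk
  obtain ⟨j, hj⟩ := IsCofiltered.inf_objs_exists (Finset.univ.image jk)
  have hu : ∀ k, Nonempty (j ⟶ jk k) := fun k =>
    hj (Finset.mem_image_of_mem _ (Finset.mem_univ k))
  have hFj : IsIso (Fmap (D.map j.hom) f₀ g₀) := by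
    let 𝒲 := Scheme.Pullback.openCoverOfRight 𝒰 (D.map j.hom) g₀
    apply (IsZariskiLocalAtTarget.iff_of_openCover
      (P := MorphismProperty.isomorphisms Scheme) 𝒲).mpr
    intro (k : 𝒰.I₀)
    have h𝒲 : (𝒲.f k : pullback (D.map j.hom) (𝒰.f k ≫ g₀) ⟶ pullback (D.map j.hom) g₀) =
        botmap (D.map j.hom) g₀ (𝒰.f k) := by
      show pullback.map (D.map j.hom) (𝒰.f k ≫ g₀) (D.map j.hom) g₀ (𝟙 _) (𝒰.f k) (𝟙 _)
        (by simp) (by simp) = _
      apply pullback.hom_ext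
      · rw [botmap_fst, pullback.lift_fst, Category.comp_id]
      · rw [botmap_snd, pullback.lift_snd]
    have hpb := isPullback_topmap (D.map j.hom) f₀ g₀ (𝒰.f k)
    have := hjk k j (hu k).some
    have h3 : IsIso (hpb.isoPullback.hom ≫ pullback.snd (Fmap (D.map j.hom) f₀ g₀)
        (botmap (D.map j.hom) g₀ (𝒰.f k))) := by
      rw [hpb.isoPullback_hom_snd]; exact this
    have h4 : IsIso (pullback.snd (Fmap (D.map j.hom) f₀ g₀)
        (botmap (D.map j.hom) g₀ (𝒰.f k))) :=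
      IsIso.of_isIso_comp_left hpb.isoPullback.hom _
    exact @isIso_snd_of_eq _ (pullback (D.map j.hom) (𝒰.f k ≫ g₀)) _ _ (𝒲.f k) _ h𝒲 h4
  exact ⟨j.left, j.hom, _, _, Fmap (D.map j.hom) f₀ g₀, pullback.fst _ _, pullback.snd _ _,
    pullback.snd _ _, (IsPullback.of_hasPullback _ _).flip, isPullback_Fmap _ _ _, hFj⟩

end Groth.Agent.S4805
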