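import Groth.Statements.S9200
-- import your own Groth.Agent.* helpers here
import Mathlib

set_option autoImplicit false
universe u
open CategoryTheory AlgebraicGeometry
open Lim

namespace Groth.Agent.S9200

open Limits

attribute [local instance] CategoryTheory.isConnected_of_hasTerminal

/-- For an affine open `V` of `S`, some stage has affine preimage of `V`. -/
theorem exists_isAffineOpen_preimage {I : Type u} [SmallCategory I] [IsCofiltered I]
    (S : Scheme.{u}) [QuasiSeparatedSpace S]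
    (D : I ⥤ Scheme.{u}) (t : D ⟶ (Functor.const I).obj S) (c : Limits.Cone D)
    (hc : Limits.IsLimit c)
    [∀ {i j : I} (a : i ⟶ j), IsAffineHom (D.map a)]
    [∀ i, CompactSpace (D.obj i)] [∀ i, QuasiSeparatedSpace (D.obj i)] (i₀ : I)
    (V : S.Opens) (hV : IsAffineOpen V)
    (hVaff : IsAffineOpen ((c.π.app i₀ ≫ t.app i₀) ⁻¹ᵁ V)) :
    ∃ j : Over i₀, IsAffineOpen ((t.app j.left) ⁻¹ᵁ V) := by
  have ht : ∀ {i j : I} (a : i ⟶ j), D.map a ≫ t.app j = t.app i := fun a => by
    have := t.naturality a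
    simp only [Functor.const_obj_obj, Functor.const_obj_map, Category.comp_id] at this
    exact this
  have hqc : QuasiCompact (t.app i₀) := quasiCompact_of_compactSpace (Y := S) (t.app i₀)
  have hU' : IsCompact (((t.app i₀) ⁻¹ᵁ V : (D.obj i₀).Opens) : Set (D.obj i₀)) :=
    QuasiCompact.isCompact_preimage (f := t.app i₀) _ V.2 hV.isCompact
  have h1 (j : Over i₀) : CompactSpace ((opensDiagram D i₀ ((t.app i₀) ⁻¹ᵁ V)).obj j) :=
    isCompact_iff_compactSpace.mp (QuasiCompact.isCompact_preimage _ ((t.app i₀) ⁻¹ᵁ V).2 hU')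
  have h2 (j : Over i₀) : QuasiSeparatedSpace ((opensDiagram D i₀ ((t.app i₀) ⁻¹ᵁ V)).obj j) :=
    (isQuasiSeparated_iff_quasiSeparatedSpace _ (D.map _ ⁻¹ᵁ _).2).mp
      (.of_quasiSeparatedSpace _)
  have h3 : IsAffine (opensCone D c i₀ ((t.app i₀) ⁻¹ᵁ V)).pt := by
    show IsAffineOpen (c.π.app i₀ ⁻¹ᵁ ((t.app i₀) ⁻¹ᵁ V))
    rw [← Scheme.Hom.comp_preimage]
    exact hVaff
  obtain ⟨j, hj⟩ := Scheme.exists_isAffine_of_isLimit _ _
    (isLimitOpensCone D c hc i₀ ((t.app i₀) ⁻¹ᵁ V))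
  refine ⟨j, ?_⟩
  have : (t.app j.left) ⁻¹ᵁ V = D.map j.hom ⁻¹ᵁ ((t.app i₀) ⁻¹ᵁ V) := by
    rw [← Scheme.Hom.comp_preimage, ht]
  rw [this]
  exact hj

/-- Let S be a scheme and X = lim X_i a cofiltered limit of S-schemes X_i (a diagram with a compatible
family of structure maps to S) with affine transition morphisms, every X_i quasi-compact and
quasi-separated; the structure map X → S is the composite X → X_{i₀} → S for any index i₀. Assume S
is quasi-compact and quasi-separated. If X → S is affine, then X_i → S is affine for all i beyond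
some index i₁. -/
theorem result {I : Type u} [SmallCategory I] [IsCofiltered I] (S : Scheme.{u}) [CompactSpace S] [QuasiSeparatedSpace S]
    (D : I ⥤ Scheme.{u}) (t : D ⟶ (Functor.const I).obj S) (c : Limits.Cone D) (hc : Limits.IsLimit c)
    [∀ (i j : I) (a : i ⟶ j), IsAffineHom (D.map a)]
    [∀ i, CompactSpace (D.obj i)] [∀ i, QuasiSeparatedSpace (D.obj i)] (i₀ : I)
    [IsAffineHom (c.π.app i₀ ≫ t.app i₀)] :
    ∃ i₁ : I, ∀ (i : I) (_ : i ⟶ i₁), IsAffineHom (t.app i) := by
  classical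
  have haffD : ∀ {i j : I} (a : i ⟶ j), IsAffineHom (D.map a) := fun a => inferInstance
  have ht : ∀ {i j : I} (a : i ⟶ j), D.map a ≫ t.app j = t.app i := fun a => by
    have := t.naturality a
    simp only [Functor.const_obj_obj, Functor.const_obj_map, Category.comp_id] at this
    exact this
  -- affine opens around each point
  have hloc : ∀ x : S, ∃ V : S.Opens, IsAffineOpen V ∧ x ∈ V := by
    intro x
    obtain ⟨_, ⟨V, hV : IsAffineOpen V, rfl⟩, hxV, -⟩ :=
      S.isBasis_affineOpens.exists_subset_of_mem_open (Set.mem_univ x) isOpen_univ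
    exact ⟨V, hV, hxV⟩
  choose V hV hxV using hloc
  obtain ⟨ts, hts⟩ := isCompact_univ.elim_finite_subcover
    (fun x => ((V x : S.Opens) : Set S))
    (fun x => (V x).isOpen) (fun x _ => Set.mem_iUnion.mpr ⟨x, hxV x⟩)
  have key : ∀ x : S, ∃ j : Over i₀, IsAffineOpen ((t.app j.left) ⁻¹ᵁ V x) := fun x =>
    exists_isAffineOpen_preimage S D t c hc i₀ (V x) (hV x)
      ((hV x).preimage (c.π.app i₀ ≫ t.app i₀))
  choose jx hjx using key
  obtain ⟨i₁, hi₁⟩ := IsCofiltered.inf_objs_exists (ts.image (fun x => (jx x).left))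
  refine ⟨i₁, fun i a => ?_⟩
  apply isAffineHom_of_forall_exists_isAffineOpen
  intro y
  obtain ⟨x, hxt, hy⟩ := Set.mem_iUnion₂.mp (hts (Set.mem_univ y))
  refine ⟨V x, hy, hV x, ?_⟩
  obtain ⟨u⟩ := hi₁ (Finset.mem_image_of_mem (fun x => (jx x).left) hxt)
  have : (t.app i) ⁻¹ᵁ V x = D.map (a ≫ u) ⁻¹ᵁ ((t.app (jx x).left) ⁻¹ᵁ V x) := by
    rw [← Scheme.Hom.comp_preimage, ht]
  rw [this]
  exact (hjx x).preimage (D.map (a ≫ u))

end Groth.Agent.S9200
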