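import Groth.Statements.S9188
-- import your own Groth.Agent.* helpers here
import Mathlib
import Groth.Agent.Lib.Helper26LimOpenImm
import Groth.Agent.Lib.Helper22LimSep
import Groth.Agent.Lib.Helper6LfpComp

set_option autoImplicit false
universe u
open CategoryTheory AlgebraicGeometry
open Lim

namespace Groth.Agent.S9188

open Limits Groth.Agent.Lib.Helper26.LimDescend Groth.Agent.Lib.Helper22.LimBC Groth.Agent.Lib.Helper22.LimSep

/-- Let S = lim S_i be a cofiltered limit of schemes with affine transition morphisms, S_{i₀} a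
quasi-compact quasi-separated stage, f₀ : X₀ → Y₀ a morphism of quasi-compact quasi-separated
schemes over S_{i₀}, and f : X → Y its base change along S → S_{i₀} (base changes expressed by
pullback squares). If f₀ is locally of finite type and f is unramified (formally unramified; it is
locally of finite type as a base change of f₀), then for some index i over i₀ the base change f_i :
X_i → Y_i of f₀ along S_i → S_{i₀} is unramified, i.e. formally unramified (and locally of finite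
type). -/
theorem result {I : Type u} [SmallCategory I] [IsCofiltered I]
    (D : I ⥤ Scheme.{u}) (c : Limits.Cone D) (hc : Limits.IsLimit c)
    [∀ (i j : I) (f : i ⟶ j), IsAffineHom (D.map f)] (i₀ : I) [CompactSpace (D.obj i₀)]
    [QuasiSeparatedSpace (D.obj i₀)] {X₀ Y₀ : Scheme.{u}} (f₀ : X₀ ⟶ Y₀) (g₀ : Y₀ ⟶ D.obj i₀)
    [CompactSpace X₀] [QuasiSeparatedSpace X₀] [CompactSpace Y₀] [QuasiSeparatedSpace Y₀]
    [LocallyOfFiniteType f₀]
    {X Y : Scheme.{u}} (f : X ⟶ Y) (g : Y ⟶ c.pt) (qY : Y ⟶ Y₀) (qX : X ⟶ X₀)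
    (hY : IsPullback qY g g₀ (c.π.app i₀)) (hX : IsPullback qX f f₀ qY) [FormallyUnramified f] :
    ∃ (i : I) (φ : i ⟶ i₀) (Xi Yi : Scheme.{u}) (fi : Xi ⟶ Yi) (gi : Yi ⟶ D.obj i) (pY : Yi ⟶ Y₀)
      (pX : Xi ⟶ X₀), IsPullback pY gi g₀ (D.map φ) ∧ IsPullback pX fi f₀ pY ∧ FormallyUnramified fi := by
  have inst : ∀ {i j : I} (f : i ⟶ j), IsAffineHom (D.map f) := fun f => inferInstance
  have hflft : LocallyOfFiniteType f :=
    MorphismProperty.of_isPullback (P := @LocallyOfFiniteType) hX inferInstance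
  have hΔ : IsOpenImmersion (pullback.diagonal f) := inferInstance
  have hP : IsPullback (dmap hX) ((pullback.fst f f ≫ f) ≫ g)
      ((pullback.fst f₀ f₀ ≫ f₀) ≫ g₀) (c.π.app i₀) := (isPullback_dmap hX).paste_vert hY
  have hZ : IsPullback qX (pullback.diagonal f) (pullback.diagonal f₀) (dmap hX) :=
    isPullback_diagonal hX
  have hqc : QuasiCompact f₀ := inferInstance
  have hqs : QuasiSeparated f₀ := inferInstance
  have h1 : CompactSpace ↥(pullback f₀ f₀) := inferInstance
  have h2 : QuasiSeparatedSpace ↥(pullback f₀ f₀) :=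
    quasiSeparatedSpace_of_quasiSeparated (pullback.fst f₀ f₀)
  have h3 : LocallyOfFinitePresentation (pullback.diagonal f₀) :=
    Groth.Agent.Lib.Helper6.locallyOfFinitePresentation_diagonal f₀
  obtain ⟨l, hl⟩ := exists_isOpenImmersion_bcMor D c hc i₀ (pullback.diagonal f₀)
    ((pullback.fst f₀ f₀ ≫ f₀) ≫ g₀) (pullback.diagonal f) _ (dmap hX) qX hP hZ
  have S2 := isPullback_diagonal (isPullback_bcMor D i₀ f₀ g₀ l)
  have S1 := isPullback_bcMor D i₀ (pullback.diagonal f₀) ((pullback.fst f₀ f₀ ≫ f₀) ≫ g₀) l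
  have hw : dmap (isPullback_bcMor D i₀ f₀ g₀ l) ≫ ((pullback.fst f₀ f₀ ≫ f₀) ≫ g₀) =
      ((pullback.fst (bcMor D i₀ f₀ g₀ l) (bcMor D i₀ f₀ g₀ l) ≫ bcMor D i₀ f₀ g₀ l) ≫
        dSnd D i₀ g₀ l) ≫ D.map l.hom := by
    have := (isPullback_dmap (isPullback_bcMor D i₀ f₀ g₀ l)).w
    rw [← Category.assoc, this, Category.assoc, Category.assoc, d_condition]
    simp only [Category.assoc]
  have hΔl : IsOpenImmersion (pullback.diagonal (bcMor D i₀ f₀ g₀ l)) :=
    of_two_pullbacks @IsOpenImmersion S2 S1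
      (dLift l (dmap (isPullback_bcMor D i₀ f₀ g₀ l)) _ hw) (dLift_fst _ _ _ _) hl
  exact ⟨l.left, l.hom, _, _, bcMor D i₀ f₀ g₀ l, dSnd D i₀ g₀ l, dFst D i₀ g₀ l,
    dFst D i₀ (f₀ ≫ g₀) l, isPullback_d D i₀ g₀ l, isPullback_bcMor D i₀ f₀ g₀ l, inferInstance⟩

end Groth.Agent.S9188
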