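import Groth.Statements.S9192
-- import your own Groth.Agent.* helpers here
import Mathlib
import Groth.Agent.S2075
import Groth.Agent.S9188

set_option autoImplicit false
universe u
open CategoryTheory AlgebraicGeometry
open Lim

namespace Groth.Agent.S9192

open Limits Groth.Agent.Lib.Helper26.LimDescend Groth.Agent.Lib.Helper22.LimBC

/-- Transfer a property of a base change given by pullback squares to the `bcMor` model. -/
theorem bcMor_of_tuple {I : Type u} [SmallCategory I] (D : I ⥤ Scheme.{u})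
    (P : MorphismProperty Scheme.{u}) [P.IsStableUnderBaseChange] {i₀ : I}
    {X₀ Y₀ : Scheme.{u}} (f₀ : X₀ ⟶ Y₀) (g₀ : Y₀ ⟶ D.obj i₀) {i : I} (φ : i ⟶ i₀)
    {Xi Yi : Scheme.{u}} (fi : Xi ⟶ Yi) (gi : Yi ⟶ D.obj i) (pY : Yi ⟶ Y₀) (pX : Xi ⟶ X₀)
    (hpY : IsPullback pY gi g₀ (D.map φ)) (hpX : IsPullback pX fi f₀ pY) (h : P fi) :
    P (bcMor D i₀ f₀ g₀ (Over.mk φ)) :=
  of_two_pullbacks P (isPullback_bcMor D i₀ f₀ g₀ (Over.mk φ)) hpX
    (hpY.lift (dFst D i₀ g₀ (Over.mk φ)) (dSnd D i₀ g₀ (Over.mk φ))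
      (d_condition D i₀ g₀ (Over.mk φ))) (hpY.lift_fst _ _ _) h

/-- Let S = lim S_i be a cofiltered limit of schemes with affine transition morphisms, S_{i₀} a
quasi-compact quasi-separated stage, f₀ : X₀ → Y₀ a morphism of quasi-compact quasi-separated
schemes over S_{i₀}, and f : X → Y its base change along S → S_{i₀} (base changes expressed by
pullback squares). If f₀ is locally of finite presentation and f is etale, then for some index i
over i₀ the base change f_i : X_i → Y_i of f₀ along S_i → S_{i₀} is etale. -/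
theorem result {I : Type u} [SmallCategory I] [IsCofiltered I]
    (D : I ⥤ Scheme.{u}) (c : Limits.Cone D) (hc : Limits.IsLimit c)
    [∀ (i j : I) (f : i ⟶ j), IsAffineHom (D.map f)] (i₀ : I) [CompactSpace (D.obj i₀)]
    [QuasiSeparatedSpace (D.obj i₀)] {X₀ Y₀ : Scheme.{u}} (f₀ : X₀ ⟶ Y₀) (g₀ : Y₀ ⟶ D.obj i₀)
    [CompactSpace X₀] [QuasiSeparatedSpace X₀] [CompactSpace Y₀] [QuasiSeparatedSpace Y₀]
    [LocallyOfFinitePresentation f₀]
    {X Y : Scheme.{u}} (f : X ⟶ Y) (g : Y ⟶ c.pt) (qY : Y ⟶ Y₀) (qX : X ⟶ X₀)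
    (hY : IsPullback qY g g₀ (c.π.app i₀)) (hX : IsPullback qX f f₀ qY) [Etale f] :
    ∃ (i : I) (φ : i ⟶ i₀) (Xi Yi : Scheme.{u}) (fi : Xi ⟶ Yi) (gi : Yi ⟶ D.obj i) (pY : Yi ⟶ Y₀)
      (pX : Xi ⟶ X₀), IsPullback pY gi g₀ (D.map φ) ∧ IsPullback pX fi f₀ pY ∧ Etale fi := by
  have inst : ∀ {i j : I} (f : i ⟶ j), IsAffineHom (D.map f) := fun f => inferInstance
  have hflat : Flat f := inferInstance
  obtain ⟨j₁, hj₁⟩ := Groth.Agent.S2075.descend_flat D c hc i₀ f₀ g₀ f g qY qX hY hX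
  obtain ⟨i, φ, Xi, Yi, fi, gi, pY, pX, hpY, hpX, hfi⟩ :=
    Groth.Agent.S9188.result D c hc i₀ f₀ g₀ f g qY qX hY hX
  have h2 : FormallyUnramified (bcMor D i₀ f₀ g₀ (Over.mk φ)) :=
    bcMor_of_tuple D @FormallyUnramified f₀ g₀ φ fi gi pY pX hpY hpX hfi
  have hfl : Flat (bcMor D i₀ f₀ g₀ (IsCofiltered.min j₁ (Over.mk φ))) :=
    hj₁ _ (IsCofiltered.minToLeft _ _)
  have hun : FormallyUnramified (bcMor D i₀ f₀ g₀ (IsCofiltered.min j₁ (Over.mk φ))) :=
    MorphismProperty.of_isPullback (P := @FormallyUnramified)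
      (isPullback_map_bcMor D i₀ f₀ g₀ (IsCofiltered.minToRight j₁ (Over.mk φ))) h2
  have hlfp : LocallyOfFinitePresentation
      (bcMor D i₀ f₀ g₀ (IsCofiltered.min j₁ (Over.mk φ))) :=
    MorphismProperty.of_isPullback (P := @LocallyOfFinitePresentation)
      (isPullback_bcMor D i₀ f₀ g₀ _) inferInstance
  exact ⟨_, (IsCofiltered.min j₁ (Over.mk φ)).hom, _, _, bcMor D i₀ f₀ g₀ _, dSnd D i₀ g₀ _,
    dFst D i₀ g₀ _, dFst D i₀ (f₀ ≫ g₀) _, isPullback_d D i₀ g₀ _, isPullback_bcMor D i₀ f₀ g₀ _,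
    Etale.of_formallyUnramified_of_flat _⟩

end Groth.Agent.S9192
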