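import Groth.Statements.S9355
import Groth.Agent.Lib.Helper3LocDimBC
import Groth.Agent.Lib.Helper3FlatFibDim
import Groth.Agent.S0402
import Mathlib

set_option autoImplicit false
universe u
open FibDim

namespace Groth.Agent.S9355

open AlgebraicGeometry CategoryTheory Limits TensorProduct Groth.Agent.Lib.Helper3.LocDimBC
  Groth.Agent.Lib.Helper3.FlatFibDim in
/-- affine case: the locus is quasi-compact. -/
theorem isCompact_affine (R A : Type u) [CommRing R] [CommRing A] [Algebra R A]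
    [Algebra.FinitePresentation R A] (n : ℕ) :
    IsCompact {x : Spec (CommRingCat.of A) |
      FlatMor.fibreDimAt (Spec.map (CommRingCat.ofHom (algebraMap R A))) x ≤ n} := by
  classical
  let P := Algebra.Presentation.ofFinitePresentation R A
  let Λ := P.Core
  haveI : IsNoetherianRing Λ := Algebra.FiniteType.isNoetherianRing ℤ Λ
  let A₀ := P.ModelOfHasCoeffs Λ
  let e : R ⊗[Λ] A₀ ≃ₐ[R] A := P.tensorModelOfHasCoeffsEquiv Λ
  haveI : IsNoetherianRing A₀ := Algebra.FiniteType.isNoetherianRing Λ A₀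
  have hpo := CommRingCat.isPushout_tensorProduct Λ R A₀
  let eC : CommRingCat.of (R ⊗[Λ] A₀) ≅ CommRingCat.of A := e.toRingEquiv.toCommRingCatIso
  let b : CommRingCat.of A₀ ⟶ CommRingCat.of A :=
    CommRingCat.ofHom (Algebra.TensorProduct.includeRight (R := Λ) (A := R) (B := A₀)).toRingHom ≫
      eC.hom
  have hpo' : IsPushout (CommRingCat.ofHom (algebraMap Λ R)) (CommRingCat.ofHom (algebraMap Λ A₀))
      (CommRingCat.ofHom (algebraMap R A)) b := by
    refine hpo.of_iso (Iso.refl _) (Iso.refl _) (Iso.refl _) eC (by simp) (by simp) ?_ (by simp [b])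
    ext r
    simp only [eC, CommRingCat.hom_comp, CommRingCat.hom_ofHom, RingHom.coe_comp,
      Function.comp_apply, Algebra.TensorProduct.includeLeftRingHom_apply,
      RingEquiv.toCommRingCatIso_hom, Iso.refl_hom, CommRingCat.hom_id, RingHom.id_apply]
    exact e.commutes r
  have hpb := (isPullback_SpecMap_of_isPushout _ _ _ _ hpo').flip
  haveI : LocallyOfFiniteType (Spec.map (CommRingCat.ofHom (algebraMap Λ A₀))) := by
    rw [HasRingHomProperty.Spec_iff (P := @LocallyOfFiniteType)]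
    exact RingHom.finiteType_algebraMap.mpr inferInstance
  have hset : {x : Spec (CommRingCat.of A) |
      FlatMor.fibreDimAt (Spec.map (CommRingCat.ofHom (algebraMap R A))) x ≤ n} =
      (Spec.map b) ⁻¹' {x₀ : Spec (CommRingCat.of A₀) |
        FlatMor.fibreDimAt (Spec.map (CommRingCat.ofHom (algebraMap Λ A₀))) x₀ ≤ n} := by
    ext x
    simp only [Set.mem_ofPred_eq, Set.mem_preimage]
    rw [fibreDimAt_eq_of_isPullback _ _ _ _ hpb x]
  rw [hset]
  refine QuasiCompact.isCompact_preimage (f := Spec.map b) _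
    (Groth.Agent.S0402.result _ n) ?_
  exact TopologicalSpace.NoetherianSpace.isCompact _

open AlgebraicGeometry CategoryTheory Limits TensorProduct Groth.Agent.Lib.Helper3.LocDimBC
  Groth.Agent.Lib.Helper3.FlatFibDim in
/-- the locus meets a suitable affine open neighbourhood of any point in a quasi-compact set. -/
theorem exists_affine_nhd {X S : Scheme.{u}} (f : X ⟶ S) [LocallyOfFinitePresentation f] (n : ℕ)
    (V : Set X) (hVo : IsOpen V) (x : X) (hx : x ∈ V) :
    ∃ W : Set X, W ∈ nhds x ∧ W ⊆ V ∧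
      IsCompact ({x : X | FlatMor.fibreDimAt f x ≤ n} ∩ W) := by
  obtain ⟨T, hT, hxT⟩ : ∃ T : S.Opens, IsAffineOpen T ∧ f x ∈ T := by
    obtain ⟨_, ⟨T, hT, rfl⟩, hxT, -⟩ :=
      S.isBasis_affineOpens.exists_subset_of_mem_open (Set.mem_univ (f x)) isOpen_univ
    exact ⟨T, hT, hxT⟩
  let V' : X.Opens := ⟨V, hVo⟩ ⊓ f ⁻¹ᵁ T
  obtain ⟨_, ⟨W, hW, rfl⟩, hxW, hWV⟩ :=
    X.isBasis_affineOpens.exists_subset_of_mem_open (show x ∈ (V' : Set X) from ⟨hx, hxT⟩) V'.isOpen
  have e : W ≤ f ⁻¹ᵁ T := fun z hz => (hWV hz).2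
  refine ⟨W, W.isOpen.mem_nhds hxW, fun z hz => (hWV hz).1, ?_⟩
  have hfp : RingHom.FinitePresentation (f.appLE T W e).hom :=
    HasRingHomProperty.appLE @LocallyOfFinitePresentation f inferInstance ⟨T, hT⟩ ⟨W, hW⟩ e
  letI : Algebra Γ(S, T) Γ(X, W) := (f.appLE T W e).hom.toAlgebra
  haveI : Algebra.FinitePresentation Γ(S, T) Γ(X, W) := hfp
  have hc := isCompact_affine Γ(S, T) Γ(X, W) n
  have hψ : Spec.map (CommRingCat.ofHom (algebraMap Γ(S, T) Γ(X, W))) = Spec.map (f.appLE T W e) :=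
    rfl
  rw [hψ] at hc
  have hcomm := IsAffineOpen.SpecMap_appLE_fromSpec f hT hW e
  haveI : LocallyOfFiniteType (Spec.map (f.appLE T W e) ≫ hT.fromSpec) := by
    rw [hcomm]; infer_instance
  have hset : {x : X | FlatMor.fibreDimAt f x ≤ n} ∩ W =
      hW.fromSpec '' {z | FlatMor.fibreDimAt (Spec.map (f.appLE T W e)) z ≤ n} := by
    ext y
    constructor
    · rintro ⟨hy, hyW⟩
      rw [← hW.range_fromSpec] at hyW
      obtain ⟨z, rfl⟩ := hyW
      refine ⟨z, ?_, rfl⟩
      show FlatMor.fibreDimAt (Spec.map (f.appLE T W e)) z ≤ n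
      rw [← fibreDimAt_comp_mono _ hT.fromSpec, hcomm, fibreDimAt_comp_of_isOpenImmersion]
      exact hy
    · rintro ⟨z, hz, rfl⟩
      refine ⟨?_, ?_⟩
      · show FlatMor.fibreDimAt f (hW.fromSpec z) ≤ n
        rw [← fibreDimAt_comp_of_isOpenImmersion, ← hcomm, fibreDimAt_comp_mono _ hT.fromSpec]
        exact hz
      · rw [← hW.range_fromSpec]
        exact ⟨z, rfl⟩
  rw [hset]
  exact hc.image hW.fromSpec.continuous

open AlgebraicGeometry CategoryTheory in

open AlgebraicGeometry CategoryTheory in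
/-- For f : X → S locally of finite presentation and n ≥ 0, the open set U_n of points x with dim_x(X_{f
x}) ≤ n is retrocompact in X. -/
theorem result {X S : Scheme.{u}} (f : X ⟶ S) [LocallyOfFinitePresentation f] (n : ℕ) :
    IsRetrocompact {x : ↑X | FlatMor.fibreDimAt f x ≤ n} := by
  intro V hVc hVo
  choose W hWn hWV hWc using exists_affine_nhd f n V hVo
  obtain ⟨t, ht⟩ := hVc.elim_nhds_subcover' W hWn
  have : {x : X | FlatMor.fibreDimAt f x ≤ n} ∩ V =
      ⋃ x ∈ t, ({x : X | FlatMor.fibreDimAt f x ≤ n} ∩ W x.1 x.2) := by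
    ext y
    simp only [Set.mem_inter_iff, Set.mem_iUnion, exists_prop]
    constructor
    · rintro ⟨hy, hyV⟩
      obtain ⟨x, hxt, hyx⟩ := Set.mem_iUnion₂.mp (ht hyV)
      exact ⟨x, hxt, hy, hyx⟩
    · rintro ⟨x, -, hy, hyx⟩
      exact ⟨hy, hWV x.1 x.2 hyx⟩
  rw [this]
  exact t.isCompact_biUnion fun x _ => hWc x.1 x.2

end Groth.Agent.S9355
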