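import Groth.Statements.S5341
import Groth.Agent.Lib.Helper3GrpFibDim
import Groth.Agent.Lib.Helper4FibDimH
import Mathlib

set_option autoImplicit false
universe u
open CategoryTheory CategoryTheory.Limits MonoidalCategory CartesianMonoidalCategory MonObj GrpObj AlgebraicGeometry
open SGA3

namespace Groth.Agent.S5341

open AlgebraicGeometry CategoryTheory in
theorem fibreDimAt_eq_localDim_of_subsingleton {X T : Scheme.{u}} (f : X ⟶ T) [Subsingleton T]
    (x : X) : FlatMor.fibreDimAt f x = FlatMor.localDim X x := by
  rw [Groth.Agent.Lib.Helper4.FibDim.fibreDimAt_eq_fibLD]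
  unfold Groth.Agent.Lib.Helper4.FibDim.fibLD
  have h : (f ⁻¹' {f x} : Set X) = Set.univ := by
    ext y
    simp only [Set.mem_preimage, Set.mem_singleton_iff, Set.mem_univ, iff_true]
    exact Subsingleton.elim _ _
  rw [Groth.Agent.Lib.Helper4.FibDim.localDim_congr_set h x rfl,
    Groth.Agent.Lib.Helper4.FibDim.localDim_eq_of_homeomorph (Homeomorph.Set.univ X)]
  rfl

/-- Let G be a group scheme locally of finite type over a field k. Then (i) every irreducible component
of G has the same dimension as G; (ii) for every point g of G the local dimension of G at g (the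
infimum of the dimensions of the open neighbourhoods of g) equals dim G. -/
theorem result (k : Type u) [Field k] (G : Over (Spec (CommRingCat.of k))) [GrpObj G]
    [LocallyOfFiniteType G.hom] :
    (∀ Z ∈ irreducibleComponents ↥G.left, topologicalKrullDim ↥Z = topologicalKrullDim ↥G.left) ∧
    (∀ g : G.left, FlatMor.localDim ↥G.left g = topologicalKrullDim ↥G.left) := by
  letI : G.left.Over (Spec (CommRingCat.of k)) := ⟨G.hom⟩
  haveI : LocallyOfFiniteType (G.left ↘ Spec (CommRingCat.of k)) := ‹LocallyOfFiniteType G.hom›
  have hconst : ∀ x y : G.left, FlatMor.localDim G.left x = FlatMor.localDim G.left y := by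
    intro x y
    rw [← fibreDimAt_eq_localDim_of_subsingleton G.hom, ← fibreDimAt_eq_localDim_of_subsingleton G.hom]
    exact Groth.Agent.Lib.Helper3.GrpFibDim.fibreDimAt_eq_of_base_eq G x y (Subsingleton.elim _ _)
  have hii : ∀ g : G.left, FlatMor.localDim ↥G.left g = topologicalKrullDim ↥G.left := by
    intro g
    rw [Groth.Agent.Lib.Helper7.TopDim.topologicalKrullDim_eq_iSup_localDim]
    exact le_antisymm (le_iSup (fun x => FlatMor.localDim ↥G.left x) g)
      (iSup_le fun x => (hconst x g).le)
  refine ⟨?_, hii⟩
  intro Z hZ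
  obtain ⟨z, hz⟩ := QuasiSober.sober hZ.1 (isClosed_of_mem_irreducibleComponents _ hZ)
  have hzcl : closure ({z} : Set G.left) = Z := hz.def
  have hzmax : ∀ w : G.left, w ⤳ z → w = z := fun w hw =>
    Groth.Agent.Lib.Helper4.VarDim.eq_of_specializes_generic z w (by rw [hzcl]; exact hZ) hw
  rw [← hzcl, Groth.Agent.Lib.Helper4.VarDim.topologicalKrullDim_closure_singleton k G.left z,
    ← Groth.Agent.Lib.Helper4.FibDim.localDim_eq_trdegNat_of_maximal k G.left z hzmax, hii]

end Groth.Agent.S5341
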