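import Groth.Statements.S2167
import Groth.Agent.Lib.Helper5RLR3
import Groth.Agent.Lib.Helper28Unmixed
import Mathlib

set_option autoImplicit false
universe u
open LCI

namespace Groth.Agent.S2167

open RingTheory.Sequence Groth.Agent.Lib.Helper28

section Aux

variable {R : Type u} [CommRing R]

theorem supportDim_quot_ofList (xs : List R) :
    Module.supportDim R (R ⧸ (Ideal.ofList xs • ⊤ : Submodule R R)) =
      ringKrullDim (R ⧸ Ideal.ofList xs) := by
  have e : (R ⧸ (Ideal.ofList xs • ⊤ : Submodule R R)) ≃ₗ[R] (R ⧸ Ideal.ofList xs) :=
    Submodule.quotEquivOfEq _ _ (by rw [smul_eq_mul, Ideal.mul_top])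
  rw [Module.supportDim_eq_of_equiv e, Module.supportDim_quotient_eq_ringKrullDim]

/-- Nakayama: lifts of generators of the conormal module generate the ideal. -/
theorem ofList_eq_of_span_cotangent [IsLocalRing R] [IsNoetherianRing R] (I : Ideal R)
    (hI : I ≠ ⊤) (xs : List I)
    (hspan : Submodule.span (R ⧸ I) {t | ∃ x ∈ xs, I.toCotangent x = t} = ⊤) :
    Ideal.ofList (xs.map Subtype.val) = I := by
  apply le_antisymm
  · apply Ideal.span_le.mpr
    intro r hr
    obtain ⟨x, _, rfl⟩ := List.mem_map.mp hr
    exact x.2
  · have hjac : I ≤ Ideal.jacobson ⊥ := by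
      rw [IsLocalRing.jacobson_eq_maximalIdeal ⊥ bot_ne_top]
      exact IsLocalRing.le_maximalIdeal hI
    refine Submodule.le_of_le_smul_of_le_jacobson_bot (IsNoetherian.noetherian I) hjac ?_
    intro a ha
    have hsurj : Function.Surjective (algebraMap R (R ⧸ I)) := Ideal.Quotient.mk_surjective
    have h1 : I.toCotangent ⟨a, ha⟩ ∈
        Submodule.span R {t | ∃ x ∈ xs, I.toCotangent x = t} := by
      rw [← Submodule.restrictScalars_span R (R ⧸ I) hsurj, hspan]
      trivial
    have h2 : {t | ∃ x ∈ xs, I.toCotangent x = t} = I.toCotangent '' {x | x ∈ xs} := by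
      ext t
      constructor
      · rintro ⟨x, hx, rfl⟩
        exact ⟨x, hx, rfl⟩
      · rintro ⟨x, hx, rfl⟩
        exact ⟨x, hx, rfl⟩
    rw [h2, ← Submodule.map_span] at h1
    obtain ⟨b, hb, hba⟩ := h1
    have h3 : ((b : R) - a) ∈ I ^ 2 := (Ideal.toCotangent_eq I).mp hba
    have h4 : (b : R) ∈ Ideal.ofList (xs.map Subtype.val) := by
      have h5 : (Submodule.span R {x | x ∈ xs}).map I.subtype ≤
          Ideal.ofList (xs.map Subtype.val) := by
        rw [Submodule.map_span]
        apply Submodule.span_mono
        rintro _ ⟨x, hx, rfl⟩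
        exact List.mem_map.mpr ⟨x, hx, rfl⟩
      exact h5 ⟨b, hb, rfl⟩
    have h6 : a = (b : R) + (a - b) := by ring
    rw [h6]
    refine Submodule.add_mem_sup h4 ?_
    rw [smul_eq_mul, ← pow_two]
    have : a - (b : R) = -((b : R) - a) := by ring
    rw [this]
    exact neg_mem h3

end Aux


/-- Equivalence of (2) and (3), special case with R already a regular local ring: for a regular local
ring R and a proper ideal I, the ideal I is generated by a regular sequence if and only if the
conormal module I/I^2 can be generated by (dim R - dim R/I) elements, the inequality below being the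
additive form of that count. -/
theorem result {R : Type u} [CommRing R] [IsRegularLocalRing R]
    (I : Ideal R) (hI : I ≠ ⊤) :
    (∃ rs : List R, Ideal.ofList rs = I ∧ RingTheory.Sequence.IsRegular R rs) ↔
      (((⊤ : Submodule (R ⧸ I) I.Cotangent).spanFinrank : WithBot ℕ∞) + ringKrullDim (R ⧸ I)
        ≤ ringKrullDim R) := by
  have hCMR : LocCoh.IsCohenMacaulayLocalRing R :=
    Groth.Agent.Lib.Helper5.isCohenMacaulayLocalRing_of_isRegularLocalRing R
  have hCM : LocCoh.IsCohenMacaulayModule R R := hCMR.supportDim_eq_depth
  constructor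
  · rintro ⟨rs, rfl, hreg⟩
    have h1 := Module.supportDim_add_length_eq_supportDim_of_isRegular rs hreg
    rw [supportDim_quot_ofList, Module.supportDim_self_eq_ringKrullDim] at h1
    rw [← h1, add_comm]
    gcongr
    -- the images of `rs` span the conormal module
    have hmem : ∀ r ∈ rs, r ∈ Ideal.ofList rs := fun r hr => Ideal.subset_span hr
    let gens : Set (Ideal.ofList rs).Cotangent :=
      Set.range fun k : Fin rs.length =>
        (Ideal.ofList rs).toCotangent ⟨rs.get k, hmem _ (List.get_mem rs k)⟩
    have hfin : gens.Finite := Set.finite_range _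
    have hspan : Submodule.span (R ⧸ Ideal.ofList rs) gens = ⊤ := by
      rw [eq_top_iff]
      rintro t -
      obtain ⟨a, rfl⟩ := Ideal.toCotangent_surjective _ t
      have ha : a ∈ Submodule.span R
          (Set.range fun k : Fin rs.length =>
            (⟨rs.get k, hmem _ (List.get_mem rs k)⟩ : Ideal.ofList rs)) := by
        have h2 : (Submodule.span R (Set.range fun k : Fin rs.length =>
            (⟨rs.get k, hmem _ (List.get_mem rs k)⟩ : Ideal.ofList rs))).map
              (Ideal.ofList rs).subtype = Ideal.ofList rs := by
          rw [Submodule.map_span]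
          apply le_antisymm
          · apply Submodule.span_le.mpr
            rintro _ ⟨x, ⟨k, rfl⟩, rfl⟩
            exact hmem _ (List.get_mem rs k)
          · apply Ideal.span_le.mpr
            intro r hr
            obtain ⟨k, rfl⟩ := List.mem_iff_get.mp hr
            exact Submodule.subset_span ⟨_, ⟨k, rfl⟩, rfl⟩
        have h3 : (a : R) ∈ (Submodule.span R (Set.range fun k : Fin rs.length =>
            (⟨rs.get k, hmem _ (List.get_mem rs k)⟩ : Ideal.ofList rs))).map
              (Ideal.ofList rs).subtype := by
          rw [h2]
          exact a.2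
        obtain ⟨a', ha', haa'⟩ := h3
        have : a' = a := Subtype.ext haa'
        rwa [this] at ha'
      have h4 : (Ideal.ofList rs).toCotangent a ∈ Submodule.span R gens := by
        have h5 : gens = (Ideal.ofList rs).toCotangent '' (Set.range fun k : Fin rs.length =>
            (⟨rs.get k, hmem _ (List.get_mem rs k)⟩ : Ideal.ofList rs)) := by
          rw [← Set.range_comp]
          rfl
        rw [h5, ← Submodule.map_span]
        exact ⟨a, ha, rfl⟩
      exact Submodule.span_le_restrictScalars R (R ⧸ Ideal.ofList rs) gens h4
    have h6 : (⊤ : Submodule (R ⧸ Ideal.ofList rs) (Ideal.ofList rs).Cotangent).spanFinrank ≤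
        rs.length := by
      rw [← hspan]
      refine le_trans (Submodule.spanFinrank_span_le_ncard_of_finite hfin) ?_
      have h7 : gens.ncard ≤ (Finset.univ : Finset (Fin rs.length)).card := by
        rw [← Set.ncard_coe_finset]
        have : gens = (fun k : Fin rs.length =>
            (Ideal.ofList rs).toCotangent ⟨rs.get k, hmem _ (List.get_mem rs k)⟩) ''
              (↑(Finset.univ : Finset (Fin rs.length)) : Set (Fin rs.length)) := by
          rw [Finset.coe_univ, Set.image_univ]
        rw [this]
        exact Set.ncard_image_le (Finset.finite_toSet _)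
      rwa [Finset.card_univ, Fintype.card_fin] at h7
    exact_mod_cast h6
  · intro h
    have hfg : (⊤ : Submodule (R ⧸ I) I.Cotangent).FG := by
      have : Module.Finite R I.Cotangent :=
        Module.Finite.of_surjective I.toCotangent (Ideal.toCotangent_surjective I)
      have : Module.Finite (R ⧸ I) I.Cotangent := Module.Finite.of_restrictScalars_finite R _ _
      exact Module.Finite.fg_top
    obtain ⟨s, hcard, hspan⟩ := Submodule.FG.exists_span_finset_card_eq_spanFinrank hfg
    let f : I.Cotangent → I := Function.surjInv (Ideal.toCotangent_surjective I)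
    have hf : ∀ t, I.toCotangent (f t) = t := Function.surjInv_eq (Ideal.toCotangent_surjective I)
    let xs : List I := s.toList.map f
    have hlen : xs.length = (⊤ : Submodule (R ⧸ I) I.Cotangent).spanFinrank := by
      rw [List.length_map, Finset.length_toList, hcard]
    have hspan' : Submodule.span (R ⧸ I) {t | ∃ x ∈ xs, I.toCotangent x = t} = ⊤ := by
      rw [eq_top_iff, ← hspan]
      apply Submodule.span_mono
      intro t ht
      exact ⟨f t, List.mem_map.mpr ⟨t, Finset.mem_toList.mpr ht, rfl⟩, hf t⟩
    have hI' := ofList_eq_of_span_cotangent I hI xs hspan'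
    refine ⟨xs.map Subtype.val, hI', ?_⟩
    have hmem : ∀ r ∈ xs.map Subtype.val, r ∈ IsLocalRing.maximalIdeal R := by
      intro r hr
      obtain ⟨x, _, rfl⟩ := List.mem_map.mp hr
      exact IsLocalRing.le_maximalIdeal hI x.2
    have h1 := supportDim_le_supportDim_quot_ofList_add_length_local (xs.map Subtype.val) R hmem
    rw [supportDim_quot_ofList, Module.supportDim_self_eq_ringKrullDim, hI', List.length_map,
      hlen] at h1
    have hdim : Module.supportDim R
        (R ⧸ (Ideal.ofList (xs.map Subtype.val) • ⊤ : Submodule R R)) +
          (xs.map Subtype.val).length = Module.supportDim R R := by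
      rw [supportDim_quot_ofList, Module.supportDim_self_eq_ringKrullDim, hI', List.length_map,
        hlen]
      refine le_antisymm ?_ h1
      rw [add_comm]
      exact h
    have hreg := isWeaklyRegular_of_supportDim_add_length_eq (xs.map Subtype.val) R hCM hmem hdim
    exact isRegular_of_isWeaklyRegular_of_mem hreg hmem (by
      rw [smul_eq_mul, Ideal.mul_top]
      exact (IsLocalRing.maximalIdeal.isMaximal R).ne_top)

end Groth.Agent.S2167
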