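import Groth.Statements.S0615
import Mathlib

set_option autoImplicit false
universe u
open RRAlg

namespace Groth.Agent.S0615

open RingTheory.Sequence

section core
variable {B : Type*} [CommRing B]

/-- the ideal generated by the `a0 * t - a` -/
def zipIdeal (a0 : B) (as ts : List B) : Ideal B :=
  Ideal.span {x | ∃ p ∈ List.zip as ts, x = a0 * p.2 - p.1}

lemma zipIdeal_snoc (a0 : B) (as ts : List B) (h : as.length = ts.length) (a' t' : B) :
    zipIdeal a0 (as ++ [a']) (ts ++ [t']) = zipIdeal a0 as ts ⊔ Ideal.span {a0 * t' - a'} := by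
  unfold zipIdeal
  rw [List.zip_append h, ← Ideal.span_union]
  congr 1
  ext x
  simp only [List.zip_cons_cons, List.zip_nil_right, List.mem_append, List.mem_singleton,
    Set.mem_ofPred_eq, Set.mem_union, Set.mem_singleton_iff]
  constructor
  · rintro ⟨p, hp | hp, rfl⟩
    · exact Or.inl ⟨p, hp, rfl⟩
    · right; rw [hp]
  · rintro (⟨p, hp, rfl⟩ | rfl)
    · exact ⟨p, Or.inl hp, rfl⟩
    · exact ⟨(a', t'), Or.inr rfl, rfl⟩

lemma mem_of_smulRegular_quot (I : Ideal B) (a' g : B)
    (h : IsSMulRegular (B ⧸ (I • ⊤ : Submodule B B)) a') (hg : a' * g ∈ I) : g ∈ I := by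
  have hI : (I • ⊤ : Submodule B B) = I := by simp
  have h0 : a' • (Submodule.Quotient.mk g : B ⧸ (I • ⊤ : Submodule B B)) = a' • 0 := by
    rw [← Submodule.Quotient.mk_smul, smul_zero, Submodule.Quotient.mk_eq_zero, hI]
    exact hg
  have := h h0
  rw [Submodule.Quotient.mk_eq_zero, hI] at this
  exact this

theorem core (a0 : B) : ∀ (n : ℕ) (as ts : List B), as.length = n → ts.length = n →
    IsWeaklyRegular B (a0 :: as) →
    (Ideal.span {a0} ⊔ zipIdeal a0 as ts = Ideal.ofList (a0 :: as)) ∧
    (∀ P, a0 * P ∈ zipIdeal a0 as ts → P ∈ zipIdeal a0 as ts) := by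
  intro n
  induction n with
  | zero =>
    intro as ts has hts hreg
    rw [List.length_eq_zero_iff] at has hts
    subst has hts
    have hz : zipIdeal a0 [] [] = ⊥ := by
      unfold zipIdeal
      simp
    rw [hz]
    refine ⟨by simp [Ideal.ofList_cons], ?_⟩
    intro P hP
    have hreg0 : IsSMulRegular B a0 := ((isWeaklyRegular_cons_iff B a0 []).mp hreg).1
    rw [Ideal.mem_bot] at hP ⊢
    apply hreg0
    simpa using hP
  | succ n ih =>
    intro as ts has hts hreg
    have has0 : as ≠ [] := by intro h; rw [h] at has; simp at has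
    have hts0 : ts ≠ [] := by intro h; rw [h] at hts; simp at hts
    obtain ⟨as', a', rfl⟩ : ∃ as' a', as = as' ++ [a'] :=
      ⟨as.dropLast, as.getLast has0, (List.dropLast_append_getLast has0).symm⟩
    obtain ⟨ts', t', rfl⟩ : ∃ ts' t', ts = ts' ++ [t'] :=
      ⟨ts.dropLast, ts.getLast hts0, (List.dropLast_append_getLast hts0).symm⟩
    have has' : as'.length = n := by simpa using has
    have hts' : ts'.length = n := by simpa using hts
    rw [← List.cons_append, isWeaklyRegular_append_iff, isWeaklyRegular_singleton_iff] at hreg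
    obtain ⟨hF, hS⟩ := ih as' ts' has' hts' hreg.1
    rw [zipIdeal_snoc a0 as' ts' (has'.trans hts'.symm)]
    have ha0I : a0 ∈ Ideal.ofList (a0 :: as') := Ideal.subset_span (by simp)
    constructor
    · rw [← sup_assoc, hF, ← List.cons_append, Ideal.ofList_append, Ideal.ofList_singleton]
      apply le_antisymm
      · refine sup_le le_sup_left ?_
        rw [Ideal.span_singleton_le_iff_mem]
        refine Ideal.sub_mem _ (Ideal.mem_sup_left (Ideal.mul_mem_right _ _ ha0I)) ?_
        exact Ideal.mem_sup_right (Ideal.mem_span_singleton_self _)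
      · refine sup_le le_sup_left ?_
        rw [Ideal.span_singleton_le_iff_mem]
        have h1 : a0 * t' ∈ Ideal.ofList (a0 :: as') ⊔ Ideal.span {a0 * t' - a'} :=
          Ideal.mem_sup_left (Ideal.mul_mem_right _ _ ha0I)
        have h2 : a0 * t' - a' ∈ Ideal.ofList (a0 :: as') ⊔ Ideal.span {a0 * t' - a'} :=
          Ideal.mem_sup_right (Ideal.mem_span_singleton_self _)
        have := Ideal.sub_mem _ h1 h2
        convert this using 1
        ring
    · intro P hP
      obtain ⟨j, hj, y, hy, hjy⟩ := Submodule.mem_sup.mp hP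
      obtain ⟨g, rfl⟩ := Ideal.mem_span_singleton'.mp hy
      -- g * a' ∈ I
      have hga : a' * g ∈ Ideal.ofList (a0 :: as') := by
        have : a' * g = j + a0 * (g * t' - P) := by linear_combination (-1 : B) * hjy
        rw [this, ← hF]
        exact Ideal.add_mem _ (Ideal.mem_sup_right hj)
          (Ideal.mem_sup_left (Ideal.mul_mem_right _ _ (Ideal.mem_span_singleton_self _)))
      have hgI := mem_of_smulRegular_quot _ a' g hreg.2 hga
      rw [← hF] at hgI
      obtain ⟨u, hu, j', hj', hgeq⟩ := Submodule.mem_sup.mp hgI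
      obtain ⟨g', rfl⟩ := Ideal.mem_span_singleton'.mp hu
      have hP' : a0 * (P - g' * (a0 * t' - a')) ∈ zipIdeal a0 as' ts' := by
        have : a0 * (P - g' * (a0 * t' - a')) = j + j' * (a0 * t' - a') := by
          rw [← hgeq] at hjy
          linear_combination -hjy
        rw [this]
        exact Ideal.add_mem _ hj (Ideal.mul_mem_right _ _ hj')
      have := hS _ hP'
      have hPeq : P = (P - g' * (a0 * t' - a')) + g' * (a0 * t' - a') := by ring
      rw [hPeq]
      exact Ideal.add_mem _ (Ideal.mem_sup_left this)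
        (Ideal.mem_sup_right (Ideal.mul_mem_left _ _ (Ideal.mem_span_singleton_self _)))

end core

lemma zip_ofFn {α β : Type*} {n : ℕ} (f : Fin n → α) (g : Fin n → β) :
    List.zip (List.ofFn f) (List.ofFn g) = List.ofFn (fun i => (f i, g i)) := by
  apply List.ext_getElem
  · simp
  · intro i h1 h2
    simp

open MvPolynomial in
theorem result' {A : Type u} [CommRing A] {n : ℕ}
    (a : Fin (n + 1) → A) (ha : RingTheory.Sequence.IsWeaklyRegular A (List.ofFn a)) :
    RingHom.ker (MvPolynomial.aeval (R := A) (S₁ := Localization.Away (a 0))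
      (fun i : Fin n => IsLocalization.mk' (Localization.Away (a 0)) (a i.succ)
        (⟨a 0, Submonoid.mem_powers (a 0)⟩ : Submonoid.powers (a 0)))) =
      Ideal.span (Set.range fun i : Fin n =>
        MvPolynomial.C (a 0) * MvPolynomial.X i - MvPolynomial.C (a i.succ)) := by
  -- regularity on the polynomial ring
  have hregB : IsWeaklyRegular (MvPolynomial (Fin n) A)
      (C (a 0) :: List.ofFn (fun i : Fin n => (C (a i.succ) : MvPolynomial (Fin n) A))) := by
    have h1 : IsWeaklyRegular (TensorProduct A A (MvPolynomial (Fin n) A)) (List.ofFn a) :=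
      ha.isWeaklyRegular_rTensor
    have h2 : IsWeaklyRegular (MvPolynomial (Fin n) A) (List.ofFn a) :=
      (LinearEquiv.isWeaklyRegular_congr (TensorProduct.lid A (MvPolynomial (Fin n) A)) _).mp h1
    have h3 := (isWeaklyRegular_map_algebraMap_iff (R := A) (S := MvPolynomial (Fin n) A)
      (MvPolynomial (Fin n) A) (List.ofFn a)).mpr h2
    rw [List.ofFn_succ, List.map_cons, List.map_ofFn] at h3
    exact h3
  have hzip : zipIdeal (C (a 0) : MvPolynomial (Fin n) A)
      (List.ofFn (fun i : Fin n => (C (a i.succ) : MvPolynomial (Fin n) A)))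
      (List.ofFn (fun i : Fin n => (X i : MvPolynomial (Fin n) A))) =
      Ideal.span (Set.range fun i : Fin n =>
        MvPolynomial.C (a 0) * MvPolynomial.X i - MvPolynomial.C (a i.succ)) := by
    unfold zipIdeal
    rw [zip_ofFn]
    congr 1
    ext x
    simp only [List.mem_ofFn, Set.mem_ofPred_eq, Set.mem_range]
    constructor
    · rintro ⟨p, ⟨i, rfl⟩, rfl⟩
      exact ⟨i, rfl⟩
    · rintro ⟨i, rfl⟩
      exact ⟨_, ⟨i, rfl⟩, rfl⟩
  obtain ⟨-, hcore⟩ := core (C (a 0) : MvPolynomial (Fin n) A) n _ _ (List.length_ofFn) (List.length_ofFn) hregB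
  rw [hzip] at hcore
  have hreg0 : IsSMulRegular A (a 0) := by
    rw [List.ofFn_succ] at ha
    exact ((isWeaklyRegular_cons_iff A _ _).mp ha).1
  -- abbreviations
  obtain ⟨J, hJ⟩ : ∃ J : Ideal (MvPolynomial (Fin n) A), J = Ideal.span (Set.range fun i : Fin n =>
        MvPolynomial.C (a 0) * MvPolynomial.X i - MvPolynomial.C (a i.succ)) := ⟨_, rfl⟩
  rw [← hJ] at hcore ⊢
  have hgen : ∀ i : Fin n, C (a 0) * X i - C (a i.succ) ∈ J := fun i => by
    rw [hJ]; exact Ideal.subset_span ⟨i, rfl⟩
  have hJker : J ≤ RingHom.ker (MvPolynomial.aeval (R := A) (S₁ := Localization.Away (a 0))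
      (fun i : Fin n => IsLocalization.mk' (Localization.Away (a 0)) (a i.succ)
        (⟨a 0, Submonoid.mem_powers (a 0)⟩ : Submonoid.powers (a 0)))) := by
    rw [hJ, Ideal.span_le]
    rintro _ ⟨i, rfl⟩
    rw [SetLike.mem_coe, RingHom.mem_ker]
    simp only [map_sub, map_mul, aeval_C, aeval_X]
    rw [sub_eq_zero]
    exact IsLocalization.mk'_spec' (Localization.Away (a 0)) (a i.succ) (⟨a 0, Submonoid.mem_powers (a 0)⟩ : Submonoid.powers (a 0))
  -- step 1
  have step1 : ∀ P : MvPolynomial (Fin n) A, ∃ (d : ℕ) (q : A), C (a 0) ^ d * P - C q ∈ J := by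
    intro P
    induction P using MvPolynomial.induction_on with
    | C c => exact ⟨0, c, by simp⟩
    | add P1 P2 h1 h2 =>
      obtain ⟨d1, q1, h1⟩ := h1
      obtain ⟨d2, q2, h2⟩ := h2
      refine ⟨d1 + d2, a 0 ^ d2 * q1 + a 0 ^ d1 * q2, ?_⟩
      have : C (a 0) ^ (d1 + d2) * (P1 + P2) - C (a 0 ^ d2 * q1 + a 0 ^ d1 * q2) =
          C (a 0) ^ d2 * (C (a 0) ^ d1 * P1 - C q1) + C (a 0) ^ d1 * (C (a 0) ^ d2 * P2 - C q2) := by
        simp only [map_add, map_mul, map_pow]; ring
      rw [this]
      exact Ideal.add_mem _ (Ideal.mul_mem_left _ _ h1) (Ideal.mul_mem_left _ _ h2)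
    | mul_X P i h =>
      obtain ⟨d, q, h⟩ := h
      refine ⟨d + 1, q * a i.succ, ?_⟩
      have : C (a 0) ^ (d + 1) * (P * X i) - C (q * a i.succ) =
          (C (a 0) ^ d * P - C q) * (C (a 0) * X i) + C q * (C (a 0) * X i - C (a i.succ)) := by
        simp only [map_mul]; ring
      rw [this]
      exact Ideal.add_mem _ (Ideal.mul_mem_right _ _ h) (Ideal.mul_mem_left _ _ (hgen i))
  -- step 2 iterated
  have step2 : ∀ (d : ℕ) (P : MvPolynomial (Fin n) A), C (a 0) ^ d * P ∈ J → P ∈ J := by
    intro d
    induction d with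
    | zero => intro P hP; simpa using hP
    | succ d ih =>
      intro P hP
      apply ih
      apply hcore
      rw [← mul_assoc, ← pow_succ']
      exact hP
  apply le_antisymm
  · intro P hP
    rw [RingHom.mem_ker] at hP
    obtain ⟨d, q, hdq⟩ := step1 P
    have h0 := hJker hdq
    rw [RingHom.mem_ker, map_sub, map_mul, hP, mul_zero, zero_sub, neg_eq_zero, aeval_C] at h0
    obtain ⟨m, hm⟩ := (IsLocalization.map_eq_zero_iff (Submonoid.powers (a 0)) _ q).mp h0
    obtain ⟨k, hk⟩ := m.2
    have hq : q = 0 := by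
      have hk' : a 0 ^ k * q = 0 := by
        have : a 0 ^ k = (m : A) := hk
        rw [this]; exact hm
      have := (hreg0.pow k)
      apply this
      simpa using hk'
    rw [hq, map_zero, sub_zero] at hdq
    exact step2 d P hdq
  · exact hJker



/-- Let A be a commutative ring and a_0, a_1, …, a_n a weakly regular sequence in A (for each i, a_i is
a non-zero-divisor on A/(a_0, …, a_{i−1}); the sequence is indexed here by Fin (n+1)). Then the
kernel of the A-algebra homomorphism A[T_1, …, T_n] → A[1/a_0] sending T_i to a_i/a_0 is the ideal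
generated by the elements a_0 T_i − a_i for 1 ≤ i ≤ n (a presentation of the affine blow-up algebra
A[a_1/a_0, …, a_n/a_0]). -/
theorem result {A : Type u} [CommRing A] {n : ℕ}
    (a : Fin (n + 1) → A) (ha : RingTheory.Sequence.IsWeaklyRegular A (List.ofFn a)) :
    RingHom.ker (MvPolynomial.aeval (R := A) (S₁ := Localization.Away (a 0))
      (fun i : Fin n => IsLocalization.mk' (Localization.Away (a 0)) (a i.succ)
        (⟨a 0, Submonoid.mem_powers (a 0)⟩ : Submonoid.powers (a 0)))) =
      Ideal.span (Set.range fun i : Fin n =>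
        MvPolynomial.C (a 0) * MvPolynomial.X i - MvPolynomial.C (a i.succ)) := by
  exact result' a ha

end Groth.Agent.S0615
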