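import Groth.Statements.S5802
import Mathlib
import Groth.Agent.S0615
-- import your own Groth.Agent.* helpers here

set_option autoImplicit false
universe u
open EGA41

namespace Groth.Agent.S5802.Aux

set_option autoImplicit false
open MvPolynomial

namespace QR

lemma hom_scale {σ A S : Type*} [CommRing A] [CommRing S] [Algebra A S]
    (P : MvPolynomial σ A) {d : ℕ} (hP : P.IsHomogeneous d) (s : S) (u : σ → S) :
    aeval (fun i => s * u i) P = s ^ d * aeval u P := by
  conv_lhs => rw [P.as_sum]
  conv_rhs => rw [P.as_sum]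
  simp only [map_sum, Finset.mul_sum]
  refine Finset.sum_congr rfl fun m hm => ?_
  rw [aeval_monomial, aeval_monomial]
  have h1 : (m.prod fun i k => (s * u i) ^ k) = s ^ d * m.prod fun i k => u i ^ k := by
    simp only [mul_pow]
    rw [Finsupp.prod_mul]
    congr 1
    rw [Finsupp.prod, Finset.prod_pow_eq_pow_sum, ← hP.degree_eq_sum_deg_support hm]
  rw [h1]; ring

/-- dehomogenisation variables -/
noncomputable def dh (n : ℕ) (A : Type*) [CommRing A] : Fin (n + 1) → MvPolynomial (Fin n) A :=
  Fin.cons 1 X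

lemma prod_cons {A : Type*} [CommRing A] {n : ℕ} (m : Fin (n + 1) →₀ ℕ) :
    (m.prod fun i k => (dh n A i) ^ k) = monomial (Finsupp.tail m) 1 := by
  rw [Finsupp.prod_fintype _ _ (fun i => pow_zero _), Fin.prod_univ_succ, monomial_eq,
    Finsupp.prod_fintype _ _ (fun i => pow_zero _)]
  simp [Finsupp.tail_apply, dh]

lemma coeff_dehom {A : Type*} [CommRing A] {n : ℕ} (P : MvPolynomial (Fin (n + 1)) A) {d : ℕ}
    (hP : P.IsHomogeneous d) (m : Fin (n + 1) →₀ ℕ) (hm : m.degree = d) :
    coeff (Finsupp.tail m)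
      (aeval (dh n A) P) = coeff m P := by
  classical
  conv_lhs => rw [P.as_sum]
  simp only [map_sum, coeff_sum, aeval_monomial, prod_cons, algebraMap_eq, coeff_C_mul,
    coeff_monomial]
  rw [Finset.sum_eq_single m]
  · simp
  · intro m' hm' hne
    have : ¬ Finsupp.tail m' = Finsupp.tail m := by
      intro ht
      apply hne
      have hd' : m'.degree = d := by
        rw [Finsupp.degree_eq_weight_one]; exact hP (mem_support_iff.mp hm')
      have h0 : m' 0 = m 0 := by
        have e1 : m'.degree = m' 0 + (Finsupp.tail m').degree := by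
          rw [Finsupp.degree_eq_sum, Finsupp.degree_eq_sum, Fin.sum_univ_succ]
          simp [Finsupp.tail_apply]
        have e2 : m.degree = m 0 + (Finsupp.tail m).degree := by
          rw [Finsupp.degree_eq_sum, Finsupp.degree_eq_sum, Fin.sum_univ_succ]
          simp [Finsupp.tail_apply]
        rw [ht] at e1
        omega
      rw [← Finsupp.cons_tail m', ← Finsupp.cons_tail m, ht, h0]
    simp [this]
  · intro hm'
    simp [notMem_support_iff.mp hm']

open RingTheory.Sequence in
theorem step2 {A : Type u} [CommRing A] {n : ℕ} (f : Fin (n + 1) → A)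
    (hf : IsWeaklyRegular A (List.ofFn f)) (d : ℕ) (P : MvPolynomial (Fin (n + 1)) A)
    (hP : P.IsHomogeneous d) (h0 : eval f P = 0) (m : Fin (n + 1) →₀ ℕ) :
    coeff m P ∈ Ideal.span (Set.range f) := by
  by_cases hm : m.degree = d
  swap
  · rw [hP.coeff_eq_zero hm]
    exact Ideal.zero_mem _
  let L := Localization.Away (f 0)
  let t : Fin n → L := fun i => IsLocalization.mk' L (f i.succ)
    (⟨f 0, Submonoid.mem_powers (f 0)⟩ : Submonoid.powers (f 0))
  have hker := Groth.Agent.S0615.result f hf
  let Q := aeval (dh n A) P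
  have hs : IsUnit (algebraMap A L (f 0)) :=
    IsLocalization.map_units L (⟨f 0, Submonoid.mem_powers (f 0)⟩ : Submonoid.powers (f 0))
  have hQ : aeval t Q = 0 := by
    show aeval t (aeval (dh n A) P) = 0
    rw [comp_aeval_apply]
    have hu : ∀ i, algebraMap A L (f i) = algebraMap A L (f 0) * aeval t (dh n A i) := by
      intro i
      refine Fin.cases ?_ (fun j => ?_) i
      · simp [dh]
      · simp only [dh, Fin.cons_succ, aeval_X, t]
        exact (IsLocalization.mk'_spec' L (f j.succ)
          (⟨f 0, Submonoid.mem_powers (f 0)⟩ : Submonoid.powers (f 0))).symm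
    have h1 : aeval (fun i => algebraMap A L (f i)) P = 0 := by
      have := aeval_algebraMap_apply (B := L) f P
      rw [show (aeval f) P = eval f P from rfl, h0, map_zero] at this
      exact this
    rw [show (fun i => algebraMap A L (f i)) =
      fun i => algebraMap A L (f 0) * aeval t (dh n A i) from funext hu] at h1
    rw [hom_scale P hP] at h1
    exact (hs.pow d).mul_right_eq_zero.mp h1
  have hQmem : Q ∈ Ideal.map (C : A →+* MvPolynomial (Fin n) A) (Ideal.span (Set.range f)) := by
    have : Q ∈ RingHom.ker (aeval (R := A) (S₁ := L) t) := hQ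
    rw [hker] at this
    refine Ideal.span_le.mpr ?_ this
    rintro _ ⟨i, rfl⟩
    refine Ideal.sub_mem _ (Ideal.mul_mem_right _ _ ?_) ?_
    · exact Ideal.mem_map_of_mem _ (Ideal.subset_span ⟨0, rfl⟩)
    · exact Ideal.mem_map_of_mem _ (Ideal.subset_span ⟨i.succ, rfl⟩)
  rw [← coeff_dehom P hP m hm]
  exact mem_map_C_iff.mp hQmem _

lemma exists_sum_of_mem_mul {A : Type*} [CommRing A] {c : ℕ} (f : Fin c → A) (I : Ideal A) (x : A)
    (hx : x ∈ Ideal.span (Set.range f) * I) :
    ∃ y : Fin c → A, (∀ i, y i ∈ I) ∧ x = ∑ i, f i * y i := by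
  refine Submodule.mul_induction_on hx ?_ ?_
  · intro m hm z hz
    obtain ⟨c', rfl⟩ := (Ideal.mem_span_range_iff_exists_fun).mp hm
    refine ⟨fun i => c' i * z, fun i => I.mul_mem_left _ hz, ?_⟩
    rw [Finset.sum_mul]
    exact Finset.sum_congr rfl fun i _ => by ring
  · rintro x y ⟨y1, h1, rfl⟩ ⟨y2, h2, rfl⟩
    refine ⟨fun i => y1 i + y2 i, fun i => I.add_mem (h1 i) (h2 i), ?_⟩
    rw [← Finset.sum_add_distrib]
    exact Finset.sum_congr rfl fun i _ => by ring

open RingTheory.Sequence in
theorem main (A : Type u) [CommRing A] (c : ℕ) (f : Fin c → A)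
    (hf : IsWeaklyRegular A (List.ofFn f)) : CAlgX.IsQuasiRegular f := by
  intro n P hP hmem d
  cases c with
  | zero =>
    have hd : d = 0 := Subsingleton.elim _ _
    subst hd
    have hPC := MvPolynomial.eq_C_of_isEmpty P
    have : eval f P = coeff 0 P := by rw [hPC]; simp
    rw [this] at hmem
    exact Ideal.pow_le_self (Nat.succ_ne_zero n) hmem
  | succ c =>
    rw [pow_succ'] at hmem
    obtain ⟨y, hy, hxy⟩ := exists_sum_of_mem_mul f _ _ hmem
    have hG : ∀ i, ∃ G : MvPolynomial (Fin (c + 1)) A, G.IsHomogeneous n ∧ eval f G = y i :=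
      fun i => (Ideal.mem_span_pow_iff_exists_isHomogeneous f _).mp (hy i)
    choose G hGh hGe using hG
    let P' := P - ∑ i, C (f i) * G i
    have hP' : P'.IsHomogeneous n :=
      hP.sub (IsHomogeneous.sum _ _ _ fun i _ => (hGh i).C_mul (f i))
    have hev : eval f P' = 0 := by
      simp only [P', map_sub, map_sum, map_mul, eval_C, hGe]
      rw [hxy, sub_self]
    have hc := step2 f hf n P' hP' hev d
    have : coeff d P = coeff d P' + ∑ i, f i * coeff d (G i) := by
      simp only [P', coeff_sub, coeff_sum, coeff_C_mul]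
      ring
    rw [this]
    refine Ideal.add_mem _ hc (Ideal.sum_mem _ fun i _ => ?_)
    exact Ideal.mul_mem_right _ _ (Ideal.subset_span ⟨i, rfl⟩)

end QR

end Groth.Agent.S5802.Aux

namespace Groth.Agent.S5802

/-- First assertion: case M = A: in a ring A, every A-regular sequence (f_i)_{1 ≤ i ≤ c} is
quasi-regular, i.e. the canonical surjection (A/J)[T_1, ..., T_c] → gr_J(A), J = f_1 A + ... + f_c
A, is bijective. -/
theorem result (A : Type u) [CommRing A] (c : ℕ) (f : Fin c → A)
    (hf : RingTheory.Sequence.IsWeaklyRegular A (List.ofFn f)) : CAlgX.IsQuasiRegular f := by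
  exact Aux.QR.main A c f hf

end Groth.Agent.S5802
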