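import Groth.Statements.S9146
import Mathlib

set_option autoImplicit false
universe u
open Synt

namespace Groth.Agent.S9146

theorem isGlobalCI_of_algEquiv {k B B' : Type u} [Field k] [CommRing B] [CommRing B'] [Algebra k B]
    [Algebra k B'] (e : B ≃ₐ[k] B') (h : Synt.IsGlobalCI k B) : Synt.IsGlobalCI k B' := by
  rcases h with h | ⟨n, c, hcn, φ, r, hsurj, hker, hdim⟩
  · left
    exact e.symm.toEquiv.subsingleton
  · right
    refine ⟨n, c, hcn, e.toAlgHom.comp φ, r, e.surjective.comp hsurj, ?_, ?_⟩
    · rw [← hker]
      ext x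
      simp only [RingHom.mem_ker]
      change e (φ x) = 0 ↔ φ x = 0
      exact e.map_eq_zero_iff
    · rw [← hdim]
      exact (ringKrullDim_eq_of_ringEquiv e.toRingEquiv).symm

theorem isLCIOver_of_cover (k A : Type u) [Field k] [CommRing A] [Algebra k A]
    (hft : Algebra.FiniteType k A) (t : Set A) (ht : Ideal.span t = ⊤)
    (h : ∀ x ∈ t, ∃ (Ax : Type u) (_ : CommRing Ax) (_ : Algebra k Ax) (_ : Algebra A Ax)
      (_ : IsScalarTower k A Ax) (_ : IsLocalization.Away x Ax), Synt.IsLCIOver k Ax) :
    Synt.IsLCIOver k A := by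
  refine ⟨hft, fun q => ?_⟩
  obtain ⟨x, hxt, hxq⟩ : ∃ x ∈ t, x ∉ q.asIdeal := by
    by_contra hcon
    push Not at hcon
    have : Ideal.span t ≤ q.asIdeal := Ideal.span_le.mpr hcon
    rw [ht] at this
    exact q.isPrime.ne_top (top_le_iff.mp this)
  obtain ⟨Ax, _, _, _, _, hloc, -, hAx⟩ := h x hxt
  have hdisj : Disjoint (Submonoid.powers x : Set A) (q.asIdeal : Set A) := by
    rw [Set.disjoint_left]
    rintro _ ⟨n, rfl⟩ hn
    exact hxq (q.isPrime.mem_of_pow_mem n hn)
  have hq'prime : (q.asIdeal.map (algebraMap A Ax)).IsPrime :=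
    IsLocalization.isPrime_of_isPrime_disjoint (Submonoid.powers x) Ax _ q.isPrime hdisj
  have hcomap : (q.asIdeal.map (algebraMap A Ax)).comap (algebraMap A Ax) = q.asIdeal :=
    IsLocalization.under_map_of_isPrime_disjoint (Submonoid.powers x) Ax q.isPrime hdisj
  obtain ⟨G', hG'q, hG'⟩ := hAx ⟨q.asIdeal.map (algebraMap A Ax), hq'prime⟩
  set z := (IsLocalization.Away.sec x G').1 with hz
  have hassoc : Associated (algebraMap A Ax z) G' := IsLocalization.Away.associated_sec_fst x G'
  haveI : IsScalarTower k A (Localization.Away G') := by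
    refine .of_algebraMap_eq' ?_
    rw [IsScalarTower.algebraMap_eq A Ax (Localization.Away G'), RingHom.comp_assoc,
      ← IsScalarTower.algebraMap_eq k A Ax, ← IsScalarTower.algebraMap_eq k Ax]
  haveI : IsLocalization.Away (x * z) (Localization.Away G') :=
    IsLocalization.Away.mul_of_associated x z G' hassoc
  let e : Localization.Away (x * z) ≃ₐ[A] Localization.Away G' :=
    IsLocalization.algEquiv (Submonoid.powers (x * z)) _ _
  refine ⟨x * z, ?_, isGlobalCI_of_algEquiv (e.restrictScalars k).symm hG'⟩
  intro hmem
  rcases q.isPrime.mem_or_mem hmem with h1 | h1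
  · exact hxq h1
  · apply hG'q
    obtain ⟨u, hu⟩ := hassoc
    rw [← hu]
    exact Ideal.mul_mem_right _ _ (Ideal.mem_map_of_mem _ h1)


open TensorProduct in

/-- Being syntomic is local on the target ring: if finitely many elements of S generating the unit ideal
have syntomic localizations R → S_g, then R → S is syntomic. -/
theorem result (R S : Type u) [CommRing R] [CommRing S] [Algebra R S]
    (s : Finset S) (hs : Ideal.span (s : Set S) = ⊤)
    (h : ∀ g ∈ s, Synt.IsSyntomic R (Localization.Away g)) : Synt.IsSyntomic R S := by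
  have hflat : Module.Flat R S := by
    rw [← RingHom.flat_algebraMap_iff]
    refine RingHom.Flat.ofLocalizationSpanTarget (algebraMap R S) (s : Set S) hs (fun r => ?_)
    change RingHom.Flat _
    rw [← IsScalarTower.algebraMap_eq, RingHom.flat_algebraMap_iff]
    exact (h r.1 r.2).1
  have hfp : Algebra.FinitePresentation R S := by
    rw [← RingHom.finitePresentation_algebraMap]
    refine RingHom.finitePresentation_ofLocalizationSpanTarget (algebraMap R S) (s : Set S) hs
      (fun r => ?_)
    change RingHom.FinitePresentation _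
    rw [← IsScalarTower.algebraMap_eq, RingHom.finitePresentation_algebraMap]
    exact (h r.1 r.2).2.1
  refine ⟨hflat, hfp, fun p => ?_⟩
  have hft : Algebra.FiniteType p.asIdeal.ResidueField (p.asIdeal.Fiber S) := inferInstance
  refine isLCIOver_of_cover p.asIdeal.ResidueField (p.asIdeal.Fiber S) hft
    ((Algebra.TensorProduct.includeRight (R := R) (A := p.asIdeal.ResidueField) (B := S)) '' (s : Set S))
    ?_ ?_
  · rw [← Ideal.map_span, hs, Ideal.map_top]
  · rintro _ ⟨g, hg, rfl⟩
    let ψ : p.asIdeal.ResidueField ⊗[R] S →ₐ[p.asIdeal.ResidueField]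
        p.asIdeal.ResidueField ⊗[R] Localization.Away g :=
      Algebra.TensorProduct.map (AlgHom.id _ _) (IsScalarTower.toAlgHom R S (Localization.Away g))
    letI : Algebra (p.asIdeal.Fiber S) (p.asIdeal.Fiber (Localization.Away g)) :=
      ψ.toRingHom.toAlgebra
    have htower : IsScalarTower p.asIdeal.ResidueField (p.asIdeal.Fiber S)
        (p.asIdeal.Fiber (Localization.Away g)) := by
      refine ⟨fun a b c => ?_⟩
      change ψ (a • b) * c = a • (ψ b * c)
      rw [map_smul, smul_mul_assoc]
    have hloc : IsLocalization.Away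
        ((Algebra.TensorProduct.includeRight (R := R) (A := p.asIdeal.ResidueField) (B := S)) g)
        (p.asIdeal.Fiber (Localization.Away g)) := by
      have hpow : Submonoid.powers
          ((Algebra.TensorProduct.includeRight (R := R) (A := p.asIdeal.ResidueField) (B := S)) g) =
          (Submonoid.powers g).map (Algebra.TensorProduct.includeRight (R := R)
            (A := p.asIdeal.ResidueField) (B := S)) := by
        rw [Submonoid.map_powers]
      rw [IsLocalization.Away, hpow]
      refine IsLocalization.tensorProduct_tensorProduct_right R p.asIdeal.ResidueField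
        (Submonoid.powers g) (Localization.Away g) ?_
      ext x
      simp [RingHom.algebraMap_toAlgebra, ψ]
    exact ⟨_, inferInstance, inferInstance, inferInstance, htower, hloc, (h g hg).2.2 p⟩

end Groth.Agent.S9146
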