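import Groth.Statements.S9169
import Groth.Agent.Lib.Helper7Synt25

set_option autoImplicit false
set_option linter.style.haveILetI false
universe u
open Synt

namespace Groth.Agent.S9169

open TensorProduct in
/-- Let R → S be a ring map and q a prime of S lying over p; write Q for the prime of the fibre ring
κ(p) ⊗ S that pulls back to q. Equivalent: (1) some basic open neighbourhood S_g of q is syntomic
over R; (2) some S_g is isomorphic over R to a relative global complete intersection; (3) some S_g
is of finite presentation over R, the local ring S_q is flat over R (equivalently over R_p), and the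
fibre local ring (κ(p) ⊗ S)_Q is a complete intersection over κ(p). Stated as (1) ↔ (2) and (1) ↔
(3). -/
theorem result (R S : Type u) [CommRing R] [CommRing S] [Algebra R S]
    (p : Ideal R) [p.IsPrime] (q : Ideal S) [q.IsPrime] [q.LiesOver p]
    (Q : Ideal (p.Fiber S)) [Q.IsPrime]
    (hQ : Q.comap (Algebra.TensorProduct.includeRight.toRingHom) = q) :
    ((∃ g : S, g ∉ q ∧ Synt.IsSyntomic R (Localization.Away g)) ↔
        ∃ g : S, g ∉ q ∧ ∃ (n c : ℕ) (F : Fin c → MvPolynomial (Fin n) R), Synt.IsRelGCI R n c F ∧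
          Nonempty (Localization.Away g ≃ₐ[R] Synt.RelGCIRing R n c F)) ∧
      ((∃ g : S, g ∉ q ∧ Synt.IsSyntomic R (Localization.Away g)) ↔
        ∃ g : S, g ∉ q ∧ Algebra.FinitePresentation R (Localization.Away g) ∧
          Module.Flat R (Localization.AtPrime q) ∧
          Synt.IsCIOver p.ResidueField (Localization.AtPrime Q)) := by
  have hmemQ : ∀ s : S, ((1 : p.ResidueField) ⊗ₜ[R] s : p.Fiber S) ∈ Q ↔ s ∈ q := by
    intro s
    rw [← hQ]
    rfl
  -- (2) → (1)
  have h21 : (∃ g : S, g ∉ q ∧ ∃ (n c : ℕ) (F : Fin c → MvPolynomial (Fin n) R),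
      Synt.IsRelGCI R n c F ∧ Nonempty (Localization.Away g ≃ₐ[R] Synt.RelGCIRing R n c F)) →
      ∃ g : S, g ∉ q ∧ Synt.IsSyntomic R (Localization.Away g) := by
    rintro ⟨g, hg, n, c, F, hGCI, ⟨e⟩⟩
    exact ⟨g, hg, Groth.Agent.Lib.Helper7.Synt.isSyntomic_of_algEquiv e.symm
      (Groth.Agent.Lib.Helper7.Synt.isSyntomic_relGCIRing F hGCI)⟩
  -- (1) → (3)
  have h13 : (∃ g : S, g ∉ q ∧ Synt.IsSyntomic R (Localization.Away g)) →
      ∃ g : S, g ∉ q ∧ Algebra.FinitePresentation R (Localization.Away g) ∧
        Module.Flat R (Localization.AtPrime q) ∧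
        Synt.IsCIOver p.ResidueField (Localization.AtPrime Q) := by
    rintro ⟨g, hg, hsynt⟩
    refine ⟨g, hg, hsynt.2.1, ?_, ?_⟩
    · haveI := Groth.Agent.Lib.Helper7.Synt.isPrime_map_away q g hg
      obtain ⟨ε⟩ := Groth.Agent.Lib.Helper7.Synt.nonempty_algEquiv_localization_away' R q g
        (q.map (algebraMap S (Localization.Away g)))
        (Groth.Agent.Lib.Helper7.Synt.comap_map_away q g hg)
      haveI := hsynt.1
      haveI : Module.Flat (Localization.Away g)
          (Localization.AtPrime (q.map (algebraMap S (Localization.Away g)))) :=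
        IsLocalization.flat _ (q.map (algebraMap S (Localization.Away g))).primeCompl
      haveI : Module.Flat R (Localization.AtPrime (q.map (algebraMap S (Localization.Away g)))) :=
        Module.Flat.trans R (Localization.Away g) _
      exact Module.Flat.of_linearEquiv ε.toLinearEquiv
    · have hgT : ((1 : p.ResidueField) ⊗ₜ[R] g : p.Fiber S) ∉ Q := fun h => hg ((hmemQ g).mp h)
      obtain ⟨QA, hQAprime, ⟨ε'⟩, -⟩ :=
        Groth.Agent.Lib.Helper7.Synt.exists_prime_fiber_away p Q g hgT
      have hLCI := hsynt.2.2 ⟨p, inferInstance⟩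
      exact Groth.Agent.Lib.Helper7.Synt.isCIOver_of_algEquiv _ ε'
        (Groth.Agent.Lib.Helper7.Synt.isCIOver_localization_of_isLCIOver _ hLCI QA)
  -- (3) → (2)
  have h32 : (∃ g : S, g ∉ q ∧ Algebra.FinitePresentation R (Localization.Away g) ∧
        Module.Flat R (Localization.AtPrime q) ∧
        Synt.IsCIOver p.ResidueField (Localization.AtPrime Q)) →
      ∃ g : S, g ∉ q ∧ ∃ (n c : ℕ) (F : Fin c → MvPolynomial (Fin n) R),
        Synt.IsRelGCI R n c F ∧ Nonempty (Localization.Away g ≃ₐ[R] Synt.RelGCIRing R n c F) := by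
    rintro ⟨g, hg, hfp, hflat, hCI⟩
    have hgT : ((1 : p.ResidueField) ⊗ₜ[R] g : p.Fiber S) ∉ Q := fun h => hg ((hmemQ g).mp h)
    obtain ⟨QA, hQAprime, ⟨ε'⟩, hQAcomap⟩ :=
      Groth.Agent.Lib.Helper7.Synt.exists_prime_fiber_away p Q g hgT
    haveI : (QA.comap (Algebra.TensorProduct.includeRight (R := R) (A := p.ResidueField)
        (B := Localization.Away g)).toRingHom).IsPrime := Ideal.comap_isPrime _ _
    obtain ⟨ε⟩ := Groth.Agent.Lib.Helper7.Synt.nonempty_algEquiv_localization_away' R q g
      (QA.comap (Algebra.TensorProduct.includeRight (R := R) (A := p.ResidueField)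
        (B := Localization.Away g)).toRingHom) (hQAcomap.trans hQ)
    have hflat' : Module.Flat R (Localization.AtPrime
        (QA.comap (Algebra.TensorProduct.includeRight (R := R) (A := p.ResidueField)
          (B := Localization.Away g)).toRingHom)) := Module.Flat.of_linearEquiv ε.symm.toLinearEquiv
    have hCI' : Synt.IsCIOver p.ResidueField (Localization.AtPrime QA) :=
      Groth.Agent.Lib.Helper7.Synt.isCIOver_of_algEquiv _ ε'.symm hCI
    haveI := hfp
    obtain ⟨g₁, hg₁, n, c, F, hGCI, ⟨e⟩⟩ :=
      Groth.Agent.Lib.Helper7.Synt.exists_relGCI_away_of_flat_of_isCIOver p QA hflat' hCI'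
    set z := (IsLocalization.Away.sec g g₁).1 with hz
    have hassoc : Associated (algebraMap S (Localization.Away g) z) g₁ :=
      IsLocalization.Away.associated_sec_fst g g₁
    haveI : IsScalarTower R S (Localization.Away g₁) := by
      refine IsScalarTower.of_algebraMap_eq' (R := R) (S := S) (A := Localization.Away g₁) ?_
      rw [IsScalarTower.algebraMap_eq S (Localization.Away g) (Localization.Away g₁),
        RingHom.comp_assoc, ← IsScalarTower.algebraMap_eq R S (Localization.Away g),
        ← IsScalarTower.algebraMap_eq R (Localization.Away g) (Localization.Away g₁)]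
    haveI : IsLocalization.Away (g * z) (Localization.Away g₁) :=
      IsLocalization.Away.mul_of_associated g z g₁ hassoc
    let e₂ : Localization.Away (g * z) ≃ₐ[S] Localization.Away g₁ :=
      IsLocalization.algEquiv (Submonoid.powers (g * z)) _ _
    refine ⟨g * z, ?_, n, c, F, hGCI, ⟨(e₂.restrictScalars R).trans e⟩⟩
    intro hmem
    rcases (inferInstance : q.IsPrime).mem_or_mem hmem with h1 | h1
    · exact hg h1
    · apply hg₁
      obtain ⟨u, hu⟩ := hassoc
      rw [← hu]
      refine Ideal.mul_mem_right _ _ ?_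
      have : z ∈ (QA.comap (Algebra.TensorProduct.includeRight (R := R) (A := p.ResidueField)
          (B := Localization.Away g)).toRingHom).comap (algebraMap S (Localization.Away g)) := by
        rw [hQAcomap, hQ]; exact h1
      exact this
  exact ⟨⟨fun h => h32 (h13 h), h21⟩, ⟨h13, fun h => h21 (h32 h)⟩⟩


end Groth.Agent.S9169
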