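import Groth.Statements.S15821
import Groth.Agent.S2423
import Groth.Agent.S11917

set_option autoImplicit false
universe u
open CategoryTheory
open Koszul

namespace Groth.Agent.S15821

open CategoryTheory CategoryTheory.Limits in
theorem koszul_eq (A : Type u) [CommRing A] : ∀ l : List A,
    Koszul.koszul A l = CohIII.koszulCx (ModuleCat.of A A) l
  | [] => rfl
  | f :: l => by
    show CochainComplex.mappingCone (f • 𝟙 (Koszul.koszul A l)) =
      CochainComplex.mappingCone (f • 𝟙 (CohIII.koszulCx (ModuleCat.of A A) l))
    rw [koszul_eq A l]
open CategoryTheory CategoryTheory.Limits in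
theorem isZero_congr {A : Type u} [CommRing A] {K L : CochainComplex (ModuleCat.{u} A) ℤ}
    (h : K = L) (i : ℤ) : IsZero (K.homology i) ↔ IsZero (L.homology i) := by
  subst h; rfl

open CategoryTheory CategoryTheory.Limits in
theorem iso_congr {A : Type u} [CommRing A] {K L : CochainComplex (ModuleCat.{u} A) ℤ}
    (h : K = L) (i : ℤ) (X : ModuleCat.{u} A) :
    Nonempty (K.homology i ≅ X) ↔ Nonempty (L.homology i ≅ X) := by
  subst h; rfl

/-- Let A be a commutative ring and f = (f_1, …, f_r) a sequence in A which is regular in the weak sense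
(f_1 is a non-zero-divisor of A and each f_i is a non-zero-divisor of A/(f_1, …, f_{i-1}); no
condition A/(f) ≠ 0). Then the Koszul complex K(f) (iterated mapping-cone model, degrees -r, …, 0)
has vanishing cohomology in all nonzero degrees, i.e. f is Koszul-regular, and its cohomology in
degree 0 is isomorphic as an A-module to A/(f_1, …, f_r) (existence of an A-linear isomorphism):
K(f) is a free resolution of A/(f). -/
theorem result (A : Type u) [CommRing A] (l : List A)
    (hl : RingTheory.Sequence.IsWeaklyRegular A l) :
    LCI.IsKoszulRegularSeq A l ∧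
      Nonempty ((Koszul.koszul A l).homology 0 ≅ ModuleCat.of A (A ⧸ Ideal.ofList l)) := by
  constructor
  · intro i hi
    rw [isZero_congr (koszul_eq A l)]
    exact Groth.Agent.S2423.key l (ModuleCat.of A A) hl i hi
  · rw [iso_congr (koszul_eq A l)]
    obtain ⟨e⟩ := Groth.Agent.S11917.main A l
    have h : Ideal.ofList l • (⊤ : Submodule A A) = Ideal.ofList l := by
      simp
    exact ⟨(e.trans (Submodule.quotEquivOfEq _ _ h)).toModuleIso⟩

end Groth.Agent.S15821
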