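import Groth.Statements.S9254
import Groth.Agent.Lib.Helper7Synt37
import Groth.Agent.Lib.Helper13KzDescA
import Groth.Agent.S15821

set_option autoImplicit false
universe u
attribute [local instance] HasDerivedCategory.standard
open CategoryTheory
open Synt

namespace Groth.Agent.S9254

/-- Let R be a ring and F_1, ..., F_c polynomials in R[x_1, ..., x_n] that present R[x_1, ...,
x_n]/(F_1, ..., F_c) as a relative global complete intersection over R. Then the Koszul complex of
F_1, ..., F_c over the polynomial ring is exact outside degree zero, that is, F_1, ..., F_c form a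
Koszul-regular sequence. -/
theorem result (R : Type u) [CommRing R] (n c : ℕ)
    (F : Fin c → MvPolynomial (Fin n) R) (h : Synt.IsRelGCI R n c F) :
    LCI.IsKoszulRegularSeq (MvPolynomial (Fin n) R) (List.ofFn F) := by
  apply Groth.Agent.Helper13KzDesc.isKoszulRegularSeq_of_flat_local
  intro 𝔪 h𝔪
  haveI : 𝔪.IsPrime := h𝔪.isPrime
  refine ⟨Localization.AtPrime 𝔪, inferInstance, inferInstance, inferInstance, ?_, ?_⟩
  · rw [Localization.AtPrime.map_eq_maximalIdeal]
    exact (IsLocalRing.maximalIdeal.isMaximal _).ne_top
  · by_cases hle : Ideal.span (Set.range F) ≤ 𝔪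
    · exact (Groth.Agent.S15821.result _ _
        (Groth.Agent.Lib.Helper7.Synt.isWeaklyRegular_and_flat_of_isRelGCI F h 𝔪 hle).1).1
    · apply Groth.Agent.Helper13KzDesc.isKoszulRegularSeq_of_ofList_eq_top
      rw [← Ideal.map_ofList, Groth.Agent.Lib.Helper7.Synt.ofList_ofFn]
      by_contra hne
      obtain ⟨m, hm, hlem⟩ := Ideal.exists_le_maximal _ hne
      have hm' : m = IsLocalRing.maximalIdeal (Localization.AtPrime 𝔪) :=
        IsLocalRing.eq_maximalIdeal hm
      apply hle
      rw [← Localization.AtPrime.comap_maximalIdeal (I := 𝔪), ← hm', ← Ideal.map_le_iff_le_comap]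
      exact hlem


end Groth.Agent.S9254
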