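import Groth.Statements.S6826
import Groth.Agent.Lib.Helper7Lift6
import Groth.Agent.Lib.Helper7Synt55
import Groth.Agent.Lib.Helper7Synt20
import Groth.Agent.Lib.Helper13KzDescB
import Groth.Agent.S9287

set_option autoImplicit false
set_option linter.style.haveILetI false
universe u
open Smoothing

namespace Groth.Agent.S6826

/-- Let R → R₀ be a surjective ring map with kernel I (so R₀ = R/I) and A₀ a syntomic R₀-algebra (flat,
finitely presented, with local complete intersection fibres). Then there is a syntomic R-algebra A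
with A/IA isomorphic to A₀ as an R/I-algebra. -/
theorem result {R A₀ : Type u} [CommRing R] (I : Ideal R) [CommRing A₀]
    [Algebra (R ⧸ I) A₀] (h : Synt.IsSyntomic (R ⧸ I) A₀) :
    ∃ (A : Type u) (_ : CommRing A) (_ : Algebra R A), Synt.IsSyntomic R A ∧
      Nonempty ((A ⧸ I.map (algebraMap R A)) ≃ₐ[R ⧸ I] A₀) := by
  classical
  open Groth.Agent.Lib.Helper7.Synt in
  obtain ⟨-, n, f, hf, hK⟩ := ((Groth.Agent.S9287.result (R ⧸ I) A₀).mp h).2
  have hfg := Groth.Agent.Helper13KzDesc.fg_of_isKoszulRegularIdeal hK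
  obtain ⟨s, H, hH⟩ := Submodule.fg_iff_exists_fin_generating_family.mp hfg
  have hH' : Ideal.span (Set.range H) = RingHom.ker f.toRingHom := hH
  have hK' : LCI.IsKoszulRegularIdeal (Ideal.span (Set.range H)) := by rw [hH']; exact hK
  haveI : Module.Projective (MvPolynomial (Fin n) (R ⧸ I) ⧸ Ideal.span (Set.range H))
      (Ideal.span (Set.range H)).Cotangent :=
    Groth.Agent.Helper13KzDesc.projective_of_isKoszulRegularIdeal hK'
  let eA : Synt.RelGCIRing (R ⧸ I) n s H ≃ₐ[R ⧸ I] A₀ :=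
    (Ideal.quotientEquivAlgOfEq (R ⧸ I) hH').trans (Ideal.quotientKerAlgEquivOfSurjective hf)
  have hsyn : Synt.IsSyntomic (R ⧸ I) (Synt.RelGCIRing (R ⧸ I) n s H) :=
    Groth.Agent.Lib.Helper7.Synt.isSyntomic_of_algEquiv eA.symm h
  obtain ⟨E, he, N, c, F₀, hGCI, ⟨eT⟩⟩ :=
    Groth.Agent.Lib.Helper7.Synt.exists_symRing_relGCI H hsyn
  obtain ⟨N', c', F, hF, ⟨eC⟩⟩ := Groth.Agent.Lib.Helper7.Synt.exists_lift_relGCI R I F₀ hGCI
  let ϑ' : Synt.RelGCIRing R N' c' F →+* Groth.Agent.Lib.Helper7.Synt.SymRing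
      (E.map (Ideal.Quotient.mk (Ideal.span (Set.range H)))) :=
    eT.symm.toRingEquiv.toRingHom.comp (eC.toRingEquiv.toRingHom.comp (Ideal.Quotient.mk _))
  have hϑ'def : ∀ x, ϑ' x = eT.symm (eC (Ideal.Quotient.mk _ x)) := fun x => rfl
  have hϑ'surj : Function.Surjective ϑ' :=
    eT.symm.surjective.comp (eC.surjective.comp Ideal.Quotient.mk_surjective)
  have hϑ'ker : RingHom.ker ϑ' = I.map (algebraMap R (Synt.RelGCIRing R N' c' F)) := by
    ext x
    rw [RingHom.mem_ker, hϑ'def, map_eq_zero_iff _ eT.symm.injective,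
      map_eq_zero_iff _ eC.injective, Ideal.Quotient.eq_zero_iff_mem]
  have hcomp : ∀ r, ϑ' (algebraMap R (Synt.RelGCIRing R N' c' F) r) =
      algebraMap (Synt.RelGCIRing (R ⧸ I) n s H) (Groth.Agent.Lib.Helper7.Synt.SymRing
        (E.map (Ideal.Quotient.mk (Ideal.span (Set.range H)))))
        (algebraMap R (Synt.RelGCIRing (R ⧸ I) n s H) r) := by
    intro r
    rw [hϑ'def]
    have h1 : Ideal.Quotient.mk (I.map (algebraMap R (Synt.RelGCIRing R N' c' F)))
        (algebraMap R (Synt.RelGCIRing R N' c' F) r) =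
        algebraMap (R ⧸ I) _ (Ideal.Quotient.mk I r) :=
      (Ideal.Quotient.algebraMap_quotient_map_quotient r).symm
    rw [h1, eC.commutes, eT.symm.commutes]
    rfl
  obtain ⟨A, _, _, hA, ⟨ε⟩⟩ := Groth.Agent.Lib.Helper7.Synt.exists_syntomic_lift_of_symRing R I
    (Synt.RelGCIRing (R ⧸ I) n s H) hsyn _ he (Synt.RelGCIRing R N' c' F)
    (Groth.Agent.Lib.Helper7.Synt.isSyntomic_relGCIRing F hF) ϑ' hϑ'surj hϑ'ker hcomp
  exact ⟨A, inferInstance, inferInstance, hA, ⟨ε.trans eA⟩⟩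


end Groth.Agent.S6826
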