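import Groth.Statements.S6827
import Groth.Agent.S6826
import Groth.Agent.Lib.Helper20SmoothFiber
import Groth.Agent.Lib.Helper6SmSynt
import Groth.Agent.Lib.Helper7Synt35

set_option autoImplicit false
set_option linter.style.haveILetI false
universe u
open Smoothing

namespace Groth.Agent.S6827

/-- Let R → R₀ be a surjective ring map with kernel I (so R₀ = R/I) and A₀ a smooth R₀-algebra. Then
there is a smooth R-algebra A with A/IA isomorphic to A₀ as an R/I-algebra. -/
theorem result {R A₀ : Type u} [CommRing R] (I : Ideal R) [CommRing A₀]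
    [Algebra (R ⧸ I) A₀] [Algebra.Smooth (R ⧸ I) A₀] :
    ∃ (A : Type u) (_ : CommRing A) (_ : Algebra R A), Algebra.Smooth R A ∧
      Nonempty ((A ⧸ I.map (algebraMap R A)) ≃ₐ[R ⧸ I] A₀) := by
  classical
  open TensorProduct in
  have hsynt : Synt.IsSyntomic (R ⧸ I) A₀ :=
    Groth.Agent.Lib.Helper6.SmSynt.isSyntomic_of_smooth (R ⧸ I) A₀
  obtain ⟨A, _, _, hA, ⟨ε⟩⟩ := Groth.Agent.S6826.result I hsynt
  haveI : Module.Flat R A := hA.1
  haveI : Algebra.FinitePresentation R A := hA.2.1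
  let t4 := Algebra.TensorProduct.quotIdealMapEquivQuotTensor A I
  haveI hsm0 : Algebra.Smooth (R ⧸ I) (TensorProduct R (R ⧸ I) A) :=
    Algebra.Smooth.of_equiv (ε.symm.trans t4)
  -- key: `V(IA)` lies in the smooth locus
  have key : ∀ 𝔮 : PrimeSpectrum A, I.map (algebraMap R A) ≤ 𝔮.asIdeal →
      𝔮 ∈ Algebra.smoothLocus R A := by
    intro 𝔮 h𝔮
    set p := PrimeSpectrum.comap (algebraMap R A) 𝔮 with hp
    haveI : p.asIdeal.IsPrime := p.2
    haveI : 𝔮.asIdeal.IsPrime := 𝔮.2
    have hIp : I ≤ p.asIdeal := fun a ha => h𝔮 (Ideal.mem_map_of_mem _ ha)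
    let Q := PrimeSpectrum.preimageHomeomorphFiber R A p ⟨𝔮, rfl⟩
    have hQ : PrimeSpectrum.comap Algebra.TensorProduct.includeRight.toRingHom Q = 𝔮 :=
      Groth.Agent.Lib.Helper4.FibDim.comap_includeRight_preimageHomeomorphFiber p.asIdeal ⟨𝔮, rfl⟩
    letI algK : Algebra (R ⧸ I) p.asIdeal.ResidueField :=
      (Ideal.Quotient.lift I (algebraMap R p.asIdeal.ResidueField)
        (fun a ha => Ideal.algebraMap_residueField_eq_zero.mpr (hIp ha))).toAlgebra
    haveI : IsScalarTower R (R ⧸ I) p.asIdeal.ResidueField :=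
      IsScalarTower.of_algebraMap_eq (fun r => rfl)
    haveI : Algebra.Smooth p.asIdeal.ResidueField
        (TensorProduct (R ⧸ I) p.asIdeal.ResidueField (TensorProduct R (R ⧸ I) A)) := inferInstance
    haveI hsmF : Algebra.Smooth p.asIdeal.ResidueField (p.asIdeal.Fiber A) :=
      Algebra.Smooth.of_equiv (Algebra.TensorProduct.cancelBaseChange R (R ⧸ I)
        p.asIdeal.ResidueField p.asIdeal.ResidueField A)
    have hs : Algebra.IsSmoothAt p.asIdeal.ResidueField Q.asIdeal := by
      have : Q ∈ Algebra.smoothLocus p.asIdeal.ResidueField (p.asIdeal.Fiber A) := by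
        rw [Algebra.smoothLocus_eq_univ]
        trivial
      exact this
    letI : Algebra A (p.asIdeal.Fiber A) := Algebra.TensorProduct.rightAlgebra
    have hflat : Module.Flat R (Localization.AtPrime
        (Q.asIdeal.comap (algebraMap A (p.asIdeal.Fiber A)))) := Module.Flat.trans R A _
    have h1 := Groth.Agent.Lib.Helper20.SmoothFiber.isSmoothAt_of_flat_of_isSmoothAt_fiber
      p.asIdeal Q.asIdeal hflat hs
    have h2 : Q.asIdeal.comap (algebraMap A (p.asIdeal.Fiber A)) = 𝔮.asIdeal :=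
      congrArg PrimeSpectrum.asIdeal hQ
    exact Groth.Agent.Lib.Helper20.SmoothDesc.isSmoothAt_congr _ _ h2 h1
  have hopen := Algebra.isOpen_smoothLocus (R := R) (A := A)
  obtain ⟨𝔟, h𝔟⟩ := (PrimeSpectrum.isClosed_iff_zeroLocus_ideal _).mp hopen.isClosed_compl
  have hsup : I.map (algebraMap R A) ⊔ 𝔟 = ⊤ := by
    by_contra hne
    obtain ⟨M, hM, hle⟩ := Ideal.exists_le_maximal _ hne
    have h1 := key ⟨M, hM.isPrime⟩ (le_sup_left.trans hle)
    have h2 : (⟨M, hM.isPrime⟩ : PrimeSpectrum A) ∈ (Algebra.smoothLocus R A)ᶜ := by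
      rw [h𝔟]
      exact le_sup_right.trans hle
    exact h2 h1
  obtain ⟨i, hi, b, hb, hib⟩ := Submodule.mem_sup.mp ((Ideal.eq_top_iff_one _).mp hsup)
  have hsm : Algebra.Smooth R (Localization.Away b) := by
    rw [← Algebra.basicOpen_subset_smoothLocus_iff_smooth]
    intro 𝔮 h𝔮
    by_contra hn
    have h3 : 𝔮 ∈ PrimeSpectrum.zeroLocus (𝔟 : Set A) := by
      rw [← h𝔟]
      exact hn
    exact h𝔮 (h3 hb)
  refine ⟨Localization.Away b, inferInstance, inferInstance, hsm, ?_⟩
  have hb1 : Ideal.Quotient.mk (I.map (algebraMap R A)) b = 1 := by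
    have : Ideal.Quotient.mk (I.map (algebraMap R A)) (i + b) = Ideal.Quotient.mk _ b := by
      rw [map_add, Ideal.Quotient.eq_zero_iff_mem.mpr hi, zero_add]
    rw [← this, hib, map_one]
  let t4b := Algebra.TensorProduct.quotIdealMapEquivQuotTensor (Localization.Away b) I
  obtain ⟨t2⟩ := Groth.Agent.Lib.Helper7.Synt.nonempty_tensor_away_equiv R I A b hb1
  exact ⟨((t4b.trans t2.symm).trans t4.symm).trans ε⟩


end Groth.Agent.S6827
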