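import Groth.Statements.S2024
import Groth.Agent.Lib.Helper7Smoothing10

set_option autoImplicit false
set_option linter.style.haveILetI false
universe u
open Smoothing

namespace Groth.Agent.S2024

/-- Parts (a), (b), (c) (the source also controls smoothness of the induced map on the fibres modulo
`π`, which is not restated here): let `R` be Noetherian, `Λ` an `R`-algebra and `π ∈ R` with the
annihilators of `π` and `π²` equal both in `R` and in `Λ`. Given a finitely presented algebra `C`
over `R/π²R` with a map to `Λ/π²Λ`, there are a finitely presented `R`-algebra `D`, a map `D → Λ`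
and a map `C → D/πD` compatible with the given one modulo `π`, such that `R → D` is smooth at every
prime not containing `π`, and smooth at every prime containing `π` that lies over a prime of `C` at
which `R/π²R → C` is smooth. -/
theorem result {R Λ C : Type u} [CommRing R] [IsNoetherianRing R] [CommRing Λ]
    [Algebra R Λ] (π : R) (hR : ∀ r : R, π ^ 2 * r = 0 → π * r = 0)
    (hΛ : ∀ x : Λ, π ^ 2 • x = 0 → π • x = 0) [CommRing C] [Algebra R C]
    [Algebra (R ⧸ Ideal.span {π ^ 2}) C] [IsScalarTower R (R ⧸ Ideal.span {π ^ 2}) C]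
    [Algebra.FinitePresentation (R ⧸ Ideal.span {π ^ 2}) C]
    (g : C →ₐ[R] Λ ⧸ Ideal.span {algebraMap R Λ (π ^ 2)}) :
    ∃ (D : Type u) (_ : CommRing D) (_ : Algebra R D), Algebra.FinitePresentation R D ∧
      ∃ (δ : D →ₐ[R] Λ) (ψ : C →ₐ[R] D ⧸ Ideal.span {algebraMap R D π}),
        (∀ (c : C) (d : D) (l : Λ), Ideal.Quotient.mk (Ideal.span {algebraMap R D π}) d = ψ c →
          Ideal.Quotient.mk (Ideal.span {algebraMap R Λ (π ^ 2)}) l = g c →
            δ d - l ∈ Ideal.span {algebraMap R Λ π}) ∧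
        (∀ (Q : Ideal D) [Q.IsPrime], algebraMap R D π ∉ Q → Algebra.IsSmoothAt R Q) ∧
        (∀ (Q : Ideal (D ⧸ Ideal.span {algebraMap R D π})) [Q.IsPrime],
          Algebra.IsSmoothAt (R ⧸ Ideal.span {π ^ 2}) (Q.comap ψ) →
            Algebra.IsSmoothAt R (Q.comap (Ideal.Quotient.mk (Ideal.span {algebraMap R D π})))) := by
  classical
  haveI : Algebra.FinitePresentation R (R ⧸ Ideal.span {π ^ 2}) :=
    Algebra.FinitePresentation.quotient (Submodule.fg_span_singleton _)
  haveI : Algebra.FinitePresentation R C :=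
    Algebra.FinitePresentation.trans R (R ⧸ Ideal.span {π ^ 2}) C
  obtain ⟨n, φ, hφ, hfg⟩ := Algebra.FinitePresentation.out (R := R) (A := C)
  obtain ⟨m, f, hf⟩ := Submodule.fg_iff_exists_fin_generating_family.mp hfg
  have hker : RingHom.ker φ.toRingHom = Ideal.span (Set.range f) := hf.symm
  have hπ2 : MvPolynomial.C (π ^ 2) ∈ Ideal.span (Set.range f) := by
    rw [← hker]
    change φ (MvPolynomial.C (π ^ 2)) = 0
    rw [← MvPolynomial.algebraMap_eq, φ.commutes,
      IsScalarTower.algebraMap_apply R (R ⧸ Ideal.span {π ^ 2}) C]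
    have : algebraMap R (R ⧸ Ideal.span {π ^ 2}) (π ^ 2) = 0 :=
      Ideal.Quotient.eq_zero_iff_mem.mpr (Ideal.subset_span rfl)
    rw [this, map_zero]
  obtain ⟨δ, hδ⟩ := Lib.Helper7.Smoothing.exists_DD_to_Λ π f hΛ φ hker g
  obtain ⟨ψ, hψ⟩ := Lib.Helper7.Smoothing.exists_DD_from_C π f φ hφ hker
  refine ⟨Lib.Helper7.Smoothing.DD π f, inferInstance, inferInstance,
    Lib.Helper7.Smoothing.DD_finitePresentation π f, δ, ψ, ?_, ?_, ?_⟩
  · intro c d l hd hl
    obtain ⟨p, rfl⟩ := hφ c
    rw [hψ, Ideal.Quotient.eq, Ideal.mem_span_singleton'] at hd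
    obtain ⟨d', hd'⟩ := hd
    rw [← hδ, Ideal.Quotient.eq, Ideal.mem_span_singleton'] at hl
    obtain ⟨l', hl'⟩ := hl
    have e : δ d - l = algebraMap R Λ π * (δ d' - algebraMap R Λ π * l') := by
      have e1 : d = Lib.Helper7.Smoothing.DDι π f p + d' * algebraMap R _ π := by
        rw [hd']; ring
      rw [e1, map_add, map_mul, AlgHom.commutes]
      have e2 : l = δ (Lib.Helper7.Smoothing.DDι π f p) + l' * algebraMap R Λ (π ^ 2) := by
        rw [hl']; ring
      rw [e2, map_pow]
      ring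
    rw [e]
    exact Ideal.mul_mem_right _ _ (Ideal.subset_span rfl)
  · intro Q _ hQ
    exact Lib.Helper7.Smoothing.DD_isSmoothAt_of_notMem π f Q hQ
  · intro Q _ hsm
    haveI := hsm
    obtain ⟨c, rows, cols, a₃, h, g', ha₃, ⟨a₂, rfl⟩, hhg, hsp⟩ :=
      Lib.Helper7.Smoothing.exists_local_data π f φ hφ hker (Q.comap ψ)
    refine Lib.Helper7.Smoothing.DD_isSmoothAt_of_local_data π f rows hR hπ2 cols a₂ h g' hhg hsp
      _ ?_
    intro hmem
    apply ha₃
    rw [Ideal.mem_comap, hψ]
    exact hmem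


end Groth.Agent.S2024
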