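import Groth.Statements.S6829
import Mathlib.RingTheory.TensorProduct.MvPolynomial
import Mathlib.LinearAlgebra.TensorProduct.RightExactness

set_option autoImplicit false
universe u
open Smoothing

namespace Groth.Agent.S6829

open TensorProduct MvPolynomial Smoothing

variable {R A R' : Type u} [CommRing R] [CommRing A] [Algebra R A] [CommRing R'] [Algebra R R']

/-- base change of the surjection of a marked presentation -/
noncomputable def bcHom (P : MarkedPresentation R A) :
    MvPolynomial (Fin P.n) R' →ₐ[R'] R' ⊗[R] A :=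
  (Algebra.TensorProduct.map (AlgHom.id R' R') P.hom).comp
    (algebraTensorAlgEquiv (σ := Fin P.n) R R').symm.toAlgHom

lemma bcHom_map (P : MarkedPresentation R A) (p : MvPolynomial (Fin P.n) R) :
    bcHom (R' := R') P (MvPolynomial.map (algebraMap R R') p) = 1 ⊗ₜ P.hom p := by
  simp [bcHom]

lemma bcHom_surj (P : MarkedPresentation R A) : Function.Surjective (bcHom (R' := R') P) := by
  have h1 : Function.Surjective (Algebra.TensorProduct.map (AlgHom.id R' R') P.hom) :=
    Algebra.TensorProduct.map_surjective _ _ Function.surjective_id P.surj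
  exact h1.comp (algebraTensorAlgEquiv (σ := Fin P.n) R R').symm.surjective

lemma bcHom_ker (P : MarkedPresentation R A) :
    RingHom.ker (bcHom (R' := R') P).toRingHom =
      Ideal.span (Set.range fun j => MvPolynomial.map (algebraMap R R') (P.rel j)) := by
  apply le_antisymm
  · intro x hx
    set e := algebraTensorAlgEquiv (σ := Fin P.n) R R' with he
    have hx' : e.symm x ∈ RingHom.ker
        (Algebra.TensorProduct.map (AlgHom.id R R') P.hom) := by
      have : bcHom (R' := R') P x = 0 := hx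
      exact this
    rw [Algebra.TensorProduct.lTensor_ker _ P.surj] at hx'
    have hker : RingHom.ker P.hom = Ideal.span (Set.range P.rel) := P.ker_eq
    rw [hker, Ideal.map_span] at hx'
    have hx'' : e (e.symm x) ∈ Ideal.map (e : R' ⊗[R] MvPolynomial (Fin P.n) R →+*
        MvPolynomial (Fin P.n) R') (Ideal.span
          ((Algebra.TensorProduct.includeRight : MvPolynomial (Fin P.n) R →ₐ[R] R' ⊗[R] _) ''
            Set.range P.rel)) := Ideal.mem_map_of_mem _ hx'
    rw [e.apply_symm_apply, Ideal.map_span] at hx''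
    refine Ideal.span_mono ?_ hx''
    rintro _ ⟨_, ⟨_, ⟨j, rfl⟩, rfl⟩, rfl⟩
    exact ⟨j, by simp [he]⟩
  · rw [Ideal.span_le]
    rintro _ ⟨j, rfl⟩
    have h0 : P.hom (P.rel j) = 0 := by
      have : P.rel j ∈ RingHom.ker P.hom.toRingHom := by
        rw [P.ker_eq]; exact Ideal.subset_span ⟨j, rfl⟩
      exact this
    show bcHom (R' := R') P _ = 0
    rw [bcHom_map, h0, tmul_zero]

/-- the base-changed marked presentation -/
noncomputable def bcPres (P : MarkedPresentation R A) : MarkedPresentation R' (R' ⊗[R] A) where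
  n := P.n
  m := P.m
  c := P.c
  hcn := P.hcn
  hcm := P.hcm
  rel j := MvPolynomial.map (algebraMap R R') (P.rel j)
  hom := bcHom P
  surj := bcHom_surj P
  ker_eq := bcHom_ker P

lemma jacobianMinor_map {n m c : ℕ} (f : Fin m → MvPolynomial (Fin n) R) (rows : Fin c → Fin m)
    (cols : Fin c → Fin n) :
    jacobianMinor (fun j => MvPolynomial.map (algebraMap R R') (f j)) rows cols =
      MvPolynomial.map (algebraMap R R') (jacobianMinor f rows cols) := by
  unfold jacobianMinor
  rw [RingHom.map_det]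
  congr 1
  ext j k
  simp [pderiv_map]

lemma killsTail_aux (P : MarkedPresentation R A) (a : A) (h : KillsTail P a)
    (a' : MvPolynomial (Fin P.n) R') (ha' : bcHom (R' := R') P a' = 1 ⊗ₜ a) (j : Fin P.m)
    (hj : P.c ≤ (j : ℕ)) :
    a' * MvPolynomial.map (algebraMap R R') (P.rel j) ∈
      Ideal.span ((fun j => MvPolynomial.map (algebraMap R R') (P.rel j)) ''
        {j' : Fin P.m | (j' : ℕ) < P.c}) ⊔
      Ideal.span (Set.range fun j => MvPolynomial.map (algebraMap R R') (P.rel j)) ^ 2 := by
  obtain ⟨a₀, ha₀⟩ := P.surj a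
  have h0 := h a₀ ha₀ j hj
  let φ : MvPolynomial (Fin P.n) R →+* MvPolynomial (Fin P.n) R' :=
    MvPolynomial.map (algebraMap R R')
  set rel' : Fin P.m → MvPolynomial (Fin P.n) R' := fun j => φ (P.rel j) with hrel'
  -- image of the target ideal
  have himg : φ (a₀ * P.rel j) ∈
      Ideal.span (rel' '' {j' : Fin P.m | (j' : ℕ) < P.c}) ⊔ Ideal.span (Set.range rel') ^ 2 := by
    have := Ideal.mem_map_of_mem φ h0
    rw [Ideal.map_sup, Ideal.map_pow, Ideal.map_span, Ideal.map_span] at this
    have hle : Ideal.span (φ '' (P.rel '' {j' : Fin P.m | (j' : ℕ) < P.c})) ⊔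
        Ideal.span (φ '' Set.range P.rel) ^ 2 ≤
        Ideal.span (rel' '' {j' : Fin P.m | (j' : ℕ) < P.c}) ⊔ Ideal.span (Set.range rel') ^ 2 := by
      refine sup_le_sup (Ideal.span_mono ?_) (Ideal.pow_right_mono (Ideal.span_mono ?_) 2)
      · rintro _ ⟨_, ⟨j', hj', rfl⟩, rfl⟩
        exact ⟨j', hj', rfl⟩
      · rintro _ ⟨_, ⟨j', rfl⟩, rfl⟩
        exact ⟨j', rfl⟩
    exact hle this
  have hdiff : a' - φ a₀ ∈ Ideal.span (Set.range rel') := by
    rw [← bcHom_ker (R' := R') P]
    show bcHom (R' := R') P (a' - φ a₀) = 0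
    rw [map_sub, ha']
    show _ - bcHom (R' := R') P (MvPolynomial.map (algebraMap R R') a₀) = 0
    rw [bcHom_map, ha₀, sub_self]
  have hrel : rel' j ∈ Ideal.span (Set.range rel') := Ideal.subset_span ⟨j, rfl⟩
  have : a' * rel' j = φ (a₀ * P.rel j) + (a' - φ a₀) * rel' j := by
    rw [map_mul]
    show _ = φ a₀ * rel' j + _
    ring
  show a' * rel' j ∈ _
  rw [this]
  refine Ideal.add_mem _ himg (Ideal.mem_sup_right ?_)
  rw [pow_two]
  exact Ideal.mul_mem_mul hdiff hrel

lemma killsTail_bc (P : MarkedPresentation R A) (a : A) (h : KillsTail P a) :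
    KillsTail (bcPres (R' := R') P) ((1 : R') ⊗ₜ[R] a) :=
  fun a' ha' j hj => killsTail_aux P a h a' ha' j hj


open TensorProduct in
/-- Let A be a finitely presented R-algebra, R → R' a ring map and a ∈ A. If a is elementary standard,
resp. strictly standard, in A over R, then a ⊗ 1 is elementary standard, resp. strictly standard, in
A ⊗_R R' over R' (written here as 1 ⊗ a in R' ⊗_R A). -/
theorem result {R A R' : Type u} [CommRing R] [CommRing A] [Algebra R A]
    [Algebra.FinitePresentation R A] [CommRing R'] [Algebra R R'] (a : A) :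
    (Smoothing.IsElementaryStandard R A a →
        Smoothing.IsElementaryStandard R' (R' ⊗[R] A) ((1 : R') ⊗ₜ[R] a)) ∧
      (Smoothing.IsStrictlyStandard R A a →
        Smoothing.IsStrictlyStandard R' (R' ⊗[R] A) ((1 : R') ⊗ₜ[R] a)) := by
  constructor
  · rintro ⟨P, ⟨a', ha'⟩, hk⟩
    refine ⟨bcPres P, ⟨1 ⊗ₜ a', ?_⟩, killsTail_bc P a hk⟩
    show _ = _ * bcHom (R' := R') P (jacobianMinor (fun j => MvPolynomial.map (algebraMap R R') (P.rel j)) _ _)
    rw [jacobianMinor_map, bcHom_map, Algebra.TensorProduct.tmul_mul_tmul, one_mul]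
    exact congrArg (fun z => (1 : R') ⊗ₜ[R] z) ha'
  · rintro ⟨P, hmem, hk⟩
    refine ⟨bcPres P, ?_, killsTail_bc P a hk⟩
    have := Ideal.mem_map_of_mem
      ((Algebra.TensorProduct.includeRight : A →ₐ[R] R' ⊗[R] A) : A →+* R' ⊗[R] A) hmem
    rw [Ideal.map_span] at this
    refine Ideal.span_mono ?_ this
    rintro _ ⟨_, ⟨cols, rfl⟩, rfl⟩
    refine ⟨cols, ?_⟩
    show bcHom (R' := R') P (jacobianMinor (fun j => MvPolynomial.map (algebraMap R R') (P.rel j)) _ _) = _
    rw [jacobianMinor_map, bcHom_map]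
    rfl

end Groth.Agent.S6829
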