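import Groth.Statements.S5777
import Mathlib
import Groth.Agent.Lib.Helper5LocalFlat

set_option autoImplicit false
universe u
open EGA41

namespace Groth.Agent.S5777

open TensorProduct

/-- Let φ : A → B be a local homomorphism of Noetherian local rings, M a finitely generated B-module and
(f_i)_{1 ≤ i ≤ n} an A-regular sequence of elements of the maximal ideal of A, generating the ideal
J. Then M is flat over A if and only if M/JM is flat over A/J and (f_i) is an M-regular sequence. -/
theorem result (A B : Type u) [CommRing A] [CommRing B]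
    [IsLocalRing A] [IsLocalRing B] [IsNoetherianRing A] [IsNoetherianRing B] [Algebra A B]
    [IsLocalHom (algebraMap A B)] (M : Type u) [AddCommGroup M] [Module B M] [Module A M]
    [IsScalarTower A B M] [Module.Finite B M] (fs : List A) (hfs : ∀ f ∈ fs, f ∈ IsLocalRing.maximalIdeal A)
    (hA : RingTheory.Sequence.IsWeaklyRegular A fs) :
    Module.Flat A M ↔
      Module.Flat (A ⧸ Ideal.ofList fs) (M ⧸ (Ideal.ofList fs • (⊤ : Submodule A M))) ∧
        RingTheory.Sequence.IsWeaklyRegular M fs := by
  have hsurj : Function.Surjective (algebraMap A (A ⧸ Ideal.ofList fs)) :=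
    Ideal.Quotient.mk_surjective
  let e : ((A ⧸ Ideal.ofList fs) ⊗[A] M) ≃ₗ[A ⧸ Ideal.ofList fs]
      (M ⧸ (Ideal.ofList fs • (⊤ : Submodule A M))) :=
    LinearEquiv.extendScalarsOfSurjective hsurj (TensorProduct.quotTensorEquivQuotSMul M (Ideal.ofList fs))
  constructor
  · intro hflat
    refine ⟨(Module.Flat.equiv_iff e).mp inferInstance, ?_⟩
    have h1 : RingTheory.Sequence.IsWeaklyRegular (A ⊗[A] M) fs := hA.isWeaklyRegular_rTensor
    exact ((TensorProduct.lid A M).isWeaklyRegular_congr fs).mp h1
  · rintro ⟨hflat, hreg⟩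
    have hflat' : Module.Flat (A ⧸ Ideal.ofList fs) ((A ⧸ Ideal.ofList fs) ⊗[A] M) :=
      (Module.Flat.equiv_iff e).mpr hflat
    apply Groth.Agent.Lib.Helper5.flat_of_lTensor_ideal_injective (A := A) (B := B) M (Ideal.ofList fs)
    · rw [IsLocalRing.jacobson_eq_maximalIdeal ⊥ bot_ne_top]
      have h1 : Ideal.ofList fs ≤ IsLocalRing.maximalIdeal A := by
        rw [Ideal.ofList, Ideal.span_le]
        exact fun f hf => hfs f hf
      exact (Ideal.map_mono h1).trans (IsLocalRing.map_maximalIdeal_le (algebraMap A B))
    · exact Groth.Agent.Lib.Helper5.lTensor_ofList_subtype_injective_of_isWeaklyRegular fs hreg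
    · exact Groth.Agent.Lib.Helper5.lTensor_restrictScalars_subtype_injective_of_flat_baseChange _ hflat'

end Groth.Agent.S5777
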