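import Groth.Statements.S2109
import Groth.Agent.Lib.Helper5RLR
import Groth.Agent.Lib.Helper5RegSeqPow
import Mathlib

set_option autoImplicit false
set_option linter.style.haveILetI false
universe u
open Smoothing

namespace Groth.Agent.S2109

open RingTheory.Sequence Groth.Agent.Lib.Helper5

-- the ideal generated by the e-th powers of the π_j, j < i
def JJ {Λ : Type u} [CommRing Λ] {d : ℕ} (e : ℕ) (π : Fin d → Λ) (i : Fin d) : Ideal Λ :=
  Ideal.span (Set.range fun j : {j : Fin d // (j : ℕ) < (i : ℕ)} => π j ^ e)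

theorem JJ_congr {Λ : Type u} [CommRing Λ] {d : ℕ} (e : ℕ) (π π' : Fin d → Λ) (i : Fin d)
    (h : ∀ j : Fin d, (j : ℕ) < (i : ℕ) → π j = π' j) : JJ e π i = JJ e π' i := by
  unfold JJ
  congr 1
  ext a
  constructor
  · rintro ⟨j, rfl⟩
    exact ⟨j, by simp only [h j j.2]⟩
  · rintro ⟨j, rfl⟩
    exact ⟨j, by simp only [h j j.2]⟩

theorem map_JJ {Λ L : Type u} [CommRing Λ] [CommRing L] (f : Λ →+* L) {d : ℕ} (e : ℕ)
    (π : Fin d → Λ) (i : Fin d) : (JJ e π i).map f = JJ e (fun j => f (π j)) i := by
  unfold JJ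
  rw [Ideal.map_span]
  congr 1
  ext a
  constructor
  · rintro ⟨_, ⟨j, rfl⟩, rfl⟩
    exact ⟨j, by simp⟩
  · rintro ⟨j, rfl⟩
    exact ⟨_, ⟨j, rfl⟩, by simp⟩

-- regularity in the regular local ring
theorem key_reg {L : Type u} [CommRing L] [IsRegularLocalRing L] {d : ℕ}
    (hd : ringKrullDim L = d) (e : ℕ) (he : 0 < e) (y : Fin d → L)
    (hy : Ideal.span (Set.range y) = IsLocalRing.maximalIdeal L) (i : Fin d) (z : L)
    (hz : y i * z ∈ JJ e y i) : z ∈ JJ e y i := by
  classical
  have hreg := (isRegular_ofFn_of_span_eq_maximalIdeal hd y hy).toIsWeaklyRegular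
  obtain ⟨v, hv⟩ : ∃ v : Fin d → ℕ, v = fun j : Fin d => if (j : ℕ) < (i : ℕ) then e else 1 :=
    ⟨_, rfl⟩
  have hv1 : ∀ j, 1 ≤ v j := by
    intro j; rw [hv]; dsimp only; split_ifs <;> omega
  have hpow := isWeaklyRegular_ofFn_pow d y v hv1 hreg
  have hi : (i : ℕ) < (List.ofFn fun j => y j ^ v j).length := by
    rw [List.length_ofFn]; exact i.2
  have h1 := hpow.regular_mod_prev i hi
  have hile : (i : ℕ) ≤ d := i.2.le
  have hofList : ∀ (n : ℕ) (w : Fin n → L), Ideal.ofList (List.ofFn w) = Ideal.span (Set.range w) := by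
    intro n w
    rw [Ideal.ofList]
    congr 1
    ext a
    exact List.mem_ofFn' w a
  have hJ : Ideal.ofList ((List.ofFn fun j => y j ^ v j).take i) = JJ e y i := by
    rw [← Fin.ofFn_take_eq_take_ofFn hile, hofList]
    unfold JJ
    congr 1
    ext a
    constructor
    · rintro ⟨j, rfl⟩
      refine ⟨⟨Fin.castLE hile j, by simp⟩, ?_⟩
      have hlt : ((Fin.castLE hile j : Fin d) : ℕ) < (i : ℕ) := by simp
      simp only [hv, Fin.take_apply, if_pos hlt]
    · rintro ⟨⟨j, hj⟩, rfl⟩
      refine ⟨⟨j, hj⟩, ?_⟩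
      have : Fin.castLE hile ⟨(j : ℕ), hj⟩ = j := by ext; simp
      simp only [Fin.take_apply, this, hv, if_pos hj]
  have hget : (List.ofFn fun j => y j ^ v j)[(i : ℕ)]'hi = y i := by
    simp [hv]
  rw [hget, hJ, isSMulRegular_iff_right_eq_zero_of_smul] at h1
  have h2 := h1 (Submodule.Quotient.mk z)
  rw [← Submodule.Quotient.mk_smul, Submodule.Quotient.mk_eq_zero, smul_eq_mul, Ideal.mul_top,
    smul_eq_mul, Submodule.Quotient.mk_eq_zero] at h2
  exact h2 hz


theorem span_range_eq_of_units {L : Type u} [CommRing L] {ι : Type*} (y b : ι → L)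
    (h : ∀ i, ∃ u : L, IsUnit u ∧ b i = u * y i) :
    Ideal.span (Set.range b) = Ideal.span (Set.range y) := by
  apply le_antisymm
  · rw [Ideal.span_le]
    rintro _ ⟨i, rfl⟩
    obtain ⟨u, -, hu⟩ := h i
    rw [hu]
    exact Ideal.mul_mem_left _ _ (Ideal.subset_span ⟨i, rfl⟩)
  · rw [Ideal.span_le]
    rintro _ ⟨i, rfl⟩
    obtain ⟨u, hu1, hu⟩ := h i
    obtain ⟨u', rfl⟩ := hu1
    have : y i = (↑u'⁻¹ : L) * b i := by
      rw [hu, ← mul_assoc, Units.inv_mul, one_mul]
    rw [this]
    exact Ideal.mul_mem_left _ _ (Ideal.subset_span ⟨i, rfl⟩)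

theorem exists_mem_primeCompl_mul_mem {Λ : Type u} [CommRing Λ] [IsNoetherianRing Λ]
    (q : Ideal Λ) [q.IsPrime] (J : Ideal Λ) :
    ∃ s ∈ q.primeCompl, ∀ x : Λ, algebraMap Λ (Localization.AtPrime q) x ∈
      J.map (algebraMap Λ (Localization.AtPrime q)) → s * x ∈ J := by
  classical
  have key : ∀ F : Finset Λ, (∀ x ∈ F, algebraMap Λ (Localization.AtPrime q) x ∈
      J.map (algebraMap Λ (Localization.AtPrime q))) →
      ∃ s ∈ q.primeCompl, ∀ x ∈ Ideal.span (F : Set Λ), s * x ∈ J := by
    intro F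
    induction F using Finset.induction_on with
    | empty =>
      intro _
      refine ⟨1, Submonoid.one_mem _, fun x hx => ?_⟩
      rw [Finset.coe_empty, Ideal.span_empty, Ideal.mem_bot] at hx
      rw [hx, mul_zero]; exact J.zero_mem
    | insert a F ha ih =>
      intro hF
      obtain ⟨s, hs, hsx⟩ := ih (fun x hx => hF x (Finset.mem_insert_of_mem hx))
      obtain ⟨m, hm, hma⟩ := (IsLocalization.algebraMap_mem_map_algebraMap_iff q.primeCompl
        (Localization.AtPrime q) J a).mp (hF a (Finset.mem_insert_self a F))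
      refine ⟨s * m, Submonoid.mul_mem _ hs hm, fun x hx => ?_⟩
      rw [Finset.coe_insert, Ideal.mem_span_insert] at hx
      obtain ⟨c, z, hz, rfl⟩ := hx
      have h1 : s * m * (c * a + z) = (s * c) * (m * a) + m * (s * z) := by ring
      rw [h1]
      exact J.add_mem (J.mul_mem_left _ hma) (J.mul_mem_left _ (hsx z hz))
  obtain ⟨F, hF⟩ := (IsNoetherian.noetherian
    ((J.map (algebraMap Λ (Localization.AtPrime q))).comap (algebraMap Λ (Localization.AtPrime q)))
    : Submodule.FG _)
  obtain ⟨s, hs, hsx⟩ := key F (fun x hx => by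
    have : x ∈ (J.map (algebraMap Λ (Localization.AtPrime q))).comap
        (algebraMap Λ (Localization.AtPrime q)) := by
      rw [← hF]; exact Submodule.subset_span hx
    exact this)
  refine ⟨s, hs, fun x hx => hsx x ?_⟩
  have : x ∈ (J.map (algebraMap Λ (Localization.AtPrime q))).comap
      (algebraMap Λ (Localization.AtPrime q)) := hx
  rw [← hF] at this
  exact this

theorem step {Λ : Type u} [CommRing Λ] [IsNoetherianRing Λ] (q : Ideal Λ) [q.IsPrime]
    (J : Ideal Λ) (t : Λ)
    (hreg : ∀ z : Localization.AtPrime q, algebraMap Λ (Localization.AtPrime q) t * z ∈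
      J.map (algebraMap Λ (Localization.AtPrime q)) →
      z ∈ J.map (algebraMap Λ (Localization.AtPrime q))) :
    ∃ w ∈ q.primeCompl, ∀ x : Λ, (w * t) ^ 2 * x ∈ J → (w * t) * x ∈ J := by
  obtain ⟨s, hs, hsx⟩ := exists_mem_primeCompl_mul_mem q J
  let f : ℕ →o Ideal Λ :=
    { toFun := fun m => Submodule.comap (LinearMap.mulLeft Λ (s ^ m)) J
      monotone' := by
        intro m m' hmm x hx
        rw [Submodule.mem_comap, LinearMap.mulLeft_apply] at hx ⊢
        have : s ^ m' * x = s ^ (m' - m) * (s ^ m * x) := by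
          rw [← mul_assoc, ← pow_add]; congr 2; omega
        rw [this]
        exact J.mul_mem_left _ hx }
  have hf : ∀ m x, x ∈ f m ↔ s ^ m * x ∈ J := by
    intro m x
    show x ∈ Submodule.comap (LinearMap.mulLeft Λ (s ^ m)) J ↔ _
    rw [Submodule.mem_comap, LinearMap.mulLeft_apply]
  obtain ⟨n0, hn0⟩ := monotone_stabilizes_iff_noetherian.mpr
    (inferInstance : IsNoetherian Λ Λ) f
  refine ⟨s ^ (n0 + 1), Submonoid.pow_mem _ hs _, fun x hx => ?_⟩
  have h1 : algebraMap Λ (Localization.AtPrime q) t *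
      (algebraMap Λ (Localization.AtPrime q) t *
        algebraMap Λ (Localization.AtPrime q) ((s ^ (n0 + 1)) ^ 2 * x)) ∈
      J.map (algebraMap Λ (Localization.AtPrime q)) := by
    rw [← map_mul, ← map_mul]
    have : t * (t * ((s ^ (n0 + 1)) ^ 2 * x)) = (s ^ (n0 + 1) * t) ^ 2 * x := by ring
    rw [this]
    exact Ideal.mem_map_of_mem _ hx
  have h2 := hreg _ (hreg _ h1)
  have h3 := hsx _ h2
  have h4 : x ∈ f (1 + 2 * (n0 + 1)) := by
    rw [hf]
    have : s ^ (1 + 2 * (n0 + 1)) * x = s * ((s ^ (n0 + 1)) ^ 2 * x) := by ring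
    rw [this]; exact h3
  rw [← hn0 (1 + 2 * (n0 + 1)) (by omega), hf] at h4
  have : s ^ (n0 + 1) * t * x = (s * t) * (s ^ n0 * x) := by ring
  rw [this]
  exact J.mul_mem_left _ h4

theorem main {Λ : Type u} [CommRing Λ] [IsNoetherianRing Λ] (I q : Ideal Λ)
    [q.IsPrime] (n e d : ℕ) (hn : 0 < n) (he : 0 < e)
    (hpow : (q ^ n).map (algebraMap Λ (Localization.AtPrime q)) ≤
      I.map (algebraMap Λ (Localization.AtPrime q)))
    [IsRegularLocalRing (Localization.AtPrime q)]
    (hd : ringKrullDim (Localization.AtPrime q) = d) (k : ℕ) (hk : k ≤ d) :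
    ∃ π : Fin d → Λ, (∀ i, π i ∈ q) ∧
      Ideal.span (Set.range fun i => algebraMap Λ (Localization.AtPrime q) (π i)) =
        q.map (algebraMap Λ (Localization.AtPrime q)) ∧
      (∀ i, π i ^ n ∈ I) ∧
      ∀ i : Fin d, (i : ℕ) < k → ∀ x : Λ, π i ^ 2 * x ∈ JJ e π i → π i * x ∈ JJ e π i := by
  classical
  have hmax : q.map (algebraMap Λ (Localization.AtPrime q)) =
      IsLocalRing.maximalIdeal (Localization.AtPrime q) :=
    Localization.AtPrime.map_eq_maximalIdeal
  induction k with
  | zero =>
    -- generators of the maximal ideal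
    have hNoeth : IsNoetherianRing (Localization.AtPrime q) := inferInstance
    have hreg : ((IsLocalRing.maximalIdeal (Localization.AtPrime q)).spanFinrank : WithBot ℕ∞) =
        ringKrullDim (Localization.AtPrime q) :=
      IsRegularLocalRing.spanFinrank_maximalIdeal
    rw [hd] at hreg
    have hreg' : (IsLocalRing.maximalIdeal (Localization.AtPrime q)).spanFinrank = d := by
      exact_mod_cast hreg
    obtain ⟨s, z, hs, hsup⟩ := exists_extension_span_eq_maximalIdeal
      (R := Localization.AtPrime q) (r := 0) (fun i => i.elim0) (linearIndependent_empty_type)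
    have hsd : s = d := by omega
    subst hsd
    have hx : Ideal.span (Set.range fun i => (z i : Localization.AtPrime q)) =
        IsLocalRing.maximalIdeal (Localization.AtPrime q) := by
      have : (Set.range fun i : Fin 0 => ((Fin.elim0 i :
          IsLocalRing.maximalIdeal (Localization.AtPrime q)) : Localization.AtPrime q)) = ∅ :=
        Set.range_eq_empty _
      rw [this, Ideal.span_empty, sup_bot_eq] at hsup
      exact hsup
    -- numerators
    have hnum : ∀ i : Fin s, ∃ a : Λ, a ∈ q ∧ ∃ u : Localization.AtPrime q, IsUnit u ∧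
        algebraMap Λ (Localization.AtPrime q) a = u * (z i : Localization.AtPrime q) := by
      intro i
      obtain ⟨⟨a, m⟩, ham⟩ := IsLocalization.surj q.primeCompl (z i : Localization.AtPrime q)
      dsimp only at ham
      have hu : IsUnit (algebraMap Λ (Localization.AtPrime q) m) :=
        IsLocalization.map_units _ m
      refine ⟨a, ?_, _, hu, by rw [← ham, mul_comm]⟩
      have : algebraMap Λ (Localization.AtPrime q) a ∈
          IsLocalRing.maximalIdeal (Localization.AtPrime q) := by
        rw [← ham]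
        exact Ideal.mul_mem_right _ _ (z i).2
      exact (IsLocalization.AtPrime.to_map_mem_maximal_iff (Localization.AtPrime q) q a).mp this
    choose a haq u hu hau using hnum
    -- the power condition
    have hsc : ∀ i : Fin s, ∃ m ∈ q.primeCompl, m * a i ^ n ∈ I := by
      intro i
      apply (IsLocalization.algebraMap_mem_map_algebraMap_iff q.primeCompl
        (Localization.AtPrime q) I (a i ^ n)).mp
      exact hpow (Ideal.mem_map_of_mem _ (Ideal.pow_mem_pow (haq i) n))
    choose m hm hma using hsc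
    refine ⟨fun i => m i * a i, fun i => q.mul_mem_left _ (haq i), ?_, ?_, ?_⟩
    · rw [hmax, ← hx]
      apply span_range_eq_of_units
      intro i
      refine ⟨algebraMap Λ (Localization.AtPrime q) (m i) * u i,
        (IsLocalization.map_units _ (⟨m i, hm i⟩ : q.primeCompl)).mul (hu i), ?_⟩
      rw [map_mul, hau, mul_assoc]
    · intro i
      obtain ⟨n', rfl⟩ : ∃ n', n = n' + 1 := ⟨n - 1, by omega⟩
      have : (m i * a i) ^ (n' + 1) = m i ^ n' * (m i * a i ^ (n' + 1)) := by ring
      rw [this]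
      exact I.mul_mem_left _ (hma i)
    · intro i hi
      omega
  | succ k ih =>
    obtain ⟨π, hπq, hπspan, hπpow, hπann⟩ := ih (by omega)
    have hkd : k < d := by omega
    obtain ⟨i0, hi0⟩ : ∃ i0 : Fin d, i0 = ⟨k, hkd⟩ := ⟨_, rfl⟩
    have hi0k : (i0 : ℕ) = k := by rw [hi0]
    have hy : Ideal.span (Set.range fun i => algebraMap Λ (Localization.AtPrime q) (π i)) =
        IsLocalRing.maximalIdeal (Localization.AtPrime q) := by rw [hπspan, hmax]
    have hreg : ∀ z : Localization.AtPrime q, algebraMap Λ (Localization.AtPrime q) (π i0) * z ∈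
        (JJ e π i0).map (algebraMap Λ (Localization.AtPrime q)) →
        z ∈ (JJ e π i0).map (algebraMap Λ (Localization.AtPrime q)) := by
      intro z hz
      rw [map_JJ] at hz ⊢
      exact key_reg hd e he (fun j => algebraMap Λ (Localization.AtPrime q) (π j)) hy i0 z hz
    obtain ⟨w, hw, hwx⟩ := step q (JJ e π i0) (π i0) hreg
    refine ⟨Function.update π i0 (w * π i0), ?_, ?_, ?_, ?_⟩
    · intro i
      by_cases hi : i = i0
      · subst hi; rw [Function.update_self]; exact q.mul_mem_left _ (hπq i)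
      · rw [Function.update_of_ne hi]; exact hπq i
    · rw [← hπspan]
      apply span_range_eq_of_units
      intro i
      by_cases hi : i = i0
      · subst hi
        refine ⟨algebraMap Λ (Localization.AtPrime q) w,
          IsLocalization.map_units _ (⟨w, hw⟩ : q.primeCompl), ?_⟩
        rw [Function.update_self, map_mul]
      · refine ⟨1, isUnit_one, ?_⟩
        rw [Function.update_of_ne hi, one_mul]
    · intro i
      by_cases hi : i = i0
      · subst hi
        rw [Function.update_self, mul_pow]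
        exact I.mul_mem_left _ (hπpow i)
      · rw [Function.update_of_ne hi]; exact hπpow i
    · intro i hi x
      have hJ : JJ e (Function.update π i0 (w * π i0)) i = JJ e π i := by
        apply JJ_congr
        intro j hj
        have : j ≠ i0 := by
          intro h
          rw [h, hi0k] at hj
          omega
        rw [Function.update_of_ne this]
      rw [hJ]
      by_cases hi' : i = i0
      · subst hi'
        rw [Function.update_self]
        exact hwx x
      · rw [Function.update_of_ne hi']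
        have : (i : ℕ) ≠ k := by
          intro h
          apply hi'
          ext
          rw [h, hi0k]
        exact hπann i (by omega) x

/-- Let `Λ` be Noetherian, `I ⊆ 𝔮` with `𝔮` prime, `n, e > 0`, such that `𝔮ⁿΛ_𝔮 ⊆ IΛ_𝔮` and `Λ_𝔮` is a
regular local ring of dimension `d`. Then there are `N > 0` and `π_1, …, π_d ∈ Λ` generating `𝔮Λ_𝔮`,
with `π_i^N ∈ I`, such that for each `i` the annihilators of `π_i` and `π_i²` in `Λ/(π_1^e, …,
π_{i-1}^e)` coincide. -/
theorem result {Λ : Type u} [CommRing Λ] [IsNoetherianRing Λ] (I q : Ideal Λ)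
    [q.IsPrime] (hIq : I ≤ q) (n e d : ℕ) (hn : 0 < n) (he : 0 < e)
    (hpow : (q ^ n).map (algebraMap Λ (Localization.AtPrime q)) ≤ I.map (algebraMap Λ (Localization.AtPrime q)))
    [IsRegularLocalRing (Localization.AtPrime q)] (hd : ringKrullDim (Localization.AtPrime q) = d) :
    ∃ (N : ℕ) (π : Fin d → Λ), 0 < N ∧
      Ideal.span (Set.range fun i => algebraMap Λ (Localization.AtPrime q) (π i)) =
        q.map (algebraMap Λ (Localization.AtPrime q)) ∧
      (∀ i, π i ^ N ∈ I) ∧
      ∀ i : Fin d, ∀ x : Λ ⧸ Ideal.span (Set.range fun j : {j : Fin d // (j : ℕ) < (i : ℕ)} => π j ^ e),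
        Ideal.Quotient.mk _ (π i) ^ 2 * x = 0 → Ideal.Quotient.mk _ (π i) * x = 0 := by
  obtain ⟨π, -, hspan, hpw, hann⟩ := main I q n e d hn he hpow hd d le_rfl
  refine ⟨n, π, hn, hspan, hpw, ?_⟩
  intro i x hx
  obtain ⟨x, rfl⟩ := Ideal.Quotient.mk_surjective x
  rw [← map_pow, ← map_mul, Ideal.Quotient.eq_zero_iff_mem] at hx
  rw [← map_mul, Ideal.Quotient.eq_zero_iff_mem]
  exact hann i i.2 x hx

end Groth.Agent.S2109
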