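import Groth.Statements.S6823
import Mathlib
import Groth.Agent.S2109
import Groth.Agent.Lib.Helper7Smoothing51
import Groth.Agent.Lib.Helper7Smoothing58

set_option autoImplicit false
set_option linter.style.haveILetI false
universe u
open Smoothing
open Function TensorProduct MvPolynomial IsLocalRing
open Groth.Agent.Lib.Helper7.Smoothing

namespace Groth.Agent.S6823

/-- Let k be a field, A a finitely presented k-algebra, φ : A → Λ a k-algebra map with Λ Noetherian, and
𝔮 ⊆ Λ a prime minimal over the radical of H_{A/k}Λ (H the singular ideal) such that Λ_𝔮 is a regular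
local ring and the residue field κ(𝔮) is separable over k, i.e. geometrically reduced over k. Then k
→ A → Λ ⊇ 𝔮 can be resolved: φ factors through a finitely presented k-algebra B whose extended
singular radical contains that of A and is not contained in 𝔮. -/
theorem result {k A Λ : Type u} [Field k] [CommRing A]
    [Algebra k A] [Algebra.FinitePresentation k A] [CommRing Λ] [Algebra k Λ] [IsNoetherianRing Λ]
    (φ : A →ₐ[k] Λ) (𝔮 : Ideal Λ) [𝔮.IsPrime] (hmin : 𝔮 ∈ (Smoothing.singRad k φ).minimalPrimes)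
    [IsRegularLocalRing (Localization.AtPrime 𝔮)]
    [Algebra.IsGeometricallyReduced k 𝔮.ResidueField] : Smoothing.Resolvable k φ 𝔮 := by
  have hminI : 𝔮 ∈ ((Smoothing.singularIdeal k A).map φ).minimalPrimes := by
    have := hmin
    rw [Smoothing.singRad, Ideal.radical_minimalPrimes] at this
    exact this
  obtain ⟨d, hd⟩ : ∃ d : ℕ, ringKrullDim (Localization.AtPrime 𝔮) = d := by
    have h1 : ringKrullDim (Localization.AtPrime 𝔮) ≠ ⊤ := ringKrullDim_ne_top
    have h2 : ringKrullDim (Localization.AtPrime 𝔮) ≠ ⊥ := ringKrullDim_ne_bot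
    obtain ⟨x, hx⟩ := WithBot.ne_bot_iff_exists.mp h2
    have hx' : x ≠ ⊤ := by
      rintro rfl
      exact h1 hx.symm
    obtain ⟨d, hd⟩ := WithTop.ne_top_iff_exists.mp hx'
    exact ⟨d, by rw [← hx, ← hd]; rfl⟩
  obtain ⟨n, hn, hpow⟩ : ∃ n : ℕ, 0 < n ∧ (𝔮 ^ n).map (algebraMap Λ (Localization.AtPrime 𝔮)) ≤
      ((Smoothing.singularIdeal k A).map φ).map (algebraMap Λ (Localization.AtPrime 𝔮)) := by
    have hrad := IsLocalization.AtPrime.radical_map_of_mem_minimalPrimes (Localization.AtPrime 𝔮) 𝔮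
      ((Smoothing.singularIdeal k A).map φ) hminI
    obtain ⟨n, hn⟩ := Ideal.exists_pow_le_of_le_radical_of_fg hrad.ge
      (IsNoetherian.noetherian _)
    refine ⟨n + 1, Nat.succ_pos n, ?_⟩
    rw [Ideal.map_pow]
    exact (Ideal.pow_le_pow_right (Nat.le_succ n)).trans hn
  obtain ⟨C, _, _, _, _, hCfp, g, c, hc, hstd, hsing, hmap⟩ := exists_BC (k := k) (A := A) d n
  haveI := hCfp
  obtain ⟨π, hπ𝔮, hπspan, hπpow, hπann⟩ := Groth.Agent.S2109.main
    ((Smoothing.singularIdeal k A).map φ) 𝔮 n (8 * c) d hn (by omega) hpow hd d le_rfl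
  obtain ⟨h, hhg, hhX⟩ := hmap Λ φ π hπpow
  rcases Nat.eq_zero_or_pos d with hd0 | hd0
  · subst hd0
    refine resolvable_dim_zero φ 𝔮 hmin ?_
    rw [← hπspan]
    simp
  · exact resolvable_dim_pos hd0 c hc φ 𝔮 hd g hstd hsing π hπ𝔮 hπspan
      (fun i x => hπann i i.2 x) h hhg hhX


end Groth.Agent.S6823
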