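import Groth.Statements.S6824
import Mathlib
import Groth.Agent.Lib.Helper7Smoothing58
import Groth.Agent.Lib.Helper7Smoothing83
import Groth.Agent.Lib.Helper7Smoothing84
import Groth.Agent.Lib.Helper7RegHomField
import Groth.Agent.Lib.Helper19FSFlat
import Groth.Agent.Lib.Helper19GRLoc
import Groth.Agent.Lib.Helper19GRKaehlerGen
open Function TensorProduct MvPolynomial IsLocalRing
open Groth.Agent.Lib.Helper7.Smoothing

set_option autoImplicit false
set_option linter.style.haveILetI false
universe u
open Smoothing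

namespace Groth.Agent.S6824

/-- Let k be a field of characteristic p > 0, A a finitely presented k-algebra, φ : A → Λ a k-algebra
map with Λ Noetherian and geometrically regular over k, and 𝔮 ⊆ Λ a prime minimal over the radical
of H_{A/k}Λ. Then k → A → Λ ⊇ 𝔮 can be resolved. -/
theorem result {k A Λ : Type u} [Field k] (p : ℕ) [Fact p.Prime]
    [CharP k p] [CommRing A] [Algebra k A] [Algebra.FinitePresentation k A] [CommRing Λ] [Algebra k Λ]
    [IsNoetherianRing Λ] (hreg : CAlg.IsGeometricallyRegular k Λ) (φ : A →ₐ[k] Λ) (𝔮 : Ideal Λ)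
    [𝔮.IsPrime] (hmin : 𝔮 ∈ (Smoothing.singRad k φ).minimalPrimes) : Smoothing.Resolvable k φ 𝔮 := by
  -- `Λ` is regular
  haveI hΛreg : IsRegularRing Λ := by
    haveI : IsRegularRing (k ⊗[k] Λ) := hreg k inferInstance
    exact IsRegularRing.of_ringEquiv (Algebra.TensorProduct.lid k Λ).toRingEquiv
  haveI : IsRegularLocalRing (Localization.AtPrime 𝔮) := by
    exact isRegularRing_iff.mp hΛreg 𝔮
  -- geometric regularity of the localization
  have hregL : CAlg.IsGeometricallyRegular k (Localization.AtPrime 𝔮) :=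
    fun k' _ _ hfin =>
      Groth.Agent.Lib.Helper19.GR.isRegularRing_tensor_localization 𝔮.primeCompl k' (hreg k' hfin)
  have hsm : CAlgX.IsAdicFormallySmooth k (Localization.AtPrime 𝔮)
      (maximalIdeal (Localization.AtPrime 𝔮)) :=
    Groth.Agent.Lib.Helper19.FSFlat.isAdicFormallySmooth_of_isGeometricallyRegular hregL
  have hext : DerivExt k (Localization.AtPrime 𝔮) 𝔮.ResidueField :=
    derivExt_of_isAdicFormallySmooth (K := 𝔮.ResidueField)
      (fun x hx => (IsLocalRing.residue_eq_zero_iff x).mpr hx) hsm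
  obtain ⟨d, hd⟩ : ∃ d : ℕ, ringKrullDim (Localization.AtPrime 𝔮) = d := by
    have h1 : ringKrullDim (Localization.AtPrime 𝔮) ≠ ⊤ := ringKrullDim_ne_top
    have h2 : ringKrullDim (Localization.AtPrime 𝔮) ≠ ⊥ := ringKrullDim_ne_bot
    obtain ⟨x, hx⟩ := WithBot.ne_bot_iff_exists.mp h2
    have hx' : x ≠ ⊤ := by
      rintro rfl
      exact h1 hx.symm
    obtain ⟨d, hd⟩ := WithTop.ne_top_iff_exists.mp hx'
    exact ⟨d, by rw [← hx, ← hd]; rfl⟩
  rcases Nat.eq_zero_or_pos d with hd0 | hd0
  · subst hd0
    -- `Λ_𝔮` is a field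
    have hmax : maximalIdeal (Localization.AtPrime 𝔮) = ⊥ := by
      have hdim0 : ringKrullDim (Localization.AtPrime 𝔮) = 0 := by rw [hd]; rfl
      haveI : Ring.KrullDimLE 0 (Localization.AtPrime 𝔮) := by
        rw [Ring.krullDimLE_iff, hdim0]; rfl
      haveI : IsDomain (Localization.AtPrime 𝔮) :=
        Groth.Agent.Lib.Helper5.isDomain_of_isRegularLocalRing _
      have hfield : IsField (Localization.AtPrime 𝔮) :=
        Ring.KrullDimLE.isField_of_isDomain
      exact IsLocalRing.isField_iff_maximalIdeal_eq.mp hfield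
    have hbot : 𝔮.map (algebraMap Λ (Localization.AtPrime 𝔮)) = ⊥ := by
      rw [Localization.AtPrime.map_eq_maximalIdeal, hmax]
    let e : Localization.AtPrime 𝔮 ≃ₐ[k] 𝔮.ResidueField :=
      AlgEquiv.ofBijective (IsScalarTower.toAlgHom k (Localization.AtPrime 𝔮) 𝔮.ResidueField)
        ⟨by
          rw [injective_iff_map_eq_zero]
          intro x hx
          have : x ∈ maximalIdeal (Localization.AtPrime 𝔮) :=
            (IsLocalRing.residue_eq_zero_iff x).mp hx
          rw [hmax] at this
          exact this, IsLocalRing.residue_surjective⟩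
    have hregK : CAlg.IsGeometricallyRegular k 𝔮.ResidueField := fun k' _ _ hfin => by
      haveI := hregL k' hfin
      exact IsRegularRing.of_ringEquiv
        (Algebra.TensorProduct.congr (AlgEquiv.refl (R := k) (A₁ := k')) e).toRingEquiv
    haveI : Algebra.IsGeometricallyReduced k 𝔮.ResidueField :=
      isGeometricallyReduced_of_isGeometricallyRegular k _ hregK
    exact resolvable_dim_zero φ 𝔮 hmin hbot
  · exact resolvable_charp_dim_pos p φ 𝔮 hmin hsm hext hd hd0


end Groth.Agent.S6824
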