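import Groth.Statements.S9249
import Mathlib
import Groth.Agent.S2639
-- import your own Groth.Agent.* helpers here

set_option autoImplicit false
universe u
open CAlg

namespace Groth.Agent.S9249
open Groth.Agent.Lib.Helper28 IsLocalRing

/-- A Noetherian local ring is Cohen-Macaulay if and only if its completion is. -/
theorem result (A : Type u) [CommRing A] [IsLocalRing A]
    [IsNoetherianRing A] :
    LocCoh.IsCohenMacaulayLocalRing A ↔
      LocCoh.IsCohenMacaulayLocalRing (AdicCompletion (IsLocalRing.maximalIdeal A) A) := by
  have hdimc := Groth.Agent.Lib.Helper19.ringKrullDim_adicCompletion_maximalIdeal A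
  have hdepc := Groth.Agent.S2639.depth_adicCompletion_maximalIdeal A
  constructor
  · intro h
    refine { supportDim_eq_depth := ?_ }
    have h1 := h.supportDim_eq_depth
    rw [Module.supportDim_self_eq_ringKrullDim] at h1 ⊢
    rw [hdimc, hdepc, h1]
  · intro h
    refine { supportDim_eq_depth := ?_ }
    have h1 := h.supportDim_eq_depth
    rw [Module.supportDim_self_eq_ringKrullDim] at h1 ⊢
    rw [← hdimc, ← hdepc, h1]

end Groth.Agent.S9249
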