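import Groth.Statements.S0600
import Groth.Agent.Lib.Helper28IAdicFibres
import Groth.Agent.Lib.Helper28LocallyQ
import Groth.Agent.Lib.Helper28GeomFibre
import Groth.Agent.Lib.Helper28RegDescent
-- import your own Groth.Agent.* helpers here

set_option autoImplicit false
universe u
open CAlg

namespace Groth.Agent.S0600
open Groth.Agent.Lib.Helper28 IsLocalRing TensorProduct

open Groth.Agent.Lib.Helper28 IsLocalRing TensorProduct in
/-- Locally regular: all localizations at primes are regular local rings. -/
def LocReg (R : Type u) [CommRing R] : Prop :=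
  ∀ (q : Ideal R) [q.IsPrime], IsRegularLocalRing (Localization.AtPrime q)

theorem hQ : ∀ (R S : Type u) [CommRing R] [CommRing S], (R ≃+* S) →
      IsRegularLocalRing R → IsRegularLocalRing S := fun R _ _ _ e _ =>
    IsRegularLocalRing.of_ringEquiv (R := R) e

open Groth.Agent.Lib.Helper28 IsLocalRing TensorProduct in
theorem locReg_equiv (R S : Type u) [CommRing R] [CommRing S] (e : R ≃+* S) (h : LocReg R) :
    LocReg S :=
  locallyQ_of_ringEquiv (fun R _ => IsRegularLocalRing R) hQ e h

open Groth.Agent.Lib.Helper28 IsLocalRing TensorProduct in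
theorem locReg_desc (R' T : Type u) [CommRing R'] [CommRing T] [Algebra R' T]
      [Module.FaithfullyFlat R' T] [IsNoetherianRing R'] [IsNoetherianRing T]
      (h : LocReg T) : LocReg R' := by
  have : IsRegularRing T := isRegularRing_iff.mpr h
  have : IsRegularRing R' := isRegularRing_of_faithfullyFlat (R := R') (S := T)
  exact fun q _ => IsRegularRing.isRegularLocalRing_localization q

open Groth.Agent.Lib.Helper28 IsLocalRing TensorProduct in
theorem locReg_loc (R : Type u) [CommRing R] (M : Submonoid R) (R' : Type u) [CommRing R']
    [Algebra R R'] [IsLocalization M R'] (h : LocReg R) : LocReg R' :=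
  locallyQ_of_isLocalization (fun R _ => IsRegularLocalRing R) hQ M R' h

open Groth.Agent.Lib.Helper28 IsLocalRing TensorProduct in
theorem locReg_l2g (R : Type u) [CommRing R]
    (h : ∀ (Q : Ideal R) [Q.IsPrime], LocReg (Localization.AtPrime Q)) : LocReg R :=
  locallyQ_of_forall_localization (fun R _ => IsRegularLocalRing R) hQ h

theorem locReg_field (k : Type u) [Field k] : LocReg k := fun q _ =>
  IsRegularRing.isRegularLocalRing_localization q

open Groth.Agent.Lib.Helper28 IsLocalRing TensorProduct in
theorem locReg_asc (A : Type u) [CommRing A] (hA : CAlg.IsGRing A) (m : Ideal A) [m.IsPrime]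
      (R' : Type u) [CommRing R']
      [Algebra (Localization.AtPrime m) R'] [Algebra.QuasiFinite (Localization.AtPrime m) R']
      [IsNoetherianRing R']
      [IsNoetherianRing (R' ⊗[Localization.AtPrime m] EGA4.Cpl (Localization.AtPrime m))]
      (h : LocReg R') :
      LocReg (R' ⊗[Localization.AtPrime m] EGA4.Cpl (Localization.AtPrime m)) := by
  have : IsRegularRing R' := isRegularRing_iff.mpr h
  have hS : ∀ (q : Ideal (Localization.AtPrime m)) [q.IsPrime],
      CAlg.IsGeometricallyRegular q.ResidueField
        (q.Fiber (EGA4.Cpl (Localization.AtPrime m))) := fun q _ => ((hA.2 m).2 q).2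
  have : Module.Flat (Localization.AtPrime m) (EGA4.Cpl (Localization.AtPrime m)) := (hA.2 m).1
  have : IsRegularRing (R' ⊗[Localization.AtPrime m] EGA4.Cpl (Localization.AtPrime m)) :=
    isRegularRing_tensorProduct_of_quasiFinite hS
  exact fun q _ => IsRegularRing.isRegularLocalRing_localization q


/-- If `A` is a G-ring and `I` any ideal, then the map from `A` to its `I`-adic completion is regular. -/
theorem result (A : Type u) [CommRing A] (hA : CAlg.IsGRing A)
    (I : Ideal A) : CAlg.IsRegularHom A (AdicCompletion I A) := by
  have hN : IsNoetherianRing A := hA.1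
  have hNc : IsNoetherianRing (AdicCompletion I A) :=
    Groth.Agent.Lib.Helper19.isNoetherianRing_adicCompletion I
  refine ⟨inferInstance, fun p hp => ⟨isNoetherianRing_fiber p, ?_⟩⟩
  intro k' _ _ hfin
  have key : LocReg (k' ⊗[p.ResidueField] p.Fiber (AdicCompletion I A)) :=
    tensor_fiber_adicCompletion_of_property LocReg locReg_equiv locReg_desc locReg_loc locReg_l2g
      locReg_field A I (locReg_asc A hA) p k'
  have : IsNoetherianRing (k' ⊗[p.ResidueField] p.Fiber (AdicCompletion I A)) := by
    let _ : Algebra A k' :=
      ((algebraMap p.ResidueField k').comp (algebraMap A p.ResidueField)).toAlgebra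
    have : IsScalarTower A p.ResidueField k' := .of_algebraMap_eq' rfl
    have : IsNoetherianRing (p.Fiber (AdicCompletion I A)) := isNoetherianRing_fiber p
    exact isNoetherianRing_tensor_fiber A (AdicCompletion I A) p k'
  exact isRegularRing_iff.mpr key

end Groth.Agent.S0600
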