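import Groth.Statements.S12898
import Mathlib
import Groth.Agent.Lib.Helper1LDer7
import Groth.Agent.Lib.Helper1LBC
import Groth.Agent.Lib.Helper1DT4
-- import your own Groth.Agent.* helpers here

set_option autoImplicit false
universe u
open CategoryTheory CategoryTheory.Limits
attribute [local instance] HasDerivedCategory.standard
open DRing

namespace Groth.Agent.S12898

open Groth.Agent.Lib.Helper1 Groth.Agent.Lib.Helper1.LDer Groth.Agent.Lib.Helper1.DT DTen
  Groth.Agent.Lib.Helper1.KF DerivedCategory in

/-- Let φ : R → A be a map of commutative rings. The derived base change functor D(R) → D(A), E ↦ E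
⊗^L_R A (the total left derived functor of extension of scalars, whose existence is the stated
instance hypothesis, true), is left adjoint to the restriction functor D(A) → D(R). (Existence of an
adjunction only.) -/
theorem result {R A : Type u} [CommRing R] [CommRing A] (φ : R →+* A)
    [DRing.HasLBaseChange φ] :
    Nonempty (DRing.LBaseChange φ ⊣ DRing.restrictD φ) := by
  let W₁ := HomologicalComplex.quasiIso (ModuleCat.{u} R) (ComplexShape.up ℤ)
  let W₂ := HomologicalComplex.quasiIso (ModuleCat.{u} A) (ComplexShape.up ℤ)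
  let α : Q ⋙ DRing.LBaseChange φ ⟶ extCx φ ⋙ Q := lbcCounit φ
  let β : resCx φ ⋙ Q ⟶ Q ⋙ DRing.restrictD φ := (resFactors φ).inv
  have hres : ∀ X : DRing.Cx R, ∃ (Y : DRing.Cx R) (r : Y ⟶ X),
      (fun P : DRing.Cx R => P.IsKProjective) Y ∧ IsIso (Q.map r) := fun X => by
    obtain ⟨P, π, hP, -, hπ, -⟩ := exists_kprojective_resolution X
    exact ⟨P, π, hP, (DerivedCategory.isIso_Q_map_iff_quasiIso (φ := π)).2 hπ⟩
  have hsurj : ∀ Y : DRing.Cx R, (fun P : DRing.Cx R => P.IsKProjective) Y → ∀ X,
      Function.Surjective (Q.map : (Y ⟶ X) → (Q.obj Y ⟶ Q.obj X)) := fun Y hY X => by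
    haveI : Y.IsKProjective := hY
    exact Q_map_surjective Y X
  haveI h1 : (DRing.LBaseChange φ).IsLeftDerivedFunctor α W₁ :=
    LDerRes.isLeftDerivedFunctor_of_isIso_of_surjective Q W₁ (extCx φ ⋙ Q)
      (fun P : DRing.Cx R => P.IsKProjective) hres hsurj _ α
      (fun Y hY => by
        haveI : Y.IsKProjective := hY
        exact isIso_lbcCounit_app φ Y)
  haveI h2 : (DRing.restrictD φ).IsRightDerivedFunctor β W₂ :=
    Functor.isRightDerivedFunctor_of_inverts W₂ _ (resFactors φ)
  haveI h3 : (DRing.LBaseChange φ ⋙ DRing.restrictD φ).IsLeftDerivedFunctor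
      ((Functor.associator _ _ _).inv ≫ Functor.whiskerRight α (DRing.restrictD φ)) W₁ :=
    LDerRes.isLeftDerivedFunctor_of_isIso_of_surjective Q W₁ _
      (fun P : DRing.Cx R => P.IsKProjective) hres hsurj _ _
      (fun Y hY => by
        haveI : Y.IsKProjective := hY
        haveI := isIso_lbcCounit_app φ Y
        simp only [NatTrans.comp_app, Functor.associator_inv_app, Functor.whiskerRight_app,
          Category.id_comp]
        infer_instance)
  haveI h4 : (DRing.restrictD φ ⋙ DRing.LBaseChange φ).IsRightDerivedFunctor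
      (Functor.whiskerRight β (DRing.LBaseChange φ) ≫ (Functor.associator _ _ _).hom) W₂ :=
    Functor.isRightDerivedFunctor_of_inverts W₂ _
      ((Functor.associator _ _ _).symm ≪≫ Functor.isoWhiskerRight (resFactors φ) _)
  exact ⟨(extResAdj φ).derived W₁ W₂ α β⟩

end Groth.Agent.S12898
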