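import Groth.Statements.S6935
import Mathlib
import Groth.Agent.Lib.Helper1PC
import Groth.Agent.S2068
-- import your own Groth.Agent.* helpers here

set_option autoImplicit false
universe u
open CategoryTheory CategoryTheory.Limits
attribute [local instance] HasDerivedCategory.standard
open DRing

namespace Groth.Agent.S6935

open Groth.Agent.Lib.Helper1.PC DerivedCategory

/-- Let R be a commutative ring and M an R-module, viewed as the complex M[0] in D(R). Then M[0] is
0-pseudo-coherent exactly when M is finitely generated over R, and M[0] is (-1)-pseudo-coherent
exactly when M admits a finite presentation over R. -/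
theorem result (R : Type u) [CommRing R]
    (M : Type u) [AddCommGroup M] [Module R M] :
    (DRing.IsPseudoCoherentModule R 0 M ↔ Module.Finite R M) ∧
      (DRing.IsPseudoCoherentModule R (-1) M ↔ Module.FinitePresentation R M) := by
  constructor
  · constructor
    · intro h
      have h1 := (Groth.Agent.S2068.result (Dual.inD R M) 0 h).1
        (fun i hi => isZero_homology_single _ 0 i (by lia))
      exact Module.Finite.equiv (homologySingleIso (ModuleCat.of R M) 0).toLinearEquiv
    · intro h
      exact isPC_single_of_finite (ModuleCat.of R M) 0
  · constructor
    · intro h
      have h1 := (Groth.Agent.S2068.result (Dual.inD R M) (-1) h).2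
        (fun i hi => isZero_homology_single _ 0 i (by lia))
      have e : (-1 : ℤ) + 1 = 0 := by norm_num
      rw [e] at h1
      exact Module.FinitePresentation.of_equiv (homologySingleIso (ModuleCat.of R M) 0).toLinearEquiv
    · intro h
      exact isPC_single_of_fp (ModuleCat.of R M)

end Groth.Agent.S6935
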