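import Groth.Statements.S6939
import Mathlib
import Groth.Agent.Lib.Helper1PCBiprod
import Groth.Agent.S6938
-- import your own Groth.Agent.* helpers here

set_option autoImplicit false
universe u
open CategoryTheory CategoryTheory.Limits
attribute [local instance] HasDerivedCategory.standard
open DRing

namespace Groth.Agent.S6939

open Groth.Agent.Lib.Helper1.PC Groth.Agent.Lib.Helper1.PCTower DerivedCategory
open Groth.Agent.S14388 Groth.Agent.Lib.Helper1.Devissage Groth.Agent.S6938

/-- criterion in terms of the cohomology modules -/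
lemma isPC_of_homology {R : Type u} [CommRing R] (m : ℤ) (K : Dual.D R) (b : ℤ)
    (hb : ∀ i : ℤ, b < i → IsZero ((homologyFunctor (ModuleCat.{u} R) i).obj K))
    (h : ∀ i : ℤ, m ≤ i → DRing.IsPseudoCoherent R (m - i)
      ((singleFunctor (ModuleCat.{u} R) 0).obj ((homologyFunctor (ModuleCat.{u} R) i).obj K))) :
    DRing.IsPseudoCoherent R m K := by
  have hT := tt.triangleLTGE_distinguished m K
  have hLT : ((tt.truncLT m).obj K).IsLE (m - 1) := inferInstance
  have h1 : DRing.IsPseudoCoherent R m ((tt.truncLT m).obj K) := isPC_of_isLE m _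
  have hGE : ((tt.truncGE m).obj K).IsGE m := inferInstance
  have hiso : ∀ j : ℤ, m ≤ j → Iso (C := ModuleCat.{u} R) ((homologyFunctor (ModuleCat.{u} R) j).obj K)
      ((homologyFunctor (ModuleCat.{u} R) j).obj ((tt.truncGE m).obj K)) := fun j hj =>
    have := isIso_homology_truncGEπ m j hj K
    asIso ((homologyFunctor _ j).map ((tt.truncGEπ m).app K))
  have h3 : DRing.IsPseudoCoherent R m ((tt.truncGE m).obj K) := by
    refine induction_homology' (pcProp (A := R) m) (fun X hX => isPC_of_isZero m X hX)
      (fun T hT h1 h3 => isPC_obj₂ T hT m h1 h3) _ m b ?_ ?_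
    · rintro i (hi | hi)
      · exact (DerivedCategory.isGE_iff _ m).1 hGE i hi
      · by_cases him : m ≤ i
        · exact IsZero.of_iso (hb i hi) (hiso i him).symm
        · exact (DerivedCategory.isGE_iff _ m).1 hGE i (by lia)
    · intro j hj _
      have h2 := isPC_single_shift _ (m - j) j (h j hj)
      rw [show m - j + j = m by ring] at h2
      exact isPC_of_iso ((singleFunctor (ModuleCat.{u} R) j).mapIso (hiso j hj)) h2
  exact isPC_obj₂ _ hT m h1 h3

/-- Let R be a commutative ring, m an integer and K an object of D(R) whose cohomology vanishes in large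
degrees. If the module H^i(K) is (m - i)-pseudo-coherent for every i, then K is m-pseudo-coherent;
if every H^i(K) is a pseudo-coherent module, then K is pseudo-coherent. -/
theorem result (R : Type u) [CommRing R] (m : ℤ)
    (K : Dual.D R) (hb : ∃ b : ℤ, ∀ i : ℤ, b < i → Subsingleton (Dual.HD R K i)) :
    ((∀ i : ℤ, DRing.IsPseudoCoherentModule R (m - i) (Dual.HD R K i)) → DRing.IsPseudoCoherent R m K) ∧
      ((∀ i : ℤ, DRing.IsPseudoCoherentModule' R (Dual.HD R K i)) → DRing.IsPseudoCoherent' R K) := by
  obtain ⟨b, hb⟩ := hb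
  have hb' : ∀ i : ℤ, b < i → IsZero ((homologyFunctor (ModuleCat.{u} R) i).obj K) := fun i hi => by
    have := hb i hi
    exact ModuleCat.isZero_of_subsingleton _
  refine ⟨fun h => isPC_of_homology m K b hb' (fun i _ => h i), fun h => ?_⟩
  apply isPseudoCoherent'_of_forall
  intro m'
  exact isPC_of_homology m' K b hb' (fun i _ => isPC_of_pc' _ (h i) _)

end Groth.Agent.S6939
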