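import Groth.Statements.S6942
import Mathlib
import Groth.Agent.Lib.Helper1PCBiprod
import Groth.Agent.S6938
import Groth.Agent.S6939
import Groth.Agent.S6935
-- import your own Groth.Agent.* helpers here

set_option autoImplicit false
universe u
open CategoryTheory CategoryTheory.Limits
attribute [local instance] HasDerivedCategory.standard
open DRing

namespace Groth.Agent.S6942

open Groth.Agent.Lib.Helper1.PC Groth.Agent.Lib.Helper1.PCTower DerivedCategory
open Groth.Agent.S14388 Groth.Agent.S6938 Groth.Agent.S7017 Pretriangulated

/-- a finite module over a Noetherian ring, in degree `0`, is `(-k)`-pseudo-coherent for all `k` -/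
lemma isPC_single_of_finite_noeth_aux {R : Type u} [CommRing R] [IsNoetherianRing R] (k : ℕ) :
    ∀ (N : ModuleCat.{u} R) [Module.Finite R N],
    DRing.IsPseudoCoherent R (-(k : ℤ)) ((singleFunctor (ModuleCat.{u} R) 0).obj N) := by
  induction k with
  | zero =>
    intro N _
    exact isPC_single_of_finite N 0
  | succ k ih =>
    intro N _
    obtain ⟨r, π, hπ⟩ := Module.Finite.exists_fin' R N
    have hF : FF (ModuleCat.of R (Fin r → R)) :=
      ⟨inferInstanceAs (Module.Finite R (Fin r → R)), inferInstanceAs (Module.Free R (Fin r → R))⟩
    have hS := LinearMap.shortExact_shortComplexKer hπ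
    have hT := hS.singleTriangle_distinguished
    have i1 : Module.Finite R (ModuleCat.of R (LinearMap.ker π)) :=
      inferInstanceAs (Module.Finite R (LinearMap.ker π))
    have hk := ih (ModuleCat.of R (LinearMap.ker π))
    have e : -((k + 1 : ℕ) : ℤ) + 1 = -(k : ℤ) := by push_cast; ring
    have h3 : DRing.IsPseudoCoherent R (-((k + 1 : ℕ) : ℤ))
        ((singleFunctor (ModuleCat.{u} R) 0).obj (ModuleCat.of R (Fin r → R))) :=
      isPC_of_rep _ (rep_single _ hF 0)
    exact isPC_obj₃ _ hT (-((k + 1 : ℕ) : ℤ)) (by rw [e]; exact hk) h3

lemma isPC_single_of_finite_noeth {R : Type u} [CommRing R] [IsNoetherianRing R]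
    (N : ModuleCat.{u} R) [Module.Finite R N] (n : ℤ) :
    DRing.IsPseudoCoherent R n ((singleFunctor (ModuleCat.{u} R) 0).obj N) :=
  isPC_mono (by lia) (isPC_single_of_finite_noeth_aux (-n).toNat N)

/-- Let R be a Noetherian commutative ring and m an integer. An object K of D(R) is m-pseudo-coherent
exactly when H^i(K) = 0 for all large i and H^i(K) is a finitely generated R-module for each i ≥ m.
Every finitely generated R-module M is pseudo-coherent, and conversely. -/
theorem result (R : Type u) [CommRing R]
    [IsNoetherianRing R] (m : ℤ) (K : Dual.D R) (M : Type u) [AddCommGroup M] [Module R M] :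
    (DRing.IsPseudoCoherent R m K ↔
      (∃ b : ℤ, ∀ i : ℤ, b < i → Subsingleton (Dual.HD R K i)) ∧ ∀ i : ℤ, m ≤ i → Module.Finite R (Dual.HD R K i)) ∧
      (DRing.IsPseudoCoherentModule' R M ↔ Module.Finite R M) := by
  constructor
  · constructor
    · rintro ⟨E, a, b, α, hE, hff, h1, h2⟩
      have hEle : E.IsStrictlyLE b := by
        rw [CochainComplex.isStrictlyLE_iff]
        exact fun i hi => hE i (Or.inr hi)
      have hQle : (Q.obj E).IsLE b := inferInstance
      have hfinE : ∀ i : ℤ, Module.Finite R ((homologyFunctor (ModuleCat.{u} R) i).obj (Q.obj E)) := by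
        intro i
        have := (hff i).1
        have f1 : Module.Finite R ((HomologicalComplex.homologyFunctor (ModuleCat.{u} R)
            (ComplexShape.up ℤ) i).obj E) :=
          finite_homology_of_ker E i inferInstance
        exact Module.Finite.equiv
          ((homologyFunctorFactors (ModuleCat.{u} R) i).app E).symm.toLinearEquiv
      refine ⟨⟨max b m, fun i hi => ?_⟩, fun i hi => ?_⟩
      · have := h1 i (by have := le_max_right b m; lia)
        have hz : IsZero ((homologyFunctor (ModuleCat.{u} R) i).obj K) :=
          IsZero.of_iso ((DerivedCategory.isLE_iff _ b).1 hQle i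
            (by have := le_max_left b m; lia)) (asIso ((homologyFunctor _ i).map α)).symm
        exact ModuleCat.subsingleton_of_isZero hz
      · have := hfinE i
        rcases hi.eq_or_lt with rfl | hi
        · exact Module.Finite.of_surjective ((homologyFunctor _ m).map α).hom
            ((ModuleCat.epi_iff_surjective _).1 h2)
        · have := h1 i hi
          exact Module.Finite.equiv (asIso ((homologyFunctor _ i).map α)).toLinearEquiv
    · rintro ⟨⟨b, hb⟩, hfin⟩
      have hb' : ∀ i : ℤ, b < i → IsZero ((homologyFunctor (ModuleCat.{u} R) i).obj K) :=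
        fun i hi => by
          have := hb i hi
          exact ModuleCat.isZero_of_subsingleton _
      refine Groth.Agent.S6939.isPC_of_homology m K b hb' (fun i hi => ?_)
      have := hfin i hi
      exact isPC_single_of_finite_noeth _ _
  · constructor
    · intro h
      exact ((Groth.Agent.S6935.result R M).1).1 (isPC_of_pc' _ h 0)
    · intro h
      exact isPseudoCoherent'_of_forall _ (fun n => isPC_single_of_finite_noeth (ModuleCat.of R M) n)

end Groth.Agent.S6942
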