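import Groth.Statements.S7028
import Mathlib
import Groth.Agent.Lib.Helper1Cone
-- import your own Groth.Agent.* helpers here

set_option autoImplicit false
universe u
open CategoryTheory CategoryTheory.Limits
attribute [local instance] HasDerivedCategory.standard
open DRing

namespace Groth.Agent.S7028

open Groth.Agent.Lib.Helper1.Cone

/-- finite projective modules -/
def FP {R : Type u} [CommRing R] (X : ModuleCat.{u} R) : Prop :=
  Module.Finite R X ∧ Module.Projective R X

lemma FP_iso {R : Type u} [CommRing R] (X Y : ModuleCat.{u} R) (e : X ≅ Y) (h : FP X) : FP Y := by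
  obtain ⟨h1, h2⟩ := h
  exact ⟨Module.Finite.equiv e.toLinearEquiv, Module.Projective.of_equiv e.toLinearEquiv⟩

lemma FP_sum {R : Type u} [CommRing R] (X Y : ModuleCat.{u} R) (hX : FP X) (hY : FP Y) :
    FP (X ⊞ Y) := by
  obtain ⟨h1, h2⟩ := hX
  obtain ⟨h3, h4⟩ := hY
  refine FP_iso _ _ (ModuleCat.biprodIsoProd X Y).symm ⟨?_, ?_⟩
  · exact inferInstanceAs (Module.Finite R (X × Y))
  · exact inferInstanceAs (Module.Projective R (X × Y))

lemma isPerfect_iff {R : Type u} [CommRing R] (K : Dual.D R) :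
    DRing.IsPerfect R K ↔ Rep (FP (R := R)) True K := by
  constructor
  · rintro ⟨E, a, b, hE, hfp, ⟨e⟩⟩
    exact ⟨E, ⟨b, fun i hi => hE i (Or.inr hi)⟩, fun _ => ⟨a, fun i hi => hE i (Or.inl hi)⟩,
      hfp, ⟨e⟩⟩
  · rintro ⟨E, ⟨b, hb⟩, h2, h3, ⟨e⟩⟩
    obtain ⟨a, ha⟩ := h2 trivial
    exact ⟨E, a, b, fun i hi => hi.elim (ha i) (hb i), h3, ⟨e⟩⟩

open CategoryTheory.Pretriangulated in
/-- Let R be a commutative ring such that the derived tensor product - ⊗^L_R M exists on D(R) for every
R-module M, and let K → L → M → K[1] be a distinguished triangle in D(R). If two out of K, L, M are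
perfect, then so is the third. -/
theorem result (R : Type u) [CommRing R] [∀ M : ModuleCat.{u} R, DRing.HasLTensor R M]
    (T : Triangle (Dual.D R)) (hT : T ∈ distinguishedTriangles) :
    (DRing.IsPerfect R T.obj₁ → DRing.IsPerfect R T.obj₂ → DRing.IsPerfect R T.obj₃) ∧
      (DRing.IsPerfect R T.obj₁ → DRing.IsPerfect R T.obj₃ → DRing.IsPerfect R T.obj₂) ∧
      (DRing.IsPerfect R T.obj₂ → DRing.IsPerfect R T.obj₃ → DRing.IsPerfect R T.obj₁) := by
  simp only [isPerfect_iff]
  exact Rep.two_out_of_three (fun X h => h.2) FP_iso FP_sum T hT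

end Groth.Agent.S7028
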