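import Groth.Statements.S6313
import Mathlib
import Groth.Agent.Lib.Helper13TorNat
-- import your own Groth.Agent.* helpers here

set_option autoImplicit false
universe u
open CategoryTheory
open CAlg

namespace Groth.Agent.S6313

open CategoryTheory CategoryTheory.Limits MonoidalCategory in
/-- If `Tor_1(M, N'') = 0` then `M ⊗ N' → M ⊗ N` is injective, for `0 → N' → N → N'' → 0` exact. -/
theorem lTensor_injective_of_isZero_tor_one {R : Type u} [CommRing R] (M : ModuleCat.{u} R)
    (S : ShortComplex (ModuleCat.{u} R)) (hS : S.ShortExact)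
    (h : IsZero (((Tor (ModuleCat.{u} R) 1).obj M).obj S.X₃)) :
    Function.Injective (LinearMap.lTensor M S.f.hom) := by
  obtain ⟨δ, w₁, w₂, -, hex⟩ := Groth.Agent.Helper13Tor.tor₂_exists_δ M S hS 0
  have hmono : Mono (((Tor (ModuleCat.{u} R) 0).obj M).map S.f) :=
    hex.mono_g (h.eq_of_src _ _)
  let F := Groth.Agent.Helper13Tor.tL M
  let e₁ := F.leftDerivedZeroIsoSelf.app S.X₁
  let e₂ := F.leftDerivedZeroIsoSelf.app S.X₂
  have hn : (F.leftDerived 0).map S.f ≫ e₂.hom = e₁.hom ≫ F.map S.f :=
    F.leftDerivedZeroIsoSelf.hom.naturality S.f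
  have h' : F.map S.f = e₁.inv ≫ (F.leftDerived 0).map S.f ≫ e₂.hom := by
    rw [hn, Iso.inv_hom_id_assoc]
  have hmono' : Mono ((F.leftDerived 0).map S.f) := hmono
  have : Mono (F.map S.f) := by
    rw [h']
    exact mono_comp _ _
  exact (ModuleCat.mono_iff_injective (F.map S.f)).1 this

/-- For a ring R and an R-module M, flatness of M over R is equivalent to the vanishing of Tor₁ᴿ(M, R/I)
for every finitely generated ideal I ⊆ R. -/
theorem result (R : Type u) [CommRing R] (M : Type u) [AddCommGroup M] [Module R M] : Module.Flat R M ↔ ∀ I : Ideal R, I.FG → Limits.IsZero (((CategoryTheory.Tor (ModuleCat.{u} R) 1).obj (ModuleCat.of R M)).obj (ModuleCat.of R (R ⧸ I))) := by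
  constructor
  · intro hflat I _
    exact Groth.Agent.Helper13Tor.isZero_tor_of_flat _ (ModuleCat.of R M) 1 (by omega)
  · intro h
    rw [Module.Flat.iff_lTensor_injective]
    intro I hI
    let S : ShortComplex (ModuleCat.{u} R) :=
      ShortComplex.mk (ModuleCat.ofHom I.subtype) (ModuleCat.ofHom (Submodule.mkQ I))
        (by
          ext x
          show Submodule.mkQ I (x : R) = 0
          rw [Submodule.mkQ_apply, Submodule.Quotient.mk_eq_zero]
          exact x.2)
    have hS : S.ShortExact := by
      refine ShortComplex.ShortExact.mk' ?_ ?_ ?_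
      · rw [ShortComplex.ShortExact.moduleCat_exact_iff_function_exact]
        intro x
        constructor
        · intro hx
          have hx' : Submodule.mkQ I x = 0 := hx
          rw [Submodule.mkQ_apply, Submodule.Quotient.mk_eq_zero] at hx'
          exact ⟨⟨x, hx'⟩, rfl⟩
        · rintro ⟨y, rfl⟩
          show Submodule.mkQ I (y : R) = 0
          rw [Submodule.mkQ_apply, Submodule.Quotient.mk_eq_zero]
          exact y.2
      · rw [ModuleCat.mono_iff_injective]
        exact Subtype.val_injective
      · rw [ModuleCat.epi_iff_surjective]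
        exact Submodule.mkQ_surjective I
    exact lTensor_injective_of_isZero_tor_one (ModuleCat.of R M) S hS (h I hI)

end Groth.Agent.S6313
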