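import Groth.Statements.S12080
import Mathlib.RingTheory.LocalProperties.Exactness
import Mathlib.RingTheory.LocalProperties.FinitePresentation
import Mathlib.RingTheory.Localization.BaseChange
import Mathlib.Algebra.Module.FinitePresentation

set_option autoImplicit false
universe u
open TensorProduct
open CAlg

namespace Groth.Agent.S12080

/-- (1) ⇒ (2): let `M` be a finite locally free `R`-module of rank `1`, i.e. there is a set `s ⊆ R`
generating the unit ideal with `M_f ≅ R_f` as `R_f`-modules for every `f ∈ s`. Then the evaluation
map `Hom_R(M, R) ⊗_R M → R` is bijective, so `M` is invertible with inverse its dual. -/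
theorem result (R : Type u) [CommRing R] (M : Type u) [AddCommGroup M]
    [Module R M] (s : Set R) (hs : Ideal.span s = ⊤)
    (hfree : ∀ f ∈ s, Nonempty (LocalizedModule.Away f M ≃ₗ[Localization.Away f] Localization.Away f)) :
    Module.Invertible R M := by
  classical
  -- local invertibility
  have hinv : ∀ f : s, Module.Invertible (Localization.Away f.1) (LocalizedModule.Away f.1 M) := by
    intro f
    obtain ⟨e⟩ := hfree f.1 f.2
    exact Module.Invertible.congr e.symm
  -- M is finitely presented
  have hfp : Module.FinitePresentation R M := by
    apply Module.FinitePresentation.of_localizationSpan s hs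
    intro f
    obtain ⟨e⟩ := hfree f.1 f.2
    exact Module.FinitePresentation.of_equiv e.symm
  constructor
  refine bijective_of_isLocalized_span s hs
    (fun f : s => (LocalizedModule.Away f.1 M →ₗ[Localization.Away f.1] Localization.Away f.1) ⊗[R]
      LocalizedModule.Away f.1 M)
    (fun f : s => TensorProduct.map
      (IsLocalizedModule.mapExtendScalars (Submonoid.powers f.1)
        (LocalizedModule.mkLinearMap (Submonoid.powers f.1) M)
        (Algebra.linearMap R (Localization.Away f.1)) (Localization.Away f.1))
      (LocalizedModule.mkLinearMap (Submonoid.powers f.1) M))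
    (fun f : s => Localization.Away f.1)
    (fun f : s => Algebra.linearMap R (Localization.Away f.1))
    (contractLeft R M) ?_
  intro f
  have := hinv f
  -- abbreviations
  set S := Submonoid.powers f.1 with hS
  set mk := LocalizedModule.mkLinearMap S M with hmk
  set δ := IsLocalizedModule.mapExtendScalars S mk
        (Algebra.linearMap R (Localization.Away f.1)) (Localization.Away f.1) with hδ
  have : TensorProduct.CompatibleSMul R (Localization.Away f.1)
      (LocalizedModule.Away f.1 M →ₗ[Localization.Away f.1] Localization.Away f.1)
      (LocalizedModule.Away f.1 M) := IsLocalization.tensorProduct_compatibleSMul S _ _ _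
  let e := TensorProduct.equivOfCompatibleSMul R (Localization.Away f.1) R
      (LocalizedModule.Away f.1 M →ₗ[Localization.Away f.1] Localization.Away f.1)
      (LocalizedModule.Away f.1 M)
  let c' : (LocalizedModule.Away f.1 M →ₗ[Localization.Away f.1] Localization.Away f.1) ⊗[R]
      LocalizedModule.Away f.1 M →ₗ[R] Localization.Away f.1 :=
    ((contractLeft (Localization.Away f.1) (LocalizedModule.Away f.1 M)).restrictScalars R) ∘ₗ
      e.symm.toLinearMap
  have hc' : Function.Bijective c' := by
    change Function.Bijective
      (⇑(contractLeft (Localization.Away f.1) (LocalizedModule.Away f.1 M)) ∘ ⇑e.symm)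
    refine Function.Bijective.comp ?_ e.symm.bijective
    exact (Module.Invertible.bijective (R := Localization.Away f.1)
      (M := LocalizedModule.Away f.1 M))
  have key : IsLocalizedModule.map S (TensorProduct.map δ mk)
      (Algebra.linearMap R (Localization.Away f.1)) (contractLeft R M) = c' := by
    apply IsLocalizedModule.linearMap_ext S (TensorProduct.map δ mk)
      (Algebra.linearMap R (Localization.Away f.1))
    rw [IsLocalizedModule.map_comp]
    ext φ m
    simp [c', e, δ, mk, TensorProduct.equivOfCompatibleSMul]
    have h1 : (LocalizedModule.mk m 1 : LocalizedModule S M) = LocalizedModule.mkLinearMap S M m := rfl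
    rw [h1, IsLocalizedModule.map_apply]
    rfl
  rw [key]
  exact hc'

end Groth.Agent.S12080
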