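import Groth.Statements.S0371
import Groth.Agent.Lib.Helper5DualDimB

set_option autoImplicit false
universe u v
open CategoryTheory
attribute [local instance] HasDerivedCategory.standard
open Dual

namespace Groth.Agent.S0371

/-- A Noetherian ring with a dualizing complex has finite Krull dimension. (Universal catenarity is not
stated.) -/
theorem result (A : Type u) [CommRing A] [IsNoetherianRing A] (ω : Dual.D A) (hω : Dual.IsDualizing A ω) : ringKrullDim A < ⊤ := by
  haveI := hω.isNoetherianRing
  obtain ⟨δ, h1, h2⟩ := Groth.Agent.Lib.Helper5.DualDim.main A ω hω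
  obtain ⟨a, b, hab⟩ := hω.finite_injective_dimension
  have hrange : ∀ p : PrimeSpectrum A, a ≤ -δ p ∧ -δ p ≤ b := by
    intro p
    by_contra hcon
    have hout : (-δ p < a ∨ b < -δ p) := by lia
    haveI := hab (A ⧸ p.asIdeal) (-δ p) hout
    have hnt := (h1 p (-δ p)).mpr rfl
    exact not_subsingleton _ (inferInstance : Subsingleton (LocalizedModule p.asIdeal.primeCompl
      (Dual.inD A (A ⧸ p.asIdeal) ⟶ ω⟦-δ p⟧)))
  have hanti : ∀ q p : PrimeSpectrum A, p < q → δ q + 1 ≤ δ p := by
    intro q p
    induction p using (InvImage.wf (fun q : PrimeSpectrum A => q.asIdeal)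
      (wellFounded_gt : WellFounded ((· > ·) : Ideal A → Ideal A → Prop))).induction with
    | _ p IH =>
      intro hpq
      let S : Set (PrimeSpectrum A) := {c | p < c ∧ c ≤ q}
      have hne : S.Nonempty := ⟨q, hpq, le_rfl⟩
      obtain ⟨c₀, hc₀, hmin⟩ := WellFounded.has_min
        (InvImage.wf (fun q : PrimeSpectrum A => q.asIdeal.height) wellFounded_lt) S hne
      have hcov : p ⋖ c₀ := by
        refine ⟨hc₀.1, fun c hpc hcc => ?_⟩
        apply hmin c ⟨hpc, hcc.le.trans hc₀.2⟩
        show c.asIdeal.height < c₀.asIdeal.height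
        haveI := c.isPrime
        haveI := c₀.isPrime
        have hlt : c.asIdeal < c₀.asIdeal := hcc
        exact Ideal.height_strict_mono_of_isPrime hlt
      have e1 := h2 p c₀ hcov
      rcases hc₀.2.eq_or_lt with heq | hlt
      · rw [← heq]
        lia
      · have e2 := IH c₀ (show p.asIdeal < c₀.asIdeal from hc₀.1) hlt
        lia
  have hlen : ∀ s : LTSeries (PrimeSpectrum A), (s.length : ℤ) ≤ b - a := by
    intro s
    have key : ∀ (i : ℕ) (hi : i < s.length + 1),
        δ (s ⟨i, hi⟩) + (i : ℤ) ≤ δ (s ⟨0, by lia⟩) := by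
      intro i
      induction i with
      | zero => intro hi; simp
      | succ k ih =>
        intro hi
        have hk : k < s.length + 1 := by lia
        have hlt : s ⟨k, hk⟩ < s ⟨k + 1, hi⟩ := s.strictMono (by simp [Fin.lt_def])
        have e1 := hanti _ _ hlt
        have e2 := ih hk
        push_cast
        lia
    have e3 := key s.length (by lia)
    have h3 := hrange (s ⟨0, by lia⟩)
    have h4 := hrange (s ⟨s.length, by lia⟩)
    lia
  have hle : ringKrullDim A ≤ (((b - a).toNat : ℕ) : WithBot ℕ∞) := by
    unfold ringKrullDim Order.krullDim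
    refine iSup_le fun s => ?_
    have e4 := hlen s
    have h5 : s.length ≤ (b - a).toNat := by lia
    exact_mod_cast h5
  refine lt_of_le_of_lt hle ?_
  exact WithBot.coe_lt_coe.mpr (ENat.natCast_lt_top _)

end Groth.Agent.S0371
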