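import Groth.Statements.S7004
import Mathlib
import Groth.Agent.Lib.Helper1SplitTrunc
import Groth.Agent.Lib.Helper1ProjRes
-- import your own Groth.Agent.* helpers here

set_option autoImplicit false
universe u
open CategoryTheory CategoryTheory.Limits
attribute [local instance] HasDerivedCategory.standard
open DRing

namespace Groth.Agent.S7004

open HomologicalComplex DerivedCategory Groth.Agent.S14388
open Groth.Agent.Lib.Helper1.SplitTrunc Groth.Agent.Lib.Helper1.ProjRes
open Groth.Agent.Lib.Helper21.DTrunc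

section gen
universe w v' u'
variable {A : Type u'} [Category.{v'} A] [Abelian A] [HasDerivedCategory.{w} A]

/-- if the canonical map `P ⟶ (coker d^{a-1})[-a]` vanishes in `D(A)` (`P` K-projective), then `P` is
exact in degree `a` -/
lemma exactAt_of_Q_map_eq_zero (P : CochainComplex A ℤ) [P.IsKProjective] (a : ℤ)
    (h : Q.map (mkHomToSingle (P.pOpcycles a) (fun i _ => P.d_pOpcycles i a) :
      P ⟶ (single A (ComplexShape.up ℤ) a).obj (P.opcycles a)) = 0) : P.ExactAt a := by
  have h2 : (HomotopyCategory.quotient A (ComplexShape.up ℤ)).map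
      (mkHomToSingle (P.pOpcycles a) (fun i _ => P.d_pOpcycles i a) :
        P ⟶ (single A (ComplexShape.up ℤ) a).obj (P.opcycles a)) =
      (HomotopyCategory.quotient A (ComplexShape.up ℤ)).map 0 := by
    apply (CochainComplex.IsKProjective.Qh_map_bijective P _).1
    rw [Functor.map_zero, Functor.map_zero]
    exact h
  have ho := HomotopyCategory.homotopyOfEq _ _ h2
  have hc := ho.comm a
  rw [dNext_eq ho.hom (show (ComplexShape.up ℤ).Rel a (a + 1) by simp),
    prevD_eq ho.hom (show (ComplexShape.up ℤ).Rel (a - 1) a by simp),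
    HomologicalComplex.single_obj_d, comp_zero, add_zero, HomologicalComplex.zero_f, add_zero,
    mkHomToSingle_f] at hc
  have hsplit : P.fromOpcycles a (a + 1) ≫ ho.hom (a + 1) a ≫
      (singleObjXSelf (ComplexShape.up ℤ) a (P.opcycles a)).hom = 𝟙 _ := by
    rw [← cancel_epi (P.pOpcycles a), P.p_fromOpcycles_assoc, ← Category.assoc, ← hc,
      Category.assoc, Iso.inv_hom_id, Category.comp_id]
  have hmono : Mono (P.fromOpcycles a (a + 1)) := mono_of_mono_fac hsplit
  rw [HomologicalComplex.exactAt_iff_isZero_homology]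
  have hz : P.homologyι a = 0 := by
    rw [← cancel_mono (P.fromOpcycles a (a + 1)), P.homologyι_comp_fromOpcycles, zero_comp]
  exact IsZero.of_mono_eq_zero _ hz

end gen

/-- every chain map from a representative of `K` to a module placed in degree `a` vanishes in `D(R)`
as soon as `Hom(K, M[-a]) = 0` for all modules `M` -/
lemma Q_map_eq_zero {R : Type u} [CommRing R] (a : ℤ) (K : Dual.D R)
    (h : ∀ (M : Type u) [AddCommGroup M] [Module R M],
      Subsingleton (K ⟶ (shiftFunctor (Dual.D R) (-a)).obj (Dual.inD R M)))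
    (P : CochainComplex (ModuleCat.{u} R) ℤ) (e : Q.obj P ≅ K) (B : ModuleCat.{u} R)
    (f : P ⟶ (single (ModuleCat.{u} R) (ComplexShape.up ℤ) a).obj B) : Q.map f = 0 := by
  obtain ⟨β, hβ⟩ : ∃ β : (DerivedCategory.singleFunctor (ModuleCat.{u} R) 0 ⋙
      shiftFunctor (DerivedCategory (ModuleCat.{u} R)) (-a)) ≅
      DerivedCategory.singleFunctor (ModuleCat.{u} R) a,
      β = (DerivedCategory.singleFunctors (ModuleCat.{u} R)).shiftIso (-a) a 0 (by lia) :=
    ⟨_, rfl⟩
  obtain ⟨φ, hφ⟩ : ∃ φ : Q.obj P ⟶ (DerivedCategory.singleFunctor (ModuleCat.{u} R) a).obj B,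
      φ = Q.map f := ⟨_, rfl⟩
  have hx : e.inv ≫ φ ≫ β.inv.app B = 0 := (h B).elim _ _
  have h0 : φ = 0 := by
    have h1 : e.hom ≫ (e.inv ≫ φ ≫ β.inv.app _) ≫ β.hom.app _ = 0 := by
      rw [hx, zero_comp, comp_zero]
    simpa using h1
  exact hφ.symm.trans h0

/-- Let R be a commutative ring, a an integer and K an object of D(R) whose cohomology vanishes in large
degrees, such that Hom(K, M[-a]) = 0 in D(R) for every R-module M. Then K ≅ τ_(≤ a-1) K ⊕ τ_(≥ a+1)
K by an isomorphism carrying τ_(≤ a-1) K → K to the first inclusion and K → τ_(≥ a+1) K to the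
second projection, and τ_(≥ a+1) K is isomorphic in D(R) to a complex of projective modules
vanishing outside [a+1, b] for some integer b. (The published statement also asserts that the
decomposition is unique; that part is not restated.) -/
theorem result (R : Type u) [CommRing R] (a : ℤ) (K : Dual.D R)
    (hKb : ∃ b : ℤ, ∀ i : ℤ, b < i → Subsingleton (Dual.HD R K i))
    (h : ∀ (M : Type u) [AddCommGroup M] [Module R M],
      Subsingleton (K ⟶ (shiftFunctor (Dual.D R) (-a)).obj (Dual.inD R M)))
    [HasBinaryBiproduct (((DerivedCategory.TStructure.t : Triangulated.TStructure (Dual.D R)).truncLT a).obj K) (((DerivedCategory.TStructure.t : Triangulated.TStructure (Dual.D R)).truncGE (a + 1)).obj K)] :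
    (∃ e : K ≅ ((DerivedCategory.TStructure.t : Triangulated.TStructure (Dual.D R)).truncLT a).obj K ⊞ ((DerivedCategory.TStructure.t : Triangulated.TStructure (Dual.D R)).truncGE (a + 1)).obj K,
      ((DerivedCategory.TStructure.t : Triangulated.TStructure (Dual.D R)).truncLTι a).app K ≫ e.hom = biprod.inl ∧
        e.hom ≫ biprod.snd = ((DerivedCategory.TStructure.t : Triangulated.TStructure (Dual.D R)).truncGEπ (a + 1)).app K) ∧
      ∃ (P : DRing.Cx R) (b : ℤ), DRing.VanishesOutside P (a + 1) b ∧ (∀ i : ℤ, Module.Projective R (P.X i)) ∧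
        Nonempty (DRing.toD P ≅ ((DerivedCategory.TStructure.t : Triangulated.TStructure (Dual.D R)).truncGE (a + 1)).obj K) := by
  obtain ⟨b, hb⟩ := hKb
  have hKle : K.IsLE b := (DerivedCategory.isLE_iff K b).2 (fun i hi => by
    have := hb i hi
    exact ModuleCat.isZero_of_subsingleton _)
  obtain ⟨P, hPb, hPproj, ⟨e⟩⟩ := exists_iso_Q_proj K b
  have hKP : P.IsKProjective := CochainComplex.isKProjective_of_projective P b
  have hkey : Q.map (toImage P a) = 0 := Q_map_eq_zero a K h P e _ _
  have hex : P.ExactAt a := exactAt_of_Q_map_eq_zero P a (Q_map_eq_zero a K h P e _ _)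
  have hHa : IsZero ((homologyFunctor (ModuleCat.{u} R) a).obj K) := by
    refine IsZero.of_iso ?_ ((homologyFunctor (ModuleCat.{u} R) a).mapIso e.symm)
    rw [isZero_homologyFunctor_obj_Q_iff]
    exact hex.isZero_homology
  have : ∀ i : ℤ, Projective ((P.truncGE (a + 1)).X i) := fun i =>
    projective_truncGE_X P b a hkey i
  obtain ⟨ψ, -⟩ := exists_iso_truncGE P (a + 1)
  have e₂ : Q.obj (P.truncGE (a + 1)) ≅ (tt.truncGE (a + 1)).obj K :=
    ψ.symm ≪≫ (tt.truncGE (a + 1)).mapIso e
  obtain ⟨e₀, he₀1, he₀2⟩ := exists_splitting K (a + 1) (P.truncGE (a + 1)) (max b (a + 1))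
    (fun i hi => isZero_truncGE_X P b a i hi) e₂
  -- comparison of the two truncations
  obtain ⟨θ, hθ⟩ : ∃ θ : (tt.truncLT a).obj K ⟶ (tt.truncLT (a + 1)).obj K,
      θ ≫ (tt.truncLTι (a + 1)).app K = (tt.truncLTι a).app K :=
    ⟨(tt.natTransTruncLTOfLE a (a + 1) (by lia)).app K,
      tt.natTransTruncLTOfLE_ι_app a (a + 1) (by lia) K⟩
  have hθiso : IsIso θ := by
    rw [DerivedCategory.isIso_iff]
    intro i
    by_cases hi : i < a
    · have j1 := isIso_homology_truncLTι a i hi K
      have j2 := isIso_homology_truncLTι (a + 1) i (by lia) K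
      have : IsIso ((homologyFunctor (ModuleCat.{u} R) i).map θ ≫
          (homologyFunctor (ModuleCat.{u} R) i).map ((tt.truncLTι (a + 1)).app K)) := by
        rw [← Functor.map_comp, hθ]
        exact j1
      exact IsIso.of_isIso_comp_right _
        ((homologyFunctor (ModuleCat.{u} R) i).map ((tt.truncLTι (a + 1)).app K))
    · have i1 : ((tt.truncLT a).obj K).IsLE (a - 1) := inferInstance
      have i2 : ((tt.truncLT (a + 1)).obj K).IsLE a :=
        tt.isLE_truncLT_obj K (a + 1) a (by lia)
      have z1 : IsZero ((homologyFunctor (ModuleCat.{u} R) i).obj ((tt.truncLT a).obj K)) :=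
        isZero_of_isLE _ (a - 1) i (by lia)
      have z2 : IsZero ((homologyFunctor (ModuleCat.{u} R) i).obj ((tt.truncLT (a + 1)).obj K)) := by
        by_cases hia : i = a
        · subst hia
          have j2 := isIso_homology_truncLTι (i + 1) i (by lia) K
          exact hHa.of_iso (asIso ((homologyFunctor (ModuleCat.{u} R) i).map
            ((tt.truncLTι (i + 1)).app K)))
        · exact isZero_of_isLE _ a i (by lia)
      exact ⟨0, z1.eq_of_src _ _, z2.eq_of_src _ _⟩
  refine ⟨⟨e₀ ≪≫ biprod.mapIso (asIso θ).symm (Iso.refl _), ?_, ?_⟩, P.truncGE (a + 1),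
    max b (a + 1), fun i hi => isZero_truncGE_X P b a i hi, fun i => ?_, ⟨e₂⟩⟩
  · rw [Iso.trans_hom, ← hθ, Category.assoc, ← Category.assoc ((tt.truncLTι (a + 1)).app K),
      he₀1]
    simp
  · rw [Iso.trans_hom, Category.assoc]
    simp [he₀2]
  · exact ModuleCat.projective_of_module_projective _

end Groth.Agent.S7004
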