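import Groth.Statements.S6964
import Mathlib
import Groth.Agent.S7004
-- import your own Groth.Agent.* helpers here

set_option autoImplicit false
universe u
open CategoryTheory CategoryTheory.Limits
attribute [local instance] HasDerivedCategory.standard
open DRing

namespace Groth.Agent.S6964

open HomologicalComplex DerivedCategory Groth.Agent.S14388
open Groth.Agent.Lib.Helper1.SplitTrunc Groth.Agent.Lib.Helper1.ProjRes
open Groth.Agent.Lib.Helper21.DTrunc

variable {R : Type u} [CommRing R]

/-- vanishing of `Hom(K, N[-n])` for all modules `N` forces `H^n(K) = 0` -/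
lemma isZero_homology_of_subsingleton (K : Dual.D R) (n : ℤ)
    (h : ∀ (M : Type u) [AddCommGroup M] [Module R M],
      Subsingleton (K ⟶ (shiftFunctor (Dual.D R) (-n)).obj (Dual.inD R M))) :
    IsZero ((homologyFunctor (ModuleCat.{u} R) n).obj K) := by
  obtain ⟨K', ⟨e⟩⟩ : ∃ K' : CochainComplex (ModuleCat.{u} R) ℤ, Nonempty (Q.obj K' ≅ K) :=
    ⟨_, ⟨Q.objObjPreimageIso K⟩⟩
  refine IsZero.of_iso ?_ ((homologyFunctor (ModuleCat.{u} R) n).mapIso e.symm)
  rw [isZero_homologyFunctor_obj_Q_iff]
  obtain ⟨I, ι, hI, hι⟩ : ∃ (I : ModuleCat.{u} R) (ι : K'.homology n ⟶ I), Injective I ∧ Mono ι :=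
    ⟨Injective.under _, Injective.ι _, inferInstance, inferInstance⟩
  obtain ⟨g, hg⟩ : ∃ g : K'.opcycles n ⟶ I, K'.homologyι n ≫ g = ι :=
    ⟨Injective.factorThru ι (K'.homologyι n), Injective.comp_factorThru _ _⟩
  obtain ⟨f, hf⟩ : ∃ f : K' ⟶ (single (ModuleCat.{u} R) (ComplexShape.up ℤ) n).obj I,
      f.f n = (K'.pOpcycles n ≫ g) ≫ (singleObjXSelf (ComplexShape.up ℤ) n I).inv :=
    ⟨mkHomToSingle (K'.pOpcycles n ≫ g) (fun i _ => by rw [K'.d_pOpcycles_assoc, zero_comp]),
      mkHomToSingle_f _ _⟩
  have hQ : Q.map f = 0 := Groth.Agent.S7004.Q_map_eq_zero n K h K' e I f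
  have hinj : ∀ k : ℤ, Injective (((single (ModuleCat.{u} R) (ComplexShape.up ℤ) n).obj I).X k) := by
    intro k
    by_cases hk : k = n
    · subst hk
      exact Injective.of_iso (singleObjXSelf (ComplexShape.up ℤ) k I).symm hI
    · exact (isZero_single_obj_X (ComplexShape.up ℤ) n I k hk).injective
  have hKI : CochainComplex.IsKInjective
      ((single (ModuleCat.{u} R) (ComplexShape.up ℤ) n).obj I) :=
    CochainComplex.isKInjective_of_injective _ n
  have h2 : (HomotopyCategory.quotient _ (ComplexShape.up ℤ)).map f =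
      (HomotopyCategory.quotient _ (ComplexShape.up ℤ)).map 0 := by
    apply (CochainComplex.IsKInjective.Qh_map_bijective _ _).1
    rw [Functor.map_zero, Functor.map_zero]
    exact hQ
  have ho := HomotopyCategory.homotopyOfEq _ _ h2
  have hc := ho.comm n
  rw [dNext_eq ho.hom (show (ComplexShape.up ℤ).Rel n (n + 1) by simp),
    prevD_eq ho.hom (show (ComplexShape.up ℤ).Rel (n - 1) n by simp),
    HomologicalComplex.single_obj_d, comp_zero, add_zero, HomologicalComplex.zero_f, add_zero,
    hf] at hc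
  have hg2 : g = K'.fromOpcycles n (n + 1) ≫ ho.hom (n + 1) n ≫
      (singleObjXSelf (ComplexShape.up ℤ) n I).hom := by
    rw [← cancel_epi (K'.pOpcycles n), K'.p_fromOpcycles_assoc, ← Category.assoc (K'.d n (n + 1)),
      ← hc, Category.assoc, Iso.inv_hom_id, Category.comp_id]
  have hι0 : ι = 0 := by
    rw [← hg, hg2, K'.homologyι_comp_fromOpcycles_assoc, zero_comp]
  exact IsZero.of_mono_eq_zero ι hι0

/-- the core: cohomology in degrees `≤ b`, none below `a'`, and `Hom(K, N[-a']) = 0` for all `N`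
give a representative by projectives in `[a' + 1, b]` -/
lemma core (K : Dual.D R) (a' b : ℤ)
    (hb : ∀ n : ℤ, b < n → IsZero ((homologyFunctor (ModuleCat.{u} R) n).obj K))
    (h1 : ∀ n : ℤ, n < a' → IsZero ((homologyFunctor (ModuleCat.{u} R) n).obj K))
    (h2 : ∀ (M : Type u) [AddCommGroup M] [Module R M],
      Subsingleton (K ⟶ (shiftFunctor (Dual.D R) (-a')).obj (Dual.inD R M))) :
    ∃ P : DRing.Cx R, DRing.VanishesOutside P (a' + 1) b ∧ (∀ i : ℤ, Module.Projective R (P.X i)) ∧
      Nonempty (DRing.toD P ≅ K) := by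
  have hKle : K.IsLE b := (DerivedCategory.isLE_iff K b).2 hb
  obtain ⟨P, hPb, hPproj, ⟨e⟩⟩ := exists_iso_Q_proj K b
  have hKP : P.IsKProjective := CochainComplex.isKProjective_of_projective P b
  have hkey : Q.map (toImage P a') = 0 := Groth.Agent.S7004.Q_map_eq_zero a' K h2 P e _ _
  have hex : P.ExactAt a' :=
    Groth.Agent.S7004.exactAt_of_Q_map_eq_zero P a' (Groth.Agent.S7004.Q_map_eq_zero a' K h2 P e _ _)
  have hPge : CochainComplex.IsGE P (a' + 1) := by
    rw [CochainComplex.isGE_iff]
    intro n hn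
    by_cases hna : n = a'
    · subst hna
      exact hex
    · rw [HomologicalComplex.exactAt_iff_isZero_homology,
        ← isZero_homologyFunctor_obj_Q_iff]
      exact (h1 n (by lia)).of_iso ((homologyFunctor (ModuleCat.{u} R) n).mapIso e)
  have : ∀ i : ℤ, Projective ((P.truncGE (a' + 1)).X i) := fun i =>
    projective_truncGE_X P b a' hkey i
  have hq : QuasiIso (P.πTruncGE (a' + 1)) := (P.quasiIso_πTruncGE_iff (a' + 1)).2 hPge
  have hiso : IsIso (Q.map (P.πTruncGE (a' + 1))) :=
    (DerivedCategory.isIso_Q_map_iff_quasiIso (φ := P.πTruncGE (a' + 1))).2 hq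
  refine ⟨P.truncGE (a' + 1), fun i hi => ?_, fun i => ModuleCat.projective_of_module_projective _,
    ⟨(asIso (Q.map (P.πTruncGE (a' + 1)))).symm ≪≫ e⟩⟩
  obtain hi | hi := hi
  · exact (P.truncGE (a' + 1)).isZero_of_isStrictlyGE (a' + 1) i hi
  · by_cases hia : i < a' + 1
    · exact (P.truncGE (a' + 1)).isZero_of_isStrictlyGE (a' + 1) i hia
    · by_cases hia' : i = a' + 1
      · subst hia'
        refine IsZero.of_iso ?_ (P.truncGEXIsoOpcycles (a' + 1))
        have hz : IsZero (P.X (a' + 1)) := P.isZero_of_isStrictlyLE b _ hi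
        rw [IsZero.iff_id_eq_zero, ← cancel_epi (P.pOpcycles (a' + 1))]
        exact hz.eq_of_src _ _
      · exact (P.isZero_of_isStrictlyLE b i hi).of_iso (P.truncGEXIso (a' + 1) i (by lia))

/-- the vanishing of `Hom(K, N[i])` outside `[-b, -a]` for `K` of projective amplitude `[a, b]` -/
lemma subsingleton_of_rep (K : Dual.D R) (a b : ℤ) (P : DRing.Cx R)
    (hP : DRing.VanishesOutside P a b) (hproj : ∀ i : ℤ, Module.Projective R (P.X i))
    (e : DRing.toD P ≅ K) (N : Type u) [AddCommGroup N] [Module R N] (i : ℤ)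
    (hi : i < -b ∨ -a < i) : Subsingleton (DRing.ExtD R K (Dual.inD R N) i) := by
  have : ∀ i : ℤ, Projective (P.X i) := fun i =>
    have := hproj i
    ModuleCat.projective_of_categoryTheory_projective _
  have hz : ∀ f : K ⟶ (Dual.inD R N)⟦i⟧, f = 0 := by
    intro f
    obtain hi | hi := hi
    · have hPle : P.IsStrictlyLE b := by
        rw [CochainComplex.isStrictlyLE_iff]
        intro j hj
        exact hP j (Or.inr hj)
      have i1 : (Q.obj P).IsLE b := inferInstance
      have i2 : K.IsLE b := tt.isLE_of_iso e b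
      have i3 : ((Dual.inD R N)⟦i⟧).IsGE (-i) := tt.isGE_shift _ 0 i (-i) (by lia)
      exact tt.zero_of_isLE_of_isGE f b (-i) (by lia) i2 i3
    · have i4 : (Dual.inD R N).IsLE (a - 1 + i) := tt.isLE_of_le _ 0 (a - 1 + i) (by lia)
      have i3 : ((Dual.inD R N)⟦i⟧).IsLE (a - 1) :=
        tt.isLE_shift _ (a - 1 + i) i (a - 1) (by lia)
      have h := Groth.Agent.S6990.hom_eq_zero P a b hP _ (e.hom ≫ f)
      rw [← cancel_epi e.hom, h, comp_zero]
  exact ⟨fun f g => by rw [hz f, hz g]⟩

/-- Let R be a commutative ring, K an object of D(R) and a, b integers. These four conditions are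
equivalent: (1) the projective amplitude of K lies in [a, b], meaning K is isomorphic in D(R) to a
complex of projective R-modules vanishing outside [a, b]; (2) Hom(K, N[i]) = 0 in D(R) for every
R-module N and every integer i outside [-b, -a]; (3) H^n(K) = 0 for all n > b and Hom(K, N[i]) = 0
for every R-module N and every i > -a; (4) H^n(K) = 0 for all n outside [a - 1, b] and Hom(K, N[-a +
1]) = 0 for every R-module N. -/
theorem result (R : Type u) [CommRing R] (K : Dual.D R) (a b : ℤ) :
    [∃ P : DRing.Cx R, DRing.VanishesOutside P a b ∧ (∀ i : ℤ, Module.Projective R (P.X i)) ∧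
        Nonempty (DRing.toD P ≅ K),
      ∀ (N : Type u) [AddCommGroup N] [Module R N] (i : ℤ), (i < -b ∨ -a < i) →
        Subsingleton (DRing.ExtD R K (Dual.inD R N) i),
      (∀ n : ℤ, b < n → Subsingleton (Dual.HD R K n)) ∧
        ∀ (N : Type u) [AddCommGroup N] [Module R N] (i : ℤ), -a < i → Subsingleton (DRing.ExtD R K (Dual.inD R N) i),
      (∀ n : ℤ, (n < a - 1 ∨ b < n) → Subsingleton (Dual.HD R K n)) ∧
        ∀ (N : Type u) [AddCommGroup N] [Module R N], Subsingleton (DRing.ExtD R K (Dual.inD R N) (-a + 1))].TFAE := by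
  tfae_have 1 → 2 := by
    rintro ⟨P, hP, hproj, ⟨e⟩⟩ N _ _ i hi
    exact subsingleton_of_rep K a b P hP hproj e N i hi
  tfae_have 2 → 3 := by
    intro h
    refine ⟨fun n hn => ?_, fun N _ _ i hi => h N i (Or.inr hi)⟩
    have hz := isZero_homology_of_subsingleton K n (fun M _ _ => h M (-n) (Or.inl (by lia)))
    exact ModuleCat.subsingleton_of_isZero hz
  tfae_have 3 → 1 := by
    rintro ⟨h3a, h3b⟩
    have := core K (a - 1) b
      (fun n hn => by
        have := h3a n hn
        exact ModuleCat.isZero_of_subsingleton _)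
      (fun n hn => isZero_homology_of_subsingleton K n (fun M _ _ => h3b M (-n) (by lia)))
      (fun M _ _ => h3b M (-(a - 1)) (by lia))
    rwa [sub_add_cancel] at this
  tfae_have 1 → 4 := by
    rintro ⟨P, hP, hproj, ⟨e⟩⟩
    refine ⟨fun n hn => ?_, fun N _ _ =>
      subsingleton_of_rep K a b P hP hproj e N (-a + 1) (Or.inr (by lia))⟩
    have hz : IsZero ((homologyFunctor (ModuleCat.{u} R) n).obj K) := by
      refine IsZero.of_iso ?_ ((homologyFunctor (ModuleCat.{u} R) n).mapIso e.symm)
      rw [isZero_homologyFunctor_obj_Q_iff, ← HomologicalComplex.exactAt_iff_isZero_homology]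
      exact HomologicalComplex.ExactAt.of_isZero (hP n (by lia))
    exact ModuleCat.subsingleton_of_isZero hz
  tfae_have 4 → 1 := by
    rintro ⟨h4a, h4b⟩
    have := core K (a - 1) b
      (fun n hn => by
        have := h4a n (Or.inr hn)
        exact ModuleCat.isZero_of_subsingleton _)
      (fun n hn => by
        have := h4a n (Or.inl hn)
        exact ModuleCat.isZero_of_subsingleton _)
      (fun M _ _ => by
        have := h4b M
        rwa [show -a + 1 = -(a - 1) by ring] at this)
    rwa [sub_add_cancel] at this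
  tfae_finish

end Groth.Agent.S6964
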