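import Groth.Statements.S11185
import Mathlib
import Groth.Agent.Lib.Helper1GlDim
-- import your own Groth.Agent.* helpers here

set_option autoImplicit false
universe u
open CategoryTheory
attribute [local instance] HasDerivedCategory.standard
open Dual

namespace Groth.Agent.S11185

open DerivedCategory Groth.Agent.S14388 Groth.Agent.Lib.Helper1.GlDim

variable {A : Type u} [CommRing A]

lemma subsingleton_neg (M N : ModuleCat.{u} A) (i : ℤ) (hi : i < 0) :
    Subsingleton ((singleFunctor (ModuleCat.{u} A) 0).obj M ⟶
      (shiftFunctor (DerivedCategory (ModuleCat.{u} A)) i).obj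
        ((singleFunctor (ModuleCat.{u} A) 0).obj N)) := by
  refine ⟨fun f g => ?_⟩
  have h1 : ((shiftFunctor (DerivedCategory (ModuleCat.{u} A)) i).obj
      ((singleFunctor (ModuleCat.{u} A) 0).obj N)).IsGE (-i) :=
    tt.isGE_shift ((singleFunctor (ModuleCat.{u} A) 0).obj N) 0 i (-i) (by omega)
  rw [tt.zero_of_isLE_of_isGE f 0 (-i) (by omega) inferInstance h1,
    tt.zero_of_isLE_of_isGE g 0 (-i) (by omega) inferInstance h1]

/-- Let A be a Noetherian ring all of whose local rings A_p at primes are regular and whose Krull
dimension is finite. Then the complex A[0] is a dualizing complex for A (finite injective dimension,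
finite cohomology, A → End(A[0]) bijective and no self-maps of nonzero degree). -/
theorem result (A : Type u) [CommRing A] [IsNoetherianRing A] (hreg : ∀ p : PrimeSpectrum A, IsRegularLocalRing (Localization.AtPrime p.asIdeal)) (hdim : ringKrullDim A < ⊤) : Dual.IsDualizing A (Dual.inD A A) := by
  obtain ⟨d, hd⟩ : ∃ d : ℕ, ringKrullDim A ≤ d := by
    by_cases hb : ringKrullDim A = ⊥
    · exact ⟨0, by rw [hb]; exact bot_le⟩
    · obtain ⟨e, he⟩ := WithBot.ne_bot_iff_exists.mp hb
      have hetop : e ≠ ⊤ := by
        rintro rfl
        rw [← he] at hdim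
        exact lt_irrefl _ hdim
      obtain ⟨d, rfl⟩ := ENat.ne_top_iff_exists.mp hetop
      exact ⟨d, he.symm.le⟩
  refine ⟨inferInstance, ⟨0, d, fun M _ _ i hi => ?_⟩, fun i => ?_, ?_, fun i hi => ?_⟩
  · rcases hi with hi | hi
    · exact subsingleton_neg _ _ i hi
    · exact subsingleton_hom_of_pd (ModuleCat.of A M) (ModuleCat.of A A) d
        (gldim_of_regular_le hreg d hd M) i hi
  · by_cases hi : i = 0
    · subst hi
      let e : (homologyFunctor (ModuleCat.{u} A) 0).obj
          ((DerivedCategory.singleFunctor (ModuleCat.{u} A) 0).obj (ModuleCat.of A A)) ≅ ModuleCat.of A A :=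
        (singleFunctorCompHomologyFunctorIso (ModuleCat.{u} A) 0).app (ModuleCat.of A A)
      exact Module.Finite.equiv e.symm.toLinearEquiv
    · have hz : Limits.IsZero ((homologyFunctor (ModuleCat.{u} A) i).obj (Dual.inD A A)) := by
        rcases lt_or_gt_of_ne hi with h | h
        · exact isZero_of_isGE _ 0 i h
        · exact isZero_of_isLE _ 0 i h
      have := ModuleCat.subsingleton_of_isZero hz
      infer_instance
  · constructor
    · intro a b hab
      have h1 : (DerivedCategory.singleFunctor (ModuleCat.{u} A) 0).map (a • 𝟙 (ModuleCat.of A A)) =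
          (DerivedCategory.singleFunctor (ModuleCat.{u} A) 0).map (b • 𝟙 (ModuleCat.of A A)) := by
        rw [Functor.map_smul, Functor.map_smul, CategoryTheory.Functor.map_id]
        exact hab
      have h2 := (DerivedCategory.singleFunctor (ModuleCat.{u} A) 0).map_injective h1
      have h3 := congrArg (fun f : ModuleCat.of A A ⟶ ModuleCat.of A A => f.hom (1 : A)) h2
      simpa using h3
    · intro g
      obtain ⟨g', hg'⟩ := (DerivedCategory.singleFunctor (ModuleCat.{u} A) 0).map_surjective g
      refine ⟨g'.hom (1 : A), ?_⟩
      show g'.hom (1 : A) • 𝟙 _ = g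
      rw [← hg', ← CategoryTheory.Functor.map_id, ← Functor.map_smul]
      congr 1
      ext
      simp
  · rcases lt_or_gt_of_ne hi with h | h
    · exact subsingleton_neg _ _ i h
    · have hp : HasProjectiveDimensionLT (ModuleCat.of A A) (0 + 1) :=
        projective_iff_hasProjectiveDimensionLT_one.1 inferInstance
      exact subsingleton_hom_of_pd (ModuleCat.of A A) (ModuleCat.of A A) 0 hp i (by exact_mod_cast h)

end Groth.Agent.S11185
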