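import Groth.Statements.S9705
import Mathlib
-- import your own Groth.Agent.* helpers here

set_option autoImplicit false
universe u
open CategoryTheory CategoryTheory.Limits AlgebraicGeometry
open Mor

namespace Groth.Agent.S9705

instance isScalarTower_polyGrading (n : ℕ) (R : Type u) [CommRing R] :
    IsScalarTower R (CohB1.polyGrading n R 0) (MvPolynomial (Fin (n+1)) R) :=
  ⟨fun r a x => by
    change ((r • a : CohB1.polyGrading n R 0) : MvPolynomial (Fin (n+1)) R) * x =
      r • ((a : MvPolynomial (Fin (n+1)) R) * x)
    rw [Submodule.coe_smul, smul_mul_assoc]⟩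

instance finiteType_polyGrading (n : ℕ) (R : Type u) [CommRing R] :
    Algebra.FiniteType (CohB1.polyGrading n R 0) (MvPolynomial (Fin (n+1)) R) :=
  Algebra.FiniteType.of_restrictScalars_finiteType R _ _

theorem bijective_algebraMap_polyGrading (n : ℕ) (R : Type u) [CommRing R] :
    Function.Bijective (algebraMap R (CohB1.polyGrading n R 0)) := by
  constructor
  · intro a b hab
    have := congrArg (fun z : CohB1.polyGrading n R 0 => (z : MvPolynomial (Fin (n+1)) R)) hab
    simp only [SetLike.GradeZero.coe_algebraMap] at this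
    exact MvPolynomial.C_injective _ _ this
  · intro z
    have hz : (z : MvPolynomial (Fin (n+1)) R) ∈ (1 : Submodule R (MvPolynomial (Fin (n+1)) R)) := by
      rw [← MvPolynomial.homogeneousSubmodule_zero]
      exact z.2
    rw [Submodule.mem_one] at hz
    obtain ⟨r, hr⟩ := hz
    refine ⟨r, Subtype.ext ?_⟩
    rw [SetLike.GradeZero.coe_algebraMap]
    exact hr

theorem isProper_projSpace_toSpec (n : ℕ) (R : Type u) [CommRing R] :
    IsProper (CohB1.ProjSpace.toSpec n R) := by
  have hiso : IsIso (CommRingCat.ofHom (algebraMap R (CohB1.polyGrading n R 0))) := by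
    have : CommRingCat.ofHom (algebraMap R (CohB1.polyGrading n R 0)) =
        (RingEquiv.ofBijective _ (bijective_algebraMap_polyGrading n R)).toCommRingCatIso.hom := rfl
    rw [this]
    infer_instance
  have : IsIso (Spec.map (CommRingCat.ofHom (algebraMap R (CohB1.polyGrading n R 0)))) :=
    inferInstance
  have h1 : IsProper (Proj.toSpecZero (CohB1.polyGrading n R)) := inferInstance
  have h2 : IsProper (Spec.map (CommRingCat.ofHom (algebraMap R (CohB1.polyGrading n R 0)))) :=
    MorphismProperty.of_isIso @IsProper _
  exact MorphismProperty.comp_mem @IsProper _ _ h1 h2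

theorem isProper_toBase (n : ℕ) (S : Scheme.{u}) : IsProper (CohB1.ProjSpaceOver.toBase n S) := by
  have := isProper_projSpace_toSpec n (ULift.{u} ℤ)
  unfold CohB1.ProjSpaceOver.toBase
  exact MorphismProperty.pullback_snd (P := @IsProper) _ _ this


/-- Over a quasi-compact quasi-separated scheme S, a morphism f : X ⟶ S is H-projective if and only if
it is H-quasi-projective and proper. -/
theorem result {X S : Scheme.{u}} [CompactSpace ↥S]
    [QuasiSeparatedSpace ↥S] (f : X ⟶ S) :
    RelProj.IsHProjective f ↔ RelProj.IsHQuasiProjective f ∧ IsProper f := by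
  constructor
  · rintro ⟨n, i, hi, hif⟩
    refine ⟨⟨n, i, inferInstance, inferInstance, hif⟩, ?_⟩
    have := isProper_toBase n S
    rw [← hif]
    exact MorphismProperty.comp_mem @IsProper _ _ inferInstance this
  · rintro ⟨⟨n, i, hi, hqc, hif⟩, hp⟩
    refine ⟨n, i, ?_, hif⟩
    have h1 := isProper_toBase n S
    have h2 : IsProper (i ≫ CohB1.ProjSpaceOver.toBase n S) := by rw [hif]; exact hp
    have h3 : IsProper i := IsProper.of_comp i (CohB1.ProjSpaceOver.toBase n S)
    rw [IsClosedImmersion.iff_isProper_and_mono]
    exact ⟨h3, inferInstance⟩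

end Groth.Agent.S9705
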