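import Groth.Statements.S6891
-- import your own Groth.Agent.* helpers here

set_option autoImplicit false
universe u
open Fitt

namespace Groth.Agent.S6891

section aux

variable {R : Type u} [CommRing R] {M : Type u} [AddCommGroup M] [Module R M]

theorem det_smul_eq_zero {n : ℕ} (x : Fin n → M) (a : Matrix (Fin n) (Fin n) R)
    (h : ∀ i, ∑ j, a i j • x j = 0) (k : Fin n) : a.det • x k = 0 := by
  have h1 : ∑ j, ((a.adjugate * a) k j) • x j = 0 := by
    simp only [Matrix.mul_apply, Finset.sum_smul, mul_smul]
    rw [Finset.sum_comm]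
    simp only [← Finset.smul_sum, h, smul_zero, Finset.sum_const_zero]
  rw [Matrix.adjugate_mul] at h1
  simpa [Matrix.smul_apply, Matrix.one_apply, ite_smul] using h1

theorem det_mem_annihilator {n : ℕ} (x : Fin n → M) (hx : Submodule.span R (Set.range x) = ⊤)
    (a : Matrix (Fin n) (Fin n) R) (h : ∀ i, ∑ j, a i j • x j = 0) :
    a.det ∈ Module.annihilator R M := by
  rw [Module.mem_annihilator]
  intro m
  have hm : m ∈ Submodule.span R (Set.range x) := by rw [hx]; trivial
  induction hm using Submodule.span_induction with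
  | mem y hy =>
    obtain ⟨k, rfl⟩ := hy
    exact det_smul_eq_zero x a h k
  | zero => simp
  | add y z _ _ hy hz => rw [smul_add, hy, hz, add_zero]
  | smul c y _ hy => rw [smul_comm, hy, smul_zero]

theorem fitt_zero_le_annihilator : Fitt.ideal R M 0 ≤ Module.annihilator R M := by
  unfold Fitt.ideal
  rw [Ideal.span_le]
  rintro d ⟨n, x, a, hx, ha, rfl⟩
  refine det_mem_annihilator x hx a (fun i => ha i ?_)
  simp

theorem pow_mem_fitt_zero_of_mem_annihilator [Module.Finite R M] :
    ∃ n : ℕ, ∀ s ∈ Module.annihilator R M, s ^ n ∈ Fitt.ideal R M 0 := by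
  obtain ⟨n, x, hx⟩ := Module.Finite.exists_fin (R := R) (M := M)
  refine ⟨n, fun s hs => ?_⟩
  unfold Fitt.ideal
  apply Ideal.subset_span
  refine ⟨n, x, s • (1 : Matrix (Fin n) (Fin n) R), hx, fun i _ => ?_, ?_⟩
  · rw [Module.mem_annihilator] at hs
    simp [Matrix.smul_apply, Matrix.one_apply, hs]
  · simp

end aux

/-- Let `M` be a finite `R`-module. Then `Fit_0(M) ⊆ Ann_R(M)`, the closed set `V(Fit_0(M))` equals
`Supp(M)`, and for an ideal `I` one has `Fit_0(R/I) = I`. -/
theorem result {R : Type u} [CommRing R] (M : Type u) [AddCommGroup M]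
    [Module R M] [Module.Finite R M] (I : Ideal R) :
    Fitt.ideal R M 0 ≤ Module.annihilator R M ∧
    PrimeSpectrum.zeroLocus (Fitt.ideal R M 0 : Set R) = Module.support R M ∧
    Fitt.ideal R (R ⧸ I) 0 = I := by
  refine ⟨fitt_zero_le_annihilator, ?_, ?_⟩
  · rw [Module.support_eq_zeroLocus]
    apply le_antisymm
    · intro p hp
      rw [PrimeSpectrum.mem_zeroLocus] at hp ⊢
      intro s hs
      obtain ⟨n, hn⟩ := pow_mem_fitt_zero_of_mem_annihilator (R := R) (M := M)
      exact p.2.mem_of_pow_mem n (hp (hn s hs))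
    · exact PrimeSpectrum.zeroLocus_anti_mono fitt_zero_le_annihilator
  · apply le_antisymm
    · refine fitt_zero_le_annihilator.trans ?_
      intro r hr
      rw [Module.mem_annihilator] at hr
      have := hr (Ideal.Quotient.mk I 1)
      rwa [← Ideal.Quotient.mk_eq_mk, ← Submodule.Quotient.mk_smul, smul_eq_mul, mul_one,
        Ideal.Quotient.mk_eq_mk, Ideal.Quotient.eq_zero_iff_mem] at this
    · intro i hi
      unfold Fitt.ideal
      apply Ideal.subset_span
      refine ⟨1, fun _ => Ideal.Quotient.mk I 1, Matrix.of (fun _ _ => i), ?_, fun j _ => ?_, ?_⟩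
      · rw [eq_top_iff]
        rintro y -
        obtain ⟨r, rfl⟩ := Ideal.Quotient.mk_surjective y
        have : Ideal.Quotient.mk I r = r • Ideal.Quotient.mk I 1 := by
          rw [Algebra.smul_def, Ideal.Quotient.algebraMap_eq, map_one, mul_one]
        rw [this]
        exact Submodule.smul_mem _ _ (Submodule.subset_span ⟨0, rfl⟩)
      · simp only [Finset.univ_unique, Matrix.of_apply, Finset.sum_singleton]
        rw [← Ideal.Quotient.mk_eq_mk, ← Submodule.Quotient.mk_smul, smul_eq_mul, mul_one,
          Ideal.Quotient.mk_eq_mk, Ideal.Quotient.eq_zero_iff_mem]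
        exact hi
      · simp [Matrix.det_unique]

end Groth.Agent.S6891
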