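import Groth.Statements.S9498
-- import your own Groth.Agent.* helpers here

set_option autoImplicit false
universe u
open AffSch

namespace Groth.Agent.S9498

open AlgebraicGeometry CategoryTheory Limits in
set_option backward.isDefEq.respectTransparency.types false in
theorem tilde_map_app_injective {R : CommRingCat.{u}} {M N : ModuleCat.{u} R} (f : M ⟶ N)
    (hf : Function.Injective f.hom) (U : (Spec R).Opens) :
    Function.Injective ((tilde.map f).app U) := by
  intro s t h
  apply Subtype.ext
  funext y
  have h1 := congrArg (fun z => z.1 y) h
  exact LocalizedModule.map_injective y.1.asIdeal.primeCompl f.hom hf h1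

open AlgebraicGeometry CategoryTheory Limits in
theorem tilde_map_mono {R : CommRingCat.{u}} {M N : ModuleCat.{u} R} (f : M ⟶ N) [Mono f] :
    Mono (tilde.map f) := by
  have hf : Function.Injective f.hom := (ModuleCat.mono_iff_injective f).mp inferInstance
  apply (Scheme.Modules.toPresheaf (Spec R)).mono_of_mono_map
  apply (config := { allowSynthFailures := true }) NatTrans.mono_of_mono_app
  intro U
  rw [AddCommGrpCat.mono_iff_injective]
  exact tilde_map_app_injective f hf U.unop

open AlgebraicGeometry CategoryTheory Limits in
theorem aux (R : CommRingCat.{u}) :
    PreservesFiniteLimits (tilde.functor R) ∧ PreservesFiniteColimits (tilde.functor R) := by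
  have hc : PreservesFiniteColimits (tilde.functor R) := inferInstance
  refine ⟨?_, hc⟩
  rw [Functor.preservesFiniteLimits_iff_forall_exact_map_and_mono]
  intro S hS
  refine ⟨?_, ?_⟩
  · exact ((Functor.preservesFiniteColimits_iff_forall_exact_map_and_epi (tilde.functor R)).mp hc
      S hS).1
  · haveI := hS.mono_f
    exact tilde_map_mono S.f

open AlgebraicGeometry in
open CategoryTheory Limits in
/-- For a commutative ring A, the functor M ↦ M~ from the category of A-modules to the category of
O-modules on Spec A is exact, i.e. it preserves finite limits and finite colimits. -/
theorem result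
    (A : Type u) [CommRing A] :
    PreservesFiniteLimits (tilde.functor (CommRingCat.of A)) ∧
      PreservesFiniteColimits (tilde.functor (CommRingCat.of A)) := by
  exact aux (CommRingCat.of A)

end Groth.Agent.S9498
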