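import Groth.Statements.S9496
import Groth.Agent.S9498

set_option autoImplicit false
universe u
open AffSch

namespace Groth.Agent.S9496

open AlgebraicGeometry CategoryTheory Limits in
theorem aux (R : CommRingCat.{u}) {M N : (Spec R).Modules}
    [hM : Coh.IsQCoh M] [hN : Coh.IsQCoh N] (φ : M ⟶ N) :
    Coh.IsQCoh (kernel φ) ∧ Coh.IsQCoh (cokernel φ) := by
  haveI := (Groth.Agent.S9498.aux R).1
  haveI := (Groth.Agent.S9498.aux R).2
  let ε := (tilde.adjunction (R := R)).counit
  haveI : IsIso (ε.app M) := (inferInstance : IsIso M.fromTildeΓ)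
  haveI : IsIso (ε.app N) := (inferInstance : IsIso N.fromTildeΓ)
  have sq : (tilde.functor R).map (moduleSpecΓFunctor.map φ) ≫ (asIso (ε.app N)).hom =
      (asIso (ε.app M)).hom ≫ φ := ε.naturality φ
  have hk : (tilde.functor R).obj (kernel (moduleSpecΓFunctor.map φ)) ≅ kernel φ :=
    PreservesKernel.iso (tilde.functor R) (moduleSpecΓFunctor.map φ) ≪≫
      kernel.mapIso _ _ (asIso (ε.app M)) (asIso (ε.app N)) sq
  have hc : (tilde.functor R).obj (cokernel (moduleSpecΓFunctor.map φ)) ≅ cokernel φ :=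
    PreservesCokernel.iso (tilde.functor R) (moduleSpecΓFunctor.map φ) ≪≫
      cokernel.mapIso _ _ (asIso (ε.app M)) (asIso (ε.app N)) sq
  have h1 : (tilde.functor R).essImage (kernel φ) := ⟨_, ⟨hk⟩⟩
  have h2 : (tilde.functor R).essImage (cokernel φ) := ⟨_, ⟨hc⟩⟩
  rw [essImage_tilde] at h1 h2
  exact ⟨h1, h2⟩

open AlgebraicGeometry in
open CategoryTheory Limits in
/-- Let X = Spec A be an affine scheme and φ : M → N a morphism of quasi-coherent O_X-modules. Then the
kernel and the cokernel of φ, computed in the category of all O_X-modules, are quasi-coherent. -/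
theorem result
    (A : Type u) [CommRing A] {M N : (Spec (CommRingCat.of A)).Modules}
    [Coh.IsQCoh M] [Coh.IsQCoh N] (φ : M ⟶ N) :
    Coh.IsQCoh (kernel φ) ∧ Coh.IsQCoh (cokernel φ) := by
  exact aux (CommRingCat.of A) φ

end Groth.Agent.S9496
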