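import Groth.Statements.S9497
import Groth.Agent.S9498

set_option autoImplicit false
universe u
open AffSch

namespace Groth.Agent.S9497

open AlgebraicGeometry CategoryTheory Limits in
theorem aux (R : CommRingCat.{u}) {J : Type u} [SmallCategory J]
    (F : J ⥤ (Spec R).Modules) (hF : ∀ j, Coh.IsQCoh (F.obj j)) :
    Coh.IsQCoh (colimit F) := by
  let ε := (tilde.adjunction (R := R)).counit
  haveI : ∀ j, IsIso (ε.app (F.obj j)) := fun j =>
    haveI := hF j
    (inferInstance : IsIso (F.obj j).fromTildeΓ)
  let iso : (F ⋙ moduleSpecΓFunctor) ⋙ tilde.functor R ≅ F :=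
    NatIso.ofComponents (fun j => asIso (ε.app (F.obj j))) (fun f => ε.naturality (F.map f))
  have hc : (tilde.functor R).obj (colimit (F ⋙ moduleSpecΓFunctor)) ≅ colimit F :=
    preservesColimitIso (tilde.functor R) (F ⋙ moduleSpecΓFunctor) ≪≫
      HasColimit.isoOfNatIso iso
  have h1 : (tilde.functor R).essImage (colimit F) := ⟨_, ⟨hc⟩⟩
  rw [essImage_tilde] at h1
  exact h1

open AlgebraicGeometry in
open CategoryTheory Limits in
/-- Let X = Spec A be an affine scheme and F : J → Mod(O_X) a small diagram of quasi-coherent
O_X-modules. Then the colimit of F, computed in the category of all O_X-modules, is quasi-coherent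
(this contains the case of arbitrary direct sums). -/
theorem result
    (A : Type u) [CommRing A] {J : Type u} [SmallCategory J]
    (F : J ⥤ (Spec (CommRingCat.of A)).Modules) (hF : ∀ j, Coh.IsQCoh (F.obj j)) :
    Coh.IsQCoh (colimit F) := by
  exact aux (CommRingCat.of A) F hF

end Groth.Agent.S9497
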