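import Groth.Statements.S0020
import Groth.Agent.Lib.Helper20SuppClosed

set_option autoImplicit false
universe u
open Coherent

namespace Groth.Agent.S0020

open AlgebraicGeometry in
/-- On a scheme X, the set of points at which the stalk of a finite type 𝒪_X-module M is nonzero (the
support of M) is closed. -/
theorem result (X : Scheme.{u}) (M : X.Modules) (hM : CohB1.IsFT M) :
    IsClosed (CohB1.support M) := by
  haveI : SheafOfModules.IsFiniteType (R := X.ringCatSheaf) M := hM
  rw [← isOpen_compl_iff, isOpen_iff_forall_mem_open]
  intro x hx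
  have hx' : Subsingleton (M.presheaf.stalk x) := not_not.mp hx
  obtain ⟨V, hxV, hV⟩ := Groth.Agent.Lib.Helper20.SuppClosed.exists_opens_subsingleton_stalk M x hx'
  exact ⟨V, fun y hy => not_not.mpr (hV y hy), V.2, hxV⟩

end Groth.Agent.S0020
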