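import Groth.Statements.S0604
import Mathlib
import Groth.Agent.Lib.Helper13ABLocal
import Groth.Agent.Lib.Helper28Depth
import Groth.Agent.Lib.Helper5Depth
-- import your own Groth.Agent.* helpers here

set_option autoImplicit false
universe u
open CategoryTheory
open CAlg

namespace Groth.Agent.S0604

open CategoryTheory.Limits MonoidalCategory
open Groth.Agent.Helper13Tor Groth.Agent.Helper13ABLocal Groth.Agent.Helper13AB

/-- data of a maximal regular sequence in the maximal ideal on a finite nontrivial module. -/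
theorem exists_max_seq {R : Type u} [CommRing R] [IsLocalRing R] [IsNoetherianRing R]
    (M : Type u) [AddCommGroup M] [Module R M] [Module.Finite R M] [Nontrivial M] (e : ℕ)
    (he : projectiveDimension (ModuleCat.of R M) = e) :
    ∃ rs : List R, LocCoh.depth R M = rs.length ∧
      Nontrivial (M ⧸ (Ideal.ofList rs • (⊤ : Submodule R M))) ∧
      HasProjectiveDimensionLT (ModuleCat.of R (M ⧸ (Ideal.ofList rs • (⊤ : Submodule R M))))
        (e + rs.length + 1) ∧
      ¬ HasProjectiveDimensionLT (ModuleCat.of R (M ⧸ (Ideal.ofList rs • (⊤ : Submodule R M))))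
        (e + rs.length) ∧
      (∀ r ∈ rs, ∀ x : kk R, r • x = 0) ∧
      RingTheory.Sequence.IsWeaklyRegular M rs ∧
      ∃ f : (R ⧸ IsLocalRing.maximalIdeal R) →ₗ[R]
        (M ⧸ (Ideal.ofList rs • (⊤ : Submodule R M))), Function.Injective f := by
  have hIM : IsLocalRing.maximalIdeal R • (⊤ : Submodule R M) ≠ ⊤ :=
    Groth.Agent.Lib.Helper5.maximalIdeal_smul_top_ne_top
  obtain ⟨rs, -, hrs, hmem, hmax⟩ := Groth.Agent.Lib.Helper28.exists_maximal_extension hIM []
    (RingTheory.Sequence.IsWeaklyRegular.nil R M) (by simp)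
  have hlen := Groth.Agent.Lib.Helper28.length_eq_idealDepth_of_maximal hIM rs hrs hmem hmax
  have hIM' := Groth.Agent.Lib.Helper28.smul_top_quot_ofList_ne_top
    (IsLocalRing.maximalIdeal R) hmem hIM
  have hnt : Nontrivial (M ⧸ (Ideal.ofList rs • (⊤ : Submodule R M))) := by
    by_contra hcon
    rw [not_nontrivial_iff_subsingleton] at hcon
    exact hIM' (Subsingleton.elim _ _)
  have hpd := ModuleCat.projectiveDimension_quotient_eq_add_length_of_isWeaklyRegular
    (ModuleCat.of R M) rs hrs hmem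
  rw [he] at hpd
  have hpd' : projectiveDimension (ModuleCat.of R (M ⧸ (Ideal.ofList rs • (⊤ : Submodule R M)))) =
      ((e + rs.length : ℕ) : WithBot ℕ∞) := by
    rw [hpd]
    push_cast
    rfl
  refine ⟨rs, hlen.symm, hnt, ?_, ?_, ?_, hrs, ?_⟩
  · rw [← projectiveDimension_lt_iff, hpd']
    exact Nat.cast_lt.2 (Nat.lt_succ_self _)
  · rw [← projectiveDimension_lt_iff, hpd']
    exact lt_irrefl _
  · intro r hr x
    exact smul_quot_eq_zero _ r (hmem r hr) x
  · apply exists_injective_of_forall_not_regular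
    intro r hr hreg
    exact hmax r hr ((RingTheory.Sequence.isWeaklyRegular_append_iff M rs [r]).2
      ⟨hrs, (RingTheory.Sequence.isWeaklyRegular_singleton_iff _ r).2 hreg⟩)

/-- `Tor_0(X, R) ≠ 0` for a nontrivial module `X`. -/
theorem not_isZero_tor_zero_self {R : Type u} [CommRing R] (X : ModuleCat.{u} R) [Nontrivial X] :
    ¬ IsZero (((Tor (ModuleCat.{u} R) 0).obj X).obj (ModuleCat.of R R)) := by
  intro hz
  have e1 : ((Tor (ModuleCat.{u} R) 0).obj X).obj (ModuleCat.of R R) ≅
      X ⊗ (ModuleCat.of R R) :=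
    (Groth.Agent.Helper13Tor.torZeroIso.app X).app (ModuleCat.of R R)
  have e2 : X ⊗ (ModuleCat.of R R) ≅ X := ρ_ X
  have hz' : IsZero X := hz.of_iso (e1 ≪≫ e2).symm
  have := ModuleCat.subsingleton_of_isZero hz'
  exact not_subsingleton X this


/-- Over a Noetherian local ring `R`, a nonzero finitely generated module `M` of finite projective
dimension satisfies depth R = pd M + depth M. -/
theorem result (R : Type u) [CommRing R] [IsLocalRing R] [IsNoetherianRing R]
    (M : Type u) [AddCommGroup M] [Module R M] [Module.Finite R M] [Nontrivial M] (e : ℕ)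
    (he : projectiveDimension (ModuleCat.of R M) = e) :
    LocCoh.depth R R = e + LocCoh.depth R M := by
  classical
  obtain ⟨rs, hs, hntM, hpdM, hpdM', -, -, fM, hfM⟩ := exists_max_seq M e he
  have heR : projectiveDimension (ModuleCat.of R R) = ((0 : ℕ) : WithBot ℕ∞) := by
    haveI : Projective (ModuleCat.of R R) :=
      (IsProjective.iff_projective R).1 inferInstance
    rw [ModuleCat.projectiveDimension_eq_zero_of_projective (ModuleCat.of R R)]
    rfl
  obtain ⟨xs, ht, hntR, hpdR, hpdR', hkill, hxs, fR, hfR⟩ := exists_max_seq R 0 heR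
  rw [hs, ht]
  obtain ⟨Mb, hMb⟩ : ∃ Mb : ModuleCat.{u} R,
      Mb = ModuleCat.of R (M ⧸ (Ideal.ofList rs • (⊤ : Submodule R M))) := ⟨_, rfl⟩
  obtain ⟨Rb, hRb⟩ : ∃ Rb : ModuleCat.{u} R,
      Rb = ModuleCat.of R (R ⧸ (Ideal.ofList xs • (⊤ : Submodule R R))) := ⟨_, rfl⟩
  rw [← hMb] at hpdM hpdM'
  rw [← hRb] at hpdR hpdR'
  haveI : Nontrivial (kk R) :=
    Ideal.Quotient.nontrivial_iff.2 (IsLocalRing.maximalIdeal.isMaximal R).ne_top
  -- `Tor_t(k, R̄) ≠ 0`
  have hT1 : ¬ IsZero (((Tor (ModuleCat.{u} R) (0 + xs.length)).obj (kk R)).obj Rb) := by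
    rw [hRb]
    exact not_isZero_tor_add_length (kk R) hxs hkill 0 (not_isZero_tor_zero_self (kk R))
  rw [zero_add] at hT1
  -- `Tor_t(M̄, R̄) ≠ 0`
  have hT2 : ¬ IsZero (((Tor (ModuleCat.{u} R) xs.length).obj Mb).obj Rb) := by
    intro hz
    obtain ⟨δ, w₁, w₂, -, hex⟩ := exists_δ (sesInj fM) (sesInj_shortExact fM hfM) Rb xs.length
    have h0 : IsZero (((Tor (ModuleCat.{u} R) (xs.length + 1)).obj (sesInj fM).X₃).obj Rb) :=
      isZero_tor_of_pdLT₂ _ (0 + xs.length) Rb hpdR _ (by omega)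
    have hmono := hex.mono_g (h0.eq_of_src _ _)
    have hz' : IsZero (((Tor (ModuleCat.{u} R) xs.length).obj (sesInj fM).X₂).obj Rb) := by
      rw [hMb] at hz
      exact hz
    exact hT1 (@IsZero.of_mono _ _ _ _ _ _ hmono hz')
  have hle1 : xs.length ≤ e + rs.length := by
    by_contra hcon
    exact hT2 (isZero_tor_of_pdLT₁ Rb (e + rs.length) Mb hpdM _ (by omega))
  -- `Tor_q(M̄, k) ≠ 0`
  have hT3 : ¬ IsZero (((Tor (ModuleCat.{u} R) (e + rs.length)).obj Mb).obj (kk R)) := by
    intro hz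
    apply hpdM'
    rw [hMb] at hz hpdM ⊢
    exact pdLT_of_isZero_tor (e + rs.length) _ hpdM hz
  have hT4 : ¬ IsZero (((Tor (ModuleCat.{u} R) (e + rs.length)).obj Mb).obj Rb) := by
    intro hz
    obtain ⟨δ, w₁, w₂, -, hex⟩ :=
      tor₂_exists_δ Mb (sesInj fR) (sesInj_shortExact fR hfR) (e + rs.length)
    have h0 : IsZero (((Tor (ModuleCat.{u} R) (e + rs.length + 1)).obj Mb).obj (sesInj fR).X₃) :=
      isZero_tor_of_pdLT₁ _ (e + rs.length) Mb hpdM _ (by omega)
    have hmono := hex.mono_g (h0.eq_of_src _ _)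
    have hz' : IsZero (((Tor (ModuleCat.{u} R) (e + rs.length)).obj Mb).obj (sesInj fR).X₂) := by
      rw [hRb] at hz
      exact hz
    exact hT3 (@IsZero.of_mono _ _ _ _ _ _ hmono hz')
  have hle2 : e + rs.length ≤ xs.length := by
    by_contra hcon
    exact hT4 (isZero_tor_of_pdLT₂ Mb (0 + xs.length) Rb hpdR _ (by omega))
  have : xs.length = e + rs.length := le_antisymm hle1 hle2
  rw [this]
  push_cast
  rfl

end Groth.Agent.S0604
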