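import Groth.Statements.S0426
import Mathlib

set_option autoImplicit false
universe u
open FlatMor

namespace Groth.Agent.S0426

open TensorProduct

/-- If `A ⧸ I` is flat over `A` then `I` is idempotent. -/
theorem isIdempotentElem_of_flat_quotient {A : Type*} [CommRing A] (I : Ideal A)
    [Module.Flat A (A ⧸ I)] : IsIdempotentElem I := by
  rw [IsIdempotentElem]
  apply le_antisymm Ideal.mul_le_right
  intro a ha
  have hinj : Function.Injective (I.subtype.rTensor (A ⧸ I)) :=
    Module.Flat.rTensor_preserves_injective_linearMap _ Subtype.val_injective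
  have h1 : (⟨a, ha⟩ : I) ⊗ₜ[A] (1 : A ⧸ I) = 0 := by
    apply hinj
    rw [LinearMap.rTensor_tmul, map_zero]
    change a ⊗ₜ[A] (1 : A ⧸ I) = 0
    have h2 : a ⊗ₜ[A] (1 : A ⧸ I) = (1 : A) ⊗ₜ[A] (a • (1 : A ⧸ I)) := by
      rw [← TensorProduct.smul_tmul, smul_eq_mul, mul_one]
    rw [h2]
    have h3 : a • (1 : A ⧸ I) = 0 := by
      rw [Algebra.smul_def, mul_one, Ideal.Quotient.algebraMap_eq,
        Ideal.Quotient.eq_zero_iff_mem]
      exact ha
    rw [h3, TensorProduct.tmul_zero]
  have h2 := congrArg (TensorProduct.tensorQuotEquivQuotSMul I I) h1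
  rw [← map_one (Ideal.Quotient.mk I), TensorProduct.tensorQuotEquivQuotSMul_tmul_mk, one_smul,
    map_zero, Submodule.Quotient.mk_eq_zero, Submodule.mem_smul_top_iff] at h2
  simpa using h2

/-- Weakly étale algebras are formally unramified. -/
theorem formallyUnramified_of_weaklyEtale (R S : Type*) [CommRing R] [CommRing S] [Algebra R S]
    [Algebra.WeaklyEtale R S] : Algebra.FormallyUnramified R S := by
  constructor
  change Subsingleton (KaehlerDifferential.ideal R S).Cotangent
  rw [Ideal.cotangent_subsingleton_iff]
  have hμ := Algebra.WeaklyEtale.flat_lmul' R S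
  letI : Algebra (S ⊗[R] S) S := (Algebra.TensorProduct.lmul' R (S := S)).toRingHom.toAlgebra
  have hflat : Module.Flat (S ⊗[R] S) S := hμ
  have hsurj : Function.Surjective (Algebra.linearMap (S ⊗[R] S) S) := by
    intro s
    exact ⟨s ⊗ₜ 1, by
      change Algebra.TensorProduct.lmul' R (S := S) (s ⊗ₜ 1) = s
      simp⟩
  have hker : KaehlerDifferential.ideal R S = LinearMap.ker (Algebra.linearMap (S ⊗[R] S) S) := by
    ext t
    rfl
  haveI : Module.Flat (S ⊗[R] S) ((S ⊗[R] S) ⧸ KaehlerDifferential.ideal R S) :=
    Module.Flat.of_linearEquiv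
      ((Submodule.quotEquivOfEq _ _ hker).trans
        (LinearMap.quotKerEquivOfSurjective (Algebra.linearMap (S ⊗[R] S) S) hsurj))
  exact isIdempotentElem_of_flat_quotient _

/-- A subextension of a weakly étale field extension is weakly étale. -/
theorem weaklyEtale_of_tower (K E L : Type u) [Field K] [Field E] [Field L] [Algebra K E]
    [Algebra K L] [Algebra E L] [IsScalarTower K E L] [Algebra.WeaklyEtale K L] :
    Algebra.WeaklyEtale K E := by
  refine ⟨inferInstance, ?_⟩
  let ι : E →ₐ[K] L := IsScalarTower.toAlgHom K E L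
  have hι : ι.Flat := by
    have h1 : (ι : E →+* L) = algebraMap E L := IsScalarTower.coe_toAlgHom K E L
    change RingHom.Flat (ι : E →+* L)
    rw [h1]
    exact RingHom.flat_algebraMap_iff.mpr inferInstance
  have hφ : (Algebra.TensorProduct.map ι ι).Flat := RingHom.Flat.tensorProductMap hι hι
  have hμ := Algebra.WeaklyEtale.flat_lmul' K L
  have hcomp : RingHom.Flat ((Algebra.TensorProduct.lmul' K (S := L)).toRingHom.comp
      (Algebra.TensorProduct.map ι ι).toRingHom) := RingHom.Flat.comp hφ hμ
  letI : Algebra (E ⊗[K] E) E := (Algebra.TensorProduct.lmul' K (S := E)).toRingHom.toAlgebra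
  letI : Algebra (E ⊗[K] E) L := ((Algebra.TensorProduct.lmul' K (S := L)).toRingHom.comp
      (Algebra.TensorProduct.map ι ι).toRingHom).toAlgebra
  haveI : IsScalarTower (E ⊗[K] E) E L := IsScalarTower.of_algebraMap_eq (fun a => by
    change (Algebra.TensorProduct.lmul' K (S := L)) (Algebra.TensorProduct.map ι ι a) =
      algebraMap E L (Algebra.TensorProduct.lmul' K (S := E) a)
    induction a using TensorProduct.induction_on with
    | zero => simp
    | tmul x y => simp [ι]
    | add x y hx hy => simp only [map_add, hx, hy])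
  haveI : Module.Flat (E ⊗[K] E) L := hcomp
  obtain ⟨r, hr⟩ := LinearMap.exists_leftInverse_of_injective (Algebra.linearMap E L)
    (LinearMap.ker_eq_bot.mpr (algebraMap E L).injective)
  have hflat : Module.Flat (E ⊗[K] E) E :=
    Module.Flat.of_retract ((Algebra.linearMap E L).restrictScalars (E ⊗[K] E))
      (r.restrictScalars (E ⊗[K] E)) (by
        apply LinearMap.ext
        intro x
        exact LinearMap.congr_fun hr x)
  exact hflat


/-- A field extension L/K such that L is weakly étale over K (equivalently the multiplication map of L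
⊗_K L is flat) is algebraic and separable. -/
theorem result {K L : Type u} [Field K] [Field L] [Algebra K L] [Algebra.WeaklyEtale K L] : Algebra.IsSeparable K L := by
  rw [Algebra.isSeparable_def]
  intro x
  haveI hWE : Algebra.WeaklyEtale K (IntermediateField.adjoin K {x}) :=
    weaklyEtale_of_tower K (IntermediateField.adjoin K {x}) L
  haveI hFU : Algebra.FormallyUnramified K (IntermediateField.adjoin K {x}) :=
    formallyUnramified_of_weaklyEtale K _
  haveI : Algebra.EssFiniteType K (IntermediateField.adjoin K {x}) :=
    IntermediateField.essFiniteType_iff.mpr ⟨{x}, by simp⟩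
  have hsep : Algebra.IsSeparable K (IntermediateField.adjoin K {x}) :=
    Algebra.FormallyUnramified.isSeparable K _
  exact (IntermediateField.isSeparable_adjoin_simple_iff_isSeparable K L).mp hsep

end Groth.Agent.S0426
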