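import Groth.Statements.S7019
import Mathlib
import Groth.Agent.Lib.Helper1PCBiprod
import Groth.Agent.S6964
import Groth.Agent.S6938
-- import your own Groth.Agent.* helpers here

set_option autoImplicit false
universe u
open CategoryTheory CategoryTheory.Limits
attribute [local instance] HasDerivedCategory.standard
open DRing

namespace Groth.Agent.S7019

open HomologicalComplex DerivedCategory Groth.Agent.S14388
open Groth.Agent.Lib.Helper1.SplitTrunc Groth.Agent.Lib.Helper21.DTrunc
open Groth.Agent.Lib.Helper1.PC Groth.Agent.Lib.Helper1.PCTower Groth.Agent.Lib.Helper1.PCBiprod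

variable {R : Type u} [CommRing R]

/-- a pseudo-coherent object with no cohomology below `a'` and `Hom(K, N[-a']) = 0` for all
modules `N` is perfect -/
lemma core_fin (K : Dual.D R) (hK : DRing.IsPseudoCoherent' R K) (a' : ℤ)
    (h1 : ∀ n : ℤ, n < a' → IsZero ((homologyFunctor (ModuleCat.{u} R) n).obj K))
    (h2 : ∀ (M : Type u) [AddCommGroup M] [Module R M],
      Subsingleton (K ⟶ (shiftFunctor (Dual.D R) (-a')).obj (Dual.inD R M))) :
    DRing.IsPerfect R K := by
  obtain ⟨P, b, hPb, hff, ⟨e⟩⟩ := hK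
  have hPle : P.IsStrictlyLE b := by
    rw [CochainComplex.isStrictlyLE_iff]
    exact hPb
  have hPproj : ∀ i : ℤ, Projective (P.X i) := fun i =>
    have := (hff i).2
    have : Module.Projective R (P.X i) := Module.Projective.of_free
    ModuleCat.projective_of_categoryTheory_projective _
  have hKP : P.IsKProjective := CochainComplex.isKProjective_of_projective P b
  have hkey : Q.map (toImage P a') = 0 := Groth.Agent.S7004.Q_map_eq_zero a' K h2 P e _ _
  have hex : P.ExactAt a' :=
    Groth.Agent.S7004.exactAt_of_Q_map_eq_zero P a' (Groth.Agent.S7004.Q_map_eq_zero a' K h2 P e _ _)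
  have hPge : CochainComplex.IsGE P (a' + 1) := by
    rw [CochainComplex.isGE_iff]
    intro n hn
    by_cases hna : n = a'
    · subst hna
      exact hex
    · rw [HomologicalComplex.exactAt_iff_isZero_homology,
        ← isZero_homologyFunctor_obj_Q_iff]
      exact (h1 n (by lia)).of_iso ((homologyFunctor (ModuleCat.{u} R) n).mapIso e)
  have hproj : ∀ i : ℤ, Projective ((P.truncGE (a' + 1)).X i) := fun i =>
    projective_truncGE_X P b a' hkey i
  have hfin : ∀ i : ℤ, Module.Finite R ((P.truncGE (a' + 1)).X i) := by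
    intro i
    obtain hi | rfl | hi := lt_trichotomy i (a' + 1)
    · have := ModuleCat.subsingleton_of_isZero
        ((P.truncGE (a' + 1)).isZero_of_isStrictlyGE (a' + 1) i hi)
      infer_instance
    · have := (hff (a' + 1)).1
      have hsurj : Function.Surjective (P.pOpcycles (a' + 1)).hom :=
        (ModuleCat.epi_iff_surjective _).1 inferInstance
      have : Module.Finite R (P.opcycles (a' + 1)) := Module.Finite.of_surjective _ hsurj
      exact Module.Finite.equiv (P.truncGEXIsoOpcycles (a' + 1)).symm.toLinearEquiv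
    · have := (hff i).1
      exact Module.Finite.equiv (P.truncGEXIso (a' + 1) i hi).symm.toLinearEquiv
  have hq : QuasiIso (P.πTruncGE (a' + 1)) := (P.quasiIso_πTruncGE_iff (a' + 1)).2 hPge
  have hiso : IsIso (Q.map (P.πTruncGE (a' + 1))) :=
    (DerivedCategory.isIso_Q_map_iff_quasiIso (φ := P.πTruncGE (a' + 1))).2 hq
  have hV : DRing.VanishesOutside (P.truncGE (a' + 1)) (a' + 1) (max b (a' + 1)) := by
    intro i hi
    rcases hi with hi | hi
    · exact (P.truncGE (a' + 1)).isZero_of_isStrictlyGE (a' + 1) i hi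
    · have hi1 : a' + 1 < i := lt_of_le_of_lt (le_max_right _ _) hi
      have hi2 : b < i := lt_of_le_of_lt (le_max_left _ _) hi
      exact (hPb i hi2).of_iso (P.truncGEXIso (a' + 1) i hi1)
  have hT : DRing.TermwiseFiniteProjective (P.truncGE (a' + 1)) := by
    intro i
    have := hproj i
    exact ⟨hfin i, ModuleCat.projective_of_module_projective _⟩
  have hN : Nonempty (DRing.toD (P.truncGE (a' + 1)) ≅ K) :=
    ⟨(asIso (Q.map (P.πTruncGE (a' + 1)))).symm ≪≫ e⟩
  exact ⟨P.truncGE (a' + 1), a' + 1, max b (a' + 1), hV, hT, hN⟩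

lemma isPC'_of_isPerfect (K : Dual.D R) (h : DRing.IsPerfect R K) : DRing.IsPseudoCoherent' R K := by
  obtain ⟨E, a, b, hE, hP, ⟨e⟩⟩ := h
  exact isPseudoCoherent'_of_forall K (fun m => isPC_of_iso e (isPC_of_bdd_finProj E a b hE hP m))

/-- retracts of perfect objects are perfect -/
lemma isPerfect_of_retract (X K : Dual.D R) (ι : K ⟶ X) (π : X ⟶ K) (hιπ : ι ≫ π = 𝟙 K)
    (hX : DRing.IsPerfect R X) (hK : DRing.IsPseudoCoherent' R K) : DRing.IsPerfect R K := by
  obtain ⟨E, a, b, hE, hP, ⟨e⟩⟩ := hX
  have h1 : ∃ P : DRing.Cx R, DRing.VanishesOutside P a b ∧ (∀ i : ℤ, Module.Projective R (P.X i)) ∧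
        Nonempty (DRing.toD P ≅ X) := ⟨E, hE, fun i => (hP i).2, ⟨e⟩⟩
  have h12 : ∀ (N : Type u) [AddCommGroup N] [Module R N] (i : ℤ), (i < -b ∨ -a < i) →
        Subsingleton (DRing.ExtD R X (Dual.inD R N) i) :=
    ((Groth.Agent.S6964.result R X a b).out 0 1).1 h1
  have hXge : X.IsGE a := by
    have hEge : E.IsStrictlyGE a := by
      rw [CochainComplex.isStrictlyGE_iff]
      exact fun i hi => hE i (Or.inl hi)
    have : (Q.obj E).IsGE a := inferInstance
    exact tt.isGE_of_iso e a
  refine core_fin K hK (a - 1) (fun n hn => ?_) (fun M _ _ => ?_)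
  · have hz := (DerivedCategory.isGE_iff X a).1 hXge n (by lia)
    rw [IsZero.iff_id_eq_zero, ← CategoryTheory.Functor.map_id, ← hιπ, Functor.map_comp,
      hz.eq_of_tgt ((homologyFunctor (ModuleCat.{u} R) n).map ι) 0, zero_comp]
  · have hs := h12 M (-(a - 1)) (Or.inr (by lia))
    refine ⟨fun f g => ?_⟩
    have hz : ∀ f : K ⟶ (shiftFunctor (Dual.D R) (-(a - 1))).obj (Dual.inD R M), f = 0 := by
      intro f
      have h0 : π ≫ f = 0 := hs.elim _ _
      calc f = (ι ≫ π) ≫ f := by rw [hιπ, Category.id_comp]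
        _ = 0 := by rw [Category.assoc, h0, comp_zero]
    rw [hz f, hz g]

/-- Let R be a commutative ring such that the derived tensor product - ⊗^L_R M exists on D(R) for every
R-module M, and let K, L be objects of D(R). If K ⊕ L is perfect, then K and L are perfect. -/
theorem result (R : Type u) [CommRing R] [∀ M : ModuleCat.{u} R, DRing.HasLTensor R M]
    (K L : Dual.D R) [HasBinaryBiproduct K L] (h : DRing.IsPerfect R (K ⊞ L)) :
    DRing.IsPerfect R K ∧ DRing.IsPerfect R L := by
  have hpc := isPC'_of_isPerfect _ h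
  have hall : ∀ m : ℤ, DRing.IsPseudoCoherent R m (K ⊞ L) := fun m =>
    Groth.Agent.S6938.isPC_of_pc' _ hpc m
  have hK : DRing.IsPseudoCoherent' R K :=
    isPseudoCoherent'_of_forall K (fun m => (isPC_of_biprod m K L (hall m)).1)
  have hL : DRing.IsPseudoCoherent' R L :=
    isPseudoCoherent'_of_forall L (fun m => (isPC_of_biprod m K L (hall m)).2)
  exact ⟨isPerfect_of_retract (K ⊞ L) K biprod.inl biprod.fst biprod.inl_fst h hK,
    isPerfect_of_retract (K ⊞ L) L biprod.inr biprod.snd biprod.inr_snd h hL⟩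

end Groth.Agent.S7019
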