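import Groth.Statements.S6960
import Mathlib
import Groth.Agent.Lib.Helper1TorJ
import Groth.Agent.S7019
-- import your own Groth.Agent.* helpers here

set_option autoImplicit false
universe u
open CategoryTheory CategoryTheory.Limits
attribute [local instance] HasDerivedCategory.standard
open DRing

namespace Groth.Agent.S6960

open Groth.Agent.Lib.Helper1.Tor Groth.Agent.Lib.Helper1.Extend DerivedCategory

/-- a perfect object has tor amplitude in some interval -/
lemma exists_torAmp {A : Type u} [CommRing A] (X : Dual.D A) (h : DRing.IsPerfect A X) :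
    ∃ a b : ℤ, DRing.HasTorAmplitudeIn A a b X := by
  obtain ⟨E, a, b, hE, hP, ⟨e⟩⟩ := h
  exact ⟨a, b, E, hE, fun i => by
    have := (hP i).2
    infer_instance, ⟨e⟩⟩

/-- Let R be a commutative ring, f_1, ..., f_r elements generating the unit ideal and K a cochain
complex of R-modules. If for every i the termwise localization K ⊗_R R_(f_i) is a perfect object of
D(R_(f_i)), then K is a perfect object of D(R). -/
theorem result {R : Type u} [CommRing R] {r : ℕ} (f : Fin r → R)
    (hf : Ideal.span (Set.range f) = ⊤) (K : DRing.Cx R)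
    (hK : ∀ i, DRing.IsPerfect (Localization.Away (f i))
      (DRing.toD (((ModuleCat.extendScalars (algebraMap R (Localization.Away (f i)))).mapHomologicalComplex
        (ComplexShape.up ℤ)).obj K))) :
    DRing.IsPerfect R (DRing.toD K) := by
  have hfam := descFam_away f hf
  have hK' : ∀ j, DRing.IsPerfect (Localization.Away (f j))
      ((extD R (Localization.Away (f j))).obj (Q.obj K)) := by
    intro j
    obtain ⟨E, a, b, hE, hP, ⟨e⟩⟩ := hK j
    exact ⟨E, a, b, hE, hP, ⟨e ≪≫ (mapQIso (ext R (Localization.Away (f j))) K).symm⟩⟩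
  have hpc : DRing.IsPseudoCoherent' R (Q.obj K) :=
    hfam.isPC' (Q.obj K) (fun j => Groth.Agent.S7019.isPC'_of_isPerfect _ (hK' j))
  choose a b hab using fun j => exists_torAmp _ (hK' j)
  -- common interval
  set a₀ : ℤ := -((Finset.univ.sup (fun j => (-(a j)).toNat) : ℕ) : ℤ) with ha₀
  set b₀ : ℤ := ((Finset.univ.sup (fun j => (b j).toNat) : ℕ) : ℤ) with hb₀
  have ha : ∀ j, a₀ ≤ a j := by
    intro j
    have h1 : (-(a j)).toNat ≤ Finset.univ.sup (fun j => (-(a j)).toNat) :=
      Finset.le_sup (f := fun j => (-(a j)).toNat) (Finset.mem_univ j)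
    have h2 : -(a j) ≤ ((-(a j)).toNat : ℤ) := Int.self_le_toNat _
    have h3 : ((-(a j)).toNat : ℤ) ≤ -a₀ := by
      rw [ha₀, neg_neg]
      exact_mod_cast h1
    lia
  have hb : ∀ j, b j ≤ b₀ := by
    intro j
    have h1 : (b j).toNat ≤ Finset.univ.sup (fun j => (b j).toNat) :=
      Finset.le_sup (f := fun j => (b j).toNat) (Finset.mem_univ j)
    have h2 : b j ≤ ((b j).toNat : ℤ) := Int.self_le_toNat _
    have h3 : ((b j).toNat : ℤ) ≤ b₀ := by
      rw [hb₀]
      exact_mod_cast h1
    lia
  have hTA : DRing.HasTorAmplitudeIn R a₀ b₀ (Q.obj K) :=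
    hfam.hasTorAmp (Q.obj K) a₀ b₀ (fun j => hasTorAmp_mono (ha j) (hb j) (hab j))
  obtain ⟨E₀, hE₀, hE₀p, hiso⟩ := exists_finiteProjective_of_pc_of_torAmp (Q.obj K) hpc a₀ b₀ hTA
  exact ⟨E₀, a₀, b₀, hE₀, hE₀p, hiso⟩

end Groth.Agent.S6960
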