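import Groth.Statements.S7010
import Mathlib
-- import your own Groth.Agent.* helpers here

set_option autoImplicit false
universe u
open CategoryTheory CategoryTheory.Limits
attribute [local instance] HasDerivedCategory.standard
open DRing

namespace Groth.Agent.S7010

open CategoryTheory.Pretriangulated

section general
universe v' u'
variable {C : Type u'} [Category.{v'} C] [Preadditive C] [HasZeroObject C] [HasShift C ℤ]
  [∀ n : ℤ, (shiftFunctor C n).Additive] [Pretriangulated C]
  (P : ObjectProperty C) [P.IsClosedUnderIsomorphisms]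
  (hext : ∀ T : Triangle C, T ∈ distTriang C → P T.obj₁ → P T.obj₃ → P T.obj₂)
  (hsum : ∀ (X Y : C) [HasBinaryBiproduct X Y], P (X ⊞ Y) → P X)

include hsum in
lemma prop_of_isZero {X Z : C} (hX : P X) (hZ : IsZero Z) : P Z := by
  refine hsum Z X (P.prop_of_iso ?_ hX)
  exact isoZeroBiprod hZ

include hext in
lemma prop_biprod {X Y : C} (hX : P X) (hY : P Y) : P (X ⊞ Y) :=
  hext _ (binaryBiproductTriangle_distinguished X Y) hX hY

include hsum in
lemma prop_of_retract {X Y : C} (i : X ⟶ Y) (r : Y ⟶ X) (h : i ≫ r = 𝟙 X) (hY : P Y) : P X := by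
  obtain ⟨Z, g, δ, hT⟩ := distinguished_cocone_triangle i
  have hδ : δ = 0 := by
    have h1 : δ ≫ i⟦(1 : ℤ)⟧' = 0 := comp_distTriang_mor_zero₃₁ _ hT
    have h2 : i⟦(1 : ℤ)⟧' ≫ r⟦(1 : ℤ)⟧' = 𝟙 _ := by
      rw [← Functor.map_comp, h, CategoryTheory.Functor.map_id]
    calc δ = δ ≫ i⟦(1 : ℤ)⟧' ≫ r⟦(1 : ℤ)⟧' := by rw [h2, Category.comp_id]
      _ = 0 := by rw [← Category.assoc, h1, zero_comp]
  obtain ⟨e, -, -⟩ := exists_iso_binaryBiproduct_of_distTriang _ hT hδ
  exact hsum X Z (P.prop_of_iso e hY)

end general

section modules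

open DerivedCategory

variable {R : Type u} [CommRing R]
  (P : ObjectProperty (Dual.D R)) [P.IsClosedUnderIsomorphisms] (hR : P (Dual.inD R R))
  (hshift : ∀ (K : Dual.D R) (n : ℤ), P K → P ((shiftFunctor (Dual.D R) n).obj K))
  (hext : ∀ T : Triangle (Dual.D R), T ∈ distinguishedTriangles → P T.obj₁ → P T.obj₃ → P T.obj₂)
  (hsum : ∀ (X Y : Dual.D R) [HasBinaryBiproduct X Y], P (X ⊞ Y) → P X)

include hR hext hsum in
lemma prop_single_free (k : ℕ) :
    P ((singleFunctor (ModuleCat.{u} R) 0).obj (ModuleCat.of R (Fin k → R))) := by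
  induction k with
  | zero =>
    refine prop_of_isZero P hsum hR ?_
    exact Functor.map_isZero _ (ModuleCat.isZero_of_subsingleton _)
  | succ k ih =>
    have e : ModuleCat.of R (Fin (k + 1) → R) ≅ ModuleCat.of R R ⊞ ModuleCat.of R (Fin k → R) :=
      (Fin.consLinearEquiv R (fun _ : Fin (k + 1) => R)).symm.toModuleIso ≪≫
        (ModuleCat.biprodIsoProd (ModuleCat.of R R) (ModuleCat.of R (Fin k → R))).symm
    have : PreservesBinaryBiproducts (singleFunctor (ModuleCat.{u} R) 0) :=
      preservesBinaryBiproducts_of_preservesBiproducts _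
    refine P.prop_of_iso ((singleFunctor (ModuleCat.{u} R) 0).mapIso e ≪≫
      (singleFunctor (ModuleCat.{u} R) 0).mapBiprod _ _).symm ?_
    exact prop_biprod P hext hR ih

include hR hext hsum in
lemma prop_single_zero (M : ModuleCat.{u} R) [Module.Finite R M] [Module.Projective R M] :
    P ((singleFunctor (ModuleCat.{u} R) 0).obj M) := by
  obtain ⟨n, f, g, -, -, hfg⟩ := Module.Finite.exists_comp_eq_id_of_projective R M
  refine prop_of_retract P hsum
    ((singleFunctor (ModuleCat.{u} R) 0).map (ModuleCat.ofHom g))
    ((singleFunctor (ModuleCat.{u} R) 0).map (ModuleCat.ofHom f)) ?_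
    (prop_single_free P hR hext hsum n)
  rw [← Functor.map_comp, ← ModuleCat.ofHom_comp, hfg]
  exact (singleFunctor (ModuleCat.{u} R) 0).map_id _

include hR hext hsum hshift in
lemma prop_single (M : ModuleCat.{u} R) [Module.Finite R M] [Module.Projective R M] (n : ℤ) :
    P ((singleFunctor (ModuleCat.{u} R) n).obj M) := by
  have h := hshift _ (-n) (prop_single_zero P hR hext hsum M)
  exact P.prop_of_iso (((DerivedCategory.singleFunctors (ModuleCat.{u} R)).shiftIso (-n) n 0
    (by lia)).app M) h

end modules

section complexes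

open DerivedCategory HomologicalComplex

variable {R : Type u} [CommRing R]

lemma finite_projective_of_iso {X Y : ModuleCat.{u} R} (e : X ≅ Y)
    (h : Module.Finite R X ∧ Module.Projective R X) : Module.Finite R Y ∧ Module.Projective R Y := by
  obtain ⟨h1, h2⟩ := h
  exact ⟨Module.Finite.equiv e.toLinearEquiv, Module.Projective.of_equiv e.toLinearEquiv⟩

lemma finite_projective_of_isZero {X : ModuleCat.{u} R} (h : IsZero X) :
    Module.Finite R X ∧ Module.Projective R X := by
  have : Subsingleton X := ModuleCat.subsingleton_of_isZero h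
  exact ⟨inferInstance, inferInstance⟩

/-- peeling off the top term of a bounded complex of finite projective modules -/
lemma exists_step (E : DRing.Cx R) (a b : ℤ) (hE : DRing.VanishesOutside E a b)
    (hfp : DRing.TermwiseFiniteProjective E) :
    ∃ (C : DRing.Cx R) (f : (singleFunctor (ModuleCat.{u} R) b).obj (E.X b) ⟶ Q.obj E)
      (g : Q.obj E ⟶ Q.obj C) (δ : Q.obj C ⟶ ((singleFunctor (ModuleCat.{u} R) b).obj (E.X b))⟦(1 : ℤ)⟧),
      Triangle.mk f g δ ∈ distTriang (Dual.D R) ∧ DRing.VanishesOutside C a (b - 1) ∧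
        DRing.TermwiseFiniteProjective C := by
  obtain ⟨ι, hι⟩ : ∃ ι : (single (ModuleCat.{u} R) (ComplexShape.up ℤ) b).obj (E.X b) ⟶ E,
      ι.f b = (singleObjXSelf (ComplexShape.up ℤ) b (E.X b)).hom :=
    ⟨mkHomFromSingle (𝟙 _) (fun k hk => by
      obtain rfl : b + 1 = k := hk
      exact (hE (b + 1) (Or.inr (by lia))).eq_of_tgt _ _), by
      rw [mkHomFromSingle_f, Category.comp_id]⟩
  have hmono : Mono ι := by
    apply HomologicalComplex.mono_of_mono_f
    intro i
    by_cases hi : i = b
    · subst hi
      rw [hι]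
      infer_instance
    · exact (isZero_single_obj_X (ComplexShape.up ℤ) b (E.X b) i hi).mono _
  let S : ShortComplex (CochainComplex (ModuleCat.{u} R) ℤ) :=
    ShortComplex.mk ι (cokernel.π ι) (cokernel.condition ι)
  have hS : S.ShortExact :=
    { exact := ShortComplex.exact_cokernel ι
      mono_f := hmono
      epi_g := inferInstanceAs (Epi (cokernel.π ι)) }
  have hSi : ∀ i : ℤ, (S.map (eval _ _ i)).ShortExact :=
    (HomologicalComplex.shortExact_iff_degreewise_shortExact S).1 hS
  have hiso : ∀ i : ℤ, i ≠ b → IsIso ((cokernel.π ι).f i) := fun i hi =>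
    (hSi i).isIso_g_iff.2 (isZero_single_obj_X (ComplexShape.up ℤ) b (E.X b) i hi)
  have hzero : IsZero ((cokernel ι).X b) :=
    (hSi b).isIso_f_iff.1 (by
      show IsIso (ι.f b)
      rw [hι]
      infer_instance)
  refine ⟨cokernel ι, Q.map ι, Q.map (cokernel.π ι), triangleOfSESδ hS,
    triangleOfSES_distinguished hS, ?_, ?_⟩
  · intro i hi
    by_cases hib : i = b
    · subst hib
      exact hzero
    · have := hiso i hib
      exact (hE i (by lia)).of_iso (asIso ((cokernel.π ι).f i)).symm
  · intro i
    by_cases hib : i = b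
    · subst hib
      exact finite_projective_of_isZero hzero
    · have := hiso i hib
      exact finite_projective_of_iso (asIso ((cokernel.π ι).f i)) (hfp i)

end complexes

open CategoryTheory.Pretriangulated in
/-- The inclusion of the perfect objects in the subcategory generated by R: let R be a commutative ring
and P a property of objects of D(R) which is closed under isomorphisms, holds for R[0], is stable
under all shifts, is closed under extensions (if it holds for the outer terms of a distinguished
triangle it holds for the middle term) and is closed under taking direct summands. Then P holds for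
every perfect object of D(R). -/
theorem result (R : Type u) [CommRing R]
    (P : ObjectProperty (Dual.D R)) [P.IsClosedUnderIsomorphisms] (hR : P (Dual.inD R R))
    (hshift : ∀ (K : Dual.D R) (n : ℤ), P K → P ((shiftFunctor (Dual.D R) n).obj K))
    (hext : ∀ T : Triangle (Dual.D R), T ∈ distinguishedTriangles → P T.obj₁ → P T.obj₃ → P T.obj₂)
    (hsum : ∀ (X Y : Dual.D R) [HasBinaryBiproduct X Y], P (X ⊞ Y) → P X)
    (K : Dual.D R) (hK : DRing.IsPerfect R K) : P K := by
  obtain ⟨E, a, b, hE, hfp, ⟨e⟩⟩ := hK
  refine P.prop_of_iso e ?_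
  have key : ∀ (n : ℕ) (E : DRing.Cx R) (a b : ℤ), b < a + n → DRing.VanishesOutside E a b →
      DRing.TermwiseFiniteProjective E → P (DRing.toD E) := by
    intro n
    induction n with
    | zero =>
      intro E a b hab hE _
      refine prop_of_isZero P hsum hR ?_
      have hEz : IsZero E := by
        rw [IsZero.iff_id_eq_zero]
        ext i : 1
        exact (hE i (by lia)).eq_of_src _ _
      exact Functor.map_isZero DerivedCategory.Q hEz
    | succ n ih =>
      intro E a b hab hE hfp
      obtain ⟨C, f, g, δ, hT, hC, hCfp⟩ := exists_step E a b hE hfp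
      have h1 : P ((DerivedCategory.singleFunctor (ModuleCat.{u} R) b).obj (E.X b)) := by
        have := (hfp b).1
        have := (hfp b).2
        exact prop_single P hR hshift hext hsum (E.X b) b
      have h3 : P (DerivedCategory.Q.obj C) := ih C a (b - 1) (by push_cast at hab; lia) hC hCfp
      exact hext _ hT h1 h3
  exact key (b - a + 1).toNat E a b (by lia) hE hfp

end Groth.Agent.S7010
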