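import Groth.Statements.S7030
import Mathlib
import Groth.Agent.S7028
import Groth.Agent.S7010
import Groth.Agent.Lib.Helper1Devissage
-- import your own Groth.Agent.* helpers here

set_option autoImplicit false
universe u
open CategoryTheory CategoryTheory.Limits
attribute [local instance] HasDerivedCategory.standard
open DRing

namespace Groth.Agent.S7030

open DerivedCategory Pretriangulated
open Groth.Agent.Lib.Helper1.Cone Groth.Agent.Lib.Helper1.Devissage

variable {R : Type u} [CommRing R]

lemma isPerfect_of_iso {K K' : Dual.D R} (e : K ≅ K') (h : DRing.IsPerfect R K) :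
    DRing.IsPerfect R K' := by
  rw [Groth.Agent.S7028.isPerfect_iff] at h ⊢
  exact h.of_iso e

lemma isPerfect_shift {K : Dual.D R} (h : DRing.IsPerfect R K) (n : ℤ) :
    DRing.IsPerfect R ((shiftFunctor (Dual.D R) n).obj K) := by
  rw [Groth.Agent.S7028.isPerfect_iff] at h ⊢
  exact h.shift n

lemma isPerfect_of_isZero {K : Dual.D R} (h : IsZero K) : DRing.IsPerfect R K := by
  refine ⟨HomologicalComplex.zero, 0, 0, fun i _ => ?_, fun i => ?_, ⟨(Q.map_isZero HomologicalComplex.isZero_zero).iso h⟩⟩
  · exact Limits.isZero_zero _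
  · exact Groth.Agent.S7010.finite_projective_of_isZero (Limits.isZero_zero _)

lemma isPerfect_ext (T : Triangle (Dual.D R)) (hT : T ∈ distTriang (Dual.D R))
    (h1 : DRing.IsPerfect R T.obj₁) (h3 : DRing.IsPerfect R T.obj₃) : DRing.IsPerfect R T.obj₂ := by
  rw [Groth.Agent.S7028.isPerfect_iff] at h1 h3 ⊢
  exact (Rep.two_out_of_three (fun X h => h.2) Groth.Agent.S7028.FP_iso Groth.Agent.S7028.FP_sum T hT).2.1 h1 h3

lemma isPerfect_single (M : ModuleCat.{u} R)
    (h : DRing.IsPerfect R ((DerivedCategory.singleFunctor (ModuleCat.{u} R) 0).obj M)) (j : ℤ) :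
    DRing.IsPerfect R ((DerivedCategory.singleFunctor (ModuleCat.{u} R) j).obj M) :=
  isPerfect_of_iso (((DerivedCategory.singleFunctors (ModuleCat.{u} R)).shiftIso (-j) j 0 (by lia)).app M)
    (isPerfect_shift h (-j))

/-- the property "perfect" as an `ObjectProperty` -/
def perf (R : Type u) [CommRing R] : ObjectProperty (Dual.D R) := fun K => DRing.IsPerfect R K

instance : (perf R).IsClosedUnderIsomorphisms := ⟨fun e h => isPerfect_of_iso e h⟩

/-- Let R be a commutative ring such that the derived tensor product - ⊗^L_R M exists on D(R) for every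
R-module M, and let K be an object of D(R) whose cohomology vanishes outside a bounded range of
degrees and whose cohomology modules H^i(K) are all perfect R-modules. Then K is a perfect object of
D(R). -/
theorem result (R : Type u) [CommRing R] [∀ M : ModuleCat.{u} R, DRing.HasLTensor R M] (K : Dual.D R)
    (hb : ∃ a b : ℤ, ∀ i : ℤ, (i < a ∨ b < i) → Subsingleton (Dual.HD R K i))
    (hK : ∀ i : ℤ, DRing.IsPerfectModule R (Dual.HD R K i)) : DRing.IsPerfect R K := by
  obtain ⟨a, b, hab⟩ := hb
  apply induction_homology' (perf R) (fun K hK => isPerfect_of_isZero hK)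
    (fun T hT h1 h3 => isPerfect_ext T hT h1 h3) K a b
  · intro i hi
    have := hab i hi
    exact ModuleCat.isZero_of_subsingleton _
  · intro j _ _
    exact isPerfect_single _ (hK j) j

end Groth.Agent.S7030
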