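import Groth.Statements.S5165
import Mathlib
import Groth.Agent.Lib.Helper21PdLoc
import Groth.Agent.S2677
import Groth.Agent.S0563

set_option autoImplicit false
universe u
open CategoryTheory
open LocCoh

namespace Groth.Agent.S5165

open CategoryTheory Groth.Agent.Lib.Helper21.PdLoc

theorem exists_dim (R : Type u) [CommRing R] [IsNoetherianRing R] [IsLocalRing R] :
    ∃ d : ℕ, ringKrullDim R = d := by
  have hne : ringKrullDim R ≠ ⊤ := ringKrullDim_ne_top
  have hbot : ringKrullDim R ≠ ⊥ := ringKrullDim_ne_bot
  obtain ⟨e, he⟩ := WithBot.ne_bot_iff_exists.mp hbot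
  have hetop : e ≠ ⊤ := by
    rintro rfl
    exact hne he.symm
  obtain ⟨d, rfl⟩ := ENat.ne_top_iff_exists.mp hetop
  exact ⟨d, he.symm⟩

/-- Suppose A is a regular Noetherian ring and consider a finitely generated A-module M. Then some
natural number d bounds the projective dimension of M (equivalently, p ↦ proj.dim M_p stays bounded
as p ranges over Spec A, and this holds even if the Krull dimension of A is infinite). -/
theorem result (A : Type u) [CommRing A] [IsRegularRing A] (M : Type u) [AddCommGroup M] [Module A M] [Module.Finite A M] : ∃ d : ℕ, HasProjectiveDimensionLE (ModuleCat.of A M) d := by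
  have hNoeth : IsNoetherianRing A := inferInstance
  let U : ℕ → Set (PrimeSpectrum A) := fun n => {p : PrimeSpectrum A |
      projectiveDimension (ModuleCat.of (Localization.AtPrime p.asIdeal)
        (LocalizedModule p.asIdeal.primeCompl M)) ≤ n}
  have hopen : ∀ n, IsOpen (U n) := fun n => Groth.Agent.S2677.result A M n
  have hcover : (Set.univ : Set (PrimeSpectrum A)) ⊆ ⋃ n, U n := by
    intro p _
    obtain ⟨d, hd⟩ := exists_dim (Localization.AtPrime p.asIdeal)
    refine Set.mem_iUnion.mpr ⟨d, ?_⟩
    show projectiveDimension _ ≤ _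
    rw [projectiveDimension_le_iff]
    exact Groth.Agent.S0563.result (Localization.AtPrime p.asIdeal) d hd
      (LocalizedModule p.asIdeal.primeCompl M)
  obtain ⟨t, ht⟩ := isCompact_univ.elim_finite_subcover U hopen hcover
  refine ⟨t.sup id, ?_⟩
  obtain ⟨K, _, _, _, h1, h2⟩ := exists_syzygy (A := A) (t.sup id) M
  have : Module.FinitePresentation A K := Module.finitePresentation_of_finite A K
  show HasProjectiveDimensionLT _ _
  rw [h1, ← Module.freeLocus_eq_univ_iff, Set.eq_univ_iff_forall]
  intro p
  rw [← projective_atPrime_iff_mem_freeLocus, ← h2 p.asIdeal.primeCompl]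
  have hp := ht (Set.mem_univ p)
  simp only [Set.mem_iUnion] at hp
  obtain ⟨i, hi, hpi⟩ := hp
  have hpi' : projectiveDimension (ModuleCat.of (Localization.AtPrime p.asIdeal)
        (LocalizedModule p.asIdeal.primeCompl M)) ≤ i := hpi
  rw [projectiveDimension_le_iff] at hpi'
  have hle : i ≤ t.sup id := Finset.le_sup (f := id) hi
  exact hasProjectiveDimensionLT_of_ge _ (i + 1) _ (by omega)

end Groth.Agent.S5165
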