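import Groth.Statements.S6962
import Mathlib
import Groth.Agent.S7030
import Groth.Agent.S5165
-- import your own Groth.Agent.* helpers here

set_option autoImplicit false
universe u
open CategoryTheory CategoryTheory.Limits
attribute [local instance] HasDerivedCategory.standard
open DRing

namespace Groth.Agent.S6962

open DerivedCategory Pretriangulated HomologicalComplex
open Groth.Agent.Lib.Helper1.Cone Groth.Agent.S7030

variable {R : Type u} [CommRing R]

/-- over a Noetherian ring, a perfect object has finite cohomology modules, vanishing outside a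
bounded range -/
lemma finite_homology_of_isPerfect [IsNoetherianRing R] (K : Dual.D R)
    (hK : DRing.IsPerfect R K) :
    (∃ a b : ℤ, ∀ i : ℤ, (i < a ∨ b < i) → Subsingleton (Dual.HD R K i)) ∧
      ∀ i : ℤ, Module.Finite R (Dual.HD R K i) := by
  obtain ⟨E, a, b, hE, hfp, ⟨e⟩⟩ := hK
  have eH : ∀ i : ℤ, (homologyFunctor (ModuleCat.{u} R) i).obj K ≅ E.homology i := fun i =>
    (homologyFunctor (ModuleCat.{u} R) i).mapIso e.symm ≪≫
      (homologyFunctorFactors (ModuleCat.{u} R) i).app E
  refine ⟨⟨a, b, fun i hi => ?_⟩, fun i => ?_⟩
  · have hz : IsZero (E.homology i) := ShortComplex.isZero_homology_of_isZero_X₂ _ (hE i hi)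
    exact ModuleCat.subsingleton_of_isZero (hz.of_iso (eH i))
  · have h1 : Module.Finite R (E.X i) := (hfp i).1
    have hN : IsNoetherian R (E.X i) := isNoetherian_of_isNoetherianRing_of_finite R _
    have h2 : Module.Finite R (E.cycles i) :=
      Module.Finite.of_injective (E.iCycles i).hom ((ModuleCat.mono_iff_injective _).1 inferInstance)
    have h3 : Module.Finite R (E.homology i) :=
      Module.Finite.of_surjective (E.homologyπ i).hom ((ModuleCat.epi_iff_surjective _).1 inferInstance)
    exact Module.Finite.equiv (eH i).symm.toLinearEquiv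

lemma isPerfect_cone (T : Triangle (Dual.D R)) (hT : T ∈ distTriang (Dual.D R))
    (h1 : DRing.IsPerfect R T.obj₁) (h2 : DRing.IsPerfect R T.obj₂) : DRing.IsPerfect R T.obj₃ := by
  rw [Groth.Agent.S7028.isPerfect_iff] at h1 h2 ⊢
  exact (Rep.two_out_of_three (fun X h => h.2) Groth.Agent.S7028.FP_iso Groth.Agent.S7028.FP_sum T hT).1 h1 h2

lemma isPerfect_of_projective_finite (M : ModuleCat.{u} R) (hf : Module.Finite R M)
    (hp : Module.Projective R M) :
    DRing.IsPerfect R ((DerivedCategory.singleFunctor (ModuleCat.{u} R) 0).obj M) := by
  refine ⟨(single (ModuleCat.{u} R) (ComplexShape.up ℤ) 0).obj M, 0, 0,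
    fun i hi => isZero_single_obj_X (ComplexShape.up ℤ) 0 M i (by omega), fun i => ?_, ⟨Iso.refl _⟩⟩
  by_cases hi : i = 0
  · subst hi
    exact Groth.Agent.S7010.finite_projective_of_iso (singleObjXSelf (ComplexShape.up ℤ) 0 M).symm ⟨hf, hp⟩
  · exact Groth.Agent.S7010.finite_projective_of_isZero (isZero_single_obj_X (ComplexShape.up ℤ) 0 M i hi)

/-- over a Noetherian ring a finite module of finite projective dimension is perfect -/
lemma isPerfect_of_pd [IsNoetherianRing R] (d : ℕ) : ∀ (M : ModuleCat.{u} R), Module.Finite R M →
    HasProjectiveDimensionLT M (d + 1) →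
    DRing.IsPerfect R ((DerivedCategory.singleFunctor (ModuleCat.{u} R) 0).obj M) := by
  induction d with
  | zero =>
    intro M hf h
    have hP : Projective M := projective_iff_hasProjectiveDimensionLT_one.2 h
    exact isPerfect_of_projective_finite M hf inferInstance
  | succ d ih =>
    intro M hf h
    rcases Module.exists_finite_presentation R M with ⟨P, _, _, _, _, f, surjf⟩
    have S_exact := LinearMap.shortExact_shortComplexKer surjf
    have proj : Projective f.shortComplexKer.X₂ :=
      ModuleCat.projective_of_categoryTheory_projective f.shortComplexKer.X₂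
    have hK : HasProjectiveDimensionLT f.shortComplexKer.X₁ (d + 1) :=
      (S_exact.hasProjectiveDimensionLT_X₃_iff d proj).1 h
    have hN : IsNoetherian R P := isNoetherian_of_isNoetherianRing_of_finite R _
    have hfin : Module.Finite R f.shortComplexKer.X₁ :=
      inferInstanceAs (Module.Finite R (LinearMap.ker f))
    have p1 := ih f.shortComplexKer.X₁ hfin hK
    have p2 : DRing.IsPerfect R ((DerivedCategory.singleFunctor (ModuleCat.{u} R) 0).obj
        f.shortComplexKer.X₂) :=
      isPerfect_of_projective_finite _ (inferInstanceAs (Module.Finite R P))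
        (inferInstanceAs (Module.Projective R P))
    exact isPerfect_cone _ S_exact.singleTriangle_distinguished p1 p2

/-- Let R be a regular commutative ring, i.e. R is Noetherian and its localization at every prime ideal
is a regular local ring. Then an R-module M is perfect (M[0] is isomorphic in D(R) to a bounded
complex of finite projective modules) if and only if M is finitely generated. -/
theorem result (R : Type u) [CommRing R] [IsNoetherianRing R]
    (hreg : ∀ p : PrimeSpectrum R, IsRegularLocalRing (Localization.AtPrime p.asIdeal))
    (M : Type u) [AddCommGroup M] [Module R M] :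
    DRing.IsPerfectModule R M ↔ Module.Finite R M := by
  constructor
  · intro h
    have h0 := (finite_homology_of_isPerfect _ h).2 0
    let e : (homologyFunctor (ModuleCat.{u} R) 0).obj
        ((DerivedCategory.singleFunctor (ModuleCat.{u} R) 0).obj (ModuleCat.of R M)) ≅ ModuleCat.of R M :=
      (singleFunctorCompHomologyFunctorIso (ModuleCat.{u} R) 0).app (ModuleCat.of R M)
    exact Module.Finite.equiv e.toLinearEquiv
  · intro hf
    have : IsRegularRing R := isRegularRing_iff.2 (fun p hp => hreg ⟨p, hp⟩)
    obtain ⟨d, hd⟩ := Groth.Agent.S5165.result R M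
    exact isPerfect_of_pd d (ModuleCat.of R M) hf hd

end Groth.Agent.S6962
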