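import Groth.Statements.S7000
import Mathlib
import Groth.Agent.Lib.Helper1Extend
-- import your own Groth.Agent.* helpers here

set_option autoImplicit false
universe u
open CategoryTheory CategoryTheory.Limits
attribute [local instance] HasDerivedCategory.standard
open DRing

namespace Groth.Agent.S7000

open Groth.Agent.Lib.Helper1.PC Groth.Agent.Lib.Helper1.Extend

/-- Let A → B be a flat homomorphism of commutative rings, m an integer and M an A-module. If M is
m-pseudo-coherent then the B-module B ⊗_A M is m-pseudo-coherent; if M is pseudo-coherent then B ⊗_A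
M is pseudo-coherent. -/
theorem result {A B : Type u} [CommRing A] [CommRing B] [Algebra A B]
    [Module.Flat A B] (m : ℤ) (M : Type u) [AddCommGroup M] [Module A M] :
    (DRing.IsPseudoCoherentModule A m M → DRing.IsPseudoCoherentModule B m (TensorProduct A B M)) ∧
      (DRing.IsPseudoCoherentModule' A M → DRing.IsPseudoCoherentModule' B (TensorProduct A B M)) := by
  refine ⟨fun h => ?_, fun h => ?_⟩
  · exact isPC_of_iso (extDInDIso (A := A) (B := B) M) (isPC_extD _ m h)
  · obtain ⟨E, b, hE, hff, ⟨e⟩⟩ := isPC'_extD (B := B) _ h
    exact ⟨E, b, hE, hff, ⟨e ≪≫ extDInDIso (A := A) (B := B) M⟩⟩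

end Groth.Agent.S7000
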