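import Groth.Statements.S14271
import Mathlib

set_option autoImplicit false
universe u
open FlatPur

namespace Groth.Agent.S14271

open AlgebraicGeometry CategoryTheory CategoryTheory.Limits

/-- the annihilator of an element -/
abbrev annOf {A : Type*} [CommRing A] (t : A) : Ideal A :=
  LinearMap.ker (LinearMap.toSpanSingleton A A t)

theorem mem_annOf {A : Type*} [CommRing A] (t x : A) : x ∈ annOf t ↔ x * t = 0 := by
  rw [LinearMap.mem_ker, LinearMap.toSpanSingleton_apply, smul_eq_mul]

theorem algebraMap_eq_zero_of_regular {A S : Type*} [CommRing A] [CommRing S] [Algebra A S] (t : A)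
    (p : Ideal A) [p.IsPrime] [IsLocalization.AtPrime S p] [IsLocalRing S]
    (hp : p ∈ (annOf t).minimalPrimes)
    (a : S) (ha : a ∈ IsLocalRing.maximalIdeal S) (hreg : IsSMulRegular S a) :
    algebraMap A S t = 0 := by
  set J := Ideal.map (algebraMap A S) (annOf t) with hJ
  have hJt : ∀ y ∈ J, y * algebraMap A S t = 0 := by
    intro y hy
    have h1 : J ≤ annOf (algebraMap A S t) := by
      rw [hJ, Ideal.map_le_iff_le_comap]
      intro x hx
      rw [Ideal.mem_comap, mem_annOf, ← map_mul, (mem_annOf t x).1 hx, map_zero]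
    exact (mem_annOf _ _).1 (h1 hy)
  have hrad : a ∈ J.radical := by
    rw [Ideal.radical_eq_sInf, Ideal.mem_sInf]
    rintro q ⟨hJq, hq⟩
    have h1 : annOf t ≤ q.comap (algebraMap A S) := Ideal.map_le_iff_le_comap.mp hJq
    have h2 : q.comap (algebraMap A S) ≤ p := by
      have := IsLocalization.AtPrime.comap_maximalIdeal S p
      rw [← this]
      exact Ideal.comap_mono (IsLocalRing.le_maximalIdeal hq.ne_top)
    have hqc : (q.comap (algebraMap A S)).IsPrime := Ideal.comap_isPrime _ _
    have h3 : q.comap (algebraMap A S) = p := le_antisymm h2 (hp.2 ⟨hqc, h1⟩ h2)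
    have h4 : q = IsLocalRing.maximalIdeal S := by
      rw [← IsLocalization.map_comap p.primeCompl S q]
      change Ideal.map (algebraMap A S) (q.comap (algebraMap A S)) = _
      rw [h3, IsLocalization.AtPrime.map_eq_maximalIdeal]
    rw [h4]
    exact ha
  obtain ⟨k, hk⟩ := hrad
  have h5 := hJt _ hk
  exact (hreg.pow k).right_eq_zero_of_smul h5

theorem eq_zero_of_forall_algebraMap {A : Type*} [CommRing A] (t : A)
    (H : ∀ (p : Ideal A) (hp : p.IsPrime), p ∈ (annOf t).minimalPrimes →
      ∃ (S : Type u) (_ : CommRing S) (_ : Algebra A S) (_ : IsLocalization.AtPrime S p),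
        algebraMap A S t = 0) : t = 0 := by
  by_contra hne
  have hI : annOf t ≠ ⊤ := by
    intro h
    have : (1 : A) ∈ annOf t := h ▸ Submodule.mem_top
    rw [mem_annOf, one_mul] at this
    exact hne this
  obtain ⟨m, hm, hIm⟩ := Ideal.exists_le_maximal _ hI
  obtain ⟨p, hp, -⟩ := Ideal.exists_minimalPrimes_le (J := m) hIm
  have hpp : p.IsPrime := hp.1.1
  obtain ⟨S, _, _, hS, h0⟩ := H p hpp hp
  obtain ⟨s, hs⟩ := (IsLocalization.map_eq_zero_iff p.primeCompl S t).1 h0
  have : (s : A) ∈ annOf t := (mem_annOf _ _).2 hs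
  exact s.2 (hp.1.2 this)

theorem isSchemeTheoreticallyDominant_of_regular (X : Scheme.{u}) (U : X.Opens) [QuasiCompact U.ι]
    (hZ : ∀ z : X, z ∉ U → ∃ a ∈ IsLocalRing.maximalIdeal (X.presheaf.stalk z),
      IsSMulRegular (X.presheaf.stalk z) a) : IsSchemeTheoreticallyDominant U.ι := by
  rw [isSchemeTheoreticallyDominant_iff]
  apply Scheme.IdealSheafData.ext
  funext V
  rw [Scheme.Hom.ker_apply, Scheme.IdealSheafData.ideal_bot]
  change RingHom.ker (U.ι.app V.1).hom = ⊥
  rw [← RingHom.injective_iff_ker_eq_bot, injective_iff_map_eq_zero]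
  intro t ht
  apply eq_zero_of_forall_algebraMap t
  intro p hpp hp
  let y : PrimeSpectrum Γ(X, V.1) := ⟨p, hpp⟩
  have hy : V.2.fromSpec y ∈ V.1 := (V.2.isoSpec.inv _).2
  letI := TopCat.Presheaf.algebra_section_stalk X.presheaf ⟨V.2.fromSpec y, hy⟩
  have hloc : IsLocalization.AtPrime (X.presheaf.stalk (V.2.fromSpec y)) p :=
    V.2.isLocalization_stalk' y hy
  refine ⟨X.presheaf.stalk (V.2.fromSpec y), inferInstance, inferInstance, hloc, ?_⟩
  by_cases hzU : V.2.fromSpec y ∈ U
  · -- the germ vanishes since `t` restricts to zero on `U`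
    have h1 := Scheme.Hom.germ_stalkMap_apply U.ι V.1 (⟨V.2.fromSpec y, hzU⟩ : U) hy t
    rw [ht, map_zero] at h1
    have hiso : IsIso (U.ι.stalkMap (⟨V.2.fromSpec y, hzU⟩ : U)) := inferInstance
    have hinj : Function.Injective (U.ι.stalkMap (⟨V.2.fromSpec y, hzU⟩ : U)).hom :=
      ((ConcreteCategory.isIso_iff_bijective _).1 hiso).1
    exact hinj (h1.trans (map_zero _).symm)
  · obtain ⟨a, ha, hreg⟩ := hZ _ hzU
    exact algebraMap_eq_zero_of_regular t p hp a ha hreg

open AlgebraicGeometry CategoryTheory CategoryTheory.Limits in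
/-- Let X be a scheme and U an open subscheme whose inclusion is quasi-compact, such that for every
point z of X outside U the maximal ideal of O_{X,z} contains an element that is regular (a
nonzerodivisor) on that local ring. Then for every separated X-scheme Y the restriction map from
X-sections of Y to U-sections of Y is injective: two sections of Y -> X that agree on U are equal. -/
theorem result (X : Scheme.{u}) (U : X.Opens) [QuasiCompact U.ι]
    (hZ : ∀ z : X, z ∉ U → ∃ a ∈ IsLocalRing.maximalIdeal (X.presheaf.stalk z), IsSMulRegular (X.presheaf.stalk z) a)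
    (Y : Scheme.{u}) (f : Y ⟶ X) [IsSeparated f] (s₁ s₂ : X ⟶ Y) (h₁ : s₁ ≫ f = 𝟙 X) (h₂ : s₂ ≫ f = 𝟙 X)
    (hU : U.ι ≫ s₁ = U.ι ≫ s₂) : s₁ = s₂ := by
  haveI := isSchemeTheoreticallyDominant_of_regular X U hZ
  let X' : Over X := Over.mk (𝟙 X)
  let Y' : Over X := Over.mk f
  let f' : X' ⟶ Y' := Over.homMk s₁ h₁
  let g' : X' ⟶ Y' := Over.homMk s₂ h₂
  let U' : Over X := Over.mk U.ι
  let ι' : U' ⟶ X' := Over.homMk U.ι (by simp [X', U'])
  have : IsSeparated Y'.hom := ‹_›
  have hE : IsClosedImmersion (equalizer.ι f' g').left := inferInstance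
  have hfac : (equalizer.lift ι' (by ext1; exact hU : ι' ≫ f' = ι' ≫ g')).left ≫
      (equalizer.ι f' g').left = U.ι := by
    rw [← Over.comp_left, equalizer.lift_ι]
    rfl
  have hker : (equalizer.ι f' g').left.ker = ⊥ := by
    have h1 := Scheme.Hom.le_ker_comp
      (equalizer.lift ι' (by ext1; exact hU : ι' ≫ f' = ι' ≫ g')).left (equalizer.ι f' g').left
    rw [hfac, U.ι.ker_eq_bot] at h1
    exact le_bot_iff.1 h1
  have hiso : IsIso (equalizer.ι f' g').left := IsClosedImmersion.isIso_iff_ker_eq_bot.2 hker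
  rw [← cancel_epi (equalizer.ι f' g').left]
  exact congr($(equalizer.condition f' g').left)

end Groth.Agent.S14271
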