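import Groth.Statements.S8255
import Mathlib


set_option autoImplicit false
universe u
open CategoryTheory CategoryTheory.Limits AlgebraicGeometry Opposite TopologicalSpace
open EGA2

namespace Groth.Agent.S8255

/-- Let S be a scheme and A a quasi-coherent O_S-algebra, and let π : Spec(A) → S be its relative
spectrum (glued from the affine schemes Spec A(U), U an affine open of S). Then the canonical
comparison map π_* O_{Spec(A)} → A (which over an affine open U is restriction to the chart Spec
A(U) followed by Γ(Spec R) = R) is an isomorphism; in other words the direct-image algebra of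
Spec(A) is A. -/
theorem result {S : Scheme.{u}} (A : RelSpec.QCAlg S) : IsIso A.gammaMap := by
  classical
  -- appLE of an open immersion onto its range is an iso
  have key : ∀ {X Y : Scheme.{u}} (f : X ⟶ Y) [IsOpenImmersion f] (W : Y.Opens)
      (hW : W = f ''ᵁ ⊤) (e : ⊤ ≤ f ⁻¹ᵁ W), IsIso (f.appLE W ⊤ e) := by
    intro X Y f _ W hW e
    subst hW
    have h := f.appIso_hom' ⊤
    have h2 : f.appLE (f ''ᵁ ⊤) ⊤ e = (f.appIso ⊤).hom := h.symm
    rw [h2]
    infer_instance
  have hAff : ∀ (U : S.Opens) (hU : IsAffineOpen U), IsIso (A.gammaAff U hU) := by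
    intro U hU
    have h1 : IsIso ((A.ι U hU).appLE (A.π ⁻¹ᵁ U) ⊤ (A.top_le_preimage U hU)) := by
      apply key
      rw [A.π_preimage U hU, Scheme.Hom.image_top_eq_opensRange]
    unfold RelSpec.QCAlg.gammaAff
    infer_instance
  let F : TopCat.Sheaf CommRingCat.{u} S.carrier :=
    ⟨A.π.base _* A.spec.presheaf, TopCat.Sheaf.pushforward_sheaf_of_sheaf _ A.spec.sheaf.property⟩
  let F' : TopCat.Sheaf CommRingCat.{u} S.carrier := ⟨A.presheaf, A.isSheaf⟩
  let α : F ⟶ F' := ⟨A.gammaMap⟩
  have hα : IsIso α := by
    apply Functor.IsCoverDense.iso_of_restrict_iso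
      (G := Scheme.AffineZariskiSite.toOpensFunctor S) (K := Opens.grothendieckTopology S)
    change IsIso ((Scheme.AffineZariskiSite.toOpensFunctor S).op.whiskerLeft A.gammaMap)
    rw [A.gammaMap_restrict]
    have : ∀ U, IsIso (A.gammaRestrict.app U) := fun U => hAff U.unop.1 U.unop.2
    exact NatIso.isIso_of_isIso_app _
  have h3 : IsIso ((sheafToPresheaf _ _).map α) := Functor.map_isIso _ α
  exact h3

end Groth.Agent.S8255
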