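import Groth.Statements.S0301
import Mathlib

set_option autoImplicit false
universe u v
open InjHull

namespace Groth.Agent.S0301

section Helpers

lemma baer_aux {R : Type u} [CommRing R] [IsNoetherianRing R] {I : Type u} [AddCommGroup I] [Module R I]
    (hI : Module.Injective R I) (J : Ideal R) (Γ : Submodule R I)
    (hmono : Monotone (fun n : ℕ => Submodule.torsionBySet R I ((J ^ n : Ideal R) : Set R)))
    (hmemΓ : ∀ y : I, y ∈ Γ ↔
      ∃ n : ℕ, y ∈ Submodule.torsionBySet R I ((J ^ n : Ideal R) : Set R)) :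
    Module.Baer R Γ := by
  classical
  intro a φ
  -- step 1: a uniform exponent
  haveI : Module.Finite R a := Module.IsNoetherian.finite R a
  obtain ⟨T, hT⟩ := (Module.Finite.fg_top : (⊤ : Submodule R a).FG)
  have hex : ∀ x : a, ∃ n : ℕ, (φ x : I) ∈ Submodule.torsionBySet R I ((J ^ n : Ideal R) : Set R) :=
    fun x => (hmemΓ _).1 (φ x).2
  choose nn hnn using hex
  let N : ℕ := T.sup nn
  have hN : ∀ x : a, (φ x : I) ∈ Submodule.torsionBySet R I ((J ^ N : Ideal R) : Set R) := by
    intro x
    have hle : Submodule.span R (T : Set a) ≤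
        Submodule.comap (Γ.subtype ∘ₗ φ)
          (Submodule.torsionBySet R I ((J ^ N : Ideal R) : Set R)) := by
      rw [Submodule.span_le]
      intro y hy
      exact hmono (Finset.le_sup (f := nn) hy) (hnn y)
    have hx : x ∈ Submodule.span R (T : Set a) := by rw [hT]; trivial
    exact hle hx
  -- step 2: Artin–Rees
  obtain ⟨k, hk⟩ := Ideal.exists_pow_inf_eq_pow_smul J (a : Submodule R R)
  let φ' : a →ₗ[R] I := Γ.subtype ∘ₗ φ
  have hkill : ∀ (x : R) (hx : x ∈ a), x ∈ J ^ (N + k) → φ' ⟨x, hx⟩ = 0 := by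
    intro x hx hxJ
    have h1 : x ∈ J ^ (N + k) • (⊤ : Submodule R R) ⊓ a := by
      refine ⟨?_, hx⟩
      rw [smul_eq_mul, Ideal.mul_top]
      exact hxJ
    rw [hk (N + k) (Nat.le_add_left k N), Nat.add_sub_cancel] at h1
    have h2 : J ^ N • (J ^ k • (⊤ : Submodule R R) ⊓ a) ≤
        Submodule.map a.subtype (LinearMap.ker φ') := by
      rw [Submodule.smul_le]
      intro r hr y hy
      have hy2 : y ∈ a := (Submodule.mem_inf.1 hy).2
      refine ⟨r • ⟨y, hy2⟩, ?_, rfl⟩
      show φ' (r • ⟨y, hy2⟩) = 0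
      rw [map_smul]
      have := hN ⟨y, hy2⟩
      rw [Submodule.mem_torsionBySet_iff] at this
      exact this ⟨r, hr⟩
    obtain ⟨z, hz, hzx⟩ := h2 h1
    have : z = ⟨x, hx⟩ := Subtype.ext hzx
    rw [← this]
    exact hz
  -- step 3: factor through the quotient
  let Q := R ⧸ J ^ (N + k)
  let π : R →ₗ[R] Q := (J ^ (N + k)).mkQ
  let q : a →ₗ[R] Q := π ∘ₗ a.subtype
  have hker : LinearMap.ker q ≤ LinearMap.ker φ' := by
    intro x hx
    rw [LinearMap.mem_ker] at hx ⊢
    have : (x : R) ∈ J ^ (N + k) := by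
      have h3 : (J ^ (N + k)).mkQ (x : R) = 0 := hx
      rwa [Submodule.mkQ_apply, Submodule.Quotient.mk_eq_zero] at h3
    exact hkill x x.2 this
  let q' : (a ⧸ LinearMap.ker q) →ₗ[R] Q := (LinearMap.ker q).liftQ q le_rfl
  have hq' : Function.Injective q' := by
    rw [← LinearMap.ker_eq_bot]
    exact Submodule.ker_liftQ_eq_bot _ _ _ le_rfl
  obtain ⟨ψ, hψ⟩ := Module.Injective.extension_property R I _ _ q' hq'
    ((LinearMap.ker q).liftQ φ' hker)
  have hψ' : ∀ x : a, ψ (π x) = φ' x := by
    intro x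
    have := LinearMap.congr_fun hψ ((LinearMap.ker q).mkQ x)
    simpa [q', q] using this
  have hmem : ∀ r : R, ψ (π r) ∈ Γ := by
    intro r
    rw [hmemΓ]
    refine ⟨N + k, ?_⟩
    rw [Submodule.mem_torsionBySet_iff]
    rintro ⟨c, hc⟩
    show c • ψ (π r) = 0
    rw [← map_smul, ← map_smul]
    have : π (c • r) = 0 := by
      show (J ^ (N + k)).mkQ (c • r) = 0
      rw [Submodule.mkQ_apply, Submodule.Quotient.mk_eq_zero]
      exact Ideal.mul_mem_right _ _ hc
    rw [this, map_zero]
  refine ⟨LinearMap.codRestrict Γ (ψ ∘ₗ π) hmem, fun x mem => ?_⟩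
  apply Subtype.ext
  exact hψ' ⟨x, mem⟩

end Helpers

/-- Over a Noetherian ring, the submodule of an injective module consisting of the elements killed by
some power of a given ideal is again injective. -/
theorem result (R : Type u) [CommRing R] [IsNoetherianRing R] (I : Type u) [AddCommGroup I] [Module R I] (hI : Module.Injective R I) (J : Ideal R) : Module.Injective R ↥(⨆ n : ℕ, Submodule.torsionBySet R I ((J ^ n : Ideal R) : Set R)) := by
  apply Module.Baer.injective
  have hmono : Monotone (fun n : ℕ => Submodule.torsionBySet R I ((J ^ n : Ideal R) : Set R)) := by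
    intro n m hnm
    apply Submodule.torsionBySet_le_torsionBySet_of_subset
    exact Ideal.pow_le_pow_right hnm
  exact baer_aux hI J _ hmono (fun y => Submodule.mem_iSup_of_directed _ hmono.directed_le)

end Groth.Agent.S0301
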