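import Groth.Statements.S6587
import Mathlib
-- import your own Groth.Agent.* helpers here

set_option autoImplicit false
universe v u
open CategoryTheory CategoryTheory.Limits Opposite
open CohDer

namespace Groth.Agent.S6587

open CategoryTheory.Pretriangulated in
/-- Let D be a triangulated category and let X_n → Y_n → Z_n → X_n⟦1⟧ be an inverse system of
distinguished triangles of D indexed by ℕ (levelwise maps f, g, h of inverse systems, each level
distinguished). If the inverse system (Z_n) is pro-zero, then the levelwise map f : (X_n) → (Y_n) is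
a pro-isomorphism. -/
theorem result {D : Type u} [Category.{v} D] [Preadditive D] [HasZeroObject D] [HasShift D ℤ]
    [∀ n : ℤ, (shiftFunctor D n).Additive] [Pretriangulated D] [IsTriangulated D]
    (X Y Z : ARSys.PS D) (f : X ⟶ Y) (g : Y ⟶ Z) (h : Z ⟶ X ⋙ shiftFunctor D (1 : ℤ))
    (hT : ∀ n : ℕ, Triangle.mk (f.app (op n)) (g.app (op n)) (h.app (op n)) ∈ distinguishedTriangles)
    (hZ : DerCA.IsProZero Z) :
    DerCA.IsProIso f := by
  intro n
  obtain ⟨m₁, h₁, hz₁⟩ := hZ n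
  obtain ⟨m₂, h₂, hz₂⟩ := hZ m₁
  have h12 : n ≤ m₂ := h₁.trans h₂
  -- naturality facts
  have natf : ∀ {a b : ℕ} (hab : a ≤ b), ARSys.tr X hab ≫ f.app (op a) = f.app (op b) ≫ ARSys.tr Y hab :=
    fun hab => (f.naturality (homOfLE hab).op)
  have natg : ∀ {a b : ℕ} (hab : a ≤ b), ARSys.tr Y hab ≫ g.app (op a) = g.app (op b) ≫ ARSys.tr Z hab :=
    fun hab => (g.naturality (homOfLE hab).op)
  have nath : ∀ {a b : ℕ} (hab : a ≤ b), ARSys.tr Z hab ≫ h.app (op a) =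
      h.app (op b) ≫ (shiftFunctor D (1 : ℤ)).map (ARSys.tr X hab) :=
    fun hab => (h.naturality (homOfLE hab).op)
  have trX : ARSys.tr X h₂ ≫ ARSys.tr X h₁ = ARSys.tr X h12 := by
    rw [ARSys.tr, ARSys.tr, ARSys.tr, ← X.map_comp]; rfl
  have trY : ARSys.tr Y h₂ ≫ ARSys.tr Y h₁ = ARSys.tr Y h12 := by
    rw [ARSys.tr, ARSys.tr, ARSys.tr, ← Y.map_comp]; rfl
  -- b₂ : Y_{m₂} ⟶ X_{m₁}
  have hb₂ : ARSys.tr Y h₂ ≫ g.app (op m₁) = 0 := by rw [natg h₂, hz₂, comp_zero]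
  obtain ⟨b₂, hb₂''⟩ : ∃ b₂ : Y.obj (op m₂) ⟶ X.obj (op m₁),
      ARSys.tr Y h₂ = b₂ ≫ f.app (op m₁) :=
    Pretriangulated.Triangle.coyoneda_exact₂ _ (hT m₁) (ARSys.tr Y h₂) hb₂
  refine ⟨m₂, h12, b₂ ≫ ARSys.tr X h₁, ?_, ?_⟩
  · -- e := f_{m₂} ≫ b₂ - tr_X
    set e := f.app (op m₂) ≫ b₂ - ARSys.tr X h₂ with he
    have he0 : e ≫ f.app (op m₁) = 0 := by
      rw [he, Preadditive.sub_comp, Category.assoc, ← hb₂'', natf h₂, sub_self]
    have he1 : (shiftFunctor D (1 : ℤ)).map e ≫ (shiftFunctor D (1 : ℤ)).map (f.app (op m₁)) = 0 := by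
      rw [← Functor.map_comp, he0, Functor.map_zero]
    obtain ⟨w, hw'⟩ : ∃ w : (shiftFunctor D (1 : ℤ)).obj (X.obj (op m₂)) ⟶ Z.obj (op m₁),
        (shiftFunctor D (1 : ℤ)).map e = w ≫ h.app (op m₁) :=
      Pretriangulated.Triangle.coyoneda_exact₁ _ (hT m₁)
        ((shiftFunctor D (1 : ℤ)).map e) he1
    have he2 : (shiftFunctor D (1 : ℤ)).map (e ≫ ARSys.tr X h₁) = 0 := by
      rw [Functor.map_comp, hw', Category.assoc, ← nath h₁, hz₁, zero_comp, comp_zero]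
    have he3 : e ≫ ARSys.tr X h₁ = 0 :=
      (shiftFunctor D (1 : ℤ)).map_injective (by rw [he2, Functor.map_zero])
    rw [he, Preadditive.sub_comp, sub_eq_zero, Category.assoc, trX] at he3
    exact he3
  · rw [Category.assoc, natf h₁, ← Category.assoc, ← hb₂'', trY]

end Groth.Agent.S6587
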