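import Groth.Statements.S6615
import Mathlib.CategoryTheory.Triangulated.Triangulated
import Mathlib.Tactic.Abel
-- import your own Groth.Agent.* helpers here

set_option autoImplicit false
universe v u
open CategoryTheory CategoryTheory.Limits Opposite
open CohDer

namespace Groth.Agent.S6615

open CategoryTheory.Pretriangulated

section PS

variable {D : Type u} [Category.{v} D]

lemma tr_comp (X : ARSys.PS D) {a b d : ℕ} (h₁ : a ≤ b) (h₂ : b ≤ d) :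
    ARSys.tr X h₂ ≫ ARSys.tr X h₁ = ARSys.tr X (h₁.trans h₂) := by
  show X.map _ ≫ X.map _ = X.map _
  rw [← X.map_comp]
  rfl

lemma tr_refl (X : ARSys.PS D) (a : ℕ) (h : a ≤ a) : ARSys.tr X h = 𝟙 _ := by
  show X.map _ = 𝟙 _
  have : (homOfLE h).op = 𝟙 (op a) := Subsingleton.elim _ _
  rw [this, X.map_id]

lemma tr_nat {X Y : ARSys.PS D} (f : X ⟶ Y) {n m : ℕ} (h : n ≤ m) :
    ARSys.tr X h ≫ f.app (op n) = f.app (op m) ≫ ARSys.tr Y h :=
  f.naturality (homOfLE h).op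

lemma cone_nat {X : ARSys.PS D} {A : D} (c : (Functor.const ℕᵒᵖ).obj A ⟶ X) {n m : ℕ}
    (h : n ≤ m) : c.app (op m) ≫ ARSys.tr X h = c.app (op n) := by
  have := c.naturality (homOfLE h).op
  simp only [Functor.const_obj_obj, Functor.const_obj_map, Category.id_comp] at this
  exact this.symm

variable [HasZeroMorphisms D]

/-- retraction data extracted from essential constancy -/
structure Retr (X : ARSys.PS D) (A : D) (c : ∀ n : ℕ, A ⟶ X.obj (op n)) where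
  i : ℕ
  p : ∀ n : ℕ, X.obj (op n) ⟶ A
  cp : ∀ n, i ≤ n → c n ≫ p n = 𝟙 A
  trp : ∀ (n m : ℕ) (h : n ≤ m), i ≤ n → ARSys.tr X h ≫ p n = p m
  fac : ∀ j N : ℕ, ∃ k, N ≤ k ∧ i ≤ k ∧ ∃ hj : j ≤ k,
    ∀ (k' : ℕ) (hk : k ≤ k'), ARSys.tr X (hj.trans hk) = p k' ≫ c j

lemma nonempty_retr (X : ARSys.PS D) (A : D) (c : (Functor.const ℕᵒᵖ).obj A ⟶ X)
    (hX : DerCA.IsEssConstant X A c) : Nonempty (Retr X A (fun n => c.app (op n))) := by
  classical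
  obtain ⟨i, s, hs, hk⟩ := hX
  refine ⟨⟨i, fun n => if h : i ≤ n then ARSys.tr X h ≫ s else 0, ?_, ?_, ?_⟩⟩
  · intro n hn
    rw [dif_pos hn, ← Category.assoc, cone_nat c hn]
    exact hs
  · intro n m h hn
    rw [dif_pos hn, dif_pos (hn.trans h), ← Category.assoc, tr_comp]
  · intro j N
    obtain ⟨k₀, hi, hj, hk₀⟩ := hk j
    refine ⟨max k₀ N, le_max_right _ _, hi.trans (le_max_left _ _), hj.trans (le_max_left _ _), ?_⟩
    intro k' hk'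
    have hk₀' : k₀ ≤ k' := (le_max_left _ _).trans hk'
    rw [dif_pos (hi.trans hk₀'), ← tr_comp X hj hk₀', hk₀, ← Category.assoc, tr_comp,
      Category.assoc]

end PS

section Main

variable {D : Type u} [Category.{v} D] [Preadditive D] [HasZeroObject D] [HasShift D ℤ]
    [∀ n : ℤ, (shiftFunctor D n).Additive] [Pretriangulated D]
    (X Y Z : ARSys.PS D) (f : X ⟶ Y) (g : Y ⟶ Z) (h : Z ⟶ X ⋙ shiftFunctor D (1 : ℤ))
    (hT : ∀ n : ℕ, Triangle.mk (f.app (op n)) (g.app (op n)) (h.app (op n)) ∈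
      distinguishedTriangles)
    {A C : D} (cA : (Functor.const ℕᵒᵖ).obj A ⟶ X) (cC : (Functor.const ℕᵒᵖ).obj C ⟶ Z)
    (RA : Retr X A (fun n => cA.app (op n))) (RC : Retr Z C (fun n => cC.app (op n)))

lemma h_nat {n m : ℕ} (h' : n ≤ m) :
    ARSys.tr Z h' ≫ h.app (op n) = h.app (op m) ≫ (ARSys.tr X h')⟦(1 : ℤ)⟧' :=
  h.naturality (homOfLE h').op

include hT RA RC in
theorem main : ∃ (B : D) (cB : (Functor.const ℕᵒᵖ).obj B ⟶ Y), DerCA.IsEssConstant Y B cB := by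
  -- basic index and the connecting map
  obtain ⟨i₀, hi₀⟩ : ∃ i₀, i₀ = max RA.i RC.i := ⟨_, rfl⟩
  have hAi : RA.i ≤ i₀ := hi₀ ▸ le_max_left _ _
  have hCi : RC.i ≤ i₀ := hi₀ ▸ le_max_right _ _
  obtain ⟨δ, hδ⟩ : ∃ δ : C ⟶ A⟦(1 : ℤ)⟧,
      δ = cC.app (op i₀) ≫ h.app (op i₀) ≫ (RA.p i₀)⟦(1 : ℤ)⟧' := ⟨_, rfl⟩
  have F1 : ∀ n, i₀ ≤ n → cC.app (op n) ≫ h.app (op n) ≫ (RA.p n)⟦(1 : ℤ)⟧' = δ := by
    intro n hn
    rw [← RA.trp i₀ n hn hAi, Functor.map_comp, ← Category.assoc (h.app (op n)),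
      ← h_nat X Z h hn, Category.assoc, ← Category.assoc, cone_nat cC hn, hδ]
  have F3 : ∀ n, cC.app (op n) ≫ h.app (op n) = δ ≫ (cA.app (op n))⟦(1 : ℤ)⟧' := by
    intro n
    obtain ⟨m, hm, -, hnm, hfac⟩ := RA.fac n i₀
    have hfac' : ARSys.tr X hnm = RA.p m ≫ cA.app (op n) := hfac m le_rfl
    calc cC.app (op n) ≫ h.app (op n)
        = cC.app (op m) ≫ ARSys.tr Z hnm ≫ h.app (op n) := by
          rw [← Category.assoc, cone_nat cC hnm]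
      _ = cC.app (op m) ≫ h.app (op m) ≫ (ARSys.tr X hnm)⟦(1 : ℤ)⟧' := by
          rw [h_nat X Z h hnm]
      _ = (cC.app (op m) ≫ h.app (op m) ≫ (RA.p m)⟦(1 : ℤ)⟧') ≫
            (cA.app (op n))⟦(1 : ℤ)⟧' := by
          rw [hfac', Functor.map_comp]
          simp only [Category.assoc]
      _ = δ ≫ (cA.app (op n))⟦(1 : ℤ)⟧' := by rw [F1 m hm]
  obtain ⟨m₀, hm₀, F4⟩ : ∃ m₀, i₀ ≤ m₀ ∧ ∀ m, m₀ ≤ m →
      h.app (op m) ≫ (RA.p m)⟦(1 : ℤ)⟧' = RC.p m ≫ δ := by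
    obtain ⟨m₀, hm₀, -, hi₀m₀, hfac⟩ := RC.fac i₀ i₀
    refine ⟨m₀, hm₀, fun m hm => ?_⟩
    have hfac' : ARSys.tr Z (hi₀m₀.trans hm) = RC.p m ≫ cC.app (op i₀) := hfac m hm
    rw [← RA.trp i₀ m (hi₀m₀.trans hm) hAi, Functor.map_comp, ← Category.assoc,
      ← h_nat X Z h (hi₀m₀.trans hm), hfac', Category.assoc, Category.assoc, hδ]
  have hAm : RA.i ≤ m₀ := hAi.trans hm₀
  have hCm : RC.i ≤ m₀ := hCi.trans hm₀
  -- the value `B`
  obtain ⟨B, u, v, hB⟩ := distinguished_cocone_triangle₂ δ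
  have hβ : ∀ n, ∃ β : B ⟶ Y.obj (op n), u ≫ β = cA.app (op n) ≫ f.app (op n) ∧
      v ≫ cC.app (op n) = β ≫ g.app (op n) := fun n =>
    complete_distinguished_triangle_morphism₂ _ _ hB (hT n) (cA.app (op n)) (cC.app (op n))
      (F3 n).symm
  choose β hβ1 hβ2 using hβ
  obtain ⟨γ, hγ1, hγ2⟩ : ∃ γ : Y.obj (op m₀) ⟶ B, f.app (op m₀) ≫ γ = RA.p m₀ ≫ u ∧
      g.app (op m₀) ≫ RC.p m₀ = γ ≫ v :=
    complete_distinguished_triangle_morphism₂ _ _ (hT m₀) hB (RA.p m₀) (RC.p m₀) (F4 m₀ le_rfl)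
  -- the automorphisms `θ`
  have hθ : ∀ k (hk : m₀ ≤ k), IsIso (β k ≫ ARSys.tr Y hk ≫ γ) := by
    intro k hk
    have e1 : u ≫ (β k ≫ ARSys.tr Y hk ≫ γ) = u := by
      rw [← Category.assoc, hβ1, Category.assoc, ← Category.assoc (f.app (op k)),
        ← tr_nat f hk, Category.assoc, hγ1, ← Category.assoc (ARSys.tr X hk),
        RA.trp m₀ k hk hAm, ← Category.assoc, RA.cp k (hAm.trans hk), Category.id_comp]
    have e2 : (β k ≫ ARSys.tr Y hk ≫ γ) ≫ v = v := by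
      rw [Category.assoc, Category.assoc, ← hγ2, ← Category.assoc (ARSys.tr Y hk),
        tr_nat g hk, Category.assoc, RC.trp m₀ k hk hCm, ← Category.assoc, ← hβ2,
        Category.assoc, RC.cp k (hCm.trans hk), Category.comp_id]
    let φ : Triangle.mk u v δ ⟶ Triangle.mk u v δ :=
      { hom₁ := 𝟙 _
        hom₂ := β k ≫ ARSys.tr Y hk ≫ γ
        hom₃ := 𝟙 _
        comm₁ := by
          show u ≫ (β k ≫ ARSys.tr Y hk ≫ γ) = 𝟙 A ≫ u
          rw [e1, Category.id_comp]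
        comm₂ := by
          show v ≫ 𝟙 C = (β k ≫ ARSys.tr Y hk ≫ γ) ≫ v
          rw [e2, Category.comp_id]
        comm₃ := by
          show δ ≫ (𝟙 A)⟦(1 : ℤ)⟧' = 𝟙 C ≫ δ
          rw [CategoryTheory.Functor.map_id, Category.comp_id, Category.id_comp] }
    exact isIso₂_of_isIso₁₃ φ hB hB (by dsimp [φ]; infer_instance) (by dsimp [φ]; infer_instance)
  -- sections `t`
  have ht : ∀ k (hk : m₀ ≤ k), ∃ t : B ⟶ Y.obj (op k), t ≫ ARSys.tr Y hk ≫ γ = 𝟙 B := by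
    intro k hk
    have := hθ k hk
    exact ⟨inv (β k ≫ ARSys.tr Y hk ≫ γ) ≫ β k, by rw [Category.assoc, IsIso.inv_hom_id]⟩
  -- morphisms of triangles of the form `(0, Δ, 0)`
  have hΔ : ∀ (a b : ℕ) (hab : a ≤ b) (hb : m₀ ≤ b),
      ARSys.tr X hab = RA.p b ≫ cA.app (op a) → ARSys.tr Z hab = RC.p b ≫ cC.app (op a) →
      f.app (op b) ≫ (ARSys.tr Y hab - ARSys.tr Y hb ≫ γ ≫ β a) = 0 ∧
      (ARSys.tr Y hab - ARSys.tr Y hb ≫ γ ≫ β a) ≫ g.app (op a) = 0 := by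
    intro a b hab hb hX hZ
    constructor
    · rw [Preadditive.comp_sub, ← tr_nat f hab, ← Category.assoc (f.app (op b)), ← tr_nat f hb,
        Category.assoc, ← Category.assoc (f.app (op m₀)), hγ1, Category.assoc, hβ1,
        ← Category.assoc (ARSys.tr X hb), RA.trp m₀ b hb hAm, hX, Category.assoc, sub_self]
    · rw [Preadditive.sub_comp, tr_nat g hab, Category.assoc, Category.assoc, ← hβ2,
        ← Category.assoc γ, ← hγ2, Category.assoc, ← Category.assoc (ARSys.tr Y hb),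
        tr_nat g hb, Category.assoc, ← Category.assoc (ARSys.tr Z hb), RC.trp m₀ b hb hCm, hZ,
        sub_self]
  -- factorisation of the transition maps
  have hfacY : ∀ j : ℕ, ∃ (k : ℕ) (hm : m₀ ≤ k) (hj : j ≤ k) (w : B ⟶ Y.obj (op j)),
      ARSys.tr Y hj = ARSys.tr Y hm ≫ γ ≫ w := by
    intro j
    obtain ⟨k₁, h1a, -, hjk₁, hfacX1⟩ := RA.fac j m₀
    obtain ⟨k', h2a, -, hjk', hfacZ1⟩ := RC.fac j k₁
    have hmk' : m₀ ≤ k' := h1a.trans h2a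
    have hX1 : ARSys.tr X hjk' = RA.p k' ≫ cA.app (op j) := hfacX1 k' h2a
    have hZ1 : ARSys.tr Z hjk' = RC.p k' ≫ cC.app (op j) := hfacZ1 k' le_rfl
    obtain ⟨k₃, h3a, -, hk'k₃, hfacX2⟩ := RA.fac k' k'
    obtain ⟨k'', h4a, -, hk'k'', hfacZ2⟩ := RC.fac k' k₃
    have hmk'' : m₀ ≤ k'' := hmk'.trans hk'k''
    have hX2 : ARSys.tr X hk'k'' = RA.p k'' ≫ cA.app (op k') := hfacX2 k'' h4a
    have hZ2 : ARSys.tr Z hk'k'' = RC.p k'' ≫ cC.app (op k') := hfacZ2 k'' le_rfl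
    obtain ⟨hΔ2f, hΔ2g⟩ := hΔ j k' hjk' hmk' hX1 hZ1
    obtain ⟨hΔ1f, hΔ1g⟩ := hΔ k' k'' hk'k'' hmk'' hX2 hZ2
    obtain ⟨Δ₂, hΔ₂⟩ : ∃ Δ₂ : Y.obj (op k') ⟶ Y.obj (op j),
        Δ₂ = ARSys.tr Y hjk' - ARSys.tr Y hmk' ≫ γ ≫ β j := ⟨_, rfl⟩
    obtain ⟨Δ₁, hΔ₁⟩ : ∃ Δ₁ : Y.obj (op k'') ⟶ Y.obj (op k'),
        Δ₁ = ARSys.tr Y hk'k'' - ARSys.tr Y hmk'' ≫ γ ≫ β k' := ⟨_, rfl⟩
    rw [← hΔ₂] at hΔ2f hΔ2g
    rw [← hΔ₁] at hΔ1f hΔ1g
    have h12 : Δ₁ ≫ Δ₂ = 0 := by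
      obtain ⟨Δ₂', hΔ₂'⟩ : ∃ Δ₂' : Z.obj (op k') ⟶ Y.obj (op j), Δ₂ = g.app (op k') ≫ Δ₂' :=
        Triangle.yoneda_exact₂ _ (hT k') Δ₂ hΔ2f
      rw [hΔ₂', ← Category.assoc, hΔ1g, zero_comp]
    refine ⟨k'', hmk'', hjk'.trans hk'k'', β j + β k' ≫ Δ₂, ?_⟩
    have e1 : ARSys.tr Y hk'k'' = ARSys.tr Y hmk'' ≫ γ ≫ β k' + Δ₁ := by rw [hΔ₁]; abel
    have e2 : ARSys.tr Y hjk' = ARSys.tr Y hmk' ≫ γ ≫ β j + Δ₂ := by rw [hΔ₂]; abel
    calc ARSys.tr Y (hjk'.trans hk'k'') = ARSys.tr Y hk'k'' ≫ ARSys.tr Y hjk' :=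
          (tr_comp Y hjk' hk'k'').symm
      _ = ARSys.tr Y hk'k'' ≫ (ARSys.tr Y hmk' ≫ γ ≫ β j) + ARSys.tr Y hk'k'' ≫ Δ₂ := by
          rw [e2, Preadditive.comp_add]
      _ = ARSys.tr Y hmk'' ≫ γ ≫ β j + (ARSys.tr Y hmk'' ≫ γ ≫ β k' + Δ₁) ≫ Δ₂ := by
          rw [← Category.assoc, tr_comp Y hmk' hk'k'', ← e1]
      _ = ARSys.tr Y hmk'' ≫ γ ≫ (β j + β k' ≫ Δ₂) := by
          rw [Preadditive.add_comp, h12, add_zero]
          simp only [Preadditive.comp_add, Category.assoc]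
  choose K hKm hKj w hw using hfacY
  -- uniqueness of `w`
  have hwt : ∀ (j N : ℕ) (hKN : K j ≤ N) (t : B ⟶ Y.obj (op N)),
      t ≫ ARSys.tr Y ((hKm j).trans hKN) ≫ γ = 𝟙 B →
      t ≫ ARSys.tr Y ((hKj j).trans hKN) = w j := by
    intro j N hKN t htN
    rw [← tr_comp Y (hKj j) hKN, hw j, ← Category.assoc (ARSys.tr Y hKN),
      tr_comp Y (hKm j) hKN, ← Category.assoc, ← Category.assoc, Category.assoc t, htN,
      Category.id_comp]
  have hwnat : ∀ (j j' : ℕ) (hjj : j' ≤ j), w j ≫ ARSys.tr Y hjj = w j' := by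
    intro j j' hjj
    obtain ⟨N, hN⟩ : ∃ N, N = max (K j) (K j') := ⟨_, rfl⟩
    have hN1 : K j ≤ N := hN ▸ le_max_left _ _
    have hN2 : K j' ≤ N := hN ▸ le_max_right _ _
    obtain ⟨t, htN⟩ := ht N ((hKm j).trans hN1)
    rw [← hwt j N hN1 t htN, ← hwt j' N hN2 t htN, Category.assoc, tr_comp]
  -- the cone
  let cB : (Functor.const ℕᵒᵖ).obj B ⟶ Y :=
    { app := fun x => w x.unop
      naturality := by
        intro x y φ
        have hle : y.unop ≤ x.unop := leOfHom φ.unop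
        have hφ : φ = (homOfLE hle).op := Subsingleton.elim _ _
        show 𝟙 B ≫ w y.unop = w x.unop ≫ Y.map φ
        rw [Category.id_comp, hφ]
        exact (hwnat x.unop y.unop hle).symm }
  refine ⟨B, cB, m₀, γ, ?_, fun j => ⟨K j, hKm j, hKj j, hw j⟩⟩
  show w m₀ ≫ γ = 𝟙 B
  obtain ⟨t, htN⟩ := ht (K m₀) (hKm m₀)
  have := hwt m₀ (K m₀) le_rfl t htN
  rw [← this, Category.assoc]
  exact htN

end Main

open CategoryTheory.Pretriangulated in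
/-- Essential constancy of the middle system: in a triangulated category D, take an ℕ-indexed inverse
system of distinguished triangles with vertices A_n, B_n, C_n. When (A_n) and (C_n) are both
essentially constant, the middle system (B_n) is too. (The published statement also says the values
fit in a distinguished triangle receiving a map of triangles from some level; this row asserts only
the essential constancy of the middle system.) -/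
theorem result {D : Type u} [Category.{v} D] [Preadditive D] [HasZeroObject D] [HasShift D ℤ]
    [∀ n : ℤ, (shiftFunctor D n).Additive] [Pretriangulated D] [IsTriangulated D]
    (X Y Z : ARSys.PS D) (f : X ⟶ Y) (g : Y ⟶ Z) (h : Z ⟶ X ⋙ shiftFunctor D (1 : ℤ))
    (hT : ∀ n : ℕ, Triangle.mk (f.app (op n)) (g.app (op n)) (h.app (op n)) ∈ distinguishedTriangles)
    (hX : ∃ (A : D) (cA : (Functor.const ℕᵒᵖ).obj A ⟶ X), DerCA.IsEssConstant X A cA)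
    (hZ : ∃ (C : D) (cC : (Functor.const ℕᵒᵖ).obj C ⟶ Z), DerCA.IsEssConstant Z C cC) :
    ∃ (B : D) (cB : (Functor.const ℕᵒᵖ).obj B ⟶ Y), DerCA.IsEssConstant Y B cB := by
  obtain ⟨A, cA, hA⟩ := hX
  obtain ⟨C, cC, hC⟩ := hZ
  obtain ⟨RA⟩ := nonempty_retr X A cA hA
  obtain ⟨RC⟩ := nonempty_retr Z C cC hC
  exact main X Y Z f g h hT cA cC RA RC

end Groth.Agent.S6615
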