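import Groth.Statements.S6588
import Mathlib
import Groth.Agent.S6615
import Groth.Agent.S14388
import Groth.Agent.S14100
-- import your own Groth.Agent.* helpers here

set_option autoImplicit false
universe w v u
open CategoryTheory CategoryTheory.Limits Opposite
open CohDer

namespace Groth.Agent.S6588

open DerivedCategory Pretriangulated
open Groth.Agent.S6615 (tr_comp tr_refl tr_nat)

section tri
variable {D : Type u} [Category.{v} D] [Preadditive D] [HasZeroObject D] [HasShift D ℤ]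
  [∀ n : ℤ, (shiftFunctor D n).Additive] [Pretriangulated D]

lemma exists_cocone_system {X Y : ARSys.PS D} (f : X ⟶ Y) :
    ∃ (W : ARSys.PS D) (w : W ⟶ X) (δ : Y ⟶ W ⋙ shiftFunctor D (1 : ℤ)),
      ∀ n : ℕ, Triangle.mk (w.app (op n)) (f.app (op n)) (δ.app (op n)) ∈ distTriang D := by
  choose W₀ w₀ δ₀ hT using fun n : ℕ => distinguished_cocone_triangle₁ (f.app (op n))
  have hψ : ∀ n : ℕ, ∃ ψ : W₀ (n + 1) ⟶ W₀ n,
      w₀ (n + 1) ≫ X.map (homOfLE (n.le_add_right 1)).op = ψ ≫ w₀ n ∧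
      δ₀ (n + 1) ≫ ψ⟦(1 : ℤ)⟧' = Y.map (homOfLE (n.le_add_right 1)).op ≫ δ₀ n := by
    intro n
    obtain ⟨a, ha1, ha2⟩ := complete_distinguished_triangle_morphism₁ _ _ (hT (n + 1)) (hT n)
      (X.map (homOfLE (n.le_add_right 1)).op) (Y.map (homOfLE (n.le_add_right 1)).op)
      (f.naturality _).symm
    exact ⟨a, ha1, ha2⟩
  choose ψ hψ1 hψ2 using hψ
  refine ⟨Functor.ofOpSequence ψ, NatTrans.ofOpSequence (fun n => w₀ n) ?_,
    NatTrans.ofOpSequence (fun n => δ₀ n) ?_, fun n => hT n⟩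
  · intro n
    rw [Functor.ofOpSequence_map_homOfLE_succ]
    exact (hψ1 n).symm
  · intro n
    dsimp
    rw [Functor.ofOpSequence_map_homOfLE_succ]
    exact (hψ2 n).symm

lemma proIso_of_proZero {X Y W : ARSys.PS D} (f : X ⟶ Y) (w : W ⟶ X)
    (δ : Y ⟶ W ⋙ shiftFunctor D (1 : ℤ))
    (hT : ∀ n : ℕ, Triangle.mk (w.app (op n)) (f.app (op n)) (δ.app (op n)) ∈ distTriang D)
    (hW : DerCA.IsProZero W) : DerCA.IsProIso f := by
  intro n
  obtain ⟨m, hnm, h0⟩ := hW n
  obtain ⟨M, hmM, h1⟩ := hW m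
  have e1 : ARSys.tr Y hnm ≫ δ.app (op n) = 0 := by
    have := δ.naturality (homOfLE hnm).op
    show Y.map _ ≫ _ = 0
    rw [this]
    dsimp
    rw [show W.map (homOfLE hnm).op = 0 from h0, Functor.map_zero, comp_zero]
  obtain ⟨b₀, hb₀'⟩ : ∃ b₀ : Y.obj (op m) ⟶ X.obj (op n), ARSys.tr Y hnm = b₀ ≫ f.app (op n) :=
    Triangle.coyoneda_exact₃ _ (hT n) (ARSys.tr Y hnm) e1
  have e2 : (f.app (op m) ≫ b₀ - ARSys.tr X hnm) ≫ f.app (op n) = 0 := by
    rw [Preadditive.sub_comp, Category.assoc, ← hb₀', sub_eq_zero]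
    exact (tr_nat f hnm).symm
  obtain ⟨e, he'⟩ : ∃ e : X.obj (op m) ⟶ W.obj (op n),
      f.app (op m) ≫ b₀ - ARSys.tr X hnm = e ≫ w.app (op n) :=
    Triangle.coyoneda_exact₂ _ (hT n) _ e2
  have e3 : w.app (op M) ≫ (ARSys.tr X hmM ≫ e) = 0 := by
    rw [← Category.assoc, ← tr_nat w hmM, h1, zero_comp, zero_comp]
  obtain ⟨e', he2'⟩ : ∃ e' : Y.obj (op M) ⟶ W.obj (op n),
      ARSys.tr X hmM ≫ e = f.app (op M) ≫ e' :=
    Triangle.yoneda_exact₂ _ (hT M) (ARSys.tr X hmM ≫ e) e3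
  refine ⟨M, hnm.trans hmM, ARSys.tr Y hmM ≫ b₀ - e' ≫ w.app (op n), ?_, ?_⟩
  · rw [Preadditive.comp_sub, ← Category.assoc (f.app (op M)) e', ← he2', ← Category.assoc,
      ← tr_nat f hmM, Category.assoc, Category.assoc, ← he', Preadditive.comp_sub,
      sub_sub_cancel, tr_comp]
  · rw [Preadditive.sub_comp, Category.assoc, ← hb₀', tr_comp, Category.assoc]
    have : w.app (op n) ≫ f.app (op n) = 0 := comp_distTriang_mor_zero₁₂ _ (hT n)
    rw [this, comp_zero, sub_zero]

end tri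

section der
variable {A : Type u} [Category.{v} A] [Abelian A] [HasDerivedCategory.{w} A]

omit [HasDerivedCategory.{w} A] in
lemma comp_eq_zero_of_exact {S : ShortComplex A} (hS : S.Exact) {T T' : A} (φ : T ⟶ S.X₂)
    (ψ : S.X₂ ⟶ T') (h1 : φ ≫ S.g = 0) (h2 : S.f ≫ ψ = 0) : φ ≫ ψ = 0 := by
  have := hS.epi_toCycles
  have h3 : S.iCycles ≫ ψ = 0 := by
    rw [← cancel_epi S.toCycles, ← Category.assoc, S.toCycles_i, h2, comp_zero]
  rw [← S.liftCycles_i φ h1, Category.assoc, h3, comp_zero]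

lemma homology_tr_zero {X Y W : ARSys.PS (DerivedCategory A)} (f : X ⟶ Y) (w : W ⟶ X)
    (δ : Y ⟶ W ⋙ shiftFunctor (DerivedCategory A) (1 : ℤ))
    (hT : ∀ n : ℕ, Triangle.mk (w.app (op n)) (f.app (op n)) (δ.app (op n)) ∈
      distTriang (DerivedCategory A))
    (hH : ∀ i : ℤ, DerCA.IsProIso (Functor.whiskerRight f (homologyFunctor A i))) (i : ℤ) (n : ℕ) :
    ∃ (M : ℕ) (hM : n ≤ M), (homologyFunctor A i).map (ARSys.tr W hM) = 0 := by
  obtain ⟨m, hnm, β', hβ'1, hβ'2⟩ := hH (i - 1) n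
  obtain ⟨M, hmM, β, hβ1, hβ2⟩ := hH i m
  refine ⟨M, hnm.trans hmM, ?_⟩
  rw [← tr_comp W hnm hmM, Functor.map_comp]
  have hex := HomologySequence.exact₁ _ (hT m) (i - 1) i (by omega)
  apply comp_eq_zero_of_exact hex
  · show (homologyFunctor A i).map (ARSys.tr W hmM) ≫ (homologyFunctor A i).map (w.app (op m)) = 0
    rw [← Functor.map_comp, tr_nat w hmM, Functor.map_comp]
    have h : (homologyFunctor A i).map (ARSys.tr X hmM) =
        (homologyFunctor A i).map (f.app (op M)) ≫ β := hβ1.symm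
    rw [h, ← Category.assoc, ← Functor.map_comp]
    have : w.app (op M) ≫ f.app (op M) = 0 := comp_distTriang_mor_zero₁₂ _ (hT M)
    rw [this, Functor.map_zero, zero_comp]
  · show HomologySequence.δ (Triangle.mk (w.app (op m)) (f.app (op m)) (δ.app (op m))) (i - 1) i
      (by omega) ≫ (homologyFunctor A i).map (ARSys.tr W hnm) = 0
    let φ : Triangle.mk (w.app (op m)) (f.app (op m)) (δ.app (op m)) ⟶
        Triangle.mk (w.app (op n)) (f.app (op n)) (δ.app (op n)) :=
      Triangle.homMk _ _ (ARSys.tr W hnm) (ARSys.tr X hnm) (ARSys.tr Y hnm)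
        (tr_nat w hnm).symm (tr_nat f hnm).symm (δ.naturality (homOfLE hnm).op).symm
    have hnat := (homologyFunctor A 0).homologySequenceδ_naturality _ _ φ (i - 1) i (by omega)
    have hnat' : (homologyFunctor A (i - 1)).map (ARSys.tr Y hnm) ≫
        HomologySequence.δ (Triangle.mk (w.app (op n)) (f.app (op n)) (δ.app (op n))) (i - 1) i (by omega) =
        HomologySequence.δ (Triangle.mk (w.app (op m)) (f.app (op m)) (δ.app (op m))) (i - 1) i (by omega) ≫
          (homologyFunctor A i).map (ARSys.tr W hnm) := hnat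
    rw [← hnat']
    have h : (homologyFunctor A (i - 1)).map (ARSys.tr Y hnm) =
        β' ≫ (homologyFunctor A (i - 1)).map (f.app (op n)) := hβ'2.symm
    rw [h, Category.assoc]
    have : (homologyFunctor A (i - 1)).map (f.app (op n)) ≫
        HomologySequence.δ (Triangle.mk (w.app (op n)) (f.app (op n)) (δ.app (op n))) (i - 1) i (by omega) = 0 :=
      HomologySequence.comp_δ _ (hT n) (i - 1) i (by omega)
    rw [this, comp_zero]
    rfl

open Groth.Agent.S14388 in
lemma proZero_of_amp (k : ℕ) : ∀ (a : ℤ) (W : ARSys.PS (DerivedCategory A)),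
    (∀ n : ℕ, (W.obj (op n)).IsGE a) → (∀ n : ℕ, (W.obj (op n)).IsLE (a + k - 1)) →
    (∀ n : ℕ, ∃ (m : ℕ) (hm : n ≤ m), ∀ q : ℤ, (homologyFunctor A q).map (ARSys.tr W hm) = 0) →
    DerCA.IsProZero W := by
  induction k with
  | zero =>
    intro a W hGE hLE hz n
    have := hGE n
    have := hLE n
    refine ⟨n, le_rfl, ?_⟩
    have hzero : IsZero (W.obj (op n)) := tt.isZero _ (a + ((0 : ℕ) : ℤ) - 1) a (by simp)
    exact hzero.eq_of_src _ _
  | succ k ih =>
    intro a W hGE hLE hz n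
    let W' : ARSys.PS (DerivedCategory A) := W ⋙ tt.truncGE (a + 1)
    have hW' : DerCA.IsProZero W' := by
      apply ih (a + 1) W'
      · intro n
        show ((tt.truncGE (a + 1)).obj (W.obj (op n))).IsGE (a + 1)
        infer_instance
      · intro n
        have : (W.obj (op n)).IsLE (a + 1 + (k : ℤ) - 1) := by
          have h := hLE n
          have e : a + ((k + 1 : ℕ) : ℤ) - 1 = a + 1 + (k : ℤ) - 1 := by push_cast; ring
          rwa [e] at h
        show ((tt.truncGE (a + 1)).obj (W.obj (op n))).IsLE (a + 1 + (k : ℤ) - 1)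
        infer_instance
      · intro n
        obtain ⟨m, hm, h⟩ := hz n
        exact ⟨m, hm, fun q => homology_truncGE_map_eq_zero' (a + 1) q _ (h q)⟩
    obtain ⟨m, hnm, hq⟩ := hz n
    obtain ⟨M, hmM, h0⟩ := hW' m
    refine ⟨M, hnm.trans hmM, ?_⟩
    rw [← tr_comp W hnm hmM]
    have hlast : (tt.truncLTι (a + 1)).app (W.obj (op m)) ≫ ARSys.tr W hnm = 0 := by
      have hnat := (tt.truncLTι (a + 1)).naturality (ARSys.tr W hnm)
      dsimp at hnat
      rw [← hnat]
      have := hGE m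
      have := hGE n
      have hz' : (tt.truncLT (a + 1)).map (ARSys.tr W hnm) = 0 :=
        Groth.Agent.S14100.eq_zero_of_amp_zero a _
          (homology_truncLT_map_eq_zero' (a + 1) a _ (hq a))
      rw [hz', zero_comp]
    obtain ⟨h, hh⟩ := Triangle.yoneda_exact₂ _
      (tt.triangleLTGE_distinguished (a + 1) (W.obj (op m))) (ARSys.tr W hnm) hlast
    have hh' : ARSys.tr W hnm = (tt.truncGEπ (a + 1)).app (W.obj (op m)) ≫ h := hh
    rw [hh', ← Category.assoc]
    have hnat := (tt.truncGEπ (a + 1)).naturality (ARSys.tr W hmM)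
    dsimp at hnat
    rw [hnat]
    rw [show (tt.truncGE (a + 1)).map (ARSys.tr W hmM) = ARSys.tr W' hmM from rfl, h0, comp_zero,
      zero_comp]

end der

/-- Let A be an abelian category and let (X_n) → (Y_n) be an ℕ-indexed inverse system of maps of D(A).
Assume (1) there are a ≤ b with Hⁱ(X_n) = 0 and Hⁱ(Y_n) = 0 for all n and all i outside [a, b], and
(2) for every i the maps Hⁱ(X_n) → Hⁱ(Y_n) form a pro-isomorphism of inverse systems of A. Then
(X_n) → (Y_n) is a pro-isomorphism of inverse systems of D(A). -/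
theorem result {A : Type u} [Category.{v} A] [Abelian A] [HasDerivedCategory.{w} A]
    (X Y : ARSys.PS (DerivedCategory A)) (f : X ⟶ Y) (a b : ℤ) (hab : a ≤ b)
    (hX : ∀ (n : ℕ) (i : ℤ), i < a ∨ b < i → IsZero ((DerivedCategory.homologyFunctor A i).obj (X.obj (op n))))
    (hY : ∀ (n : ℕ) (i : ℤ), i < a ∨ b < i → IsZero ((DerivedCategory.homologyFunctor A i).obj (Y.obj (op n))))
    (hH : ∀ i : ℤ, DerCA.IsProIso (Functor.whiskerRight f (DerivedCategory.homologyFunctor A i))) :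
    DerCA.IsProIso f := by
  obtain ⟨W, w, δ, hT⟩ := exists_cocone_system f
  apply proIso_of_proZero f w δ hT
  have hamp : ∀ (n : ℕ) (i : ℤ), i < a ∨ b + 1 < i →
      IsZero ((homologyFunctor A i).obj (W.obj (op n))) := by
    intro n i hi
    have hex := HomologySequence.exact₁ _ (hT n) (i - 1) i (by omega)
    exact hex.isZero_of_both_zeros ((hY n (i - 1) (by omega)).eq_of_src _ _)
      ((hX n i (by omega)).eq_of_tgt _ _)
  have hGE : ∀ n : ℕ, (W.obj (op n)).IsGE a := fun n =>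
    (isGE_iff _ _).2 (fun i hi => hamp n i (Or.inl hi))
  have hLE : ∀ n : ℕ, (W.obj (op n)).IsLE (a + ((b + 2 - a).toNat : ℤ) - 1) := fun n =>
    (isLE_iff _ _).2 (fun i hi => hamp n i (Or.inr (by omega)))
  apply proZero_of_amp (b + 2 - a).toNat a W hGE hLE
  -- uniform vanishing
  have key : ∀ (j : ℕ) (n : ℕ), ∃ (m : ℕ) (hm : n ≤ m), ∀ q : ℤ, a ≤ q → q < a + j →
      (homologyFunctor A q).map (ARSys.tr W hm) = 0 := by
    intro j
    induction j with
    | zero =>
      intro n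
      exact ⟨n, le_rfl, fun q h1 h2 => by omega⟩
    | succ j ih =>
      intro n
      obtain ⟨m₁, hm₁, h₁⟩ := ih n
      obtain ⟨m₂, hm₂, h₂⟩ := homology_tr_zero f w δ hT hH (a + j) n
      refine ⟨max m₁ m₂, hm₁.trans (le_max_left _ _), fun q hq1 hq2 => ?_⟩
      by_cases hq : q < a + j
      · rw [← tr_comp W hm₁ (le_max_left m₁ m₂), Functor.map_comp, h₁ q hq1 hq, comp_zero]
      · have : q = a + j := by push_cast at hq2; omega
        subst this
        rw [← tr_comp W hm₂ (le_max_right m₁ m₂), Functor.map_comp, h₂, comp_zero]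
  intro n
  obtain ⟨m, hm, h⟩ := key (b + 2 - a).toNat n
  refine ⟨m, hm, fun q => ?_⟩
  by_cases hq : a ≤ q ∧ q < a + ((b + 2 - a).toNat : ℤ)
  · exact h q hq.1 hq.2
  · exact (hamp n q (by omega)).eq_of_tgt _ _

end Groth.Agent.S6588
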