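import Groth.Statements.S11107
import Mathlib
import Groth.Agent.Lib.Helper3SmNormSch
import Groth.Agent.Lib.Helper4RatMapExt
import Groth.Agent.Lib.Helper10GlueISup
-- import your own Groth.Agent.* helpers here

set_option autoImplicit false
universe u
open CategoryTheory AlgebraicGeometry
open Neron

namespace Groth.Agent.S11107

/-- Let R be a Dedekind domain, X → Spec R a smooth morphism, Y → Spec R a proper morphism, U ⊆ X a
dense open subscheme and f : U → Y a morphism over Spec R (a rational map X ⇢ Y over R). Then f
extends, over Spec R, to an open subscheme V ⊇ U of X such that every point of X outside V has a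
local ring of Krull dimension at least 2: the locus where the rational map is undefined has
codimension at least two. (The published statement assumes the rational map dominant; this row does
not.) -/
theorem result {R : Type u} [CommRing R] [IsDedekindDomain R]
    {X Y : Scheme.{u}} (pX : X ⟶ Spec (CommRingCat.of R)) (pY : Y ⟶ Spec (CommRingCat.of R))
    [Smooth pX] [IsProper pY] (U : X.Opens) (hU : Dense (U : Set X))
    (f : (U : Scheme.{u}) ⟶ Y) (hf : f ≫ pY = U.ι ≫ pX) :
    ∃ (V : X.Opens) (hUV : U ≤ V) (g : (V : Scheme.{u}) ⟶ Y),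
      g ≫ pY = V.ι ≫ pX ∧ X.homOfLE hUV ≫ g = f ∧
      ∀ x : X, x ∉ V → (2 : WithBot ℕ∞) ≤ ringKrullDim (X.presheaf.stalk x) := by
  classical
  -- `Spec R` is normal
  have hS : Pi1.IsNormalScheme (Spec (CommRingCat.of R)) := by
    intro s
    letI k : Algebra R ((Spec (CommRingCat.of R)).presheaf.stalk s) :=
      StructureSheaf.stalkAlgebra R s
    haveI : s.asIdeal.IsPrime := s.isPrime
    haveI : IsLocalization.AtPrime ((Spec (CommRingCat.of R)).presheaf.stalk s) s.asIdeal :=
      StructureSheaf.IsLocalization.to_stalk R s
    haveI : IsDomain ((Spec (CommRingCat.of R)).presheaf.stalk s) :=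
      IsLocalization.isDomain_of_atPrime (S := (Spec (CommRingCat.of R)).presheaf.stalk s)
        s.asIdeal
    exact ⟨inferInstance, isIntegrallyClosed_of_isLocalization (R := R)
      ((Spec (CommRingCat.of R)).presheaf.stalk s) s.asIdeal.primeCompl
      s.asIdeal.primeCompl_le_nonZeroDivisors⟩
  haveI : IsDomain (CommRingCat.of R) := inferInstanceAs (IsDomain R)
  haveI : IsIntegral (Spec (CommRingCat.of R)) := inferInstance
  have hnorm : Pi1.IsNormalScheme X :=
    Groth.Agent.Lib.Helper3.SmNormSch.isNormalScheme_of_smooth hS pX
  haveI : IsNoetherianRing (CommRingCat.of R) := inferInstanceAs (IsNoetherianRing R)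
  haveI : IsLocallyNoetherian X := LocallyOfFiniteType.isLocallyNoetherian pX
  haveI : IsReduced X := by
    haveI : ∀ x : X, _root_.IsReduced (X.presheaf.stalk x) := fun x => by
      haveI := (hnorm x).1
      infer_instance
    exact isReduced_of_isReduced_stalk X
  have hval : ValuativeCriterion.Existence pY := by
    have h1 : UniversallyClosed pY := inferInstance
    rw [UniversallyClosed.eq_valuativeCriterion] at h1
    exact h1.1
  obtain ⟨V, hUV, g, hg, hres, hZV⟩ :=
    Groth.Agent.Lib.Helper10.GlueISup.exists_extension_of_dense pX pY hval U hU f hf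
      {x | ringKrullDim (X.presheaf.stalk x) ≤ 1} (by
        intro x hx
        obtain ⟨hd, hic⟩ := hnorm x
        refine ⟨inferInstance, hd, ?_⟩
        haveI := hd
        haveI := hic
        exact Groth.Agent.Lib.Helper4.BirLocalIso.valuationRing_of_normal_dim_le_one _ hx)
  refine ⟨V, hUV, g, hg, hres, ?_⟩
  intro x hxV
  by_contra hlt
  apply hxV
  apply hZV
  change ringKrullDim (X.presheaf.stalk x) ≤ 1
  generalize ringKrullDim (X.presheaf.stalk x) = d at hlt
  rw [not_le] at hlt
  induction d using WithBot.recBotCoe with
  | bot => exact bot_le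
  | coe n =>
    have h' : n < 2 := by
      have : ((n : ℕ∞) : WithBot ℕ∞) < ((2 : ℕ∞) : WithBot ℕ∞) := hlt
      exact WithBot.coe_lt_coe.mp this
    have : n ≤ 1 := by
      have h2 : (2 : ℕ∞) = 1 + 1 := by norm_num
      rw [h2] at h'
      exact Order.le_of_lt_add_one h'
    exact WithBot.coe_le_coe.mpr this

end Groth.Agent.S11107
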