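import Groth.Statements.S13044
import Mathlib

set_option autoImplicit false
universe u
open MaxMod

namespace Groth.Agent.S13044

open CategoryTheory Limits AlgebraicGeometry

/-- `Spec` of an injective ring map is scheme-theoretically dominant. -/
theorem isSchemeTheoreticallyDominant_specMap {R K : CommRingCat.{u}} (φ : R ⟶ K)
    (hφ : Function.Injective φ.hom) : IsSchemeTheoreticallyDominant (Spec.map φ) := by
  rw [isSchemeTheoreticallyDominant_iff]
  refine Scheme.IdealSheafData.ext_of_isAffine ?_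
  rw [(Spec.map φ).ker_apply ⟨⊤, isAffineOpen_top _⟩]
  simp only [Scheme.IdealSheafData.ideal_bot, Pi.bot_apply]
  rw [← RingHom.injective_iff_ker_eq_bot]
  have hnat := Scheme.ΓSpecIso_naturality φ
  have h1 : (Spec.map φ).appTop = (Scheme.ΓSpecIso R).hom ≫ φ ≫ (Scheme.ΓSpecIso K).inv := by
    rw [← Category.assoc, ← hnat, Category.assoc, Iso.hom_inv_id, Category.comp_id]
  show Function.Injective (Spec.map φ).appTop.hom
  rw [h1]
  simp only [CommRingCat.hom_comp, RingHom.coe_comp]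
  exact ((ConcreteCategory.bijective_of_isIso (Scheme.ΓSpecIso K).inv).1.comp hφ).comp
    (ConcreteCategory.bijective_of_isIso (Scheme.ΓSpecIso R).hom).1

/-- Lifting through a closed immersion along a scheme-theoretically dominant morphism. -/
theorem exists_lift_of_isSchemeTheoreticallyDominant {Γ P W W' : Scheme.{u}} (γ : Γ ⟶ P)
    [IsClosedImmersion γ] (g : W ⟶ P) (j : W' ⟶ W) [IsSchemeTheoreticallyDominant j]
    (c : W' ⟶ Γ) (hc : j ≫ g = c ≫ γ) : ∃ l : W ⟶ Γ, l ≫ γ = g := by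
  have hker : γ.ker ≤ g.ker := by
    have h1 := Scheme.Hom.le_ker_comp c γ
    rw [← hc, Scheme.Hom.ker_comp, Scheme.Hom.ker_eq_bot j, Scheme.IdealSheafData.map_bot] at h1
    exact h1
  exact ⟨IsClosedImmersion.lift γ g hker, IsClosedImmersion.lift_fac _ _ _⟩


open CategoryTheory Limits AlgebraicGeometry in
/-- Let R be a discrete valuation ring with fraction field K, let Y be a flat separated R-scheme and let
Γ → Y ×_R Y be a closed subscheme, with projections p₁, p₂ : Γ → Y, such that Γ is flat over R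
(equivalently, Γ is the schematic closure of its generic fibre) and p₁, p₂ are flat. If for every
scheme T over Spec K the relation on the T-valued points of Y defined by the T-valued points of Γ is
an equivalence relation, then for every scheme T over Spec R that relation is an equivalence
relation: Γ is a flat equivalence relation on Y. -/
theorem result
    (R K : Type u) [CommRing R] [IsDomain R] [IsDiscreteValuationRing R]
    [Field K] [Algebra R K] [IsFractionRing R K]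
    (Y Γ : Scheme.{u}) (f : Y ⟶ Spec (CommRingCat.of R)) [IsSeparated f] [Flat f]
    (p₁ p₂ : Γ ⟶ Y) (h : p₁ ≫ f = p₂ ≫ f)
    (hΓ : IsClosedImmersion (pullback.lift p₁ p₂ h))
    [Flat (p₁ ≫ f)] [Flat p₁] [Flat p₂]
    (hK : ∀ (T : Scheme.{u}) (t : T ⟶ Spec (CommRingCat.of R)),
      (∃ s : T ⟶ Spec (CommRingCat.of K), t = s ≫ Spec.map (CommRingCat.ofHom (algebraMap R K))) →
      _root_.Equivalence fun a b : {a : T ⟶ Y // a ≫ f = t} =>
        ∃ c : T ⟶ Γ, c ≫ p₁ = a.1 ∧ c ≫ p₂ = b.1) :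
    ∀ (T : Scheme.{u}) (t : T ⟶ Spec (CommRingCat.of R)),
      _root_.Equivalence fun a b : {a : T ⟶ Y // a ≫ f = t} =>
        ∃ c : T ⟶ Γ, c ≫ p₁ = a.1 ∧ c ≫ p₂ = b.1 := by
  set ι : Spec (CommRingCat.of K) ⟶ Spec (CommRingCat.of R) :=
    Spec.map (CommRingCat.ofHom (algebraMap R K)) with hιdef
  have hι : IsSchemeTheoreticallyDominant ι :=
    isSchemeTheoreticallyDominant_specMap _ (IsFractionRing.injective R K)
  have key : ∀ {W : Scheme.{u}} (w : W ⟶ Spec (CommRingCat.of R)) [Flat w] (g₁ g₂ : W ⟶ Y)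
      (h₁ : g₁ ≫ f = w) (h₂ : g₂ ≫ f = w),
      (∃ c : pullback w ι ⟶ Γ, c ≫ p₁ = pullback.fst w ι ≫ g₁ ∧ c ≫ p₂ = pullback.fst w ι ≫ g₂) →
      ∃ l : W ⟶ Γ, l ≫ p₁ = g₁ ∧ l ≫ p₂ = g₂ := by
    intro W w _ g₁ g₂ h₁ h₂ ⟨c, hc₁, hc₂⟩
    have hSTD : IsSchemeTheoreticallyDominant (pullback.fst w ι) := inferInstance
    obtain ⟨l, hl⟩ := exists_lift_of_isSchemeTheoreticallyDominant (pullback.lift p₁ p₂ h)
      (pullback.lift g₁ g₂ (h₁.trans h₂.symm)) (pullback.fst w ι) c (by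
        apply pullback.hom_ext
        · rw [Category.assoc, Category.assoc, pullback.lift_fst, pullback.lift_fst, hc₁]
        · rw [Category.assoc, Category.assoc, pullback.lift_snd, pullback.lift_snd, hc₂])
    refine ⟨l, ?_, ?_⟩
    · have := congrArg (· ≫ pullback.fst f f) hl
      simp only [Category.assoc, pullback.lift_fst] at this
      exact this
    · have := congrArg (· ≫ pullback.snd f f) hl
      simp only [Category.assoc, pullback.lift_snd] at this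
      exact this
  -- reflexivity
  obtain ⟨δ, hδ₁, hδ₂⟩ := key f (𝟙 Y) (𝟙 Y) (Category.id_comp f) (Category.id_comp f) (by
    obtain ⟨c, hc₁, hc₂⟩ := (hK (pullback f ι) (pullback.snd f ι ≫ ι) ⟨_, rfl⟩).refl
      ⟨pullback.fst f ι, pullback.condition⟩
    exact ⟨c, by simpa using hc₁, by simpa using hc₂⟩)
  -- symmetry
  obtain ⟨σ, hσ₁, hσ₂⟩ := key (p₁ ≫ f) p₂ p₁ h.symm rfl (by
    have E := hK (pullback (p₁ ≫ f) ι) (pullback.snd (p₁ ≫ f) ι ≫ ι) ⟨_, rfl⟩
    have hab : (fun a b : {a : pullback (p₁ ≫ f) ι ⟶ Y // a ≫ f = pullback.snd (p₁ ≫ f) ι ≫ ι} =>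
        ∃ c : pullback (p₁ ≫ f) ι ⟶ Γ, c ≫ p₁ = a.1 ∧ c ≫ p₂ = b.1)
        ⟨pullback.fst (p₁ ≫ f) ι ≫ p₁, by rw [Category.assoc, pullback.condition]⟩
        ⟨pullback.fst (p₁ ≫ f) ι ≫ p₂, by rw [Category.assoc, ← h, pullback.condition]⟩ :=
      ⟨pullback.fst (p₁ ≫ f) ι, rfl, rfl⟩
    obtain ⟨c, hc₁, hc₂⟩ := E.symm hab
    exact ⟨c, hc₁, hc₂⟩)
  -- transitivity
  have hflat : Flat (pullback.fst p₂ p₁ ≫ p₁ ≫ f) := inferInstance
  obtain ⟨τ, hτ₁, hτ₂⟩ := key (pullback.fst p₂ p₁ ≫ p₁ ≫ f) (pullback.fst p₂ p₁ ≫ p₁)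
    (pullback.snd p₂ p₁ ≫ p₂) (Category.assoc _ _ _)
    (by rw [Category.assoc, ← h, ← pullback.condition_assoc, h]) (by
    set w := pullback.fst p₂ p₁ ≫ p₁ ≫ f with hw
    have E := hK (pullback w ι) (pullback.snd w ι ≫ ι) ⟨_, rfl⟩
    have hcond := pullback.condition (f := w) (g := ι)
    have hab : (fun a b : {a : pullback w ι ⟶ Y // a ≫ f = pullback.snd w ι ≫ ι} =>
        ∃ c : pullback w ι ⟶ Γ, c ≫ p₁ = a.1 ∧ c ≫ p₂ = b.1)
        ⟨pullback.fst w ι ≫ pullback.fst p₂ p₁ ≫ p₁, by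
          rw [Category.assoc, Category.assoc, ← hcond]⟩
        ⟨pullback.fst w ι ≫ pullback.fst p₂ p₁ ≫ p₂, by
          rw [Category.assoc, Category.assoc, ← h, ← hcond]⟩ :=
      ⟨pullback.fst w ι ≫ pullback.fst p₂ p₁, by simp, by simp⟩
    have hbc : (fun a b : {a : pullback w ι ⟶ Y // a ≫ f = pullback.snd w ι ≫ ι} =>
        ∃ c : pullback w ι ⟶ Γ, c ≫ p₁ = a.1 ∧ c ≫ p₂ = b.1)
        ⟨pullback.fst w ι ≫ pullback.fst p₂ p₁ ≫ p₂, by
          rw [Category.assoc, Category.assoc, ← h, ← hcond]⟩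
        ⟨pullback.fst w ι ≫ pullback.snd p₂ p₁ ≫ p₂, by
          rw [Category.assoc, Category.assoc, ← h, ← pullback.condition_assoc, ← h, ← hcond]⟩ :=
      ⟨pullback.fst w ι ≫ pullback.snd p₂ p₁, by simp [pullback.condition], by simp⟩
    obtain ⟨c, hc₁, hc₂⟩ := E.trans hab hbc
    exact ⟨c, hc₁, hc₂⟩)
  intro T t
  refine ⟨?_, ?_, ?_⟩
  · intro a
    exact ⟨a.1 ≫ δ, by rw [Category.assoc, hδ₁, Category.comp_id],
      by rw [Category.assoc, hδ₂, Category.comp_id]⟩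
  · rintro a b ⟨c, hc₁, hc₂⟩
    exact ⟨c ≫ σ, by rw [Category.assoc, hσ₁, hc₂], by rw [Category.assoc, hσ₂, hc₁]⟩
  · rintro a b d ⟨c₁, hc₁, hc₁'⟩ ⟨c₂, hc₂, hc₂'⟩
    refine ⟨pullback.lift c₁ c₂ (hc₁'.trans hc₂.symm) ≫ τ, ?_, ?_⟩
    · rw [Category.assoc, hτ₁, pullback.lift_fst_assoc, hc₁]
    · rw [Category.assoc, hτ₂, pullback.lift_snd_assoc, hc₂']

end Groth.Agent.S13044
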