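import Groth.Statements.S4860
import Groth.Agent.Lib.Helper7Gold
import Mathlib.RingTheory.Localization.InvSubmonoid

set_option autoImplicit false
universe u
open EGA43

namespace Groth.Agent.S4860

/-- For an integral domain B the following are equivalent: a) the localization B_f is a field for some
nonzero f; b) the fraction field of B is a finitely generated B-algebra; c) there is a field
containing B (an injective algebra map from B) which is a finitely generated B-algebra; d) the
generic point of Spec B is open. -/
theorem result (B : Type u) [CommRing B] [IsDomain B] :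
    [∃ f : B, f ≠ 0 ∧ IsField (Localization.Away f),
      Algebra.FiniteType B (FractionRing B),
      ∃ (K : Type u) (_ : Field K) (_ : Algebra B K), Function.Injective (algebraMap B K) ∧ Algebra.FiniteType B K,
      IsOpen ({⟨⊥, Ideal.bot_prime⟩} : Set (PrimeSpectrum B))].TFAE := by
  tfae_have 1 → 2 := by
    rintro ⟨f, hf, hfield⟩
    have hle : Submonoid.powers f ≤ nonZeroDivisors B :=
      Submonoid.powers_le.mpr (mem_nonZeroDivisors_of_ne_zero hf)
    have hinj : Function.Injective (algebraMap B (Localization.Away f)) :=
      IsLocalization.injective _ hle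
    let _ := hfield.toField
    have hfr : IsFractionRing B (Localization.Away f) := by
      refine IsLocalization.of_le (Submonoid.powers f) (nonZeroDivisors B) hle (fun r hr => ?_)
      exact IsUnit.mk0 _ ((map_ne_zero_iff _ hinj).mpr (nonZeroDivisors.ne_zero hr))
    have hft : Algebra.FiniteType B (Localization.Away f) :=
      IsLocalization.finiteType_of_monoid_fg (Submonoid.powers f) _
    exact hft.equiv (IsLocalization.algEquiv (nonZeroDivisors B) (Localization.Away f)
      (FractionRing B))
  tfae_have 2 → 3 := by
    intro h
    exact ⟨FractionRing B, inferInstance, inferInstance, IsFractionRing.injective B _, h⟩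
  tfae_have 3 → 1 := by
    rintro ⟨K, hK, hA, hinj, hft⟩
    exact Groth.Agent.Lib.Helper7.exists_isField_away_of_finiteType_field K hinj
  tfae_have 1 → 4 := by
    rintro ⟨f, hf, hfield⟩
    have hmem := (Groth.Agent.Lib.Helper7.isField_away_iff f hf).mp hfield
    have : ({⟨⊥, Ideal.bot_prime⟩} : Set (PrimeSpectrum B)) =
        (PrimeSpectrum.basicOpen f : Set (PrimeSpectrum B)) := by
      ext p
      simp only [Set.mem_singleton_iff, SetLike.mem_coe, PrimeSpectrum.mem_basicOpen]
      constructor
      · rintro rfl
        simpa using hf
      · intro hfp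
        apply PrimeSpectrum.ext
        by_contra hp0
        exact hfp (hmem p.asIdeal p.2 hp0)
    rw [this]
    exact (PrimeSpectrum.basicOpen f).isOpen
  tfae_have 4 → 1 := by
    intro hopen
    obtain ⟨_, ⟨f, rfl⟩, hbot, hsub⟩ := PrimeSpectrum.isTopologicalBasis_basic_opens
      |>.exists_subset_of_mem_open (Set.mem_singleton _) hopen
    have hf : f ≠ 0 := by
      intro h0
      rw [h0] at hbot
      simp at hbot
    refine ⟨f, hf, (Groth.Agent.Lib.Helper7.isField_away_iff f hf).mpr (fun p hp hp0 => ?_)⟩
    by_contra hfp
    have : (⟨p, hp⟩ : PrimeSpectrum B) ∈ ({⟨⊥, Ideal.bot_prime⟩} : Set (PrimeSpectrum B)) :=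
      hsub (show (⟨p, hp⟩ : PrimeSpectrum B) ∈ PrimeSpectrum.basicOpen f from hfp)
    rw [Set.mem_singleton_iff] at this
    exact hp0 (congrArg PrimeSpectrum.asIdeal this)
  tfae_finish

end Groth.Agent.S4860
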