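import Groth.Statements.S4861
import Groth.Agent.Lib.Helper7Gold

set_option autoImplicit false
universe u
open EGA43

namespace Groth.Agent.S4861

/-- For a Noetherian integral domain B the following are equivalent (and hence equivalent to: the
fraction field of B is a finitely generated B-algebra; the generic point of Spec B is open): a) the
localization B_f is a field for some nonzero f; e) Spec B is finite; f) B is semi-local (finitely
many maximal ideals) of Krull dimension at most 1. -/
theorem result (B : Type u) [CommRing B] [IsDomain B]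
    [IsNoetherianRing B] :
    [∃ f : B, f ≠ 0 ∧ IsField (Localization.Away f),
      Finite (PrimeSpectrum B),
      Finite (MaximalSpectrum B) ∧ ringKrullDim B ≤ 1].TFAE := by
  tfae_have 1 → 2 := by
    rintro ⟨f, hf, hfield⟩
    have hmem := (Groth.Agent.Lib.Helper7.isField_away_iff f hf).mp hfield
    have hfin : (insert (⊥ : Ideal B) (Ideal.span {f}).minimalPrimes).Finite :=
      (Ideal.finite_minimalPrimes_of_isNoetherianRing B (Ideal.span {f})).insert _
    have hsub : ∀ p : PrimeSpectrum B,
        p.asIdeal ∈ insert (⊥ : Ideal B) (Ideal.span {f}).minimalPrimes := by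
      intro p
      by_cases hp0 : p.asIdeal = ⊥
      · exact Set.mem_insert_iff.mpr (Or.inl hp0)
      · refine Set.mem_insert_iff.mpr (Or.inr ?_)
        have hfp : Ideal.span {f} ≤ p.asIdeal :=
          (Ideal.span_singleton_le_iff_mem _).mpr (hmem _ p.2 hp0)
        obtain ⟨q, hq, hqp⟩ := Ideal.exists_minimalPrimes_le hfp
        have hqprime : q.IsPrime := hq.1.1
        have hq0 : q ≠ ⊥ := by
          intro h0
          have : f ∈ q := hq.1.2 (Ideal.mem_span_singleton_self f)
          rw [h0, Ideal.mem_bot] at this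
          exact hf this
        have hqmax : q.IsMaximal :=
          Groth.Agent.Lib.Helper7.isMaximal_of_forall_mem f hf hmem q hq0
        have : q = p.asIdeal := hqmax.eq_of_le p.2.ne_top hqp
        rw [← this]
        exact hq
    have : Finite ↥(insert (⊥ : Ideal B) (Ideal.span {f}).minimalPrimes) := hfin.to_subtype
    refine Finite.of_injective
      (fun p : PrimeSpectrum B =>
        (⟨p.asIdeal, hsub p⟩ : ↥(insert (⊥ : Ideal B) (Ideal.span {f}).minimalPrimes))) ?_
    intro p q hpq
    exact PrimeSpectrum.ext (congrArg Subtype.val hpq)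
  tfae_have 2 → 1 := by
    intro hfin
    have hS : {p : Ideal B | p.IsPrime ∧ p ≠ ⊥}.Finite := by
      refine (Set.finite_range (fun p : PrimeSpectrum B => p.asIdeal)).subset ?_
      rintro p ⟨hp, -⟩
      exact ⟨⟨p, hp⟩, rfl⟩
    obtain ⟨f, hf, hfS⟩ := Groth.Agent.Lib.Helper7.exists_ne_zero_mem_of_finite _ hS
      (fun p hp => hp.2)
    exact ⟨f, hf, (Groth.Agent.Lib.Helper7.isField_away_iff f hf).mpr
      (fun p hp hp0 => hfS p ⟨hp, hp0⟩)⟩
  tfae_have 1 → 3 := by
    intro h1
    have h2 : Finite (PrimeSpectrum B) := tfae_1_to_2 h1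
    obtain ⟨f, hf, hfield⟩ := h1
    have hmem := (Groth.Agent.Lib.Helper7.isField_away_iff f hf).mp hfield
    refine ⟨Finite.of_injective MaximalSpectrum.toPrimeSpectrum
      MaximalSpectrum.toPrimeSpectrum_injective, ?_⟩
    rw [ringKrullDim_le_iff_height_le]
    intro p hp
    have := Groth.Agent.Lib.Helper7.height_le_one_of_forall_mem f hf hmem p
    exact_mod_cast this
  tfae_have 3 → 1 := by
    rintro ⟨hfin, hdim⟩
    have hS : {p : Ideal B | p.IsMaximal ∧ p ≠ ⊥}.Finite := by
      refine (Set.finite_range (fun p : MaximalSpectrum B => p.asIdeal)).subset ?_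
      rintro p ⟨hp, -⟩
      exact ⟨⟨p, hp⟩, rfl⟩
    obtain ⟨f, hf, hfS⟩ := Groth.Agent.Lib.Helper7.exists_ne_zero_mem_of_finite _ hS
      (fun p hp => hp.2)
    refine ⟨f, hf, (Groth.Agent.Lib.Helper7.isField_away_iff f hf).mpr (fun p hp hp0 => ?_)⟩
    -- `p` is maximal since `dim B ≤ 1`
    obtain ⟨m, hm, hpm⟩ := Ideal.exists_le_maximal p hp.ne_top
    have hpm' : p = m := by
      by_contra hne
      have hlt : p < m := lt_of_le_of_ne hpm hne
      have hmp : m.IsPrime := hm.isPrime
      have h1 : (⊥ : Ideal B).height < p.height :=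
        Ideal.height_strict_mono_of_isPrime (bot_lt_iff_ne_bot.mpr hp0)
      have h2 : p.height < m.height := Ideal.height_strict_mono_of_isPrime hlt
      have h3 : (m.height : WithBot ℕ∞) ≤ 1 := (ringKrullDim_le_iff_height_le 1).mp hdim hmp
      have h3' : m.height ≤ 1 := by exact_mod_cast h3
      have h4 : (1 : ℕ∞) ≤ p.height := Order.one_le_iff_pos.mpr (lt_of_le_of_lt bot_le h1)
      exact absurd (lt_of_le_of_lt h4 h2) (not_lt.mpr h3')
    exact hfS p ⟨hpm' ▸ hm, hp0⟩
  tfae_finish

end Groth.Agent.S4861
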