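import Groth.Statements.S0943
import Mathlib.CategoryTheory.Triangulated.Yoneda
import Mathlib.CategoryTheory.Triangulated.HomologicalFunctor
import Mathlib.CategoryTheory.Limits.Preserves.Shapes.Products

set_option autoImplicit false
universe u
open CategoryTheory
open CohSite

namespace Groth.Agent.S0943

open Opposite CategoryTheory.Limits

section
universe v' u'
open Pretriangulated
variable {T : Type u'} [Category.{v'} T] [Preadditive T] [HasZeroObject T] [HasShift T ℤ]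
    [∀ n : ℤ, (shiftFunctor T n).Additive] [Pretriangulated T]
    (K : ℕ → T) (t : ∀ n, K (n + 1) ⟶ K n) [HasProduct K] (L : T) (a : ∀ n, L ⟶ K n)

/-- the shifted product is a product of the shifts -/
noncomputable def shiftProdIsLimit (k : ℤ) :
    IsLimit (Fan.mk ((∏ᶜ K)⟦k⟧) (fun n => (Pi.π K n)⟦k⟧')) :=
  (isLimitMapConeFanMkEquiv (shiftFunctor T k) K (Pi.π K))
    (isLimitOfPreserves (shiftFunctor T k) (productIsProduct K))


variable {K t L a}

theorem milnor_general (hL : CohCx.IsRlimVia K t L a) (P : T) (m : ℤ) :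
    (∀ x : ∀ n, P ⟶ (K n)⟦m⟧, (∀ n, x (n + 1) ≫ (t n)⟦m⟧' = x n) →
      ∃ y : P ⟶ L⟦m⟧, ∀ n, y ≫ (a n)⟦m⟧' = x n) ∧
    (CohCx.LimOneIsZero (fun n => P ⟶ (K n)⟦m - 1⟧)
        (fun n => Preadditive.rightComp _ ((t n)⟦m - 1⟧')) →
      ∀ y : P ⟶ L⟦m⟧, (∀ n, y ≫ (a n)⟦m⟧' = 0) → y = 0) := by
  obtain ⟨c, hc⟩ := hL
  let α : L ⟶ ∏ᶜ K := Pi.lift a
  let φ : ∏ᶜ K ⟶ ∏ᶜ K := Pi.lift fun n => Pi.π K n - Pi.π K (n + 1) ≫ t n
  let F := preadditiveCoyoneda.obj (op P)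
  have hπ₁ : ∀ n, α ≫ Pi.π K n = a n := fun n => Pi.lift_π _ _
  have hπ₂ : ∀ n, φ ≫ Pi.π K n = Pi.π K n - Pi.π K (n + 1) ≫ t n := fun n => Pi.lift_π _ _
  constructor
  · intro x hx
    let x₂ : P ⟶ (∏ᶜ K)⟦m⟧ := Fan.IsLimit.lift (shiftProdIsLimit K m) x
    have hx₂ : ∀ n, x₂ ≫ (Pi.π K n)⟦m⟧' = x n := fun n =>
      Fan.IsLimit.fac (shiftProdIsLimit K m) x n
    have h0 : x₂ ≫ φ⟦m⟧' = 0 := by
      apply Fan.IsLimit.hom_ext (shiftProdIsLimit K m)
      intro n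
      change (x₂ ≫ φ⟦m⟧') ≫ (Pi.π K n)⟦m⟧' = 0 ≫ (Pi.π K n)⟦m⟧'
      rw [Category.assoc, ← Functor.map_comp, hπ₂, Functor.map_sub, Preadditive.comp_sub,
        Functor.map_comp, ← Category.assoc, hx₂, hx₂, hx, sub_self, zero_comp]
    have hex := (F.homologySequence_exact₂ _ hc m)
    rw [ShortComplex.ab_exact_iff] at hex
    obtain ⟨y, hy⟩ := hex x₂ h0
    have hy' : (show P ⟶ L⟦m⟧ from y) ≫ α⟦m⟧' = x₂ := hy
    refine ⟨y, fun n => ?_⟩
    rw [← hπ₁ n, Functor.map_comp, ← Category.assoc, hy', hx₂]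
  · intro hlim y hy
    have h0 : y ≫ α⟦m⟧' = 0 := by
      apply Fan.IsLimit.hom_ext (shiftProdIsLimit K m)
      intro n
      change (y ≫ α⟦m⟧') ≫ (Pi.π K n)⟦m⟧' = 0 ≫ (Pi.π K n)⟦m⟧'
      rw [Category.assoc, ← Functor.map_comp, hπ₁, hy, zero_comp]
    have hex := (F.homologySequence_exact₁ _ hc (m - 1) m (by omega))
    rw [ShortComplex.ab_exact_iff] at hex
    obtain ⟨z, hz⟩ := hex y h0
    obtain ⟨z, rfl⟩ : ∃ z' : P ⟶ (∏ᶜ K)⟦m - 1⟧, z' = z := ⟨z, rfl⟩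
    obtain ⟨b, hb⟩ := hlim (fun n => z ≫ (Pi.π K n)⟦m - 1⟧')
    let b₂ : P ⟶ (∏ᶜ K)⟦m - 1⟧ := Fan.IsLimit.lift (shiftProdIsLimit K (m - 1)) b
    have hb₂ : ∀ n, b₂ ≫ (Pi.π K n)⟦m - 1⟧' = b n := fun n =>
      Fan.IsLimit.fac (shiftProdIsLimit K (m - 1)) b n
    have hz₂ : z = b₂ ≫ φ⟦m - 1⟧' := by
      apply Fan.IsLimit.hom_ext (shiftProdIsLimit K (m - 1))
      intro n
      change z ≫ (Pi.π K n)⟦m - 1⟧' = (b₂ ≫ φ⟦m - 1⟧') ≫ (Pi.π K n)⟦m - 1⟧'
      rw [Category.assoc, ← Functor.map_comp, hπ₂, Functor.map_sub, Preadditive.comp_sub,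
        Functor.map_comp, ← Category.assoc, hb₂, hb₂]
      exact (congrFun hb n).symm
    have hcomp := F.comp_homologySequenceδ _ hc (m - 1) m (by omega)
    have h3 := congrArg (fun ψ => (ConcreteCategory.hom ψ) b₂) hcomp
    rw [← hz, hz₂]
    exact h3

end


open CategoryTheory.Limits in
/-- Abelian sheaves; the short exact sequence 0 -> R^1 lim H^{m-1}(U, K_n) -> H^m(U, R lim K_n) -> lim
H^m(U, K_n) -> 0 rendered by two consequences: let (K_n) be an inverse system in the derived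
category of abelian sheaves on a site with a derived limit L through maps a_n : L -> K_n, U an
object and m an integer. Then every compatible family of classes in the H^m(U, K_n) lifts to H^m(U,
L), and if the system H^{m-1}(U, K_n) has vanishing R^1 lim the lift is unique (a class with zero
images is zero). -/
theorem result {C : Type u} [SmallCategory C] {J : GrothendieckTopology C}
    [HasDerivedCategory.{u} (Sheaf J AddCommGrpCat.{u})]
    (K : ℕ → DerivedCategory (Sheaf J AddCommGrpCat.{u})) (t : ∀ n, K (n + 1) ⟶ K n) [HasProduct K]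
    (L : DerivedCategory (Sheaf J AddCommGrpCat.{u})) (a : ∀ n, L ⟶ K n) (hL : CohCx.IsRlimVia K t L a)
    (U : C) (m : ℤ) :
    (∀ x : ∀ n, CohCx.HDU (K n) m U,
      (∀ n, x (n + 1) ≫ (shiftFunctor _ m).map (t n) = x n) →
      ∃ y : CohCx.HDU L m U, ∀ n, y ≫ (shiftFunctor _ m).map (a n) = x n) ∧
    (CohCx.LimOneIsZero (fun n => CohCx.HDU (K n) (m - 1) U)
        (fun n => Preadditive.rightComp _ ((shiftFunctor _ (m - 1)).map (t n))) →
      ∀ y : CohCx.HDU L m U, (∀ n, y ≫ (shiftFunctor _ m).map (a n) = 0) → y = 0) := by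
  have h := milnor_general hL ((DerivedCategory.singleFunctor (Sheaf J AddCommGrpCat.{u}) 0).obj
    (CohCx.freeSheaf J U)) m
  exact h

end Groth.Agent.S0943
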