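import Groth.Statements.S0484
import Mathlib
import Groth.Agent.Lib.Helper1Groth
-- import your own Groth.Agent.* helpers here

set_option autoImplicit false
universe u
open CategoryTheory
open CohSite

namespace Groth.Agent.S0484

section helpers
open CategoryTheory CategoryTheory.Limits

variable {C : Type u} [SmallCategory C] (J : GrothendieckTopology C) (R : Sheaf J RingCat.{u})

noncomputable instance preservesColimitsOfShape_toSheaf (K : Type u) [SmallCategory K] :
    PreservesColimitsOfShape K (SheafOfModules.toSheaf.{u} R) := by
  constructor
  intro F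
  let a := PresheafOfModules.sheafification.{u} (𝟙 R.obj)
  let e : F ≅ (F ⋙ SheafOfModules.forget R) ⋙ a :=
    Functor.isoWhiskerLeft F
      (asIso (PresheafOfModules.sheafificationAdjunction (𝟙 R.obj)).counit).symm
  have h1 : PreservesColimit ((F ⋙ SheafOfModules.forget R) ⋙ a) (SheafOfModules.toSheaf.{u} R) := by
    have hc := isColimitOfPreserves a (colimit.isColimit (F ⋙ SheafOfModules.forget R))
    apply preservesColimit_of_preserves_colimit_cocone hc
    have : PreservesColimitsOfShape K (a ⋙ SheafOfModules.toSheaf.{u} R) :=
      preservesColimitsOfShape_of_natIso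
        (PresheafOfModules.sheafificationCompToSheaf.{u} (𝟙 R.obj)).symm
    exact isColimitOfPreserves (a ⋙ SheafOfModules.toSheaf.{u} R)
      (colimit.isColimit (F ⋙ SheafOfModules.forget R))
  exact preservesColimit_of_iso_diagram _ e.symm

end helpers

/-- For a sheaf of rings O on a small site, the category of O-modules has exact filtered colimits and a
generator, so it is a Grothendieck abelian category. -/
theorem result {C : Type u} [SmallCategory C] (J : GrothendieckTopology C)
    (R : Sheaf J RingCat.{u}) : IsGrothendieckAbelian.{u} (SheafOfModules.{u} R) := by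
  have hrefl : Limits.ReflectsFiniteLimits (SheafOfModules.toSheaf.{u} R) :=
    ⟨fun K _ _ => Limits.reflectsLimitsOfShape_of_reflectsIsomorphisms⟩
  have ab5 : AB5OfSize.{u,u} (SheafOfModules.{u} R) :=
    ⟨fun K _ _ => HasExactColimitsOfShape.domain_of_functor K (SheafOfModules.toSheaf.{u} R)⟩
  have sep : HasSeparator (SheafOfModules.{u} R) := by
    obtain ⟨S, hS⟩ := Groth.Agent.Lib.Helper1.hasSeparator_presheafOfModules R.obj
    refine ⟨(PresheafOfModules.sheafification.{u} (𝟙 R.obj)).obj S, ?_⟩
    rw [isSeparator_def] at hS ⊢
    intro M N f₁ f₂ h
    apply (SheafOfModules.forget R).map_injective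
    apply hS
    intro g
    let adj := PresheafOfModules.sheafificationAdjunction.{u} (𝟙 R.obj)
    have := h ((adj.homEquiv S M).symm g)
    rw [← adj.homEquiv_naturality_right_symm, ← adj.homEquiv_naturality_right_symm] at this
    exact (adj.homEquiv S N).symm.injective this
  exact { locallySmall := inferInstance, hasFilteredColimitsOfSize := inferInstance,
          ab5OfSize := ab5, hasSeparator := sep }

end Groth.Agent.S0484
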