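import Groth.Statements.S0930
import Mathlib
-- import your own Groth.Agent.* helpers here

set_option autoImplicit false
universe w v u
open CategoryTheory
attribute [local instance] HasDerivedCategory.standard
open CohTop

namespace Groth.Agent.S0930

open CategoryTheory.Limits TopologicalSpace

section
variable {C : Type*} [Category C] [Abelian C] [HasDerivedCategory C]
    [EnoughInjectives C] {D : Type*} [Category D] [Abelian D] [HasDerivedCategory D]
    (F : C ⥤ D) [F.Additive]

theorem isIso_unit_of_injective (J : CochainComplex C ℤ) (d : ℤ) (hJ : J.IsStrictlyGE d)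
    (hinj : ∀ k, Injective (J.X k)) :
    IsIso (F.rightDerivedFunctorPlusUnit.app ((HomotopyCategory.Plus.quotient C).obj ⟨J, d, hJ⟩)) := by
  let L' : CochainComplex (InjectiveObject C) ℤ :=
    HomologicalComplex.liftObjectProperty _ J hinj
  have hL' : L'.IsStrictlyGE d := by
    rwa [← CochainComplex.isStrictlyGE_mapHomologicalComplex_obj_iff _ (InjectiveObject.ι _)]
  let J' : CochainComplex.Plus (InjectiveObject C) := ⟨L', d, hL'⟩
  have : IsIso (F.rightDerivedFunctorPlusUnit.app
      ((HomotopyCategory.Plus.quotient C).obj
        ((InjectiveObject.ι C).mapCochainComplexPlus.obj J'))) := inferInstance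
  exact this

end

theorem comp_iso {A B C : Type u} [Category.{v} A] [Category.{v} B] [Category.{v} C]
    [Abelian A] [Abelian B] [Abelian C]
    [HasDerivedCategory.{w} A] [HasDerivedCategory.{w} B] [HasDerivedCategory.{w} C]
    [EnoughInjectives A] [EnoughInjectives B]
    (F : A ⥤ B) [F.Additive] (G : B ⥤ C) [G.Additive] (H : A ⥤ C) [H.Additive] (e : F ⋙ G ≅ H)
    [F.PreservesInjectiveObjects] :
    Nonempty (F.rightDerivedFunctorPlus ⋙ G.rightDerivedFunctorPlus ≅ H.rightDerivedFunctorPlus) := by
  let RF := F.rightDerivedFunctorPlus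
  let RG := G.rightDerivedFunctorPlus
  let α : H.mapHomotopyCategoryPlus ⋙ DerivedCategory.Plus.Qh ⟶ DerivedCategory.Plus.Qh ⋙ (RF ⋙ RG) :=
    Functor.whiskerRight (Functor.mapHomotopyCategoryPlusCompIso e).inv DerivedCategory.Plus.Qh
        ≫ (Functor.associator _ _ _).hom
        ≫ Functor.whiskerLeft F.mapHomotopyCategoryPlus G.rightDerivedFunctorPlusUnit
        ≫ (Functor.associator _ _ _).inv
        ≫ Functor.whiskerRight F.rightDerivedFunctorPlusUnit G.rightDerivedFunctorPlus
        ≫ (Functor.associator _ _ _).hom
  have hder : (HomotopyCategory.Plus.localizerMorphism A).Derives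
      (H.mapHomotopyCategoryPlus ⋙ DerivedCategory.Plus.Qh) := by
    intro X Y f hf
    have : IsIso f := hf
    infer_instance
  have h : (RF ⋙ RG).IsRightDerivedFunctor α (HomotopyCategory.Plus.quasiIso A) := by
    apply hder.isRightDerivedFunctor_of_isIso
    intro X₁
    let Y := (HomotopyCategory.Plus.localizerMorphism A).functor.obj X₁
    have i1 : IsIso (F.rightDerivedFunctorPlusUnit.app Y) := by
      dsimp only [Y]
      infer_instance
    have i2 : IsIso (G.rightDerivedFunctorPlusUnit.app (F.mapHomotopyCategoryPlus.obj Y)) := by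
      obtain ⟨d, hd⟩ : ∃ d : ℤ, CochainComplex.IsStrictlyGE X₁.obj.as d :=
        (HomotopyCategory.plus_quotient_obj_iff _).1 X₁.property
      let K : CochainComplex A ℤ := ((InjectiveObject.ι A).mapHomologicalComplex _).obj X₁.obj.as
      let J : CochainComplex B ℤ := (F.mapHomologicalComplex _).obj K
      have hK : K.IsStrictlyGE d := by dsimp only [K]; infer_instance
      have hJ : J.IsStrictlyGE d := by dsimp only [J]; infer_instance
      have hinj : ∀ k, Injective (J.X k) := by
        intro k
        have : Injective (K.X k) := (X₁.obj.as.X k).property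
        exact F.injective_obj (K.X k)
      exact isIso_unit_of_injective G J d hJ hinj
    simp only [α, NatTrans.comp_app, Functor.whiskerRight_app, Functor.whiskerLeft_app,
      Functor.associator_hom_app, Functor.associator_inv_app, Category.comp_id, Category.id_comp]
    infer_instance
  exact ⟨Functor.rightDerivedUnique (RF ⋙ RG) H.rightDerivedFunctorPlus α H.rightDerivedFunctorPlusUnit
    (HomotopyCategory.Plus.quasiIso A)⟩


instance push_preservesInjectiveObjects {X Y : TopCat.{u}} (f : X ⟶ Y) :
    (CohTop.push f).PreservesInjectiveObjects := by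
  have : PreservesFiniteLimits (TopCat.Sheaf.pullback AddCommGrpCat.{u} f) :=
    CategoryTheory.Functor.SmallCategories.instPreservesFiniteLimitsSheafSheafPullbackOfRepresentablyFlat
      (Opens.map f) AddCommGrpCat.{u} (Opens.grothendieckTopology ↑Y) (Opens.grothendieckTopology ↑X)
  have h2 : PreservesLimitsOfShape WalkingCospan (TopCat.Sheaf.pullback AddCommGrpCat.{u} f) :=
    PreservesFiniteLimits.preservesFiniteLimits _
  have : (TopCat.Sheaf.pullback AddCommGrpCat.{u} f).PreservesMonomorphisms :=
    preservesMonomorphisms_of_preservesLimitsOfShape _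
  exact @Functor.preservesInjectiveObjects_of_adjunction_of_preservesMonomorphisms _ _ _ _ _ _
    (TopCat.Sheaf.pullbackPushforwardAdjunction AddCommGrpCat.{u} f) this

/-- For continuous maps f : X -> Y and g : Y -> Z, the composite of the right derived functors Rf_* :
D^+(X) -> D^+(Y) and Rg_* : D^+(Y) -> D^+(Z) is isomorphic to R(g ∘ f)_* (existence of an
isomorphism of functors between bounded below derived categories). -/
theorem result {X Y Z : TopCat.{u}} (f : X ⟶ Y) (g : Y ⟶ Z) :
    Nonempty ((CohTop.push f).rightDerivedFunctorPlus ⋙ (CohTop.push g).rightDerivedFunctorPlus ≅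
      (CohTop.push (f ≫ g)).rightDerivedFunctorPlus) := by
  exact comp_iso (CohTop.push f) (CohTop.push g) (CohTop.push (f ≫ g)) (Iso.refl _)

end Groth.Agent.S0930
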