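import Groth.Statements.S12229
import Mathlib
-- import your own Groth.Agent.* helpers here

set_option autoImplicit false
universe w w' v v' u u'
open CategoryTheory CategoryTheory.Limits
open CohDer

namespace Groth.Agent.S12229


theorem quasiIso_τ₁ {C : Type u} [Category.{v} C] [Abelian C]
    {S S' : ShortComplex (CochainComplex C ℤ)} (hS : S.ShortExact) (hS' : S'.ShortExact)
    (φ : S ⟶ S') (h₂ : QuasiIso φ.τ₂) (h₃ : QuasiIso φ.τ₃) : QuasiIso φ.τ₁ := by
  have : HasDerivedCategory C := MorphismProperty.HasLocalization.standard _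
  let ψ := DerivedCategory.triangleOfSES.map hS hS' φ
  have hT := DerivedCategory.triangleOfSES_distinguished hS
  have hT' := DerivedCategory.triangleOfSES_distinguished hS'
  have i₂ : IsIso ψ.hom₂ := by
    show IsIso (DerivedCategory.Q.map φ.τ₂); infer_instance
  have i₃ : IsIso ψ.hom₃ := by
    show IsIso (DerivedCategory.Q.map φ.τ₃); infer_instance
  have := Pretriangulated.isIso₃_of_isIso₁₂ ((Pretriangulated.rotate _).map ψ)
    (Pretriangulated.rot_of_distTriang _ hT) (Pretriangulated.rot_of_distTriang _ hT')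
    (by show IsIso ψ.hom₂; infer_instance) (by show IsIso ψ.hom₃; infer_instance)
  have this : IsIso ((shiftFunctor (DerivedCategory C) (1:ℤ)).map (DerivedCategory.Q.map φ.τ₁)) := this
  have i₁ : IsIso (DerivedCategory.Q.map φ.τ₁) := isIso_of_reflects_iso _ (shiftFunctor (DerivedCategory C) (1:ℤ))
  exact (DerivedCategory.isIso_Q_map_iff_quasiIso (φ := φ.τ₁)).1 i₁

open CochainComplex.Plus.modelCategoryQuillen in
theorem exists_resolution {C : Type u} [Category.{v} C] [Abelian C] [EnoughInjectives C]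
    (S : ShortComplex (CochainComplex C ℤ)) (hS : S.ShortExact) (n : ℤ)
    [S.X₁.IsStrictlyGE n] [S.X₂.IsStrictlyGE n] [S.X₃.IsStrictlyGE n] :
    ∃ (S' : ShortComplex (CochainComplex C ℤ)) (_ : S'.ShortExact) (φ : S ⟶ S') (d : ℤ),
      QuasiIso φ.τ₁ ∧ QuasiIso φ.τ₂ ∧ QuasiIso φ.τ₃ ∧
      (∀ k, Injective (S'.X₁.X k)) ∧ (∀ k, Injective (S'.X₂.X k)) ∧ (∀ k, Injective (S'.X₃.X k)) ∧
      S'.X₁.IsStrictlyGE d ∧ S'.X₂.IsStrictlyGE d ∧ S'.X₃.IsStrictlyGE d ∧
      ∀ k, Nonempty (S'.map (HomologicalComplex.eval C (ComplexShape.up ℤ) k)).Splitting := by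
  obtain ⟨J₃, q₃, hq₃m, hq₃, hJ₃, hJ₃b⟩ := exists_mono_quasiIso_injective S.X₃ (n-1) n
  have : S.X₂.IsStrictlyGE (n - 1 + 1) := S.X₂.isStrictlyGE_of_ge (n-1+1) n (by lia)
  obtain ⟨J₂, hJ₂b, ι, π, hιm, hι, hπ, fac⟩ := cm5a (S.g ≫ q₃) (n - 1)
  have hπe : Epi π := hπ.epi
  let S' : ShortComplex (CochainComplex C ℤ) := ShortComplex.mk (kernel.ι π) π (kernel.condition π)
  have hS' : S'.ShortExact :=
    { exact := ShortComplex.exact_kernel π, mono_f := inferInstanceAs (Mono (kernel.ι π)), epi_g := hπe }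
  have hzero : (S.f ≫ ι) ≫ π = 0 := by
    rw [Category.assoc, fac, ← Category.assoc, S.zero, zero_comp]
  let φ : S ⟶ S' :=
    { τ₁ := kernel.lift π (S.f ≫ ι) hzero, τ₂ := ι, τ₃ := q₃,
      comm₁₂ := by simp [S'], comm₂₃ := by simp [S', fac] }
  have hinjker : ∀ k, Injective ((kernel π).X k) := fun k =>
    Injective.of_iso (asIso (kernelComparison π (HomologicalComplex.eval _ _ k))).symm (hπ k).2
  have hsplit : ∀ k, Nonempty (S'.map (HomologicalComplex.eval C (ComplexShape.up ℤ) k)).Splitting := by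
    intro k
    have hk := (HomologicalComplex.shortExact_iff_degreewise_shortExact S').1 hS' k
    have : Injective ((S'.map (HomologicalComplex.eval C (ComplexShape.up ℤ) k)).X₁) := hinjker k
    have := hk.mono_f
    exact ⟨ShortComplex.Splitting.ofExactOfRetraction _ hk.exact
      (Injective.factorThru (𝟙 _) (S'.map (HomologicalComplex.eval C (ComplexShape.up ℤ) k)).f)
      (Injective.comp_factorThru _ _) hk.epi_g⟩
  refine ⟨S', hS', φ, n - 1, quasiIso_τ₁ hS hS' φ hι hq₃, hι, hq₃, hinjker, ?_, hJ₃, ?_, hJ₂b, hJ₃b, hsplit⟩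
  · intro k
    obtain ⟨σ⟩ := hsplit k
    have h1 : Injective ((kernel π).X k) := hinjker k
    have h3 : Injective (J₃.X k) := hJ₃ k
    have : Injective ((kernel π).X k ⊞ J₃.X k) := inferInstance
    exact Injective.of_iso σ.isoBinaryBiproduct.symm this
  · rw [CochainComplex.isStrictlyGE_iff]
    intro i hi
    rw [IsZero.iff_id_eq_zero, ← cancel_mono ((kernel.ι π).f i)]
    apply (J₂.isZero_of_isStrictlyGE (n-1) i).eq_of_tgt


theorem shortExact_map {C : Type u} [Category.{v} C] [Abelian C]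
    {D : Type u'} [Category.{v'} D] [Abelian D] (F : C ⥤ D) [F.Additive]
    (S' : ShortComplex (CochainComplex C ℤ))
    (hsplit : ∀ k, Nonempty (S'.map (HomologicalComplex.eval C (ComplexShape.up ℤ) k)).Splitting) :
    (S'.map (F.mapHomologicalComplex (ComplexShape.up ℤ))).ShortExact := by
  apply HomologicalComplex.shortExact_of_degreewise_shortExact
  intro k
  obtain ⟨σ⟩ := hsplit k
  exact (σ.map F).shortExact


section
variable {C : Type u} [Category.{v} C] [Abelian C] [HasDerivedCategory.{w} C]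
    [EnoughInjectives C] {D : Type u'} [Category.{v'} D] [Abelian D] [HasDerivedCategory.{w'} D]
    (F : C ⥤ D) [F.Additive]

/-- the unit at a bounded below complex. -/
noncomputable def τ (K : CochainComplex.Plus C) :
    DerivedCategory.Q.obj ((F.mapHomologicalComplex (ComplexShape.up ℤ)).obj K.obj) ⟶
      DerivedCategory.Plus.ι.obj (F.rightDerivedFunctorPlus.obj
        (DerivedCategory.Plus.Qh.obj ((HomotopyCategory.Plus.quotient C).obj K))) :=
  DerivedCategory.Plus.ι.map (F.rightDerivedFunctorPlusUnit.app ((HomotopyCategory.Plus.quotient C).obj K))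

theorem τ_naturality {K L : CochainComplex.Plus C} (a : K ⟶ L) :
    DerivedCategory.Q.map ((F.mapHomologicalComplex (ComplexShape.up ℤ)).map a.hom) ≫ τ F L =
      τ F K ≫ DerivedCategory.Plus.ι.map (F.rightDerivedFunctorPlus.map
        (DerivedCategory.Plus.Qh.map ((HomotopyCategory.Plus.quotient C).map a))) := by
  have := F.rightDerivedFunctorPlusUnit.naturality ((HomotopyCategory.Plus.quotient C).map a)
  have := congrArg (fun z => DerivedCategory.Plus.ι.map z) this
  simp only [Functor.map_comp] at this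
  exact this

theorem isIso_τ (J : CochainComplex C ℤ) (d : ℤ) (hJ : J.IsStrictlyGE d) (hinj : ∀ k, Injective (J.X k)) :
    IsIso (τ F ⟨J, d, hJ⟩) := by
  let L' : CochainComplex (InjectiveObject C) ℤ :=
    HomologicalComplex.liftObjectProperty _ J hinj
  have hL' : L'.IsStrictlyGE d := by
    rwa [← CochainComplex.isStrictlyGE_mapHomologicalComplex_obj_iff _ (InjectiveObject.ι _)]
  let J' : CochainComplex.Plus (InjectiveObject C) := ⟨L', d, hL'⟩
  have : IsIso (F.rightDerivedFunctorPlusUnit.app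
      ((HomotopyCategory.Plus.quotient C).obj
        ((InjectiveObject.ι C).mapCochainComplexPlus.obj J'))) := inferInstance
  have : IsIso (F.rightDerivedFunctorPlusUnit.app
      ((HomotopyCategory.Plus.quotient C).obj ⟨J, d, hJ⟩)) := this
  unfold τ
  exact Functor.map_isIso _ _

end


theorem exact_of_iso {𝒜 : Type*} [Category 𝒜] [Abelian 𝒜] {A₁ A₂ A₃ B₁ B₂ B₃ : 𝒜}
    (u : A₁ ⟶ A₂) (v : A₂ ⟶ A₃) (s : B₁ ⟶ B₂) (t : B₂ ⟶ B₃)
    (e₁ : A₁ ≅ B₁) (e₂ : A₂ ≅ B₂) (e₃ : A₃ ≅ B₃)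
    (c₁ : u ≫ e₂.hom = e₁.hom ≫ s) (c₂ : v ≫ e₃.hom = e₂.hom ≫ t)
    (st : s ≫ t = 0) (h : (ShortComplex.mk s t st).Exact) :
    kernelSubobject v = imageSubobject u := by
  have uv : u ≫ v = 0 := by
    rw [← cancel_mono e₃.hom, Category.assoc, c₂, ← Category.assoc, c₁, Category.assoc, st,
      comp_zero, zero_comp]
  have e : ShortComplex.mk u v uv ≅ ShortComplex.mk s t st :=
    ShortComplex.isoMk e₁ e₂ e₃ c₁.symm c₂.symm
  have h' : (ShortComplex.mk u v uv).Exact := (ShortComplex.exact_iff_of_iso e).2 h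
  exact ((ShortComplex.exact_iff_image_eq_kernel _).1 h').symm

theorem transport {𝒜 : Type*} [Category 𝒜] [Abelian 𝒜]
    {A₁ A₂ A₃ A₁' A₂' B₁ B₂ B₃ B₁' B₂' : 𝒜}
    (u : A₁ ⟶ A₂) (v : A₂ ⟶ A₃) (u' : A₁' ⟶ A₂')
    (s : B₁ ⟶ B₂) (t : B₂ ⟶ B₃) (d : B₃ ⟶ B₁') (s' : B₁' ⟶ B₂')
    (e₁ : A₁ ≅ B₁) (e₂ : A₂ ≅ B₂) (e₃ : A₃ ≅ B₃) (e₁' : A₁' ≅ B₁') (e₂' : A₂' ≅ B₂')
    (c₁ : u ≫ e₂.hom = e₁.hom ≫ s) (c₂ : v ≫ e₃.hom = e₂.hom ≫ t)
    (c₃ : u' ≫ e₂'.hom = e₁'.hom ≫ s')
    (st : s ≫ t = 0) (td : t ≫ d = 0) (ds : d ≫ s' = 0)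
    (h₁ : (ShortComplex.mk s t st).Exact) (h₂ : (ShortComplex.mk t d td).Exact)
    (h₃ : (ShortComplex.mk d s' ds).Exact) :
    kernelSubobject v = imageSubobject u ∧ ∃ δ : A₃ ⟶ A₁',
      kernelSubobject δ = imageSubobject v ∧ kernelSubobject u' = imageSubobject δ := by
  refine ⟨exact_of_iso u v s t e₁ e₂ e₃ c₁ c₂ st h₁, e₃.hom ≫ d ≫ e₁'.inv, ?_, ?_⟩
  · exact exact_of_iso v _ t d e₂ e₃ e₁' c₂ (by simp) td h₂
  · exact exact_of_iso _ u' d s' e₃ e₁' e₂' (by simp) c₃ ds h₃


theorem isIso_Qh_map {C : Type u} [Category.{v} C] [Abelian C] [HasDerivedCategory.{w} C]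
    {K L : CochainComplex.Plus C} (q : K ⟶ L) (hq : QuasiIso q.hom) :
    IsIso (DerivedCategory.Plus.Qh.map ((HomotopyCategory.Plus.quotient C).map q)) := by
  apply Localization.inverts DerivedCategory.Plus.Qh (HomotopyCategory.Plus.quasiIso C)
  exact (HomotopyCategory.Plus.quasiIso_iff C _).2
    ((HomotopyCategory.quotient_map_mem_quasiIso_iff q.hom).2
      ((HomologicalComplex.mem_quasiIso_iff _).2 hq))


/-- Let F : C → D be a left exact functor between abelian categories with C having enough injectives,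
and let 0 → X₁ → X₂ → X₃ → 0 be a short exact sequence of bounded below complexes of C (maps f, g
with f a monomorphism, g an epimorphism and ker g = im f, degreewise). Then there is a long exact
cohomology sequence … → H^i(RF X₁) → H^i(RF X₂) → H^i(RF X₃) → H^{i+1}(RF X₁) → …: for every i the
induced sequence is exact at H^i(RF X₂), and there is a connecting morphism H^i(RF X₃) → H^{i+1}(RF
X₁) with exactness at H^i(RF X₃) and at H^{i+1}(RF X₁). Here RF is the right derived functor on the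
bounded below derived category and H^i is computed in D(D); exactness is expressed as equality of
kernel and image subobjects. Existence of such a connecting morphism only; the canonical one coming
from the distinguished triangle of the short exact sequence is not named. -/
theorem result {C : Type u} [Category.{v} C] [Abelian C] [HasDerivedCategory.{w} C]
    [EnoughInjectives C] {D : Type u'} [Category.{v'} D] [Abelian D] [HasDerivedCategory.{w'} D]
    (F : C ⥤ D) [F.Additive] [PreservesFiniteLimits F]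
    {X₁ X₂ X₃ : CochainComplex.Plus C} (f : X₁ ⟶ X₂) (g : X₂ ⟶ X₃)
    (hf : Mono ((CochainComplex.Plus.ι C).map f)) (hg : Epi ((CochainComplex.Plus.ι C).map g))
    (hex : kernelSubobject ((CochainComplex.Plus.ι C).map g) = imageSubobject ((CochainComplex.Plus.ι C).map f))
    (i : ℤ) :
    let Φ := HomotopyCategory.Plus.quotient C ⋙ DerivedCategory.Plus.Qh ⋙ F.rightDerivedFunctorPlus ⋙
      DerivedCategory.Plus.ι ⋙ DerivedCategory.homologyFunctor D i
    let Ψ := HomotopyCategory.Plus.quotient C ⋙ DerivedCategory.Plus.Qh ⋙ F.rightDerivedFunctorPlus ⋙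
      DerivedCategory.Plus.ι ⋙ DerivedCategory.homologyFunctor D (i + 1)
    kernelSubobject (Φ.map g) = imageSubobject (Φ.map f) ∧
      ∃ δ : Φ.obj X₃ ⟶ Ψ.obj X₁,
        kernelSubobject δ = imageSubobject (Φ.map g) ∧ kernelSubobject (Ψ.map f) = imageSubobject δ := by
  intro Φ Ψ
  -- the short exact sequence
  have hzero : f.hom ≫ g.hom = 0 := by
    have h1 : (imageSubobject f.hom).arrow ≫ g.hom = 0 := by
      have h2 : (kernelSubobject g.hom).arrow ≫ g.hom = 0 := kernelSubobject_arrow_comp g.hom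
      have hex' : kernelSubobject g.hom = imageSubobject f.hom := hex
      rw [hex'] at h2
      exact h2
    rw [← imageSubobject_arrow_comp f.hom, Category.assoc, h1, comp_zero]
  let S : ShortComplex (CochainComplex C ℤ) := ShortComplex.mk f.hom g.hom hzero
  have hS : S.ShortExact :=
    { exact := (ShortComplex.exact_iff_image_eq_kernel S).2 hex.symm
      mono_f := hf
      epi_g := hg }
  obtain ⟨n₁, h₁⟩ := X₁.property
  obtain ⟨n₂, h₂⟩ := X₂.property
  obtain ⟨n₃, h₃⟩ := X₃.property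
  let n := min n₁ (min n₂ n₃)
  have : S.X₁.IsStrictlyGE n := X₁.obj.isStrictlyGE_of_ge n n₁ (by simp [n])
  have : S.X₂.IsStrictlyGE n := X₂.obj.isStrictlyGE_of_ge n n₂ (by simp [n])
  have : S.X₃.IsStrictlyGE n := X₃.obj.isStrictlyGE_of_ge n n₃ (by simp [n])
  obtain ⟨S', hS', φ, d, q₁, q₂, q₃, i₁, i₂, i₃, b₁, b₂, b₃, hsplit⟩ := exists_resolution S hS n
  -- the resolving objects in `CochainComplex.Plus C`
  let J₁ : CochainComplex.Plus C := ⟨S'.X₁, d, b₁⟩
  let J₂ : CochainComplex.Plus C := ⟨S'.X₂, d, b₂⟩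
  let J₃ : CochainComplex.Plus C := ⟨S'.X₃, d, b₃⟩
  let a : J₁ ⟶ J₂ := ObjectProperty.homMk S'.f
  let b : J₂ ⟶ J₃ := ObjectProperty.homMk S'.g
  let p₁ : X₁ ⟶ J₁ := ObjectProperty.homMk φ.τ₁
  let p₂ : X₂ ⟶ J₂ := ObjectProperty.homMk φ.τ₂
  let p₃ : X₃ ⟶ J₃ := ObjectProperty.homMk φ.τ₃
  have comm₁ : f ≫ p₂ = p₁ ≫ a := by
    ext : 1
    exact φ.comm₁₂.symm
  have comm₂ : g ≫ p₃ = p₂ ≫ b := by
    ext : 1
    exact φ.comm₂₃.symm
  -- the functor W
  let W : CochainComplex.Plus C ⥤ DerivedCategory D :=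
    HomotopyCategory.Plus.quotient C ⋙ DerivedCategory.Plus.Qh ⋙ F.rightDerivedFunctorPlus ⋙
      DerivedCategory.Plus.ι
  have hW₁ : IsIso (W.map p₁) := by
    have := isIso_Qh_map p₁ q₁
    dsimp [W]; infer_instance
  have hW₂ : IsIso (W.map p₂) := by
    have := isIso_Qh_map p₂ q₂
    dsimp [W]; infer_instance
  have hW₃ : IsIso (W.map p₃) := by
    have := isIso_Qh_map p₃ q₃
    dsimp [W]; infer_instance
  have hτ₁ : IsIso (τ F J₁) := isIso_τ F S'.X₁ d b₁ i₁
  have hτ₂ : IsIso (τ F J₂) := isIso_τ F S'.X₂ d b₂ i₂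
  have hτ₃ : IsIso (τ F J₃) := isIso_τ F S'.X₃ d b₃ i₃
  -- isos in the derived category
  let FS : ShortComplex (CochainComplex D ℤ) := S'.map (F.mapHomologicalComplex (ComplexShape.up ℤ))
  have hFS : FS.ShortExact := shortExact_map F S' hsplit
  let T := DerivedCategory.triangleOfSES hFS
  have hT : T ∈ Pretriangulated.distinguishedTriangles := DerivedCategory.triangleOfSES_distinguished hFS
  let ε₁ : W.obj X₁ ≅ T.obj₁ := asIso (W.map p₁) ≪≫ (asIso (τ F J₁)).symm
  let ε₂ : W.obj X₂ ≅ T.obj₂ := asIso (W.map p₂) ≪≫ (asIso (τ F J₂)).symm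
  let ε₃ : W.obj X₃ ≅ T.obj₃ := asIso (W.map p₃) ≪≫ (asIso (τ F J₃)).symm
  have nat₁ : W.map f ≫ ε₂.hom = ε₁.hom ≫ T.mor₁ := by
    have h := τ_naturality F a
    have h' : inv (τ F J₁) ≫ DerivedCategory.Q.map ((F.mapHomologicalComplex (ComplexShape.up ℤ)).map a.hom)
        = W.map a ≫ inv (τ F J₂) := by
      rw [IsIso.inv_comp_eq, ← Category.assoc, IsIso.eq_comp_inv]
      exact h
    show W.map f ≫ (W.map p₂ ≫ inv (τ F J₂)) = (W.map p₁ ≫ inv (τ F J₁)) ≫ T.mor₁
    rw [← Category.assoc, ← W.map_comp, comm₁, W.map_comp, Category.assoc, ← h']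
    exact (Category.assoc _ _ _).symm
  have nat₂ : W.map g ≫ ε₃.hom = ε₂.hom ≫ T.mor₂ := by
    have h := τ_naturality F b
    have h' : inv (τ F J₂) ≫ DerivedCategory.Q.map ((F.mapHomologicalComplex (ComplexShape.up ℤ)).map b.hom)
        = W.map b ≫ inv (τ F J₃) := by
      rw [IsIso.inv_comp_eq, ← Category.assoc, IsIso.eq_comp_inv]
      exact h
    show W.map g ≫ (W.map p₃ ≫ inv (τ F J₃)) = (W.map p₂ ≫ inv (τ F J₂)) ≫ T.mor₂
    rw [← Category.assoc, ← W.map_comp, comm₂, W.map_comp, Category.assoc, ← h']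
    exact (Category.assoc _ _ _).symm
  let H := DerivedCategory.homologyFunctor D i
  let H' := DerivedCategory.homologyFunctor D (i + 1)
  exact transport (Φ.map f) (Φ.map g) (Ψ.map f)
    (H.map T.mor₁) (H.map T.mor₂) (DerivedCategory.HomologySequence.δ T i (i + 1) rfl) (H'.map T.mor₁)
    (H.mapIso ε₁) (H.mapIso ε₂) (H.mapIso ε₃) (H'.mapIso ε₁) (H'.mapIso ε₂)
    (by
      show H.map (W.map f) ≫ H.map ε₂.hom = H.map ε₁.hom ≫ H.map T.mor₁
      rw [← H.map_comp, ← H.map_comp, nat₁])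
    (by
      show H.map (W.map g) ≫ H.map ε₃.hom = H.map ε₂.hom ≫ H.map T.mor₂
      rw [← H.map_comp, ← H.map_comp, nat₂])
    (by
      show H'.map (W.map f) ≫ H'.map ε₂.hom = H'.map ε₁.hom ≫ H'.map T.mor₁
      rw [← H'.map_comp, ← H'.map_comp, nat₁])
    _ (DerivedCategory.HomologySequence.comp_δ T hT i (i + 1) rfl)
    (DerivedCategory.HomologySequence.δ_comp T hT i (i + 1) rfl)
    (DerivedCategory.HomologySequence.exact₂ T hT i)
    (DerivedCategory.HomologySequence.exact₃ T hT i (i + 1) rfl)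
    (DerivedCategory.HomologySequence.exact₁ T hT i (i + 1) rfl)

end Groth.Agent.S12229
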