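import Groth.Statements.S6152
import Mathlib
-- import your own Groth.Agent.* helpers here

set_option autoImplicit false
universe u
open CategoryTheory
open ModSite

namespace Groth.Agent.S6152

section helpers
open CategoryTheory Opposite
variable {C : Type u} [SmallCategory C] {J : GrothendieckTopology C}
    (O : Sheaf J CommRingCat.{u})

/-- cast -/
noncomputable def toRestr (M : ModSite.Mod O) (X : C) (Y : (Over X)ᵒᵖ)
    (a : M.val.obj (op Y.unop.left)) : ((ModSite.restr O X).obj M).val.obj Y := by
  dsimp [ModSite.restr, SheafOfModules.overFunctor, SheafOfModules.pushforward]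
  exact a

lemma restr_map_toRestr (M : ModSite.Mod O) (X : C) {Y Y' : (Over X)ᵒᵖ} (g : Y ⟶ Y')
    (a : M.val.obj (op Y.unop.left)) :
    ((ModSite.restr O X).obj M).val.map g (toRestr O M X Y a) =
      toRestr O M X Y' (M.val.restrictₛₗ g.unop.left.op a) := by
  dsimp [ModSite.restr, SheafOfModules.overFunctor, SheafOfModules.pushforward, toRestr]
  rfl

lemma restr_comp {R : Cᵒᵖ ⥤ RingCat.{u}} (M : PresheafOfModules.{u} R) {U V W : Cᵒᵖ} (i : U ⟶ V) (j : V ⟶ W)
    (x : M.obj U) : M.restrictₛₗ (i ≫ j) x = M.restrictₛₗ j (M.restrictₛₗ i x) :=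
  M.map_comp_apply i j x

/-- the section of `M|_X` attached to `m ∈ M(X)` -/
noncomputable def sec (M : ModSite.Mod O) (X : C) (m : M.val.obj (op X)) :
    ((ModSite.restr O X).obj M).sections :=
  PresheafOfModules.sectionsMk (M := ((ModSite.restr O X).obj M).val)
    (fun Y => toRestr O M X Y (M.val.restrictₛₗ Y.unop.hom.op m)) (by
      intro Y Y' g
      rw [restr_map_toRestr]
      congr 1
      have h1 : Y'.unop.hom.op = Y.unop.hom.op ≫ g.unop.left.op := by
        rw [← op_comp, Over.w]
      rw [h1, restr_comp])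

/-- the morphism `freeOn X ⟶ M` attached to `m ∈ M(X)` -/
noncomputable def toHom (M : ModSite.Mod O) (X : C) (m : M.val.obj (op X)) :
    ModSite.freeOn O X ⟶ M :=
  ((ModSite.extZeroAdj O X).homEquiv _ _).symm
    (((ModSite.restr O X).obj M).unitHomEquiv.symm (sec O M X m))

lemma restr_map_app_toRestr {M N : ModSite.Mod O} (p : M ⟶ N) (X : C) (Y : (Over X)ᵒᵖ)
    (a : M.val.obj (op Y.unop.left)) :
    ((ModSite.restr O X).map p).val.app Y (toRestr O M X Y a) =
      toRestr O N X Y (p.val.app (op Y.unop.left) a) := by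
  dsimp [ModSite.restr, SheafOfModules.overFunctor, SheafOfModules.pushforward, toRestr]
  rfl

lemma sectionsMap_sec {M N : ModSite.Mod O} (p : M ⟶ N) (X : C) (m : M.val.obj (op X)) :
    SheafOfModules.sectionsMap ((ModSite.restr O X).map p) (sec O M X m) =
      sec O N X (p.val.app (op X) m) := by
  ext Y
  change ((ModSite.restr O X).map p).val.app Y (toRestr O M X Y (M.val.restrictₛₗ Y.unop.hom.op m)) =
    toRestr O N X Y (N.val.restrictₛₗ Y.unop.hom.op (p.val.app (op X) m))
  rw [restr_map_app_toRestr]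
  congr 1
  exact PresheafOfModules.naturality_apply p.val Y.unop.hom.op m

lemma toHom_comp {M N : ModSite.Mod O} (p : M ⟶ N) (X : C) (m : M.val.obj (op X)) :
    toHom O M X m ≫ p = toHom O N X (p.val.app (op X) m) := by
  unfold toHom
  rw [← Adjunction.homEquiv_naturality_right_symm, SheafOfModules.unitHomEquiv_symm_comp,
    sectionsMap_sec]


/-- inverse cast -/
noncomputable def ofRestr (M : ModSite.Mod O) (X : C) (Y : (Over X)ᵒᵖ)
    (a : ((ModSite.restr O X).obj M).val.obj Y) : M.val.obj (op Y.unop.left) := by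
  dsimp [ModSite.restr, SheafOfModules.overFunctor, SheafOfModules.pushforward] at a
  exact a

lemma ofRestr_toRestr (M : ModSite.Mod O) (X : C) (Y : (Over X)ᵒᵖ)
    (a : M.val.obj (op Y.unop.left)) : ofRestr O M X Y (toRestr O M X Y a) = a := by
  dsimp [ofRestr, toRestr]
  try rfl

lemma toHom_injective (M : ModSite.Mod O) (X : C) (m m' : M.val.obj (op X))
    (h : toHom O M X m = toHom O M X m') : m = m' := by
  unfold toHom at h
  have h1 : sec O M X m = sec O M X m' :=
    ((ModSite.restr O X).obj M).unitHomEquiv.symm.injective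
      (((ModSite.extZeroAdj O X).homEquiv _ _).symm.injective h)
  have h2 : toRestr O M X (op (Over.mk (𝟙 X))) (M.val.restrictₛₗ (𝟙 (op X)) m) =
      toRestr O M X (op (Over.mk (𝟙 X))) (M.val.restrictₛₗ (𝟙 (op X)) m') :=
    congrArg (fun s : ((ModSite.restr O X).obj M).sections => s.val (op (Over.mk (𝟙 X)))) h1
  replace h2 := congrArg (ofRestr O M X (op (Over.mk (𝟙 X)))) h2
  rw [ofRestr_toRestr, ofRestr_toRestr] at h2
  have h3 : ∀ a : M.val.obj (op X), M.val.restrictₛₗ (𝟙 (op X)) a = a := by
    intro a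
    change M.val.map (𝟙 (op X)) a = a
    rw [M.val.map_id]
    rfl
  exact (h3 m).symm.trans (h2.trans (h3 m'))


set_option maxHeartbeats 2000000 in
theorem main (G : Set C)
    (hG : ∀ X : C, ∃ (ι : Type u) (Y : ι → C) (f : ∀ i, Y i ⟶ X), Sieve.ofArrows Y f ∈ J X ∧ ∀ i, Y i ∈ G) :
    (ObjectProperty.ofObj fun X : G => ModSite.freeOn O (X : C)).IsDetecting ∧
    (ObjectProperty.ofObj fun X : G => ModSite.freeOn O (X : C)).IsSeparating := by
  have hsep : (ObjectProperty.ofObj fun X : G => ModSite.freeOn O (X : C)).IsSeparating := by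
    intro M N f₁ f₂ h
    have key : ∀ (X : C), X ∈ G → ∀ m : M.val.obj (op X),
        f₁.val.app (op X) m = f₂.val.app (op X) m := by
      intro X hX m
      refine toHom_injective O N X _ _ ?_
      rw [← toHom_comp O f₁ X m, ← toHom_comp O f₂ X m]
      exact h _ ⟨⟨X, hX⟩⟩ (toHom O M X m)
    have nat : ∀ (φ : M ⟶ N) {A B : Cᵒᵖ} (g : A ⟶ B) (x : M.val.obj A),
        φ.val.app B (M.val.restrictₛₗ g x) = N.val.restrictₛₗ g (φ.val.app A x) :=
      fun φ _ _ g x => PresheafOfModules.naturality_apply φ.val g x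
    ext ⟨U⟩ m
    obtain ⟨ι, Y, f, hcov, hY⟩ := hG U
    refine N.isSheaf.isSeparated _ _ hcov (f₁.val.app (op U) m) (f₂.val.app (op U) m) ?_
    intro V p hp
    obtain ⟨i, a, rfl⟩ := (Sieve.mem_ofArrows_iff Y f p).1 hp
    change N.val.restrictₛₗ (a ≫ f i).op (f₁.val.app (op U) m) =
      N.val.restrictₛₗ (a ≫ f i).op (f₂.val.app (op U) m)
    rw [← nat, ← nat, op_comp, restr_comp, nat f₁ a.op, nat f₂ a.op, key (Y i) (hY i)]
  exact ⟨hsep.isDetecting, hsep⟩


end helpers


/-- Second assertion (ringed topos of sheaves on a small site (C, J) with commutative structure sheaf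
O): if G is a topologically generating family of objects (every object of C admits a covering family
by members of G), then the free O-modules A_X = j_{X!}(O|X), X in G, form a generating family of the
category of O-modules; stated as: this family detects isomorphisms and is separating. -/
theorem result {C : Type u} [SmallCategory C] {J : GrothendieckTopology C}
    (O : Sheaf J CommRingCat.{u}) (G : Set C)
    (hG : ∀ X : C, ∃ (ι : Type u) (Y : ι → C) (f : ∀ i, Y i ⟶ X), Sieve.ofArrows Y f ∈ J X ∧ ∀ i, Y i ∈ G) :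
    (ObjectProperty.ofObj fun X : G => ModSite.freeOn O (X : C)).IsDetecting ∧
    (ObjectProperty.ofObj fun X : G => ModSite.freeOn O (X : C)).IsSeparating :=
  main O G hG

end Groth.Agent.S6152
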