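import Groth.Statements.S7470
import Mathlib
-- import your own Groth.Agent.* helpers here

set_option autoImplicit false
universe w u
open HTop

namespace Groth.Agent.S7470

open CategoryTheory CategoryTheory.Limits AlgebraicGeometry in
/-- Let E be a standard V covering of an affine scheme T and, for every member T_j of E, let F_j be a
standard V covering of T_j. Then the composite family of all T_ji -> T is a standard V covering. -/
theorem result {T : Scheme.{u}} (E : PreZeroHypercover.{w} T) (hE : HTop.IsStandardV E) (F : ∀ j, PreZeroHypercover.{w} (E.X j)) (hF : ∀ j, HTop.IsStandardV (F j)) : HTop.IsStandardV (E.bind F) := by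
  haveI := hE.isAffine
  haveI := hE.finite_index
  haveI : ∀ j, Finite (F j).I₀ := fun j => (hF j).finite_index
  refine ⟨inferInstance, inferInstanceAs (Finite (Σ j : E.I₀, (F j).I₀)), fun ji => (hF ji.1).isAffine_obj ji.2, ?_⟩
  intro V _ _ k
  obtain ⟨W, hWd, hWv, φ, hφ, j, g', hg'⟩ := hE.lift V k
  obtain ⟨W', hWd', hWv', ψ, hψ, i, g'', hg''⟩ := (hF j).lift W g'
  refine ⟨W', hWd', hWv', φ ≫ ψ, ⟨?_, ?_⟩, ⟨j, i⟩, g'', ?_⟩
  · rw [CommRingCat.hom_comp, RingHom.coe_comp]
    exact hψ.1.comp hφ.1
  · haveI := hφ.2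
    haveI := hψ.2
    rw [CommRingCat.hom_comp]
    exact RingHom.isLocalHom_comp _ _
  · change g'' ≫ (F j).f i ≫ E.f j = _
    rw [← Category.assoc, hg'', Category.assoc, hg', Spec.map_comp, Category.assoc]

end Groth.Agent.S7470
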