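import Groth.Statements.S9885
import Mathlib
import Groth.Agent.Lib.Helper9QuotSh

set_option autoImplicit false
universe u
open CategoryTheory CategoryTheory.Limits AlgebraicGeometry
open AlgSp

namespace Groth.Agent.S9885


open CategoryTheory.Limits Opposite

/-- a representable fppf surjection is locally surjective. -/
lemma isLocallySurjective_of_repWith {S : Scheme.{u}} {F G : AlgSp.Sp S} (a : F ⟶ G)
    (h₁ : AlgSp.RepWith @Flat a) (h₂ : AlgSp.RepWith @LocallyOfFinitePresentation a)
    (h₃ : AlgSp.RepWith @Surjective a) : Sheaf.IsLocallySurjective a := by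
  constructor
  intro T s
  obtain ⟨x, hx⟩ : ∃ x : (AlgSp.yon S).obj T ⟶ G, (AlgSp.J S).uliftYonedaEquiv x = s :=
    ⟨(AlgSp.J S).uliftYonedaEquiv.symm s, Equiv.apply_symm_apply _ _⟩
  obtain ⟨W, snd, fst, sq⟩ := h₁.1 x
  haveI : Flat snd.left := h₁.2 x fst snd sq
  haveI : LocallyOfFinitePresentation snd.left := h₂.2 x fst snd sq
  haveI : Surjective snd.left := h₃.2 x fst snd sq
  refine (AlgSp.J S).superset_covering ?_
    (Groth.Agent.Lib.Helper9.generate_singleton_mem_J_fppf snd)
  rw [Sieve.generate_le_iff]
  rintro _ _ ⟨⟩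
  refine ⟨(AlgSp.J S).uliftYonedaEquiv fst, ?_⟩
  rw [← hx]
  have := (AlgSp.J S).uliftYonedaEquiv_comp fst a
  rw [sq.w] at this
  rw [← this]
  exact ((AlgSp.J S).uliftYonedaEquiv_naturality x snd).symm



/-- Let `a : F ⟶ G` be a map of fppf sheaves of sets over `S` which is representable by schemes, flat,
locally of finite presentation and surjective (in the representable sense). Then `a` is surjective
as a map of sheaves (locally surjective). -/
theorem result (S : Scheme.{u}) (F G : AlgSp.Sp S) (a : F ⟶ G)
    (h₁ : AlgSp.RepWith @Flat a) (h₂ : AlgSp.RepWith @LocallyOfFinitePresentation a)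
    (h₃ : AlgSp.RepWith @Surjective a) : Sheaf.IsLocallySurjective a := by
  exact isLocallySurjective_of_repWith a h₁ h₂ h₃

end Groth.Agent.S9885
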