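import Groth.Statements.S9927
import Mathlib
import Groth.Agent.Lib.Helper9QuotSh
import Groth.Agent.S9885

set_option autoImplicit false
universe u
open CategoryTheory CategoryTheory.Limits AlgebraicGeometry
open AlgSp

namespace Groth.Agent.S9927


open CategoryTheory.Limits Opposite Groth.Agent.Lib.Helper9

/-- an étale surjective representable map is an epimorphism of fppf sheaves. -/
lemma epi_of_repWith {S : Scheme.{u}} {F G : AlgSp.Sp S} (p : F ⟶ G)
    (hp : AlgSp.RepWith @Etale p) (hps : AlgSp.RepWith @Surjective p) : Epi p := by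
  have h1 : AlgSp.RepWith @Flat p :=
    ⟨hp.1, fun U V g fst snd sq => by
      haveI : Etale snd.left := hp.2 g fst snd sq
      exact (inferInstance : Flat snd.left)⟩
  have h2 : AlgSp.RepWith @LocallyOfFinitePresentation p :=
    ⟨hp.1, fun U V g fst snd sq => by
      haveI : Etale snd.left := hp.2 g fst snd sq
      exact (inferInstance : LocallyOfFinitePresentation snd.left)⟩
  haveI := S9885.isLocallySurjective_of_repWith p h1 h2 hps
  exact (Sheaf.isLocallySurjective_iff_epi p).1 inferInstance

/-- monomorphisms descend along epimorphic base change in a topos. -/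
lemma mono_of_isPullback_of_epi {E : Type*} [Category* E] [ToposLike E] {P X Y V : E}
    {fst : P ⟶ X} {snd : P ⟶ V} {f : X ⟶ Y} {p : V ⟶ Y} (sq : IsPullback fst snd f p)
    [Epi p] [Mono snd] : Mono f := by
  constructor
  intro W x y hxy
  have hsq := IsPullback.of_hasPullback (x ≫ f) p
  haveI : Epi (pullback.fst (x ≫ f) p) := ToposLike.epi_of_isPullback hsq inferInstance
  have hx : (pullback.fst (x ≫ f) p ≫ x) ≫ f = pullback.snd (x ≫ f) p ≫ p := by
    rw [Category.assoc, pullback.condition]
  have hy : (pullback.fst (x ≫ f) p ≫ y) ≫ f = pullback.snd (x ≫ f) p ≫ p := by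
    rw [Category.assoc, ← hxy, pullback.condition]
  have e : sq.lift _ _ hx = sq.lift _ _ hy := by
    rw [← cancel_mono snd, sq.lift_snd, sq.lift_snd]
  rw [← cancel_epi (pullback.fst (x ≫ f) p), ← sq.lift_fst _ _ hx, e, sq.lift_fst]



/-- (4) ⇒ (1): being a monomorphism descends along a surjective etale base change from a scheme. -/
theorem result {S : Scheme.{u}} {X Y : AlgSp.Space S} (f : X ⟶ Y) (V : Over S)
    (p : (AlgSp.yon S).obj V ⟶ Y.obj) (hp : AlgSp.RepWith @Etale p) (hps : AlgSp.RepWith @Surjective p)
    {P : AlgSp.Sp S} (fst : P ⟶ X.obj) (snd : P ⟶ (AlgSp.yon S).obj V) (sq : IsPullback fst snd f.hom p)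
    [Mono snd] : Mono f.hom := by
  haveI := epi_of_repWith p hp hps
  exact mono_of_isPullback_of_epi sq

end Groth.Agent.S9927
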