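import Groth.Statements.S13210
import Mathlib
import Groth.Agent.S9927

set_option autoImplicit false
universe u
open CategoryTheory CategoryTheory.Limits AlgebraicGeometry
open AlgGrp

namespace Groth.Agent.S13210


open CategoryTheory.Limits Opposite

variable {S : Scheme.{u}}

/-- the Yoneda bijection. -/
noncomputable def yEquiv (T : Over S) (P : AlgSp.Sp S) :
    ((AlgSp.yon S).obj T ⟶ P) ≃ P.obj.obj (op T) :=
  GrothendieckTopology.uliftYonedaEquiv.{u + 1} (AlgSp.J S)

lemma yEquiv_symm_comp {T : Over S} {P Q : AlgSp.Sp S} (m : P ⟶ Q) (x : P.obj.obj (op T)) :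
    (yEquiv T P).symm x ≫ m = (yEquiv T Q).symm (m.hom.app (op T) x) :=
  (AlgSp.J S).uliftYonedaEquiv_symm_naturality_right T m x

lemma yEquiv_comp {T : Over S} {P Q : AlgSp.Sp S} (a : (AlgSp.yon S).obj T ⟶ P) (m : P ⟶ Q) :
    yEquiv T Q (a ≫ m) = m.hom.app (op T) (yEquiv T P a) :=
  (AlgSp.J S).uliftYonedaEquiv_comp a m

/-- a commutative square of fppf sheaves is cartesian as soon as it is so on `h_T`-points. -/
lemma isPullback_of_yon {A B C D : AlgSp.Sp S} {f : A ⟶ B} {g : A ⟶ C} {h : B ⟶ D} {k : C ⟶ D}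
    (w : f ≫ h = g ≫ k)
    (H : ∀ (T : Over S) (b : (AlgSp.yon S).obj T ⟶ B) (c : (AlgSp.yon S).obj T ⟶ C),
      b ≫ h = c ≫ k → ∃! a : (AlgSp.yon S).obj T ⟶ A, a ≫ f = b ∧ a ≫ g = c) :
    IsPullback f g h k := by
  apply IsPullback.of_map (sheafToPresheaf _ _) w
  apply IsPullback.of_forall_isPullback_app
  intro X
  obtain ⟨T⟩ := X
  rw [Types.isPullback_iff]
  refine ⟨?_, ?_, ?_⟩
  · have := congrArg (fun m => (sheafToPresheaf _ _).map m) w
    simp only [Functor.map_comp] at this
    exact congrArg (fun m => m.app (op T)) this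
  · intro x y ⟨h1, h2⟩
    have h1' : f.hom.app (op T) x = f.hom.app (op T) y := h1
    have h2' : g.hom.app (op T) x = g.hom.app (op T) y := h2
    obtain ⟨a, -, ha⟩ := H T ((yEquiv T A).symm x ≫ f)
      ((yEquiv T A).symm x ≫ g) (by rw [Category.assoc, Category.assoc, w])
    have hx := ha ((yEquiv T A).symm x) ⟨rfl, rfl⟩
    have hy := ha ((yEquiv T A).symm y) ⟨by rw [yEquiv_symm_comp, yEquiv_symm_comp, h1'], by rw [yEquiv_symm_comp, yEquiv_symm_comp, h2']⟩
    exact (yEquiv T A).symm.injective (hx.trans hy.symm)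
  · intro b c hbc
    have hbc' : h.hom.app (op T) b = k.hom.app (op T) c := hbc
    obtain ⟨a, ⟨ha1, ha2⟩, -⟩ := H T ((yEquiv T B).symm b)
      ((yEquiv T C).symm c) (by rw [yEquiv_symm_comp, yEquiv_symm_comp, hbc'])
    refine ⟨yEquiv T A a, ?_, ?_⟩
    · have := yEquiv_comp a f
      rw [ha1, Equiv.apply_symm_apply] at this
      exact this.symm
    · have := yEquiv_comp a g
      rw [ha2, Equiv.apply_symm_apply] at this
      exact this.symm


/-- the locus where two points of a separated sheaf agree. -/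
lemma exists_eq_locus {F : AlgSp.Sp S} (hsep : AlgSp.IsSeparatedSp F) {T : Over S}
    (a b : (AlgSp.yon S).obj T ⟶ F) :
    ∃ (E : Over S) (e : E ⟶ T), IsClosedImmersion e.left ∧
      ∀ (T' : Over S) (t : T' ⟶ T),
        ((AlgSp.yon S).map t ≫ a = (AlgSp.yon S).map t ≫ b) ↔ ∃ t' : T' ⟶ E, t' ≫ e = t := by
  obtain ⟨E, e, fst, sq⟩ := hsep.1 (prod.lift a b)
  have h1 : (AlgSp.yon S).map e ≫ a = fst := by
    have := congrArg (fun m => m ≫ prod.fst) sq.w
    simp only [Category.assoc, prod.lift_fst, Limits.diag] at this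
    rw [← this, Category.comp_id]
  have h2 : (AlgSp.yon S).map e ≫ b = fst := by
    have := congrArg (fun m => m ≫ prod.snd) sq.w
    simp only [Category.assoc, prod.lift_snd, Limits.diag] at this
    rw [← this, Category.comp_id]
  refine ⟨E, e, hsep.2 _ fst e sq, fun T' t => ⟨fun h => ?_, ?_⟩⟩
  · have hw : ((AlgSp.yon S).map t ≫ a) ≫ Limits.diag F =
        (AlgSp.yon S).map t ≫ prod.lift a b := by
      apply Limits.prod.hom_ext
      · rw [Category.assoc, Category.assoc, Category.assoc, Limits.diag, prod.lift_fst,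
          prod.lift_fst, Category.comp_id]
      · rw [Category.assoc, Category.assoc, Category.assoc, Limits.diag, prod.lift_snd,
          prod.lift_snd, Category.comp_id, h]
    obtain ⟨l, hl⟩ := (AlgSp.yon S).map_surjective (sq.lift _ _ hw)
    refine ⟨l, (AlgSp.yon S).map_injective ?_⟩
    rw [Functor.map_comp, hl, sq.lift_snd]
  · rintro ⟨t', rfl⟩
    rw [Functor.map_comp, Category.assoc, Category.assoc, h1, h2]

/-- the locus where finitely many pairs of points of a separated sheaf agree. -/
lemma exists_eq_locus_family {F : AlgSp.Sp S} (hsep : AlgSp.IsSeparatedSp F) (J : Type u)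
    [Finite J] : ∀ {T : Over S} (a b : J → ((AlgSp.yon S).obj T ⟶ F)),
    ∃ (E : Over S) (e : E ⟶ T), IsClosedImmersion e.left ∧
      ∀ (T' : Over S) (t : T' ⟶ T),
        (∀ j, (AlgSp.yon S).map t ≫ a j = (AlgSp.yon S).map t ≫ b j) ↔
          ∃ t' : T' ⟶ E, t' ≫ e = t := by
  refine Finite.induction_empty_option (P := fun J => ∀ {T : Over S}
    (a b : J → ((AlgSp.yon S).obj T ⟶ F)),
    ∃ (E : Over S) (e : E ⟶ T), IsClosedImmersion e.left ∧
      ∀ (T' : Over S) (t : T' ⟶ T),
        (∀ j, (AlgSp.yon S).map t ≫ a j = (AlgSp.yon S).map t ≫ b j) ↔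
          ∃ t' : T' ⟶ E, t' ≫ e = t) ?_ ?_ ?_ J
  · intro α β eqv ih T a b
    obtain ⟨E, e, h, H⟩ := ih (fun j => a (eqv j)) (fun j => b (eqv j))
    refine ⟨E, e, h, fun T' t => ?_⟩
    rw [← H T' t]
    exact ⟨fun h j => h (eqv j), fun h j => by simpa using h (eqv.symm j)⟩
  · intro T a b
    exact ⟨T, 𝟙 T, inferInstanceAs (IsClosedImmersion (𝟙 T.left)),
      fun T' t => ⟨fun _ => ⟨t, Category.comp_id _⟩, fun _ j => j.elim⟩⟩
  · intro α _ ih T a b
    obtain ⟨E0, e0, h0, H0⟩ := ih (fun j => a (some j)) (fun j => b (some j))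
    obtain ⟨E1, e1, h1, H1⟩ := exists_eq_locus hsep (a none) (b none)
    refine ⟨pullback e0 e1, pullback.fst e0 e1 ≫ e0, ?_, ?_⟩
    · have sq : IsPullback (pullback.fst e0 e1).left (pullback.snd e0 e1).left e0.left e1.left :=
        (IsPullback.of_hasPullback e0 e1).map (Over.forget S)
      haveI : IsClosedImmersion (pullback.fst e0 e1).left :=
        MorphismProperty.of_isPullback (P := @IsClosedImmersion) sq.flip h1
      rw [Over.comp_left]
      infer_instance
    · intro T' t
      constructor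
      · intro h
        obtain ⟨t0, ht0⟩ := (H0 T' t).1 (fun j => h (some j))
        obtain ⟨t1, ht1⟩ := (H1 T' t).1 (h none)
        exact ⟨pullback.lift t0 t1 (by rw [ht0, ht1]), by rw [pullback.lift_fst_assoc, ht0]⟩
      · rintro ⟨t', rfl⟩ j
        cases j with
        | none =>
          exact (H1 _ _).2 ⟨t' ≫ pullback.snd e0 e1, by
            rw [Category.assoc, ← pullback.condition]⟩
        | some j =>
          exact (H0 _ _).2 ⟨t' ≫ pullback.fst e0 e1, Category.assoc _ _ _⟩ j


lemma isPullback_diag_of_mono {E : Type*} [Category* E] [HasBinaryProducts E] {Z F : E}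
    (i : Z ⟶ F) [Mono i] :
    IsPullback i (Limits.diag Z) (Limits.diag F) (prod.map i i) := by
  have hw : i ≫ Limits.diag F = Limits.diag Z ≫ prod.map i i := by
    apply Limits.prod.hom_ext
    · rw [Category.assoc, Category.assoc, Limits.diag, Limits.diag, prod.lift_fst, prod.map_fst,
        prod.lift_fst_assoc, Category.comp_id, Category.id_comp]
    · rw [Category.assoc, Category.assoc, Limits.diag, Limits.diag, prod.lift_snd, prod.map_snd,
        prod.lift_snd_assoc, Category.comp_id, Category.id_comp]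
  have h1 : ∀ s : PullbackCone (Limits.diag F) (prod.map i i),
      (s.snd ≫ prod.fst) ≫ i = s.fst := by
    intro s
    have := congrArg (fun m => m ≫ prod.fst) s.condition
    simp only [Category.assoc, Limits.diag, prod.lift_fst, prod.map_fst, Category.comp_id] at this
    exact (Category.assoc _ _ _).trans this.symm
  have h2 : ∀ s : PullbackCone (Limits.diag F) (prod.map i i),
      (s.snd ≫ prod.snd) ≫ i = s.fst := by
    intro s
    have := congrArg (fun m => m ≫ prod.snd) s.condition
    simp only [Category.assoc, Limits.diag, prod.lift_snd, prod.map_snd, Category.comp_id] at this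
    exact (Category.assoc _ _ _).trans this.symm
  refine ⟨⟨hw⟩, ⟨PullbackCone.IsLimit.mk _ (fun s => s.snd ≫ prod.fst) h1 ?_ ?_⟩⟩
  · intro s
    apply Limits.prod.hom_ext
    · simp only [Category.assoc, Limits.diag, prod.lift_fst, Category.comp_id]
    · simp only [Category.assoc, Limits.diag, prod.lift_snd, Category.comp_id]
      rw [← cancel_mono i, Category.assoc, Category.assoc]
      exact ((Category.assoc _ _ _).symm.trans (h1 s)).trans
        ((Category.assoc _ _ _).symm.trans (h2 s)).symm
  · intro s m _ hm2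
    rw [← hm2]
    simp only [Category.assoc, Limits.diag, prod.lift_fst, Category.comp_id]



/-- Let S be a scheme, F an algebraic space over S which is separated over S, and G a finite group
acting on F by S-automorphisms. If i : Z → F exhibits the fppf sheaf Z as the sub-sheaf of G-fixed
points of F (i is G-invariant and every G-invariant morphism W → F factors uniquely through i), then
Z is an algebraic space and i is a closed immersion (representable by closed immersions). (The
published statement also treats a locally separated F, whose fixed points form a subspace, and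
compatibility with base change; this row states only the separated case.) -/
theorem result
    {S : Scheme.{u}} (F : AlgSp.Sp S) (hF : AlgSp.IsAlgSpace F) (hsep : AlgSp.IsSeparatedSp F)
    (G : Type u) [Group G] [Finite G] (ρ : G →* Aut F)
    (Z : AlgSp.Sp S) (i : Z ⟶ F) (hi : ∀ g : G, i ≫ (ρ g).hom = i)
    (huniv : ∀ (W : AlgSp.Sp S) (x : W ⟶ F), (∀ g : G, x ≫ (ρ g).hom = x) → ∃! z : W ⟶ Z, z ≫ i = x) :
    AlgSp.IsAlgSpace Z ∧ AlgSp.RepWith @IsClosedImmersion i := by
  haveI : Mono i := ⟨fun {W} z1 z2 h => by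
    obtain ⟨z, -, hz⟩ := huniv W (z1 ≫ i) (fun g => by rw [Category.assoc, hi])
    exact (hz z1 rfl).trans (hz z2 h.symm).symm⟩
  have key : ∀ {T : Over S} (x : (AlgSp.yon S).obj T ⟶ F),
      ∃ (W : Over S) (fst : (AlgSp.yon S).obj W ⟶ Z) (w : W ⟶ T)
        (_ : IsPullback fst ((AlgSp.yon S).map w) i x), IsClosedImmersion w.left := by
    intro T x
    obtain ⟨W, w, hw, H⟩ := exists_eq_locus_family hsep G (fun g => x ≫ (ρ g).hom) (fun _ => x)
    have hinv : ∀ g : G, ((AlgSp.yon S).map w ≫ x) ≫ (ρ g).hom = (AlgSp.yon S).map w ≫ x :=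
      fun g => by
        rw [Category.assoc]
        exact (H W w).2 ⟨𝟙 W, Category.id_comp w⟩ g
    obtain ⟨fst, hfst, -⟩ := huniv _ ((AlgSp.yon S).map w ≫ x) hinv
    haveI : Mono w.left := inferInstance
    haveI : Mono w := (Over.forget S).mono_of_mono_map ‹_›
    refine ⟨W, fst, w, isPullback_of_yon hfst ?_, hw⟩
    intro T' b c hbc
    obtain ⟨t, rfl⟩ := (AlgSp.yon S).map_surjective c
    have hinv' : ∀ g : G, (AlgSp.yon S).map t ≫ x ≫ (ρ g).hom = (AlgSp.yon S).map t ≫ x :=
      fun g => by
        rw [← Category.assoc, ← hbc, Category.assoc, hi]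
    obtain ⟨t', rfl⟩ := (H T' t).1 hinv'
    refine ⟨(AlgSp.yon S).map t', ⟨?_, ((AlgSp.yon S).map_comp t' w).symm⟩, ?_⟩
    · rw [← cancel_mono i, Category.assoc, hfst, hbc, Functor.map_comp, Category.assoc]
    · rintro a' ⟨-, ha'⟩
      obtain ⟨s, rfl⟩ := (AlgSp.yon S).map_surjective a'
      congr 1
      rw [← cancel_mono w]
      apply (AlgSp.yon S).map_injective
      rw [Functor.map_comp]
      exact ha'
  refine ⟨⟨?_, ?_⟩, ?_⟩
  · exact MorphismProperty.of_isPullback (P := AlgSp.Representable) (isPullback_diag_of_mono i)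
      hF.diag
  · obtain ⟨V, p, hp, hps⟩ := hF.atlas
    obtain ⟨W, fst, w, sq, hw⟩ := key p
    exact ⟨W, fst, MorphismProperty.of_isPullback (P := AlgSp.RepWith @Etale) sq.flip hp,
      MorphismProperty.of_isPullback (P := AlgSp.RepWith @Surjective) sq.flip hps⟩
  · exact MorphismProperty.relative.of_exists (fun T x => by
      obtain ⟨W, fst, w, sq, hw⟩ := key x
      exact ⟨W, fst, w, sq, hw⟩)

end Groth.Agent.S13210
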