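import Groth.Statements.S10175
import Mathlib
import Groth.Agent.S13210

set_option autoImplicit false
universe u
open CategoryTheory CategoryTheory.Limits AlgebraicGeometry Topology TopologicalSpace
open AlgSp AlgSp.Points

namespace Groth.Agent.S10175


open CategoryTheory.Limits Opposite MorphismProperty Groth.Agent.S13210

variable {S : Scheme.{u}}

/-- restricting a field point along a morphism of spectra of fields gives an equivalent point. -/
lemma mk_restrict {F : AlgSp.Sp S} (p : AlgSp.FieldPt F) {Ω : Type u} [Field Ω]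
    (w : Spec (CommRingCat.of Ω) ⟶ S) (a : Over.mk w ⟶ p.pt) :
    AlgSp.Points.mk (⟨Ω, w, F.obj.map a.op p.val⟩ : AlgSp.FieldPt F) = AlgSp.Points.mk p := by
  refine AlgSp.Points.sound ⟨Ω, inferInstance, w, 𝟙 _, a, ?_⟩
  simp

/-- sections of a fibre product of sheaves. -/
lemma exists_section_of_isPullback {X Y Z P : AlgSp.Sp S} {f : X ⟶ Y} {g : Z ⟶ Y} {fst : P ⟶ Z}
    {snd : P ⟶ X} (h : IsPullback fst snd g f) {T : Over S} (ζ : Z.obj.obj (op T))
    (ξ : X.obj.obj (op T)) (e : g.hom.app _ ζ = f.hom.app _ ξ) :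
    ∃ π : P.obj.obj (op T), fst.hom.app _ π = ζ ∧ snd.hom.app _ π = ξ := by
  have hw : (yEquiv T Z).symm ζ ≫ g = (yEquiv T X).symm ξ ≫ f := by
    rw [yEquiv_symm_comp, yEquiv_symm_comp, e]
  refine ⟨yEquiv T P (h.lift _ _ hw), ?_, ?_⟩
  · rw [← yEquiv_comp, h.lift_fst, Equiv.apply_symm_apply]
  · rw [← yEquiv_comp, h.lift_snd, Equiv.apply_symm_apply]

/-- points of a fibre product of fppf sheaves surject onto the fibre product of the sets of points. -/
lemma exists_point_of_isPullback {X Y Z P : AlgSp.Sp S} {f : X ⟶ Y} {g : Z ⟶ Y} {fst : P ⟶ Z}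
    {snd : P ⟶ X} (h : IsPullback fst snd g f) (z : AlgSp.Points Z) (x : AlgSp.Points X)
    (e : AlgSp.Points.map g z = AlgSp.Points.map f x) :
    ∃ p : AlgSp.Points P, AlgSp.Points.map fst p = z ∧ AlgSp.Points.map snd p = x := by
  induction z using AlgSp.Points.ind with | h p => ?_
  induction x using AlgSp.Points.ind with | h q => ?_
  obtain ⟨Ω, _, w, a, b, hab⟩ := AlgSp.Points.mk_eq_mk_iff.1 e
  have hab' : g.hom.app _ (Z.obj.map a.op p.val) = f.hom.app _ (X.obj.map b.op q.val) := by
    have h1 := NatTrans.naturality_apply g.hom a.op p.val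
    have h2 := NatTrans.naturality_apply f.hom b.op q.val
    rw [h1, h2]
    exact hab
  obtain ⟨π, hπ1, hπ2⟩ := exists_section_of_isPullback h _ _ hab'
  refine ⟨AlgSp.Points.mk ⟨Ω, w, π⟩, ?_, ?_⟩
  · rw [AlgSp.Points.map_mk]
    change AlgSp.Points.mk ⟨Ω, w, fst.hom.app _ π⟩ = _
    rw [hπ1]
    exact mk_restrict p w a
  · rw [AlgSp.Points.map_mk]
    change AlgSp.Points.mk ⟨Ω, w, snd.hom.app _ π⟩ = _
    rw [hπ2]
    exact mk_restrict q w b



/-- For a cartesian diagram of algebraic spaces over S with corner P = Z ×_Y X (a pullback square of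
fppf sheaves), the map of sets of points |P| → |Z| ×_{|Y|} |X| is surjective: any points z of Z and
x of X with the same image in |Y| are the images of a common point of P. -/
theorem result {S : Scheme.{u}} {X Y Z P : AlgSp.Space S} (f : X ⟶ Y) (g : Z ⟶ Y)
    (fst : P ⟶ Z) (snd : P ⟶ X) (h : IsPullback fst.hom snd.hom g.hom f.hom)
    (z : AlgSp.Points Z.obj) (x : AlgSp.Points X.obj)
    (e : AlgSp.Points.map g.hom z = AlgSp.Points.map f.hom x) :
    ∃ p : AlgSp.Points P.obj, AlgSp.Points.map fst.hom p = z ∧ AlgSp.Points.map snd.hom p = x := by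
  exact exists_point_of_isPullback h z x e

end Groth.Agent.S10175
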