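import Groth.Statements.S10176
import Mathlib
import Groth.Agent.S10175

set_option autoImplicit false
universe u
open CategoryTheory CategoryTheory.Limits AlgebraicGeometry Topology TopologicalSpace
open AlgSp AlgSp.Points

namespace Groth.Agent.S10176


open CategoryTheory.Limits Opposite MorphismProperty Groth.Agent.S13210

variable {S : Scheme.{u}}

/-- `ofPt` of a composite with a morphism of schemes. -/
lemma ofPt_map_comp {F : AlgSp.Sp S} {W T : Over S} (φ : W ⟶ T) (g : (AlgSp.yon S).obj T ⟶ F)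
    (y : ↥W.left) : AlgSp.Points.ofPt ((AlgSp.yon S).map φ ≫ g) y = AlgSp.Points.ofPt g (φ.left y) := by
  rw [AlgSp.Points.ofPt_eq_map_ofScheme, AlgSp.Points.map_comp,
    AlgSp.Points.ofPt_eq_map_ofScheme g]
  congr 1
  exact AlgSp.Points.map_yon_map_apply φ y

/-- points of a representable fibre product `h_W = h_U ×_F h_T`. -/
lemma exists_point_of_isPullback_yon {F : AlgSp.Sp S} {U T W : Over S}
    {a : (AlgSp.yon S).obj U ⟶ F} {g : (AlgSp.yon S).obj T ⟶ F} {pr : W ⟶ U} {w : W ⟶ T}
    (sq : IsPullback ((AlgSp.yon S).map pr) ((AlgSp.yon S).map w) a g) (u : ↥U.left) (t : ↥T.left)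
    (e : AlgSp.Points.ofPt a u = AlgSp.Points.ofPt g t) :
    ∃ y : ↥W.left, pr.left y = u ∧ w.left y = t := by
  rw [AlgSp.Points.ofPt_eq_map_ofScheme, AlgSp.Points.ofPt_eq_map_ofScheme g] at e
  obtain ⟨p, hp1, hp2⟩ := Groth.Agent.S10175.exists_point_of_isPullback sq _ _ e
  obtain ⟨y, rfl⟩ := (AlgSp.Points.schemeHomeo W).surjective p
  refine ⟨y, ?_, ?_⟩
  · apply (AlgSp.Points.schemeHomeo U).injective
    rw [← AlgSp.Points.map_yon_map_apply]
    exact hp1
  · apply (AlgSp.Points.schemeHomeo T).injective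
    rw [← AlgSp.Points.map_yon_map_apply]
    exact hp2

/-- the image under a chart of a subset, pulled back to a test scheme. -/
lemma preimage_ofPt_image {F : AlgSp.Sp S} {U T W : Over S}
    {a : (AlgSp.yon S).obj U ⟶ F} {g : (AlgSp.yon S).obj T ⟶ F} {pr : W ⟶ U} {w : W ⟶ T}
    (sq : IsPullback ((AlgSp.yon S).map pr) ((AlgSp.yon S).map w) a g) (V : Set ↥U.left) :
    AlgSp.Points.ofPt g ⁻¹' (AlgSp.Points.ofPt a '' V) = w.left '' (pr.left ⁻¹' V) := by
  ext t
  constructor
  · rintro ⟨u, hu, hut⟩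
    obtain ⟨y, hy1, hy2⟩ := exists_point_of_isPullback_yon sq u t hut
    exact ⟨y, by rw [Set.mem_preimage, hy1]; exact hu, hy2⟩
  · rintro ⟨y, hy, rfl⟩
    refine ⟨pr.left y, hy, ?_⟩
    rw [← ofPt_map_comp, ← ofPt_map_comp, sq.w]

/-- an étale chart is open on points. -/
lemma isOpenMap_ofPt {F : AlgSp.Sp S} {U : Over S} (a : (AlgSp.yon S).obj U ⟶ F)
    (ha : AlgSp.RepWith @Etale a) : IsOpenMap (AlgSp.Points.ofPt a) := by
  intro V hV
  rw [AlgSp.Points.isOpen_iff]
  intro T g
  obtain ⟨W, w, pr', sq⟩ := ha.1 g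
  obtain ⟨pr, rfl⟩ := (AlgSp.yon S).map_surjective pr'
  haveI : Etale w.left := ha.2 g _ w sq
  rw [preimage_ofPt_image sq V]
  exact w.left.isOpenMap _ (hV.preimage pr.left.continuous)



/-- For an algebraic space X over a scheme S and a representable etale map a : h_U ⟶ X from a scheme U
over S, the induced continuous map from the underlying topological space of U to the space of points
|X| is an open map. -/
theorem result {S : Scheme.{u}} (X : AlgSp.Space S) {U : Over S}
    (a : (AlgSp.yon S).obj U ⟶ X.obj) (ha : AlgSp.RepWith @Etale a) :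
    IsOpenMap (AlgSp.Points.ofPt a) := by
  exact isOpenMap_ofPt a ha

end Groth.Agent.S10176
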