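import Groth.Statements.S10177
import Mathlib
import Groth.Agent.S10176

set_option autoImplicit false
universe u
open CategoryTheory CategoryTheory.Limits AlgebraicGeometry Topology TopologicalSpace
open AlgSp AlgSp.Points

namespace Groth.Agent.S10177


open CategoryTheory.Limits Opposite MorphismProperty Groth.Agent.S13210

variable {S : Scheme.{u}}

/-- a field point is the image of the closed point of its spectrum. -/
lemma ofPt_closedPoint {F : AlgSp.Sp S} (q : AlgSp.FieldPt F) :
    AlgSp.Points.ofPt ((yEquiv q.pt F).symm q.val) (IsLocalRing.closedPoint q.K) =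
      AlgSp.Points.mk q := by
  rw [AlgSp.Points.ofPt_eq_map_ofScheme]
  have h1 := AlgSp.Points.ofScheme_apply_eq_mk q.pt (K := q.K) (str := q.str)
    (𝟙 (Spec (CommRingCat.of q.K))) (Category.id_comp _)
  have h2 : (𝟙 (Spec (CommRingCat.of q.K)) : Spec (CommRingCat.of q.K) ⟶ Spec (CommRingCat.of q.K))
      (IsLocalRing.closedPoint q.K) = IsLocalRing.closedPoint q.K := rfl
  rw [h2] at h1
  rw [h1, AlgSp.Points.map_mk]
  congr 1
  obtain ⟨K, str, val⟩ := q
  change (⟨K, str, _⟩ : AlgSp.FieldPt F) = ⟨K, str, val⟩
  congr 1
  exact (yEquiv (Over.mk str) F).apply_symm_apply val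

/-- an étale surjective chart is surjective on points. -/
lemma surjective_ofPt {F : AlgSp.Sp S} {U : Over S} (p : (AlgSp.yon S).obj U ⟶ F)
    (hp : AlgSp.RepWith @Surjective p) : Function.Surjective (AlgSp.Points.ofPt p) := by
  intro x
  induction x using AlgSp.Points.ind with | h q => ?_
  obtain ⟨W, w, pr', sq⟩ := hp.1 ((yEquiv q.pt F).symm q.val)
  obtain ⟨pr, rfl⟩ := (AlgSp.yon S).map_surjective pr'
  haveI : Surjective w.left := hp.2 _ _ w sq
  obtain ⟨y, hy⟩ := w.left.surjective (IsLocalRing.closedPoint q.K)
  refine ⟨pr.left y, ?_⟩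
  rw [← Groth.Agent.S10176.ofPt_map_comp, sq.w, Groth.Agent.S10176.ofPt_map_comp, hy]
  exact ofPt_closedPoint q

/-- an étale surjective chart is a quotient map on points. -/
lemma isQuotientMap_ofPt {F : AlgSp.Sp S} {U : Over S} (p : (AlgSp.yon S).obj U ⟶ F)
    (hp : AlgSp.RepWith @Etale p) (hs : AlgSp.RepWith @Surjective p) :
    Topology.IsQuotientMap (AlgSp.Points.ofPt p) :=
  (Groth.Agent.S10176.isOpenMap_ofPt p hp).isQuotientMap (AlgSp.Points.continuous_ofPt p)
    (surjective_ofPt p hs)



/-- For an algebraic space X over a scheme S and a representable etale, representable surjective map p :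
h_U ⟶ X from a scheme U over S, the induced map from the underlying space of U to the space of
points |X| is a quotient map of topological spaces (surjective, and a subset of |X| is open if and
only if its inverse image in U is open). -/
theorem result {S : Scheme.{u}} (X : AlgSp.Space S) {U : Over S}
    (p : (AlgSp.yon S).obj U ⟶ X.obj) (hp : AlgSp.RepWith @Etale p) (hs : AlgSp.RepWith @Surjective p) :
    IsQuotientMap (AlgSp.Points.ofPt p) := by
  exact isQuotientMap_ofPt p hp hs

end Groth.Agent.S10177
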