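import Groth.Statements.S13056
import Mathlib
import Groth.Agent.Lib.Helper27LogDeriv3
import Groth.Agent.Lib.Helper24LogDeriv

set_option autoImplicit false
universe u v
open Zeta

namespace Groth.Agent.S13056

/-- For an endomorphism φ of a finite-dimensional vector space over a field K, det(Id − tφ) = exp(−∑_{m
≥ 1} tr(φ^m) t^m / m) as power series in t. Stated for a square matrix M, with det(1 − tM) Mathlib's
reversed characteristic polynomial, and over a field of characteristic zero (the exponential series
needs ℚ ⊆ K; this is the case in which the identity is used). -/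
theorem result {K : Type u} [Field K] [CharZero K]
    {n : Type v} [Fintype n] [DecidableEq n] (M : Matrix n n K) :
    ((M.charpolyRev : Polynomial K) : PowerSeries K) =
      PowerSeries.subst (PowerSeries.mk fun m : ℕ => -(Matrix.trace (M ^ m)) / (m : K))
        (PowerSeries.exp K) := by
  classical
  set L : PowerSeries K := PowerSeries.mk fun m : ℕ => -(Matrix.trace (M ^ m)) / (m : K) with hLdef
  set S : PowerSeries K := PowerSeries.mk fun m : ℕ => -(Matrix.trace (M ^ (m + 1))) with hSdef
  have hL : PowerSeries.constantCoeff L = 0 := by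
    rw [← PowerSeries.coeff_zero_eq_constantCoeff_apply, hLdef, PowerSeries.coeff_mk]
    simp
  have hdL : PowerSeries.derivative K L = S := by
    ext m
    rw [PowerSeries.coeff_derivative, hLdef, hSdef, PowerSeries.coeff_mk, PowerSeries.coeff_mk]
    have h1 : ((m + 1 : ℕ) : K) ≠ 0 := by exact_mod_cast Nat.succ_ne_zero m
    rw [show ((m : K) + 1) = ((m + 1 : ℕ) : K) by push_cast; ring, div_mul_cancel₀ _ h1]
  have hE : Groth.Agent.Lib.Helper27LogDeriv.LD (PowerSeries.subst L (PowerSeries.exp K)) S :=
    (Groth.Agent.Lib.Helper27LogDeriv.LD.exp_subst' L hL).congr hdL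
  have hE0 : PowerSeries.coeff 0 (PowerSeries.subst L (PowerSeries.exp K)) = 1 :=
    Groth.Agent.Lib.Helper27LogDeriv.coeff_zero_exp_subst' L hL
  have hD : Groth.Agent.Lib.Helper27LogDeriv.LD ((M.charpolyRev : Polynomial K) : PowerSeries K) S := by
    unfold Groth.Agent.Lib.Helper27LogDeriv.LD
    have h1 := Groth.Agent.Lib.Helper24LogDeriv.logDeriv_charpolyRev M
    have hshift : (PowerSeries.mk (fun n => if n = 0 then 0 else (M ^ n).trace) : PowerSeries K) =
        PowerSeries.X * PowerSeries.mk fun n => (M ^ (n + 1)).trace := by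
      ext n
      cases n with
      | zero => simp
      | succ n => rw [PowerSeries.coeff_succ_X_mul]; simp
    rw [hshift, Polynomial.coe_neg, Polynomial.coe_mul, Polynomial.coe_X,
      ← PowerSeries.derivative_coe] at h1
    have h2 : PowerSeries.X * (PowerSeries.derivative K ((M.charpolyRev : Polynomial K) : PowerSeries K)) =
        PowerSeries.X * (((M.charpolyRev : Polynomial K) : PowerSeries K) * S) := by
      have h3 : S = -(PowerSeries.mk fun n => (M ^ (n + 1)).trace) := by
        ext n
        simp [hSdef]
      rw [h3, mul_neg, mul_neg, ← neg_eq_iff_eq_neg, h1]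
      ring
    ext n
    have h4 := congrArg (PowerSeries.coeff (n + 1)) h2
    rwa [PowerSeries.coeff_succ_X_mul, PowerSeries.coeff_succ_X_mul] at h4
  refine Groth.Agent.Lib.Helper27LogDeriv.LD.unique' hD hE ?_
  rw [hE0, Polynomial.coeff_coe, Polynomial.coeff_zero_eq_eval_zero, Matrix.eval_charpolyRev]

end Groth.Agent.S13056
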