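import Groth.Statements.S13055
import Mathlib
import Groth.Agent.Lib.Helper27LogDeriv

set_option autoImplicit false
universe u
open CategoryTheory AlgebraicGeometry
open Zeta

namespace Groth.Agent.S13055

/-- Let X be a scheme of finite type over a finite field k with q elements and P = a_d y^d + ⋯ + a_0 ∈
ℤ[y] with N_m = P(q^m) for every m ≥ 1 (X is of polynomial count). Then Z(X, t) = ∏_{i = 0}^{d} (1 −
q^i t)^{−a_i}; stated cleared of denominators, with the factors of positive exponent moved to the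
left. -/
theorem result {k : Type u} [Field k] [Finite k] {X : Scheme.{u}}
    (f : X ⟶ Spec (CommRingCat.of k)) [LocallyOfFiniteType f] [QuasiCompact f] (P : Polynomial ℤ)
    (hP : ∀ m : ℕ, 1 ≤ m → (Zeta.nPts f m : ℤ) = P.eval ((Nat.card k : ℤ) ^ m)) :
    Zeta.zetaFun f * ∏ i ∈ Finset.range (P.natDegree + 1),
        (1 - PowerSeries.C ((Nat.card k : ℚ) ^ i) * PowerSeries.X) ^ (P.coeff i).toNat =
      ∏ i ∈ Finset.range (P.natDegree + 1),
        (1 - PowerSeries.C ((Nat.card k : ℚ) ^ i) * PowerSeries.X) ^ (-P.coeff i).toNat := by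
  classical
  set q : ℚ := (Nat.card k : ℚ) with hq
  set d := P.natDegree with hd
  have hL : PowerSeries.constantCoeff (Zeta.logZeta f) = 0 := by
    rw [← PowerSeries.coeff_zero_eq_constantCoeff_apply, Zeta.logZeta, PowerSeries.coeff_mk]
    simp
  have hE : Groth.Agent.Lib.Helper27LogDeriv.LD (Zeta.zetaFun f) (PowerSeries.derivative ℚ (Zeta.logZeta f)) :=
    Groth.Agent.Lib.Helper27LogDeriv.LD.exp_subst _ hL
  have hE0 : PowerSeries.coeff 0 (Zeta.zetaFun f) = 1 := Groth.Agent.Lib.Helper27LogDeriv.coeff_zero_exp_subst _ hL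
  -- the logarithmic derivative of log zeta
  have hdL : PowerSeries.derivative ℚ (Zeta.logZeta f) =
      ∑ i ∈ Finset.range (d + 1), (P.coeff i) • (PowerSeries.C (q ^ i) * Groth.Agent.Lib.Helper27LogDeriv.geom (q ^ i)) := by
    ext m
    rw [PowerSeries.coeff_derivative, Zeta.logZeta, PowerSeries.coeff_mk, map_sum]
    have h1 : ((m + 1 : ℕ) : ℚ) ≠ 0 := by positivity
    have h2 : ((Zeta.nPts f (m + 1) : ℕ) : ℚ) = ((P.eval ((Nat.card k : ℤ) ^ (m + 1)) : ℤ) : ℚ) := by
      rw [← hP (m + 1) (by omega)]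
      simp
    rw [show ((m : ℚ) + 1) = ((m + 1 : ℕ) : ℚ) by push_cast; ring, div_mul_cancel₀ _ h1, h2,
      Polynomial.eval_eq_sum_range, Int.cast_sum]
    refine Finset.sum_congr rfl (fun i _ => ?_)
    rw [map_zsmul, PowerSeries.coeff_C_mul, Groth.Agent.Lib.Helper27LogDeriv.geom, PowerSeries.coeff_mk, zsmul_eq_mul]
    push_cast
    rw [hq]
    ring
  -- log derivatives of the two products
  have hA : Groth.Agent.Lib.Helper27LogDeriv.LD (∏ i ∈ Finset.range (d + 1),
      (1 - PowerSeries.C (q ^ i) * PowerSeries.X : PowerSeries ℚ) ^ (P.coeff i).toNat)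
      (∑ i ∈ Finset.range (d + 1),
        (P.coeff i).toNat • (-(PowerSeries.C (q ^ i) * Groth.Agent.Lib.Helper27LogDeriv.geom (q ^ i)))) :=
    Groth.Agent.Lib.Helper27LogDeriv.LD.prod _ _ _ (fun i _ => (Groth.Agent.Lib.Helper27LogDeriv.LD.one_sub_C_mul_X (q ^ i)).pow _)
  have hB : Groth.Agent.Lib.Helper27LogDeriv.LD (∏ i ∈ Finset.range (d + 1),
      (1 - PowerSeries.C (q ^ i) * PowerSeries.X : PowerSeries ℚ) ^ (-P.coeff i).toNat)
      (∑ i ∈ Finset.range (d + 1),
        (-P.coeff i).toNat • (-(PowerSeries.C (q ^ i) * Groth.Agent.Lib.Helper27LogDeriv.geom (q ^ i)))) :=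
    Groth.Agent.Lib.Helper27LogDeriv.LD.prod _ _ _ (fun i _ => (Groth.Agent.Lib.Helper27LogDeriv.LD.one_sub_C_mul_X (q ^ i)).pow _)
  have hU := hE.mul hA
  have hsum : PowerSeries.derivative ℚ (Zeta.logZeta f) + ∑ i ∈ Finset.range (d + 1),
        (P.coeff i).toNat • (-(PowerSeries.C (q ^ i) * Groth.Agent.Lib.Helper27LogDeriv.geom (q ^ i))) =
      ∑ i ∈ Finset.range (d + 1),
        (-P.coeff i).toNat • (-(PowerSeries.C (q ^ i) * Groth.Agent.Lib.Helper27LogDeriv.geom (q ^ i))) := by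
    rw [hdL, ← Finset.sum_add_distrib]
    refine Finset.sum_congr rfl (fun i _ => ?_)
    rw [← natCast_zsmul _ (P.coeff i).toNat, ← natCast_zsmul _ (-P.coeff i).toNat, smul_neg,
      smul_neg, ← sub_zsmul, ← neg_zsmul]
    congr 1
    omega
  have h0 : ∀ e : ℕ → ℕ, PowerSeries.coeff 0 (∏ i ∈ Finset.range (d + 1),
      (1 - PowerSeries.C (q ^ i) * PowerSeries.X : PowerSeries ℚ) ^ (e i)) = 1 := by
    intro e
    rw [PowerSeries.coeff_zero_eq_constantCoeff_apply, map_prod]
    refine Finset.prod_eq_one (fun i _ => ?_)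
    simp
  refine Groth.Agent.Lib.Helper27LogDeriv.LD.unique (hU.congr hsum) hB ?_
  rw [PowerSeries.coeff_zero_eq_constantCoeff_apply, map_mul,
    ← PowerSeries.coeff_zero_eq_constantCoeff_apply, ← PowerSeries.coeff_zero_eq_constantCoeff_apply,
    hE0, h0, h0, one_mul]

end Groth.Agent.S13055
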