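import Groth.Statements.S0049
import Mathlib
import Groth.Agent.Lib.Helper23Support
-- import your own Groth.Agent.* helpers here

set_option autoImplicit false
universe u
open Coherent

namespace Groth.Agent.S0049

open CategoryTheory Limits AlgebraicGeometry TopologicalSpace Opposite

open Groth.Agent.Lib.Helper23.QCohLocal Groth.Agent.Lib.Helper2.Push Groth.Agent.Lib.Helper2.QCoh
  Groth.Agent.Lib.Helper23.FinType Groth.Agent.Lib.Helper23.ModLocal Groth.Agent.Lib.Helper23.Extend
  Groth.Agent.Lib.Helper23.Support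

open AlgebraicGeometry CategoryTheory in
/-- On a Noetherian scheme, if the support of a coherent module F is the union of closed sets Z and Z',
there is a short exact sequence 0 → G' → F → G → 0 of coherent modules with G' supported in Z' and G
supported in Z. -/
theorem result (X : Scheme.{u}) [IsNoetherian X] (M : X.Modules) (hM : Coh.IsCoh M)
    (Z Z' : Set X) (hZ : IsClosed Z) (hZ' : IsClosed Z') (h : CohB1.support M = Z ∪ Z') :
    ∃ S : ShortComplex X.Modules, S.ShortExact ∧ Nonempty (S.X₂ ≅ M) ∧ Coh.IsCoh S.X₁ ∧ Coh.IsCoh S.X₃ ∧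
      CohB1.support S.X₁ ⊆ Z' ∧ CohB1.support S.X₃ ⊆ Z := by
  obtain ⟨hMq, hMf⟩ := hM
  have : M.IsQuasicoherent := hMq
  have : SheafOfModules.IsFiniteType (R := X.ringCatSheaf) M := hMf
  let V : X.Opens := ⟨Z'ᶜ, hZ'.isOpen_compl⟩
  let V₀ : X.Opens := ⟨Zᶜ, hZ.isOpen_compl⟩
  have : NoetherianSpace (V : Scheme.{u}) := inferInstanceAs (NoetherianSpace ↥(V : Set X))
  have : QuasiCompact V.ι := inferInstance
  let adj := Scheme.Modules.restrictAdjunction V.ι
  let η : M ⟶ (Scheme.Modules.pushforward V.ι).obj (M.restrict V.ι) := adj.unit.app M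
  have hP : ((Scheme.Modules.pushforward V.ι).obj (M.restrict V.ι)).IsQuasicoherent :=
    isQuasicoherent_pushforward V.ι (M.restrict V.ι)
  have hC : (cokernel η).IsQuasicoherent := isQuasicoherent_cokernel η
  let I : X.Modules := Abelian.image η
  have hI : I.IsQuasicoherent := isQuasicoherent_kernel (cokernel.π η)
  let π : M ⟶ I := Abelian.factorThruImage η
  have hπ : Epi π := inferInstanceAs (Epi (Abelian.factorThruImage η))
  let K : X.Modules := kernel π
  have hK : K.IsQuasicoherent := isQuasicoherent_kernel π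
  let ι : K ⟶ M := kernel.ι π
  have hι : Mono ι := inferInstanceAs (Mono (kernel.ι π))
  let S : ShortComplex X.Modules := ShortComplex.mk ι π (kernel.condition π)
  have hS : S.ShortExact :=
    { exact := ShortComplex.exact_kernel π
      mono_f := hι
      epi_g := hπ }
  have hIf : SheafOfModules.IsFiniteType (R := X.ringCatSheaf) I := isFiniteType_of_epi π
  have hKf : SheafOfModules.IsFiniteType (R := X.ringCatSheaf) K := isFiniteType_of_mono ι
  refine ⟨S, hS, ⟨Iso.refl _⟩, ⟨hK, hKf⟩, ⟨hI, hIf⟩, ?_, ?_⟩
  · -- support of the kernel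
    intro x hx
    by_contra hxZ'
    apply hx
    have hxV : x ∈ V := hxZ'
    refine subsingleton_stalk_of_forall_res_eq_zero K x (fun W hxW s => ?_)
    refine ⟨W ⊓ V, inf_le_left, ⟨hxW, hxV⟩, ?_⟩
    apply injective_app_of_mono ι (W ⊓ V)
    rw [map_zero, app_map]
    -- the image of `s` in `M` restricts to zero on `W ⊓ V`
    set t : Γ(M, W) := ι.app W s with ht
    have h1 : π.app W t = 0 := by
      have : (ι ≫ π).app W s = 0 := by
        have h0 : ι ≫ π = 0 := kernel.condition π
        rw [h0]; rfl
      exact this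
    have h2 : η.app W t = 0 := by
      have : η = π ≫ Abelian.image.ι η := (Abelian.image.fac η).symm
      rw [this, Scheme.Modules.Hom.comp_app]
      change (Abelian.image.ι η).app W (π.app W t) = 0
      rw [h1, map_zero]
    have h3 : η.app W = M.presheaf.map (homOfLE (V.ι.image_preimage_le W)).op :=
      Scheme.Modules.restrictAdjunction_unit_app_app V.ι M W
    rw [h3] at h2
    have hle : W ⊓ V ≤ V.ι ''ᵁ (V.ι ⁻¹ᵁ W) := by
      rw [Scheme.Hom.image_preimage_eq_opensRange_inf, Scheme.Opens.opensRange_ι, inf_comm]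
    have h4 : M.presheaf.map (homOfLE (inf_le_left : W ⊓ V ≤ W)).op =
        M.presheaf.map (homOfLE (V.ι.image_preimage_le W)).op ≫ M.presheaf.map (homOfLE hle).op := by
      rw [← Functor.map_comp]; rfl
    rw [h4]
    change M.presheaf.map (homOfLE hle).op (M.presheaf.map (homOfLE (V.ι.image_preimage_le W)).op t) = 0
    exact (congrArg (fun z => M.presheaf.map (homOfLE hle).op z) h2).trans (map_zero _)
  · -- support of the image
    intro x hx
    by_contra hxZ
    apply hx
    have hxV₀ : x ∈ V₀ := hxZ
    refine subsingleton_stalk_of_forall_res_eq_zero I x (fun W hxW s => ?_)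
    refine ⟨W ⊓ V₀, inf_le_left, ⟨hxW, hxV₀⟩, ?_⟩
    have : Mono (Abelian.image.ι η) := inferInstance
    apply injective_app_of_mono (Abelian.image.ι η) (W ⊓ V₀)
    rw [map_zero]
    -- sections of the pushforward over `W ⊓ V₀` are sections of `M` over an open disjoint from the support
    exact eq_zero_of_disjoint_support M (V.ι ''ᵁ (V.ι ⁻¹ᵁ (W ⊓ V₀))) (fun y hy => by
      rw [Scheme.Hom.image_preimage_eq_opensRange_inf, Scheme.Opens.opensRange_ι] at hy
      rw [h]
      rintro (hyZ | hyZ')
      · exact hy.2.2 hyZ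
      · exact hy.1 hyZ') _

end Groth.Agent.S0049
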