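import Groth.Statements.S0019
import Mathlib
import Groth.Agent.Lib.Helper23FinType2
-- import your own Groth.Agent.* helpers here

set_option autoImplicit false
universe u
open Coherent

namespace Groth.Agent.S0019


open AlgebraicGeometry CategoryTheory Groth.Agent.Lib.Helper23.FinType Groth.Agent.Lib.Helper23.QCohLocal
  Groth.Agent.Lib.Helper2.Push

/-- finiteness of modules along a finite ring map, in a semilinear form -/
theorem finite_of_finite_ringHom {R S N N' : Type*} [CommRing R] [CommRing S] [AddCommGroup N] [Module S N]
    [AddCommGroup N'] [Module R N'] (φ : R →+* S) (hφ : φ.Finite) [hN : Module.Finite S N]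
    (e : N' ≃+ N) (he : ∀ (r : R) (x : N'), e (r • x) = φ r • e x) : Module.Finite R N' := by
  letI : Algebra R S := φ.toAlgebra
  letI : Module R N := Module.compHom N φ
  haveI : IsScalarTower R S N := IsScalarTower.of_compHom R S N
  haveI : Module.Finite R S := hφ
  haveI : Module.Finite R N := Module.Finite.trans S N
  let e' : N' ≃ₗ[R] N :=
    { e with
      map_smul' := fun r x => by
        change e (r • x) = φ r • e x
        exact he r x }
  exact Module.Finite.equiv e'.symm

/-- direct images of finite type quasi-coherent modules along finite morphisms are of finite type -/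
theorem isFiniteType_pushforward {X Y : Scheme.{u}} (f : X ⟶ Y) [IsFinite f] (M : X.Modules) [M.IsQuasicoherent]
    [SheafOfModules.IsFiniteType (R := X.ringCatSheaf) M] :
    SheafOfModules.IsFiniteType (R := Y.ringCatSheaf) ((Scheme.Modules.pushforward f).obj M) := by
  haveI : ((Scheme.Modules.pushforward f).obj M).IsQuasicoherent := isQuasicoherent_pushforward f M
  rw [isFiniteType_iff_forall_affine]
  intro V hV
  have hU : IsAffineOpen (f ⁻¹ᵁ V) := hV.preimage f
  haveI : Module.Finite Γ(X, f ⁻¹ᵁ V) Γ(M, f ⁻¹ᵁ V) := finite_of_isFiniteType M hU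
  exact finite_of_finite_ringHom (f.app V).hom (IsFinite.finite_app f V hV)
    (AddEquiv.refl Γ(M, f ⁻¹ᵁ V)) (fun r x => pushforward_smul f M V r x)

open AlgebraicGeometry in
/-- If f : X → Y is a finite morphism of schemes with Y locally Noetherian and F is a coherent
O_X-module, then the direct image f_*F is a coherent O_Y-module. -/
theorem result {X Y : Scheme.{u}} (f : X ⟶ Y) [IsFinite f] [IsLocallyNoetherian Y]
    (M : X.Modules) (hM : Coh.IsCoh M) : Coh.IsCoh ((Coh.push f).obj M) := by
  haveI : M.IsQuasicoherent := hM.1
  haveI : SheafOfModules.IsFiniteType (R := X.ringCatSheaf) M := hM.2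
  exact ⟨isQuasicoherent_pushforward f M, isFiniteType_pushforward f M⟩

end Groth.Agent.S0019
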