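import Groth.Statements.S9530
-- import your own Groth.Agent.* helpers here

set_option autoImplicit false
universe u
open CategoryTheory CategoryTheory.Limits AlgebraicGeometry Opposite
open Algz

namespace Groth.Agent.S9530

section aux
variable {A : Type u} [CommRing A] {X : Scheme.{u}} [X.Over (Spec (CommRingCat.of A))]

theorem smulModΓ_comp {M N : X.Modules} (φ : M ⟶ N) (r : Coh.Γtop X) :
    Formal.smulModΓ M r ≫ φ = φ ≫ Formal.smulModΓ N r := by
  apply Scheme.Modules.hom_ext
  intro U
  ext m
  exact Scheme.Modules.Hom.app_smul φ _ m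

theorem smulMod_comp {M N : X.Modules} (φ : M ⟶ N) (a : A) :
    Formal.smulMod A M a ≫ φ = φ ≫ Formal.smulMod A N a :=
  smulModΓ_comp φ _

/-- a map out of `M` kills `J M` iff ... -/
theorem smulFamily_comp_eq_zero_iff {J : Ideal A} {M T : X.Modules} (g : M ⟶ T) :
    Formal.smulFamily J M ≫ g = 0 ↔ ∀ a ∈ J, Formal.smulMod A M a ≫ g = 0 := by
  constructor
  · intro h a ha
    have := congrArg (fun k => Sigma.ι (fun _ : J => M) ⟨a, ha⟩ ≫ k) h
    simpa [Formal.smulFamily] using this
  · intro h
    apply Sigma.hom_ext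
    intro a
    simp [Formal.smulFamily, h a.1 a.2]

theorem epi_succ {I : Ideal A} {F : ℕᵒᵖ ⥤ X.Modules} (hF : Formal.IsCohFormal I F) (n : ℕ) :
    Epi (F.map (homOfLE (Nat.le_succ n)).op) := by
  obtain ⟨h, hI⟩ := hF.2.2 n
  rw [← cokernel.π_desc _ _ h]
  infer_instance

theorem epi_le {I : Ideal A} {F : ℕᵒᵖ ⥤ X.Modules} (hF : Formal.IsCohFormal I F) (n k : ℕ)
    (hk : n ≤ k) : Epi (F.map (homOfLE hk).op) := by
  induction k, hk using Nat.le_induction with
  | base =>
    have : (homOfLE (le_refl n)).op = 𝟙 (op n) := rfl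
    rw [this, F.map_id]; infer_instance
  | succ k hk ih =>
    have : (homOfLE (hk.trans (Nat.le_succ k))).op =
        (homOfLE (Nat.le_succ k)).op ≫ (homOfLE hk).op := rfl
    rw [this, F.map_comp]
    haveI := epi_succ hF k
    exact epi_comp _ _

theorem exists_factor {I : Ideal A} {F : ℕᵒᵖ ⥤ X.Modules} (hF : Formal.IsCohFormal I F) (n k : ℕ)
    (hk : n ≤ k) : ∀ (T : X.Modules) (g : F.obj (op k) ⟶ T),
      (∀ a ∈ I ^ (n + 1), Formal.smulMod A (F.obj (op k)) a ≫ g = 0) →
      ∃ g' : F.obj (op n) ⟶ T, F.map (homOfLE hk).op ≫ g' = g := by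
  induction k, hk using Nat.le_induction with
  | base =>
    intro T g _
    refine ⟨g, ?_⟩
    have : (homOfLE (le_refl n)).op = 𝟙 (op n) := rfl
    rw [this, F.map_id, Category.id_comp]
  | succ k hk ih =>
    intro T g hg
    obtain ⟨h, hI⟩ := hF.2.2 k
    have hg0 : Formal.smulFamily (I ^ (k + 1)) (F.obj (op (k + 1))) ≫ g = 0 := by
      rw [smulFamily_comp_eq_zero_iff]
      intro a ha
      exact hg a (Ideal.pow_le_pow_right (Nat.succ_le_succ hk) ha)
    obtain ⟨g1, hpg1⟩ : ∃ g1 : F.obj (op k) ⟶ T,
        F.map (homOfLE (Nat.le_succ k)).op ≫ g1 = g := by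
      refine ⟨inv (cokernel.desc _ _ h) ≫ cokernel.desc _ g hg0, ?_⟩
      calc F.map (homOfLE (Nat.le_succ k)).op ≫ inv (cokernel.desc _ _ h) ≫ cokernel.desc _ g hg0
          = (cokernel.π _ ≫ cokernel.desc _ _ h) ≫ inv (cokernel.desc _ _ h) ≫
              cokernel.desc _ g hg0 := by rw [cokernel.π_desc]
        _ = g := by rw [Category.assoc, IsIso.hom_inv_id_assoc, cokernel.π_desc]
    haveI : Epi (F.map (homOfLE (Nat.le_succ k)).op) := epi_succ hF k
    obtain ⟨g', hg'⟩ := ih T g1 (by
      intro a ha
      rw [← cancel_epi (F.map (homOfLE (Nat.le_succ k)).op), comp_zero, ← Category.assoc,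
        ← smulMod_comp, Category.assoc, hpg1]
      exact hg a ha)
    refine ⟨g', ?_⟩
    have : (homOfLE (hk.trans (Nat.le_succ k))).op =
        (homOfLE (Nat.le_succ k)).op ≫ (homOfLE hk).op := rfl
    rw [this, F.map_comp, Category.assoc, hg', hpg1]

end aux

/-- The functor from Coh(X, I O_X) to pro-objects of quasi-coherent modules is fully faithful: for the
ideal sheaf I O_X of an ideal I of a base ring A and with positions shifted by one. Let X be a
Noetherian scheme over Spec A and F, G objects of Coh(X, I O_X). Let m be a monotone self-map of ℕ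
with n ≤ m n, let π be the levelwise map from the re-indexed system n ↦ F_(m n) to F whose
components are the transition maps of F, and let α be any levelwise map from the re-indexed system
to G. Then α factors as π followed by a unique morphism of systems β from F to G. (Existence is
fullness on this representative of a pro-morphism, uniqueness is faithfulness.) -/
theorem result (A : Type u) [CommRing A] (I : Ideal A) (X : Scheme.{u})
    [X.Over (Spec (CommRingCat.of A))] [IsNoetherian X] (F G : ℕᵒᵖ ⥤ X.Modules)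
    (hF : Formal.IsCohFormal I F) (hG : Formal.IsCohFormal I G) (m : ℕ → ℕ) (hm : Monotone m)
    (hle : ∀ n : ℕ, n ≤ m n) (π : DerCA.reindex F hm ⟶ F)
    (hπ : ∀ n : ℕ, π.app (op n) = F.map (homOfLE (hle n)).op) (α : DerCA.reindex F hm ⟶ G) :
    ∃! β : F ⟶ G, π ≫ β = α := by
  have hex : ∀ n : ℕ, ∃ b : F.obj (op n) ⟶ G.obj (op n),
      F.map (homOfLE (hle n)).op ≫ b = α.app (op n) := by
    intro n
    refine exists_factor hF n (m n) (hle n) _ (α.app (op n)) ?_
    intro a ha
    have h1 : Formal.smulMod A ((DerCA.reindex F hm).obj (op n)) a ≫ α.app (op n) =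
        α.app (op n) ≫ Formal.smulMod A (G.obj (op n)) a := smulMod_comp _ a
    have h2 : Formal.smulMod A (G.obj (op n)) a = 0 := hG.2.1 n a ha
    rw [h2, comp_zero] at h1
    exact h1
  choose b hb using hex
  have hepi : ∀ n : ℕ, Epi (π.app (op n)) := by
    intro n
    rw [hπ n]
    exact epi_le hF n (m n) (hle n)
  have hπb : ∀ n : ℕ, π.app (op n) ≫ b n = α.app (op n) := by
    intro n
    rw [hπ n]
    exact hb n
  refine ⟨{ app := fun n => b n.unop, naturality := ?_ }, ?_, ?_⟩
  · intro k n f
    haveI := hepi k.unop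
    rw [← cancel_epi (π.app k)]
    have e1 := π.naturality f
    have e2 := α.naturality f
    calc π.app k ≫ F.map f ≫ b n.unop
        = ((DerCA.reindex F hm).map f ≫ π.app n) ≫ b n.unop := by
          rw [e1, Category.assoc]
      _ = (DerCA.reindex F hm).map f ≫ α.app n := by
          rw [Category.assoc]; exact congrArg _ (hπb n.unop)
      _ = α.app k ≫ G.map f := e2
      _ = π.app k ≫ b k.unop ≫ G.map f := by
          rw [← Category.assoc]; exact congrArg (· ≫ G.map f) (hπb k.unop).symm
  · apply NatTrans.ext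
    funext n
    exact hπb n.unop
  · intro β' hβ'
    apply NatTrans.ext
    funext n
    haveI := hepi n.unop
    rw [← cancel_epi (π.app n)]
    have := congrArg (fun t => t.app n) hβ'
    simp only [NatTrans.comp_app] at this
    rw [this]
    exact (hπb n.unop).symm

end Groth.Agent.S9530
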