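import Groth.Statements.S0786
import Groth.Agent.Lib.Helper13UnitSub
import Groth.Agent.Lib.Helper20FormalPull

set_option autoImplicit false
universe u
open CategoryTheory CategoryTheory.Limits AlgebraicGeometry

namespace Groth.Agent.S0786

set_option linter.style.haveILetI false

open Scheme.Modules Groth.Agent.Helper13PullbackUnit Opposite TopologicalSpace

/-- if the kernel ideal sheaf of a closed immersion `i` kills the quasi-coherent module `F`, the unit
`F → i_* i^* F` is an isomorphism (helper13's argument for `J.subschemeι`, for a general closed immersion). -/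
theorem isIso_unit_closedImmersion {X Z : Scheme.{u}} (i : Z ⟶ X) [IsClosedImmersion i]
    (F : X.Modules) [F.IsQuasicoherent]
    (hJ : ∀ (U : X.affineOpens) (r : Γ(X, U.1)), r ∈ i.ker.ideal U → ∀ m : Γ(F, U.1), r • m = 0) :
    IsIso ((pullbackPushforwardAdjunction i).unit.app F) := by
  refine Groth.Agent.Helper13AffBC.isIso_of_bijective_on_basis _
    (fun U : X.affineOpens => (U.1 : X.Opens)) ?_ fun U => ?_
  · have := X.isBasis_affineOpens
    rwa [← Subtype.range_coe (s := X.affineOpens)] at this
  · have hU' : IsAffineOpen (i ⁻¹ᵁ U.1) := U.2.preimage i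
    have hle : i ⁻¹ᵁ U.1 ≤ i ⁻¹ᵁ U.1 := le_rfl
    have hfun : ∀ m : Γ(F, U.1), ((pullbackPushforwardAdjunction i).unit.app F).app U.1 m =
        unitSec i F hle m := by
      intro m
      rw [unitSec_apply]
      have h1 : ∀ z : Γ((Scheme.Modules.pullback i).obj F, i ⁻¹ᵁ U.1),
          z = ((Scheme.Modules.pullback i).obj F).presheaf.map (homOfLE hle).op z := by
        intro z
        have h0 : (homOfLE hle).op = 𝟙 (op (i ⁻¹ᵁ U.1)) := rfl
        rw [h0, CategoryTheory.Functor.map_id]
        rfl
      exact h1 _
    have hsurj : Function.Surjective (i.app U.1).hom := i.app_surjective U.1 U.2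
    have hbij : Function.Bijective (unitSec i F hle) := by
      refine Groth.Agent.Helper13BCAlg2.bijective_of_lift_of_surjective
        (i.appLE U.1 (i ⁻¹ᵁ U.1) hle).hom ?_ ?_ _
        (unitSec_smul i F hle)
        (fun N _ _ l hl => existsUnique_lift i F U.2 hU' hle N l hl)
      · rw [Scheme.Hom.appLE_eq_app]
        exact hsurj
      · intro r hr m
        rw [Scheme.Hom.appLE_eq_app, ← i.ker_apply U] at hr
        exact hJ U r hr m
    have : ⇑(ConcreteCategory.hom
        (((pullbackPushforwardAdjunction i).unit.app F).app U.1)) =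
        ⇑(unitSec i F hle) := funext hfun
    rw [this]
    exact hbij

open CategoryTheory AlgebraicGeometry in
/-- Let i : Z → X be a closed immersion with X locally Noetherian, and let F be a coherent O_X-module
annihilated by the kernel ideal sheaf of i. Then F is isomorphic to i_* G for some coherent
O_Z-module G. (Together with full faithfulness of i_* on quasi-coherent modules this is the
equivalence of the source.) -/
theorem result {Z X : Scheme.{u}} (i : Z ⟶ X)
    [IsClosedImmersion i] [IsLocallyNoetherian X] (F : X.Modules) (hF : Coh.IsCoh F)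
    (hk : ClSub.KilledByIdeal i.ker F) :
    ∃ G : Z.Modules, Coh.IsCoh G ∧ Nonempty ((Scheme.Modules.pushforward i).obj G ≅ F) := by
  haveI : F.IsQuasicoherent := hF.1
  haveI : SheafOfModules.IsFiniteType (R := X.ringCatSheaf) F := hF.2
  haveI := isIso_unit_closedImmersion i F (fun U r hr m => hk U r hr m)
  exact ⟨(Scheme.Modules.pullback i).obj F,
    ⟨Groth.Agent.Lib.Helper2.PullbackSec.isQuasicoherent_pullback i F,
      Groth.Agent.Lib.Helper20.FormalPull.isFiniteType_pullback i F⟩,
    ⟨(asIso ((pullbackPushforwardAdjunction i).unit.app F)).symm⟩⟩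

end Groth.Agent.S0786
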