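import Groth.Statements.S1681
import Groth.Agent.Lib.Helper20BlowUp

set_option autoImplicit false
universe u
open CategoryTheory CategoryTheory.Limits AlgebraicGeometry TopologicalSpace
open SDiv

namespace Groth.Agent.S1681

set_option linter.style.haveILetI false
open nonZeroDivisors TopologicalSpace

open Groth.Agent.Lib.Helper20.BlowUpBasic

/-- a point with no proper generization corresponds to a minimal prime of any affine open nbhd. -/
theorem primeIdealOf_mem_minimalPrimes {X : Scheme.{u}} {U : X.Opens} (hU : IsAffineOpen U) (x : X)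
    (hxU : x ∈ U) (hx : ∀ y : X, y ⤳ x → y = x) :
    (hU.primeIdealOf ⟨x, hxU⟩).asIdeal ∈ minimalPrimes Γ(X, U) := by
  set P : PrimeSpectrum Γ(X, U) := hU.primeIdealOf ⟨x, hxU⟩ with hP
  have hPx : hU.fromSpec P = x := hU.fromSpec_primeIdealOf ⟨x, hxU⟩
  refine ⟨⟨P.isPrime, bot_le⟩, ?_⟩
  rintro 𝔮 ⟨h𝔮, -⟩ hle
  let Q : PrimeSpectrum Γ(X, U) := ⟨𝔮, h𝔮⟩
  have h1 : Q ⤳ P := (PrimeSpectrum.le_iff_specializes Q P).1 hle
  have h2 : hU.fromSpec Q ⤳ hU.fromSpec P := h1.map hU.fromSpec.continuous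
  rw [hPx] at h2
  have h3 : hU.fromSpec Q = hU.fromSpec P := by rw [hPx]; exact hx _ h2
  have h4 : Q = P := hU.fromSpec.isOpenEmbedding.injective h3
  rw [← h4]

/-- points with no proper generization avoid the zero locus of a nonzerodivisor. -/
theorem mem_basicOpen_of_isMax {X : Scheme.{u}} {U : X.Opens} (hU : IsAffineOpen U) (t : Γ(X, U))
    (ht : t ∈ Γ(X, U)⁰) (x : X) (hxU : x ∈ U) (hx : ∀ y : X, y ⤳ x → y = x) : x ∈ X.basicOpen t := by
  have hmin := primeIdealOf_mem_minimalPrimes hU x hxU hx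
  have hnot : t ∉ (hU.primeIdealOf ⟨x, hxU⟩).asIdeal := fun hmem =>
    notMem_nonZeroDivisors_of_mem_mem_minimalPrimes hmem hmin ht
  have hPx : hU.fromSpec (hU.primeIdealOf ⟨x, hxU⟩) = x := hU.fromSpec_primeIdealOf ⟨x, hxU⟩
  have h2 : hU.primeIdealOf ⟨x, hxU⟩ ∈ hU.fromSpec ⁻¹ᵁ X.basicOpen t := by
    rw [hU.fromSpec_preimage_basicOpen]
    exact hnot
  rw [← hPx]
  exact h2


/-- Let b : X' ⟶ X be a blowing-up of X along the quasi-coherent ideal sheaf 𝓘. Then b restricts to a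
bijection from the maximal points of X' (points with no proper generization) onto the maximal points
of X not lying in the support of 𝓘. -/
theorem result {X X' : Scheme.{u}} (𝓘 : X.IdealSheafData) (b : X' ⟶ X) (hb : BlowUp.IsBlowUp b 𝓘) :
    Set.BijOn (fun x' => b x') {x' : ↥X' | ∀ y : ↥X', y ⤳ x' → y = x'}
      {x : ↥X | (∀ y : ↥X, y ⤳ x → y = x) ∧ x ∉ 𝓘.support} := by
  set W := compl 𝓘 with hWdef
  haveI := isIso_morphismRestrict 𝓘 b hb
  let φ := b ∣_ W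
  let ψ := inv φ
  have hφψ : ∀ w, φ (ψ w) = w := fun w => by
    rw [← Scheme.Hom.comp_apply, IsIso.inv_hom_id]; rfl
  have hψφ : ∀ z, ψ (φ z) = z := fun z => by
    rw [← Scheme.Hom.comp_apply, IsIso.hom_inv_id]; rfl
  have hφb : ∀ z, (φ z).1 = b z.1 := fun z => morphismRestrict_base_coe b W z
  -- maximal points of X' lie over W
  have hmaxW : ∀ x' : X', (∀ y : X', y ⤳ x' → y = x') → x' ∈ b ⁻¹ᵁ W := by
    intro x' hx'
    obtain ⟨U', hU', hx'U', -, t, ht, hE⟩ :=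
      Groth.Agent.Lib.Helper20.EffCartier.exists_le_of_isEffCartierIdeal hb.1 x' ⊤ trivial
    exact basicOpen_le_preimage_compl 𝓘 b hU' t hE (mem_basicOpen_of_isMax hU' t ht x' hx'U' hx')
  refine ⟨?_, ?_, ?_⟩
  · -- maps to
    intro x' hx'
    have hx'W := hmaxW x' hx'
    refine ⟨?_, hx'W⟩
    intro y hy
    have hyW : y ∈ W := hy.mem_open W.isOpen hx'W
    have h1 : (⟨y, hyW⟩ : W.toScheme) ⤳ (⟨b x', hx'W⟩ : W.toScheme) := (subtype_specializes_iff _ _).2 hy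
    have h2 : ψ (⟨y, hyW⟩ : W.toScheme) ⤳ ψ (⟨b x', hx'W⟩ : W.toScheme) := h1.map ψ.continuous
    have h3 : ψ (⟨b x', hx'W⟩ : W.toScheme) = (⟨x', hx'W⟩ : (b ⁻¹ᵁ W).toScheme) := by
      have : φ (⟨x', hx'W⟩ : (b ⁻¹ᵁ W).toScheme) = (⟨b x', hx'W⟩ : W.toScheme) := Subtype.ext (hφb _)
      rw [← this]; exact hψφ _
    rw [h3] at h2
    have h4 : (ψ (⟨y, hyW⟩ : W.toScheme)).1 ⤳ x' := (subtype_specializes_iff _ _).1 h2
    have h5 := hx' _ h4
    have h6 : b (ψ (⟨y, hyW⟩ : W.toScheme)).1 = y :=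
      (hφb _).symm.trans (congrArg Subtype.val (hφψ _))
    rw [← h6, h5]
  · -- injective
    intro x₁ hx₁ x₂ hx₂ h12
    have h1 := hmaxW x₁ hx₁
    have h2 := hmaxW x₂ hx₂
    have h3 : φ (⟨x₁, h1⟩ : (b ⁻¹ᵁ W).toScheme) = φ (⟨x₂, h2⟩ : (b ⁻¹ᵁ W).toScheme) := Subtype.ext (((hφb _).trans h12).trans (hφb _).symm)
    have h4 := congrArg ψ h3
    have h5 := ((hψφ _).symm.trans h4).trans (hψφ _)
    exact congrArg Subtype.val h5
  · -- surjective
    rintro x ⟨hx, hxW⟩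
    have hxW' : x ∈ W := hxW
    refine ⟨(ψ (⟨x, hxW'⟩ : W.toScheme)).1, ?_, ?_⟩
    · intro y' hy'
      have hy'W : y' ∈ b ⁻¹ᵁ W := hy'.mem_open (b ⁻¹ᵁ W).isOpen (ψ (⟨x, hxW'⟩ : W.toScheme)).2
      have h1 : b y' ⤳ b (ψ (⟨x, hxW'⟩ : W.toScheme)).1 := hy'.map b.continuous
      have h2 : b (ψ (⟨x, hxW'⟩ : W.toScheme)).1 = x :=
        (hφb _).symm.trans (congrArg Subtype.val (hφψ _))
      rw [h2] at h1
      have h3 := hx _ h1
      have h4 : φ (⟨y', hy'W⟩ : (b ⁻¹ᵁ W).toScheme) = (⟨x, hxW'⟩ : W.toScheme) := Subtype.ext ((hφb _).trans h3)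
      have h5 := (hψφ _).symm.trans (congrArg ψ h4)
      exact congrArg Subtype.val h5
    · exact (hφb _).symm.trans (congrArg Subtype.val (hφψ _))


end Groth.Agent.S1681
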