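import Groth.Statements.S8861
import Groth.Agent.Lib.Helper20EffCartier
import Groth.Agent.Lib.Helper20OmegaAff
import Groth.Agent.Lib.Helper2QCoh

set_option autoImplicit false
universe u
open CategoryTheory CategoryTheory.Limits AlgebraicGeometry TopologicalSpace
open SDiv

namespace Groth.Agent.S8861

set_option linter.style.haveILetI false
open nonZeroDivisors TopologicalSpace

open Groth.Agent.Lib.Helper2.QCoh

theorem exists_pow_mul_mem_of_mem_minimalPrimes {R : Type*} [CommRing R] {I 𝔭 : Ideal R}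
    (h𝔭 : 𝔭 ∈ I.minimalPrimes) {b : R} (hb : b ∈ 𝔭) : ∃ (k : ℕ) (s : R), s ∉ 𝔭 ∧ s * b ^ k ∈ I := by
  by_contra hcon
  push Not at hcon
  haveI : 𝔭.IsPrime := h𝔭.1.1
  let T : Submonoid R := 𝔭.primeCompl ⊔ Submonoid.powers b
  have hdisj : Disjoint (I : Set R) (T : Set R) := by
    rw [Set.disjoint_left]
    intro a haI haT
    obtain ⟨s, hs, z, hz, rfl⟩ := Submonoid.mem_sup.1 haT
    obtain ⟨k, rfl⟩ := hz
    exact hcon k s hs haI
  obtain ⟨q, hqprime, hIq, hqT⟩ := Ideal.exists_le_prime_disjoint I T hdisj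
  have hqp : q ≤ 𝔭 := by
    intro a ha
    by_contra hap
    exact (Set.disjoint_left.1 hqT) ha (Submonoid.mem_sup_left (S := 𝔭.primeCompl) hap)
  have hpq : 𝔭 ≤ q := h𝔭.2 ⟨hqprime, hIq⟩ hqp
  exact (Set.disjoint_left.1 hqT) (hpq hb) (Submonoid.mem_sup_right (Submonoid.mem_powers b))

/-- preimage of support under f, on an affine chart where the ideal is principal -/
theorem mem_basicOpen_of_notMem_support {X Y : Scheme.{u}} (f : X ⟶ Y) (𝓘 : Y.IdealSheafData)
    (V : Y.affineOpens) (a : Γ(Y, V.1)) (hV : 𝓘.ideal V = Ideal.span {a}) {U : X.Opens}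
    (hUV : U ≤ f ⁻¹ᵁ V.1) (ξ : X) (hξ : ξ ∈ U) (h : f ξ ∉ 𝓘.support) :
    ξ ∈ X.basicOpen ((f.appLE V.1 U hUV).hom a) := by
  rw [Scheme.IdealSheafData.mem_support_iff_of_mem (U := V) (hUV hξ), Scheme.mem_zeroLocus_iff] at h
  push Not at h
  obtain ⟨r, hr, hξr⟩ := h
  rw [hV, SetLike.mem_coe, Ideal.mem_span_singleton'] at hr
  obtain ⟨c, rfl⟩ := hr
  rw [Scheme.basicOpen_mul] at hξr
  have h1 : ξ ∈ f ⁻¹ᵁ Y.basicOpen a := hξr.2
  rw [Scheme.preimage_basicOpen] at h1
  have h2 : (f.appLE V.1 U hUV).hom a = (X.presheaf.map (homOfLE hUV).op).hom ((f.app V.1).hom a) := rfl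
  rw [h2, Scheme.basicOpen_res]
  exact ⟨hξ, h1⟩

/-- the weakly associated point of the structure sheaf attached to a zero divisor relation. -/
theorem exists_isWeakAssPoint {X : Scheme.{u}} {U : X.Opens} (hU : IsAffineOpen U) (β y : Γ(X, U))
    (hy : y * β = 0) (hy0 : y ≠ 0) :
    ∃ ξ : X, ∃ _ : ξ ∈ U, ξ ∉ X.basicOpen β ∧ Curv2.IsWeakAssPoint (Coh.structureModule X) ξ := by
  let F := Coh.structureModule X
  haveI : F.IsQuasicoherent := Groth.Agent.Lib.Helper20.OmegaAff.isQuasicoherent_structureModule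
  let y' : Γ(F, U) := y
  have hsmul : ∀ a : Γ(X, U), a • y' = (a * y : Γ(X, U)) := fun a => rfl
  have hann_ne : ann F y' ≠ ⊤ := by
    intro htop
    have h1 : (1 : Γ(X, U)) ∈ ann F y' := by rw [htop]; trivial
    rw [mem_ann, hsmul, one_mul] at h1
    exact hy0 h1
  obtain ⟨𝔭, h𝔭⟩ := Ideal.nonempty_minimalPrimes hann_ne
  haveI : 𝔭.IsPrime := h𝔭.1.1
  let P : PrimeSpectrum Γ(X, U) := ⟨𝔭, inferInstance⟩
  have hβ𝔭 : β ∈ 𝔭 := h𝔭.1.2 (by rw [mem_ann, hsmul, mul_comm]; exact hy)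
  refine ⟨hU.fromSpec P, fromSpec_mem hU P, ?_, ?_⟩
  · rw [mem_basicOpen_fromSpec_iff hU P β]
    exact fun h => h hβ𝔭
  · set x := hU.fromSpec P with hx
    have hxU : x ∈ U := fromSpec_mem hU P
    have hPx : hU.primeIdealOf ⟨x, hxU⟩ = P := primeIdealOf_fromSpec hU P
    have hm0 : F.presheaf.germ U x hxU y' ≠ 0 := germ_fromSpec_ne_zero hU F y' P h𝔭.1.2
    refine ⟨F.presheaf.germ U x hxU y', ?_⟩
    set I := LinearMap.ker (LinearMap.toSpanSingleton (X.presheaf.stalk x) (F.presheaf.stalk x)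
      (F.presheaf.germ U x hxU y')) with hI
    have memI : ∀ a, a ∈ I ↔ a • F.presheaf.germ U x hxU y' = 0 := by
      intro a
      simp [hI, LinearMap.mem_ker, LinearMap.toSpanSingleton_apply]
    apply le_antisymm
    · have hIne : I ≠ ⊤ := by
        intro htop
        have : (1 : X.presheaf.stalk x) ∈ I := by rw [htop]; trivial
        rw [memI, one_smul] at this
        exact hm0 this
      have hle : I ≤ IsLocalRing.maximalIdeal (X.presheaf.stalk x) := IsLocalRing.le_maximalIdeal hIne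
      exact (Ideal.IsPrime.radical_le_iff (IsLocalRing.maximalIdeal.isMaximal _).isPrime).2 hle
    · intro a ha
      let _ : Algebra Γ(X, U) (X.presheaf.stalk x) :=
        TopCat.Presheaf.algebra_section_stalk X.presheaf (⟨x, hxU⟩ : U)
      have hloc : IsLocalization.AtPrime (X.presheaf.stalk x) (hU.primeIdealOf ⟨x, hxU⟩).asIdeal :=
        hU.isLocalization_stalk ⟨x, hxU⟩
      obtain ⟨⟨b, s'⟩, hbs⟩ := IsLocalization.surj (hU.primeIdealOf ⟨x, hxU⟩).asIdeal.primeCompl a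
      have hbs' : a * X.presheaf.germ U x hxU s'.1 = X.presheaf.germ U x hxU b := hbs
      have hs'u : IsUnit (X.presheaf.germ U x hxU s'.1) :=
        IsLocalization.map_units (X.presheaf.stalk x) s'
      have hbp : b ∈ (hU.primeIdealOf ⟨x, hxU⟩).asIdeal := by
        rw [← germ_mem_maximalIdeal_iff hU x hxU, ← hbs']
        exact Ideal.mul_mem_right _ _ ha
      rw [hPx] at hbp
      obtain ⟨k, s, hs𝔭, hsk⟩ := exists_pow_mul_mem_of_mem_minimalPrimes h𝔭 hbp
      have hk : (X.presheaf.germ U x hxU b) ^ k • F.presheaf.germ U x hxU y' = 0 := by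
        have h1 : (s * b ^ k) • y' = 0 := mem_ann.1 hsk
        have h2 := congrArg (F.presheaf.germ U x hxU) h1
        rw [map_zero, germ_smul, map_mul, mul_smul, map_pow] at h2
        have hsu : IsUnit (X.presheaf.germ U x hxU s) := by
          rw [← Scheme.mem_basicOpen, mem_basicOpen_fromSpec_iff hU P s]
          exact hs𝔭
        exact germ_smul_eq_zero_of_isUnit hsu h2
      refine ⟨k, ?_⟩
      rw [memI]
      rw [← hbs', mul_pow, mul_comm, mul_smul] at hk
      exact germ_smul_eq_zero_of_isUnit (hs'u.pow k) hk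


/-- Let f : X ⟶ Y be a morphism of schemes and 𝓘 the ideal sheaf of an effective Cartier divisor D ⊆ Y.
If f x ∉ D for every weakly associated point x of X (weakly associated point of the structure
sheaf), then the inverse image ideal sheaf of 𝓘 on X is the ideal of an effective Cartier divisor,
i.e. the pullback of D by f is defined. -/
theorem result {X Y : Scheme.{u}} (f : X ⟶ Y) (𝓘 : Y.IdealSheafData)
    (hD : BlowUp.IsEffCartierIdeal 𝓘)
    (h : ∀ x : ↥X, Curv2.IsWeakAssPoint (Coh.structureModule X) x → f x ∉ 𝓘.support) :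
    BlowUp.IsEffCartierIdeal (𝓘.comap f) := by
  intro x
  obtain ⟨V, hfxV, a, ha, hVI⟩ := hD (f x)
  obtain ⟨U, hU, hxU, hUV⟩ := exists_isAffineOpen_mem_and_subset (x := x) (U := f ⁻¹ᵁ V.1) hfxV
  have key := Groth.Agent.Lib.Helper20.EffCartier.ideal_comap_eq_map f 𝓘 hU V.2 hUV
  have hVI' : 𝓘.ideal ⟨V.1, V.2⟩ = Ideal.span {a} := hVI
  rw [hVI', Ideal.map_span, Set.image_singleton] at key
  refine ⟨⟨U, hU⟩, hxU, _, ?_, key⟩
  rw [mem_nonZeroDivisors_iff_right]
  intro y hy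
  by_contra hy0
  obtain ⟨ξ, hξU, hξβ, hξass⟩ := exists_isWeakAssPoint hU _ y hy hy0
  exact hξβ (mem_basicOpen_of_notMem_support f 𝓘 V a hVI hUV ξ hξU (h ξ hξass))


end Groth.Agent.S8861
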