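import Groth.Statements.S8898
import Groth.Agent.Lib.Helper20BlowUp

set_option autoImplicit false
universe u
open CategoryTheory CategoryTheory.Limits AlgebraicGeometry TopologicalSpace
open SDiv

namespace Groth.Agent.S8898

set_option linter.style.haveILetI false
open nonZeroDivisors

/-- a section over an affine open with nonzerodivisor germs is a nonzerodivisor. -/
theorem mem_nonZeroDivisors_of_germ {X : Scheme.{u}} {V : X.Opens} (s : Γ(X, V))
    (hs : ∀ x : V, X.presheaf.germ V x.1 x.2 s ∈ (X.presheaf.stalk x.1)⁰) : s ∈ Γ(X, V)⁰ := by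
  rw [mem_nonZeroDivisors_iff_right]
  intro y hy
  apply TopCat.Presheaf.section_ext X.sheaf V
  intro x hx
  change X.presheaf.germ V x hx y = X.presheaf.germ V x hx 0
  rw [map_zero]
  apply (mem_nonZeroDivisors_iff_right.1 (hs ⟨x, hx⟩))
  change X.presheaf.germ V x hx y * X.presheaf.germ V x hx s = 0
  rw [← map_mul, hy, map_zero]

/-- germs of a nonzerodivisor over an affine open are nonzerodivisors. -/
theorem germ_mem_nonZeroDivisors {X : Scheme.{u}} {U : X.Opens} (hU : IsAffineOpen U) (s : Γ(X, U))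
    (hs : s ∈ Γ(X, U)⁰) (x : U) : X.presheaf.germ U x.1 x.2 s ∈ (X.presheaf.stalk x.1)⁰ := by
  have inst := hU.isLocalization_stalk x
  have h1 : (X.presheaf.germ U x.1 x.2).hom = algebraMap Γ(X, U) (X.presheaf.stalk x.1) := rfl
  change (X.presheaf.germ U x.1 x.2).hom s ∈ _
  rw [h1]
  exact IsLocalization.map_nonZeroDivisors_le (hU.primeIdealOf x).asIdeal.primeCompl _
    (Submonoid.mem_map_of_mem _ hs)


/-- Let X be a scheme, 𝓘 a quasi-coherent ideal sheaf and b : X' ⟶ X a blowing up of X in 𝓘. Then the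
pullback b⁻¹D is defined for every effective Cartier divisor D ⊆ X (the inverse image ideal of the
ideal of D is again the ideal of an effective Cartier divisor), and pullbacks of meromorphic
functions are defined for b (b carries regular sections of O_X, i.e. sections whose germs are
nonzerodivisors, to regular sections of O_{X'}). -/
theorem result {X X' : Scheme.{u}} (𝓘 : X.IdealSheafData) (b : X' ⟶ X) (hb : BlowUp.IsBlowUp b 𝓘) :
    (∀ 𝓓 : X.IdealSheafData, BlowUp.IsEffCartierIdeal 𝓓 → BlowUp.IsEffCartierIdeal (𝓓.comap b)) ∧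
      ∀ (U : X.Opens) (s : Γ(X, U)), s ∈ Mero.regSub X U → b.app U s ∈ Mero.regSub X' (b ⁻¹ᵁ U) := by
  refine ⟨fun 𝓓 h𝓓 => Groth.Agent.Lib.Helper20.BlowUpBasic.isEffCartierIdeal_comap 𝓘 b hb 𝓓 h𝓓, ?_⟩
  intro U s hs x'
  obtain ⟨V, hV, hxV, hVU⟩ := exists_isAffineOpen_mem_and_subset (x := b x'.1) (U := U) x'.2
  have hsV : (X.presheaf.map (homOfLE hVU).op).hom s ∈ Γ(X, V)⁰ :=
    mem_nonZeroDivisors_of_germ _ (Mero.regSub_res (homOfLE hVU) hs)
  obtain ⟨U', hU', hx'U', hU'V, t, ht, hE⟩ :=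
    Groth.Agent.Lib.Helper20.EffCartier.exists_le_of_isEffCartierIdeal hb.1 x'.1 (b ⁻¹ᵁ V) hxV
  have hβ := Groth.Agent.Lib.Helper20.BlowUpBasic.mem_nonZeroDivisors_appLE 𝓘 b hb hV _ hsV hU' hU'V t ht hE
  have hgerm := germ_mem_nonZeroDivisors hU' _ hβ ⟨x'.1, hx'U'⟩
  have hU'U : U' ≤ b ⁻¹ᵁ U := hU'V.trans (fun z hz => hVU hz)
  have hcompat : (b.appLE V U' hU'V).hom ((X.presheaf.map (homOfLE hVU).op).hom s) =
      (X'.presheaf.map (homOfLE hU'U).op).hom ((b.app U).hom s) := by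
    have h1 : X.presheaf.map (homOfLE hVU).op ≫ b.appLE V U' hU'V = b.appLE U U' hU'U :=
      Scheme.Hom.map_appLE b hU'V (homOfLE hVU).op
    have h2 : b.appLE U U' hU'U = b.app U ≫ X'.presheaf.map (homOfLE hU'U).op := rfl
    have := congrArg (fun q => q.hom s) (h1.trans h2)
    exact this
  rw [hcompat] at hgerm
  change X'.presheaf.germ (b ⁻¹ᵁ U) x'.1 x'.2 ((b.app U).hom s) ∈ _
  have h3 := TopCat.Presheaf.germ_res_apply X'.presheaf (homOfLE hU'U) x'.1 hx'U' ((b.app U).hom s)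
  rw [← h3]
  exact hgerm


end Groth.Agent.S8898
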