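import Groth.Statements.S8863
import Groth.Agent.Lib.Helper20Kmod2
import Groth.Agent.Lib.Helper2QCoh
import Groth.Agent.S8898

set_option autoImplicit false
universe u
open CategoryTheory CategoryTheory.Limits AlgebraicGeometry TopologicalSpace
open SDiv

namespace Groth.Agent.S8863

set_option linter.style.haveILetI false

open Groth.Agent.Lib.Helper2.QCoh nonZeroDivisors

/-- if `f` kills the annihilator of `a`, then `a` becomes a nonzerodivisor after inverting `f`. -/
theorem algebraMap_mem_nonZeroDivisors_away {B : Type*} [CommRing B] (a f : B)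
    (hf : ∀ k, k * a = 0 → f * k = 0) (B' : Type*) [CommRing B'] [Algebra B B']
    [IsLocalization.Away f B'] : algebraMap B B' a ∈ B'⁰ := by
  rw [mem_nonZeroDivisors_iff_right]
  intro z hz
  obtain ⟨⟨z', s⟩, hzs⟩ := IsLocalization.surj (Submonoid.powers f) z
  have hsu : IsUnit (algebraMap B B' s.1) := IsLocalization.map_units B' s
  have h1 : algebraMap B B' (z' * a) = 0 := by
    rw [map_mul, ← hzs, mul_right_comm, hz, zero_mul]
  obtain ⟨⟨c, m, rfl⟩, hc⟩ := (IsLocalization.map_eq_zero_iff (Submonoid.powers f) B' _).1 h1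
  have h2 : f * (f ^ m * z') = 0 := hf _ (by rw [mul_assoc]; exact hc)
  have h3 : algebraMap B B' z' = 0 := by
    have h4 : algebraMap B B' (f ^ (m + 1)) * algebraMap B B' z' = 0 := by
      rw [← map_mul, pow_succ', mul_assoc, h2, map_zero]
    have hfu : IsUnit (algebraMap B B' (f ^ (m + 1))) :=
      IsLocalization.map_units B' (⟨f ^ (m + 1), m + 1, rfl⟩ : Submonoid.powers f)
    exact (hfu.mul_right_eq_zero).1 h4
  rw [h3] at hzs
  exact (hsu.mul_left_eq_zero).1 hzs


/-- Let X be a locally Noetherian scheme and x a point of X. Then the monoid S_x of germs at x of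
regular sections of O_X (sections whose germ at every point of their open of definition is a
nonzerodivisor) is the whole monoid of nonzerodivisors of O_{X,x}; consequently K_{X,x} is the total
ring of fractions of O_{X,x}. -/
theorem result (X : Scheme.{u}) [IsLocallyNoetherian X] (x : ↥X) :
    Mero.regStalk X x = nonZeroDivisors ↑(X.presheaf.stalk x) := by
  apply le_antisymm (Mero.regStalk_le_nonZeroDivisors x)
  intro g hg
  obtain ⟨V, hxV, s, rfl⟩ := X.presheaf.exists_germ_eq g
  obtain ⟨U, hU, hxU, hUV⟩ :=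
    (TopologicalSpace.Opens.isBasis_iff_nbhd.mp X.isBasis_affineOpens) hxV
  set a : Γ(X, U) := X.presheaf.map (homOfLE hUV).op s with ha
  have hga : X.presheaf.germ U x hxU a = X.presheaf.germ V x hxV s :=
    TopCat.Presheaf.germ_res_apply X.presheaf _ x hxU s
  rw [← hga] at hg ⊢
  haveI : IsNoetherianRing Γ(X, U) := IsLocallyNoetherian.component_noetherian ⟨U, hU⟩
  -- the annihilator of `a`
  let K : Ideal Γ(X, U) := LinearMap.ker (LinearMap.mulRight Γ(X, U) a)
  have hK : ∀ k, k ∈ K ↔ k * a = 0 := fun k => by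
    simp [K, LinearMap.mem_ker]
  obtain ⟨S, hS⟩ : K.FG := IsNoetherian.noetherian K
  have hex : ∀ k ∈ S, ∃ f : Γ(X, U), x ∈ X.basicOpen f ∧ f * k = 0 := by
    intro k hk
    have hkK : k * a = 0 := (hK k).1 (hS ▸ Ideal.subset_span hk)
    have h1 : X.presheaf.germ U x hxU k = 0 := by
      apply (mem_nonZeroDivisors_iff_right.1 hg)
      rw [← map_mul, hkK, map_zero]
    letI : Algebra Γ(X, U) (X.presheaf.stalk x) :=
      TopCat.Presheaf.algebra_section_stalk X.presheaf (⟨x, hxU⟩ : U)
    haveI : IsLocalization.AtPrime (X.presheaf.stalk x) (hU.primeIdealOf ⟨x, hxU⟩).asIdeal :=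
      hU.isLocalization_stalk ⟨x, hxU⟩
    obtain ⟨m, hm⟩ := (IsLocalization.map_eq_zero_iff (hU.primeIdealOf ⟨x, hxU⟩).asIdeal.primeCompl
      (X.presheaf.stalk x) k).1 h1
    refine ⟨m.1, ?_, hm⟩
    rw [Groth.Agent.Lib.Helper2.mem_basicOpen_iff_notMem_primeIdealOf hU x hxU]
    exact m.2
  choose! f hfx hfk using hex
  let F : Γ(X, U) := ∏ k ∈ S, f k
  have hxF : x ∈ X.basicOpen F := by
    rw [Scheme.mem_basicOpen _ _ _ hxU, map_prod]
    exact IsUnit.prod_iff.2 fun k hk => (Scheme.mem_basicOpen _ _ _ hxU).1 (hfx k hk)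
  have hFK : ∀ k, k * a = 0 → F * k = 0 := by
    intro k hk
    have hkK : k ∈ Ideal.span (S : Set Γ(X, U)) := hS ▸ (hK k).2 hk
    refine Submodule.span_induction ?_ ?_ ?_ ?_ hkK
    · intro k' hk'
      obtain ⟨c, hc⟩ := Finset.dvd_prod_of_mem f hk'
      change F * k' = 0
      rw [show F = f k' * c from hc, mul_right_comm, hfk k' hk', zero_mul]
    · exact mul_zero _
    · intro y z _ _ hy hz
      rw [mul_add, hy, hz, add_zero]
    · intro c y _ hy
      rw [smul_eq_mul, mul_left_comm, hy, mul_zero]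
  -- `a` is a nonzerodivisor on `D(F)`
  haveI : IsLocalization.Away F Γ(X, X.basicOpen F) := hU.isLocalization_basicOpen F
  have hnzd := algebraMap_mem_nonZeroDivisors_away a F hFK Γ(X, X.basicOpen F)
  have hreg : X.presheaf.map (homOfLE (X.basicOpen_le F)).op a ∈ Mero.regSub X (X.basicOpen F) :=
    fun y => Groth.Agent.S8898.germ_mem_nonZeroDivisors (hU.basicOpen F) _ hnzd y
  exact ⟨X.basicOpen F, hxF, _, hreg, TopCat.Presheaf.germ_res_apply X.presheaf _ x hxF a⟩

end Groth.Agent.S8863
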