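import Groth.Statements.S8864
import Groth.Agent.Lib.Helper20Kmod3
import Mathlib.RingTheory.Ideal.AssociatedPrime.Finiteness

set_option autoImplicit false
universe u
open CategoryTheory CategoryTheory.Limits AlgebraicGeometry TopologicalSpace
open SDiv

namespace Groth.Agent.S8864

set_option linter.style.haveILetI false
open Groth.Agent.Lib.Helper20.Kmod Groth.Agent.Lib.Helper2.QCoh nonZeroDivisors

/-- at the point of an associated prime `q = Ann z` of `Γ(X, U)`, nonzerodivisors of the local ring are units. -/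
theorem isUnit_of_mem_nonZeroDivisors_of_colon {X : Scheme.{u}} {U : X.Opens} (hU : IsAffineOpen U)
    (t : X) (htU : t ∈ U) (z : Γ(X, U))
    (hq : (hU.primeIdealOf ⟨t, htU⟩).asIdeal = Submodule.colon (⊥ : Submodule Γ(X, U) Γ(X, U)) {z})
    (c : X.presheaf.stalk t) (hc : c ∈ (X.presheaf.stalk t)⁰) :
    IsUnit c := by
  letI : Algebra Γ(X, U) (X.presheaf.stalk t) :=
    TopCat.Presheaf.algebra_section_stalk X.presheaf (⟨t, htU⟩ : U)
  haveI : IsLocalization.AtPrime (X.presheaf.stalk t) (hU.primeIdealOf ⟨t, htU⟩).asIdeal :=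
    hU.isLocalization_stalk ⟨t, htU⟩
  have halg : ∀ r : Γ(X, U), algebraMap Γ(X, U) (X.presheaf.stalk t) r =
      X.presheaf.germ U t htU r := fun r => rfl
  by_contra hcu
  have hcm : c ∈ IsLocalRing.maximalIdeal (X.presheaf.stalk t) := hcu
  obtain ⟨⟨c', u⟩, hcu'⟩ := IsLocalization.surj (hU.primeIdealOf ⟨t, htU⟩).asIdeal.primeCompl c
  simp only [halg] at hcu'
  have hc'q : c' ∈ (hU.primeIdealOf ⟨t, htU⟩).asIdeal := by
    rw [← germ_mem_maximalIdeal_iff hU t htU, ← hcu']
    exact Ideal.mul_mem_right _ _ hcm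
  have hc'z : c' * z = 0 := by
    rw [hq, Submodule.mem_colon_singleton, Submodule.mem_bot, smul_eq_mul] at hc'q
    exact hc'q
  have h1 : c * (X.presheaf.germ U t htU u.1 * X.presheaf.germ U t htU z) = 0 := by
    rw [← mul_assoc, hcu', ← map_mul, hc'z, map_zero]
  have h2 : X.presheaf.germ U t htU (u.1 * z) = 0 := by
    rw [map_mul]
    exact (mul_left_mem_nonZeroDivisors_eq_zero_iff hc).1 h1
  obtain ⟨m, hm⟩ := (IsLocalization.map_eq_zero_iff (hU.primeIdealOf ⟨t, htU⟩).asIdeal.primeCompl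
    (X.presheaf.stalk t) (u.1 * z)).1 h2
  have hmu : m.1 * u.1 ∈ (hU.primeIdealOf ⟨t, htU⟩).asIdeal := by
    have : m.1 * u.1 ∈ Submodule.colon (⊥ : Submodule Γ(X, U) Γ(X, U)) {z} := by
      rw [Submodule.mem_colon_singleton, Submodule.mem_bot, smul_eq_mul, mul_assoc]
      exact hm
    exact (SetLike.ext_iff.1 hq _).2 this
  rcases (hU.primeIdealOf ⟨t, htU⟩).isPrime.mem_or_mem hmu with h | h
  · exact m.2 h
  · exact u.2 h


/-- Let X be a locally Noetherian scheme and U an affine open of X. Then K_X(U), viewed as an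
O_X(U)-algebra through the canonical map r ↦ r/1, is the total ring of fractions of O_X(U): it is a
localization of O_X(U) at the monoid of nonzerodivisors. -/
theorem result (X : Scheme.{u}) [IsLocallyNoetherian X] (U : X.affineOpens) :
    @IsLocalization Γ(X, U.1) _ (nonZeroDivisors Γ(X, U.1)) Γ(Mero.kmod X, U.1) _ (Mero.toK X U.1).toAlgebra := by
  haveI : IsNoetherianRing Γ(X, U.1) := IsLocallyNoetherian.component_noetherian U
  have hfin := associatedPrimes.finite Γ(X, U.1) Γ(X, U.1)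
  let T' : Set (PrimeSpectrum Γ(X, U.1)) := {q | q.asIdeal ∈ associatedPrimes Γ(X, U.1) Γ(X, U.1)}
  have hT' : T'.Finite :=
    hfin.preimage (fun q _ q' _ h => PrimeSpectrum.ext h)
  refine isLocalization_kmod U.2 hT'.toFinset ?_ ?_
  · intro q hq c hc
    rw [Set.Finite.mem_toFinset] at hq
    obtain ⟨_, z, hz⟩ := isAssociatedPrime_iff.1 hq
    exact isUnit_of_mem_nonZeroDivisors_of_colon U.2 _ (fromSpec_mem U.2 q) z
      (by rw [primeIdealOf_fromSpec U.2 q]; exact hz) c (Mero.regStalk_le_nonZeroDivisors _ hc)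
  · intro s hs
    by_contra hns
    have h1 : s ∈ ((Γ(X, U.1)⁰ : Submonoid Γ(X, U.1)) : Set Γ(X, U.1))ᶜ := hns
    rw [← biUnion_associatedPrimes_eq_compl_nonZeroDivisors] at h1
    obtain ⟨p, hp, hsp⟩ := Set.mem_iUnion₂.1 h1
    exact hs ⟨p, hp.isPrime⟩ ((Set.Finite.mem_toFinset hT').2 hp) hsp

end Groth.Agent.S8864
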