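import Groth.Statements.S5085
import Groth.Agent.Lib.Helper20Kmod

set_option autoImplicit false
universe u
open CategoryTheory CategoryTheory.Limits AlgebraicGeometry TopologicalSpace
open Mero

namespace Groth.Agent.S5085

open Groth.Agent.Lib.Helper20.Kmod

/-- Let X be a scheme, U an open subset and V an open subset of U which is schematically dense in U (for
every open W ⊆ U, restriction of functions from W to W ∩ V is injective). Then restriction of
sections of the sheaf of meromorphic functions K_X from U to V is injective: the canonical map from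
meromorphic functions to pseudo-functions is injective. -/
theorem result (X : Scheme.{u}) (U V : X.Opens) (hVU : V ≤ U)
    (hV : ∀ W : X.Opens, W ≤ U →
      Function.Injective ⇑(X.presheaf.map (homOfLE (inf_le_left : W ⊓ V ≤ W)).op)) :
    Function.Injective ⇑((Mero.kmod X).presheaf.map (homOfLE hVU).op) := by
  refine (injective_iff_map_eq_zero (((Mero.kmod X).presheaf.map (homOfLE hVU).op).hom)).2 ?_
  intro f hf
  apply kmod_ext
  intro x
  rw [kmod_zero_apply]
  obtain ⟨W, hxW, hWU, a, b, h⟩ := exists_local_frac f x
  have hx := h ⟨x.1, hxW⟩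
  change f.1 x = _ at hx
  rw [hx, mk_eq_zero_iff]
  -- a restricted to W ⊓ V is zero
  have ha : X.presheaf.map (homOfLE (inf_le_left : W ⊓ V ≤ W)).op a = 0 := by
    apply TopCat.Presheaf.section_ext X.sheaf
    intro y hy
    change X.presheaf.germ (W ⊓ V) y hy _ = X.presheaf.germ (W ⊓ V) y hy 0
    rw [map_zero, TopCat.Presheaf.germ_res_apply]
    have hyW : y ∈ W := hy.1
    have hyV : y ∈ V := hy.2
    have h1 := h ⟨y, hyW⟩
    have h2 : (((Mero.kmod X).presheaf.map (homOfLE hVU).op).hom f).1 ⟨y, hyV⟩ = f.1 ⟨y, hVU hyV⟩ := rfl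
    rw [hf] at h2
    rw [kmod_zero_apply] at h2
    rw [← h2] at h1
    exact (mk_eq_zero_iff _ _).1 h1.symm
  have ha0 : a = 0 := hV W hWU (by rw [ha, map_zero])
  rw [ha0, map_zero]

end Groth.Agent.S5085
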