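import Groth.Statements.S10856
import Groth.Agent.Lib.Helper20Kmod3

set_option autoImplicit false
universe u
open Mero

namespace Groth.Agent.S10856

open Groth.Agent.Lib.Helper20.Kmod nonZeroDivisors

section Helpers
open AlgebraicGeometry CategoryTheory TopologicalSpace

theorem algebraMap_eq_mk {X : Scheme.{u}} {x : X} (c : X.presheaf.stalk x) :
    algebraMap (X.presheaf.stalk x) (Mero.KStalk X x) c = LocalizedModule.mk c 1 := by
  rfl

theorem mk_eq_mk_one_iff {X : Scheme.{u}} {x : X} (a c : X.presheaf.stalk x) (s : Mero.regStalk X x) :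
    (LocalizedModule.mk a s : Mero.KStalk X x) = LocalizedModule.mk c 1 ↔ a = s.1 * c := by
  rw [LocalizedModule.mk_eq]
  constructor
  · rintro ⟨w, hw⟩
    simp only [one_smul, Submonoid.smul_def, smul_eq_mul] at hw
    have hw1 : (w : X.presheaf.stalk x) ∈ (X.presheaf.stalk x)⁰ :=
      Mero.regStalk_le_nonZeroDivisors x w.2
    exact mul_cancel_left_mem_nonZeroDivisors hw1 |>.1 hw
  · intro h
    exact ⟨1, by simp only [one_smul, Submonoid.smul_def, smul_eq_mul]; exact h⟩


end Helpers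

open AlgebraicGeometry CategoryTheory TopologicalSpace in
/-- Let X be a scheme and f a global section of the sheaf of meromorphic functions K_X. The domain of
definition of f, i.e. the set of points x whose value f_x ∈ K_{X,x} lies in the image of the local
ring O_{X,x}, is the underlying set of an open subscheme D of X, and D is schematically dense in X:
for every open subset V of X the restriction map from sections of O_X over V to sections over V ∩ D
is injective. -/
theorem result {X : Scheme.{u}} (f : Γ(Mero.kmod X, ⊤)) :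
    ∃ D : X.Opens,
      (D : Set X) = {x | f.1 ⟨x, Opens.mem_top x⟩ ∈ (algebraMap (X.presheaf.stalk x) (Mero.KStalk X x)).range} ∧
        ∀ V : X.Opens, Function.Injective (X.presheaf.map (homOfLE (inf_le_left : V ⊓ D ≤ V)).op) := by
  set S : Set X := {x | f.1 ⟨x, Opens.mem_top x⟩ ∈
    (algebraMap (X.presheaf.stalk x) (Mero.KStalk X x)).range} with hS
  have hSopen : IsOpen S := by
    rw [isOpen_iff_forall_mem_open]
    intro x hx
    obtain ⟨cx, hcx⟩ := hx
    rw [algebraMap_eq_mk] at hcx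
    obtain ⟨W, hxW, hWU, a, b, hfrac⟩ := exists_local_frac f ⟨x, Opens.mem_top x⟩
    obtain ⟨W1, hxW1, c, rfl⟩ := X.presheaf.exists_germ_eq cx
    have h1 := hfrac ⟨x, hxW⟩
    change f.1 ⟨x, Opens.mem_top x⟩ = _ at h1
    rw [← hcx, eq_comm, mk_eq_mk_one_iff] at h1
    -- a = b c near x
    let W2 : X.Opens := W ⊓ W1
    have hxW2 : x ∈ W2 := ⟨hxW, hxW1⟩
    let a2 : Γ(X, W2) := X.presheaf.map (homOfLE (inf_le_left : W2 ≤ W)).op a
    let b2 : Γ(X, W2) := X.presheaf.map (homOfLE (inf_le_left : W2 ≤ W)).op b.1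
    let c2 : Γ(X, W2) := X.presheaf.map (homOfLE (inf_le_right : W2 ≤ W1)).op c
    have h2 : X.presheaf.germ W2 x hxW2 a2 = X.presheaf.germ W2 x hxW2 (b2 * c2) := by
      rw [map_mul, TopCat.Presheaf.germ_res_apply, TopCat.Presheaf.germ_res_apply,
        TopCat.Presheaf.germ_res_apply]
      exact h1
    obtain ⟨W3, hxW3, i1, i2, h3⟩ := X.presheaf.germ_eq x hxW2 hxW2 a2 (b2 * c2) h2
    refine ⟨W3, ?_, W3.isOpen, hxW3⟩
    intro y hy
    have hyW2 : y ∈ W2 := i1.le hy
    refine ⟨X.presheaf.germ W1 y hyW2.2 c, ?_⟩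
    rw [algebraMap_eq_mk]
    have h4 := hfrac ⟨y, hyW2.1⟩
    change f.1 ⟨y, Opens.mem_top y⟩ = _ at h4
    rw [h4, eq_comm, mk_eq_mk_one_iff]
    have h5 := congrArg (X.presheaf.germ W3 y hy) h3
    simp only [a2, b2, c2, map_mul, TopCat.Presheaf.germ_res_apply] at h5
    exact h5
  refine ⟨⟨S, hSopen⟩, rfl, ?_⟩
  intro V
  refine (injective_iff_map_eq_zero ((X.presheaf.map (homOfLE (inf_le_left : V ⊓ ⟨S, hSopen⟩ ≤ V)).op).hom)).2 ?_
  intro r hr
  apply TopCat.Presheaf.section_ext X.sheaf V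
  intro x hxV
  change X.presheaf.germ V x hxV r = X.presheaf.germ V x hxV 0
  rw [map_zero]
  obtain ⟨W, hxW, hWU, a, b, hfrac⟩ := exists_local_frac f ⟨x, Opens.mem_top x⟩
  obtain ⟨W', hW', hxW', hW'le⟩ :=
    (TopologicalSpace.Opens.isBasis_iff_nbhd.mp X.isBasis_affineOpens) (show x ∈ W ⊓ V from ⟨hxW, hxV⟩)
  have hW'W : W' ≤ W := hW'le.trans inf_le_left
  have hW'V : W' ≤ V := hW'le.trans inf_le_right
  set b' : Γ(X, W') := X.presheaf.map (homOfLE hW'W).op b.1 with hb'
  set r' : Γ(X, W') := X.presheaf.map (homOfLE hW'V).op r with hr'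
  -- where b is invertible, f is a function
  have hsub : X.basicOpen b' ≤ V ⊓ ⟨S, hSopen⟩ := by
    intro y hy
    have hyW' : y ∈ W' := X.basicOpen_le b' hy
    refine ⟨hW'V hyW', ?_⟩
    have hu : IsUnit (X.presheaf.germ W y (hW'W hyW') b.1) := by
      have := (Scheme.mem_basicOpen _ _ _ hyW').1 hy
      rwa [hb', TopCat.Presheaf.germ_res_apply] at this
    obtain ⟨v, hv⟩ := hu.exists_right_inv
    refine ⟨X.presheaf.germ W y (hW'W hyW') a * v, ?_⟩
    rw [algebraMap_eq_mk]
    have h4 := hfrac ⟨y, hW'W hyW'⟩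
    change f.1 ⟨y, Opens.mem_top y⟩ = _ at h4
    rw [h4, eq_comm, mk_eq_mk_one_iff]
    change _ = X.presheaf.germ W y (hW'W hyW') b.1 * _
    rw [mul_left_comm, hv, mul_one]
  have hr0 : r' |_ (X.basicOpen b') = 0 := by
    have h1 : X.presheaf.map (homOfLE hsub).op (X.presheaf.map (homOfLE (inf_le_left : V ⊓ ⟨S, hSopen⟩ ≤ V)).op r) = 0 := by
      rw [show (X.presheaf.map (homOfLE (inf_le_left : V ⊓ ⟨S, hSopen⟩ ≤ V)).op) r = 0 from hr, map_zero]
    rw [← h1]
    change (X.presheaf.map _ ≫ X.presheaf.map _) r = (X.presheaf.map _ ≫ X.presheaf.map _) r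
    rw [← Functor.map_comp, ← Functor.map_comp]
    rfl
  obtain ⟨n, hn⟩ := exists_pow_mul_eq_zero_of_res_basicOpen_eq_zero_of_isCompact X hW'.isCompact r' b' hr0
  have h6 := congrArg (X.presheaf.germ W' x hxW') hn
  simp only [hr', hb', map_mul, map_pow, map_zero, TopCat.Presheaf.germ_res_apply] at h6
  have hbn : X.presheaf.germ W x hxW b.1 ∈ (X.presheaf.stalk x)⁰ := b.2 ⟨x, hxW⟩
  exact (mul_left_mem_nonZeroDivisors_eq_zero_iff (pow_mem hbn n)).1 h6

end Groth.Agent.S10856
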