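import Groth.Statements.S5097
import Groth.Agent.Lib.Helper20Kmod3

set_option autoImplicit false
universe u
open CategoryTheory CategoryTheory.Limits AlgebraicGeometry TopologicalSpace
open Mero

namespace Groth.Agent.S5097

open Groth.Agent.Lib.Helper20.Kmod

variable {X : Scheme.{u}}

/-- the value at a point of a unit of `K_X(U)` as a unit of `K_{X,y}`. -/
noncomputable abbrev valU {U : X.Opens} (f : (Γ(kmod X, U))ˣ) (y : U) : (KStalk X y.1)ˣ :=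
  Units.map (evalK X U y).toMonoidHom f

theorem coe_valU_inv {U : X.Opens} (f : (Γ(kmod X, U))ˣ) (y : U) :
    (((valU f y)⁻¹ : (KStalk X y.1)ˣ) : KStalk X y.1) = ((f⁻¹ : (Γ(kmod X, U))ˣ) : Γ(kmod X, U)).1 y := by
  rw [← map_inv]
  rfl

theorem divCond_inv (D : Divisor X) {U : X.Opens} (f : (Γ(kmod X, U))ˣ) (y : U)
    (hD : D.1 y.1 = germOf f y) :
    DivCond D y.1 (((f⁻¹ : (Γ(kmod X, U))ˣ) : Γ(kmod X, U)).1 y) := by
  intro g hg
  rw [hD] at hg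
  have h1 : (valU f y)⁻¹ * g ∈ stalkUnits X y.1 := QuotientGroup.eq.1 hg
  obtain ⟨u, hu⟩ := h1
  refine ⟨u.1, ?_⟩
  rw [← coe_valU_inv, ← Units.val_mul, ← hu]
  rfl

theorem germ_eq {D D' : Divisor X} {U U' : X.Opens} (f : (Γ(kmod X, U))ˣ) (f' : (Γ(kmod X, U'))ˣ)
    (x : X) (hxU : x ∈ U) (hxU' : x ∈ U')
    (hD : D.1 x = germOf f ⟨x, hxU⟩) (hD' : D'.1 x = germOf f' ⟨x, hxU'⟩)
    (h1 : DivCond D' x (((f⁻¹ : (Γ(kmod X, U))ˣ) : Γ(kmod X, U)).1 ⟨x, hxU⟩))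
    (h2 : DivCond D x (((f'⁻¹ : (Γ(kmod X, U'))ˣ) : Γ(kmod X, U')).1 ⟨x, hxU'⟩)) :
    D.1 x = D'.1 x := by
  obtain ⟨r, hr⟩ := h1 (valU f' ⟨x, hxU'⟩) hD'
  obtain ⟨r', hr'⟩ := h2 (valU f ⟨x, hxU⟩) hD
  rw [← coe_valU_inv] at hr hr'
  have hinj := algebraMap_KStalk_injective x
  have hrr' : r * r' = 1 := by
    apply hinj
    rw [map_mul, hr, hr', map_one, ← Units.val_mul, ← Units.val_mul, ← Units.val_mul]
    have : (valU f ⟨x, hxU⟩)⁻¹ * valU f' ⟨x, hxU'⟩ * ((valU f' ⟨x, hxU'⟩)⁻¹ * valU f ⟨x, hxU⟩) = 1 := by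
      group
    rw [this, Units.val_one]
  have hr'r : r' * r = 1 := by rw [mul_comm]; exact hrr'
  rw [hD, hD']
  refine QuotientGroup.eq.2 ⟨⟨r, r', hrr', hr'r⟩, ?_⟩
  apply Units.ext
  rw [Units.val_mul]
  exact hr


/-- Injectivity of the canonical homomorphism from divisors to invertible fractional ideals: let X be a
scheme and D, D' two divisors on X such that, over every open subset U, a section t of the sheaf of
meromorphic functions lies in O_X(D) (t_x · g ∈ O_{X,x} for a representative g of the germ of D at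
x, for all x in U) if and only if it lies in O_X(D'). Then D = D'. -/
theorem result (X : Scheme.{u}) (D D' : Mero.Divisor X)
    (h : ∀ (U : X.Opens) (t : Γ(Mero.kmod X, U)),
      (∀ x : ↥U, Mero.DivCond D x.1 (t.1 x)) ↔ (∀ x : ↥U, Mero.DivCond D' x.1 (t.1 x))) :
    D = D' := by
  apply Subtype.ext
  funext x
  obtain ⟨U, hxU, f, hf⟩ := D.2 x
  obtain ⟨U', hxU', f', hf'⟩ := D'.2 x
  let W : X.Opens := U ⊓ U'
  let t : Γ(kmod X, W) := (kmod X).presheaf.map (homOfLE (inf_le_left : W ≤ U)).op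
    ((f⁻¹ : (Γ(kmod X, U))ˣ) : Γ(kmod X, U))
  let t' : Γ(kmod X, W) := (kmod X).presheaf.map (homOfLE (inf_le_right : W ≤ U')).op
    ((f'⁻¹ : (Γ(kmod X, U'))ˣ) : Γ(kmod X, U'))
  have ht : ∀ y : W, DivCond D y.1 (t.1 y) := fun y => divCond_inv D f ⟨y.1, y.2.1⟩ (hf ⟨y.1, y.2.1⟩)
  have ht' : ∀ y : W, DivCond D' y.1 (t'.1 y) := fun y =>
    divCond_inv D' f' ⟨y.1, y.2.2⟩ (hf' ⟨y.1, y.2.2⟩)
  have h1 := (h W t).1 ht ⟨x, hxU, hxU'⟩
  have h2 := (h W t').2 ht' ⟨x, hxU, hxU'⟩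
  exact germ_eq f f' x hxU hxU' (hf ⟨x, hxU⟩) (hf' ⟨x, hxU'⟩) h1 h2

end Groth.Agent.S5097
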