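import Groth.Statements.S10851
import Groth.Agent.Lib.Helper20Kmod3
import Mathlib.RingTheory.KrullDimension.Zero

set_option autoImplicit false
universe u
open Mero

namespace Groth.Agent.S10851

section Helpers
open AlgebraicGeometry CategoryTheory TopologicalSpace nonZeroDivisors

variable {X : Scheme.{u}}

theorem mk_eq_algebraMap_of_isUnit {z : X} (a : X.presheaf.stalk z) (s : Mero.regStalk X z)
    (hs : IsUnit (s : X.presheaf.stalk z)) :
    (LocalizedModule.mk a s : KStalk X z) ∈ (algebraMap (X.presheaf.stalk z) (KStalk X z)).range := by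
  obtain ⟨v, hv⟩ := hs.exists_right_inv
  refine ⟨a * v, ?_⟩
  change (LocalizedModule.mk (a * v) 1 : KStalk X z) = LocalizedModule.mk a s
  rw [LocalizedModule.mk_eq]
  refine ⟨1, ?_⟩
  simp only [one_smul, Submonoid.smul_def, smul_eq_mul]
  rw [mul_left_comm, hv, mul_one]

theorem mem_stalkUnits_of_range {z : X} (g : (KStalk X z)ˣ)
    (h1 : (g : KStalk X z) ∈ (algebraMap (X.presheaf.stalk z) (KStalk X z)).range)
    (h2 : ((g⁻¹ : (KStalk X z)ˣ) : KStalk X z) ∈ (algebraMap (X.presheaf.stalk z) (KStalk X z)).range) :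
    g ∈ stalkUnits X z := by
  obtain ⟨r, hr⟩ := h1
  obtain ⟨r', hr'⟩ := h2
  have hinj := algebraMap_KStalk_injective z
  have hrr' : r * r' = 1 := by
    apply hinj
    rw [map_mul, hr, hr', map_one, ← Units.val_mul, mul_inv_cancel, Units.val_one]
  have hr'r : r' * r = 1 := by rw [mul_comm]; exact hrr'
  refine ⟨⟨r, r', hrr', hr'r⟩, ?_⟩
  apply Units.ext
  exact hr

end Helpers


open AlgebraicGeometry in
/-- Let X be a locally Noetherian scheme and D a divisor on X (a global section of K_X^×/O_X^×). Then
the support of D has codimension at least 1 in X: for every point z at which the germ of D is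
non-trivial, the local ring O_{X,z} has Krull dimension at least 1. -/
theorem result {X : Scheme.{u}} [IsLocallyNoetherian X]
    (D : Mero.Divisor X) (z : X) (hz : z ∈ Mero.supp D) :
    (1 : WithBot ℕ∞) ≤ ringKrullDim (X.presheaf.stalk z) := by
  by_contra hdim
  rw [not_le] at hdim
  have hle : ringKrullDim (X.presheaf.stalk z) ≤ 0 := by
    exact Order.le_of_lt_succ hdim
  have : Ring.KrullDimLE 0 (X.presheaf.stalk z) := Ring.krullDimLE_iff.2 hle
  have hunit : ∀ s : Mero.regStalk X z, IsUnit (s : X.presheaf.stalk z) := by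
    intro s
    by_contra hsu
    have hnil : IsNilpotent (s : X.presheaf.stalk z) :=
      Ring.KrullDimLE.isNilpotent_iff_mem_nonunits.2 hsu
    obtain ⟨n, hn⟩ := hnil
    have hs1 : (s : X.presheaf.stalk z) ∈ nonZeroDivisors (X.presheaf.stalk z) :=
      Mero.regStalk_le_nonZeroDivisors z s.2
    exact zero_notMem_nonZeroDivisors (hn ▸ pow_mem hs1 n)
  have hrange : ∀ t : KStalk X z, t ∈ (algebraMap (X.presheaf.stalk z) (KStalk X z)).range := by
    intro t
    induction t using LocalizedModule.induction_on with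
    | h a s => exact mk_eq_algebraMap_of_isUnit a s (hunit s)
  apply hz
  obtain ⟨U, hzU, f, hf⟩ := D.2 z
  rw [hf ⟨z, hzU⟩]
  exact (QuotientGroup.eq_one_iff _).2 (mem_stalkUnits_of_range _ (hrange _) (hrange _))

end Groth.Agent.S10851
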