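import Groth.Statements.S8904
import Groth.Agent.Lib.Helper20Kmod3
import Groth.Agent.S8861
import Groth.Agent.S1681

set_option autoImplicit false
universe u
open CategoryTheory CategoryTheory.Limits AlgebraicGeometry TopologicalSpace
open SDiv

namespace Groth.Agent.S8904

set_option linter.style.haveILetI false
open Groth.Agent.Lib.Helper20.Kmod Groth.Agent.Lib.Helper2.QCoh nonZeroDivisors

/-- at a point with no proper generization, nonzerodivisors of the local ring are units. -/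
theorem isUnit_of_mem_nonZeroDivisors_of_isMax {X : Scheme.{u}} {U : X.Opens} (hU : IsAffineOpen U)
    (t : X) (htU : t ∈ U) (ht : ∀ y : X, y ⤳ t → y = t)
    (c : X.presheaf.stalk t) (hc : c ∈ (X.presheaf.stalk t)⁰) :
    IsUnit c := by
  have hmin := Groth.Agent.S1681.primeIdealOf_mem_minimalPrimes hU t htU ht
  letI : Algebra Γ(X, U) (X.presheaf.stalk t) :=
    TopCat.Presheaf.algebra_section_stalk X.presheaf (⟨t, htU⟩ : U)
  haveI : IsLocalization.AtPrime (X.presheaf.stalk t) (hU.primeIdealOf ⟨t, htU⟩).asIdeal :=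
    hU.isLocalization_stalk ⟨t, htU⟩
  have halg : ∀ r : Γ(X, U), algebraMap Γ(X, U) (X.presheaf.stalk t) r =
      X.presheaf.germ U t htU r := fun r => rfl
  by_contra hcu
  have hcm : c ∈ IsLocalRing.maximalIdeal (X.presheaf.stalk t) := hcu
  obtain ⟨⟨c', u⟩, hcu'⟩ := IsLocalization.surj (hU.primeIdealOf ⟨t, htU⟩).asIdeal.primeCompl c
  simp only [halg] at hcu'
  have hc'q : c' ∈ (hU.primeIdealOf ⟨t, htU⟩).asIdeal := by
    rw [← germ_mem_maximalIdeal_iff hU t htU, ← hcu']
    exact Ideal.mul_mem_right _ _ hcm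
  obtain ⟨k, s, hs, hsk⟩ := Groth.Agent.S8861.exists_pow_mul_mem_of_mem_minimalPrimes hmin hc'q
  have hsk0 : s * c' ^ k = 0 := hsk
  have hsu : IsUnit (X.presheaf.germ U t htU s) := by
    rw [← Scheme.mem_basicOpen, Groth.Agent.Lib.Helper2.mem_basicOpen_iff_notMem_primeIdealOf hU t htU]
    exact hs
  have huu : IsUnit (X.presheaf.germ U t htU u.1) := by
    rw [← Scheme.mem_basicOpen, Groth.Agent.Lib.Helper2.mem_basicOpen_iff_notMem_primeIdealOf hU t htU]
    exact u.2
  have h1 : X.presheaf.germ U t htU s * (c * X.presheaf.germ U t htU u.1) ^ k = 0 := by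
    rw [hcu', ← map_pow, ← map_mul, hsk0, map_zero]
  have h2 : (c * X.presheaf.germ U t htU u.1) ^ k = 0 := (hsu.mul_right_eq_zero).1 h1
  rw [mul_pow] at h2
  have h3 : c ^ k = 0 := ((huu.pow k).mul_left_eq_zero).1 h2
  exact zero_notMem_nonZeroDivisors (h3 ▸ pow_mem hc k)

/-- a point with no proper generization in `X` is the generic point of an irreducible component of any open
containing it. -/
theorem mem_genericPoints_of_isMax {X : Scheme.{u}} (U : X.Opens) (t : X) (htU : t ∈ U)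
    (ht : ∀ y : X, y ⤳ t → y = t) :
    (⟨t, htU⟩ : ↥(U : Scheme.{u})) ∈ genericPoints ↥(U : Scheme.{u}) := by
  set pt : ↥(U : Scheme.{u}) := ⟨t, htU⟩ with hpt
  change closure {pt} ∈ irreducibleComponents ↥(U : Scheme.{u})
  refine ⟨isIrreducible_singleton.closure, ?_⟩
  intro Z hZ hle
  have hZc : IsIrreducible (closure Z) := hZ.closure
  let z := hZc.genericPoint
  have hz : IsGenericPoint z (closure Z) := hZc.isGenericPoint_genericPoint isClosed_closure
  have htZ : pt ∈ closure Z :=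
    subset_closure (hle (subset_closure (Set.mem_singleton _)))
  have hzt : z ⤳ pt := by
    refine specializes_iff_mem_closure.2 ?_
    rw [hz.def]
    exact htZ
  have hzt' : (U.ι z : X) ⤳ U.ι pt := hzt.map U.ι.continuous
  have hzeq : U.ι z = t := ht _ hzt'
  have hzeq' : z = pt := Subtype.ext hzeq
  have h1 : closure Z = closure {pt} := by rw [← hz.def, hzeq']
  exact subset_closure.trans h1.le

theorem finite_isMax {X : Scheme.{u}} (U : X.Opens)
    (hfin : (irreducibleComponents ↥(U : Scheme.{u})).Finite) :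
    {t : U | ∀ y : X, y ⤳ t.1 → y = t.1}.Finite :=
  (genericPoints.finite hfin).subset fun t ht => mem_genericPoints_of_isMax U t.1 t.2 ht

/-- if `ξ` is a maximal point generizing `x` and the germ of `a` at `x` is a nonzerodivisor, then `a` does not vanish
at `ξ`. -/
theorem mem_basicOpen_of_specializes {X : Scheme.{u}} {U : X.Opens} (hU : IsAffineOpen U) (a : Γ(X, U))
    (x : X) (hxU : x ∈ U) (hg : X.presheaf.germ U x hxU a ∈ (X.presheaf.stalk x)⁰)
    (ξ : X) (hξU : ξ ∈ U) (hξ : ∀ y : X, y ⤳ ξ → y = ξ) (hξx : ξ ⤳ x) : ξ ∈ X.basicOpen a := by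
  rw [Groth.Agent.Lib.Helper2.mem_basicOpen_iff_notMem_primeIdealOf hU ξ hξU]
  intro haq
  have hmin := Groth.Agent.S1681.primeIdealOf_mem_minimalPrimes hU ξ hξU hξ
  obtain ⟨k, s, hs, hsk⟩ := Groth.Agent.S8861.exists_pow_mul_mem_of_mem_minimalPrimes hmin haq
  have hsk0 : s * a ^ k = 0 := hsk
  have h1 : X.presheaf.germ U x hxU s * X.presheaf.germ U x hxU a ^ k = 0 := by
    rw [← map_pow, ← map_mul, hsk0, map_zero]
  have h2 : X.presheaf.germ U x hxU s = 0 :=
    (mul_right_mem_nonZeroDivisors_eq_zero_iff (pow_mem hg k)).1 h1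
  letI : Algebra Γ(X, U) (X.presheaf.stalk x) :=
    TopCat.Presheaf.algebra_section_stalk X.presheaf (⟨x, hxU⟩ : U)
  haveI : IsLocalization.AtPrime (X.presheaf.stalk x) (hU.primeIdealOf ⟨x, hxU⟩).asIdeal :=
    hU.isLocalization_stalk ⟨x, hxU⟩
  obtain ⟨m, hm⟩ := (IsLocalization.map_eq_zero_iff (hU.primeIdealOf ⟨x, hxU⟩).asIdeal.primeCompl
    (X.presheaf.stalk x) s).1 h2
  have hms : m.1 * s ∈ (hU.primeIdealOf ⟨ξ, hξU⟩).asIdeal := by rw [hm]; exact zero_mem _
  rcases (hU.primeIdealOf ⟨ξ, hξU⟩).isPrime.mem_or_mem hms with h | h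
  · exact m.2 (primeIdealOf_le_of_specializes hU x ξ hxU hξU hξx h)
  · exact hs h

theorem part2 (X : Scheme.{u})
    (ha : ∀ x : ↥X, Curv2.IsWeakAssPoint (Coh.structureModule X) x → ∀ y : ↥X, y ⤳ x → y = x)
    (hb : ∀ U : X.Opens, IsCompact (U : Set ↥X) → (irreducibleComponents ↥(U : Scheme.{u})).Finite)
    (U : X.affineOpens) :
    @IsLocalization Γ(X, U.1) _ (nonZeroDivisors Γ(X, U.1)) Γ(Mero.kmod X, U.1) _
      (Mero.toK X U.1).toAlgebra := by
  classical
  have hfin := finite_isMax U.1 (hb U.1 U.2.isCompact)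
  let T : Finset (PrimeSpectrum Γ(X, U.1)) := hfin.toFinset.image (fun t => U.2.primeIdealOf t)
  refine isLocalization_kmod U.2 T ?_ ?_
  · intro q hq c hc
    obtain ⟨t, ht, rfl⟩ := Finset.mem_image.1 hq
    rw [Set.Finite.mem_toFinset] at ht
    have hpt : U.2.fromSpec (U.2.primeIdealOf t) = t.1 := U.2.fromSpec_primeIdealOf t
    refine isUnit_of_mem_nonZeroDivisors_of_isMax U.2 _ (fromSpec_mem U.2 _) ?_ c
      (Mero.regStalk_le_nonZeroDivisors _ hc)
    rw [hpt]
    exact ht
  · intro s hs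
    rw [mem_nonZeroDivisors_iff_right]
    intro y hy
    by_contra hy0
    obtain ⟨ξ, hξU, hξs, hξw⟩ := Groth.Agent.S8861.exists_isWeakAssPoint U.2 s y hy hy0
    have hmax := ha ξ hξw
    apply hξs
    rw [Groth.Agent.Lib.Helper2.mem_basicOpen_iff_notMem_primeIdealOf U.2 ξ hξU]
    exact hs _ (Finset.mem_image.2 ⟨⟨ξ, hξU⟩, (Set.Finite.mem_toFinset _).2 hmax, rfl⟩)

theorem part1 (X : Scheme.{u})
    (ha : ∀ x : ↥X, Curv2.IsWeakAssPoint (Coh.structureModule X) x → ∀ y : ↥X, y ⤳ x → y = x)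
    (hb : ∀ U : X.Opens, IsCompact (U : Set ↥X) → (irreducibleComponents ↥(U : Scheme.{u})).Finite)
    (x : X) : Mero.regStalk X x = nonZeroDivisors ↑(X.presheaf.stalk x) := by
  apply le_antisymm (Mero.regStalk_le_nonZeroDivisors x)
  intro g hg
  obtain ⟨V, hxV, s, rfl⟩ := X.presheaf.exists_germ_eq g
  obtain ⟨U, hU, hxU, hUV⟩ :=
    (TopologicalSpace.Opens.isBasis_iff_nbhd.mp X.isBasis_affineOpens) hxV
  set a : Γ(X, U) := X.presheaf.map (homOfLE hUV).op s with ha'
  have hga : X.presheaf.germ U x hxU a = X.presheaf.germ V x hxV s :=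
    TopCat.Presheaf.germ_res_apply X.presheaf _ x hxU s
  rw [← hga] at hg ⊢
  classical
  have hfin := finite_isMax U (hb U hU.isCompact)
  have hex : ∀ t : U, ∃ f : Γ(X, U), x ∈ X.basicOpen f ∧ (¬ (t.1 ⤳ x) → t.1 ∉ X.basicOpen f) := by
    intro t
    by_cases htx : t.1 ⤳ x
    · exact ⟨1, by rw [Scheme.basicOpen_of_isUnit _ isUnit_one]; exact hxU, fun h => (h htx).elim⟩
    · rw [specializes_iff_forall_open] at htx
      push Not at htx
      obtain ⟨W, hWo, hxW, htW⟩ := htx
      obtain ⟨f, hfW, hxf⟩ := hU.exists_basicOpen_le (V := ⟨W, hWo⟩) ⟨x, hxW⟩ hxU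
      exact ⟨f, hxf, fun _ h => htW (hfW h)⟩
  choose f hfx hft using hex
  let F : Γ(X, U) := ∏ t ∈ hfin.toFinset, f t
  have hxF : x ∈ X.basicOpen F := by
    rw [Scheme.mem_basicOpen _ _ _ hxU, map_prod]
    exact IsUnit.prod_iff.2 fun t _ => (Scheme.mem_basicOpen _ _ _ hxU).1 (hfx t)
  have hFt : ∀ t ∈ hfin.toFinset, ¬ (t.1 ⤳ x) → t.1 ∉ X.basicOpen F := by
    intro t ht htx hF
    obtain ⟨c, hc⟩ := Finset.dvd_prod_of_mem f ht
    rw [show F = f t * c from hc, Scheme.basicOpen_mul] at hF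
    exact hft t htx hF.1
  have hDU : X.basicOpen F ≤ U := X.basicOpen_le F
  have hnzd : X.presheaf.map (homOfLE hDU).op a ∈ Γ(X, X.basicOpen F)⁰ := by
    rw [mem_nonZeroDivisors_iff_right]
    intro y hy
    by_contra hy0
    obtain ⟨ξ, hξD, hξa, hξw⟩ :=
      Groth.Agent.S8861.exists_isWeakAssPoint (hU.basicOpen F) _ y hy hy0
    have hmax := ha ξ hξw
    have hξU : ξ ∈ U := hDU hξD
    have hξx : ξ ⤳ x := by
      by_contra hcon
      exact hFt ⟨ξ, hξU⟩ ((Set.Finite.mem_toFinset _).2 hmax) hcon hξD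
    apply hξa
    rw [Scheme.basicOpen_res]
    exact ⟨hξD, mem_basicOpen_of_specializes hU a x hxU hg ξ hξU hmax hξx⟩
  have hreg : X.presheaf.map (homOfLE hDU).op a ∈ Mero.regSub X (X.basicOpen F) :=
    fun y => Groth.Agent.S8898.germ_mem_nonZeroDivisors (hU.basicOpen F) _ hnzd y
  exact ⟨X.basicOpen F, hxF, _, hreg, TopCat.Presheaf.germ_res_apply X.presheaf _ x hxF a⟩


/-- Let X be a scheme such that (a) each weakly associated point of X (of O_X) has no proper
generization, i.e. is the generic point of some irreducible component, and (b) every quasi-compact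
open of X has finitely many irreducible components. Then for every point x the monoid S_x of germs
of regular sections is the set of all nonzerodivisors of O_{X,x} (so K_{X,x} is the total ring of
fractions of O_{X,x}), and for every affine open U the ring K_X(U) is the total ring of fractions of
O_X(U). -/
theorem result (X : Scheme.{u})
    (ha : ∀ x : ↥X, Curv2.IsWeakAssPoint (Coh.structureModule X) x → ∀ y : ↥X, y ⤳ x → y = x)
    (hb : ∀ U : X.Opens, IsCompact (U : Set ↥X) → (irreducibleComponents ↥(U : Scheme.{u})).Finite) :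
    (∀ x : ↥X, Mero.regStalk X x = nonZeroDivisors ↑(X.presheaf.stalk x)) ∧
      ∀ U : X.affineOpens,
        @IsLocalization Γ(X, U.1) _ (nonZeroDivisors Γ(X, U.1)) Γ(Mero.kmod X, U.1) _ (Mero.toK X U.1).toAlgebra := by
  exact ⟨part1 X ha hb, part2 X ha hb⟩

end Groth.Agent.S8904
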