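import Groth.Statements.S8871
import Groth.Agent.Lib.Helper2FlatOver
import Groth.Agent.Lib.Helper28DepthMore
import Groth.Agent.Lib.Helper23FinTypeLocal
import Groth.Agent.Lib.Helper20AbsCurve

set_option autoImplicit false
universe u
open CategoryTheory CategoryTheory.Limits AlgebraicGeometry TopologicalSpace
open SDiv

namespace Groth.Agent.S8871

set_option linter.style.haveILetI false

section Helpers
set_option linter.style.haveILetI false
open Groth.Agent.Lib.Helper2.FlatOver Groth.Agent.Lib.Helper2.QCoh Groth.Agent.Lib.Helper28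

variable {X : Scheme.{u}}

section Affine

variable {U : X.Opens} (hU : IsAffineOpen U) (F : X.Modules) [F.IsQuasicoherent]
  (z : X) (hz : z ∈ U)

/-- associated points in an affine open are the associated primes of the module of sections. -/
theorem isAssPoint_iff [IsNoetherianRing Γ(X, U)] :
    Curv2.IsAssPoint F z ↔
      (hU.primeIdealOf ⟨z, hz⟩).asIdeal ∈ associatedPrimes Γ(X, U) Γ(F, U) := by
  letI : Algebra Γ(X, U) (X.presheaf.stalk z) :=
    TopCat.Presheaf.algebra_section_stalk X.presheaf (⟨z, hz⟩ : U)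
  haveI : IsLocalization.AtPrime (X.presheaf.stalk z) (hU.primeIdealOf ⟨z, hz⟩).asIdeal :=
    hU.isLocalization_stalk ⟨z, hz⟩
  letI := moduleStalkSections F U z hz
  haveI : IsScalarTower Γ(X, U) (X.presheaf.stalk z) (F.presheaf.stalk z) :=
    ⟨fun a r y => by
      change (X.presheaf.germ U z hz a * r) • y = X.presheaf.germ U z hz a • (r • y)
      rw [mul_smul]⟩
  haveI := isLocalizedModule_germ hU F z hz
  have h := Module.associatedPrimes.preimage_comap_associatedPrimes_eq_associatedPrimes_of_isLocalizedModule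
    (hU.primeIdealOf ⟨z, hz⟩).asIdeal.primeCompl (X.presheaf.stalk z) (germₗ F U z hz)
  have hc : (IsLocalRing.maximalIdeal (X.presheaf.stalk z)).comap
      (algebraMap Γ(X, U) (X.presheaf.stalk z)) = (hU.primeIdealOf ⟨z, hz⟩).asIdeal :=
    IsLocalization.AtPrime.under_maximalIdeal (X.presheaf.stalk z) _
  change IsLocalRing.maximalIdeal (X.presheaf.stalk z) ∈
    associatedPrimes (X.presheaf.stalk z) (F.presheaf.stalk z) ↔ _
  rw [← h, Set.mem_preimage, hc]

include hU hz in
/-- the stalk of a module with finite sections is finite over the local ring. -/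
theorem finite_stalk [Module.Finite Γ(X, U) Γ(F, U)] :
    Module.Finite (X.presheaf.stalk z) (F.presheaf.stalk z) := by
  letI : Algebra Γ(X, U) (X.presheaf.stalk z) :=
    TopCat.Presheaf.algebra_section_stalk X.presheaf (⟨z, hz⟩ : U)
  haveI : IsLocalization.AtPrime (X.presheaf.stalk z) (hU.primeIdealOf ⟨z, hz⟩).asIdeal :=
    hU.isLocalization_stalk ⟨z, hz⟩
  letI := moduleStalkSections F U z hz
  haveI : IsScalarTower Γ(X, U) (X.presheaf.stalk z) (F.presheaf.stalk z) :=
    ⟨fun a r y => by
      change (X.presheaf.germ U z hz a * r) • y = X.presheaf.germ U z hz a • (r • y)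
      rw [mul_smul]⟩
  haveI := isLocalizedModule_germ hU F z hz
  exact Module.Finite.of_isLocalizedModule (hU.primeIdealOf ⟨z, hz⟩).asIdeal.primeCompl
    (Rₚ := X.presheaf.stalk z) (germₗ F U z hz)

include hU in
/-- the support of the stalk in terms of the support of the module of sections. -/
theorem mem_support_stalk_iff (q' : PrimeSpectrum (X.presheaf.stalk z)) :
    q' ∈ Module.support (X.presheaf.stalk z) (F.presheaf.stalk z) ↔
      PrimeSpectrum.comap (X.presheaf.germ U z hz).hom q' ∈ Module.support Γ(X, U) Γ(F, U) := by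
  letI : Algebra Γ(X, U) (X.presheaf.stalk z) :=
    TopCat.Presheaf.algebra_section_stalk X.presheaf (⟨z, hz⟩ : U)
  haveI : IsLocalization.AtPrime (X.presheaf.stalk z) (hU.primeIdealOf ⟨z, hz⟩).asIdeal :=
    hU.isLocalization_stalk ⟨z, hz⟩
  letI := moduleStalkSections F U z hz
  haveI : IsScalarTower Γ(X, U) (X.presheaf.stalk z) (F.presheaf.stalk z) :=
    ⟨fun a r y => by
      change (X.presheaf.germ U z hz a * r) • y = X.presheaf.germ U z hz a • (r • y)
      rw [mul_smul]⟩
  haveI := isLocalizedModule_germ hU F z hz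
  exact mem_support_isLocalizedModule_iff (hU.primeIdealOf ⟨z, hz⟩).asIdeal.primeCompl
    (X.presheaf.stalk z) (germₗ F U z hz) q'

/-- a point of the support of the sections strictly below the prime of `z` forces `dim Supp F_z ≥ 1`. -/
theorem one_le_supportDim_of_lt (q : PrimeSpectrum Γ(X, U))
    (hq : q ∈ Module.support Γ(X, U) Γ(F, U))
    (hlt : q.asIdeal < (hU.primeIdealOf ⟨z, hz⟩).asIdeal) :
    1 ≤ Module.supportDim (X.presheaf.stalk z) (F.presheaf.stalk z) := by
  letI : Algebra Γ(X, U) (X.presheaf.stalk z) :=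
    TopCat.Presheaf.algebra_section_stalk X.presheaf (⟨z, hz⟩ : U)
  haveI : IsLocalization.AtPrime (X.presheaf.stalk z) (hU.primeIdealOf ⟨z, hz⟩).asIdeal :=
    hU.isLocalization_stalk ⟨z, hz⟩
  have halg : (X.presheaf.germ U z hz).hom = algebraMap Γ(X, U) (X.presheaf.stalk z) := rfl
  unfold Module.supportDim
  rw [Order.one_le_krullDim_iff]
  -- the prime of the stalk lying over q
  have hdisj : Disjoint ((hU.primeIdealOf ⟨z, hz⟩).asIdeal.primeCompl : Set Γ(X, U)) (q.asIdeal : Set Γ(X, U)) := by
    rw [Set.disjoint_left]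
    intro a ha haq
    exact ha (hlt.le haq)
  let q' : PrimeSpectrum (X.presheaf.stalk z) :=
    ⟨q.asIdeal.map (algebraMap Γ(X, U) (X.presheaf.stalk z)),
      IsLocalization.isPrime_of_isPrime_disjoint _ _ _ q.isPrime hdisj⟩
  have hq'c : PrimeSpectrum.comap (X.presheaf.germ U z hz).hom q' = q := by
    apply PrimeSpectrum.ext
    rw [halg]
    exact IsLocalization.under_map_of_isPrime_disjoint _ _ q.isPrime hdisj
  have hq'S : q' ∈ Module.support (X.presheaf.stalk z) (F.presheaf.stalk z) := by
    rw [mem_support_stalk_iff hU F z hz, hq'c]; exact hq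
  let m' : PrimeSpectrum (X.presheaf.stalk z) := IsLocalRing.closedPoint (X.presheaf.stalk z)
  have hle : q' ≤ m' := IsLocalRing.le_maximalIdeal q'.isPrime.ne_top
  have hm'S : m' ∈ Module.support (X.presheaf.stalk z) (F.presheaf.stalk z) :=
    Module.mem_support_mono hle hq'S
  have hne : q' ≠ m' := by
    intro h
    have h1 : PrimeSpectrum.comap (X.presheaf.germ U z hz).hom m' = hU.primeIdealOf ⟨z, hz⟩ := by
      apply PrimeSpectrum.ext
      rw [halg]
      exact IsLocalization.AtPrime.under_maximalIdeal (X.presheaf.stalk z) _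
    rw [← h, hq'c] at h1
    exact hlt.ne (congrArg PrimeSpectrum.asIdeal h1)
  exact ⟨⟨q', hq'S⟩, ⟨m', hm'S⟩, lt_of_le_of_ne hle fun h => hne (congrArg Subtype.val h)⟩

/-- conversely. -/
theorem exists_lt_of_one_le_supportDim
    (h : 1 ≤ Module.supportDim (X.presheaf.stalk z) (F.presheaf.stalk z)) :
    ∃ q : PrimeSpectrum Γ(X, U), q ∈ Module.support Γ(X, U) Γ(F, U) ∧
      q.asIdeal < (hU.primeIdealOf ⟨z, hz⟩).asIdeal := by
  letI : Algebra Γ(X, U) (X.presheaf.stalk z) :=
    TopCat.Presheaf.algebra_section_stalk X.presheaf (⟨z, hz⟩ : U)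
  haveI : IsLocalization.AtPrime (X.presheaf.stalk z) (hU.primeIdealOf ⟨z, hz⟩).asIdeal :=
    hU.isLocalization_stalk ⟨z, hz⟩
  have halg : (X.presheaf.germ U z hz).hom = algebraMap Γ(X, U) (X.presheaf.stalk z) := rfl
  unfold Module.supportDim at h
  rw [Order.one_le_krullDim_iff] at h
  obtain ⟨a, b, hab⟩ := h
  refine ⟨PrimeSpectrum.comap (X.presheaf.germ U z hz).hom a.1,
    (mem_support_stalk_iff hU F z hz a.1).1 a.2, ?_⟩
  have hb : b.1.asIdeal ≤ IsLocalRing.maximalIdeal (X.presheaf.stalk z) :=
    IsLocalRing.le_maximalIdeal b.1.isPrime.ne_top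
  have hab' : a.1.asIdeal < IsLocalRing.maximalIdeal (X.presheaf.stalk z) :=
    lt_of_lt_of_le hab hb
  have hmax : (IsLocalRing.maximalIdeal (X.presheaf.stalk z)).comap
      (algebraMap Γ(X, U) (X.presheaf.stalk z)) = (hU.primeIdealOf ⟨z, hz⟩).asIdeal :=
    IsLocalization.AtPrime.under_maximalIdeal (X.presheaf.stalk z) _
  rw [← hmax]
  change a.1.asIdeal.comap _ < _
  rw [halg]
  refine lt_of_le_of_ne (Ideal.comap_mono hab'.le) ?_
  intro heq
  have h1 := congrArg (Ideal.map (algebraMap Γ(X, U) (X.presheaf.stalk z))) heq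
  rw [IsLocalization.map_under (hU.primeIdealOf ⟨z, hz⟩).asIdeal.primeCompl,
    IsLocalization.map_under (hU.primeIdealOf ⟨z, hz⟩).asIdeal.primeCompl] at h1
  exact hab'.ne h1

end Affine

end Helpers

/-- Let X be a locally Noetherian scheme and F a coherent O_X-module. Then F has no embedded associated
points (every associated point of F is maximal among the associated points of F under
specialization) if and only if F has property (S_1): for every point x, depth F_x ≥ min(1, dim Supp
F_x), where dim Supp F_x is the Krull dimension of the support of the O_{X,x}-module F_x (for F_x =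
0 the depth is infinite and the support empty, so the condition holds). -/
theorem result (X : Scheme.{u}) [IsLocallyNoetherian X] (F : X.Modules) (hF : Coh.IsCoh F) :
    (∀ x : ↥X, Curv2.IsAssPoint F x → ∀ y : ↥X, Curv2.IsAssPoint F y → y ⤳ x → y = x) ↔
      ∀ x : ↥X, min (1 : WithBot ℕ∞) (Module.supportDim ↑(X.presheaf.stalk x) ↑(F.presheaf.stalk x)) ≤
        ((LocCoh.depth (X.presheaf.stalk x) (F.presheaf.stalk x) : ℕ∞) : WithBot ℕ∞) := by
  obtain ⟨hqc, hft⟩ := hF
  haveI : F.IsQuasicoherent := hqc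
  haveI : SheafOfModules.IsFiniteType (R := X.ringCatSheaf) F := hft
  constructor
  · intro hne x
    obtain ⟨U, hU, hxU, -⟩ :=
      (TopologicalSpace.Opens.isBasis_iff_nbhd.mp X.isBasis_affineOpens) (Opens.mem_top x)
    haveI : IsNoetherianRing Γ(X, U) := IsLocallyNoetherian.component_noetherian ⟨U, hU⟩
    haveI : Module.Finite Γ(X, U) Γ(F, U) :=
      Groth.Agent.Lib.Helper23.FinType.finite_of_isFiniteType F hU
    haveI : Module.Finite (X.presheaf.stalk x) (F.presheaf.stalk x) := finite_stalk hU F x hxU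
    by_cases h1 : 1 ≤ Module.supportDim (X.presheaf.stalk x) (F.presheaf.stalk x)
    · have hd : LocCoh.depth (X.presheaf.stalk x) (F.presheaf.stalk x) ≠ 0 := by
        intro h0
        rw [Groth.Agent.Lib.Helper28.depth_eq_zero_iff] at h0
        have hxass : Curv2.IsAssPoint F x := h0
        obtain ⟨q, hqS, hqlt⟩ := exists_lt_of_one_le_supportDim hU F x hxU h1
        have hann : Module.annihilator Γ(X, U) Γ(F, U) ≤ q.asIdeal := by
          rw [Module.support_eq_zeroLocus] at hqS
          exact hqS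
        obtain ⟨q', hq'min, hq'le⟩ := Ideal.exists_minimalPrimes_le hann
        have hq'ass : q' ∈ associatedPrimes Γ(X, U) Γ(F, U) :=
          Module.associatedPrimes.minimalPrimes_annihilator_subset_associatedPrimes _ _ hq'min
        haveI : q'.IsPrime := hq'min.1.1
        let Q : PrimeSpectrum Γ(X, U) := ⟨q', inferInstance⟩
        have hyU : hU.fromSpec Q ∈ U := Groth.Agent.Lib.Helper2.QCoh.fromSpec_mem hU Q
        have hpQ : hU.primeIdealOf ⟨hU.fromSpec Q, hyU⟩ = Q :=
          Groth.Agent.Lib.Helper2.QCoh.primeIdealOf_fromSpec hU Q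
        have hyass : Curv2.IsAssPoint F (hU.fromSpec Q) := by
          rw [isAssPoint_iff hU F _ hyU, hpQ]; exact hq'ass
        have hyx : hU.fromSpec Q ⤳ x :=
          Groth.Agent.Lib.Helper2.QCoh.fromSpec_specializes hU Q x hxU (hq'le.trans hqlt.le)
        have heq := hne x hxass _ hyass hyx
        have h2 : hU.primeIdealOf ⟨x, hxU⟩ = Q := by
          rw [← hpQ]; congr 1; exact Subtype.ext heq.symm
        have h3 : (hU.primeIdealOf ⟨x, hxU⟩).asIdeal ≤ q.asIdeal := by rw [h2]; exact hq'le
        exact hqlt.not_ge h3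
      have h1d : (1 : ℕ∞) ≤ LocCoh.depth (X.presheaf.stalk x) (F.presheaf.stalk x) :=
        Order.one_le_iff_pos.2 (pos_iff_ne_zero.2 hd)
      calc min (1 : WithBot ℕ∞) (Module.supportDim (X.presheaf.stalk x) (F.presheaf.stalk x))
          ≤ 1 := min_le_left _ _
        _ ≤ _ := by exact_mod_cast h1d
    · have h0 : Module.supportDim (X.presheaf.stalk x) (F.presheaf.stalk x) ≤ 0 :=
        Order.le_of_lt_succ (not_le.1 h1)
      calc min (1 : WithBot ℕ∞) (Module.supportDim (X.presheaf.stalk x) (F.presheaf.stalk x))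
          ≤ Module.supportDim (X.presheaf.stalk x) (F.presheaf.stalk x) := min_le_right _ _
        _ ≤ 0 := h0
        _ ≤ _ := by exact_mod_cast (zero_le : (0 : ℕ∞) ≤ _)
  · intro hS x hx y hy hyx
    by_contra hne'
    obtain ⟨U, hU, hxU, -⟩ :=
      (TopologicalSpace.Opens.isBasis_iff_nbhd.mp X.isBasis_affineOpens) (Opens.mem_top x)
    have hyU : y ∈ U := hyx.mem_open U.isOpen hxU
    haveI : IsNoetherianRing Γ(X, U) := IsLocallyNoetherian.component_noetherian ⟨U, hU⟩
    haveI : Module.Finite Γ(X, U) Γ(F, U) :=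
      Groth.Agent.Lib.Helper23.FinType.finite_of_isFiniteType F hU
    haveI : Module.Finite (X.presheaf.stalk x) (F.presheaf.stalk x) := finite_stalk hU F x hxU
    have hle := Groth.Agent.Lib.Helper2.QCoh.primeIdealOf_le_of_specializes hU x y hxU hyU hyx
    have hlt : (hU.primeIdealOf ⟨y, hyU⟩).asIdeal < (hU.primeIdealOf ⟨x, hxU⟩).asIdeal := by
      refine lt_of_le_of_ne hle fun h => hne' ?_
      exact Groth.Agent.Lib.Helper20.AbsCurve.eq_of_primeIdealOf_eq hU y x hyU hxU (PrimeSpectrum.ext h)
    have hyA := (isAssPoint_iff hU F y hyU).1 hy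
    have hyS := Groth.Agent.Lib.Helper28.mem_support_of_mem_associatedPrimes hyA
    have h1 := one_le_supportDim_of_lt hU F x hxU _ hyS hlt
    have h0 : LocCoh.depth (X.presheaf.stalk x) (F.presheaf.stalk x) = 0 :=
      Groth.Agent.Lib.Helper28.depth_eq_zero_iff.2 hx
    have h2 := hS x
    rw [h0, min_eq_left h1] at h2
    exact absurd h2 (by decide)

end Groth.Agent.S8871
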