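import Groth.Statements.S8890
import Groth.Agent.Lib.Helper20IsoDepth
import Groth.Agent.Lib.Helper2FibreCrit2
import Groth.Agent.Lib.Helper2ModExact
import Groth.Agent.Lib.Helper20RegMero
import Groth.Agent.S8871

set_option autoImplicit false
universe u
open CategoryTheory CategoryTheory.Limits AlgebraicGeometry TopologicalSpace
open SDiv

namespace Groth.Agent.S8890

set_option linter.style.haveILetI false

open Groth.Agent.Lib.Helper2.QCoh Groth.Agent.Lib.Helper2.ModExact Opposite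

variable {X : Scheme.{u}}

/-- a morphism of modules which is bijective on all stalks is an isomorphism. -/
theorem isIso_of_stalk_bijective {F G : X.Modules} (φ : F ⟶ G)
    (h : ∀ x : X, Function.Bijective ((TopCat.Presheaf.stalkFunctor AddCommGrpCat.{u} x).map
      (Scheme.Modules.Hom.mapPresheaf φ))) : IsIso φ := by
  rw [Scheme.Modules.Hom.isIso_iff_isIso_app]
  intro U
  rw [ConcreteCategory.isIso_iff_bijective]
  let F' : TopCat.Sheaf AddCommGrpCat.{u} X.carrier := ⟨F.presheaf, F.isSheaf⟩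
  let G' : TopCat.Sheaf AddCommGrpCat.{u} X.carrier := ⟨G.presheaf, G.isSheaf⟩
  let f' : F' ⟶ G' := ⟨Scheme.Modules.Hom.mapPresheaf φ⟩
  exact TopCat.Presheaf.app_bijective_of_stalkFunctor_map_bijective f' U (fun x _ => h x)

section Linear

variable {F G : X.Modules} (φ : F ⟶ G)

/-- the stalk map. -/
noncomputable abbrev ψ (x : X) : F.presheaf.stalk x ⟶ G.presheaf.stalk x :=
  (TopCat.Presheaf.stalkFunctor AddCommGrpCat.{u} x).map (Scheme.Modules.Hom.mapPresheaf φ)

theorem ψ_germ {U : X.Opens} (x : X) (hx : x ∈ U) (m : Γ(F, U)) :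
    ψ φ x (F.presheaf.germ U x hx m) = G.presheaf.germ U x hx (φ.app U m) :=
  (germ_app φ U x hx m).symm

theorem ψ_smul (x : X) (c : X.presheaf.stalk x) (f : F.presheaf.stalk x) :
    ψ φ x (c • f) = c • ψ φ x f := by
  obtain ⟨V₁, hx₁, r, rfl⟩ := X.presheaf.exists_germ_eq c
  obtain ⟨V₂, hx₂, m, rfl⟩ := F.presheaf.exists_germ_eq f
  have hx : x ∈ V₁ ⊓ V₂ := Opens.mem_inf.mpr ⟨hx₁, hx₂⟩
  rw [← TopCat.Presheaf.germ_res_apply X.presheaf (homOfLE (inf_le_left : V₁ ⊓ V₂ ≤ V₁)) x hx r,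
    ← TopCat.Presheaf.germ_res_apply F.presheaf (homOfLE (inf_le_right : V₁ ⊓ V₂ ≤ V₂)) x hx m,
    ← germ_smul, ψ_germ, ψ_germ, Scheme.Modules.Hom.app_smul, germ_smul]

/-- the stalk map as a linear map over the local ring. -/
noncomputable def ψₗ (x : X) : F.presheaf.stalk x →ₗ[X.presheaf.stalk x] G.presheaf.stalk x where
  toFun := ψ φ x
  map_add' := map_add _
  map_smul' := ψ_smul φ x

theorem ψₗ_apply (x : X) (f : F.presheaf.stalk x) : ψₗ φ x f = ψ φ x f := rfl

end Linear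

section JIdeal

variable {U : X.Opens} (hU : IsAffineOpen U) (H : X.Modules) (x : X) (hx : x ∈ U)
  (z : Γ(H, U)) (W : Submodule (X.presheaf.stalk x) (H.presheaf.stalk x))

/-- the ideal of functions multiplying the germ of `z` into `W`. -/
def J : Ideal Γ(X, U) where
  carrier := {r | H.presheaf.germ U x hx (r • z) ∈ W}
  zero_mem' := by
    change H.presheaf.germ U x hx ((0 : Γ(X, U)) • z) ∈ W
    rw [zero_smul, map_zero]
    exact W.zero_mem
  add_mem' := by
    intro a b ha hb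
    change H.presheaf.germ U x hx ((a + b) • z) ∈ W
    rw [add_smul, map_add]
    exact W.add_mem ha hb
  smul_mem' := by
    intro c a ha
    change H.presheaf.germ U x hx ((c * a) • z) ∈ W
    rw [mul_smul, germ_smul]
    exact W.smul_mem _ ha

theorem mem_J {r : Γ(X, U)} : r ∈ J H x hx z W ↔ H.presheaf.germ U x hx (r • z) ∈ W := Iff.rfl

include hU in
theorem J_sat (r s : Γ(X, U)) (hs : s ∉ (hU.primeIdealOf ⟨x, hx⟩).asIdeal)
    (hsr : s * r ∈ J H x hx z W) : r ∈ J H x hx z W := by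
  rw [mem_J, mul_smul, germ_smul] at hsr
  have hu : IsUnit (X.presheaf.germ U x hx s) := by
    rw [← Scheme.mem_basicOpen, Groth.Agent.Lib.Helper2.mem_basicOpen_iff_notMem_primeIdealOf hU x hx]
    exact hs
  obtain ⟨v, hv⟩ := hu.exists_left_inv
  rw [mem_J]
  have := W.smul_mem v hsr
  rwa [smul_smul, hv, one_smul] at this

include hU in
theorem J_max (r : Γ(X, U))
    (h : ∀ t ∈ (hU.primeIdealOf ⟨x, hx⟩).asIdeal, t * r ∈ J H x hx z W)
    (c : X.presheaf.stalk x) (hc : c ∈ IsLocalRing.maximalIdeal (X.presheaf.stalk x)) :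
    c • H.presheaf.germ U x hx (r • z) ∈ W := by
  obtain ⟨t, d, hdu, htd⟩ := Groth.Agent.Lib.Helper20.RegMero.exists_frac hU x hx c
  have htp : t ∈ (hU.primeIdealOf ⟨x, hx⟩).asIdeal := by
    rw [← germ_mem_maximalIdeal_iff hU x hx, ← htd]
    exact Ideal.mul_mem_right _ _ hc
  have h1 := h t htp
  rw [mem_J, mul_smul, germ_smul, ← htd, mul_comm, mul_smul] at h1
  obtain ⟨v, hv⟩ := hdu.exists_left_inv
  have := W.smul_mem v h1
  rwa [smul_smul, hv, one_smul] at this

end JIdeal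

section Local

variable {F G : X.Modules} (φ : F ⟶ G) [F.IsQuasicoherent] [G.IsQuasicoherent]
  {U : X.Opens} (hU : IsAffineOpen U)

include hU in
theorem inj_at (y : X) (hy : y ∈ U) (hinj : Function.Injective (ψ φ y)) (m : Γ(F, U))
    (hm : φ.app U m = 0) : ∃ e : Γ(X, U), e ∉ (hU.primeIdealOf ⟨y, hy⟩).asIdeal ∧ e • m = 0 := by
  have h1 : F.presheaf.germ U y hy m = 0 := by
    apply hinj
    rw [ψ_germ, hm, map_zero, map_zero]
  obtain ⟨e, he, hem⟩ := exists_smul_eq_zero_of_germ_eq_zero hU F y hy m h1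
  rw [Groth.Agent.Lib.Helper2.mem_basicOpen_iff_notMem_primeIdealOf hU y hy] at he
  exact ⟨e, he, hem⟩

include hU in
theorem surj_at (y : X) (hy : y ∈ U) (hsurj : Function.Surjective (ψ φ y)) (n : Γ(G, U)) :
    ∃ (e : Γ(X, U)) (m : Γ(F, U)), e ∉ (hU.primeIdealOf ⟨y, hy⟩).asIdeal ∧ φ.app U m = e • n := by
  obtain ⟨f, hf⟩ := hsurj (G.presheaf.germ U y hy n)
  obtain ⟨s, m', hs, hsm⟩ := exists_smul_eq_germ hU F y hy f
  have h1 : G.presheaf.germ U y hy (s • n - φ.app U m') = 0 := by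
    rw [map_sub, germ_smul, ← hf, ← ψ_smul, hsm, ψ_germ, sub_self]
  obtain ⟨e, he, hem⟩ := exists_smul_eq_zero_of_germ_eq_zero hU G y hy _ h1
  rw [Groth.Agent.Lib.Helper2.mem_basicOpen_iff_notMem_primeIdealOf hU y hy] at he hs
  refine ⟨e * s, e • m', fun h => ?_, ?_⟩
  · rcases (hU.primeIdealOf ⟨y, hy⟩).isPrime.mem_or_mem h with h | h
    · exact he h
    · exact hs h
  · rw [smul_sub, sub_eq_zero] at hem
    rw [Scheme.Modules.Hom.app_smul, ← hem, mul_smul]

open Groth.Agent.Lib.Helper20.IsoDepth in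
include hU in
theorem bij_at [IsLocallyNoetherian X] [SheafOfModules.IsFiniteType (R := X.ringCatSheaf) F]
    (x : X) (hx : x ∈ U)
    (hgen : ∀ q : PrimeSpectrum Γ(X, U), q.asIdeal < (hU.primeIdealOf ⟨x, hx⟩).asIdeal →
      Function.Bijective (ψ φ (hU.fromSpec q)))
    (hdepth : (2 : ℕ∞) ≤ LocCoh.depth (X.presheaf.stalk x) (F.presheaf.stalk x))
    (hass : ¬ Curv2.IsAssPoint G x) : Function.Bijective (ψ φ x) := by
  haveI : IsNoetherianRing Γ(X, U) := IsLocallyNoetherian.component_noetherian ⟨U, hU⟩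
  haveI : Module.Finite (X.presheaf.stalk x) (F.presheaf.stalk x) :=
    Groth.Agent.Lib.Helper2.FibreCrit.finite_stalk F x
  have hunit : ∀ s : Γ(X, U), x ∈ X.basicOpen s → IsUnit (X.presheaf.germ U x hx s) :=
    fun s hs => (Scheme.mem_basicOpen _ _ _ hx).1 hs
  -- injectivity
  have hinj : Function.Injective (ψ φ x) := by
    rw [injective_iff_map_eq_zero]
    intro f hf
    by_contra hf0
    obtain ⟨s, m, hs, hsm⟩ := exists_smul_eq_germ hU F x hx f
    have hm0 : F.presheaf.germ U x hx m ≠ 0 := by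
      intro h0
      rw [h0] at hsm
      exact hf0 (germ_smul_eq_zero_of_isUnit (hunit s hs) hsm)
    have h1 : G.presheaf.germ U x hx (φ.app U m) = 0 := by
      rw [← ψ_germ, ← hsm, ψ_smul, hf, smul_zero]
    obtain ⟨e, he, hem⟩ := exists_smul_eq_zero_of_germ_eq_zero hU G x hx _ h1
    have hφm₁ : φ.app U (e • m) = 0 := by rw [Scheme.Modules.Hom.app_smul, hem]
    have hm₁ : F.presheaf.germ U x hx (e • m) ≠ 0 := by
      rw [germ_smul]
      intro h0
      exact hm0 (germ_smul_eq_zero_of_isUnit (hunit e he) h0)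
    obtain ⟨r, hrJ, hr⟩ := exists_notMem_mul_mem (hU.primeIdealOf ⟨x, hx⟩).asIdeal
      (J F x hx (e • m) ⊥) (J_sat hU F x hx (e • m) ⊥)
      (by rw [mem_J, one_smul, Submodule.mem_bot]; exact hm₁)
      (by
        intro q hqprime hlt
        obtain ⟨e', he', hem'⟩ := inj_at φ hU (hU.fromSpec ⟨q, hqprime⟩) (fromSpec_mem hU _)
          (hgen ⟨q, hqprime⟩ hlt).1 (e • m) hφm₁
        rw [primeIdealOf_fromSpec hU ⟨q, hqprime⟩] at he'
        refine ⟨e', ?_, he'⟩
        rw [mem_J, hem', map_zero]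
        exact Submodule.zero_mem _)
    rw [mem_J, Submodule.mem_bot] at hrJ
    obtain ⟨a, ham, hareg⟩ := exists_regular (O := X.presheaf.stalk x) (M' := F.presheaf.stalk x)
      (le_trans (by norm_num) hdepth)
    have h2 := J_max hU F x hx (e • m) ⊥ r hr a ham
    rw [Submodule.mem_bot] at h2
    apply hrJ
    apply hareg
    change a • _ = a • (0 : F.presheaf.stalk x)
    rw [smul_zero]
    exact h2
  refine ⟨hinj, ?_⟩
  -- surjectivity
  intro g
  by_contra hg
  obtain ⟨s, n, hs, hsn⟩ := exists_smul_eq_germ hU G x hx g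
  have hn0 : G.presheaf.germ U x hx n ∉ LinearMap.range (ψₗ φ x) := by
    intro h0
    apply hg
    obtain ⟨v, hv⟩ := (hunit s hs).exists_left_inv
    have h1 := (LinearMap.range (ψₗ φ x)).smul_mem v h0
    rw [← hsn, smul_smul, hv, one_smul] at h1
    obtain ⟨f, hf⟩ := h1
    exact ⟨f, hf⟩
  obtain ⟨r, hrJ, hr⟩ := exists_notMem_mul_mem (hU.primeIdealOf ⟨x, hx⟩).asIdeal
    (J G x hx n (LinearMap.range (ψₗ φ x))) (J_sat hU G x hx n _)
    (by rw [mem_J, one_smul]; exact hn0)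
    (by
      intro q hqprime hlt
      obtain ⟨e', m', he', hem'⟩ := surj_at φ hU (hU.fromSpec ⟨q, hqprime⟩) (fromSpec_mem hU _)
        (hgen ⟨q, hqprime⟩ hlt).2 n
      rw [primeIdealOf_fromSpec hU ⟨q, hqprime⟩] at he'
      refine ⟨e', ?_, he'⟩
      rw [mem_J, ← hem', ← ψ_germ]
      exact ⟨F.presheaf.germ U x hx m', rfl⟩)
  rw [mem_J] at hrJ
  obtain ⟨a, ham, b, hbm, hareg, hbreg⟩ :=
    exists_regular_pair (O := X.presheaf.stalk x) (M' := F.presheaf.stalk x) hdepth
  obtain ⟨n'', hn''0, hn''⟩ := exists_ne_zero_smul_eq_zero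
    (IsLocalRing.maximalIdeal (X.presheaf.stalk x)) (ψₗ φ x) hinj a b ham hbm hareg hbreg
    (G.presheaf.germ U x hx (r • n)) hrJ (fun t ht => J_max hU G x hx n _ r hr t ht)
  apply hass
  change IsAssociatedPrime _ _
  rw [isAssociatedPrime_iff]
  refine ⟨(IsLocalRing.maximalIdeal.isMaximal _).isPrime, n'', ?_⟩
  ext c
  rw [Submodule.mem_colon_singleton, Submodule.mem_bot]
  constructor
  · intro hc
    exact hn'' c hc
  · intro hc
    by_contra hcm
    have hcu : IsUnit c := by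
      by_contra hnu
      exact hcm ((IsLocalRing.mem_maximalIdeal c).2 hnu)
    exact hn''0 (germ_smul_eq_zero_of_isUnit hcu hc)

end Local

/-- Let X be a locally Noetherian scheme and φ : F ⟶ G a morphism of quasi-coherent O_X-modules with F
coherent. Assume that for every point x of X either the stalk map F_x → G_x is an isomorphism, or
depth(F_x) ≥ 2 and x is not an associated point of G. Then φ is an isomorphism. -/
theorem result (X : Scheme.{u}) [IsLocallyNoetherian X] {F G : X.Modules} (φ : F ⟶ G)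
    (hF : Coh.IsCoh F) (hG : Coh.IsQCoh G)
    (h : ∀ x : ↥X, Function.Bijective ((TopCat.Presheaf.stalkFunctor AddCommGrpCat.{u} x).map (Scheme.Modules.Hom.mapPresheaf φ)) ∨
      ((2 : ℕ∞) ≤ LocCoh.depth (X.presheaf.stalk x) (F.presheaf.stalk x) ∧ ¬ Curv2.IsAssPoint G x)) :
    IsIso φ := by
  haveI : F.IsQuasicoherent := hF.1
  haveI : SheafOfModules.IsFiniteType (R := X.ringCatSheaf) F := hF.2
  haveI : G.IsQuasicoherent := hG
  apply isIso_of_stalk_bijective
  by_contra hnot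
  push Not at hnot
  obtain ⟨x₀, hx₀⟩ := hnot
  obtain ⟨_, ⟨U, hU, rfl⟩, hx₀U, -⟩ :=
    X.isBasis_affineOpens.exists_subset_of_mem_open (Set.mem_univ x₀) isOpen_univ
  haveI : IsNoetherianRing Γ(X, U) := IsLocallyNoetherian.component_noetherian ⟨U, hU⟩
  let S : Set (PrimeSpectrum Γ(X, U)) := {q | ¬ Function.Bijective (ψ φ (hU.fromSpec q))}
  have hne : S.Nonempty := by
    refine ⟨hU.primeIdealOf ⟨x₀, hx₀U⟩, ?_⟩
    change ¬ Function.Bijective (ψ φ (hU.fromSpec (hU.primeIdealOf ⟨x₀, hx₀U⟩)))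
    rw [hU.fromSpec_primeIdealOf ⟨x₀, hx₀U⟩]
    exact hx₀
  obtain ⟨q₀, hq₀S, hmin⟩ := WellFounded.has_min
    (InvImage.wf (fun q : PrimeSpectrum Γ(X, U) => q.asIdeal.height) wellFounded_lt) S hne
  apply hq₀S
  have hmem := Groth.Agent.Lib.Helper2.QCoh.fromSpec_mem hU q₀
  have hprime := Groth.Agent.Lib.Helper2.QCoh.primeIdealOf_fromSpec hU q₀
  rcases h (hU.fromSpec q₀) with hb | ⟨hdepth, hass⟩
  · exact hb
  · refine bij_at φ hU (hU.fromSpec q₀) hmem ?_ hdepth hass
    intro q hlt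
    rw [hprime] at hlt
    by_contra hq
    apply hmin q hq
    change q.asIdeal.height < q₀.asIdeal.height
    exact Ideal.height_strict_mono_of_isPrime hlt

end Groth.Agent.S8890
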