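import Groth.Statements.S9819
import Mathlib
import Groth.Agent.Lib.Helper23Extend2
-- import your own Groth.Agent.* helpers here

set_option autoImplicit false
universe u
open CategoryTheory CategoryTheory.Limits AlgebraicGeometry TopologicalSpace Opposite
open Props

namespace Groth.Agent.S9819


open Groth.Agent.Lib.Helper23.QCohLocal Groth.Agent.Lib.Helper2.Push Groth.Agent.Lib.Helper2.QCoh
  Groth.Agent.Lib.Helper23.FinType Groth.Agent.Lib.Helper23.ModLocal Groth.Agent.Lib.Helper23.Extend

/-- transport of "being in the image on sections" along an equality of opens -/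
theorem exists_app_eq_of_eq {X : Scheme.{u}} {A B : X.Modules} (m : A ⟶ B) {W W' : X.Opens} (h : W = W')
    (s : Γ(B, W'))
    (hs : ∃ t : Γ(A, W), m.app W t = B.presheaf.map (eqToHom h).op s) : ∃ t : Γ(A, W'), m.app W' t = s := by
  subst h
  obtain ⟨t, ht⟩ := hs
  refine ⟨t, ?_⟩
  rw [ht]
  simp

/-- on a qcqs scheme, a section over an affine open of a quasi-coherent module lies in a quasi-coherent submodule -/
theorem aux {X : Scheme.{u}} [QuasiSeparatedSpace X] (F : X.Modules) [F.IsQuasicoherent] {U : X.Opens}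
    (hU : IsAffineOpen U) (s : Γ(F, U)) :
    ∃ (H : X.Modules) (ψ : H ⟶ F), Mono ψ ∧ H.IsQuasicoherent ∧ FTOn H U ∧ ∃ t : Γ(H, U), ψ.app U t = s := by
  let R : CommRingCat.{u} := Γ(X, U)
  let h : Spec R ⟶ X := hU.fromSpec
  have : QuasiCompact h := quasiCompact_of_compactSpace h
  let B : (Spec R).Modules := F.restrict h
  have htop : h ''ᵁ ⊤ = U := by
    rw [Scheme.Hom.image_top_eq_opensRange, hU.opensRange_fromSpec]
  let s' : Γ(B, ⊤) := F.presheaf.map (eqToHom htop).op s
  classical
  obtain ⟨N, hN, c, hc, hcT⟩ := exists_finite_mono_of_finset R ((ΓF R).obj B)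
    ({(s' : ((ΓF R).obj B))} : Finset ((ΓF R).obj B))
  have := hc
  have : Mono (adjTilde R B c) := mono_adjTilde R B c
  have : ((tilde.functor R).obj N).IsQuasicoherent := inferInstanceAs (tilde N).IsQuasicoherent
  obtain ⟨H, ψ, e, hHq, hcompat, hmono, -⟩ := exists_extension' h F ((tilde.functor R).obj N) (adjTilde R B c)
  have := hHq
  refine ⟨H, ψ, hmono inferInstance, hHq, ?_, ?_⟩
  · have : SheafOfModules.IsFiniteType (R := (Spec R).ringCatSheaf) ((tilde.functor R).obj N) :=
      (isFiniteType_tilde_iff R N).2 hN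
    have : SheafOfModules.IsFiniteType (R := (Spec R).ringCatSheaf) (H.restrict h) := isFiniteType_of_iso e.symm
    have := ftOn_of_isFiniteType_restrict h H
    rw [hU.opensRange_fromSpec] at this
    exact this
  · obtain ⟨n, hn⟩ := hcT s' (Submodule.subset_span (Finset.mem_coe.2 (Finset.mem_singleton_self _)))
    obtain ⟨σ, hσ⟩ := exists_section_adjTilde R B c n
    refine exists_app_eq_of_eq ψ htop s ⟨e.inv.app ⊤ σ, ?_⟩
    have h1 : ((Scheme.Modules.restrictFunctor h).map ψ).app ⊤ (e.inv.app ⊤ σ) = s' := by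
      rw [← hcompat, Scheme.Modules.Hom.comp_app]
      have h2 : e.hom.app ⊤ (e.inv.app ⊤ σ) = σ := by
        have h3 : (e.inv ≫ e.hom).app ⊤ σ = σ := by rw [e.inv_hom_id]; rfl
        exact h3
      change (adjTilde R B c).app ⊤ (e.hom.app ⊤ (e.inv.app ⊤ σ)) = s'
      rw [h2, hσ, hn]
    exact h1

/-- On a quasi-compact quasi-separated scheme, every local section of a quasi-coherent module over an
affine open lies in some quasi-coherent submodule of finite type; hence the module is the directed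
union of its quasi-coherent submodules of finite type. -/
theorem result {X : Scheme.{u}} [CompactSpace X]
    [QuasiSeparatedSpace X] (F : X.Modules) [Coh.IsQCoh F] (U : X.affineOpens)
    (s : F.val.obj (op (U : X.Opens))) :
    ∃ (G : X.Modules) (i : G ⟶ F), Mono i ∧ Coh.IsQCoh G ∧ CohB1.IsFT G ∧
      ∃ g : G.val.obj (op (U : X.Opens)), (i.val.app (op (U : X.Opens))).hom g = s := by
  obtain ⟨H, ψ, hm, hq, hft, t, ht⟩ := aux F U.2 s
  have := hq
  have := hm
  obtain ⟨F₁, ψ₁, hm₁, hq₁, hft₁, hiso₁⟩ := exists_sub_isFiniteType H U.1 U.2.isCompact hft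
  have := hm₁
  have := hiso₁ U.1 le_rfl
  obtain ⟨g, hg⟩ := (ConcreteCategory.bijective_of_isIso (ψ₁.app U.1)).2 t
  refine ⟨F₁, ψ₁ ≫ ψ, mono_comp _ _, hq₁, hft₁, g, ?_⟩
  change (ψ₁ ≫ ψ).app U.1 g = s
  rw [Scheme.Modules.Hom.comp_app]
  change ψ.app U.1 (ψ₁.app U.1 g) = s
  rw [hg, ht]

end Groth.Agent.S9819
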