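import Groth.Statements.S0014
import Mathlib
import Groth.Agent.Lib.Helper23Serre
import Groth.Agent.Lib.Helper23FTsub
-- import your own Groth.Agent.* helpers here

set_option autoImplicit false
universe u
open Coherent

namespace Groth.Agent.S0014


open Groth.Agent.Lib.Helper23.AffVanish Groth.Agent.Lib.Helper23.FTsub in
open AlgebraicGeometry CategoryTheory in
open AlgebraicGeometry CategoryTheory in
/-- If X is quasi-compact and quasi-separated and H^1 vanishes for every quasi-coherent submodule of
finite type of the structure sheaf, then X is affine. -/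
theorem result (X : Scheme.{u}) [CompactSpace X]
    [QuasiSeparatedSpace X]
    (h : ∀ (I : X.Modules) (i : I ⟶ Coh.structureModule X), Mono i →
      Coh.IsQCoh I → CohB1.IsFT I → Subsingleton (Coh.HH X I 1)) : IsAffine X := by
  apply Groth.Agent.Lib.Helper23.Serre.isAffine_of_hyp
  intro I i hi hI
  have : I.IsQuasicoherent := hI
  have h1 : Subsingleton (HE (ab' I) 1 ⊤) := by
    apply subsingleton_HE_of_ft I
    intro K' j hj hq hf
    have hm : Mono (j ≫ i) := mono_comp _ _
    have h2 : Subsingleton (Coh.HH X K' 1) := h K' (j ≫ i) hm hq hf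
    exact @Equiv.subsingleton _ _ (HETopEquivH X.carrier (ab' K') 1).toEquiv h2
  exact @Equiv.subsingleton _ _ (HETopEquivH X.carrier (ab' I) 1).symm.toEquiv h1

end Groth.Agent.S0014
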