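import Groth.Statements.S9522
import Groth.Agent.Lib.Helper4DevN

set_option autoImplicit false
set_option linter.style.haveILetI false
universe u
open CategoryTheory CategoryTheory.Limits AlgebraicGeometry
attribute [local instance] HasDerivedCategory.standard
open Coherent

namespace Groth.Agent.S9522

/-- Let X be a Noetherian scheme, Z₀ ⊆ X an irreducible closed subset with generic point ξ, and P an
isomorphism-invariant property of O_X-modules that holds for every zero module and such that (1) for
every short exact sequence 0 → F₁ → F → F₂ → 0 of coherent modules, P(F₁) and P(F₂) imply P(F); (2)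
for coherent F, P(F^⊕r) for some r ≥ 1 implies P(F); (3) P holds for i_*I for every closed immersion
i : Z → X with Z integral, i(Z) a proper subset of Z₀, and every quasi-coherent ideal sheaf I ⊆ O_Z;
(4) there is a coherent module G with support equal to Z₀, whose stalk at ξ is annihilated by the
maximal ideal of O_{X,ξ}, and such that for every quasi-coherent sheaf of ideals J on X with ξ ∉
V(J) there is a quasi-coherent submodule G' ⊆ J·G whose inclusion into G induces an isomorphism on
stalks at ξ and for which P holds. Then P holds for every coherent O_X-module whose support is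
contained in Z₀. (The published statement does not ask that P hold for the zero module, although its
proof uses this for a filtration with no steps; without it the conclusion fails for the zero module
when Z₀ is a closed point: on the spectrum of a field, with P(F) meaning that F is nonzero, every
other hypothesis holds. This row assumes that P holds for every zero module.) -/
theorem result (X : Scheme.{u}) [IsNoetherian X]
    (Z₀ : Set X) (hZ₀ : IsClosed Z₀) (hirr : IsIrreducible Z₀) (ξ : X) (hξ : ξ ∈ Z₀ ∧ closure {ξ} = Z₀)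
    (P : X.Modules → Prop) (hP : ∀ M N : X.Modules, Nonempty (M ≅ N) → P M → P N)
    (h₀ : ∀ M : X.Modules, IsZero M → P M)
    (h₁ : ∀ S : ShortComplex X.Modules, S.ShortExact → Coh.IsCoh S.X₁ → Coh.IsCoh S.X₂ → Coh.IsCoh S.X₃ →
      P S.X₁ → P S.X₃ → P S.X₂)
    (h₂ : ∀ (F : X.Modules) (r : ℕ), Coh.IsCoh F → 1 ≤ r → P (∐ fun _ : Fin r => F) → P F)
    (h₃ : ∀ (Z : Scheme.{u}) (i : Z ⟶ X), IsClosedImmersion i → IsIntegral Z →
      Set.range ⇑i ⊆ Z₀ → Set.range ⇑i ≠ Z₀ →
      ∀ (I : Z.Modules) (ι : I ⟶ Coh.structureModule Z), Mono ι → Coh.IsQCoh I → P ((Coh.push i).obj I))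
    (h₄ : ∃ G : X.Modules, Coh.IsCoh G ∧ CohB1.support G = Z₀ ∧
      (∀ a ∈ IsLocalRing.maximalIdeal (X.presheaf.stalk ξ), ∀ m : ↑(G.presheaf.stalk ξ), a • m = 0) ∧
      ∀ J : X.IdealSheafData, ξ ∉ (J.support : Set X) →
        ∃ (G' : X.Modules) (ι' : G' ⟶ (Dual3.idealMul J).obj G), Mono ι' ∧ Coh.IsQCoh G' ∧
          IsIso ((TopCat.Presheaf.stalkFunctor _ ξ).map (ι' ≫ Dual3.idealMulι J G).mapPresheaf) ∧ P G')
    (F : X.Modules) (hF : Coh.IsCoh F) (hsupp : CohB1.support F ⊆ Z₀) : P F := by
  haveI : IsLocallyNoetherian X := inferInstance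
  obtain ⟨G, hG, hsG, hkill, hGJ⟩ := h₄
  obtain ⟨hξ1, hξ2⟩ := hξ
  subst hξ2
  have hext : ∀ S : CategoryTheory.ShortComplex X.Modules, S.ShortExact → Coh.IsCoh S.X₁ →
      Coh.IsCoh S.X₂ → Coh.IsCoh S.X₃ → CohB1.support S.X₂ ⊆ closure {ξ} →
      P S.X₁ → P S.X₃ → P S.X₂ :=
    fun S hS c1 c2 c3 _ h1 h3 => h₁ S hS c1 c2 c3 h1 h3
  have IH' : ∀ E : X.Modules, Coh.IsCoh E → CohB1.support E ⊆ closure {ξ} →
      Subsingleton (E.presheaf.stalk ξ) → P E := by
    intro E hE hsE hEξ
    have hξT : ξ ∉ CohB1.support E := fun h => h hEξ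
    have hext' : ∀ S : CategoryTheory.ShortComplex X.Modules, S.ShortExact → Coh.IsCoh S.X₁ →
        Coh.IsCoh S.X₂ → Coh.IsCoh S.X₃ → CohB1.support S.X₂ ⊆ CohB1.support E →
        P S.X₁ → P S.X₃ → P S.X₂ :=
      fun S hS c1 c2 c3 _ h1 h3 => h₁ S hS c1 c2 c3 h1 h3
    refine Groth.Agent.Lib.Helper4.Dev.noetherian_induction_coh P (CohB1.support E) hP h₀ hext' ?_
      E hE (le_refl _)
    intro y hyT IH F hF hsF
    refine Groth.Agent.Lib.Helper4.Dev.ideal_step P (CohB1.support E) hP hext' y hyT IH ?_ F hF hsF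
    intro Z i hci hint hrange I ι hι hIq _ _
    refine h₃ Z i hci hint (hrange ▸ hyT.trans hsE) ?_ I ι hι hIq
    intro h
    rw [hrange] at h
    apply hξT
    apply hyT
    rw [h]
    exact subset_closure (Set.mem_singleton ξ)
  refine Groth.Agent.Lib.Helper4.Dev.ideal_step' P (closure {ξ}) hP hext ξ (le_refl _) IH' ?_ F hF hsupp
  intro Z i _ _ hrange hgen hker I ι hι hIq hInz hIc
  subst hgen
  exact Groth.Agent.Lib.Helper4.Dev.K_ideal_of_idealMul P hP h₁ h₂ i IH' hrange hker G hG hsG hkill hGJ
    I ι hι hInz hIc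

end Groth.Agent.S9522
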