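import Groth.Statements.S0590
import Mathlib
import Groth.Agent.Lib.Helper22NA9

set_option autoImplicit false
universe u
open CategoryTheory AlgebraicGeometry
open Lim

namespace Groth.Agent.S0590

open Groth.Agent.Lib.Helper22

/-- Every quasi-compact quasi-separated scheme is the limit of an inverse system, indexed by a nonempty
directed preorder, of quasi-compact schemes locally of finite type over the integers with affine
transition morphisms. -/
theorem result (S : Scheme.{u}) [CompactSpace S] [QuasiSeparatedSpace S] :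
    ∃ (I : Type u) (_ : Preorder I) (_ : IsDirected I (fun a b => a ≤ b)) (_ : Nonempty I)
      (D : Iᵒᵖ ⥤ Scheme.{u}) (c : Limits.Cone D) (_ : Limits.IsLimit c),
      (∀ (i j : Iᵒᵖ) (f : i ⟶ j), IsAffineHom (D.map f)) ∧
      (∀ i, CompactSpace (D.obj i) ∧
        LocallyOfFiniteType (Limits.IsTerminal.from specULiftZIsTerminal (D.obj i))) ∧
      Nonempty (c.pt ≅ S) := by
  have j : NA9.emptyC.{u}.pt ⟶ S := Scheme.emptyTo S
  have : IsOpenImmersion j := by
    have : IsEmpty NA9.emptyC.{u}.pt := inferInstanceAs (IsEmpty (∅ : Scheme.{u}))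
    infer_instance
  obtain ⟨J, pJ, DS, cS, hcS, eS, α, ν, hgood, -, -, -⟩ :=
    NA9.approx_of_qcqs NA9.emptyD.{u} NA9.goodSys_emptyD NA9.emptyC NA9.emptyIsLimit j
  exact ⟨J, pJ, hgood.dir, hgood.ne, DS, cS, hcS, fun i j f => hgood.aff f,
    fun i => ⟨hgood.cpt i, hgood.lft i⟩, ⟨eS⟩⟩

end Groth.Agent.S0590
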