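import Groth.Statements.S7383
import Mathlib
import Groth.Agent.Lib.Helper22NA11

set_option autoImplicit false
universe u
open CategoryTheory AlgebraicGeometry
open Lim

namespace Groth.Agent.S7383

open Groth.Agent.Lib.Helper22 Opposite

/-- a compact subset of a scheme is contained in a quasi-compact open -/
theorem exists_compact_open_of_range {X S : Scheme.{u}} (f : X ⟶ S) [CompactSpace X] :
    ∃ U : S.Opens, IsCompact (U : Set S) ∧ Set.range f ⊆ U := by
  have h : ∀ x : X, ∃ W : S.Opens, IsAffineOpen W ∧ f x ∈ W := fun x => by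
    obtain ⟨_, ⟨W, hW, rfl⟩, hx, -⟩ := S.isBasis_affineOpens.exists_subset_of_mem_open
      (Set.mem_univ (f x)) isOpen_univ
    exact ⟨W, hW, hx⟩
  choose W hW hxW using h
  obtain ⟨t, ht⟩ := isCompact_univ.elim_finite_subcover (fun x : X => ((f ⁻¹ᵁ W x : X.Opens) : Set X))
    (fun x => (f ⁻¹ᵁ W x).isOpen) (fun x _ => Set.mem_iUnion.mpr ⟨x, hxW x⟩)
  refine ⟨⨆ x ∈ t, W x, ?_, ?_⟩
  · have : ((⨆ x ∈ t, W x : S.Opens) : Set S) = ⋃ x ∈ t, (W x : Set S) := by
      simp
    rw [this]
    exact t.isCompact_biUnion fun x _ => (hW x).isCompact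
  · rintro _ ⟨x, rfl⟩
    obtain ⟨y, hy⟩ := Set.mem_iUnion.mp (ht (Set.mem_univ x))
    obtain ⟨hyt, hxy⟩ := Set.mem_iUnion.mp hy
    exact TopologicalSpace.Opens.mem_iSup.mpr ⟨y, TopologicalSpace.Opens.mem_iSup.mpr ⟨hyt, hxy⟩⟩

/-- Let `f : X → S` be a morphism with `X` quasi-compact and quasi-separated and `S` quasi-separated.
Then, in the category of schemes over `S`, `X` is the limit of a nonempty directed inverse system of
schemes `X_i → S` of finite presentation (locally of finite presentation, quasi-compact and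
quasi-separated) with affine transition morphisms. -/
theorem result {X S : Scheme.{u}} (f : X ⟶ S)
    [CompactSpace X] [QuasiSeparatedSpace X] [QuasiSeparatedSpace S] :
    ∃ (I : Type u) (_ : Preorder I) (_ : IsDirected I (fun a b => a ≤ b)) (_ : Nonempty I)
      (D : Iᵒᵖ ⥤ Over S) (c : Limits.Cone D) (_ : Limits.IsLimit c),
      (∀ i, LocallyOfFinitePresentation (D.obj i).hom ∧ QuasiCompact (D.obj i).hom ∧
        QuasiSeparated (D.obj i).hom) ∧
      (∀ (i j : Iᵒᵖ) (a : i ⟶ j), IsAffineHom (D.map a).left) ∧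
      Nonempty (c.pt ≅ Over.mk f) := by
  obtain ⟨U, hU, hfU⟩ := exists_compact_open_of_range f
  have hrange : Set.range f ⊆ Set.range U.ι := by
    rw [Scheme.Opens.range_ι]; exact hfU
  let g : X ⟶ U.toScheme := IsOpenImmersion.lift U.ι f hrange
  have hg : g ≫ U.ι = f := IsOpenImmersion.lift_fac _ _ _
  have : CompactSpace U.toScheme := isCompact_iff_compactSpace.mp hU
  have : QuasiSeparatedSpace U.toScheme :=
    (isQuasiSeparated_iff_quasiSeparatedSpace _ U.2).mp (.of_quasiSeparatedSpace _)
  have h := NA11.exists_over_system g U.ι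
  rw [hg] at h
  exact h

end Groth.Agent.S7383
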