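import Groth.Statements.S17885
-- import your own Groth.Agent.* helpers here
import Mathlib
import Groth.Agent.S7383

set_option autoImplicit false
universe u
open CategoryTheory AlgebraicGeometry
open Lim

namespace Groth.Agent.S17885

open Limits TopologicalSpace

/-- **key lemma**: for a cofiltered system of qcqs `X`-schemes with affine transition maps whose limit is
affine over `X` (quasi-compact), some stage is affine over `X`. -/
theorem exists_isAffineHom_stage {X : Scheme.{u}} [CompactSpace X] [QuasiSeparatedSpace X]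
    {J : Type u} [SmallCategory J] [IsCofiltered J]
    (E : J ⥤ Scheme.{u}) (t : ∀ j, E.obj j ⟶ X) (ht : ∀ {i j : J} (a : i ⟶ j), E.map a ≫ t j = t i)
    (c : Cone E) (hc : IsLimit c) [∀ {i j : J} (a : i ⟶ j), IsAffineHom (E.map a)]
    [∀ j, QuasiCompact (t j)] [∀ j, QuasiSeparated (t j)]
    (T : c.pt ⟶ X) (hT : ∀ j, c.π.app j ≫ t j = T) [IsAffineHom T] : ∃ j : J, IsAffineHom (t j) := by
  classical
  haveI : ∀ j, QuasiSeparatedSpace (E.obj j) := fun j => quasiSeparatedSpace_of_quasiSeparated (t j)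
  obtain ⟨s, hs⟩ := IsOpenCover.exists_finite_of_compactSpace
    (u := fun U : X.affineOpens => (U : X.Opens)) (iSup_affineOpens_eq_top X)
  -- each member has affine preimage at some stage
  have h1 : ∀ U : s, ∃ j : J, IsAffineOpen (t j ⁻¹ᵁ U.1.1) := by
    intro U
    have hW : IsAffineOpen (T ⁻¹ᵁ U.1.1) := U.1.2.preimage T
    obtain ⟨i, V, hV, hVW⟩ := exists_isAffineOpen_preimage_eq E c hc _ hW
    have hcpt : IsCompact ((t i ⁻¹ᵁ U.1.1 : (E.obj i).Opens) : Set (E.obj i)) :=
      QuasiCompact.isCompact_preimage (f := t i) _ U.1.1.2 U.1.2.isCompact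
    have H : c.π.app i ⁻¹ᵁ V = c.π.app i ⁻¹ᵁ (t i ⁻¹ᵁ U.1.1) := by
      rw [hVW, ← Scheme.Hom.comp_preimage, hT]
    obtain ⟨j, f, hj⟩ := exists_map_preimage_eq_map_preimage E c hc hV.isCompact hcpt H
    refine ⟨j, ?_⟩
    rw [← ht f, Scheme.Hom.comp_preimage, ← hj]
    exact hV.preimage _
  choose jU hjU using h1
  obtain ⟨k, hk⟩ := IsCofiltered.inf_objs_exists (Finset.univ.image jU)
  have hk' : ∀ U : s, Nonempty (k ⟶ jU U) := fun U => hk (by simp)
  refine ⟨k, isAffineHom_of_forall_exists_isAffineOpen (f := t k) fun x => ?_⟩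
  have hx : x ∈ (⨆ U : s, (U.1.1 : X.Opens)) := by
    rw [hs.iSup_eq_top]; trivial
  obtain ⟨U, hxU⟩ := Opens.mem_iSup.1 hx
  obtain ⟨a⟩ := hk' U
  refine ⟨U.1.1, hxU, U.1.2, ?_⟩
  rw [← ht a, Scheme.Hom.comp_preimage]
  exact (hjU U).preimage _

theorem isAffineHom_of_comp_affine {A B C : Scheme.{u}} (p : A ⟶ B) (q : B ⟶ C) [IsAffineHom q]
    [IsAffineHom (p ≫ q)] : IsAffineHom p :=
  IsAffineHom.of_comp p q

/-- Let f : Y → X be a morphism of schemes with X and Y quasi-compact and quasi-separated. Then f is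
affine if and only if the X-scheme Y is a limit, in the category of schemes over X, of a filtered
inverse system of X-schemes that are affine and of finite presentation over X. -/
theorem result {X Y : Scheme.{u}} (f : Y ⟶ X)
    [CompactSpace X] [QuasiSeparatedSpace X] [CompactSpace Y] [QuasiSeparatedSpace Y] :
    IsAffineHom f ↔
      ∃ (I : Type u) (_ : SmallCategory I) (_ : IsFiltered I) (D : Iᵒᵖ ⥤ Over X)
        (c : Limits.Cone D) (_ : Limits.IsLimit c),
        (∀ i, IsAffineHom (D.obj i).hom ∧ LocallyOfFinitePresentation (D.obj i).hom) ∧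
        Nonempty (c.pt ≅ Over.mk f) := by
  constructor
  · intro hf
    haveI := hf
    obtain ⟨I, _, hdir, hne, D, c, hc, hprops, hafft, ⟨e⟩⟩ := Groth.Agent.S7383.result f
    haveI : IsIso e.hom.left := inferInstanceAs (IsIso ((Over.forget X).map e.hom))
    haveI : IsFiltered I := isFiltered_of_directed_le_nonempty I
    haveI : IsConnected Iᵒᵖ := IsCofiltered.isConnected _
    -- the underlying system of schemes
    haveI : ∀ {i j : Iᵒᵖ} (a : i ⟶ j), IsAffineHom ((D ⋙ Over.forget X).map a) :=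
      fun a => hafft _ _ a
    let t : ∀ j : Iᵒᵖ, (D ⋙ Over.forget X).obj j ⟶ X := fun j => (D.obj j).hom
    haveI : ∀ j : Iᵒᵖ, QuasiCompact (t j) := fun j => (hprops j).2.1
    haveI : ∀ j : Iᵒᵖ, QuasiSeparated (t j) := fun j => (hprops j).2.2
    have hT : c.pt.hom = e.hom.left ≫ f := (Over.w e.hom).symm
    let T : ((Over.forget X).mapCone c).pt ⟶ X := c.pt.hom
    haveI : IsAffineHom T := by
      show IsAffineHom c.pt.hom
      rw [hT]; infer_instance
    obtain ⟨j₁, hj₁⟩ := exists_isAffineHom_stage (D ⋙ Over.forget X) t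
      (fun a => Over.w (D.map a)) ((Over.forget X).mapCone c)
      (isLimitOfPreserves (Over.forget X) hc) T (fun j => Over.w (c.π.app j))
    -- restrict to the indices above `j₁`
    let i₁ : I := j₁.unop
    let I' : Type u := {i : I // i₁ ≤ i}
    haveI : Nonempty I' := ⟨⟨i₁, le_rfl⟩⟩
    haveI : IsDirected I' (· ≤ ·) := ⟨fun a b => by
      obtain ⟨k, hak, hbk⟩ := hdir.directed a.1 b.1
      exact ⟨⟨k, a.2.trans hak⟩, hak, hbk⟩⟩
    haveI : IsFiltered I' := isFiltered_of_directed_le_nonempty I'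
    let G : I' ⥤ I := (Subtype.mono_coe (fun i : I => i₁ ≤ i)).functor
    haveI : G.Final := by
      refine Functor.final_of_exists_of_isFiltered G (fun d => ?_) (fun {d c'} s s' => ?_)
      · obtain ⟨k, hdk, hik⟩ := hdir.directed d i₁
        exact ⟨⟨k, hik⟩, ⟨homOfLE hdk⟩⟩
      · exact ⟨c', 𝟙 _, Subsingleton.elim _ _⟩
    refine ⟨I', inferInstance, inferInstance, G.op ⋙ D, c.whisker G.op,
      (Functor.Initial.isLimitWhiskerEquiv G.op c).symm hc, fun i => ⟨?_, (hprops _).1⟩, ⟨e⟩⟩
    -- affineness above `j₁`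
    have a : (G.op.obj i) ⟶ j₁ := (homOfLE i.unop.2).op
    have hw : (D.map a).left ≫ (D.obj j₁).hom = (D.obj (G.op.obj i)).hom := Over.w (D.map a)
    show IsAffineHom (D.obj (G.op.obj i)).hom
    rw [← hw]
    haveI : IsAffineHom (D.map a).left := hafft _ _ a
    haveI : IsAffineHom (D.obj j₁).hom := hj₁
    infer_instance
  · rintro ⟨I, _, _, D, c, hc, hprops, ⟨e⟩⟩
    haveI : IsConnected Iᵒᵖ := IsCofiltered.isConnected _
    haveI : ∀ j : Iᵒᵖ, IsAffineHom (D.obj j).hom := fun j => (hprops j).1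
    haveI : ∀ {i j : Iᵒᵖ} (a : i ⟶ j), IsAffineHom ((D ⋙ Over.forget X).map a) := fun {i j} a => by
      haveI : IsAffineHom ((D.map a).left ≫ (D.obj j).hom) := by
        rw [Over.w (D.map a)]; infer_instance
      exact isAffineHom_of_comp_affine (D.map a).left (D.obj j).hom
    obtain ⟨j₀⟩ : Nonempty Iᵒᵖ := ⟨Opposite.op (IsFiltered.nonempty (C := I)).some⟩
    haveI : IsAffineHom (((Over.forget X).mapCone c).π.app j₀) :=
      isAffineHom_π_app (D ⋙ Over.forget X) ((Over.forget X).mapCone c)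
        (isLimitOfPreserves (Over.forget X) hc) j₀
    have h1 : c.pt.hom = (c.π.app j₀).left ≫ (D.obj j₀).hom := (Over.w (c.π.app j₀)).symm
    haveI : IsAffineHom (c.π.app j₀).left := ‹IsAffineHom (((Over.forget X).mapCone c).π.app j₀)›
    haveI : IsAffineHom c.pt.hom := by rw [h1]; infer_instance
    have h2 : f = e.inv.left ≫ c.pt.hom := (Over.w e.inv).symm
    haveI : IsIso e.inv.left := inferInstanceAs (IsIso ((Over.forget X).map e.inv))
    rw [h2]
    infer_instance

end Groth.Agent.S17885
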