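import Groth.Statements.S15744
import Mathlib
import Groth.Agent.Lib.Helper23SecTw2
-- import your own Groth.Agent.* helpers here

set_option autoImplicit false
universe u
open QCohSup

namespace Groth.Agent.S15744


open CategoryTheory Limits AlgebraicGeometry TopologicalSpace Opposite
open Groth.Agent.Lib.Helper23.SecTw Groth.Agent.Lib.Helper23.GenLocus Groth.Agent.Lib.Helper23.QCohLocal Groth.Agent.Lib.Helper6

theorem main
    (X : Scheme.{u}) [CompactSpace X] [QuasiSeparatedSpace X] (L : X.Modules)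
    (hL : PicF.IsInvertible L) (s : Coh.structureModule X ⟶ L) (F : X.Modules) [Coh.IsQCoh F]
    (t : Γ(F, CohB1.genLocus L s)) :
    ∃ n : ℕ, 0 < n ∧ ∃ t' : Γ(CohB1.tensorMod F (CohB1.tensorPow L n), ⊤),
      res _ (le_top : CohB1.genLocus L s ≤ ⊤) t' = tw F L (CohB1.genLocus L s) t (sv s _) n := by
  choose W hxW hWaff e f hval hbo hgen using exists_frame L hL s
  obtain ⟨T, hT⟩ : ∃ T : Finset X, (⊤ : X.Opens) ≤ ⨆ x : T, W x := by
    have hc : IsCompact ((⊤ : X.Opens) : Set X) := by
      simpa using isCompact_univ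
    obtain ⟨T, hT⟩ := hc.elim_finite_subcover (fun x => (W x : Set X)) (fun x => (W x).2)
      (fun x _ => Set.mem_iUnion.2 ⟨x, hxW x⟩)
    refine ⟨T, fun x hx => ?_⟩
    obtain ⟨y, hy⟩ := Set.mem_iUnion.1 (hT hx)
    obtain ⟨hyT, hxy⟩ := Set.mem_iUnion.1 hy
    exact Opens.mem_iSup.2 ⟨⟨y, hyT⟩, hxy⟩
  -- Step 1 : local extensions
  have h1 : ∀ x, ∃ (n : ℕ) (tx : Γ(F, W x)), res F (X.basicOpen_le (f x)) tx =
      resf (X.basicOpen_le (f x)) (f x) ^ n • res F ((hbo x).le.trans inf_le_left) t := by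
    intro x
    exact exists_extension_qcqs' (hWaff x).isCompact (hWaff x).isQuasiSeparated F (f x) (X.basicOpen (f x)) rfl
      (X.basicOpen_le _) _
  choose n0 t0 ht0 using h1
  obtain ⟨N, hN⟩ : ∃ N : ℕ, N = T.sup n0 := ⟨_, rfl⟩
  have h1' : ∀ x : T, ∃ tx : Γ(F, W x), res F (X.basicOpen_le (f x)) tx =
      resf (X.basicOpen_le (f x)) (f x) ^ N • res F ((hbo x).le.trans inf_le_left) t := by
    intro x
    have hle : n0 x ≤ N := hN ▸ Finset.le_sup x.2
    obtain ⟨k, hk⟩ := Nat.exists_eq_add_of_le hle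
    refine ⟨(f x) ^ k • t0 x, ?_⟩
    rw [res_smul, ht0, resf_pow, ← mul_smul, ← pow_add, hk, add_comm]
  choose t1 ht1 using h1'
  -- Step 2 : compatibility
  have hc : ∀ x y : T, IsCompact ((W x ⊓ W y : X.Opens) : Set X) := fun x y =>
    QuasiSeparatedSpace.inter_isCompact _ _ (W x).2 (hWaff x).isCompact (W y).2 (hWaff y).isCompact
  have h2 : ∀ x y : T, ∃ m : ℕ, ∀ k, m ≤ k →
      tw F L (W x ⊓ W y) (res F inf_le_left (f x ^ k • t1 x)) (res L inf_le_left (e x)) (N + k) =
      tw F L (W x ⊓ W y) (res F inf_le_right (f y ^ k • t1 y)) (res L inf_le_right (e y)) (N + k) := fun x y =>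
    exists_compat F L s t (hc x y) (e x) (e y) (f x) (f y) (hval x) (hval y) (hgen y) (hbo x) (hbo y) N
      (t1 x) (t1 y) (ht1 x) (ht1 y)
  choose m hm using h2
  obtain ⟨M, hM⟩ : ∃ M : ℕ, M = (Finset.univ : Finset (T × T)).sup (fun p => m p.1 p.2) + 1 := ⟨_, rfl⟩
  have hmM : ∀ x y : T, m x y ≤ M := fun x y => by
    rw [hM]
    exact (Finset.le_sup (f := fun p : T × T => m p.1 p.2) (Finset.mem_univ (x, y))).trans (Nat.le_succ _)
  -- Step 3 : glue
  have hcompat : TopCat.Presheaf.IsCompatible (modSheaf (CohB1.tensorMod F (CohB1.tensorPow L (N + M)))).1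
      (fun x : T => W x) (fun x => tw F L (W x) (f x ^ M • t1 x) (e x) (N + M)) := by
    intro x y
    change res _ (inf_le_left : W x ⊓ W y ≤ W x) (tw F L (W x) (f x ^ M • t1 x) (e x) (N + M)) =
      res _ (inf_le_right : W x ⊓ W y ≤ W y) (tw F L (W y) (f y ^ M • t1 y) (e y) (N + M))
    rw [res_tw, res_tw]
    exact hm x y M (hmM x y)
  obtain ⟨t', ht'⟩ : ∃ t' : Γ(CohB1.tensorMod F (CohB1.tensorPow L (N + M)), ⊤), ∀ x : T,
      res _ (le_top : W x ≤ ⊤) t' = tw F L (W x) (f x ^ M • t1 x) (e x) (N + M) := by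
    obtain ⟨t', ht', -⟩ := (modSheaf (CohB1.tensorMod F (CohB1.tensorPow L (N + M)))).existsUnique_gluing'
      (fun x : T => W x) ⊤ (fun x => homOfLE le_top) hT _ hcompat
    exact ⟨t', ht'⟩
  refine ⟨N + M, by rw [hM]; omega, t', ?_⟩
  -- Step 4 : check on the cover of `X_s`
  have hcov : CohB1.genLocus L s ≤ ⨆ x : T, X.basicOpen (f x) := by
    intro y hy
    obtain ⟨x, hx⟩ := Opens.mem_iSup.1 (hT (show y ∈ (⊤ : X.Opens) from trivial))
    refine Opens.mem_iSup.2 ⟨x, ?_⟩
    rw [hbo]
    exact ⟨hy, hx⟩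
  refine (modSheaf _).eq_of_locally_eq' (fun x : T => X.basicOpen (f x)) _
    (fun x => homOfLE ((hbo x).le.trans inf_le_left)) hcov _ _ (fun x => ?_)
  have hx' : res _ (le_top : W x ≤ ⊤) t' = tw F L (W x) (f x ^ M • t1 x) (e x) (N + M) := ht' x
  change res _ ((hbo x).le.trans inf_le_left) (res _ (le_top : CohB1.genLocus L s ≤ ⊤) t') =
    res _ ((hbo x).le.trans inf_le_left) (tw F L (CohB1.genLocus L s) t (sv s _) (N + M))
  have e1 : res _ ((hbo x).le.trans inf_le_left) (res _ (le_top : CohB1.genLocus L s ≤ ⊤) t') =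
      res _ (X.basicOpen_le (f x)) (res _ (le_top : W x ≤ ⊤) t') := by
    rw [res_res, res_res]
  rw [e1, hx', res_tw, res_tw, res_smul, ht1, resf_pow, ← mul_smul, ← pow_add, add_comm M N, ← tw_smul, res_sv,
    ← res_smul, ← hval, res_sv]

open AlgebraicGeometry in
open CategoryTheory in
open Opposite in
open AlgebraicGeometry in
open CategoryTheory in
open Opposite in
/-- Let `X` be a scheme whose underlying space is quasi-compact and quasi-separated, `L` an invertible
`O_X`-module, `s` a global section of `L` and `X_s` the open where `s` generates `L`, `F` a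
quasi-coherent `O_X`-module and `t` a section of `F` over `X_s`. Then for some integer `n > 0` there
is a global section of `F ⊗ L^{⊗ n}` whose restriction to `X_s` is `t ⊗ s^{⊗ n}`. (The published
statement assumes the underlying space Noetherian, or the scheme separated with quasi-compact
underlying space; the published proof uses a finite affine open cover with quasi-compact pairwise
intersections, which is what quasi-compactness and quasi-separatedness provide, and both published
cases have them.) -/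
theorem result
    (X : Scheme.{u}) [CompactSpace X] [QuasiSeparatedSpace X] (L : X.Modules)
    (hL : PicF.IsInvertible L) (s : Coh.structureModule X ⟶ L) (F : X.Modules) [Coh.IsQCoh F]
    (t : F.val.obj (op (CohB1.genLocus L s))) :
    ∃ n : ℕ, 0 < n ∧ ∃ t' : (CohB1.tensorMod F (CohB1.tensorPow L n)).val.obj (op ⊤),
      (CohB1.tensorMod F (CohB1.tensorPow L n)).val.map
          (homOfLE (le_top : CohB1.genLocus L s ≤ ⊤)).op t' =
        SecTwist.twist s n F (CohB1.genLocus L s) t := by
  obtain ⟨n, hn, t', h⟩ := main X L hL s F t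
  exact ⟨n, hn, t', h.trans (twist_eq_tw s n F _ t).symm⟩

end Groth.Agent.S15744
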