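import Groth.Statements.S2350
import Mathlib
import Groth.Agent.Lib.Helper23GenLocus
-- import your own Groth.Agent.* helpers here

set_option autoImplicit false
universe u
open CategoryTheory CategoryTheory.Limits AlgebraicGeometry
open EGA2

namespace Groth.Agent.S2350


open TopologicalSpace Opposite

open Groth.Agent.Lib.Helper23.Extend Groth.Agent.Lib.Helper23.GenLocus

/-- Let X be a scheme, L an invertible O_X-module and s a global section of L. Then the inclusion of the
open X_s (where s generates L) into X is an affine morphism. -/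
theorem result (X : Scheme.{u}) (L : X.Modules) (hL : PicF.IsInvertible L) (s : Coh.structureModule X ⟶ L) :
    IsAffineHom (CohB1.genLocus L s).ι := by
  apply isAffineHom_of_forall_exists_isAffineOpen
  intro x
  obtain ⟨U₀, hxU₀, ⟨e⟩⟩ := hL x
  obtain ⟨f₀, hf₀⟩ := genLocus_inf_eq L s U₀ e
  obtain ⟨_, ⟨U, hU, rfl⟩, hxU, hUU₀⟩ :=
    X.isBasis_affineOpens.exists_subset_of_mem_open hxU₀ U₀.isOpen
  refine ⟨U, hxU, hU, ?_⟩
  set G := CohB1.genLocus L s with hG
  have hUU₀' : U ≤ U₀ := hUU₀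
  have hle : U ≤ U₀.ι ''ᵁ ⊤ := by
    rw [Scheme.Hom.image_top_eq_opensRange, Scheme.Opens.opensRange_ι]; exact hUU₀'
  have h1 : G ⊓ U = X.basicOpen (X.presheaf.map (homOfLE hle).op ((U₀.ι.appIso ⊤).inv f₀)) := by
    rw [Scheme.basicOpen_res, ← Scheme.image_basicOpen, ← hf₀, inf_comm U, inf_assoc, inf_eq_right.2 hUU₀']
  have h2 : IsAffineOpen (G ⊓ U) := by rw [h1]; exact hU.basicOpen _
  have h3 : G.ι ⁻¹ᵁ (G ⊓ U) = G.ι ⁻¹ᵁ U := by
    ext y
    constructor
    · intro hy; exact hy.2
    · intro hy; exact ⟨y.2, hy⟩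
  rw [← h3]
  exact h2.preimage_of_isOpenImmersion G.ι (by rw [Scheme.Opens.opensRange_ι]; exact inf_le_left)

end Groth.Agent.S2350
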