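import Groth.Statements.S7661
import Mathlib

set_option autoImplicit false
universe u
open CategoryTheory CategoryTheory.Limits AlgebraicGeometry
open Variety

namespace Groth.Agent.S7661

theorem avoid_aux (A : Type u) [CommRing A] (I : Ideal A) :
    ∀ (n : ℕ) (s : Finset (Ideal A)), s.card = n → (∀ p ∈ s, p.IsPrime) → (∀ p ∈ s, ¬ I ≤ p) →
      ∀ f₀ : A, ∃ f : A, f - f₀ ∈ I ∧ ∀ p ∈ s, f ∉ p := by
  classical
  intro n
  induction n with
  | zero =>
    intro s hs _ _ f₀
    rw [Finset.card_eq_zero] at hs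
    subst hs
    exact ⟨f₀, by simp, by simp⟩
  | succ n ih =>
    intro s hs hprime hI f₀
    have hne : s.Nonempty := by
      rw [← Finset.card_pos]; omega
    obtain ⟨q, hq⟩ := s.exists_minimal hne
    have hqs : q ∈ s := hq.1
    have hqprime : q.IsPrime := hprime q hqs
    obtain ⟨f, hf, hfs⟩ := ih (s.erase q) (by rw [Finset.card_erase_of_mem hqs, hs, Nat.add_sub_cancel])
      (fun p hp => hprime p (Finset.mem_of_mem_erase hp))
      (fun p hp => hI p (Finset.mem_of_mem_erase hp)) f₀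
    by_cases hfq : f ∈ q
    · have hnot : ¬ (I * ∏ p ∈ s.erase q, p) ≤ q := by
        rw [hqprime.mul_le, hqprime.prod_le]
        rintro (h | ⟨p, hp, hpq⟩)
        · exact hI q hqs h
        · have hps : p ∈ s := Finset.mem_of_mem_erase hp
          have : q ≤ p := hq.2 hps hpq
          exact (Finset.ne_of_mem_erase hp) (le_antisymm hpq this)
      obtain ⟨x, hx, hxq⟩ := SetLike.not_le_iff_exists.mp hnot
      have hxI : x ∈ I := (Ideal.mul_le_left (I := I) (J := ∏ p ∈ s.erase q, p)) hx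
      have hxp : ∀ p ∈ s.erase q, x ∈ p := by
        intro p hp
        have h1 : x ∈ ∏ p ∈ s.erase q, p :=
          (Ideal.mul_le_right (I := I) (J := ∏ p ∈ s.erase q, p)) hx
        exact (Ideal.prod_le_inf.trans (Finset.inf_le hp)) h1
      refine ⟨f + x, ?_, ?_⟩
      · have : f + x - f₀ = (f - f₀) + x := by ring
        rw [this]; exact I.add_mem hf hxI
      · intro p hp hmem
        by_cases hpq : p = q
        · subst hpq
          exact hxq ((Ideal.add_mem_iff_right _ hfq).mp hmem)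
        · have hp' : p ∈ s.erase q := Finset.mem_erase.mpr ⟨hpq, hp⟩
          exact hfs p hp' ((Ideal.add_mem_iff_left _ (hxp p hp')).mp hmem)
    · refine ⟨f, hf, ?_⟩
      intro p hp
      by_cases hpq : p = q
      · subst hpq; exact hfq
      · exact hfs p (Finset.mem_erase.mpr ⟨hpq, hp⟩)


/-- Let A be a ring, I an ideal, p_1, …, p_r prime ideals with I ⊄ p_i for all i, and let f̄ ∈ A/I. Then
f̄ lifts to an element f ∈ A with f ∉ p_i for all i. -/
theorem result (A : Type u) [CommRing A] (I : Ideal A)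
    (s : Finset (Ideal A)) (hs : ∀ p ∈ s, p.IsPrime) (hI : ∀ p ∈ s, ¬ I ≤ p) (fbar : A ⧸ I) :
    ∃ f : A, Ideal.Quotient.mk I f = fbar ∧ ∀ p ∈ s, f ∉ p := by
  obtain ⟨f₀, rfl⟩ := Ideal.Quotient.mk_surjective fbar
  obtain ⟨f, hf, hfs⟩ := avoid_aux A I s.card s rfl hs hI f₀
  exact ⟨f, (Ideal.Quotient.eq.mpr hf), hfs⟩

end Groth.Agent.S7661
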