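import Groth.Statements.S7658
import Mathlib

set_option autoImplicit false
universe u
open CategoryTheory CategoryTheory.Limits AlgebraicGeometry
open Variety

namespace Groth.Agent.S7658

theorem closure_image_mem_irreducibleComponents {P X : Type*} [TopologicalSpace P]
    [TopologicalSpace X] [QuasiSober X]
    (g : P → X) (hg : Continuous g) (hgen : GeneralizingMap g) (η : P)
    (hη : closure {η} ∈ irreducibleComponents P) : closure {g η} ∈ irreducibleComponents X := by
  have hZirr : IsIrreducible (irreducibleComponent (g η)) := isIrreducible_irreducibleComponent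
  have hZcl : IsClosed (irreducibleComponent (g η)) := isClosed_irreducibleComponent
  have hmem : g η ∈ irreducibleComponent (g η) := mem_irreducibleComponent
  obtain ⟨ζ, hζdef⟩ : ∃ ζ, ζ = hZirr.genericPoint := ⟨_, rfl⟩
  have hζ : closure {ζ} = irreducibleComponent (g η) := by
    rw [hζdef]; exact hZirr.isGenericPoint_genericPoint hZcl
  have h1 : ζ ⤳ g η := by rw [specializes_iff_mem_closure, hζ]; exact hmem
  obtain ⟨η₀, hη₀, hgη₀⟩ := hgen h1
  have h2 : closure {η} ⊆ closure {η₀} := specializes_iff_closure_subset.1 hη₀
  have h3 : closure {η₀} ⊆ closure {η} := hη.2 (isIrreducible_singleton.closure) h2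
  have h4 : η ⤳ η₀ := specializes_iff_mem_closure.2 (h3 (subset_closure rfl))
  have h5 : g η ⤳ ζ := hgη₀ ▸ h4.map hg
  have : closure {g η} = irreducibleComponent (g η) := by
    apply le_antisymm
    · exact hZcl.closure_subset_iff.2 (Set.singleton_subset_iff.2 hmem)
    · rw [← hζ]; exact specializes_iff_closure_subset.1 h5
  rw [this]; exact irreducibleComponent_mem_irreducibleComponents (g η)


/-- A separated morphism of schemes f : X → Y such that X has an open covering on whose members f
restricts to open immersions, and such that no two distinct generic points of irreducible components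
of X have the same image under f, is an open immersion. -/
theorem result {X Y : Scheme.{u}}
    (f : X ⟶ Y) [IsSeparated f]
    (hloc : ∀ x : X, ∃ U : X.Opens, x ∈ U ∧ IsOpenImmersion (U.ι ≫ f))
    (hinj : ∀ ξ ξ' : X, closure ({ξ} : Set X) ∈ irreducibleComponents (X : Type u) → closure ({ξ'} : Set X) ∈ irreducibleComponents (X : Type u) →
      f.base ξ = f.base ξ' → ξ = ξ') :
    IsOpenImmersion f := by
  choose U hxU hU using hloc
  have hcov : TopologicalSpace.IsOpenCover U := by
    rw [TopologicalSpace.IsOpenCover, eq_top_iff]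
    intro x _
    exact TopologicalSpace.Opens.mem_iSup.mpr ⟨x, hxU x⟩
  let 𝒰 : X.OpenCover := X.openCoverOfIsOpenCover U hcov
  have hflat : Flat f := IsZariskiLocalAtSource.of_openCover (P := @Flat) 𝒰 (fun x => by
    have := hU x
    show Flat ((U x).ι ≫ f)
    infer_instance)
  refine IsOpenImmersion.of_openCover_source f 𝒰 ?_ (fun x => hU x)
  intro x x' hxx'
  by_contra hne
  obtain ⟨p, hp1, hp2⟩ := Scheme.Pullback.exists_preimage_pullback (f := f) (g := f) x x' hxx'
  have hΔcl : IsClosed (Set.range (pullback.diagonal f)) :=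
    (pullback.diagonal f).isClosedEmbedding.isClosed_range
  have hpΔ : p ∉ Set.range (pullback.diagonal f) := by
    rintro ⟨x₀, rfl⟩
    apply hne
    rw [← hp1, ← hp2, ← Scheme.Hom.comp_apply, ← Scheme.Hom.comp_apply, pullback.diagonal_fst,
      pullback.diagonal_snd]
  have hCirr : IsIrreducible (irreducibleComponent p) := isIrreducible_irreducibleComponent
  have hCcl : IsClosed (irreducibleComponent p) := isClosed_irreducibleComponent
  obtain ⟨η, hηdef⟩ : ∃ η, η = hCirr.genericPoint := ⟨_, rfl⟩
  have hη : closure {η} = irreducibleComponent p := by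
    rw [hηdef]; exact hCirr.isGenericPoint_genericPoint hCcl
  have hηcomp : closure {η} ∈ irreducibleComponents (pullback f f : Scheme.{u}) :=
    hη ▸ irreducibleComponent_mem_irreducibleComponents p
  have hηΔ : η ∉ Set.range (pullback.diagonal f) := by
    intro hmem
    apply hpΔ
    have : closure {η} ⊆ Set.range (pullback.diagonal f) :=
      hΔcl.closure_subset_iff.2 (Set.singleton_subset_iff.2 hmem)
    exact this (hη ▸ mem_irreducibleComponent)
  have h1 := closure_image_mem_irreducibleComponents (pullback.fst f f) (pullback.fst f f).continuous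
    (Flat.generalizingMap _) η hηcomp
  have h2 := closure_image_mem_irreducibleComponents (pullback.snd f f) (pullback.snd f f).continuous
    (Flat.generalizingMap _) η hηcomp
  have hξ : pullback.fst f f η = pullback.snd f f η := hinj _ _ h1 h2 (by
    show f (pullback.fst f f η) = f (pullback.snd f f η)
    rw [← Scheme.Hom.comp_apply, ← Scheme.Hom.comp_apply, pullback.condition])
  apply hηΔ
  obtain ⟨ξ, hξdef⟩ : ∃ ξ, ξ = pullback.fst f f η := ⟨_, rfl⟩
  have hgoi : IsOpenImmersion ((U ξ).ι ≫ f) := hU ξ
  obtain ⟨g, hg⟩ : ∃ g : (U ξ : Scheme.{u}) ⟶ Y, g = (U ξ).ι ≫ f := ⟨_, rfl⟩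
  have hgmono : Mono g := by rw [hg]; infer_instance
  let m := pullback.map g g f f (U ξ).ι (U ξ).ι (𝟙 Y) (by rw [hg]; simp) (by rw [hg]; simp)
  have hrange : η ∈ Set.range m := by
    rw [Scheme.Pullback.range_map]
    refine ⟨?_, ?_⟩
    · show pullback.fst f f η ∈ Set.range (U ξ).ι
      rw [Scheme.Opens.range_ι, ← hξdef]; exact hxU ξ
    · show pullback.snd f f η ∈ Set.range (U ξ).ι
      rw [Scheme.Opens.range_ι, ← hξ, ← hξdef]; exact hxU ξ
  obtain ⟨q, hq⟩ := hrange
  have hΔg : pullback.fst g g ≫ pullback.diagonal g = 𝟙 _ := by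
    apply pullback.hom_ext
    · simp
    · simp [fst_eq_snd_of_mono_eq g]
  have hnat : pullback.diagonal g ≫ m = (U ξ).ι ≫ pullback.diagonal f := by
    apply pullback.hom_ext
    · simp only [m, pullback.map, Category.assoc, pullback.lift_fst, pullback.diagonal_fst_assoc,
        pullback.diagonal_fst, Category.comp_id]
    · simp only [m, pullback.map, Category.assoc, pullback.lift_snd, pullback.diagonal_snd_assoc,
        pullback.diagonal_snd, Category.comp_id]
  refine ⟨(U ξ).ι (pullback.fst g g q), ?_⟩
  calc pullback.diagonal f ((U ξ).ι (pullback.fst g g q))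
      = ((U ξ).ι ≫ pullback.diagonal f) (pullback.fst g g q) := rfl
    _ = (pullback.diagonal g ≫ m) (pullback.fst g g q) := by rw [hnat]
    _ = m ((pullback.fst g g ≫ pullback.diagonal g) q) := rfl
    _ = m q := by rw [hΔg]; rfl
    _ = η := hq

end Groth.Agent.S7658
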