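import Groth.Statements.S7415
import Mathlib

set_option autoImplicit false
universe u
open CategoryTheory AlgebraicGeometry
open Mor

namespace Groth.Agent.S7415

/-- Let `X` be a reduced scheme with finitely many irreducible components and `x ∈ X`. Then `x` has an
affine open neighbourhood `U` such that `O_X(U) → O_{X,x}` is injective. -/
theorem result (X : Scheme.{u}) [AlgebraicGeometry.IsReduced X]
    (hirr : (irreducibleComponents (X : Type u)).Finite) (x : X) : X.IsGermInjectiveAt x := by
  classical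
  -- the closed union of the components not through x
  set C : Set X := ⋃ Z ∈ {Z ∈ irreducibleComponents (X : Type u) | x ∉ Z}, Z with hC
  have hCclosed : IsClosed C := by
    refine Set.Finite.isClosed_biUnion (hirr.subset (fun Z hZ => hZ.1)) ?_
    intro Z hZ
    exact isClosed_of_mem_irreducibleComponents Z hZ.1
  have hxC : x ∉ C := by
    intro h
    obtain ⟨Z, hZ, hxZ⟩ := Set.mem_iUnion₂.mp h
    exact hZ.2 hxZ
  obtain ⟨U, hU, hxU, hUC⟩ := exists_isAffineOpen_mem_and_subset (x := x)
    (U := ⟨Cᶜ, hCclosed.isOpen_compl⟩) hxC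
  refine ⟨⟨U, hxU, hU, ?_⟩⟩
  set p := hU.primeIdealOf ⟨x, hxU⟩ with hp
  have hfx : hU.fromSpec p = x := hU.fromSpec_primeIdealOf ⟨x, hxU⟩
  have hind : Topology.IsInducing hU.fromSpec := hU.fromSpec.isOpenEmbedding.isInducing
  -- every minimal prime is below p
  have hmin : ∀ q ∈ minimalPrimes Γ(X, U), q ≤ p.asIdeal := by
    intro q hq
    have hqprime : q.IsPrime := hq.1.1
    let q' : PrimeSpectrum Γ(X, U) := ⟨q, hqprime⟩
    set ξ : X := hU.fromSpec q' with hξ
    have hξU : ξ ∈ U := by
      have : ξ ∈ Set.range hU.fromSpec := ⟨q', rfl⟩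
      rwa [hU.range_fromSpec] at this
    obtain ⟨Z, hZ, hξZ⟩ := exists_mem_irreducibleComponents_subset_of_isIrreducible
      (closure ({ξ} : Set X)) isIrreducible_singleton.closure
    have hZclosed : IsClosed Z := isClosed_of_mem_irreducibleComponents Z hZ
    have hgen := hZ.1.isGenericPoint_genericPoint hZclosed
    set ζ : X := hZ.1.genericPoint with hζ
    have hζξ : ζ ⤳ ξ := by
      rw [specializes_iff_mem_closure, hgen.def]
      exact hξZ (subset_closure rfl)
    have hζU : ζ ∈ U := hζξ.mem_open U.2 hξU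
    have : ζ ∈ Set.range hU.fromSpec := by rw [hU.range_fromSpec]; exact hζU
    obtain ⟨z, hz⟩ := this
    have hzq : z ⤳ q' := by
      have h9 : hU.fromSpec z ⤳ hU.fromSpec q' := by rw [hz]; exact hζξ
      exact hind.specializes_iff.mp h9
    have hzq' : z.asIdeal ≤ q := (PrimeSpectrum.le_iff_specializes z q').mpr hzq
    have hqz : q ≤ z.asIdeal := hq.2 ⟨z.2, bot_le⟩ hzq'
    have hzeq : z = q' := PrimeSpectrum.ext (le_antisymm hzq' hqz)
    have hζeq : ζ = ξ := by rw [← hz, hzeq]
    -- x ∈ Z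
    have hxZ : x ∈ Z := by
      by_contra hxZ
      have : ξ ∈ C := Set.mem_biUnion (⟨hZ, hxZ⟩ : Z ∈ {Z ∈ irreducibleComponents (X : Type u) | x ∉ Z})
        (hξZ (subset_closure rfl))
      exact hUC hξU this
    have hξx : ξ ⤳ x := by
      rw [specializes_iff_mem_closure, ← hζeq, hgen.def]; exact hxZ
    have : q' ⤳ p := by
      have h9 : hU.fromSpec q' ⤳ hU.fromSpec p := by rw [hfx]; exact hξx
      exact hind.specializes_iff.mp h9
    exact (PrimeSpectrum.le_iff_specializes q' p).mpr this
  -- injectivity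
  let := X.presheaf.algebra_section_stalk ⟨x, hxU⟩
  have hloc := hU.isLocalization_stalk ⟨x, hxU⟩
  rw [injective_iff_map_eq_zero]
  intro a ha
  have ha' : algebraMap Γ(X, U) (X.presheaf.stalk x) a = 0 := ha
  obtain ⟨s, hs⟩ := (IsLocalization.map_eq_zero_iff p.asIdeal.primeCompl _ a).mp ha'
  have hrad : a ∈ (⊥ : Ideal Γ(X, U)).radical := by
    rw [← Ideal.sInf_minimalPrimes, Ideal.mem_sInf]
    intro q hq
    have hqprime : q.IsPrime := hq.1.1
    have h1 : (s : Γ(X, U)) * a ∈ q := by rw [hs]; exact q.zero_mem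
    refine (hqprime.mem_or_mem h1).resolve_left ?_
    intro hsq
    exact s.2 (hmin q hq hsq)
  obtain ⟨n, hn⟩ := hrad
  exact IsNilpotent.eq_zero ⟨n, hn⟩

end Groth.Agent.S7415
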