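import Groth.Statements.S7659
import Groth.Agent.S7415
import Mathlib

set_option autoImplicit false
universe u
open CategoryTheory CategoryTheory.Limits AlgebraicGeometry
open Variety

namespace Groth.Agent.S7659

theorem exists_mul_sub_eq_zero {A C B : Type*} [CommRing A] [CommRing C] [CommRing B] [Algebra A C]
    [Algebra.FiniteType A C] (α β : C →+* B)
    (hαβ : ∀ a, α (algebraMap A C a) = β (algebraMap A C a)) (M : Submonoid B)
    (hker : ∀ c, ∃ m ∈ M, m * (α c - β c) = 0) : ∃ m ∈ M, ∀ c, m * (α c - β c) = 0 := by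
  classical
  obtain ⟨s, hs⟩ := (Algebra.FiniteType.out : (⊤ : Subalgebra A C).FG)
  choose mc hmc hmc' using hker
  refine ⟨∏ c ∈ s, mc c, Submonoid.prod_mem _ (fun c _ => hmc c), fun c => ?_⟩
  have hc : c ∈ Algebra.adjoin A (s : Set C) := by rw [hs]; trivial
  induction hc using Algebra.adjoin_induction with
  | mem x hx =>
    obtain ⟨r, hr⟩ := Finset.dvd_prod_of_mem mc hx
    rw [hr, mul_comm (mc x), mul_assoc, hmc', mul_zero]
  | algebraMap a => rw [hαβ, sub_self, mul_zero]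
  | add x y _ _ hx hy => rw [map_add, map_add, add_sub_add_comm, mul_add, hx, hy, add_zero]
  | mul x y _ _ hx hy =>
    have e : α (x * y) - β (x * y) = α x * (α y - β y) + (α x - β x) * β y := by
      rw [map_mul, map_mul]; ring
    rw [e, mul_add, mul_left_comm, hy, mul_zero, ← mul_assoc, hx, zero_mul, add_zero]

set_option backward.isDefEq.respectTransparency.types false in
theorem spread_out_unique_of_lft {W Y S : Scheme.{u}} (sY : Y ⟶ S) [LocallyOfFiniteType sY]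
    (g₁ g₂ : W ⟶ Y) (hS : g₁ ≫ sY = g₂ ≫ sY) (x : W) (e : g₁ x = g₂ x)
    (H : g₁.stalkMap x =
      Y.presheaf.stalkSpecializes (Inseparable.of_eq e.symm).specializes ≫ g₂.stalkMap x) :
    ∃ U : W.Opens, x ∈ U ∧ U.ι ≫ g₁ = U.ι ≫ g₂ := by
  obtain ⟨_, ⟨VS : S.Opens, hVS, rfl⟩, hxVS, -⟩ :=
    S.isBasis_affineOpens.exists_subset_of_mem_open (Set.mem_univ (sY (g₁ x))) isOpen_univ
  obtain ⟨_, ⟨V : Y.Opens, hV, rfl⟩, hxV, hVVS⟩ :=
    Y.isBasis_affineOpens.exists_subset_of_mem_open (show g₁ x ∈ sY ⁻¹ᵁ VS from hxVS)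
      (sY ⁻¹ᵁ VS).2
  have hxV' : g₂ x ∈ V := e ▸ hxV
  obtain ⟨_, ⟨U₁ : W.Opens, hU₁, rfl⟩, hxU₁, hU₁V⟩ :=
    W.isBasis_affineOpens.exists_subset_of_mem_open
      (show x ∈ g₁ ⁻¹ᵁ V ⊓ g₂ ⁻¹ᵁ V from ⟨hxV, hxV'⟩) (g₁ ⁻¹ᵁ V ⊓ g₂ ⁻¹ᵁ V).2
  have hle1 : U₁ ≤ g₁ ⁻¹ᵁ V := fun y hy => (hU₁V hy).1
  have hle2 : U₁ ≤ g₂ ⁻¹ᵁ V := fun y hy => (hU₁V hy).2
  have hft : (sY.appLE VS V hVVS).hom.FiniteType := sY.finiteType_appLE hVS hV _
  have hαβι : sY.appLE VS V hVVS ≫ g₁.appLE V U₁ hle1 = sY.appLE VS V hVVS ≫ g₂.appLE V U₁ hle2 := by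
    rw [Scheme.Hom.appLE_comp_appLE, Scheme.Hom.appLE_comp_appLE]
    congr 1
  have hgerm : g₁.appLE V U₁ hle1 ≫ W.presheaf.germ U₁ x hxU₁ =
      g₂.appLE V U₁ hle2 ≫ W.presheaf.germ U₁ x hxU₁ := by
    simp only [Scheme.Hom.appLE, Category.assoc, W.presheaf.germ_res', ← Scheme.Hom.germ_stalkMap, H]
    simp only [TopCat.Presheaf.germ_stalkSpecializes_assoc, Scheme.Hom.germ_stalkMap]
  -- apply the ring lemma
  let : Algebra Γ(S, VS) Γ(Y, V) := (sY.appLE VS V hVVS).hom.toAlgebra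
  have : Algebra.FiniteType Γ(S, VS) Γ(Y, V) := hft
  let := W.presheaf.algebra_section_stalk ⟨x, hxU₁⟩
  have hloc := hU₁.isLocalization_stalk ⟨x, hxU₁⟩
  obtain ⟨m, hmM, hm⟩ := exists_mul_sub_eq_zero (A := Γ(S, VS)) (g₁.appLE V U₁ hle1).hom
    (g₂.appLE V U₁ hle2).hom
    (fun a => by
      have := congr($hαβι a)
      exact this)
    (hU₁.primeIdealOf ⟨x, hxU₁⟩).asIdeal.primeCompl
    (fun c => by
      have h0 : algebraMap Γ(W, U₁) (W.presheaf.stalk x)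
          ((g₁.appLE V U₁ hle1).hom c - (g₂.appLE V U₁ hle2).hom c) = 0 := by
        rw [map_sub, sub_eq_zero]
        exact congr($hgerm c)
      obtain ⟨m, hm⟩ := (IsLocalization.map_eq_zero_iff
        (hU₁.primeIdealOf ⟨x, hxU₁⟩).asIdeal.primeCompl (W.presheaf.stalk x) _).1 h0
      exact ⟨m.1, m.2, hm⟩)
  have hxm : x ∈ W.basicOpen m := by
    rw [Scheme.mem_basicOpen _ _ x hxU₁]
    exact IsLocalization.map_units (W.presheaf.stalk x)
      (⟨m, hmM⟩ : (hU₁.primeIdealOf ⟨x, hxU₁⟩).asIdeal.primeCompl)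
  refine ⟨W.basicOpen m, hxm, ?_⟩
  have hUV1 : W.basicOpen m ≤ g₁ ⁻¹ᵁ V := (W.basicOpen_le m).trans hle1
  have hUV2 : W.basicOpen m ≤ g₂ ⁻¹ᵁ V := (W.basicOpen_le m).trans hle2
  rw [← Scheme.Hom.resLE_comp_ι _ hUV1, ← Scheme.Hom.resLE_comp_ι _ hUV2]
  congr 1
  have : IsAffine V := hV
  suffices ∀ (U₀ V₀) (eU : W.basicOpen m = U₀) (eV : V = V₀),
      g₁.appLE V₀ U₀ (eU ▸ eV ▸ hUV1) = g₂.appLE V₀ U₀ (eU ▸ eV ▸ hUV2) by
    rw [← cancel_mono V.toScheme.isoSpec.hom]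
    simp only [Scheme.isoSpec, asIso_hom, Scheme.toSpecΓ_naturality,
      Scheme.Hom.app_eq_appLE, Scheme.Hom.resLE_appLE]
    congr 2
    apply this <;> simp
  rintro _ _ rfl rfl
  rw [← Scheme.Hom.appLE_map g₁ hle1 (homOfLE (W.basicOpen_le m)).op,
    ← Scheme.Hom.appLE_map g₂ hle2 (homOfLE (W.basicOpen_le m)).op]
  ext c
  have hunit := W.toRingedSpace.isUnit_res_basicOpen m
  have h1 := congrArg (W.presheaf.map (homOfLE (W.basicOpen_le m)).op).hom (hm c)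
  rw [map_mul, map_zero, map_sub] at h1
  have h2 := (hunit.mul_right_eq_zero).1 h1
  exact sub_eq_zero.1 h2

theorem spread_out_unique_of_lft' {W Y S : Scheme.{u}} (sY : Y ⟶ S) [LocallyOfFiniteType sY]
    (g₁ g₂ : W ⟶ Y) (hS : g₁ ≫ sY = g₂ ≫ sY) (x : W)
    (e : W.fromSpecStalk x ≫ g₁ = W.fromSpecStalk x ≫ g₂) :
    ∃ U : W.Opens, x ∈ U ∧ U.ι ≫ g₁ = U.ι ≫ g₂ := by
  fapply spread_out_unique_of_lft sY g₁ g₂ hS
  · simpa using congr($e (IsLocalRing.closedPoint _))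
  · apply Spec.map_injective
    rw [← cancel_mono (Y.fromSpecStalk _)]
    simpa [Scheme.SpecMap_stalkSpecializes_fromSpecStalk]

/-- a morphism with a "retraction" which is an open immersion, whose retraction is a section of
some morphism up to an injective map, is an open immersion -/
theorem isOpenImmersion_of_sections {U' V X S : Scheme.{u}} (r₀ : U' ⟶ V) (σ : V ⟶ X) (f : X ⟶ S)
    (ι : V ⟶ S) [IsOpenImmersion ι] [IsOpenImmersion (r₀ ≫ σ)] (hσ : σ ≫ f = ι) :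
    IsOpenImmersion r₀ := by
  rw [IsOpenImmersion.iff_isIso_stalkMap]
  have hj : Topology.IsOpenEmbedding (r₀ ≫ σ) := Scheme.Hom.isOpenEmbedding _
  have hι : Topology.IsOpenEmbedding ι := Scheme.Hom.isOpenEmbedding _
  refine ⟨?_, fun u => ?_⟩
  · refine Topology.IsOpenEmbedding.of_continuous_injective_isOpenMap r₀.continuous ?_ ?_
    · intro a b hab
      apply hj.injective
      show (r₀ ≫ σ) a = (r₀ ≫ σ) b
      rw [Scheme.Hom.comp_apply, Scheme.Hom.comp_apply, hab]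
    · intro O hO
      have : r₀ '' O = σ ⁻¹' ((r₀ ≫ σ) '' O) := by
        ext v
        constructor
        · rintro ⟨u, hu, rfl⟩
          exact ⟨u, hu, rfl⟩
        · rintro ⟨u, hu, huv⟩
          refine ⟨u, hu, ?_⟩
          apply hι.injective
          rw [← hσ, Scheme.Hom.comp_apply, Scheme.Hom.comp_apply, ← huv]
          rfl
      rw [this]
      exact (hj.isOpenMap O hO).preimage σ.continuous
  · have h1 : IsIso ((r₀ ≫ σ).stalkMap u) := inferInstance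
    have h2 : IsIso (ι.stalkMap (r₀ u)) := inferInstance
    have h2' : IsIso ((σ ≫ f).stalkMap (r₀ u)) := by
      have : ∀ (ι' : V ⟶ S), ι' = ι → IsIso (ι'.stalkMap (r₀ u)) := by
        rintro _ rfl; exact h2
      exact this _ hσ
    have e1 : (r₀ ≫ σ).stalkMap u = σ.stalkMap (r₀ u) ≫ r₀.stalkMap u :=
      Scheme.Hom.stalkMap_comp r₀ σ u
    have e2 : (σ ≫ f).stalkMap (r₀ u) = f.stalkMap (σ (r₀ u)) ≫ σ.stalkMap (r₀ u) :=
      Scheme.Hom.stalkMap_comp σ f (r₀ u)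
    have h1' : IsIso (σ.stalkMap (r₀ u) ≫ r₀.stalkMap u) := e1 ▸ h1
    have h2'' : IsIso (f.stalkMap (σ (r₀ u)) ≫ σ.stalkMap (r₀ u)) := e2 ▸ h2'
    have hmono : Mono (σ.stalkMap (r₀ u)) := mono_of_mono _ (r₀.stalkMap u)
    have hsplit : IsSplitEpi (σ.stalkMap (r₀ u)) :=
      IsSplitEpi.mk' ⟨inv (f.stalkMap (σ (r₀ u)) ≫ σ.stalkMap (r₀ u)) ≫ f.stalkMap (σ (r₀ u)),
        by rw [Category.assoc, IsIso.inv_hom_id]⟩
    have hiso : IsIso (σ.stalkMap (r₀ u)) := isIso_of_mono_of_isSplitEpi _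
    exact IsIso.of_isIso_comp_left (σ.stalkMap (r₀ u)) (r₀.stalkMap u)


/-- Let f : X → S be a morphism of schemes and x a point with image s such that O_{S,s} → O_{X,x} is an
isomorphism, S is reduced with finitely many irreducible components, and f is locally of finite
type. Then f restricted to some open neighbourhood of x is an open immersion. (The published
statement assumes f of finite type; this row assumes only that f is locally of finite type.) -/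
theorem result {X S : Scheme.{u}} (f : X ⟶ S)
    [LocallyOfFiniteType f] [IsReduced S] (hS : (irreducibleComponents (S : Type u)).Finite)
    (x : X) (hx : IsIso (f.stalkMap x)) :
    ∃ U : X.Opens, x ∈ U ∧ IsOpenImmersion (U.ι ≫ f) := by
  have : S.IsGermInjectiveAt (f x) := Groth.Agent.S7415.result S hS (f x)
  obtain ⟨φ, hφdef⟩ : ∃ φ : Spec (S.presheaf.stalk (f x)) ⟶ X,
      φ = Spec.map (inv (f.stalkMap x)) ≫ X.fromSpecStalk x := ⟨_, rfl⟩
  have hφ : φ ≫ f = S.fromSpecStalk (f x) ≫ 𝟙 S := by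
    rw [hφdef, Category.assoc, Category.comp_id, ← Scheme.SpecMap_stalkMap_fromSpecStalk,
      ← Spec.map_comp_assoc, IsIso.hom_inv_id, Spec.map_id, Category.id_comp]
  obtain ⟨V, hsV, σ, hσ1, hσ2⟩ := spread_out_of_isGermInjective' (𝟙 S) f φ hφ
  rw [Category.comp_id] at hσ2
  have hxW : x ∈ f ⁻¹ᵁ V := hsV
  -- the two morphisms
  have hS' : (f ⁻¹ᵁ V).ι ≫ f = ((f ∣_ V) ≫ σ) ≫ f := by
    rw [Category.assoc, hσ2, morphismRestrict_ι]
  have hnat : (f ⁻¹ᵁ V).fromSpecStalkOfMem x hxW ≫ (f ∣_ V) =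
      Spec.map (f.stalkMap x) ≫ V.fromSpecStalkOfMem (f x) hsV := by
    rw [← cancel_mono V.ι, Category.assoc, Category.assoc, morphismRestrict_ι,
      Scheme.Opens.fromSpecStalkOfMem_ι_assoc, Scheme.Opens.fromSpecStalkOfMem_ι,
      Scheme.SpecMap_stalkMap_fromSpecStalk]
  have hstalk : (f ⁻¹ᵁ V).fromSpecStalkOfMem x hxW ≫ (f ⁻¹ᵁ V).ι =
      (f ⁻¹ᵁ V).fromSpecStalkOfMem x hxW ≫ ((f ∣_ V) ≫ σ) := by
    rw [Scheme.Opens.fromSpecStalkOfMem_ι, ← Category.assoc, hnat, Category.assoc, ← hσ1, hφdef,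
      ← Spec.map_comp_assoc, IsIso.inv_hom_id, Spec.map_id, Category.id_comp]
  have hstalk' : (f ⁻¹ᵁ V).toScheme.fromSpecStalk (⟨x, hxW⟩ : (f ⁻¹ᵁ V).toScheme) ≫ (f ⁻¹ᵁ V).ι =
      (f ⁻¹ᵁ V).toScheme.fromSpecStalk (⟨x, hxW⟩ : (f ⁻¹ᵁ V).toScheme) ≫ ((f ∣_ V) ≫ σ) := by
    rw [← cancel_epi (Spec.map (inv ((f ⁻¹ᵁ V).ι.stalkMap ⟨x, hxW⟩)))]
    have h := hstalk
    simp only [Scheme.Opens.fromSpecStalkOfMem, Category.assoc] at h
    exact h
  obtain ⟨U', hxU', hU'⟩ := spread_out_unique_of_lft' f (f ⁻¹ᵁ V).ι ((f ∣_ V) ≫ σ) hS'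
    ⟨x, hxW⟩ hstalk'
  -- r₀ is an open immersion
  have hoi : IsOpenImmersion ((U'.ι ≫ (f ∣_ V)) ≫ σ) := by
    rw [Category.assoc, ← hU']
    infer_instance
  have hr₀ : IsOpenImmersion (U'.ι ≫ (f ∣_ V)) :=
    isOpenImmersion_of_sections (U'.ι ≫ (f ∣_ V)) σ f V.ι hσ2
  refine ⟨(f ⁻¹ᵁ V).ι ''ᵁ U', ⟨⟨x, hxW⟩, hxU', rfl⟩, ?_⟩
  have e : ((f ⁻¹ᵁ V).ι ''ᵁ U').ι ≫ f =
      ((f ⁻¹ᵁ V).ι.isoImage U').inv ≫ (U'.ι ≫ (f ∣_ V)) ≫ V.ι := by
    rw [Category.assoc, morphismRestrict_ι, ← Category.assoc U'.ι,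
      ← Scheme.Hom.isoImage_hom_ι (f ⁻¹ᵁ V).ι U', Category.assoc, Iso.inv_hom_id_assoc]
  rw [e]
  infer_instance

end Groth.Agent.S7659
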