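import Groth.Statements.S8852
import Mathlib

set_option autoImplicit false
universe u
open CategoryTheory CategoryTheory.Limits AlgebraicGeometry TopologicalSpace
open SDiv

namespace Groth.Agent.S8852

theorem span_eq_top {R : Type*} [CommRing R] (I J : Ideal R) (f : R)
    (hf : f ∈ nonZeroDivisors R) (hIJ : I * J = Ideal.span {f}) :
    Ideal.span {c : R | ∃ a ∈ I, ∃ b ∈ J, a * b = f * c} = ⊤ := by
  set C := Ideal.span {c : R | ∃ a ∈ I, ∃ b ∈ J, a * b = f * c} with hC
  have hle : I * J ≤ Ideal.span {f} * C := by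
    rw [Ideal.mul_le]
    intro a ha b hb
    have hab : a * b ∈ Ideal.span {f} := hIJ ▸ Ideal.mul_mem_mul ha hb
    obtain ⟨c, hc⟩ := Ideal.mem_span_singleton'.mp hab
    rw [Ideal.mem_span_singleton_mul]
    refine ⟨c, Ideal.subset_span ⟨a, ha, b, hb, ?_⟩, ?_⟩
    · rw [← hc, mul_comm]
    · rw [← hc, mul_comm]
  have hf' : f ∈ Ideal.span {f} * C := hle (hIJ ▸ Ideal.mem_span_singleton_self f)
  obtain ⟨c', hc', hfc'⟩ := Ideal.mem_span_singleton_mul.mp hf'
  have : c' = 1 := by
    have h1 : f * (c' - 1) = 0 := by rw [mul_sub, hfc', mul_one, sub_self]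
    have := (mem_nonZeroDivisors_iff_right.mp hf) (c' - 1) (by rw [mul_comm]; exact h1)
    exact sub_eq_zero.mp this
  rw [Ideal.eq_top_iff_one, ← this]
  exact hc'

theorem local_principal {R R' : Type*} [CommRing R] [CommRing R'] [Algebra R R'] (I J : Ideal R)
    (f : R) (hf : f ∈ nonZeroDivisors R) (hIJ : I * J = Ideal.span {f}) (a b c : R) (ha : a ∈ I)
    (hb : b ∈ J) (habc : a * b = f * c) [IsLocalization.Away c R'] :
    I.map (algebraMap R R') = Ideal.span {algebraMap R R' a} ∧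
      algebraMap R R' a ∈ nonZeroDivisors R' := by
  have hcu : IsUnit (algebraMap R R' c) := IsLocalization.Away.algebraMap_isUnit c
  constructor
  · apply le_antisymm
    · rw [Ideal.map_le_iff_le_comap]
      intro x hx
      rw [Ideal.mem_comap]
      have hxb : x * b ∈ Ideal.span {f} := hIJ ▸ Ideal.mul_mem_mul hx hb
      obtain ⟨y, hy⟩ := Ideal.mem_span_singleton'.mp hxb
      -- f * (x * c) = f * (a * y)
      have h1 : f * (x * c) = f * (a * y) := by
        calc f * (x * c) = x * (f * c) := by ring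
          _ = x * (a * b) := by rw [habc]
          _ = a * (x * b) := by ring
          _ = a * (y * f) := by rw [hy]
          _ = f * (a * y) := by ring
      have h2 : x * c = a * y := by
        have h3 : f * (x * c - a * y) = 0 := by rw [mul_sub, h1, sub_self]
        have := (mem_nonZeroDivisors_iff_right.mp hf) _ (by rw [mul_comm]; exact h3)
        exact sub_eq_zero.mp this
      obtain ⟨u, hu⟩ := hcu
      rw [Ideal.mem_span_singleton']
      refine ⟨algebraMap R R' y * ↑u⁻¹, ?_⟩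
      have h4 : algebraMap R R' x * ↑u = algebraMap R R' a * algebraMap R R' y := by
        rw [hu, ← map_mul, h2, map_mul]
      calc algebraMap R R' y * ↑u⁻¹ * algebraMap R R' a
          = (algebraMap R R' a * algebraMap R R' y) * ↑u⁻¹ := by ring
        _ = algebraMap R R' x * ↑u * ↑u⁻¹ := by rw [h4]
        _ = algebraMap R R' x := by rw [mul_assoc, Units.mul_inv, mul_one]
    · rw [Ideal.span_singleton_le_iff_mem]
      exact Ideal.mem_map_of_mem _ ha
  · rw [mem_nonZeroDivisors_iff_right]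
    intro z hz
    obtain ⟨⟨z₀, s⟩, hzs⟩ := IsLocalization.surj (Submonoid.powers c) z
    simp only at hzs
    -- z * s = z₀, so z₀ * a ↦ 0
    have h1 : algebraMap R R' (z₀ * a) = 0 := by
      rw [map_mul, ← hzs]
      calc z * algebraMap R R' ↑s * algebraMap R R' a
          = (z * algebraMap R R' a) * algebraMap R R' ↑s := by ring
        _ = 0 := by rw [hz, zero_mul]
    obtain ⟨⟨_, m, rfl⟩, hm⟩ := (IsLocalization.map_eq_zero_iff (Submonoid.powers c) R' _).mp h1
    simp only at hm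
    -- c^m * z₀ * a = 0 ⇒ c^(m+1) z₀ f = 0 ⇒ c^(m+1) z₀ = 0
    have h2 : f * (c ^ (m + 1) * z₀) = 0 := by
      calc f * (c ^ (m + 1) * z₀) = (f * c) * (c ^ m * z₀) := by ring
        _ = (a * b) * (c ^ m * z₀) := by rw [habc]
        _ = b * (c ^ m * (z₀ * a)) := by ring
        _ = 0 := by rw [hm, mul_zero]
    have h3 : c ^ (m + 1) * z₀ = 0 :=
      (mem_nonZeroDivisors_iff_right.mp hf) _ (by rw [mul_comm]; exact h2)
    have h4 : algebraMap R R' z₀ = 0 := by
      have : algebraMap R R' (c ^ (m + 1)) * algebraMap R R' z₀ = 0 := by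
        rw [← map_mul, h3, map_zero]
      have hu : IsUnit (algebraMap R R' (c ^ (m + 1))) := by
        rw [map_pow]; exact hcu.pow _
      exact (hu.mul_right_eq_zero).mp this
    have hsu : IsUnit (algebraMap R R' ↑s) := IsLocalization.map_units R' s
    rw [h4] at hzs
    exact (hsu.mul_left_eq_zero).mp hzs

theorem effCartier_left {X : Scheme.{u}} (𝓘 𝓙 : X.IdealSheafData)
    (h : BlowUp.IsEffCartierIdeal (𝓘 * 𝓙)) : BlowUp.IsEffCartierIdeal 𝓘 := by
  intro x
  obtain ⟨U, hxU, f, hf, hIJ⟩ := h x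
  have hIJ' : 𝓘.ideal U * 𝓙.ideal U = Ideal.span {f} := hIJ
  have hspan := span_eq_top (𝓘.ideal U) (𝓙.ideal U) f hf hIJ'
  have hcov := iSup_basicOpen_of_span_eq_top U.1 _ hspan
  have hx' : x ∈ ⨆ i ∈ {c : Γ(X, U.1) | ∃ a ∈ 𝓘.ideal U, ∃ b ∈ 𝓙.ideal U, a * b = f * c},
      X.basicOpen i := by rw [hcov]; exact hxU
  simp only [TopologicalSpace.Opens.mem_iSup] at hx'
  obtain ⟨c, ⟨a, ha, b, hb, habc⟩, hxc⟩ := hx'
  haveI := U.2.isLocalization_basicOpen c
  obtain ⟨h1, h2⟩ := local_principal (R' := Γ(X, X.basicOpen c)) (𝓘.ideal U) (𝓙.ideal U) f hf hIJ'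
    a b c ha hb habc
  refine ⟨X.affineBasicOpen c, hxc, algebraMap Γ(X, U.1) Γ(X, X.basicOpen c) a, h2, ?_⟩
  rw [← 𝓘.map_ideal_basicOpen U c]
  exact h1

/-- Let 𝓘, 𝓙 be quasi-coherent ideal sheaves on a scheme X (closed subschemes Z, Y). If the product 𝓘𝓙
is the ideal sheaf of an effective Cartier divisor D, then 𝓘 and 𝓙 are ideal sheaves of effective
Cartier divisors (and D is their sum, D having ideal 𝓘𝓙 by assumption). -/
theorem result {X : Scheme.{u}} (𝓘 𝓙 : X.IdealSheafData)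
    (h : BlowUp.IsEffCartierIdeal (𝓘 * 𝓙)) : BlowUp.IsEffCartierIdeal 𝓘 ∧ BlowUp.IsEffCartierIdeal 𝓙 := by
  refine ⟨effCartier_left 𝓘 𝓙 h, effCartier_left 𝓙 𝓘 ?_⟩
  rwa [mul_comm]

end Groth.Agent.S8852
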