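import Groth.Statements.S1683
import Groth.Agent.Lib.Helper20BlowUp
import Groth.Agent.S8852

set_option autoImplicit false
universe u
open CategoryTheory CategoryTheory.Limits AlgebraicGeometry TopologicalSpace
open SDiv

namespace Groth.Agent.S1683

/-- Let 𝓘, 𝓙 be quasi-coherent ideal sheaves on X, b : X' ⟶ X a blowing-up along 𝓘 and b' : X'' ⟶ X' a
blowing-up along the inverse image ideal of 𝓙. Then b' ≫ b : X'' ⟶ X is a blowing-up of X along the
product ideal 𝓘𝓙. -/
theorem result {X X' X'' : Scheme.{u}} (𝓘 𝓙 : X.IdealSheafData) (b : X' ⟶ X) (hb : BlowUp.IsBlowUp b 𝓘)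
    (b' : X'' ⟶ X') (hb' : BlowUp.IsBlowUp b' (𝓙.comap b)) : BlowUp.IsBlowUp (b' ≫ b) (𝓘 * 𝓙) := by
  constructor
  · rw [Groth.Agent.Lib.Helper20.BlowUpBasic.comap_mul, Scheme.IdealSheafData.comap_comp,
      Scheme.IdealSheafData.comap_comp]
    exact Groth.Agent.Lib.Helper20.BlowUpBasic.isEffCartierIdeal_mul
      (Groth.Agent.Lib.Helper20.BlowUpBasic.isEffCartierIdeal_comap _ b' hb' _ hb.1) hb'.1
  · intro Y g hg
    rw [Groth.Agent.Lib.Helper20.BlowUpBasic.comap_mul] at hg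
    obtain ⟨hg1, hg2⟩ := Groth.Agent.S8852.result _ _ hg
    obtain ⟨h, hh, hhuniq⟩ := hb.2 Y g hg1
    have hg2' : BlowUp.IsEffCartierIdeal ((𝓙.comap b).comap h) := by
      rw [← Scheme.IdealSheafData.comap_comp, hh]; exact hg2
    obtain ⟨h', hh', hh'uniq⟩ := hb'.2 Y h hg2'
    refine ⟨h', ?_, ?_⟩
    · change h' ≫ b' ≫ b = g
      rw [← Category.assoc, hh', hh]
    · intro k hk
      apply hh'uniq
      apply hhuniq
      change (k ≫ b') ≫ b = g
      rw [Category.assoc]; exact hk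

end Groth.Agent.S1683
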