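import Groth.Statements.S10963
import Mathlib
import Groth.Agent.Lib.Helper23SecTw6
import Groth.Prelude.Def_MeroSh
-- import your own Groth.Agent.* helpers here

set_option autoImplicit false
universe u
open CategoryTheory AlgebraicGeometry TopologicalSpace Opposite
open PicF

namespace Groth.Agent.S10963


section
variable {X : Scheme.{u}} {ι : Type u} (U : ι → X.Opens) (η : ∀ i j : ι, (Γ(X, U i ⊓ U j))ˣ)

/-- the germ of `η i j` at `y` -/
noncomputable def ηg (i j : ι) (y : X) (hy : y ∈ U i ⊓ U j) : X.presheaf.stalk y :=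
  X.presheaf.germ (U i ⊓ U j) y hy (η i j : Γ(X, U i ⊓ U j))

theorem isUnit_ηg (i j : ι) (y : X) (hy : y ∈ U i ⊓ U j) : IsUnit (ηg U η i j y hy) :=
  (η i j).isUnit.map _

theorem ηg_cocycle
    (hη : ∀ i j k : ι,
      X.presheaf.map (homOfLE (inf_le_inf_right (U k) inf_le_left : U i ⊓ U j ⊓ U k ≤ U i ⊓ U k)).op
          (η i k : Γ(X, U i ⊓ U k)) =
        X.presheaf.map (homOfLE (inf_le_left : U i ⊓ U j ⊓ U k ≤ U i ⊓ U j)).op (η i j : Γ(X, U i ⊓ U j)) *
          X.presheaf.map (homOfLE (inf_le_inf_right (U k) inf_le_right : U i ⊓ U j ⊓ U k ≤ U j ⊓ U k)).op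
            (η j k : Γ(X, U j ⊓ U k)))
    (i j k : ι) (y : X) (hi : y ∈ U i) (hj : y ∈ U j) (hk : y ∈ U k) :
    ηg U η i k y ⟨hi, hk⟩ = ηg U η i j y ⟨hi, hj⟩ * ηg U η j k y ⟨hj, hk⟩ := by
  have h := congrArg (X.presheaf.germ (U i ⊓ U j ⊓ U k) y ⟨⟨hi, hj⟩, hk⟩) (hη i j k)
  rw [map_mul, TopCat.Presheaf.germ_res_apply, TopCat.Presheaf.germ_res_apply,
    TopCat.Presheaf.germ_res_apply] at h
  exact h

variable (c : X → ι) (hc : ∀ x, x ∈ U (c x))

/-- the local predicate: families of coefficients with respect to the frames `s_{c y}` -/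
def locPred : TopCat.LocalPredicate (fun x : X => X.presheaf.stalk x) where
  pred {V} f := ∀ (i : ι) (x₀ : V), x₀.1 ∈ U i →
    ∃ (W : X.Opens) (_ : x₀.1 ∈ W) (hWV : W ≤ V) (hWi : W ≤ U i) (r : Γ(X, W)),
      ∀ y : W, f ⟨y.1, hWV y.2⟩ = ηg U η i (c y.1) y.1 ⟨hWi y.2, hc y.1⟩ * X.presheaf.germ W y.1 y.2 r
  res {V' V} j f h := fun i x₀ hx₀ => by
    obtain ⟨W, hxW, hWV, hWi, r, hr⟩ := h i ⟨x₀.1, j.le x₀.2⟩ hx₀
    refine ⟨W ⊓ V', ⟨hxW, x₀.2⟩, inf_le_right, inf_le_left.trans hWi,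
      X.presheaf.map (homOfLE (inf_le_left : W ⊓ V' ≤ W)).op r, fun y => ?_⟩
    have e := hr ⟨y.1, y.2.1⟩
    rw [TopCat.Presheaf.germ_res_apply]
    exact e
  locality {V} f h := fun i x₀ hx₀ => by
    obtain ⟨V', hxV', j, h'⟩ := h x₀
    obtain ⟨W, hxW, hWV, hWi, r, hr⟩ := h' i ⟨x₀.1, hxV'⟩ hx₀
    exact ⟨W, hxW, hWV.trans j.le, hWi, r, fun y => hr y⟩


instance : Mero.IsModPred (locPred U η c hc) where
  zero V := fun i x₀ hx₀ => ⟨V ⊓ U i, ⟨x₀.2, hx₀⟩, inf_le_left, inf_le_right, 0, fun y => by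
    rw [map_zero, mul_zero]; rfl⟩
  add V f g hf hg := fun i x₀ hx₀ => by
    obtain ⟨Wa, hxa, hWVa, hWia, ra, hra⟩ := hf i x₀ hx₀
    obtain ⟨Wb, hxb, hWVb, hWib, rb, hrb⟩ := hg i x₀ hx₀
    refine ⟨Wa ⊓ Wb, ⟨hxa, hxb⟩, inf_le_left.trans hWVa, inf_le_left.trans hWia,
      X.presheaf.map (homOfLE (inf_le_left : Wa ⊓ Wb ≤ Wa)).op ra +
        X.presheaf.map (homOfLE (inf_le_right : Wa ⊓ Wb ≤ Wb)).op rb, fun y => ?_⟩
    have ea := hra ⟨y.1, y.2.1⟩
    have eb := hrb ⟨y.1, y.2.2⟩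
    rw [Pi.add_apply, ea, eb, map_add, TopCat.Presheaf.germ_res_apply, TopCat.Presheaf.germ_res_apply,
      mul_add]
  smul V a f hf := fun i x₀ hx₀ => by
    obtain ⟨W, hxW, hWV, hWi, r, hr⟩ := hf i x₀ hx₀
    refine ⟨W, hxW, hWV, hWi, X.presheaf.map (homOfLE hWV).op a * r, fun y => ?_⟩
    have e := hr y
    dsimp only at e ⊢
    rw [e, map_mul, TopCat.Presheaf.germ_res_apply, smul_eq_mul]
    ring

/-- the module -/
noncomputable def LL : X.Modules := Mero.modOf (locPred U η c hc)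


variable (hη : ∀ i j k : ι,
      X.presheaf.map (homOfLE (inf_le_inf_right (U k) inf_le_left : U i ⊓ U j ⊓ U k ≤ U i ⊓ U k)).op
          (η i k : Γ(X, U i ⊓ U k)) =
        X.presheaf.map (homOfLE (inf_le_left : U i ⊓ U j ⊓ U k ≤ U i ⊓ U j)).op (η i j : Γ(X, U i ⊓ U j)) *
          X.presheaf.map (homOfLE (inf_le_inf_right (U k) inf_le_right : U i ⊓ U j ⊓ U k ≤ U j ⊓ U k)).op
            (η j k : Γ(X, U j ⊓ U k)))

/-- the frames -/
noncomputable def ss (i : ι) : Γ(LL U η c hc, U i) :=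
  ⟨fun y => ηg U η i (c y.1) y.1 ⟨y.2, hc y.1⟩, fun i' x₀ hx₀ => by
    refine ⟨U i ⊓ U i', ⟨x₀.2, hx₀⟩, inf_le_left, inf_le_right, (η i i' : Γ(X, U i ⊓ U i')), fun y => ?_⟩
    rw [mul_comm]
    exact ηg_cocycle U η hη i i' (c y.1) y.1 y.2.1 y.2.2 (hc y.1)⟩

theorem ss_apply (i : ι) (y : U i) : (ss U η c hc hη i).1 y = ηg U η i (c y.1) y.1 ⟨y.2, hc y.1⟩ := rfl

theorem ss_transition (i j : ι) :
    (LL U η c hc).presheaf.map (homOfLE (inf_le_left : U i ⊓ U j ≤ U i)).op (ss U η c hc hη i) =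
      (η i j : Γ(X, U i ⊓ U j)) •
        (LL U η c hc).presheaf.map (homOfLE (inf_le_right : U i ⊓ U j ≤ U j)).op (ss U η c hc hη j) := by
  refine Subtype.ext (funext fun y => ?_)
  change (ss U η c hc hη i).1 ⟨y.1, y.2.1⟩ =
    X.presheaf.germ (U i ⊓ U j) y.1 y.2 (η i j : Γ(X, U i ⊓ U j)) • (ss U η c hc hη j).1 ⟨y.1, y.2.2⟩
  rw [ss_apply, ss_apply, smul_eq_mul]
  exact ηg_cocycle U η hη i j (c y.1) y.1 y.2.1 y.2.2 (hc y.1)

theorem ss_bijective (i : ι) (V : X.Opens) (h : V ≤ U i) :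
    Function.Bijective (fun r : Γ(X, V) =>
      r • (LL U η c hc).presheaf.map (homOfLE h).op (ss U η c hc hη i)) := by
  have hval : ∀ (r : Γ(X, V)) (y : V),
      (r • (LL U η c hc).presheaf.map (homOfLE h).op (ss U η c hc hη i)).1 y =
        X.presheaf.germ V y.1 y.2 r * ηg U η i (c y.1) y.1 ⟨h y.2, hc y.1⟩ := fun r y => rfl
  constructor
  · intro r r' hrr'
    refine TopCat.Presheaf.section_ext X.sheaf V r r' fun y hy => ?_
    have e := congrArg (fun f => f.1 ⟨y, hy⟩) hrr'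
    dsimp only at e
    rw [hval, hval] at e
    exact (isUnit_ηg U η i (c y) y ⟨h hy, hc y⟩).mul_left_injective e
  · intro f
    have hf : ∀ x₀ : V, ∃ (W : X.Opens) (_ : x₀.1 ∈ W) (hWV : W ≤ V) (hWi : W ≤ U i) (r : Γ(X, W)),
        ∀ y : W, f.1 ⟨y.1, hWV y.2⟩ =
          ηg U η i (c y.1) y.1 ⟨hWi y.2, hc y.1⟩ * X.presheaf.germ W y.1 y.2 r :=
      fun x₀ => f.2 i x₀ (h x₀.2)
    choose W hxW hWV hWi r hr using hf
    have hcompat : TopCat.Presheaf.IsCompatible X.presheaf W r := by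
      intro a b
      refine TopCat.Presheaf.section_ext X.sheaf _ _ _ fun y hy => ?_
      change X.presheaf.germ (W a ⊓ W b) y hy (X.presheaf.map (Opens.infLELeft (W a) (W b)).op (r a)) =
        X.presheaf.germ (W a ⊓ W b) y hy (X.presheaf.map (Opens.infLERight (W a) (W b)).op (r b))
      rw [TopCat.Presheaf.germ_res_apply, TopCat.Presheaf.germ_res_apply]
      have ea := hr a ⟨y, hy.1⟩
      have eb := hr b ⟨y, hy.2⟩
      exact (isUnit_ηg U η i (c y) y ⟨hWi a hy.1, hc y⟩).mul_right_injective (ea.symm.trans eb)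
    have hcov : V ≤ iSup W := fun y hy => Opens.mem_iSup.2 ⟨⟨y, hy⟩, hxW ⟨y, hy⟩⟩
    obtain ⟨r₀, hr₀, -⟩ := X.sheaf.existsUnique_gluing' W V (fun a => homOfLE (hWV a)) hcov r hcompat
    refine ⟨r₀, Subtype.ext (funext fun y => ?_)⟩
    rw [hval]
    have e := hr y ⟨y.1, hxW y⟩
    dsimp only at e
    rw [e, mul_comm, ← hr₀ y]
    congr 1
    exact (TopCat.Presheaf.germ_res_apply X.presheaf (homOfLE (hWV y)) y.1 (hxW y) r₀).symm

end

/-- Let X be a scheme, (U_i)_{i ∈ ι} an open cover of X and, for all i, j, a unit η_ij of the ring of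
functions on U_i ∩ U_j, such that on every triple intersection U_i ∩ U_j ∩ U_k the cocycle identity
η_ik = η_ij · η_jk holds. Then there exist an invertible O_X-module L and sections s_i of L over U_i
such that each s_i generates L over U_i — for every open V ⊆ U_i the map r ↦ r · s_i|_V from
functions on V to sections of L over V is bijective — and s_i|_{U_i ∩ U_j} = η_ij · s_j|_{U_i ∩ U_j}
for all i, j. (This is the surjectivity of the map from invertible modules trivialised by the cover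
to Čech 1-cohomology classes of the cover with values in the sheaf of units.) -/
theorem result (X : Scheme.{u}) {ι : Type u} (U : ι → X.Opens)
    (hU : iSup U = ⊤) (η : ∀ i j : ι, (Γ(X, U i ⊓ U j))ˣ)
    (hη : ∀ i j k : ι,
      X.presheaf.map (homOfLE (inf_le_inf_right (U k) inf_le_left : U i ⊓ U j ⊓ U k ≤ U i ⊓ U k)).op
          (η i k : Γ(X, U i ⊓ U k)) =
        X.presheaf.map (homOfLE (inf_le_left : U i ⊓ U j ⊓ U k ≤ U i ⊓ U j)).op (η i j : Γ(X, U i ⊓ U j)) *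
          X.presheaf.map (homOfLE (inf_le_inf_right (U k) inf_le_right : U i ⊓ U j ⊓ U k ≤ U j ⊓ U k)).op
            (η j k : Γ(X, U j ⊓ U k))) :
    ∃ (L : X.Modules) (s : ∀ i : ι, Γ(L, U i)),
      PicF.IsInvertible L ∧
      (∀ (i : ι) (V : X.Opens) (h : V ≤ U i),
        Function.Bijective (fun r : Γ(X, V) => r • L.presheaf.map (homOfLE h).op (s i))) ∧
      ∀ i j : ι, L.presheaf.map (homOfLE (inf_le_left : U i ⊓ U j ≤ U i)).op (s i) =
        (η i j : Γ(X, U i ⊓ U j)) • L.presheaf.map (homOfLE (inf_le_right : U i ⊓ U j ≤ U j)).op (s j) := by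
  have hex : ∀ x : X, ∃ i, x ∈ U i := fun x => by
    have : x ∈ (iSup U : X.Opens) := by rw [hU]; trivial
    exact Opens.mem_iSup.1 this
  choose c hc using hex
  refine ⟨LL U η c hc, ss U η c hc hη, ?_, ss_bijective U η c hc hη, ss_transition U η c hc hη⟩
  refine Groth.Agent.Lib.Helper23.SecTw.isInvertible_of_isGen _ (fun x => ?_)
  exact ⟨U (c x), ss U η c hc hη (c x), hc x, fun V h => ss_bijective U η c hc hη (c x) V h⟩

end Groth.Agent.S10963
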