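import Groth.Statements.S2332
import Mathlib
import Groth.Agent.Lib.Helper23PB3
-- import your own Groth.Agent.* helpers here

set_option autoImplicit false
universe u
open CategoryTheory CategoryTheory.Limits AlgebraicGeometry
open EGA2

namespace Groth.Agent.S2332
open Groth.Agent.Lib.Helper23.PB Groth.Agent.Lib.Helper23.AmpleIso Groth.Agent.Lib.Helper23.RestrJ


/-- Let f : X → Y be quasi-compact, g : Y' → Y any morphism, and L an O_X-module ample relative to f.
Then the pullback of L to X ×_Y Y' is ample relative to the base-changed morphism X ×_Y Y' → Y'. -/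
theorem result {X Y Y' : Scheme.{u}} (f : X ⟶ Y) [QuasiCompact f] (g : Y' ⟶ Y) (L : X.Modules)
    (hL : RelAmple.IsRelAmple f L) :
    RelAmple.IsRelAmple (pullback.snd f g) ((Scheme.Modules.pullback (pullback.fst f g)).obj L) := by
  refine ⟨inferInstance, fun V' => ?_⟩
  refine isAmple_restrict_preimage_of_basicOpen_cover (pullback.snd f g) _ V'.1 V'.2 (fun y' hy' => ?_)
  obtain ⟨V, hV, hyV, -⟩ := exists_isAffineOpen_mem_and_subset (X := Y) (x := g y') (U := ⊤) trivial
  obtain ⟨h, hhle, hyh⟩ := V'.2.exists_basicOpen_le (V := g ⁻¹ᵁ V) ⟨y', hyV⟩ hy'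
  refine ⟨h, hyh, ?_⟩
  have hB : IsAffineOpen (Y'.basicOpen h) := V'.2.basicOpen h
  refine isAmple_restrict_pullback_of (pullback.fst f g) L (f ⁻¹ᵁ V) (hL.2 ⟨V, hV⟩) _ ?_ ?_ ?_
  · exact QuasiCompact.isCompact_preimage (f := pullback.snd f g) _ (Y'.basicOpen h).isOpen hB.isCompact
  · intro z hz
    have h1 : g (pullback.snd f g z) ∈ V := hhle hz
    have h2 : f (pullback.fst f g z) = g (pullback.snd f g z) := by
      rw [← Scheme.Hom.comp_apply, ← Scheme.Hom.comp_apply, pullback.condition]
    change f (pullback.fst f g z) ∈ V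
    rw [h2]
    exact h1
  · intro A hA hAU
    exact isAffineOpen_pullback_inf hA hB hV hAU hhle

end Groth.Agent.S2332
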