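import Groth.Statements.S2359
import Mathlib
import Groth.Agent.Lib.Helper23PB2
-- import your own Groth.Agent.* helpers here

set_option autoImplicit false
universe u
open CategoryTheory CategoryTheory.Limits AlgebraicGeometry
open EGA2

namespace Groth.Agent.S2359
open Groth.Agent.Lib.Helper23.PB Groth.Agent.Lib.Helper23.AmpleIso


/-- Let f : X → Y be quasi-compact, j : X' → X a quasi-compact morphism whose underlying map is a
homeomorphism onto a subspace of X, and L an O_X-module ample relative to f. Then j^* L is ample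
relative to j ≫ f. -/
theorem result {X X' Y : Scheme.{u}} (f : X ⟶ Y) [QuasiCompact f] (j : X' ⟶ X) [QuasiCompact j]
    (hj : Topology.IsEmbedding j.base) (L : X.Modules) (hL : RelAmple.IsRelAmple f L) :
    RelAmple.IsRelAmple (j ≫ f) ((Scheme.Modules.pullback j).obj L) := by
  refine ⟨inferInstance, fun V => ?_⟩
  have hUc : IsCompact ((f ⁻¹ᵁ V.1 : X.Opens) : Set X) :=
    QuasiCompact.isCompact_preimage (f := f) _ V.1.isOpen V.2.isCompact
  have hU'c : IsCompact ((j ⁻¹ᵁ (f ⁻¹ᵁ V.1) : X'.Opens) : Set X') :=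
    QuasiCompact.isCompact_preimage (f := j) _ (f ⁻¹ᵁ V.1).isOpen hUc
  haveI : CompactSpace ↥((j ⁻¹ᵁ (f ⁻¹ᵁ V.1) : X'.Opens) : Scheme.{u}) := isCompact_iff_compactSpace.1 hU'c
  change CohB1.IsAmple (((Scheme.Modules.pullback j).obj L).restrict (j ⁻¹ᵁ (f ⁻¹ᵁ V.1)).ι)
  refine isAmple_of_iso (pullbackRestrictIso j L (f ⁻¹ᵁ V.1)).symm ?_
  refine isAmple_pullback_of_isEmbedding (j ∣_ (f ⁻¹ᵁ V.1)) ?_ _ (hL.2 V)
  rw [morphismRestrict_base]
  exact hj.restrictPreimage _

end Groth.Agent.S2359
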