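import Groth.Statements.S4381
import Mathlib
import Groth.Agent.Lib.Helper23Restr
-- import your own Groth.Agent.* helpers here

set_option autoImplicit false
universe u
open CategoryTheory CategoryTheory.Limits AlgebraicGeometry
open EGA2
open Groth.Agent.Lib.Helper23.SecTw

namespace Groth.Agent.S4381


/-- Let Y be an affine scheme, f : X → Y a quasi-compact morphism and L an O_X-module. Then L is ample
relative to f if and only if L is an ample O_X-module. -/
theorem result {X Y : Scheme.{u}} [IsAffine Y] (f : X ⟶ Y) [QuasiCompact f] (L : X.Modules) :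
    RelAmple.IsRelAmple f L ↔ CohB1.IsAmple L := by
  constructor
  · rintro ⟨-, h⟩
    have h1 := h ⟨⊤, isAffineOpen_top Y⟩
    exact isAmple_of_restrict_top L _ (Scheme.Hom.preimage_top f) h1
  · intro h
    refine ⟨inferInstance, fun V => ?_⟩
    refine isAmple_restrict L h _ ?_
    exact QuasiCompact.isCompact_preimage (f := f) _ V.1.isOpen V.2.isCompact

end Groth.Agent.S4381
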