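import Groth.Statements.S4385
import Mathlib
import Groth.Agent.Lib.Helper23Coprod
-- import your own Groth.Agent.* helpers here

set_option autoImplicit false
universe u
open CategoryTheory CategoryTheory.Limits AlgebraicGeometry
open EGA2

namespace Groth.Agent.S4385
open Groth.Agent.Lib.Helper23.AmpleIso Groth.Agent.Lib.Helper23.RestrJ Groth.Agent.Lib.Helper23.Coprod
open TopologicalSpace

open Groth.Agent.Lib.Helper23.AmpleIso Groth.Agent.Lib.Helper23.RestrJ Groth.Agent.Lib.Helper23.Coprod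
open TopologicalSpace

theorem image_inl_preimage {X X' Y : Scheme.{u}} (f : X ⟶ Y) (f' : X' ⟶ Y) (V : Y.Opens) :
    (coprod.inl : X ⟶ X ⨿ X') ''ᵁ (f ⁻¹ᵁ V) = (coprod.desc f f') ⁻¹ᵁ V ⊓ (coprod.inl : X ⟶ X ⨿ X').opensRange := by
  have : f ⁻¹ᵁ V = (coprod.inl : X ⟶ X ⨿ X') ⁻¹ᵁ ((coprod.desc f f') ⁻¹ᵁ V) := by
    rw [← Scheme.Hom.comp_preimage, coprod.inl_desc]
  rw [this, Scheme.Hom.image_preimage_eq_opensRange_inf, inf_comm]

theorem image_inr_preimage {X X' Y : Scheme.{u}} (f : X ⟶ Y) (f' : X' ⟶ Y) (V : Y.Opens) :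
    (coprod.inr : X' ⟶ X ⨿ X') ''ᵁ (f' ⁻¹ᵁ V) = (coprod.desc f f') ⁻¹ᵁ V ⊓ (coprod.inr : X' ⟶ X ⨿ X').opensRange := by
  have : f' ⁻¹ᵁ V = (coprod.inr : X' ⟶ X ⨿ X') ⁻¹ᵁ ((coprod.desc f f') ⁻¹ᵁ V) := by
    rw [← Scheme.Hom.comp_preimage, coprod.inr_desc]
  rw [this, Scheme.Hom.image_preimage_eq_opensRange_inf, inf_comm]

/-- Let f : X → Y and f' : X' → Y be quasi-compact morphisms, X'' = X ⨿ X' their disjoint union with f''
: X'' → Y the morphism restricting to f and f', and L'' an O_{X''}-module whose inverse images L on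
X and L' on X' (along the two coprojections) are invertible. Then L'' is ample relative to f'' if
and only if L is ample relative to f and L' is ample relative to f'. -/
theorem result {X X' Y : Scheme.{u}} (f : X ⟶ Y) (f' : X' ⟶ Y) [QuasiCompact f] [QuasiCompact f']
    (L'' : (X ⨿ X').Modules)
    (hL : PicF.IsInvertible ((Scheme.Modules.pullback (coprod.inl : X ⟶ X ⨿ X')).obj L''))
    (hL' : PicF.IsInvertible ((Scheme.Modules.pullback (coprod.inr : X' ⟶ X ⨿ X')).obj L'')) :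
    RelAmple.IsRelAmple (coprod.desc f f') L'' ↔
      RelAmple.IsRelAmple f ((Scheme.Modules.pullback (coprod.inl : X ⟶ X ⨿ X')).obj L'') ∧
        RelAmple.IsRelAmple f' ((Scheme.Modules.pullback (coprod.inr : X' ⟶ X ⨿ X')).obj L'') := by
  have hc1 : ∀ V : Y.affineOpens, IsCompact ((f ⁻¹ᵁ V.1 : X.Opens) : Set X) := fun V =>
    QuasiCompact.isCompact_preimage (f := f) _ V.1.isOpen V.2.isCompact
  have hc2 : ∀ V : Y.affineOpens, IsCompact ((f' ⁻¹ᵁ V.1 : X'.Opens) : Set X') := fun V =>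
    QuasiCompact.isCompact_preimage (f := f') _ V.1.isOpen V.2.isCompact
  have hi1 : ∀ V : Y.affineOpens, IsCompact (((coprod.inl : X ⟶ X ⨿ X') ''ᵁ (f ⁻¹ᵁ V.1) : (X ⨿ X').Opens) : Set ↥(X ⨿ X')) := fun V =>
    (hc1 V).image (coprod.inl : X ⟶ X ⨿ X').continuous
  have hi2 : ∀ V : Y.affineOpens, IsCompact (((coprod.inr : X' ⟶ X ⨿ X') ''ᵁ (f' ⁻¹ᵁ V.1) : (X ⨿ X').Opens) : Set ↥(X ⨿ X')) := fun V =>
    (hc2 V).image (coprod.inr : X' ⟶ X ⨿ X').continuous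
  have hcompl := isCompl_opensRange_inl_inr X X'
  have hsplit : ∀ V : Y.Opens, (coprod.desc f f') ⁻¹ᵁ V =
      (coprod.inl : X ⟶ X ⨿ X') ''ᵁ (f ⁻¹ᵁ V) ⊔ (coprod.inr : X' ⟶ X ⨿ X') ''ᵁ (f' ⁻¹ᵁ V) := by
    intro V
    rw [image_inl_preimage, image_inr_preimage, ← inf_sup_left, hcompl.sup_eq_top, inf_top_eq]
  constructor
  · rintro ⟨-, h⟩
    refine ⟨⟨inferInstance, fun V => ?_⟩, ⟨inferInstance, fun V => ?_⟩⟩
    · change CohB1.IsAmple (((Scheme.Modules.pullback (coprod.inl : X ⟶ X ⨿ X')).obj L'').restrict (f ⁻¹ᵁ V.1).ι)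
      rw [isAmple_pullback_restrict_iff]
      refine isAmple_restrict_of_le L'' ?_ (hi1 V) (h V)
      rw [hsplit]; exact le_sup_left
    · change CohB1.IsAmple (((Scheme.Modules.pullback (coprod.inr : X' ⟶ X ⨿ X')).obj L'').restrict (f' ⁻¹ᵁ V.1).ι)
      rw [isAmple_pullback_restrict_iff]
      refine isAmple_restrict_of_le L'' ?_ (hi2 V) (h V)
      rw [hsplit]; exact le_sup_right
  · rintro ⟨⟨-, h1⟩, ⟨-, h2⟩⟩
    have hqc : QuasiCompact (coprod.desc f f') := by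
      rw [quasiCompact_iff_forall_isAffineOpen]
      intro V hV
      rw [hsplit, Opens.coe_sup]
      exact (hi1 ⟨V, hV⟩).union (hi2 ⟨V, hV⟩)
    refine ⟨hqc, fun V => ?_⟩
    change CohB1.IsAmple (L''.restrict ((coprod.desc f f') ⁻¹ᵁ V.1).ι)
    obtain ⟨W, hW⟩ : ∃ W : (X ⨿ X').Opens, W = (coprod.desc f f') ⁻¹ᵁ V.1 := ⟨_, rfl⟩
    rw [← hW]
    have hle1 : (coprod.inl : X ⟶ X ⨿ X') ''ᵁ (f ⁻¹ᵁ V.1) ≤ W := by rw [hW, hsplit]; exact le_sup_left
    have hle2 : (coprod.inr : X' ⟶ X ⨿ X') ''ᵁ (f' ⁻¹ᵁ V.1) ≤ W := by rw [hW, hsplit]; exact le_sup_right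
    refine isAmple_of_disjoint_cover (L''.restrict W.ι)
      (W.ι ⁻¹ᵁ ((coprod.inl : X ⟶ X ⨿ X') ''ᵁ (f ⁻¹ᵁ V.1))) (W.ι ⁻¹ᵁ ((coprod.inr : X' ⟶ X ⨿ X') ''ᵁ (f' ⁻¹ᵁ V.1))) ?_ ?_ ?_ ?_
    · ext x
      simp only [Opens.coe_sup, Set.mem_union, SetLike.mem_coe, Scheme.Hom.mem_preimage, Opens.coe_top, Set.mem_univ,
        iff_true]
      have hx : (W.ι x) ∈ W := x.2
      have hx' : (W.ι x) ∈ (coprod.inl : X ⟶ X ⨿ X') ''ᵁ (f ⁻¹ᵁ V.1) ⊔ (coprod.inr : X' ⟶ X ⨿ X') ''ᵁ (f' ⁻¹ᵁ V.1) := by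
        rw [← hsplit, ← hW]; exact hx
      exact hx'
    · ext x
      simp only [Opens.coe_inf, Set.mem_inter_iff, SetLike.mem_coe, Scheme.Hom.mem_preimage, Opens.coe_bot,
        Set.mem_empty_iff_false, iff_false, not_and]
      intro hx1 hx2
      have h1' : W.ι x ∈ (coprod.inl : X ⟶ X ⨿ X').opensRange := Scheme.Hom.image_le_opensRange _ _ hx1
      have h2' : W.ι x ∈ (coprod.inr : X' ⟶ X ⨿ X').opensRange := Scheme.Hom.image_le_opensRange _ _ hx2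
      have : W.ι x ∈ (coprod.inl : X ⟶ X ⨿ X').opensRange ⊓ (coprod.inr : X' ⟶ X ⨿ X').opensRange := ⟨h1', h2'⟩
      rw [hcompl.inf_eq_bot] at this
      exact this
    · rw [isAmple_restrict_restrict_iff, Groth.Agent.Lib.Helper23.SecTw.image_preimage_of_le W hle1,
        ← isAmple_pullback_restrict_iff]
      exact h1 V
    · rw [isAmple_restrict_restrict_iff, Groth.Agent.Lib.Helper23.SecTw.image_preimage_of_le W hle2,
        ← isAmple_pullback_restrict_iff]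
      exact h2 V

end Groth.Agent.S4385
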