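import Groth.Statements.S4417
import Mathlib
import Groth.Agent.S4385
import Groth.Agent.Lib.Helper23ModLocal
-- import your own Groth.Agent.* helpers here

set_option autoImplicit false
universe u
open CategoryTheory CategoryTheory.Limits AlgebraicGeometry
open EGA2

namespace Groth.Agent.S4417
open Groth.Agent.Lib.Helper23.AmpleIso Groth.Agent.Lib.Helper6

open Groth.Agent.Lib.Helper23.AmpleIso Groth.Agent.Lib.Helper6

noncomputable def restrictBiprodIso {X Y : Scheme.{u}} (j : X ⟶ Y) [IsOpenImmersion j] (A B : Y.Modules) :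
    (A ⊞ B).restrict j ≅ A.restrict j ⊞ B.restrict j := by
  haveI : PreservesBinaryBiproducts (Scheme.Modules.restrictFunctor j) :=
    preservesBinaryBiproducts_of_preservesBiproducts _
  exact (Scheme.Modules.restrictFunctor j).mapBiprod A B

/-- relative ampleness is invariant under isomorphism -/
theorem isRelAmple_of_iso {X Y : Scheme.{u}} (f : X ⟶ Y) {L L' : X.Modules} (e : L ≅ L')
    (h : RelAmple.IsRelAmple f L) : RelAmple.IsRelAmple f L' :=
  ⟨h.1, fun V => isAmple_of_iso ((Scheme.Modules.restrictFunctor (f ⁻¹ᵁ V.1).ι).mapIso e) (h.2 V)⟩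

/-- the restriction to one summand of a module pushed forward from the other summand vanishes -/
theorem isZero_restrict_pushforward {X X' Z : Scheme.{u}} (i : X ⟶ Z) (i' : X' ⟶ Z) [IsOpenImmersion i]
    (hdisj : ∀ U : X.Opens, i' ⁻¹ᵁ (i ''ᵁ U) = ⊥) (M : X'.Modules) :
    IsZero (((Scheme.Modules.pushforward i').obj M).restrict i) := by
  refine Groth.Agent.Lib.Helper23.ModLocal.isZero_of_forall_eq_zero (fun U s => ?_)
  have h : i' ⁻¹ᵁ (i ''ᵁ U) ≤ ⊥ := (hdisj U).le
  exact eq_zero_of_le_bot M h s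

set_option backward.isDefEq.respectTransparency false in
theorem locallyOfFiniteType_coprod_desc {X X' Y : Scheme.{u}} (f : X ⟶ Y) (f' : X' ⟶ Y)
    (h : LocallyOfFiniteType f) (h' : LocallyOfFiniteType f') : LocallyOfFiniteType (coprod.desc f f') := by
  rw [IsZariskiLocalAtSource.iff_of_openCover (P := @LocallyOfFiniteType) (coprodOpenCover.{u, 0} X X')]
  rintro (⟨⟩ | ⟨⟩)
  · simpa [coprodOpenCover] using h
  · simpa [coprodOpenCover] using h'

/-- Let f : X → Y and f' : X' → Y be quasi-projective morphisms (of finite type, each admitting a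
relatively ample module). Then the morphism X ⨿ X' → Y restricting to f and f' on the two summands
is quasi-projective. -/
theorem result {X X' Y : Scheme.{u}} (f : X ⟶ Y) (f' : X' ⟶ Y)
    (hf : RelProj.IsQuasiProjective f) (hf' : RelProj.IsQuasiProjective f') :
    RelProj.IsQuasiProjective (coprod.desc f f') := by
  obtain ⟨hlft, hqc, L, hL⟩ := hf
  obtain ⟨hlft', hqc', L', hL'⟩ := hf'
  have hcompl := isCompl_opensRange_inl_inr X X'
  obtain ⟨L'', hL''⟩ : ∃ L'' : (X ⨿ X').Modules, L'' =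
      ((Scheme.Modules.pushforward (coprod.inl : X ⟶ X ⨿ X')).obj L ⊞
        (Scheme.Modules.pushforward (coprod.inr : X' ⟶ X ⨿ X')).obj L') := ⟨_, rfl⟩
  have hd1 : ∀ U : X.Opens, (coprod.inr : X' ⟶ X ⨿ X') ⁻¹ᵁ ((coprod.inl : X ⟶ X ⨿ X') ''ᵁ U) = ⊥ := by
    intro U
    rw [eq_bot_iff]
    intro x hx
    have h1 : (coprod.inr : X' ⟶ X ⨿ X') x ∈ (coprod.inl : X ⟶ X ⨿ X').opensRange :=
      Scheme.Hom.image_le_opensRange _ _ hx
    have h2 : (coprod.inr : X' ⟶ X ⨿ X') x ∈ (coprod.inr : X' ⟶ X ⨿ X').opensRange := ⟨x, rfl⟩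
    have : (coprod.inr : X' ⟶ X ⨿ X') x ∈ (coprod.inl : X ⟶ X ⨿ X').opensRange ⊓
        (coprod.inr : X' ⟶ X ⨿ X').opensRange := ⟨h1, h2⟩
    rw [hcompl.inf_eq_bot] at this
    exact this
  have hd2 : ∀ U : X'.Opens, (coprod.inl : X ⟶ X ⨿ X') ⁻¹ᵁ ((coprod.inr : X' ⟶ X ⨿ X') ''ᵁ U) = ⊥ := by
    intro U
    rw [eq_bot_iff]
    intro x hx
    have h1 : (coprod.inl : X ⟶ X ⨿ X') x ∈ (coprod.inr : X' ⟶ X ⨿ X').opensRange :=
      Scheme.Hom.image_le_opensRange _ _ hx
    have h2 : (coprod.inl : X ⟶ X ⨿ X') x ∈ (coprod.inl : X ⟶ X ⨿ X').opensRange := ⟨x, rfl⟩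
    have : (coprod.inl : X ⟶ X ⨿ X') x ∈ (coprod.inl : X ⟶ X ⨿ X').opensRange ⊓
        (coprod.inr : X' ⟶ X ⨿ X').opensRange := ⟨h2, h1⟩
    rw [hcompl.inf_eq_bot] at this
    exact this
  have e1 : (Scheme.Modules.pullback (coprod.inl : X ⟶ X ⨿ X')).obj L'' ≅ L := by
    rw [hL'']
    exact ((Scheme.Modules.restrictFunctorIsoPullback (coprod.inl : X ⟶ X ⨿ X')).app _).symm ≪≫
      restrictBiprodIso _ _ _ ≪≫
      (isoBiprodZero (isZero_restrict_pushforward (coprod.inl : X ⟶ X ⨿ X') (coprod.inr : X' ⟶ X ⨿ X') hd1 L')).symm ≪≫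
      (Scheme.Modules.restrictFunctorAdjCounitIso (coprod.inl : X ⟶ X ⨿ X')).app L
  have e2 : (Scheme.Modules.pullback (coprod.inr : X' ⟶ X ⨿ X')).obj L'' ≅ L' := by
    rw [hL'']
    exact ((Scheme.Modules.restrictFunctorIsoPullback (coprod.inr : X' ⟶ X ⨿ X')).app _).symm ≪≫
      restrictBiprodIso _ _ _ ≪≫
      (isoZeroBiprod (isZero_restrict_pushforward (coprod.inr : X' ⟶ X ⨿ X') (coprod.inl : X ⟶ X ⨿ X') hd2 L)).symm ≪≫
      (Scheme.Modules.restrictFunctorAdjCounitIso (coprod.inr : X' ⟶ X ⨿ X')).app L'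
  have hLinv : PicF.IsInvertible L := Groth.Agent.Lib.Helper23.SecTw.isInvertible_of_isRelAmple f L hL
  have hLinv' : PicF.IsInvertible L' := Groth.Agent.Lib.Helper23.SecTw.isInvertible_of_isRelAmple f' L' hL'
  have hamp : RelAmple.IsRelAmple (coprod.desc f f') L'' :=
    (Groth.Agent.S4385.result f f' L'' (isInvertible_of_iso e1.symm hLinv) (isInvertible_of_iso e2.symm hLinv')).2
      ⟨isRelAmple_of_iso f e1.symm hL, isRelAmple_of_iso f' e2.symm hL'⟩
  refine ⟨?_, hamp.1, L'', hamp⟩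
  exact locallyOfFiniteType_coprod_desc f f' hlft hlft'

end Groth.Agent.S4417
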