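import Groth.Statements.S7663
import Mathlib
import Groth.Agent.Lib.Helper4DVRDom

set_option autoImplicit false
universe u
open CategoryTheory CategoryTheory.Limits AlgebraicGeometry
open Variety

namespace Groth.Agent.S7663

/-- Let K be a field and A, B ⊆ K subrings with fraction field K, with A Noetherian of dimension one.
Then A ⊗ B → K is not surjective (equivalently, the subring generated by A and B is not K) if and
only if some discrete valuation ring O ⊆ K with fraction field K contains both A and B. -/
theorem result (K : Type u) [Field K]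
    (A : Subring K) [IsFractionRing A K] (B : Subring K) [IsFractionRing B K] [IsNoetherianRing A] (hdim : ringKrullDim A = 1) :
    A ⊔ B ≠ ⊤ ↔ ∃ O : ValuationSubring K, IsDiscreteValuationRing O ∧ A ≤ O.toSubring ∧ B ≤ O.toSubring := by
  classical
  constructor
  · intro hne
    have hAdom : IsDomain A := inferInstance
    -- the subalgebra generated by `B` over `A`
    let S : Subalgebra A K := Algebra.adjoin A (B : Set K)
    have hAS : A ≤ S.toSubring := fun a ha => S.algebraMap_mem ⟨a, ha⟩
    have hBS : B ≤ S.toSubring := fun b hb => Algebra.subset_adjoin hb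
    have hSle : S.toSubring ≤ A ⊔ B := by
      intro x hx
      have hx' : x ∈ Algebra.adjoin A (B : Set K) := hx
      refine Algebra.adjoin_induction (p := fun y _ => y ∈ A ⊔ B) ?_ ?_ ?_ ?_ hx'
      · intro y hy
        exact (le_sup_right : B ≤ A ⊔ B) hy
      · intro a
        exact (le_sup_left : A ≤ A ⊔ B) a.2
      · intro y z _ _ hy hz
        exact (A ⊔ B).add_mem hy hz
      · intro y z _ _ hy hz
        exact (A ⊔ B).mul_mem hy hz
    have hSne : S.toSubring ≠ ⊤ := fun h => hne (top_unique (h ▸ hSle))
    have hart : ∀ a : A, a ≠ 0 → IsArtinian A (A ⧸ Ideal.span {a}) := fun a ha =>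
      Groth.Agent.Lib.Helper4.KrullAkizuki.isArtinian_quotient_of_ringKrullDim_le_one
        (le_of_eq hdim) ha
    have hSN : IsNoetherianRing S :=
      Groth.Agent.Lib.Helper4.KrullAkizuki.isNoetherianRing_subalgebra hart S
    have hSN' : IsNoetherianRing S.toSubring := hSN
    have hSF : IsFractionRing S.toSubring K :=
      Groth.Agent.Lib.Helper4.DVRDom.isFractionRing_of_le A S.toSubring hAS
    -- a nonzero nonunit of `S`
    have hex : ∃ ξ : S.toSubring, ξ ≠ 0 ∧ Ideal.span {ξ} ≠ ⊤ := by
      by_contra hcon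
      push Not at hcon
      apply hSne
      rw [eq_top_iff]
      intro z _
      obtain ⟨x, y, hy, rfl⟩ := IsFractionRing.div_surjective (A := A) z
      have hy0 : (⟨y.1, hAS y.2⟩ : S.toSubring) ≠ 0 := by
        intro h0
        have : (y : K) = 0 := congrArg Subtype.val h0
        exact nonZeroDivisors.ne_zero hy (Subtype.ext this)
      have h1 := hcon _ hy0
      rw [Ideal.span_singleton_eq_top] at h1
      obtain ⟨u, hu⟩ := h1.exists_right_inv
      have hu' : (y : K) * (u : K) = 1 := congrArg Subtype.val hu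
      have hinv : ((y : K))⁻¹ = (u : K) := by
        have hyK : (y : K) ≠ 0 := left_ne_zero_of_mul_eq_one hu'
        exact inv_eq_of_mul_eq_one_right hu'
      change (x : K) / (y : K) ∈ S.toSubring
      rw [div_eq_mul_inv, hinv]
      exact S.toSubring.mul_mem (hAS x.2) u.2
    obtain ⟨ξ, hξ0, hξ⟩ := hex
    obtain ⟨V, hV, hSV, _⟩ :=
      Groth.Agent.Lib.Helper4.DVRDom.exists_dvr_of_noetherian_subring S.toSubring ξ hξ0 hξ
    exact ⟨V, hV, hAS.trans hSV, hBS.trans hSV⟩
  · rintro ⟨O, hO, hAO, hBO⟩ htop
    have hOtop : ∀ x : K, x ∈ O := fun x =>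
      (sup_le hAO hBO) (htop ▸ Subring.mem_top x)
    apply IsDiscreteValuationRing.not_isField O
    refine ⟨⟨0, 1, zero_ne_one⟩, mul_comm, ?_⟩
    intro a ha
    have ha' : (a : K) ≠ 0 := fun h => ha (Subtype.ext h)
    exact ⟨⟨(a : K)⁻¹, hOtop _⟩, Subtype.ext (mul_inv_cancel₀ ha')⟩

end Groth.Agent.S7663
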