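import Groth.Statements.S18732
import Mathlib
import Groth.Agent.Lib.Helper22IdealComap

set_option autoImplicit false
universe u
open CategoryTheory CategoryTheory.Limits AlgebraicGeometry TopologicalSpace
open ModPair

namespace Groth.Agent.S18732

open Groth.Agent.Lib.Helper22.IdealComap

theorem preimage_interior_inf_eq_basicOpen {X X' : Scheme.{u}} (I : X.IdealSheafData) (f : X' ⟶ X)
    (U' : X'.affineOpens) (V : X.affineOpens) (hUV : U'.1 ≤ f ⁻¹ᵁ V.1) (a : Γ(X, V.1))
    (ha : I.ideal V = Ideal.span {a}) :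
    f ⁻¹ᵁ ModPair.interior I ⊓ U'.1 = X'.basicOpen ((f.appLE V.1 U'.1 hUV).hom a) := by
  have h1 : X'.basicOpen ((f.appLE V.1 U'.1 hUV).hom a) = U'.1 ⊓ f ⁻¹ᵁ (X.basicOpen a) := by
    rw [Scheme.preimage_basicOpen]
    exact Scheme.basicOpen_res X' ((f.app V.1).hom a) (homOfLE hUV).op
  rw [h1, inf_comm]
  ext x
  simp only [TopologicalSpace.Opens.coe_inf, Set.mem_inter_iff, SetLike.mem_coe]
  refine and_congr_right fun hx => ?_
  have hfx : f x ∈ V.1 := hUV hx
  show f x ∈ ModPair.interior I ↔ f x ∈ X.basicOpen a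
  have : f x ∈ ModPair.interior I ↔ f x ∉ I.support := Iff.rfl
  rw [this, Scheme.IdealSheafData.mem_support_iff_of_mem hfx, ha, Scheme.zeroLocus_span,
    Scheme.zeroLocus_singleton]
  simp

set_option backward.isDefEq.respectTransparency.types false in
theorem quasiCompact_ι {X X' : Scheme.{u}} (I : X.IdealSheafData)
    (hI : BlowUp.IsEffCartierIdeal I) (f : X' ⟶ X) :
    QuasiCompact (f ⁻¹ᵁ ModPair.interior I).ι := by
  set O := f ⁻¹ᵁ ModPair.interior I with hO
  let J : Type u := {U' : X'.affineOpens // ∃ (V : X.affineOpens) (_ : U'.1 ≤ f ⁻¹ᵁ V.1)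
    (a : Γ(X, V.1)), I.ideal V = Ideal.span {a}}
  apply HasAffineProperty.of_iSup_eq_top (P := @QuasiCompact) (fun j : J => j.1)
  · rw [eq_top_iff]
    intro x _
    obtain ⟨V, hxV, a, -, ha⟩ := hI (f x)
    obtain ⟨_, ⟨U', hU', rfl⟩, hxU', hU'V⟩ := X'.isBasis_affineOpens.exists_subset_of_mem_open
      (show x ∈ (f ⁻¹ᵁ V.1 : Set X') from hxV) (f ⁻¹ᵁ V.1).isOpen
    exact TopologicalSpace.Opens.mem_iSup.mpr ⟨⟨⟨U', hU'⟩, V, hU'V, a, ha⟩, hxU'⟩
  · rintro ⟨U', V, hUV, a, ha⟩
    show CompactSpace _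
    have h1 := preimage_interior_inf_eq_basicOpen I f U' V hUV a ha
    have h2 : IsCompact ((O ⊓ U'.1 : X'.Opens) : Set X') := by
      rw [h1]
      exact (U'.2.basicOpen _).isCompact
    have h3 : IsCompact ((O.ι ⁻¹ᵁ U'.1 : O.toScheme.Opens) : Set O.toScheme) := by
      rw [O.ι.isOpenEmbedding.isInducing.isCompact_iff]
      have : (O.ι : O.toScheme → X') '' ((O.ι ⁻¹ᵁ U'.1 : O.toScheme.Opens) : Set O.toScheme) =
          ((O ⊓ U'.1 : X'.Opens) : Set X') := by
        show (O.ι : O.toScheme → X') '' ((O.ι : O.toScheme → X') ⁻¹' (U'.1 : Set X')) = _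
        rw [Set.image_preimage_eq_inter_range, Scheme.Opens.range_ι, Set.inter_comm]
        rfl
      rw [this]
      exact h2
    exact isCompact_iff_compactSpace.mp h3

/-- the restriction of `s` to any open inside its basic open is a unit -/
theorem isUnit_res_of_le_basicOpen {X : Scheme.{u}} {U : X.Opens} (s : Γ(X, U)) (D : X.Opens)
    (hDU : D ≤ U) (hD : D ≤ X.basicOpen s) :
    IsUnit ((X.presheaf.map (homOfLE hDU).op).hom s) := by
  have h1 : X.presheaf.map (homOfLE hDU).op =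
      X.presheaf.map (homOfLE (X.basicOpen_le s)).op ≫ X.presheaf.map (homOfLE hD).op := by
    rw [← Functor.map_comp]; rfl
  rw [h1, CommRingCat.comp_apply]
  exact (X.toRingedSpace.isUnit_res_basicOpen s).map _

/-- Let X be a scheme, I the quasi-coherent ideal sheaf of an effective Cartier divisor on X with open
complement U, and f : X' ⟶ X a morphism of schemes for which the open immersion of f⁻¹(U) into X'
has all of X' as its scheme-theoretic image. Then f⁻¹(U) is scheme-theoretically dense in X' (for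
every open W of X' the inclusion of f⁻¹(U) ∩ W into W is scheme-theoretically dominant), and the
closed subscheme of X' pulled back from the divisor of I is an effective Cartier divisor: I.comap f
is the ideal sheaf of an effective Cartier divisor. -/
theorem result {X X' : Scheme.{u}}
    (I : X.IdealSheafData) (hI : BlowUp.IsEffCartierIdeal I) (f : X' ⟶ X)
    [IsSchemeTheoreticallyDominant (f ⁻¹ᵁ ModPair.interior I).ι] :
    (∀ W : X'.Opens, IsSchemeTheoreticallyDominant
        (X'.homOfLE (inf_le_right : f ⁻¹ᵁ ModPair.interior I ⊓ W ≤ W))) ∧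
      BlowUp.IsEffCartierIdeal (I.comap f) := by
  haveI hqc : QuasiCompact (f ⁻¹ᵁ ModPair.interior I).ι := quasiCompact_ι I hI f
  refine ⟨?_, ?_⟩
  · intro W
    exact IsSchemeTheoreticallyDominant.of_isPullback
      (isPullback_opens_inf (f ⁻¹ᵁ ModPair.interior I) W)
  · intro x
    set O := f ⁻¹ᵁ ModPair.interior I with hO
    obtain ⟨V, hxV, a, ha0, ha⟩ := hI (f x)
    obtain ⟨_, ⟨U', hU', rfl⟩, hxU', hU'V⟩ := X'.isBasis_affineOpens.exists_subset_of_mem_open
      (show x ∈ (f ⁻¹ᵁ V.1 : Set X') from hxV) (f ⁻¹ᵁ V.1).isOpen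
    let U'a : X'.affineOpens := ⟨U', hU'⟩
    have hUV : U'a.1 ≤ f ⁻¹ᵁ V.1 := hU'V
    refine ⟨U'a, hxU', (f.appLE V.1 U'a.1 hUV).hom a, ?_, ?_⟩
    · -- nonzerodivisor
      have hinj : Function.Injective (O.ι.app U'a.1) := O.ι.app_injective U'a.1
      have h1 := preimage_interior_inf_eq_basicOpen I f U'a V hUV a ha
      have hD : O.ι ''ᵁ O.ι ⁻¹ᵁ U'a.1 ≤ X'.basicOpen ((f.appLE V.1 U'a.1 hUV).hom a) := by
        rw [← h1]
        rintro _ ⟨t, ht, rfl⟩
        exact ⟨t.2, ht⟩
      have hunit := isUnit_res_of_le_basicOpen ((f.appLE V.1 U'a.1 hUV).hom a)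
        (O.ι ''ᵁ O.ι ⁻¹ᵁ U'a.1) (Set.image_preimage_subset _ _) hD
      rw [mem_nonZeroDivisors_iff_right]
      intro b hb
      apply hinj
      rw [map_zero]
      have h2 : (O.ι.app U'a.1).hom b * (O.ι.app U'a.1).hom ((f.appLE V.1 U'a.1 hUV).hom a) = 0 := by
        rw [← map_mul, hb, map_zero]
      exact (hunit.mul_left_eq_zero).mp h2
    · rw [ideal_comap_eq_map f I U'a V hUV, ha, Ideal.map_span, Set.image_singleton]

end Groth.Agent.S18732
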