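import Groth.Statements.S2074
import Mathlib
import Groth.Agent.Lib.Helper22LimSep
import Groth.Agent.Lib.Helper22NA13
import Groth.Agent.Lib.Helper22UP7

set_option autoImplicit false
universe u
open CategoryTheory AlgebraicGeometry
open Lim

namespace Groth.Agent.S2074

open CategoryTheory.Limits TopologicalSpace
open Groth.Agent.Lib.Helper22 Groth.Agent.Lib.Helper22.LimBC Groth.Agent.Lib.Helper22.LimSep

set_option backward.isDefEq.respectTransparency.types false in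
/-- universal closedness descends to a stage of a base change system -/
theorem exists_universallyClosed_bcMor {I : Type u} [SmallCategory I] [IsCofiltered I]
    (D : I ⥤ Scheme.{u}) (c : Limits.Cone D) (hc : Limits.IsLimit c)
    [∀ (i j : I) (f : i ⟶ j), IsAffineHom (D.map f)] (i₀ : I)
    {X₀ Y₀ : Scheme.{u}} (f₀ : X₀ ⟶ Y₀) (g₀ : Y₀ ⟶ D.obj i₀)
    [CompactSpace X₀] [QuasiSeparatedSpace X₀] [CompactSpace Y₀] [QuasiSeparatedSpace Y₀]
    {X Y : Scheme.{u}} {f : X ⟶ Y} {g : Y ⟶ c.pt} {qY : Y ⟶ Y₀} {qX : X ⟶ X₀}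
    (hY : IsPullback qY g g₀ (c.π.app i₀)) (hX : IsPullback qX f f₀ qY) [LocallyOfFiniteType f₀]
    [UniversallyClosed f] :
    ∃ k : Over i₀, UniversallyClosed (bcMor D i₀ f₀ g₀ k) := by
  obtain ⟨P, p, jcl, hp1, hp2, -, -, -, hj, hjp⟩ := NA13.exists_closedImmersion_fp f₀
  let J := Over i₀
  let DS : J ⥤ Scheme.{u} := bcDiagram D i₀ g₀
  let DX : J ⥤ Scheme.{u} := bcDiagram D i₀ (f₀ ≫ g₀)
  let φ : DX ⟶ DS := bcMorNat D i₀ f₀ g₀
  let t : DS ⟶ (Functor.const J).obj Y₀ :=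
    { app := fun k => dFst D i₀ g₀ k
      naturality := fun k k' w => by
        change (bcDiagram D i₀ g₀).map w ≫ dFst D i₀ g₀ k' = dFst D i₀ g₀ k ≫ 𝟙 _
        rw [Category.comp_id, map_dFst] }
  let e : DX ⟶ (Functor.const J).obj P :=
    { app := fun k => dFst D i₀ (f₀ ≫ g₀) k ≫ jcl
      naturality := fun k k' w => by
        change (bcDiagram D i₀ (f₀ ≫ g₀)).map w ≫ dFst D i₀ (f₀ ≫ g₀) k' ≫ jcl =
          (dFst D i₀ (f₀ ≫ g₀) k ≫ jcl) ≫ 𝟙 _
        rw [Category.comp_id, map_dFst_assoc] }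
  have he : ∀ k, e.app k ≫ p = φ.app k ≫ t.app k := fun k => by
    change (dFst D i₀ (f₀ ≫ g₀) k ≫ jcl) ≫ p = bcMor D i₀ f₀ g₀ k ≫ dFst D i₀ g₀ k
    rw [Category.assoc, hjp, bcMor_fst]
  have : ∀ k, IsAffineHom (t.app k) := fun k => inferInstanceAs (IsAffineHom (dFst D i₀ g₀ k))
  have hcl : ∀ k, IsClosedImmersion (pullback.lift (e.app k) (φ.app k) (he k)) := fun k => by
    have s : IsPullback (pullback.lift (e.app k) (φ.app k) (he k) ≫ pullback.snd p (t.app k))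
        (dFst D i₀ (f₀ ≫ g₀) k) (dFst D i₀ g₀ k) (jcl ≫ p) := by
      rw [pullback.lift_snd, hjp]
      exact (isPullback_bcMor D i₀ f₀ g₀ k).flip
    have s' : IsPullback (pullback.lift (e.app k) (φ.app k) (he k)) (dFst D i₀ (f₀ ≫ g₀) k)
        (pullback.fst p (t.app k)) jcl :=
      IsPullback.of_right s (pullback.lift_fst _ _ _) (IsPullback.of_hasPullback p (t.app k)).flip
    exact MorphismProperty.of_isPullback (P := @IsClosedImmersion) s'.flip hj
  have hXl : IsLimit (bcCone i₀ (hX.paste_vert hY)) := isLimitBcCone i₀ (hX.paste_vert hY) hc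
  have hSl : IsLimit (bcCone i₀ hY) := isLimitBcCone i₀ hY hc
  let f' : (bcCone i₀ (hX.paste_vert hY)).pt ⟶ (bcCone i₀ hY).pt := f
  have : UniversallyClosed f' := inferInstanceAs (UniversallyClosed f)
  obtain ⟨k, hk⟩ := UP.exists_universallyClosed φ hXl hSl f' (fun k => by
    change f ≫ bcπ i₀ hY k = bcπ i₀ (hX.paste_vert hY) k ≫ bcMor D i₀ f₀ g₀ k
    exact (bcπ_bcMor hY hX k).symm) t p e he hcl
  exact ⟨k, hk⟩

set_option backward.isDefEq.respectTransparency.types false in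

/-- Let `S = lim S_i` be a cofiltered limit of schemes with affine transition morphisms, `f₀ : X₀ → Y₀`
a morphism of quasi-compact quasi-separated schemes over a quasi-compact quasi-separated stage
`S_{i₀}`, locally of finite type, and `f : X → Y` its base change to `S`. If `f` is proper then the
base change `f_i : X_i → Y_i` to some stage `S_i` is proper. (Base changes are expressed by pullback
squares.) -/
theorem result {I : Type u} [SmallCategory I] [IsCofiltered I]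
    (D : I ⥤ Scheme.{u}) (c : Limits.Cone D) (hc : Limits.IsLimit c)
    [∀ (i j : I) (f : i ⟶ j), IsAffineHom (D.map f)] (i₀ : I) [CompactSpace (D.obj i₀)]
    [QuasiSeparatedSpace (D.obj i₀)] {X₀ Y₀ : Scheme.{u}} (f₀ : X₀ ⟶ Y₀) (g₀ : Y₀ ⟶ D.obj i₀)
    [CompactSpace X₀] [QuasiSeparatedSpace X₀] [CompactSpace Y₀] [QuasiSeparatedSpace Y₀]
    {X Y : Scheme.{u}} (f : X ⟶ Y) (g : Y ⟶ c.pt) (qY : Y ⟶ Y₀) (qX : X ⟶ X₀)
    (hY : IsPullback qY g g₀ (c.π.app i₀)) (hX : IsPullback qX f f₀ qY) [LocallyOfFiniteType f₀] [IsProper f] :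
    ∃ (i : I) (φ : i ⟶ i₀) (Xi Yi : Scheme.{u}) (fi : Xi ⟶ Yi) (gi : Yi ⟶ D.obj i) (pY : Yi ⟶ Y₀)
      (pX : Xi ⟶ X₀), IsPullback pY gi g₀ (D.map φ) ∧ IsPullback pX fi f₀ pY ∧ IsProper fi := by
  have hqc : QuasiCompact f₀ := inferInstance
  have hqc' : QuasiCompact (pullback.fst f₀ f₀) :=
    MorphismProperty.pullback_fst (P := @QuasiCompact) f₀ f₀ hqc
  have hcp : CompactSpace ↥(pullback f₀ f₀) :=
    QuasiCompact.compactSpace_of_compactSpace (pullback.fst f₀ f₀)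
  have hqs : QuasiSeparated f₀ := inferInstance
  have hdq : QuasiCompact (pullback.diagonal f₀) := inferInstance
  obtain ⟨k₁, hk₁⟩ := exists_isSeparated_bcMor D c hc i₀ f₀ g₀ hY hX
  obtain ⟨k₂, hk₂⟩ := exists_universallyClosed_bcMor D c hc i₀ f₀ g₀ hY hX
  let k := IsCofiltered.min k₁ k₂
  have h1 : IsSeparated (bcMor D i₀ f₀ g₀ k) :=
    MorphismProperty.of_isPullback (P := @IsSeparated)
      (isPullback_map_bcMor D i₀ f₀ g₀ (IsCofiltered.minToLeft k₁ k₂)) hk₁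
  have h2 : UniversallyClosed (bcMor D i₀ f₀ g₀ k) :=
    MorphismProperty.of_isPullback (P := @UniversallyClosed)
      (isPullback_map_bcMor D i₀ f₀ g₀ (IsCofiltered.minToRight k₁ k₂)) hk₂
  have h3 : LocallyOfFiniteType (bcMor D i₀ f₀ g₀ k) :=
    MorphismProperty.of_isPullback (P := @LocallyOfFiniteType)
      (isPullback_bcMor D i₀ f₀ g₀ k) inferInstance
  have h4 : IsProper (bcMor D i₀ f₀ g₀ k) := { }
  exact ⟨k.left, k.hom, _, _, bcMor D i₀ f₀ g₀ k, dSnd D i₀ g₀ k, dFst D i₀ g₀ k,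
    dFst D i₀ (f₀ ≫ g₀) k, isPullback_d D i₀ g₀ k, isPullback_bcMor D i₀ f₀ g₀ k, h4⟩

end Groth.Agent.S2074
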