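import Groth.Statements.S2079
import Mathlib
import Groth.Agent.Lib.Helper22NA1
import Groth.Agent.Lib.Helper22NA6
import Groth.Agent.Lib.Helper22NA14
import Groth.Agent.Lib.Helper22NA15
import Groth.Agent.Lib.Helper22FTLimit
import Groth.Agent.Lib.Helper22UP7

set_option autoImplicit false
universe u
open CategoryTheory AlgebraicGeometry
open Lim

namespace Groth.Agent.S2079

open Groth.Agent.Lib.Helper22 Limits Opposite
open Groth.Agent.Lib.Helper22.FTLimit

set_option backward.isDefEq.respectTransparency.types false in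
/-- eventual universal closedness of the finitely presented approximations -/
theorem exists_uc_stage {P S : Scheme.{u}} (f' : P ⟶ S) [CompactSpace S] [QuasiCompact f']
    [LocallyOfFinitePresentation f'] [CompactSpace P] [QuasiSeparatedSpace P]
    (I : P.IdealSheafData) [UniversallyClosed (I.subschemeι ≫ f')] :
    ∃ J₀ : Idx I, UniversallyClosed (J₀.1.subschemeι ≫ f') := by
  let I₁ := (Idx I)ᵒᵖ
  have : IsConnected I₁ := IsCofiltered.isConnected I₁
  let DX : I₁ ⥤ Scheme.{u} := FTLimit.diag I ⋙ Over.forget P
  let DS : I₁ ⥤ Scheme.{u} := (Functor.const I₁).obj S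
  let φ : DX ⟶ DS :=
    { app := fun J => ((FTLimit.diag I).obj J).hom ≫ f'
      naturality := fun J J' w => by
        change ((FTLimit.diag I).map w).left ≫ ((FTLimit.diag I).obj J').hom ≫ f' = (((FTLimit.diag I).obj J).hom ≫ f') ≫ 𝟙 S
        rw [Category.comp_id, ← Category.assoc, Over.w] }
  let t : DS ⟶ (Functor.const I₁).obj S := 𝟙 _
  let e : DX ⟶ (Functor.const I₁).obj P :=
    { app := fun J => ((FTLimit.diag I).obj J).hom
      naturality := fun J J' w => by
        change ((FTLimit.diag I).map w).left ≫ ((FTLimit.diag I).obj J').hom = ((FTLimit.diag I).obj J).hom ≫ 𝟙 P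
        rw [Category.comp_id, Over.w] }
  have he : ∀ J, e.app J ≫ f' = φ.app J ≫ t.app J := fun J => (Category.comp_id _).symm
  have : ∀ J, IsAffineHom (t.app J) := fun J => inferInstanceAs (IsAffineHom (𝟙 S))
  have hcl : ∀ J, IsClosedImmersion (pullback.lift (e.app J) (φ.app J) (he J)) := fun J => by
    have h1 : IsIso (pullback.fst f' (t.app J)) :=
      inferInstanceAs (IsIso (pullback.fst f' (𝟙 S)))
    have h2 : IsClosedImmersion (pullback.lift (e.app J) (φ.app J) (he J) ≫
        pullback.fst f' (t.app J)) := by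
      rw [pullback.lift_fst]
      exact inferInstanceAs (IsClosedImmersion J.unop.1.subschemeι)
    exact IsClosedImmersion.of_comp _ (pullback.fst f' (t.app J))
  have hX : IsLimit ((Over.forget P).mapCone (FTLimit.cone I)) :=
    isLimitOfPreserves (Over.forget P) (coneIsLimit I)
  have hS : IsLimit (constCone I₁ S) := isLimitConstCone I₁ S
  let f₀ : ((Over.forget P).mapCone (FTLimit.cone I)).pt ⟶ (constCone I₁ S).pt := I.subschemeι ≫ f'
  have : UniversallyClosed f₀ := inferInstanceAs (UniversallyClosed (I.subschemeι ≫ f'))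
  obtain ⟨J, hJ⟩ := UP.exists_universallyClosed φ hX hS f₀ (fun J => by
    change (I.subschemeι ≫ f') ≫ 𝟙 S = ((FTLimit.cone I).π.app J).left ≫ ((FTLimit.diag I).obj J).hom ≫ f'
    rw [Category.comp_id, ← Category.assoc, Over.w]
    rfl) t f' e he hcl
  exact ⟨J.unop, hJ⟩

/-- Let `f : X → S` be proper with `S` quasi-compact and quasi-separated. Then `X` is the limit of a
cofiltered diagram of `S`-schemes which are proper and of finite presentation over `S`, with all
transition morphisms and all projections `X → X_i` closed immersions. -/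
theorem result {X S : Scheme.{u}} (f : X ⟶ S) [IsProper f] [CompactSpace S]
    [QuasiSeparatedSpace S] :
    ∃ (I : Type u) (_ : SmallCategory I) (_ : IsCofiltered I) (D : I ⥤ Over S) (c : Limits.Cone D)
      (_ : Limits.IsLimit c) (e : c.pt ≅ Over.mk f),
      (∀ (i j : I) (a : i ⟶ j), IsClosedImmersion (D.map a).left) ∧
      (∀ i, IsClosedImmersion (c.π.app i).left ∧ IsProper (D.obj i).hom ∧
        LocallyOfFinitePresentation (D.obj i).hom) := by
  obtain ⟨P, f', j, hsep, hfp, hqc, hj, hjf⟩ := NA15.exists_separated_fp_closedImmersion f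
  have : CompactSpace P := QuasiCompact.compactSpace_of_compactSpace f'
  have : QuasiSeparatedSpace P := quasiSeparatedSpace_of_quasiSeparated f'
  let I := j.ker
  have hiso : IsIso j.toImage := inferInstance
  have hfac : j.toImage ≫ I.subschemeι = j := j.toImage_imageι
  have hιf : I.subschemeι ≫ f' = inv j.toImage ≫ f := by
    rw [IsIso.eq_inv_comp, ← Category.assoc, hfac, hjf]
  have : UniversallyClosed (I.subschemeι ≫ f') := by
    rw [hιf]; infer_instance
  obtain ⟨J₀, hJ₀⟩ := exists_uc_stage f' I
  let K := NA6.Ici' J₀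
  let G : Kᵒᵖ ⥤ (Idx I)ᵒᵖ := (NA6.inc J₀).monotone.functor.op
  let D : Kᵒᵖ ⥤ Over S := G ⋙ FTLimit.diag I ⋙ Over.map f'
  let c : Cone D := (Over.map f').mapCone ((FTLimit.cone I).whisker G)
  have hc0 : IsLimit ((FTLimit.cone I).whisker G) :=
    NA1.isLimitWhiskerOfCofinal (NA6.inc J₀) (NA6.inc_cofinal J₀) (FTLimit.diag I) (FTLimit.cone I)
      (coneIsLimit I)
  have : IsConnected Kᵒᵖ := IsCofiltered.isConnected _
  have hc1 : IsLimit ((Over.forget P).mapCone ((FTLimit.cone I).whisker G)) :=
    isLimitOfPreserves (Over.forget P) hc0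
  have hc : IsLimit c := isLimitOfReflects (Over.forget S) hc1
  refine ⟨Kᵒᵖ, inferInstance, inferInstance, D, c, hc,
    Over.isoMk (asIso j.toImage).symm ?_, ?_, fun i => ⟨?_, ?_, ?_⟩⟩
  · change inv j.toImage ≫ f = I.subschemeι ≫ f'
    exact hιf.symm
  · intro i i' a
    change IsClosedImmersion ((FTLimit.diag I).map (G.map a)).left
    rw [FTLimit.diag_map_left]
    exact NA14.isClosedImmersion_inclusion _
  · change IsClosedImmersion (Scheme.IdealSheafData.inclusion (G.obj i).unop.2.1)
    exact NA14.isClosedImmersion_inclusion _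
  · change IsProper ((G.obj i).unop.1.subschemeι ≫ f')
    have hle : J₀.1 ≤ (G.obj i).unop.1 := i.unop.2
    have h1 : LocallyOfFinitePresentation (G.obj i).unop.1.subschemeι :=
      locallyOfFinitePresentation_subschemeι _ (G.obj i).unop.2.2
    have h2 : UniversallyClosed ((G.obj i).unop.1.subschemeι ≫ f') := by
      have := NA14.isClosedImmersion_inclusion hle
      rw [← Scheme.IdealSheafData.inclusion_subschemeι hle, Category.assoc]
      infer_instance
    have h3 : IsSeparated ((G.obj i).unop.1.subschemeι ≫ f') := inferInstance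
    have h4 : LocallyOfFiniteType ((G.obj i).unop.1.subschemeι ≫ f') := inferInstance
    exact { }
  · change LocallyOfFinitePresentation ((G.obj i).unop.1.subschemeι ≫ f')
    have h1 : LocallyOfFinitePresentation (G.obj i).unop.1.subschemeι :=
      locallyOfFinitePresentation_subschemeι _ (G.obj i).unop.2.2
    infer_instance

end Groth.Agent.S2079
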