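import Groth.Statements.S8867
import Groth.Agent.Lib.Helper20RegMero

set_option autoImplicit false
universe u
open CategoryTheory CategoryTheory.Limits AlgebraicGeometry TopologicalSpace
open SDiv

namespace Groth.Agent.S8867

set_option linter.style.haveILetI false

open Groth.Agent.Lib.Helper20.RegMero Groth.Agent.Lib.Helper2.QCoh

/-- weakly associated points are associated points (Mathlib's associated primes use the radical). -/
theorem isAssPoint_of_isWeakAssPoint {X : Scheme.{u}} (F : X.Modules) (x : X)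
    (h : Curv2.IsWeakAssPoint F x) : Curv2.IsAssPoint F x := by
  obtain ⟨m, hm⟩ := h
  refine ⟨(IsLocalRing.maximalIdeal.isMaximal _).isPrime, m, ?_⟩
  rw [← hm]
  congr 1
  ext a
  simp [Submodule.mem_colon_singleton, LinearMap.mem_ker, LinearMap.toSpanSingleton_apply]

theorem hypA_of_noEmbedded (X : Scheme.{u})
    (hne : ∀ x : ↥X, Curv2.IsAssPoint (Coh.structureModule X) x →
      ∀ y : ↥X, Curv2.IsAssPoint (Coh.structureModule X) y → y ⤳ x → y = x) : HypA X := by
  intro x hx
  have hxass := isAssPoint_of_isWeakAssPoint _ x hx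
  obtain ⟨_, ⟨U, hU, rfl⟩, hxU, -⟩ :=
    X.isBasis_affineOpens.exists_subset_of_mem_open (Set.mem_univ x) isOpen_univ
  -- a maximal point generizing `x`
  obtain ⟨q, hq, hqle⟩ := Ideal.exists_minimalPrimes_le
    (show (⊥ : Ideal Γ(X, U)) ≤ (hU.primeIdealOf ⟨x, hxU⟩).asIdeal from bot_le)
  haveI : q.IsPrime := hq.1.1
  let Q : PrimeSpectrum Γ(X, U) := ⟨q, inferInstance⟩
  have hηmax := Groth.Agent.S2510.isMax_fromSpec_of_mem_minimalPrimes hU Q hq
  have hηx : hU.fromSpec Q ⤳ x := fromSpec_specializes hU Q x hxU hqle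
  have hηass := Groth.Agent.S2510.isAssPoint_of_isMax hU (hU.fromSpec Q) (fromSpec_mem hU Q) hηmax
  have hηeq : hU.fromSpec Q = x := hne x hxass _ hηass hηx
  rw [← hηeq]
  exact hηmax

theorem hypB_of_isLocallyNoetherian (X : Scheme.{u}) [IsLocallyNoetherian X] : HypB X := by
  intro U hU
  haveI : CompactSpace ↥(U : Scheme.{u}) := isCompact_iff_compactSpace.1 hU
  haveI : IsNoetherian (U : Scheme.{u}) := ⟨⟩
  exact TopologicalSpace.NoetherianSpace.finite_irreducibleComponents

theorem result (X : Scheme.{u}) [IsLocallyNoetherian X]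
    (hne : ∀ x : ↥X, Curv2.IsAssPoint (Coh.structureModule X) x →
      ∀ y : ↥X, Curv2.IsAssPoint (Coh.structureModule X) y → y ⤳ x → y = x)
    (L : X.Modules) (hL : PicF.IsInvertible L) : Mero.HasRegularMero L :=
  hasRegularMero (hypA_of_noEmbedded X hne) (hypB_of_isLocallyNoetherian X) L hL

end Groth.Agent.S8867
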