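import Groth.Statements.S1575
import Groth.Agent.S8890
import Groth.Agent.Lib.Helper23QCohLocal

set_option autoImplicit false
universe u
open CategoryTheory CategoryTheory.Limits AlgebraicGeometry
open Divisors

namespace Groth.Agent.S1575

set_option linter.style.haveILetI false

open Groth.Agent.Lib.Helper2.QCoh Groth.Agent.Lib.Helper2.ModExact Opposite TopologicalSpace

variable {X : Scheme.{u}}

/-- a section of a pushforward module which is locally killed by functions invertible there vanishes. -/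
theorem eq_zero_of_pushforward {Y : Scheme.{u}} (f : Y ⟶ X) (H : Y.Modules) (W : X.Opens)
    (t : Γ((Scheme.Modules.pushforward f).obj H, W))
    (h : ∀ y' : Y, f y' ∈ W → ∃ r : Γ(X, W), r • t = 0 ∧ f y' ∈ X.basicOpen r) : t = 0 := by
  have key : ∀ r : Γ(X, W), r • t = 0 →
      ((Scheme.Modules.pushforward f).obj H).presheaf.map (homOfLE (X.basicOpen_le r)).op t = 0 := by
    intro r hr
    have h1 : ((Scheme.Modules.pushforward f).obj H).presheaf.map (homOfLE (X.basicOpen_le r)).op
        (r • t) = 0 := by rw [hr, map_zero]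
    rw [Scheme.Modules.map_smul] at h1
    have hu : IsUnit (X.presheaf.map (homOfLE (X.basicOpen_le r)).op r) :=
      RingedSpace.isUnit_res_basicOpen _ r
    exact hu.smul_eq_zero.mp h1
  refine H.isSheaf.section_ext (U := op (f ⁻¹ᵁ W)) fun y' hy' => ?_
  obtain ⟨r, hr, hy⟩ := h y' hy'
  refine ⟨f ⁻¹ᵁ X.basicOpen r, f.preimage_mono (X.basicOpen_le r), hy, ?_⟩
  exact (key r hr).trans (map_zero _).symm

section Unit

variable (F : X.Modules) (U : X.Opens)

/-- the unit `F ⟶ j_* j^* F` for the open immersion `j : U ⟶ X`. -/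
noncomputable abbrev η : F ⟶ (Scheme.Modules.pushforward U.ι).obj (F.restrict U.ι) :=
  (Scheme.Modules.restrictAdjunction U.ι).unit.app F

instance isIso_restrict_η : IsIso ((Scheme.Modules.restrictFunctor U.ι).map (η F U)) := by
  have h := (Scheme.Modules.restrictAdjunction U.ι).left_triangle_components F
  haveI : IsIso ((Scheme.Modules.restrictFunctor U.ι).map (η F U) ≫
      (Scheme.Modules.restrictAdjunction U.ι).counit.app ((Scheme.Modules.restrictFunctor U.ι).obj F)) := by
    rw [h]
    infer_instance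
  exact IsIso.of_isIso_comp_right _
    ((Scheme.Modules.restrictAdjunction U.ι).counit.app ((Scheme.Modules.restrictFunctor U.ι).obj F))

theorem bijective_stalk (x' : ↥U) : Function.Bijective (Groth.Agent.S8890.ψ (η F U) (U.ι x')) := by
  haveI h1 : IsIso ((Scheme.Modules.restrictFunctor U.ι ⋙ Scheme.Modules.toPresheaf _ ⋙
      TopCat.Presheaf.stalkFunctor AddCommGrpCat.{u} x').map (η F U)) := by
    change IsIso ((Scheme.Modules.toPresheaf _ ⋙ TopCat.Presheaf.stalkFunctor AddCommGrpCat.{u} x').map
      ((Scheme.Modules.restrictFunctor U.ι).map (η F U)))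
    infer_instance
  haveI h2 := (NatIso.isIso_map_iff (Scheme.Modules.restrictStalkNatIso U.ι x') (η F U)).mp h1
  exact ConcreteCategory.bijective_of_isIso
    ((Scheme.Modules.toPresheaf _ ⋙ TopCat.Presheaf.stalkFunctor AddCommGrpCat.{u} (U.ι x')).map (η F U))

theorem not_isAssPoint [IsLocallyNoetherian X] [F.IsQuasicoherent] (x : X) (hx : x ∉ U) :
    ¬ Curv2.IsAssPoint ((Scheme.Modules.pushforward U.ι).obj (F.restrict U.ι)) x := by
  haveI : ((Scheme.Modules.pushforward U.ι).obj (F.restrict U.ι)).IsQuasicoherent :=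
    Groth.Agent.Lib.Helper23.QCohLocal.isQuasicoherent_pushforward U.ι (F.restrict U.ι)
  obtain ⟨_, ⟨W, hW, rfl⟩, hxW, -⟩ :=
    X.isBasis_affineOpens.exists_subset_of_mem_open (Set.mem_univ x) isOpen_univ
  haveI : IsNoetherianRing Γ(X, W) := IsLocallyNoetherian.component_noetherian ⟨W, hW⟩
  rw [Groth.Agent.S8871.isAssPoint_iff hW _ x hxW]
  rintro ⟨hp, t, ht⟩
  have ht0 : t = 0 := by
    apply eq_zero_of_pushforward U.ι (F.restrict U.ι) W t
    intro y' hy'
    have hnle : ¬ (hW.primeIdealOf ⟨x, hxW⟩).asIdeal ≤ (hW.primeIdealOf ⟨U.ι y', hy'⟩).asIdeal := by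
      intro hle
      have h1 := fromSpec_specializes hW (hW.primeIdealOf ⟨x, hxW⟩) (U.ι y') hy' hle
      rw [hW.fromSpec_primeIdealOf ⟨x, hxW⟩] at h1
      exact hx (h1.mem_open U.isOpen y'.2)
    obtain ⟨f, hfp, hfy⟩ := Set.not_subset.mp hnle
    rw [SetLike.mem_coe, ht] at hfp
    obtain ⟨n, hn⟩ := hfp
    rw [Submodule.mem_colon_singleton, Submodule.mem_bot] at hn
    refine ⟨f ^ n, hn, ?_⟩
    rw [Groth.Agent.Lib.Helper2.mem_basicOpen_iff_notMem_primeIdealOf hW _ hy']
    exact fun h => hfy (Ideal.IsPrime.mem_of_pow_mem inferInstance _ h)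
  subst ht0
  apply hp.ne_top
  rw [ht]
  rw [Ideal.radical_eq_top, Ideal.eq_top_iff_one, Submodule.mem_colon_singleton, smul_zero]
  exact Submodule.zero_mem _

end Unit

/-- Let X be locally Noetherian, F coherent, and U open such that at every point outside U the stalk of
F has depth at least two over the local ring. Then F → j_*(F|_U) is an isomorphism: for every open
V, restriction of sections Γ(V, F) → Γ(V ∩ U, F) is a bijection. -/
theorem result (X : Scheme.{u}) [IsLocallyNoetherian X]
    (F : X.Modules) (hF : Coh.IsCoh F) (U : X.Opens)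
    (hdepth : ∀ x : X, x ∉ U → 2 ≤ LocCoh.depth (X.presheaf.stalk x) (F.presheaf.stalk x)) (V : X.Opens) :
    Function.Bijective (F.val.presheaf.map (homOfLE (inf_le_left : V ⊓ U ≤ V)).op) := by
  haveI : F.IsQuasicoherent := hF.1
  have hG : Coh.IsQCoh ((Scheme.Modules.pushforward U.ι).obj (F.restrict U.ι)) :=
    Groth.Agent.Lib.Helper23.QCohLocal.isQuasicoherent_pushforward U.ι (F.restrict U.ι)
  haveI := Groth.Agent.S8890.result X (η F U) hF hG (fun x => by
    by_cases hx : x ∈ U
    · left
      exact bijective_stalk F U ⟨x, hx⟩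
    · right
      exact ⟨hdepth x hx, not_isAssPoint F U x hx⟩)
  have e : U.ι ''ᵁ (U.ι ⁻¹ᵁ V) = V ⊓ U := by
    rw [Scheme.Hom.image_preimage_eq_opensRange_inf, Scheme.Opens.opensRange_ι, inf_comm]
  have hb : Function.Bijective (F.presheaf.map (homOfLE (U.ι.image_preimage_le V)).op) :=
    ConcreteCategory.bijective_of_isIso ((η F U).app V)
  have hcomp : F.presheaf.map (homOfLE (U.ι.image_preimage_le V)).op =
      F.presheaf.map (homOfLE (inf_le_left : V ⊓ U ≤ V)).op ≫ F.presheaf.map (eqToHom e).op := by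
    rw [← Functor.map_comp]
    rfl
  rw [hcomp] at hb
  have hb2 : Function.Bijective (F.presheaf.map (eqToHom e).op) :=
    ConcreteCategory.bijective_of_isIso _
  have hb3 : Function.Bijective ((F.presheaf.map (eqToHom e).op) ∘
      (F.presheaf.map (homOfLE (inf_le_left : V ⊓ U ≤ V)).op)) := hb
  exact (Function.Bijective.of_comp_iff' hb2 _).mp hb3

end Groth.Agent.S1575
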