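import Groth.Statements.S5084
import Groth.Agent.S8863
import Groth.Agent.S8867
import Groth.Agent.S8871
import Groth.Agent.Lib.Helper23UnitStalk
import Groth.Agent.Lib.Helper23AssStalk
import Groth.Agent.Lib.Helper20StalkExact
import Groth.Agent.Lib.Helper20RegMero
import Groth.Agent.Lib.Helper20GenOpen

set_option autoImplicit false
universe u
open CategoryTheory CategoryTheory.Limits AlgebraicGeometry TopologicalSpace
open Mero

namespace Groth.Agent.S5084

set_option linter.style.haveILetI false
open Groth.Agent.Lib.Helper2.QCoh Groth.Agent.Lib.Helper2.Ass Groth.Agent.Lib.Helper20.RegMero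

variable {X : Scheme.{u}} (F : X.Modules)

/-- torsion-freeness at all stalks. -/
def TF : Prop :=
  ∀ (x : X) (c : X.presheaf.stalk x), c ∈ regStalk X x → ∀ z : F.presheaf.stalk x, c • z = 0 → z = 0

theorem mk_one_eq_zero_iff (x : X) (z : F.presheaf.stalk x) :
    (LocalizedModule.mk z (1 : regStalk X x) : MStalk F x) = 0 ↔
      ∃ c ∈ regStalk X x, c • z = 0 := by
  rw [← LocalizedModule.zero_mk (1 : regStalk X x), LocalizedModule.mk_eq]
  constructor
  · rintro ⟨u, hu⟩
    rw [one_smul, smul_zero, smul_zero] at hu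
    exact ⟨u.1, u.2, hu⟩
  · rintro ⟨c, hc, h⟩
    refine ⟨⟨c, hc⟩, ?_⟩
    rw [one_smul, smul_zero, smul_zero]
    exact h

theorem toMer_app_apply (U : X.Opens) (m : Γ(F, U)) (y : U) :
    ((toMer F).app U m).1 y = LocalizedModule.mk (F.presheaf.germ U y.1 y.2 m) 1 := rfl

theorem mono_of_injective_app {M N : X.Modules} (f : M ⟶ N)
    (h : ∀ V : X.Opens, Function.Injective (f.app V)) : Mono f := by
  haveI : Mono ((Scheme.Modules.toPresheaf X).map f) := by
    apply (config := { allowSynthFailures := true }) NatTrans.mono_of_mono_app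
    intro V
    exact (AddCommGrpCat.mono_iff_injective _).2 (h V.unop)
  exact (Scheme.Modules.toPresheaf X).mono_of_mono_map inferInstance

theorem mono_iff_tf : Mono (toMer F) ↔ TF F := by
  constructor
  · intro hmono x c hc z hz
    obtain ⟨W, hxW, b, hb, rfl⟩ := hc
    obtain ⟨V, hxV, m, rfl⟩ := F.presheaf.exists_germ_eq z
    set V' : X.Opens := W ⊓ V with hV'
    have hxV' : x ∈ V' := ⟨hxW, hxV⟩
    set b' := X.presheaf.map (homOfLE (inf_le_left : V' ≤ W)).op b with hb'
    set m' := F.presheaf.map (homOfLE (inf_le_right : V' ≤ V)).op m with hm'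
    have h0 : F.presheaf.germ V' x hxV' (b' • m') = 0 := by
      rw [Mero.germ_smul, hb', hm', TopCat.Presheaf.germ_res_apply, TopCat.Presheaf.germ_res_apply]
      exact hz
    rw [← map_zero (F.presheaf.germ V' x hxV').hom] at h0
    obtain ⟨V'', hxV'', i₁, i₂, h1⟩ := TopCat.Presheaf.germ_eq F.presheaf x hxV' hxV' _ _ h0
    rw [map_zero, Scheme.Modules.map_smul] at h1
    set m'' := F.presheaf.map i₁.op m' with hm''
    have hb'' : X.presheaf.map i₁.op b' ∈ regSub X V'' := regSub_res _ (regSub_res _ hb)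
    have h2 : (toMer F).app V'' m'' = 0 := by
      apply Subtype.ext
      funext y
      rw [toMer_app_apply]
      change _ = (0 : MStalk F y.1)
      rw [mk_one_eq_zero_iff]
      refine ⟨_, germ_mem_regStalk y hb'', ?_⟩
      rw [← Mero.germ_smul, h1, map_zero]
    have h3 : m'' = 0 := by
      have := Groth.Agent.Lib.Helper20.StalkExact.injective_app_of_mono (toMer F) V''
      exact this (h2.trans (map_zero _).symm)
    have e1 : F.presheaf.germ V x hxV m = F.presheaf.germ V'' x hxV'' m'' := by
      rw [hm'', TopCat.Presheaf.germ_res_apply, hm', TopCat.Presheaf.germ_res_apply]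
    rw [e1, h3, map_zero]
  · intro htf
    apply mono_of_injective_app
    intro U
    rw [injective_iff_map_eq_zero]
    intro m hm
    apply TopCat.Presheaf.section_ext (⟨F.presheaf, F.isSheaf⟩ : TopCat.Sheaf Ab X)
    intro y hy
    have h1 := congrArg (fun t : Γ(merMod F, U) => t.1 ⟨y, hy⟩) hm
    simp only at h1
    rw [toMer_app_apply] at h1
    have h1' : (LocalizedModule.mk (F.presheaf.germ U y hy m) (1 : regStalk X y) : MStalk F y) = 0 := h1
    rw [mk_one_eq_zero_iff] at h1'
    obtain ⟨c, hc, hcz⟩ := h1'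
    have := htf y c hc _ hcz
    change F.presheaf.germ U y hy m = F.presheaf.germ U y hy 0
    rw [this, map_zero]

section Noeth

variable [IsLocallyNoetherian X]

theorem assPoint_of_tf (h : TF F) (x : X) (hx : Curv2.IsAssPoint F x) :
    IsAssociatedPrime (IsLocalRing.maximalIdeal (X.presheaf.stalk x)) (X.presheaf.stalk x) := by
  classical
  obtain ⟨hprime, z, hz⟩ := (isAssociatedPrime_iff).1 hx
  have hfin := associatedPrimes.finite (X.presheaf.stalk x) (X.presheaf.stalk x)
  by_cases hzd : ((IsLocalRing.maximalIdeal (X.presheaf.stalk x) : Set (X.presheaf.stalk x)) ⊆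
      ⋃ p ∈ associatedPrimes (X.presheaf.stalk x) (X.presheaf.stalk x), (p : Set (X.presheaf.stalk x)))
  · have hzd' : ((IsLocalRing.maximalIdeal (X.presheaf.stalk x) : Set (X.presheaf.stalk x)) ⊆
        ⋃ p ∈ (hfin.toFinset : Set (Ideal (X.presheaf.stalk x))), ((id p : Ideal _) : Set (X.presheaf.stalk x))) := by
      rw [Set.Finite.coe_toFinset]
      exact hzd
    obtain ⟨p, hp, hle⟩ := (Ideal.subset_union_prime (f := id) (⊥ : Ideal (X.presheaf.stalk x)) ⊥
      (fun i hi _ _ => ((Set.Finite.mem_toFinset hfin).1 hi).isPrime)).1 hzd'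
    have hp' : IsAssociatedPrime p (X.presheaf.stalk x) := (Set.Finite.mem_toFinset hfin).1 hp
    have : IsLocalRing.maximalIdeal (X.presheaf.stalk x) = p :=
      (IsLocalRing.maximalIdeal.isMaximal _).eq_of_le hp'.isPrime.ne_top hle
    rw [this]
    exact hp'
  · exfalso
    obtain ⟨t, htm, htn⟩ := Set.not_subset.1 hzd
    rw [biUnion_associatedPrimes_eq_compl_nonZeroDivisors, Set.mem_compl_iff, not_not] at htn
    have h1 : t • z = 0 := by
      rw [SetLike.mem_coe, hz, Submodule.mem_colon_singleton, Submodule.mem_bot] at htm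
      exact htm
    have hz0 := h x t (by rw [Groth.Agent.S8863.result X x]; exact htn) z h1
    have : (1 : X.presheaf.stalk x) ∈ IsLocalRing.maximalIdeal (X.presheaf.stalk x) := by
      rw [hz, Submodule.mem_colon_singleton, Submodule.mem_bot, hz0, smul_zero]
    exact (IsLocalRing.maximalIdeal.isMaximal _).ne_top ((Ideal.eq_top_iff_one _).2 this)

theorem tf_of_assPoint [F.IsQuasicoherent]
    (h : ∀ x : X, Curv2.IsAssPoint F x →
      IsAssociatedPrime (IsLocalRing.maximalIdeal (X.presheaf.stalk x)) (X.presheaf.stalk x)) :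
    TF F := by
  intro x c hc z hcz
  by_contra hz
  have hcn : c ∈ nonZeroDivisors (X.presheaf.stalk x) := regStalk_le_nonZeroDivisors x hc
  obtain ⟨_, ⟨U, hU, rfl⟩, hxU, -⟩ :=
    X.isBasis_affineOpens.exists_subset_of_mem_open (Set.mem_univ x) isOpen_univ
  haveI : IsNoetherianRing Γ(X, U) := IsLocallyNoetherian.component_noetherian ⟨U, hU⟩
  obtain ⟨s, n, hxs, hsn⟩ := exists_smul_eq_germ hU F x hxU z
  have hsu : IsUnit (X.presheaf.germ U x hxU s) := (Scheme.mem_basicOpen _ _ _ hxU).1 hxs
  have hn0 : F.presheaf.germ U x hxU n ≠ 0 := by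
    intro h0
    rw [h0] at hsn
    exact hz (germ_smul_eq_zero_of_isUnit hsu hsn)
  obtain ⟨a, d, hdu, had⟩ := exists_frac hU x hxU c
  have h1 : F.presheaf.germ U x hxU (a • n) = 0 := by
    rw [Mero.germ_smul, ← had, ← hsn]
    have : (c * X.presheaf.germ U x hxU d) • (X.presheaf.germ U x hxU s • z) =
        (X.presheaf.germ U x hxU d * X.presheaf.germ U x hxU s) • (c • z) := by
      rw [smul_smul, smul_smul]
      congr 1
      ring
    rw [this, hcz, smul_zero]
  obtain ⟨e, hxe, he⟩ := exists_smul_eq_zero_of_germ_eq_zero hU F x hxU (a • n) h1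
  have heu : IsUnit (X.presheaf.germ U x hxU e) := (Scheme.mem_basicOpen _ _ _ hxU).1 hxe
  have hle : ann F n ≤ (hU.primeIdealOf ⟨x, hxU⟩).asIdeal := by
    intro r hr
    by_contra hnr
    have hu : IsUnit (X.presheaf.germ U x hxU r) := by
      rw [← Scheme.mem_basicOpen, Groth.Agent.Lib.Helper2.mem_basicOpen_iff_notMem_primeIdealOf hU x hxU]
      exact hnr
    have h0 : X.presheaf.germ U x hxU r • F.presheaf.germ U x hxU n = 0 := by
      rw [← Mero.germ_smul, mem_ann.1 hr, map_zero]
    exact hn0 (germ_smul_eq_zero_of_isUnit hu h0)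
  obtain ⟨q, hqmin, hqle⟩ := Ideal.exists_minimalPrimes_le hle
  let Q : PrimeSpectrum Γ(X, U) := ⟨q, hqmin.1.1⟩
  have hwa := isWeakAssPoint_fromSpec_of_minimalPrimes hU F n Q hqmin
  have hass := Groth.Agent.S8867.isAssPoint_of_isWeakAssPoint F _ hwa
  have hAP := h _ hass
  have hO := (Groth.Agent.Lib.Helper23.UnitStalk.isAssPoint_structureModule_iff _).2 hAP
  haveI : (Coh.structureModule X).IsQuasicoherent :=
    Groth.Agent.Lib.Helper20.OmegaAff.isQuasicoherent_structureModule
  have hQ := (Groth.Agent.S8871.isAssPoint_iff hU (Coh.structureModule X) (hU.fromSpec Q)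
    (fromSpec_mem hU Q)).1 hO
  rw [primeIdealOf_fromSpec hU Q] at hQ
  have hQ' : IsAssociatedPrime q Γ(X, U) := hQ
  obtain ⟨-, b, hb⟩ := (isAssociatedPrime_iff).1 hQ'
  have hea : e * a ∈ q := hqmin.1.2 (mem_ann.2 (by rw [mul_smul]; exact he))
  have heab : (e * a) * b = 0 := by
    rw [hb, Submodule.mem_colon_singleton, Submodule.mem_bot] at hea
    exact hea
  have hb0 : X.presheaf.germ U x hxU b ≠ 0 := by
    intro h0
    obtain ⟨u, huu, hub⟩ :=
      Groth.Agent.Lib.Helper20.GenOpen.exists_mul_eq_zero_of_germ_eq_zero hU x hxU b h0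
    have huq : u ∈ q := by
      rw [hb, Submodule.mem_colon_singleton, Submodule.mem_bot]
      exact hub
    have hup := hqle huq
    have := (germ_mem_maximalIdeal_iff hU x hxU u).2 hup
    exact (IsLocalRing.mem_maximalIdeal _).1 this huu
  have h2 : X.presheaf.germ U x hxU e * X.presheaf.germ U x hxU a * X.presheaf.germ U x hxU b = 0 := by
    rw [← map_mul, ← map_mul, heab, map_zero]
  have h3 : X.presheaf.germ U x hxU a * X.presheaf.germ U x hxU b = 0 := by
    rw [mul_assoc] at h2
    exact (heu.mul_right_eq_zero).1 h2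
  rw [← had, mul_assoc] at h3
  have h4 : X.presheaf.germ U x hxU d * X.presheaf.germ U x hxU b = 0 :=
    (mul_left_mem_nonZeroDivisors_eq_zero_iff hcn).1 h3
  exact hb0 ((hdu.mul_right_eq_zero).1 h4)

end Noeth

/-- Let X be a locally Noetherian scheme and F a quasi-coherent O_X-module. Then F is torsion-free — the
canonical map from F to its sheaf of meromorphic sections K_X(F), m ↦ m/1, is a monomorphism, i.e.
at every point no germ of a regular function kills a nonzero element of the stalk of F — if and only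
if every associated point of F is an associated point of the structure sheaf (a point x such that
the maximal ideal of O_{X,x} is an associated prime of O_{X,x}). -/
theorem result (X : Scheme.{u}) [IsLocallyNoetherian X]
    (F : X.Modules) (hF : Coh.IsQCoh F) :
    Mono (Mero.toMer F) ↔
      ∀ x : ↥X, Curv2.IsAssPoint F x →
        IsAssociatedPrime (IsLocalRing.maximalIdeal ↑(X.presheaf.stalk x)) ↑(X.presheaf.stalk x) := by
  haveI : F.IsQuasicoherent := hF
  rw [mono_iff_tf]
  exact ⟨assPoint_of_tf F, tf_of_assPoint F⟩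

end Groth.Agent.S5084
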