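import Groth.Statements.S1880
import Mathlib
import Groth.Agent.Lib.Helper2Grpd

set_option autoImplicit false
universe u
open CategoryTheory CategoryTheory.Limits AlgebraicGeometry
open Grpd

namespace Groth.Agent.S1880

section Dev
open CategoryTheory CategoryTheory.Limits AlgebraicGeometry TensorProduct
open Groth.Agent.Lib.Helper2.Grpd
theorem norm_baseChange (A B A' : Type*) [CommRing A] [CommRing B] [CommRing A'] [Algebra A B]
    [Algebra A A'] [Module.Free A B] [Module.Finite A B] (b : B) :
    Algebra.norm A' ((1 : A') ⊗ₜ[A] b) = algebraMap A A' (Algebra.norm A b) := by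
  rw [Algebra.norm_apply, Algebra.norm_apply, ← LinearMap.det_baseChange]
  congr 1
  ext x
  simp

theorem norm_of_isPushout (A A' B C : Type*) [CommRing A] [CommRing A'] [CommRing B] [CommRing C]
    [Algebra A A'] [Algebra A B] [Algebra A' C] [Algebra B C] [Algebra A C]
    [IsScalarTower A A' C] [IsScalarTower A B C] [Algebra.IsPushout A A' B C]
    [Module.Free A B] [Module.Finite A B] (b : B) :
    Algebra.norm A' (algebraMap B C b) = algebraMap A A' (Algebra.norm A b) := by
  let e : A' ⊗[A] B ≃ₐ[A'] C := Algebra.IsPushout.equiv A A' B C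
  have : algebraMap B C b = e (1 ⊗ₜ b) := by simp [e, Algebra.IsPushout.equiv_tmul]
  rw [this, Algebra.norm_eq_of_algEquiv, norm_baseChange]

/-- CommRingCat version: pushout square, `f` finite free. -/
theorem norm_of_isPushout_cat {R S T P : CommRingCat.{u}} {f : R ⟶ S} {g : R ⟶ T}
    {inl : S ⟶ P} {inr : T ⟶ P} (h : IsPushout f g inl inr)
    (hfree : letI := f.hom.toAlgebra; ∃ s : Finset S, Nonempty (Module.Basis s R S)) (b : S) :
    (letI := inr.hom.toAlgebra; Algebra.norm T (inl.hom b)) =
      g.hom (letI := f.hom.toAlgebra; Algebra.norm R b) := by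
  algebraize [f.hom, g.hom, inl.hom, inr.hom, inl.hom.comp f.hom]
  have : IsScalarTower R T P := .of_algebraMap_eq' <| congr($(h.1.1).hom)
  have h1 : Algebra.IsPushout R S T P := CommRingCat.isPushout_iff_isPushout.mp h
  have h2 : Algebra.IsPushout R T S P := h1.symm
  obtain ⟨s, ⟨bs⟩⟩ := hfree
  have : Module.Free R S := Module.Free.of_basis bs
  have : Module.Finite R S := Module.Finite.of_basis bs
  exact norm_of_isPushout R T S P b

variable {S : Scheme.{u}} (G : Grpd.GroupoidScheme S)

theorem c_s : G.c ≫ G.s = pullback.snd G.s G.t ≫ G.s := by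
  have := G.comp_s (pullback.fst G.s G.t) (pullback.snd G.s G.t) pullback.condition
  have e : pullback.lift (pullback.fst G.s G.t) (pullback.snd G.s G.t) pullback.condition =
      𝟙 _ := by
    apply pullback.hom_ext <;> simp
  rw [e, Category.id_comp] at this
  exact this

theorem c_t : G.c ≫ G.t = pullback.fst G.s G.t ≫ G.t := by
  have := G.comp_t (pullback.fst G.s G.t) (pullback.snd G.s G.t) pullback.condition
  have e : pullback.lift (pullback.fst G.s G.t) (pullback.snd G.s G.t) pullback.condition =
      𝟙 _ := by
    apply pullback.hom_ext <;> simp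
  rw [e, Category.id_comp] at this
  exact this

theorem isPullback_c : IsPullback G.c (pullback.snd G.s G.t) G.s G.s := by
  refine ⟨⟨c_s G⟩, ⟨PullbackCone.IsLimit.mk _ ?_ ?_ ?_ ?_⟩⟩
  · intro cone
    -- k = cone.fst, h = cone.snd, k ≫ s = h ≫ s
    have h1 : cone.fst ≫ G.s = (cone.snd ≫ G.i) ≫ G.t := by
      rw [Category.assoc, G.i_t]; exact cone.condition
    refine pullback.lift (comp G cone.fst (cone.snd ≫ G.i) h1) cone.snd ?_
    rw [comp_s, Category.assoc, G.i_s]
  · intro cone
    have h1 : cone.fst ≫ G.s = (cone.snd ≫ G.i) ≫ G.t := by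
      rw [Category.assoc, G.i_t]; exact cone.condition
    exact comp_i_comp' G cone.fst cone.snd h1 (by rw [comp_s, Category.assoc, G.i_s])
  · intro cone
    exact pullback.lift_snd _ _ _
  · intro cone m hm1 hm2
    have h1 : cone.fst ≫ G.s = (cone.snd ≫ G.i) ≫ G.t := by
      rw [Category.assoc, G.i_t]; exact cone.condition
    apply pullback.hom_ext
    · rw [pullback.lift_fst]
      -- m ≫ fst = comp (cone.fst) (cone.snd ≫ i)
      have hm : (m ≫ pullback.fst G.s G.t) ≫ G.s = cone.snd ≫ G.t := by
        rw [Category.assoc, pullback.condition, ← Category.assoc, hm2]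
      have hk : cone.fst = comp G (m ≫ pullback.fst G.s G.t) cone.snd hm := by
        rw [← hm1]
        unfold comp
        congr 1
        apply pullback.hom_ext
        · rw [pullback.lift_fst]
        · rw [pullback.lift_snd]; exact hm2
      have := comp_comp_i G (m ≫ pullback.fst G.s G.t) cone.snd hm
        (by rw [comp_s, Category.assoc, G.i_t])
      rw [← this]
      exact comp_congr G _ hk.symm rfl
    · rw [pullback.lift_snd]; exact hm2


theorem main (S : Scheme.{u}) (G : Grpd.GroupoidScheme S) [IsAffine G.U] [IsAffine G.R]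
    (f : Γ(G.U, ⊤)) : G.normST f ∈ G.invariants := by
  by_cases hfree : (letI := G.s.appTop.hom.toAlgebra;
      ∃ s : Finset Γ(G.R, ⊤), Nonempty (Module.Basis s Γ(G.U, ⊤) Γ(G.R, ⊤)))
  · have hP1 := isPushout_appTop_of_isPullback (IsPullback.of_hasPullback G.s G.t)
    have hP2 := isPushout_appTop_of_isPullback (isPullback_c G)
    have e1 := norm_of_isPushout_cat hP1 hfree (G.t.appTop.hom f)
    have e2 := norm_of_isPushout_cat hP2 hfree (G.t.appTop.hom f)
    show G.s.appTop.hom (G.normST f) = G.t.appTop.hom (G.normST f)
    unfold Grpd.GroupoidScheme.normST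
    rw [← e1, ← e2]
    congr 1
    have h3 := congrArg (fun φ => φ.appTop.hom f) (c_t G)
    simpa [Scheme.Hom.comp_appTop] using h3
  · have : G.normST f = 1 := by
      letI := G.s.appTop.hom.toAlgebra
      exact Algebra.norm_eq_one_of_not_exists_basis _ hfree _
    rw [this]
    exact Subring.one_mem _
end Dev

/-- Let (U, R, s, t, c) be a groupoid scheme with U, R affine and s, t finite locally free. For f ∈
Γ(U), the norm along s♯ of t♯(f) is an R-invariant function. (Mathlib's norm is the determinant when
Γ(R) is free over Γ(U) via s♯ and 1 otherwise; the content is the free case, e.g. after localizing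
U.) (A groupoid scheme carries U, R, s, t, c, e, i over S with the groupoid axioms on T-points;
'finite locally free' is finite, flat and locally of finite presentation; C ⊂ Γ(U) is the ring of
functions a with s♯(a) = t♯(a) and M = Spec C.) -/
theorem result (S : Scheme.{u}) (G : Grpd.GroupoidScheme S) [IsAffine G.U] [IsAffine G.R] [IsFinite G.s] [Flat G.s] [LocallyOfFinitePresentation G.s] [IsFinite G.t] [Flat G.t] [LocallyOfFinitePresentation G.t] (f : Γ(G.U, ⊤)) : G.normST f ∈ G.invariants := by
  exact main S G f

end Groth.Agent.S1880
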