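import Groth.Statements.S1879
import Mathlib
import Groth.Agent.S1880
import Groth.Agent.Lib.Helper2RetCharpoly

set_option autoImplicit false
universe u
open CategoryTheory CategoryTheory.Limits AlgebraicGeometry
open Grpd

namespace Groth.Agent.S1879

section Dev
open CategoryTheory CategoryTheory.Limits AlgebraicGeometry TensorProduct Polynomial
open Groth.Agent.Lib.Helper2.RetCharpoly
theorem main (S : Scheme.{u}) (G : Grpd.GroupoidScheme S) [IsAffine G.U] [IsAffine G.R]
    [IsFinite G.s] [Flat G.s] [LocallyOfFinitePresentation G.s] :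
    Algebra.IsIntegral G.invariants Γ(G.U, ⊤) := by
  let σ := G.s.appTop.hom
  let τ := G.t.appTop.hom
  let ε := G.e.appTop.hom
  let p0 := (pullback.fst G.s G.t).appTop.hom
  let c := G.c.appTop.hom
  have hεσ : ∀ a, ε (σ a) = a := by
    intro a
    have := congrArg (fun φ : G.U ⟶ G.U => φ.appTop.hom a) G.e_s
    simpa [Scheme.Hom.comp_appTop] using this
  have hετ : ∀ a, ε (τ a) = a := by
    intro a
    have := congrArg (fun φ : G.U ⟶ G.U => φ.appTop.hom a) G.e_t
    simpa [Scheme.Hom.comp_appTop] using this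
  have hcτ : ∀ a, c (τ a) = p0 (τ a) := by
    intro a
    have := congrArg (fun φ : pullback G.s G.t ⟶ G.U => φ.appTop.hom a) (Groth.Agent.S1880.c_t G)
    simpa [Scheme.Hom.comp_appTop] using this
  have hP1 := isPushout_appTop_of_isPullback (IsPullback.of_hasPullback G.s G.t)
  have hP2 := isPushout_appTop_of_isPullback (Groth.Agent.S1880.isPullback_c G)
  have hex : letI := G.s.appTop.hom.toAlgebra;
      ∃ n, ∀ b : Γ(G.R, ⊤), ∃ χ, IsRCP Γ(G.U, ⊤) Γ(G.R, ⊤) n b χ := by
    letI := G.s.appTop.hom.toAlgebra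
    have hfin : Module.Finite Γ(G.U, ⊤) Γ(G.R, ⊤) := G.s.finite_appTop
    have hflat : Module.Flat Γ(G.U, ⊤) Γ(G.R, ⊤) := G.s.flat_appTop
    have hfp : Algebra.FinitePresentation Γ(G.U, ⊤) Γ(G.R, ⊤) := G.s.finitePresentation_appTop
    have : Module.FinitePresentation Γ(G.U, ⊤) Γ(G.R, ⊤) :=
      Module.FinitePresentation.of_finite_of_finitePresentation _ _
    have hproj : Module.Projective Γ(G.U, ⊤) Γ(G.R, ⊤) :=
      Module.Flat.projective_of_finitePresentation
    exact exists_isRCP _ _
  obtain ⟨n, hn⟩ := hex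
  constructor
  intro f
  obtain ⟨χ, hχ⟩ := hn (τ f)
  have e1 := isRCP_cat hP1 n (τ f) χ hχ
  have e2 := isRCP_cat hP2 n (τ f) χ hχ
  have hc : G.c.appTop.hom (τ f) = (pullback.fst G.s G.t).appTop.hom (τ f) := hcτ f
  rw [hc] at e2
  have hmap : χ.map G.s.appTop.hom = χ.map G.t.appTop.hom := by
    letI := (pullback.snd G.s G.t).appTop.hom.toAlgebra
    exact IsRCP.unique e2 e1
  have hcoef : ∀ k, χ.coeff k ∈ G.invariants := by
    intro k
    have := congrArg (fun q => q.coeff k) hmap
    simp only [Polynomial.coeff_map] at this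
    exact this
  have h0 : (letI := G.s.appTop.hom.toAlgebra; aeval (τ f) χ) = 0 := by
    letI := G.s.appTop.hom.toAlgebra
    exact hχ.aeval_eq_zero
  have hmonic : χ.Monic := by
    letI := G.s.appTop.hom.toAlgebra
    exact hχ.monic
  have h1 : eval₂ (RingHom.id _) f χ = 0 := by
    have h2 : eval₂ σ (τ f) χ = 0 := h0
    have h3 := congrArg ε h2
    rw [Polynomial.hom_eval₂, map_zero, hετ] at h3
    have h4 : ε.comp σ = RingHom.id _ := RingHom.ext hεσ
    rwa [h4] at h3
  have hsub : (↑χ.coeffs : Set Γ(G.U, ⊤)) ⊆ G.invariants := by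
    intro a ha
    obtain ⟨k, -, rfl⟩ := Polynomial.mem_coeffs_iff.mp ha
    exact hcoef k
  refine ⟨χ.toSubring G.invariants hsub, (Polynomial.monic_toSubring _ _ _).mpr hmonic, ?_⟩
  have h5 : (χ.toSubring G.invariants hsub).map (Subring.subtype G.invariants) = χ :=
    Polynomial.map_toSubring _ _ _
  rw [← h5, Polynomial.eval₂_map] at h1
  exact h1
end Dev

/-- Let (U, R, s, t, c) be a groupoid scheme with U, R affine and s, t finite locally free. Then Γ(U) is
integral over the subring C of R-invariant functions. (A groupoid scheme carries U, R, s, t, c, e, i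
over S with the groupoid axioms on T-points; 'finite locally free' is finite, flat and locally of
finite presentation; C ⊂ Γ(U) is the ring of functions a with s♯(a) = t♯(a) and M = Spec C.) -/
theorem result (S : Scheme.{u}) (G : Grpd.GroupoidScheme S) [IsAffine G.U] [IsAffine G.R] [IsFinite G.s] [Flat G.s] [LocallyOfFinitePresentation G.s] [IsFinite G.t] [Flat G.t] [LocallyOfFinitePresentation G.t] : Algebra.IsIntegral G.invariants Γ(G.U, ⊤) := by
  exact main S G

end Groth.Agent.S1879
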