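import Groth.Statements.S13606
import Groth.Agent.Lib.Helper20Quot
import Mathlib.AlgebraicGeometry.Restrict

set_option autoImplicit false
universe u
open CategoryTheory AlgebraicGeometry
open SGA1

namespace Groth.Agent.S13606

open Groth.Agent.Lib.Helper20

set_option backward.isDefEq.respectTransparency false in
/-- appLE of a morphism of an open subscheme compatible with a morphism of the ambient scheme -/
theorem appLE_of_comm {X : Scheme.{u}} (O : X.Opens) (f : O.toScheme ⟶ O.toScheme) (f' : X ⟶ X)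
    (h : f ≫ O.ι = O.ι ≫ f') (V V' : O.toScheme.Opens) (e : V' ≤ f ⁻¹ᵁ V)
    (e' : O.ι ''ᵁ V' ≤ f' ⁻¹ᵁ (O.ι ''ᵁ V)) :
    f.appLE V V' e = f'.appLE (O.ι ''ᵁ V) (O.ι ''ᵁ V') e' := by
  have e1 : V ≤ O.ι ⁻¹ᵁ (O.ι ''ᵁ V) := by rw [O.ι.preimage_image_eq]
  have e2 : V' ≤ O.ι ⁻¹ᵁ (O.ι ''ᵁ V') := by rw [O.ι.preimage_image_eq]
  have h1 := Scheme.Hom.appLE_comp_appLE f O.ι (O.ι ''ᵁ V) V V' e1 e
  have h2 := Scheme.Hom.appLE_comp_appLE O.ι f' (O.ι ''ᵁ V) (O.ι ''ᵁ V') V' e' e2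
  have h3 : O.ι.appLE (O.ι ''ᵁ V) V e1 = 𝟙 _ := by
    rw [Scheme.Opens.ι_appLE]
    exact X.presheaf.map_id _
  have h4 : O.ι.appLE (O.ι ''ᵁ V') V' e2 = 𝟙 _ := by
    rw [Scheme.Opens.ι_appLE]
    exact X.presheaf.map_id _
  have h1' : f.appLE V V' e = O.ι.appLE (O.ι ''ᵁ V) V e1 ≫ f.appLE V V' e := by
    rw [h3]; exact (Category.id_comp _).symm
  have h2' : f'.appLE (O.ι ''ᵁ V) (O.ι ''ᵁ V') e' =
      f'.appLE (O.ι ''ᵁ V) (O.ι ''ᵁ V') e' ≫ O.ι.appLE (O.ι ''ᵁ V') V' e2 := by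
    rw [h4]; exact (Category.comp_id _).symm
  rw [h1', h2', h1, h2]
  exact appLE_congr_hom h _ _ _

/-- the quotient conditions for opens of `X` equal to a preimage -/
theorem isQuot_appLE {X Y : Scheme.{u}} {G : Type u} [Group G]
    {ρ : G →* Aut X} {p : X ⟶ Y} (hp : SGA1.IsQuot ρ p) (W : Y.Opens) (T : X.Opens)
    (hT : T = p ⁻¹ᵁ W) (e : T ≤ p ⁻¹ᵁ W) (eg : ∀ g : G, T ≤ (ρ g).hom ⁻¹ᵁ T) :
    Function.Injective (p.appLE W T e).hom ∧
      ∀ s : Γ(X, T), s ∈ Set.range (p.appLE W T e).hom ↔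
        ∀ g : G, ((ρ g).hom.appLE T T (eg g)).hom s = s := by
  subst hT
  refine ⟨?_, fun s => ?_⟩
  · rw [Scheme.Hom.appLE_eq_app]
    exact hp.injective W
  · rw [Scheme.Hom.appLE_eq_app]
    exact hp.range_iff W s

set_option backward.isDefEq.respectTransparency false in
/-- Let a finite group G act on a scheme X and let p : X ⟶ Y be a quotient of X by G (affine,
G-invariant, sections of O_Y over every open = G-invariant sections of O_X over its preimage). Then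
for every open U ⊆ Y, U is the quotient of p⁻¹U by G: the restriction p⁻¹U ⟶ U of p is again a
quotient in the same sense, for the action ρU of G on the G-stable open p⁻¹U induced by ρ (pinned by
compatibility with the inclusion p⁻¹U ⟶ X). -/
theorem result {X Y : Scheme.{u}} {G : Type u} [Group G] [Finite G]
    (ρ : G →* Aut X) (p : X ⟶ Y) (hp : SGA1.IsQuot ρ p) (U : Y.Opens)
    (ρU : G →* Aut (p ⁻¹ᵁ U).toScheme)
    (hρU : ∀ g : G, (ρU g).hom ≫ (p ⁻¹ᵁ U).ι = (p ⁻¹ᵁ U).ι ≫ (ρ g).hom) :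
    SGA1.IsQuot ρU (p ∣_ U) := by
  have haff := hp.affine
  have hinvU : ∀ g : G, (ρU g).hom ≫ p ∣_ U = p ∣_ U := by
    intro g
    rw [← cancel_mono U.ι, Category.assoc, morphismRestrict_ι, ← Category.assoc, hρU,
      Category.assoc, hp.inv]
  have eg : ∀ (W : U.toScheme.Opens) (g : G), (p ⁻¹ᵁ U).ι ''ᵁ ((p ∣_ U) ⁻¹ᵁ W) ≤
      (ρ g).hom ⁻¹ᵁ ((p ⁻¹ᵁ U).ι ''ᵁ ((p ∣_ U) ⁻¹ᵁ W)) := by
    intro W g
    rw [image_morphismRestrict_preimage]
    exact SGA1.preimage_le_of_inv ρ p hp.inv g _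
  have key := fun W : U.toScheme.Opens => isQuot_appLE hp (U.ι ''ᵁ W)
    ((p ⁻¹ᵁ U).ι ''ᵁ ((p ∣_ U) ⁻¹ᵁ W)) (image_morphismRestrict_preimage p U W)
    (image_morphismRestrict_preimage p U W).le (eg W)
  refine ⟨IsZariskiLocalAtTarget.restrict haff U, hinvU, fun W => ?_, fun W s => ?_⟩
  · rw [morphismRestrict_app']
    exact (key W).1
  · rw [morphismRestrict_app']
    refine ((key W).2 s).trans ?_
    refine forall_congr' fun g => ?_
    rw [appLE_of_comm (p ⁻¹ᵁ U) (ρU g).hom (ρ g).hom (hρU g) _ _ _ (eg W g)]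
    exact Iff.rfl

end Groth.Agent.S13606
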