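import Groth.Statements.S1889
import Mathlib
import Groth.Agent.Lib.Helper2Grpd

set_option autoImplicit false
universe u
open CategoryTheory CategoryTheory.Limits AlgebraicGeometry
open Grpd

namespace Groth.Agent.S1889

/-- Let (U, R, s, t, c) be a groupoid scheme over S with U the spectrum of a field, W ⊆ R open and a : Z
→ R a morphism. Then the image of Z ×_{s∘a, U, t} W → R ×_{s,U,t} R → R (composition) is open. (A
groupoid scheme carries U, R, s, t, c, e, i over S with the groupoid axioms on T-points; 'finite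
locally free' is finite, flat and locally of finite presentation; C ⊂ Γ(U) is the ring of functions
a with s♯(a) = t♯(a) and M = Spec C.) -/
theorem result (S : Scheme.{u}) (G : Grpd.GroupoidScheme S) (k : Type u) [Field k] (eU : G.U ≅ Spec (CommRingCat.of k)) (W : G.R.Opens) (Z : Scheme.{u}) (a : Z ⟶ G.R) : IsOpen (Set.range ⇑(pullback.lift (pullback.fst (a ≫ G.s) (W.ι ≫ G.t) ≫ a) (pullback.snd (a ≫ G.s) (W.ι ≫ G.t) ≫ W.ι) ((Category.assoc _ _ _).trans (pullback.condition.trans (Category.assoc _ _ _).symm)) ≫ G.c)) := by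
  classical
  -- U is integral with one point
  have hUn : Nonempty G.U := ⟨eU.inv (IsLocalRing.closedPoint k)⟩
  have hUi : IsIntegral G.U := isIntegral_of_isOpenImmersion eU.hom
  have hUs : Subsingleton G.U := eU.hom.homeomorph.subsingleton
  -- abbreviations
  set p1 := pullback.fst (a ≫ G.s) (W.ι ≫ G.t) with hp1
  set p2 := pullback.snd (a ≫ G.s) (W.ι ≫ G.t) with hp2
  have hm : (p1 ≫ a) ≫ G.s = (p2 ≫ W.ι) ≫ G.t :=
    (Category.assoc _ _ _).trans (pullback.condition.trans (Category.assoc _ _ _).symm)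
  show IsOpen (Set.range ⇑(Groth.Agent.Lib.Helper2.Grpd.comp G (p1 ≫ a) (p2 ≫ W.ι) hm))
  set m := Groth.Agent.Lib.Helper2.Grpd.comp G (p1 ≫ a) (p2 ≫ W.ι) hm with hmdef
  let q1 := pullback.fst (a ≫ G.t) G.t
  let q2 := pullback.snd (a ≫ G.t) G.t
  have hq : (q1 ≫ a) ≫ G.t = q2 ≫ G.t := by
    rw [Category.assoc]; exact pullback.condition
  have hlam : ((q1 ≫ a) ≫ G.i) ≫ G.s = q2 ≫ G.t := by
    rw [Category.assoc _ G.i, G.i_s]; exact hq
  let lam : pullback (a ≫ G.t) G.t ⟶ G.R :=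
    Groth.Agent.Lib.Helper2.Grpd.comp G ((q1 ≫ a) ≫ G.i) q2 hlam
  have hθ : p1 ≫ a ≫ G.t = m ≫ G.t := by
    rw [hmdef, Groth.Agent.Lib.Helper2.Grpd.comp_t, Category.assoc]
  let θ : pullback (a ≫ G.s) (W.ι ≫ G.t) ⟶ pullback (a ≫ G.t) G.t := pullback.lift p1 m hθ
  have hθ1 : θ ≫ q1 = p1 := pullback.lift_fst _ _ _
  have hθ2 : θ ≫ q2 = m := pullback.lift_snd _ _ _
  -- Claim 2
  have hθlam : θ ≫ lam = p2 ≫ W.ι := by
    rw [Groth.Agent.Lib.Helper2.Grpd.precomp_comp]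
    have e1 : θ ≫ (q1 ≫ a) ≫ G.i = (p1 ≫ a) ≫ G.i := by
      rw [← Category.assoc, ← Category.assoc, hθ1]
    rw [Groth.Agent.Lib.Helper2.Grpd.comp_congr G _ e1 hθ2]
    exact Groth.Agent.Lib.Helper2.Grpd.i_comp_comp G (p1 ≫ a) (p2 ≫ W.ι) hm _
  -- Claim 3
  have hrange : Set.range θ = lam ⁻¹' (W : Set G.R) := by
    apply Set.Subset.antisymm
    · rintro _ ⟨x, rfl⟩
      show lam (θ x) ∈ W
      have : lam (θ x) = (θ ≫ lam) x := rfl
      rw [this, hθlam]
      exact (p2 x).2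
    · intro x hx
      let V' : (pullback (a ≫ G.t) G.t).Opens := lam ⁻¹ᵁ W
      have hrg : Set.range ⇑(V'.ι ≫ lam) ⊆ Set.range ⇑W.ι := by
        rintro _ ⟨y, rfl⟩
        rw [Scheme.Opens.range_ι]
        exact y.2
      let w' : (V' : Scheme) ⟶ W := IsOpenImmersion.lift W.ι (V'.ι ≫ lam) hrg
      have hw' : w' ≫ W.ι = V'.ι ≫ lam := IsOpenImmersion.lift_fac _ _ _
      have hμ : (V'.ι ≫ q1) ≫ a ≫ G.s = w' ≫ W.ι ≫ G.t := by
        rw [← Category.assoc w', hw', Category.assoc V'.ι lam,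
          Groth.Agent.Lib.Helper2.Grpd.comp_t]
        simp only [Category.assoc, G.i_t]
      let μ : (V' : Scheme) ⟶ pullback (a ≫ G.s) (W.ι ≫ G.t) := pullback.lift (V'.ι ≫ q1) w' hμ
      have hμ1 : μ ≫ p1 = V'.ι ≫ q1 := pullback.lift_fst _ _ _
      have hμ2 : μ ≫ p2 = w' := pullback.lift_snd _ _ _
      have hμθ : μ ≫ θ = V'.ι := by
        apply pullback.hom_ext
        · show (μ ≫ θ) ≫ q1 = V'.ι ≫ q1
          rw [Category.assoc, hθ1, hμ1]
        · show (μ ≫ θ) ≫ q2 = V'.ι ≫ q2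
          rw [Category.assoc, hθ2, hmdef, Groth.Agent.Lib.Helper2.Grpd.precomp_comp]
          have e1 : μ ≫ p1 ≫ a = (V'.ι ≫ q1) ≫ a := by rw [← Category.assoc, hμ1]
          have e2 : μ ≫ p2 ≫ W.ι = V'.ι ≫ lam := by rw [← Category.assoc, hμ2, hw']
          rw [Groth.Agent.Lib.Helper2.Grpd.comp_congr G _ e1 e2]
          have e3 : V'.ι ≫ lam = Groth.Agent.Lib.Helper2.Grpd.comp G
              (((V'.ι ≫ q1) ≫ a) ≫ G.i) (V'.ι ≫ q2) (by
                rw [Category.assoc _ G.i, G.i_s, Category.assoc, Category.assoc, Category.assoc]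
                rw [← Category.assoc q1, hq]) := by
            rw [Groth.Agent.Lib.Helper2.Grpd.precomp_comp]
            exact Groth.Agent.Lib.Helper2.Grpd.comp_congr G _
              (by simp only [Category.assoc]) rfl
          rw [Groth.Agent.Lib.Helper2.Grpd.comp_congr G _ rfl e3]
          exact Groth.Agent.Lib.Helper2.Grpd.comp_i_comp G ((V'.ι ≫ q1) ≫ a) (V'.ι ≫ q2) _ _
      refine ⟨μ ⟨x, hx⟩, ?_⟩
      have : θ (μ ⟨x, hx⟩) = (μ ≫ θ) ⟨x, hx⟩ := rfl
      rw [this, hμθ]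
      rfl
  -- Claim 4
  have hmθ : m = θ ≫ q2 := hθ2.symm
  have hrm : Set.range ⇑m = q2 '' (Set.range θ) := by
    rw [hmθ]
    ext y
    constructor
    · rintro ⟨x, rfl⟩
      exact ⟨θ x, ⟨x, rfl⟩, rfl⟩
    · rintro ⟨_, ⟨x, rfl⟩, rfl⟩
      exact ⟨x, rfl⟩
  rw [hrm, hrange]
  have hopen : IsOpenMap q2 := by
    have : UniversallyOpen (a ≫ G.t) := inferInstance
    have : UniversallyOpen q2 := inferInstance
    exact q2.isOpenMap
  exact hopen _ (W.isOpen.preimage lam.continuous)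

end Groth.Agent.S1889
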