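import Groth.Statements.S1891
import Mathlib
import Groth.Agent.Lib.Helper2Grpd
import Groth.Agent.S1889

set_option autoImplicit false
universe u
open CategoryTheory CategoryTheory.Limits AlgebraicGeometry
open Grpd

namespace Groth.Agent.S1891

section Dev
open Groth.Agent.Lib.Helper2.Grpd
variable {S : Scheme.{u}} (G : Grpd.GroupoidScheme S) {T : Scheme.{u}}

/-- an idempotent arrow is an identity -/
lemma eq_e_of_comp_self (ε : T ⟶ G.R) (h : ε ≫ G.s = ε ≫ G.t) (hh : comp G ε ε h = ε) :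
    ε = ε ≫ G.s ≫ G.e := by
  have h1 : (ε ≫ G.i) ≫ G.s = comp G ε ε h ≫ G.t := by rw [comp_t, Category.assoc, G.i_s]
  have e1 := i_comp_comp G ε ε h h1
  have h2 : (ε ≫ G.i) ≫ G.s = ε ≫ G.t := by rw [Category.assoc, G.i_s]
  have e2 : comp G (ε ≫ G.i) (comp G ε ε h) h1 = comp G (ε ≫ G.i) ε h2 :=
    comp_congr G _ rfl hh
  rw [e2, i_comp] at e1
  exact e1.symm

/-- a left inverse is the inverse -/
lemma eq_inv_of_comp_eq_e (β γ : T ⟶ G.R) (h : β ≫ G.s = γ ≫ G.t)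
    (hh : comp G β γ h = γ ≫ G.s ≫ G.e) : β = γ ≫ G.i := by
  have h1 : comp G β γ h ≫ G.s = (γ ≫ G.i) ≫ G.t := by rw [comp_s, Category.assoc, G.i_t]
  have e1 := comp_comp_i G β γ h h1
  rw [← e1]
  have h2 : (γ ≫ G.s ≫ G.e) ≫ G.s = (γ ≫ G.i) ≫ G.t := by
    rw [Category.assoc, Category.assoc, G.e_s, Category.comp_id, Category.assoc, G.i_t]
  rw [comp_congr G h1 hh rfl]
  exact e_comp G (γ ≫ G.i) _ (by rw [Category.assoc, ← Category.assoc G.i, G.i_t]) _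

variable {G₁ G₂ : Grpd.GroupoidScheme S} (a : Grpd.GroupoidScheme.Hom G₁ G₂)

lemma hom_comp (α β : T ⟶ G₁.R) (h : α ≫ G₁.s = β ≫ G₁.t) :
    comp G₁ α β h ≫ a.fR = comp G₂ (α ≫ a.fR) (β ≫ a.fR)
      (by rw [Category.assoc, Category.assoc, a.comm_s, a.comm_t, ← Category.assoc,
        ← Category.assoc, h]) :=
  a.comm_c α β h

lemma hom_e : G₁.e ≫ a.fR = a.fU ≫ G₂.e := by
  set ε := G₁.e ≫ a.fR with hε
  have hs : ε ≫ G₂.s = a.fU := by
    rw [hε, Category.assoc, a.comm_s, ← Category.assoc, G₁.e_s, Category.id_comp]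
  have ht : ε ≫ G₂.t = a.fU := by
    rw [hε, Category.assoc, a.comm_t, ← Category.assoc, G₁.e_t, Category.id_comp]
  have h1 : G₁.e ≫ G₁.s = G₁.e ≫ G₁.t := by rw [G₁.e_s, G₁.e_t]
  have h2 : comp G₁ G₁.e G₁.e h1 = G₁.e :=
    comp_e G₁ G₁.e G₁.e (by rw [← Category.assoc, G₁.e_s, Category.id_comp]) h1
  have h3 : comp G₂ ε ε (hs.trans ht.symm) = ε := by
    have := hom_comp a G₁.e G₁.e h1
    rw [h2] at this
    exact this.symm
  have := eq_e_of_comp_self G₂ ε (hs.trans ht.symm) h3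
  rw [this, ← Category.assoc, hs]

lemma hom_i : G₁.i ≫ a.fR = a.fR ≫ G₂.i := by
  have h1 : (𝟙 G₁.R ≫ G₁.i) ≫ G₁.s = 𝟙 G₁.R ≫ G₁.t := by
    rw [Category.id_comp, Category.id_comp, G₁.i_s]
  have e1 := i_comp G₁ (𝟙 G₁.R) h1
  have e2 := hom_comp a _ _ h1
  rw [e1] at e2
  simp only [Category.id_comp] at e2
  have h3 : (G₁.i ≫ a.fR) ≫ G₂.s = a.fR ≫ G₂.t := by
    rw [Category.assoc, a.comm_s, ← Category.assoc, G₁.i_s, a.comm_t]
  apply eq_inv_of_comp_eq_e G₂ (G₁.i ≫ a.fR) a.fR h3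
  have e3 : comp G₂ (G₁.i ≫ a.fR) a.fR h3 = (G₁.s ≫ G₁.e) ≫ a.fR := by
    rw [e2]
  rw [e3, Category.assoc, hom_e, ← Category.assoc, ← a.comm_s, Category.assoc]

theorem main (S : Scheme.{u}) (G₁ G₂ : Grpd.GroupoidScheme S) (k : Type u) [Field k]
    (eU : G₂.U ≅ Spec (CommRingCat.of k)) (a : Grpd.GroupoidScheme.Hom G₁ G₂) [IsIso a.fU]
    (hopen : IsOpen (Set.range ⇑a.fR)) : IsClosed (Set.range ⇑a.fR) := by
  rw [← closure_subset_iff_isClosed]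
  intro r hr
  let W : G₂.R.Opens := ⟨Set.range a.fR, hopen⟩
  let Z := Spec (G₂.R.residueField r)
  let aZ : Z ⟶ G₂.R := G₂.R.fromSpecResidueField r
  have hO := Groth.Agent.S1889.result S G₂ k eU W Z aZ
  set p1 := pullback.fst (aZ ≫ G₂.s) (W.ι ≫ G₂.t) with hp1
  set p2 := pullback.snd (aZ ≫ G₂.s) (W.ι ≫ G₂.t) with hp2
  have hm : (p1 ≫ aZ) ≫ G₂.s = (p2 ≫ W.ι) ≫ G₂.t :=
    (Category.assoc _ _ _).trans (pullback.condition.trans (Category.assoc _ _ _).symm)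
  set m := comp G₂ (p1 ≫ aZ) (p2 ≫ W.ι) hm with hmdef
  have hO' : IsOpen (Set.range m) := hO
  -- identity lies in W
  have he : G₂.e = inv a.fU ≫ G₁.e ≫ a.fR := by rw [hom_e, IsIso.inv_hom_id_assoc]
  have hεW : Set.range (aZ ≫ G₂.s ≫ G₂.e) ⊆ Set.range W.ι := by
    rw [Scheme.Opens.range_ι]
    rintro _ ⟨z, rfl⟩
    show (aZ ≫ G₂.s ≫ G₂.e) z ∈ Set.range a.fR
    rw [he]
    simp only [Scheme.Hom.comp_apply]
    exact ⟨_, rfl⟩
  let w0 : Z ⟶ W.toScheme := IsOpenImmersion.lift W.ι _ hεW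
  have hw0 : w0 ≫ W.ι = aZ ≫ G₂.s ≫ G₂.e := IsOpenImmersion.lift_fac _ _ _
  let γ : Z ⟶ pullback (aZ ≫ G₂.s) (W.ι ≫ G₂.t) := pullback.lift (𝟙 Z) w0 (by
    rw [Category.id_comp, ← Category.assoc w0, hw0, Category.assoc, Category.assoc, G₂.e_t,
      Category.comp_id])
  have hγm : γ ≫ m = aZ := by
    rw [hmdef, precomp_comp]
    have e1 : γ ≫ p1 ≫ aZ = aZ := by
      rw [← Category.assoc, hp1, pullback.lift_fst, Category.id_comp]
    have e2 : γ ≫ p2 ≫ W.ι = aZ ≫ G₂.s ≫ G₂.e := by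
      rw [← Category.assoc, hp2, pullback.lift_snd, hw0]
    rw [comp_congr G₂ _ e1 e2]
    exact comp_e G₂ aZ _ rfl _
  have hZne : Nonempty Z := inferInstance
  obtain ⟨z0⟩ := hZne
  have hrO : r ∈ Set.range m := by
    refine ⟨γ z0, ?_⟩
    rw [← Scheme.Hom.comp_apply, hγm]
    exact Scheme.fromSpecResidueField_apply _ _
  obtain ⟨x, hxO, hxW⟩ := mem_closure_iff.mp hr _ hO' hrO
  obtain ⟨z, rfl⟩ := hxO
  obtain ⟨y, hy⟩ := hxW
  obtain ⟨q, hq1, hq2⟩ := Scheme.Pullback.exists_preimage_pullback (f := m) (g := a.fR) z y hy.symm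
  set π1 := pullback.fst m a.fR with hπ1
  set υ := pullback.snd m a.fR with hυ
  have hQ : π1 ≫ m = υ ≫ a.fR := pullback.condition
  let ω : pullback m a.fR ⟶ G₂.R := π1 ≫ p2 ≫ W.ι
  have hωW : ω q ∈ Set.range a.fR := by
    show (π1 ≫ p2 ≫ W.ι) q ∈ Set.range a.fR
    rw [Scheme.Hom.comp_apply, Scheme.Hom.comp_apply]
    exact (p2 (π1 q)).2
  obtain ⟨y', hy'⟩ := hωW
  obtain ⟨τ, hτ1, hτ2⟩ :=
    Scheme.Pullback.exists_preimage_pullback (f := ω) (g := a.fR) q y' hy'.symm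
  set π := pullback.fst ω a.fR with hπ
  set w' := pullback.snd ω a.fR with hw'def
  have hw' : π ≫ ω = w' ≫ a.fR := pullback.condition
  let x' : pullback ω a.fR ⟶ G₁.R := π ≫ υ
  let rT : pullback ω a.fR ⟶ G₂.R := π ≫ π1 ≫ p1 ≫ aZ
  have hrω : rT ≫ G₂.s = (π ≫ ω) ≫ G₂.t := by
    show (π ≫ π1 ≫ p1 ≫ aZ) ≫ G₂.s = (π ≫ π1 ≫ p2 ≫ W.ι) ≫ G₂.t
    simp only [Category.assoc]
    have := hm
    simp only [Category.assoc] at this
    rw [this]
  have hx' : comp G₂ rT (π ≫ ω) hrω = x' ≫ a.fR := by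
    have e0 : (π ≫ π1) ≫ m = x' ≫ a.fR := by
      rw [Category.assoc, hQ, ← Category.assoc]
    have e0' : (π ≫ π1) ≫ comp G₂ (p1 ≫ aZ) (p2 ≫ W.ι) hm = x' ≫ a.fR := e0
    rw [← e0', precomp_comp]
    exact comp_congr G₂ _ (by simp only [rT, Category.assoc]) (by simp only [ω, Category.assoc])
  have hs : x' ≫ G₁.s = w' ≫ G₁.s := by
    rw [← cancel_mono a.fU]
    calc (x' ≫ G₁.s) ≫ a.fU = x' ≫ (G₁.s ≫ a.fU) := Category.assoc _ _ _
      _ = x' ≫ (a.fR ≫ G₂.s) := by rw [a.comm_s]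
      _ = (x' ≫ a.fR) ≫ G₂.s := (Category.assoc _ _ _).symm
      _ = (π ≫ ω) ≫ G₂.s := by rw [← hx', comp_s]
      _ = (w' ≫ a.fR) ≫ G₂.s := by rw [hw']
      _ = w' ≫ (a.fR ≫ G₂.s) := Category.assoc _ _ _
      _ = w' ≫ (G₁.s ≫ a.fU) := by rw [a.comm_s]
      _ = (w' ≫ G₁.s) ≫ a.fU := (Category.assoc _ _ _).symm
  have hc : x' ≫ G₁.s = (w' ≫ G₁.i) ≫ G₁.t := by rw [hs, Category.assoc, G₁.i_t]
  let ρ' : pullback ω a.fR ⟶ G₁.R := comp G₁ x' (w' ≫ G₁.i) hc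
  have hρ' : ρ' ≫ a.fR = rT := by
    show comp G₁ x' (w' ≫ G₁.i) hc ≫ a.fR = rT
    rw [hom_comp]
    have e2 : (w' ≫ G₁.i) ≫ a.fR = (π ≫ ω) ≫ G₂.i := by
      rw [Category.assoc, hom_i, ← Category.assoc, ← hw']
    rw [comp_congr G₂ _ hx'.symm e2]
    exact comp_comp_i G₂ rT (π ≫ ω) hrω _
  refine ⟨ρ' τ, ?_⟩
  rw [← Scheme.Hom.comp_apply, hρ']
  show (π ≫ π1 ≫ p1 ≫ aZ) τ = r
  simp only [Scheme.Hom.comp_apply]
  exact Scheme.fromSpecResidueField_apply _ _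

end Dev

/-- Let (U, R₁, s₁, t₁, c₁) and (U, R₂, s₂, t₂, c₂) be groupoid schemes over S on the same U = Spec k, k
a field, and a : R₁ → R₂ a morphism of groupoid schemes over the identity of U (here: over an
isomorphism on objects). If a(R₁) is open in R₂ then it is closed. (A groupoid scheme carries U, R,
s, t, c, e, i over S with the groupoid axioms on T-points; 'finite locally free' is finite, flat and
locally of finite presentation; C ⊂ Γ(U) is the ring of functions a with s♯(a) = t♯(a) and M = Spec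
C.) -/
theorem result (S : Scheme.{u}) (G₁ G₂ : Grpd.GroupoidScheme S) (k : Type u) [Field k] (eU : G₂.U ≅ Spec (CommRingCat.of k)) (a : Grpd.GroupoidScheme.Hom G₁ G₂) [IsIso a.fU] (hopen : IsOpen (Set.range ⇑a.fR)) : IsClosed (Set.range ⇑a.fR) := by
  exact main S G₁ G₂ k eU a hopen

end Groth.Agent.S1891
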