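import Groth.Statements.S7461
import Mathlib
import Groth.Agent.S1880
import Groth.Agent.S1891

set_option autoImplicit false
universe u
open CategoryTheory CategoryTheory.Limits AlgebraicGeometry
open Grpd

namespace Groth.Agent.S7461

section Dev
open CategoryTheory CategoryTheory.Limits AlgebraicGeometry
open Groth.Agent.Lib.Helper2.Grpd
variable {S : Scheme.{u}} (G : Grpd.GroupoidScheme S)

theorem i_i : G.i ≫ G.i = 𝟙 G.R := by
  have h : (𝟙 G.R) ≫ G.s = ((𝟙 G.R) ≫ G.i) ≫ G.t := by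
    rw [Category.id_comp, Category.id_comp, G.i_t]
  have hh := comp_i G (𝟙 G.R) h
  have := Groth.Agent.S1891.eq_inv_of_comp_eq_e G (𝟙 G.R) ((𝟙 G.R) ≫ G.i) h (by
    rw [hh, Category.id_comp, Category.id_comp, ← Category.assoc, G.i_s])
  rw [Category.id_comp] at this
  exact this.symm

instance : IsIso G.i := ⟨G.i, i_i G, i_i G⟩

theorem main [IsFinite G.s] [Flat G.s] [LocallyOfFinitePresentation G.s] [IsFinite G.t] [Flat G.t]
    [LocallyOfFinitePresentation G.t] :
    ∃ V : ℕ → G.U.Opens, V 0 = ⊥ ∧ (∀ r r', r ≠ r' → Disjoint (V r) (V r')) ∧ (⨆ r, V r) = ⊤ ∧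
      ∀ r, G.s ⁻¹ᵁ V r = G.t ⁻¹ᵁ V r ∧ Mor2.IsFinLocFreeOfDeg r (G.s ∣_ V r) ∧
        Mor2.IsFinLocFreeOfDeg r (G.t ∣_ V r) := by
  have hlc := Scheme.Hom.isLocallyConstant_finrank G.s
  let V : ℕ → G.U.Opens := fun r => ⟨G.s.finrank ⁻¹' {r}, hlc.isOpen_fiber r⟩
  have hmemV : ∀ r (u : G.U), u ∈ V r ↔ G.s.finrank u = r := fun r u => Iff.rfl
  have hpos : ∀ u : G.U, 1 ≤ G.s.finrank u := by
    intro u
    have := Scheme.Hom.one_le_finrank_map G.s (G.e u)
    rwa [← Scheme.Hom.comp_apply, G.e_s] at this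
  have hinv : ∀ ρ : G.R, G.s.finrank (G.s ρ) = G.s.finrank (G.t ρ) := by
    intro ρ
    have h1 := Scheme.Hom.finrank_of_isPullback _ _ _ _ (IsPullback.of_hasPullback G.s G.t) ρ
    have h2 := Scheme.Hom.finrank_of_isPullback _ _ _ _ (Groth.Agent.S1880.isPullback_c G) ρ
    rw [← h1, ← h2]
  have hts : G.t = G.i ≫ G.s := G.i_s.symm
  have hfr : G.t.finrank = G.s.finrank := by
    rw [hts]
    exact Scheme.Hom.finrank_comp_left_of_isIso G.i G.s
  refine ⟨V, ?_, ?_, ?_, ?_⟩
  · rw [eq_bot_iff]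
    intro u hu
    have := hpos u
    rw [(hmemV 0 u).mp hu] at this
    omega
  · intro r r' hrr'
    rw [disjoint_iff, eq_bot_iff]
    rintro u ⟨h1, h2⟩
    exact (hrr' (((hmemV r u).mp h1).symm.trans ((hmemV r' u).mp h2))).elim
  · rw [eq_top_iff]
    intro u _
    exact TopologicalSpace.Opens.mem_iSup.mpr ⟨G.s.finrank u, rfl⟩
  · intro r
    refine ⟨?_, ⟨⟨inferInstance, inferInstance, inferInstance⟩, ?_⟩,
      ⟨⟨inferInstance, inferInstance, inferInstance⟩, ?_⟩⟩
    · ext ρ
      show G.s.finrank (G.s ρ) = r ↔ G.s.finrank (G.t ρ) = r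
      rw [hinv ρ]
    · intro y
      rw [Scheme.Hom.finrank_of_isPullback _ _ _ _ (isPullback_morphismRestrict G.s (V r)).flip y]
      exact y.2
    · intro y
      rw [Scheme.Hom.finrank_of_isPullback _ _ _ _ (isPullback_morphismRestrict G.t (V r)).flip y, hfr]
      exact y.2
end Dev

/-- Let (U, R, s, t, c) be a groupoid scheme over S with s and t finite locally free. Then U is a
disjoint union of R-invariant open subschemes U_r, r = 1, 2, 3, ..., such that s and t restricted
over U_r are finite locally free of rank r. Here the decomposition is indexed by all natural numbers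
with U_0 empty, R-invariance of U_r means s^{-1}(U_r) = t^{-1}(U_r), and 'finite locally free of
rank r' means finite, flat, locally of finite presentation with rank function constant equal to r.
(A groupoid scheme carries U, R, s, t, c, e, i over S with the groupoid axioms on T-points; c is
defined on the fibre product of s and t and sends a pair (a, b) with s(a) = t(b) to a composed with
b.) -/
theorem result (S : Scheme.{u}) (G : Grpd.GroupoidScheme S) [IsFinite G.s] [Flat G.s] [LocallyOfFinitePresentation G.s] [IsFinite G.t] [Flat G.t] [LocallyOfFinitePresentation G.t] : ∃ V : ℕ → G.U.Opens, V 0 = ⊥ ∧ (∀ r r', r ≠ r' → Disjoint (V r) (V r')) ∧ (⨆ r, V r) = ⊤ ∧ ∀ r, G.s ⁻¹ᵁ V r = G.t ⁻¹ᵁ V r ∧ Mor2.IsFinLocFreeOfDeg r (G.s ∣_ V r) ∧ Mor2.IsFinLocFreeOfDeg r (G.t ∣_ V r) := by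
  exact main G

end Groth.Agent.S7461
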