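import Groth.Statements.S7486
import Mathlib
import Groth.Agent.S1880

set_option autoImplicit false
universe u
open CategoryTheory CategoryTheory.Limits AlgebraicGeometry
open Grpd

namespace Groth.Agent.S7486

section Dev
open CategoryTheory CategoryTheory.Limits AlgebraicGeometry TensorProduct
theorem li_of_isPushout {R S T P : CommRingCat.{u}} {f : R ⟶ S} {g : R ⟶ T}
    {inl : S ⟶ P} {inr : T ⟶ P} (h : IsPushout f g inl inr) {I : Type u} (y : I → S)
    (hb : letI := f.hom.toAlgebra; ∃ b : Module.Basis I R S, ∀ i, b i = y i) (u w : I →₀ T)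
    (huw : (u.sum fun i β => inr.hom β * inl.hom (y i)) =
      (w.sum fun i β => inr.hom β * inl.hom (y i))) : u = w := by
  algebraize [f.hom, g.hom, inl.hom, inr.hom, inl.hom.comp f.hom]
  have : IsScalarTower R T P := .of_algebraMap_eq' <| congr($(h.1.1).hom)
  have h1 : Algebra.IsPushout R S T P := CommRingCat.isPushout_iff_isPushout.mp h
  have h2 : Algebra.IsPushout R T S P := h1.symm
  obtain ⟨b, hby⟩ := hb
  let e : T ⊗[R] S ≃ₐ[T] P := Algebra.IsPushout.equiv R T S P
  let bP : Module.Basis I T P := (Algebra.TensorProduct.basis T b).map e.toLinearEquiv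
  have hbP : ∀ i, bP i = inl.hom (y i) := by
    intro i
    simp only [bP, Module.Basis.map_apply, Algebra.TensorProduct.basis_apply, e]
    rw [← hby]
    show (Algebra.IsPushout.equiv R T S P) (1 ⊗ₜ[R] b i) = algebraMap S P (b i)
    rw [Algebra.IsPushout.equiv_tmul, map_one, one_mul]
  have h3 : Finsupp.linearCombination T bP u = Finsupp.linearCombination T bP w := by
    simp only [Finsupp.linearCombination_apply, hbP, Algebra.smul_def]
    exact huw
  have h4 := congrArg bP.repr h3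
  simpa using h4


section Core
variable {A B D : Type u} [CommRing A] [CommRing B] [CommRing D] {I : Type u}
  (σ τ : A →+* B) (ε : B →+* A) (p0 p1 c : B →+* D)
  (hεσ : ∀ a, ε (σ a) = a) (hετ : ∀ a, ε (τ a) = a)
  (hcτ : ∀ a, c (τ a) = p0 (τ a)) (hcσ : ∀ a, c (σ a) = p1 (σ a)) (hp : ∀ a, p0 (σ a) = p1 (τ a))
  (x : I → A)
  (LI_B : ∀ f g : I →₀ A, (f.sum fun i a => σ a * τ (x i)) = (g.sum fun i a => σ a * τ (x i)) → f = g)
  (SP_B : ∀ β : B, ∃ f : I →₀ A, β = f.sum fun i a => σ a * τ (x i))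
  (LI_D : ∀ f g : I →₀ B, (f.sum fun i β => p1 β * p0 (τ (x i))) =
    (g.sum fun i β => p1 β * p0 (τ (x i))) → f = g)

include hcτ hcσ hp LI_D in
/-- coefficients of `τ a` are invariant. -/
theorem coeff_invariant (a : A) (f : I →₀ A) (hf : τ a = f.sum fun i a => σ a * τ (x i)) (i : I) :
    σ (f i) = τ (f i) := by
  have h1 : c (τ a) = (f.mapRange σ (map_zero σ)).sum fun i β => p1 β * p0 (τ (x i)) := by
    rw [hf, map_finsuppSum, Finsupp.sum_mapRange_index (by intro i; simp)]
    refine Finsupp.sum_congr fun i _ => ?_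
    rw [map_mul, hcσ, hcτ]
  have h2 : p0 (τ a) = (f.mapRange τ (map_zero τ)).sum fun i β => p1 β * p0 (τ (x i)) := by
    rw [hf, map_finsuppSum, Finsupp.sum_mapRange_index (by intro i; simp)]
    refine Finsupp.sum_congr fun i _ => ?_
    rw [map_mul, hp]
  rw [hcτ, h2] at h1
  have := LI_D _ _ h1
  have h3 := DFunLike.congr_fun this i
  simpa using h3.symm


include hετ hεσ hcτ hcσ hp LI_D SP_B in
/-- every `a` is a `C`-combination of the `x i`. -/
theorem exists_repr (a : A) :
    ∃ f : I →₀ A, (∀ i, σ (f i) = τ (f i)) ∧ a = f.sum fun i r => r * x i := by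
  obtain ⟨f, hf⟩ := SP_B (τ a)
  refine ⟨f, coeff_invariant σ τ p0 p1 c hcτ hcσ hp x LI_D a f hf, ?_⟩
  have := congrArg ε hf
  rw [hετ, map_finsuppSum] at this
  rw [this]
  refine Finsupp.sum_congr fun i _ => ?_
  rw [map_mul, hεσ, hετ]

include hεσ LI_B in
theorem linearIndependent_x :
    LinearIndependent (RingHom.eqLocus σ τ) x := by
  rw [linearIndependent_iff]
  intro l hl
  have hl' : (l.sum fun i r => (r : A) * x i) = 0 := by
    rw [Finsupp.linearCombination_apply] at hl
    rw [← hl]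
    refine Finsupp.sum_congr fun i _ => ?_
    rfl
  let f : I →₀ A := l.mapRange (fun r : RingHom.eqLocus σ τ => (r : A)) rfl
  have h1 : (f.sum fun i a => σ a * τ (x i)) = ((0 : I →₀ A).sum fun i a => σ a * τ (x i)) := by
    rw [Finsupp.sum_zero_index, Finsupp.sum_mapRange_index (by intro i; simp)]
    have := congrArg τ hl'
    rw [map_zero, map_finsuppSum] at this
    rw [← this]
    refine Finsupp.sum_congr fun i _ => ?_
    rw [map_mul]
    congr 1
    exact (l i).2
  have h2 := LI_B _ _ h1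
  ext i
  have := DFunLike.congr_fun h2 i
  simpa [f] using this

include hετ hεσ hcτ hcσ hp LI_D SP_B in
theorem span_x : ⊤ ≤ Submodule.span (RingHom.eqLocus σ τ) (Set.range x) := by
  intro a _
  obtain ⟨f, hf1, hf2⟩ := exists_repr σ τ ε p0 p1 c hεσ hετ hcτ hcσ hp x SP_B LI_D a
  rw [hf2]
  refine Submodule.sum_mem _ fun i _ => ?_
  show f i * x i ∈ _
  have : f i * x i = (⟨f i, hf1 i⟩ : RingHom.eqLocus σ τ) • x i := rfl
  rw [this]
  exact Submodule.smul_mem _ _ (Submodule.subset_span ⟨i, rfl⟩)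

include hετ hεσ hcτ hcσ hp LI_D SP_B LI_B in
theorem bijective_phi (φ : A ⊗[RingHom.eqLocus σ τ] A →+ B)
    (hφ : ∀ a a' : A, φ (a ⊗ₜ a') = τ a * σ a') : Function.Bijective φ := by
  have hrepr : ∀ z : A ⊗[RingHom.eqLocus σ τ] A, ∃ g : I →₀ A,
      z = g.sum fun i a => x i ⊗ₜ[RingHom.eqLocus σ τ] a := by
    intro z
    induction z using TensorProduct.induction_on with
    | zero => exact ⟨0, by simp⟩
    | tmul a a' =>
      obtain ⟨f, hf1, hf2⟩ := exists_repr σ τ ε p0 p1 c hεσ hετ hcτ hcσ hp x SP_B LI_D a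
      refine ⟨f.mapRange (fun r => r * a') (zero_mul a'), ?_⟩
      rw [Finsupp.sum_mapRange_index (by intro i; simp)]
      conv_lhs => rw [hf2]
      rw [Finsupp.sum, TensorProduct.sum_tmul]
      refine Finset.sum_congr rfl fun i _ => ?_
      show (f i * x i) ⊗ₜ[RingHom.eqLocus σ τ] a' = x i ⊗ₜ[RingHom.eqLocus σ τ] (f i * a')
      have e1 : f i * x i = (⟨f i, hf1 i⟩ : RingHom.eqLocus σ τ) • x i := rfl
      have e2 : f i * a' = (⟨f i, hf1 i⟩ : RingHom.eqLocus σ τ) • a' := rfl
      rw [e1, e2, TensorProduct.smul_tmul]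
    | add z w hz hw =>
      obtain ⟨g1, rfl⟩ := hz
      obtain ⟨g2, rfl⟩ := hw
      refine ⟨g1 + g2, ?_⟩
      rw [Finsupp.sum_add_index' (by intro i; simp) (by intro i a b; rw [TensorProduct.tmul_add])]
  have hφsum : ∀ g : I →₀ A, φ (g.sum fun i a => x i ⊗ₜ[RingHom.eqLocus σ τ] a) =
      g.sum fun i a => σ a * τ (x i) := by
    intro g
    rw [map_finsuppSum]
    refine Finsupp.sum_congr fun i _ => ?_
    rw [hφ, mul_comm]
  constructor
  · rw [injective_iff_map_eq_zero]
    intro z hz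
    obtain ⟨g, rfl⟩ := hrepr z
    rw [hφsum] at hz
    have h0 : g = 0 := LI_B g 0 (by rw [hz, Finsupp.sum_zero_index])
    rw [h0, Finsupp.sum_zero_index]
  · intro β
    obtain ⟨g, hg⟩ := SP_B β
    exact ⟨g.sum fun i a => x i ⊗ₜ[RingHom.eqLocus σ τ] a, by rw [hφsum, hg]⟩

end Core

theorem main (S : Scheme.{u}) (G : Grpd.GroupoidScheme S) [IsAffine G.U] [IsAffine G.R]
    (I : Type u) (x : I → Γ(G.U, ⊤))
    (hB : letI := G.s.appTop.hom.toAlgebra;
      ∃ b : Module.Basis I Γ(G.U, ⊤) Γ(G.R, ⊤), ∀ i, b i = G.t.appTop.hom (x i)) :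
    (∃ b : Module.Basis I G.invariants Γ(G.U, ⊤), ∀ i, b i = x i) ∧
      (letI := (G.s.appTop.hom.comp G.invariants.subtype).toAlgebra;
        ∀ φ : TensorProduct G.invariants Γ(G.U, ⊤) Γ(G.U, ⊤) →ₗ[G.invariants] Γ(G.R, ⊤),
          (∀ a a' : Γ(G.U, ⊤), φ (a ⊗ₜ[G.invariants] a') = G.t.appTop.hom a * G.s.appTop.hom a') →
            Function.Bijective φ) := by
  let σ := G.s.appTop.hom
  let τ := G.t.appTop.hom
  let ε := G.e.appTop.hom
  let p0 := (pullback.fst G.s G.t).appTop.hom
  let p1 := (pullback.snd G.s G.t).appTop.hom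
  let c := G.c.appTop.hom
  have hεσ : ∀ a, ε (σ a) = a := by
    intro a
    have := congrArg (fun φ : G.U ⟶ G.U => φ.appTop.hom a) G.e_s
    simpa [Scheme.Hom.comp_appTop] using this
  have hετ : ∀ a, ε (τ a) = a := by
    intro a
    have := congrArg (fun φ : G.U ⟶ G.U => φ.appTop.hom a) G.e_t
    simpa [Scheme.Hom.comp_appTop] using this
  have hcτ : ∀ a, c (τ a) = p0 (τ a) := by
    intro a
    have := congrArg (fun φ : pullback G.s G.t ⟶ G.U => φ.appTop.hom a) (Groth.Agent.S1880.c_t G)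
    simpa [Scheme.Hom.comp_appTop] using this
  have hcσ : ∀ a, c (σ a) = p1 (σ a) := by
    intro a
    have := congrArg (fun φ : pullback G.s G.t ⟶ G.U => φ.appTop.hom a) (Groth.Agent.S1880.c_s G)
    simpa [Scheme.Hom.comp_appTop] using this
  have hp : ∀ a, p0 (σ a) = p1 (τ a) := by
    intro a
    have := congrArg (fun φ : pullback G.s G.t ⟶ G.U => φ.appTop.hom a)
      (pullback.condition (f := G.s) (g := G.t))
    simpa [Scheme.Hom.comp_appTop] using this
  have hP1 := isPushout_appTop_of_isPullback (IsPullback.of_hasPullback G.s G.t)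
  have LI_D : ∀ f g : I →₀ Γ(G.R, ⊤), (f.sum fun i β => p1 β * p0 (τ (x i))) =
      (g.sum fun i β => p1 β * p0 (τ (x i))) → f = g := by
    intro f g hfg
    exact li_of_isPushout hP1 (fun i => τ (x i)) hB f g hfg
  have hBB := hB
  letI := G.s.appTop.hom.toAlgebra
  obtain ⟨b, hb⟩ := hBB
  have hlc : ∀ f : I →₀ Γ(G.U, ⊤), Finsupp.linearCombination Γ(G.U, ⊤) b f =
      f.sum fun i a => σ a * τ (x i) := by
    intro f
    rw [Finsupp.linearCombination_apply]
    refine Finsupp.sum_congr fun i _ => ?_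
    rw [hb, Algebra.smul_def]
    rfl
  have LI_B : ∀ f g : I →₀ Γ(G.U, ⊤), (f.sum fun i a => σ a * τ (x i)) =
      (g.sum fun i a => σ a * τ (x i)) → f = g := by
    intro f g hfg
    rw [← hlc, ← hlc] at hfg
    have := congrArg b.repr hfg
    simpa using this
  have SP_B : ∀ β : Γ(G.R, ⊤), ∃ f : I →₀ Γ(G.U, ⊤), β = f.sum fun i a => σ a * τ (x i) := by
    intro β
    refine ⟨b.repr β, ?_⟩
    rw [← hlc, Module.Basis.linearCombination_repr]
  refine ⟨?_, ?_⟩
  · have hli := linearIndependent_x σ τ ε hεσ x LI_B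
    have hsp := span_x σ τ ε p0 p1 c hεσ hετ hcτ hcσ hp x SP_B LI_D
    exact ⟨Module.Basis.mk hli hsp, fun i => Module.Basis.mk_apply hli hsp i⟩
  · intro φ hφ
    exact bijective_phi σ τ ε p0 p1 c hεσ hετ hcτ hcσ hp x LI_B SP_B LI_D φ.toAddMonoidHom hφ
end Dev

/-- Let (U, R, s, t, c) be a groupoid scheme over S with U = Spec A and R = Spec B affine (A, B the
rings of global functions), and let x_i, i in I, be elements of A such that B is free as an A-module
through s^# with basis the elements t^#(x_i). Let C be the subring of R-invariant functions (those a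
with s^#(a) = t^#(a)). Then the x_i form a basis of A as a C-module, and the C-linear map A (x)_C A
-> B sending a (x) a' to t^#(a) s^#(a') is bijective (B carries the C-module structure through s^#).
(A groupoid scheme carries U, R, s, t, c, e, i over S with the groupoid axioms on T-points; c is
defined on the fibre product of s and t and sends a pair (a, b) with s(a) = t(b) to a composed with
b.) -/
theorem result (S : Scheme.{u}) (G : Grpd.GroupoidScheme S) [IsAffine G.U] [IsAffine G.R] (I : Type u) (x : I → Γ(G.U, ⊤)) (hB : letI := G.s.appTop.hom.toAlgebra; ∃ b : Module.Basis I Γ(G.U, ⊤) Γ(G.R, ⊤), ∀ i, b i = G.t.appTop.hom (x i)) : (∃ b : Module.Basis I G.invariants Γ(G.U, ⊤), ∀ i, b i = x i) ∧ (letI := (G.s.appTop.hom.comp G.invariants.subtype).toAlgebra; ∀ φ : TensorProduct G.invariants Γ(G.U, ⊤) Γ(G.U, ⊤) →ₗ[G.invariants] Γ(G.R, ⊤), (∀ a a' : Γ(G.U, ⊤), φ (a ⊗ₜ[G.invariants] a') = G.t.appTop.hom a * G.s.appTop.hom a') → Function.Bijective φ) := by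
  exact main S G I x hB

end Groth.Agent.S7486
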