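import Groth.Statements.S18859
import Mathlib
import Groth.Agent.Lib.Helper12Torsor

set_option autoImplicit false
universe u
open CategoryTheory MonoidalCategory CartesianMonoidalCategory MonObj GrpObj AlgebraicGeometry
open NonAbH1

namespace Groth.Agent.S18859


/-- the affine line over `ℤ` -/
noncomputable abbrev A1 : Scheme.{u} := Spec (CommRingCat.of (MvPolynomial PUnit.{u+1} (ULift.{u} ℤ)))

/-- functions as morphisms to the affine line -/
noncomputable abbrev E (X : Scheme.{u}) : (X ⟶ A1.{u}) ≃ (PUnit.{u+1} → Γ(X, ⊤)) :=
  AffineSpace.toSpecMvPolyIntEquiv PUnit.{u+1}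

noncomputable def tilde {X : Scheme.{u}} (s : Γ(X, ⊤)) : X ⟶ A1.{u} := (E X).symm (fun _ => s)

lemma E_tilde {X : Scheme.{u}} (s : Γ(X, ⊤)) : E X (tilde s) PUnit.unit = s := by
  simp [tilde]

lemma comp_tilde {X Y : Scheme.{u}} (f : X ⟶ Y) (s : Γ(Y, ⊤)) :
    f ≫ tilde s = tilde (f.appTop.hom s) := by
  apply (E X).injective
  funext i
  cases i
  rw [E_tilde]
  change f.appTop (E Y (tilde s) PUnit.unit) = _
  rw [E_tilde]

lemma tilde_injective {X : Scheme.{u}} : Function.Injective (tilde : Γ(X, ⊤) → (X ⟶ A1.{u})) := by
  intro s t h
  have h1 : E X (tilde s) PUnit.unit = E X (tilde t) PUnit.unit := by rw [h]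
  rwa [E_tilde, E_tilde] at h1

lemma tilde_surjective {X : Scheme.{u}} (f : X ⟶ A1.{u}) : ∃ s, tilde s = f := by
  refine ⟨E X f PUnit.unit, ?_⟩
  apply (E X).injective
  funext i
  cases i
  rw [E_tilde]



/-- Let S be a scheme, G a group scheme over S and X → S a G-torsor for the fpqc topology (a
pseudo-torsor under G acquiring sections on the members of some fpqc covering family of S). Then the
functions on S are the G-invariant functions on X: the ring map Γ(S, O_S) → Γ(X, O_X) is injective,
and a global function s on X lies in its image if and only if the pullbacks of s to G ×_S X along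
the action morphism and along the second projection coincide. (The source works over a scheme of
finite type over a field with G the base change of an affine group scheme over that field and states
the equality O_S = (O_X)^G as sheaves on S; applied to the restriction of the torsor over each open
of S, the present global form is that equality.) -/
theorem result {S : Scheme.{u}} {G X : Over S}
    [GrpObj G] (a : AlgGrp.Action G X) (ha : NonAbH1.IsTorsorFor Scheme.fpqcPrecoverage a) :
    Function.Injective X.hom.appTop.hom ∧
      ∀ s : Γ(X.left, ⊤), s ∈ Set.range X.hom.appTop.hom ↔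
        a.act.left.appTop.hom s = (CartesianMonoidalCategory.snd G X).left.appTop.hom s := by
  obtain ⟨hpt, R, hR, hsec⟩ := ha
  have hcov : Sieve.generate (Presieve.singleton X.hom) ∈ Scheme.fpqcTopology S := by
    refine GrothendieckTopology.superset_covering _ ?_ (Precoverage.generate_mem_toGrothendieck hR)
    rw [Sieve.generate_le_iff]
    intro S' g hg
    obtain ⟨s, hs⟩ := hsec g hg
    exact ⟨X.left, s, X.hom, ⟨⟩, hs⟩
  have hsh : Presieve.IsSheaf Scheme.fpqcTopology (yoneda.obj A1.{u}) :=
    GrothendieckTopology.Subcanonical.isSheaf_of_isRepresentable _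
  have hshf := hsh _ hcov
  rw [← Presieve.isSheafFor_iff_generate] at hshf
  have hsep := hshf.isSeparatedFor
  rw [Presieve.isSeparatedFor_singleton] at hsep
  rw [Presieve.isSheafFor_singleton] at hshf
  constructor
  · intro r₁ r₂ h
    apply tilde_injective
    apply hsep
    change X.hom ≫ tilde r₁ = X.hom ≫ tilde r₂
    rw [comp_tilde, comp_tilde, h]
  · intro s
    constructor
    · rintro ⟨r, rfl⟩
      have h1 : a.act.left ≫ X.hom = (snd G X).left ≫ X.hom := by
        rw [Over.w, Over.w]
      have := congrArg (fun f => f ≫ tilde r) h1
      simp only [Category.assoc, comp_tilde] at this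
      exact tilde_injective this
    · intro hs
      have hs' : a.act.left ≫ tilde s = (snd G X).left ≫ tilde s := by
        rw [comp_tilde, comp_tilde, hs]
      obtain ⟨r', hr', -⟩ := hshf (tilde s) (by
        intro Z p₁ p₂ hp
        change p₁ ≫ tilde s = p₂ ≫ tilde s
        haveI : IsIso (lift a.act (snd G X)) := hpt
        let Z' : Over S := Over.mk (p₁ ≫ X.hom)
        let q₁ : Z' ⟶ X := Over.homMk p₁ rfl
        let q₂ : Z' ⟶ X := Over.homMk p₂ hp.symm
        let g : Z' ⟶ G ⊗ X := lift q₁ q₂ ≫ inv (lift a.act (snd G X))
        have hgΦ : g ≫ lift a.act (snd G X) = lift q₁ q₂ := by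
          simp only [g, Category.assoc, IsIso.inv_hom_id, Category.comp_id]
        have hg1 : g ≫ a.act = q₁ := by
          have := congrArg (fun k => k ≫ fst X X) hgΦ
          simp only [Category.assoc, lift_fst] at this
          exact this
        have hg2 : g ≫ snd G X = q₂ := by
          have := congrArg (fun k => k ≫ snd X X) hgΦ
          simp only [Category.assoc, lift_snd] at this
          exact this
        have e1 : p₁ = g.left ≫ a.act.left := by
          rw [← Over.comp_left, hg1]; rfl
        have e2 : p₂ = g.left ≫ (snd G X).left := by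
          rw [← Over.comp_left, hg2]; rfl
        rw [e1, e2, Category.assoc, Category.assoc, hs'])
      obtain ⟨r, rfl⟩ := tilde_surjective r'
      refine ⟨r, ?_⟩
      apply tilde_injective
      rw [← comp_tilde]
      exact hr'

end Groth.Agent.S18859
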