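import Groth.Statements.S18975
import Mathlib
import Groth.Agent.Lib.Helper12Torsor
import Groth.Agent.Lib.Helper12QuotSh
import Groth.Agent.Lib.Helper12Submersive2
import Groth.Agent.Lib.Helper12AffineDescent
import Groth.Agent.S18859

set_option autoImplicit false
universe u
open CategoryTheory MonoidalCategory CartesianMonoidalCategory MonObj AlgebraicGeometry
open GIT

namespace Groth.Agent.S18975


open Groth.Agent.S18859 (A1 tilde comp_tilde tilde_injective tilde_surjective)

section Sections

open Limits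

lemma iso_hom_inv {A B : CommRingCat.{u}} (e : A ≅ B) (x : B) : e.hom.hom (e.inv.hom x) = x := by
  have := congrArg (fun φ => φ.hom x) e.inv_hom_id
  simpa using this

lemma iso_inv_hom {A B : CommRingCat.{u}} (e : A ≅ B) (x : A) : e.inv.hom (e.hom.hom x) = x := by
  have := congrArg (fun φ => φ.hom x) e.hom_inv_id
  simpa using this

noncomputable def tildeO {X : Scheme.{u}} (V : X.Opens) (f : Γ(X, V)) : (V : Scheme.{u}) ⟶ A1.{u} :=
  tilde (V.topIso.inv.hom f)

lemma tildeO_injective {X : Scheme.{u}} (V : X.Opens) : Function.Injective (tildeO V) := by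
  intro f g h
  have := tilde_injective h
  have h2 := congrArg V.topIso.hom.hom this
  rwa [iso_hom_inv, iso_hom_inv] at h2

lemma tildeO_surjective {X : Scheme.{u}} (V : X.Opens) (h : (V : Scheme.{u}) ⟶ A1.{u}) :
    ∃ f, tildeO V f = h := by
  obtain ⟨s, rfl⟩ := tilde_surjective h
  refine ⟨V.topIso.hom.hom s, ?_⟩
  unfold tildeO
  congr 1
  exact iso_inv_hom _ _

lemma resLE_tildeO {X Y : Scheme.{u}} (g : X ⟶ Y) (U : Y.Opens) (V : X.Opens)
    (e : V ≤ g ⁻¹ᵁ U) (r : Γ(Y, U)) :
    g.resLE U V e ≫ tildeO U r = tildeO V ((g.appLE U V e).hom r) := by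
  unfold tildeO
  rw [comp_tilde]
  congr 1
  have h1 : (g.resLE U V e).appTop = U.topIso.hom ≫ g.appLE U V e ≫ V.topIso.inv :=
    Scheme.Hom.resLE_app_top g e
  rw [h1, CommRingCat.hom_comp, CommRingCat.hom_comp, RingHom.comp_apply, RingHom.comp_apply,
    iso_hom_inv]

/-- if `φ` has sections over the members of an fpqc covering of `Y`, the restriction of `φ` over an
open `U` generates a covering sieve. -/
lemma generate_resLE_mem {X Y : Scheme.{u}} (φ : X ⟶ Y) (R : Presieve Y)
    (hR : R ∈ Scheme.fpqcPrecoverage Y)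
    (hsec : ∀ ⦃S' : Scheme.{u}⦄ (g : S' ⟶ Y), R g → ∃ t : S' ⟶ X, t ≫ φ = g) (U : Y.Opens) :
    Sieve.generate (Presieve.singleton (φ.resLE U (φ ⁻¹ᵁ U) le_rfl)) ∈
      Scheme.fpqcTopology (U : Scheme.{u}) := by
  have hR' : R.pullbackArrows U.ι ∈ Scheme.fpqcPrecoverage (U : Scheme.{u}) :=
    Precoverage.pullbackArrows_mem U.ι hR
  refine GrothendieckTopology.superset_covering _ ?_ (Precoverage.generate_mem_toGrothendieck hR')
  rw [Sieve.generate_le_iff]
  rintro Z _ ⟨S', g, hg⟩
  obtain ⟨t, ht⟩ := hsec g hg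
  have hrange : Set.range (pullback.fst g U.ι ≫ t).base ⊆ Set.range (φ ⁻¹ᵁ U).ι.base := by
    rintro _ ⟨z, rfl⟩
    rw [Scheme.Opens.range_ι]
    change φ ((pullback.fst g U.ι ≫ t) z) ∈ U
    rw [← Scheme.Hom.comp_apply, Category.assoc, ht, pullback.condition, Scheme.Hom.comp_apply]
    exact (pullback.snd g U.ι z).2
  refine ⟨_, IsOpenImmersion.lift (φ ⁻¹ᵁ U).ι (pullback.fst g U.ι ≫ t) hrange, _, ⟨⟩, ?_⟩
  rw [← cancel_mono U.ι, Category.assoc, Scheme.Hom.resLE_comp_ι, IsOpenImmersion.lift_fac_assoc,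
    Category.assoc, ht, pullback.condition]

theorem sections_of_cover {X Y Q : Scheme.{u}} (φ : X ⟶ Y) (a s : Q ⟶ X)
    (hcart : IsPullback a s φ φ) (R : Presieve Y) (hR : R ∈ Scheme.fpqcPrecoverage Y)
    (hsec : ∀ ⦃S' : Scheme.{u}⦄ (g : S' ⟶ Y), R g → ∃ t : S' ⟶ X, t ≫ φ = g) (U : Y.Opens) :
    Function.Injective (φ.app U).hom ∧
      ∀ f : Γ(X, φ ⁻¹ᵁ U), f ∈ Set.range (φ.app U).hom ↔
        (a.appLE (φ ⁻¹ᵁ U) (a ⁻¹ᵁ (φ ⁻¹ᵁ U) ⊓ s ⁻¹ᵁ (φ ⁻¹ᵁ U)) inf_le_left).hom f =
          (s.appLE (φ ⁻¹ᵁ U) (a ⁻¹ᵁ (φ ⁻¹ᵁ U) ⊓ s ⁻¹ᵁ (φ ⁻¹ᵁ U)) inf_le_right).hom f := by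
  set V := φ ⁻¹ᵁ U with hV
  set W := a ⁻¹ᵁ V ⊓ s ⁻¹ᵁ V with hW
  set ψ := φ.resLE U V le_rfl with hψ
  have hcov := generate_resLE_mem φ R hR hsec U
  have hsh : Presieve.IsSheaf Scheme.fpqcTopology (yoneda.obj A1.{u}) :=
    GrothendieckTopology.Subcanonical.isSheaf_of_isRepresentable _
  have hshf := hsh _ hcov
  rw [← Presieve.isSheafFor_iff_generate] at hshf
  have hsep := hshf.isSeparatedFor
  rw [Presieve.isSeparatedFor_singleton] at hsep
  rw [Presieve.isSheafFor_singleton] at hshf
  have happ : ∀ r : Γ(Y, U), ψ ≫ tildeO U r = tildeO V ((φ.app U).hom r) := by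
    intro r
    rw [hψ, resLE_tildeO, Scheme.Hom.appLE_eq_app]
  constructor
  · intro r₁ r₂ h
    apply tildeO_injective U
    apply hsep
    change ψ ≫ tildeO U r₁ = ψ ≫ tildeO U r₂
    rw [happ, happ, h]
  · intro f
    rw [← (tildeO_injective W).eq_iff, ← resLE_tildeO, ← resLE_tildeO]
    constructor
    · rintro ⟨r, rfl⟩
      rw [← happ, ← Category.assoc, ← Category.assoc]
      congr 1
      rw [← cancel_mono U.ι]
      simp only [Category.assoc, hψ, Scheme.Hom.resLE_comp_ι]
      have h1 : a.resLE V W inf_le_left ≫ V.ι ≫ φ = W.ι ≫ a ≫ φ :=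
        Scheme.Hom.resLE_comp_ι_assoc a _ φ
      have h2 : s.resLE V W inf_le_right ≫ V.ι ≫ φ = W.ι ≫ s ≫ φ :=
        Scheme.Hom.resLE_comp_ι_assoc s _ φ
      rw [hcart.w] at h1
      exact h1.trans h2.symm
    · intro hs
      obtain ⟨r', hr', -⟩ := hshf (tildeO V f) (by
        intro Z p₁ p₂ hp
        change p₁ ≫ tildeO V f = p₂ ≫ tildeO V f
        have hq : (p₁ ≫ V.ι) ≫ φ = (p₂ ≫ V.ι) ≫ φ := by
          have := congrArg (fun k => k ≫ U.ι) hp
          simpa [hψ] using this
        have hrange : Set.range (hcart.lift _ _ hq).base ⊆ Set.range W.ι.base := by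
          rintro _ ⟨z, rfl⟩
          rw [Scheme.Opens.range_ι]
          constructor
          · change a (hcart.lift _ _ hq z) ∈ V
            rw [← Scheme.Hom.comp_apply, hcart.lift_fst, Scheme.Hom.comp_apply]
            exact (p₁ z).2
          · change s (hcart.lift _ _ hq z) ∈ V
            rw [← Scheme.Hom.comp_apply, hcart.lift_snd, Scheme.Hom.comp_apply]
            exact (p₂ z).2
        let g' := IsOpenImmersion.lift W.ι (hcart.lift _ _ hq) hrange
        have e1 : p₁ = g' ≫ a.resLE V W inf_le_left := by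
          rw [← cancel_mono V.ι, Category.assoc, Scheme.Hom.resLE_comp_ι,
            IsOpenImmersion.lift_fac_assoc, hcart.lift_fst]
        have e2 : p₂ = g' ≫ s.resLE V W inf_le_right := by
          rw [← cancel_mono V.ι, Category.assoc, Scheme.Hom.resLE_comp_ι,
            IsOpenImmersion.lift_fac_assoc, hcart.lift_snd]
        rw [e1, e2, Category.assoc, Category.assoc, hs])
      obtain ⟨r, rfl⟩ := tildeO_surjective U r'
      refine ⟨r, ?_⟩
      apply tildeO_injective V
      rw [← happ]
      exact hr'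

end Sections


instance jointlySurjective_fpqc : Scheme.JointlySurjective Scheme.fpqcPrecoverage.{u} where
  exists_eq {X} R hR x := by
    have h2 : R ∈ Scheme.precoverage @Flat X := by
      rw [Scheme.fpqcPrecoverage, Scheme.propQCPrecoverage] at hR
      exact hR.2
    exact Scheme.JointlySurjective.exists_eq R h2 x

open Limits Groth.Agent.Lib.Helper12 Groth.Agent.Lib.Helper12.QuotShLib in


/-- Over an algebraically closed field k of characteristic zero, let G be an affine group scheme of
finite type over k acting on a k-scheme X, and let φ : X → Y be a morphism of k-schemes which is a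
G-torsor over Y: the square formed by the action G ×_k X → X, the second projection and φ (twice) is
cartesian, and φ acquires sections on the members of some fpqc covering family of Y. Then φ is
affine and (Y, φ) is a geometric quotient: φ is invariant and surjective, G ×_k X → X ×_Y X is
surjective, φ is universally submersive, and over every open of Y the functions on Y are exactly the
invariant functions on its preimage. (The source defines a torsor by the existence of one fpqc
morphism to Y trivialising it and defines geometric quotients with φ affine and submersive;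
universal submersiveness follows because every base change of a torsor is a torsor.) -/
theorem result
    (k : Type u) [Field k] [IsAlgClosed k] [CharZero k]
    (G X Y : Over (Spec (CommRingCat.of k))) [GrpObj G] [IsAffine G.left] [LocallyOfFiniteType G.hom]
    (a : AlgGrp.Action G X) (φ : X ⟶ Y)
    (hcart : IsPullback a.act (snd G X) φ φ)
    (hloc : NonAbH1.IsLocallyTrivialFor Scheme.fpqcPrecoverage (Over.mk φ.left : Over Y.left)) :
    IsAffineHom φ.left ∧ GIT.IsGeomQuot a φ := by
  obtain ⟨R, hR, hsec⟩ := hloc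
  have hcart' := Functor.map_isPullback (Over.forget _) hcart
  simp only [Over.forget_obj, Over.forget_map] at hcart'
  have hsec' : ∀ ⦃S' : Scheme.{u}⦄ (g : S' ⟶ Y.left), R g → ∃ t : S' ⟶ X.left, t ≫ φ.left = g :=
    fun S' g hg => hsec g hg
  have hsndG : (snd G X).left = pullback.snd G.hom X.hom := rfl
  have haffG : IsAffineHom G.hom := inferInstance
  have haff_snd : IsAffineHom (snd G X).left := by
    rw [hsndG]; exact MorphismProperty.pullback_snd (P := @IsAffineHom) _ _ haffG
  have hflat_snd : Flat (snd G X).left := by rw [hsndG]; infer_instance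
  have haff : IsAffineHom φ.left :=
    of_mem_fpqcPrecoverage descendsAlong_isAffineHom φ.left R hR (fun V g hg => by
      obtain ⟨t, ht⟩ := hsec' g hg
      rw [← ht]
      exact snd_of_lift @IsAffineHom hcart' haff_snd t)
  have hflat : Flat φ.left :=
    of_mem_fpqcPrecoverage descendsAlong_flat φ.left R hR (fun V g hg => by
      obtain ⟨t, ht⟩ := hsec' g hg
      rw [← ht]
      exact snd_of_lift @Flat hcart' hflat_snd t)
  have hsurj : Surjective φ.left := by
    obtain ⟨I, Z, ψ, rfl⟩ := Presieve.exists_eq_ofArrows R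
    let 𝒰 : Scheme.Cover Scheme.fpqcPrecoverage Y.left := ⟨⟨I, Z, ψ⟩, hR⟩
    refine ⟨fun x => ?_⟩
    obtain ⟨j, y, hy⟩ := 𝒰.exists_eq x
    obtain ⟨l, hl⟩ := hsec' (ψ j) ⟨j⟩
    refine ⟨l y, ?_⟩
    rw [← Scheme.Hom.comp_apply, hl]
    exact hy
  refine ⟨haff, ?_⟩
  have hinv : GIT.IsInvariant a φ := hcart.w
  refine ⟨hinv, hsurj.surj, ?_, ?_, ?_⟩
  · -- orbit
    have : GIT.PsiY a φ hinv = hcart'.isoPullback.hom := by
      apply pullback.hom_ext
      · rw [IsPullback.isoPullback_hom_fst]; exact pullback.lift_fst _ _ _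
      · rw [IsPullback.isoPullback_hom_snd]; exact pullback.lift_snd _ _ _
    rw [this]
    exact hcart'.isoPullback.hom.surjective
  · exact Groth.Agent.Lib.Helper12.Submersive.us_of_flat φ.left
  · intro U
    obtain ⟨h1, h2⟩ := sections_of_cover φ.left a.act.left (snd G X).left hcart' R hR hsec' U
    refine ⟨h1, ?_⟩
    ext f
    exact h2 f

end Groth.Agent.S18975
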