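import Groth.Statements.S17968
-- import your own Groth.Agent.* helpers here
import Groth.Agent.Lib.Helper18Gabber
import Mathlib

set_option autoImplicit false
universe u
open Hensel

namespace Groth.Agent.S17968

section Helpers
open Polynomial

variable {A : Type u} [CommRing A]

/-- `q := (1 - (1 - X)^n)^n` : congruent to `0` mod `X^n` and to `1` mod `(X-1)^n`. -/
noncomputable def qPoly (A : Type u) [CommRing A] (n : ℕ) : A[X] := (1 - (1 - X) ^ n) ^ n

theorem X_pow_dvd_qPoly (n : ℕ) : (X : A[X]) ^ n ∣ qPoly A n := by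
  apply pow_dvd_pow_of_dvd
  have := sub_dvd_pow_sub_pow (1 : A[X]) (1 - X) n
  simpa using this

theorem X_sub_one_pow_dvd_qPoly_sub_one (n : ℕ) : ((X : A[X]) - 1) ^ n ∣ qPoly A n - 1 := by
  have h1 := sub_dvd_pow_sub_pow (1 - (1 - X) ^ n : A[X]) 1 n
  have h2 : ((X : A[X]) - 1) ^ n ∣ (1 - (1 - X) ^ n) - 1 := by
    have : (1 - (1 - X) ^ n : A[X]) - 1 = - (1 - X) ^ n := by ring
    rw [this, dvd_neg]
    apply pow_dvd_pow_of_dvd
    exact ⟨-1, by ring⟩
  rw [one_pow] at h1
  exact h2.trans h1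

theorem eval_one_qPoly (n : ℕ) (hn : 0 < n) : (qPoly A n).eval 1 = 1 := by
  simp [qPoly, zero_pow hn.ne']

theorem aeval_mem_map_of_coeff_mem {C : Type u} [CommRing C] [Algebra A C]
    (I : Ideal A) (p : A[X]) (hp : ∀ n, p.coeff n ∈ I) (x : C) :
    aeval x p ∈ I.map (algebraMap A C) := by
  rw [aeval_eq_sum_range]
  refine Ideal.sum_mem _ fun i _ => ?_
  rw [Algebra.smul_def]
  exact Ideal.mul_mem_right _ _ (Ideal.mem_map_of_mem _ (hp i))

/-- a linear functional maps `I B` into `I` -/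
theorem linearMap_mem_of_mem_map {B : Type u} [CommRing B] [Algebra A B] (I : Ideal A)
    (l : B →ₗ[A] A) (x : B) (hx : x ∈ I.map (algebraMap A B)) : l x ∈ I := by
  have hx' : x ∈ (I • ⊤ : Submodule A B) := by
    rw [Ideal.smul_top_eq_map]; exact hx
  refine Submodule.smul_induction_on hx' (fun i hi b _ => ?_) (fun x y hx hy => ?_)
  · rw [map_smul, smul_eq_mul]; exact I.mul_mem_right _ hi
  · rw [map_add]; exact I.add_mem hx hy

/-- the coefficient functional on `A[X]/(F)` -/
noncomputable def lam {F : A[X]} (hF : F.Monic) (n : ℕ) : AdjoinRoot F →ₗ[A] A :=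
  (Polynomial.lcoeff A n) ∘ₗ (AdjoinRoot.modByMonicHom hF)

theorem lam_mk_X_pow [Nontrivial A] {F : A[X]} (hF : F.Monic) (n : ℕ) (hn : n < F.natDegree) :
    lam hF n (AdjoinRoot.mk F (X ^ n)) = 1 := by
  have : (X ^ n : A[X]) %ₘ F = X ^ n := by
    rw [modByMonic_eq_self_iff hF, degree_X_pow, degree_eq_natDegree hF.ne_zero]
    exact_mod_cast hn
  change (AdjoinRoot.modByMonicHom hF (AdjoinRoot.mk F (X ^ n))).coeff n = 1
  rw [AdjoinRoot.modByMonicHom_mk, this, coeff_X_pow, if_pos rfl]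

theorem monic_gabber (n : ℕ) (p : A[X]) (hp : p.natDegree ≤ n) [Nontrivial A] :
    (X ^ n * (X - 1) + p : A[X]).Monic ∧ (X ^ n * (X - 1) + p : A[X]).natDegree = n + 1 := by
  have h1 : (X ^ n * (X - 1) : A[X]).Monic := (monic_X_pow n).mul (monic_X_sub_C 1)
  have h2 : (X ^ n * (X - 1) : A[X]).natDegree = n + 1 := by
    have e1 : (X - 1 : A[X]) = X - C 1 := by simp
    rw [e1, ((monic_X_pow n).natDegree_mul (monic_X_sub_C (1 : A))), natDegree_X_pow,
      natDegree_X_sub_C]
  have hlt : p.degree < (X ^ n * (X - 1) : A[X]).degree := by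
    rw [degree_eq_natDegree h1.ne_zero, h2]
    exact lt_of_le_of_lt degree_le_natDegree (by exact_mod_cast Nat.lt_succ_of_le hp)
  refine ⟨h1.add_of_left hlt, ?_⟩
  rw [natDegree_add_eq_left_of_degree_lt hlt, h2]

theorem exists_root_of_idempotent [Nontrivial A] (I : Ideal A) (hI : I ≤ Ideal.jacobson ⊥)
    (n : ℕ) (hn : 0 < n) (p : A[X])
    (hp : p.natDegree ≤ n) (hpI : ∀ i, p.coeff i ∈ I) (F : A[X]) (hFdef : F = X ^ n * (X - 1) + p)
    (e : AdjoinRoot F) (he : IsIdempotentElem e)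
    (hq : e - AdjoinRoot.mk F (qPoly A n) ∈ I.map (algebraMap A (AdjoinRoot F))) :
    ∃ α : A, α - 1 ∈ I ∧ IsRoot F α := by
  obtain ⟨hF, hFdeg⟩ : F.Monic ∧ F.natDegree = n + 1 := by
    rw [hFdef]; exact monic_gabber n p hp
  set IB : Ideal (AdjoinRoot F) := I.map (algebraMap A (AdjoinRoot F)) with hIB
  set T : AdjoinRoot F := AdjoinRoot.root F with hT
  -- `mk (X^n (X-1)) ∈ IB`
  have hXn : AdjoinRoot.mk F (X ^ n * (X - 1)) ∈ IB := by
    have h0 : AdjoinRoot.mk F (X ^ n * (X - 1)) = - AdjoinRoot.mk F p := by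
      rw [eq_neg_iff_add_eq_zero, ← map_add, ← hFdef]
      exact AdjoinRoot.mk_self
    rw [h0]
    apply neg_mem
    rw [← AdjoinRoot.aeval_eq]
    exact aeval_mem_map_of_coeff_mem I p hpI _
  obtain ⟨q₁, hq₁⟩ := X_pow_dvd_qPoly (A := A) n
  have hq₁1 : q₁.eval 1 = 1 := by
    have := eval_one_qPoly (A := A) n hn
    rw [hq₁, eval_mul, eval_pow, eval_X, one_pow, one_mul] at this
    exact this
  obtain ⟨r, hr⟩ : (X - C (1 : A)) ∣ q₁ - C (q₁.eval 1) := X_sub_C_dvd_sub_C_eval
  rw [hq₁1, map_one] at hr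
  -- S2
  have hS2 : (T - 1) * e ∈ IB := by
    have h1 : (T - 1) * e = (T - 1) * (e - AdjoinRoot.mk F (qPoly A n)) +
        AdjoinRoot.mk F (X ^ n * (X - 1)) * AdjoinRoot.mk F q₁ := by
      rw [hq₁, hT]
      simp only [map_mul, map_sub, map_pow, AdjoinRoot.mk_X, map_one]
      ring
    rw [h1]
    exact IB.add_mem (IB.mul_mem_left _ hq) (IB.mul_mem_right _ hXn)
  -- S4
  have hS4 : e - T ^ n ∈ IB := by
    have h1 : e - T ^ n = (e - AdjoinRoot.mk F (qPoly A n)) +
        AdjoinRoot.mk F (X ^ n * (X - 1)) * AdjoinRoot.mk F r := by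
      have h2 : q₁ = 1 + (X - 1) * r := by
        have : q₁ - 1 = (X - 1) * r := by simpa using hr
        rw [← this]; ring
      rw [hq₁, h2, hT]
      simp only [map_mul, map_sub, map_add, map_pow, AdjoinRoot.mk_X, map_one]
      ring
    rw [h1]
    exact IB.add_mem hq (IB.mul_mem_right _ hXn)
  set l := lam hF n with hl
  have hle : l e - 1 ∈ I := by
    have h1 : l e - 1 = l (e - T ^ n) := by
      rw [map_sub, hT, ← AdjoinRoot.mk_X, ← map_pow, hl, lam_mk_X_pow hF n (by omega)]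
    rw [h1]
    exact linearMap_mem_of_mem_map I l _ hS4
  have hlu : IsUnit (l e) := Groth.Agent.Lib.Helper18Gabber.isUnit_of_sub_one_mem hI hle
  -- the quotient ring `E = B/(1-e)`
  let π : AdjoinRoot F →ₐ[A] (AdjoinRoot F ⧸ Ideal.span {1 - e}) :=
    Ideal.Quotient.mkₐ A (Ideal.span {1 - e})
  have hπsurj : Function.Surjective π := Ideal.Quotient.mkₐ_surjective A _
  have hπe : π e = 1 := by
    have : π (1 - e) = 0 := Ideal.Quotient.eq_zero_iff_mem.mpr (Ideal.mem_span_singleton_self _)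
    rw [map_sub, map_one, sub_eq_zero] at this
    exact this.symm
  haveI : Module.Finite A (AdjoinRoot F) := (AdjoinRoot.powerBasis' hF).finite
  haveI : Module.Finite A (AdjoinRoot F ⧸ Ideal.span {1 - e}) :=
    Module.Finite.of_surjective π.toLinearMap hπsurj
  have hsurj : Function.Surjective (algebraMap A (AdjoinRoot F ⧸ Ideal.span {1 - e})) := by
    let N : Submodule A (AdjoinRoot F ⧸ Ideal.span {1 - e}) :=
      LinearMap.range (Algebra.linearMap A (AdjoinRoot F ⧸ Ideal.span {1 - e}))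
    have key : (⊤ : Submodule A (AdjoinRoot F ⧸ Ideal.span {1 - e})) ≤
        N ⊔ I • (⊤ : Submodule A (AdjoinRoot F ⧸ Ideal.span {1 - e})) := by
      intro x _
      obtain ⟨y, rfl⟩ := hπsurj x
      obtain ⟨g, rfl⟩ := AdjoinRoot.mk_surjective y
      obtain ⟨h, hh⟩ : (X - C (1 : A)) ∣ g - C (g.eval 1) := X_sub_C_dvd_sub_C_eval
      have hg : g = C (g.eval 1) + (X - C 1) * h := by rw [← hh]; ring
      have e1 : π (AdjoinRoot.mk F g) =
          algebraMap A (AdjoinRoot F ⧸ Ideal.span {1 - e}) (g.eval 1) +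
            π ((T - 1) * e * AdjoinRoot.mk F h) := by
        rw [map_mul, map_mul, hπe, mul_one, ← map_mul, ← π.commutes, ← map_add]
        congr 1
        conv_lhs => rw [hg]
        rw [hT]
        simp only [map_add, map_mul, map_sub, AdjoinRoot.mk_C, AdjoinRoot.mk_X, map_one]
        rfl
      rw [e1]
      refine Submodule.add_mem_sup ⟨g.eval 1, rfl⟩ ?_
      rw [Ideal.smul_top_eq_map]
      have h1 : (T - 1) * e * AdjoinRoot.mk F h ∈ IB := IB.mul_mem_right _ hS2
      have h2 := Ideal.mem_map_of_mem π.toRingHom h1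
      rw [hIB, Ideal.map_map] at h2
      exact h2
    have hle' := Submodule.le_of_le_smul_of_le_jacobson_bot
      (Module.finite_def.mp inferInstance) hI key
    intro x
    obtain ⟨a, ha⟩ := hle' (Submodule.mem_top : x ∈ ⊤)
    exact ⟨a, ha⟩
  obtain ⟨α, hα⟩ := hsurj (π T)
  have hTα : (T - algebraMap A (AdjoinRoot F) α) * e = 0 := by
    have h1 : π (T - algebraMap A (AdjoinRoot F) α) = 0 := by
      rw [map_sub, AlgHom.commutes, hα, sub_self]
    have h2 := Ideal.Quotient.eq_zero_iff_mem.mp h1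
    obtain ⟨c, hc⟩ := Ideal.mem_span_singleton'.mp h2
    rw [← hc, mul_assoc, sub_mul, one_mul, he.eq, sub_self, mul_zero]
  have hS6 : algebraMap A (AdjoinRoot F) (F.eval α) * e = 0 := by
    obtain ⟨H, hH⟩ : (X - C α) ∣ F - C (F.eval α) := X_sub_C_dvd_sub_C_eval
    have h1 : AdjoinRoot.mk F (F - C (F.eval α)) =
        (T - algebraMap A (AdjoinRoot F) α) * AdjoinRoot.mk F H := by
      rw [hH, hT]
      simp only [map_mul, map_sub, AdjoinRoot.mk_C, AdjoinRoot.mk_X]
      rfl
    rw [map_sub, AdjoinRoot.mk_self, zero_sub, AdjoinRoot.mk_C] at h1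
    have h2 : algebraMap A (AdjoinRoot F) (F.eval α) * e =
        - ((T - algebraMap A (AdjoinRoot F) α) * e * AdjoinRoot.mk F H) := by
      rw [mul_right_comm, ← h1]
      change algebraMap A (AdjoinRoot F) (F.eval α) * e = - (- algebraMap A (AdjoinRoot F) (F.eval α) * e)
      ring
    rw [h2, hTα, zero_mul, neg_zero]
  have hroot : F.eval α = 0 := by
    have h1 := congrArg l hS6
    rw [← Algebra.smul_def, map_smul, map_zero, smul_eq_mul] at h1
    exact (hlu.mul_left_eq_zero).mp h1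
  have hα1 : α - 1 ∈ I := by
    have h1 : algebraMap A (AdjoinRoot F) (α - 1) * e ∈ IB := by
      have : algebraMap A (AdjoinRoot F) (α - 1) * e =
          (T - 1) * e - (T - algebraMap A (AdjoinRoot F) α) * e := by
        rw [map_sub, map_one]; ring
      rw [this, hTα, sub_zero]; exact hS2
    have h2 : (α - 1) * l e ∈ I := by
      have := linearMap_mem_of_mem_map I l _ h1
      rwa [← Algebra.smul_def, map_smul, smul_eq_mul] at this
    have : α - 1 = (α - 1) * l e - (α - 1) * (l e - 1) := by ring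
    rw [this]
    exact I.sub_mem h2 (I.mul_mem_left _ hle)
  exact ⟨α, hα1, hroot⟩


theorem aux (A : Type u) [CommRing A]
    (I : Ideal A) (hI : I ≤ Ideal.jacobson ⊥)
    (h : ∀ (m : ℕ) (p : Polynomial A), p.Monic →
      Polynomial.map (Ideal.Quotient.mk I) p =
        Polynomial.map (Ideal.Quotient.mk I) ((Polynomial.X ^ 2 - Polynomial.X) ^ m) →
      Set.SurjOn (Ideal.Quotient.mk (Ideal.map (algebraMap A (AdjoinRoot p)) I))
        {e : AdjoinRoot p | IsIdempotentElem e} {e | IsIdempotentElem e}) :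
    HenselianRing A I := by
  apply Groth.Agent.Lib.Helper18Gabber.henselian_of_gabber hI
  intro n hn p hp hpI
  cases subsingleton_or_nontrivial A with
  | inl hs =>
    exact ⟨1, by rw [sub_self]; exact I.zero_mem, Subsingleton.elim _ _⟩
  | inr hnt =>
  obtain ⟨k, rfl⟩ : ∃ k, n = k + 1 := ⟨n - 1, by omega⟩
  obtain ⟨hF, hFdeg⟩ := monic_gabber (k + 1) p hp
  let F : A[X] := X ^ (k + 1) * (X - 1) + p
  let P : A[X] := F * (X - 1) ^ k
  have hPm : P.Monic := by
    have e1 : (X - 1 : A[X]) = X - C 1 := by simp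
    apply hF.mul
    rw [e1]
    exact (monic_X_sub_C (1 : A)).pow k
  have hpmap : p.map (Ideal.Quotient.mk I) = 0 := by
    ext i
    rw [coeff_map, coeff_zero]
    exact Ideal.Quotient.eq_zero_iff_mem.mpr (hpI i)
  have hPmap : P.map (Ideal.Quotient.mk I) =
      ((X ^ 2 - X : A[X]) ^ (k + 1)).map (Ideal.Quotient.mk I) := by
    have e2 : (X ^ 2 - X : A[X]) = X * (X - 1) := by ring
    rw [e2, mul_pow]
    simp only [P, F, Polynomial.map_mul, Polynomial.map_add, Polynomial.map_pow,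
      Polynomial.map_sub, Polynomial.map_X, Polynomial.map_one, hpmap]
    ring
  -- the idempotent of `B/IB`
  have hpP : AdjoinRoot.mk P p ∈ I.map (algebraMap A (AdjoinRoot P)) := by
    rw [← AdjoinRoot.aeval_eq]
    exact aeval_mem_map_of_coeff_mem I p hpI _
  have hXX : AdjoinRoot.mk P (X ^ (k + 1) * (X - 1) ^ (k + 1)) ∈
      I.map (algebraMap A (AdjoinRoot P)) := by
    have h0 : (X ^ (k + 1) * (X - 1) ^ (k + 1) : A[X]) = P - p * (X - 1) ^ k := by
      simp only [P, F]; ring
    rw [h0, map_sub, AdjoinRoot.mk_self, zero_sub, map_mul]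
    exact neg_mem (Ideal.mul_mem_right _ _ hpP)
  obtain ⟨q₁, hq₁⟩ := X_pow_dvd_qPoly (A := A) (k + 1)
  obtain ⟨r', hr'⟩ := X_sub_one_pow_dvd_qPoly_sub_one (A := A) (k + 1)
  have hidem : IsIdempotentElem (Ideal.Quotient.mk (I.map (algebraMap A (AdjoinRoot P)))
      (AdjoinRoot.mk P (qPoly A (k + 1)))) := by
    rw [IsIdempotentElem, ← map_mul, ← map_mul, Ideal.Quotient.eq]
    have h0 : (qPoly A (k + 1) * qPoly A (k + 1) - qPoly A (k + 1) : A[X]) =
        X ^ (k + 1) * (X - 1) ^ (k + 1) * (q₁ * r') := by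
      have e1 : qPoly A (k + 1) * qPoly A (k + 1) - qPoly A (k + 1) =
          qPoly A (k + 1) * (qPoly A (k + 1) - 1) := by ring
      rw [e1, hr']
      conv_lhs => rw [hq₁]
      ring
    rw [← map_sub, h0, map_mul]
    exact Ideal.mul_mem_right _ _ hXX
  obtain ⟨e, he, hee⟩ := h (k + 1) P hPm hPmap hidem
  -- the map to `A[X]/(F)`
  have hroot : P.eval₂ (Algebra.ofId A (AdjoinRoot F)) (AdjoinRoot.root F) = 0 := by
    change P.eval₂ (algebraMap A (AdjoinRoot F)) (AdjoinRoot.root F) = 0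
    rw [← aeval_def, AdjoinRoot.aeval_eq]
    simp only [P, map_mul, AdjoinRoot.mk_self, zero_mul]
  let φ : AdjoinRoot P →ₐ[A] AdjoinRoot F :=
    AdjoinRoot.liftAlgHom P (Algebra.ofId A (AdjoinRoot F)) (AdjoinRoot.root F) hroot
  have hφmk : ∀ g : A[X], φ (AdjoinRoot.mk P g) = AdjoinRoot.mk F g := by
    intro g
    change g.eval₂ (algebraMap A (AdjoinRoot F)) (AdjoinRoot.root F) = _
    rw [← aeval_def, AdjoinRoot.aeval_eq]
  have he' : IsIdempotentElem (φ e) := he.map φ
  have hq' : φ e - AdjoinRoot.mk F (qPoly A (k + 1)) ∈ I.map (algebraMap A (AdjoinRoot F)) := by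
    have h1 : e - AdjoinRoot.mk P (qPoly A (k + 1)) ∈ I.map (algebraMap A (AdjoinRoot P)) :=
      Ideal.Quotient.eq.mp hee
    have h2 := Ideal.mem_map_of_mem φ.toRingHom h1
    rw [Ideal.map_map] at h2
    have h3 : φ.toRingHom.comp (algebraMap A (AdjoinRoot P)) = algebraMap A (AdjoinRoot F) := by
      ext a
      exact φ.commutes a
    rw [h3] at h2
    have h4 : φ.toRingHom (e - AdjoinRoot.mk P (qPoly A (k + 1))) =
        φ e - AdjoinRoot.mk F (qPoly A (k + 1)) := by
      rw [map_sub]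
      congr 1
      exact hφmk _
    rw [h4] at h2
    exact h2
  exact exists_root_of_idempotent I hI (k + 1) hn p hp hpI F rfl (φ e) he' hq'

end Helpers

/-- Let A be a commutative ring and I an ideal contained in the Jacobson radical of A. Suppose that for
every natural number m and every monic polynomial p over A whose reduction modulo I is the reduction
of (T^2 - T)^m, every idempotent of B/IB is the image of an idempotent of B, where B = A[T]/(p).
Then (A, I) is a henselian pair. -/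
theorem result (A : Type u) [CommRing A]
    (I : Ideal A) (hI : I ≤ Ideal.jacobson ⊥)
    (h : ∀ (m : ℕ) (p : Polynomial A), p.Monic →
      Polynomial.map (Ideal.Quotient.mk I) p =
        Polynomial.map (Ideal.Quotient.mk I) ((Polynomial.X ^ 2 - Polynomial.X) ^ m) →
      Set.SurjOn (Ideal.Quotient.mk (Ideal.map (algebraMap A (AdjoinRoot p)) I))
        {e : AdjoinRoot p | IsIdempotentElem e} {e | IsIdempotentElem e}) :
    HenselianRing A I := by
  exact aux A I hI h

end Groth.Agent.S17968
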