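import Groth.Statements.S0526
-- import your own Groth.Agent.* helpers here
import Groth.Agent.Lib.Helper26HenselIdem

set_option autoImplicit false
universe u
open Hensel

namespace Groth.Agent.S0526

/-- If `A` is Henselian at `I` and `B` is an integral `A`-algebra, then `B` is Henselian at `IB`. -/
theorem result (A : Type u) [CommRing A] (I : Ideal A) [HenselianRing A I] (B : Type u) [CommRing B]
    [Algebra A B] [Algebra.IsIntegral A B] : HenselianRing B (Ideal.map (algebraMap A B) I) := by
  have hjac : Ideal.map (algebraMap A B) I ≤ Ideal.jacobson ⊥ :=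
    Groth.Agent.Lib.Helper26.HenselIdem.map_le_jacobson_of_isIntegral I HenselianRing.jac
  refine Groth.Agent.S17968.aux B _ hjac ?_
  intro m p hp _
  let C := AdjoinRoot p
  haveI : IsScalarTower A B C := inferInstance
  haveI : Module.Finite B C := hp.finite_adjoinRoot
  haveI : Algebra.IsIntegral B C := Algebra.IsIntegral.of_finite B C
  haveI : Algebra.IsIntegral A C := Algebra.IsIntegral.trans B
  have h := Groth.Agent.Lib.Helper26.HenselIdem.idem_surjOn A I C
  have hmap : Ideal.map (algebraMap A C) I =
      Ideal.map (algebraMap B C) (Ideal.map (algebraMap A B) I) := by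
    rw [Ideal.map_map, ← IsScalarTower.algebraMap_eq]
  rw [hmap] at h
  exact h

end Groth.Agent.S0526
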