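import Groth.Statements.S9906
import Mathlib
import Groth.Agent.S10177

set_option autoImplicit false
universe u
open CategoryTheory CategoryTheory.Limits AlgebraicGeometry
open AlgSp

namespace Groth.Agent.S9906


open CategoryTheory.Limits Opposite MorphismProperty Groth.Agent.S13210

variable {S : Scheme.{u}}

/-- a representable surjective map of sheaves is surjective on points. -/
lemma surjective_map_of_repWith {F G : AlgSp.Sp S} (f : F ⟶ G) (hf : AlgSp.RepWith @Surjective f) :
    Function.Surjective (AlgSp.Points.map f) := by
  intro x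
  induction x using AlgSp.Points.ind with | h q => ?_
  obtain ⟨W, w, pr, sq⟩ := hf.1 ((yEquiv q.pt G).symm q.val)
  haveI : Surjective w.left := hf.2 _ _ w sq
  obtain ⟨y, hy⟩ := w.left.surjective (IsLocalRing.closedPoint q.K)
  refine ⟨AlgSp.Points.ofPt pr y, ?_⟩
  rw [AlgSp.Points.map_ofPt, sq.w, Groth.Agent.S10176.ofPt_map_comp, hy]
  exact Groth.Agent.S10177.ofPt_closedPoint q

/-- a representable map which is surjective on points is representable surjective. -/
lemma repWith_surjective_of_surjective_map {F G : AlgSp.Sp S} (f : F ⟶ G)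
    (hf : AlgSp.Representable f) (h : Function.Surjective (AlgSp.Points.map f)) :
    AlgSp.RepWith @Surjective f := by
  refine ⟨hf, ?_⟩
  intro T W g pr w sq
  change Surjective w.left
  constructor
  intro t
  obtain ⟨x, hx⟩ := h (AlgSp.Points.ofPt g t)
  rw [AlgSp.Points.ofPt_eq_map_ofScheme] at hx
  obtain ⟨p, hp1, hp2⟩ := Groth.Agent.S10175.exists_point_of_isPullback sq.flip _ _ hx.symm
  obtain ⟨y, rfl⟩ := (AlgSp.Points.schemeHomeo W).surjective p
  refine ⟨y, ?_⟩
  apply (AlgSp.Points.schemeHomeo T).injective
  rw [← AlgSp.Points.map_yon_map_apply]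
  exact hp1

lemma repWith_surjective_iff {F G : AlgSp.Sp S} (f : F ⟶ G) (hf : AlgSp.Representable f) :
    AlgSp.RepWith @Surjective f ↔ Function.Surjective (AlgSp.Points.map f) :=
  ⟨surjective_map_of_repWith f, repWith_surjective_of_surjective_map f hf⟩



/-- For a morphism of algebraic spaces representable by schemes, representable surjectivity is
equivalent to surjectivity of the induced map on points. -/
theorem result {S : Scheme.{u}} {X Y : AlgSp.Space S} (f : X ⟶ Y)
    (hf : AlgSp.Representable f.hom) :
    AlgSp.RepWith @Surjective f.hom ↔ AlgSp.IsSurjectiveMor f.hom := by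
  exact repWith_surjective_iff f.hom hf

end Groth.Agent.S9906
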