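import Groth.Statements.S9928
import Mathlib
-- import your own Groth.Agent.* helpers here

set_option autoImplicit false
universe u
open CategoryTheory CategoryTheory.Limits AlgebraicGeometry
open AlgSp

namespace Groth.Agent.S9928

open AlgebraicGeometry CategoryTheory Limits Opposite in
/-- Two maps of fppf sheaves out of `G` agree as soon as they agree on all `h_T ⟶ G`. -/
theorem sp_hom_ext {S : Scheme.{u}} {G F : AlgSp.Sp S} (a b : G ⟶ F)
    (h : ∀ (T : Over S) (x : (AlgSp.yon S).obj T ⟶ G), x ≫ a = x ≫ b) : a = b := by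
  apply Sheaf.hom_ext
  ext T s
  obtain ⟨T⟩ := T
  have := h T ((AlgSp.J S).uliftYonedaEquiv.symm s)
  have h2 := congrArg (AlgSp.J S).uliftYonedaEquiv this
  rw [GrothendieckTopology.uliftYonedaEquiv_comp, GrothendieckTopology.uliftYonedaEquiv_comp,
    Equiv.apply_symm_apply] at h2
  exact h2

open AlgebraicGeometry CategoryTheory Limits Opposite in
/-- A map of fppf sheaves representable by monomorphisms of schemes is a monomorphism. -/
theorem mono_of_repWith {S : Scheme.{u}} (P : MorphismProperty Scheme.{u})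
    (hP : ∀ ⦃X Y : Scheme.{u}⦄ (f : X ⟶ Y), P f → Mono f) {F G : AlgSp.Sp S} (f : F ⟶ G)
    (hf : AlgSp.RepWith P f) : Mono f := by
  suffices H : ∀ {T : Over S} {a b : (AlgSp.yon S).obj T ⟶ F}, a ≫ f = b ≫ f → a = b by
    refine ⟨fun {Z} a b hab => sp_hom_ext a b fun T x => H ?_⟩
    simp only [Category.assoc, hab]
  intro T a b h
  suffices hf.rep.lift (g := a ≫ f) a (𝟙 T) (by simp) =
      hf.rep.lift b (𝟙 T) (by simp [← h]) by
    simpa using (AlgSp.yon S).congr_map this =≫ (hf.rep.fst (a ≫ f))
  have h1 : Mono (hf.rep.snd (a ≫ f)).left := hP _ (hf.property_snd (a ≫ f))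
  have : Mono (hf.rep.snd (a ≫ f)) := (Over.forget S).mono_of_mono_map h1
  simp only [← cancel_mono (hf.rep.snd (a ≫ f)), Functor.relativelyRepresentable.lift_snd]

/-- A morphism of algebraic spaces that is representable by immersions is a monomorphism of fppf
sheaves. -/
theorem result {S : Scheme.{u}} {X Y : AlgSp.Space S} (f : X ⟶ Y)
    (hf : AlgSp.RepWith @IsImmersion f.hom) : Mono f.hom := by
  refine mono_of_repWith @IsImmersion ?_ f.hom hf
  intro X Y g hg
  haveI : IsImmersion g := hg
  infer_instance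

end Groth.Agent.S9928
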