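import Groth.Statements.S10194
import Mathlib
import Groth.Agent.S9906
import Groth.Agent.S9927
import Groth.Agent.S9928

set_option autoImplicit false
universe u
open CategoryTheory CategoryTheory.Limits AlgebraicGeometry Topology TopologicalSpace
open AlgSp

namespace Groth.Agent.S10194


open CategoryTheory.Limits Opposite MorphismProperty Groth.Agent.S13210

variable {S : Scheme.{u}}

/-- a representable surjective open immersion of sheaves is an isomorphism. -/
lemma isIso_of_repWith_openImmersion_surjective {F G : AlgSp.Sp S} (f : F ⟶ G)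
    (h1 : AlgSp.RepWith @IsOpenImmersion f) (h2 : AlgSp.RepWith @Surjective f) : IsIso f := by
  haveI : Mono f := Groth.Agent.S9928.mono_of_repWith @IsOpenImmersion
    (fun X Y g hg => by haveI : IsOpenImmersion g := hg; infer_instance) f h1
  have h3 : AlgSp.RepWith @Etale f := by
    refine ⟨h1.1, fun T W g pr w sq => ?_⟩
    haveI : IsOpenImmersion w.left := h1.2 g pr w sq
    change Etale w.left
    infer_instance
  haveI : Epi f := Groth.Agent.S9927.epi_of_repWith f h3 h2
  exact isIso_of_mono_of_epi f

/-- factoring through an open subspace is a condition on points. -/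
lemma exists_factor_iff {X X' Y : AlgSp.Sp S} (j : X' ⟶ X) (hj : AlgSp.RepWith @IsOpenImmersion j)
    (f : Y ⟶ X) :
    (∃ g : Y ⟶ X', g ≫ j = f) ↔
      Set.range (AlgSp.Points.map f) ⊆ Set.range (AlgSp.Points.map j) := by
  constructor
  · rintro ⟨g, rfl⟩ _ ⟨y, rfl⟩
    exact ⟨AlgSp.Points.map g y, (AlgSp.Points.map_comp g j y).symm⟩
  · intro h
    have sq := IsPullback.of_hasPullback f j
    have h1 : AlgSp.RepWith @IsOpenImmersion (pullback.fst f j) :=
      MorphismProperty.of_isPullback (P := AlgSp.RepWith @IsOpenImmersion) sq.flip hj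
    have hs : Function.Surjective (AlgSp.Points.map (pullback.fst f j)) := by
      intro y
      obtain ⟨x', hx'⟩ := h ⟨y, rfl⟩
      obtain ⟨p, hp1, hp2⟩ := Groth.Agent.S10175.exists_point_of_isPullback sq y x' hx'.symm
      exact ⟨p, hp1⟩
    have h2 : AlgSp.RepWith @Surjective (pullback.fst f j) :=
      Groth.Agent.S9906.repWith_surjective_of_surjective_map _ h1.1 hs
    haveI := isIso_of_repWith_openImmersion_surjective _ h1 h2
    refine ⟨inv (pullback.fst f j) ≫ pullback.snd f j, ?_⟩
    rw [Category.assoc, ← pullback.condition, IsIso.inv_hom_id_assoc]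



/-- Let X, Y be algebraic spaces over a scheme S and j : X' ⟶ X an open subspace (a morphism
representable by open immersions). Then a morphism f : Y ⟶ X factors through X' if and only if
|f|(|Y|) is contained in |X'|. -/
theorem result {S : Scheme.{u}} {X X' Y : AlgSp.Space S}
    (j : X' ⟶ X) (hj : AlgSp.RepWith @IsOpenImmersion j.hom) (f : Y ⟶ X) :
    (∃ g : Y ⟶ X', g ≫ j = f) ↔
      Set.range (AlgSp.Points.map f.hom) ⊆ Set.range (AlgSp.Points.map j.hom) := by
  rw [← exists_factor_iff j.hom hj f.hom]
  constructor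
  · rintro ⟨g, rfl⟩
    exact ⟨g.hom, rfl⟩
  · rintro ⟨g, hg⟩
    exact ⟨ObjectProperty.homMk g, by ext1; exact hg⟩

end Groth.Agent.S10194
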