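import Groth.Statements.S10174
import Mathlib
import Groth.Agent.S9906

set_option autoImplicit false
universe u
open CategoryTheory CategoryTheory.Limits AlgebraicGeometry Topology TopologicalSpace
open AlgSp

namespace Groth.Agent.S10174


open CategoryTheory.Limits Opposite MorphismProperty Groth.Agent.S13210

variable {S : Scheme.{u}}

/-- restriction of a chart to an open subscheme whose image still covers. -/
lemma exists_chart_of_open {F : AlgSp.Sp S} {U : Over S} (p : (AlgSp.yon S).obj U ⟶ F)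
    (hpe : AlgSp.RepWith @Etale p) (U' : U.left.Opens)
    (hU' : ∀ x : AlgSp.Points F, ∃ u ∈ U', AlgSp.Points.ofPt p u = x) :
    ∃ (U'' : Over S) (p' : (AlgSp.yon S).obj U'' ⟶ F), AlgSp.RepWith @Etale p' ∧
      AlgSp.RepWith @Surjective p' ∧ U''.left = U'.toScheme := by
  let U'' : Over S := Over.mk (U'.ι ≫ U.hom)
  let j : U'' ⟶ U := Over.homMk U'.ι rfl
  have hje : AlgSp.RepWith @Etale ((AlgSp.yon S).map j ≫ p) :=
    MorphismProperty.comp_mem _ _ _
      ((AlgSp.repWith_yon_map_iff _ _).2 (show Etale U'.ι from inferInstance)) hpe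
  refine ⟨U'', (AlgSp.yon S).map j ≫ p, hje, ?_, rfl⟩
  refine Groth.Agent.S9906.repWith_surjective_of_surjective_map _ hje.1 ?_
  intro x
  obtain ⟨u, hu, rfl⟩ := hU' x
  refine ⟨AlgSp.Points.ofScheme U'' (⟨u, hu⟩ : U'), ?_⟩
  rw [← AlgSp.Points.ofPt_eq_map_ofScheme, Groth.Agent.S10176.ofPt_map_comp]
  rfl

/-- quasi-compactness in terms of the space of points. -/
lemma isQuasiCompactSp_iff {F : AlgSp.Sp S} (hF : AlgSp.IsAlgSpace F) :
    AlgSp.IsQuasiCompactSp F ↔ CompactSpace (AlgSp.Points F) := by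
  constructor
  · rintro ⟨U, p, hpe, hps, hU⟩
    haveI : CompactSpace ↥U.left := hU
    exact (Groth.Agent.S10177.surjective_ofPt p hps).compactSpace (AlgSp.Points.continuous_ofPt p)
  · intro hc
    obtain ⟨U, p, hpe, hps⟩ := hF.atlas
    have hcover : (Set.univ : Set (AlgSp.Points F)) ⊆
        ⋃ V : U.left.affineOpens, AlgSp.Points.ofPt p '' (V.1 : Set ↥U.left) := by
      intro x _
      obtain ⟨u, rfl⟩ := Groth.Agent.S10177.surjective_ofPt p hps x
      obtain ⟨V, hV, huV, -⟩ := (U.left.isBasis_affineOpens).exists_subset_of_mem_open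
        (Set.mem_univ u) isOpen_univ
      obtain ⟨V', hV', rfl⟩ := hV
      exact Set.mem_iUnion.2 ⟨⟨V', hV'⟩, u, huV, rfl⟩
    obtain ⟨t, ht⟩ := isCompact_univ.elim_finite_subcover
      (fun V : U.left.affineOpens => AlgSp.Points.ofPt p '' (V.1 : Set ↥U.left))
      (fun V => Groth.Agent.S10176.isOpenMap_ofPt p hpe _ V.1.2) hcover
    let U' : U.left.Opens := ⨆ V ∈ t, V.1
    have hU' : ∀ x : AlgSp.Points F, ∃ u ∈ U', AlgSp.Points.ofPt p u = x := by
      intro x
      obtain ⟨V, hVt, u, hu, rfl⟩ : ∃ V ∈ t, x ∈ AlgSp.Points.ofPt p '' (V.1 : Set ↥U.left) := by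
        simpa using ht (Set.mem_univ x)
      refine ⟨u, ?_, rfl⟩
      exact (le_iSup₂ (f := fun (V : U.left.affineOpens) (_ : V ∈ t) => V.1) V hVt) hu
    obtain ⟨U'', p', h1, h2, h3⟩ := exists_chart_of_open p hpe U' hU'
    refine ⟨U'', p', h1, h2, ?_⟩
    rw [h3]
    have hcU' : IsCompact (U' : Set ↥U.left) := by
      have : (U' : Set ↥U.left) = ⋃ V ∈ t, (V.1 : Set ↥U.left) := by
        simp [U']
      rw [this]
      exact t.isCompact_biUnion (fun V _ => V.2.isCompact)
    exact isCompact_iff_compactSpace.1 hcU'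



/-- An algebraic space X over a scheme S is quasi-compact (that is, it has a surjective etale chart from
a scheme whose underlying space is quasi-compact) if and only if the space of points |X| is
quasi-compact. -/
theorem result {S : Scheme.{u}} (X : AlgSp.Space S) :
    AlgSp.IsQuasiCompactSp X.obj ↔ CompactSpace (AlgSp.Points X.obj) := by
  exact isQuasiCompactSp_iff X.property

end Groth.Agent.S10174
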