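import Groth.Statements.S10180
import Mathlib
import Groth.Agent.S10174

set_option autoImplicit false
universe u
open CategoryTheory CategoryTheory.Limits AlgebraicGeometry Topology TopologicalSpace
open AlgSp

namespace Groth.Agent.S10180


open CategoryTheory.Limits Opposite MorphismProperty Groth.Agent.S13210

variable {S : Scheme.{u}}

/-- a quasi-compact sheaf has an affine étale surjective chart. -/
lemma exists_affine_chart {F : AlgSp.Sp S} (h : AlgSp.IsQuasiCompactSp F) :
    ∃ (U : Over S) (p : (AlgSp.yon S).obj U ⟶ F),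
      IsAffine U.left ∧ AlgSp.RepWith @Etale p ∧ AlgSp.RepWith @Surjective p := by
  obtain ⟨U, p, hpe, hps, hU⟩ := h
  haveI : CompactSpace ↥U.left := hU
  let 𝒱 := U.left.affineCover.finiteSubcover
  haveI : ∀ i, IsAffine (𝒱.X i) := fun i => by dsimp [𝒱]; infer_instance
  let d : (∐ 𝒱.X) ⟶ U.left := Sigma.desc 𝒱.f
  haveI : Etale d := IsZariskiLocalAtSource.sigmaDesc (fun i => inferInstance)
  haveI : Surjective d := by
    constructor
    intro u
    obtain ⟨i, y, hy⟩ := 𝒱.exists_eq u
    refine ⟨(Sigma.ι 𝒱.X i) y, ?_⟩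
    rw [← Scheme.Hom.comp_apply, Sigma.ι_desc]
    exact hy
  let A : Over S := Over.mk (d ≫ U.hom)
  let j : A ⟶ U := Over.homMk d rfl
  refine ⟨A, (AlgSp.yon S).map j ≫ p, (inferInstance : IsAffine (∐ 𝒱.X)), ?_, ?_⟩
  · exact MorphismProperty.comp_mem _ _ _
      ((AlgSp.repWith_yon_map_iff _ _).2 (show Etale d from inferInstance)) hpe
  · exact MorphismProperty.comp_mem _ _ _
      ((AlgSp.repWith_yon_map_iff _ _).2 (show Surjective d from inferInstance)) hps



/-- An algebraic space X over a scheme S is quasi-compact if and only if there exist an affine scheme U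
over S and a representable etale, representable surjective map h_U ⟶ X. -/
theorem result {S : Scheme.{u}} (X : AlgSp.Space S) :
    AlgSp.IsQuasiCompactSp X.obj ↔
      ∃ (U : Over S) (p : (AlgSp.yon S).obj U ⟶ X.obj),
        IsAffine U.left ∧ AlgSp.RepWith @Etale p ∧ AlgSp.RepWith @Surjective p := by
  constructor
  · exact exists_affine_chart
  · rintro ⟨U, p, hU, hpe, hps⟩
    exact ⟨U, p, hpe, hps, inferInstance⟩

end Groth.Agent.S10180
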