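import Groth.Statements.S9900
import Mathlib
import Groth.Agent.S13210

set_option autoImplicit false
universe u
open CategoryTheory CategoryTheory.Limits AlgebraicGeometry
open AlgSp

namespace Groth.Agent.S9900


open CategoryTheory.Limits Opposite Groth.Agent.S13210

variable {S : Scheme.{u}}

/-- `e : E ⟶ T` represents the locus where `a` and `b` agree. -/
def IsEqLocus {F : AlgSp.Sp S} {T E : Over S} (a b : (AlgSp.yon S).obj T ⟶ F) (e : E ⟶ T) : Prop :=
  Mono e ∧ ∀ (T' : Over S) (t : T' ⟶ T),
    ((AlgSp.yon S).map t ≫ a = (AlgSp.yon S).map t ≫ b) ↔ ∃ t' : T' ⟶ E, t' ≫ e = t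

lemma IsEqLocus.eq {F : AlgSp.Sp S} {T E : Over S} {a b : (AlgSp.yon S).obj T ⟶ F} {e : E ⟶ T}
    (h : IsEqLocus a b e) : (AlgSp.yon S).map e ≫ a = (AlgSp.yon S).map e ≫ b :=
  (h.2 E e).2 ⟨𝟙 E, Category.id_comp e⟩

/-- the locus where two points of a sheaf with representable diagonal agree. -/
lemma exists_isEqLocus {F : AlgSp.Sp S} (hdiag : AlgSp.Representable (Limits.diag F)) {T : Over S}
    (a b : (AlgSp.yon S).obj T ⟶ F) : ∃ (E : Over S) (e : E ⟶ T), IsEqLocus a b e := by
  obtain ⟨E, e, fst, sq⟩ := hdiag (prod.lift a b)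
  have h1 : (AlgSp.yon S).map e ≫ a = fst := by
    have := congrArg (fun m => m ≫ prod.fst) sq.w
    simp only [Category.assoc, prod.lift_fst, Limits.diag] at this
    rw [← this, Category.comp_id]
  have h2 : (AlgSp.yon S).map e ≫ b = fst := by
    have := congrArg (fun m => m ≫ prod.snd) sq.w
    simp only [Category.assoc, prod.lift_snd, Limits.diag] at this
    rw [← this, Category.comp_id]
  refine ⟨E, e, ⟨fun {T'} t1 t2 h => ?_⟩, fun T' t => ⟨fun h => ?_, ?_⟩⟩
  · apply (AlgSp.yon S).map_injective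
    apply sq.hom_ext
    · rw [← h1, ← Category.assoc, ← Category.assoc, ← Functor.map_comp, ← Functor.map_comp, h]
    · rw [← Functor.map_comp, ← Functor.map_comp, h]
  · have hw : ((AlgSp.yon S).map t ≫ a) ≫ Limits.diag F =
        (AlgSp.yon S).map t ≫ prod.lift a b := by
      apply Limits.prod.hom_ext
      · rw [Category.assoc, Category.assoc, Category.assoc, Limits.diag, prod.lift_fst,
          prod.lift_fst, Category.comp_id]
      · rw [Category.assoc, Category.assoc, Category.assoc, Limits.diag, prod.lift_snd,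
          prod.lift_snd, Category.comp_id, h]
    obtain ⟨l, hl⟩ := (AlgSp.yon S).map_surjective (sq.lift _ _ hw)
    refine ⟨l, (AlgSp.yon S).map_injective ?_⟩
    rw [Functor.map_comp, hl, sq.lift_snd]
  · rintro ⟨t', rfl⟩
    rw [Functor.map_comp, Category.assoc, Category.assoc, h1, h2]

/-- two representing objects of the same subfunctor are isomorphic. -/
lemma exists_iso_of_factor_iff {T E E' : Over S} (e : E ⟶ T) (e' : E' ⟶ T) [Mono e] [Mono e']
    (h : ∀ (T' : Over S) (t : T' ⟶ T), (∃ t' : T' ⟶ E, t' ≫ e = t) ↔ ∃ t' : T' ⟶ E', t' ≫ e' = t) :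
    ∃ i : E ≅ E', i.hom ≫ e' = e := by
  obtain ⟨i1, h1⟩ := (h E e).1 ⟨𝟙 E, Category.id_comp e⟩
  obtain ⟨i2, h2⟩ := (h E' e').2 ⟨𝟙 E', Category.id_comp e'⟩
  refine ⟨⟨i1, i2, ?_, ?_⟩, h1⟩
  · rw [← cancel_mono e, Category.assoc, h2, h1, Category.id_comp]
  · rw [← cancel_mono e', Category.assoc, h1, h2, Category.id_comp]


/-- the equalizer locus of two points of an algebraic space is locally of finite type. -/
lemma IsEqLocus.locallyOfFiniteType {X : AlgSp.Sp S} (hX : AlgSp.IsAlgSpace X) {T E : Over S}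
    {a b : (AlgSp.yon S).obj T ⟶ X} {e : E ⟶ T} (he : IsEqLocus a b e) :
    LocallyOfFiniteType e.left := by
  obtain ⟨U, p, hp, hps⟩ := hX.atlas
  -- lift `a` étale locally
  obtain ⟨T1, t1, a1', sq1⟩ := hp.1 a
  obtain ⟨a1, rfl⟩ := (AlgSp.yon S).map_surjective a1'
  haveI : Etale t1.left := hp.2 a _ t1 sq1
  haveI : Surjective t1.left := hps.2 a _ t1 sq1
  -- lift `b` étale locally
  obtain ⟨T2, t2, b2', sq2⟩ := hp.1 ((AlgSp.yon S).map t1 ≫ b)
  obtain ⟨b2, rfl⟩ := (AlgSp.yon S).map_surjective b2'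
  haveI : Etale t2.left := hp.2 _ _ t2 sq2
  haveI : Surjective t2.left := hps.2 _ _ t2 sq2
  -- the kernel pair of the atlas
  obtain ⟨R, s', r1', sqR⟩ := hp.1 p
  obtain ⟨r1, rfl⟩ := (AlgSp.yon S).map_surjective r1'
  haveI : Etale s'.left := hp.2 p _ s' sqR
  obtain ⟨τ, hτ⟩ : ∃ τ : T2 ⟶ T, τ = t2 ≫ t1 := ⟨_, rfl⟩
  obtain ⟨u1, hu1⟩ : ∃ u1 : T2 ⟶ U, u1 = t2 ≫ a1 := ⟨_, rfl⟩
  have hpu1 : (AlgSp.yon S).map u1 ≫ p = (AlgSp.yon S).map τ ≫ a := by
    rw [hu1, hτ, Functor.map_comp, Functor.map_comp, Category.assoc, Category.assoc, sq1.w]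
  have hpu2 : (AlgSp.yon S).map b2 ≫ p = (AlgSp.yon S).map τ ≫ b := by
    rw [hτ, Functor.map_comp, Category.assoc, sq2.w]
  -- the comparison object
  let rr : R ⟶ U ⨯ U := prod.lift r1 s'
  let uu : T2 ⟶ U ⨯ U := prod.lift u1 b2
  haveI : Mono rr := ⟨fun {Z} x y hxy => by
    apply (AlgSp.yon S).map_injective
    apply sqR.hom_ext
    · have := congrArg (fun m => m ≫ prod.fst) hxy
      simp only [Category.assoc, rr, prod.lift_fst] at this
      rw [← Functor.map_comp, ← Functor.map_comp, this]
    · have := congrArg (fun m => m ≫ prod.snd) hxy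
      simp only [Category.assoc, rr, prod.lift_snd] at this
      rw [← Functor.map_comp, ← Functor.map_comp, this]⟩
  have hrr : LocallyOfFiniteType rr.left := by
    have e1 : rr.left ≫ (prod.snd : U ⨯ U ⟶ U).left = s'.left := by
      rw [← Over.comp_left, prod.lift_snd]
    haveI : LocallyOfFiniteType (rr.left ≫ (prod.snd : U ⨯ U ⟶ U).left) := by
      rw [e1]; infer_instance
    exact locallyOfFiniteType_of_comp rr.left (prod.snd : U ⨯ U ⟶ U).left
  -- base change of `e` to `T2`
  haveI : Mono e := he.1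
  have key : ∀ (T' : Over S) (t : T' ⟶ T2),
      (∃ t' : T' ⟶ pullback e τ, t' ≫ pullback.snd e τ = t) ↔
        ∃ t' : T' ⟶ pullback uu rr, t' ≫ pullback.fst uu rr = t := by
    intro T' t
    constructor
    · rintro ⟨t', rfl⟩
      have h1 : (AlgSp.yon S).map ((t' ≫ pullback.snd e τ) ≫ τ) ≫ a =
          (AlgSp.yon S).map ((t' ≫ pullback.snd e τ) ≫ τ) ≫ b :=
        (he.2 _ _).2 ⟨t' ≫ pullback.fst e τ, by
          rw [Category.assoc, pullback.condition, Category.assoc]⟩
      have h2 : (AlgSp.yon S).map ((t' ≫ pullback.snd e τ) ≫ u1) ≫ p =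
          (AlgSp.yon S).map ((t' ≫ pullback.snd e τ) ≫ b2) ≫ p := by
        simp only [Functor.map_comp, Category.assoc] at h1 ⊢
        rw [hpu1, hpu2]
        exact h1
      obtain ⟨ρ, hρ⟩ := (AlgSp.yon S).map_surjective (sqR.lift _ _ h2)
      have hρ1 : ρ ≫ r1 = (t' ≫ pullback.snd e τ) ≫ u1 := by
        apply (AlgSp.yon S).map_injective
        rw [Functor.map_comp, hρ, sqR.lift_fst]
      have hρ2 : ρ ≫ s' = (t' ≫ pullback.snd e τ) ≫ b2 := by
        apply (AlgSp.yon S).map_injective
        rw [Functor.map_comp, hρ, sqR.lift_snd]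
      refine ⟨pullback.lift (t' ≫ pullback.snd e τ) ρ ?_, pullback.lift_fst _ _ _⟩
      apply Limits.prod.hom_ext
      · simp only [Category.assoc, uu, rr, prod.lift_fst]; exact hρ1.symm
      · simp only [Category.assoc, uu, rr, prod.lift_snd]; exact hρ2.symm
    · rintro ⟨t', rfl⟩
      have hc := pullback.condition (f := uu) (g := rr)
      have hc1 : pullback.fst uu rr ≫ u1 = pullback.snd uu rr ≫ r1 := by
        have := congrArg (fun m => m ≫ prod.fst) hc
        simpa only [Category.assoc, uu, rr, prod.lift_fst] using this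
      have hc2 : pullback.fst uu rr ≫ b2 = pullback.snd uu rr ≫ s' := by
        have := congrArg (fun m => m ≫ prod.snd) hc
        simpa only [Category.assoc, uu, rr, prod.lift_snd] using this
      have h1 : (AlgSp.yon S).map ((t' ≫ pullback.fst uu rr) ≫ τ) ≫ a =
          (AlgSp.yon S).map ((t' ≫ pullback.fst uu rr) ≫ τ) ≫ b := by
        have hc1' := congrArg (fun m => (AlgSp.yon S).map m) hc1
        have hc2' := congrArg (fun m => (AlgSp.yon S).map m) hc2
        simp only [Functor.map_comp, Category.assoc] at hc1' hc2' ⊢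
        rw [← hpu1, ← hpu2, reassoc_of% hc1', reassoc_of% hc2', sqR.w]
      obtain ⟨l, hl⟩ := (he.2 _ _).1 h1
      exact ⟨pullback.lift l (t' ≫ pullback.fst uu rr) hl, pullback.lift_snd _ _ _⟩
  obtain ⟨i, hi⟩ := exists_iso_of_factor_iff (pullback.snd e τ) (pullback.fst uu rr) key
  -- `pullback.fst uu rr` is locally of finite type
  have hsq' : IsPullback (pullback.fst uu rr).left (pullback.snd uu rr).left uu.left rr.left :=
    (IsPullback.of_hasPullback uu rr).map (Over.forget S)
  have h3 : LocallyOfFiniteType (pullback.fst uu rr).left :=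
    MorphismProperty.of_isPullback (P := @LocallyOfFiniteType) hsq'.flip hrr
  have h4 : LocallyOfFiniteType (pullback.snd e τ).left := by
    rw [← hi, Over.comp_left]
    haveI : IsIso i.hom.left := inferInstanceAs (IsIso ((Over.forget S).map i.hom))
    infer_instance
  -- descent
  have hsq : IsPullback (pullback.fst e τ).left (pullback.snd e τ).left e.left τ.left :=
    (IsPullback.of_hasPullback e τ).map (Over.forget S)
  have hτQ : (@Surjective ⊓ @Flat ⊓ @LocallyOfFinitePresentation : MorphismProperty Scheme.{u})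
      τ.left := by
    rw [hτ, Over.comp_left]
    exact ⟨⟨inferInstance, inferInstance⟩, inferInstance⟩
  exact MorphismProperty.of_isPullback_of_descendsAlong (P := @LocallyOfFiniteType)
    (Q := @Surjective ⊓ @Flat ⊓ @LocallyOfFinitePresentation) hsq.flip hτQ h4


/-- the equalizer locus represents the pullback of the relative diagonal. -/
lemma IsEqLocus.isPullback_diagonal {X Y : AlgSp.Sp S} (f : X ⟶ Y) {T E : Over S}
    (c : (AlgSp.yon S).obj T ⟶ pullback f f) {e : E ⟶ T}
    (he : IsEqLocus (c ≫ pullback.fst f f) (c ≫ pullback.snd f f) e) :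
    IsPullback ((AlgSp.yon S).map e ≫ c ≫ pullback.fst f f) ((AlgSp.yon S).map e)
      (pullback.diagonal f) c := by
  haveI : Mono e := he.1
  have hw : ((AlgSp.yon S).map e ≫ c ≫ pullback.fst f f) ≫ pullback.diagonal f =
      (AlgSp.yon S).map e ≫ c := by
    apply pullback.hom_ext
    · rw [Category.assoc, pullback.diagonal_fst, Category.comp_id, Category.assoc]
    · rw [Category.assoc, pullback.diagonal_snd, Category.comp_id, Category.assoc]
      exact he.eq
  refine isPullback_of_yon hw ?_
  intro T' b' c' hbc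
  obtain ⟨t, rfl⟩ := (AlgSp.yon S).map_surjective c'
  have h1 : b' = (AlgSp.yon S).map t ≫ c ≫ pullback.fst f f := by
    have := congrArg (fun m => m ≫ pullback.fst f f) hbc
    simpa only [Category.assoc, pullback.diagonal_fst, Category.comp_id] using this
  have h2 : b' = (AlgSp.yon S).map t ≫ c ≫ pullback.snd f f := by
    have := congrArg (fun m => m ≫ pullback.snd f f) hbc
    simpa only [Category.assoc, pullback.diagonal_snd, Category.comp_id] using this
  obtain ⟨t', rfl⟩ := (he.2 T' t).1 (h1.symm.trans h2)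
  refine ⟨(AlgSp.yon S).map t', ⟨?_, ((AlgSp.yon S).map_comp t' e).symm⟩, ?_⟩
  · rw [h1, Functor.map_comp, Category.assoc]
  · rintro a' ⟨-, ha'⟩
    obtain ⟨s, rfl⟩ := (AlgSp.yon S).map_surjective a'
    congr 1
    rw [← cancel_mono e]
    apply (AlgSp.yon S).map_injective
    rw [Functor.map_comp]
    exact ha'



/-- For a morphism of algebraic spaces the relative diagonal is representable by schemes, locally of
finite type, a monomorphism, separated and locally quasi-finite (each in the representable sense). -/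
theorem result {S : Scheme.{u}} {X Y : AlgSp.Space S} (f : X ⟶ Y) :
    AlgSp.Representable (pullback.diagonal f.hom) ∧
    AlgSp.RepWith @LocallyOfFiniteType (pullback.diagonal f.hom) ∧
    AlgSp.RepWith (MorphismProperty.monomorphisms Scheme.{u}) (pullback.diagonal f.hom) ∧
    AlgSp.RepWith @IsSeparated (pullback.diagonal f.hom) ∧
    AlgSp.RepWith (@LocallyQuasiFinite ⊓ @LocallyOfFiniteType) (pullback.diagonal f.hom) := by
  have hX : AlgSp.IsAlgSpace X.obj := X.property
  have key : ∀ (P : MorphismProperty Scheme.{u}) [P.IsStableUnderBaseChange],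
      (∀ {T E : Over S} (a b : (AlgSp.yon S).obj T ⟶ X.obj) (e : E ⟶ T), IsEqLocus a b e →
        P e.left) → AlgSp.RepWith P (pullback.diagonal f.hom) := by
    intro P _ hP
    refine MorphismProperty.relative.of_exists (fun T c => ?_)
    obtain ⟨E, e, he⟩ := exists_isEqLocus hX.diag (c ≫ pullback.fst f.hom f.hom)
      (c ≫ pullback.snd f.hom f.hom)
    exact ⟨E, _, e, he.isPullback_diagonal f.hom c, hP _ _ e he⟩
  have hmono : ∀ {T E : Over S} (a b : (AlgSp.yon S).obj T ⟶ X.obj) (e : E ⟶ T),
      IsEqLocus a b e → Mono e.left := fun a b e he => by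
    haveI := he.1
    infer_instance
  have hlft := key @LocallyOfFiniteType (fun a b e he => he.locallyOfFiniteType hX)
  refine ⟨hlft.1, hlft, key _ (fun a b e he => hmono a b e he), key _ (fun a b e he => ?_),
    key _ (fun a b e he => ?_)⟩
  · haveI := hmono a b e he
    infer_instance
  · haveI := hmono a b e he
    haveI := he.locallyOfFiniteType hX
    exact ⟨inferInstance, inferInstance⟩

end Groth.Agent.S9900
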