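import Groth.Statements.S9874
import Mathlib
import Groth.Agent.S9900

set_option autoImplicit false
universe u
open CategoryTheory CategoryTheory.Limits AlgebraicGeometry
open AlgSp

namespace Groth.Agent.S9874


open CategoryTheory.Limits Opposite MorphismProperty Groth.Agent.S13210 Groth.Agent.S9900

variable {S : Scheme.{u}}

/-- the equalizer locus of two points gives the pullback of the absolute diagonal. -/
lemma IsEqLocus.isPullback_diag {F : AlgSp.Sp S} {T E : Over S} (c : (AlgSp.yon S).obj T ⟶ F ⨯ F)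
    {e : E ⟶ T} (he : IsEqLocus (c ≫ prod.fst) (c ≫ prod.snd) e) :
    IsPullback ((AlgSp.yon S).map e ≫ c ≫ prod.fst) ((AlgSp.yon S).map e) (Limits.diag F) c := by
  haveI : Mono e := he.1
  have he12 := he.eq
  have hw : ((AlgSp.yon S).map e ≫ c ≫ prod.fst) ≫ Limits.diag F = (AlgSp.yon S).map e ≫ c := by
    apply Limits.prod.hom_ext
    · simp only [Category.assoc, Limits.diag, prod.lift_fst, Category.comp_id]
    · simp only [Category.assoc, Limits.diag, prod.lift_snd, Category.comp_id]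
      exact he12
  refine isPullback_of_yon hw ?_
  intro T' b y' hby
  obtain ⟨y, rfl⟩ := (AlgSp.yon S).map_surjective y'
  have hb1 : b = (AlgSp.yon S).map y ≫ c ≫ prod.fst := by
    have := congrArg (fun m => m ≫ prod.fst) hby
    simpa only [Category.assoc, Limits.diag, prod.lift_fst, Category.comp_id] using this
  have hb2 : b = (AlgSp.yon S).map y ≫ c ≫ prod.snd := by
    have := congrArg (fun m => m ≫ prod.snd) hby
    simpa only [Category.assoc, Limits.diag, prod.lift_snd, Category.comp_id] using this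
  obtain ⟨z, hz⟩ := (he.2 T' y).1 (by rw [← hb1, ← hb2])
  refine ⟨(AlgSp.yon S).map z, ⟨?_, ?_⟩, ?_⟩
  · rw [← Category.assoc, ← Functor.map_comp, hz, hb1]
  · rw [← Functor.map_comp, hz]
  · rintro z' ⟨-, hz2⟩
    obtain ⟨z'', rfl⟩ := (AlgSp.yon S).map_surjective z'
    congr 1
    rw [← cancel_mono e, hz]
    apply (AlgSp.yon S).map_injective
    rw [Functor.map_comp, hz2]

/-- a sheaf all of whose equalizer loci are representable has representable diagonal. -/
lemma representable_diag_of_isEqLocus {F : AlgSp.Sp S}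
    (h : ∀ {T : Over S} (a b : (AlgSp.yon S).obj T ⟶ F), ∃ (E : Over S) (e : E ⟶ T), IsEqLocus a b e) :
    AlgSp.Representable (Limits.diag F) := by
  intro T c
  obtain ⟨E, e, he⟩ := h (c ≫ prod.fst) (c ≫ prod.snd)
  exact ⟨E, e, _, IsEqLocus.isPullback_diag c he⟩

/-- equalizer loci in a sheaf embedded in a product. -/
lemma IsEqLocus.of_jointly_mono {P X Y : AlgSp.Sp S} (fst : P ⟶ X) (snd : P ⟶ Y)
    (hmono : ∀ {Q : AlgSp.Sp S} (u v : Q ⟶ P), u ≫ fst = v ≫ fst → u ≫ snd = v ≫ snd → u = v)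
    {T E1 E2 : Over S} {a b : (AlgSp.yon S).obj T ⟶ P} {e1 : E1 ⟶ T} {e2 : E2 ⟶ T}
    (h1 : IsEqLocus (a ≫ fst) (b ≫ fst) e1) (h2 : IsEqLocus (a ≫ snd) (b ≫ snd) e2) :
    IsEqLocus a b (pullback.fst e1 e2 ≫ e1) := by
  haveI : Mono e1 := h1.1
  haveI : Mono e2 := h2.1
  refine ⟨mono_comp _ _, fun T' t => ?_⟩
  constructor
  · intro hab
    obtain ⟨t1, ht1⟩ := (h1.2 T' t).1 (by rw [← Category.assoc, ← Category.assoc, hab])
    obtain ⟨t2, ht2⟩ := (h2.2 T' t).1 (by rw [← Category.assoc, ← Category.assoc, hab])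
    exact ⟨pullback.lift t1 t2 (by rw [ht1, ht2]), by rw [← Category.assoc, pullback.lift_fst, ht1]⟩
  · rintro ⟨t', rfl⟩
    apply hmono
    · rw [Category.assoc, Category.assoc]
      exact (h1.2 T' _).2 ⟨t' ≫ pullback.fst e1 e2, by rw [Category.assoc]⟩
    · rw [Category.assoc, Category.assoc]
      exact (h2.2 T' _).2 ⟨t' ≫ pullback.snd e1 e2, by
        rw [Category.assoc, ← pullback.condition]⟩

/-- a fibre product of algebraic spaces over a sheaf with representable diagonal is an algebraic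
space. -/
lemma isAlgSpace_of_isPullback {H X Y P : AlgSp.Sp S} (hH : AlgSp.Representable (Limits.diag H))
    (hX : AlgSp.IsAlgSpace X) (hY : AlgSp.IsAlgSpace Y) {f : X ⟶ H} {g : Y ⟶ H} {fst : P ⟶ X}
    {snd : P ⟶ Y} (h : IsPullback fst snd f g) : AlgSp.IsAlgSpace P := by
  constructor
  · refine representable_diag_of_isEqLocus (fun {T} a b => ?_)
    obtain ⟨E1, e1, h1⟩ := exists_isEqLocus hX.diag (a ≫ fst) (b ≫ fst)
    obtain ⟨E2, e2, h2⟩ := exists_isEqLocus hY.diag (a ≫ snd) (b ≫ snd)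
    exact ⟨_, _, IsEqLocus.of_jointly_mono fst snd (fun u v h1 h2 => h.hom_ext h1 h2) h1 h2⟩
  · obtain ⟨U, pU, hUe, hUs⟩ := hX.atlas
    obtain ⟨V, pV, hVe, hVs⟩ := hY.atlas
    obtain ⟨W, wV, wU, sqW⟩ := Functor.relativelyRepresentable.of_diag hH (pU ≫ f) (pV ≫ g)
    have hwP : (wU ≫ pU) ≫ f = ((AlgSp.yon S).map wV ≫ pV) ≫ g := by
      rw [Category.assoc, Category.assoc]; exact sqW.w
    have sq2 := IsPullback.of_hasPullback snd pV
    have hl : h.lift _ _ hwP ≫ snd = (AlgSp.yon S).map wV ≫ pV := h.lift_snd _ _ _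
    have hl1 : h.lift _ _ hwP ≫ fst = wU ≫ pU := h.lift_fst _ _ _
    have hlam1 : sq2.lift _ _ hl ≫ pullback.fst snd pV = h.lift _ _ hwP := sq2.lift_fst _ _ _
    have hlam2 : sq2.lift _ _ hl ≫ pullback.snd snd pV = (AlgSp.yon S).map wV := sq2.lift_snd _ _ _
    have big := sq2.paste_horiz h
    have sq3 : IsPullback (sq2.lift _ _ hl) wU (pullback.fst snd pV ≫ fst) pU := by
      refine IsPullback.of_right ?_ ?_ big.flip
      · rw [hlam2]; exact sqW.flip
      · rw [← Category.assoc, hlam1, hl1]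
    refine ⟨W, h.lift _ _ hwP, ?_, ?_⟩
    · rw [← hlam1]
      exact MorphismProperty.comp_mem _ _ _
        (MorphismProperty.of_isPullback (P := AlgSp.RepWith @Etale) sq3.flip hUe)
        (MorphismProperty.of_isPullback (P := AlgSp.RepWith @Etale) sq2.flip hVe)
    · rw [← hlam1]
      exact MorphismProperty.comp_mem _ _ _
        (MorphismProperty.of_isPullback (P := AlgSp.RepWith @Surjective) sq3.flip hUs)
        (MorphismProperty.of_isPullback (P := AlgSp.RepWith @Surjective) sq2.flip hVs)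



/-- Let `H` be an fppf sheaf of sets over `S` whose diagonal `H ⟶ H × H` is representable by schemes,
let `X`, `Y` be algebraic spaces over `S` with maps `f : X ⟶ H`, `g : Y ⟶ H`, and let `P` with its
two projections be a fibre product `X ×_H Y` in sheaves. Then `P` is an algebraic space over `S`. -/
theorem result (S : Scheme.{u}) (H : AlgSp.Sp S)
    (hH : AlgSp.Representable (Limits.diag H)) (X Y : AlgSp.Space S) (f : X.obj ⟶ H) (g : Y.obj ⟶ H)
    (P : AlgSp.Sp S) (fst : P ⟶ X.obj) (snd : P ⟶ Y.obj) (h : IsPullback fst snd f g) :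
    AlgSp.IsAlgSpace P := by
  exact isAlgSpace_of_isPullback hH X.property Y.property h

end Groth.Agent.S9874
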