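import Groth.Statements.S9908
import Mathlib
import Groth.Agent.S9906

set_option autoImplicit false
universe u
open CategoryTheory CategoryTheory.Limits AlgebraicGeometry
open AlgSp

namespace Groth.Agent.S9908


open CategoryTheory.Limits Opposite MorphismProperty Groth.Agent.S13210

variable {S : Scheme.{u}}

/-- the image of a set of points under a map of sheaves, pulled back to a test scheme. -/
lemma preimage_ofPt_map_image {Z Z' : AlgSp.Sp S} {snd : Z' ⟶ Z} {T W : Over S}
    {c : (AlgSp.yon S).obj T ⟶ Z} {pr' : (AlgSp.yon S).obj W ⟶ Z'} {w : W ⟶ T}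
    (sq : IsPullback pr' ((AlgSp.yon S).map w) snd c) (A : Set (AlgSp.Points Z')) :
    AlgSp.Points.ofPt c ⁻¹' (AlgSp.Points.map snd '' A) = w.left '' (AlgSp.Points.ofPt pr' ⁻¹' A) := by
  ext t
  constructor
  · rintro ⟨a, ha, hat⟩
    have hat' : AlgSp.Points.map snd a = AlgSp.Points.map c (AlgSp.Points.ofScheme T t) := by
      rw [hat, AlgSp.Points.ofPt_eq_map_ofScheme]
    obtain ⟨p, hp1, hp2⟩ := Groth.Agent.S10175.exists_point_of_isPullback sq a _ hat'
    obtain ⟨y, rfl⟩ := (AlgSp.Points.schemeHomeo W).surjective p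
    refine ⟨y, ?_, ?_⟩
    · rw [Set.mem_preimage, AlgSp.Points.ofPt_eq_map_ofScheme]
      exact hp1 ▸ ha
    · apply (AlgSp.Points.schemeHomeo T).injective
      rw [← AlgSp.Points.map_yon_map_apply]
      exact hp2
  · rintro ⟨y, hy, rfl⟩
    refine ⟨AlgSp.Points.ofPt pr' y, hy, ?_⟩
    rw [AlgSp.Points.map_ofPt, sq.w, Groth.Agent.S10176.ofPt_map_comp]

/-- a representable universally open map of sheaves is open on points. -/
lemma isOpenMap_map_of_repWith {F G : AlgSp.Sp S} (f : F ⟶ G)
    (hf : AlgSp.RepWith @UniversallyOpen f) : IsOpenMap (AlgSp.Points.map f) := by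
  intro A hA
  rw [AlgSp.Points.isOpen_iff]
  intro T c
  obtain ⟨W, w, pr', sq⟩ := hf.1 c
  haveI : UniversallyOpen w.left := hf.2 c _ w sq
  rw [preimage_ofPt_map_image sq A]
  exact w.left.isOpenMap _ (hA.preimage (AlgSp.Points.continuous_ofPt pr'))

lemma aux_w {T W : Over S} (w : W ⟶ T) {X' Y' : Scheme.{u}} (i₁ : X' ⟶ W.left)
    (i₂ : Y' ⟶ T.left) (f' : X' ⟶ Y') (h : f' ≫ i₂ = i₁ ≫ w.left) :
    i₁ ≫ W.hom = f' ≫ i₂ ≫ T.hom := by
  rw [← CategoryTheory.Over.w w, ← Category.assoc, ← h, Category.assoc]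

/-- a base change of schemes of a represented pullback is again a represented pullback. -/
lemma isPullback_yon_of_isPullback {F G : AlgSp.Sp S} {f : F ⟶ G} {T W : Over S}
    {g : (AlgSp.yon S).obj T ⟶ G} {pr : (AlgSp.yon S).obj W ⟶ F} {w : W ⟶ T}
    (sq : IsPullback pr ((AlgSp.yon S).map w) f g) {X' Y' : Scheme.{u}} (i₁ : X' ⟶ W.left)
    (i₂ : Y' ⟶ T.left) (f' : X' ⟶ Y') (h : IsPullback f' i₁ i₂ w.left) :
    IsPullback
      ((AlgSp.yon S).map (CategoryTheory.Over.homMk i₁ (aux_w w i₁ i₂ f' h.w) :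
          CategoryTheory.Over.mk (f' ≫ i₂ ≫ T.hom) ⟶ W) ≫ pr)
      ((AlgSp.yon S).map (CategoryTheory.Over.homMk f' rfl :
          CategoryTheory.Over.mk (f' ≫ i₂ ≫ T.hom) ⟶ CategoryTheory.Over.mk (i₂ ≫ T.hom)))
      f ((AlgSp.yon S).map (CategoryTheory.Over.homMk i₂ rfl :
          CategoryTheory.Over.mk (i₂ ≫ T.hom) ⟶ T) ≫ g) := by
  have hOver : IsPullback (CategoryTheory.Over.homMk i₁ (aux_w w i₁ i₂ f' h.w) :
          CategoryTheory.Over.mk (f' ≫ i₂ ≫ T.hom) ⟶ W)
      (CategoryTheory.Over.homMk f' rfl :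
          CategoryTheory.Over.mk (f' ≫ i₂ ≫ T.hom) ⟶ CategoryTheory.Over.mk (i₂ ≫ T.hom))
      w (CategoryTheory.Over.homMk i₂ rfl : CategoryTheory.Over.mk (i₂ ≫ T.hom) ⟶ T) := by
    refine IsPullback.of_map (CategoryTheory.Over.forget S) ?_ ?_
    · apply CategoryTheory.Over.OverMorphism.ext
      simp only [CategoryTheory.Over.comp_left, CategoryTheory.Over.homMk_left]
      exact h.w.symm
    · exact h.flip
  exact (hOver.map (AlgSp.yon S)).paste_horiz sq

/-- the underlying map of a morphism of schemes in terms of the map on points of `h_φ`. -/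
lemma left_eq_conj {T T' : Over S} (φ : T ⟶ T') :
    (fun t => φ.left t) = (AlgSp.Points.schemeHomeo T').symm ∘
      AlgSp.Points.map ((AlgSp.yon S).map φ) ∘ AlgSp.Points.schemeHomeo T := by
  funext t
  simp only [Function.comp_apply, AlgSp.Points.map_yon_map_apply, Homeomorph.symm_apply_apply]

lemma isOpenMap_left_of_points {T T' : Over S} (φ : T ⟶ T')
    (h : IsOpenMap (AlgSp.Points.map ((AlgSp.yon S).map φ))) : IsOpenMap φ.left := by
  have := (AlgSp.Points.schemeHomeo T').symm.isOpenMap.comp (h.comp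
    (AlgSp.Points.schemeHomeo T).isOpenMap)
  rw [← left_eq_conj] at this
  exact this

/-- for a representable map, universal openness on points of algebraic spaces gives representable
universal openness. -/
lemma repWith_universallyOpen_of_isUnivOpenMor {F G : AlgSp.Sp S} (f : F ⟶ G)
    (hf : AlgSp.Representable f) (h : AlgSp.IsUnivOpenMor f) : AlgSp.RepWith @UniversallyOpen f := by
  refine ⟨hf, ?_⟩
  intro T W g pr w sq
  change UniversallyOpen w.left
  rw [UniversallyOpen.eq]
  intro X' Y' i₁ i₂ f' hpb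
  have sq' := isPullback_yon_of_isPullback sq i₁ i₂ f' hpb
  have hopen := h (AlgSp.IsAlgSpace.yon_obj _) _ _ _ sq'
  exact isOpenMap_left_of_points _ hopen



/-- For a morphism of algebraic spaces representable by schemes, representable universal openness is
equivalent to openness of |Z x_Y X| -> |Z| after every base change along a morphism of algebraic
spaces. -/
theorem result {S : Scheme.{u}} {X Y : AlgSp.Space S} (f : X ⟶ Y)
    (hf : AlgSp.Representable f.hom) :
    AlgSp.RepWith @UniversallyOpen f.hom ↔ AlgSp.IsUnivOpenMor f.hom := by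
  constructor
  · intro h Z Z' hZ g fst snd sq
    exact isOpenMap_map_of_repWith snd
      (MorphismProperty.of_isPullback (P := AlgSp.RepWith @UniversallyOpen) sq h)
  · intro h
    exact repWith_universallyOpen_of_isUnivOpenMor f.hom hf h

end Groth.Agent.S9908
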