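import Groth.Statements.S9909
import Mathlib
import Groth.Agent.S9908

set_option autoImplicit false
universe u
open CategoryTheory CategoryTheory.Limits AlgebraicGeometry
open AlgSp

namespace Groth.Agent.S9909


open CategoryTheory.Limits Opposite MorphismProperty Groth.Agent.S13210 Groth.Agent.S9908

variable {S : Scheme.{u}}

/-- base change formula on points for a pullback square of sheaves. -/
lemma preimage_map_image {Z Z' H P : AlgSp.Sp S} {snd : Z' ⟶ Z} {c : H ⟶ Z} {pr : P ⟶ Z'}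
    {sndT : P ⟶ H} (sq : IsPullback pr sndT snd c) (A : Set (AlgSp.Points Z')) :
    AlgSp.Points.map c ⁻¹' (AlgSp.Points.map snd '' A) =
      AlgSp.Points.map sndT '' (AlgSp.Points.map pr ⁻¹' A) := by
  ext h
  constructor
  · rintro ⟨a, ha, e⟩
    obtain ⟨p, hp1, hp2⟩ := Groth.Agent.S10175.exists_point_of_isPullback sq a h e
    exact ⟨p, by rw [Set.mem_preimage, hp1]; exact ha, hp2⟩
  · rintro ⟨p, hp, rfl⟩
    refine ⟨AlgSp.Points.map pr p, hp, ?_⟩
    rw [← AlgSp.Points.map_comp, ← AlgSp.Points.map_comp, sq.w]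

/-- openness can be tested on affine opens. -/
lemma isOpen_of_forall_affineOpen {T : Scheme.{u}} (B : Set ↥T)
    (h : ∀ V : T.affineOpens, IsOpen (V.1.ι ⁻¹' B)) : IsOpen B := by
  rw [isOpen_iff_forall_mem_open]
  intro t ht
  obtain ⟨V, hV, htV, -⟩ := (T.isBasis_affineOpens).exists_subset_of_mem_open
    (Set.mem_univ t) isOpen_univ
  obtain ⟨V', hV', rfl⟩ := hV
  let V'' : T.Opens := V'
  refine ⟨V''.ι '' (V''.ι ⁻¹' B), Set.image_preimage_subset _ _,
    V''.ι.isOpenEmbedding.isOpenMap _ (h ⟨V'', hV'⟩), ⟨⟨t, htV⟩, ht, rfl⟩⟩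

/-- closedness can be tested on affine opens. -/
lemma isClosed_of_forall_affineOpen {T : Scheme.{u}} (B : Set ↥T)
    (h : ∀ V : T.affineOpens, IsClosed (V.1.ι ⁻¹' B)) : IsClosed B := by
  rw [← isOpen_compl_iff]
  refine isOpen_of_forall_affineOpen _ (fun V => ?_)
  rw [Set.preimage_compl, isOpen_compl_iff]
  exact h V

/-- the restriction of a test map to an affine open. -/
lemma preimage_ι_preimage_ofPt {F : AlgSp.Sp S} {T : Over S} (c : (AlgSp.yon S).obj T ⟶ F)
    (V : T.left.Opens) (B : Set (AlgSp.Points F)) :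
    V.ι ⁻¹' (AlgSp.Points.ofPt c ⁻¹' B) =
      AlgSp.Points.ofScheme (Over.mk (V.ι ≫ T.hom)) ⁻¹'
        (AlgSp.Points.map ((AlgSp.yon S).map
          (Over.homMk V.ι rfl : Over.mk (V.ι ≫ T.hom) ⟶ T) ≫ c) ⁻¹' B) := by
  ext y
  simp only [Set.mem_preimage]
  rw [← AlgSp.Points.ofPt_eq_map_ofScheme, Groth.Agent.S10176.ofPt_map_comp]
  rfl

/-- openness on points can be tested after base change to affine schemes. -/
lemma isOpenMap_map_of_affine {Z Z' : AlgSp.Sp S} (snd : Z' ⟶ Z)
    (h : ∀ (T : Over S), IsAffine T.left → ∀ (c : (AlgSp.yon S).obj T ⟶ Z) (P : AlgSp.Sp S)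
      (pr : P ⟶ Z') (sndT : P ⟶ (AlgSp.yon S).obj T), IsPullback pr sndT snd c →
      IsOpenMap (AlgSp.Points.map sndT)) : IsOpenMap (AlgSp.Points.map snd) := by
  intro A hA
  rw [AlgSp.Points.isOpen_iff]
  intro T c
  refine isOpen_of_forall_affineOpen _ (fun V => ?_)
  rw [preimage_ι_preimage_ofPt c V.1]
  set c' := (AlgSp.yon S).map (Over.homMk V.1.ι rfl : Over.mk (V.1.ι ≫ T.hom) ⟶ T) ≫ c with hc'
  have sq := IsPullback.of_hasPullback snd c'
  rw [preimage_map_image sq A]
  have hop := h (Over.mk (V.1.ι ≫ T.hom)) V.2 c' _ _ _ sq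
  exact (hop _ (hA.preimage (AlgSp.Points.continuous_map _))).preimage
    (AlgSp.Points.continuous_ofPt _)



/-- (1) ⇔ (3): a morphism of algebraic spaces is universally open if and only if its base change to
every affine scheme over the target is open on points. -/
theorem result {S : Scheme.{u}} {X Y : AlgSp.Space S} (f : X ⟶ Y) :
    AlgSp.IsUnivOpenMor f.hom ↔
      ∀ (Z : Over S), IsAffine Z.left → ∀ (g : (AlgSp.yon S).obj Z ⟶ Y.obj) (P : AlgSp.Sp S)
        (fst : P ⟶ X.obj) (snd : P ⟶ (AlgSp.yon S).obj Z), IsPullback fst snd f.hom g →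
        IsOpenMap (AlgSp.Points.map snd) := by
  constructor
  · intro h Z hZ g P fst snd sq
    exact h (AlgSp.IsAlgSpace.yon_obj Z) g fst snd sq
  · intro h Z Z' hZ g fst snd sq
    refine isOpenMap_map_of_affine snd ?_
    intro T hT c P pr sndT sqT
    exact h T hT (c ≫ g) P (pr ≫ fst) sndT (sqT.paste_horiz sq)

end Groth.Agent.S9909
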