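import Groth.Statements.S9917
import Mathlib
import Groth.Agent.S10174
import Groth.Agent.S9874
import Groth.Agent.S9909

set_option autoImplicit false
universe u
open CategoryTheory CategoryTheory.Limits AlgebraicGeometry
open AlgSp

namespace Groth.Agent.S9917


open CategoryTheory.Limits Opposite MorphismProperty Groth.Agent.S13210

variable {S : Scheme.{u}}

/-- a quasi-compact sheaf has a quasi-compact space of points. -/
lemma compactSpace_points_of_isQuasiCompactSp {F : AlgSp.Sp S} (h : AlgSp.IsQuasiCompactSp F) :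
    CompactSpace (AlgSp.Points F) := by
  obtain ⟨U, p, hpe, hps, hU⟩ := h
  haveI : CompactSpace ↥U.left := hU
  exact (Groth.Agent.S10177.surjective_ofPt p hps).compactSpace (AlgSp.Points.continuous_ofPt p)

/-- the space of points of a base change is compact as soon as it is so over finitely many jointly
surjective test objects. -/
lemma compactSpace_points_of_cover {Z Z' : AlgSp.Sp S} (sndZ : Z' ⟶ Z) {ι : Type*} [Finite ι]
    (H : ι → AlgSp.Sp S) (c : ∀ i, H i ⟶ Z)
    (hc : ∀ z : AlgSp.Points Z, ∃ i h, AlgSp.Points.map (c i) h = z)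
    (P : ι → AlgSp.Sp S) (pr : ∀ i, P i ⟶ Z') (sndT : ∀ i, P i ⟶ H i)
    (sq : ∀ i, IsPullback (pr i) (sndT i) sndZ (c i)) (hP : ∀ i, CompactSpace (AlgSp.Points (P i))) :
    CompactSpace (AlgSp.Points Z') := by
  have hcov : (Set.univ : Set (AlgSp.Points Z')) = ⋃ i, Set.range (AlgSp.Points.map (pr i)) := by
    symm
    rw [Set.eq_univ_iff_forall]
    intro z'
    obtain ⟨i, h, hh⟩ := hc (AlgSp.Points.map sndZ z')
    obtain ⟨p, hp1, hp2⟩ := Groth.Agent.S10175.exists_point_of_isPullback (sq i) z' h hh.symm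
    exact Set.mem_iUnion.2 ⟨i, p, hp1⟩
  refine ⟨?_⟩
  rw [hcov]
  exact isCompact_iUnion fun i => isCompact_range (AlgSp.Points.continuous_map (pr i))

/-- a finite family of affine test maps covering a chart of a quasi-compact sheaf. -/
lemma exists_finite_affine_cover {Z : AlgSp.Sp S} (hZ : AlgSp.IsQuasiCompactSp Z) :
    ∃ (ι : Type u) (_ : Finite ι) (T : ι → Over S) (c : ∀ i, (AlgSp.yon S).obj (T i) ⟶ Z),
      (∀ i, IsAffine (T i).left) ∧
      ∀ z : AlgSp.Points Z, ∃ i h, AlgSp.Points.map (c i) h = z := by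
  obtain ⟨U, q, hqe, hqs, hU⟩ := hZ
  haveI : CompactSpace ↥U.left := hU
  let 𝒱 := U.left.affineCover.finiteSubcover
  refine ⟨𝒱.I₀, inferInstance, fun i => Over.mk (𝒱.f i ≫ U.hom),
    fun i => (AlgSp.yon S).map (Over.homMk (𝒱.f i) rfl : Over.mk (𝒱.f i ≫ U.hom) ⟶ U) ≫ q, ?_, ?_⟩
  · intro i
    dsimp [𝒱]
    infer_instance
  · intro z
    obtain ⟨u, rfl⟩ := Groth.Agent.S10177.surjective_ofPt q hqs z
    obtain ⟨i, y, hy⟩ := 𝒱.exists_eq u
    refine ⟨i, AlgSp.Points.ofScheme _ y, ?_⟩
    rw [← AlgSp.Points.ofPt_eq_map_ofScheme, Groth.Agent.S10176.ofPt_map_comp]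
    exact congrArg _ hy

/-- quasi-compactness of a morphism to a sheaf with representable diagonal can be tested on affine
schemes. -/
lemma isQuasiCompactMor_of_affine {X Y : AlgSp.Sp S} (hX : AlgSp.IsAlgSpace X)
    (hY : AlgSp.Representable (Limits.diag Y)) (f : X ⟶ Y)
    (h : ∀ (Z : Over S), IsAffine Z.left → ∀ (g : (AlgSp.yon S).obj Z ⟶ Y) (P : AlgSp.Sp S)
      (fst : P ⟶ X) (snd : P ⟶ (AlgSp.yon S).obj Z), IsPullback fst snd f g →
      AlgSp.IsQuasiCompactSp P) : AlgSp.IsQuasiCompactMor f := by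
  intro Z Z' hZ hZc g fst snd sq
  have hZ' : AlgSp.IsAlgSpace Z' := Groth.Agent.S9874.isAlgSpace_of_isPullback hY hX hZ sq
  rw [Groth.Agent.S10174.isQuasiCompactSp_iff hZ']
  obtain ⟨ι, hι, T, c, hT, hc⟩ := exists_finite_affine_cover hZc
  refine compactSpace_points_of_cover snd (fun i => (AlgSp.yon S).obj (T i)) c hc
    (fun i => pullback snd (c i)) (fun i => pullback.fst _ _) (fun i => pullback.snd _ _)
    (fun i => IsPullback.of_hasPullback _ _) (fun i => ?_)
  exact compactSpace_points_of_isQuasiCompactSp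
    (h (T i) (hT i) (c i ≫ g) _ _ _ ((IsPullback.of_hasPullback snd (c i)).paste_horiz sq))



/-- (1) ⇔ (3): a morphism of algebraic spaces is quasi-compact if and only if its base change to every
affine scheme over the target is a quasi-compact algebraic space. -/
theorem result {S : Scheme.{u}} {X Y : AlgSp.Space S} (f : X ⟶ Y) :
    AlgSp.IsQuasiCompactMor f.hom ↔
      ∀ (Z : Over S), IsAffine Z.left → ∀ (g : (AlgSp.yon S).obj Z ⟶ Y.obj) (P : AlgSp.Sp S)
        (fst : P ⟶ X.obj) (snd : P ⟶ (AlgSp.yon S).obj Z), IsPullback fst snd f.hom g →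
        AlgSp.IsQuasiCompactSp P := by
  constructor
  · intro h Z hZ g P fst snd sq
    refine h (AlgSp.IsAlgSpace.yon_obj Z) ?_ g fst snd sq
    exact ⟨Z, 𝟙 _, AlgSp.repWith_id _ Z, AlgSp.repWith_id _ Z, inferInstance⟩
  · intro h
    exact isQuasiCompactMor_of_affine X.property Y.property.diag f.hom h

end Groth.Agent.S9917
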