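import Groth.Statements.S9913
import Mathlib
import Groth.Agent.S9917

set_option autoImplicit false
universe u
open CategoryTheory CategoryTheory.Limits AlgebraicGeometry
open AlgSp

namespace Groth.Agent.S9913


open CategoryTheory.Limits Opposite MorphismProperty Groth.Agent.S13210

variable {S : Scheme.{u}}

/-- an affine scheme over `S` is a quasi-compact sheaf. -/
lemma isQuasiCompactSp_yon_of_compact (T : Over S) [CompactSpace ↥T.left] :
    AlgSp.IsQuasiCompactSp ((AlgSp.yon S).obj T) :=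
  ⟨T, 𝟙 _, AlgSp.repWith_id _ T, AlgSp.repWith_id _ T, inferInstance⟩

/-- preimages of quasi-compact opens under a quasi-compact morphism. -/
lemma isCompact_preimage_of_isQuasiCompactMor {X Y : AlgSp.Sp S} (hY : AlgSp.IsAlgSpace Y) (f : X ⟶ Y)
    (hf : AlgSp.IsQuasiCompactMor f) (V : Set (AlgSp.Points Y)) (hV : IsOpen V) (hVc : IsCompact V) :
    IsCompact (AlgSp.Points.map f ⁻¹' V) := by
  obtain ⟨U, p, hpe, hps⟩ := hY.atlas
  have hopen : IsOpen (AlgSp.Points.ofPt p ⁻¹' V) := hV.preimage (AlgSp.Points.continuous_ofPt p)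
  let ι := {W : U.left.affineOpens // (W.1 : Set ↥U.left) ⊆ AlgSp.Points.ofPt p ⁻¹' V}
  have hcover : V ⊆ ⋃ W : ι, AlgSp.Points.ofPt p '' (W.1.1 : Set ↥U.left) := by
    intro v hv
    obtain ⟨u, rfl⟩ := Groth.Agent.S10177.surjective_ofPt p hps v
    obtain ⟨W, hW, huW, hWV⟩ := (U.left.isBasis_affineOpens).exists_subset_of_mem_open
      (show u ∈ AlgSp.Points.ofPt p ⁻¹' V from hv) hopen
    obtain ⟨W', hW', rfl⟩ := hW
    exact Set.mem_iUnion.2 ⟨⟨⟨W', hW'⟩, hWV⟩, u, huW, rfl⟩
  obtain ⟨t, ht⟩ := hVc.elim_finite_subcover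
    (fun W : ι => AlgSp.Points.ofPt p '' (W.1.1 : Set ↥U.left))
    (fun W => Groth.Agent.S10176.isOpenMap_ofPt p hpe _ W.1.1.2) hcover
  -- the test objects
  let T : ι → Over S := fun W => Over.mk (W.1.1.ι ≫ U.hom)
  let c : ∀ W : ι, (AlgSp.yon S).obj (T W) ⟶ Y := fun W =>
    (AlgSp.yon S).map (Over.homMk W.1.1.ι rfl : T W ⟶ U) ≫ p
  have hcW : ∀ (W : ι) (y : ↥(T W).left), AlgSp.Points.map (c W) (AlgSp.Points.ofScheme _ y) =
      AlgSp.Points.ofPt p (W.1.1.ι y) := by
    intro W y
    rw [← AlgSp.Points.ofPt_eq_map_ofScheme, Groth.Agent.S10176.ofPt_map_comp]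
    rfl
  have heq : AlgSp.Points.map f ⁻¹' V =
      ⋃ W ∈ t, Set.range (AlgSp.Points.map (pullback.fst f (c W))) := by
    ext x
    simp only [Set.mem_preimage, Set.mem_iUnion, Set.mem_range, exists_prop]
    constructor
    · intro hx
      obtain ⟨W, hWt, u, hu, hux⟩ : ∃ W ∈ t, AlgSp.Points.map f x ∈
          AlgSp.Points.ofPt p '' (W.1.1 : Set ↥U.left) := by
        simpa using ht hx
      have hux' : AlgSp.Points.map f x =
          AlgSp.Points.map (c W) (AlgSp.Points.ofScheme (T W) ⟨u, hu⟩) := by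
        rw [hcW, ← hux]
        rfl
      obtain ⟨q, hq1, hq2⟩ := Groth.Agent.S10175.exists_point_of_isPullback
        (IsPullback.of_hasPullback f (c W)) x _ hux'
      exact ⟨W, hWt, q, hq1⟩
    · rintro ⟨W, hWt, q, rfl⟩
      rw [← AlgSp.Points.map_comp, pullback.condition, AlgSp.Points.map_comp]
      obtain ⟨y, hy⟩ := (AlgSp.Points.schemeHomeo (T W)).surjective
        (AlgSp.Points.map (pullback.snd f (c W)) q)
      rw [← hy]
      change AlgSp.Points.map (c W) (AlgSp.Points.ofScheme _ y) ∈ V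
      rw [hcW]
      exact W.2 (show (W.1.1.ι y) ∈ (W.1.1 : Set ↥U.left) from y.2)
  rw [heq]
  refine t.isCompact_biUnion (fun W _ => ?_)
  haveI : IsAffine (T W).left := W.1.2
  haveI : CompactSpace (AlgSp.Points (pullback f (c W))) :=
    Groth.Agent.S9917.compactSpace_points_of_isQuasiCompactSp
      (hf (AlgSp.IsAlgSpace.yon_obj (T W)) (isQuasiCompactSp_yon_of_compact (T W)) (c W) _ _
        (IsPullback.of_hasPullback f (c W)))
  exact isCompact_range (AlgSp.Points.continuous_map _)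



/-- For a quasi-compact morphism of algebraic spaces, the induced map on points pulls quasi-compact
opens back to quasi-compact subsets. -/
theorem result {S : Scheme.{u}} {X Y : AlgSp.Space S} (f : X ⟶ Y)
    (hf : AlgSp.IsQuasiCompactMor f.hom) (V : Set (AlgSp.Points Y.obj)) (hV : IsOpen V) (hVc : IsCompact V) :
    IsCompact (AlgSp.Points.map f.hom ⁻¹' V) := by
  exact isCompact_preimage_of_isQuasiCompactMor Y.property f.hom hf V hV hVc

end Groth.Agent.S9913
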