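import Groth.Statements.S9922
import Mathlib
import Groth.Agent.S9908

set_option autoImplicit false
universe u
open CategoryTheory CategoryTheory.Limits AlgebraicGeometry
open AlgSp

namespace Groth.Agent.S9922


open CategoryTheory.Limits Opposite MorphismProperty Groth.Agent.S13210 Groth.Agent.S9908

variable {S : Scheme.{u}}

lemma isClosed_iff {F : AlgSp.Sp S} {B : Set (AlgSp.Points F)} :
    IsClosed B ↔ ∀ (T : Over S) (g : (AlgSp.yon S).obj T ⟶ F), IsClosed (AlgSp.Points.ofPt g ⁻¹' B) := by
  rw [← isOpen_compl_iff, AlgSp.Points.isOpen_iff]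
  refine forall_congr' fun T => forall_congr' fun g => ?_
  rw [Set.preimage_compl, isOpen_compl_iff]

/-- a representable universally closed map of sheaves is closed on points. -/
lemma isClosedMap_map_of_repWith {F G : AlgSp.Sp S} (f : F ⟶ G)
    (hf : AlgSp.RepWith @UniversallyClosed f) : IsClosedMap (AlgSp.Points.map f) := by
  intro A hA
  rw [isClosed_iff]
  intro T c
  obtain ⟨W, w, pr', sq⟩ := hf.1 c
  haveI : UniversallyClosed w.left := hf.2 c _ w sq
  rw [preimage_ofPt_map_image sq A]
  exact w.left.isClosedMap _ (hA.preimage (AlgSp.Points.continuous_ofPt pr'))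

lemma isClosedMap_left_of_points {T T' : Over S} (φ : T ⟶ T')
    (h : IsClosedMap (AlgSp.Points.map ((AlgSp.yon S).map φ))) : IsClosedMap φ.left := by
  have := (AlgSp.Points.schemeHomeo T').symm.isClosedMap.comp (h.comp
    (AlgSp.Points.schemeHomeo T).isClosedMap)
  rw [← left_eq_conj] at this
  exact this

lemma repWith_universallyClosed_of_isUnivClosedMor {F G : AlgSp.Sp S} (f : F ⟶ G)
    (hf : AlgSp.Representable f) (h : AlgSp.IsUnivClosedMor f) :
    AlgSp.RepWith @UniversallyClosed f := by
  refine ⟨hf, ?_⟩
  intro T W g pr w sq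
  change UniversallyClosed w.left
  rw [universallyClosed_eq]
  intro X' Y' i₁ i₂ f' hpb
  have sq' := isPullback_yon_of_isPullback sq i₁ i₂ f' hpb
  have hcl := h (AlgSp.IsAlgSpace.yon_obj _) _ _ _ sq'
  exact isClosedMap_left_of_points _ hcl



/-- For a morphism of algebraic spaces representable by schemes, representable universal closedness is
equivalent to closedness of |Z x_Y X| -> |Z| for every base change along a morphism of algebraic
spaces. -/
theorem result {S : Scheme.{u}} {X Y : AlgSp.Space S} (f : X ⟶ Y)
    (hf : AlgSp.Representable f.hom) :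
    AlgSp.RepWith @UniversallyClosed f.hom ↔ AlgSp.IsUnivClosedMor f.hom := by
  constructor
  · intro h Z Z' hZ g fst snd sq
    exact isClosedMap_map_of_repWith snd
      (MorphismProperty.of_isPullback (P := AlgSp.RepWith @UniversallyClosed) sq h)
  · intro h
    exact repWith_universallyClosed_of_isUnivClosedMor f.hom hf h

end Groth.Agent.S9922
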