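import Groth.Statements.S9923
import Mathlib
import Groth.Agent.S9909
import Groth.Agent.S9922

set_option autoImplicit false
universe u
open CategoryTheory CategoryTheory.Limits AlgebraicGeometry
open AlgSp

namespace Groth.Agent.S9923


open CategoryTheory.Limits Opposite MorphismProperty Groth.Agent.S13210 Groth.Agent.S9908
  Groth.Agent.S9909

variable {S : Scheme.{u}}

/-- closedness on points can be tested after base change to affine schemes. -/
lemma isClosedMap_map_of_affine {Z Z' : AlgSp.Sp S} (snd : Z' ⟶ Z)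
    (h : ∀ (T : Over S), IsAffine T.left → ∀ (c : (AlgSp.yon S).obj T ⟶ Z) (P : AlgSp.Sp S)
      (pr : P ⟶ Z') (sndT : P ⟶ (AlgSp.yon S).obj T), IsPullback pr sndT snd c →
      IsClosedMap (AlgSp.Points.map sndT)) : IsClosedMap (AlgSp.Points.map snd) := by
  intro A hA
  rw [Groth.Agent.S9922.isClosed_iff]
  intro T c
  refine isClosed_of_forall_affineOpen _ (fun V => ?_)
  rw [preimage_ι_preimage_ofPt c V.1]
  set c' := (AlgSp.yon S).map (Over.homMk V.1.ι rfl : Over.mk (V.1.ι ≫ T.hom) ⟶ T) ≫ c with hc'
  have sq := IsPullback.of_hasPullback snd c'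
  rw [preimage_map_image sq A]
  have hop := h (Over.mk (V.1.ι ≫ T.hom)) V.2 c' _ _ _ sq
  exact (hop _ (hA.preimage (AlgSp.Points.continuous_map _))).preimage
    (AlgSp.Points.continuous_ofPt _)



/-- (1) ⇔ (3): a morphism of algebraic spaces is universally closed if and only if its base change to
every affine scheme over the target is closed on points. -/
theorem result {S : Scheme.{u}} {X Y : AlgSp.Space S} (f : X ⟶ Y) :
    AlgSp.IsUnivClosedMor f.hom ↔
      ∀ (Z : Over S), IsAffine Z.left → ∀ (g : (AlgSp.yon S).obj Z ⟶ Y.obj) (P : AlgSp.Sp S)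
        (fst : P ⟶ X.obj) (snd : P ⟶ (AlgSp.yon S).obj Z), IsPullback fst snd f.hom g →
        IsClosedMap (AlgSp.Points.map snd) := by
  constructor
  · intro h Z hZ g P fst snd sq
    exact h (AlgSp.IsAlgSpace.yon_obj Z) g fst snd sq
  · intro h Z Z' hZ g fst snd sq
    refine isClosedMap_map_of_affine snd ?_
    intro T hT c P pr sndT sqT
    exact h T hT (c ≫ g) P (pr ≫ fst) sndT (sqT.paste_horiz sq)

end Groth.Agent.S9923
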