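import Groth.Statements.S10288
import Mathlib
import Groth.Agent.S9874
import Groth.Agent.S9913
import Groth.Agent.S9923
import Groth.Agent.S10176
import Groth.Agent.S10177
import Groth.Agent.S10180

set_option autoImplicit false
universe u
open CategoryTheory CategoryTheory.Limits AlgebraicGeometry
open AlgSp

namespace Groth.Agent.S10288


open IsLocalRing

variable {S : Scheme.{u}}

lemma ofPt_yon_map {T T' : Over S} (φ : T ⟶ T') (t : ↥T.left) :
    AlgSp.Points.ofPt ((AlgSp.yon S).map φ) t = AlgSp.Points.schemeHomeo T' (φ.left t) := by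
  rw [AlgSp.Points.ofPt_eq_map_ofScheme]
  exact AlgSp.Points.map_yon_map_apply φ t

/-- for a morphism of affine schemes, the image of a closed set is closed as soon as it is stable
under specialization. -/
lemma isClosed_image_of_affine {A B : Scheme.{u}} [IsAffine A] [IsAffine B] (φ : A ⟶ B)
    (E : Set A) (hE : IsClosed E) (hs : StableUnderSpecialization (φ '' E)) :
    IsClosed (φ '' E) := by
  obtain ⟨ψ, hψ⟩ := Spec.map_surjective (A.isoSpec.inv ≫ φ ≫ B.isoSpec.hom)
  have hcomp : A.isoSpec.hom ≫ Spec.map ψ = φ ≫ B.isoSpec.hom := by rw [hψ]; simp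
  have hset : Spec.map ψ '' (A.isoSpec.hom '' E) = B.isoSpec.hom '' (φ '' E) := by
    rw [Set.image_image, Set.image_image]
    congr 1
    ext x
    rw [← Scheme.Hom.comp_apply, ← Scheme.Hom.comp_apply, hcomp]
  have hE' : IsClosed (A.isoSpec.hom '' E) := (Scheme.homeoOfIso A.isoSpec).isClosedMap E hE
  have hs' : StableUnderSpecialization (Spec.map ψ '' (A.isoSpec.hom '' E)) := by
    rw [hset]
    exact hs.image (Scheme.homeoOfIso B.isoSpec).isClosedMap.specializingMap
  have hcl : IsClosed (Spec.map ψ '' (A.isoSpec.hom '' E)) :=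
    PrimeSpectrum.isClosed_image_of_stableUnderSpecialization ψ.hom (A.isoSpec.hom '' E) hE' hs'
  rw [hset] at hcl
  exact (Scheme.homeoOfIso B.isoSpec).isClosed_image.1 hcl

/-- a specialization of the image of a point is dominated by a valuation ring of the residue field. -/
lemma exists_valuation_square {A B : Scheme.{u}} (hh : A ⟶ B) (u' : A) (z : B) (h : hh u' ⤳ z) :
    ∃ (R : ValuationSubring (A.residueField u')) (i₂ : Spec (.of R) ⟶ B),
      A.fromSpecResidueField u' ≫ hh =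
        Spec.map (CommRingCat.ofHom (algebraMap R (A.residueField u'))) ≫ i₂ ∧
      i₂ (closedPoint R) = z := by
  let stalk_y_to_residue_x' : B.presheaf.stalk z ⟶ A.residueField u' :=
    B.presheaf.stalkSpecializes h ≫ hh.stalkMap u' ≫ A.residue u'
  obtain ⟨R, hR, hR_local⟩ := exists_factor_valuationRing stalk_y_to_residue_x'.hom
  let stalk_y_to_A : B.presheaf.stalk z ⟶ .of R :=
    CommRingCat.ofHom (stalk_y_to_residue_x'.hom.codRestrict _ hR)
  have w : A.fromSpecResidueField u' ≫ hh =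
      Spec.map (CommRingCat.ofHom (algebraMap R (A.residueField u'))) ≫
        Spec.map stalk_y_to_A ≫ B.fromSpecStalk z := by
    rw [Scheme.fromSpecResidueField, Category.assoc, ← Scheme.SpecMap_stalkMap_fromSpecStalk,
      ← Scheme.SpecMap_stalkSpecializes_fromSpecStalk h]
    simp_rw [← Spec.map_comp_assoc]
    rfl
  refine ⟨R, Spec.map stalk_y_to_A ≫ B.fromSpecStalk z, w, ?_⟩
  have : Spec.map stalk_y_to_A (closedPoint R) = closedPoint (B.presheaf.stalk z) :=
    comap_closedPoint (S := R) (stalk_y_to_residue_x'.hom.codRestrict R.toSubring hR)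
  rw [Scheme.Hom.comp_apply, this, B.fromSpecStalk_closedPoint]



/-- A quasi-compact morphism of algebraic spaces satisfying the existence part of the valuative
criterion is universally closed. -/
theorem result {S : Scheme.{u}} {X Y : AlgSp.Space S} (f : X ⟶ Y)
    (hq : AlgSp.IsQuasiCompactMor f.hom) (he : AlgSp.ExistVC f.hom) : AlgSp.IsUnivClosedMor f.hom := by
  refine (Groth.Agent.S9923.result f).2 (fun Z hZ g P fst snd sq => ?_)
  haveI : IsAffine Z.left := hZ
  have hP : AlgSp.IsAlgSpace P :=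
    Groth.Agent.S9874.isAlgSpace_of_isPullback Y.property.diag X.property
      (AlgSp.IsAlgSpace.yon_obj Z) sq
  have hPc : AlgSp.IsQuasiCompactSp P :=
    hq (AlgSp.IsAlgSpace.yon_obj Z) (Groth.Agent.S9913.isQuasiCompactSp_yon_of_compact Z) g fst snd sq
  obtain ⟨U, q, hUa, hqe, hqs⟩ := (Groth.Agent.S10180.result (⟨P, hP⟩ : AlgSp.Space S)).1 hPc
  haveI : IsAffine U.left := hUa
  obtain ⟨h₀, hh₀⟩ := (AlgSp.yon S).map_surjective (q ≫ snd)
  have hsnd : ∀ u : ↥U.left, AlgSp.Points.map snd (AlgSp.Points.ofPt q u) =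
      AlgSp.Points.schemeHomeo Z (h₀.left u) := by
    intro u
    rw [AlgSp.Points.map_ofPt, ← hh₀, ofPt_yon_map]
  intro C hC
  have hE : IsClosed (AlgSp.Points.ofPt q ⁻¹' C) := hC.preimage (AlgSp.Points.continuous_ofPt q)
  have himg : AlgSp.Points.map snd '' C =
      AlgSp.Points.schemeHomeo Z '' (h₀.left '' (AlgSp.Points.ofPt q ⁻¹' C)) := by
    ext y
    constructor
    · rintro ⟨x, hx, rfl⟩
      obtain ⟨u, rfl⟩ := Groth.Agent.S10177.surjective_ofPt q hqs x
      exact ⟨h₀.left u, ⟨u, hx, rfl⟩, (hsnd u).symm⟩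
    · rintro ⟨z, ⟨u, hu, rfl⟩, rfl⟩
      exact ⟨AlgSp.Points.ofPt q u, hu, hsnd u⟩
  rw [himg, (AlgSp.Points.schemeHomeo Z).isClosed_image]
  refine isClosed_image_of_affine h₀.left _ hE ?_
  rintro z' z hspec ⟨u', hu', rfl⟩
  obtain ⟨R, i₂, w, hcl⟩ := exists_valuation_square h₀.left u' z hspec
  have hi₁ : U.left.fromSpecResidueField u' ≫ U.hom =
      Spec.map (CommRingCat.ofHom (algebraMap R (U.left.residueField u'))) ≫ i₂ ≫ Z.hom := by
    have h := w =≫ Z.hom
    rw [Category.assoc, Category.assoc, Over.w h₀] at h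
    exact h
  let i₂' : Over.mk (i₂ ≫ Z.hom) ⟶ Z := Over.homMk i₂ rfl
  let jj : Over.mk (Spec.map (CommRingCat.ofHom (algebraMap R (U.left.residueField u'))) ≫
      i₂ ≫ Z.hom) ⟶ Over.mk (i₂ ≫ Z.hom) :=
    Over.homMk (Spec.map (CommRingCat.ofHom (algebraMap R (U.left.residueField u')))) rfl
  let i₁' : Over.mk (Spec.map (CommRingCat.ofHom (algebraMap R (U.left.residueField u'))) ≫
      i₂ ≫ Z.hom) ⟶ U := Over.homMk (U.left.fromSpecResidueField u') hi₁
  have hcomm' : i₁' ≫ h₀ = jj ≫ i₂' := Over.OverMorphism.ext w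
  have e₁ : (AlgSp.yon S).map i₁' ≫ q ≫ snd = (AlgSp.yon S).map jj ≫ (AlgSp.yon S).map i₂' := by
    rw [← hh₀, ← Functor.map_comp, ← Functor.map_comp, hcomm']
  have hcommV : ((AlgSp.yon S).map i₁' ≫ q ≫ fst) ≫ f.hom =
      (AlgSp.yon S).map jj ≫ (AlgSp.yon S).map i₂' ≫ g := by
    have := e₁ =≫ g
    simp only [Category.assoc] at this ⊢
    rw [sq.w]
    exact this
  let vsq : AlgSp.ValSq f.hom :=
    { A := R, K := U.left.residueField u', str := i₂ ≫ Z.hom,
      top := (AlgSp.yon S).map i₁' ≫ q ≫ fst, bot := (AlgSp.yon S).map i₂' ≫ g,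
      comm := hcommV }
  obtain ⟨e, l, hl1, hl2⟩ := he vsq
  haveI : IsLocalHom e.φ := e.isLocalHom
  have hΨw : Spec.map (CommRingCat.ofHom e.ψ) ≫ vsq.ptK.hom = e.ptK'.hom := by
    change Spec.map _ ≫ Spec.map _ ≫ _ = Spec.map _ ≫ Spec.map _ ≫ _
    rw [← Spec.map_comp_assoc, ← Spec.map_comp_assoc, ← CommRingCat.ofHom_comp,
      ← CommRingCat.ofHom_comp, e.comm]
  let Ψ : e.ptK' ⟶ vsq.ptK := Over.homMk (Spec.map (CommRingCat.ofHom e.ψ)) hΨw
  let φ' : e.ptA' ⟶ vsq.ptA := Over.homMk (Spec.map (CommRingCat.ofHom e.φ)) rfl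
  let kk : e.ptK' ⟶ e.ptA' := Over.homMk (Spec.map (CommRingCat.ofHom (algebraMap e.A' e.K'))) rfl
  have hl1' : (AlgSp.yon S).map kk ≫ l =
      (AlgSp.yon S).map Ψ ≫ (AlgSp.yon S).map i₁' ≫ q ≫ fst := hl1
  have hl2' : l ≫ f.hom = ((AlgSp.yon S).map φ' ≫ (AlgSp.yon S).map i₂') ≫ g := by
    rw [Category.assoc]; exact hl2
  obtain ⟨lP, hlP⟩ : ∃ lP : (AlgSp.yon S).obj e.ptA' ⟶ P,
      lP = sq.lift l ((AlgSp.yon S).map φ' ≫ (AlgSp.yon S).map i₂') hl2' := ⟨_, rfl⟩
  have hlP1 : lP ≫ fst = l := by rw [hlP, sq.lift_fst]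
  have hlP2 : lP ≫ snd = (AlgSp.yon S).map φ' ≫ (AlgSp.yon S).map i₂' := by
    rw [hlP, sq.lift_snd]
  have hkφ : kk ≫ φ' = Ψ ≫ jj := by
    apply Over.OverMorphism.ext
    show Spec.map (CommRingCat.ofHom (algebraMap e.A' e.K')) ≫ Spec.map (CommRingCat.ofHom e.φ) =
      Spec.map (CommRingCat.ofHom e.ψ) ≫
        Spec.map (CommRingCat.ofHom (algebraMap R (U.left.residueField u')))
    rw [← Spec.map_comp, ← Spec.map_comp, ← CommRingCat.ofHom_comp, ← CommRingCat.ofHom_comp]
    exact congrArg (fun r => Spec.map (CommRingCat.ofHom r)) e.comm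
  have hm : (AlgSp.yon S).map kk ≫ lP = (AlgSp.yon S).map Ψ ≫ (AlgSp.yon S).map i₁' ≫ q := by
    apply sq.hom_ext
    · rw [Category.assoc, hlP1, hl1']
      simp only [Category.assoc]
    · have h1 : ((AlgSp.yon S).map kk ≫ lP) ≫ snd = (AlgSp.yon S).map (kk ≫ φ' ≫ i₂') := by
        rw [Category.assoc, hlP2, Functor.map_comp, Functor.map_comp]
      have h2 : ((AlgSp.yon S).map Ψ ≫ (AlgSp.yon S).map i₁' ≫ q) ≫ snd =
          (AlgSp.yon S).map (Ψ ≫ jj ≫ i₂') := by
        rw [Category.assoc, Category.assoc, e₁, Functor.map_comp, Functor.map_comp]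
      rw [h1, h2, ← Category.assoc kk φ' i₂', hkφ, Category.assoc]
  have hx₀ : AlgSp.Points.ofPt lP (kk.left (closedPoint e.K')) ∈ C := by
    rw [← Groth.Agent.S10176.ofPt_map_comp kk lP, hm, Groth.Agent.S10176.ofPt_map_comp Ψ,
      Groth.Agent.S10176.ofPt_map_comp i₁']
    have h3 : i₁'.left (Ψ.left (closedPoint e.K')) = u' :=
      Scheme.fromSpecResidueField_apply u' _
    rw [h3]; exact hu'
  have hspec' : AlgSp.Points.ofPt lP (kk.left (closedPoint e.K')) ⤳
      AlgSp.Points.ofPt lP (closedPoint e.A') :=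
    (specializes_closedPoint (kk.left (closedPoint e.K'))).map (AlgSp.Points.continuous_ofPt lP)
  have hx₁ : AlgSp.Points.ofPt lP (closedPoint e.A') ∈ C :=
    hC.stableUnderSpecialization hspec' hx₀
  obtain ⟨u₁, hu₁⟩ := Groth.Agent.S10177.surjective_ofPt q hqs (AlgSp.Points.ofPt lP (closedPoint e.A'))
  have hz : (φ' ≫ i₂').left (closedPoint e.A') = z := by
    rw [Over.comp_left, Scheme.Hom.comp_apply]
    have h3 : φ'.left (closedPoint e.A') = closedPoint R := comap_closedPoint e.φ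
    rw [h3]; exact hcl
  refine ⟨u₁, by rw [Set.mem_preimage, hu₁]; exact hx₁, ?_⟩
  apply (AlgSp.Points.schemeHomeo Z).injective
  rw [← hsnd u₁, hu₁, AlgSp.Points.map_ofPt, hlP2, ← Functor.map_comp, ofPt_yon_map, hz]

end Groth.Agent.S10288
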