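import Groth.Statements.S10509
import Mathlib
import Groth.Agent.Lib.Helper20SmoothSec
import Groth.Agent.S9874
import Groth.Agent.S10177
import Groth.Agent.S10288

set_option autoImplicit false
universe u
open CategoryTheory CategoryTheory.Limits AlgebraicGeometry
open AlgSp

namespace Groth.Agent.S10509


/-- the point defined by a chart precomposed with a morphism of schemes. -/
lemma ofPt_yon_map_comp {S : Scheme.{u}} {F : AlgSp.Sp S} {T T' : Over S} (m : T ⟶ T')
    (a : (AlgSp.yon S).obj T' ⟶ F) (t : ↥T.left) :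
    AlgSp.Points.ofPt ((AlgSp.yon S).map m ≫ a) t = AlgSp.Points.ofPt a (m.left t) := by
  rw [← AlgSp.Points.map_ofPt, Groth.Agent.S10288.ofPt_yon_map, AlgSp.Points.ofPt_eq_map_ofScheme a]
  rfl

/-- chart data for one member of a smooth covering: a scheme `Wi` with a surjective étale map to the
member and a smooth morphism to the atlas of the target. -/
lemma exists_smooth_chart {S : Scheme.{u}} {X Xi : AlgSp.Sp S} (hX : AlgSp.IsAlgSpace X)
    (hXi : AlgSp.IsAlgSpace Xi) (g : Xi ⟶ X) (hg : AlgSp.LocP @Smooth g) {W : Over S}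
    (w : (AlgSp.yon S).obj W ⟶ X) (hwe : AlgSp.RepWith @Etale w)
    (hws : AlgSp.RepWith @Surjective w) :
    ∃ (Wi : Over S) (a : (AlgSp.yon S).obj Wi ⟶ Xi) (s : Wi ⟶ W), AlgSp.RepWith @Etale a ∧
      AlgSp.RepWith @Surjective a ∧ a ≫ g = (AlgSp.yon S).map s ≫ w ∧ Smooth s.left := by
  have sq : IsPullback (pullback.fst g w) (pullback.snd g w) g w := IsPullback.of_hasPullback _ _
  have hQ : AlgSp.IsAlgSpace (pullback g w) :=
    Groth.Agent.S9874.isAlgSpace_of_isPullback hX.diag hXi (AlgSp.IsAlgSpace.yon_obj W) sq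
  obtain ⟨Wi, wi, hwie, hwis⟩ := hQ.atlas
  have h1e : AlgSp.RepWith @Etale (pullback.fst g w) :=
    MorphismProperty.of_isPullback (P := AlgSp.RepWith @Etale) sq.flip hwe
  have h1s : AlgSp.RepWith @Surjective (pullback.fst g w) :=
    MorphismProperty.of_isPullback (P := AlgSp.RepWith @Surjective) sq.flip hws
  obtain ⟨s, hs⟩ := (AlgSp.yon S).map_surjective (wi ≫ pullback.snd g w)
  have hae : AlgSp.RepWith @Etale (wi ≫ pullback.fst g w) :=
    (AlgSp.RepWith @Etale).comp_mem _ _ hwie h1e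
  have hcomm : (wi ≫ pullback.fst g w) ≫ g = (AlgSp.yon S).map s ≫ w := by
    rw [Category.assoc, pullback.condition, ← Category.assoc, hs]
  exact ⟨Wi, wi ≫ pullback.fst g w, s, hae, (AlgSp.RepWith @Surjective).comp_mem _ _ hwis h1s,
    hcomm, hg _ w s hae hwe hcomm⟩



/-- A smooth covering of an algebraic space `X` over `S` by algebraic spaces can be refined by an etale
covering of `X` by algebraic spaces: there is an etale covering `{U_j ⟶ X}` each member of which
factors through some member of the given smooth covering. -/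
theorem result {S : Scheme.{u}} (X : AlgSp.Space S) {ι : Type u}
    (Xi : ι → AlgSp.Space S) (g : ∀ i, Xi i ⟶ X)
    (h : AlgSp.IsSmCover (fun i => (Xi i).obj) (fun i => (g i).hom)) :
    ∃ (κ : Type u) (U : κ → AlgSp.Space S) (c : ∀ j, U j ⟶ X),
      AlgSp.IsEtCover (fun j => (U j).obj) (fun j => (c j).hom) ∧
      ∀ j, ∃ (i : ι) (r : U j ⟶ Xi i), r ≫ g i = c j := by
  obtain ⟨W, w, hwe, hws⟩ := X.property.atlas
  choose Wi a s hae has hcomm hsm using fun i =>
    exists_smooth_chart X.property (Xi i).property (g i).hom (h.1 i) w hwe hws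
  haveI : ∀ i, Smooth (s i).left := hsm
  choose S' g' s' hg'e hg's' hl using fun (j : Σ i : ι, ↥(Wi i).left) =>
    Groth.Agent.Lib.Helper20.SmoothSec.exists_etale_section_of_smooth (s j.1).left j.2
  choose l hl using hl
  let T : (Σ i : ι, ↥(Wi i).left) → Over S := fun j => Over.mk (g' j ≫ W.hom)
  let γ : ∀ j, T j ⟶ W := fun j => Over.homMk (g' j) rfl
  have hlm : ∀ j : (Σ i : ι, ↥(Wi i).left), l j ≫ (Wi j.1).hom = (T j).hom := by
    intro j
    show l j ≫ (Wi j.1).hom = g' j ≫ W.hom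
    rw [← hl j, Category.assoc, Over.w (s j.1)]
  let lam : ∀ j : (Σ i : ι, ↥(Wi i).left), T j ⟶ Wi j.1 := fun j => Over.homMk (l j) (hlm j)
  have hlam : ∀ j, lam j ≫ s j.1 = γ j := by
    intro j
    ext
    exact hl j
  have hγe : ∀ j, AlgSp.RepWith @Etale ((AlgSp.yon S).map (γ j)) := fun j =>
    (AlgSp.repWith_yon_map_iff _ _).2 (hg'e j)
  refine ⟨Σ i : ι, ↥(Wi i).left, fun j => ⟨(AlgSp.yon S).obj (T j), AlgSp.IsAlgSpace.yon_obj (T j)⟩,
    fun j => ⟨(AlgSp.yon S).map (γ j) ≫ w⟩, ⟨?_, ?_⟩, ?_⟩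
  · intro j U φ hφ
    exact (AlgSp.RepWith @Etale).comp_mem _ _ hφ
      ((AlgSp.RepWith @Etale).comp_mem _ _ (hγe j) hwe)
  · intro x
    obtain ⟨i, xi, hxi⟩ := h.2 x
    obtain ⟨t, rfl⟩ := Groth.Agent.S10177.surjective_ofPt (a i) (has i) xi
    refine ⟨⟨i, t⟩, AlgSp.Points.ofPt (𝟙 _) (s' ⟨i, t⟩), ?_⟩
    show AlgSp.Points.map ((AlgSp.yon S).map (γ ⟨i, t⟩) ≫ w) _ = x
    rw [AlgSp.Points.map_ofPt, Category.id_comp, ofPt_yon_map_comp, ← hxi]
    show AlgSp.Points.ofPt w (g' ⟨i, t⟩ (s' ⟨i, t⟩)) = AlgSp.Points.map (g i).hom _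
    rw [hg's' ⟨i, t⟩, AlgSp.Points.map_ofPt, hcomm i, ofPt_yon_map_comp]
  · intro j
    refine ⟨j.1, ⟨(AlgSp.yon S).map (lam j) ≫ a j.1⟩, ?_⟩
    apply ObjectProperty.hom_ext
    show ((AlgSp.yon S).map (lam j) ≫ a j.1) ≫ (g j.1).hom = (AlgSp.yon S).map (γ j) ≫ w
    rw [Category.assoc, hcomm j.1, ← Category.assoc, ← Functor.map_comp, hlam j]

end Groth.Agent.S10509
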