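import Groth.Statements.S10089
import Mathlib
import Groth.Agent.S13210

set_option autoImplicit false
universe u
open CategoryTheory CategoryTheory.Limits AlgebraicGeometry
open AlgSp

namespace Groth.Agent.S10089


open CategoryTheory.Limits Opposite MorphismProperty

variable {S : Scheme.{u}}

/-- the Yoneda bijection for presheaves on schemes over `S`. -/
noncomputable def yE (T : Over S) (F : AlgSp.PSp S) :
    ((AlgSp.pyon S).obj T ⟶ F) ≃ F.obj (op T) := uliftYonedaEquiv.{u + 1}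

lemma yE_symm_comp {T : Over S} {F G : AlgSp.PSp S} (x : F.obj (op T)) (f : F ⟶ G) :
    (yE T F).symm x ≫ f = (yE T G).symm (f.app _ x) :=
  uliftYonedaEquiv_symm_comp.{u + 1} x f

lemma yE_symm_map {T V : Over S} {F : AlgSp.PSp S} (i : V ⟶ T) (t : F.obj (op T)) :
    (yE V F).symm (F.map i.op t) = (AlgSp.pyon S).map i ≫ (yE T F).symm t :=
  uliftYonedaEquiv_symm_map.{u + 1} i.op t

lemma yE_naturality {T V : Over S} {F : AlgSp.PSp S} (f : (AlgSp.pyon S).obj T ⟶ F) (i : V ⟶ T) :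
    F.map i.op (yE T F f) = yE V F ((AlgSp.pyon S).map i ≫ f) :=
  uliftYonedaEquiv_naturality.{u + 1} f i.op

lemma yE_comp {T : Over S} {F G : AlgSp.PSp S} (α : (AlgSp.pyon S).obj T ⟶ F) (β : F ⟶ G) :
    yE T G (α ≫ β) = β.app _ (yE T F α) := rfl

/-- a presheaf over a sheaf whose fibres over schemes are sheaves is a sheaf. -/
lemma isSheaf_of_fibres {F G : AlgSp.PSp S} (a : F ⟶ G) (hG : Presheaf.IsSheaf (AlgSp.J S) G)
    (h : ∀ ⦃T : Over S⦄ (ξ : (AlgSp.pyon S).obj T ⟶ G), ∃ (F' : AlgSp.PSp S) (fst : F' ⟶ F)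
      (snd : F' ⟶ (AlgSp.pyon S).obj T), IsPullback fst snd a ξ ∧
        Presheaf.IsSheaf (AlgSp.J S) F') : Presheaf.IsSheaf (AlgSp.J S) F := by
  rw [isSheaf_iff_isSheaf_of_type] at hG ⊢
  intro T R hR x hx
  have hy : (x.map a).Compatible := hx.map a
  obtain ⟨g, hg, hguniq⟩ := hG R hR _ hy
  let ξ : (AlgSp.pyon S).obj T ⟶ G := (yE T G).symm g
  obtain ⟨F', fst, snd, sq, hF'⟩ := h ξ
  rw [isSheaf_iff_isSheaf_of_type] at hF'
  have hxs := (Presieve.compatible_iff_sieveCompatible x).1 hx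
  have hcomm : ∀ ⦃V : Over S⦄ (i : V ⟶ T) (hi : R i),
      (yE V F).symm (x i hi) ≫ a = (AlgSp.pyon S).map i ≫ ξ := by
    intro V i hi
    rw [yE_symm_comp, ← yE_symm_map]
    congr 1
    exact (hg i hi).symm
  let x' : Presieve.FamilyOfElements F' R := fun V i hi =>
    yE V F' (sq.lift _ _ (hcomm i hi))
  have hx' : x'.Compatible := by
    rw [Presieve.compatible_iff_sieveCompatible]
    intro V V' i j hi
    show yE _ F' (sq.lift _ _ (hcomm (j ≫ i) _)) =
      F'.map j.op (yE _ F' (sq.lift _ _ (hcomm i hi)))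
    rw [yE_naturality]
    congr 1
    apply sq.hom_ext
    · rw [sq.lift_fst, Category.assoc, sq.lift_fst, hxs i j hi]
      exact yE_symm_map j (x i hi)
    · rw [sq.lift_snd, Category.assoc, sq.lift_snd]
      exact Functor.map_comp _ _ _
  obtain ⟨σ, hσ, hσuniq⟩ := hF' R hR x' hx'
  refine ⟨fst.app _ σ, ?_, ?_⟩
  · intro V i hi
    have h1 : F.map i.op (fst.app _ σ) = fst.app _ (F'.map i.op σ) :=
      (NatTrans.naturality_apply fst i.op σ).symm
    rw [h1, hσ i hi]
    show fst.app _ (yE _ F' (sq.lift _ _ (hcomm i hi))) = x i hi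
    rw [← yE_comp, sq.lift_fst, Equiv.apply_symm_apply]
  · intro t' ht'
    have hg' : a.app _ t' = g := hguniq _ (ht'.map a)
    have hc : (yE T F).symm t' ≫ a = 𝟙 _ ≫ ξ := by
      rw [yE_symm_comp, hg', Category.id_comp]
    have hσ' : yE T F' (sq.lift _ _ hc) = σ := by
      apply hσuniq
      intro V i hi
      show F'.map i.op (yE T F' (sq.lift _ _ hc)) =
        yE V F' (sq.lift _ _ (hcomm i hi))
      rw [yE_naturality]
      congr 1
      apply sq.hom_ext
      · rw [Category.assoc, sq.lift_fst, sq.lift_fst, ← ht' i hi]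
        exact (yE_symm_map i t').symm
      · rw [Category.assoc, sq.lift_snd, sq.lift_snd, Category.comp_id]
    rw [← hσ', ← yE_comp, sq.lift_fst, Equiv.apply_symm_apply]



/-- Let `a : F ⟶ G` be a map of presheaves of sets on schemes over `S` which is representable by
algebraic spaces. If `G` is an fppf sheaf, then so is `F`. -/
theorem result (S : Scheme.{u}) (F G : AlgSp.PSp S) (a : F ⟶ G)
    (ha : AlgSp.RepBySp a) (hG : Presheaf.IsSheaf (AlgSp.J S) G) :
    Presheaf.IsSheaf (AlgSp.J S) F := by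
  refine isSheaf_of_fibres a hG (fun T ξ => ?_)
  obtain ⟨hsh, -⟩ := ha ξ (pullback.fst a ξ) (pullback.snd a ξ) (IsPullback.of_hasPullback a ξ)
  exact ⟨_, _, _, IsPullback.of_hasPullback a ξ, hsh⟩

end Groth.Agent.S10089
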