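import Groth.Statements.S10092
import Mathlib
import Groth.Agent.S10089
import Groth.Agent.S9874

set_option autoImplicit false
universe u
open CategoryTheory CategoryTheory.Limits AlgebraicGeometry
open AlgSp

namespace Groth.Agent.S10092


open CategoryTheory.Limits Opposite MorphismProperty Groth.Agent.S13210 Groth.Agent.S9900
  Groth.Agent.S10089

variable {S : Scheme.{u}}

/-- a sheaf over an algebraic space whose fibres over schemes are algebraic spaces is an
algebraic space. -/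
lemma isAlgSpace_of_fibres {P X : AlgSp.Sp S} (hX : AlgSp.IsAlgSpace X) (π : P ⟶ X)
    (H : ∀ ⦃T : Over S⦄ (c : (AlgSp.yon S).obj T ⟶ X), AlgSp.IsAlgSpace (pullback π c)) :
    AlgSp.IsAlgSpace P := by
  constructor
  · refine Groth.Agent.S9874.representable_diag_of_isEqLocus (fun {T} a₁ a₂ => ?_)
    obtain ⟨E₁, e₁, he₁⟩ := exists_isEqLocus hX.diag (a₁ ≫ π) (a₂ ≫ π)
    let c : (AlgSp.yon S).obj E₁ ⟶ X := (AlgSp.yon S).map e₁ ≫ a₁ ≫ π
    have hc2 : c = (AlgSp.yon S).map e₁ ≫ a₂ ≫ π := he₁.eq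
    let α₁ : (AlgSp.yon S).obj E₁ ⟶ pullback π c :=
      pullback.lift ((AlgSp.yon S).map e₁ ≫ a₁) (𝟙 _) (by rw [Category.assoc, Category.id_comp])
    let α₂ : (AlgSp.yon S).obj E₁ ⟶ pullback π c :=
      pullback.lift ((AlgSp.yon S).map e₁ ≫ a₂) (𝟙 _) (by
        rw [Category.assoc, Category.id_comp, hc2])
    obtain ⟨E₂, e₂, he₂⟩ := exists_isEqLocus (H c).diag α₁ α₂
    haveI := he₁.1
    haveI := he₂.1
    refine ⟨E₂, e₂ ≫ e₁, ⟨mono_comp _ _, fun T' t => ⟨fun ht => ?_, ?_⟩⟩⟩
    · have h1 : (AlgSp.yon S).map t ≫ a₁ ≫ π = (AlgSp.yon S).map t ≫ a₂ ≫ π := by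
        rw [← Category.assoc, ht, Category.assoc]
      obtain ⟨t₁, rfl⟩ := (he₁.2 T' t).1 h1
      have h2 : (AlgSp.yon S).map t₁ ≫ α₁ = (AlgSp.yon S).map t₁ ≫ α₂ := by
        apply pullback.hom_ext
        · simp only [Category.assoc, α₁, α₂, pullback.lift_fst]
          rw [← Category.assoc, ← Functor.map_comp, ht, Functor.map_comp, Category.assoc]
        · simp only [Category.assoc, α₁, α₂, pullback.lift_snd]
      obtain ⟨t₂, rfl⟩ := (he₂.2 T' t₁).1 h2
      exact ⟨t₂, (Category.assoc _ _ _).symm⟩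
    · rintro ⟨t₂, rfl⟩
      have h3 := congrArg (fun m => (AlgSp.yon S).map t₂ ≫ m ≫ pullback.fst π c) he₂.eq
      simp only [Category.assoc, α₁, α₂, pullback.lift_fst] at h3
      simp only [Functor.map_comp, Category.assoc]
      exact h3
  · obtain ⟨U, p, hpe, hps⟩ := hX.atlas
    obtain ⟨V, q, hqe, hqs⟩ := (H p).atlas
    have sq := IsPullback.of_hasPullback π p
    have h1e : AlgSp.RepWith @Etale (pullback.fst π p) :=
      MorphismProperty.of_isPullback (P := AlgSp.RepWith @Etale) sq.flip hpe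
    have h1s : AlgSp.RepWith @Surjective (pullback.fst π p) :=
      MorphismProperty.of_isPullback (P := AlgSp.RepWith @Surjective) sq.flip hps
    exact ⟨V, q ≫ pullback.fst π p, MorphismProperty.comp_mem _ _ _ hqe h1e,
      MorphismProperty.comp_mem _ _ _ hqs h1s⟩

/-- the fibre product of an algebraic space with a map representable by algebraic spaces. -/
lemma isAlgSpaceP_of_isPullback {F G : AlgSp.PSp S} (a : F ⟶ G) (ha : AlgSp.RepBySp a)
    {X : AlgSp.Sp S} (hX : AlgSp.IsAlgSpace X) (ξ : X.obj ⟶ G) {F' : AlgSp.PSp S}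
    (fst : F' ⟶ X.obj) (snd : F' ⟶ F) (sq : IsPullback fst snd ξ a) : AlgSp.IsAlgSpaceP F' := by
  have hsh : Presheaf.IsSheaf (AlgSp.J S) F' := by
    refine isSheaf_of_fibres fst X.property (fun T η => ?_)
    have big := (IsPullback.of_hasPullback fst η).paste_horiz sq.flip
    obtain ⟨h, -⟩ := ha (η ≫ ξ) _ _ big
    exact ⟨_, _, _, IsPullback.of_hasPullback fst η, h⟩
  let P : AlgSp.Sp S := ⟨F', hsh⟩
  let π : P ⟶ X := ObjectProperty.homMk fst
  refine ⟨hsh, isAlgSpace_of_fibres hX π (fun T c => ?_)⟩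
  rw [← AlgSp.isAlgSpaceP_obj_iff]
  have sq1 : IsPullback (pullback.fst π c).hom (pullback.snd π c).hom fst c.hom :=
    (IsPullback.of_hasPullback π c).map (sheafToPresheaf _ _)
  exact ha (c.hom ≫ ξ) _ _ (sq1.paste_horiz sq.flip)



/-- Let `a : F ⟶ G` be a map of presheaves of sets on schemes over `S` which is representable by
algebraic spaces, `X` an algebraic space over `S` and `ξ : X ⟶ G` a map of presheaves. Then the
fibre product `X ×_G F` (any pullback square of presheaves) is an algebraic space. -/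
theorem result (S : Scheme.{u}) (F G : AlgSp.PSp S) (a : F ⟶ G)
    (ha : AlgSp.RepBySp a) (X : AlgSp.Space S) (ξ : X.obj.obj ⟶ G) (F' : AlgSp.PSp S) (fst : F' ⟶ X.obj.obj)
    (snd : F' ⟶ F) (sq : IsPullback fst snd ξ a) : AlgSp.IsAlgSpaceP F' := by
  exact isAlgSpaceP_of_isPullback a ha X.property ξ fst snd sq

end Groth.Agent.S10092
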