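import Groth.Statements.S10091
import Mathlib
import Groth.Agent.S10092

set_option autoImplicit false
universe u
open CategoryTheory CategoryTheory.Limits AlgebraicGeometry
open AlgSp

namespace Groth.Agent.S10091


open CategoryTheory.Limits Opposite MorphismProperty Groth.Agent.S13210 Groth.Agent.S10092



/-- Let `a : F ⟶ G` be a map of presheaves of sets on schemes over `S` which is representable by
algebraic spaces. If `G` is an algebraic space (an fppf sheaf satisfying the axioms), then so is
`F`. -/
theorem result (S : Scheme.{u}) (F G : AlgSp.PSp S) (a : F ⟶ G)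
    (ha : AlgSp.RepBySp a) (hG : AlgSp.IsAlgSpaceP G) : AlgSp.IsAlgSpaceP F := by
  obtain ⟨h, hAlg⟩ := hG
  exact isAlgSpaceP_of_isPullback a ha (X := ⟨G, h⟩) hAlg (𝟙 G) a (𝟙 F) IsPullback.of_id_snd

end Groth.Agent.S10091
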