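import Groth.Statements.S10093
import Mathlib
import Groth.Agent.S10092

set_option autoImplicit false
universe u
open CategoryTheory CategoryTheory.Limits AlgebraicGeometry
open AlgSp

namespace Groth.Agent.S10093


open CategoryTheory.Limits Opposite MorphismProperty Groth.Agent.S13210 Groth.Agent.S10092

variable {S : Scheme.{u}}

/-- maps representable by algebraic spaces compose. -/
lemma repBySp_comp {F G H : AlgSp.PSp S} (a : F ⟶ G) (b : G ⟶ H) (ha : AlgSp.RepBySp a)
    (hb : AlgSp.RepBySp b) : AlgSp.RepBySp (a ≫ b) := by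
  intro U ξ F'' fst snd sq
  have sqb := IsPullback.of_hasPullback b ξ
  obtain ⟨hG', hAlg⟩ := hb ξ _ _ sqb
  let l : F'' ⟶ pullback b ξ := pullback.lift (fst ≫ a) snd (by rw [Category.assoc]; exact sq.w)
  have hl1 : l ≫ pullback.fst b ξ = fst ≫ a := pullback.lift_fst _ _ _
  have hl2 : l ≫ pullback.snd b ξ = snd := pullback.lift_snd _ _ _
  have sqtop : IsPullback fst l a (pullback.fst b ξ) := by
    refine IsPullback.of_bot ?_ hl1.symm sqb
    rw [hl2]
    exact sq
  exact isAlgSpaceP_of_isPullback a ha (X := ⟨pullback b ξ, hG'⟩) hAlg (pullback.fst b ξ) l fst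
    sqtop.flip



/-- The composition of two maps of presheaves of sets on schemes over `S` which are representable by
algebraic spaces is representable by algebraic spaces. -/
theorem result (S : Scheme.{u}) (F G H : AlgSp.PSp S) (a : F ⟶ G) (b : G ⟶ H)
    (ha : AlgSp.RepBySp a) (hb : AlgSp.RepBySp b) : AlgSp.RepBySp (a ≫ b) := by
  exact repBySp_comp a b ha hb

end Groth.Agent.S10093
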