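import Groth.Statements.S10094
import Mathlib
import Groth.Agent.S10093

set_option autoImplicit false
universe u
open CategoryTheory CategoryTheory.Limits AlgebraicGeometry
open AlgSp

namespace Groth.Agent.S10094


open CategoryTheory.Limits Opposite MorphismProperty Groth.Agent.S13210 Groth.Agent.S10093

variable {S : Scheme.{u}}

/-- maps representable by algebraic spaces are stable under base change. -/
lemma repBySp_of_isPullback {F G F' G' : AlgSp.PSp S} {a : F ⟶ G} {g : G' ⟶ G} {fst : F' ⟶ F}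
    {snd : F' ⟶ G'} (sq : IsPullback fst snd a g) (ha : AlgSp.RepBySp a) : AlgSp.RepBySp snd := by
  intro U ξ F'' fst' snd' sq'
  exact ha (ξ ≫ g) (fst' ≫ fst) snd' (sq'.paste_horiz sq)

lemma isPullback_prod_map_left {C : Type*} [Category C] [HasBinaryProducts C] {A B : C}
    (a : A ⟶ B) (Z : C) :
    IsPullback (prod.fst : A ⨯ Z ⟶ A) (prod.map a (𝟙 Z)) a (prod.fst : B ⨯ Z ⟶ B) := by
  refine ⟨⟨(prod.map_fst a (𝟙 Z)).symm⟩,
    ⟨PullbackCone.IsLimit.mk _ (fun s => prod.lift s.fst (s.snd ≫ prod.snd))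
    (fun s => prod.lift_fst _ _) (fun s => ?_) (fun s m h1 h2 => ?_)⟩⟩
  · apply Limits.prod.hom_ext
    · rw [Category.assoc, prod.map_fst, ← Category.assoc, prod.lift_fst, s.condition]
    · rw [Category.assoc, prod.map_snd, Category.comp_id, prod.lift_snd]
  · apply Limits.prod.hom_ext
    · rw [prod.lift_fst]; exact h1
    · rw [prod.lift_snd, ← h2, Category.assoc, prod.map_snd, Category.comp_id]

lemma isPullback_prod_map_right {C : Type*} [Category C] [HasBinaryProducts C] {A B : C}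
    (a : A ⟶ B) (Z : C) :
    IsPullback (prod.snd : Z ⨯ A ⟶ A) (prod.map (𝟙 Z) a) a (prod.snd : Z ⨯ B ⟶ B) := by
  refine ⟨⟨(prod.map_snd (𝟙 Z) a).symm⟩,
    ⟨PullbackCone.IsLimit.mk _ (fun s => prod.lift (s.snd ≫ prod.fst) s.fst)
    (fun s => prod.lift_snd _ _) (fun s => ?_) (fun s m h1 h2 => ?_)⟩⟩
  · apply Limits.prod.hom_ext
    · rw [Category.assoc, prod.map_fst, Category.comp_id, prod.lift_fst]
    · rw [Category.assoc, prod.map_snd, ← Category.assoc, prod.lift_snd, s.condition]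
  · apply Limits.prod.hom_ext
    · rw [prod.lift_fst, ← h2, Category.assoc, prod.map_fst, Category.comp_id]
    · rw [prod.lift_snd]; exact h1



/-- If `a₁ : F₁ ⟶ G₁` and `a₂ : F₂ ⟶ G₂` are maps of presheaves of sets on schemes over `S`
representable by algebraic spaces, then so is `a₁ × a₂ : F₁ × F₂ ⟶ G₁ × G₂`. -/
theorem result (S : Scheme.{u}) (F₁ G₁ F₂ G₂ : AlgSp.PSp S) (a₁ : F₁ ⟶ G₁) (a₂ : F₂ ⟶ G₂)
    (h₁ : AlgSp.RepBySp a₁) (h₂ : AlgSp.RepBySp a₂) : AlgSp.RepBySp (prod.map a₁ a₂) := by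
  have e : prod.map a₁ a₂ = prod.map a₁ (𝟙 F₂) ≫ prod.map (𝟙 G₁) a₂ := by simp
  rw [e]
  exact repBySp_comp _ _ (repBySp_of_isPullback (isPullback_prod_map_left a₁ F₂) h₁)
    (repBySp_of_isPullback (isPullback_prod_map_right a₂ G₁) h₂)

end Groth.Agent.S10094
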