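import Groth.Statements.S10090
import Mathlib
import Groth.Agent.S10094
import Groth.Agent.S9900

set_option autoImplicit false
universe u
open CategoryTheory CategoryTheory.Limits AlgebraicGeometry
open AlgSp

namespace Groth.Agent.S10090


open CategoryTheory.Limits Opposite MorphismProperty Groth.Agent.S13210 Groth.Agent.S10089
  Groth.Agent.S9900

variable {S : Scheme.{u}}

/-- a commutative square of presheaves is cartesian as soon as it is so on `h_T`-points. -/
lemma isPullback_of_pyon {A B C D : AlgSp.PSp S} {f : A ⟶ B} {g : A ⟶ C} {h : B ⟶ D} {k : C ⟶ D}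
    (w : f ≫ h = g ≫ k)
    (H : ∀ (T : Over S) (b : (AlgSp.pyon S).obj T ⟶ B) (c : (AlgSp.pyon S).obj T ⟶ C),
      b ≫ h = c ≫ k → ∃! a : (AlgSp.pyon S).obj T ⟶ A, a ≫ f = b ∧ a ≫ g = c) :
    IsPullback f g h k := by
  apply IsPullback.of_forall_isPullback_app
  intro X
  obtain ⟨T⟩ := X
  rw [Types.isPullback_iff]
  refine ⟨?_, ?_, ?_⟩
  · exact congrArg (fun m => m.app (op T)) w
  · intro x y ⟨h1, h2⟩
    have h1' : f.app (op T) x = f.app (op T) y := h1
    have h2' : g.app (op T) x = g.app (op T) y := h2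
    obtain ⟨a, -, ha⟩ := H T ((yE T A).symm x ≫ f) ((yE T A).symm x ≫ g)
      (by rw [Category.assoc, Category.assoc, w])
    have hx := ha ((yE T A).symm x) ⟨rfl, rfl⟩
    have hy := ha ((yE T A).symm y)
      ⟨by rw [yE_symm_comp, yE_symm_comp, h1'], by rw [yE_symm_comp, yE_symm_comp, h2']⟩
    exact (yE T A).symm.injective (hx.trans hy.symm)
  · intro b c hbc
    have hbc' : h.app (op T) b = k.app (op T) c := hbc
    obtain ⟨a, ⟨ha1, ha2⟩, -⟩ := H T ((yE T B).symm b) ((yE T C).symm c)
      (by rw [yE_symm_comp, yE_symm_comp, hbc'])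
    refine ⟨yE T A a, ?_, ?_⟩
    · have := yE_comp a f
      rw [ha1, Equiv.apply_symm_apply] at this
      exact this.symm
    · have := yE_comp a g
      rw [ha2, Equiv.apply_symm_apply] at this
      exact this.symm

/-- the relative diagonal of a map representable by algebraic spaces. -/
lemma repBySp_diagonal {F G : AlgSp.PSp S} (a : F ⟶ G) (ha : AlgSp.RepBySp a) :
    AlgSp.RepBySp (pullback.diagonal a) := by
  intro U ξ F' fst snd sq
  let x₁ : (AlgSp.pyon S).obj U ⟶ F := ξ ≫ pullback.fst a a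
  let x₂ : (AlgSp.pyon S).obj U ⟶ F := ξ ≫ pullback.snd a a
  have hx : x₁ ≫ a = x₂ ≫ a := by
    simp only [x₁, x₂, Category.assoc, pullback.condition]
  obtain ⟨hsh, hAlg⟩ := ha (x₁ ≫ a) _ _ (IsPullback.of_hasPullback a (x₁ ≫ a))
  let P : AlgSp.Sp S := ⟨pullback a (x₁ ≫ a), hsh⟩
  let l₁ : (AlgSp.pyon S).obj U ⟶ pullback a (x₁ ≫ a) :=
    pullback.lift x₁ (𝟙 _) (by rw [Category.id_comp])
  let l₂ : (AlgSp.pyon S).obj U ⟶ pullback a (x₁ ≫ a) :=
    pullback.lift x₂ (𝟙 _) (by rw [Category.id_comp, hx])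
  let σ₁ : (AlgSp.yon S).obj U ⟶ P := ObjectProperty.homMk l₁
  let σ₂ : (AlgSp.yon S).obj U ⟶ P := ObjectProperty.homMk l₂
  obtain ⟨E, e, he⟩ := exists_isEqLocus hAlg.diag σ₁ σ₂
  haveI : Mono e := he.1
  have key : ∀ {T : Over S} (t : T ⟶ U),
      ((AlgSp.pyon S).map t ≫ x₁ = (AlgSp.pyon S).map t ≫ x₂) ↔ ∃ t' : T ⟶ E, t' ≫ e = t := by
    intro T t
    rw [← he.2 T t]
    constructor
    · intro h
      apply ObjectProperty.hom_ext
      show (AlgSp.pyon S).map t ≫ l₁ = (AlgSp.pyon S).map t ≫ l₂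
      apply pullback.hom_ext
      · simp only [Category.assoc, l₁, l₂, pullback.lift_fst]
        exact h
      · simp only [Category.assoc, l₁, l₂, pullback.lift_snd]
    · intro h
      have h' : (AlgSp.pyon S).map t ≫ l₁ = (AlgSp.pyon S).map t ≫ l₂ :=
        congrArg (fun m => m.hom) h
      have := congrArg (fun m => m ≫ pullback.fst a (x₁ ≫ a)) h'
      simpa only [Category.assoc, l₁, l₂, pullback.lift_fst] using this
  have hE : (AlgSp.pyon S).map e ≫ x₁ = (AlgSp.pyon S).map e ≫ x₂ :=
    (key e).2 ⟨𝟙 _, Category.id_comp _⟩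
  have sqE : IsPullback ((AlgSp.pyon S).map e ≫ x₁) ((AlgSp.pyon S).map e)
      (pullback.diagonal a) ξ := by
    refine isPullback_of_pyon ?_ ?_
    · apply pullback.hom_ext
      · simp only [Category.assoc, pullback.diagonal_fst, Category.comp_id, x₁]
      · simp only [Category.assoc, pullback.diagonal_snd, Category.comp_id]
        exact hE
    · intro T b c hbc
      obtain ⟨t, rfl⟩ := (AlgSp.pyon S).map_surjective c
      have hb1 : b = (AlgSp.pyon S).map t ≫ x₁ := by
        have := congrArg (fun m => m ≫ pullback.fst a a) hbc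
        simpa only [Category.assoc, pullback.diagonal_fst, Category.comp_id] using this
      have hb2 : b = (AlgSp.pyon S).map t ≫ x₂ := by
        have := congrArg (fun m => m ≫ pullback.snd a a) hbc
        simpa only [Category.assoc, pullback.diagonal_snd, Category.comp_id] using this
      obtain ⟨t', rfl⟩ := (key t).1 (hb1.symm.trans hb2)
      refine ⟨(AlgSp.pyon S).map t', ⟨?_, ?_⟩, ?_⟩
      · rw [hb1, Functor.map_comp, Category.assoc]
      · rw [Functor.map_comp]
      · rintro a' ⟨-, ha'⟩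
        obtain ⟨t'', rfl⟩ := (AlgSp.pyon S).map_surjective a'
        rw [← Functor.map_comp] at ha'
        have := (AlgSp.pyon S).map_injective ha'
        rw [(cancel_mono e).1 this]
  have hpy : AlgSp.IsAlgSpaceP ((AlgSp.pyon S).obj E) :=
    (AlgSp.isAlgSpaceP_obj_iff ((AlgSp.yon S).obj E)).2 (AlgSp.IsAlgSpace.yon_obj E)
  exact hpy.of_iso (sqE.isoIsPullback _ _ sq)



/-- Let `a : F ⟶ G` be a map of presheaves of sets on schemes over `S` which is representable by
algebraic spaces. Then the relative diagonal `F ⟶ F ×_G F` is representable by algebraic spaces. -/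
theorem result (S : Scheme.{u}) (F G : AlgSp.PSp S) (a : F ⟶ G)
    (ha : AlgSp.RepBySp a) : AlgSp.RepBySp (pullback.diagonal a) := by
  exact repBySp_diagonal a ha

end Groth.Agent.S10090
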