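import Groth.Statements.S10097
import Mathlib
import Groth.Agent.S10090
import Groth.Agent.S10092

set_option autoImplicit false
universe u
open CategoryTheory CategoryTheory.Limits AlgebraicGeometry
open AlgSp

namespace Groth.Agent.S10097


open CategoryTheory.Limits Opposite MorphismProperty Groth.Agent.S13210 Groth.Agent.S10089
  Groth.Agent.S10090 Groth.Agent.S10092

variable {S : Scheme.{u}}

/-- maps representable by schemes are representable by algebraic spaces. -/
lemma repBySp_of_representable {F G : AlgSp.PSp S} (a : F ⟶ G)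
    (ha : (AlgSp.pyon S).relativelyRepresentable a) : AlgSp.RepBySp a := by
  intro U ξ F' fst snd sq
  obtain ⟨V, v, fst', sq'⟩ := ha ξ
  have hpy : AlgSp.IsAlgSpaceP ((AlgSp.pyon S).obj V) :=
    (AlgSp.isAlgSpaceP_obj_iff ((AlgSp.yon S).obj V)).2 (AlgSp.IsAlgSpace.yon_obj V)
  exact hpy.of_iso (sq'.isoIsPullback _ _ sq)

/-- the diagonal of a representable presheaf is representable. -/
lemma repBySp_diag_pyon (T : Over S) : AlgSp.RepBySp (Limits.diag ((AlgSp.pyon S).obj T)) := by
  apply repBySp_of_representable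
  rw [Functor.relativelyRepresentable.diag_iff]
  intro V g
  obtain ⟨g, rfl⟩ := (AlgSp.pyon S).map_surjective g
  exact Functor.relativelyRepresentable.map _ g

lemma repBySp_of_diag {F : AlgSp.PSp S} (h : AlgSp.RepBySp (Limits.diag F)) {T : Over S}
    (ξ : (AlgSp.pyon S).obj T ⟶ F) : AlgSp.RepBySp ξ := by
  intro U η F' fst snd sq
  let ζ : (AlgSp.pyon S).obj (T ⨯ U) ⟶ F ⨯ F :=
    prod.lift ((AlgSp.pyon S).map prod.fst ≫ ξ) ((AlgSp.pyon S).map prod.snd ≫ η)
  have hD := h ζ _ _ (IsPullback.of_hasPullback (Limits.diag F) ζ)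
  have hc := pullback.condition (f := Limits.diag F) (g := ζ)
  have hc1 : pullback.fst (Limits.diag F) ζ =
      pullback.snd (Limits.diag F) ζ ≫ (AlgSp.pyon S).map prod.fst ≫ ξ := by
    have := congrArg (fun m => m ≫ prod.fst) hc
    simpa only [Category.assoc, Limits.diag, prod.lift_fst, Category.comp_id, ζ] using this
  have hc2 : pullback.fst (Limits.diag F) ζ =
      pullback.snd (Limits.diag F) ζ ≫ (AlgSp.pyon S).map prod.snd ≫ η := by
    have := congrArg (fun m => m ≫ prod.snd) hc
    simpa only [Category.assoc, Limits.diag, prod.lift_snd, Category.comp_id, ζ] using this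
  have sqD : IsPullback (pullback.snd (Limits.diag F) ζ ≫ (AlgSp.pyon S).map prod.fst)
      (pullback.snd (Limits.diag F) ζ ≫ (AlgSp.pyon S).map prod.snd) ξ η := by
    refine isPullback_of_pyon ?_ ?_
    · rw [Category.assoc, Category.assoc, ← hc1, ← hc2]
    · intro V b c hbc
      obtain ⟨t, rfl⟩ := (AlgSp.pyon S).map_surjective b
      obtain ⟨w, rfl⟩ := (AlgSp.pyon S).map_surjective c
      have hcomm : ((AlgSp.pyon S).map t ≫ ξ) ≫ Limits.diag F =
          (AlgSp.pyon S).map (prod.lift t w) ≫ ζ := by
        apply Limits.prod.hom_ext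
        · simp only [Category.assoc, Limits.diag, prod.lift_fst, Category.comp_id, ζ]
          rw [← Category.assoc, ← Functor.map_comp, prod.lift_fst]
        · simp only [Category.assoc, Limits.diag, prod.lift_snd, Category.comp_id, ζ]
          rw [← Category.assoc, ← Functor.map_comp, prod.lift_snd, hbc]
      refine ⟨pullback.lift _ _ hcomm, ⟨?_, ?_⟩, ?_⟩
      · rw [← Category.assoc, pullback.lift_snd, ← Functor.map_comp, prod.lift_fst]
      · rw [← Category.assoc, pullback.lift_snd, ← Functor.map_comp, prod.lift_snd]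
      · rintro a' ⟨h1, h2⟩
        obtain ⟨w', hw'⟩ := (AlgSp.pyon S).map_surjective (a' ≫ pullback.snd (Limits.diag F) ζ)
        have e1 : w' ≫ prod.fst = t := by
          apply (AlgSp.pyon S).map_injective
          rw [Functor.map_comp, hw', Category.assoc, h1]
        have e2 : w' ≫ prod.snd = w := by
          apply (AlgSp.pyon S).map_injective
          rw [Functor.map_comp, hw', Category.assoc, h2]
        have e3 : w' = prod.lift t w := by
          apply Limits.prod.hom_ext
          · rw [e1, prod.lift_fst]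
          · rw [e2, prod.lift_snd]
        apply pullback.hom_ext
        · rw [pullback.lift_fst, hc1, ← Category.assoc, ← Category.assoc, Category.assoc a', h1]
        · rw [pullback.lift_snd, ← hw', e3]
  exact hD.of_iso (sqD.isoIsPullback _ _ sq)

lemma repBySp_diag_of_forall {F : AlgSp.PSp S}
    (h : ∀ (T : Over S) (ξ : (AlgSp.pyon S).obj T ⟶ F), AlgSp.RepBySp ξ) :
    AlgSp.RepBySp (Limits.diag F) := by
  intro T ζ F' fst snd sq
  let ξ₁ : (AlgSp.pyon S).obj T ⟶ F := ζ ≫ prod.fst
  let ξ₂ : (AlgSp.pyon S).obj T ⟶ F := ζ ≫ prod.snd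
  obtain ⟨hshA, hAlgA⟩ := h T ξ₁ ξ₂ _ _ (IsPullback.of_hasPullback ξ₁ ξ₂)
  have hw1 : fst = snd ≫ ξ₁ := by
    have := congrArg (fun m => m ≫ prod.fst) sq.w
    simpa only [Category.assoc, Limits.diag, prod.lift_fst, Category.comp_id] using this
  have hw2 : fst = snd ≫ ξ₂ := by
    have := congrArg (fun m => m ≫ prod.snd) sq.w
    simpa only [Category.assoc, Limits.diag, prod.lift_snd, Category.comp_id] using this
  let δ : F' ⟶ pullback ξ₁ ξ₂ := pullback.lift snd snd (by rw [← hw1, ← hw2])
  have sqδ : IsPullback δ snd (prod.lift (pullback.fst ξ₁ ξ₂) (pullback.snd ξ₁ ξ₂))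
      (Limits.diag ((AlgSp.pyon S).obj T)) := by
    refine isPullback_of_pyon ?_ ?_
    · apply Limits.prod.hom_ext
      · simp only [Category.assoc, Limits.diag, prod.lift_fst, Category.comp_id, δ,
          pullback.lift_fst]
      · simp only [Category.assoc, Limits.diag, prod.lift_snd, Category.comp_id, δ,
          pullback.lift_snd]
    · intro V b c hbc
      have hb1 : b ≫ pullback.fst ξ₁ ξ₂ = c := by
        have := congrArg (fun m => m ≫ prod.fst) hbc
        simpa only [Category.assoc, Limits.diag, prod.lift_fst, Category.comp_id] using this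
      have hb2 : b ≫ pullback.snd ξ₁ ξ₂ = c := by
        have := congrArg (fun m => m ≫ prod.snd) hbc
        simpa only [Category.assoc, Limits.diag, prod.lift_snd, Category.comp_id] using this
      have hc12 : c ≫ ξ₁ = c ≫ ξ₂ := by
        rw [← hb1, Category.assoc, pullback.condition, ← Category.assoc, hb2, hb1]
      have hcomm : (c ≫ ξ₁) ≫ Limits.diag F = c ≫ ζ := by
        apply Limits.prod.hom_ext
        · simp only [Category.assoc, Limits.diag, prod.lift_fst, Category.comp_id, ξ₁]
        · simp only [Category.assoc, Limits.diag, prod.lift_snd, Category.comp_id]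
          exact hc12
      refine ⟨sq.lift _ _ hcomm, ⟨?_, sq.lift_snd _ _ _⟩, ?_⟩
      · apply pullback.hom_ext
        · simp only [Category.assoc, δ, pullback.lift_fst, sq.lift_snd, hb1]
        · simp only [Category.assoc, δ, pullback.lift_snd, sq.lift_snd, hb2]
      · rintro a' ⟨-, h2⟩
        apply sq.hom_ext
        · rw [sq.lift_fst, hw1, ← Category.assoc, h2]
        · rw [sq.lift_snd, h2]
  exact isAlgSpaceP_of_isPullback _ (repBySp_diag_pyon T) (X := ⟨pullback ξ₁ ξ₂, hshA⟩) hAlgA
    (prod.lift (pullback.fst ξ₁ ξ₂) (pullback.snd ξ₁ ξ₂)) δ snd sqδ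



/-- (1) ⇔ (2): for a presheaf of sets `F` on schemes over `S`, the diagonal `F ⟶ F × F` is representable
by algebraic spaces if and only if every map `h_T ⟶ F` from a scheme `T` over `S` is representable
by algebraic spaces. -/
theorem result (S : Scheme.{u}) (F : AlgSp.PSp S) :
    AlgSp.RepBySp (Limits.diag F) ↔
      ∀ (T : Over S) (ξ : (AlgSp.pyon S).obj T ⟶ F), AlgSp.RepBySp ξ := by
  exact ⟨fun h T ξ => repBySp_of_diag h ξ, fun h => repBySp_diag_of_forall h⟩

end Groth.Agent.S10097
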