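import Groth.Statements.S18747
import Mathlib
import Groth.Agent.Lib.Helper2CoprodClosure

set_option autoImplicit false
universe u
open CategoryTheory CategoryTheory.Limits AlgebraicGeometry TopologicalSpace
open ModPair

namespace Groth.Agent.S18747

section Aux

open Groth.Agent.Lib.Helper2.CoprodClosure Groth.Agent.Lib.Helper2.ECLocal

variable {σ : Type u}

/-- Locality of `≤` for ideal sheaves along a jointly surjective family of open immersions. -/
theorem le_of_comap_le {S : Scheme.{u}} (U : σ → Scheme.{u}) (ι : ∀ i, U i ⟶ S)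
    [∀ i, IsOpenImmersion (ι i)] (hcov : ∀ s : S, ∃ i, ∃ y : U i, ι i y = s)
    (L L' : S.IdealSheafData) (h : ∀ i, L.comap (ι i) ≤ L'.comap (ι i)) : L ≤ L' := by
  refine Scheme.IdealSheafData.le_of_iSup_eq_top
    (ι := Σ i, (U i).affineOpens)
    (fun p => ⟨ι p.1 ''ᵁ p.2.1, p.2.2.image_of_isOpenImmersion (ι p.1)⟩) ?_ ?_
  · rw [eq_top_iff]
    intro s _
    obtain ⟨i, y, rfl⟩ := hcov s
    obtain ⟨_, ⟨V, hV, rfl⟩, hyV, -⟩ := (U i).isBasis_affineOpens.exists_subset_of_mem_open
      (Set.mem_univ y) isOpen_univ
    exact TopologicalSpace.Opens.mem_iSup.mpr ⟨⟨i, ⟨V, hV⟩⟩, ⟨y, hyV, rfl⟩⟩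
  · rintro ⟨i, V⟩
    have h1 := h i V
    rw [Scheme.IdealSheafData.ideal_comap_of_isOpenImmersion,
      Scheme.IdealSheafData.ideal_comap_of_isOpenImmersion] at h1
    have hsurj : Function.Surjective ((ι i).appIso V.1).inv.hom :=
      ((ι i).appIso V.1).symm.commRingCatIsoToRingEquiv.surjective
    exact (Ideal.comap_le_comap_iff_of_surjective _ hsurj _ _).1 h1

variable (X : σ → Scheme.{u}) (I : ∀ i, (X i).IdealSheafData)

/-- The disjoint union of the closed subschemes, mapping to the disjoint union. -/
noncomputable def zmap : (∐ fun i => (I i).subscheme) ⟶ ∐ X :=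
  Limits.Sigma.map (fun i => (I i).subschemeι)

theorem zmap_isPullback (j : σ) :
    IsPullback (I j).subschemeι (Sigma.ι (fun i => (I i).subscheme) j) (Sigma.ι X j)
      (zmap X I) := by
  refine IsOpenImmersion.isPullback _ _ _ _ (by simp [zmap]) ?_
  ext x
  obtain ⟨i, y, rfl⟩ := (sigmaOpenCover (fun i => (I i).subscheme)).exists_eq x
  change (zmap X I) (Sigma.ι (fun i => (I i).subscheme) i y) ∈ Set.range (Sigma.ι X j) ↔
    Sigma.ι (fun i => (I i).subscheme) i y ∈ Set.range (Sigma.ι (fun i => (I i).subscheme) j)
  have e : (zmap X I) (Sigma.ι (fun i => (I i).subscheme) i y) =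
      Sigma.ι X i ((I i).subschemeι y) := by
    rw [← Scheme.Hom.comp_apply, ← Scheme.Hom.comp_apply]
    simp [zmap]
  rw [e]
  constructor
  · rintro ⟨w, hw⟩
    obtain ⟨rfl, -⟩ := (sigmaι_eq_iff X j i w _).1 hw
    exact ⟨y, rfl⟩
  · rintro ⟨w, hw⟩
    obtain ⟨rfl, -⟩ := (sigmaι_eq_iff (fun i => (I i).subscheme) j i w _).1 hw
    exact ⟨_, rfl⟩

instance zmap_quasiCompact : QuasiCompact (zmap X I) := by
  rw [IsZariskiLocalAtTarget.iff_of_openCover (P := @QuasiCompact) (sigmaOpenCover X)]
  intro (j : σ)
  have H := (zmap_isPullback X I j).flip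
  have e : H.isoPullback.hom ≫ (sigmaOpenCover X).pullbackHom (zmap X I) j = (I j).subschemeι :=
    H.isoPullback_hom_snd
  have h2 : QuasiCompact (H.isoPullback.hom ≫ (sigmaOpenCover X).pullbackHom (zmap X I) j) := by
    have h3 : QuasiCompact (I j).subschemeι := inferInstance
    rw [e]; exact h3
  exact (MorphismProperty.cancel_left_of_respectsIso (P := @QuasiCompact) H.isoPullback.hom _).1 h2

/-- The coproduct modulus. -/
noncomputable def K : (∐ X).IdealSheafData := (zmap X I).ker

theorem K_comap (j : σ) : (K X I).comap (Sigma.ι X j) = I j := by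
  ext W : 2
  rw [Scheme.IdealSheafData.ideal_comap_of_isOpenImmersion]
  conv_rhs => rw [← Scheme.IdealSheafData.ker_subschemeι (I j)]
  exact (Scheme.ker_ideal_of_isPullback_of_isOpenImmersion _ _ _ _
    (zmap_isPullback X I j) W).symm

theorem K_effCartier (h : ∀ i, BlowUp.IsEffCartierIdeal (I i)) :
    BlowUp.IsEffCartierIdeal (K X I) := by
  intro z
  obtain ⟨i, y, rfl⟩ := (sigmaOpenCover X).exists_eq z
  refine ECAt.of_comap_openImmersion (Sigma.ι X i) (K X I) y ?_
  rw [K_comap]
  exact h i y

theorem K_le (L : (∐ X).IdealSheafData) (h : ∀ i, I i ≤ L.comap (Sigma.ι X i)) : K X I ≤ L := by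
  refine le_of_comap_le X (Sigma.ι X) (fun s => (sigmaOpenCover X).exists_eq s) _ _ ?_
  intro i
  rw [K_comap]
  exact h i

variable (P : σ → ModPair.Pair.{u})

/-- The coproduct pair. -/
noncomputable abbrev cop : ModPair.Pair.{u} :=
  ⟨∐ fun i => (P i).total, K (fun i => (P i).total) (fun i => (P i).mod),
    K_effCartier _ _ (fun i => (P i).isEffCartier)⟩

noncomputable def inj (i : σ) : P i ⟶ cop P :=
  ⟨Sigma.ι (fun i => (P i).total) i,
    le_of_eq (K_comap (fun i => (P i).total) (fun i => (P i).mod) i).symm⟩

noncomputable def cofan : Cofan P := Cofan.mk (cop P) (inj P)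

noncomputable def descHom (s : Cofan P) : cop P ⟶ s.pt :=
  ⟨Sigma.desc (fun i => (s.inj i).hom), by
    refine K_le (fun i => (P i).total) (fun i => (P i).mod) _ (fun i => ?_)
    have e := Scheme.IdealSheafData.comap_comp s.pt.mod (Sigma.ι (fun i => (P i).total) i)
      (Sigma.desc fun i => (s.inj i).hom)
    rw [Sigma.ι_desc] at e
    rw [← e]
    exact (s.inj i).cond⟩

noncomputable def isColimitCofan : IsColimit (cofan P) :=
  Cofan.IsColimit.mk _ (descHom P)
    (fun s i => ModPair.Pair.Hom.ext
      (Sigma.ι_desc (f := fun i => (P i).total) (fun i => (s.inj i).hom) i))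
    (fun s m h => ModPair.Pair.Hom.ext (Sigma.hom_ext (f := fun i => (P i).total) _ _ (fun i => by
      have := congrArg ModPair.Pair.Hom.hom (h i)
      refine Eq.trans this ?_
      exact (Sigma.ι_desc (f := fun i => (P i).total) (fun i => (s.inj i).hom) i).symm)))

noncomputable def isColimitForget : IsColimit (ModPair.Pair.forget.mapCocone (cofan P)) where
  desc s := Sigma.desc (f := fun i => (P i).total) (fun i => s.ι.app ⟨i⟩)
  fac s := by
    rintro ⟨i⟩
    exact Sigma.ι_desc (f := fun i => (P i).total) (fun i => s.ι.app ⟨i⟩) i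
  uniq s m h := Sigma.hom_ext (f := fun i => (P i).total) _ _ (fun i => by
    refine Eq.trans (h ⟨i⟩) ?_
    exact (Sigma.ι_desc (f := fun i => (P i).total) (fun i => s.ι.app ⟨i⟩) i).symm)

end Aux


/-- The category of modulus pairs and ambient morphisms admits coproducts (indexed by any type in the
universe of the schemes involved), and the total-space functor to schemes preserves them: the
coproduct of a family (X_i, I_i) is the disjoint union of the X_i with the modulus restricting to
I_i on each summand. (The published statement adds that the total-space functor detects coproducts;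
read as reflection of coproducts this fails, since the identity of a scheme X is an ambient morphism
from (X, I) to (X, unit ideal) whose image is trivially a coproduct of the one-member family while
(X, unit ideal) is not the coproduct of (X, I) when I is not the unit ideal; only existence and
preservation are stated.) -/
theorem result (σ : Type u) :
    HasColimitsOfShape (Discrete σ) ModPair.Pair.{u} ∧
      PreservesColimitsOfShape (Discrete σ) ModPair.Pair.forget.{u} := by
  refine ⟨⟨fun F => ?_⟩, ⟨fun {F} => ?_⟩⟩
  · have : HasColimit (Discrete.functor (F.obj ∘ Discrete.mk)) :=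
      HasColimit.mk ⟨cofan _, isColimitCofan _⟩
    exact hasColimit_of_iso (Discrete.natIsoFunctor (F := F))
  · have : PreservesColimit (Discrete.functor (F.obj ∘ Discrete.mk)) ModPair.Pair.forget.{u} :=
      preservesColimit_of_preserves_colimit_cocone (isColimitCofan _) (isColimitForget _)
    exact preservesColimit_of_iso_diagram _ (Discrete.natIsoFunctor (F := F)).symm

end Groth.Agent.S18747
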