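import Groth.Statements.S18735
import Groth.Agent.Lib.Helper2ModPair

set_option autoImplicit false
universe u
open CategoryTheory CategoryTheory.Limits AlgebraicGeometry TopologicalSpace
open ModPair

namespace Groth.Agent.S18735

/-- Let (S, I_S), (T, I_T), (X, I_X) be schemes equipped with quasi-coherent ideal sheaves of effective
Cartier divisors, g : T ⟶ S a morphism satisfying the modulus condition I_T ≤ I_S.comap g, and s : X
⟶ S an abstract admissible blow-up (I_X = I_S.comap s, s proper and an isomorphism over the open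
complement of the support of I_S). Let Y be the scheme-theoretic image in X ×_S T of the open
pr₁⁻¹(X°) ∩ pr₂⁻¹(T°), where X°, T° are the open complements of the supports of I_X, I_T, with
projections q : Y ⟶ T and r : Y ⟶ X. Then I_T.comap q is the ideal sheaf of an effective Cartier
divisor on Y, q is an abstract admissible blow-up from (Y, I_T.comap q) to (T, I_T), and r satisfies
the modulus condition from (Y, I_T.comap q) to (X, I_X). -/
theorem result {S T X : Scheme.{u}} (IS : S.IdealSheafData)
    (IT : T.IdealSheafData) (IX : X.IdealSheafData) (hS : BlowUp.IsEffCartierIdeal IS)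
    (hT : BlowUp.IsEffCartierIdeal IT) (hX : BlowUp.IsEffCartierIdeal IX)
    (g : T ⟶ S) (hg : ModPair.IsAmbient IT IS g) (s : X ⟶ S) (hs : ModPair.IsAdmBlowup IX IS s) :
    BlowUp.IsEffCartierIdeal (IT.comap (ModPair.mprodι s g IX IT ≫ pullback.snd s g)) ∧
      ModPair.IsAdmBlowup (IT.comap (ModPair.mprodι s g IX IT ≫ pullback.snd s g)) IT
        (ModPair.mprodι s g IX IT ≫ pullback.snd s g) ∧
      ModPair.IsAmbient (IT.comap (ModPair.mprodι s g IX IT ≫ pullback.snd s g)) IX
        (ModPair.mprodι s g IX IT ≫ pullback.fst s g) := by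
  haveI haff : IsAffineHom (ModPair.prodInterior s g IX IT).ι :=
    Groth.Agent.Lib.Helper2.ModPairLib.isAffineHom_ι_prodInterior s g hX hT
  obtain ⟨hmin, hprop, hiso⟩ := hs
  have hmin' : IX = IS.comap s := hmin
  have hO2 : ∀ z ∈ ModPair.prodInterior s g IX IT, (pullback.snd s g) z ∉ IT.support :=
    fun z hz => hz.2
  have hT₀ : ∀ t ∈ ModPair.interior IT, g t ∈ ModPair.interior IS := fun t ht =>
    Groth.Agent.Lib.Helper2.ModPairLib.not_mem_support_of_le g hg t ht
  have hO : ∀ z : ↥(pullback s g), z ∈ ModPair.prodInterior s g IX IT ↔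
      (pullback.snd s g) z ∈ ModPair.interior IT := by
    intro z
    refine ⟨fun hz => hz.2, fun hz => ⟨?_, hz⟩⟩
    change (pullback.fst s g) z ∉ IX.support
    rw [hmin', Scheme.IdealSheafData.support_comap]
    change ¬ (s ((pullback.fst s g) z) ∈ IS.support)
    rw [← Scheme.Hom.comp_apply, pullback.condition]
    exact hT₀ _ hz
  refine ⟨Groth.Agent.Lib.Helper2.ModPairLib.effCartier_comap_image
    (ModPair.prodInterior s g IX IT) (pullback.snd s g) hT hO2, ⟨rfl, ?_, ?_⟩, ?_⟩
  · infer_instance
  · exact Groth.Agent.Lib.Helper2.ModPairLib.isIso_restrict_image s g (ModPair.interior IS)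
      (ModPair.interior IT) hT₀ (ModPair.prodInterior s g IX IT) hO
  · exact Groth.Agent.Lib.Helper2.ModPairLib.comap_snd_le_comap_fst IS IT IX s g hmin' hg
      (ModPair.mprodι s g IX IT)

end Groth.Agent.S18735
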