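import Groth.Statements.S18744
import Mathlib
import Groth.Agent.Lib.Helper20EffCartier
import Groth.Agent.Lib.Helper22IdealComap

set_option autoImplicit false
universe u
open CategoryTheory CategoryTheory.Limits AlgebraicGeometry TopologicalSpace
open ModPair

namespace Groth.Agent.S18744

open CategoryTheory CategoryTheory.Limits AlgebraicGeometry TopologicalSpace
open Groth.Agent.Lib.Helper22.IdealComap
open ModPair



/-- ring-level: if span{b'} = span{f}, f nzd, then s * b' = 0 → s = 0. -/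
theorem eq_zero_of_span_eq {R : Type*} [CommRing R] {b f s : R} (hf : f ∈ nonZeroDivisors R)
    (h : Ideal.span {b} = Ideal.span {f}) (hs : s * b = 0) : s = 0 := by
  have h1 : f ∈ Ideal.span {b} := h ▸ Ideal.mem_span_singleton_self f
  obtain ⟨v, hv⟩ := Ideal.mem_span_singleton'.mp h1
  -- hv : v * b = f
  have : s * f = 0 := by rw [← hv]; calc s * (v * b) = v * (s * b) := by ring
    _ = 0 := by rw [hs, mul_zero]
  exact (mem_nonZeroDivisors_iff_right.mp hf) s this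

/-- generator of a principal ideal of an eff. Cartier ideal sheaf on an affine open is a nzd -/
theorem mem_nonZeroDivisors_of_ideal_eq_span {X : Scheme.{u}} {𝓘 : X.IdealSheafData}
    (h : BlowUp.IsEffCartierIdeal 𝓘) (W : X.affineOpens) (b : Γ(X, W.1))
    (hb : 𝓘.ideal W = Ideal.span {b}) : b ∈ nonZeroDivisors Γ(X, W.1) := by
  rw [mem_nonZeroDivisors_iff_right]
  intro s hs
  apply X.IsSheaf.section_ext
  intro x hx
  obtain ⟨U, hU, hxU, hUW, f, hf, hIf⟩ :=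
    Groth.Agent.Lib.Helper20.EffCartier.exists_le_of_isEffCartierIdeal h x W.1 hx
  refine ⟨U, hUW, hxU, ?_⟩
  have h1 := 𝓘.map_ideal (U := ⟨U, hU⟩) (V := W) hUW
  rw [hb, Ideal.map_span, Set.image_singleton, hIf] at h1
  rw [map_zero]
  refine eq_zero_of_span_eq hf h1 ?_
  have := congrArg (X.presheaf.map (homOfLE hUW).op).hom hs
  rw [map_mul, map_zero] at this
  exact this

/-- stage nzd -/
theorem app_mem_nonZeroDivisors {S T : Scheme.{u}} (g : S ⟶ T) [IsAffineHom g]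
    (𝓙 : T.IdealSheafData) (h : BlowUp.IsEffCartierIdeal (𝓙.comap g)) (V : T.affineOpens)
    (a : Γ(T, V.1)) (ha : 𝓙.ideal V = Ideal.span {a}) :
    (g.app V.1).hom a ∈ nonZeroDivisors Γ(S, g ⁻¹ᵁ V.1) := by
  have hW : IsAffineOpen (g ⁻¹ᵁ V.1) := V.2.preimage g
  refine mem_nonZeroDivisors_of_ideal_eq_span h ⟨_, hW⟩ _ ?_
  rw [Groth.Agent.Lib.Helper22.IdealComap.ideal_comap_eq_map g 𝓙 ⟨_, hW⟩ V le_rfl, ha,
    Ideal.map_span, Set.image_singleton, Scheme.Hom.appLE_eq_app]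



set_option backward.defeqAttrib.useBackward true in
set_option backward.isDefEq.respectTransparency false in
open Scheme.Opens in
/-- sections over the preimage of an affine open come from a finite stage -/
theorem exists_appLE_eq {I : Type u} [Category.{u} I] [IsCofiltered I] (D : I ⥤ Scheme.{u})
    (c : Cone D) (hc : IsLimit c) [∀ {i j} (f : i ⟶ j), IsAffineHom (D.map f)]
    (i : I) (V : (D.obj i).Opens) (hV : IsAffineOpen V) (r : Γ(c.pt, c.π.app i ⁻¹ᵁ V)) :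
    ∃ (j : I) (f : j ⟶ i) (s : Γ(D.obj j, D.map f ⁻¹ᵁ V)),
      r = (c.π.app j).appLE (D.map f ⁻¹ᵁ V) (c.π.app i ⁻¹ᵁ V)
        (by rw [← Scheme.Hom.comp_preimage, c.w]) s := by
  have (j : _) : IsAffine ((opensDiagram D i V).op.obj j).unop := hV.preimage _
  have (j : _) : IsAffine ((opensDiagram D i V).obj j) := hV.preimage _
  obtain ⟨⟨j⟩, s, hs⟩ := (Types.jointly_surjective_of_isColimit (isColimitOfPreserves
    (Scheme.Γ ⋙ forget _) (isLimitOpensCone D c hc i V).op) ((c.π.app i ⁻¹ᵁ V).topIso.inv r))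
  obtain ⟨s, rfl⟩ := (D.map j.hom ⁻¹ᵁ V).topIso.symm.commRingCatIsoToRingEquiv.surjective s
  have h : c.π.app j.left ⁻¹ᵁ D.map j.hom ⁻¹ᵁ V = c.π.app i ⁻¹ᵁ V := congr($(c.w j.hom) ⁻¹ᵁ V)
  have : r = (c.π.app j.left).appLE (D.map j.hom ⁻¹ᵁ V) (c.π.app i ⁻¹ᵁ V) h.ge s := by
    convert!
      show r = ((topIso _).inv ≫ ((opensCone D c i V).π.app j).appTop ≫ (topIso _).hom) s from
        (c.π.app i ⁻¹ᵁ V).topIso.commRingCatIsoToRingEquiv.symm_apply_eq.mp hs.symm using 3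
    simp [Scheme.Hom.app_eq_appLE, Scheme.Hom.resLE_appLE]
  exact ⟨j.left, j.hom, s, this⟩

theorem nzd_of_eq_comp {X Y Z : Scheme.{u}} (h : X ⟶ Z) (g : X ⟶ Y) (f : Y ⟶ Z) (e : h = g ≫ f)
    (V : Z.Opens) (a : Γ(Z, V)) (ha : (h.app V).hom a ∈ nonZeroDivisors Γ(X, h ⁻¹ᵁ V)) :
    (g.app (f ⁻¹ᵁ V)).hom ((f.app V).hom a) ∈ nonZeroDivisors Γ(X, g ⁻¹ᵁ (f ⁻¹ᵁ V)) := by
  subst e
  rw [Scheme.Hom.comp_app] at ha
  exact ha

theorem app_eq_zero_of_appLE {X Y : Scheme.{u}} (p : X ⟶ Y) (W : Y.Opens) (U : X.Opens)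
    (hle : U ≤ p ⁻¹ᵁ W) (hge : p ⁻¹ᵁ W ≤ U) (z : Γ(Y, W)) (hz : (p.appLE W U hle).hom z = 0) :
    (p.app W).hom z = 0 := by
  have := congrArg (X.presheaf.map (homOfLE hge).op).hom hz
  rw [map_zero, ← RingHom.comp_apply, ← CommRingCat.hom_comp, Scheme.Hom.appLE_map,
    ← Scheme.Hom.app_eq_appLE] at this
  exact this

theorem appLE_eq_appLE_app {X Y Z : Scheme.{u}} (p : X ⟶ Z) (q : X ⟶ Y) (g : Y ⟶ Z)
    (e : q ≫ g = p) (W : Z.Opens) (U : X.Opens) (hle : U ≤ p ⁻¹ᵁ W)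
    (hle' : U ≤ q ⁻¹ᵁ (g ⁻¹ᵁ W)) (z : Γ(Z, W)) :
    (p.appLE W U hle).hom z = (q.appLE (g ⁻¹ᵁ W) U hle').hom ((g.app W).hom z) := by
  subst e
  rw [← RingHom.comp_apply, ← CommRingCat.hom_comp, Scheme.Hom.app_eq_appLE,
    Scheme.Hom.appLE_comp_appLE]

theorem π_app_mem_nonZeroDivisors {I : Type u} [Category.{u} I] [IsCofiltered I]
    (D : I ⥤ Scheme.{u})
    (c : Cone D) (hc : IsLimit c) [∀ {i j} (f : i ⟶ j), IsAffineHom (D.map f)]
    (i : I) (V : (D.obj i).Opens) (hV : IsAffineOpen V) (a : Γ(D.obj i, V))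
    (ha : ∀ (k : I) (t : k ⟶ i),
      ((D.map t).app V).hom a ∈ nonZeroDivisors Γ(D.obj k, D.map t ⁻¹ᵁ V)) :
    ((c.π.app i).app V).hom a ∈ nonZeroDivisors Γ(c.pt, c.π.app i ⁻¹ᵁ V) := by
  refine mem_nonZeroDivisors_iff_right.mpr ?_
  intro r hr
  obtain ⟨j, f, s, rfl⟩ := exists_appLE_eq D c hc i V hV r
  have hle : c.π.app i ⁻¹ᵁ V ≤ c.π.app j ⁻¹ᵁ (D.map f ⁻¹ᵁ V) := by
    rw [← Scheme.Hom.comp_preimage, c.w]
  have hge : c.π.app j ⁻¹ᵁ (D.map f ⁻¹ᵁ V) ≤ c.π.app i ⁻¹ᵁ V := by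
    rw [← Scheme.Hom.comp_preimage, c.w]
  have h1 : ((c.π.app i).app V).hom a =
      ((c.π.app j).appLE (D.map f ⁻¹ᵁ V) (c.π.app i ⁻¹ᵁ V) hle).hom
        (((D.map f).app V).hom a) := by
    rw [Scheme.Hom.app_eq_appLE]
    exact appLE_eq_appLE_app (c.π.app i) (c.π.app j) (D.map f) (c.w f) V _ le_rfl hle a
  have hr' : ((c.π.app j).appLE (D.map f ⁻¹ᵁ V) (c.π.app i ⁻¹ᵁ V) hle).hom
      (s * ((D.map f).app V).hom a) = 0 := by
    rw [map_mul, ← h1]; exact hr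
  have h2 : ((c.π.app j).app (D.map f ⁻¹ᵁ V)).hom (s * ((D.map f).app V).hom a) = 0 :=
    app_eq_zero_of_appLE (c.π.app j) _ _ hle hge _ hr'
  obtain ⟨k, g, hk⟩ := exists_app_map_eq_zero_of_isLimit D c hc
    (hV.preimage (D.map f)).isCompact _ h2
  have hk' : ((D.map g).app (D.map f ⁻¹ᵁ V)).hom s *
      ((D.map g).app (D.map f ⁻¹ᵁ V)).hom (((D.map f).app V).hom a) = 0 := by
    rw [← map_mul]; exact hk
  have hnz := nzd_of_eq_comp (D.map (g ≫ f)) (D.map g) (D.map f) (D.map_comp g f) V a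
    (ha k (g ≫ f))
  have h3 : ((D.map g).app (D.map f ⁻¹ᵁ V)).hom s = 0 :=
    (mem_nonZeroDivisors_iff_right.mp hnz) _ hk'
  -- conclude
  have hle' : c.π.app i ⁻¹ᵁ V ≤ c.π.app k ⁻¹ᵁ (D.map g ⁻¹ᵁ (D.map f ⁻¹ᵁ V)) := by
    rw [← Scheme.Hom.comp_preimage, ← Scheme.Hom.comp_preimage, c.w, c.w]
  have h4 := appLE_eq_appLE_app (c.π.app j) (c.π.app k) (D.map g) (c.w g) (D.map f ⁻¹ᵁ V) _ hle
    hle' s
  rw [h3, map_zero] at h4
  exact h4

/-- Let (X_i, I_i) be a cofiltered system of schemes equipped with quasi-coherent ideal sheaves of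
effective Cartier divisors, with affine and minimal transition morphisms (the modulus of X_i is the
pull-back of the modulus of X_j along each transition morphism X_i ⟶ X_j), and let X be its limit
with projections π_i. Then the pulled-back ideal I_i.comap π_i is the ideal sheaf of an effective
Cartier divisor on X for every i; with this modulus X is a modulus pair mapping minimally to each
(X_i, I_i). (The source allows the conditions on the transition morphisms to hold only beyond some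
index; here they are assumed throughout.) -/
theorem result {I : Type u}
    [SmallCategory I] [IsCofiltered I] (D : I ⥤ Scheme.{u}) (c : Cone D) (hc : IsLimit c)
    [∀ (i j : I) (t : i ⟶ j), IsAffineHom (D.map t)]
    (J : ∀ i, (D.obj i).IdealSheafData) (hJ : ∀ i, BlowUp.IsEffCartierIdeal (J i))
    (hmin : ∀ (i j : I) (t : i ⟶ j), ModPair.IsMinimal (J i) (J j) (D.map t)) (i : I) :
    BlowUp.IsEffCartierIdeal ((J i).comap (c.π.app i)) := by
  haveI : ∀ {i j : I} (f : i ⟶ j), IsAffineHom (D.map f) := fun f => inferInstance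
  intro x
  obtain ⟨V, hxV, a, ha, hJa⟩ := hJ i (c.π.app i x)
  have hπ : IsAffineHom (c.π.app i) := isAffineHom_π_app D c hc i
  have hU : IsAffineOpen (c.π.app i ⁻¹ᵁ V.1) := V.2.preimage (c.π.app i)
  refine ⟨⟨_, hU⟩, hxV, ((c.π.app i).app V.1).hom a, ?_, ?_⟩
  · refine π_app_mem_nonZeroDivisors D c hc i V.1 V.2 a ?_
    intro k t
    have hm : J k = (J i).comap (D.map t) := hmin k i t
    exact app_mem_nonZeroDivisors (D.map t) (J i) (hm ▸ hJ k) V a hJa
  · rw [ideal_comap_eq_map (c.π.app i) (J i) ⟨_, hU⟩ V le_rfl, hJa, Ideal.map_span,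
      Set.image_singleton, Scheme.Hom.appLE_eq_app]

end Groth.Agent.S18744
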