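import Groth.Statements.S18738
import Groth.Agent.Lib.Helper2AdmFrac
import Groth.Agent.S18735

set_option autoImplicit false
universe u
open CategoryTheory CategoryTheory.Limits AlgebraicGeometry TopologicalSpace
open ModPair

namespace Groth.Agent.S18738

open Groth.Agent.Lib.Helper2.AdmFrac

theorem exists_rightFraction_aux (X Y : ModPair.Pair.{u})
    (φ : (ModPair.Pair.admBlowup.{u}).LeftFraction X Y) :
    ∃ ψ : (ModPair.Pair.admBlowup.{u}).RightFraction X Y, ψ.s ≫ φ.f = ψ.f ≫ φ.s := by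
  obtain ⟨hEC, hadm, hamb⟩ := Groth.Agent.S18735.result φ.Y'.mod X.mod Y.mod φ.Y'.isEffCartier
    X.isEffCartier Y.isEffCartier φ.f.hom φ.f.cond φ.s.hom φ.hs
  let X' : ModPair.Pair.{u} :=
    ⟨ModPair.mprod φ.s.hom φ.f.hom Y.mod X.mod,
      X.mod.comap (ModPair.mprodι φ.s.hom φ.f.hom Y.mod X.mod ≫ pullback.snd φ.s.hom φ.f.hom),
      hEC⟩
  let s' : X' ⟶ X :=
    ⟨ModPair.mprodι φ.s.hom φ.f.hom Y.mod X.mod ≫ pullback.snd φ.s.hom φ.f.hom, le_rfl⟩
  let f' : X' ⟶ Y :=
    ⟨ModPair.mprodι φ.s.hom φ.f.hom Y.mod X.mod ≫ pullback.fst φ.s.hom φ.f.hom, hamb⟩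
  refine ⟨⟨s', hadm, f'⟩, ?_⟩
  apply ModPair.Pair.Hom.ext
  change (ModPair.mprodι φ.s.hom φ.f.hom Y.mod X.mod ≫ pullback.snd φ.s.hom φ.f.hom) ≫ φ.f.hom =
    (ModPair.mprodι φ.s.hom φ.f.hom Y.mod X.mod ≫ pullback.fst φ.s.hom φ.f.hom) ≫ φ.s.hom
  rw [Category.assoc, Category.assoc, pullback.condition]

theorem ext_aux (X Y Z : ModPair.Pair.{u}) (f₁ f₂ : X ⟶ Y) (s : Y ⟶ Z)
    (hs : ModPair.Pair.admBlowup s) (h : f₁ ≫ s = f₂ ≫ s) : f₁ = f₂ := by
  apply ModPair.Pair.Hom.ext
  exact hom_ext_of_comp_admBlowup X.isEffCartier f₁.hom f₂.hom f₁.cond f₂.cond s.hom hs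
    (congrArg ModPair.Pair.Hom.hom h)

/-- In the category of modulus pairs and ambient morphisms, the class Σ of abstract admissible blow-ups
(minimal, proper, an isomorphism over the interior of the target) admits a calculus of right
fractions: it contains the identities and is stable under composition; every pair X' ⟶ X ⟵ Y with X'
⟶ X in Σ can be completed to a commutative square with a morphism Y' ⟶ Y in Σ; and two ambient
morphisms f, g : X ⟶ Y equalized by some Y ⟶ Z in Σ are equalized by some X' ⟶ X in Σ. -/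
theorem result :
    (ModPair.Pair.admBlowup.{u}).HasRightCalculusOfFractions := by
  exact
    { id_mem := fun X => isAdmBlowup_id X.mod
      comp_mem := fun f g hf hg => isAdmBlowup_comp hf hg
      exists_rightFraction := fun X Y φ => exists_rightFraction_aux X Y φ
      ext := fun X Y Z f₁ f₂ s hs h =>
        ⟨X, 𝟙 X, isAdmBlowup_id X.mod, by rw [ext_aux X Y Z f₁ f₂ s hs h]⟩ }

end Groth.Agent.S18738
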