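import Groth.Statements.S18746
import Mathlib
import Groth.Agent.Lib.Helper11DescAdm

set_option autoImplicit false
universe u
open CategoryTheory CategoryTheory.Limits AlgebraicGeometry TopologicalSpace
open ModPair

namespace Groth.Agent.S18746


/-- Let (X_i, I_i) be a cofiltered system of quasi-compact quasi-separated schemes with quasi-coherent
ideal sheaves of effective Cartier divisors and affine, minimal transition morphisms, X its limit
with projections π_i and modulus I = I_i.comap π_i for all i, and s : Y ⟶ X an abstract admissible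
blow-up of modulus pairs (I.comap s an effective Cartier ideal sheaf, s proper and an isomorphism
over the interior of (X, I)). Then the blow-up descends: for some index i there are a scheme Y_i
with the ideal sheaf I_{Y_i} of an effective Cartier divisor, an abstract admissible blow-up s_i :
Y_i ⟶ X_i from (Y_i, I_{Y_i}) to (X_i, I_i), and an isomorphism over X between Y and the ambient
product of X and Y_i over X_i, namely the scheme-theoretic image of pr₁⁻¹(X°) ∩ pr₂⁻¹(Y_i°) in X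
×_{X_i} Y_i. -/
theorem result {I : Type u}
    [SmallCategory I] [IsCofiltered I] (D : I ⥤ Scheme.{u}) (c : Cone D) (hc : IsLimit c)
    [∀ (i j : I) (t : i ⟶ j), IsAffineHom (D.map t)]
    [∀ i, CompactSpace (D.obj i)] [∀ i, QuasiSeparatedSpace (D.obj i)]
    (J : ∀ i, (D.obj i).IdealSheafData) (hJ : ∀ i, BlowUp.IsEffCartierIdeal (J i))
    (hmin : ∀ (i j : I) (t : i ⟶ j), ModPair.IsMinimal (J i) (J j) (D.map t))
    (IX : c.pt.IdealSheafData) (hIX : ∀ i, IX = (J i).comap (c.π.app i))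
    {Y : Scheme.{u}} (s : Y ⟶ c.pt) (hY : BlowUp.IsEffCartierIdeal (IX.comap s))
    (hs : ModPair.IsAdmBlowup (IX.comap s) IX s) :
    ∃ (i : I) (Yi : Scheme.{u}) (IYi : Yi.IdealSheafData) (si : Yi ⟶ D.obj i),
      BlowUp.IsEffCartierIdeal IYi ∧ ModPair.IsAdmBlowup IYi (J i) si ∧
        ∃ e : Y ≅ ModPair.mprod (c.π.app i) si IX IYi,
          e.hom ≫ ModPair.mprodι (c.π.app i) si IX IYi ≫ pullback.fst (c.π.app i) si = s := by
  obtain ⟨hsmin, hsprop, hsiso⟩ := hs
  haveI : IsProper s := hsprop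
  obtain ⟨i₀⟩ := IsCofiltered.nonempty (C := I)
  haveI : ∀ {i j : I} (f : i ⟶ j), IsAffineHom (D.map f) := fun f => inferInstance
  haveI : CompactSpace c.pt := Scheme.compactSpace_of_isLimit D c hc
  haveI : IsAffineHom (c.π.app i₀) := isAffineHom_π_app D c hc i₀
  haveI : QuasiSeparatedSpace c.pt := quasiSeparatedSpace_of_quasiSeparated (c.π.app i₀)
  -- approximate `s` by a proper morphism of finite presentation
  obtain ⟨I', _, _, D', c', hc', e', hcl, hprop'⟩ := Groth.Agent.S2079.result s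
  obtain ⟨l⟩ := IsCofiltered.nonempty (C := I')
  obtain ⟨hcl1, hproper, hlfp⟩ := hprop' l
  haveI := hcl1
  haveI := hproper
  haveI := hlfp
  let k : Y ⟶ (D'.obj l).left := e'.inv.left ≫ (c'.π.app l).left
  have hk : k ≫ (D'.obj l).hom = s := by
    change (e'.inv.left ≫ (c'.π.app l).left) ≫ (D'.obj l).hom = s
    have h1 : (c'.π.app l).left ≫ (D'.obj l).hom = c'.pt.hom := Over.w _
    have h2 : e'.inv.left ≫ c'.pt.hom = s := Over.w e'.inv
    rw [Category.assoc, h1, h2]
  haveI : IsClosedImmersion k := inferInstance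
  -- descend it to a stage
  obtain ⟨i, Yi, pi, g, hpi, hpilfp, hpb⟩ :=
    Groth.Agent.Lib.Helper11.DescAdm.exists_proper_model D c hc (D'.obj l).hom
  haveI := hpi
  haveI := hpilfp
  -- the interior and the section
  let Ui : (D.obj i).Opens := ModPair.interior (J i)
  let U : c.pt.Opens := c.π.app i ⁻¹ᵁ Ui
  have hU : U = ModPair.interior IX :=
    Groth.Agent.Lib.Helper2.AdmFrac.preimage_interior_eq (c.π.app i) (hIX i)
  haveI := hsiso
  haveI hsU : IsIso (s ∣_ U) :=
    Groth.Agent.Lib.Helper2.AdmFrac.isIso_morphismRestrict_of_eq s hU.symm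
  let τ : U.toScheme ⟶ Yi := inv (s ∣_ U) ≫ (s ⁻¹ᵁ U).ι ≫ k ≫ g
  have hτ : τ ≫ pi = U.ι ≫ c.π.app i := by
    simp only [τ, Category.assoc]
    rw [hpb.w, reassoc_of% hk, ← morphismRestrict_ι_assoc, IsIso.inv_hom_id_assoc]
  have hUic : IsCompact (Ui : Set (D.obj i)) := by
    haveI : IsAffineHom Ui.ι := Groth.Agent.Lib.Helper2.StrictTr.isAffineHom_ι_compl (hJ i) Ui rfl
    have h2 : CompactSpace Ui.toScheme := QuasiCompact.compactSpace_of_compactSpace Ui.ι
    exact isCompact_iff_compactSpace.mpr h2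
  obtain ⟨j, τj, hτj1, hτj2⟩ :=
    Groth.Agent.Lib.Helper11.DescAdm.exists_section_descend D c hc i Ui hUic pi τ hτ
  -- pass to the stage `j`
  let pj : (Groth.Agent.Lib.Helper22.LimBC.bcDiagram D i pi).obj j ⟶ D.obj j.left :=
    Groth.Agent.Lib.Helper22.LimBC.dSnd D i pi j
  haveI : IsProper pj := MorphismProperty.of_isPullback (P := @IsProper)
    (Groth.Agent.Lib.Helper22.LimBC.isPullback_d D i pi j) hpi
  let gj : (D'.obj l).left ⟶ (Groth.Agent.Lib.Helper22.LimBC.bcDiagram D i pi).obj j :=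
    Groth.Agent.Lib.Helper22.LimBC.bcπ i hpb j
  have hpbj : IsPullback gj (D'.obj l).hom pj (c.π.app j.left) :=
    Groth.Agent.Lib.Helper22.LimBC.isPullback_bcπ i hpb j
  have hminj : J j.left = (J i).comap (D.map j.hom) := hmin _ _ j.hom
  have hUj : D.map j.hom ⁻¹ᵁ Ui = ModPair.interior (J j.left) :=
    Groth.Agent.Lib.Helper2.AdmFrac.preimage_interior_eq (D.map j.hom) hminj
  let τ'j : (D.map j.hom ⁻¹ᵁ Ui).toScheme ⟶ (Groth.Agent.Lib.Helper22.LimBC.bcDiagram D i pi).obj j :=
    Groth.Agent.Lib.Helper22.LimBC.dLift j τj (D.map j.hom ⁻¹ᵁ Ui).ι hτj1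
  let τ'' : (ModPair.interior (J j.left)).toScheme ⟶
      (Groth.Agent.Lib.Helper22.LimBC.bcDiagram D i pi).obj j :=
    ((D.obj j.left).isoOfEq hUj).inv ≫ τ'j
  have hτ'' : τ'' ≫ pj = (ModPair.interior (J j.left)).ι := by
    simp only [τ'', τ'j, pj, Category.assoc, Groth.Agent.Lib.Helper22.LimBC.dLift_snd]
    exact Scheme.isoOfEq_inv_ι _ _
  have hle : U ≤ c.π.app j.left ⁻¹ᵁ ModPair.interior (J j.left) := by
    rw [← hUj, ← Scheme.Hom.comp_preimage, c.w]
  have hcompat : inv (s ∣_ U) ≫ (s ⁻¹ᵁ U).ι ≫ k ≫ gj =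
      (c.π.app j.left).resLE (ModPair.interior (J j.left)) U hle ≫ τ'' := by
    have hres : (c.π.app j.left).resLE (ModPair.interior (J j.left)) U hle ≫
        ((D.obj j.left).isoOfEq hUj).inv =
        (c.π.app j.left).resLE (D.map j.hom ⁻¹ᵁ Ui) U
          (by rw [← Scheme.Hom.comp_preimage, c.w]) := by
      rw [← cancel_mono (D.map j.hom ⁻¹ᵁ Ui).ι, Category.assoc, Scheme.isoOfEq_inv_ι,
        Scheme.Hom.resLE_comp_ι, Scheme.Hom.resLE_comp_ι]
    apply Groth.Agent.Lib.Helper22.LimBC.d_hom_ext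
    · have e1 : gj ≫ Groth.Agent.Lib.Helper22.LimBC.dFst D i pi j = g :=
        Groth.Agent.Lib.Helper22.LimBC.bcπ_fst i hpb j
      have e2 : τ'j ≫ Groth.Agent.Lib.Helper22.LimBC.dFst D i pi j = τj :=
        Groth.Agent.Lib.Helper22.LimBC.dLift_fst _ _ _ _
      simp only [τ'', Category.assoc]
      rw [e1, e2, reassoc_of% hres, hτj2]
    · have e1 : gj ≫ Groth.Agent.Lib.Helper22.LimBC.dSnd D i pi j =
          (D'.obj l).hom ≫ c.π.app j.left :=
        Groth.Agent.Lib.Helper22.LimBC.bcπ_snd i hpb j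
      simp only [Category.assoc]
      rw [e1, reassoc_of% hk]
      change _ = (c.π.app j.left).resLE (ModPair.interior (J j.left)) U hle ≫ τ'' ≫ pj
      rw [hτ'', Scheme.Hom.resLE_comp_ι, ← morphismRestrict_ι_assoc, IsIso.inv_hom_id_assoc]
  obtain ⟨hqc, heff, hadm⟩ := Groth.Agent.Lib.Helper11.DescAdm.image_section_isAdmBlowup
    (J j.left) (hJ j.left) pj τ'' hτ''
  haveI := hqc
  obtain ⟨e, he⟩ := Groth.Agent.Lib.Helper11.DescAdm.exists_iso_mprod (c.π.app j.left) (J j.left)
    IX (hIX j.left) s hY k (D'.obj l).hom hk pj gj hpbj U hU τ'' hadm.2.2 hle hcompat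
  exact ⟨j.left, _, _, _, heff, hadm, e, he⟩

end Groth.Agent.S18746
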