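import Groth.Statements.S0415
import Groth.Agent.Lib.Helper20EtaPtSN

set_option autoImplicit false
universe u
open FlatMor

namespace Groth.Agent.S0415

open AlgebraicGeometry CategoryTheory Limits in
/-- A morphism of schemes is a universal homeomorphism if and only if it is integral, universally
injective and surjective. -/
theorem result {X Y : Scheme.{u}} (f : X ⟶ Y) :
    FlatMor.IsUnivHomeo f ↔ IsIntegralHom f ∧ UniversallyInjective f ∧ Surjective f := by
  constructor
  · intro h
    have hhomeo : IsHomeomorph f := h (𝟙 X) (𝟙 Y) f (IsPullback.id_vert f)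
    have hc : UniversallyClosed f :=
      ⟨fun X' Y' i₁ i₂ f' hp => (h i₁ i₂ f' hp).isClosedMap⟩
    have hi : UniversallyInjective f :=
      ⟨fun X' Y' i₁ i₂ f' hp => (h i₁ i₂ f' hp).injective⟩
    have haff : IsAffineHom f := isAffineHom_of_isInducing f hhomeo.isInducing (by
      rw [hhomeo.surjective.range_eq]; exact isClosed_univ)
    exact ⟨IsIntegralHom.iff_universallyClosed_and_isAffineHom.mpr ⟨hc, haff⟩, hi,
      ⟨hhomeo.surjective⟩⟩
  · rintro ⟨h1, h2, h3⟩
    exact Groth.Agent.Lib.Helper20.EtaPt.isUnivHomeo_of f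

end Groth.Agent.S0415
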