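import Groth.Statements.S14262
import Mathlib

set_option autoImplicit false
universe u
open FrobAlg

namespace Groth.Agent.S14262

/-- Let p be a prime, A a perfect ring of characteristic p and f ∈ A. The radical of the principal ideal
(f) — equivalently the ideal generated by all p^n-th roots of f, n ≥ 0 — is a flat A-module. -/
theorem result (p : ℕ) [Fact p.Prime] (A : Type u) [CommRing A]
    [CharP A p] [PerfectRing A p] (f : A) :
    Module.Flat A ((Ideal.span {f}).radical) := by
  classical
  have hp : p.Prime := Fact.out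
  -- roots of f
  set g : ℕ → A := fun n => (iterateFrobeniusEquiv A p n).symm f with hg
  have hgpow : ∀ n, g n ^ p ^ n = f := fun n => by
    have := (iterateFrobeniusEquiv A p n).apply_symm_apply f
    rwa [iterateFrobeniusEquiv_def] at this
  have hinj : ∀ n (x y : A), x ^ p ^ n = y ^ p ^ n → x = y := fun n x y h =>
    (iterateFrobeniusEquiv A p n).injective (by rwa [iterateFrobeniusEquiv_def, iterateFrobeniusEquiv_def])
  have hgsucc : ∀ n, g (n + 1) ^ p = g n := fun n => by
    apply hinj n
    rw [← pow_mul, ← pow_succ', hgpow, hgpow]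
  have hgmem : ∀ n, g n ∈ (Ideal.span {f}).radical := fun n =>
    ⟨p ^ n, by rw [hgpow]; exact Ideal.subset_span rfl⟩
  have hred : ∀ y : A, y ^ p = 0 → y = 0 := fun y hy => by
    apply hinj 1
    rw [pow_one, hy, zero_pow hp.ne_zero]
  -- every element of the radical is a multiple of some g n
  have hrad : ∀ x ∈ (Ideal.span {f}).radical, ∃ n c, x = c * g n := by
    rintro x ⟨m, hm⟩
    obtain ⟨c, hc⟩ := Ideal.mem_span_singleton.mp hm
    have hmle : m ≤ p ^ m := (Nat.lt_pow_self hp.one_lt).le
    refine ⟨m, (iterateFrobeniusEquiv A p m).symm (x ^ (p ^ m - m) * c), ?_⟩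
    apply hinj m
    rw [mul_pow, hgpow]
    have h1 : (iterateFrobeniusEquiv A p m).symm (x ^ (p ^ m - m) * c) ^ p ^ m
        = x ^ (p ^ m - m) * c := by
      have := (iterateFrobeniusEquiv A p m).apply_symm_apply (x ^ (p ^ m - m) * c)
      rwa [iterateFrobeniusEquiv_def] at this
    rw [h1, mul_assoc, mul_comm c f, ← hc, ← pow_add, Nat.sub_add_cancel hmle]
  have hstep : ∀ x n, (∃ c, x = c * g n) → ∃ c, x = c * g (n + 1) := by
    rintro x n ⟨c, rfl⟩
    refine ⟨c * g (n + 1) ^ (p - 1), ?_⟩
    rw [mul_assoc, ← pow_succ, Nat.sub_add_cancel hp.one_le, hgsucc]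
  have hmono : ∀ x n m, n ≤ m → (∃ c, x = c * g n) → ∃ c, x = c * g m := by
    intro x n m hnm h
    induction m, hnm using Nat.le_induction with
    | base => exact h
    | succ m _ ih => exact hstep x m ih
  have hkill : ∀ s n, s * g n = 0 → s * g (n + 1) = 0 := by
    intro s n h
    apply hred
    rw [mul_pow, hgsucc]
    obtain ⟨q, hq⟩ : ∃ q, p = q + 1 := ⟨p - 1, (Nat.sub_add_cancel hp.one_le).symm⟩
    rw [hq, pow_succ, mul_assoc, h, mul_zero]
  apply Module.Flat.of_forall_isTrivialRelation
  intro l a x hax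
  have hx : ∀ i, ∃ n c, (x i : A) = c * g n := fun i => hrad _ (x i).2
  choose n c hc using hx
  set N := Finset.univ.sup n with hN
  have hx' : ∀ i, ∃ c', (x i : A) = c' * g N := fun i =>
    hmono _ (n i) N (Finset.le_sup (Finset.mem_univ i)) ⟨c i, hc i⟩
  choose c' hc' using hx'
  have hs : (∑ i, a i * c' i) * g N = 0 := by
    have := congrArg (Submodule.subtype _) hax
    simp only [map_sum, map_smul, Submodule.subtype_apply, map_zero, smul_eq_mul] at this
    rw [Finset.sum_mul, ← this]
    apply Finset.sum_congr rfl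
    intro i _
    rw [hc' i, mul_assoc]
  have hs' := hkill _ _ hs
  refine ⟨1, fun i _ => c' i * g (N + 1) ^ (p - 1), fun _ => ⟨g (N + 1), hgmem _⟩, ?_, ?_⟩
  · intro i
    apply Subtype.ext
    rw [Fin.sum_univ_one]
    show (x i : A) = (c' i * g (N + 1) ^ (p - 1)) * g (N + 1)
    rw [mul_assoc, ← pow_succ, Nat.sub_add_cancel hp.one_le, hgsucc, hc' i]
  · intro _
    obtain ⟨q, hq⟩ : ∃ q, p = q + 2 := ⟨p - 2, by have := hp.two_le; omega⟩
    have : ∀ i, a i * (c' i * g (N + 1) ^ (p - 1)) = (a i * c' i) * g (N + 1) ^ (p - 1) :=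
      fun i => (mul_assoc _ _ _).symm
    simp only [this]
    rw [← Finset.sum_mul]
    have h2 : p - 1 = q + 1 := by omega
    rw [h2, pow_succ', ← mul_assoc, hs', zero_mul]

end Groth.Agent.S14262
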