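import Groth.Statements.S14255
import Mathlib

set_option autoImplicit false
universe u
open FrobAlg

namespace Groth.Agent.S14255

/-- Let p be a prime, φ : A → B a flat map of commutative rings of characteristic p, i : A → A' and j :
B → B' perfect closures (A', B' perfect rings of characteristic p, every element of A' resp. B' has
a p^n-th power in the image of i resp. j, the kernels of i and j consist of nilpotent elements), and
φ' : A' → B' the induced map, φ' ∘ i = j ∘ φ. Then φ' is flat. (The published statement is that the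
perfection of a flat morphism of schemes over the prime field is flat; this row is its affine case,
to which the published proof reduces.) -/
theorem result (p : ℕ) [Fact p.Prime]
    {A B A' B' : Type u} [CommRing A] [CommRing B] [CommRing A'] [CommRing B']
    [CharP A p] [CharP B p] [CharP A' p] [CharP B' p] [PerfectRing A' p] [PerfectRing B' p]
    (φ : A →+* B) (hflat : φ.Flat) (i : A →+* A') (j : B →+* B') [IsPerfectClosure i p] [IsPerfectClosure j p]
    (φ' : A' →+* B') (hφ : φ'.comp i = j.comp φ) : φ'.Flat := by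
  classical
  have hp : p.Prime := Fact.out
  letI algφ : Algebra A B := φ.toAlgebra
  letI algφ' : Algebra A' B' := φ'.toAlgebra
  have hfl : Module.Flat A B := hflat
  show Module.Flat A' B'
  have hφx : ∀ a : A, φ' (i a) = j (φ a) := fun a => RingHom.congr_fun hφ a
  have hinjA : ∀ n (x y : A'), x ^ p ^ n = y ^ p ^ n → x = y := fun n x y h =>
    (iterateFrobeniusEquiv A' p n).injective
      (by rwa [iterateFrobeniusEquiv_def, iterateFrobeniusEquiv_def])
  have hinjB : ∀ n (x y : B'), x ^ p ^ n = y ^ p ^ n → x = y := fun n x y h =>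
    (iterateFrobeniusEquiv B' p n).injective
      (by rwa [iterateFrobeniusEquiv_def, iterateFrobeniusEquiv_def])
  have hrootA : ∀ n (x : A'), (iterateFrobeniusEquiv A' p n).symm x ^ p ^ n = x := fun n x => by
    have := (iterateFrobeniusEquiv A' p n).apply_symm_apply x
    rwa [iterateFrobeniusEquiv_def] at this
  have hrootB : ∀ n (x : B'), (iterateFrobeniusEquiv B' p n).symm x ^ p ^ n = x := fun n x => by
    have := (iterateFrobeniusEquiv B' p n).apply_symm_apply x
    rwa [iterateFrobeniusEquiv_def] at this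
  -- uniform exponents
  have hmonoA : ∀ z : A', ∃ n, ∀ m, n ≤ m → ∃ y, i y = z ^ p ^ m := by
    intro z
    obtain ⟨n, y, hy⟩ := IsPRadical.pow_mem i p z
    refine ⟨n, fun m hm => ⟨y ^ p ^ (m - n), ?_⟩⟩
    rw [map_pow, hy, ← pow_mul, ← pow_add, Nat.add_sub_cancel' hm]
  have hmonoB : ∀ z : B', ∃ n, ∀ m, n ≤ m → ∃ y, j y = z ^ p ^ m := by
    intro z
    obtain ⟨n, y, hy⟩ := IsPRadical.pow_mem j p z
    refine ⟨n, fun m hm => ⟨y ^ p ^ (m - n), ?_⟩⟩
    rw [map_pow, hy, ← pow_mul, ← pow_add, Nat.add_sub_cancel' hm]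
  apply Module.Flat.of_forall_isTrivialRelation
  intro l a x hax
  choose nA hnA using fun t => hmonoA (a t)
  choose nB hnB using fun t => hmonoB (x t)
  set N := max (Finset.univ.sup nA) (Finset.univ.sup nB) with hN
  have hA : ∀ t, ∃ y, i y = a t ^ p ^ N := fun t =>
    hnA t N (le_trans (Finset.le_sup (Finset.mem_univ t)) (le_max_left _ _))
  have hB : ∀ t, ∃ y, j y = x t ^ p ^ N := fun t =>
    hnB t N (le_trans (Finset.le_sup (Finset.mem_univ t)) (le_max_right _ _))
  choose α hα using hA
  choose β hβ using hB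
  have hax' : ∑ t, φ' (a t) * x t = 0 := hax
  have h1 : j (∑ t, φ (α t) * β t) = 0 := by
    rw [map_sum]
    have : ∀ t, j (φ (α t) * β t) = (φ' (a t) * x t) ^ p ^ N := fun t => by
      rw [map_mul, ← hφx, hα, hβ, map_pow, mul_pow]
    simp only [this]
    rw [← sum_pow_char_pow, hax', zero_pow (pow_ne_zero _ hp.ne_zero)]
  have h2 : (∑ t, φ (α t) * β t) ∈ pNilradical B p := IsPRadical.ker_le j p h1
  obtain ⟨m, hm⟩ := mem_pNilradical.mp h2
  have h3 : ∑ t, (α t ^ p ^ m) • (β t ^ p ^ m) = 0 := by
    rw [← hm, sum_pow_char_pow]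
    apply Finset.sum_congr rfl
    intro t _
    show φ (α t ^ p ^ m) * β t ^ p ^ m = _
    rw [map_pow, mul_pow]
  obtain ⟨k, c, y, hxy, hc⟩ := Module.Flat.isTrivialRelation_of_sum_smul_eq_zero (R := A) (M := B)
    (f := fun t => α t ^ p ^ m) (x := fun t => β t ^ p ^ m) h3
  refine ⟨k, fun t s => (iterateFrobeniusEquiv A' p (N + m)).symm (i (c t s)),
    fun s => (iterateFrobeniusEquiv B' p (N + m)).symm (j (y s)), ?_, ?_⟩
  · intro t
    apply hinjB (N + m)
    rw [sum_pow_char_pow]
    have : ∀ s, ((iterateFrobeniusEquiv A' p (N + m)).symm (i (c t s)) •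
        (iterateFrobeniusEquiv B' p (N + m)).symm (j (y s))) ^ p ^ (N + m)
        = j (φ (c t s) * y s) := fun s => by
      show (φ' _ * _) ^ p ^ (N + m) = _
      rw [mul_pow, ← map_pow, hrootA, hrootB, hφx, map_mul]
    simp only [this]
    rw [← map_sum, pow_add, pow_mul, ← hβ, ← map_pow]
    exact congrArg j (hxy t)
  · intro s
    apply hinjA (N + m)
    rw [sum_pow_char_pow, zero_pow (pow_ne_zero _ hp.ne_zero)]
    have : ∀ t, (a t * (iterateFrobeniusEquiv A' p (N + m)).symm (i (c t s))) ^ p ^ (N + m)
        = i (α t ^ p ^ m * c t s) := fun t => by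
      rw [mul_pow, hrootA, pow_add, pow_mul, ← hα, ← map_pow, map_mul]
    simp only [this]
    rw [← map_sum]
    exact (congrArg i (hc s)).trans (map_zero i)

end Groth.Agent.S14255
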