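import Groth.Statements.S2909
import Groth.Agent.Lib.Helper20QuotRestrict
import Groth.Agent.Lib.Helper1ProperOver
import Mathlib.AlgebraicGeometry.Morphisms.Finite
import Mathlib.AlgebraicGeometry.Noetherian
import Mathlib.RingTheory.Adjoin.Tower

set_option autoImplicit false
open CategoryTheory CategoryTheory.Limits AlgebraicGeometry
universe u
open SGA1

namespace Groth.Agent.S2909

/-- Let a finite group G act on a scheme X by automorphisms over a scheme Z (structure morphism f), and
let p : X ⟶ Y be a quotient of X by G with Y ⟶ Z the induced morphism q (so p ≫ q = f). Then X is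
affine over Z iff Y is, X is separated over Z iff Y is; if f is locally of finite type then p is
finite; and if moreover Z is locally Noetherian and f quasi-compact then q is of finite type
(locally of finite type and quasi-compact). -/
theorem result {X Y Z : Scheme.{u}} {G : Type u} [Group G] [Finite G] (ρ : G →* Aut X)
    (p : X ⟶ Y) (hp : SGA1.IsQuot ρ p) (f : X ⟶ Z) (q : Y ⟶ Z) (hq : p ≫ q = f) (hρ : ∀ g : G, (ρ g).hom ≫ f = f) :
    (IsAffineHom f ↔ IsAffineHom q) ∧ (IsSeparated f ↔ IsSeparated q) ∧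
    (LocallyOfFiniteType f → IsFinite p) ∧
    (IsLocallyNoetherian Z → LocallyOfFiniteType f → QuasiCompact f → LocallyOfFiniteType q ∧ QuasiCompact q) := by
  subst hq
  have haff := hp.affine
  have hint : IsIntegralHom p := ⟨fun U _ => Groth.Agent.Lib.Helper20.isIntegral_app hp U⟩
  have hsurj : Surjective p := ⟨Groth.Agent.Lib.Helper20.surjective_of_isQuot hp⟩
  refine ⟨⟨fun hf => ?_, fun hq => ?_⟩, ⟨fun hf => ?_, fun hq => ?_⟩, fun hf => ?_, fun hZ hf hqc => ⟨?_, ?_⟩⟩
  · exact ⟨fun W hW => Groth.Agent.Lib.Helper20.isAffineOpen_of_isQuot hp (q ⁻¹ᵁ W)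
      (hf.isAffine_preimage W hW)⟩
  · infer_instance
  · exact Groth.Agent.Lib.Helper1.isSeparated_of_comp_surjective p q
  · infer_instance
  · have : LocallyOfFiniteType p := locallyOfFiniteType_of_comp p q
    exact (IsFinite.iff_isIntegralHom_and_locallyOfFiniteType p).mpr ⟨hint, this⟩
  · rw [HasRingHomProperty.iff_appLE (P := @LocallyOfFiniteType)]
    intro W V e
    have hT : IsAffineOpen (p ⁻¹ᵁ V.1) := V.2.preimage p
    have hnoeth : IsNoetherianRing Γ(Z, W.1) := hZ.component_noetherian W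
    have hcomp : q.appLE W.1 V.1 e ≫ p.app V.1 =
        (p ≫ q).appLE W.1 (p ⁻¹ᵁ V.1) (p.preimage_mono e) := by
      rw [Scheme.Hom.app_eq_appLE, Scheme.Hom.appLE_comp_appLE]
    have hft : ((p.app V.1).hom.comp (q.appLE W.1 V.1 e).hom).FiniteType := by
      have h1 := (HasRingHomProperty.iff_appLE (P := @LocallyOfFiniteType) (f := p ≫ q)).mp hf W
        ⟨p ⁻¹ᵁ V.1, hT⟩ (p.preimage_mono e)
      rw [← hcomp] at h1
      exact h1
    have hft2 : (p.app V.1).hom.FiniteType := RingHom.FiniteType.of_comp_finiteType hft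
    have hfin : (p.app V.1).hom.Finite :=
      (Groth.Agent.Lib.Helper20.isIntegral_app hp V.1).to_finite hft2
    letI := (q.appLE W.1 V.1 e).hom.toAlgebra
    letI := (p.app V.1).hom.toAlgebra
    letI := ((p.app V.1).hom.comp (q.appLE W.1 V.1 e).hom).toAlgebra
    have : IsScalarTower Γ(Z, W.1) Γ(Y, V.1) Γ(X, p ⁻¹ᵁ V.1) := IsScalarTower.of_algebraMap_eq' rfl
    have key := fg_of_fg_of_fg Γ(Z, W.1) Γ(Y, V.1) Γ(X, p ⁻¹ᵁ V.1) hft.out
      (Module.Finite.fg_top (self := hfin)) (hp.injective V.1)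
    exact ⟨key⟩
  · refine ⟨fun U hU hUc => ?_⟩
    have h1 : IsCompact ((p ≫ q).base ⁻¹' U) := hqc.isCompact_preimage U hU hUc
    have h2 : q.base ⁻¹' U = p.base '' ((p ≫ q).base ⁻¹' U) := by
      rw [Scheme.Hom.comp_base, TopCat.coe_comp, Set.preimage_comp,
        Set.image_preimage_eq _ (Groth.Agent.Lib.Helper20.surjective_of_isQuot hp)]
    rw [h2]
    exact h1.image p.continuous

end Groth.Agent.S2909
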