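import Groth.Statements.S0022
import Mathlib
import Groth.Agent.Lib.Helper23AffOpen3
-- import your own Groth.Agent.* helpers here

set_option autoImplicit false
universe u
open Coherent

namespace Groth.Agent.S0022


open AlgebraicGeometry CategoryTheory in
lemma irrelevant_le (n : ℕ) (R : Type u) [CommRing R] :
    (HomogeneousIdeal.irrelevant (CohB1.polyGrading n R)).toIdeal ≤
      Ideal.span (Set.range (fun k : Fin (n + 1) => (MvPolynomial.X k : MvPolynomial (Fin (n + 1)) R))) := by
  intro x hx
  have h0 : GradedRing.proj (CohB1.polyGrading n R) 0 x = 0 :=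
    (HomogeneousIdeal.mem_irrelevant_iff _ _).1 hx
  have : Set.range (fun k : Fin (n + 1) => (MvPolynomial.X k : MvPolynomial (Fin (n + 1)) R)) =
      MvPolynomial.X '' (Set.univ : Set (Fin (n + 1))) := by
    rw [Set.image_univ]
  rw [this, MvPolynomial.mem_ideal_span_X_image]
  intro m hm
  by_contra hcon
  push Not at hcon
  have hm0 : m = 0 := by
    ext i
    simpa using hcon i (Set.mem_univ i)
  subst hm0
  have hc : MvPolynomial.coeff 0 x = 0 := by
    have h1 : MvPolynomial.coeff 0 (GradedRing.proj (CohB1.polyGrading n R) 0 x) = MvPolynomial.coeff 0 x := by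
      rw [GradedRing.proj_apply]
      have h2 : ((DirectSum.decompose (CohB1.polyGrading n R) x) 0 : MvPolynomial (Fin (n + 1)) R) =
          MvPolynomial.homogeneousComponent 0 x := MvPolynomial.decomposition.decompose'_apply x 0
      rw [h2, MvPolynomial.coeff_homogeneousComponent]
      simp
    rw [← h1, h0]
    simp
  exact (MvPolynomial.mem_support_iff.1 hm) hc

open AlgebraicGeometry CategoryTheory in
open AlgebraicGeometry in
/-- For any ring R, any quasi-coherent module F on projective space ℙ^n_R and any i > n, H^i(ℙ^n_R, F) =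
0. (The published statement is for coherent modules over a Noetherian ring; it is stated here for
quasi-coherent modules over any ring.) -/
theorem result (n : ℕ) (R : Type u) [CommRing R]
    (M : (CohB1.ProjSpace n R).Modules) [Coh.IsQCoh M] (i : ℕ) (hi : n < i) :
    Subsingleton (Coh.HH (CohB1.ProjSpace n R) M i) := by
  have hX : ∀ k : Fin (n + 1), (MvPolynomial.X k : MvPolynomial (Fin (n + 1)) R) ∈ CohB1.polyGrading n R 1 :=
    fun k => MvPolynomial.isHomogeneous_X R k
  refine Groth.Agent.Lib.Helper23.AffVanish.subsingleton_HH_of_cover (X := CohB1.ProjSpace n R) (n + 1)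
    (fun k : Fin (n + 1) => Proj.basicOpen (CohB1.polyGrading n R) (MvPolynomial.X k)) ?_ ?_ ?_ M i hi
  · intro k
    exact Proj.isAffineOpen_basicOpen (CohB1.polyGrading n R) _ (hX k) Nat.one_pos
  · exact Proj.iSup_basicOpen_eq_top (CohB1.polyGrading n R) _ (irrelevant_le n R)
  · intro V W hV hW
    have hsep : IsAffineHom (Limits.pullback.diagonal (Limits.terminal.from (Proj (CohB1.polyGrading n R)))) :=
      inferInstance
    exact @IsAffineOpen.inf (CohB1.ProjSpace n R) hsep V W hV hW

end Groth.Agent.S0022
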