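import Groth.Statements.S0846
import Mathlib
import Groth.Agent.Lib.Helper27SerreGen4

set_option autoImplicit false
universe u
open Coherent

namespace Groth.Agent.S0846

open CategoryTheory CategoryTheory.Limits AlgebraicGeometry in
/-- Let A be a Noetherian graded ring (graded by ℕ as an R-algebra) and X = Proj A. Then every coherent
O_X-module is a quotient of a finite coproduct of twisting modules O_X(d_1), …, O_X(d_r). -/
theorem result {R A : Type u} [CommRing R] [CommRing A] [Algebra R A]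
    (𝒜 : ℕ → Submodule R A) [GradedAlgebra 𝒜] [IsNoetherianRing A] (F : (Proj 𝒜).Modules) (hF : Coh.IsCoh F) :
    ∃ (r : ℕ) (d : Fin r → ℤ) (φ : (∐ fun j : Fin r => Twist.twist 𝒜 (d j)) ⟶ F), Epi φ := by
  classical
  obtain ⟨hqc, hft⟩ := hF
  haveI : F.IsQuasicoherent := hqc
  haveI : SheafOfModules.IsFiniteType (R := (Proj 𝒜).ringCatSheaf) F := hft
  -- finitely many homogeneous elements of positive degree covering `Proj`
  obtain ⟨S, hS⟩ := (inferInstance : IsNoetherian A A).noetherian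
    (HomogeneousIdeal.irrelevant 𝒜).toIdeal
  let J : Type u := {p : A × ℕ // p.1 ∈ S ∧ p.2 ∈ (DirectSum.decompose 𝒜 p.1).support ∧ 0 < p.2}
  haveI : Finite J := by
    have : (Set.Finite {p : A × ℕ | p.1 ∈ S ∧ p.2 ∈ (DirectSum.decompose 𝒜 p.1).support ∧ 0 < p.2}) := by
      apply Set.Finite.subset
        (Set.Finite.biUnion S.finite_toSet (fun x _ =>
          ((DirectSum.decompose 𝒜 x).support.finite_toSet.image (fun i => (x, i)))))
      rintro ⟨x, i⟩ ⟨hx, hi, -⟩
      exact Set.mem_biUnion hx ⟨i, hi, rfl⟩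
    exact this.to_subtype
  let f : J → A := fun j => (DirectSum.decompose 𝒜 j.1.1 j.1.2 : A)
  let deg : J → ℕ := fun j => j.1.2
  have hf : ∀ j, f j ∈ 𝒜 (deg j) := fun j => SetLike.coe_mem _
  have hdeg : ∀ j, 0 < deg j := fun j => j.2.2.2
  have hcovf : ∀ y : Proj 𝒜, ∃ j, f j ∉ (show ProjectiveSpectrum 𝒜 from y).asHomogeneousIdeal := by
    intro y
    by_contra hcon
    push Not at hcon
    apply (show ProjectiveSpectrum 𝒜 from y).not_irrelevant_le
    have h1 : (HomogeneousIdeal.irrelevant 𝒜).toIdeal ≤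
        (show ProjectiveSpectrum 𝒜 from y).asHomogeneousIdeal.toIdeal := by
      rw [← hS, Ideal.span_le]
      intro x hx
      have hxirr : x ∈ (HomogeneousIdeal.irrelevant 𝒜).toIdeal := by
        rw [← hS]; exact Ideal.subset_span hx
      rw [← DirectSum.sum_support_decompose 𝒜 x]
      refine Ideal.sum_mem _ (fun i hi => ?_)
      by_cases hi0 : 0 < i
      · exact hcon ⟨(x, i), hx, hi, hi0⟩
      · have hi0' : i = 0 := by omega
        subst hi0'
        have : GradedRing.proj 𝒜 0 x = 0 := (HomogeneousIdeal.mem_irrelevant_iff 𝒜 x).mp hxirr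
        have h0 : (DirectSum.decompose 𝒜 x 0 : A) = 0 := this
        rw [h0]
        exact zero_mem _
    exact h1
  haveI : Fintype J := Fintype.ofFinite J
  have hdvd : ∀ j, deg j ∣ Finset.univ.lcm deg := fun j => Finset.dvd_lcm (Finset.mem_univ j)
  have hl : 0 < Finset.univ.lcm deg := by
    apply Nat.pos_of_ne_zero
    rw [Ne, Finset.lcm_eq_zero_iff]
    rintro ⟨j, -, hj⟩
    exact (hdeg j).ne' hj
  have hG : ∀ j, f j ^ (Finset.univ.lcm deg / deg j) ∈ 𝒜 (Finset.univ.lcm deg) := by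
    intro j
    have e : (Finset.univ.lcm deg / deg j) • deg j = Finset.univ.lcm deg := by
      rw [smul_eq_mul, Nat.div_mul_cancel (hdvd j)]
    have h2 := SetLike.pow_mem_graded (Finset.univ.lcm deg / deg j) (hf j)
    rwa [e] at h2
  have hcov : ∀ y : Proj 𝒜, ∃ j, f j ^ (Finset.univ.lcm deg / deg j) ∉
      (show ProjectiveSpectrum 𝒜 from y).asHomogeneousIdeal := by
    intro y
    obtain ⟨j, hj⟩ := hcovf y
    exact ⟨j, fun h => hj ((show ProjectiveSpectrum 𝒜 from y).isPrime.mem_of_pow_mem _ h)⟩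
  obtain ⟨n₀, hn₀⟩ := Groth.Agent.Lib.Helper27GrTildeSect.exists_epi_twist 𝒜
    (Finset.univ.lcm deg) (fun j => f j ^ (Finset.univ.lcm deg / deg j)) hG hcov hl F
  obtain ⟨r, p, hp⟩ := hn₀ n₀ le_rfl (-((n₀ * Finset.univ.lcm deg : ℕ) : ℤ)) (by simp)
  exact ⟨r, fun _ => -((n₀ * Finset.univ.lcm deg : ℕ) : ℤ), p, hp⟩

end Groth.Agent.S0846
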