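import Groth.Statements.S4743
import Mathlib
import Groth.Agent.Lib.Helper28FinDom
import Groth.Agent.Lib.Helper28GeomFibre3
-- import your own Groth.Agent.* helpers here

set_option autoImplicit false
universe u
open EGA4

namespace Groth.Agent.S4743
open Groth.Agent.Lib.Helper28 IsLocalRing TensorProduct

theorem red_equiv (R S : Type u) [CommRing R] [CommRing S] (e : R ≃+* S) (h : IsReduced R) :
    IsReduced S :=
  isReduced_of_injective e.symm e.symm.injective

open Groth.Agent.Lib.Helper28 TensorProduct IsLocalRing in
theorem isReduced_iff_locallyQ (R : Type u) [CommRing R] :
    IsReduced R ↔ LocallyQ (fun R _ => IsReduced R) R := by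
  constructor
  · intro h p _
    exact isReduced_localizationPreserves p.primeCompl _ h
  · intro h
    exact isReduced_ofLocalizationMaximal R fun J _ => h J


open TensorProduct in
/-- For the property 'geometrically reduced', case of a local ring: let A be a Noetherian local ring
with completion Â. Then the formal fibres of A are geometrically reduced if and only if, for every
finite A-algebra B which is a domain and every prime ideal q of B ⊗_A Â whose contraction to B is
zero, the local ring of B ⊗_A Â at q is reduced. (The published statement is for semi-local rings;
this row takes A local.) -/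
theorem result (A : Type u) [CommRing A] [IsNoetherianRing A]
    [IsLocalRing A] :
    EGA4.HasGeomReducedFormalFibres A ↔
      ∀ (B : Type u) [CommRing B] [IsDomain B] [Algebra A B] [Module.Finite A B]
        (q : Ideal (B ⊗[A] EGA4.Cpl A)) [q.IsPrime],
        q.comap (algebraMap B (B ⊗[A] EGA4.Cpl A)) = ⊥ → IsReduced (Localization.AtPrime q) := by
  rw [← geomLocallyQ_fibres_iff_finite_domains (fun R _ => IsReduced R) red_equiv A (EGA4.Cpl A)]
  constructor
  · intro h p _ K' _ _ hfin
    have := h p
    have : Algebra.IsAlgebraic p.ResidueField K' := Algebra.IsAlgebraic.of_finite _ _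
    have hred : IsReduced (K' ⊗[p.ResidueField] EGA4.formalFibre A p) := inferInstance
    exact (isReduced_iff_locallyQ _).mp hred
  · intro h p _
    apply isGeometricallyReduced_of_forall_finite
    intro K' _ _ hfin
    exact (isReduced_iff_locallyQ _).mpr (h p K' hfin)

end Groth.Agent.S4743
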