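import Groth.Statements.S4703
import Mathlib
import Groth.Agent.Lib.Helper28FinDom
import Groth.Agent.Lib.Helper28GeomFibre3
import Groth.Agent.Lib.Helper28FibreTrans
-- import your own Groth.Agent.* helpers here

set_option autoImplicit false
universe u
open EGA4

namespace Groth.Agent.S4703
open Groth.Agent.Lib.Helper28 IsLocalRing TensorProduct

theorem hQreg : ∀ (R S : Type u) [CommRing R] [CommRing S], (R ≃+* S) →
      IsRegularLocalRing R → IsRegularLocalRing S := fun R _ _ _ e _ =>
    IsRegularLocalRing.of_ringEquiv (R := R) e

open Groth.Agent.Lib.Helper28 TensorProduct IsLocalRing in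
theorem isRegularRing_iff_locallyQ (R : Type u) [CommRing R] [IsNoetherianRing R] :
    IsRegularRing R ↔ LocallyQ (fun R _ => IsRegularLocalRing R) R :=
  isRegularRing_iff


open TensorProduct in
/-- For the property 'geometrically regular', case of a local ring: let A be a Noetherian local ring
with completion Â. Then the formal fibres of A are geometrically regular (the completion map A → Â
is a regular homomorphism) if and only if, for every finite A-algebra B which is a domain and every
prime ideal q of B ⊗_A Â whose contraction to B is zero, the local ring of B ⊗_A Â at q is regular.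
(The published statement is for semi-local rings; this row takes A local.) -/
theorem result (A : Type u) [CommRing A] [IsNoetherianRing A] [IsLocalRing A] :
    CAlg.IsRegularHom A (EGA4.Cpl A) ↔
      ∀ (B : Type u) [CommRing B] [IsDomain B] [Algebra A B] [Module.Finite A B]
        (q : Ideal (B ⊗[A] EGA4.Cpl A)) [q.IsPrime],
        q.comap (algebraMap B (B ⊗[A] EGA4.Cpl A)) = ⊥ → IsRegularLocalRing (Localization.AtPrime q) := by
  rw [← geomLocallyQ_fibres_iff_finite_domains (fun R _ => IsRegularLocalRing R) hQreg A
    (EGA4.Cpl A)]
  have hNc : IsNoetherianRing (EGA4.Cpl A) :=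
    Groth.Agent.Lib.Helper19.isNoetherianRing_adicCompletion _
  have hN : ∀ (p : Ideal A) [p.IsPrime] (K' : Type u) [Field K'] [Algebra p.ResidueField K'],
      Module.Finite p.ResidueField K' →
      IsNoetherianRing (K' ⊗[p.ResidueField] p.Fiber (EGA4.Cpl A)) := by
    intro p _ K' _ _ hfin
    let _ : Algebra A K' :=
      ((algebraMap p.ResidueField K').comp (algebraMap A p.ResidueField)).toAlgebra
    have : IsScalarTower A p.ResidueField K' := .of_algebraMap_eq' rfl
    have : IsNoetherianRing (p.Fiber (EGA4.Cpl A)) := isNoetherianRing_fiber p
    exact isNoetherianRing_tensor_fiber A (EGA4.Cpl A) p K'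
  constructor
  · intro h p _ K' _ _ hfin
    have := hN p K' hfin
    exact (isRegularRing_iff_locallyQ _).mp ((h.2 p).2 K' hfin)
  · intro h
    refine ⟨inferInstance, fun p _ => ⟨isNoetherianRing_fiber p, ?_⟩⟩
    intro K' _ _ hfin
    have := hN p K' hfin
    exact (isRegularRing_iff_locallyQ _).mpr (h p K' hfin)

end Groth.Agent.S4703
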