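import Groth.Statements.S14276
import Mathlib
import Groth.Agent.S0412
import Groth.Agent.S18860

set_option autoImplicit false
universe u
open CategoryTheory AlgebraicGeometry
open NonAbH1

namespace Groth.Agent.S14276


/-- membership in `Scheme.precoverage P`, unfolded. -/
lemma mem_precoverage_iff' {P : MorphismProperty Scheme.{u}} {X : Scheme.{u}} {R : Presieve X} :
    R ∈ Scheme.precoverage P X ↔
      (∀ x : X, ∃ (Y : Scheme.{u}) (g : Y ⟶ X), R g ∧ x ∈ Set.range g) ∧
        ∀ ⦃Y : Scheme.{u}⦄ (g : Y ⟶ X), R g → P g := by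
  constructor
  · rintro ⟨h1, h2⟩
    refine ⟨?_, fun Y g hg => h2 hg⟩
    have := (Presieve.mem_comap_jointlySurjectivePrecoverage_iff Scheme.forget).1 h1
    exact this
  · rintro ⟨h1, h2⟩
    refine ⟨(Presieve.mem_comap_jointlySurjectivePrecoverage_iff Scheme.forget).2 h1,
      fun {Y} g hg => h2 g hg⟩



/-- Let X be a scheme and G a group scheme over X which is smooth over X. Then every G-torsor for the
fppf topology is locally trivial for the étale topology on X. Here a torsor is an X-scheme with an
action of G which is a pseudo-torsor and acquires sections on the members of some fppf covering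
family of X, and the conclusion says that it acquires sections on the members of some étale covering
family of X. (The published statement is about torsors in the sense of fppf sheaves; this row states
it for torsors that are schemes.) -/
theorem result {X : Scheme.{u}}
    (G : Over X) [GrpObj G] [Smooth G.hom] (P : Over X) (a : AlgGrp.Action G P)
    (h : NonAbH1.IsTorsorFor Scheme.fppfPrecoverage a) :
    NonAbH1.IsLocallyTrivialFor Scheme.etalePrecoverage P := by
  have h' : NonAbH1.IsTorsorFor Scheme.fpqcPrecoverage a := by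
    obtain ⟨h1, R, hR, hsec⟩ := h
    exact ⟨h1, R, Scheme.fppfPrecoverage_le_fpqcPrecoverage _ hR, hsec⟩
  haveI : Smooth P.hom := (Groth.Agent.S18860.result a h').2.2.2.1 inferInstance
  -- surjectivity
  have hsurj : ∀ x : X, x ∈ Set.range P.hom := by
    obtain ⟨_, R, hR, hsec⟩ := h
    intro x
    have hR' := (mem_precoverage_iff'.1 hR).1
    obtain ⟨Y, g, hg, y, hy⟩ := hR' x
    obtain ⟨s, hs⟩ := hsec g hg
    exact ⟨s y, by rw [← Scheme.Hom.comp_apply, hs]; exact hy⟩
  refine ⟨fun S' g => Etale g ∧ ∃ t : S' ⟶ P.left, t ≫ P.hom = g, ?_, ?_⟩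
  · refine mem_precoverage_iff'.2 ⟨?_, ?_⟩
    · intro x
      obtain ⟨S', g, s', hg, hgs, t, ht⟩ := Groth.Agent.S0412.result P.hom x (hsurj x)
      exact ⟨S', g, ⟨hg, t, ht⟩, s', hgs⟩
    · intro S' g hg
      exact hg.1
  · intro S' g hg
    exact hg.2

end Groth.Agent.S14276
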