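import Groth.Statements.S14884
import Mathlib
import Groth.Agent.Lib.Helper12BundleMap

set_option autoImplicit false
universe u
open CategoryTheory MonoidalCategory CartesianMonoidalCategory MonObj GrpObj AlgebraicGeometry CategoryTheory.Limits
open AlgGrp

namespace Groth.Agent.S14884


open Groth.Agent.Lib.Helper12 Groth.Agent.Lib.Helper12.BundleMap

/-- `G ◁ i` is a base change of `i`. -/
lemma isPullback_whiskerLeft {C : Type*} [Category C] [CartesianMonoidalCategory C] (G : C)
    {X Y : C} (i : X ⟶ Y) : IsPullback (G ◁ i) (snd G X) (snd G Y) i := by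
  refine isPullback_of_existsUnique_sq (by simp) ?_
  intro T p x hpx
  refine ⟨lift (p ≫ fst G Y) x, ⟨?_, by simp⟩, ?_⟩
  · apply CartesianMonoidalCategory.hom_ext
    · simp
    · simp [hpx]
  · rintro a ⟨ha1, ha2⟩
    apply CartesianMonoidalCategory.hom_ext
    · rw [lift_fst, ← ha1]; simp
    · rw [lift_snd, ha2]

/-- a morphism from a quasi-compact `S`-scheme to a quasi-separated one is quasi-compact. -/
lemma quasiCompact_left {S : Scheme.{u}} {A B : Over S} (f : A ⟶ B) [QuasiCompact A.hom]
    [QuasiSeparated B.hom] : QuasiCompact f.left := by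
  haveI : QuasiCompact (f.left ≫ B.hom) := by rw [Over.w f]; infer_instance
  exact QuasiCompact.of_comp f.left B.hom



/-- Over an algebraically closed field k of characteristic zero, let G be an algebraic group (a smooth
k-group scheme of finite type) and H an algebraic subgroup (a smooth closed subgroup scheme, j : H →
G). Let π : G → B be the quotient of G by H (a geometric quotient for the action h·g = g·h⁻¹ which
is a principal H-bundle: (h, g) ↦ (g·h⁻¹, g) is an isomorphism H × G ≅ G ×_B G and π is flat). Let X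
and Y be varieties (reduced, separated, of finite type over k) with H-actions, in each of which
every finite set of points lies in an affine open subset, let i : X → Y be an H-equivariant open
immersion, let qX : G × X → QX be the associated bundle G_H(X), that is a geometric quotient for the
action h·(g, x) = (g·h⁻¹, h·x) on G × X which is a principal H-bundle, with structure map pX : QX →
B satisfying pX ∘ qX = π ∘ pr₁, and likewise qY : G × Y → QY and pY for Y, with QX and QY varieties.
Here a geometric quotient is an invariant, surjective, open morphism whose fibre-pair map (h, y) ↦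
(h·y, y) is surjective on points and whose sections over every open are exactly the invariant
sections. Let m : QX → QY be the morphism induced by id × i, that is m ∘ qX = qY ∘ (id × i) and pY ∘
m = pX. Then m = G_H(i) is an open immersion. -/
theorem result (k : Type u) [Field k] [IsAlgClosed k] [CharZero k]
    (G H : Over (Spec (CommRingCat.of k))) [GrpObj G] [Smooth G.hom] [QuasiCompact G.hom]
    [GrpObj H] (j : H ⟶ G) [IsMonHom j] [IsClosedImmersion j.left] [Smooth H.hom]
    (B : Over (Spec (CommRingCat.of k))) [LocallyOfFiniteType B.hom] [QuasiCompact B.hom] [IsSeparated B.hom] [IsReduced B.left]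
    (r : AlgGrp.Action H G) (hr : ∀ (T : Over (Spec (CommRingCat.of k))) (h : T ⟶ H) (g : T ⟶ G),
      lift h g ≫ r.act = g * (h ≫ j)⁻¹)
    (π : G ⟶ B) (hπinv : GIT.IsInvariant r π)
    (hπ : (Function.Surjective π.left.base ∧ IsOpenMap π.left.base ∧
      Function.Surjective (GIT.PsiY r π hπinv).base ∧
      (∀ U : B.left.Opens, Function.Injective (π.left.app U) ∧
        Set.range (π.left.app U) = {f | GIT.IsInvSection r π U f}) ∧
      IsIso (GIT.PsiY r π hπinv) ∧ Flat π.left))
    (X Y : Over (Spec (CommRingCat.of k))) [LocallyOfFiniteType X.hom] [QuasiCompact X.hom] [IsSeparated X.hom] [IsReduced X.left] [LocallyOfFiniteType Y.hom] [QuasiCompact Y.hom] [IsSeparated Y.hom] [IsReduced Y.left]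
    (hFX : ∀ F : Finset ↥X.left, ∃ U : X.left.Opens, IsAffineOpen U ∧ (↑F : Set ↥X.left) ⊆ (U : Set ↥X.left))
    (hFY : ∀ F : Finset ↥Y.left, ∃ U : Y.left.Opens, IsAffineOpen U ∧ (↑F : Set ↥Y.left) ⊆ (U : Set ↥Y.left))
    (aX : AlgGrp.Action H X) (aY : AlgGrp.Action H Y) (i : X ⟶ Y) [IsOpenImmersion i.left]
    (hi : aX.act ≫ i = (H ◁ i) ≫ aY.act)
    (b : AlgGrp.Action H (G ⊗ X))
    (hb : ∀ (T : Over (Spec (CommRingCat.of k))) (h : T ⟶ H) (g : T ⟶ G) (x : T ⟶ X),
      lift h (lift g x) ≫ b.act = lift (g * (h ≫ j)⁻¹) (lift h x ≫ aX.act))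
    (c : AlgGrp.Action H (G ⊗ Y))
    (hc : ∀ (T : Over (Spec (CommRingCat.of k))) (h : T ⟶ H) (g : T ⟶ G) (x : T ⟶ Y),
      lift h (lift g x) ≫ c.act = lift (g * (h ≫ j)⁻¹) (lift h x ≫ aY.act))
    (QX QY : Over (Spec (CommRingCat.of k))) [LocallyOfFiniteType QX.hom] [QuasiCompact QX.hom] [IsSeparated QX.hom] [IsReduced QX.left] [LocallyOfFiniteType QY.hom] [QuasiCompact QY.hom] [IsSeparated QY.hom] [IsReduced QY.left]
    (qX : G ⊗ X ⟶ QX) (hqXinv : GIT.IsInvariant b qX) (hqX : (Function.Surjective qX.left.base ∧ IsOpenMap qX.left.base ∧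
      Function.Surjective (GIT.PsiY b qX hqXinv).base ∧
      (∀ U : QX.left.Opens, Function.Injective (qX.left.app U) ∧
        Set.range (qX.left.app U) = {f | GIT.IsInvSection b qX U f}) ∧
      IsIso (GIT.PsiY b qX hqXinv) ∧ Flat qX.left))
    (qY : G ⊗ Y ⟶ QY) (hqYinv : GIT.IsInvariant c qY) (hqY : (Function.Surjective qY.left.base ∧ IsOpenMap qY.left.base ∧
      Function.Surjective (GIT.PsiY c qY hqYinv).base ∧
      (∀ U : QY.left.Opens, Function.Injective (qY.left.app U) ∧
        Set.range (qY.left.app U) = {f | GIT.IsInvSection c qY U f}) ∧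
      IsIso (GIT.PsiY c qY hqYinv) ∧ Flat qY.left))
    (pX : QX ⟶ B) (hpX : qX ≫ pX = fst G X ≫ π) (pY : QY ⟶ B) (hpY : qY ≫ pY = fst G Y ≫ π)
    (m : QX ⟶ QY) (hm : qX ≫ m = (G ◁ i) ≫ qY) (hmp : m ≫ pY = pX) :
    IsOpenImmersion m.left := by
  obtain ⟨hqX1, -, -, -, hqX5, hqX6⟩ := hqX
  obtain ⟨hqY1, -, -, -, hqY5, hqY6⟩ := hqY
  have cX := isPullback_of_isIso_PsiY b qX hqXinv hqX5
  have cY := isPullback_of_isIso_PsiY c qY hqYinv hqY5
  haveI : QuasiCompact (G ⊗ X).hom := quasiCompact_tensor_hom G X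
  haveI : QuasiCompact (G ⊗ Y).hom := quasiCompact_tensor_hom G Y
  haveI : Flat qX.left := hqX6
  haveI : Surjective qX.left := ⟨hqX1⟩
  haveI : QuasiCompact qX.left := quasiCompact_left qX
  haveI : Flat qY.left := hqY6
  haveI : Surjective qY.left := ⟨hqY1⟩
  haveI : QuasiCompact qY.left := quasiCompact_left qY
  -- equivariance of `G ◁ i`
  have hipt : ∀ {T : Over (Spec (CommRingCat.of k))} (h : T ⟶ H) (x : T ⟶ X),
      (lift h x ≫ aX.act) ≫ i = lift h (x ≫ i) ≫ aY.act := by
    intro T h x
    rw [Category.assoc, hi, ← Category.assoc]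
    congr 1
    apply CartesianMonoidalCategory.hom_ext <;> simp
  have hequiv : b.act ≫ (G ◁ i) = (H ◁ (G ◁ i)) ≫ c.act := by
    set h := fst H (G ⊗ X) with hh
    set g := snd H (G ⊗ X) ≫ fst G X with hg
    set x := snd H (G ⊗ X) ≫ snd G X with hx
    have e1 : 𝟙 (H ⊗ (G ⊗ X)) = lift h (lift g x) := by
      apply CartesianMonoidalCategory.hom_ext
      · simp [hh]
      · rw [lift_snd]
        apply CartesianMonoidalCategory.hom_ext <;> simp [hg, hx]
    have e2 : lift h (lift g x) ≫ (H ◁ (G ◁ i)) = lift h (lift g (x ≫ i)) := by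
      apply CartesianMonoidalCategory.hom_ext
      · simp
      · rw [Category.assoc, whiskerLeft_snd, lift_snd_assoc, lift_snd]
        apply CartesianMonoidalCategory.hom_ext <;> simp
    have e3 : lift (g * (h ≫ j)⁻¹) (lift h x ≫ aX.act) ≫ (G ◁ i) =
        lift (g * (h ≫ j)⁻¹) ((lift h x ≫ aX.act) ≫ i) := by
      apply CartesianMonoidalCategory.hom_ext <;> simp
    have L : b.act ≫ (G ◁ i) = lift (g * (h ≫ j)⁻¹) (lift h (x ≫ i) ≫ aY.act) := by
      have e4 : b.act = lift h (lift g x) ≫ b.act := by rw [← e1, Category.id_comp]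
      rw [e4, hb, e3, hipt]
    have R : (H ◁ (G ◁ i)) ≫ c.act = lift (g * (h ≫ j)⁻¹) (lift h (x ≫ i) ≫ aY.act) := by
      have e5 : (H ◁ (G ◁ i)) = lift h (lift g (x ≫ i)) := by rw [← e2, ← e1, Category.id_comp]
      rw [e5, hc]
    rw [L, R]
  have sq := isPullback_of_equivariant b c qX qY cX cY (isLocallyTrivialFor_of_fpqc qX.left)
    (G ◁ i) hequiv m hm
  have sq' : IsPullback qX.left (G ◁ i).left m.left qY.left := sq.map (Over.forget _)
  haveI : IsOpenImmersion (G ◁ i).left :=
    MorphismProperty.of_isPullback (P := @IsOpenImmersion)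
      ((isPullback_whiskerLeft G i).map (Over.forget _)).flip ‹IsOpenImmersion i.left›
  exact MorphismProperty.of_isPullback_of_descendsAlong (P := @IsOpenImmersion)
    (Q := (@Surjective ⊓ @Flat ⊓ @QuasiCompact : MorphismProperty Scheme.{u}))
    sq'.flip ⟨⟨‹Surjective qY.left›, ‹Flat qY.left›⟩, ‹QuasiCompact qY.left›⟩
    ‹IsOpenImmersion (G ◁ i).left›

end Groth.Agent.S14884
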