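import Groth.Statements.S18826
import Mathlib
import Groth.Agent.S14884
import Groth.Agent.Lib.Helper12Act
import Groth.Agent.Lib.Helper12BundleMap

set_option autoImplicit false
universe u
open CategoryTheory MonoidalCategory CartesianMonoidalCategory MonObj AlgebraicGeometry
open AlgGrp

namespace Groth.Agent.S18826


open Groth.Agent.Lib.Helper12 Groth.Agent.Lib.Helper12.BundleMap CategoryTheory.Limits MonObj

variable {P : MorphismProperty Scheme.{u}}

/-- the restriction of `f` to the union of the opens over which it has `P` has `P`. -/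
lemma restrict_sSup [IsZariskiLocalAtTarget P] {X Y : Scheme.{u}} (f : X ⟶ Y) :
    P (f ∣_ sSup {V' : Y.Opens | P (f ∣_ V')}) := by
  set V : Y.Opens := sSup {V' : Y.Opens | P (f ∣_ V')} with hVdef
  apply IsZariskiLocalAtTarget.of_forall_exists_morphismRestrict
  intro x
  obtain ⟨V', hV', hxV'⟩ : ∃ V' ∈ {V' : Y.Opens | P (f ∣_ V')}, x.1 ∈ V' :=
    TopologicalSpace.Opens.mem_sSup.1 x.2
  have hle : V' ≤ V := le_sSup hV'
  refine ⟨V.ι ⁻¹ᵁ V', hxV', ?_⟩
  rw [P.arrow_mk_iso_iff (morphismRestrictRestrict f V (V.ι ⁻¹ᵁ V'))]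
  have e : V.ι ''ᵁ (V.ι ⁻¹ᵁ V') = V' := by
    rw [Scheme.Hom.image_preimage_eq_opensRange_inf, Scheme.Opens.opensRange_ι]
    exact inf_eq_right.2 hle
  rw [P.arrow_mk_iso_iff (morphismRestrictEq f e)]
  exact hV'

/-- base change of a restriction. -/
lemma restrict_of_isPullback [IsZariskiLocalAtTarget P] [P.IsStableUnderBaseChange]
    {X Y X' Y' : Scheme.{u}} {f : X ⟶ Y} {g : Y' ⟶ Y} {g' : X' ⟶ X} {f' : X' ⟶ Y'}
    (sq : IsPullback g' f' f g) (V : Y.Opens) (h : P (f ∣_ V)) : P (f' ∣_ (g ⁻¹ᵁ V)) := by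
  have h1 := isPullback_morphismRestrict f' (g ⁻¹ᵁ V)
  have h2 := isPullback_morphismRestrict f V
  have big := h1.paste_vert sq.flip
  have hw : ((f' ∣_ (g ⁻¹ᵁ V)) ≫ (g ∣_ V)) ≫ V.ι = ((f' ⁻¹ᵁ (g ⁻¹ᵁ V)).ι ≫ g') ≫ f := by
    rw [Category.assoc, morphismRestrict_ι, ← Category.assoc, morphismRestrict_ι, Category.assoc,
      Category.assoc, sq.w]
  have hk1 : h2.lift _ _ hw ≫ (f ∣_ V) = (f' ∣_ (g ⁻¹ᵁ V)) ≫ (g ∣_ V) := h2.lift_fst _ _ _
  have hk2 : h2.lift _ _ hw ≫ (f ⁻¹ᵁ V).ι = (f' ⁻¹ᵁ (g ⁻¹ᵁ V)).ι ≫ g' := h2.lift_snd _ _ _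
  rw [← hk2, ← morphismRestrict_ι] at big
  have top := IsPullback.of_bot big hk1.symm h2
  exact MorphismProperty.of_isPullback (P := P) top.flip h

/-- descent of a restriction along a cover of the open. -/
lemma restrict_of_descendsAlong {Q : MorphismProperty Scheme.{u}} [P.DescendsAlong Q]
    {X Y C XC : Scheme.{u}} {f : X ⟶ Y} (W : Y.Opens) (c' : C ⟶ W) (hc' : Q c')
    {pX : XC ⟶ X} {fC : XC ⟶ C} (sq : IsPullback pX fC f (c' ≫ W.ι)) (h : P fC) :
    P (f ∣_ W) := by
  have h2 := isPullback_morphismRestrict f W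
  have hw : (fC ≫ c') ≫ W.ι = pX ≫ f := by rw [Category.assoc, sq.w]
  have hk1 : h2.lift _ _ hw ≫ (f ∣_ W) = fC ≫ c' := h2.lift_fst _ _ _
  have hk2 : h2.lift _ _ hw ≫ (f ⁻¹ᵁ W).ι = pX := h2.lift_snd _ _ _
  rw [← hk2] at sq
  have left := IsPullback.of_right sq hk1 h2.flip
  exact MorphismProperty.of_isPullback_of_descendsAlong (P := P) (Q := Q) left.flip hc' h

/-- the square expressing equivariance is cartesian. -/
lemma isPullback_of_equivariant' {S : Scheme.{u}} {G X Y : Over S} [GrpObj G]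
    (aX : AlgGrp.Action G X) (aY : AlgGrp.Action G Y) (f : X ⟶ Y)
    (hf : (G ◁ f) ≫ aY.act = aX.act ≫ f) : IsPullback (G ◁ f) aX.act aY.act f := by
  have hpt : ∀ {T : Over S} (g' : T ⟶ G) (x' : T ⟶ X),
      (lift g' x' ≫ aX.act) ≫ f = lift g' (x' ≫ f) ≫ aY.act := by
    intro T g' x'
    rw [Category.assoc, ← hf, ← Category.assoc]
    congr 1
    apply CartesianMonoidalCategory.hom_ext <;> simp
  refine isPullback_of_existsUnique_sq hf ?_
  intro T p x hpx
  have hp : p = lift (p ≫ fst G Y) (p ≫ snd G Y) := by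
    apply CartesianMonoidalCategory.hom_ext <;> simp
  obtain ⟨g, hg⟩ : ∃ g, g = p ≫ fst G Y := ⟨_, rfl⟩
  obtain ⟨y, hy⟩ : ∃ y, y = p ≫ snd G Y := ⟨_, rfl⟩
  rw [← hg, ← hy] at hp
  refine ⟨lift g (lift g⁻¹ x ≫ aX.act), ⟨?_, ?_⟩, ?_⟩
  · rw [hp]
    apply CartesianMonoidalCategory.hom_ext
    · simp
    · rw [Category.assoc, whiskerLeft_snd, lift_snd_assoc, lift_snd, hpt, ← hpx, hp, ← act_mul,
        inv_mul_cancel, act_one]
  · rw [← act_mul, mul_inv_cancel, act_one]
  · rintro q ⟨hq1, hq2⟩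
    have hq : q = lift (q ≫ fst G X) (q ≫ snd G X) := by
      apply CartesianMonoidalCategory.hom_ext <;> simp
    have hqg : q ≫ fst G X = g := by
      have := congrArg (fun m => m ≫ fst G Y) hq1
      simp only [Category.assoc, whiskerLeft_fst] at this
      rw [this, hg]
    have hqx : q ≫ snd G X = lift g⁻¹ x ≫ aX.act := by
      have h3 : x = lift g (q ≫ snd G X) ≫ aX.act := by
        rw [← hq2]
        conv_lhs => rw [hq, hqg]
      rw [h3, ← act_mul, inv_mul_cancel, act_one]
    rw [hq, hqg, hqx]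



/-- Let k be a field, G a locally algebraic group over k (a group k-scheme locally of finite type)
acting on k-schemes X and Y, and f : X → Y a G-equivariant k-morphism. Let P be a property of
morphisms of schemes which is local on the target for the Zariski topology, stable under base
change, and descends along flat surjective universally open morphisms (the published hypothesis is
descent along fpqc morphisms; the printed argument descends only along the restriction G ×_k U → G·U
of the action, which is flat, surjective and universally open). Then there is a largest open subset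
V of Y such that the restriction f⁻¹(V) → V of f has P, and this V is G-stable: the action G ×_k Y →
Y maps G ×_k V into V. -/
theorem result (k : Type u) [Field k]
    (G X Y : Over (Spec (CommRingCat.of k))) [GrpObj G] [LocallyOfFiniteType G.hom]
    (aX : AlgGrp.Action G X) (aY : AlgGrp.Action G Y) (f : X ⟶ Y) (hf : (G ◁ f) ≫ aY.act = aX.act ≫ f)
    (P : MorphismProperty Scheme.{u}) [IsZariskiLocalAtTarget P] [P.IsStableUnderBaseChange]
    [P.DescendsAlong (@Flat ⊓ @Surjective ⊓ @UniversallyOpen)] :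
    ∃ V : Y.left.Opens, P (f.left ∣_ V) ∧ (∀ V' : Y.left.Opens, P (f.left ∣_ V') → V' ≤ V) ∧
      (CartesianMonoidalCategory.snd G Y).left ⁻¹ᵁ V ≤ aY.act.left ⁻¹ᵁ V := by
  obtain ⟨V, hVdef⟩ : ∃ V : Y.left.Opens, V = sSup {V' : Y.left.Opens | P (f.left ∣_ V')} :=
    ⟨_, rfl⟩
  have hV : P (f.left ∣_ V) := hVdef ▸ restrict_sSup f.left
  have hmax : ∀ V' : Y.left.Opens, P (f.left ∣_ V') → V' ≤ V := fun V' h => hVdef ▸ le_sSup h
  refine ⟨V, hV, hmax, ?_⟩
  haveI : Flat G.hom := inferInstance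
  haveI : LocallyOfFinitePresentation G.hom := inferInstance
  haveI : UniversallyOpen G.hom := inferInstance
  have hsnd : (CartesianMonoidalCategory.snd G Y).left = pullback.snd G.hom Y.hom := rfl
  haveI : UniversallyOpen (CartesianMonoidalCategory.snd G Y).left := by rw [hsnd]; infer_instance
  haveI : Flat (CartesianMonoidalCategory.snd G Y).left := by rw [hsnd]; infer_instance
  have hact : aY.act.left = (shearIso aY).hom.left ≫ (CartesianMonoidalCategory.snd G Y).left := by
    rw [← Over.comp_left]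
    congr 1
    exact (shear_snd aY).symm
  haveI : IsIso (shearIso aY).hom.left :=
    inferInstanceAs (IsIso ((Over.forget _).map (shearIso aY).hom))
  haveI : UniversallyOpen aY.act.left := by rw [hact]; infer_instance
  haveI : Flat aY.act.left := by rw [hact]; infer_instance
  obtain ⟨C, hC⟩ : ∃ C : (G ⊗ Y).left.Opens, C = (CartesianMonoidalCategory.snd G Y).left ⁻¹ᵁ V :=
    ⟨_, rfl⟩
  obtain ⟨c, hc⟩ : ∃ c : (C : Scheme.{u}) ⟶ Y.left, c = C.ι ≫ aY.act.left := ⟨_, rfl⟩
  haveI : UniversallyOpen c := by rw [hc]; infer_instance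
  haveI : Flat c := by rw [hc]; infer_instance
  let W : Y.left.Opens := ⟨Set.range c.base, c.isOpenMap.isOpen_range⟩
  have hrange : Set.range c.base ⊆ Set.range W.ι.base := by
    rw [Scheme.Opens.range_ι]
    exact subset_rfl
  obtain ⟨c', hc'⟩ : ∃ c' : (C : Scheme.{u}) ⟶ W, c' ≫ W.ι = c :=
    ⟨IsOpenImmersion.lift W.ι c hrange, IsOpenImmersion.lift_fac _ _ _⟩
  have sqc : IsPullback c' (𝟙 _) W.ι c := by
    refine isPullback_of_existsUnique_sq (by rw [hc', Category.id_comp]) ?_
    intro T t₁ t₂ h12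
    refine ⟨t₂, ⟨?_, Category.comp_id _⟩, ?_⟩
    · rw [← cancel_mono W.ι, Category.assoc, hc', h12]
    · rintro q ⟨-, hq⟩
      rw [← hq, Category.comp_id]
  have hQ : (@Flat ⊓ @Surjective ⊓ @UniversallyOpen : MorphismProperty Scheme.{u}) c' := by
    refine ⟨⟨?_, ?_⟩, ?_⟩
    · exact MorphismProperty.of_isPullback (P := @Flat) sqc.flip ‹Flat c›
    · constructor
      rintro ⟨w, x, hx⟩
      refine ⟨x, ?_⟩
      apply W.ι.injective
      rw [← Scheme.Hom.comp_apply, hc']
      exact hx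
    · exact MorphismProperty.of_isPullback (P := @UniversallyOpen) sqc.flip ‹UniversallyOpen c›
  have E : IsPullback (G ◁ f).left aX.act.left aY.act.left f.left :=
    (isPullback_of_equivariant' aX aY f hf).map (Over.forget _)
  have h1 := isPullback_morphismRestrict (G ◁ f).left C
  have big := h1.paste_vert E
  have sqC : IsPullback (((G ◁ f).left ⁻¹ᵁ C).ι ≫ aX.act.left) ((G ◁ f).left ∣_ C) f.left
      (c' ≫ W.ι) := by
    rw [hc', hc]
    exact big.flip
  have hwl : IsPullback (G ◁ f).left (CartesianMonoidalCategory.snd G X).left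
      (CartesianMonoidalCategory.snd G Y).left f.left :=
    (Groth.Agent.S14884.isPullback_whiskerLeft G f).map (Over.forget _)
  have hPC : P ((G ◁ f).left ∣_ C) := by
    rw [hC]
    exact restrict_of_isPullback hwl.flip V hV
  have hW : P (f.left ∣_ W) :=
    restrict_of_descendsAlong (Q := @Flat ⊓ @Surjective ⊓ @UniversallyOpen) W c' hQ sqC hPC
  have hWV : W ≤ V := hmax W hW
  intro t ht
  have htC : t ∈ C := by rw [hC]; exact ht
  have h3 : aY.act.left t ∈ W := by
    refine ⟨⟨t, htC⟩, ?_⟩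
    rw [hc]
    rfl
  exact hWV h3

end Groth.Agent.S18826
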