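import Groth.Statements.S9859
import Mathlib
import Groth.Agent.S18826
import Groth.Agent.S14276

set_option autoImplicit false
open CategoryTheory CategoryTheory.Limits AlgebraicGeometry Opposite
universe u
open Desc

namespace Groth.Agent.S9859


open CategoryTheory.Limits MorphismProperty

variable {P : MorphismProperty Scheme.{u}}

lemma zar [P.IsLocalAtTarget Scheme.fppfPrecoverage] : IsZariskiLocalAtTarget P :=
  IsLocalAtTarget.of_le Scheme.zariskiPrecoverage_le_fppfPrecoverage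

lemma pullbackSnd_fppf [P.IsLocalAtTarget Scheme.fppfPrecoverage] {X Y Y' : Scheme.{u}}
    (f : X ⟶ Y) (g : Y' ⟶ Y) [Flat g] [LocallyOfFinitePresentation g] (h : P f) :
    P (pullback.snd f g) := by
  let R : Presieve Y := fun Z h => Flat h ∧ LocallyOfFinitePresentation h
  have hR : R ∈ Scheme.fppfPrecoverage Y := by
    refine S14276.mem_precoverage_iff'.2
      ⟨fun x => ⟨Y, 𝟙 Y, ⟨inferInstance, inferInstance⟩, x, rfl⟩, fun Z g hg => hg⟩
  exact IsLocalAtTarget.pullbackSnd hR (⟨‹_›, ‹_›⟩ : R g) h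

lemma of_isPullback_fppf [P.IsLocalAtTarget Scheme.fppfPrecoverage] {X Y X' Y' : Scheme.{u}}
    {f : X ⟶ Y} {g : Y' ⟶ Y} {g' : X' ⟶ X} {f' : X' ⟶ Y'} (sq : IsPullback g' f' f g)
    [Flat g] [LocallyOfFinitePresentation g] (h : P f) : P f' := by
  rw [← sq.isoPullback_hom_snd, P.cancel_left_of_respectsIso]
  exact pullbackSnd_fppf f g h

lemma descend_fppf [P.IsLocalAtTarget Scheme.fppfPrecoverage] {X Y X' Y' : Scheme.{u}}
    {f : X ⟶ Y} {g : Y' ⟶ Y} {g' : X' ⟶ X} {f' : X' ⟶ Y'} (sq : IsPullback g' f' f g)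
    [Flat g] [LocallyOfFinitePresentation g] [Surjective g] (h : P f') : P f := by
  refine IsLocalAtTarget.of_forall_pullbackSnd (K := Scheme.fppfPrecoverage)
    g.singleton_mem_fppfPrecoverage ?_
  intro U g0 _ hg0
  cases hg0
  rw [← sq.isoPullback_hom_snd, P.cancel_left_of_respectsIso] at h
  exact h

/-- base change of a restriction. -/
lemma restrict_of_isPullback [P.IsLocalAtTarget Scheme.fppfPrecoverage]
    {X Y X' Y' : Scheme.{u}} {f : X ⟶ Y} {g : Y' ⟶ Y} {g' : X' ⟶ X} {f' : X' ⟶ Y'}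
    [Flat g] [LocallyOfFinitePresentation g]
    (sq : IsPullback g' f' f g) (V : Y.Opens) (h : P (f ∣_ V)) : P (f' ∣_ (g ⁻¹ᵁ V)) := by
  have h1 := isPullback_morphismRestrict f' (g ⁻¹ᵁ V)
  have h2 := isPullback_morphismRestrict f V
  have big := h1.paste_vert sq.flip
  have hw : ((f' ∣_ (g ⁻¹ᵁ V)) ≫ (g ∣_ V)) ≫ V.ι = ((f' ⁻¹ᵁ (g ⁻¹ᵁ V)).ι ≫ g') ≫ f := by
    rw [Category.assoc, morphismRestrict_ι, ← Category.assoc, morphismRestrict_ι, Category.assoc,
      Category.assoc, sq.w]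
  have hk1 : h2.lift _ _ hw ≫ (f ∣_ V) = (f' ∣_ (g ⁻¹ᵁ V)) ≫ (g ∣_ V) := h2.lift_fst _ _ _
  have hk2 : h2.lift _ _ hw ≫ (f ⁻¹ᵁ V).ι = (f' ⁻¹ᵁ (g ⁻¹ᵁ V)).ι ≫ g' := h2.lift_snd _ _ _
  rw [← hk2, ← morphismRestrict_ι] at big
  have top := IsPullback.of_bot big hk1.symm h2
  exact of_isPullback_fppf top.flip h

/-- descent of a restriction along a cover of the open. -/
lemma restrict_of_descend [P.IsLocalAtTarget Scheme.fppfPrecoverage]
    {X Y C XC : Scheme.{u}} {f : X ⟶ Y} (W : Y.Opens) (c' : C ⟶ W)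
    [Flat c'] [LocallyOfFinitePresentation c'] [Surjective c']
    {pX : XC ⟶ X} {fC : XC ⟶ C} (sq : IsPullback pX fC f (c' ≫ W.ι)) (h : P fC) :
    P (f ∣_ W) := by
  have h2 := isPullback_morphismRestrict f W
  have hw : (fC ≫ c') ≫ W.ι = pX ≫ f := by rw [Category.assoc, sq.w]
  have hk1 : h2.lift _ _ hw ≫ (f ∣_ W) = fC ≫ c' := h2.lift_fst _ _ _
  have hk2 : h2.lift _ _ hw ≫ (f ⁻¹ᵁ W).ι = pX := h2.lift_snd _ _ _
  rw [← hk2] at sq
  have left := IsPullback.of_right sq hk1 h2.flip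
  exact descend_fppf left h

/-- part 3 for a general cartesian square. -/
lemma range_subset [P.IsLocalAtTarget Scheme.fppfPrecoverage]
    {X Y X' Y' : Scheme.{u}} {f : X ⟶ Y} {g : Y' ⟶ Y} {g' : X' ⟶ X} {f' : X' ⟶ Y'}
    [Flat g] [LocallyOfFinitePresentation g]
    (sq : IsPullback g' f' f g) (h : P f') :
    Set.range g.base ⊆ (sSup {V' : Y.Opens | P (f ∣_ V')} : Y.Opens) := by
  haveI := zar (P := P)
  haveI : UniversallyOpen g := UniversallyOpen.of_flat g
  obtain ⟨V, hV⟩ : ∃ V : Y.Opens, (V : Set Y) = Set.range g.base :=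
    ⟨⟨Set.range g.base, g.isOpenMap.isOpen_range⟩, rfl⟩
  rw [← hV]
  suffices hPV : P (f ∣_ V) from
    SetLike.coe_subset_coe.2 (le_sSup (a := V) hPV)
  have htop : g ⁻¹ᵁ V = ⊤ := by
    ext y
    simp only [Scheme.Hom.mem_preimage, TopologicalSpace.Opens.coe_top, Set.mem_univ, iff_true,
      SetLike.mem_coe]
    rw [← SetLike.mem_coe, hV]
    exact ⟨y, rfl⟩
  haveI : Surjective (g ∣_ V) := by
    constructor
    intro v
    obtain ⟨y, hy⟩ : v.1 ∈ Set.range g.base := hV ▸ v.2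
    refine ⟨⟨y, by rw [htop]; trivial⟩, ?_⟩
    apply Subtype.ext
    rw [morphismRestrict_base_coe]
    exact hy
  have h' : P (f' ∣_ (g ⁻¹ᵁ V)) := IsZariskiLocalAtTarget.restrict h _
  have h1 := isPullback_morphismRestrict f' (g ⁻¹ᵁ V)
  have big := h1.paste_vert sq.flip
  rw [← morphismRestrict_ι] at big
  exact restrict_of_descend V (g ∣_ V) big.flip h'



/-- Case τ = fppf: let P be a property of morphisms of schemes which is fppf local on the base and f : X
⟶ Y a morphism. There is a largest open W of Y such that the restriction of f over W has P;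
moreover, first, if g : Y' ⟶ Y is flat and locally of finite presentation and the base change of f
to Y' has P, then the image of g lies in W; and second, for such g the largest open of Y' over which
the base change of f has P is exactly g⁻¹(W). -/
theorem result (P : MorphismProperty Scheme.{u})
    [MorphismProperty.IsLocalAtTarget P Scheme.fppfPrecoverage] {X Y : Scheme.{u}} (f : X ⟶ Y) :
    ∃ W : Y.Opens, P (f ∣_ W) ∧ (∀ W₀ : Y.Opens, P (f ∣_ W₀) → W₀ ≤ W) ∧
      (∀ (Y' : Scheme.{u}) (g : Y' ⟶ Y), Flat g → LocallyOfFinitePresentation g →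
        P (pullback.snd f g) → Set.range g.base ⊆ (W : Set Y)) ∧
      (∀ (Y' : Scheme.{u}) (g : Y' ⟶ Y), Flat g → LocallyOfFinitePresentation g →
        ∀ W' : Y'.Opens, P (pullback.snd f g ∣_ W') → (∀ W₀ : Y'.Opens, P (pullback.snd f g ∣_ W₀) → W₀ ≤ W') →
          W' = g ⁻¹ᵁ W) := by
  haveI := zar (P := P)
  obtain ⟨W, hWdef⟩ : ∃ W : Y.Opens, W = sSup {V' : Y.Opens | P (f ∣_ V')} := ⟨_, rfl⟩
  have hW : P (f ∣_ W) := hWdef ▸ S18826.restrict_sSup f
  have hmax : ∀ W₀ : Y.Opens, P (f ∣_ W₀) → W₀ ≤ W := fun V' h => hWdef ▸ le_sSup h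
  refine ⟨W, hW, hmax, ?_, ?_⟩
  · intro Y' g hg1 hg2 h
    rw [hWdef]
    exact range_subset (IsPullback.of_hasPullback f g) h
  · intro Y' g hg1 hg2 W' hW' hmax'
    apply le_antisymm
    · have h1 := isPullback_morphismRestrict (pullback.snd f g) W'
      have big := h1.paste_vert (IsPullback.of_hasPullback f g).flip
      have := range_subset big.flip hW'
      rw [← hWdef] at this
      intro y hy
      exact this ⟨⟨y, hy⟩, rfl⟩
    · exact hmax' _ (restrict_of_isPullback (IsPullback.of_hasPullback f g) W hW)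

end Groth.Agent.S9859
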