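import Groth.Statements.S9904
import Mathlib
import Groth.Agent.S9900
import Groth.Agent.Lib.Helper12Descent

set_option autoImplicit false
universe u
open CategoryTheory CategoryTheory.Limits AlgebraicGeometry
open AlgSp

namespace Groth.Agent.S9904


open CategoryTheory.Limits Opposite Groth.Agent.S13210 Groth.Agent.S9900 MorphismProperty

variable {S : Scheme.{u}}

/-- if the relative diagonal has `P`, every equalizer locus of two points with the same image
has `P`. -/
lemma IsEqLocus.property_of_repWith {X Y : AlgSp.Sp S} (f : X ⟶ Y) {P : MorphismProperty Scheme.{u}}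
    (h : AlgSp.RepWith P (pullback.diagonal f)) {T E : Over S} {a b : (AlgSp.yon S).obj T ⟶ X}
    (hab : a ≫ f = b ≫ f) {e : E ⟶ T} (he : IsEqLocus a b e) : P e.left := by
  have he' : IsEqLocus (pullback.lift a b hab ≫ pullback.fst f f)
      (pullback.lift a b hab ≫ pullback.snd f f) e := by
    rw [pullback.lift_fst, pullback.lift_snd]; exact he
  exact h.2 (pullback.lift a b hab) _ e (he'.isPullback_diagonal f (pullback.lift a b hab))

/-- criterion for the relative diagonal to have `P`. -/
lemma repWith_diagonal_of_isEqLocus {X Y : AlgSp.Sp S} (hX : AlgSp.Representable (Limits.diag X))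
    (f : X ⟶ Y) (P : MorphismProperty Scheme.{u}) [P.IsStableUnderBaseChange]
    (hP : ∀ {T E : Over S} (a b : (AlgSp.yon S).obj T ⟶ X) (e : E ⟶ T), a ≫ f = b ≫ f →
      IsEqLocus a b e → P e.left) : AlgSp.RepWith P (pullback.diagonal f) := by
  refine MorphismProperty.relative.of_exists (fun T c => ?_)
  obtain ⟨E, e, he⟩ := exists_isEqLocus hX (c ≫ pullback.fst f f) (c ≫ pullback.snd f f)
  exact ⟨E, _, e, he.isPullback_diagonal f c, hP _ _ e (by
    rw [Category.assoc, Category.assoc, pullback.condition]) he⟩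

/-- base change of an equalizer locus. -/
lemma IsEqLocus.baseChange {F : AlgSp.Sp S} {T E T' : Over S} {a b : (AlgSp.yon S).obj T ⟶ F}
    {e : E ⟶ T} (he : IsEqLocus a b e) (t : T' ⟶ T) :
    IsEqLocus ((AlgSp.yon S).map t ≫ a) ((AlgSp.yon S).map t ≫ b) (pullback.snd e t) := by
  haveI : Mono e := he.1
  refine ⟨inferInstance, fun T'' s => ?_⟩
  rw [← Category.assoc, ← Category.assoc, ← Functor.map_comp, he.2]
  constructor
  · rintro ⟨l, hl⟩
    exact ⟨pullback.lift l s hl, pullback.lift_snd _ _ _⟩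
  · rintro ⟨l, rfl⟩
    exact ⟨l ≫ pullback.fst e t, by rw [Category.assoc, pullback.condition, Category.assoc]⟩

/-- equalizer loci of points of a fibre product with the same second component. -/
lemma IsEqLocus.of_comp_fst {X Y Z P₀ : AlgSp.Sp S} {f : X ⟶ Y} {g : Z ⟶ Y} {fst : P₀ ⟶ X}
    {snd : P₀ ⟶ Z} (sq : IsPullback fst snd f g) {T E : Over S}
    {a b : (AlgSp.yon S).obj T ⟶ P₀} (hab : a ≫ snd = b ≫ snd) {e : E ⟶ T}
    (he : IsEqLocus (a ≫ fst) (b ≫ fst) e) : IsEqLocus a b e := by
  refine ⟨he.1, fun T' t => ?_⟩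
  rw [← he.2]
  constructor
  · intro h
    rw [reassoc_of% h]
  · intro h
    apply sq.hom_ext
    · simpa only [Category.assoc] using h
    · rw [Category.assoc, Category.assoc, hab]

/-- étale descent for properties of the relative diagonal. -/
lemma repWith_diagonal_descend (P : MorphismProperty Scheme.{u}) [P.IsStableUnderBaseChange]
    [IsZariskiLocalAtTarget P] [P.DescendsAlong (@Surjective ⊓ @Flat ⊓ @QuasiCompact)]
    {X Y : AlgSp.Sp S} (hX : AlgSp.Representable (Limits.diag X)) (f : X ⟶ Y) {V : Over S}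
    (p : (AlgSp.yon S).obj V ⟶ Y) (hp : AlgSp.RepWith @Etale p)
    (hps : AlgSp.RepWith @Surjective p) {P₀ : AlgSp.Sp S} (fst : P₀ ⟶ X)
    (snd : P₀ ⟶ (AlgSp.yon S).obj V) (sq : IsPullback fst snd f p)
    (h : AlgSp.RepWith P (pullback.diagonal snd)) : AlgSp.RepWith P (pullback.diagonal f) := by
  refine repWith_diagonal_of_isEqLocus hX f P ?_
  intro T E a b e hab he
  obtain ⟨T1, t1, v', sqT⟩ := hp.1 (a ≫ f)
  obtain ⟨v, rfl⟩ := (AlgSp.yon S).map_surjective v'
  haveI : Etale t1.left := hp.2 _ _ t1 sqT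
  haveI : Surjective t1.left := hps.2 _ _ t1 sqT
  have ha1 : ((AlgSp.yon S).map t1 ≫ a) ≫ f = (AlgSp.yon S).map v ≫ p := by
    rw [Category.assoc, sqT.w]
  have hb1 : ((AlgSp.yon S).map t1 ≫ b) ≫ f = (AlgSp.yon S).map v ≫ p := by
    rw [Category.assoc, ← hab, sqT.w]
  have he1 : IsEqLocus (sq.lift _ _ ha1) (sq.lift _ _ hb1) (pullback.snd e t1) := by
    apply IsEqLocus.of_comp_fst sq
    · rw [sq.lift_snd, sq.lift_snd]
    · rw [sq.lift_fst, sq.lift_fst]
      exact IsEqLocus.baseChange he t1
  have hP1 : P (pullback.snd e t1).left :=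
    IsEqLocus.property_of_repWith snd h (by rw [sq.lift_snd, sq.lift_snd]) he1
  have hsq : IsPullback (pullback.fst e t1).left (pullback.snd e t1).left e.left t1.left :=
    (IsPullback.of_hasPullback e t1).map (Over.forget S)
  have hQ : (@Surjective ⊓ @Flat ⊓ @LocallyOfFinitePresentation : MorphismProperty Scheme.{u})
      t1.left := ⟨⟨inferInstance, inferInstance⟩, inferInstance⟩
  exact MorphismProperty.of_isPullback_of_descendsAlong (P := P)
    (Q := @Surjective ⊓ @Flat ⊓ @LocallyOfFinitePresentation) hsq.flip hQ hP1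



/-- (5) ⇒ (1): separatedness (resp. quasi-separatedness) of a morphism of algebraic spaces descends
along one surjective etale base change from a scheme. -/
theorem result {S : Scheme.{u}} {X Y : AlgSp.Space S} (f : X ⟶ Y) (V : Over S)
    (p : (AlgSp.yon S).obj V ⟶ Y.obj) (hp : AlgSp.RepWith @Etale p) (hps : AlgSp.RepWith @Surjective p)
    {P : AlgSp.Sp S} (fst : P ⟶ X.obj) (snd : P ⟶ (AlgSp.yon S).obj V) (sq : IsPullback fst snd f.hom p) :
    (AlgSp.IsSeparatedMor snd → AlgSp.IsSeparatedMor f.hom) ∧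
    (AlgSp.IsQuasiSeparatedMor snd → AlgSp.IsQuasiSeparatedMor f.hom) := by
  haveI := Groth.Agent.Lib.Helper12.descendsAlong_isClosedImmersion.{u}
  haveI := Groth.Agent.Lib.Helper12.descendsAlong_quasiCompact.{u}
  exact ⟨fun h => repWith_diagonal_descend @IsClosedImmersion X.property.diag f.hom p hp hps fst snd sq h,
    fun h => repWith_diagonal_descend @QuasiCompact X.property.diag f.hom p hp hps fst snd sq h⟩

end Groth.Agent.S9904
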