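import Groth.Statements.S9883
import Mathlib
import Groth.Agent.S9859
import Groth.Agent.S9904

set_option autoImplicit false
universe u
open CategoryTheory CategoryTheory.Limits AlgebraicGeometry
open AlgSp

namespace Groth.Agent.S9883


open CategoryTheory.Limits Opposite MorphismProperty

variable {S : Scheme.{u}}

/-- two pullbacks of `f` along the same point are isomorphic over the base. -/
lemma exists_iso_of_isPullback {F G : AlgSp.Sp S} {f : F ⟶ G} {T W W' : Over S}
    {c : (AlgSp.yon S).obj T ⟶ G} {a : (AlgSp.yon S).obj W ⟶ F} {w : W ⟶ T}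
    {a' : (AlgSp.yon S).obj W' ⟶ F} {w' : W' ⟶ T}
    (sq : IsPullback a ((AlgSp.yon S).map w) f c) (sq' : IsPullback a' ((AlgSp.yon S).map w') f c) :
    ∃ e : W ≅ W', e.hom ≫ w' = w := by
  let i : (AlgSp.yon S).obj W ≅ (AlgSp.yon S).obj W' := sq.isoIsPullback _ _ sq'
  have hi : i.hom ≫ (AlgSp.yon S).map w' = (AlgSp.yon S).map w := sq.isoIsPullback_hom_snd _ _ sq'
  let e : W ≅ W' := (AlgSp.yon S).preimageIso i
  refine ⟨e, ?_⟩
  apply (AlgSp.yon S).map_injective
  rw [Functor.map_comp]
  simpa [e] using hi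

/-- descent of `P` for a representable morphism along an étale surjective chart. -/
lemma repWith_of_chart {F G : AlgSp.Sp S} (f : F ⟶ G) (hf : AlgSp.Representable f) {U V : Over S}
    (q : (AlgSp.yon S).obj U ⟶ G) (hqe : AlgSp.RepWith @Etale q)
    (hqs : AlgSp.RepWith @Surjective q) (fst : (AlgSp.yon S).obj V ⟶ F) (g : V ⟶ U)
    (sq : IsPullback fst ((AlgSp.yon S).map g) f q) (P : MorphismProperty Scheme.{u})
    [P.IsStableUnderBaseChange] [P.IsLocalAtTarget Scheme.fppfPrecoverage] (hg : P g.left) :
    AlgSp.RepWith P f := by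
  refine MorphismProperty.relative.of_exists (fun T c => ?_)
  obtain ⟨W, w, a', sqW⟩ := hf c
  obtain ⟨a, rfl⟩ : ∃ a, a' = a := ⟨_, rfl⟩
  refine ⟨W, a', w, sqW, ?_⟩
  obtain ⟨T1, t1, u', sqT⟩ := hqe.1 c
  obtain ⟨u, rfl⟩ := (AlgSp.yon S).map_surjective u'
  haveI : Etale t1.left := hqe.2 _ _ t1 sqT
  haveI : Surjective t1.left := hqs.2 _ _ t1 sqT
  have h1 : IsPullback ((AlgSp.yon S).map (pullback.fst w t1)) ((AlgSp.yon S).map (pullback.snd w t1))
      ((AlgSp.yon S).map w) ((AlgSp.yon S).map t1) := (IsPullback.of_hasPullback w t1).map (AlgSp.yon S)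
  have h2 : IsPullback ((AlgSp.yon S).map (pullback.fst g u)) ((AlgSp.yon S).map (pullback.snd g u))
      ((AlgSp.yon S).map g) ((AlgSp.yon S).map u) := (IsPullback.of_hasPullback g u).map (AlgSp.yon S)
  have h1' := h1.paste_horiz sqW
  have h2' := h2.paste_horiz sq
  rw [← sqT.w] at h1'
  obtain ⟨e, he⟩ := exists_iso_of_isPullback h1' h2'
  have hV : P (pullback.snd g u).left :=
    P.of_isPullback ((IsPullback.of_hasPullback g u).map (Over.forget S)) hg
  have hW : P (pullback.snd w t1).left := by
    rw [← he]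
    exact (P.cancel_left_of_respectsIso (e.hom.left) _).2 hV
  have hsq : IsPullback (pullback.fst w t1).left (pullback.snd w t1).left w.left t1.left :=
    (IsPullback.of_hasPullback w t1).map (Over.forget S)
  have hfin : P w.left := Groth.Agent.S9859.descend_fppf hsq hW
  exact hfin



/-- Let `f : Y ⟶ X` be a morphism of algebraic spaces over `S` which is representable by schemes, let `q
: h_U ⟶ X` be representable etale and surjective with `U` a scheme over `S`, and let `h_V ⟶ Y`, `g :
V ⟶ U` be a base change of `f` along `q`. Let `P` be a property of morphisms of schemes which is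
stable under base change and fppf local on the base. Then `f` has `P` (in the representable sense)
if and only if `g` has `P`. -/
theorem result (S : Scheme.{u}) (X Y : AlgSp.Space S) (f : Y.obj ⟶ X.obj)
    (hf : AlgSp.Representable f) {U V : Over S} (q : (AlgSp.yon S).obj U ⟶ X.obj)
    (hqe : AlgSp.RepWith @Etale q) (hqs : AlgSp.RepWith @Surjective q)
    (fst : (AlgSp.yon S).obj V ⟶ Y.obj) (g : V ⟶ U) (sq : IsPullback fst ((AlgSp.yon S).map g) f q)
    (P : MorphismProperty Scheme.{u}) [P.IsStableUnderBaseChange] [P.IsLocalAtTarget Scheme.fppfPrecoverage] :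
    AlgSp.RepWith P f ↔ P g.left := by
  constructor
  · intro h
    exact h.2 q fst g sq
  · intro hg
    exact repWith_of_chart f hf q hqe hqs fst g sq P hg

end Groth.Agent.S9883
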