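import Groth.Statements.S9884
import Mathlib
import Groth.Agent.S9883

set_option autoImplicit false
universe u
open CategoryTheory CategoryTheory.Limits AlgebraicGeometry
open AlgSp

namespace Groth.Agent.S9884


open CategoryTheory.Limits Opposite MorphismProperty Groth.Agent.S13210

variable {S : Scheme.{u}}

/-- local lifting along a locally surjective map of fppf sheaves, in terms of an fppf covering. -/
lemma exists_fppf_lift {H G : AlgSp.Sp S} (b : H ⟶ G) [Sheaf.IsLocallySurjective b] {T : Over S}
    (c : (AlgSp.yon S).obj T ⟶ G) :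
    ∃ R ∈ Scheme.fppfPrecoverage T.left, ∀ ⦃U : Scheme.{u}⦄ (g : U ⟶ T.left), R g →
      ∃ d : (AlgSp.yon S).obj (Over.mk (g ≫ T.hom)) ⟶ H,
        d ≫ b = (AlgSp.yon S).map (Over.homMk g : Over.mk (g ≫ T.hom) ⟶ T) ≫ c := by
  have hmem := Presheaf.imageSieve_mem (AlgSp.J S) b.hom (U := op T) (yEquiv T G c)
  rw [GrothendieckTopology.mem_over_iff,
    Precoverage.mem_toGrothendieck_iff_of_isStableUnderComposition] at hmem
  obtain ⟨R, hR, hle⟩ := hmem
  refine ⟨R, hR, fun U g hg => ?_⟩
  have h1 := hle _ _ hg
  rw [Sieve.overEquiv_iff] at h1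
  obtain ⟨x, hx⟩ := h1
  refine ⟨(yEquiv _ H).symm x, ?_⟩
  rw [yEquiv_symm_comp]
  apply (yEquiv _ G).injective
  rw [Equiv.apply_symm_apply]
  erw [hx]
  exact ((AlgSp.J S).uliftYonedaEquiv_naturality c _)

/-- `RepWith P` descends along a locally surjective base change. -/
lemma repWith_of_locallySurjective {F G H Q : AlgSp.Sp S} (a : F ⟶ G)
    (ha : AlgSp.Representable a) (b : H ⟶ G) [Sheaf.IsLocallySurjective b] (b' : Q ⟶ F)
    (a' : Q ⟶ H) (sq : IsPullback b' a' a b) (P : MorphismProperty Scheme.{u})
    [P.IsStableUnderBaseChange] [P.IsLocalAtTarget Scheme.fppfPrecoverage]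
    (h : AlgSp.RepWith P a') : AlgSp.RepWith P a := by
  refine MorphismProperty.relative.of_exists (fun T c => ?_)
  obtain ⟨W, w, a0, sqW⟩ := ha c
  refine ⟨W, a0, w, sqW, ?_⟩
  obtain ⟨R, hR, hlift⟩ := exists_fppf_lift b c
  have hfin : P w.left := by
    refine IsLocalAtTarget.of_forall_pullbackSnd (K := Scheme.fppfPrecoverage) hR ?_
    intro U g _ hg
    set T' : Over S := Over.mk (g ≫ T.hom) with hT'
    set t : T' ⟶ T := Over.homMk g with ht
    obtain ⟨d, hd⟩ := hlift g hg
    have h1 : IsPullback ((AlgSp.yon S).map (pullback.fst w t)) ((AlgSp.yon S).map (pullback.snd w t))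
        ((AlgSp.yon S).map w) ((AlgSp.yon S).map t) := (IsPullback.of_hasPullback w t).map (AlgSp.yon S)
    have h1' := h1.paste_horiz sqW
    rw [← hd] at h1'
    have hw : ((AlgSp.yon S).map (pullback.fst w t) ≫ a0) ≫ a =
        ((AlgSp.yon S).map (pullback.snd w t) ≫ d) ≫ b := by
      rw [Category.assoc (f := (AlgSp.yon S).map (pullback.snd w t)), ← h1'.w]
    have hl1 : sq.lift _ _ hw ≫ b' = (AlgSp.yon S).map (pullback.fst w t) ≫ a0 := sq.lift_fst _ _ _
    have hl2 : sq.lift _ _ hw ≫ a' = (AlgSp.yon S).map (pullback.snd w t) ≫ d := sq.lift_snd _ _ _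
    have h2 : IsPullback (sq.lift _ _ hw) ((AlgSp.yon S).map (pullback.snd w t)) a' d := by
      refine IsPullback.of_right ?_ hl2 sq
      rw [hl1]
      exact h1'
    have hP1 : P (pullback.snd w t).left := h.2 d _ _ h2
    have hsq : IsPullback (pullback.fst w t).left (pullback.snd w t).left w.left g :=
      (IsPullback.of_hasPullback w t).map (Over.forget S)
    rw [← hsq.isoPullback_hom_snd, P.cancel_left_of_respectsIso] at hP1
    exact hP1
  exact hfin



/-- Let `a : F ⟶ G` be a map of fppf sheaves of sets over `S` which is representable by schemes, `b : H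
⟶ G` a surjective map of sheaves, and `a' : H ×_G F ⟶ H` the base change of `a` along `b` (a
pullback square in sheaves). Let `P` be a property of morphisms of schemes stable under base change
and fppf local on the base. If `a'` has `P` in the representable sense, then so does `a`. (The
published statement is for presheaves, with `b` inducing a surjection of fppf sheafifications; this
row is the case of sheaves.) -/
theorem result (S : Scheme.{u}) (F G H : AlgSp.Sp S) (a : F ⟶ G)
    (ha : AlgSp.Representable a) (b : H ⟶ G) [Sheaf.IsLocallySurjective b] (Q : AlgSp.Sp S) (b' : Q ⟶ F)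
    (a' : Q ⟶ H) (sq : IsPullback b' a' a b) (P : MorphismProperty Scheme.{u}) [P.IsStableUnderBaseChange]
    [P.IsLocalAtTarget Scheme.fppfPrecoverage] (h : AlgSp.RepWith P a') : AlgSp.RepWith P a := by
  exact repWith_of_locallySurjective a ha b b' a' sq P h

end Groth.Agent.S9884
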