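import Groth.Statements.S9878
import Mathlib
import Groth.Agent.S9884
import Groth.Agent.S14276

set_option autoImplicit false
universe u
open CategoryTheory CategoryTheory.Limits AlgebraicGeometry
open AlgSp

namespace Groth.Agent.S9878


open CategoryTheory.Limits Opposite MorphismProperty Groth.Agent.S13210

variable {S : Scheme.{u}}

/-- joint local surjectivity of a family of maps of fppf sheaves which is not contained in a
proper subsheaf. -/
lemma exists_fppf_factor {ι : Type*} {F : ι → AlgSp.Sp S} {X : AlgSp.Sp S} (f : ∀ i, F i ⟶ X)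
    (hf : ∀ (Q : AlgSp.Sp S) (m : Q ⟶ X), Mono m → (∀ i, ∃ l : F i ⟶ Q, l ≫ m = f i) → IsIso m)
    {T : Over S} (x : (AlgSp.yon S).obj T ⟶ X) :
    ∃ R ∈ Scheme.fppfPrecoverage T.left, ∀ ⦃U : Scheme.{u}⦄ (g : U ⟶ T.left), R g →
      ∃ (i : ι) (d : (AlgSp.yon S).obj (Over.mk (g ≫ T.hom)) ⟶ F i),
        d ≫ f i = (AlgSp.yon S).map (Over.homMk g : Over.mk (g ≫ T.hom) ⟶ T) ≫ x := by
  let G : Subfunctor X.obj := ⨆ i, Subfunctor.range (f i).hom
  have hsh : Presieve.IsSheaf (AlgSp.J S) X.obj := (isSheaf_iff_isSheaf_of_type _ _).1 X.property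
  have hQ : Presheaf.IsSheaf (AlgSp.J S) (G.sheafify (AlgSp.J S)).toFunctor :=
    (isSheaf_iff_isSheaf_of_type _ _).2 (G.sheafify_isSheaf hsh)
  let Q : AlgSp.Sp S := ⟨(G.sheafify (AlgSp.J S)).toFunctor, hQ⟩
  let m : Q ⟶ X := ObjectProperty.homMk (G.sheafify (AlgSp.J S)).ι
  have hle : ∀ i, Subfunctor.range (f i).hom ≤ G.sheafify (AlgSp.J S) :=
    fun i => (le_iSup (fun i => Subfunctor.range (f i).hom) i).trans (G.le_sheafify _)
  haveI : Mono m := by
    haveI : Mono m.hom := inferInstanceAs (Mono (G.sheafify (AlgSp.J S)).ι)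
    exact Sheaf.Hom.mono_of_presheaf_mono _ _ m
  haveI : IsIso m := hf Q m inferInstance
    (fun i => ⟨ObjectProperty.homMk (Subfunctor.lift (f i).hom (hle i)), rfl⟩)
  let s : X.obj.obj (op T) := yEquiv T X x
  have hs : s ∈ (G.sheafify (AlgSp.J S)).obj (op T) := by
    have h1 : m.hom.app (op T) ((inv m).hom.app (op T) s) = s := by
      have := congrArg (fun k => k.hom.app (op T) s) (IsIso.inv_hom_id m)
      exact this
    rw [← h1]
    exact ((inv m).hom.app (op T) s).2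
  have hmem : G.sieveOfSection s ∈ AlgSp.J S T := hs
  rw [GrothendieckTopology.mem_over_iff,
    Precoverage.mem_toGrothendieck_iff_of_isStableUnderComposition] at hmem
  obtain ⟨R, hR, hle'⟩ := hmem
  refine ⟨R, hR, fun U g hg => ?_⟩
  have h1 := hle' _ _ hg
  rw [Sieve.overEquiv_iff] at h1
  have h2 : X.obj.map (Over.homMk g : Over.mk (g ≫ T.hom) ⟶ T).op s ∈
      (⨆ i, Subfunctor.range (f i).hom).obj (op (Over.mk (g ≫ T.hom))) := h1
  rw [Subfunctor.iSup_obj] at h2
  obtain ⟨i, hi⟩ := Set.mem_iUnion.1 h2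
  obtain ⟨y, hy⟩ := hi
  refine ⟨i, (yEquiv _ (F i)).symm y, ?_⟩
  rw [yEquiv_symm_comp]
  apply (yEquiv _ X).injective
  rw [Equiv.apply_symm_apply]
  erw [hy]
  exact ((AlgSp.J S).uliftYonedaEquiv_naturality x _)

/-- a section which fppf-locally lifts along a monomorphism of sheaves lifts. -/
lemma exists_lift_of_mono {A B : AlgSp.Sp S} (α : A ⟶ B) [Mono α] {T : Over S}
    (y : (AlgSp.yon S).obj T ⟶ B) (R : Presieve T.left) (hR : R ∈ Scheme.fppfPrecoverage T.left)
    (h : ∀ ⦃U : Scheme.{u}⦄ (g : U ⟶ T.left), R g →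
      ∃ d : (AlgSp.yon S).obj (Over.mk (g ≫ T.hom)) ⟶ A,
        d ≫ α = (AlgSp.yon S).map (Over.homMk g : Over.mk (g ≫ T.hom) ⟶ T) ≫ y) :
    ∃ a : (AlgSp.yon S).obj T ⟶ A, a ≫ α = y := by
  haveI : Mono (Sheaf.toImage α) := mono_of_mono_fac (Sheaf.toImage_ι α)
  haveI : IsIso (Sheaf.toImage α) := isIso_of_mono_of_epi _
  let s : B.obj.obj (op T) := yEquiv T B y
  have hmem : (Subfunctor.range α.hom).sieveOfSection s ∈ AlgSp.J S T := by
    rw [GrothendieckTopology.mem_over_iff,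
      Precoverage.mem_toGrothendieck_iff_of_isStableUnderComposition]
    refine ⟨R, hR, fun U g hg => ?_⟩
    rw [Sieve.overEquiv_iff]
    obtain ⟨d, hd⟩ := h g hg
    refine ⟨yEquiv _ A d, ?_⟩
    have h3 := yEquiv_comp d α
    rw [← h3, hd]
    exact ((AlgSp.J S).uliftYonedaEquiv_naturality y _).symm
  let q : (Sheaf.image α).obj.obj (op T) := ⟨s, hmem⟩
  let a' : A.obj.obj (op T) := (inv (Sheaf.toImage α)).hom.app (op T) q
  refine ⟨(yEquiv T A).symm a', ?_⟩
  rw [yEquiv_symm_comp]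
  apply (yEquiv T B).injective
  rw [Equiv.apply_symm_apply]
  have h1 : (Sheaf.toImage α).hom.app (op T) a' = q := by
    have := congrArg (fun k => k.hom.app (op T) q) (IsIso.inv_hom_id (Sheaf.toImage α))
    exact this
  have h2 : α.hom.app (op T) a' = ((Sheaf.toImage α).hom.app (op T) a').1 := rfl
  rw [h2, h1]

/-- only empty schemes map to the initial sheaf. -/
lemma isEmpty_of_hom_initial {I : AlgSp.Sp S} (hI : IsInitial I) {P : Over S}
    (a : (AlgSp.yon S).obj P ⟶ I) : IsEmpty P.left := by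
  let E : Over S := Over.mk (initial.to S)
  obtain ⟨t, -⟩ := (AlgSp.yon S).map_surjective (a ≫ hI.to ((AlgSp.yon S).obj E))
  have h0 : IsEmpty ↥(⊥_ Scheme.{u}) := inferInstance
  exact ⟨fun p => h0.elim (t.left p)⟩

section Cofan

variable {ι : Type*} {F : ι → AlgSp.Sp S} (c : Cofan F) (hc : IsColimit c)

/-- the map `∐ F_j ⟶ F_i ⨿ 1` collapsing the other summands. -/
noncomputable def collapse (i : ι) : c.pt ⟶ F i ⨿ ⊤_ (AlgSp.Sp S) := by
  classical
  exact Cofan.IsColimit.desc hc (fun j =>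
    if h : j = i then eqToHom (by rw [h]) ≫ coprod.inl else terminal.from _ ≫ coprod.inr)

lemma inj_collapse_self (i : ι) : c.inj i ≫ collapse c hc i = coprod.inl := by
  classical
  rw [collapse, Cofan.IsColimit.fac, dif_pos rfl, eqToHom_refl, Category.id_comp]

lemma inj_collapse_of_ne {i j : ι} (h : j ≠ i) :
    c.inj j ≫ collapse c hc i = terminal.from _ ≫ coprod.inr := by
  classical
  rw [collapse, Cofan.IsColimit.fac, dif_neg h]

include hc in
lemma mono_inj (i : ι) : Mono (c.inj i) :=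
  mono_of_mono_fac (inj_collapse_self c hc i)

include hc in
/-- distinct summands of a coproduct of sheaves are disjoint. -/
lemma isEmpty_of_inj_eq {i j : ι} (hij : j ≠ i) {P : Over S} (a : (AlgSp.yon S).obj P ⟶ F i)
    (b : (AlgSp.yon S).obj P ⟶ F j) (hab : a ≫ c.inj i = b ≫ c.inj j) : IsEmpty P.left := by
  have w : a ≫ (coprod.inl : F i ⟶ F i ⨿ ⊤_ (AlgSp.Sp S)) =
      (b ≫ terminal.from _) ≫ coprod.inr := by
    rw [← inj_collapse_self c hc i, ← Category.assoc, hab, Category.assoc,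
      inj_collapse_of_ne c hc hij, Category.assoc]
  have sq := FinitaryExtensive.isPullback_initial_to_binaryCofan
    (coprodIsCoprod (F i) (⊤_ (AlgSp.Sp S)))
  exact isEmpty_of_hom_initial initialIsInitial (sq.lift a (b ≫ terminal.from _) w)

include hc in
/-- two maps to the base factoring through distinct summands have disjoint images. -/
lemma disjoint_range_of_inj {i j : ι} (hij : j ≠ i) {T T₁ T₂ : Over S}
    (x : (AlgSp.yon S).obj T ⟶ c.pt) (t₁ : T₁ ⟶ T) (t₂ : T₂ ⟶ T)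
    (d₁ : (AlgSp.yon S).obj T₁ ⟶ F i) (d₂ : (AlgSp.yon S).obj T₂ ⟶ F j)
    (h₁ : d₁ ≫ c.inj i = (AlgSp.yon S).map t₁ ≫ x)
    (h₂ : d₂ ≫ c.inj j = (AlgSp.yon S).map t₂ ≫ x) :
    Disjoint (Set.range t₁.left) (Set.range t₂.left) := by
  rw [← Scheme.isEmpty_pullback_iff]
  let P : Over S := Over.mk (pullback.fst t₁.left t₂.left ≫ T₁.hom)
  let π₁ : P ⟶ T₁ := Over.homMk (pullback.fst t₁.left t₂.left) rfl
  have hw : pullback.snd t₁.left t₂.left ≫ T₂.hom = pullback.fst t₁.left t₂.left ≫ T₁.hom := by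
    rw [← Over.w t₂, ← Over.w t₁, ← Category.assoc, ← Category.assoc, pullback.condition]
  let π₂ : P ⟶ T₂ := Over.homMk (pullback.snd t₁.left t₂.left) hw
  have hπ : π₁ ≫ t₁ = π₂ ≫ t₂ := by
    ext
    exact pullback.condition
  refine isEmpty_of_inj_eq c hc hij (P := P) ((AlgSp.yon S).map π₁ ≫ d₁)
    ((AlgSp.yon S).map π₂ ≫ d₂) ?_
  rw [Category.assoc, Category.assoc, h₁, h₂, ← Category.assoc, ← Category.assoc,
    ← Functor.map_comp, ← Functor.map_comp, hπ]

include hc in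
/-- clopen decomposition of a scheme mapping to a coproduct of fppf sheaves. -/
theorem exists_clopen_decomposition {T : Over S} (x : (AlgSp.yon S).obj T ⟶ c.pt) :
    ∃ W : ι → T.left.Opens, (∀ i j, i ≠ j → Disjoint (W i) (W j)) ∧ (⨆ i, W i = ⊤) ∧
      ∀ i, ∃ a : (AlgSp.yon S).obj (Over.mk ((W i).ι ≫ T.hom)) ⟶ F i,
        IsPullback a ((AlgSp.yon S).map (Over.homMk (W i).ι : Over.mk ((W i).ι ≫ T.hom) ⟶ T))
          (c.inj i) x := by
  classical
  have hjoint : ∀ (Q : AlgSp.Sp S) (m : Q ⟶ c.pt), Mono m →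
      (∀ i, ∃ l : F i ⟶ Q, l ≫ m = c.inj i) → IsIso m := by
    intro Q m hm hl
    choose l hl using hl
    have h1 : Cofan.IsColimit.desc hc l ≫ m = 𝟙 _ := by
      refine Cofan.IsColimit.hom_ext hc _ _ (fun i => ?_)
      rw [← Category.assoc, Cofan.IsColimit.fac, hl, Category.comp_id]
    haveI : IsSplitEpi m := ⟨⟨⟨_, h1⟩⟩⟩
    exact isIso_of_mono_of_isSplitEpi m
  obtain ⟨R, hR, hfac⟩ := exists_fppf_factor c.inj hjoint x
  obtain ⟨hRs, hRp⟩ := (Groth.Agent.S14276.mem_precoverage_iff').1 hR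
  let Fac : ∀ (i : ι) ⦃U : Scheme.{u}⦄ (g : U ⟶ T.left), Prop := fun i U g =>
    ∃ d : (AlgSp.yon S).obj (Over.mk (g ≫ T.hom)) ⟶ F i,
      d ≫ c.inj i = (AlgSp.yon S).map (Over.homMk g : Over.mk (g ≫ T.hom) ⟶ T) ≫ x
  let Wset : ι → Set T.left := fun i =>
    ⋃ (U : Scheme.{u}) (g : U ⟶ T.left) (_ : R g ∧ Fac i g), Set.range g
  have hopen : ∀ i, IsOpen (Wset i) := by
    intro i
    refine isOpen_iUnion fun U => isOpen_iUnion fun g => isOpen_iUnion fun hg => ?_
    have hP := hRp g hg.1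
    haveI : Flat g := hP.1
    haveI : LocallyOfFinitePresentation g := hP.2
    exact g.isOpenMap.isOpen_range
  have hWdisj : ∀ i j, i ≠ j → Disjoint (Wset i) (Wset j) := by
    intro i j hij
    rw [Set.disjoint_left]
    intro p hp1 hp2
    simp only [Wset, Set.mem_iUnion] at hp1 hp2
    obtain ⟨U₁, g₁, ⟨hg₁, d₁, hd₁⟩, hpU₁⟩ := hp1
    obtain ⟨U₂, g₂, ⟨hg₂, d₂, hd₂⟩, hpU₂⟩ := hp2
    have := disjoint_range_of_inj c hc hij.symm x
      (Over.homMk g₁ : Over.mk (g₁ ≫ T.hom) ⟶ T) (Over.homMk g₂ : Over.mk (g₂ ≫ T.hom) ⟶ T)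
      d₁ d₂ hd₁ hd₂
    exact Set.disjoint_left.1 this hpU₁ hpU₂
  have hWcov : ∀ p : T.left, ∃ i, p ∈ Wset i := by
    intro p
    obtain ⟨U, g, hg, hp⟩ := hRs p
    obtain ⟨i, d, hd⟩ := hfac g hg
    exact ⟨i, Set.mem_iUnion.2 ⟨U, Set.mem_iUnion.2 ⟨g, Set.mem_iUnion.2 ⟨⟨hg, d, hd⟩, hp⟩⟩⟩⟩
  let W : ι → T.left.Opens := fun i => ⟨Wset i, hopen i⟩
  refine ⟨W, fun i j hij => ?_, ?_, fun i => ?_⟩
  · rw [← TopologicalSpace.Opens.coe_disjoint]
    exact hWdisj i j hij
  · rw [eq_top_iff]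
    intro p _
    obtain ⟨i, hi⟩ := hWcov p
    exact TopologicalSpace.Opens.mem_iSup.2 ⟨i, hi⟩
  let Wi : Over S := Over.mk ((W i).ι ≫ T.hom)
  let w : Wi ⟶ T := Over.homMk (W i).ι
  haveI : Mono (c.inj i) := mono_inj c hc i
  let K := {p : Σ U : Scheme.{u}, U ⟶ T.left // R p.2 ∧ Fac i p.2}
  let Y : K → Scheme.{u} := fun k => pullback k.1.2 (W i).ι
  let fY : ∀ k, Y k ⟶ (W i).toScheme := fun k => pullback.snd k.1.2 (W i).ι
  have hcov : Presieve.ofArrows Y fY ∈ Scheme.fppfPrecoverage (W i).toScheme := by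
    refine (Scheme.ofArrows_mem_precoverage_iff
      (P := @Flat ⊓ @LocallyOfFinitePresentation)).2 ⟨fun p => ?_, fun k => ?_⟩
    · have hp : ((W i).ι p) ∈ Wset i := p.2
      simp only [Wset, Set.mem_iUnion] at hp
      obtain ⟨U, g, hg, u, hu⟩ := hp
      obtain ⟨z, hz1, hz2⟩ := Scheme.Pullback.exists_preimage_pullback
        (f := g) (g := (W i).ι) u p hu
      exact ⟨⟨⟨U, g⟩, hg⟩, z, hz2⟩
    · exact MorphismProperty.pullback_snd _ _ (hRp k.1.2 k.2.1)
  obtain ⟨a, ha⟩ := exists_lift_of_mono (c.inj i) ((AlgSp.yon S).map w ≫ x) _ hcov (by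
    rintro U g ⟨k⟩
    obtain ⟨d, hd⟩ := k.2.2
    have hw1 : pullback.fst k.1.2 (W i).ι ≫ (Over.mk (k.1.2 ≫ T.hom)).hom =
        (Over.mk (fY k ≫ Wi.hom)).hom := by
      show pullback.fst k.1.2 (W i).ι ≫ (k.1.2 ≫ T.hom) =
        pullback.snd k.1.2 (W i).ι ≫ ((W i).ι ≫ T.hom)
      rw [← Category.assoc, pullback.condition, Category.assoc]
    refine ⟨(AlgSp.yon S).map (Over.homMk (pullback.fst k.1.2 (W i).ι) hw1 :
      Over.mk (fY k ≫ Wi.hom) ⟶ Over.mk (k.1.2 ≫ T.hom)) ≫ d, ?_⟩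
    rw [Category.assoc, hd, ← Category.assoc, ← Category.assoc, ← Functor.map_comp,
      ← Functor.map_comp]
    congr 2
    ext
    exact pullback.condition)
  refine ⟨a, isPullback_of_yon ha ?_⟩
  intro T' b c' hbc
  obtain ⟨t, rfl⟩ := (AlgSp.yon S).map_surjective c'
  have hrange : Set.range t.left ⊆ Set.range (W i).ι := by
    rintro _ ⟨p, rfl⟩
    rw [Scheme.Opens.range_ι]
    obtain ⟨j, hj⟩ := hWcov (t.left p)
    by_cases hji : j = i
    · subst hji; exact hj
    · exfalso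
      simp only [Wset, Set.mem_iUnion] at hj
      obtain ⟨U, g, ⟨hg, d, hd⟩, hpU⟩ := hj
      have := disjoint_range_of_inj c hc hji x t (Over.homMk g : Over.mk (g ≫ T.hom) ⟶ T)
        b d hbc hd
      exact Set.disjoint_left.1 this ⟨p, rfl⟩ hpU
  let t'l : T'.left ⟶ (W i).toScheme := IsOpenImmersion.lift (W i).ι t.left hrange
  have ht'l : t'l ≫ (W i).ι = t.left := IsOpenImmersion.lift_fac _ _ _
  have hw2 : t'l ≫ Wi.hom = T'.hom := by
    show t'l ≫ ((W i).ι ≫ T.hom) = T'.hom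
    rw [← Category.assoc, ht'l, Over.w t]
  let t' : T' ⟶ Wi := Over.homMk t'l hw2
  have ht' : t' ≫ w = t := by
    ext
    exact ht'l
  refine ⟨(AlgSp.yon S).map t', ⟨?_, ?_⟩, ?_⟩
  · rw [← cancel_mono (c.inj i), Category.assoc, ha, ← Category.assoc, ← Functor.map_comp, ht',
      hbc]
  · rw [← Functor.map_comp, ht']
  · rintro a'' ⟨-, h2⟩
    obtain ⟨t'', rfl⟩ := (AlgSp.yon S).map_surjective a''
    congr 1
    rw [← Functor.map_comp] at h2
    have h3 := (AlgSp.yon S).map_injective h2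
    ext
    rw [← cancel_mono (W i).ι]
    have h4 := congrArg (fun k => k.left) h3
    simp only [Over.comp_left] at h4
    exact h4.trans ht'l.symm

omit c in
/-- the pieces of the decomposition are closed. -/
lemma isClosed_of_partition {X : Type*} [TopologicalSpace X] (W : ι → TopologicalSpace.Opens X)
    (hd : ∀ i j, i ≠ j → Disjoint (W i) (W j)) (hcov : ⨆ i, W i = ⊤) (i : ι) :
    IsClosed (W i : Set X) := by
  have h : ((W i : Set X))ᶜ = ⋃ j ∈ {j | j ≠ i}, (W j : Set X) := by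
    ext p
    simp only [Set.mem_compl_iff, Set.mem_iUnion, Set.mem_setOf_eq, SetLike.mem_coe]
    constructor
    · intro hp
      have : p ∈ ⨆ i, W i := by rw [hcov]; trivial
      obtain ⟨j, hj⟩ := TopologicalSpace.Opens.mem_iSup.1 this
      exact ⟨j, fun hji => hp (hji ▸ hj), hj⟩
    · rintro ⟨j, hji, hj⟩ hp
      have := (TopologicalSpace.Opens.coe_disjoint.2 (hd j i hji))
      exact Set.disjoint_left.1 this hj hp
  rw [← isOpen_compl_iff, h]
  exact isOpen_biUnion fun j _ => (W j).2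

end Cofan



/-- Let `F`, `G` be fppf sheaves of sets over `S` and let `F ⨿ G` be their coproduct in sheaves (any
colimit binary cofan). Then the coprojection `F ⟶ F ⨿ G` is representable by schemes, by morphisms
that are both open immersions and closed immersions. -/
theorem result (S : Scheme.{u}) (F G : AlgSp.Sp S) (c : BinaryCofan F G)
    (hc : IsColimit c) :
    AlgSp.RepWith (@IsOpenImmersion ⊓ @IsClosedImmersion) c.inl := by
  refine MorphismProperty.relative.of_exists (fun T x => ?_)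
  let c' : Cofan (fun j : WalkingPair => (pair F G).obj ⟨j⟩) := c
  have hc' : IsColimit c' := hc
  obtain ⟨W, hd, hcov, hW⟩ := exists_clopen_decomposition c' hc' x
  obtain ⟨a, sq⟩ := hW WalkingPair.left
  refine ⟨_, a, _, sq, ?_⟩
  have h1 : IsOpenImmersion (W WalkingPair.left).ι := inferInstance
  have h2 : IsClosedImmersion (W WalkingPair.left).ι := by
    refine IsClosedImmersion.of_isPreimmersion _ ?_
    rw [Scheme.Opens.range_ι]
    exact isClosed_of_partition W hd hcov _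
  exact ⟨h1, h2⟩

end Groth.Agent.S9878
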