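import Groth.Statements.S9929
import Mathlib
import Groth.Agent.S9927
import Groth.Agent.S10177

set_option autoImplicit false
universe u
open CategoryTheory CategoryTheory.Limits AlgebraicGeometry
open AlgSp

namespace Groth.Agent.S9929


open CategoryTheory.Limits Opposite MorphismProperty Groth.Agent.S13210

variable {S : Scheme.{u}}

/-- if `f` is a monomorphism, a fibre product over the source is a fibre product over the target. -/
lemma isPullback_comp_mono {E : Type*} [Category E] {A B C D D' : E} {a : A ⟶ B} {b : A ⟶ C}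
    {x : B ⟶ D} {y : C ⟶ D} (sq : IsPullback a b x y) (f : D ⟶ D') [Mono f] :
    IsPullback a b (x ≫ f) (y ≫ f) := by
  refine ⟨⟨by rw [← Category.assoc, sq.w, Category.assoc]⟩, ⟨?_⟩⟩
  exact PullbackCone.isLimitOfCompMono x y f _ sq.isLimit

/-- a monomorphism from a nonempty algebraic space to the spectrum of a field is an epimorphism. -/
lemma epi_of_mono_to_field {k : Type u} [Field k] (str : Spec (CommRingCat.of k) ⟶ S)
    {Z : AlgSp.Sp S} (hZ : AlgSp.IsAlgSpace Z) (f : Z ⟶ (AlgSp.yon S).obj (Over.mk str)) [Mono f]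
    (hne : Nonempty (AlgSp.Points Z)) : Epi f := by
  obtain ⟨U, q, hqe, hqs⟩ := hZ.atlas
  obtain ⟨x⟩ := hne
  obtain ⟨u, -⟩ := Groth.Agent.S10177.surjective_ofPt q hqs x
  obtain ⟨V, hV, huV, -⟩ := (U.left.isBasis_affineOpens).exists_subset_of_mem_open
    (Set.mem_univ u) isOpen_univ
  obtain ⟨V₀, hV', rfl⟩ := hV
  -- the affine chart
  let V' : U.left.Opens := V₀
  let U₀ : Over S := Over.mk (V'.ι ≫ U.hom)
  let j : U₀ ⟶ U := Over.homMk V'.ι rfl
  haveI : IsAffine U₀.left := hV'
  have hq₀ : AlgSp.RepWith @Etale ((AlgSp.yon S).map j ≫ q) :=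
    MorphismProperty.comp_mem _ _ _
      ((AlgSp.repWith_yon_map_iff _ _).2 (show Etale V'.ι from inferInstance)) hqe
  obtain ⟨u₀, hu₀⟩ := (AlgSp.yon S).map_surjective (((AlgSp.yon S).map j ≫ q) ≫ f)
  -- the self fibre product
  obtain ⟨R, r2, r1', sqR⟩ := hq₀.1 ((AlgSp.yon S).map j ≫ q)
  obtain ⟨r1, rfl⟩ := (AlgSp.yon S).map_surjective r1'
  haveI : Etale r2.left := hq₀.2 _ _ r2 sqR
  have sqR' := isPullback_comp_mono sqR f
  rw [← hu₀] at sqR'
  have sqO : IsPullback r1 r2 u₀ u₀ := by
    refine IsPullback.of_map (AlgSp.yon S) ?_ sqR'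
    apply (AlgSp.yon S).map_injective
    rw [Functor.map_comp, Functor.map_comp]
    exact sqR'.w
  have sqL : IsPullback r1.left r2.left u₀.left u₀.left := sqO.map (Over.forget S)
  -- `u₀` is an fpqc covering of the point
  haveI : IsIntegral (Over.mk str).left := by
    change IsIntegral (Spec (CommRingCat.of k)); infer_instance
  haveI : Subsingleton ↥(Over.mk str).left := by
    change Subsingleton ↥(Spec (CommRingCat.of k)); infer_instance
  haveI : IsAffine (Over.mk str).left := by
    change IsAffine (Spec (CommRingCat.of k)); infer_instance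
  haveI : Flat u₀.left := inferInstance
  haveI : QuasiCompact u₀.left := inferInstance
  haveI : Surjective u₀.left := by
    constructor
    intro y
    exact ⟨⟨u, huV⟩, Subsingleton.elim _ _⟩
  have hQ : (@Surjective ⊓ @Flat ⊓ @QuasiCompact : MorphismProperty Scheme.{u}) u₀.left :=
    ⟨⟨inferInstance, inferInstance⟩, inferInstance⟩
  have het : Etale u₀.left :=
    MorphismProperty.of_isPullback_of_descendsAlong (P := @Etale)
      (Q := @Surjective ⊓ @Flat ⊓ @QuasiCompact) sqL.flip hQ (inferInstance : Etale r2.left)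
  haveI : Epi ((AlgSp.yon S).map u₀) :=
    Groth.Agent.S9927.epi_of_repWith _ ((AlgSp.repWith_yon_map_iff _ _).2 het)
      ((AlgSp.repWith_yon_map_iff _ _).2 (inferInstance : Surjective u₀.left))
  rw [hu₀] at this
  exact epi_of_epi ((AlgSp.yon S).map j ≫ q) f



/-- A monomorphism from an algebraic space to the spectrum of a field is either the empty space or an
isomorphism. -/
theorem result {S : Scheme.{u}} {k : Type u} [Field k] (str : Spec (CommRingCat.of k) ⟶ S)
    (Z : AlgSp.Space S) (f : Z ⟶ (AlgSp.ofScheme S).obj (Over.mk str)) [Mono f.hom] :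
    IsEmpty (AlgSp.Points Z.obj) ∨ IsIso f := by
  by_cases hE : IsEmpty (AlgSp.Points Z.obj)
  · exact Or.inl hE
  · right
    rw [not_isEmpty_iff] at hE
    have hm : Mono f.hom := inferInstance
    have he : Epi f.hom := @epi_of_mono_to_field S k _ str Z.obj Z.property f.hom hm hE
    haveI : IsIso f.hom := isIso_of_mono_of_epi _
    haveI : IsIso ((ObjectProperty.ι _).map f) := ‹IsIso f.hom›
    exact isIso_of_reflects_iso f (ObjectProperty.ι _)

end Groth.Agent.S9929
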