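import Groth.Statements.S9938
import Mathlib
import Groth.Agent.S9929
import Groth.Agent.S9900

set_option autoImplicit false
universe u
open CategoryTheory CategoryTheory.Limits AlgebraicGeometry
open AlgSp

namespace Groth.Agent.S9938


open CategoryTheory.Limits Opposite MorphismProperty Groth.Agent.S13210 Groth.Agent.S9900

variable {S : Scheme.{u}}

/-- injectivity on field-valued points. -/
def InjK {F G : AlgSp.Sp S} (f : F ⟶ G) : Prop :=
  ∀ (K : Type u) [Field K] (str : Spec (CommRingCat.of K) ⟶ S),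
    Function.Injective (fun a : (AlgSp.yon S).obj (Over.mk str) ⟶ F => a ≫ f)

lemma yEquiv_symm_map {T T' : Over S} (F : AlgSp.Sp S) (g : T' ⟶ T) (v : F.obj.obj (op T)) :
    (yEquiv T' F).symm (F.obj.map g.op v) = (AlgSp.yon S).map g ≫ (yEquiv T F).symm v := by
  apply (yEquiv T' F).injective
  rw [Equiv.apply_symm_apply]
  have := (AlgSp.J S).uliftYonedaEquiv_naturality ((yEquiv T F).symm v) g
  erw [← this]

/-- injectivity on field-valued points implies injectivity on points. -/
lemma injective_map_of_injK {F G : AlgSp.Sp S} (f : F ⟶ G) (h : InjK f) :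
    Function.Injective (AlgSp.Points.map f) := by
  intro x x' hxx
  obtain ⟨p, rfl⟩ := AlgSp.Points.mk_surjective x
  obtain ⟨p', rfl⟩ := AlgSp.Points.mk_surjective x'
  rw [AlgSp.Points.map_mk, AlgSp.Points.map_mk, AlgSp.Points.mk_eq_mk_iff] at hxx
  obtain ⟨Ω, _, w, α, β, hαβ⟩ := hxx
  refine AlgSp.Points.sound ⟨Ω, inferInstance, w, α, β, ?_⟩
  have h1 : (yEquiv _ F).symm (F.obj.map α.op p.val) ≫ f =
      (yEquiv _ F).symm (F.obj.map β.op p'.val) ≫ f := by
    rw [yEquiv_symm_comp, yEquiv_symm_comp]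
    congr 1
    have e1 : f.hom.app _ (F.obj.map α.op p.val) = G.obj.map α.op (f.hom.app _ p.val) :=
      NatTrans.naturality_apply f.hom α.op p.val
    have e2 : f.hom.app _ (F.obj.map β.op p'.val) = G.obj.map β.op (f.hom.app _ p'.val) :=
      NatTrans.naturality_apply f.hom β.op p'.val
    rw [e1, e2]
    exact hαβ
  exact (yEquiv _ F).symm.injective (h Ω w h1)

/-- injectivity on field-valued points is stable under base change. -/
lemma injK_of_isPullback {F G Z Z' : AlgSp.Sp S} {f : F ⟶ G} {g : Z ⟶ G} {fst : Z' ⟶ F}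
    {snd : Z' ⟶ Z} (sq : IsPullback fst snd f g) (h : InjK f) : InjK snd := by
  intro K _ str a b hab
  have hab' : a ≫ snd = b ≫ snd := hab
  refine sq.hom_ext (h K str ?_) hab'
  show (a ≫ fst) ≫ f = (b ≫ fst) ≫ f
  rw [Category.assoc, Category.assoc, sq.w, ← Category.assoc, ← Category.assoc, hab']

/-- surjectivity of the diagonal implies injectivity on field-valued points. -/
lemma injK_of_diag_surjective {X Y : AlgSp.Sp S} (hX : AlgSp.IsAlgSpace X) (f : X ⟶ Y)
    (h : AlgSp.IsSurjectiveMor (pullback.diagonal f)) : InjK f := by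
  intro K _ str a b hab
  have hab' : a ≫ f = b ≫ f := hab
  let k : (AlgSp.yon S).obj (Over.mk str) ⟶ pullback f f := pullback.lift a b hab'
  let p : AlgSp.FieldPt (pullback f f) := ⟨K, str, yEquiv _ _ k⟩
  obtain ⟨x, hx⟩ := h (AlgSp.Points.mk p)
  obtain ⟨q, rfl⟩ := AlgSp.Points.mk_surjective x
  rw [AlgSp.Points.map_mk, AlgSp.Points.mk_eq_mk_iff] at hx
  obtain ⟨Ω, _, w, α, β, hαβ⟩ := hx
  have h1 := congrArg (yEquiv _ (pullback f f)).symm hαβ
  rw [yEquiv_symm_map, yEquiv_symm_map] at h1
  have h2 : (yEquiv _ (pullback f f)).symm p.val = k := (yEquiv _ _).symm_apply_apply k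
  have h3 : (yEquiv _ (pullback f f)).symm (q.map (pullback.diagonal f)).val =
      (yEquiv _ X).symm q.val ≫ pullback.diagonal f := (yEquiv_symm_comp _ _).symm
  rw [h2, h3] at h1
  let α' : Over.mk w ⟶ q.pt := α
  let qh : (AlgSp.yon S).obj q.pt ⟶ X := (yEquiv _ X).symm q.val
  have h1' : (AlgSp.yon S).map α' ≫ qh ≫ pullback.diagonal f = (AlgSp.yon S).map β ≫ k := h1
  have h4 : (AlgSp.yon S).map α' ≫ qh = (AlgSp.yon S).map β ≫ a := by
    have := congrArg (fun m => m ≫ pullback.fst f f) h1'
    simp only [Category.assoc, pullback.diagonal_fst, Category.comp_id] at this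
    rw [this]
    congr 1
    exact pullback.lift_fst _ _ _
  have h5 : (AlgSp.yon S).map α' ≫ qh = (AlgSp.yon S).map β ≫ b := by
    have := congrArg (fun m => m ≫ pullback.snd f f) h1'
    simp only [Category.assoc, pullback.diagonal_snd, Category.comp_id] at this
    rw [this]
    congr 1
    exact pullback.lift_snd _ _ _
  have hβ : (AlgSp.yon S).map β ≫ a = (AlgSp.yon S).map β ≫ b := h4.symm.trans h5
  obtain ⟨E, e, he⟩ := exists_isEqLocus hX.diag a b
  obtain ⟨t', ht'⟩ := (he.2 _ β).1 hβ
  haveI : Mono e := he.1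
  haveI : Mono ((AlgSp.yon S).map e) := inferInstance
  have hne : Nonempty (AlgSp.Points ((AlgSp.yon S).obj E)) :=
    ⟨AlgSp.Points.ofScheme E (t'.left (IsLocalRing.closedPoint Ω))⟩
  haveI : Epi ((AlgSp.yon S).map e) :=
    Groth.Agent.S9929.epi_of_mono_to_field str (AlgSp.IsAlgSpace.yon_obj E) _ hne
  exact (cancel_epi ((AlgSp.yon S).map e)).1 he.eq



/-- For a morphism of algebraic spaces, injectivity on field-valued points, universal injectivity, and
surjectivity of the diagonal are equivalent. -/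
theorem result {S : Scheme.{u}} {X Y : AlgSp.Space S} (f : X ⟶ Y) :
    ((∀ (K : Type u) [Field K] (str : Spec (CommRingCat.of K) ⟶ S),
        Function.Injective (fun a : (AlgSp.yon S).obj (Over.mk str) ⟶ X.obj => a ≫ f.hom)) ↔ AlgSp.IsUnivInjectiveMor f.hom) ∧
    (AlgSp.IsUnivInjectiveMor f.hom ↔ AlgSp.IsSurjectiveMor (pullback.diagonal f.hom)) := by
  have h12 : (∀ (K : Type u) [Field K] (str : Spec (CommRingCat.of K) ⟶ S),
      Function.Injective (fun a : (AlgSp.yon S).obj (Over.mk str) ⟶ X.obj => a ≫ f.hom)) →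
      AlgSp.IsUnivInjectiveMor f.hom := by
    intro h Z Z' hZ g fst snd sq
    exact injective_map_of_injK snd (injK_of_isPullback sq h)
  have h23 : AlgSp.IsUnivInjectiveMor f.hom → AlgSp.IsSurjectiveMor (pullback.diagonal f.hom) := by
    intro h p
    have hinj : Function.Injective (AlgSp.Points.map (pullback.snd f.hom f.hom)) :=
      h X.property f.hom (pullback.fst f.hom f.hom) (pullback.snd f.hom f.hom)
        (IsPullback.of_hasPullback f.hom f.hom)
    refine ⟨AlgSp.Points.map (pullback.snd f.hom f.hom) p, hinj ?_⟩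
    rw [← AlgSp.Points.map_comp, pullback.diagonal_snd, AlgSp.Points.map_id]
  have h31 : AlgSp.IsSurjectiveMor (pullback.diagonal f.hom) →
      (∀ (K : Type u) [Field K] (str : Spec (CommRingCat.of K) ⟶ S),
      Function.Injective (fun a : (AlgSp.yon S).obj (Over.mk str) ⟶ X.obj => a ≫ f.hom)) :=
    fun h => injK_of_diag_surjective X.property f.hom h
  exact ⟨⟨h12, fun h => h31 (h23 h)⟩, ⟨h23, fun h => h12 (h31 h)⟩⟩

end Groth.Agent.S9938
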