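import Groth.Statements.S10261
import Mathlib
import Groth.Agent.S9900
import Groth.Agent.S9938
import Groth.Agent.S9906
import Groth.Agent.S10194
import Groth.Agent.S9927
import Groth.Agent.S9878

set_option autoImplicit false
universe u
open CategoryTheory CategoryTheory.Limits AlgebraicGeometry
open AlgSp

namespace Groth.Agent.S10261


open CategoryTheory.Limits Opposite MorphismProperty Groth.Agent.S13210 Groth.Agent.S9900

variable {S : Scheme.{u}}

/-- the equalizer locus of two points of an algebraic space with the same image under an étale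
morphism is an open immersion. -/
lemma isOpenImmersion_of_isEqLocus {X Y : AlgSp.Sp S} (hX : AlgSp.IsAlgSpace X) (f : X ⟶ Y)
    (hf : AlgSp.IsEtaleMor f) {T E : Over S}
    {a b : (AlgSp.yon S).obj T ⟶ X} (hab : a ≫ f = b ≫ f) {e : E ⟶ T} (he : IsEqLocus a b e) :
    IsOpenImmersion e.left := by
  obtain ⟨U, p, hp, hps⟩ := hX.atlas
  have hu : AlgSp.RepWith @Etale (p ≫ f) := hf p hp
  -- lift `a` étale locally
  obtain ⟨T1, t1, a1', sq1⟩ := hp.1 a
  obtain ⟨a1, rfl⟩ := (AlgSp.yon S).map_surjective a1'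
  haveI : Etale t1.left := hp.2 a _ t1 sq1
  haveI : Surjective t1.left := hps.2 a _ t1 sq1
  -- lift `b` étale locally
  obtain ⟨T2, t2, b2', sq2⟩ := hp.1 ((AlgSp.yon S).map t1 ≫ b)
  obtain ⟨b2, rfl⟩ := (AlgSp.yon S).map_surjective b2'
  haveI : Etale t2.left := hp.2 _ _ t2 sq2
  haveI : Surjective t2.left := hps.2 _ _ t2 sq2
  -- the kernel pair of the atlas
  obtain ⟨R, s', r1', sqR⟩ := hp.1 p
  obtain ⟨r1, rfl⟩ := (AlgSp.yon S).map_surjective r1'
  haveI : Etale s'.left := hp.2 p _ s' sqR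
  -- the kernel pair of the atlas over `Y`
  obtain ⟨R', s2, r2', sqR'⟩ := hu.1 (p ≫ f)
  obtain ⟨r2, rfl⟩ := (AlgSp.yon S).map_surjective r2'
  haveI : Etale s2.left := hu.2 _ _ s2 sqR'
  obtain ⟨τ, hτ⟩ : ∃ τ : T2 ⟶ T, τ = t2 ≫ t1 := ⟨_, rfl⟩
  obtain ⟨u1, hu1⟩ : ∃ u1 : T2 ⟶ U, u1 = t2 ≫ a1 := ⟨_, rfl⟩
  have hpu1 : (AlgSp.yon S).map u1 ≫ p = (AlgSp.yon S).map τ ≫ a := by
    rw [hu1, hτ, Functor.map_comp, Functor.map_comp, Category.assoc, Category.assoc, sq1.w]
  have hpu2 : (AlgSp.yon S).map b2 ≫ p = (AlgSp.yon S).map τ ≫ b := by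
    rw [hτ, Functor.map_comp, Category.assoc, sq2.w]
  -- the comparison maps
  obtain ⟨ρ, hρ⟩ := (AlgSp.yon S).map_surjective
    (sqR'.lift ((AlgSp.yon S).map r1) ((AlgSp.yon S).map s') (by
      rw [← Category.assoc, ← Category.assoc, sqR.w]))
  have hρ1 : ρ ≫ r2 = r1 := by
    apply (AlgSp.yon S).map_injective
    rw [Functor.map_comp, hρ, sqR'.lift_fst]
  have hρ2 : ρ ≫ s2 = s' := by
    apply (AlgSp.yon S).map_injective
    rw [Functor.map_comp, hρ, sqR'.lift_snd]
  obtain ⟨v, hv⟩ := (AlgSp.yon S).map_surjective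
    (sqR'.lift ((AlgSp.yon S).map u1) ((AlgSp.yon S).map b2) (by
      rw [← Category.assoc, ← Category.assoc, hpu1, hpu2, Category.assoc, Category.assoc, hab]))
  have hv1 : v ≫ r2 = u1 := by
    apply (AlgSp.yon S).map_injective
    rw [Functor.map_comp, hv, sqR'.lift_fst]
  have hv2 : v ≫ s2 = b2 := by
    apply (AlgSp.yon S).map_injective
    rw [Functor.map_comp, hv, sqR'.lift_snd]
  haveI : Mono ρ := ⟨fun {Z} x y hxy => by
    apply (AlgSp.yon S).map_injective
    apply sqR.hom_ext
    · rw [← Functor.map_comp, ← Functor.map_comp, ← hρ1, ← Category.assoc, ← Category.assoc, hxy]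
    · rw [← Functor.map_comp, ← Functor.map_comp, ← hρ2, ← Category.assoc, ← Category.assoc, hxy]⟩
  haveI : Mono ρ.left := inferInstance
  haveI : Etale (ρ.left ≫ s2.left) := by
    rw [← Over.comp_left, hρ2]; infer_instance
  haveI : Etale ρ.left := Etale.of_comp ρ.left s2.left
  have hρo : IsOpenImmersion ρ.left := IsOpenImmersion.of_flat_of_mono ρ.left
  -- base change of `e` to `T2`
  haveI : Mono e := he.1
  have key : ∀ (T' : Over S) (t : T' ⟶ T2),
      (∃ t' : T' ⟶ pullback e τ, t' ≫ pullback.snd e τ = t) ↔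
        ∃ t' : T' ⟶ pullback v ρ, t' ≫ pullback.fst v ρ = t := by
    intro T' t
    constructor
    · rintro ⟨t', rfl⟩
      have h1 : (AlgSp.yon S).map ((t' ≫ pullback.snd e τ) ≫ τ) ≫ a =
          (AlgSp.yon S).map ((t' ≫ pullback.snd e τ) ≫ τ) ≫ b :=
        (he.2 _ _).2 ⟨t' ≫ pullback.fst e τ, by
          rw [Category.assoc, pullback.condition, Category.assoc]⟩
      have h2 : (AlgSp.yon S).map ((t' ≫ pullback.snd e τ) ≫ u1) ≫ p =
          (AlgSp.yon S).map ((t' ≫ pullback.snd e τ) ≫ b2) ≫ p := by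
        simp only [Functor.map_comp, Category.assoc] at h1 ⊢
        rw [hpu1, hpu2]
        exact h1
      obtain ⟨ρ0, hρ0⟩ := (AlgSp.yon S).map_surjective (sqR.lift _ _ h2)
      have hρ01 : ρ0 ≫ r1 = (t' ≫ pullback.snd e τ) ≫ u1 := by
        apply (AlgSp.yon S).map_injective
        rw [Functor.map_comp, hρ0, sqR.lift_fst]
      have hρ02 : ρ0 ≫ s' = (t' ≫ pullback.snd e τ) ≫ b2 := by
        apply (AlgSp.yon S).map_injective
        rw [Functor.map_comp, hρ0, sqR.lift_snd]
      refine ⟨pullback.lift (t' ≫ pullback.snd e τ) ρ0 ?_, pullback.lift_fst _ _ _⟩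
      apply (AlgSp.yon S).map_injective
      apply sqR'.hom_ext
      · rw [← Functor.map_comp, ← Functor.map_comp, Category.assoc _ v r2, hv1,
          Category.assoc ρ0 ρ r2, hρ1, hρ01]
      · rw [← Functor.map_comp, ← Functor.map_comp, Category.assoc _ v s2, hv2,
          Category.assoc ρ0 ρ s2, hρ2, hρ02]
    · rintro ⟨t', rfl⟩
      have hc := pullback.condition (f := v) (g := ρ)
      have hc1 : pullback.fst v ρ ≫ u1 = pullback.snd v ρ ≫ r1 := by
        rw [← hv1, ← hρ1, ← Category.assoc, hc, Category.assoc]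
      have hc2 : pullback.fst v ρ ≫ b2 = pullback.snd v ρ ≫ s' := by
        rw [← hv2, ← hρ2, ← Category.assoc, hc, Category.assoc]
      have h1 : (AlgSp.yon S).map ((t' ≫ pullback.fst v ρ) ≫ τ) ≫ a =
          (AlgSp.yon S).map ((t' ≫ pullback.fst v ρ) ≫ τ) ≫ b := by
        have hc1' := congrArg (fun m => (AlgSp.yon S).map m) hc1
        have hc2' := congrArg (fun m => (AlgSp.yon S).map m) hc2
        simp only [Functor.map_comp, Category.assoc] at hc1' hc2' ⊢
        rw [← hpu1, ← hpu2, reassoc_of% hc1', reassoc_of% hc2', sqR.w]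
      obtain ⟨l, hl⟩ := (he.2 _ _).1 h1
      exact ⟨pullback.lift l (t' ≫ pullback.fst v ρ) hl, pullback.lift_snd _ _ _⟩
  obtain ⟨i, hi⟩ := exists_iso_of_factor_iff (pullback.snd e τ) (pullback.fst v ρ) key
  have hsq' : IsPullback (pullback.fst v ρ).left (pullback.snd v ρ).left v.left ρ.left :=
    (IsPullback.of_hasPullback v ρ).map (Over.forget S)
  have h3 : IsOpenImmersion (pullback.fst v ρ).left :=
    MorphismProperty.of_isPullback (P := @IsOpenImmersion) hsq'.flip hρo
  have h4 : IsOpenImmersion (pullback.snd e τ).left := by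
    rw [← hi, Over.comp_left]
    haveI : IsIso i.hom.left := inferInstanceAs (IsIso ((Over.forget S).map i.hom))
    infer_instance
  -- descent
  have hsq : IsPullback (pullback.fst e τ).left (pullback.snd e τ).left e.left τ.left :=
    (IsPullback.of_hasPullback e τ).map (Over.forget S)
  have hτQ : (@Surjective ⊓ @Flat ⊓ @LocallyOfFinitePresentation : MorphismProperty Scheme.{u})
      τ.left := by
    rw [hτ, Over.comp_left]
    exact ⟨⟨inferInstance, inferInstance⟩, inferInstance⟩
  exact MorphismProperty.of_isPullback_of_descendsAlong (P := @IsOpenImmersion)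
    (Q := @Surjective ⊓ @Flat ⊓ @LocallyOfFinitePresentation) hsq.flip hτQ h4

/-- the relative diagonal of an étale morphism from an algebraic space is an open immersion. -/
lemma repWith_isOpenImmersion_diagonal {X Y : AlgSp.Sp S} (hX : AlgSp.IsAlgSpace X) (f : X ⟶ Y)
    (hf : AlgSp.IsEtaleMor f) : AlgSp.RepWith @IsOpenImmersion (pullback.diagonal f) := by
  refine MorphismProperty.relative.of_exists (fun T c => ?_)
  obtain ⟨E, e, he⟩ := exists_isEqLocus hX.diag (c ≫ pullback.fst f f) (c ≫ pullback.snd f f)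
  refine ⟨E, _, e, he.isPullback_diagonal f c, isOpenImmersion_of_isEqLocus hX f hf ?_ he⟩
  rw [Category.assoc, Category.assoc, pullback.condition]

/-- an étale universally injective morphism of algebraic spaces is a monomorphism. -/
lemma mono_of_isEtaleMor_of_isUnivInjectiveMor {X Y : AlgSp.Space S} (f : X ⟶ Y)
    (het : AlgSp.IsEtaleMor f.hom) (hinj : AlgSp.IsUnivInjectiveMor f.hom) : Mono f.hom := by
  have h1 := repWith_isOpenImmersion_diagonal X.property f.hom het
  have h2 : AlgSp.IsSurjectiveMor (pullback.diagonal f.hom) :=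
    (Groth.Agent.S9938.result f).2.1 hinj
  have h3 := Groth.Agent.S9906.repWith_surjective_of_surjective_map _ h1.1 h2
  haveI := Groth.Agent.S10194.isIso_of_repWith_openImmersion_surjective _ h1 h3
  exact (pullback.isIso_diagonal_iff f.hom).1 inferInstance

/-- an étale monomorphism from an algebraic space is an open immersion. -/
lemma repWith_isOpenImmersion_of_mono {X Y : AlgSp.Sp S} (hX : AlgSp.IsAlgSpace X) (f : X ⟶ Y)
    [Mono f] (hf : AlgSp.IsEtaleMor f) : AlgSp.RepWith @IsOpenImmersion f := by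
  obtain ⟨U, p, hp, hps⟩ := hX.atlas
  have hu : AlgSp.RepWith @Etale (p ≫ f) := hf p hp
  refine MorphismProperty.relative.of_exists (fun T c => ?_)
  obtain ⟨V, w0, a0', sq0⟩ := hu.1 c
  obtain ⟨a0, rfl⟩ := (AlgSp.yon S).map_surjective a0'
  haveI : Etale w0.left := hu.2 _ _ w0 sq0
  -- the open image
  let W : T.left.Opens := ⟨Set.range w0.left, w0.left.isOpenMap.isOpen_range⟩
  let W' : Over S := Over.mk (W.ι ≫ T.hom)
  let j : W' ⟶ T := Over.homMk W.ι
  have hrange0 : Set.range w0.left ⊆ Set.range W.ι := by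
    rw [Scheme.Opens.range_ι]
    exact subset_rfl
  let w1l : V.left ⟶ W.toScheme := IsOpenImmersion.lift W.ι w0.left hrange0
  have hw1l : w1l ≫ W.ι = w0.left := IsOpenImmersion.lift_fac _ _ _
  have hw1o : w1l ≫ W'.hom = V.hom := by
    show w1l ≫ (W.ι ≫ T.hom) = V.hom
    rw [← Category.assoc, hw1l, Over.w w0]
  let w1 : V ⟶ W' := Over.homMk w1l hw1o
  have hw1 : w1 ≫ j = w0 := by
    ext
    exact hw1l
  haveI : Etale (w1l ≫ W.ι) := by rw [hw1l]; infer_instance
  haveI : Etale w1l := Etale.of_comp w1l W.ι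
  haveI : Surjective w1l := by
    constructor
    intro x
    obtain ⟨y, hy⟩ : (W.ι x) ∈ Set.range w0.left := x.2
    refine ⟨y, ?_⟩
    apply W.ι.injective
    rw [← hy, ← hw1l]
    rfl
  have hcov : Presieve.singleton w1l ∈ Scheme.fppfPrecoverage W'.left :=
    w1l.singleton_mem_fppfPrecoverage
  obtain ⟨a, ha⟩ := Groth.Agent.S9878.exists_lift_of_mono f ((AlgSp.yon S).map j ≫ c) _ hcov (by
    rintro U' g ⟨⟩
    have hι : (𝟙 V.left) ≫ V.hom = (Over.mk (w1l ≫ W'.hom)).hom := by
      rw [Category.id_comp]; exact hw1o.symm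
    refine ⟨(AlgSp.yon S).map (Over.homMk (𝟙 V.left) hι : Over.mk (w1l ≫ W'.hom) ⟶ V) ≫
      (AlgSp.yon S).map a0 ≫ p, ?_⟩
    rw [Category.assoc, Category.assoc, sq0.w, ← hw1, Functor.map_comp, Category.assoc,
      ← Category.assoc, ← Functor.map_comp, ← Category.assoc ((AlgSp.yon S).map _),
      ← Functor.map_comp]
    rw [Functor.map_comp, Category.assoc]
    congr 2)
  refine ⟨W', a, j, isPullback_of_yon ha ?_, ?_⟩
  · intro T' b c' hbc
    obtain ⟨t, rfl⟩ := (AlgSp.yon S).map_surjective c'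
    have hrange : Set.range t.left ⊆ Set.range W.ι := by
      rintro _ ⟨x, rfl⟩
      rw [Scheme.Opens.range_ι]
      obtain ⟨V', v', x', sqx⟩ := hp.1 b
      obtain ⟨x0, rfl⟩ := (AlgSp.yon S).map_surjective x'
      haveI : Surjective v'.left := hps.2 _ _ v' sqx
      obtain ⟨y, rfl⟩ := v'.left.surjective x
      have hl : (AlgSp.yon S).map x0 ≫ (p ≫ f) = (AlgSp.yon S).map (v' ≫ t) ≫ c := by
        rw [← Category.assoc, sqx.w, Category.assoc, hbc, Functor.map_comp, Category.assoc]
      obtain ⟨l, hl'⟩ := (AlgSp.yon S).map_surjective (sq0.lift _ _ hl)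
      have hl2 : l ≫ w0 = v' ≫ t := by
        apply (AlgSp.yon S).map_injective
        rw [Functor.map_comp, hl', sq0.lift_snd]
      have hl3 := congrArg (fun k => k.left) hl2
      simp only [Over.comp_left] at hl3
      refine ⟨l.left y, ?_⟩
      rw [← Scheme.Hom.comp_apply, hl3, Scheme.Hom.comp_apply]
    let t'l : T'.left ⟶ W.toScheme := IsOpenImmersion.lift W.ι t.left hrange
    have ht'l : t'l ≫ W.ι = t.left := IsOpenImmersion.lift_fac _ _ _
    have hw2 : t'l ≫ W'.hom = T'.hom := by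
      show t'l ≫ (W.ι ≫ T.hom) = T'.hom
      rw [← Category.assoc, ht'l, Over.w t]
    let t' : T' ⟶ W' := Over.homMk t'l hw2
    have ht' : t' ≫ j = t := by
      ext
      exact ht'l
    refine ⟨(AlgSp.yon S).map t', ⟨?_, ?_⟩, ?_⟩
    · rw [← cancel_mono f, Category.assoc, ha, ← Category.assoc, ← Functor.map_comp, ht', hbc]
    · rw [← Functor.map_comp, ht']
    · rintro a'' ⟨-, h2⟩
      obtain ⟨t'', rfl⟩ := (AlgSp.yon S).map_surjective a''
      congr 1
      rw [← Functor.map_comp] at h2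
      have h3 := (AlgSp.yon S).map_injective h2
      ext
      rw [← cancel_mono W.ι]
      have h4 := congrArg (fun k => k.left) h3
      simp only [Over.comp_left] at h4
      exact h4.trans ht'l.symm
  · show IsOpenImmersion W.ι
    infer_instance



/-- An etale and universally injective morphism of algebraic spaces is an open immersion. -/
theorem result {S : Scheme.{u}} {X Y : AlgSp.Space S}
    (f : X ⟶ Y) (het : AlgSp.IsEtaleMor f.hom) (hinj : AlgSp.IsUnivInjectiveMor f.hom) :
    AlgSp.RepWith @IsOpenImmersion f.hom := by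
  haveI := mono_of_isEtaleMor_of_isUnivInjectiveMor f het hinj
  exact repWith_isOpenImmersion_of_mono X.property f.hom het

end Groth.Agent.S10261
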