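import Groth.Statements.S10262
import Mathlib
import Groth.Agent.S10261
import Groth.Agent.S9874

set_option autoImplicit false
universe u
open CategoryTheory CategoryTheory.Limits AlgebraicGeometry
open AlgSp

namespace Groth.Agent.S10262


open CategoryTheory.Limits Opposite MorphismProperty Groth.Agent.S13210 Groth.Agent.S9900

variable {S : Scheme.{u}}

/-- the equalizer locus of two points of a sheaf with an étale atlas `p`, with the same image under
`f`, is an open immersion as soon as the kernel pair of `p ≫ f` is a scheme unramified over the atlas. -/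
lemma isOpenImmersion_of_isEqLocus' {X Y : AlgSp.Sp S} (f : X ⟶ Y) {U : Over S}
    (p : (AlgSp.yon S).obj U ⟶ X) (hp : AlgSp.RepWith @Etale p) (hps : AlgSp.RepWith @Surjective p)
    {R' : Over S} (r2 s2 : R' ⟶ U)
    (sqR' : IsPullback ((AlgSp.yon S).map r2) ((AlgSp.yon S).map s2) (p ≫ f) (p ≫ f))
    [LocallyOfFiniteType s2.left] [FormallyUnramified s2.left] {T E : Over S}
    {a b : (AlgSp.yon S).obj T ⟶ X} (hab : a ≫ f = b ≫ f) {e : E ⟶ T} (he : IsEqLocus a b e) :
    IsOpenImmersion e.left := by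
  -- lift `a` étale locally
  obtain ⟨T1, t1, a1', sq1⟩ := hp.1 a
  obtain ⟨a1, rfl⟩ := (AlgSp.yon S).map_surjective a1'
  haveI : Etale t1.left := hp.2 a _ t1 sq1
  haveI : Surjective t1.left := hps.2 a _ t1 sq1
  -- lift `b` étale locally
  obtain ⟨T2, t2, b2', sq2⟩ := hp.1 ((AlgSp.yon S).map t1 ≫ b)
  obtain ⟨b2, rfl⟩ := (AlgSp.yon S).map_surjective b2'
  haveI : Etale t2.left := hp.2 _ _ t2 sq2
  haveI : Surjective t2.left := hps.2 _ _ t2 sq2
  -- the kernel pair of the atlas
  obtain ⟨R, s', r1', sqR⟩ := hp.1 p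
  obtain ⟨r1, rfl⟩ := (AlgSp.yon S).map_surjective r1'
  haveI : Etale s'.left := hp.2 p _ s' sqR
  obtain ⟨τ, hτ⟩ : ∃ τ : T2 ⟶ T, τ = t2 ≫ t1 := ⟨_, rfl⟩
  obtain ⟨u1, hu1⟩ : ∃ u1 : T2 ⟶ U, u1 = t2 ≫ a1 := ⟨_, rfl⟩
  have hpu1 : (AlgSp.yon S).map u1 ≫ p = (AlgSp.yon S).map τ ≫ a := by
    rw [hu1, hτ, Functor.map_comp, Functor.map_comp, Category.assoc, Category.assoc, sq1.w]
  have hpu2 : (AlgSp.yon S).map b2 ≫ p = (AlgSp.yon S).map τ ≫ b := by
    rw [hτ, Functor.map_comp, Category.assoc, sq2.w]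
  -- the comparison maps
  obtain ⟨ρ, hρ⟩ := (AlgSp.yon S).map_surjective
    (sqR'.lift ((AlgSp.yon S).map r1) ((AlgSp.yon S).map s') (by
      rw [← Category.assoc, ← Category.assoc, sqR.w]))
  have hρ1 : ρ ≫ r2 = r1 := by
    apply (AlgSp.yon S).map_injective
    rw [Functor.map_comp, hρ, sqR'.lift_fst]
  have hρ2 : ρ ≫ s2 = s' := by
    apply (AlgSp.yon S).map_injective
    rw [Functor.map_comp, hρ, sqR'.lift_snd]
  obtain ⟨v, hv⟩ := (AlgSp.yon S).map_surjective
    (sqR'.lift ((AlgSp.yon S).map u1) ((AlgSp.yon S).map b2) (by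
      rw [← Category.assoc, ← Category.assoc, hpu1, hpu2, Category.assoc, Category.assoc, hab]))
  have hv1 : v ≫ r2 = u1 := by
    apply (AlgSp.yon S).map_injective
    rw [Functor.map_comp, hv, sqR'.lift_fst]
  have hv2 : v ≫ s2 = b2 := by
    apply (AlgSp.yon S).map_injective
    rw [Functor.map_comp, hv, sqR'.lift_snd]
  haveI : Mono ρ := ⟨fun {Z} x y hxy => by
    apply (AlgSp.yon S).map_injective
    apply sqR.hom_ext
    · rw [← Functor.map_comp, ← Functor.map_comp, ← hρ1, ← Category.assoc, ← Category.assoc, hxy]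
    · rw [← Functor.map_comp, ← Functor.map_comp, ← hρ2, ← Category.assoc, ← Category.assoc, hxy]⟩
  haveI : Mono ρ.left := inferInstance
  haveI : Etale (ρ.left ≫ s2.left) := by
    rw [← Over.comp_left, hρ2]; infer_instance
  haveI : Etale ρ.left := Etale.of_comp ρ.left s2.left
  have hρo : IsOpenImmersion ρ.left := IsOpenImmersion.of_flat_of_mono ρ.left
  -- base change of `e` to `T2`
  haveI : Mono e := he.1
  have key : ∀ (T' : Over S) (t : T' ⟶ T2),
      (∃ t' : T' ⟶ pullback e τ, t' ≫ pullback.snd e τ = t) ↔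
        ∃ t' : T' ⟶ pullback v ρ, t' ≫ pullback.fst v ρ = t := by
    intro T' t
    constructor
    · rintro ⟨t', rfl⟩
      have h1 : (AlgSp.yon S).map ((t' ≫ pullback.snd e τ) ≫ τ) ≫ a =
          (AlgSp.yon S).map ((t' ≫ pullback.snd e τ) ≫ τ) ≫ b :=
        (he.2 _ _).2 ⟨t' ≫ pullback.fst e τ, by
          rw [Category.assoc, pullback.condition, Category.assoc]⟩
      have h2 : (AlgSp.yon S).map ((t' ≫ pullback.snd e τ) ≫ u1) ≫ p =
          (AlgSp.yon S).map ((t' ≫ pullback.snd e τ) ≫ b2) ≫ p := by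
        simp only [Functor.map_comp, Category.assoc] at h1 ⊢
        rw [hpu1, hpu2]
        exact h1
      obtain ⟨ρ0, hρ0⟩ := (AlgSp.yon S).map_surjective (sqR.lift _ _ h2)
      have hρ01 : ρ0 ≫ r1 = (t' ≫ pullback.snd e τ) ≫ u1 := by
        apply (AlgSp.yon S).map_injective
        rw [Functor.map_comp, hρ0, sqR.lift_fst]
      have hρ02 : ρ0 ≫ s' = (t' ≫ pullback.snd e τ) ≫ b2 := by
        apply (AlgSp.yon S).map_injective
        rw [Functor.map_comp, hρ0, sqR.lift_snd]
      refine ⟨pullback.lift (t' ≫ pullback.snd e τ) ρ0 ?_, pullback.lift_fst _ _ _⟩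
      apply (AlgSp.yon S).map_injective
      apply sqR'.hom_ext
      · rw [← Functor.map_comp, ← Functor.map_comp, Category.assoc _ v r2, hv1,
          Category.assoc ρ0 ρ r2, hρ1, hρ01]
      · rw [← Functor.map_comp, ← Functor.map_comp, Category.assoc _ v s2, hv2,
          Category.assoc ρ0 ρ s2, hρ2, hρ02]
    · rintro ⟨t', rfl⟩
      have hc := pullback.condition (f := v) (g := ρ)
      have hc1 : pullback.fst v ρ ≫ u1 = pullback.snd v ρ ≫ r1 := by
        rw [← hv1, ← hρ1, ← Category.assoc, hc, Category.assoc]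
      have hc2 : pullback.fst v ρ ≫ b2 = pullback.snd v ρ ≫ s' := by
        rw [← hv2, ← hρ2, ← Category.assoc, hc, Category.assoc]
      have h1 : (AlgSp.yon S).map ((t' ≫ pullback.fst v ρ) ≫ τ) ≫ a =
          (AlgSp.yon S).map ((t' ≫ pullback.fst v ρ) ≫ τ) ≫ b := by
        have hc1' := congrArg (fun m => (AlgSp.yon S).map m) hc1
        have hc2' := congrArg (fun m => (AlgSp.yon S).map m) hc2
        simp only [Functor.map_comp, Category.assoc] at hc1' hc2' ⊢
        rw [← hpu1, ← hpu2, reassoc_of% hc1', reassoc_of% hc2', sqR.w]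
      obtain ⟨l, hl⟩ := (he.2 _ _).1 h1
      exact ⟨pullback.lift l (t' ≫ pullback.fst v ρ) hl, pullback.lift_snd _ _ _⟩
  obtain ⟨i, hi⟩ := exists_iso_of_factor_iff (pullback.snd e τ) (pullback.fst v ρ) key
  have hsq' : IsPullback (pullback.fst v ρ).left (pullback.snd v ρ).left v.left ρ.left :=
    (IsPullback.of_hasPullback v ρ).map (Over.forget S)
  have h3 : IsOpenImmersion (pullback.fst v ρ).left :=
    MorphismProperty.of_isPullback (P := @IsOpenImmersion) hsq'.flip hρo
  have h4 : IsOpenImmersion (pullback.snd e τ).left := by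
    rw [← hi, Over.comp_left]
    haveI : IsIso i.hom.left := inferInstanceAs (IsIso ((Over.forget S).map i.hom))
    infer_instance
  -- descent
  have hsq : IsPullback (pullback.fst e τ).left (pullback.snd e τ).left e.left τ.left :=
    (IsPullback.of_hasPullback e τ).map (Over.forget S)
  have hτQ : (@Surjective ⊓ @Flat ⊓ @LocallyOfFinitePresentation : MorphismProperty Scheme.{u})
      τ.left := by
    rw [hτ, Over.comp_left]
    exact ⟨⟨inferInstance, inferInstance⟩, inferInstance⟩
  exact MorphismProperty.of_isPullback_of_descendsAlong (P := @IsOpenImmersion)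
    (Q := @Surjective ⊓ @Flat ⊓ @LocallyOfFinitePresentation) hsq.flip hτQ h4


/-- the base change of an equalizer locus is an equalizer locus. -/
lemma isEqLocus_pullback_snd {F : AlgSp.Sp S} {T E T1 : Over S} {a b : (AlgSp.yon S).obj T ⟶ F}
    {e : E ⟶ T} (he : IsEqLocus a b e) (τ : T1 ⟶ T) :
    IsEqLocus ((AlgSp.yon S).map τ ≫ a) ((AlgSp.yon S).map τ ≫ b) (pullback.snd e τ) := by
  haveI : Mono e := he.1
  refine ⟨inferInstance, fun T' t => ⟨fun h => ?_, ?_⟩⟩
  · rw [← Category.assoc, ← Category.assoc, ← Functor.map_comp] at h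
    obtain ⟨l, hl⟩ := (he.2 _ _).1 h
    exact ⟨pullback.lift l t hl, pullback.lift_snd _ _ _⟩
  · rintro ⟨t', rfl⟩
    rw [← Category.assoc, ← Category.assoc, ← Functor.map_comp]
    refine (he.2 _ _).2 ⟨t' ≫ pullback.fst e τ, ?_⟩
    rw [Category.assoc, pullback.condition, Category.assoc]

/-- openness of an equalizer locus descends along an étale surjective cover. -/
lemma isOpenImmersion_of_isEqLocus_of_cover {F : AlgSp.Sp S} {T E T1 E1 : Over S}
    {a b : (AlgSp.yon S).obj T ⟶ F} {e : E ⟶ T} (he : IsEqLocus a b e) (τ : T1 ⟶ T)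
    [Etale τ.left] [Surjective τ.left] {e1 : E1 ⟶ T1}
    (he1 : IsEqLocus ((AlgSp.yon S).map τ ≫ a) ((AlgSp.yon S).map τ ≫ b) e1)
    (h1 : IsOpenImmersion e1.left) : IsOpenImmersion e.left := by
  have he2 := isEqLocus_pullback_snd he τ
  haveI : Mono e := he.1
  haveI : Mono e1 := he1.1
  obtain ⟨i, hi⟩ := exists_iso_of_factor_iff (pullback.snd e τ) e1
    (fun T' t => ((he2.2 T' t).symm.trans (he1.2 T' t)))
  have h4 : IsOpenImmersion (pullback.snd e τ).left := by
    rw [← hi, Over.comp_left]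
    haveI : IsIso i.hom.left := inferInstanceAs (IsIso ((Over.forget S).map i.hom))
    infer_instance
  have hsq : IsPullback (pullback.fst e τ).left (pullback.snd e τ).left e.left τ.left :=
    (IsPullback.of_hasPullback e τ).map (Over.forget S)
  have hτQ : (@Surjective ⊓ @Flat ⊓ @LocallyOfFinitePresentation : MorphismProperty Scheme.{u})
      τ.left := ⟨⟨inferInstance, inferInstance⟩, inferInstance⟩
  exact MorphismProperty.of_isPullback_of_descendsAlong (P := @IsOpenImmersion)
    (Q := @Surjective ⊓ @Flat ⊓ @LocallyOfFinitePresentation) hsq.flip hτQ h4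

/-- the equalizer locus of two points with the same image under an unramified morphism of algebraic
spaces is an open immersion. -/
lemma isOpenImmersion_of_isEqLocus_unramified {X Y : AlgSp.Sp S} (hX : AlgSp.IsAlgSpace X)
    (hY : AlgSp.IsAlgSpace Y) (f : X ⟶ Y)
    (hf : AlgSp.LocP (@LocallyOfFiniteType ⊓ @FormallyUnramified) f) {T E : Over S}
    {a b : (AlgSp.yon S).obj T ⟶ X} (hab : a ≫ f = b ≫ f) {e : E ⟶ T} (he : IsEqLocus a b e) :
    IsOpenImmersion e.left := by
  obtain ⟨V, q, hq, hqs⟩ := hY.atlas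
  obtain ⟨U0, p0, hp0, hp0s⟩ := hX.atlas
  have sqX' := IsPullback.of_hasPullback f q
  have hX' : AlgSp.IsAlgSpace (pullback f q) :=
    Groth.Agent.S9874.isAlgSpace_of_isPullback hY.diag hX (AlgSp.IsAlgSpace.yon_obj V) sqX'
  -- the atlas of `X'`
  obtain ⟨U', π, h', sqU'⟩ := hq.1 (p0 ≫ f)
  obtain ⟨hh, rfl⟩ := (AlgSp.yon S).map_surjective h'
  haveI : Etale π.left := hq.2 _ _ π sqU'
  have hπp : AlgSp.RepWith @Etale ((AlgSp.yon S).map π ≫ p0) :=
    (AlgSp.RepWith @Etale).comp_mem _ _ ((AlgSp.repWith_yon_map_iff _ _).2 inferInstance) hp0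
  have hun : (@LocallyOfFiniteType ⊓ @FormallyUnramified : MorphismProperty Scheme.{u}) hh.left :=
    hf ((AlgSp.yon S).map π ≫ p0) q hh hπp hq (by rw [Category.assoc, sqU'.w])
  haveI : LocallyOfFiniteType hh.left := hun.1
  haveI : FormallyUnramified hh.left := hun.2
  obtain ⟨p', hp'⟩ : ∃ p' : (AlgSp.yon S).obj U' ⟶ pullback f q,
      p' = pullback.lift ((AlgSp.yon S).map π ≫ p0) ((AlgSp.yon S).map hh)
        (by rw [Category.assoc, sqU'.w]) := ⟨_, rfl⟩
  have hp'1 : p' ≫ pullback.fst f q = (AlgSp.yon S).map π ≫ p0 := by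
    rw [hp', pullback.lift_fst]
  have hp'2 : p' ≫ pullback.snd f q = (AlgSp.yon S).map hh := by
    rw [hp', pullback.lift_snd]
  have sqL : IsPullback p' ((AlgSp.yon S).map π) (pullback.fst f q) p0 := by
    refine IsPullback.of_right ?_ hp'1 sqX'.flip
    rw [hp'2]
    exact sqU'
  have hp'e : AlgSp.RepWith @Etale p' :=
    MorphismProperty.of_isPullback (P := AlgSp.RepWith @Etale) sqL.flip hp0
  have hp's : AlgSp.RepWith @Surjective p' :=
    MorphismProperty.of_isPullback (P := AlgSp.RepWith @Surjective) sqL.flip hp0s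
  have sqR' : IsPullback ((AlgSp.yon S).map (pullback.fst hh hh))
      ((AlgSp.yon S).map (pullback.snd hh hh)) (p' ≫ pullback.snd f q) (p' ≫ pullback.snd f q) := by
    rw [hp'2]
    exact (IsPullback.of_hasPullback hh hh).map (AlgSp.yon S)
  have hs2 : (@LocallyOfFiniteType ⊓ @FormallyUnramified : MorphismProperty Scheme.{u})
      (pullback.snd hh hh).left :=
    MorphismProperty.of_isPullback
      (P := (@LocallyOfFiniteType ⊓ @FormallyUnramified : MorphismProperty Scheme.{u}))
      ((IsPullback.of_hasPullback hh hh).map (Over.forget S)) hun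
  haveI : LocallyOfFiniteType (pullback.snd hh hh).left := hs2.1
  haveI : FormallyUnramified (pullback.snd hh hh).left := hs2.2
  -- lift the common image to `V`
  obtain ⟨T1, τ, v', sqT⟩ := hq.1 (a ≫ f)
  obtain ⟨v, rfl⟩ := (AlgSp.yon S).map_surjective v'
  haveI : Etale τ.left := hq.2 _ _ τ sqT
  haveI : Surjective τ.left := hqs.2 _ _ τ sqT
  obtain ⟨a', ha'⟩ : ∃ a' : (AlgSp.yon S).obj T1 ⟶ pullback f q,
      a' = pullback.lift ((AlgSp.yon S).map τ ≫ a) ((AlgSp.yon S).map v)
        (by rw [Category.assoc, sqT.w]) := ⟨_, rfl⟩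
  obtain ⟨b', hb'⟩ : ∃ b' : (AlgSp.yon S).obj T1 ⟶ pullback f q,
      b' = pullback.lift ((AlgSp.yon S).map τ ≫ b) ((AlgSp.yon S).map v)
        (by rw [Category.assoc, ← hab, sqT.w]) := ⟨_, rfl⟩
  have ha'1 : a' ≫ pullback.fst f q = (AlgSp.yon S).map τ ≫ a := by rw [ha', pullback.lift_fst]
  have ha'2 : a' ≫ pullback.snd f q = (AlgSp.yon S).map v := by rw [ha', pullback.lift_snd]
  have hb'1 : b' ≫ pullback.fst f q = (AlgSp.yon S).map τ ≫ b := by rw [hb', pullback.lift_fst]
  have hb'2 : b' ≫ pullback.snd f q = (AlgSp.yon S).map v := by rw [hb', pullback.lift_snd]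
  obtain ⟨E1, e1, he1⟩ := exists_isEqLocus hX'.diag a' b'
  have h1 : IsOpenImmersion e1.left :=
    isOpenImmersion_of_isEqLocus' (pullback.snd f q) p' hp'e hp's _ _ sqR'
      (ha'2.trans hb'2.symm) he1
  refine isOpenImmersion_of_isEqLocus_of_cover he τ ⟨he1.1, fun T' t => ?_⟩ h1
  rw [← he1.2 T' t, ← ha'1, ← hb'1]
  constructor
  · intro h
    apply pullback.hom_ext
    · simpa only [Category.assoc] using h
    · rw [Category.assoc, Category.assoc, ha'2, hb'2]
  · intro h
    rw [← Category.assoc, ← Category.assoc, h]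

/-- a morphism locally of finite type whose diagonal is an open immersion is unramified. -/
lemma locP_unramified_of_diagonal {X Y : AlgSp.Sp S} (hX : AlgSp.IsAlgSpace X) (f : X ⟶ Y)
    (hlft : AlgSp.LocP @LocallyOfFiniteType f)
    (hΔ : AlgSp.RepWith @IsOpenImmersion (pullback.diagonal f)) :
    AlgSp.LocP (@LocallyOfFiniteType ⊓ @FormallyUnramified) f := by
  intro U V a b h ha hb hcomm
  refine ⟨hlft a b h ha hb hcomm, ?_⟩
  have hab : ((AlgSp.yon S).map (pullback.fst h h) ≫ a) ≫ f =
      ((AlgSp.yon S).map (pullback.snd h h) ≫ a) ≫ f := by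
    rw [Category.assoc, Category.assoc, hcomm, ← Category.assoc, ← Category.assoc,
      ← Functor.map_comp, ← Functor.map_comp, pullback.condition]
  obtain ⟨E', e', he'⟩ := exists_isEqLocus hX.diag ((AlgSp.yon S).map (pullback.fst h h) ≫ a)
    ((AlgSp.yon S).map (pullback.snd h h) ≫ a)
  haveI : Mono e' := he'.1
  obtain ⟨c, hc⟩ : ∃ c : (AlgSp.yon S).obj (pullback h h) ⟶ pullback f f,
      c = pullback.lift _ _ hab := ⟨_, rfl⟩
  have he'c : IsEqLocus (c ≫ pullback.fst f f) (c ≫ pullback.snd f f) e' := by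
    rw [hc, pullback.lift_fst, pullback.lift_snd]
    exact he'
  have h1 : IsOpenImmersion e'.left := hΔ.2 _ _ _ (he'c.isPullback_diagonal f c)
  obtain ⟨d', hd'⟩ := (he'.2 U (pullback.diagonal h)).1 (by
    rw [← Category.assoc, ← Category.assoc, ← Functor.map_comp, ← Functor.map_comp,
      pullback.diagonal_fst, pullback.diagonal_snd])
  have hd'eq : IsEqLocus ((AlgSp.yon S).map (e' ≫ pullback.fst h h))
      ((AlgSp.yon S).map (e' ≫ pullback.snd h h)) d' := by
    haveI : Mono (d' ≫ e') := by rw [hd']; infer_instance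
    refine ⟨mono_of_mono d' e', fun T' t => ⟨fun hh => ?_, ?_⟩⟩
    · rw [← Functor.map_comp, ← Functor.map_comp] at hh
      have hh' := (AlgSp.yon S).map_injective hh
      refine ⟨t ≫ e' ≫ pullback.fst h h, ?_⟩
      rw [← cancel_mono e', Category.assoc, hd']
      apply pullback.hom_ext
      · rw [Category.assoc, pullback.diagonal_fst, Category.comp_id, Category.assoc]
      · rw [Category.assoc, pullback.diagonal_snd, Category.comp_id, Category.assoc, hh']
    · rintro ⟨t', rfl⟩
      rw [← Functor.map_comp, ← Functor.map_comp]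
      congr 1
      rw [Category.assoc, Category.assoc, ← Category.assoc d', ← Category.assoc d', hd',
        pullback.diagonal_fst, pullback.diagonal_snd]
  have haE : AlgSp.IsEtaleMor a := fun W φ hφ => (AlgSp.RepWith @Etale).comp_mem _ _ hφ ha
  have h2 : IsOpenImmersion d'.left :=
    Groth.Agent.S10261.isOpenImmersion_of_isEqLocus (AlgSp.IsAlgSpace.yon_obj U) a haE (by
      rw [Functor.map_comp, Functor.map_comp, Category.assoc, Category.assoc]
      exact he'.eq) hd'eq
  have h3 : IsOpenImmersion (pullback.diagonal h).left := by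
    rw [← hd', Over.comp_left]
    infer_instance
  have sqP : IsPullback (pullback.fst h h).left (pullback.snd h h).left h.left h.left :=
    (IsPullback.of_hasPullback h h).map (Over.forget S)
  have hdiag : pullback.diagonal h.left = (pullback.diagonal h).left ≫ sqP.isoPullback.hom := by
    apply pullback.hom_ext
    · rw [Category.assoc, sqP.isoPullback_hom_fst, ← Over.comp_left, pullback.diagonal_fst,
        pullback.diagonal_fst]
      rfl
    · rw [Category.assoc, sqP.isoPullback_hom_snd, ← Over.comp_left, pullback.diagonal_snd,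
        pullback.diagonal_snd]
      rfl
  haveI : IsOpenImmersion (pullback.diagonal h.left) := by
    rw [hdiag]
    infer_instance
  show FormallyUnramified h.left
  infer_instance



/-- (1) an unramified morphism of algebraic spaces has diagonal an open immersion; (2) a morphism
locally of finite type whose diagonal is an open immersion is unramified. -/
theorem result {S : Scheme.{u}} {X Y : AlgSp.Space S} (f : X ⟶ Y) :
    (AlgSp.LocP (@LocallyOfFiniteType ⊓ @FormallyUnramified) f.hom →
      AlgSp.RepWith @IsOpenImmersion (pullback.diagonal f.hom)) ∧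
    (AlgSp.LocP @LocallyOfFiniteType f.hom → AlgSp.RepWith @IsOpenImmersion (pullback.diagonal f.hom) →
      AlgSp.LocP (@LocallyOfFiniteType ⊓ @FormallyUnramified) f.hom) := by
  refine ⟨fun hf => ?_, fun hlft hΔ => locP_unramified_of_diagonal X.property f.hom hlft hΔ⟩
  refine MorphismProperty.relative.of_exists (fun T c => ?_)
  obtain ⟨E, e, he⟩ := exists_isEqLocus X.property.diag (c ≫ pullback.fst f.hom f.hom)
    (c ≫ pullback.snd f.hom f.hom)
  refine ⟨E, _, e, he.isPullback_diagonal f.hom c,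
    isOpenImmersion_of_isEqLocus_unramified X.property Y.property f.hom hf ?_ he⟩
  rw [Category.assoc, Category.assoc, pullback.condition]

end Groth.Agent.S10262
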