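import Groth.Statements.S9949
import Mathlib
import Groth.Agent.S10262

set_option autoImplicit false
universe u
open CategoryTheory CategoryTheory.Limits AlgebraicGeometry
open AlgSp

namespace Groth.Agent.S9949


open CategoryTheory.Limits Opposite MorphismProperty

variable {S : Scheme.{u}}

/-- `LocP P` can be checked after base change to a surjective étale chart of the target, for `P`
with the cancellation property and fppf descent. -/
lemma locP_of_target_cover (P : MorphismProperty Scheme.{u})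
    (hcancel : ∀ {A B C : Scheme.{u}} (u : A ⟶ B) (k : B ⟶ C), P (u ≫ k) → P u)
    [P.DescendsAlong (@Surjective ⊓ @Flat ⊓ @LocallyOfFinitePresentation)]
    {X Y : AlgSp.Sp S} (f : X ⟶ Y) (V : Over S)
    (p : (AlgSp.yon S).obj V ⟶ Y) (hp : AlgSp.RepWith @Etale p) (hps : AlgSp.RepWith @Surjective p)
    {Q : AlgSp.Sp S} (fstQ : Q ⟶ X) (sndQ : Q ⟶ (AlgSp.yon S).obj V)
    (sq : IsPullback fstQ sndQ f p)
    (h : AlgSp.LocP P sndQ) : AlgSp.LocP P f := by
  intro U V' a b hh ha hb hcomm
  obtain ⟨V'', π, πV', sqV⟩ := hp.1 b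
  obtain ⟨πV, rfl⟩ := (AlgSp.yon S).map_surjective πV'
  haveI : Etale π.left := hp.2 _ _ π sqV
  haveI : Surjective π.left := hps.2 _ _ π sqV
  have sqU : IsPullback ((AlgSp.yon S).map (pullback.fst hh π))
      ((AlgSp.yon S).map (pullback.snd hh π)) ((AlgSp.yon S).map hh) ((AlgSp.yon S).map π) :=
    (IsPullback.of_hasPullback hh π).map (AlgSp.yon S)
  have big := sqU.flip.paste_horiz sqV
  rw [← hcomm, ← Functor.map_comp] at big
  have hw : ((AlgSp.yon S).map (pullback.fst hh π) ≫ a) ≫ f =
      (AlgSp.yon S).map (pullback.snd hh π ≫ πV) ≫ p := by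
    rw [Category.assoc]; exact big.w.symm
  obtain ⟨a'', ha''⟩ : ∃ a'' : (AlgSp.yon S).obj (pullback hh π) ⟶ Q,
      a'' = sq.lift _ _ hw := ⟨_, rfl⟩
  have ha''1 : a'' ≫ fstQ = (AlgSp.yon S).map (pullback.fst hh π) ≫ a := by
    rw [ha'', sq.lift_fst]
  have ha''2 : a'' ≫ sndQ = (AlgSp.yon S).map (pullback.snd hh π ≫ πV) := by
    rw [ha'', sq.lift_snd]
  have left : IsPullback a'' ((AlgSp.yon S).map (pullback.fst hh π)) fstQ a := by
    refine IsPullback.of_right ?_ ha''1 sq.flip
    rw [ha''2]
    exact big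
  have ha''e : AlgSp.RepWith @Etale a'' :=
    MorphismProperty.of_isPullback (P := AlgSp.RepWith @Etale) left.flip ha
  have hP := h a'' (𝟙 _) (pullback.snd hh π ≫ πV) ha''e (AlgSp.repWith_id _ V)
    (by rw [ha''2, Category.comp_id])
  rw [Over.comp_left] at hP
  have h1 : P (pullback.snd hh π).left := hcancel _ _ hP
  have hsq : IsPullback (pullback.fst hh π).left (pullback.snd hh π).left hh.left π.left :=
    (IsPullback.of_hasPullback hh π).map (Over.forget S)
  have hπQ : (@Surjective ⊓ @Flat ⊓ @LocallyOfFinitePresentation : MorphismProperty Scheme.{u})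
      π.left := ⟨⟨inferInstance, inferInstance⟩, inferInstance⟩
  exact MorphismProperty.of_isPullback_of_descendsAlong (P := P)
      (Q := @Surjective ⊓ @Flat ⊓ @LocallyOfFinitePresentation) hsq.flip hπQ h1



/-- (5) ⇒ (1): being locally of finite type descends along a surjective etale base change from a scheme. -/
theorem result {S : Scheme.{u}} {X Y : AlgSp.Space S} (f : X ⟶ Y) (V : Over S)
    (p : (AlgSp.yon S).obj V ⟶ Y.obj) (hp : AlgSp.RepWith @Etale p) (hps : AlgSp.RepWith @Surjective p)
    {P : AlgSp.Sp S} (fst : P ⟶ X.obj) (snd : P ⟶ (AlgSp.yon S).obj V) (sq : IsPullback fst snd f.hom p)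
    (h : AlgSp.LocP @LocallyOfFiniteType snd) : AlgSp.LocP @LocallyOfFiniteType f.hom := by
  refine locP_of_target_cover @LocallyOfFiniteType (fun u k huk => ?_) f.hom V p hp hps fst snd sq h
  haveI : LocallyOfFiniteType (u ≫ k) := huk
  exact locallyOfFiniteType_of_comp u k

end Groth.Agent.S9949
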