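import Groth.Statements.S9950
import Mathlib
import Groth.Agent.S10262
import Groth.Agent.Lib.Helper20EtSrc

set_option autoImplicit false
universe u
open CategoryTheory CategoryTheory.Limits AlgebraicGeometry
open AlgSp

namespace Groth.Agent.S9950


open CategoryTheory.Limits Opposite MorphismProperty

variable {S : Scheme.{u}}

/-- `LocP P` can be checked after composing with a surjective étale chart of the source, for `P`
étale local on the source. -/
lemma locP_of_source_cover (P : MorphismProperty Scheme.{u})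
    (hsrc : ∀ {A B C : Scheme.{u}} (e : A ⟶ B) (k : B ⟶ C) [Etale e] [Surjective e],
      P (e ≫ k) → P k)
    {X Y : AlgSp.Sp S} (f : X ⟶ Y) {U : Over S}
    (φ : (AlgSp.yon S).obj U ⟶ X) (hφ : AlgSp.RepWith @Etale φ)
    (hφs : AlgSp.RepWith @Surjective φ) (h : AlgSp.LocP P (φ ≫ f)) : AlgSp.LocP P f := by
  intro U' V a b hh ha hb hcomm
  obtain ⟨U'', pr', prU', sq⟩ := hφ.1 a
  obtain ⟨prU, rfl⟩ := (AlgSp.yon S).map_surjective prU'
  haveI : Etale pr'.left := hφ.2 _ _ pr' sq
  haveI : Surjective pr'.left := hφs.2 _ _ pr' sq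
  haveI : Etale prU.left := ha.2 _ _ prU sq.flip
  have hchart : (AlgSp.yon S).map prU ≫ (φ ≫ f) = (AlgSp.yon S).map (pr' ≫ hh) ≫ b := by
    rw [← Category.assoc, sq.w, Category.assoc, hcomm, Functor.map_comp, Category.assoc]
  have hP := h ((AlgSp.yon S).map prU) b (pr' ≫ hh)
    ((AlgSp.repWith_yon_map_iff _ _).2 inferInstance) hb hchart
  rw [Over.comp_left] at hP
  exact hsrc pr'.left hh.left hP



/-- (6) ⇒ (1): if f ∘ φ is locally of finite type for one surjective etale chart φ of the source, then f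
is locally of finite type. -/
theorem result {S : Scheme.{u}} {X Y : AlgSp.Space S} (f : X ⟶ Y) (U : Over S)
    (φ : (AlgSp.yon S).obj U ⟶ X.obj) (hφ : AlgSp.RepWith @Etale φ) (hφs : AlgSp.RepWith @Surjective φ)
    (h : AlgSp.LocP @LocallyOfFiniteType (φ ≫ f.hom)) : AlgSp.LocP @LocallyOfFiniteType f.hom := by
  refine locP_of_source_cover @LocallyOfFiniteType (fun e k _ _ hek => ?_) f.hom φ hφ hφs h
  haveI : LocallyOfFiniteType (e ≫ k) := hek
  exact Groth.Agent.Lib.Helper20.EtSrc.locallyOfFiniteType_of_etale_cover_source e k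

end Groth.Agent.S9950
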