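import Groth.Statements.S10212
import Mathlib
import Groth.Agent.Lib.Helper12EtSrc

set_option autoImplicit false
universe u
open CategoryTheory CategoryTheory.Limits AlgebraicGeometry Topology TopologicalSpace
open AlgSp

namespace Groth.Agent.S10212


open CategoryTheory.Limits Opposite MorphismProperty

variable {S : Scheme.{u}}

/-- a map from a scheme to a sheaf which becomes representable étale after an étale cover of the
scheme is representable étale, as soon as it is representable. -/
lemma repWith_etale_of_comp_surjective_etale {F : AlgSp.Sp S} {U U' : Over S}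
    (χ : U ⟶ U') [Etale χ.left] [Surjective χ.left] (φ' : (AlgSp.yon S).obj U' ⟶ F)
    (hrep : AlgSp.Representable φ')
    (h : AlgSp.RepWith @Etale ((AlgSp.yon S).map χ ≫ φ')) :
    AlgSp.RepWith @Etale φ' := by
  refine ⟨hrep, fun T W g pr w sq => ?_⟩
  obtain ⟨pr0, rfl⟩ := (AlgSp.yon S).map_surjective pr
  have sq1 : IsPullback ((AlgSp.yon S).map (pullback.fst χ pr0))
      ((AlgSp.yon S).map (pullback.snd χ pr0)) ((AlgSp.yon S).map χ) ((AlgSp.yon S).map pr0) :=
    (IsPullback.of_hasPullback χ pr0).map (AlgSp.yon S)
  have big := sq1.paste_vert sq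
  rw [← Functor.map_comp] at big
  have h1 : Etale (pullback.snd χ pr0 ≫ w).left := h.2 _ _ _ big
  have hsq : IsPullback (pullback.fst χ pr0).left (pullback.snd χ pr0).left χ.left pr0.left :=
    (IsPullback.of_hasPullback χ pr0).map (Over.forget S)
  haveI : Etale (pullback.snd χ pr0).left :=
    MorphismProperty.of_isPullback (P := @Etale) hsq inferInstance
  haveI : Surjective (pullback.snd χ pr0).left :=
    MorphismProperty.of_isPullback (P := @Surjective) hsq inferInstance
  rw [Over.comp_left] at h1
  haveI := h1
  show Etale w.left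
  exact Groth.Agent.Lib.Helper12.EtSrc.etale_of_etale_cover_source (pullback.snd χ pr0).left w.left



/-- Let X be an algebraic space over a scheme S, χ : U ⟶ U' a surjective etale morphism of schemes over
S and φ' : h_{U'} ⟶ X a map such that the composite h_χ ≫ φ' : h_U ⟶ X is (representable and) etale.
Then φ' is etale. -/
theorem result {S : Scheme.{u}} (X : AlgSp.Space S) {U U' : Over S}
    (χ : U ⟶ U') [Etale χ.left] [Surjective χ.left] (φ' : (AlgSp.yon S).obj U' ⟶ X.obj)
    (h : AlgSp.RepWith @Etale ((AlgSp.yon S).map χ ≫ φ')) :
    AlgSp.RepWith @Etale φ' := by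
  exact repWith_etale_of_comp_surjective_etale χ φ' (X.property.representable_from_yon φ') h

end Groth.Agent.S10212
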