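import Groth.Statements.S10265
import Mathlib
import Groth.Agent.S10212

set_option autoImplicit false
universe u
open CategoryTheory CategoryTheory.Limits AlgebraicGeometry
open AlgSp

namespace Groth.Agent.S10265


open CategoryTheory.Limits Opposite MorphismProperty

variable {S : Scheme.{u}}

lemma locallyQuasiFinite_of_unramified {X Y : Scheme.{u}} (f : X ⟶ Y) [LocallyOfFiniteType f]
    [FormallyUnramified f] : LocallyQuasiFinite f := by
  constructor
  intro U hU V hV e
  have h1 : (f.appLE U V e).hom.FiniteType :=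
    HasRingHomProperty.appLE (P := @LocallyOfFiniteType) f inferInstance ⟨U, hU⟩ ⟨V, hV⟩ e
  have h2 : (f.appLE U V e).hom.FormallyUnramified :=
    HasRingHomProperty.appLE (P := @FormallyUnramified) f inferInstance ⟨U, hU⟩ ⟨V, hV⟩ e
  algebraize [(f.appLE U V e).hom]
  rw [← RingHom.algebraMap_toAlgebra (f.appLE U V e).hom, RingHom.quasiFinite_algebraMap]
  infer_instance

/-- cancellation: if `h_h ≫ b` and `b` are representable étale then `h` is étale. -/
lemma etale_of_comp_repWith {F : AlgSp.Sp S} {U V : Over S} (h : U ⟶ V)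
    (b : (AlgSp.yon S).obj V ⟶ F) (hb : AlgSp.RepWith @Etale b)
    (hc : AlgSp.RepWith @Etale ((AlgSp.yon S).map h ≫ b)) : Etale h.left := by
  obtain ⟨UV, w, β', sq⟩ := hb.1 ((AlgSp.yon S).map h ≫ b)
  obtain ⟨β, rfl⟩ := (AlgSp.yon S).map_surjective β'
  haveI : Etale w.left := hb.2 _ _ w sq
  haveI : Etale β.left := hc.2 _ _ β sq.flip
  obtain ⟨s, hs⟩ := (AlgSp.yon S).map_surjective
    (sq.lift ((AlgSp.yon S).map h) (𝟙 _) (by rw [Category.id_comp]))
  have hs1 : s ≫ β = h := by
    apply (AlgSp.yon S).map_injective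
    rw [Functor.map_comp, hs, sq.lift_fst]
  have hs2 : s ≫ w = 𝟙 U := by
    apply (AlgSp.yon S).map_injective
    rw [Functor.map_comp, hs, sq.lift_snd, CategoryTheory.Functor.map_id]
  haveI : Etale (s.left ≫ w.left) := by
    rw [← Over.comp_left, hs2]
    exact inferInstanceAs (Etale (𝟙 U.left))
  haveI : Etale s.left := Etale.of_comp s.left w.left
  rw [← hs1, Over.comp_left]
  infer_instance

/-- an étale morphism is étale on charts. -/
lemma locP_etale_of_isEtaleMor {X Y : AlgSp.Sp S} (f : X ⟶ Y) (hf : AlgSp.IsEtaleMor f) :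
    AlgSp.LocP @Etale f := by
  intro U V a b h ha hb hcomm
  refine etale_of_comp_repWith h b hb ?_
  rw [← hcomm]
  exact hf a ha



/-- Whenever a morphism of algebraic spaces is etale, it is, etale locally on both source and target,
smooth, flat, unramified, locally quasi-finite, locally of finite type and locally of finite
presentation. -/
theorem result {S : Scheme.{u}} {X Y : AlgSp.Space S} (f : X ⟶ Y) (hf : AlgSp.IsEtaleMor f.hom) :
    AlgSp.LocP (@LocallyQuasiFinite ⊓ @LocallyOfFiniteType) f.hom ∧ AlgSp.LocP @Smooth f.hom ∧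
    AlgSp.LocP @Flat f.hom ∧ AlgSp.LocP @LocallyOfFinitePresentation f.hom ∧
    AlgSp.LocP @LocallyOfFiniteType f.hom ∧ AlgSp.LocP (@LocallyOfFiniteType ⊓ @FormallyUnramified) f.hom := by
  have key := locP_etale_of_isEtaleMor f.hom hf
  refine ⟨fun U V a b h ha hb hc => ?_, fun U V a b h ha hb hc => ?_,
    fun U V a b h ha hb hc => ?_, fun U V a b h ha hb hc => ?_, fun U V a b h ha hb hc => ?_,
    fun U V a b h ha hb hc => ?_⟩
  all_goals haveI : Etale h.left := key a b h ha hb hc
  · exact ⟨locallyQuasiFinite_of_unramified h.left, inferInstance⟩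
  · exact (inferInstance : Smooth h.left)
  · exact (inferInstance : Flat h.left)
  · exact (inferInstance : LocallyOfFinitePresentation h.left)
  · exact (inferInstance : LocallyOfFiniteType h.left)
  · exact ⟨inferInstance, inferInstance⟩

end Groth.Agent.S10265
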