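import Groth.Statements.S9961
import Mathlib
import Groth.Agent.S10262

set_option autoImplicit false
universe u
open CategoryTheory CategoryTheory.Limits AlgebraicGeometry
open AlgSp

namespace Groth.Agent.S9961


open CategoryTheory.Limits Opposite MorphismProperty

variable {S : Scheme.{u}}

/-- for a representable morphism, every chart square factors through the base change to the target
chart via an étale map. -/
lemma exists_factor_of_representable {X Y : AlgSp.Sp S} (i : X ⟶ Y) (hi : AlgSp.Representable i)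
    {U V : Over S} (a : (AlgSp.yon S).obj U ⟶ X) (b : (AlgSp.yon S).obj V ⟶ Y) (h : U ⟶ V)
    (ha : AlgSp.RepWith @Etale a) (hb : AlgSp.RepWith @Etale b)
    (hcomm : a ≫ i = (AlgSp.yon S).map h ≫ b) :
    ∃ (XV : Over S) (ι : XV ⟶ V) (b'' : (AlgSp.yon S).obj XV ⟶ X) (σ : U ⟶ XV),
      IsPullback b'' ((AlgSp.yon S).map ι) i b ∧ σ ≫ ι = h ∧ Etale σ.left := by
  obtain ⟨XV, ι, b'', sqXV⟩ := hi b
  have hb'' : AlgSp.RepWith @Etale b'' :=
    MorphismProperty.of_isPullback (P := AlgSp.RepWith @Etale) sqXV.flip hb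
  obtain ⟨σ, hσ⟩ := (AlgSp.yon S).map_surjective (sqXV.lift a ((AlgSp.yon S).map h) hcomm)
  have hσ1 : (AlgSp.yon S).map σ ≫ b'' = a := by rw [hσ, sqXV.lift_fst]
  have hσ2 : σ ≫ ι = h := by
    apply (AlgSp.yon S).map_injective
    rw [Functor.map_comp, hσ, sqXV.lift_snd]
  obtain ⟨UV, w, α', sqUV⟩ := ha.1 b''
  obtain ⟨α, rfl⟩ := (AlgSp.yon S).map_surjective α'
  haveI : Etale w.left := ha.2 _ _ w sqUV
  haveI : Etale α.left := hb''.2 _ _ α sqUV.flip
  obtain ⟨s, hs⟩ := (AlgSp.yon S).map_surjective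
    (sqUV.lift (𝟙 _) ((AlgSp.yon S).map σ) (by rw [Category.id_comp, hσ1]))
  have hs1 : s ≫ α = 𝟙 U := by
    apply (AlgSp.yon S).map_injective
    rw [Functor.map_comp, hs, sqUV.lift_fst, CategoryTheory.Functor.map_id]
  have hs2 : s ≫ w = σ := by
    apply (AlgSp.yon S).map_injective
    rw [Functor.map_comp, hs, sqUV.lift_snd]
  haveI : Etale (s.left ≫ α.left) := by
    rw [← Over.comp_left, hs1]
    exact inferInstanceAs (Etale (𝟙 U.left))
  haveI : Etale s.left := Etale.of_comp s.left α.left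
  refine ⟨XV, ι, b'', σ, sqXV, hσ2, ?_⟩
  rw [← hs2, Over.comp_left]
  infer_instance



/-- Open immersions between algebraic spaces are locally finitely presented (etale locally on source and
target). -/
theorem result {S : Scheme.{u}} {X Y : AlgSp.Space S} (f : X ⟶ Y)
    (hf : AlgSp.RepWith @IsOpenImmersion f.hom) : AlgSp.LocP @LocallyOfFinitePresentation f.hom := by
  intro U V a b h ha hb hcomm
  obtain ⟨XV, ι, b'', σ, sq, hσ, hσe⟩ := exists_factor_of_representable f.hom hf.1 a b h ha hb hcomm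
  haveI : IsOpenImmersion ι.left := hf.2 _ _ ι sq
  haveI := hσe
  have e1 : h.left = σ.left ≫ ι.left := by rw [← Over.comp_left, hσ]
  rw [e1]
  exact (inferInstance : LocallyOfFinitePresentation (σ.left ≫ ι.left))

end Groth.Agent.S9961
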