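import Groth.Statements.S9948
import Mathlib
import Groth.Agent.S9961
import Groth.Agent.S10265
import Groth.Agent.Lib.Helper12QuasiFiniteDescent
import Groth.Agent.Lib.Helper12Torsor

set_option autoImplicit false
universe u
open CategoryTheory CategoryTheory.Limits AlgebraicGeometry
open AlgSp

namespace Groth.Agent.S9948


open CategoryTheory.Limits Opposite MorphismProperty

variable {S : Scheme.{u}}

/-- for a representable morphism to an algebraic space, `LocP P` agrees with `RepWith P`, for `P`
stable under base change and composition, containing étale morphisms and descending along fppf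
covers. -/
lemma locP_iff_repWith (P : MorphismProperty Scheme.{u}) [P.IsStableUnderBaseChange]
    [P.IsStableUnderComposition] (hEt : ∀ {A B : Scheme.{u}} (g : A ⟶ B), Etale g → P g)
    [P.DescendsAlong (@Surjective ⊓ @Flat ⊓ @LocallyOfFinitePresentation)]
    {X Y : AlgSp.Sp S} (hY : AlgSp.IsAlgSpace Y) (f : X ⟶ Y) (hf : AlgSp.Representable f) :
    AlgSp.LocP P f ↔ AlgSp.RepWith P f := by
  constructor
  · intro hloc
    refine ⟨hf, fun T W g pr w sq => ?_⟩
    obtain ⟨V, q, hq, hqs⟩ := hY.atlas
    obtain ⟨XV, ι, b'', sqXV⟩ := hf q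
    have hb'' : AlgSp.RepWith @Etale b'' :=
      MorphismProperty.of_isPullback (P := AlgSp.RepWith @Etale) sqXV.flip hq
    have hι : P ι.left := hloc b'' q ι hb'' hq sqXV.w
    obtain ⟨TV, t, tV', sqT⟩ := hq.1 g
    obtain ⟨tV, rfl⟩ := (AlgSp.yon S).map_surjective tV'
    haveI : Etale t.left := hq.2 _ _ t sqT
    haveI : Surjective t.left := hqs.2 _ _ t sqT
    have sqW : IsPullback ((AlgSp.yon S).map (pullback.fst w t))
        ((AlgSp.yon S).map (pullback.snd w t)) ((AlgSp.yon S).map w) ((AlgSp.yon S).map t) :=
      (IsPullback.of_hasPullback w t).map (AlgSp.yon S)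
    have big1 := sqW.paste_horiz sq
    rw [← sqT.w] at big1
    obtain ⟨m, hm⟩ : ∃ m : (AlgSp.yon S).obj (pullback w t) ⟶ (AlgSp.yon S).obj XV,
        m = sqXV.lift ((AlgSp.yon S).map (pullback.fst w t) ≫ pr)
          ((AlgSp.yon S).map (pullback.snd w t) ≫ (AlgSp.yon S).map tV) big1.w := ⟨_, rfl⟩
    have hm1 : m ≫ b'' = (AlgSp.yon S).map (pullback.fst w t) ≫ pr := by rw [hm, sqXV.lift_fst]
    have hm2 : m ≫ (AlgSp.yon S).map ι =
        (AlgSp.yon S).map (pullback.snd w t) ≫ (AlgSp.yon S).map tV := by
      rw [hm, sqXV.lift_snd]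
    have left : IsPullback m ((AlgSp.yon S).map (pullback.snd w t)) ((AlgSp.yon S).map ι)
        ((AlgSp.yon S).map tV) := by
      refine IsPullback.of_right ?_ hm2 sqXV
      rw [hm1]
      exact big1
    have h1 : P (pullback.snd w t).left :=
      (AlgSp.repWith_yon_map_iff P _).1
        (MorphismProperty.of_isPullback (P := AlgSp.RepWith P) left
          ((AlgSp.repWith_yon_map_iff P _).2 hι))
    have hsq : IsPullback (pullback.fst w t).left (pullback.snd w t).left w.left t.left :=
      (IsPullback.of_hasPullback w t).map (Over.forget S)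
    have htQ : (@Surjective ⊓ @Flat ⊓ @LocallyOfFinitePresentation : MorphismProperty Scheme.{u})
        t.left := ⟨⟨inferInstance, inferInstance⟩, inferInstance⟩
    exact MorphismProperty.of_isPullback_of_descendsAlong (P := P)
      (Q := @Surjective ⊓ @Flat ⊓ @LocallyOfFinitePresentation) hsq.flip htQ h1
  · intro hrep U V a b h ha hb hcomm
    obtain ⟨XV, ι, b'', σ, sq, hσ, hσe⟩ :=
      Groth.Agent.S9961.exists_factor_of_representable f hf a b h ha hb hcomm
    have hι : P ι.left := hrep.2 _ _ ι sq
    have e1 : h.left = σ.left ≫ ι.left := by rw [← Over.comp_left, hσ]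
    rw [e1]
    exact P.comp_mem _ _ (hEt _ hσe) hι



/-- Representable clause, for the listed classes P: for f representable by schemes, P etale locally on
the source-and-target agrees with P in the representable sense. -/
theorem result {S : Scheme.{u}} (P : MorphismProperty Scheme.{u})
    (hP : P = @LocallyOfFiniteType ∨ P = @LocallyOfFinitePresentation ∨ P = @Flat ∨ P = @Smooth ∨ P = @Etale ∨
      (∀ ⦃A B : Scheme.{u}⦄ (g : A ⟶ B), P g ↔ (LocallyQuasiFinite g ∧ LocallyOfFiniteType g)) ∨
      (∀ ⦃A B : Scheme.{u}⦄ (g : A ⟶ B), P g ↔ (LocallyOfFiniteType g ∧ FormallyUnramified g)))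
    {X Y : AlgSp.Space S} (f : X ⟶ Y) (hf : AlgSp.Representable f.hom) :
    AlgSp.LocP P f.hom ↔ AlgSp.RepWith P f.hom := by
  rcases hP with rfl | rfl | rfl | rfl | rfl | h6 | h7
  · exact locP_iff_repWith @LocallyOfFiniteType
      (fun g hg => by haveI := hg; exact (inferInstance : LocallyOfFiniteType g)) Y.property f.hom hf
  · exact locP_iff_repWith @LocallyOfFinitePresentation
      (fun g hg => by haveI := hg; exact (inferInstance : LocallyOfFinitePresentation g))
      Y.property f.hom hf
  · haveI := Groth.Agent.Lib.Helper12.descendsAlong_flat.{u}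
    exact locP_iff_repWith @Flat
      (fun g hg => by haveI := hg; exact (inferInstance : Flat g)) Y.property f.hom hf
  · exact locP_iff_repWith @Smooth
      (fun g hg => by haveI := hg; exact (inferInstance : Smooth g)) Y.property f.hom hf
  · exact locP_iff_repWith @Etale (fun g hg => hg) Y.property f.hom hf
  · have hPeq : P = (@LocallyQuasiFinite ⊓ @LocallyOfFiniteType : MorphismProperty Scheme.{u}) := by
      ext A B g
      exact h6 g
    subst hPeq
    haveI := Groth.Agent.Lib.Helper12.descendsAlong_locallyQuasiFinite_inf_locallyOfFiniteType.{u}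
    exact locP_iff_repWith _
      (fun g hg => by
        haveI := hg
        exact ⟨Groth.Agent.S10265.locallyQuasiFinite_of_unramified g, inferInstance⟩)
      Y.property f.hom hf
  · have hPeq : P = (@LocallyOfFiniteType ⊓ @FormallyUnramified : MorphismProperty Scheme.{u}) := by
      ext A B g
      exact h7 g
    subst hPeq
    exact locP_iff_repWith _
      (fun g hg => by
        haveI := hg
        exact ⟨inferInstance, inferInstance⟩)
      Y.property f.hom hf

end Groth.Agent.S9948
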