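import Groth.Statements.S6516
import Mathlib
import Groth.Agent.Lib.Helper1FLF1
-- import your own Groth.Agent.* helpers here

set_option autoImplicit false
universe u
open CategoryTheory
open DCoh

namespace Groth.Agent.S6516

open AlgebraicGeometry CategoryTheory.Limits Groth.Agent.Lib.Helper1.FLF in
/-- a binary biproduct of finite locally free modules is finite locally free -/
theorem isFinLocFree_biprod {X : Scheme.{u}} (A B : X.Modules) (hA : FlatMod.IsFinLocFree A)
    (hB : FlatMod.IsFinLocFree B) : FlatMod.IsFinLocFree (A ⊞ B) := by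
  let Xf : WalkingPair → X.Modules := fun j => WalkingPair.casesOn j A B
  let c : Cofan Xf := (BinaryBiproduct.bicone A B).toCocone
  have hc : IsColimit c := BinaryBiproduct.isColimit A B
  refine isFinLocFree_of_isColimit_cofan Xf c hc Finset.univ
    (fun i hi => (hi (Finset.mem_univ i)).elim) (fun j => ?_)
  cases j
  · exact hA
  · exact hB

open AlgebraicGeometry in
/-- Schemes; with the bounded finite-locally-free reading of strictly perfect used throughout this
problem's derived-category definitions: the mapping cone of a morphism between strictly perfect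
complexes of O_X-modules is strictly perfect. -/
theorem result {X : Scheme.{u}} {E F : CochainComplex X.Modules ℤ} (φ : E ⟶ F)
    (hE : DCoh.IsStrictlyPerfect E) (hF : DCoh.IsStrictlyPerfect F) :
    DCoh.IsStrictlyPerfect (CochainComplex.mappingCone φ) := by
  obtain ⟨⟨a1, b1, v1⟩, f1⟩ := hE
  obtain ⟨⟨a2, b2, v2⟩, f2⟩ := hF
  have e : ∀ i : ℤ, (CochainComplex.mappingCone φ).X i ≅ E.X (i + 1) ⊞ F.X i := fun i =>
    HomologicalComplex.homotopyCofiber.XIsoBiprod φ i (i + 1) rfl
  refine ⟨⟨min (a1 - 1) a2, max (b1 - 1) b2, fun i hi => ?_⟩, fun i => ?_⟩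
  · refine Limits.IsZero.of_iso ?_ (e i)
    have h1 : Limits.IsZero (E.X (i + 1)) := v1 (i + 1) (by omega)
    have h2 : Limits.IsZero (F.X i) := v2 i (by omega)
    rw [Limits.IsZero.iff_id_eq_zero]
    apply Limits.biprod.hom_ext
    · exact h1.eq_of_tgt _ _
    · exact h2.eq_of_tgt _ _
  · exact Groth.Agent.Lib.Helper1.FLF.isFinLocFree_of_iso (e i).symm
      (isFinLocFree_biprod _ _ (f1 _) (f2 _))

end Groth.Agent.S6516
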