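import Groth.Statements.S10209
import Mathlib
import Groth.Agent.S10212

set_option autoImplicit false
universe u
open CategoryTheory CategoryTheory.Limits AlgebraicGeometry Topology TopologicalSpace
open AlgSp

namespace Groth.Agent.S10209


open CategoryTheory.Limits Opposite MorphismProperty

variable {S : Scheme.{u}}

/-- étale morphisms (from an algebraic space, to a sheaf) are stable under base change to an
algebraic space. -/
lemma isEtaleMor_of_isPullback {X Y Z P : AlgSp.Sp S} (hX : AlgSp.IsAlgSpace X)
    (hZ : AlgSp.IsAlgSpace Z) {f : X ⟶ Y} {g : Z ⟶ Y} {fst : P ⟶ Z} {snd : P ⟶ X}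
    (h : IsPullback fst snd g f) (hf : AlgSp.IsEtaleMor f) : AlgSp.IsEtaleMor fst := by
  intro W φ hφ
  obtain ⟨U, p, hp, hps⟩ := hX.atlas
  have hpf : AlgSp.RepWith @Etale (p ≫ f) := hf p hp
  have sqU := IsPullback.of_hasPullback snd p
  have hfstU : AlgSp.RepWith @Etale (pullback.fst snd p) :=
    MorphismProperty.of_isPullback (P := AlgSp.RepWith @Etale) sqU.flip hp
  have hfstUs : AlgSp.RepWith @Surjective (pullback.fst snd p) :=
    MorphismProperty.of_isPullback (P := AlgSp.RepWith @Surjective) sqU.flip hps
  have big := sqU.flip.paste_vert h.flip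
  have hbig : AlgSp.RepWith @Etale (pullback.fst snd p ≫ fst) :=
    MorphismProperty.of_isPullback (P := AlgSp.RepWith @Etale) big hpf
  obtain ⟨W1, w1, φ1, sqW⟩ := hfstU.1 φ
  haveI : Etale w1.left := hfstU.2 _ _ w1 sqW
  haveI : Surjective w1.left := hfstUs.2 _ _ w1 sqW
  have hφ1 : AlgSp.RepWith @Etale φ1 :=
    MorphismProperty.of_isPullback (P := AlgSp.RepWith @Etale) sqW.flip hφ
  refine Groth.Agent.S10212.repWith_etale_of_comp_surjective_etale w1 (φ ≫ fst)
    (hZ.representable_from_yon _) ?_
  have e1 : (AlgSp.yon S).map w1 ≫ φ ≫ fst = φ1 ≫ (pullback.fst snd p ≫ fst) := by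
    rw [← Category.assoc, ← sqW.w, Category.assoc]
  rw [e1]
  exact (AlgSp.RepWith @Etale).comp_mem _ _ hφ1 hbig



/-- Etaleness of morphisms of algebraic spaces is preserved by every base change: let f : X ⟶ Y and g :
Z ⟶ Y be morphisms of algebraic spaces over a scheme S and P an algebraic space with morphisms P ⟶ Z
and P ⟶ X making the square of underlying sheaves cartesian (P = Z ×_Y X). If f is etale (every
composite of f with a representable etale map h_U ⟶ X from a scheme U is representable etale), then
the projection P ⟶ Z is etale. -/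
theorem result {S : Scheme.{u}} {X Y Z P : AlgSp.Space S} (f : X ⟶ Y) (g : Z ⟶ Y)
    (fst : P ⟶ Z) (snd : P ⟶ X) (h : IsPullback fst.hom snd.hom g.hom f.hom) (hf : AlgSp.IsEtaleMor f.hom) :
    AlgSp.IsEtaleMor fst.hom := by
  exact isEtaleMor_of_isPullback X.property Z.property h hf

end Groth.Agent.S10209
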