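import Groth.Statements.S10210
import Mathlib
import Groth.Agent.S10209
import Groth.Agent.S10261

set_option autoImplicit false
universe u
open CategoryTheory CategoryTheory.Limits AlgebraicGeometry Topology TopologicalSpace
open AlgSp

namespace Groth.Agent.S10210


open CategoryTheory.Limits Opposite MorphismProperty

variable {S : Scheme.{u}}

lemma repWith_etale_of_isOpenImmersion {F G : AlgSp.Sp S} {f : F ⟶ G}
    (h : AlgSp.RepWith @IsOpenImmersion f) : AlgSp.RepWith @Etale f := by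
  refine ⟨h.1, fun T W g pr w sq => ?_⟩
  haveI : IsOpenImmersion w.left := h.2 g pr w sq
  change Etale w.left
  infer_instance

/-- cancellation for étale morphisms of algebraic spaces. -/
lemma isEtaleMor_of_comp {X Y Z : AlgSp.Sp S} (hX : AlgSp.IsAlgSpace X) (hY : AlgSp.IsAlgSpace Y)
    (f : X ⟶ Y) (h : Y ⟶ Z) (hg : AlgSp.IsEtaleMor (f ≫ h)) (hh : AlgSp.IsEtaleMor h) :
    AlgSp.IsEtaleMor f := by
  have hΔ : AlgSp.RepWith @IsOpenImmersion (pullback.diagonal h) :=
    Groth.Agent.S10261.repWith_isOpenImmersion_diagonal hY h hh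
  have sq := pullback_lift_diagonal_isPullback f h
  have hΓ : AlgSp.RepWith @Etale (pullback.lift (𝟙 X) f (by simp) : X ⟶ pullback (f ≫ h) h) :=
    repWith_etale_of_isOpenImmersion
      (MorphismProperty.of_isPullback (P := AlgSp.RepWith @IsOpenImmersion) sq hΔ)
  have hsnd : AlgSp.IsEtaleMor (pullback.snd (f ≫ h) h) :=
    Groth.Agent.S10209.isEtaleMor_of_isPullback hX hY (IsPullback.of_hasPullback (f ≫ h) h).flip hg
  intro W φ hφ
  have e1 : φ ≫ f = (φ ≫ (pullback.lift (𝟙 X) f (by simp) : X ⟶ pullback (f ≫ h) h)) ≫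
      pullback.snd (f ≫ h) h := by
    rw [Category.assoc, pullback.lift_snd]
  rw [e1]
  exact hsnd _ ((AlgSp.RepWith @Etale).comp_mem _ _ hφ hΓ)



/-- Let X, Y, Z be algebraic spaces over a scheme S, g : X ⟶ Z and h : Y ⟶ Z etale morphisms and f : X ⟶
Y a morphism with f ≫ h = g. Then f is etale. -/
theorem result {S : Scheme.{u}} {X Y Z : AlgSp.Space S} (f : X ⟶ Y) (h : Y ⟶ Z) (g : X ⟶ Z)
    (w : f ≫ h = g) (hg : AlgSp.IsEtaleMor g.hom) (hh : AlgSp.IsEtaleMor h.hom) :
    AlgSp.IsEtaleMor f.hom := by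
  refine isEtaleMor_of_comp X.property Y.property f.hom h.hom ?_ hh
  rw [← w] at hg
  exact hg

end Groth.Agent.S10210
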