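import Groth.Statements.S10211
import Mathlib
import Groth.Agent.S9908

set_option autoImplicit false
universe u
open CategoryTheory CategoryTheory.Limits AlgebraicGeometry Topology TopologicalSpace
open AlgSp

namespace Groth.Agent.S10211


open CategoryTheory.Limits Opposite MorphismProperty Groth.Agent.S13210

variable {S : Scheme.{u}}

lemma isOpenMap_of_comp_surjective {E Z' Z : AlgSp.Sp S} (ρ : E ⟶ Z') (snd : Z' ⟶ Z)
    (hρ : Function.Surjective (AlgSp.Points.map ρ))
    (h : IsOpenMap (AlgSp.Points.map (ρ ≫ snd))) : IsOpenMap (AlgSp.Points.map snd) := by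
  intro A hA
  have : AlgSp.Points.map snd '' A =
      AlgSp.Points.map (ρ ≫ snd) '' (AlgSp.Points.map ρ ⁻¹' A) := by
    ext z
    constructor
    · rintro ⟨a, ha, rfl⟩
      obtain ⟨e, rfl⟩ := hρ a
      exact ⟨e, ha, AlgSp.Points.map_comp ρ snd e⟩
    · rintro ⟨e, he, rfl⟩
      exact ⟨_, he, (AlgSp.Points.map_comp ρ snd e).symm⟩
  rw [this]
  exact h _ (hA.preimage (AlgSp.Points.continuous_map ρ))

lemma repWith_universallyOpen_of_etale {F G : AlgSp.Sp S} {f : F ⟶ G} (h : AlgSp.RepWith @Etale f) :
    AlgSp.RepWith @UniversallyOpen f := by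
  refine ⟨h.1, fun T W g pr w sq => ?_⟩
  haveI : Etale w.left := h.2 g pr w sq
  change UniversallyOpen w.left
  infer_instance

/-- an étale morphism from an algebraic space is open on points. -/
lemma isOpenMap_map_of_isEtaleMor {X Y : AlgSp.Sp S} (hX : AlgSp.IsAlgSpace X) (f : X ⟶ Y)
    (hf : AlgSp.IsEtaleMor f) : IsOpenMap (AlgSp.Points.map f) := by
  obtain ⟨U, q, hqe, hqs⟩ := hX.atlas
  refine isOpenMap_of_comp_surjective q f (Groth.Agent.S9906.surjective_map_of_repWith q hqs) ?_
  exact Groth.Agent.S9908.isOpenMap_map_of_repWith _ (repWith_universallyOpen_of_etale (hf q hqe))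

/-- an étale morphism from an algebraic space is universally open. -/
lemma isUnivOpenMor_of_isEtaleMor {Y' Y : AlgSp.Sp S} (hY' : AlgSp.IsAlgSpace Y') (g : Y' ⟶ Y)
    (hg : AlgSp.IsEtaleMor g) : AlgSp.IsUnivOpenMor g := by
  intro Z Z' hZ c fst snd sq
  obtain ⟨U, q, hqe, hqs⟩ := hY'.atlas
  have sqE := IsPullback.of_hasPullback fst q
  have big := sqE.flip.paste_vert sq
  have h1 : AlgSp.RepWith @Etale (pullback.fst fst q ≫ snd) :=
    MorphismProperty.of_isPullback (P := AlgSp.RepWith @Etale) big (hg q hqe)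
  have h2 : AlgSp.RepWith @Surjective (pullback.fst fst q) :=
    MorphismProperty.of_isPullback (P := AlgSp.RepWith @Surjective) sqE.flip hqs
  refine isOpenMap_of_comp_surjective (pullback.fst fst q) snd
    (Groth.Agent.S9906.surjective_map_of_repWith _ h2) ?_
  exact Groth.Agent.S9908.isOpenMap_map_of_repWith _ (repWith_universallyOpen_of_etale h1)



/-- If f : X ⟶ Y is an etale morphism of algebraic spaces over a scheme S, then the induced map of
topological spaces |X| → |Y| is open. -/
theorem result {S : Scheme.{u}} {X Y : AlgSp.Space S} (f : X ⟶ Y)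
    (hf : AlgSp.IsEtaleMor f.hom) :
    IsOpenMap (AlgSp.Points.map f.hom) := by
  exact isOpenMap_map_of_isEtaleMor X.property f.hom hf

end Groth.Agent.S10211
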