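import Groth.Statements.S10301
import Mathlib
import Groth.Agent.S9908

set_option autoImplicit false
universe u
open CategoryTheory CategoryTheory.Limits AlgebraicGeometry
open AlgSp

namespace Groth.Agent.S10301


open CategoryTheory.Limits Opposite MorphismProperty Groth.Agent.S13210 Groth.Agent.S9908

variable {S : Scheme.{u}}

/-- two `Ω`-points with the same image under a map representable by injective morphisms define the
same point. -/
lemma mk_eq_mk_of_repWith {P : MorphismProperty Scheme.{u}}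
    (hP : ∀ ⦃X Y : Scheme.{u}⦄ (g : X ⟶ Y), P g → Function.Injective g) {F G : AlgSp.Sp S}
    (f : F ⟶ G) (hf : AlgSp.RepWith P f) {Ω : Type u} [Field Ω]
    (w : Spec (CommRingCat.of Ω) ⟶ S) (π₁ π₂ : F.obj.obj (op (Over.mk w)))
    (hζ : f.hom.app _ π₁ = f.hom.app _ π₂) :
    AlgSp.Points.mk (⟨Ω, w, π₁⟩ : AlgSp.FieldPt F) = AlgSp.Points.mk ⟨Ω, w, π₂⟩ := by
  obtain ⟨W, ww, pr, sq⟩ := hf.1 ((yEquiv (Over.mk w) G).symm (f.hom.app _ π₁))
  have hinj : Function.Injective ww.left := hP _ (hf.2 _ _ ww sq)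
  have hw₁ : (yEquiv (Over.mk w) F).symm π₁ ≫ f =
      (AlgSp.yon S).map (𝟙 (Over.mk w)) ≫ (yEquiv (Over.mk w) G).symm (f.hom.app _ π₁) := by
    rw [CategoryTheory.Functor.map_id, Category.id_comp, yEquiv_symm_comp]
  have hw₂ : (yEquiv (Over.mk w) F).symm π₂ ≫ f =
      (AlgSp.yon S).map (𝟙 (Over.mk w)) ≫ (yEquiv (Over.mk w) G).symm (f.hom.app _ π₁) := by
    rw [CategoryTheory.Functor.map_id, Category.id_comp, yEquiv_symm_comp, hζ]
  obtain ⟨σ₁, hσ₁⟩ := (AlgSp.yon S).map_surjective (sq.lift _ _ hw₁)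
  obtain ⟨σ₂, hσ₂⟩ := (AlgSp.yon S).map_surjective (sq.lift _ _ hw₂)
  have hs₁ : σ₁ ≫ ww = 𝟙 _ :=
    (AlgSp.yon S).map_injective (by rw [CategoryTheory.Functor.map_comp, hσ₁, sq.lift_snd])
  have hs₂ : σ₂ ≫ ww = 𝟙 _ :=
    (AlgSp.yon S).map_injective (by rw [CategoryTheory.Functor.map_comp, hσ₂, sq.lift_snd])
  have hpt : σ₁.left (IsLocalRing.closedPoint Ω) = σ₂.left (IsLocalRing.closedPoint Ω) := by
    apply hinj
    rw [← Scheme.Hom.comp_apply, ← Scheme.Hom.comp_apply, ← Over.comp_left, ← Over.comp_left,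
      hs₁, hs₂]
  have key : ∀ (σ : Over.mk w ⟶ W), AlgSp.Points.ofPt pr (σ.left (IsLocalRing.closedPoint Ω)) =
      AlgSp.Points.mk (⟨Ω, w, yEquiv (Over.mk w) F ((AlgSp.yon S).map σ ≫ pr)⟩ : AlgSp.FieldPt F) := by
    intro σ
    rw [← Groth.Agent.S10176.ofPt_map_comp]
    have := Groth.Agent.S10177.ofPt_closedPoint
      (⟨Ω, w, yEquiv (Over.mk w) F ((AlgSp.yon S).map σ ≫ pr)⟩ : AlgSp.FieldPt F)
    rw [← this]
    congr 1
    exact ((yEquiv (Over.mk w) F).symm_apply_apply _).symm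
  have e₁ := key σ₁
  have e₂ := key σ₂
  rw [hσ₁, sq.lift_fst, Equiv.apply_symm_apply] at e₁
  rw [hσ₂, sq.lift_fst, Equiv.apply_symm_apply] at e₂
  rw [← e₁, ← e₂, hpt]

/-- a map of sheaves representable by injective morphisms of schemes is injective on points. -/
lemma injective_map_of_repWith {P : MorphismProperty Scheme.{u}}
    (hP : ∀ ⦃X Y : Scheme.{u}⦄ (g : X ⟶ Y), P g → Function.Injective g) {F G : AlgSp.Sp S}
    (f : F ⟶ G) (hf : AlgSp.RepWith P f) : Function.Injective (AlgSp.Points.map f) := by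
  intro p₁ p₂ h
  induction p₁ using AlgSp.Points.ind with | h q₁ => ?_
  induction p₂ using AlgSp.Points.ind with | h q₂ => ?_
  obtain ⟨Ω, _, w, a₁, a₂, hab⟩ := AlgSp.Points.mk_eq_mk_iff.1 h
  have h1 := NatTrans.naturality_apply f.hom a₁.op q₁.val
  have h2 := NatTrans.naturality_apply f.hom a₂.op q₂.val
  have hζ : f.hom.app _ (F.obj.map a₁.op q₁.val) = f.hom.app _ (F.obj.map a₂.op q₂.val) := by
    rw [h1, h2]; exact hab
  rw [← Groth.Agent.S10175.mk_restrict q₁ w a₁, ← Groth.Agent.S10175.mk_restrict q₂ w a₂]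
  exact mk_eq_mk_of_repWith hP f hf w _ _ hζ

lemma isUnivHomeo_isHomeomorph {X Y : Scheme.{u}} (f : X ⟶ Y) (h : FlatMor.IsUnivHomeo f) :
    IsHomeomorph f := h _ _ _ IsPullback.of_id_snd

lemma isUnivHomeo_le_universallyOpen : FlatMor.IsUnivHomeo.{u} ≤ @UniversallyOpen := by
  intro X Y f h
  rw [UniversallyOpen.eq]
  intro X' Y' i₁ i₂ f' hpb
  exact (h _ _ _ hpb).isOpenMap

/-- a map representable by universal homeomorphisms is a homeomorphism on points. -/
lemma isHomeomorph_map_of_repWith {F G : AlgSp.Sp S} (f : F ⟶ G)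
    (hf : AlgSp.RepWith FlatMor.IsUnivHomeo f) : IsHomeomorph (AlgSp.Points.map f) := by
  refine ⟨AlgSp.Points.continuous_map f, ?_, ?_, ?_⟩
  · refine isOpenMap_map_of_repWith f ⟨hf.1, fun T W g pr w sq => ?_⟩
    exact isUnivHomeo_le_universallyOpen _ (hf.2 g pr w sq)
  · exact injective_map_of_repWith (P := FlatMor.IsUnivHomeo)
      (fun X Y g hg => (isUnivHomeo_isHomeomorph g hg).injective) f hf
  · refine Groth.Agent.S9906.surjective_map_of_repWith f ⟨hf.1, fun T W g pr w sq => ?_⟩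
    exact ⟨(isUnivHomeo_isHomeomorph _ (hf.2 g pr w sq)).surjective⟩

lemma isHomeomorph_left_of_points {T T' : Over S} (φ : T ⟶ T')
    (h : IsHomeomorph (AlgSp.Points.map ((AlgSp.yon S).map φ))) : IsHomeomorph φ.left := by
  have := (AlgSp.Points.schemeHomeo T').symm.isHomeomorph.comp (h.comp
    (AlgSp.Points.schemeHomeo T).isHomeomorph)
  rw [← left_eq_conj] at this
  exact this

lemma repWith_isUnivHomeo_of_isUnivHomeoMor {F G : AlgSp.Sp S} (f : F ⟶ G)
    (hf : AlgSp.Representable f) (h : AlgSp.IsUnivHomeoMor f) :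
    AlgSp.RepWith FlatMor.IsUnivHomeo f := by
  refine ⟨hf, ?_⟩
  intro T W g pr w sq
  change FlatMor.IsUnivHomeo w.left
  intro X' Y' i₁ i₂ f' hpb
  have sq' := isPullback_yon_of_isPullback sq i₁ i₂ f' hpb
  have hq := h (AlgSp.IsAlgSpace.yon_obj _) _ _ _ sq'
  exact isHomeomorph_left_of_points _ hq



/-- For a representable morphism of algebraic spaces, being a universal homeomorphism in the
representable sense agrees with inducing homeomorphisms on points after every base change. -/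
theorem result {S : Scheme.{u}} {X Y : AlgSp.Space S} (f : X ⟶ Y)
    (hf : AlgSp.Representable f.hom) :
    AlgSp.RepWith FlatMor.IsUnivHomeo f.hom ↔ AlgSp.IsUnivHomeoMor f.hom := by
  constructor
  · intro h Z Z' hZ g fst snd sq
    exact isHomeomorph_map_of_repWith snd
      (MorphismProperty.of_isPullback (P := AlgSp.RepWith FlatMor.IsUnivHomeo) sq h)
  · intro h
    exact repWith_isUnivHomeo_of_isUnivHomeoMor f.hom hf h

end Groth.Agent.S10301
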