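import Groth.Statements.S9937
import Mathlib
import Groth.Agent.S9928

set_option autoImplicit false
universe u
open CategoryTheory CategoryTheory.Limits AlgebraicGeometry
open AlgSp

namespace Groth.Agent.S9937


open CategoryTheory.Limits MorphismProperty

/-- isomorphisms of sheaves are representable with any property containing isomorphisms. -/
lemma repWith_of_isIso {S : Scheme.{u}} (P : MorphismProperty Scheme.{u}) [P.ContainsIdentities]
    [P.RespectsIso] {F G : AlgSp.Sp S} (f : F ⟶ G) [IsIso f] : AlgSp.RepWith P f := by
  refine ⟨Functor.relativelyRepresentable.of_isIso _ f, fun U V g fst snd sq => ?_⟩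
  haveI : IsIso ((AlgSp.yon S).map snd) := sq.isIso_snd_of_isIso
  haveI : IsIso snd := isIso_of_fully_faithful (AlgSp.yon S) snd
  haveI : IsIso snd.left := inferInstanceAs (IsIso ((Over.forget S).map snd))
  exact P.of_isIso snd.left



/-- Closed immersions between algebraic spaces are separated morphisms. -/
theorem result {S : Scheme.{u}} {X Y : AlgSp.Space S} (f : X ⟶ Y)
    (hf : AlgSp.RepWith @IsClosedImmersion f.hom) : AlgSp.IsSeparatedMor f.hom := by
  haveI : Mono f.hom := S9928.mono_of_repWith @IsClosedImmersion (fun X Y g hg => by
    haveI : IsClosedImmersion g := hg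
    infer_instance) f.hom hf
  haveI : IsIso (pullback.diagonal f.hom) := (pullback.isIso_diagonal_iff f.hom).2 inferInstance
  exact repWith_of_isIso @IsClosedImmersion (pullback.diagonal f.hom)

end Groth.Agent.S9937
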