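import Groth.Statements.S10580
import Mathlib
import Groth.Agent.Lib.Helper12SrcLocalCov

set_option autoImplicit false
universe u
open CategoryTheory CategoryTheory.Limits AlgebraicGeometry
open AlgSp

namespace Groth.Agent.S10580


open Groth.Agent.Lib.Helper12.SrcLocal MorphismProperty

/-- generic form for jointly surjective coverings by morphisms in a class `Qs`. -/
lemma isLocalOnSource_of_precoverage {S : Scheme.{u}} (P Qs : MorphismProperty Scheme.{u})
    [Qs.IsStableUnderBaseChange] [Qs.IsStableUnderComposition]
    (hop : ∀ {A B : Scheme.{u}} (j : A ⟶ B), IsOpenImmersion j → Qs j)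
    (hEt : ∀ {A B : Scheme.{u}} (e : A ⟶ B), Etale e → Qs e)
    (Pc : MorphismProperty (AlgSp.Sp S))
    (hPc : ∀ ⦃X' X : AlgSp.Sp S⦄ (g : X' ⟶ X), Pc g → AlgSp.LocP Qs g)
    [P.IsLocalAtSource (Scheme.precoverage Qs)] :
    AlgSp.IsLocalOnSource (fun _ _ Y g => AlgSp.IsCover Pc Y g) (AlgSp.LocP P) := by
  haveI : Qs.ContainsIdentities := ⟨fun X => hop (𝟙 X) inferInstance⟩
  haveI : Qs.IsMultiplicative := {}
  intro ι X Xi g hX hXi hcov Y f hY
  constructor
  · intro hf i
    exact locP_comp_of_isLocalAtSource P Qs (Scheme.precoverage Qs)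
      (fun m r hr h => cancel_etale Qs hop m r hr h)
      (fun m hm => exists_mem_precoverage Qs m hm)
      (fun e he hes => (Scheme.singleton_mem_precoverage_iff Qs e).mpr ⟨e.surjective, hEt e he⟩)
      hX (g i) f (hPc _ (hcov.1 i)) hf
  · intro h
    exact locP_of_chartData P Qs (Scheme.precoverage Qs) Xi g (fun i => hPc _ (hcov.1 i))
      (fun a ha D hQe => (Scheme.ofArrows_mem_precoverage_iff Qs).mpr
        ⟨D.jointly_surjective hcov.2, hQe⟩)
      (fun a => exists_chartData hX Xi hXi g a) f h

/-- the fpqc case. -/
lemma isLocalOnSource_fpqc {S : Scheme.{u}} (P : MorphismProperty Scheme.{u})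
    [P.IsLocalAtSource Scheme.fpqcPrecoverage] :
    AlgSp.IsLocalOnSource (AlgSp.IsFpqcCover (S := S)) (AlgSp.LocP P) := by
  intro ι X Xi g hX hXi hcov Y f hY
  constructor
  · intro hf i
    exact locP_comp_of_isLocalAtSource P @Flat Scheme.fpqcPrecoverage
      (fun m r hr h => cancel_etale @Flat (fun j hj => inferInstance) m r hr h)
      (fun m hm => exists_mem_fpqc m hm)
      (fun e he hes => Scheme.fppfPrecoverage_le_fpqcPrecoverage _
        ((Scheme.singleton_mem_precoverage_iff _ e).mpr ⟨e.surjective, inferInstance, inferInstance⟩))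
      hX (g i) f (hcov.1 i) hf
  · intro h
    exact locP_of_chartData P @Flat Scheme.fpqcPrecoverage Xi g hcov.1
      (fun a ha D hQe => D.mem_fpqc hcov.2 hQe)
      (fun a => exists_chartData hX Xi hXi g a) f h



/-- Let P be a property of morphisms of schemes and P_spaces the induced property of morphisms of
algebraic spaces over S (P on every etale chart diagram). For τ one of fpqc, fppf, smooth, etale: if
P is τ local on the source for morphisms of schemes, then P_spaces is τ local on the source for
morphisms of algebraic spaces. (The published statement assumes P etale local on the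
source-and-target, which is what makes the chart-wise property the right notion; the implication
itself holds for every P and is stated that way. The syntomic case is not included. τ-locality on
the source for schemes is taken in the form that includes invariance of P under isomorphisms, which
the published definition requires implicitly.) -/
theorem result (S : Scheme.{u}) (P : MorphismProperty Scheme.{u}) :
    (P.IsLocalAtSource Scheme.fpqcPrecoverage → AlgSp.IsLocalOnSource (AlgSp.IsFpqcCover (S := S)) (AlgSp.LocP P)) ∧
    (P.IsLocalAtSource Scheme.fppfPrecoverage → AlgSp.IsLocalOnSource (AlgSp.IsFppfCover (S := S)) (AlgSp.LocP P)) ∧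
    (P.IsLocalAtSource (Scheme.precoverage @Smooth) → AlgSp.IsLocalOnSource (AlgSp.IsSmCover (S := S)) (AlgSp.LocP P)) ∧
    (P.IsLocalAtSource Scheme.etalePrecoverage → AlgSp.IsLocalOnSource (AlgSp.IsEtCover (S := S)) (AlgSp.LocP P)) := by
  refine ⟨fun hP => ?_, fun hP => ?_, fun hP => ?_, fun hP => ?_⟩
  · exact isLocalOnSource_fpqc P
  · haveI : P.IsLocalAtSource (Scheme.precoverage (@Flat ⊓ @LocallyOfFinitePresentation)) := hP
    exact isLocalOnSource_of_precoverage P (@Flat ⊓ @LocallyOfFinitePresentation)
      (fun j hj => ⟨inferInstance, inferInstance⟩) (fun e he => ⟨inferInstance, inferInstance⟩)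
      (fun _ _ f => AlgSp.LocP @Flat f ∧ AlgSp.LocP @LocallyOfFinitePresentation f)
      (fun X' X g hg U V a b h ha hb hc => ⟨hg.1 a b h ha hb hc, hg.2 a b h ha hb hc⟩)
  · exact isLocalOnSource_of_precoverage P @Smooth
      (fun j hj => inferInstance) (fun e he => inferInstance)
      (AlgSp.LocP @Smooth) (fun X' X g hg => hg)
  · haveI : P.IsLocalAtSource (Scheme.precoverage @Etale) := hP
    exact isLocalOnSource_of_precoverage P @Etale
      (fun j hj => inferInstance) (fun e he => he)
      AlgSp.IsEtaleMor (fun X' X g hg => locP_etale_of_isEtaleMor g hg)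

end Groth.Agent.S10580
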