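import Groth.Statements.S1179
import Groth.Agent.Lib.Helper20EtSrc

set_option autoImplicit false
open CategoryTheory CategoryTheory.Limits AlgebraicGeometry Opposite
universe u
open Desc

namespace Groth.Agent.S1179

/-- Let f : X' ⟶ X be etale and surjective and g : X ⟶ Y a morphism. If f ≫ g is locally quasi-finite,
then g is locally quasi-finite; with stability under precomposition by etale maps this says that
local quasi-finiteness is etale local on the source. -/
theorem result {X' X Y : Scheme.{u}} (f : X' ⟶ X) (g : X ⟶ Y) [Etale f] [Surjective f]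
    [LocallyQuasiFinite (f ≫ g)] [LocallyOfFiniteType (f ≫ g)] : LocallyQuasiFinite g ∧ LocallyOfFiniteType g := by
  have hft : LocallyOfFiniteType g :=
    Groth.Agent.Lib.Helper20.EtSrc.locallyOfFiniteType_of_etale_cover_source f g
  refine ⟨?_, hft⟩
  rw [locallyQuasiFinite_iff_isDiscrete_preimage_singleton]
  intro y
  have hd : _root_.IsDiscrete ((f ≫ g) ⁻¹' {y}) := (f ≫ g).isDiscrete_preimage_singleton y
  have hpre : (f ≫ g) ⁻¹' {y} = f ⁻¹' (g ⁻¹' {y}) := by
    ext z; simp
  rw [hpre] at hd
  rw [isDiscrete_iff_discreteTopology] at hd ⊢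
  rw [discreteTopology_iff_isOpen_singleton]
  intro t
  have hopen : IsOpenMap ((g ⁻¹' {y}).restrictPreimage f) := f.isOpenMap.restrictPreimage _
  have hsurj : Function.Surjective ((g ⁻¹' {y}).restrictPreimage f) :=
    Set.restrictPreimage_surjective _ f.surjective
  have h1 : IsOpen (((g ⁻¹' {y}).restrictPreimage f) ⁻¹' {t}) := isOpen_discrete _
  have := hopen _ h1
  rwa [Set.image_preimage_eq _ hsurj] at this

end Groth.Agent.S1179
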