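import Groth.Statements.S10555
import Mathlib
import Groth.Agent.S10580
import Groth.Agent.S1179
import Groth.Agent.Lib.Helper12EtSrcLocal

set_option autoImplicit false
universe u
open CategoryTheory CategoryTheory.Limits AlgebraicGeometry
open AlgSp

namespace Groth.Agent.S10555


open MorphismProperty

lemma lqf_of_etale {X Y : Scheme.{u}} (f : X ⟶ Y) [Etale f] : LocallyQuasiFinite f := by
  constructor
  intro U hU V hV e
  have h1 : (f.appLE U V e).hom.FiniteType :=
    HasRingHomProperty.appLE (P := @LocallyOfFiniteType) f inferInstance ⟨U, hU⟩ ⟨V, hV⟩ e
  have h2 : (f.appLE U V e).hom.FormallyUnramified :=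
    HasRingHomProperty.appLE (P := @FormallyUnramified) f inferInstance ⟨U, hU⟩ ⟨V, hV⟩ e
  algebraize [(f.appLE U V e).hom]
  rw [← RingHom.algebraMap_toAlgebra (f.appLE U V e).hom, RingHom.quasiFinite_algebraMap]
  infer_instance

/-- locally quasi-finite (and locally of finite type) is étale local on the source. -/
lemma lqf_isLocalAtSource_etale :
    MorphismProperty.IsLocalAtSource
      (@LocallyQuasiFinite ⊓ @LocallyOfFiniteType : MorphismProperty Scheme.{u})
      Scheme.etalePrecoverage :=
  Groth.Agent.Lib.Helper12.EtSrcLocal.isLocalAtSource_etale_of_single _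
    (fun e k he hk => by
      haveI := he
      haveI := hk.1
      haveI := hk.2
      haveI := lqf_of_etale e
      exact ⟨inferInstance, inferInstance⟩)
    (fun e k he hs h => by
      haveI := he
      haveI := hs
      haveI := h.1
      haveI := h.2
      exact Groth.Agent.S1179.result e k)



/-- The property of morphisms of algebraic spaces over S given by f is locally quasi-finite (locally
quasi-finite and locally of finite type on etale charts) is etale local on the source: for a
morphism f : X ⟶ Y of algebraic spaces and a etale covering of X by algebraic spaces X_i, f has the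
property if and only if every composite X_i ⟶ X ⟶ Y has it. -/
theorem result (S : Scheme.{u}) :
    AlgSp.IsLocalOnSource (AlgSp.IsEtCover (S := S)) (AlgSp.LocP (@LocallyQuasiFinite ⊓ @LocallyOfFiniteType)) := by
  exact (Groth.Agent.S10580.result S _).2.2.2 lqf_isLocalAtSource_etale

end Groth.Agent.S10555
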