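import Groth.Statements.S10556
import Mathlib
import Groth.Agent.S10580
import Groth.Agent.S1180
import Groth.Agent.Lib.Helper12EtSrcLocal

set_option autoImplicit false
universe u
open CategoryTheory CategoryTheory.Limits AlgebraicGeometry
open AlgSp

namespace Groth.Agent.S10556


open MorphismProperty

/-- unramified (locally of finite type and formally unramified) is étale local on the source. -/
lemma unram_isLocalAtSource_etale :
    MorphismProperty.IsLocalAtSource
      (@LocallyOfFiniteType ⊓ @FormallyUnramified : MorphismProperty Scheme.{u})
      Scheme.etalePrecoverage :=
  Groth.Agent.Lib.Helper12.EtSrcLocal.isLocalAtSource_etale_of_single _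
    (fun e k he hk => by
      haveI := he
      haveI := hk.1
      haveI := hk.2
      exact ⟨inferInstance, MorphismProperty.comp_mem (@FormallyUnramified) e k inferInstance hk.2⟩)
    (fun e k he hs h => by
      haveI := he
      haveI := hs
      haveI := h.1
      haveI := h.2
      exact ⟨(Groth.Agent.S1180.result e k).2, (Groth.Agent.S1180.result e k).1⟩)



/-- The property of morphisms of algebraic spaces over S given by f is unramified (locally of finite
type and formally unramified on etale charts) is etale local on the source: for a morphism f : X ⟶ Y
of algebraic spaces and a etale covering of X by algebraic spaces X_i, f has the property if and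
only if every composite X_i ⟶ X ⟶ Y has it. -/
theorem result (S : Scheme.{u}) :
    AlgSp.IsLocalOnSource (AlgSp.IsEtCover (S := S)) (AlgSp.LocP (@LocallyOfFiniteType ⊓ @FormallyUnramified)) := by
  exact (Groth.Agent.S10580.result S _).2.2.2 unram_isLocalAtSource_etale

end Groth.Agent.S10556
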