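import Groth.Statements.S9947
import Mathlib
import Groth.Agent.S9950
import Groth.Agent.S10555
import Groth.Agent.S10556
import Groth.Agent.S1179
import Groth.Agent.S1180
import Groth.Agent.Lib.Helper12LocPGen
import Groth.Agent.Lib.Helper12SrcLocal
import Groth.Agent.Lib.Helper12SrcLocalCov
import Groth.Agent.Lib.Helper12SmoothSrc
import Groth.Agent.Lib.Helper12FPDescent
import Groth.Agent.Lib.Helper12Flat
import Groth.Agent.Lib.Helper12EtSrc

set_option autoImplicit false
universe u
open CategoryTheory CategoryTheory.Limits AlgebraicGeometry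
open AlgSp

namespace Groth.Agent.S9947


open MorphismProperty in
/-- a representable étale morphism has `P` on all chart diagrams when étale morphisms of schemes
have `P`. -/
lemma locP_of_repWith_etale {S : Scheme.{u}} (P : MorphismProperty Scheme.{u})
    (hEt : ∀ {A B : Scheme.{u}} (g : A ⟶ B), Etale g → P g)
    {X Y : AlgSp.Sp S} (b : X ⟶ Y) (hb : AlgSp.RepWith @Etale b) : AlgSp.LocP P b := by
  have hbe : AlgSp.IsEtaleMor b := fun U φ hφ => (AlgSp.RepWith @Etale).comp_mem _ _ hφ hb
  intro U V a c h ha hc hcomm
  exact hEt _ (Groth.Agent.Lib.Helper12.SrcLocal.locP_etale_of_isEtaleMor b hbe a c h ha hc hcomm)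

/-- one chart diagram with surjective étale source chart suffices. -/
lemma locP_of_chart {S : Scheme.{u}} (P : MorphismProperty Scheme.{u}) [P.IsStableUnderComposition]
    (hEt : ∀ {A B : Scheme.{u}} (g : A ⟶ B), Etale g → P g)
    (hsrc : ∀ {A B C : Scheme.{u}} (e : A ⟶ B) (k : B ⟶ C) [Etale e] [Surjective e],
      P (e ≫ k) → P k)
    (hcancel : ∀ {A B C : Scheme.{u}} (u : A ⟶ B) (k : B ⟶ C), Etale k → P (u ≫ k) → P u)
    {X Y : AlgSp.Sp S} (hY : AlgSp.IsAlgSpace Y) (f : X ⟶ Y) {U V : Over S}
    (a : (AlgSp.yon S).obj U ⟶ X) (b : (AlgSp.yon S).obj V ⟶ Y) (h : U ⟶ V)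
    (ha : AlgSp.RepWith @Etale a) (has : AlgSp.RepWith @Surjective a)
    (hb : AlgSp.RepWith @Etale b) (comm : a ≫ f = (AlgSp.yon S).map h ≫ b) (hh : P h.left) :
    AlgSp.LocP P f := by
  refine Groth.Agent.S9950.locP_of_source_cover P hsrc f a ha has ?_
  rw [comm]
  exact Groth.Agent.Lib.Helper12.LocPGen.locP_comp P hsrc (AlgSp.IsAlgSpace.yon_obj V) hY _ _
    (Groth.Agent.Lib.Helper12.LocPGen.locP_yon_map_of P hEt hcancel h hh)
    (locP_of_repWith_etale P hEt b hb)

/-- cancellation along étale morphisms from the open-immersion case. -/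
lemma cancel_of_open {P : MorphismProperty Scheme.{u}} [P.IsStableUnderBaseChange]
    [P.IsStableUnderComposition] (hid : ∀ X : Scheme.{u}, P (𝟙 X))
    (hop : ∀ {A B : Scheme.{u}} (j : A ⟶ B), IsOpenImmersion j → P j)
    {A B C : Scheme.{u}} (m : A ⟶ B) (r : B ⟶ C) (hr : Etale r) (h : P (m ≫ r)) : P m := by
  haveI : MorphismProperty.ContainsIdentities P := ⟨hid⟩
  haveI : MorphismProperty.IsMultiplicative P := {}
  exact Groth.Agent.Lib.Helper12.SrcLocal.cancel_etale P hop m r hr h



/-- (2) ⇒ (1): if one chart diagram of f : X -> Y with surjective etale source chart has top arrow in P,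
then every chart diagram of f does. -/
theorem result {S : Scheme.{u}} (P : MorphismProperty Scheme.{u})
    (hP : P = @LocallyOfFiniteType ∨ P = @LocallyOfFinitePresentation ∨ P = @Flat ∨ P = @Smooth ∨ P = @Etale ∨
      (∀ ⦃A B : Scheme.{u}⦄ (g : A ⟶ B), P g ↔ (LocallyQuasiFinite g ∧ LocallyOfFiniteType g)) ∨
      (∀ ⦃A B : Scheme.{u}⦄ (g : A ⟶ B), P g ↔ (LocallyOfFiniteType g ∧ FormallyUnramified g)))
    {X Y : AlgSp.Space S} (f : X ⟶ Y) {U V : Over S} (a : (AlgSp.yon S).obj U ⟶ X.obj)
    (b : (AlgSp.yon S).obj V ⟶ Y.obj) (h : U ⟶ V) (ha : AlgSp.RepWith @Etale a) (has : AlgSp.RepWith @Surjective a)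
    (hb : AlgSp.RepWith @Etale b) (comm : a ≫ f.hom = (AlgSp.yon S).map h ≫ b) (hh : P h.left) :
    AlgSp.LocP P f.hom := by
  rcases hP with rfl | rfl | rfl | rfl | rfl | h6 | h7
  · refine locP_of_chart @LocallyOfFiniteType
      (fun g hg => by haveI := hg; exact (inferInstance : LocallyOfFiniteType g))
      (fun e k _ _ hek => by
        haveI : LocallyOfFiniteType (e ≫ k) := hek
        exact Groth.Agent.Lib.Helper20.EtSrc.locallyOfFiniteType_of_etale_cover_source e k)
      (fun u k hk hu => cancel_of_open (P := @LocallyOfFiniteType) (fun X => (inferInstance : LocallyOfFiniteType (𝟙 X)))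
        (fun j hj => by haveI := hj; infer_instance) u k hk hu)
      Y.property f.hom a b h ha has hb comm hh
  · refine locP_of_chart @LocallyOfFinitePresentation
      (fun g hg => by haveI := hg; exact (inferInstance : LocallyOfFinitePresentation g))
      (fun e k _ _ hek => by
        haveI : LocallyOfFinitePresentation (e ≫ k) := hek
        exact Groth.Agent.Lib.Helper12.FPDescent.locallyOfFinitePresentation_of_etale_cover_source e k)
      (fun u k hk hu => cancel_of_open (P := @LocallyOfFinitePresentation) (fun X => (inferInstance : LocallyOfFinitePresentation (𝟙 X)))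
        (fun j hj => by haveI := hj; infer_instance) u k hk hu)
      Y.property f.hom a b h ha has hb comm hh
  · refine locP_of_chart @Flat
      (fun g hg => by haveI := hg; exact (inferInstance : Flat g))
      (fun e k _ _ hek => by
        haveI : Flat (e ≫ k) := hek
        exact Groth.Agent.Lib.Helper12.flat_of_comp_of_flat_of_surjective e k)
      (fun u k hk hu => cancel_of_open (P := @Flat) (fun X => (inferInstance : Flat (𝟙 X)))
        (fun j hj => by haveI := hj; infer_instance) u k hk hu)
      Y.property f.hom a b h ha has hb comm hh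
  · refine locP_of_chart @Smooth
      (fun g hg => by haveI := hg; exact (inferInstance : Smooth g))
      (fun e k _ _ hek => by
        haveI : Smooth (e ≫ k) := hek
        exact Groth.Agent.Lib.Helper12.SmoothSrc.smooth_of_etale_cover_source e k)
      (fun u k hk hu => cancel_of_open (P := @Smooth) (fun X => (inferInstance : Smooth (𝟙 X)))
        (fun j hj => by haveI := hj; infer_instance) u k hk hu)
      Y.property f.hom a b h ha has hb comm hh
  · refine locP_of_chart @Etale
      (fun g hg => hg)
      (fun e k _ _ hek => by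
        haveI : Etale (e ≫ k) := hek
        exact Groth.Agent.Lib.Helper12.EtSrc.etale_of_etale_cover_source e k)
      (fun u k hk hu => cancel_of_open (P := @Etale) (fun X => (inferInstance : Etale (𝟙 X)))
        (fun j hj => by haveI := hj; infer_instance) u k hk hu)
      Y.property f.hom a b h ha has hb comm hh
  · have hPeq : P = (@LocallyQuasiFinite ⊓ @LocallyOfFiniteType : MorphismProperty Scheme.{u}) := by
      ext A B g
      exact h6 g
    subst hPeq
    refine locP_of_chart _
      (fun g hg => by
        haveI := hg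
        exact ⟨Groth.Agent.S10555.lqf_of_etale g, inferInstance⟩)
      (fun e k _ _ hek => by
        haveI := hek.1
        haveI := hek.2
        exact Groth.Agent.S1179.result e k)
      (fun u k hk hu => cancel_of_open (fun X => ⟨inferInstance, inferInstance⟩)
        (fun j hj => by
          haveI := hj
          exact ⟨Groth.Agent.S10555.lqf_of_etale j, inferInstance⟩) u k hk hu)
      Y.property f.hom a b h ha has hb comm hh
  · have hPeq : P = (@LocallyOfFiniteType ⊓ @FormallyUnramified : MorphismProperty Scheme.{u}) := by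
      ext A B g
      exact h7 g
    subst hPeq
    refine locP_of_chart _
      (fun g hg => by
        haveI := hg
        exact ⟨inferInstance, inferInstance⟩)
      (fun e k _ _ hek => by
        haveI := hek.1
        haveI := hek.2
        exact ⟨(Groth.Agent.S1180.result e k).2, (Groth.Agent.S1180.result e k).1⟩)
      (fun u k hk hu => cancel_of_open (fun X => ⟨inferInstance, inferInstance⟩)
        (fun j hj => by
          haveI := hj
          exact ⟨inferInstance, inferInstance⟩) u k hk hu)
      Y.property f.hom a b h ha has hb comm hh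

end Groth.Agent.S9947
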