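import Groth.Statements.S9962
import Mathlib
import Groth.Agent.S10211
import Groth.Agent.S9874

set_option autoImplicit false
universe u
open CategoryTheory CategoryTheory.Limits AlgebraicGeometry
open AlgSp

namespace Groth.Agent.S9962


open CategoryTheory.Limits Opposite MorphismProperty

variable {S : Scheme.{u}}

/-- openness on points can be checked after base change along a surjective étale morphism. -/
lemma isOpenMap_of_isPullback_cover {Z' Z Z1 E : AlgSp.Sp S} (snd : Z' ⟶ Z) (r : Z1 ⟶ Z)
    (hr : AlgSp.RepWith @Etale r) (hrs : AlgSp.RepWith @Surjective r) (ρ : E ⟶ Z') (e : E ⟶ Z1)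
    (sqE : IsPullback ρ e snd r) (h : IsOpenMap (AlgSp.Points.map e)) :
    IsOpenMap (AlgSp.Points.map snd) := by
  have hρs : AlgSp.RepWith @Surjective ρ :=
    MorphismProperty.of_isPullback (P := AlgSp.RepWith @Surjective) sqE.flip hrs
  refine Groth.Agent.S10211.isOpenMap_of_comp_surjective ρ snd
    (Groth.Agent.S9906.surjective_map_of_repWith _ hρs) ?_
  rw [sqE.w]
  have hro : IsOpenMap (AlgSp.Points.map r) :=
    Groth.Agent.S9908.isOpenMap_map_of_repWith _
      (Groth.Agent.S10211.repWith_universallyOpen_of_etale hr)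
  have : AlgSp.Points.map (e ≫ r) = AlgSp.Points.map r ∘ AlgSp.Points.map e := by
    funext x
    exact AlgSp.Points.map_comp e r x
  rw [this]
  exact hro.comp h

/-- a morphism which is flat and locally of finite presentation on charts is universally open. -/
lemma isUnivOpenMor_of_flat_lfp {X Y : AlgSp.Sp S} (hX : AlgSp.IsAlgSpace X)
    (hY : AlgSp.IsAlgSpace Y) (f : X ⟶ Y) (hfl : AlgSp.LocP @Flat f)
    (hfp : AlgSp.LocP @LocallyOfFinitePresentation f) : AlgSp.IsUnivOpenMor f := by
  intro Z Z' hZ g fst snd sq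
  obtain ⟨W, r, hr, hrs⟩ := hZ.atlas
  obtain ⟨V, q, hq, hqs⟩ := hY.atlas
  -- first reduction: to the atlas of `Z`
  have sqE1 := IsPullback.of_hasPullback snd r
  refine isOpenMap_of_isPullback_cover snd r hr hrs _ _ sqE1 ?_
  have big1 := sqE1.paste_horiz sq
  -- second reduction: lift to `V`
  obtain ⟨WV, wv, wV', sqWV⟩ := hq.1 (r ≫ g)
  obtain ⟨wV, rfl⟩ := (AlgSp.yon S).map_surjective wV'
  haveI : Etale wv.left := hq.2 _ _ wv sqWV
  haveI : Surjective wv.left := hqs.2 _ _ wv sqWV
  have sqE2 := IsPullback.of_hasPullback (pullback.snd snd r) ((AlgSp.yon S).map wv)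
  refine isOpenMap_of_isPullback_cover (pullback.snd snd r) ((AlgSp.yon S).map wv)
    ((AlgSp.repWith_yon_map_iff _ _).2 inferInstance)
    ((AlgSp.repWith_yon_map_iff _ _).2 inferInstance) _ _ sqE2 ?_
  have big2 := sqE2.paste_horiz big1
  rw [← sqWV.w] at big2
  -- the base change of `f` to `V`
  have sqXV := IsPullback.of_hasPullback f q
  have hXV : AlgSp.IsAlgSpace (pullback f q) :=
    Groth.Agent.S9874.isAlgSpace_of_isPullback hY.diag hX (AlgSp.IsAlgSpace.yon_obj V) sqXV
  obtain ⟨m, hm⟩ : ∃ m : pullback (pullback.snd snd r) ((AlgSp.yon S).map wv) ⟶ pullback f q,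
      m = sqXV.lift (pullback.fst (pullback.snd snd r) ((AlgSp.yon S).map wv) ≫
          pullback.fst snd r ≫ fst)
        (pullback.snd (pullback.snd snd r) ((AlgSp.yon S).map wv) ≫ (AlgSp.yon S).map wV)
        big2.w := ⟨_, rfl⟩
  have hm1 : m ≫ pullback.fst f q = pullback.fst (pullback.snd snd r) ((AlgSp.yon S).map wv) ≫
      pullback.fst snd r ≫ fst := by rw [hm, sqXV.lift_fst]
  have hm2 : m ≫ pullback.snd f q =
      pullback.snd (pullback.snd snd r) ((AlgSp.yon S).map wv) ≫ (AlgSp.yon S).map wV := by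
    rw [hm, sqXV.lift_snd]
  have left2 : IsPullback m (pullback.snd (pullback.snd snd r) ((AlgSp.yon S).map wv))
      (pullback.snd f q) ((AlgSp.yon S).map wV) := by
    refine IsPullback.of_right ?_ hm2 sqXV
    rw [hm1]
    exact big2
  -- the atlas of `X_V`
  obtain ⟨U, p, hp, hps⟩ := hXV.atlas
  obtain ⟨hh, hhh⟩ := (AlgSp.yon S).map_surjective (p ≫ pullback.snd f q)
  have hpfst : AlgSp.RepWith @Etale (p ≫ pullback.fst f q) :=
    (AlgSp.RepWith @Etale).comp_mem _ _ hp
      (MorphismProperty.of_isPullback (P := AlgSp.RepWith @Etale) sqXV.flip hq)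
  have hchart : (p ≫ pullback.fst f q) ≫ f = (AlgSp.yon S).map hh ≫ q := by
    rw [hhh, Category.assoc, Category.assoc, pullback.condition]
  haveI : Flat hh.left := hfl _ _ hh hpfst hq hchart
  haveI : LocallyOfFinitePresentation hh.left := hfp _ _ hh hpfst hq hchart
  haveI : UniversallyOpen hh.left := UniversallyOpen.of_flat hh.left
  -- third reduction: to the atlas of `X_V`
  have sqE3 := IsPullback.of_hasPullback m p
  have hρ3s : AlgSp.RepWith @Surjective (pullback.fst m p) :=
    MorphismProperty.of_isPullback (P := AlgSp.RepWith @Surjective) sqE3.flip hps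
  refine Groth.Agent.S10211.isOpenMap_of_comp_surjective (pullback.fst m p) _
    (Groth.Agent.S9906.surjective_map_of_repWith _ hρ3s) ?_
  have big3 := sqE3.flip.paste_vert left2
  rw [← hhh] at big3
  exact Groth.Agent.S9908.isOpenMap_map_of_repWith _
    (MorphismProperty.of_isPullback (P := AlgSp.RepWith @UniversallyOpen) big3
      ((AlgSp.repWith_yon_map_iff _ _).2 inferInstance))



/-- A flat morphism locally of finite presentation between algebraic spaces is universally open. -/
theorem result {S : Scheme.{u}} {X Y : AlgSp.Space S} (f : X ⟶ Y)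
    (hfl : AlgSp.LocP @Flat f.hom) (hfp : AlgSp.LocP @LocallyOfFinitePresentation f.hom) :
    AlgSp.IsUnivOpenMor f.hom := by
  exact isUnivOpenMor_of_flat_lfp X.property Y.property f.hom hfl hfp

end Groth.Agent.S9962
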