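import Groth.Statements.S10361
import Mathlib
import Groth.Agent.Lib.Helper12DecentPoint
import Groth.Agent.Lib.Helper12RelFibre

set_option autoImplicit false
universe u
open CategoryTheory CategoryTheory.Limits AlgebraicGeometry Topology TopologicalSpace
open AlgSp

namespace Groth.Agent.S10361





/-- (5) ⇒ (4): let S be a scheme and X an algebraic space over S. Suppose k is any field and Spec k ⟶ X
is a morphism which is representable quasi-compact. Then the point of |X| it defines is represented
by a monomorphism Spec k' ⟶ X which is representable quasi-compact. -/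
theorem result {S : Scheme.{u}} (X : AlgSp.Space S)
    (q : AlgSp.FieldPt X.obj) (hq : AlgSp.RepWith @QuasiCompact q.toHom) :
    ∃ p : AlgSp.FieldPt X.obj, AlgSp.Points.mk p = AlgSp.Points.mk q ∧ Mono p.toHom ∧
      AlgSp.RepWith @QuasiCompact p.toHom := by
  obtain ⟨V, b, v, hV, hb, hv⟩ :=
    Groth.Agent.Lib.Helper12.DecentPoint.exists_affine_chart X.property (AlgSp.Points.mk q)
  haveI := hV
  obtain ⟨R, s, t', sqR⟩ := hb.1 b
  obtain ⟨t, rfl⟩ := (AlgSp.yon S).map_surjective t'
  obtain ⟨F, fK, fV', sqF⟩ := hb.1 q.toHom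
  obtain ⟨fV, rfl⟩ := (AlgSp.yon S).map_surjective fV'
  haveI : QuasiCompact fV.left := hq.2 _ _ fV sqF.flip
  haveI : Etale fK.left := hb.2 _ _ fK sqF
  haveI : LocallyQuasiFinite fK.left := Groth.Agent.S10265.locallyQuasiFinite_of_unramified _
  haveI : CompactSpace ↥V.left := inferInstance
  haveI : CompactSpace ↥F.left := QuasiCompact.compactSpace_of_compactSpace fV.left
  haveI : QuasiSeparatedSpace ↥q.pt.left :=
    (inferInstance : QuasiSeparatedSpace ↥(Spec (CommRingCat.of q.K)))
  haveI : QuasiCompact fK.left := quasiCompact_of_compactSpace _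
  have hF : (Set.univ : Set ↥F.left).Finite := by
    have := fK.left.finite_preimage_singleton ((⊥ : PrimeSpectrum q.K) : ↥q.pt.left)
    refine this.subset (fun y _ => ?_)
    exact (inferInstance : Subsingleton (PrimeSpectrum q.K)).elim _ _
  have hRfib := Groth.Agent.Lib.Helper12.RelFibre.finite_relation_fibre q b hb fK fV sqF hF s t sqR
  refine Groth.Agent.Lib.Helper12.DecentPoint.exists_qc_mono_point X.property (AlgSp.Points.mk q)
    b hb v hv s t sqR (hRfib.subset ?_) ?_
  · rintro r ⟨-, hr⟩
    rw [Set.mem_preimage, Set.mem_singleton_iff, Groth.Agent.S10176.ofPt_map_comp, hr, hv]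
  · intro V' b' hV' hb'
    haveI := hV'
    haveI : CompactSpace ↥V'.left := inferInstance
    exact Groth.Agent.Lib.Helper12.QcPoint.finite_fibre_of_quasiCompact q hq b' hb'

end Groth.Agent.S10361
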