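import Groth.Statements.S9912
import Mathlib
import Groth.Agent.S9913

set_option autoImplicit false
universe u
open CategoryTheory CategoryTheory.Limits AlgebraicGeometry
open AlgSp

namespace Groth.Agent.S9912


open CategoryTheory.Limits Opposite MorphismProperty Groth.Agent.S13210

variable {S : Scheme.{u}}

/-- a representable quasi-compact morphism to a sheaf with representable diagonal is quasi-compact. -/
lemma isQuasiCompactMor_of_repWith {X Y : AlgSp.Sp S} (hX : AlgSp.IsAlgSpace X)
    (hY : AlgSp.Representable (Limits.diag Y)) (f : X ⟶ Y) (h : AlgSp.RepWith @QuasiCompact f) :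
    AlgSp.IsQuasiCompactMor f := by
  intro Z Z' hZ hZc g fst snd sq
  have hZ' : AlgSp.IsAlgSpace Z' := Groth.Agent.S9874.isAlgSpace_of_isPullback hY hX hZ sq
  rw [Groth.Agent.S10174.isQuasiCompactSp_iff hZ']
  obtain ⟨U, q, hqe, hqs, hU⟩ := hZc
  haveI : CompactSpace ↥U.left := hU
  obtain ⟨W, w, pr, sqW⟩ := h.1 (q ≫ g)
  haveI : QuasiCompact w.left := h.2 _ _ w sqW
  haveI : CompactSpace ↥W.left := QuasiCompact.compactSpace_of_compactSpace w.left
  have hw : pr ≫ f = ((AlgSp.yon S).map w ≫ q) ≫ g := by rw [Category.assoc]; exact sqW.w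
  have hl1 : sq.lift _ _ hw ≫ fst = pr := sq.lift_fst _ _ _
  have hl2 : sq.lift _ _ hw ≫ snd = (AlgSp.yon S).map w ≫ q := sq.lift_snd _ _ _
  have sq' : IsPullback (sq.lift _ _ hw) ((AlgSp.yon S).map w) snd q := by
    refine IsPullback.of_right ?_ hl2 sq
    rw [hl1]
    exact sqW
  have hρ : AlgSp.RepWith @Surjective (sq.lift _ _ hw) :=
    MorphismProperty.of_isPullback (P := AlgSp.RepWith @Surjective) sq'.flip hqs
  haveI : CompactSpace (AlgSp.Points ((AlgSp.yon S).obj W)) :=
    (AlgSp.Points.schemeHomeo W).compactSpace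
  exact (Groth.Agent.S9906.surjective_map_of_repWith _ hρ).compactSpace
    (AlgSp.Points.continuous_map _)

/-- for a representable morphism, quasi-compactness gives representable quasi-compactness. -/
lemma repWith_quasiCompact_of_isQuasiCompactMor {X Y : AlgSp.Sp S} (f : X ⟶ Y)
    (hf : AlgSp.Representable f) (h : AlgSp.IsQuasiCompactMor f) : AlgSp.RepWith @QuasiCompact f := by
  refine ⟨hf, fun T W g pr w sq => ?_⟩
  change QuasiCompact w.left
  rw [quasiCompact_iff_forall_isAffineOpen]
  intro V hV
  have hpb : IsPullback (w.left ∣_ V) (w.left ⁻¹ᵁ V).ι V.ι w.left :=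
    (isPullback_morphismRestrict w.left V)
  have sq' := Groth.Agent.S9908.isPullback_yon_of_isPullback sq _ _ _ hpb
  haveI : IsAffine (Over.mk (V.ι ≫ T.hom)).left := hV
  have hc := h (AlgSp.IsAlgSpace.yon_obj _)
    (Groth.Agent.S9913.isQuasiCompactSp_yon_of_compact (Over.mk (V.ι ≫ T.hom))) _ _ _ sq'
  haveI := Groth.Agent.S9917.compactSpace_points_of_isQuasiCompactSp hc
  have : CompactSpace ↥(Over.mk ((w.left ∣_ V) ≫ V.ι ≫ T.hom)).left :=
    (AlgSp.Points.schemeHomeo _).symm.compactSpace
  exact isCompact_iff_compactSpace.2 this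



/-- For a morphism of algebraic spaces representable by schemes, representable quasi-compactness agrees
with the condition that base changes to quasi-compact algebraic spaces are quasi-compact. -/
theorem result {S : Scheme.{u}} {X Y : AlgSp.Space S} (f : X ⟶ Y)
    (hf : AlgSp.Representable f.hom) :
    AlgSp.RepWith @QuasiCompact f.hom ↔ AlgSp.IsQuasiCompactMor f.hom := by
  exact ⟨isQuasiCompactMor_of_repWith X.property Y.property.diag f.hom,
    repWith_quasiCompact_of_isQuasiCompactMor f.hom hf⟩

end Groth.Agent.S9912
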