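import Groth.Statements.S10413
import Mathlib
import Groth.Agent.S10176

set_option autoImplicit false
universe u
open CategoryTheory CategoryTheory.Limits AlgebraicGeometry Topology TopologicalSpace
open AlgSp

namespace Groth.Agent.S10413


open CategoryTheory.Limits Opposite MorphismProperty Groth.Agent.S13210

variable {S : Scheme.{u}}

/-- for a representable map, points of the source over a point represented by a monomorphism are
represented by monomorphisms. -/
lemma exists_mono_fieldPt_of_representable {X Y : AlgSp.Sp S} (f : X ⟶ Y)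
    (hf : AlgSp.Representable f) (x : AlgSp.Points X) (q : AlgSp.FieldPt Y)
    (hq : AlgSp.Points.mk q = AlgSp.Points.map f x) (hqm : Mono q.toHom) :
    ∃ p : AlgSp.FieldPt X, AlgSp.Points.mk p = x ∧ Mono p.toHom := by
  obtain ⟨W, ww, pr, sq⟩ := hf q.toHom
  have hx : AlgSp.Points.map f x =
      AlgSp.Points.map q.toHom (AlgSp.Points.ofScheme q.pt (IsLocalRing.closedPoint q.K)) := by
    rw [← AlgSp.Points.ofPt_eq_map_ofScheme, AlgSp.Points.ofPt_toHom, hq]
  obtain ⟨p₀, hp1, -⟩ := Groth.Agent.S10175.exists_point_of_isPullback sq x _ hx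
  obtain ⟨w₀, rfl⟩ := (AlgSp.Points.schemeHomeo W).surjective p₀
  refine ⟨AlgSp.FieldPt.ofPt pr w₀, ?_, ?_⟩
  · rw [← hp1]
    exact AlgSp.Points.ofPt_eq_map_ofScheme pr w₀
  · rw [AlgSp.FieldPt.toHom_ofPt]
    haveI : Mono pr := PullbackCone.mono_fst_of_is_pullback_of_mono sq.isLimit
    have hm : ∀ {A : Over S} (m : A ⟶ W), Mono m → Mono ((AlgSp.yon S).map m ≫ pr) := by
      intro A m hm
      haveI := hm
      haveI : Mono ((AlgSp.yon S).map m) := (AlgSp.yon S).map_mono m
      exact mono_comp _ _
    apply hm
    have hmono : Mono (W.left.fromSpecResidueField w₀) := inferInstance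
    exact @Over.mono_of_mono_left _ _ _ _ _ _ hmono



/-- Let S be a scheme, X and Y algebraic spaces over S, and X ⟶ Y a representable morphism. If every
point of Y can be represented by a monomorphism into Y from the spectrum of a field, then every
point of X can likewise be represented by such a monomorphism into X. -/
theorem result {S : Scheme.{u}} {X Y : AlgSp.Space S} (f : X ⟶ Y) (hf : AlgSp.Representable f.hom)
    (hY : ∀ y : AlgSp.Points Y.obj, ∃ q : AlgSp.FieldPt Y.obj, AlgSp.Points.mk q = y ∧ Mono q.toHom)
    (x : AlgSp.Points X.obj) : ∃ p : AlgSp.FieldPt X.obj, AlgSp.Points.mk p = x ∧ Mono p.toHom := by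
  obtain ⟨q, hq, hqm⟩ := hY (AlgSp.Points.map f.hom x)
  exact exists_mono_fieldPt_of_representable f.hom hf x q hq hqm

end Groth.Agent.S10413
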