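import Groth.Statements.S10351
import Mathlib
import Groth.Agent.S10413

set_option autoImplicit false
universe u
open CategoryTheory CategoryTheory.Limits AlgebraicGeometry Topology TopologicalSpace
open AlgSp

namespace Groth.Agent.S10351


open CategoryTheory.Limits Opposite MorphismProperty Groth.Agent.S13210

variable {S : Scheme.{u}}

/-- a morphism from a scheme with finitely many points is quasi-compact. -/
lemma quasiCompact_of_finite {X Y : Scheme.{u}} (f : X ⟶ Y) [Finite ↥X] : QuasiCompact f :=
  ⟨fun _ _ _ => (Set.toFinite _).isCompact⟩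

/-- decency passes to the source of a representable morphism, pointwise. -/
lemma exists_decent_fieldPt_of_representable {X Y : AlgSp.Sp S} (f : X ⟶ Y)
    (hf : AlgSp.Representable f) (x : AlgSp.Points X) (q : AlgSp.FieldPt Y)
    (hq : AlgSp.Points.mk q = AlgSp.Points.map f x) (hqm : Mono q.toHom)
    (hqc : AlgSp.RepWith @QuasiCompact q.toHom) :
    ∃ p : AlgSp.FieldPt X, AlgSp.Points.mk p = x ∧ Mono p.toHom ∧
      AlgSp.RepWith @QuasiCompact p.toHom := by
  obtain ⟨W, ww, pr, sq⟩ := hf q.toHom
  have hx : AlgSp.Points.map f x =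
      AlgSp.Points.map q.toHom (AlgSp.Points.ofScheme q.pt (IsLocalRing.closedPoint q.K)) := by
    rw [← AlgSp.Points.ofPt_eq_map_ofScheme, AlgSp.Points.ofPt_toHom, hq]
  obtain ⟨p₀, hp1, -⟩ := Groth.Agent.S10175.exists_point_of_isPullback sq x _ hx
  obtain ⟨w₀, rfl⟩ := (AlgSp.Points.schemeHomeo W).surjective p₀
  have hprqc : AlgSp.RepWith @QuasiCompact pr :=
    MorphismProperty.of_isPullback (P := AlgSp.RepWith @QuasiCompact) sq.flip hqc
  refine ⟨AlgSp.FieldPt.ofPt pr w₀, ?_, ?_, ?_⟩
  · rw [← hp1]
    exact AlgSp.Points.ofPt_eq_map_ofScheme pr w₀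
  · rw [AlgSp.FieldPt.toHom_ofPt]
    haveI : Mono pr := PullbackCone.mono_fst_of_is_pullback_of_mono sq.isLimit
    have hm : ∀ {A : Over S} (m : A ⟶ W), Mono m → Mono ((AlgSp.yon S).map m ≫ pr) := by
      intro A m hm
      haveI := hm
      haveI : Mono ((AlgSp.yon S).map m) := (AlgSp.yon S).map_mono m
      exact mono_comp _ _
    apply hm
    have hmono : Mono (W.left.fromSpecResidueField w₀) := inferInstance
    exact @Over.mono_of_mono_left _ _ _ _ _ _ hmono
  · rw [AlgSp.FieldPt.toHom_ofPt]
    refine MorphismProperty.comp_mem _ _ _ ((AlgSp.repWith_yon_map_iff _ _).2 ?_) hprqc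
    change QuasiCompact (W.left.fromSpecResidueField w₀)
    haveI : Finite ↥(Spec (W.left.residueField w₀)) := inferInstance
    exact quasiCompact_of_finite _



/-- Let S be a scheme, X and Y algebraic spaces over S, and f : X ⟶ Y a morphism which is representable
by schemes. If Y is decent then X is decent. -/
theorem result {S : Scheme.{u}} {X Y : AlgSp.Space S} (f : X ⟶ Y)
    (hf : AlgSp.Representable f.hom) (hY : AlgSp.IsDecent Y.obj) : AlgSp.IsDecent X.obj := by
  intro x
  obtain ⟨q, hq, hqm, hqc⟩ := hY (AlgSp.Points.map f.hom x)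
  exact exists_decent_fieldPt_of_representable f.hom hf x q hq hqm hqc

end Groth.Agent.S10351
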