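import Groth.Statements.S9903
import Mathlib
import Groth.Agent.S9904

set_option autoImplicit false
universe u
open CategoryTheory CategoryTheory.Limits AlgebraicGeometry
open AlgSp

namespace Groth.Agent.S9903


open CategoryTheory.Limits Opposite Groth.Agent.S13210 Groth.Agent.S9900 Groth.Agent.S9904
  MorphismProperty

variable {S : Scheme.{u}}

/-- properties of the relative diagonal can be checked after affine base change. -/
lemma repWith_diagonal_of_affine (Pr : MorphismProperty Scheme.{u}) [Pr.IsStableUnderBaseChange]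
    [IsZariskiLocalAtTarget Pr] {X Y : AlgSp.Sp S} (hX : AlgSp.Representable (Limits.diag X))
    (f : X ⟶ Y)
    (h : ∀ (Z : Over S), IsAffine Z.left → ∀ (g : (AlgSp.yon S).obj Z ⟶ Y) (P : AlgSp.Sp S)
      (fst : P ⟶ X) (snd : P ⟶ (AlgSp.yon S).obj Z), IsPullback fst snd f g →
      AlgSp.RepWith Pr (pullback.diagonal snd)) : AlgSp.RepWith Pr (pullback.diagonal f) := by
  refine repWith_diagonal_of_isEqLocus hX f Pr ?_
  intro T E a b e hab he
  refine IsZariskiLocalAtTarget.of_openCover (P := Pr) T.left.affineCover (fun i => ?_)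
  let Ti : Over S := Over.mk (T.left.affineCover.f i ≫ T.hom)
  let ti : Ti ⟶ T := Over.homMk (T.left.affineCover.f i) rfl
  let g : (AlgSp.yon S).obj Ti ⟶ Y := (AlgSp.yon S).map ti ≫ a ≫ f
  have ha1 : ((AlgSp.yon S).map ti ≫ a) ≫ f = 𝟙 _ ≫ g := by
    rw [Category.id_comp, Category.assoc]
  have hb1 : ((AlgSp.yon S).map ti ≫ b) ≫ f = 𝟙 _ ≫ g := by
    rw [Category.id_comp, Category.assoc, ← hab]
  have hdiag := h Ti (inferInstanceAs (IsAffine (T.left.affineCover.X i))) g (pullback f g)
    (pullback.fst f g) (pullback.snd f g) (IsPullback.of_hasPullback f g)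
  have he1 : IsEqLocus (pullback.lift _ _ ha1) (pullback.lift _ _ hb1) (pullback.snd e ti) := by
    apply IsEqLocus.of_comp_fst (IsPullback.of_hasPullback f g)
    · rw [pullback.lift_snd, pullback.lift_snd]
    · rw [pullback.lift_fst, pullback.lift_fst]
      exact IsEqLocus.baseChange he ti
  have hP1 : Pr (pullback.snd e ti).left :=
    IsEqLocus.property_of_repWith (pullback.snd f g) hdiag
      (by rw [pullback.lift_snd, pullback.lift_snd]) he1
  have hsq : IsPullback (pullback.fst e ti).left (pullback.snd e ti).left e.left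
      (T.left.affineCover.f i) :=
    (IsPullback.of_hasPullback e ti).map (Over.forget S)
  have := hsq.isoPullback_hom_snd
  rw [← this, Pr.cancel_left_of_respectsIso] at hP1
  exact hP1

lemma stable_diagonal (Pr : MorphismProperty Scheme.{u}) [Pr.IsStableUnderBaseChange]
    {X Y Z P : AlgSp.Sp S} {f : X ⟶ Y} {g : Z ⟶ Y} {fst : P ⟶ X} {snd : P ⟶ Z}
    (sq : IsPullback fst snd f g) (h : AlgSp.RepWith Pr (pullback.diagonal f)) :
    AlgSp.RepWith Pr (pullback.diagonal snd) :=
  MorphismProperty.of_isPullback (P := (AlgSp.RepWith (S := S) Pr).diagonal) sq h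



/-- (1) ⇔ (3): a morphism of algebraic spaces is separated (resp. quasi-separated) if and only if its
base change to every affine scheme over the target is. -/
theorem result {S : Scheme.{u}} {X Y : AlgSp.Space S} (f : X ⟶ Y) :
    (AlgSp.IsSeparatedMor f.hom ↔
      ∀ (Z : Over S), IsAffine Z.left → ∀ (g : (AlgSp.yon S).obj Z ⟶ Y.obj) (P : AlgSp.Sp S)
        (fst : P ⟶ X.obj) (snd : P ⟶ (AlgSp.yon S).obj Z), IsPullback fst snd f.hom g →
        AlgSp.IsSeparatedMor snd) ∧
    (AlgSp.IsQuasiSeparatedMor f.hom ↔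
      ∀ (Z : Over S), IsAffine Z.left → ∀ (g : (AlgSp.yon S).obj Z ⟶ Y.obj) (P : AlgSp.Sp S)
        (fst : P ⟶ X.obj) (snd : P ⟶ (AlgSp.yon S).obj Z), IsPullback fst snd f.hom g →
        AlgSp.IsQuasiSeparatedMor snd) := by
  refine ⟨⟨fun h Z _ g P fst snd sq => stable_diagonal @IsClosedImmersion sq h,
    fun h => repWith_diagonal_of_affine @IsClosedImmersion X.property.diag f.hom h⟩,
    ⟨fun h Z _ g P fst snd sq => stable_diagonal @QuasiCompact sq h,
    fun h => repWith_diagonal_of_affine @QuasiCompact X.property.diag f.hom h⟩⟩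

end Groth.Agent.S9903
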