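import Groth.Statements.S9919
import Mathlib
import Groth.Agent.S9912

set_option autoImplicit false
universe u
open CategoryTheory CategoryTheory.Limits AlgebraicGeometry
open AlgSp

namespace Groth.Agent.S9919


open CategoryTheory.Limits Opposite MorphismProperty Groth.Agent.S13210

variable {S : Scheme.{u}}

lemma isQuasiCompactSp_of_iso {F G : AlgSp.Sp S} (e : F ≅ G) (h : AlgSp.IsQuasiCompactSp F) :
    AlgSp.IsQuasiCompactSp G := by
  obtain ⟨U, p, h1, h2, h3⟩ := h
  exact ⟨U, p ≫ e.hom, MorphismProperty.RespectsIso.postcomp _ _ _ h1,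
    MorphismProperty.RespectsIso.postcomp _ _ _ h2, h3⟩

/-- a quasi-compact morphism to a quasi-compact algebraic space has quasi-compact source. -/
lemma isQuasiCompactSp_of_isQuasiCompactMor {F G : AlgSp.Sp S} (hG : AlgSp.IsAlgSpace G)
    (hGc : AlgSp.IsQuasiCompactSp G) (j : F ⟶ G) (hj : AlgSp.IsQuasiCompactMor j) :
    AlgSp.IsQuasiCompactSp F :=
  hj hG hGc (𝟙 G) (𝟙 F) j IsPullback.of_id_fst

/-- if `f ≫ g` is quasi-compact and `g` is quasi-separated then `f` is quasi-compact. -/
lemma isQuasiCompactMor_of_comp {X Y Z : AlgSp.Sp S} (hX : AlgSp.IsAlgSpace X)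
    (hY : AlgSp.IsAlgSpace Y) (hZ : AlgSp.IsAlgSpace Z) (f : X ⟶ Y) (g : Y ⟶ Z)
    (hgf : AlgSp.IsQuasiCompactMor (f ≫ g)) (hg : AlgSp.IsQuasiSeparatedMor g) :
    AlgSp.IsQuasiCompactMor f := by
  intro W W' hW hWc c fst snd sq
  -- the chosen fibre products
  have hQ : AlgSp.IsAlgSpace (pullback (c ≫ g) (f ≫ g)) :=
    Groth.Agent.S9874.isAlgSpace_of_isPullback hZ.diag hW hX (IsPullback.of_hasPullback _ _)
  have hQc : AlgSp.IsQuasiCompactSp (pullback (c ≫ g) (f ≫ g)) :=
    hgf hW hWc (c ≫ g) _ _ (IsPullback.of_hasPullback (c ≫ g) (f ≫ g)).flip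
  have hP : AlgSp.IsAlgSpace (pullback c f) :=
    Groth.Agent.S9874.isAlgSpace_of_isPullback hY.diag hW hX (IsPullback.of_hasPullback _ _)
  have hj : AlgSp.RepWith @QuasiCompact
      (pullback.map c f (c ≫ g) (f ≫ g) (𝟙 _) (𝟙 _) g (Category.id_comp _).symm
        (Category.id_comp _).symm) :=
    MorphismProperty.of_isPullback (P := AlgSp.RepWith @QuasiCompact)
      (pullback_map_diagonal_isPullback c f g) hg
  have hPc : AlgSp.IsQuasiCompactSp (pullback c f) :=
    isQuasiCompactSp_of_isQuasiCompactMor hQ hQc _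
      (Groth.Agent.S9912.isQuasiCompactMor_of_repWith hP hQ.diag _ hj)
  exact isQuasiCompactSp_of_iso (sq.flip.isoPullback).symm hPc



/-- For morphisms f : X -> Y and g : Y -> Z of algebraic spaces, quasi-compactness of the composite
together with quasi-separatedness of g forces f to be quasi-compact. -/
theorem result {S : Scheme.{u}} {X Y Z : AlgSp.Space S} (f : X ⟶ Y)
    (g : Y ⟶ Z) (hgf : AlgSp.IsQuasiCompactMor (f ≫ g).hom) (hg : AlgSp.IsQuasiSeparatedMor g.hom) :
    AlgSp.IsQuasiCompactMor f.hom := by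
  exact isQuasiCompactMor_of_comp X.property Y.property Z.property f.hom g.hom hgf hg

end Groth.Agent.S9919
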