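import Groth.Statements.S9920
import Mathlib
import Groth.Agent.S9919

set_option autoImplicit false
universe u
open CategoryTheory CategoryTheory.Limits AlgebraicGeometry
open AlgSp

namespace Groth.Agent.S9920


open CategoryTheory.Limits Opposite MorphismProperty Groth.Agent.S13210 Groth.Agent.S9900

variable {S : Scheme.{u}}

/-- a represented fibre product `h_E = h_U ×_F h_V` is the equalizer locus of the two projections of
`U × V`. -/
lemma isEqLocus_of_isPullback {F : AlgSp.Sp S} {U V E : Over S} {a : (AlgSp.yon S).obj U ⟶ F}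
    {b : (AlgSp.yon S).obj V ⟶ F} {eU : E ⟶ U} {eV : E ⟶ V}
    (sq : IsPullback ((AlgSp.yon S).map eU) ((AlgSp.yon S).map eV) a b) :
    IsEqLocus ((AlgSp.yon S).map (prod.fst : U ⨯ V ⟶ U) ≫ a)
      ((AlgSp.yon S).map (prod.snd : U ⨯ V ⟶ V) ≫ b) (prod.lift eU eV) := by
  refine ⟨⟨fun {Z} x x' hxx => ?_⟩, fun T' t => ?_⟩
  · apply (AlgSp.yon S).map_injective
    apply sq.hom_ext
    · rw [← Functor.map_comp, ← Functor.map_comp]
      congr 1
      have := congrArg (fun m => m ≫ prod.fst) hxx
      simpa only [Category.assoc, prod.lift_fst] using this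
    · rw [← Functor.map_comp, ← Functor.map_comp]
      congr 1
      have := congrArg (fun m => m ≫ prod.snd) hxx
      simpa only [Category.assoc, prod.lift_snd] using this
  · constructor
    · intro hab
      rw [← Category.assoc, ← Category.assoc, ← Functor.map_comp, ← Functor.map_comp] at hab
      obtain ⟨t', ht'⟩ := (AlgSp.yon S).map_surjective (sq.lift _ _ hab)
      refine ⟨t', ?_⟩
      apply Limits.prod.hom_ext
      · rw [Category.assoc, prod.lift_fst]
        apply (AlgSp.yon S).map_injective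
        rw [Functor.map_comp, ht', sq.lift_fst]
      · rw [Category.assoc, prod.lift_snd]
        apply (AlgSp.yon S).map_injective
        rw [Functor.map_comp, ht', sq.lift_snd]
    · rintro ⟨t', rfl⟩
      rw [← Category.assoc, ← Category.assoc, ← Functor.map_comp, ← Functor.map_comp,
        Category.assoc, Category.assoc, prod.lift_fst, prod.lift_snd, Functor.map_comp,
        Functor.map_comp, Category.assoc, Category.assoc, sq.w]

/-- if the diagonal has `P`, then `h_U ×_F h_V ⟶ U × V` has `P`. -/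
lemma property_of_repWith_diag {F : AlgSp.Sp S} {P : MorphismProperty Scheme.{u}}
    (h : AlgSp.RepWith P (Limits.diag F)) {U V E : Over S} {a : (AlgSp.yon S).obj U ⟶ F}
    {b : (AlgSp.yon S).obj V ⟶ F} {eU : E ⟶ U} {eV : E ⟶ V}
    (sq : IsPullback ((AlgSp.yon S).map eU) ((AlgSp.yon S).map eV) a b) :
    P (prod.lift eU eV).left := by
  have he := isEqLocus_of_isPullback sq
  have he' : IsEqLocus
      (prod.lift ((AlgSp.yon S).map (prod.fst : U ⨯ V ⟶ U) ≫ a)
        ((AlgSp.yon S).map (prod.snd : U ⨯ V ⟶ V) ≫ b) ≫ prod.fst)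
      (prod.lift ((AlgSp.yon S).map (prod.fst : U ⨯ V ⟶ U) ≫ a)
        ((AlgSp.yon S).map (prod.snd : U ⨯ V ⟶ V) ≫ b) ≫ prod.snd) (prod.lift eU eV) := by
    rw [prod.lift_fst, prod.lift_snd]
    exact he
  exact h.2 _ _ _ (Groth.Agent.S9874.IsEqLocus.isPullback_diag _ he')

/-- the canonical map from a fibre product of charts to a fibre product inherits properties of the
charts. -/
lemma repWith_lift_of_charts (Pr : MorphismProperty Scheme.{u}) [Pr.IsStableUnderBaseChange]
    [Pr.IsMultiplicative] {H X Y P : AlgSp.Sp S} {f : X ⟶ H} {g : Y ⟶ H} {fst : P ⟶ X} {snd : P ⟶ Y}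
    (h : IsPullback fst snd f g) {U V W : Over S} (pU : (AlgSp.yon S).obj U ⟶ X)
    (pV : (AlgSp.yon S).obj V ⟶ Y) (hU : AlgSp.RepWith Pr pU) (hV : AlgSp.RepWith Pr pV)
    (wU : (AlgSp.yon S).obj W ⟶ (AlgSp.yon S).obj U) (wV : (AlgSp.yon S).obj W ⟶ (AlgSp.yon S).obj V)
    (sqW : IsPullback wU wV (pU ≫ f) (pV ≫ g))
    (hwP : (wU ≫ pU) ≫ f = (wV ≫ pV) ≫ g) : AlgSp.RepWith Pr (h.lift (wU ≫ pU) (wV ≫ pV) hwP) := by
  have sq2 := IsPullback.of_hasPullback snd pV
  have hl : h.lift _ _ hwP ≫ snd = wV ≫ pV := h.lift_snd _ _ _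
  have hl1 : h.lift _ _ hwP ≫ fst = wU ≫ pU := h.lift_fst _ _ _
  have hlam1 : sq2.lift _ _ hl ≫ pullback.fst snd pV = h.lift _ _ hwP := sq2.lift_fst _ _ _
  have hlam2 : sq2.lift _ _ hl ≫ pullback.snd snd pV = wV := sq2.lift_snd _ _ _
  have big := sq2.paste_horiz h
  have sq3 : IsPullback (sq2.lift _ _ hl) wU (pullback.fst snd pV ≫ fst) pU := by
    refine IsPullback.of_right ?_ ?_ big.flip
    · rw [hlam2]; exact sqW.flip
    · rw [← Category.assoc, hlam1, hl1]
  rw [← hlam1]
  exact MorphismProperty.comp_mem _ _ _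
    (MorphismProperty.of_isPullback (P := AlgSp.RepWith Pr) sq3.flip hU)
    (MorphismProperty.of_isPullback (P := AlgSp.RepWith Pr) sq2.flip hV)

/-- over a quasi-separated base, a morphism from a quasi-compact algebraic space to a
quasi-separated one is quasi-compact. -/
lemma isQuasiCompactMor_of_qc_qs [QuasiSeparatedSpace ↥S] {X Y : AlgSp.Sp S}
    (hX : AlgSp.IsAlgSpace X) (hY : AlgSp.IsAlgSpace Y) (f : X ⟶ Y)
    (hXc : AlgSp.IsQuasiCompactSp X) (hYs : AlgSp.IsQuasiSeparatedSp Y) :
    AlgSp.IsQuasiCompactMor f := by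
  intro W P hW hWc c fst snd sq
  have hP : AlgSp.IsAlgSpace P := Groth.Agent.S9874.isAlgSpace_of_isPullback hY.diag hX hW sq
  rw [Groth.Agent.S10174.isQuasiCompactSp_iff hP]
  obtain ⟨U, qU, hUe, hUs, hU⟩ := hXc
  obtain ⟨V, qV, hVe, hVs, hV⟩ := hWc
  haveI : CompactSpace ↥U.left := hU
  haveI : CompactSpace ↥V.left := hV
  obtain ⟨E, eV, eU', sqE⟩ := Functor.relativelyRepresentable.of_diag hY.diag (qU ≫ f) (qV ≫ c)
  obtain ⟨eU, rfl⟩ := (AlgSp.yon S).map_surjective eU'
  have hqc : QuasiCompact (prod.lift eU eV).left := property_of_repWith_diag hYs sqE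
  haveI : QuasiCompact V.hom := inferInstance
  haveI : CompactSpace ↥(pullback U.hom V.hom) := inferInstance
  haveI : CompactSpace ↥(U ⨯ V).left :=
    QuasiCompact.compactSpace_of_compactSpace (Over.prodLeftIsoPullback U V).hom
  haveI : CompactSpace ↥E.left := QuasiCompact.compactSpace_of_compactSpace (prod.lift eU eV).left
  have hwP : ((AlgSp.yon S).map eU ≫ qU) ≫ f = ((AlgSp.yon S).map eV ≫ qV) ≫ c := by
    rw [Category.assoc, Category.assoc]; exact sqE.w
  have hρ := repWith_lift_of_charts @Surjective sq qU qV hUs hVs _ _ sqE hwP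
  haveI : CompactSpace (AlgSp.Points ((AlgSp.yon S).obj E)) :=
    (AlgSp.Points.schemeHomeo E).compactSpace
  exact (Groth.Agent.S9906.surjective_map_of_repWith _ hρ).compactSpace
    (AlgSp.Points.continuous_map _)



/-- Over a base scheme S with quasi-separated underlying space, a morphism from a quasi-compact
algebraic space to an algebraic space quasi-separated over S is quasi-compact. (The published
statement takes the target quasi-separated in the absolute sense; this row takes it quasi-separated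
over S and S quasi-separated. With quasi-separatedness over S the hypothesis on S is needed: for S
quasi-compact but not quasi-separated, an affine chart of h_S is not quasi-compact over h_S.) -/
theorem result {S : Scheme.{u}} [QuasiSeparatedSpace ↥S]
    {X Y : AlgSp.Space S} (f : X ⟶ Y) (hX : AlgSp.IsQuasiCompactSp X.obj) (hY : AlgSp.IsQuasiSeparatedSp Y.obj) :
    AlgSp.IsQuasiCompactMor f.hom := by
  exact isQuasiCompactMor_of_qc_qs X.property Y.property f.hom hX hY

end Groth.Agent.S9920
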