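import Groth.Statements.S9921
import Mathlib
import Groth.Agent.S9920

set_option autoImplicit false
universe u
open CategoryTheory CategoryTheory.Limits AlgebraicGeometry
open AlgSp

namespace Groth.Agent.S9921


open CategoryTheory.Limits Opposite MorphismProperty Groth.Agent.S13210 Groth.Agent.S9900

variable {S : Scheme.{u}}

/-- if the diagonal has `P`, all equalizer loci have `P`. -/
lemma property_of_isEqLocus {F : AlgSp.Sp S} {P : MorphismProperty Scheme.{u}}
    (h : AlgSp.RepWith P (Limits.diag F)) {T E : Over S} {a b : (AlgSp.yon S).obj T ⟶ F} {e : E ⟶ T}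
    (he : IsEqLocus a b e) : P e.left := by
  have he' : IsEqLocus (prod.lift a b ≫ prod.fst) (prod.lift a b ≫ prod.snd) e := by
    rw [prod.lift_fst, prod.lift_snd]; exact he
  exact h.2 _ _ _ (Groth.Agent.S9874.IsEqLocus.isPullback_diag _ he')

/-- criterion for the diagonal to have `P` via equalizer loci. -/
lemma repWith_diag_of_isEqLocus {F : AlgSp.Sp S} (P : MorphismProperty Scheme.{u})
    [P.IsStableUnderBaseChange]
    (h : ∀ {T : Over S} (a b : (AlgSp.yon S).obj T ⟶ F),
      ∃ (E : Over S) (e : E ⟶ T), IsEqLocus a b e ∧ P e.left) :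
    AlgSp.RepWith P (Limits.diag F) := by
  refine MorphismProperty.relative.of_exists (fun T c => ?_)
  obtain ⟨E, e, he, hP⟩ := h (c ≫ prod.fst) (c ≫ prod.snd)
  exact ⟨E, _, e, Groth.Agent.S9874.IsEqLocus.isPullback_diag c he, hP⟩

/-- the diagonal of a fibre product inherits properties stable under base change and composition. -/
lemma repWith_diag_of_isPullback (Pr : MorphismProperty Scheme.{u}) [Pr.IsStableUnderBaseChange]
    [Pr.IsStableUnderComposition] {H X Y P : AlgSp.Sp S} {f : X ⟶ H} {g : Y ⟶ H} {fst : P ⟶ X}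
    {snd : P ⟶ Y} (h : IsPullback fst snd f g) (hX : AlgSp.RepWith Pr (Limits.diag X))
    (hY : AlgSp.RepWith Pr (Limits.diag Y)) : AlgSp.RepWith Pr (Limits.diag P) := by
  refine repWith_diag_of_isEqLocus Pr (fun {T} a b => ?_)
  obtain ⟨E1, e1, h1⟩ := exists_isEqLocus hX.1 (a ≫ fst) (b ≫ fst)
  obtain ⟨E2, e2, h2⟩ := exists_isEqLocus hY.1 (a ≫ snd) (b ≫ snd)
  refine ⟨_, _, Groth.Agent.S9874.IsEqLocus.of_jointly_mono fst snd
    (fun u v h1 h2 => h.hom_ext h1 h2) h1 h2, ?_⟩
  have hp1 : Pr e1.left := property_of_isEqLocus hX h1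
  have hp2 : Pr e2.left := property_of_isEqLocus hY h2
  have hp3 : Pr (pullback.fst e1 e2).left :=
    Pr.of_isPullback ((IsPullback.of_hasPullback e1 e2).flip.map (Over.forget S)) hp2
  rw [Over.comp_left]
  exact Pr.comp_mem _ _ hp3 hp1



/-- Over a base scheme with quasi-separated underlying space, a fibre product of algebraic spaces that
are quasi-compact and quasi-separated over S is again quasi-compact and quasi-separated over S. (The
published statement takes quasi-separatedness in the absolute sense; this row takes it over S and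
assumes S quasi-separated.) -/
theorem result {S : Scheme.{u}} [QuasiSeparatedSpace ↥S] {X Y Z P : AlgSp.Space S}
    (f : X ⟶ Y) (g : Z ⟶ Y) (fst : P ⟶ X) (snd : P ⟶ Z) (sq : IsPullback fst.hom snd.hom f.hom g.hom)
    (hX : AlgSp.IsQuasiCompactSp X.obj ∧ AlgSp.IsQuasiSeparatedSp X.obj)
    (hY : AlgSp.IsQuasiCompactSp Y.obj ∧ AlgSp.IsQuasiSeparatedSp Y.obj)
    (hZ : AlgSp.IsQuasiCompactSp Z.obj ∧ AlgSp.IsQuasiSeparatedSp Z.obj) :
    AlgSp.IsQuasiCompactSp P.obj ∧ AlgSp.IsQuasiSeparatedSp P.obj := by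
  constructor
  · have hg : AlgSp.IsQuasiCompactMor g.hom :=
      Groth.Agent.S9920.isQuasiCompactMor_of_qc_qs Z.property Y.property g.hom hZ.1 hY.2
    exact hg X.property hX.1 f.hom snd.hom fst.hom sq.flip
  · exact repWith_diag_of_isPullback @QuasiCompact sq hX.2 hZ.2

end Groth.Agent.S9921
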