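import Groth.Statements.S0025
import Groth.Agent.Lib.Helper4ChowI

set_option autoImplicit false
universe u
open Coherent

namespace Groth.Agent.S0025

open AlgebraicGeometry CategoryTheory in
/-- Let S be Noetherian and f : X → S separated of finite type. Then for some n there are a scheme X', a
proper surjective π : X' → X and an immersion X' → P^n_S compatible with the maps to S, such that π
is an isomorphism over a dense open of X. -/
theorem result {X S : Scheme.{u}} (f : X ⟶ S) [IsNoetherian S] [IsSeparated f]
    [LocallyOfFiniteType f] [QuasiCompact f] :
    ∃ (n : ℕ) (X' : Scheme.{u}) (π : X' ⟶ X) (j : X' ⟶ CohB1.ProjSpaceOver n S),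
      IsImmersion j ∧ j ≫ CohB1.ProjSpaceOver.toBase n S = π ≫ f ∧ IsProper π ∧ Surjective π ∧
      ∃ U : X.Opens, Dense (U : Set X) ∧ IsIso (π ∣_ U) := by
  have hcS : CompactSpace S := inferInstance
  have hlX : IsLocallyNoetherian X := LocallyOfFiniteType.isLocallyNoetherian f
  have hcX : CompactSpace X := QuasiCompact.compactSpace_of_compactSpace f
  have hnX : IsNoetherian X := { }
  have hirr : (irreducibleComponents (X : Type u)).Finite :=
    finite_irreducibleComponents_of_isNoetherian
  exact Groth.Agent.Lib.Helper4.Chow.chow_finite_components f hirr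

end Groth.Agent.S0025
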