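import Groth.Statements.S9825
import Groth.Agent.Lib.Helper2RankLoc

set_option autoImplicit false
universe u
open CategoryTheory CategoryTheory.Limits AlgebraicGeometry TopologicalSpace Opposite
open Props

namespace Groth.Agent.S9825

open Groth.Agent.Lib.Helper2.LocFree Groth.Agent.Lib.Helper2.RankLoc in

/-- A quasi-coherent module on a scheme is finite locally free if and only if it is of finite type with
free stalks and locally constant fibre rank. -/
theorem result (X : Scheme.{u}) (M : X.Modules) [Coh.IsQCoh M] :
    FlatMod.IsFinLocFree M ↔ CohB1.IsFT M ∧ (∀ x : X, Module.Free (X.presheaf.stalk x) (M.presheaf.stalk x)) ∧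
      IsLocallyConstant (fun x : X => Module.finrank (IsLocalRing.ResidueField (X.presheaf.stalk x))
          (TensorProduct (X.presheaf.stalk x) (IsLocalRing.ResidueField (X.presheaf.stalk x)) (M.presheaf.stalk x))) := by
  haveI : M.IsQuasicoherent := ‹Coh.IsQCoh M›
  constructor
  · intro h
    haveI : SheafOfModules.IsFinitePresentation (R := X.ringCatSheaf) M := isFP_of_isFinLocFree M h
    exact ⟨inferInstance, isLocallyConstant_fibreRank_of_isFinLocFree M h⟩
  · rintro ⟨hft, hfree, hlc⟩
    haveI : SheafOfModules.IsFiniteType (R := X.ringCatSheaf) M := hft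
    exact isFinLocFree_of_isLocallyConstant_fibreRank M hlc
      (fun D hD n m hm hrank => linearIndependent_of_free_stalks M hD m hm (fun x _ => hfree x) hrank)

end Groth.Agent.S9825
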