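import Groth.Statements.S0047
import Mathlib
import Groth.Agent.S0020
import Groth.Agent.Lib.Helper23Support
import Groth.Agent.Lib.Helper16SectSupp
import Groth.Agent.Lib.Helper16Flasque
import Groth.Agent.Lib.Helper23AffOpen2
-- import your own Groth.Agent.* helpers here

set_option autoImplicit false
universe u
open Coherent

namespace Groth.Agent.S0047


open CategoryTheory Limits AlgebraicGeometry TopologicalSpace Opposite
open Groth.Agent.Lib.Helper23.Support Groth.Agent.Lib.Helper23.AffVanish

/-- a closed subset of a Noetherian quasi-sober space all of whose points are closed is finite -/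
theorem finite_of_noetherian_quasiSober {α : Type*} [TopologicalSpace α] [NoetherianSpace α] [QuasiSober α]
    (C : Set α) (hC : IsClosed C) (hpt : ∀ x ∈ C, IsClosed ({x} : Set α)) : C.Finite := by
  obtain ⟨S, hSf, hSc, hSi, rfl⟩ := NoetherianSpace.exists_finite_set_isClosed_irreducible hC
  refine Set.Finite.sUnion hSf (fun t ht => ?_)
  obtain ⟨η, hη⟩ := QuasiSober.sober (hSi t ht) (hSc t ht)
  have hηt : η ∈ t := hη.mem
  have hcl : IsClosed ({η} : Set α) := hpt η ⟨t, ht, hηt⟩
  have : t = {η} := by
    rw [← hη.def, hcl.closure_eq]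
  rw [this]
  exact Set.finite_singleton η

variable {X : Scheme.{u}}

theorem isClosed_of_subset_support [IsLocallyNoetherian X] (M : X.Modules) (hM : Coh.IsCoh M)
    (h0 : ∀ x ∈ CohB1.support M, IsClosed ({x} : Set X)) (T : Set X) (hT : T ⊆ CohB1.support M) :
    IsClosed T := by
  have hZ : IsClosed (CohB1.support M) := Groth.Agent.S0020.result X M hM.2
  have hcov : TopologicalSpace.IsOpenCover (fun U : X.affineOpens => U.1) := iSup_affineOpens_eq_top X
  rw [hcov.isClosed_iff_coe_preimage]
  intro U
  have : IsNoetherianRing Γ(X, U.1) := IsLocallyNoetherian.component_noetherian U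
  have : NoetherianSpace ↥U.1 := noetherianSpace_of_isAffineOpen U.1 U.2
  have : QuasiSober ↥U.1 := U.1.isOpenEmbedding.quasiSober
  have hfin : ((↑) ⁻¹' CohB1.support M : Set ↥U.1).Finite := by
    apply finite_of_noetherian_quasiSober _ (hZ.preimage continuous_subtype_val)
    intro y hy
    have h1 : IsClosed ({y.1} : Set X) := h0 y.1 hy
    have h2 : ((↑) ⁻¹' ({y.1} : Set X) : Set ↥U.1) = {y} := by
      ext z
      simp only [Set.mem_preimage, Set.mem_singleton_iff]
      exact Subtype.ext_iff.symm
    rw [← h2]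
    exact h1.preimage continuous_subtype_val
  have hfin' : ((↑) ⁻¹' T : Set ↥U.1).Finite := hfin.subset (Set.preimage_mono hT)
  have h3 : ((↑) ⁻¹' T : Set ↥U.1) = ⋃ y ∈ ((↑) ⁻¹' T : Set ↥U.1), {y} := (Set.biUnion_of_singleton _).symm
  rw [h3]
  refine hfin'.isClosed_biUnion (fun y hy => ?_)
  have h1 : IsClosed ({y.1} : Set X) := h0 y.1 (hT hy)
  have h2 : ((↑) ⁻¹' ({y.1} : Set X) : Set ↥U.1) = {y} := by
    ext z
    simp only [Set.mem_preimage, Set.mem_singleton_iff]
    exact Subtype.ext_iff.symm
  rw [← h2]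
  exact h1.preimage continuous_subtype_val

open AlgebraicGeometry in
open AlgebraicGeometry in
/-- On a locally Noetherian scheme, a coherent module whose support consists of closed points (i.e. has
dimension ≤ 0) satisfies H^i(X, F) = 0 for all i > 0. (Global generation is not stated.) -/
theorem result (X : Scheme.{u}) [IsLocallyNoetherian X]
    (M : X.Modules) (hM : Coh.IsCoh M) (h0 : ∀ x ∈ CohB1.support M, IsClosed ({x} : Set X))
    (i : ℕ) (hi : 0 < i) : Subsingleton (Coh.HH X M i) := by
  obtain ⟨n, rfl⟩ := Nat.exists_eq_succ_of_ne_zero hi.ne'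
  have hfl : TopCat.Sheaf.IsFlasque (ab' M) := by
    constructor
    intro W W' i
    rw [AddCommGrpCat.epi_iff_surjective]
    intro s
    have hle : W'.unop ≤ W.unop := i.unop.le
    let T : Set X := CohB1.support M ∩ (W'.unop : Set X)
    have hTc : IsClosed T := isClosed_of_subset_support M hM h0 T Set.inter_subset_left
    let W₂ : X.Opens := W.unop ⊓ ⟨Tᶜ, hTc.isOpen_compl⟩
    have hcov : W.unop ≤ W'.unop ⊔ W₂ := by
      intro x hx
      by_cases hxT : x ∈ T
      · left; exact hxT.2
      · right; exact ⟨hx, hxT⟩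
    have hdis : ∀ x ∈ W'.unop ⊓ W₂, x ∉ CohB1.support M := by
      intro x hx hxZ
      exact hx.2.2 ⟨hxZ, hx.1⟩
    have hz : (ab' M).obj.map (homOfLE (inf_le_left : W'.unop ⊓ W₂ ≤ W'.unop)).op s =
        (ab' M).obj.map (homOfLE (inf_le_right : W'.unop ⊓ W₂ ≤ W₂)).op 0 := by
      rw [map_zero]
      exact eq_zero_of_disjoint_support M (W'.unop ⊓ W₂) hdis _
    obtain ⟨c, hc1, -⟩ := Groth.Agent.Lib.Helper16.SectSupp.glue2 (ab' M) W'.unop W₂ W.unop hle
      inf_le_left hcov s 0 hz
    exact ⟨c, hc1⟩
  exact Groth.Agent.Lib.Helper16.Flasque.H_subsingleton (ab' M) n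

end Groth.Agent.S0047
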