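import Groth.Statements.S1526
import Groth.Agent.S0047
import Groth.Agent.S0020

set_option autoImplicit false
set_option linter.style.haveILetI false
universe u
open CategoryTheory CategoryTheory.Limits AlgebraicGeometry
open Variety

namespace Groth.Agent.S1526

/-- On a proper scheme over a field, a coherent module whose support has dimension at most zero has
vanishing cohomology in all positive degrees. -/
theorem result (k : Type u) [Field k] (X : Scheme.{u}) [X.Over (Spec (CommRingCat.of k))] [IsProper (X ↘ (Spec (CommRingCat.of k)))]
    (F : X.Modules) (hF : Coh.IsCoh F) (hsupp : topologicalKrullDim (CohB1.support F) ≤ 0)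
    (i : ℕ) (hi : 1 ≤ i) : Subsingleton (Coh.HH X F i) := by
  haveI : IsLocallyNoetherian (Spec (CommRingCat.of k)) := inferInstance
  haveI : IsLocallyNoetherian X := LocallyOfFiniteType.isLocallyNoetherian (X ↘ (Spec (CommRingCat.of k)))
  have hZ : IsClosed (CohB1.support F) := Groth.Agent.S0020.result X F hF.2
  refine Groth.Agent.S0047.result X F hF (fun x hx => ?_) i hi
  rw [← closure_subset_iff_isClosed]
  intro y hy
  have hyZ : y ∈ CohB1.support F :=
    (hZ.closure_subset_iff.mpr (Set.singleton_subset_iff.mpr hx)) hy
  let x' : CohB1.support F := ⟨x, hx⟩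
  let y' : CohB1.support F := ⟨y, hyZ⟩
  let Cx : TopologicalSpace.IrreducibleCloseds (CohB1.support F) :=
    ⟨closure {x'}, isIrreducible_singleton.closure, isClosed_closure⟩
  let Cy : TopologicalSpace.IrreducibleCloseds (CohB1.support F) :=
    ⟨closure {y'}, isIrreducible_singleton.closure, isClosed_closure⟩
  have hxy : x' ⤳ y' := by
    rw [subtype_specializes_iff, specializes_iff_mem_closure]
    exact hy
  have hle : Cy ≤ Cx := by
    change closure {y'} ⊆ closure {x'}
    exact (isClosed_closure.closure_subset_iff).mpr
      (Set.singleton_subset_iff.mpr (specializes_iff_mem_closure.mp hxy))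
  have hmax := (Order.krullDim_nonpos_iff_forall_isMax.mp hsupp Cy) hle
  have hyx : y' ⤳ x' := by
    rw [specializes_iff_mem_closure]
    exact hmax (subset_closure (Set.mem_singleton x'))
  have : x' = y' := (hxy.antisymm hyx).eq
  have : x = y := congrArg Subtype.val this
  exact this ▸ Set.mem_singleton x

end Groth.Agent.S1526
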