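import Groth.Statements.S0859
import Mathlib
import Groth.Agent.Lib.Helper21Cech4
import Groth.Agent.Lib.Helper16CechLES
import Groth.Agent.Lib.Helper16CechLow
-- import your own Groth.Agent.* helpers here

set_option autoImplicit false
set_option linter.style.haveILetI false
set_option linter.unusedSectionVars false
universe u
open CategoryTheory
open CohSite

namespace Groth.Agent.S0859
open Opposite CategoryTheory.Limits Groth.Agent.Lib.Helper21.Cech

section Site
variable {C : Type u} [SmallCategory C] {J : GrothendieckTopology C}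

lemma injective_of_mono_site {F G : Sheaf J AddCommGrpCat.{u}} (f : F ⟶ G) [Mono f] (V : C) :
    Function.Injective (f.hom.app (op V)) := by
  haveI : Mono f.hom := (sheafToPresheaf _ _).map_mono f
  haveI : Mono (f.hom.app (op V)) := inferInstance
  exact (AddCommGrpCat.mono_iff_injective _).1 inferInstance

lemma exists_of_isKernel_site (S : ShortComplex (Sheaf J AddCommGrpCat.{u})) (hS : S.ShortExact) (V : C)
    (a : S.X₂.obj.obj (op V)) (ha : S.g.hom.app (op V) a = 0) :
    ∃ b : S.X₁.obj.obj (op V), S.f.hom.app (op V) b = a := by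
  have h := hS.exact.map_of_mono_of_preservesKernel
    (sheafToPresheaf J AddCommGrpCat.{u} ⋙ (evaluation _ _).obj (op V)) hS.mono_f inferInstance
  exact (ShortComplex.ab_exact_iff _).1 h a ha

lemma nat_apply {A B : Sheaf J AddCommGrpCat.{u}} (φ : A ⟶ B) {V V' : C} (h : V' ⟶ V)
    (y : A.obj.obj (op V)) :
    φ.hom.app (op V') (A.obj.map h.op y) = B.obj.map h.op (φ.hom.app (op V) y) :=
  ConcreteCategory.congr_hom (φ.hom.naturality h.op) y

variable [HasPullbacks C] {U : C} {ι : Type u} (Y : ι → Over U)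
  (hY : Sieve.ofArrows (fun i => (Y i).left) (fun i => (Y i).hom) ∈ J U)

include hY

lemma isSheafFor_of_sheaf (P : Sheaf J AddCommGrpCat.{u}) :
    Presieve.IsSheafFor (P.obj ⋙ forget _)
      (Presieve.ofArrows (fun k => (Y k).left) (fun k => (Y k).hom)) := by
  have hP := P.property
  rw [Presheaf.isSheaf_iff_isSheaf_forget J P.obj (forget _), isSheaf_iff_isSheaf_of_type] at hP
  rw [Presieve.isSheafFor_iff_generate]
  exact hP _ hY

lemma glue_site (P : Sheaf J AddCommGrpCat.{u}) (x : ∀ k, P.obj.obj (op (Y k).left))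
    (hx : ∀ i j (Z : C) (gi : Z ⟶ (Y i).left) (gj : Z ⟶ (Y j).left),
      gi ≫ (Y i).hom = gj ≫ (Y j).hom → P.obj.map gi.op (x i) = P.obj.map gj.op (x j)) :
    ∃ t : P.obj.obj (op U), ∀ k, P.obj.map (Y k).hom.op t = x k := by
  obtain ⟨t, ht, _⟩ := ((Presieve.isSheafFor_arrows_iff _ _).1 (isSheafFor_of_sheaf Y hY P)) x hx
  exact ⟨t, ht⟩

lemma sep_site (P : Sheaf J AddCommGrpCat.{u}) (t t' : P.obj.obj (op U))
    (h : ∀ k, P.obj.map (Y k).hom.op t = P.obj.map (Y k).hom.op t') : t = t' := by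
  have hx : Presieve.Arrows.Compatible (P.obj ⋙ forget _) (fun k => (Y k).hom)
      (fun k => P.obj.map (Y k).hom.op t') := by
    intro i j Z gi gj hij
    change P.obj.map gi.op (P.obj.map (Y i).hom.op t') = P.obj.map gj.op (P.obj.map (Y j).hom.op t')
    rw [← ConcreteCategory.comp_apply, ← ConcreteCategory.comp_apply, ← P.obj.map_comp,
      ← P.obj.map_comp, ← op_comp, ← op_comp, hij]
  obtain ⟨t₀, _, ht₀⟩ := ((Presieve.isSheafFor_arrows_iff _ _).1 (isSheafFor_of_sheaf Y hY P)) _ hx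
  exact (ht₀ t h).trans (ht₀ t' (fun _ => rfl)).symm

end Site


theorem result' {C : Type u} [SmallCategory C] [HasPullbacks C]
    {J : GrothendieckTopology C} (S : ShortComplex (Sheaf J AddCommGrpCat.{u})) (hS : S.ShortExact)
    (U : C)
    (h : ∀ T ∈ J U, ∃ (ι : Type u) (Y : ι → Over U), (∀ i, T.arrows (Y i).hom) ∧
      Sieve.ofArrows (fun i => (Y i).left) (fun i => (Y i).hom) ∈ J U ∧
      IsZero (CohCx.cechH S.X₁.obj Y 1)) :
    Function.Surjective (S.g.hom.app (op U)) := by
  intro s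
  haveI : Epi S.g := hS.epi_g
  haveI : Mono S.f := hS.mono_f
  have hloc : Sheaf.IsLocallySurjective S.g :=
    (Sheaf.isLocallySurjective_iff_epi' AddCommGrpCat.{u} S.g).2 inferInstance
  have hT : Presheaf.imageSieve S.g.hom s ∈ J U := hloc.imageSieve_mem s
  obtain ⟨ι, Y, hYT, hY, hz⟩ := h _ hT
  choose t ht using hYT
  -- sections attached to points
  obtain ⟨τ, hτdef⟩ : ∃ τ : ∀ (V : C), Pt Y V → S.X₂.obj.obj (op V),
      ∀ (V : C) (p : Pt Y V), τ V p = S.X₂.obj.map p.map.op (t p.idx) := ⟨_, fun _ _ => rfl⟩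
  have hτ : ∀ (V : C) (p : Pt Y V), S.g.hom.app (op V) (τ V p) = S.X₃.obj.map p.str.op s := by
    intro V p
    rw [hτdef, nat_apply, ht, ← ConcreteCategory.comp_apply, ← S.X₃.obj.map_comp, ← op_comp]
    rfl
  -- the 1-cochain
  have hdiff : ∀ x : Fin 2 → ι, ∃ a : S.X₁.obj.obj (op (fp Y x).left),
      S.f.hom.app (op (fp Y x).left) a = τ _ (canPt Y x 1) - τ _ (canPt Y x 0) := by
    intro x
    apply exists_of_isKernel_site S hS
    rw [map_sub, hτ, hτ, canPt_str, canPt_str, sub_self]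
  choose a ha using hdiff
  obtain ⟨c, hcdef⟩ : ∃ c : (CechEdge.cx S.X₁.obj Y).X 1, c = mkX Y S.X₁.obj a := ⟨_, rfl⟩
  have hev : ∀ (V : C) (g : V ⟶ U) (e : Fin 2 → Pt Y V) (he : ∀ a, (e a).str = g),
      S.f.hom.app (op V) ((evM Y S.X₁.obj g e he).hom c) = τ V (e 1) - τ V (e 0) := by
    intro V g e he
    rw [evM, ConcreteCategory.comp_apply, hcdef, proj_mkX]
    erw [nat_apply S.f (tup Y g e he).left, ha, map_sub, hτdef, hτdef, hτdef, hτdef]
    rw [← ConcreteCategory.comp_apply, ← ConcreteCategory.comp_apply, ← S.X₂.obj.map_comp,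
      ← S.X₂.obj.map_comp, ← op_comp, ← op_comp]
    have h1 := congrArg (fun f => f.left) (tup_π Y g e he 1)
    have h0 := congrArg (fun f => f.left) (tup_π Y g e he 0)
    simp only [Over.comp_left] at h1 h0
    erw [h1, h0]
    rfl
  -- cocycle condition
  have hc : ((CechEdge.cx S.X₁.obj Y).d 1 2).hom c = 0 := by
    apply X_ext'
    intro V g e he
    rw [← ConcreteCategory.comp_apply, d_evM, map_zero]
    apply injective_of_mono_site S.f V
    rw [map_zero, Groth.Agent.Lib.Helper16.CechLow.sum_apply, map_sum, Fin.sum_univ_three]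
    simp only [Fin.val_zero, pow_zero, one_smul, Fin.val_one, pow_one, neg_smul, Fin.val_two,
      even_two, Even.neg_pow, one_pow]
    erw [map_neg]
    rw [hev, hev, hev]
    have e00 : Fin.succAbove (0 : Fin 3) (0 : Fin 2) = 1 := by decide
    have e01 : Fin.succAbove (0 : Fin 3) (1 : Fin 2) = 2 := by decide
    have e10 : Fin.succAbove (1 : Fin 3) (0 : Fin 2) = 0 := by decide
    have e11 : Fin.succAbove (1 : Fin 3) (1 : Fin 2) = 2 := by decide
    have e20 : Fin.succAbove (2 : Fin 3) (0 : Fin 2) = 0 := by decide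
    have e21 : Fin.succAbove (2 : Fin 3) (1 : Fin 2) = 1 := by decide
    simp only [Function.comp_apply, e00, e01, e10, e11, e20, e21]
    abel
  -- the cocycle is a coboundary
  obtain ⟨b, hb⟩ := Groth.Agent.Lib.Helper16.CechLow.exists_of_isZero_homology Y
    ((Over.forget U).op ⋙ S.X₁.obj) 0 hz c hc
  have hb' : ((CechEdge.cx S.X₁.obj Y).d 0 1).hom b = c := hb
  -- corrected sections
  have hgf : ∀ k, S.g.hom.app (op (Y k).left) (S.f.hom.app (op (Y k).left) (xk Y S.X₁.obj b k)) = 0 := by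
    intro k
    have hzero : S.f ≫ S.g = 0 := S.zero
    exact congrArg (fun m => m.hom.app (op (Y k).left) (xk Y S.X₁.obj b k)) hzero
  obtain ⟨T, hTdef⟩ : ∃ T : ∀ k, S.X₂.obj.obj (op (Y k).left),
      ∀ k, T k = t k - S.f.hom.app (op (Y k).left) (xk Y S.X₁.obj b k) := ⟨_, fun _ => rfl⟩
  have hcompat : ∀ i j (Z : C) (gi : Z ⟶ (Y i).left) (gj : Z ⟶ (Y j).left),
      gi ≫ (Y i).hom = gj ≫ (Y j).hom → S.X₂.obj.map gi.op (T i) = S.X₂.obj.map gj.op (T j) := by
    intro i j Z gi gj hij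
    have he : ∀ a, ((![⟨i, gi⟩, ⟨j, gj⟩] : Fin 2 → Pt Y Z) a).str = gi ≫ (Y i).hom := by
      intro a
      refine Fin.cases ?_ (fun b => ?_) a
      · rfl
      · obtain rfl : b = 0 := Subsingleton.elim _ _
        exact hij.symm
    have h1 := ConcreteCategory.congr_hom (d_evM Y S.X₁.obj (gi ≫ (Y i).hom) ![⟨i, gi⟩, ⟨j, gj⟩] he) b
    rw [ConcreteCategory.comp_apply, hb', Groth.Agent.Lib.Helper16.CechLow.sum_apply,
      Fin.sum_univ_two] at h1
    simp only [Fin.val_zero, pow_zero, one_smul, Fin.val_one, pow_one, neg_smul] at h1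
    have h2 := congrArg (S.f.hom.app (op Z)) h1
    rw [hev, map_add] at h2
    erw [map_neg] at h2
    rw [evM_zero_eq, evM_zero_eq] at h2
    have e0 : (((![⟨i, gi⟩, ⟨j, gj⟩] : Fin 2 → Pt Y Z) ∘ Fin.succAbove (0 : Fin 2)) 0) = ⟨j, gj⟩ := rfl
    have e1 : (((![⟨i, gi⟩, ⟨j, gj⟩] : Fin 2 → Pt Y Z) ∘ Fin.succAbove (1 : Fin 2)) 0) = ⟨i, gi⟩ := rfl
    rw [e0, e1] at h2
    erw [nat_apply S.f gj, nat_apply S.f gi] at h2
    rw [hτdef, hτdef] at h2
    rw [hTdef, hTdef, map_sub, map_sub]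
    change S.X₂.obj.map gj.op (t j) - S.X₂.obj.map gi.op (t i) =
      S.X₂.obj.map gj.op (S.f.hom.app (op (Y j).left) (xk Y S.X₁.obj b j)) +
        -S.X₂.obj.map gi.op (S.f.hom.app (op (Y i).left) (xk Y S.X₁.obj b i)) at h2
    rw [sub_eq_sub_iff_add_eq_add]
    have h3 := sub_eq_iff_eq_add.1 h2
    rw [h3]
    abel
  obtain ⟨tt, htt⟩ := glue_site Y hY S.X₂ T hcompat
  refine ⟨tt, ?_⟩
  apply sep_site Y hY S.X₃
  intro k
  rw [← nat_apply, htt k, hTdef, map_sub, hgf, sub_zero, ht]


open Opposite CategoryTheory.Limits in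
/-- Consider abelian sheaves F ⊂ G with quotient H on a site with fibre products, and an object U. If
every covering sieve of U can be refined by a covering family with respect to which the first Cech
cohomology group of F vanishes, then G(U) -> H(U) is surjective. -/
theorem result {C : Type u} [SmallCategory C] [HasPullbacks C]
    {J : GrothendieckTopology C} (S : ShortComplex (Sheaf J AddCommGrpCat.{u})) (hS : S.ShortExact)
    (U : C)
    (h : ∀ T ∈ J U, ∃ (ι : Type u) (Y : ι → Over U), (∀ i, T.arrows (Y i).hom) ∧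
      Sieve.ofArrows (fun i => (Y i).left) (fun i => (Y i).hom) ∈ J U ∧
      IsZero (CohCx.cechH S.X₁.obj Y 1)) :
    Function.Surjective (S.g.hom.app (op U)) := by
  exact result' S hS U h

end Groth.Agent.S0859
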