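import Groth.Statements.S0487
import Groth.Agent.Lib.Helper16RpushSh
-- import your own Groth.Agent.* helpers here

set_option autoImplicit false
set_option linter.style.haveILetI false
universe u
open CategoryTheory
open CohSite

namespace Groth.Agent.S0487

open CategoryTheory.Limits Abelian Opposite Groth.Agent.Lib.Helper16.DimShift Groth.Agent.Lib.Helper16.RpushSh

variable {C D : Type u} [SmallCategory C] [SmallCategory D]
    (J : GrothendieckTopology C) (K : GrothendieckTopology D) (u : D ⥤ C) [u.IsContinuous K J]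

instance preservesFiniteLimits_push : PreservesFiniteLimits (CohSite.push J K u) := by
  haveI := (u.sheafAdjunctionContinuous AddCommGrpCat.{u} K J).rightAdjoint_preservesLimits
  infer_instance

/-- `(f_* G)^# ≅ f_* G`. -/
noncomputable def counitIso (G : Sheaf J AddCommGrpCat.{u}) :
    (presheafToSheaf K AddCommGrpCat.{u}).obj (u.op ⋙ G.obj) ≅ (CohSite.push J K u).obj G :=
  let e := asIso ((sheafificationAdjunction K AddCommGrpCat.{u}).counit.app ((CohSite.push J K u).obj G))
  e

lemma counitIso_naturality {G G' : Sheaf J AddCommGrpCat.{u}} (φ : G ⟶ G') :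
    (presheafToSheaf K AddCommGrpCat.{u}).map (Functor.whiskerLeft u.op φ.hom) ≫ (counitIso J K u G').hom =
      (counitIso J K u G).hom ≫ (CohSite.push J K u).map φ :=
  (sheafificationAdjunction K AddCommGrpCat.{u}).counit.naturality ((CohSite.push J K u).map φ)

/-- degree zero -/
noncomputable def zeroIso (F : Sheaf J AddCommGrpCat.{u}) :
    (CohSite.Rpush J K u 0).obj F ≅
      (presheafToSheaf K AddCommGrpCat.{u}).obj (u.op ⋙ F.cohomologyPresheaf 0) := by
  haveI : ∀ W : Cᵒᵖ, IsIso ((τ J (Ext.mk₀ (𝟙 F))).app W) := fun W =>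
    (ConcreteCategory.isIso_iff_bijective _).2 (τapp_zero_bijective J F W.unop)
  haveI : IsIso (τ J (Ext.mk₀ (𝟙 F))) := NatIso.isIso_of_isIso_app _
  let e : F.obj ≅ F.cohomologyPresheaf 0 := asIso (τ J (Ext.mk₀ (𝟙 F)))
  exact ((CohSite.push J K u).rightDerivedZeroIsoSelf).app F ≪≫ (counitIso J K u F).symm ≪≫
    (presheafToSheaf K AddCommGrpCat.{u}).mapIso (Functor.isoWhiskerLeft u.op e)

/-- positive degrees -/
noncomputable def succIso (F : Sheaf J AddCommGrpCat.{u}) (n : ℕ) :
    (CohSite.Rpush J K u (n + 1)).obj F ≅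
      (presheafToSheaf K AddCommGrpCat.{u}).obj (u.op ⋙ F.cohomologyPresheaf (n + 1)) := by
  let I := injectiveResolution F
  let Dt := ofResolution I
  have hD : ∀ k, Injective (Dt.J k) := fun k => I.injective k
  let e1 : (CohSite.Rpush J K u (n + 1)).obj F ≅ cokernel ((CohSite.push J K u).map (gg I n)) :=
    rightDerivedSuccIso (CohSite.push J K u) I n
  let e2 : (presheafToSheaf K AddCommGrpCat.{u}).obj (u.op ⋙ F.cohomologyPresheaf (n + 1)) ≅
      cokernel ((presheafToSheaf K AddCommGrpCat.{u}).map (Functor.whiskerLeft u.op (Dt.g n).hom)) :=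
    shIso J Dt hD u K n
  let e3 : cokernel ((presheafToSheaf K AddCommGrpCat.{u}).map (Functor.whiskerLeft u.op (Dt.g n).hom)) ≅
      cokernel ((CohSite.push J K u).map (gg I n)) :=
    cokernel.mapIso _ _ (counitIso J K u _) (counitIso J K u _) (counitIso_naturality J K u (Dt.g n))
  exact e1 ≪≫ e3.symm ≪≫ e2.symm

theorem result' (F : Sheaf J AddCommGrpCat.{u}) (i : ℕ) :
    Nonempty ((CohSite.Rpush J K u i).obj F ≅
      (presheafToSheaf K AddCommGrpCat.{u}).obj (u.op ⋙ F.cohomologyPresheaf i)) := by
  cases i with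
  | zero => exact ⟨zeroIso J K u F⟩
  | succ n => exact ⟨succIso J K u F n⟩


/-- Let u : D ⥤ C be a continuous functor between small sites (e.g. underlying a morphism of sites f),
with direct image f_* F = F ∘ u; only continuity is used. Then R^i f_* F is isomorphic to the
sheafification of the presheaf V ↦ H^i(u(V), F) (existence of an isomorphism of sheaves). -/
theorem result {C D : Type u} [SmallCategory C] [SmallCategory D]
    (J : GrothendieckTopology C) (K : GrothendieckTopology D) (u : D ⥤ C) [u.IsContinuous K J]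
    (F : Sheaf J AddCommGrpCat.{u}) (i : ℕ) :
    Nonempty ((CohSite.Rpush J K u i).obj F ≅
      (presheafToSheaf K AddCommGrpCat.{u}).obj (u.op ⋙ F.cohomologyPresheaf i)) := by
  exact result' J K u F i

end Groth.Agent.S0487
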