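import Groth.Statements.S0858
import Mathlib
import Groth.Agent.Lib.Helper21Cech3
-- import your own Groth.Agent.* helpers here

set_option autoImplicit false
set_option linter.style.haveILetI false
universe u
open CategoryTheory
open CohSite

namespace Groth.Agent.S0858
open CategoryTheory.Limits Opposite Groth.Agent.Lib.Helper21.Cech

/-- an injective sheaf is an injective presheaf. -/
lemma injective_presheaf {C : Type u} [SmallCategory C] (J : GrothendieckTopology C)
    (I : Sheaf J AddCommGrpCat.{u}) [Injective I] : Injective I.obj := by
  have := Injective.injective_of_adjoint (sheafificationAdjunction J AddCommGrpCat.{u}) I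
  exact this

/-- a retract of a presheaf with vanishing Cech cohomology has vanishing Cech cohomology. -/
lemma isZero_of_retract {C : Type u} [SmallCategory C] [HasPullbacks C] {U : C} {ι : Type u}
    (Y : ι → Over U) {P Q : Cᵒᵖ ⥤ AddCommGrpCat.{u}} (i : P ⟶ Q) (r : Q ⟶ P) (h : i ≫ r = 𝟙 P)
    (p : ℕ) (hQ : IsZero (CohCx.cechH Q Y p)) : IsZero (CohCx.cechH P Y p) := by
  let a := HomologicalComplex.homologyMap ((CechEdge.cxFunctor Y).map i) p
  let b := HomologicalComplex.homologyMap ((CechEdge.cxFunctor Y).map r) p
  have hab : a ≫ b = 𝟙 _ := by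
    rw [← HomologicalComplex.homologyMap_comp, ← Functor.map_comp, h, CategoryTheory.Functor.map_id,
      HomologicalComplex.homologyMap_id]
  rw [IsZero.iff_id_eq_zero]
  have : a = 0 := hQ.eq_of_tgt _ _
  refine hab.symm.trans ?_
  rw [this, zero_comp]

theorem result' {C : Type u} [SmallCategory C] [HasPullbacks C]
    (J : GrothendieckTopology C) (I : Sheaf J AddCommGrpCat.{u}) [Injective I]
    {U : C} {ι : Type u} (Y : ι → Over U) (p : ℕ) :
    IsZero (CohCx.cechH I.obj Y (p + 1)) := by
  haveI := injective_presheaf J I
  let r := Injective.factorThru (𝟙 I.obj) (effι I.obj)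
  have hr : effι I.obj ≫ r = 𝟙 _ := Injective.comp_factorThru _ _
  exact isZero_of_retract Y (effι I.obj) r hr (p + 1) (isZero_cechH_eff Y I.obj p)


open CategoryTheory.Limits in
/-- On a site with fibre products, for a covering family Y_i -> U and an injective abelian sheaf I, the
Cech cohomology groups of I with respect to the family vanish in all positive degrees. -/
theorem result {C : Type u} [SmallCategory C] [HasPullbacks C]
    (J : GrothendieckTopology C) (I : Sheaf J AddCommGrpCat.{u}) [Injective I]
    {U : C} {ι : Type u} (Y : ι → Over U)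
    (hY : Sieve.ofArrows (fun i => (Y i).left) (fun i => (Y i).hom) ∈ J U) (p : ℕ) :
    IsZero (CohCx.cechH I.obj Y (p + 1)) := by
  exact result' J I Y p

end Groth.Agent.S0858
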