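import Groth.Statements.S0861
import Mathlib
import Groth.Agent.Lib.Helper21Cech4
import Groth.Agent.Lib.Helper16CechLES
import Groth.Agent.Lib.Helper16Flasque
import Groth.Agent.S0858
import Groth.Agent.S0859
-- import your own Groth.Agent.* helpers here

set_option autoImplicit false
set_option linter.style.haveILetI false
set_option linter.unusedSectionVars false
universe u
open CategoryTheory
open CohSite

namespace Groth.Agent.S0861
open Opposite CategoryTheory.Limits Groth.Agent.Lib.Helper21.Cech Groth.Agent.Lib.Helper16.Flasque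

section
variable {C : Type u} [SmallCategory C] [HasPullbacks C] {U : C} {ι : Type u} (Y : ι → Over U)

/-- the Cech complex functor is exact on sequences which are exact on the iterated fibre products. -/
theorem shortExact_cx' (S : ShortComplex (Cᵒᵖ ⥤ AddCommGrpCat.{u}))
    (hinj : ∀ (n : ℕ) (i : Fin (n + 1) → ι), Function.Injective (S.f.app (op (fp Y i).left)).hom)
    (hex : ∀ (n : ℕ) (i : Fin (n + 1) → ι) (x : S.X₂.obj (op (fp Y i).left)),
      (S.g.app (op (fp Y i).left)).hom x = 0 → ∃ y, (S.f.app (op (fp Y i).left)).hom y = x)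
    (hsurj : ∀ (n : ℕ) (i : Fin (n + 1) → ι), Function.Surjective (S.g.app (op (fp Y i).left)).hom) :
    (S.map (CechEdge.cxFunctor Y)).ShortExact := by
  apply HomologicalComplex.shortExact_of_degreewise_shortExact
  intro n
  have hf : ∀ (c : (CechEdge.cx S.X₁ Y).X n) (i : Fin (n + 1) → ι),
      (proj Y S.X₂ n i).hom ((((CechEdge.cxFunctor Y).map S.f).f n).hom c) =
        (S.f.app _).hom ((proj Y S.X₁ n i).hom c) := fun c i =>
    ConcreteCategory.congr_hom (cxMap_proj Y S.f n i) c
  have hg : ∀ (c : (CechEdge.cx S.X₂ Y).X n) (i : Fin (n + 1) → ι),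
      (proj Y S.X₃ n i).hom ((((CechEdge.cxFunctor Y).map S.g).f n).hom c) =
        (S.g.app _).hom ((proj Y S.X₂ n i).hom c) := fun c i =>
    ConcreteCategory.congr_hom (cxMap_proj Y S.g n i) c
  refine ShortComplex.ShortExact.mk' ?_ ?_ ?_
  · rw [ShortComplex.ab_exact_iff]
    intro c hc
    change (((CechEdge.cxFunctor Y).map S.g).f n).hom c = 0 at hc
    have h1 : ∀ i, ∃ y, (S.f.app _).hom y = (proj Y S.X₂ n i).hom c := by
      intro i
      apply hex n i
      exact (hg c i).symm.trans ((congrArg (proj Y S.X₃ n i).hom hc).trans (map_zero _))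
    choose y hy using h1
    refine ⟨mkX Y S.X₁ y, ?_⟩
    change (((CechEdge.cxFunctor Y).map S.f).f n).hom _ = c
    apply X_ext
    intro i
    rw [hf, proj_mkX, hy]
  · rw [AddCommGrpCat.mono_iff_injective]
    intro c c' hcc
    change (((CechEdge.cxFunctor Y).map S.f).f n).hom c = (((CechEdge.cxFunctor Y).map S.f).f n).hom c' at hcc
    apply X_ext
    intro i
    apply hinj n i
    exact (hf c i).symm.trans ((congrArg (proj Y S.X₂ n i).hom hcc).trans (hf c' i))
  · rw [AddCommGrpCat.epi_iff_surjective]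
    intro c
    have h1 : ∀ i, ∃ y, (S.g.app _).hom y = (proj Y S.X₃ n i).hom c :=
      fun i => hsurj n i _
    choose y hy using h1
    refine ⟨mkX Y S.X₂ y, ?_⟩
    change (((CechEdge.cxFunctor Y).map S.g).f n).hom _ = c
    apply X_ext
    intro i
    rw [hg, proj_mkX, hy]

end


theorem result' {C : Type u} [SmallCategory C] [HasPullbacks C]
    (J : GrothendieckTopology C) (B : Set C) (Cov : ∀ (U : C) (ι : Type u), (ι → Over U) → Prop)
    (h1 : ∀ (U : C) (ι : Type u) (Y : ι → Over U), Cov U ι Y → U ∈ B ∧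
      Sieve.ofArrows (fun i => (Y i).left) (fun i => (Y i).hom) ∈ J U ∧
      ∀ (p : ℕ) (a : Fin (p + 1) → ι), (∏ᶜ fun k => Y (a k)).left ∈ B)
    (h2 : ∀ U ∈ B, ∀ T ∈ J U, ∃ (ι : Type u) (Y : ι → Over U), Cov U ι Y ∧ ∀ i, T.arrows (Y i).hom)
    (F : Sheaf J AddCommGrpCat.{u})
    (h3 : ∀ (U : C) (ι : Type u) (Y : ι → Over U), Cov U ι Y → ∀ p : ℕ, IsZero (CohCx.cechH F.obj Y (p + 1)))
    (U : C) (hU : U ∈ B) (p : ℕ) : Subsingleton (CohSite.HU F (p + 1) U) := by
  -- the predicate
  let P : Sheaf J AddCommGrpCat.{u} → Prop := fun G =>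
    ∀ (U : C) (ι : Type u) (Y : ι → Over U), Cov U ι Y → ∀ p : ℕ, IsZero (CohCx.cechH G.obj Y (p + 1))
  have surjB : ∀ (S : ShortComplex (Sheaf J AddCommGrpCat.{u})), S.ShortExact → P S.X₁ →
      ∀ V ∈ B, Function.Surjective (S.g.hom.app (op V)) := by
    intro S hS hP V hV
    refine Groth.Agent.S0859.result' S hS V (fun T hT => ?_)
    obtain ⟨ι, Y, hc, hT'⟩ := h2 V hV T hT
    exact ⟨ι, Y, hT', (h1 V ι Y hc).2.1, hP V ι Y hc 0⟩
  have hX₃ : ∀ (S : ShortComplex (Sheaf J AddCommGrpCat.{u})), S.ShortExact → P S.X₁ → P S.X₂ → P S.X₃ := by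
    intro S hS hP1 hP2 V ι Y hc q
    haveI := hS.mono_f
    have hC := shortExact_cx' Y (S.map (sheafToPresheaf J AddCommGrpCat.{u}))
      (fun n i => Groth.Agent.S0859.injective_of_mono_site S.f _)
      (fun n i x hx => Groth.Agent.S0859.exists_of_isKernel_site S hS _ x hx)
      (fun n i => surjB S hS hP1 _ ((h1 V ι Y hc).2.2 n i))
    exact (hC.homology_exact₃ (q + 1) (q + 1 + 1) rfl).isZero_of_both_isZero (hP2 V ι Y hc q)
      (hP1 V ι Y hc (q + 1))
  refine subsingleton_of_forall_eq 0 (fun x => ?_)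
  refine ext_vanish P (CohCx.freeSheaf J U)
    (fun I hI V ι Y _ q => ?_) hX₃ (fun S hS hP1 x => ?_) p F h3 x
  · haveI := hI
    exact Groth.Agent.S0858.result' J I Y q
  · obtain ⟨t, ht⟩ := surjB S hS hP1 U hU (CohFree.evalGen J U S.X₃ x)
    refine ⟨CohFree.ofSect J U S.X₂ t, ?_⟩
    apply (CohFree.homEquivSect J U S.X₃).injective
    rw [CohFree.homEquivSect_apply, CohFree.homEquivSect_apply, ← ht]
    change (S.g.hom.app (op U)).hom (CohFree.evalGen J U S.X₂ (CohFree.ofSect J U S.X₂ t)) = _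
    rw [CohFree.evalGen_ofSect]


open CategoryTheory.Limits in
/-- Let C be a site with fibre products, B a class of objects and Cov a class of covering families
(indexed families of objects over a member of B). Assume: (1) for a family in Cov over U, U and all
iterated fibre products U_{i_0} x_U ... x_U U_{i_p} lie in B; (2) every covering sieve of a member
of B contains a family from Cov; (3) the abelian sheaf F has vanishing Cech cohomology in positive
degrees for every family in Cov. Then H^p(U, F) = 0 for all p > 0 and U in B. -/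
theorem result {C : Type u} [SmallCategory C] [HasPullbacks C]
    (J : GrothendieckTopology C) (B : Set C) (Cov : ∀ (U : C) (ι : Type u), (ι → Over U) → Prop)
    (h1 : ∀ (U : C) (ι : Type u) (Y : ι → Over U), Cov U ι Y → U ∈ B ∧
      Sieve.ofArrows (fun i => (Y i).left) (fun i => (Y i).hom) ∈ J U ∧
      ∀ (p : ℕ) (a : Fin (p + 1) → ι), (∏ᶜ fun k => Y (a k)).left ∈ B)
    (h2 : ∀ U ∈ B, ∀ T ∈ J U, ∃ (ι : Type u) (Y : ι → Over U), Cov U ι Y ∧ ∀ i, T.arrows (Y i).hom)
    (F : Sheaf J AddCommGrpCat.{u})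
    (h3 : ∀ (U : C) (ι : Type u) (Y : ι → Over U), Cov U ι Y → ∀ p : ℕ, IsZero (CohCx.cechH F.obj Y (p + 1)))
    (U : C) (hU : U ∈ B) (p : ℕ) : Subsingleton (CohSite.HU F (p + 1) U) := by
  exact result' J B Cov h1 h2 F h3 U hU p

end Groth.Agent.S0861
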