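import Groth.Statements.S0862
import Mathlib
import Groth.Agent.Lib.Helper16FiltColim
import Groth.Agent.Lib.Helper16QcSect
import Groth.Agent.Lib.Helper16FunctInj
import Groth.Agent.Lib.Helper16RpushNat
import Groth.Agent.S0858
import Groth.Agent.S0861
-- import your own Groth.Agent.* helpers here

set_option autoImplicit false
set_option linter.style.haveILetI false
set_option linter.unusedSectionVars false
universe u
open CategoryTheory
open CohSite

namespace Groth.Agent.S0862

open Opposite CategoryTheory.Limits Abelian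
open Groth.Agent.Lib.Helper16.FiltColim Groth.Agent.Lib.Helper16.QcSect Groth.Agent.Lib.Helper16.FunctInj
open Groth.Agent.Lib.Helper21.Cech

section
variable {C : Type u} [SmallCategory C] [HasPullbacks C]
    (J : GrothendieckTopology C) (B : Set C) (Cov : ∀ (U : C) (ι : Type u), (ι → Over U) → Prop)
    (h1 : ∀ (U : C) (ι : Type u) (Y : ι → Over U), Cov U ι Y → Finite ι ∧ U ∈ B ∧
      Sieve.ofArrows (fun i => (Y i).left) (fun i => (Y i).hom) ∈ J U ∧
      ∀ (p : ℕ) (a : Fin (p + 1) → ι), (∏ᶜ fun k => Y (a k)).left ∈ B)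
    (h2 : ∀ U ∈ B, ∀ T ∈ J U, ∃ (ι : Type u) (Y : ι → Over U), Cov U ι Y ∧ ∀ i, T.arrows (Y i).hom)

include h1 h2

lemma qc_of_mem (W : C) (hW : W ∈ B) : QC J W := by
  intro T hT
  obtain ⟨ι, Y, hc, hYT⟩ := h2 W hW T hT
  obtain ⟨hfin, _, hcov, _⟩ := h1 W ι Y hc
  exact ⟨ι, hfin, Y, hYT, hcov⟩

lemma qc2_of_mem (W : C) (hW : W ∈ B) : QC2 J W := by
  intro T hT
  obtain ⟨ι, Y, hc, hYT⟩ := h2 W hW T hT
  obtain ⟨hfin, _, hcov, hfp⟩ := h1 W ι Y hc
  refine ⟨ι, hfin, Y, hYT, hcov, fun a b => ?_⟩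
  -- the pullback is a retract of the fibre product
  let V := pullback (Y a).hom (Y b).hom
  let g : V ⟶ W := pullback.fst (Y a).hom (Y b).hom ≫ (Y a).hom
  let e : Fin 2 → Pt Y V := ![⟨a, pullback.fst (Y a).hom (Y b).hom⟩, ⟨b, pullback.snd (Y a).hom (Y b).hom⟩]
  have he : ∀ k, (e k).str = g := by
    intro k
    refine Fin.cases ?_ (fun k' => ?_) k
    · rfl
    · obtain rfl : k' = 0 := Subsingleton.elim _ _
      exact pullback.condition.symm
  let α : Fin 2 → ι := fun k => (e k).idx
  obtain ⟨p0, hp0⟩ : ∃ p0 : (fp Y α).left ⟶ (Y a).left, p0 = (Pi.π (Y ∘ α) 0).left := ⟨_, rfl⟩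
  obtain ⟨p1, hp1⟩ : ∃ p1 : (fp Y α).left ⟶ (Y b).left, p1 = (Pi.π (Y ∘ α) 1).left := ⟨_, rfl⟩
  have hw : p0 ≫ (Y a).hom = p1 ≫ (Y b).hom := by
    rw [hp0, hp1]
    exact (Over.w (Pi.π (Y ∘ α) 0)).trans (Over.w (Pi.π (Y ∘ α) 1)).symm
  have h0 : (tup Y g e he).left ≫ p0 = pullback.fst (Y a).hom (Y b).hom := by
    rw [hp0]
    exact congrArg (fun m => m.left) (tup_π Y g e he 0)
  have h1' : (tup Y g e he).left ≫ p1 = pullback.snd (Y a).hom (Y b).hom := by
    rw [hp1]
    exact congrArg (fun m => m.left) (tup_π Y g e he 1)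
  refine ⟨(fp Y α).left, (tup Y g e he).left, pullback.lift p0 p1 hw, ?_, ?_⟩
  · apply pullback.hom_ext
    · rw [Category.assoc, pullback.lift_fst, Category.id_comp, h0]
    · rw [Category.assoc, pullback.lift_snd, Category.id_comp, h1']
  · exact qc_of_mem J B Cov h1 h2 _ (hfp 1 α)

lemma main (p : ℕ) : ∀ (W : C), W ∈ B → ∀ (I : Type u) [SmallCategory I] [IsFiltered I]
    (F : I ⥤ Sheaf J AddCommGrpCat.{u}), GoodExt.{u} (CohCx.freeSheaf J W) p (colimit.cocone F) := by
  induction p with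
  | zero =>
    intro W hW I _ _ F
    exact goodExt_zero J F W (qc2_of_mem J B Cov h1 h2 W hW) _ (colimit.isColimit F)
  | succ p ih =>
    intro W hW I _ _ F
    have hM' : ∀ x : Ext.{u} (CohCx.freeSheaf J W) (colimit (sc.{u} F).X₂) (p + 1), x = 0 := by
      intro x
      have hsub : Subsingleton (CohSite.HU (colimit (sc.{u} F).X₂) (p + 1) W) := by
        refine Groth.Agent.S0861.result' J B Cov (fun U ι Y hc => (h1 U ι Y hc).2) h2 _ ?_ W hW p
        intro U' ι Y hc q
        haveI := (h1 U' ι Y hc).1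
        exact isZero_cechH_colimit J (sc.{u} F).X₂ Y (colimit.cocone _) (colimit.isColimit _)
          (fun n a => qc2_of_mem J B Cov h1 h2 _ ((h1 U' ι Y hc).2.2.2 n a)) q
          (fun i => Groth.Agent.S0858.result' J ((sc.{u} F).X₂.obj i) Y q)
      exact hsub.elim x 0
    exact goodExt_succ (CohCx.freeSheaf J W) p (sc.{u} F).f (sc.{u} F).g _
      (fun i => sc_shortExact_eval.{u} F i)
      (colimit.cocone F) (colimit.cocone (sc.{u} F).X₂) (colimit.cocone (sc.{u} F).X₃)
      (colimMap (sc.{u} F).f) (colimMap (sc.{u} F).g) _ (sc_shortExact_colim.{u} F)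
      (fun i => ι_colimMap _ i) (fun i => ι_colimMap _ i)
      (fun i x => Ext.eq_zero_of_injective x) hM'
      (ih W hW I (sc.{u} F).X₂) (ih W hW I (sc.{u} F).X₃)


theorem result' (U : C) (hU : U ∈ B) (p : ℕ) (I : Type u) [SmallCategory I] [IsFiltered I]
    (F : I ⥤ Sheaf J AddCommGrpCat.{u}) :
    PreservesColimit F ((Sheaf.cohomologyPresheafFunctor J p).flip.obj (op U)) := by
  have hg := main J B Cov h1 h2 p U hU I F
  refine preservesColimit_of_preserves_colimit_cocone (colimit.isColimit F) (isColimitOfGood ?_)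
  constructor
  · intro x
    obtain ⟨i, y, hy⟩ := hg.surj x
    exact ⟨i, y, hy⟩
  · intro i y hy
    exact hg.inj i y hy


end


open Opposite CategoryTheory.Limits in
/-- Let C be a site with fibre products, B a class of objects and Cov a class of finite covering
families such that (1) for a family in Cov over U, U and all iterated fibre products of its members
lie in B, and (2) every covering sieve of a member of B contains a family from Cov. Then for every U
in B, every p and every filtered diagram of abelian sheaves, colim_i H^p(U, F_i) -> H^p(U, colim_i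
F_i) is an isomorphism (phrased: H^p(U, -) preserves the colimit). -/
theorem result {C : Type u} [SmallCategory C] [HasPullbacks C]
    (J : GrothendieckTopology C) (B : Set C) (Cov : ∀ (U : C) (ι : Type u), (ι → Over U) → Prop)
    (h1 : ∀ (U : C) (ι : Type u) (Y : ι → Over U), Cov U ι Y → Finite ι ∧ U ∈ B ∧
      Sieve.ofArrows (fun i => (Y i).left) (fun i => (Y i).hom) ∈ J U ∧
      ∀ (p : ℕ) (a : Fin (p + 1) → ι), (∏ᶜ fun k => Y (a k)).left ∈ B)
    (h2 : ∀ U ∈ B, ∀ T ∈ J U, ∃ (ι : Type u) (Y : ι → Over U), Cov U ι Y ∧ ∀ i, T.arrows (Y i).hom)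
    (U : C) (hU : U ∈ B) (p : ℕ) (I : Type u) [SmallCategory I] [IsFiltered I]
    (F : I ⥤ Sheaf J AddCommGrpCat.{u}) :
    PreservesColimit F ((Sheaf.cohomologyPresheafFunctor J p).flip.obj (op U)) := by
  exact result' J B Cov h1 h2 U hU p I F

end Groth.Agent.S0862
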