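import Groth.Statements.S0468
import Mathlib
import Groth.Agent.S0862
import Groth.Agent.Lib.Helper16CechLES
-- import your own Groth.Agent.* helpers here

set_option autoImplicit false
set_option linter.style.haveILetI false
set_option linter.unusedSectionVars false
universe u
open CategoryTheory
open CohTop

namespace Groth.Agent.S0468

section
open TopologicalSpace Opposite CategoryTheory.Limits

variable {X : TopCat.{u}}

/-- finite nonempty intersections of compact opens are compact in a quasi-separated space -/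
lemma isCompact_finset_inf [QuasiSeparatedSpace X] {κ : Type*} (s : Finset κ) (hs : s.Nonempty)
    (a : κ → Opens X) (ha : ∀ k ∈ s, IsCompact ((a k : Opens X) : Set X)) :
    IsCompact ((s.inf a : Opens X) : Set X) := by
  classical
  induction hs using Finset.Nonempty.cons_induction with
  | singleton k =>
    rw [Finset.inf_singleton]
    exact ha k (Finset.mem_singleton_self k)
  | cons k s hk hs ih =>
    rw [Finset.inf_cons, Opens.coe_inf]
    exact QuasiSeparatedSpace.inter_isCompact _ _ (a k).isOpen (ha k (Finset.mem_cons_self k s))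
      (s.inf a).isOpen (ih (fun k' hk' => ha k' (Finset.mem_cons_of_mem hk')))

/-- the iterated fibre product in `Over V` is the intersection -/
lemma fp_left_eq {V : Opens X} {κ : Type u} (Y : κ → Over V) (p : ℕ) (a : Fin (p + 1) → κ) :
    (∏ᶜ fun k => Y (a k)).left = Finset.univ.inf (fun k => (Y (a k)).left) := by
  apply le_antisymm
  · apply Finset.le_inf
    intro k _
    exact (Pi.π (fun k => Y (a k)) k).left.le
  · have h0 : Finset.univ.inf (fun k => (Y (a k)).left) ≤ V :=
      (Finset.inf_le (Finset.mem_univ (0 : Fin (p + 1)))).trans (Y (a 0)).hom.le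
    let m : Over.mk (homOfLE h0) ⟶ ∏ᶜ fun k => Y (a k) :=
      Pi.lift (fun k => Over.homMk (homOfLE (Finset.inf_le (Finset.mem_univ k))) (Subsingleton.elim _ _))
    exact m.left.le

/-- the class of coverings: finite coverings of compact opens by compact opens -/
def Cov (V : Opens X) (κ : Type u) (Y : κ → Over V) : Prop :=
  Finite κ ∧ IsCompact (V : Set X) ∧ (∀ k, IsCompact ((Y k).left : Set X)) ∧
    Sieve.ofArrows (fun i => (Y i).left) (fun i => (Y i).hom) ∈ Opens.grothendieckTopology X V

lemma h1 [QuasiSeparatedSpace X] (V : Opens X) (κ : Type u) (Y : κ → Over V) (hc : Cov V κ Y) :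
    Finite κ ∧ V ∈ {W : Opens X | IsCompact (W : Set X)} ∧
      Sieve.ofArrows (fun i => (Y i).left) (fun i => (Y i).hom) ∈ Opens.grothendieckTopology X V ∧
      ∀ (p : ℕ) (a : Fin (p + 1) → κ), (∏ᶜ fun k => Y (a k)).left ∈ {W : Opens X | IsCompact (W : Set X)} := by
  obtain ⟨hfin, hV, hY, hcov⟩ := hc
  refine ⟨hfin, hV, hcov, fun p a => ?_⟩
  change IsCompact (((∏ᶜ fun k => Y (a k)).left : Opens X) : Set X)
  rw [fp_left_eq]
  exact isCompact_finset_inf _ Finset.univ_nonempty _ (fun k _ => hY (a k))

lemma h2 [PrespectralSpace X] (V : Opens X) (hV : V ∈ {W : Opens X | IsCompact (W : Set X)})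
    (T : Sieve V) (hT : T ∈ Opens.grothendieckTopology X V) :
    ∃ (κ : Type u) (Y : κ → Over V), Cov V κ Y ∧ ∀ i, T.arrows (Y i).hom := by
  -- for each point of V, a compact open neighbourhood in the sieve
  have hx : ∀ x : X, x ∈ V → ∃ W : Opens X, x ∈ W ∧ IsCompact (W : Set X) ∧ ∃ h : W ⟶ V, T.arrows h := by
    intro x hxV
    obtain ⟨W₀, f, hf, hxW₀⟩ := hT x hxV
    obtain ⟨v, ⟨hvo, hvc⟩, hxv, hvW₀⟩ :=
      (PrespectralSpace.isTopologicalBasis (X := X)).exists_subset_of_mem_open hxW₀ W₀.isOpen
    refine ⟨⟨v, hvo⟩, hxv, hvc, homOfLE hvW₀ ≫ f, T.downward_closed hf _⟩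
  choose! W hxW hWc hWV hWT using hx
  obtain ⟨t, htV, htcov⟩ := IsCompact.elim_nhds_subcover (show IsCompact (V : Set X) from hV)
    (fun x => (W x : Set X)) (fun x hx => (W x).isOpen.mem_nhds (hxW x hx))
  refine ⟨{x // x ∈ t}, fun k => Over.mk (hWV k.1 (htV k.1 k.2)), ⟨inferInstance, hV, ?_, ?_⟩, ?_⟩
  · intro k
    exact hWc k.1 (htV k.1 k.2)
  · apply Groth.Agent.Lib.Helper16.CechLES.covering_of_iSup
    intro x hx
    obtain ⟨y, hy, hxy⟩ := Set.mem_iUnion₂.1 (htcov hx)
    exact Opens.mem_iSup.2 ⟨⟨y, hy⟩, hxy⟩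
  · intro k
    exact hWT k.1 (htV k.1 k.2)

theorem result' [PrespectralSpace X] [QuasiSeparatedSpace X]
    (U : Opens X) (hU : IsCompact (U : Set X))
    (ι : Type u) [Preorder ι] [IsDirected ι (· ≤ ·)] [Nonempty ι] (q : ℕ) :
    PreservesColimitsOfShape ι
      ((Sheaf.cohomologyPresheafFunctor (Opens.grothendieckTopology X) q).flip.obj (op U) :
        CohTop.Ab X ⥤ AddCommGrpCat.{u}) :=
  ⟨fun {F} => Groth.Agent.S0862.result' (Opens.grothendieckTopology X) {W : Opens X | IsCompact (W : Set X)}
    Cov h1 h2 U hU q ι F⟩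


end


open TopologicalSpace Opposite CategoryTheory.Limits in
/-- Let X be a space whose compact opens form a basis and are stable under pairwise intersections, U a
compact open and (F_i) a directed system of abelian sheaves. Then colim H^q(U, F_i) → H^q(U, colim
F_i) is an isomorphism; stated as: H^q(U, -) preserves colimits of shape ι for every nonempty
directed preorder ι. -/
theorem result {X : TopCat.{u}} [PrespectralSpace X] [QuasiSeparatedSpace X]
    (U : Opens X) (hU : IsCompact (U : Set X))
    (ι : Type u) [Preorder ι] [IsDirected ι (· ≤ ·)] [Nonempty ι] (q : ℕ) :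
    PreservesColimitsOfShape ι
      ((Sheaf.cohomologyPresheafFunctor (Opens.grothendieckTopology X) q).flip.obj (op U) :
        CohTop.Ab X ⥤ AddCommGrpCat.{u}) := by
  exact result' U hU ι q

end Groth.Agent.S0468
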