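import Groth.Statements.S8354
import Mathlib
import Groth.Agent.S12229
-- import your own Groth.Agent.* helpers here

set_option autoImplicit false
universe w w' v v' u u'
open CategoryTheory CategoryTheory.Limits
open HomAlg3

namespace Groth.Agent.S8354

open Groth.Agent.S12229

theorem les {C : Type u} [Category.{v} C] [Abelian C] [HasDerivedCategory.{w} C]
    [EnoughInjectives C] {D : Type u'} [Category.{v'} D] [Abelian D] [HasDerivedCategory.{w'} D]
    (F : C ⥤ D) [F.Additive]
    {X₁ X₂ X₃ : CochainComplex.Plus C} (f : X₁ ⟶ X₂) (g : X₂ ⟶ X₃)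
    (hf : Mono ((CochainComplex.Plus.ι C).map f)) (hg : Epi ((CochainComplex.Plus.ι C).map g))
    (hex : kernelSubobject ((CochainComplex.Plus.ι C).map g) = imageSubobject ((CochainComplex.Plus.ι C).map f))
    (i : ℤ) :
    let Φ := HomotopyCategory.Plus.quotient C ⋙ DerivedCategory.Plus.Qh ⋙ F.rightDerivedFunctorPlus ⋙
      DerivedCategory.Plus.ι ⋙ DerivedCategory.homologyFunctor D i
    let Ψ := HomotopyCategory.Plus.quotient C ⋙ DerivedCategory.Plus.Qh ⋙ F.rightDerivedFunctorPlus ⋙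
      DerivedCategory.Plus.ι ⋙ DerivedCategory.homologyFunctor D (i + 1)
    kernelSubobject (Φ.map g) = imageSubobject (Φ.map f) ∧
      ∃ δ : Φ.obj X₃ ⟶ Ψ.obj X₁,
        kernelSubobject δ = imageSubobject (Φ.map g) ∧ kernelSubobject (Ψ.map f) = imageSubobject δ := by
  intro Φ Ψ
  -- the short exact sequence
  have hzero : f.hom ≫ g.hom = 0 := by
    have h1 : (imageSubobject f.hom).arrow ≫ g.hom = 0 := by
      have h2 : (kernelSubobject g.hom).arrow ≫ g.hom = 0 := kernelSubobject_arrow_comp g.hom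
      have hex' : kernelSubobject g.hom = imageSubobject f.hom := hex
      rw [hex'] at h2
      exact h2
    rw [← imageSubobject_arrow_comp f.hom, Category.assoc, h1, comp_zero]
  let S : ShortComplex (CochainComplex C ℤ) := ShortComplex.mk f.hom g.hom hzero
  have hS : S.ShortExact :=
    { exact := (ShortComplex.exact_iff_image_eq_kernel S).2 hex.symm
      mono_f := hf
      epi_g := hg }
  obtain ⟨n₁, h₁⟩ := X₁.property
  obtain ⟨n₂, h₂⟩ := X₂.property
  obtain ⟨n₃, h₃⟩ := X₃.property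
  let n := min n₁ (min n₂ n₃)
  have : S.X₁.IsStrictlyGE n := X₁.obj.isStrictlyGE_of_ge n n₁ (by simp [n])
  have : S.X₂.IsStrictlyGE n := X₂.obj.isStrictlyGE_of_ge n n₂ (by simp [n])
  have : S.X₃.IsStrictlyGE n := X₃.obj.isStrictlyGE_of_ge n n₃ (by simp [n])
  obtain ⟨S', hS', φ, d, q₁, q₂, q₃, i₁, i₂, i₃, b₁, b₂, b₃, hsplit⟩ := exists_resolution S hS n
  -- the resolving objects in `CochainComplex.Plus C`
  let J₁ : CochainComplex.Plus C := ⟨S'.X₁, d, b₁⟩
  let J₂ : CochainComplex.Plus C := ⟨S'.X₂, d, b₂⟩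
  let J₃ : CochainComplex.Plus C := ⟨S'.X₃, d, b₃⟩
  let a : J₁ ⟶ J₂ := ObjectProperty.homMk S'.f
  let b : J₂ ⟶ J₃ := ObjectProperty.homMk S'.g
  let p₁ : X₁ ⟶ J₁ := ObjectProperty.homMk φ.τ₁
  let p₂ : X₂ ⟶ J₂ := ObjectProperty.homMk φ.τ₂
  let p₃ : X₃ ⟶ J₃ := ObjectProperty.homMk φ.τ₃
  have comm₁ : f ≫ p₂ = p₁ ≫ a := by
    ext : 1
    exact φ.comm₁₂.symm
  have comm₂ : g ≫ p₃ = p₂ ≫ b := by
    ext : 1
    exact φ.comm₂₃.symm
  -- the functor W
  let W : CochainComplex.Plus C ⥤ DerivedCategory D :=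
    HomotopyCategory.Plus.quotient C ⋙ DerivedCategory.Plus.Qh ⋙ F.rightDerivedFunctorPlus ⋙
      DerivedCategory.Plus.ι
  have hW₁ : IsIso (W.map p₁) := by
    have := isIso_Qh_map p₁ q₁
    dsimp [W]; infer_instance
  have hW₂ : IsIso (W.map p₂) := by
    have := isIso_Qh_map p₂ q₂
    dsimp [W]; infer_instance
  have hW₃ : IsIso (W.map p₃) := by
    have := isIso_Qh_map p₃ q₃
    dsimp [W]; infer_instance
  have hτ₁ : IsIso (τ F J₁) := isIso_τ F S'.X₁ d b₁ i₁
  have hτ₂ : IsIso (τ F J₂) := isIso_τ F S'.X₂ d b₂ i₂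
  have hτ₃ : IsIso (τ F J₃) := isIso_τ F S'.X₃ d b₃ i₃
  -- isos in the derived category
  let FS : ShortComplex (CochainComplex D ℤ) := S'.map (F.mapHomologicalComplex (ComplexShape.up ℤ))
  have hFS : FS.ShortExact := shortExact_map F S' hsplit
  let T := DerivedCategory.triangleOfSES hFS
  have hT : T ∈ Pretriangulated.distinguishedTriangles := DerivedCategory.triangleOfSES_distinguished hFS
  let ε₁ : W.obj X₁ ≅ T.obj₁ := asIso (W.map p₁) ≪≫ (asIso (τ F J₁)).symm
  let ε₂ : W.obj X₂ ≅ T.obj₂ := asIso (W.map p₂) ≪≫ (asIso (τ F J₂)).symm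
  let ε₃ : W.obj X₃ ≅ T.obj₃ := asIso (W.map p₃) ≪≫ (asIso (τ F J₃)).symm
  have nat₁ : W.map f ≫ ε₂.hom = ε₁.hom ≫ T.mor₁ := by
    have h := τ_naturality F a
    have h' : inv (τ F J₁) ≫ DerivedCategory.Q.map ((F.mapHomologicalComplex (ComplexShape.up ℤ)).map a.hom)
        = W.map a ≫ inv (τ F J₂) := by
      rw [IsIso.inv_comp_eq, ← Category.assoc, IsIso.eq_comp_inv]
      exact h
    show W.map f ≫ (W.map p₂ ≫ inv (τ F J₂)) = (W.map p₁ ≫ inv (τ F J₁)) ≫ T.mor₁
    rw [← Category.assoc, ← W.map_comp, comm₁, W.map_comp, Category.assoc, ← h']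
    exact (Category.assoc _ _ _).symm
  have nat₂ : W.map g ≫ ε₃.hom = ε₂.hom ≫ T.mor₂ := by
    have h := τ_naturality F b
    have h' : inv (τ F J₂) ≫ DerivedCategory.Q.map ((F.mapHomologicalComplex (ComplexShape.up ℤ)).map b.hom)
        = W.map b ≫ inv (τ F J₃) := by
      rw [IsIso.inv_comp_eq, ← Category.assoc, IsIso.eq_comp_inv]
      exact h
    show W.map g ≫ (W.map p₃ ≫ inv (τ F J₃)) = (W.map p₂ ≫ inv (τ F J₂)) ≫ T.mor₂
    rw [← Category.assoc, ← W.map_comp, comm₂, W.map_comp, Category.assoc, ← h']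
    exact (Category.assoc _ _ _).symm
  let H := DerivedCategory.homologyFunctor D i
  let H' := DerivedCategory.homologyFunctor D (i + 1)
  exact transport (Φ.map f) (Φ.map g) (Ψ.map f)
    (H.map T.mor₁) (H.map T.mor₂) (DerivedCategory.HomologySequence.δ T i (i + 1) rfl) (H'.map T.mor₁)
    (H.mapIso ε₁) (H.mapIso ε₂) (H.mapIso ε₃) (H'.mapIso ε₁) (H'.mapIso ε₂)
    (by
      show H.map (W.map f) ≫ H.map ε₂.hom = H.map ε₁.hom ≫ H.map T.mor₁
      rw [← H.map_comp, ← H.map_comp, nat₁])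
    (by
      show H.map (W.map g) ≫ H.map ε₃.hom = H.map ε₂.hom ≫ H.map T.mor₂
      rw [← H.map_comp, ← H.map_comp, nat₂])
    (by
      show H'.map (W.map f) ≫ H'.map ε₂.hom = H'.map ε₁.hom ≫ H'.map T.mor₁
      rw [← H'.map_comp, ← H'.map_comp, nat₁])
    _ (DerivedCategory.HomologySequence.comp_δ T hT i (i + 1) rfl)
    (DerivedCategory.HomologySequence.δ_comp T hT i (i + 1) rfl)
    (DerivedCategory.HomologySequence.exact₂ T hT i)
    (DerivedCategory.HomologySequence.exact₃ T hT i (i + 1) rfl)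
    (DerivedCategory.HomologySequence.exact₁ T hT i (i + 1) rfl)


/-- Bounded-below case, exactness at the middle term. Let T : C ⥤ D be an additive functor of abelian
categories, C having enough injectives, and 0 ⟶ K₁ ⟶ K₂ ⟶ K₃ ⟶ 0 a short exact sequence of bounded
below cochain complexes of C. Let R^n T(K) denote the n-th cohomology object of R⁺T(K), where R⁺T is
the right derived functor of T on the bounded below derived category (computed with injective
resolutions). Then R^n T(K₁) ⟶ R^n T(K₂) ⟶ R^n T(K₃) is exact for every n. (The published statement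
asserts a long exact sequence with connecting morphisms; this row states exactness at the middle
term only, with the vanishing of the composite carried as a hypothesis.) -/
theorem result {C : Type u} [Category.{v} C] [Abelian C]
    [EnoughInjectives C] [HasDerivedCategory.{w} C] {D : Type u'} [Category.{v'} D] [Abelian D]
    [HasDerivedCategory.{w'} D] (T : C ⥤ D) [T.Additive] {K₁ K₂ K₃ : CochainComplex.Plus C}
    (φ : K₁ ⟶ K₂) (ψ : K₂ ⟶ K₃) (hφψ : φ.hom ≫ ψ.hom = 0)
    (hS : (ShortComplex.mk φ.hom ψ.hom hφψ).ShortExact) (n : ℤ)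
    (hz : (HomotopyCategory.Plus.quotient C ⋙ DerivedCategory.Plus.Qh ⋙ T.rightDerivedFunctorPlus ⋙
          DerivedCategory.Plus.homologyFunctor D n).map φ ≫
      (HomotopyCategory.Plus.quotient C ⋙ DerivedCategory.Plus.Qh ⋙ T.rightDerivedFunctorPlus ⋙
          DerivedCategory.Plus.homologyFunctor D n).map ψ = 0) :
    (ShortComplex.mk ((HomotopyCategory.Plus.quotient C ⋙ DerivedCategory.Plus.Qh ⋙ T.rightDerivedFunctorPlus ⋙
          DerivedCategory.Plus.homologyFunctor D n).map φ)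
      ((HomotopyCategory.Plus.quotient C ⋙ DerivedCategory.Plus.Qh ⋙ T.rightDerivedFunctorPlus ⋙
          DerivedCategory.Plus.homologyFunctor D n).map ψ) hz).Exact := by
  have h := les T φ ψ hS.mono_f hS.epi_g
    (((ShortComplex.exact_iff_image_eq_kernel _).1 hS.exact).symm) n
  exact (ShortComplex.exact_iff_image_eq_kernel _).2 h.1.symm

end Groth.Agent.S8354
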