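import Groth.Statements.S12895
import Mathlib
import Groth.Agent.S11918
import Groth.Agent.S12450
import Groth.Agent.Lib.Helper23LocSS
import Groth.Agent.Lib.Helper23ExtRD
import Groth.Agent.Lib.Helper21FreeConst
import Groth.Agent.Lib.Helper21DerPost

set_option autoImplicit false
universe u
open CategoryTheory CategoryTheory.Limits
open ModSite

namespace Groth.Agent.S12895

open Groth.Agent.Lib.Helper23SS3 Groth.Agent.Lib.Helper23SS5 Groth.Agent.S12229
  Groth.Agent.Lib.Helper23Acyclic Groth.Agent.Lib.Helper23Leray Groth.Agent.Lib.Helper23Bridge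
  Groth.Agent.Lib.Helper23LocSS Groth.Agent.Lib.Helper23ExtRD
  Groth.Agent.Lib.Helper21.FreeAb Groth.Agent.Lib.Helper21.TorsFree Groth.Agent.Lib.Helper21.DerPost
  Opposite

section
variable {C : Type u} [SmallCategory C] {J : GrothendieckTopology C} (O : Sheaf J CommRingCat.{u})

instance toSheaf_preservesFiniteColimits :
    PreservesFiniteColimits (SheafOfModules.toSheaf.{u} (ModSite.ringSh O)) :=
  haveI := Groth.Agent.S12450.result O
  PreservesColimitsOfSize.preservesFiniteColimits.{u, u} _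

instance toSheaf_preservesHomology :
    (SheafOfModules.toSheaf.{u} (ModSite.ringSh O)).PreservesHomology :=
  inferInstance

end

/-- The local-to-global Ext sequence: on a small ringed site (C, J, O) with O commutative, for O-modules
M and N there is an E₂ spectral sequence of abelian groups with E₂^{p,q} ≅ H^p(C, ℰxt^q_O(M, N)) for
p, q ≥ 0 (and 0 otherwise), bounded, abutting with finite filtrations to Ext^n_O(M, N) (n ≥ 0; 0 for
n < 0); here ℰxt^q_O(M, -) are the right derived functors of the internal Hom ℋom_O(M, -), H^p(C, -)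
is the cohomology of the site with values in the underlying abelian sheaf, and Ext^n_O is computed
in the category of O-modules. (Existence only: the E₂ identifications and the abutment are some
isomorphisms. The internal Hom of M, injective resolutions of O-modules and smallness of the Ext
groups of O-modules are the stated instance hypotheses, all true.) -/
theorem result {C : Type u} [SmallCategory C] {J : GrothendieckTopology C}
    (O : Sheaf J CommRingCat.{u}) (M N : ModSite.Mod O)
    [ModSite.HasSheafHom M] [HasInjectiveResolutions (ModSite.Mod O)] [HasExt.{u} (ModSite.Mod O)] :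
    ∃ (E : E₂CohomologicalSpectralSequence AddCommGrpCat.{u})
      (a : SpSeq.Abutment E (fun n : ℤ =>
        if 0 ≤ n then AddCommGrpCat.of (Abelian.Ext.{u} M N n.toNat) else AddCommGrpCat.of PUnit.{u + 1})),
      (∀ n : ℤ, a.IsFinite n) ∧ SpSeq.IsBounded E ∧
      ∀ p q : ℤ, Nonempty ((E.page 2 le_rfl).X (p, q) ≅
        (if 0 ≤ p ∧ 0 ≤ q then AddCommGrpCat.of (ModSite.HC O ((ModSite.extSh M q.toNat).obj N) p.toNat)
          else AddCommGrpCat.of PUnit.{u + 1})) := by
  haveI := Groth.Agent.Lib.Helper21.ModTensor3.isGrothendieckAbelian O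
  haveI : EnoughInjectives (ModSite.Mod O) := inferInstance
  let T : ModSite.Mod O ⥤ Sheaf J AddCommGrpCat.{u} :=
    ModSite.sheafHom M ⋙ SheafOfModules.toSheaf (ModSite.ringSh O)
  let S : Sheaf J AddCommGrpCat.{u} ⥤ AddCommGrpCat.{u} :=
    preadditiveCoyoneda.obj (op (Zc (J := J)))
  have hz : IsZero (AddCommGrpCat.of PUnit.{u + 1}) := AddCommGrpCat.isZero_of_subsingleton _
  have hT : ∀ Q : ModSite.Mod O, Injective Q → ∀ q : ℕ, 0 < q →
      IsZero ((S.rightDerived q).obj (T.obj Q)) := by
    intro Q hQ q hq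
    obtain ⟨q, rfl⟩ : ∃ k, q = k + 1 := ⟨q - 1, by lia⟩
    obtain ⟨e⟩ := rightDerived_coyoneda_iso (Zc (J := J)) (T.obj Q) (q + 1)
    refine IsZero.of_iso ?_ e
    haveI : Subsingleton (Abelian.Ext.{u} (Zc (J := J)) (T.obj Q) (q + 1)) :=
      ⟨fun x y => (ext_sheafHom_eq_zero O M Q q _ TF_Zc x).trans
        (ext_sheafHom_eq_zero O M Q q _ TF_Zc y).symm⟩
    exact AddCommGrpCat.isZero_of_subsingleton _
  have : HasDerivedCategory.{u + 1} (Sheaf J AddCommGrpCat.{u}) := HasDerivedCategory.standard _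
  have : HasDerivedCategory.{u + 1} AddCommGrpCat.{u} := HasDerivedCategory.standard _
  have : HasDerivedCategory.{u + 1} (ModSite.Mod O) := HasDerivedCategory.standard _
  let I : InjectiveResolution N := injectiveResolution N
  let TI : CochainComplex (Sheaf J AddCommGrpCat.{u}) ℤ :=
    (T.mapHomologicalComplex (ComplexShape.up ℤ)).obj I.cochainComplex
  have hTI : TI.IsStrictlyGE 0 := by dsimp [TI]; infer_instance
  let K : CochainComplex.Plus (Sheaf J AddCommGrpCat.{u}) := ⟨TI, 0, hTI⟩
  let Y' := DerivedCategory.Plus.Q.obj K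
  have hY : Y'.IsGE 0 := by
    rw [← DerivedCategory.Plus.isGE_ι_obj_iff]
    show (DerivedCategory.Q.obj TI).IsGE 0
    infer_instance
  have hK : IsIso (τ S K) := leray S K (fun m => (acyclic_iff S _).2 (hT _ (by
    show Injective (I.cochainComplex.X m); infer_instance)))
  have e : ∀ n : ℤ, Nonempty ((DerivedCategory.homologyFunctor AddCommGrpCat.{u} n).obj ((G S).obj Y') ≅
      (if 0 ≤ n then AddCommGrpCat.of (Abelian.Ext.{u} M N n.toNat)
          else AddCommGrpCat.of PUnit.{u + 1})) := by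
    intro n
    obtain ⟨e₁⟩ := homology_G_Q S K hK n
    by_cases h : 0 ≤ n
    · rw [if_pos h]
      obtain ⟨e₂⟩ := homology_map_cochainComplex (T ⋙ S) I n.toNat n (Int.toNat_of_nonneg h)
      let e₃ := (rightDerivedIso (sheafHomCoyonedaIso O M) n.toNat).app N
      obtain ⟨e₄⟩ := rightDerived_coyoneda_iso M N n.toNat
      exact ⟨e₁ ≪≫ e₂ ≪≫ e₃ ≪≫ e₄⟩
    · rw [if_neg h]
      exact ⟨e₁ ≪≫ (isZero_homology_map_cochainComplex (T ⋙ S) I n (by lia)).isoZero ≪≫
        hz.isoZero.symm⟩
  obtain ⟨E, a, ha, hE, hpq⟩ := exists_spectralSequence S Y' _ (fun n => (e n).some)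
  refine ⟨E, a, ha, hE, fun p q => ?_⟩
  by_cases h : 0 ≤ p ∧ 0 ≤ q
  · rw [if_pos h]
    obtain ⟨e₁⟩ := (hpq p q).1 p.toNat (Int.toNat_of_nonneg h.1)
    obtain ⟨e₂⟩ := homology_map_cochainComplex T I q.toNat q (Int.toNat_of_nonneg h.2)
    let e₂' : (T.rightDerived q.toNat).obj N ≅
        ModSite.toAb ((ModSite.extSh M q.toNat).obj N) :=
      (postIso (ModSite.sheafHom M) (SheafOfModules.toSheaf (ModSite.ringSh O)) q.toNat).app N
    obtain ⟨e₃⟩ := rightDerived_coyoneda_iso (Zc (J := J))
      (ModSite.toAb ((ModSite.extSh M q.toNat).obj N)) p.toNat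
    exact ⟨e₁ ≪≫ (S.rightDerived p.toNat).mapIso
      ((DerivedCategory.homologyFunctorFactors (Sheaf J AddCommGrpCat.{u}) q).app TI ≪≫ e₂ ≪≫ e₂') ≪≫ e₃⟩
  · rw [if_neg h]
    exact ⟨((hpq p q).2 h).isoZero ≪≫ hz.isoZero.symm⟩

end Groth.Agent.S12895
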