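import Groth.Statements.S6160
import Mathlib
import Groth.Agent.S0484
-- import your own Groth.Agent.* helpers here

set_option autoImplicit false
universe u
open CategoryTheory
open ModSite

namespace Groth.Agent.S6160

section helpers
open CategoryTheory CategoryTheory.Limits
variable {C : Type u} [SmallCategory C] {J : GrothendieckTopology C} (R : Sheaf J RingCat.{u})

noncomputable instance toSheaf_preservesLimitsOfShape (K : Type u) [SmallCategory K] :
    PreservesLimitsOfShape K (SheafOfModules.toSheaf.{u} R) := by
  have : PreservesLimitsOfShape K (SheafOfModules.toSheaf.{u} R ⋙ sheafToPresheaf _ _) :=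
    inferInstanceAs (PreservesLimitsOfShape K
      (SheafOfModules.forget.{u} R ⋙ PresheafOfModules.toPresheaf R.obj))
  exact preservesLimitsOfShape_of_reflects_of_preserves _ (sheafToPresheaf _ _)

end helpers

open CategoryTheory.Limits in
/-- Ringed topos of sheaves on a small site; u : A -> B a morphism of sheaves of rings: the
restriction-of-scalars functor from B-Modules to A-Modules commutes with all u-small limits and
colimits and is conservative. -/
theorem result {C : Type u} [SmallCategory C]
    {J : GrothendieckTopology C} {A B : Sheaf J RingCat.{u}} (φ : A ⟶ B) :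
    PreservesLimitsOfSize.{u, u} (SheafOfModules.restrictScalars.{u} φ) ∧
    PreservesColimitsOfSize.{u, u} (SheafOfModules.restrictScalars.{u} φ) ∧
    (SheafOfModules.restrictScalars.{u} φ).ReflectsIsomorphisms := by
  have e : SheafOfModules.restrictScalars.{u} φ ⋙ SheafOfModules.toSheaf.{u} A =
      SheafOfModules.toSheaf.{u} B := rfl
  refine ⟨⟨fun {K} _ => ?_⟩, ⟨fun {K} _ => ?_⟩, ?_⟩
  · have : ReflectsLimitsOfShape K (SheafOfModules.toSheaf.{u} A) :=
      reflectsLimitsOfShape_of_reflectsIsomorphisms
    have : PreservesLimitsOfShape K
        (SheafOfModules.restrictScalars.{u} φ ⋙ SheafOfModules.toSheaf.{u} A) := by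
      rw [e]; infer_instance
    exact preservesLimitsOfShape_of_reflects_of_preserves _ (SheafOfModules.toSheaf.{u} A)
  · have : PreservesColimitsOfShape K (SheafOfModules.toSheaf.{u} A) :=
      Groth.Agent.S0484.preservesColimitsOfShape_toSheaf J A K
    have : ReflectsColimitsOfShape K (SheafOfModules.toSheaf.{u} A) :=
      reflectsColimitsOfShape_of_reflectsIsomorphisms
    have : PreservesColimitsOfShape K
        (SheafOfModules.restrictScalars.{u} φ ⋙ SheafOfModules.toSheaf.{u} A) := by
      rw [e]; exact Groth.Agent.S0484.preservesColimitsOfShape_toSheaf J B K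
    exact preservesColimitsOfShape_of_reflects_of_preserves _ (SheafOfModules.toSheaf.{u} A)
  · have : (SheafOfModules.restrictScalars.{u} φ ⋙
        SheafOfModules.toSheaf.{u} A).ReflectsIsomorphisms := by
      rw [e]; infer_instance
    exact reflectsIsomorphisms_of_comp _ (SheafOfModules.toSheaf.{u} A)

end Groth.Agent.S6160
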