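import Groth.Statements.S3556
import Groth.Agent.Lib.Helper4Proj

set_option autoImplicit false
universe u
open CategoryTheory CategoryTheory.Limits AlgebraicGeometry
open EGA2

namespace Groth.Agent.S3556

set_option backward.isDefEq.respectTransparency.types false in
/-- Let S be a graded ring which is essentially reduced, i.e. its irrelevant ideal S_+ contains no
nonzero nilpotent element. Then Proj S is a reduced scheme. -/
theorem result {R A : Type u} [CommRing R] [CommRing A] [Algebra R A] (𝒜 : ℕ → Submodule R A) [GradedAlgebra 𝒜]
    (hred : ∀ f ∈ (HomogeneousIdeal.irrelevant 𝒜).toIdeal, IsNilpotent f → f = 0) :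
    AlgebraicGeometry.IsReduced (Proj 𝒜) := by
  have : ∀ x : Proj 𝒜, _root_.IsReduced ((Proj 𝒜).presheaf.stalk x) := by
    intro x
    have h1 := Groth.Agent.Lib.Helper4.atPrime_isReduced 𝒜 hred x
    exact isReduced_of_injective (Proj.stalkIso 𝒜 x).hom.hom
      ((ConcreteCategory.bijective_of_isIso (Proj.stalkIso 𝒜 x).hom).1)
  exact isReduced_of_isReduced_stalk _

end Groth.Agent.S3556
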