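import Groth.Statements.S1707
import Groth.Agent.Lib.Helper2QCoh

set_option autoImplicit false
universe u
open CategoryTheory CategoryTheory.Limits AlgebraicGeometry TopologicalSpace
open SDiv

namespace Groth.Agent.S1707

open CategoryTheory CategoryTheory.Limits AlgebraicGeometry TopologicalSpace in
open Groth.Agent.Lib.Helper2.QCoh in
/-- Core: for `m : Γ(F,U)` with nonzero germ at `x`, where `x` is maximal (under generization) in
the support, every `b` in the prime of `x` has a power killing the germ of `m`. -/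
theorem exists_pow_smul_germ_eq_zero {X : Scheme.{u}} (F : X.Modules) [F.IsQuasicoherent]
    {U : X.Opens} (hU : IsAffineOpen U) (x : X) (hxU : x ∈ U)
    (hmax : ∀ y : ↥X, y ∈ CohB1.support F → y ⤳ x → y = x)
    (m : Γ(F, U)) (b : Γ(X, U)) (hb : b ∈ (hU.primeIdealOf ⟨x, hxU⟩).asIdeal) :
    ∃ k : ℕ, (X.presheaf.germ U x hxU b) ^ k • F.presheaf.germ U x hxU m = 0 := by
  classical
  by_contra hcon
  rw [not_exists] at hcon
  set p := (hU.primeIdealOf ⟨x, hxU⟩).asIdeal with hp
  -- the multiplicative set T = (A \ p) * powers b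
  let T : Submonoid Γ(X, U) := p.primeCompl ⊔ Submonoid.powers b
  have hdisj : Disjoint (ann F m : Set Γ(X, U)) (T : Set Γ(X, U)) := by
    rw [Set.disjoint_left]
    intro a haI haT
    obtain ⟨s, hs, z, hz, rfl⟩ := Submonoid.mem_sup.1 haT
    obtain ⟨k, rfl⟩ := hz
    apply hcon k
    have h1 : (s * b ^ k) • m = 0 := mem_ann.1 haI
    have h2 := congrArg (F.presheaf.germ U x hxU) h1
    rw [map_zero, germ_smul, map_mul, mul_smul, map_pow] at h2
    have hsu : IsUnit (X.presheaf.germ U x hxU s) := by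
      rw [← Scheme.mem_basicOpen, Groth.Agent.Lib.Helper2.mem_basicOpen_iff_notMem_primeIdealOf hU x hxU]
      exact hs
    exact germ_smul_eq_zero_of_isUnit hsu h2
  obtain ⟨q, hqprime, hIq, hqT⟩ := Ideal.exists_le_prime_disjoint (ann F m) T hdisj
  let Q : PrimeSpectrum Γ(X, U) := ⟨q, hqprime⟩
  have hqp : q ≤ p := by
    intro a ha
    by_contra hap
    exact (Set.disjoint_left.1 hqT) ha (Submonoid.mem_sup_left (S := p.primeCompl) hap)
  have hbq : b ∉ q := by
    intro hbq
    exact (Set.disjoint_left.1 hqT) hbq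
      (Submonoid.mem_sup_right (Submonoid.mem_powers b))
  have hgy := germ_fromSpec_ne_zero hU F m Q hIq
  have hysupp : hU.fromSpec Q ∈ CohB1.support F := by
    intro hsub
    exact hgy (Subsingleton.elim _ _)
  have hyx : hU.fromSpec Q ⤳ x := fromSpec_specializes hU Q x hxU hqp
  have heq := hmax _ hysupp hyx
  -- then q = p, contradiction with b ∈ p \ q
  have : Q = hU.primeIdealOf ⟨x, hxU⟩ := by
    rw [← primeIdealOf_fromSpec hU Q]
    congr 1
    exact Subtype.ext heq
  apply hbq
  have h3 : q = p := by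
    rw [hp, ← this]
  rw [h3]
  exact hb

/-- Let X be a scheme, F a quasi-coherent module and x a point of the support of F such that no other
point of the support specializes to x. Then x is weakly associated to F. -/
theorem result (X : Scheme.{u}) (F : X.Modules) (hF : Coh.IsQCoh F) (x : ↥X)
    (hx : x ∈ CohB1.support F) (hmax : ∀ y : ↥X, y ∈ CohB1.support F → y ⤳ x → y = x) : Curv2.IsWeakAssPoint F x := by
  have : F.IsQuasicoherent := hF
  obtain ⟨_, ⟨U, hU, rfl⟩, hxU, -⟩ :=
    X.isBasis_affineOpens.exists_subset_of_mem_open (Set.mem_univ x) isOpen_univ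
  have hnt : Nontrivial (F.presheaf.stalk x) := not_subsingleton_iff_nontrivial.1 hx
  obtain ⟨y, hy⟩ := exists_ne (0 : F.presheaf.stalk x)
  obtain ⟨s, m, hxs, hsm, hm0⟩ := Groth.Agent.Lib.Helper2.QCoh.exists_germ_ne_zero hU F x hxU y hy
  refine ⟨F.presheaf.germ U x hxU m, ?_⟩
  set I := LinearMap.ker (LinearMap.toSpanSingleton (X.presheaf.stalk x) (F.presheaf.stalk x)
    (F.presheaf.germ U x hxU m)) with hI
  have memI : ∀ a, a ∈ I ↔ a • F.presheaf.germ U x hxU m = 0 := by
    intro a
    simp [hI, LinearMap.mem_ker, LinearMap.toSpanSingleton_apply]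
  apply le_antisymm
  · have hIne : I ≠ ⊤ := by
      intro htop
      have : (1 : X.presheaf.stalk x) ∈ I := by rw [htop]; trivial
      rw [memI, one_smul] at this
      exact hm0 this
    have hle : I ≤ IsLocalRing.maximalIdeal (X.presheaf.stalk x) := IsLocalRing.le_maximalIdeal hIne
    exact (Ideal.IsPrime.radical_le_iff (IsLocalRing.maximalIdeal.isMaximal _).isPrime).2 hle
  · intro a ha
    let _ : Algebra Γ(X, U) (X.presheaf.stalk x) :=
      TopCat.Presheaf.algebra_section_stalk X.presheaf (⟨x, hxU⟩ : U)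
    have hloc : IsLocalization.AtPrime (X.presheaf.stalk x) (hU.primeIdealOf ⟨x, hxU⟩).asIdeal :=
      hU.isLocalization_stalk ⟨x, hxU⟩
    obtain ⟨⟨b, s'⟩, hbs⟩ := IsLocalization.surj (hU.primeIdealOf ⟨x, hxU⟩).asIdeal.primeCompl a
    have hbs' : a * X.presheaf.germ U x hxU s'.1 = X.presheaf.germ U x hxU b := hbs
    have hs'u : IsUnit (X.presheaf.germ U x hxU s'.1) :=
      IsLocalization.map_units (X.presheaf.stalk x) s'
    have hbp : b ∈ (hU.primeIdealOf ⟨x, hxU⟩).asIdeal := by
      rw [← Groth.Agent.Lib.Helper2.QCoh.germ_mem_maximalIdeal_iff hU x hxU, ← hbs']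
      exact Ideal.mul_mem_right _ _ ha
    obtain ⟨k, hk⟩ := exists_pow_smul_germ_eq_zero F hU x hxU hmax m b hbp
    refine ⟨k, ?_⟩
    rw [memI]
    rw [← hbs', mul_pow, mul_comm, mul_smul] at hk
    exact Groth.Agent.Lib.Helper2.QCoh.germ_smul_eq_zero_of_isUnit (hs'u.pow k) hk

end Groth.Agent.S1707
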