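import Groth.Statements.S0045
import Mathlib
import Groth.Agent.Lib.Helper23FinType2
import Groth.Agent.Lib.Helper23ModLocal
-- import your own Groth.Agent.* helpers here

set_option autoImplicit false
universe u
open Coherent

namespace Groth.Agent.S0045


open AlgebraicGeometry CategoryTheory Groth.Agent.Lib.Helper23.FinType Groth.Agent.Lib.Helper23.QCohLocal
  Groth.Agent.Lib.Helper23.ModLocal

variable {X : Scheme.{u}}

/-- the map on sections over an affine open, as a linear map -/
noncomputable abbrev ΓUmap {A B : X.Modules} (φ : A ⟶ B) {U : X.Opens} (hU : IsAffineOpen U) :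
    ΓU A hU →ₗ[Γ(X, U)] ΓU B hU :=
  ((ΓF Γ(X, U)).map ((Scheme.Modules.restrictFunctor hU.fromSpec).map φ)).hom

theorem ΓUmap_comp {A B C : X.Modules} (φ : A ⟶ B) (ψ : B ⟶ C) {U : X.Opens} (hU : IsAffineOpen U) :
    ΓUmap (φ ≫ ψ) hU = (ΓUmap ψ hU).comp (ΓUmap φ hU) := by
  unfold ΓUmap
  rw [Functor.map_comp, Functor.map_comp]
  rfl

/-- stabilization over one affine open -/
theorem exists_stable_affine [IsLocallyNoetherian X] (M : X.Modules) [M.IsQuasicoherent]
    [SheafOfModules.IsFiniteType (R := X.ringCatSheaf) M] (F : ℕ →o Subobject M) {U : X.Opens}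
    (hU : IsAffineOpen U) :
    ∃ n : ℕ, ∀ m : ℕ, n ≤ m →
      LinearMap.range (ΓUmap (F n).arrow hU) = LinearMap.range (ΓUmap (F m).arrow hU) := by
  haveI : IsNoetherianRing Γ(X, U) := IsLocallyNoetherian.component_noetherian ⟨U, hU⟩
  haveI : Module.Finite Γ(X, U) (ΓU M hU) := (finite_ΓU_iff M hU).2 (finite_of_isFiniteType M hU)
  haveI : IsNoetherian Γ(X, U) (ΓU M hU) := isNoetherian_of_isNoetherianRing_of_finite _ _
  let P : ℕ →o Submodule Γ(X, U) (ΓU M hU) :=
    { toFun := fun k => LinearMap.range (ΓUmap (F k).arrow hU)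
      monotone' := by
        intro k k' hkk'
        have h1 : (F k).ofLE (F k') (F.monotone hkk') ≫ (F k').arrow = (F k).arrow := Subobject.ofLE_arrow _
        change LinearMap.range (ΓUmap (F k).arrow hU) ≤ LinearMap.range (ΓUmap (F k').arrow hU)
        rw [← h1, ΓUmap_comp]
        exact LinearMap.range_comp_le_range _ _ }
  exact (monotone_stabilizes_iff_noetherian.2 inferInstance) P

/-- if the images of sections agree on an affine cover, the inclusion of subobjects is an isomorphism -/
theorem isIso_ofLE_of_range_eq (M : X.Modules) (A B : Subobject M) (hAB : A ≤ B)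
    [(A : X.Modules).IsQuasicoherent] [(B : X.Modules).IsQuasicoherent]
    {ι : Type*} (V : ι → X.Opens) (hV : TopologicalSpace.IsOpenCover V) (hVa : ∀ i, IsAffineOpen (V i))
    (h : ∀ i, LinearMap.range (ΓUmap A.arrow (hVa i)) = LinearMap.range (ΓUmap B.arrow (hVa i))) :
    IsIso (A.ofLE B hAB) := by
  refine isIso_of_bijective_ΓU _ V hV hVa fun i => ⟨?_, ?_⟩
  · exact injective_ΓU_map (A.ofLE B hAB) (hVa i)
  · intro y
    have h1 : A.ofLE B hAB ≫ B.arrow = A.arrow := Subobject.ofLE_arrow _
    have hy : ΓUmap B.arrow (hVa i) y ∈ LinearMap.range (ΓUmap A.arrow (hVa i)) := by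
      rw [h i]; exact ⟨y, rfl⟩
    obtain ⟨z, hz⟩ := hy
    refine ⟨z, ?_⟩
    apply injective_ΓU_map B.arrow (hVa i)
    have h2 := congrArg (fun f => f z) (ΓUmap_comp (A.ofLE B hAB) B.arrow (hVa i))
    simp only [h1] at h2
    exact h2.symm.trans hz

open AlgebraicGeometry CategoryTheory in
/-- On a Noetherian scheme, any increasing sequence of quasi-coherent submodules of a coherent module is
eventually constant. -/
theorem result (X : Scheme.{u}) [IsNoetherian X] (M : X.Modules)
    (hM : Coh.IsCoh M) (F : ℕ →o Subobject M) (hF : ∀ n, Coh.IsQCoh ((F n : Subobject M) : X.Modules)) :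
    ∃ n : ℕ, ∀ m : ℕ, n ≤ m → F m = F n := by
  classical
  haveI : M.IsQuasicoherent := hM.1
  haveI : SheafOfModules.IsFiniteType (R := X.ringCatSheaf) M := hM.2
  have hcov : TopologicalSpace.IsOpenCover (fun V : X.affineOpens => (V : X.Opens)) :=
    iSup_affineOpens_eq_top X
  obtain ⟨s, hs⟩ := hcov.exists_finite_of_compactSpace
  choose N hN using fun V : X.affineOpens => exists_stable_affine M F V.2
  refine ⟨s.sup N, fun m hm => ?_⟩
  have hle : F (s.sup N) ≤ F m := F.monotone hm
  haveI : ((F (s.sup N) : Subobject M) : X.Modules).IsQuasicoherent := hF _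
  haveI : ((F m : Subobject M) : X.Modules).IsQuasicoherent := hF _
  haveI : IsIso ((F (s.sup N)).ofLE (F m) hle) := by
    refine isIso_ofLE_of_range_eq M _ _ hle (fun V : s => ((V : X.affineOpens) : X.Opens)) hs
      (fun V => V.1.2) (fun V => ?_)
    have hV : N V.1 ≤ s.sup N := Finset.le_sup V.2
    rw [← hN V.1 (s.sup N) hV, ← hN V.1 m (hV.trans hm)]
  refine le_antisymm ?_ hle
  refine Subobject.le_of_comm (inv ((F (s.sup N)).ofLE (F m) hle)) ?_
  rw [IsIso.inv_comp_eq, Subobject.ofLE_arrow]

end Groth.Agent.S0045
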