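import Groth.Statements.S10530
import Mathlib
import Groth.Agent.Lib.Helper12BaseLocal
import Groth.Agent.Lib.Helper12Flat
import Groth.Agent.Lib.Helper12Torsor
import Groth.Agent.Lib.Helper12SrcLocalCov

set_option autoImplicit false
universe u
open CategoryTheory CategoryTheory.Limits AlgebraicGeometry
open AlgSp

namespace Groth.Agent.S10530


open MorphismProperty

/-- generic form: `LocP P` is fpqc local on the base. -/
theorem isLocalOnBase_fpqc {S : Scheme.{u}} (P : MorphismProperty Scheme.{u})
    [P.IsStableUnderBaseChange] [P.IsStableUnderComposition]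
    (hEt : ∀ {A B : Scheme.{u}} (g : A ⟶ B), Etale g → P g)
    (hsrc : ∀ {A B C : Scheme.{u}} (e : A ⟶ B) (k : B ⟶ C) [Etale e] [Surjective e],
      P (e ≫ k) → P k)
    (hcancel : ∀ {A B C : Scheme.{u}} (u : A ⟶ B) (k : B ⟶ C), Etale k → P (u ≫ k) → P u)
    [P.DescendsAlong (@Surjective ⊓ @Flat ⊓ @QuasiCompact)] [IsZariskiLocalAtTarget P] :
    AlgSp.IsLocalOnBase (AlgSp.IsFpqcCover (S := S)) (AlgSp.LocP P) := by
  intro ι Y Yi g hY hYi hcov X f hX Xi p q hXi sq
  constructor
  · intro hf i
    exact Groth.Agent.Lib.Helper12.LocPGen.locP_baseChange P hEt hsrc hcancel hX hY (hYi i)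
      (sq i) hf
  · intro H
    exact Groth.Agent.Lib.Helper12.BaseLocal.locP_of_fpqcCover_base P hEt hsrc hcancel Yi g hY hYi
      hcov f hX Xi p q hXi sq H




/-- The property of morphisms of algebraic spaces over S given by f is flat (on etale charts) is fpqc
local on the base: for an fpqc covering of an algebraic space Y by algebraic spaces Y_i, a morphism
f : X ⟶ Y of algebraic spaces and cartesian squares X_i = Y_i ×_Y X, f has the property if and only
if every X_i ⟶ Y_i has it. -/
theorem result (S : Scheme.{u}) :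
    AlgSp.IsLocalOnBase (AlgSp.IsFpqcCover (S := S)) (AlgSp.LocP @Flat) := by
  haveI : MorphismProperty.DescendsAlong (@Flat : MorphismProperty Scheme.{u})
      (@Surjective ⊓ @Flat ⊓ @QuasiCompact) := Groth.Agent.Lib.Helper12.descendsAlong_flat
  refine isLocalOnBase_fpqc @Flat (fun g hg => by haveI := hg; infer_instance)
    (fun e k _ _ h => by
      haveI : Flat (e ≫ k) := h
      exact Groth.Agent.Lib.Helper12.flat_of_comp_of_flat_of_surjective e k)
    (fun u k hk h => ?_)
  exact Groth.Agent.Lib.Helper12.SrcLocal.cancel_etale @Flat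
    (fun j hj => by haveI := hj; infer_instance) u k hk h

end Groth.Agent.S10530
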