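import Groth.Statements.S10519
import Mathlib
import Groth.Agent.S9917
import Groth.Agent.Lib.Helper12Proper
import Groth.Prelude.Def_AlgSpCov

set_option autoImplicit false
universe u
open CategoryTheory CategoryTheory.Limits AlgebraicGeometry
open AlgSp

namespace Groth.Agent.S10519


open MorphismProperty

/-- descent direction: quasi-compactness of a morphism of algebraic spaces can be checked after
base change to an fpqc covering of the target. -/
lemma isQuasiCompactMor_of_fpqcCover_base {S : Scheme.{u}} {ι : Type u} {Y : AlgSp.Sp S}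
    (Yi : ι → AlgSp.Sp S) (g : ∀ i, Yi i ⟶ Y)
    (hY : AlgSp.IsAlgSpace Y)
    (hcov : AlgSp.IsFpqcCover Yi g) {X : AlgSp.Sp S} (f : X ⟶ Y) (hX : AlgSp.IsAlgSpace X)
    (Xi : ι → AlgSp.Sp S) (p : ∀ i, Xi i ⟶ Yi i) (q : ∀ i, Xi i ⟶ X)
    (sq : ∀ i, IsPullback (q i) (p i) f (g i))
    (H : ∀ i, AlgSp.IsQuasiCompactMor (p i)) : AlgSp.IsQuasiCompactMor f := by
  refine Groth.Agent.S9917.isQuasiCompactMor_of_affine hX hY.diag f
    (fun Z hZ gZ P fst snd sqP => ?_)
  have hP : AlgSp.IsAlgSpace P :=
    Groth.Agent.S9874.isAlgSpace_of_isPullback hY.diag hX (AlgSp.IsAlgSpace.yon_obj Z) sqP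
  rw [Groth.Agent.S10174.isQuasiCompactSp_iff hP]
  obtain ⟨m, W, c, hWa, hfl, hsurj, hl⟩ := hcov.2 Z hZ gZ
  choose i_ l hl using hl
  refine Groth.Agent.S9917.compactSpace_points_of_cover snd (fun j => (AlgSp.yon S).obj (W j))
    (fun j => (AlgSp.yon S).map (c j)) ?_ (fun j => pullback snd ((AlgSp.yon S).map (c j)))
    (fun j => pullback.fst _ _) (fun j => pullback.snd _ _)
    (fun j => IsPullback.of_hasPullback _ _) (fun j => ?_)
  · intro z
    obtain ⟨j, w, hw⟩ := hsurj ((AlgSp.Points.schemeHomeo Z).symm z)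
    refine ⟨j, AlgSp.Points.schemeHomeo (W j) w, ?_⟩
    rw [AlgSp.Points.map_yon_map_apply, hw, Homeomorph.apply_symm_apply]
  · have big : IsPullback (pullback.fst snd ((AlgSp.yon S).map (c j)) ≫ fst)
        (pullback.snd snd ((AlgSp.yon S).map (c j))) f ((AlgSp.yon S).map (c j) ≫ gZ) :=
      (IsPullback.of_hasPullback snd ((AlgSp.yon S).map (c j))).paste_horiz sqP
    rw [← hl j] at big
    have hw : (pullback.fst snd ((AlgSp.yon S).map (c j)) ≫ fst) ≫ f =
        (pullback.snd snd ((AlgSp.yon S).map (c j)) ≫ l j) ≫ g (i_ j) := by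
      rw [Category.assoc _ _ (g (i_ j))]; exact big.w
    have left : IsPullback ((sq (i_ j)).lift _ _ hw)
        (pullback.snd snd ((AlgSp.yon S).map (c j))) (p (i_ j)) (l j) := by
      refine IsPullback.of_right ?_ ((sq (i_ j)).lift_snd _ _ hw) (sq (i_ j))
      rw [(sq (i_ j)).lift_fst]
      exact big
    haveI : IsAffine (W j).left := hWa j
    exact Groth.Agent.S9917.compactSpace_points_of_isQuasiCompactSp
      (H (i_ j) (AlgSp.IsAlgSpace.yon_obj (W j))
        ⟨W j, 𝟙 _, AlgSp.repWith_id _ (W j), AlgSp.repWith_id _ (W j), inferInstance⟩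
        (l j) _ _ left)




/-- The property of morphisms of algebraic spaces over S given by f is quasi-compact is fpqc local on
the base: for an fpqc covering of an algebraic space Y by algebraic spaces Y_i, a morphism f : X ⟶ Y
of algebraic spaces and cartesian squares X_i = Y_i ×_Y X, f has the property if and only if every
X_i ⟶ Y_i has it. -/
theorem result (S : Scheme.{u}) :
    AlgSp.IsLocalOnBase (AlgSp.IsFpqcCover (S := S)) AlgSp.IsQuasiCompactMor := by
  intro ι Y Yi g hY hYi hcov X f hX Xi p q hXi sq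
  constructor
  · intro hf i
    exact Groth.Agent.Lib.Helper12.Proper.isQuasiCompactMor_baseChange (sq i) hf
  · intro H
    exact isQuasiCompactMor_of_fpqcCover_base Yi g hY hcov f hX Xi p q sq H

end Groth.Agent.S10519
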