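import Groth.Statements.S10541
import Mathlib
import Groth.Agent.S10528
import Groth.Agent.S10555
import Groth.Agent.Lib.Helper12QuasiFiniteDescent

set_option autoImplicit false
universe u
open CategoryTheory CategoryTheory.Limits AlgebraicGeometry
open AlgSp

namespace Groth.Agent.S10541


open MorphismProperty

/-- locally quasi-finite and locally of finite type (on étale charts) is fpqc local on the base. -/
theorem lqf_isLocalOnBase_fpqc (S : Scheme.{u}) :
    AlgSp.IsLocalOnBase (AlgSp.IsFpqcCover (S := S))
      (AlgSp.LocP (@LocallyQuasiFinite ⊓ @LocallyOfFiniteType)) := by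
  haveI : MorphismProperty.ContainsIdentities
      (@LocallyQuasiFinite ⊓ @LocallyOfFiniteType : MorphismProperty Scheme.{u}) :=
    ⟨fun X => ⟨inferInstance, inferInstance⟩⟩
  haveI : MorphismProperty.IsMultiplicative
      (@LocallyQuasiFinite ⊓ @LocallyOfFiniteType : MorphismProperty Scheme.{u}) := {}
  haveI := Groth.Agent.Lib.Helper12.descendsAlong_locallyQuasiFinite_inf_locallyOfFiniteType.{u}
  refine Groth.Agent.S10530.isLocalOnBase_fpqc (@LocallyQuasiFinite ⊓ @LocallyOfFiniteType)
    (fun g hg => by
      haveI := hg
      exact ⟨Groth.Agent.S10555.lqf_of_etale g, inferInstance⟩)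
    (fun e k _ _ h => by
      haveI := h.1
      haveI := h.2
      exact Groth.Agent.S1179.result e k)
    (fun u k hk h => ?_)
  exact Groth.Agent.Lib.Helper12.SrcLocal.cancel_etale (@LocallyQuasiFinite ⊓ @LocallyOfFiniteType)
    (fun j hj => by
      haveI := hj
      exact ⟨Groth.Agent.S10555.lqf_of_etale j, inferInstance⟩) u k hk h




/-- The properties of morphisms of algebraic spaces over S given by locally quasi-finite (locally
quasi-finite and locally of finite type on etale charts) and by quasi-finite (the same together with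
quasi-compact) are both fpqc local on the base: for an fpqc covering of an algebraic space Y by
algebraic spaces Y_i, a morphism f : X ⟶ Y of algebraic spaces and cartesian squares X_i = Y_i ×_Y
X, f has the property if and only if every X_i ⟶ Y_i has it. -/
theorem result (S : Scheme.{u}) :
    AlgSp.IsLocalOnBase (AlgSp.IsFpqcCover (S := S)) (AlgSp.LocP (@LocallyQuasiFinite ⊓ @LocallyOfFiniteType)) ∧
    AlgSp.IsLocalOnBase (AlgSp.IsFpqcCover (S := S))
      (fun _ _ f => AlgSp.LocP (@LocallyQuasiFinite ⊓ @LocallyOfFiniteType) f ∧ AlgSp.IsQuasiCompactMor f) := by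
  exact ⟨lqf_isLocalOnBase_fpqc S,
    Groth.Agent.S10528.isLocalOnBase_and (lqf_isLocalOnBase_fpqc S) (Groth.Agent.S10519.result S)⟩

end Groth.Agent.S10541
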