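import Groth.Statements.S10542
import Mathlib
import Groth.Agent.S10530
import Groth.Agent.Lib.Helper12SmoothSrc

set_option autoImplicit false
universe u
open CategoryTheory CategoryTheory.Limits AlgebraicGeometry
open AlgSp

namespace Groth.Agent.S10542


/-- `LocP @Smooth` is fpqc local on the base. -/
theorem locP_smooth_isLocalOnBase_fpqc (S : Scheme.{u}) :
    AlgSp.IsLocalOnBase (AlgSp.IsFpqcCover (S := S)) (AlgSp.LocP @Smooth) := by
  haveI : MorphismProperty.ContainsIdentities (@Smooth : MorphismProperty Scheme.{u}) :=
    ⟨fun X => (inferInstance : Smooth (𝟙 X))⟩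
  haveI : MorphismProperty.IsMultiplicative (@Smooth : MorphismProperty Scheme.{u}) := {}
  refine Groth.Agent.S10530.isLocalOnBase_fpqc (@Smooth) (fun g hg => by haveI := hg; infer_instance)
    (fun e k _ _ h => by
      haveI : Smooth (e ≫ k) := h
      exact Groth.Agent.Lib.Helper12.SmoothSrc.smooth_of_etale_cover_source e k)
    (fun u k hk h => ?_)
  exact Groth.Agent.Lib.Helper12.SrcLocal.cancel_etale (@Smooth)
    (fun j hj => by haveI := hj; infer_instance) u k hk h



/-- The property of morphisms of algebraic spaces over S given by f is smooth (on etale charts) is fpqc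
local on the base: for an fpqc covering of an algebraic space Y by algebraic spaces Y_i, a morphism
f : X ⟶ Y of algebraic spaces and cartesian squares X_i = Y_i ×_Y X, f has the property if and only
if every X_i ⟶ Y_i has it. -/
theorem result (S : Scheme.{u}) :
    AlgSp.IsLocalOnBase (AlgSp.IsFpqcCover (S := S)) (AlgSp.LocP @Smooth) := by
  exact locP_smooth_isLocalOnBase_fpqc S

end Groth.Agent.S10542
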