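import Groth.Statements.S10554
import Mathlib
import Groth.Agent.S10580
import Groth.Agent.S9948
import Groth.Agent.Lib.Helper12EtSrc
import Groth.Agent.Lib.Helper12EtSrcLocal

set_option autoImplicit false
universe u
open CategoryTheory CategoryTheory.Limits AlgebraicGeometry
open AlgSp

namespace Groth.Agent.S10554


open MorphismProperty Groth.Agent.Lib.Helper12.SrcLocal

/-- étaleness of morphisms of schemes is étale local on the source. -/
lemma etale_isLocalAtSource_etale :
    MorphismProperty.IsLocalAtSource (@Etale : MorphismProperty Scheme.{u})
      Scheme.etalePrecoverage :=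
  Groth.Agent.Lib.Helper12.EtSrcLocal.isLocalAtSource_etale_of_single _
    (fun e k he hk => by
      haveI := he
      haveI := hk
      exact (inferInstance : Etale (e ≫ k)))
    (fun e k he hs h => by
      haveI := he
      haveI := hs
      haveI := h
      exact Groth.Agent.Lib.Helper12.EtSrc.etale_of_etale_cover_source e k)

/-- a morphism to an algebraic space which is étale on all chart diagrams is étale. -/
lemma isEtaleMor_of_locP {S : Scheme.{u}} {X Y : AlgSp.Sp S} (hY : AlgSp.IsAlgSpace Y)
    (f : X ⟶ Y) (h : AlgSp.LocP @Etale f) : AlgSp.IsEtaleMor f := by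
  intro U φ hφ
  refine (Groth.Agent.S9948.locP_iff_repWith @Etale (fun g hg => hg) hY (φ ≫ f)
    (hY.representable_from_yon _)).1 ?_
  intro U' V a b h' ha hb hc
  exact h (a ≫ φ) b h' ((AlgSp.RepWith @Etale).comp_mem _ _ ha hφ) hb
    (by rw [Category.assoc]; exact hc)



/-- The property of morphisms of algebraic spaces over S given by f is etale (composition with every
representable etale map from a scheme is representable etale) is etale local on the source: for a
morphism f : X ⟶ Y of algebraic spaces and a etale covering of X by algebraic spaces X_i, f has the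
property if and only if every composite X_i ⟶ X ⟶ Y has it. -/
theorem result (S : Scheme.{u}) :
    AlgSp.IsLocalOnSource (AlgSp.IsEtCover (S := S)) AlgSp.IsEtaleMor := by
  intro ι X Xi g hX hXi hcov Y f hY
  constructor
  · intro hf i U φ hφ
    have := hf (φ ≫ g i) (hcov.1 i φ hφ)
    rwa [Category.assoc] at this
  · intro h
    apply isEtaleMor_of_locP hY
    have key := (Groth.Agent.S10580.result S (@Etale : MorphismProperty Scheme.{u})).2.2.2
      etale_isLocalAtSource_etale
    exact (key Xi g hX hXi hcov f hY).2
      (fun i => locP_etale_of_isEtaleMor (g i ≫ f) (h i))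

end Groth.Agent.S10554
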