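import Groth.Statements.S10544
import Mathlib
import Groth.Agent.S10530
import Groth.Agent.S10554

set_option autoImplicit false
universe u
open CategoryTheory CategoryTheory.Limits AlgebraicGeometry
open AlgSp

namespace Groth.Agent.S10544


open MorphismProperty

/-- `LocP @Etale` is fpqc local on the base. -/
theorem locP_etale_isLocalOnBase_fpqc (S : Scheme.{u}) :
    AlgSp.IsLocalOnBase (AlgSp.IsFpqcCover (S := S)) (AlgSp.LocP @Etale) := by
  refine Groth.Agent.S10530.isLocalOnBase_fpqc (@Etale) (fun g hg => hg)
    (fun e k _ _ h => by
      haveI : Etale (e ≫ k) := h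
      exact Groth.Agent.Lib.Helper12.EtSrc.etale_of_etale_cover_source e k)
    (fun u k hk h => ?_)
  exact Groth.Agent.Lib.Helper12.SrcLocal.cancel_etale (@Etale)
    (fun j hj => by haveI := hj; infer_instance) u k hk h




/-- The property of morphisms of algebraic spaces over S given by f is etale (composition with every
representable etale map from a scheme is representable etale) is fpqc local on the base: for an fpqc
covering of an algebraic space Y by algebraic spaces Y_i, a morphism f : X ⟶ Y of algebraic spaces
and cartesian squares X_i = Y_i ×_Y X, f has the property if and only if every X_i ⟶ Y_i has it. -/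
theorem result (S : Scheme.{u}) :
    AlgSp.IsLocalOnBase (AlgSp.IsFpqcCover (S := S)) AlgSp.IsEtaleMor := by
  intro ι Y Yi g hY hYi hcov X f hX Xi p q hXi sq
  have key := locP_etale_isLocalOnBase_fpqc S Yi g hY hYi hcov f hX Xi p q hXi sq
  constructor
  · intro hf i
    exact Groth.Agent.S10554.isEtaleMor_of_locP (hYi i) (p i)
      (key.1 (Groth.Agent.Lib.Helper12.SrcLocal.locP_etale_of_isEtaleMor f hf) i)
  · intro H
    exact Groth.Agent.S10554.isEtaleMor_of_locP hY f
      (key.2 (fun i => Groth.Agent.Lib.Helper12.SrcLocal.locP_etale_of_isEtaleMor (p i) (H i)))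

end Groth.Agent.S10544
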