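import Groth.Statements.S0339
import Mathlib
import Groth.Agent.S5805
import Groth.Agent.S5788

set_option autoImplicit false
universe u v
open CategoryTheory
open Goren

namespace Groth.Agent.S0339

open CategoryTheory Abelian CategoryTheory.Limits
open Groth.Agent.S5805

section
variable {A : Type u} [CommRing A]

theorem step1' [IsNoetherianRing A] [IsLocalRing A] (n : ℕ)
    (L : ModuleCat.{u} A) [Module.Finite A L]
    (hk : ∀ i > n, Subsingleton (Ext (ModuleCat.of A (IsLocalRing.ResidueField A)) L i)) :
    ∀ p : Ideal A, p.IsPrime → ∀ i > n, Subsingleton (Ext (ModuleCat.of A (A ⧸ p)) L i) := by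
  intro p
  induction p using IsNoetherian.induction with
  | hgt p ih =>
    intro hp i hi
    by_cases hpm : p = IsLocalRing.maximalIdeal A
    · subst hpm
      have e : IsLocalRing.ResidueField A ≃ₗ[A] (A ⧸ IsLocalRing.maximalIdeal A) :=
        { toFun := id
          invFun := id
          map_add' := fun _ _ => rfl
          map_smul' := fun a y => by
            obtain ⟨y, rfl⟩ := Ideal.Quotient.mk_surjective y
            rfl
          left_inv := fun _ => rfl
          right_inv := fun _ => rfl }
      exact ext_subsingleton_of_equiv₁ e L i (hk i hi)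
    · have hlt : p < IsLocalRing.maximalIdeal A :=
        lt_of_le_of_ne (IsLocalRing.le_maximalIdeal hp.ne_top) hpm
      obtain ⟨x, hxm, hxp⟩ := SetLike.exists_of_lt hlt
      have hreg : IsSMulRegular (A ⧸ p) x := by
        intro a b hab
        obtain ⟨a, rfl⟩ := Ideal.Quotient.mk_surjective a
        obtain ⟨b, rfl⟩ := Ideal.Quotient.mk_surjective b
        have h1 : Ideal.Quotient.mk p (x * (a - b)) = 0 := by
          have h2 : x • Ideal.Quotient.mk p a - x • Ideal.Quotient.mk p b = 0 :=
            sub_eq_zero.mpr hab
          rw [← smul_sub, ← map_sub, ← Ideal.Quotient.mkₐ_eq_mk A, ← map_smul,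
            Ideal.Quotient.mkₐ_eq_mk, smul_eq_mul] at h2
          exact h2
        rw [Ideal.Quotient.eq_zero_iff_mem] at h1
        have h3 := (hp.mem_or_mem h1).resolve_left hxp
        rw [← sub_eq_zero, ← map_sub, Ideal.Quotient.eq_zero_iff_mem]
        exact h3
      obtain ⟨π, w, hS⟩ := ses_ideal p x hreg
      have hN' : ∀ j > n, Subsingleton
          (Ext (ModuleCat.of A (A ⧸ (p ⊔ Ideal.span {x}))) L j) := by
        refine filt_lemma L n (p ⊔ Ideal.span {x}) ?_ (A ⧸ (p ⊔ Ideal.span {x})) ?_
        · intro q hq hle j hj
          have hpq : p < q := by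
            refine lt_of_le_of_ne (le_trans le_sup_left hle) ?_
            rintro rfl
            exact hxp (hle (Ideal.mem_sup_right (Ideal.mem_span_singleton_self x)))
          exact ih q hpq hq j hj
        · intro a ha y
          obtain ⟨y, rfl⟩ := Ideal.Quotient.mk_surjective y
          rw [← Ideal.Quotient.mkₐ_eq_mk A, ← map_smul, Ideal.Quotient.mkₐ_eq_mk,
            Ideal.Quotient.eq_zero_iff_mem, smul_eq_mul]
          exact Ideal.mul_mem_right _ _ ha
      have htop : (⊤ : Submodule A (Ext (ModuleCat.of A (A ⧸ p)) L i)) ≤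
          Ideal.span {x} • ⊤ := by
        intro z _
        have := hN' (i + 1) (by omega)
        obtain ⟨z₂, hz₂⟩ := Ext.contravariant_sequence_exact₁ hS L z (add_comm 1 i)
          (Subsingleton.elim _ _)
        have h4 : x • z₂ = z := by
          rw [← hz₂]
          show x • z₂ = (Ext.mk₀ (x • 𝟙 _)).comp z₂ _
          rw [Ext.mk₀_smul, Ext.smul_comp, Ext.mk₀_id_comp]
        rw [← h4]
        exact Submodule.smul_mem_smul (Ideal.mem_span_singleton_self x) Submodule.mem_top
      have hbot := Submodule.eq_bot_of_le_smul_of_le_jacobson_bot (Ideal.span {x}) _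
        (Module.Finite.fg_top) htop (by
          rw [IsLocalRing.jacobson_eq_maximalIdeal ⊥ bot_ne_top, Ideal.span_le]
          simpa using hxm)
      exact ⟨fun a b => by
        have ha : a ∈ (⊤ : Submodule A _) := Submodule.mem_top
        have hb : b ∈ (⊤ : Submodule A _) := Submodule.mem_top
        rw [hbot, Submodule.mem_bot] at ha hb
        rw [ha, hb]⟩


theorem injdim_of_ext_residue [IsNoetherianRing A] [IsLocalRing A] (n : ℕ)
    (L : ModuleCat.{u} A) [Module.Finite A L]
    (hk : ∀ i > n, Subsingleton (Ext (ModuleCat.of A (IsLocalRing.ResidueField A)) L i)) :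
    HasInjectiveDimensionLT L (n + 1) := by
  apply Groth.Agent.S5788.main n L
  intro I
  refine filt_lemma L n ⊥ (fun q hq _ i hi => step1' n L hk q hq i hi) (A ⧸ I) ?_ (n + 1)
    (by omega)
  intro a ha y
  rw [Ideal.mem_bot] at ha
  rw [ha, zero_smul]

end

/-- Let A be a Noetherian local ring with residue field κ and M a finite A-module. Then M has finite
injective dimension if and only if Ext^i_A(κ, M) = 0 for all sufficiently large i. (The published
statement is for bounded-below complexes with finite cohomology modules; stated here for a module.) -/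
theorem result (A : Type u) [CommRing A] [IsLocalRing A] [IsNoetherianRing A] (M : Type u) [AddCommGroup M] [Module A M] [Module.Finite A M] : (∃ n : ℕ, HasInjectiveDimensionLT (ModuleCat.of A M) n) ↔ ∃ N : ℕ, ∀ i : ℕ, N ≤ i → Subsingleton (Abelian.Ext (ModuleCat.of A (IsLocalRing.ResidueField A)) (ModuleCat.of A M) i) := by
  constructor
  · rintro ⟨n, hn⟩
    exact ⟨n, fun i hi => HasInjectiveDimensionLT.subsingleton _ n i hi _⟩
  · rintro ⟨N, h⟩
    exact ⟨N + 1, injdim_of_ext_residue N (ModuleCat.of A M) (fun i hi => h i (le_of_lt hi))⟩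

end Groth.Agent.S0339
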