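import Groth.Statements.S0333
import Groth.Agent.Lib.Helper8Cd

set_option autoImplicit false
universe u v
open LocCoh

namespace Groth.Agent.S0333

open CategoryTheory CategoryTheory.Limits Groth.Agent.Lib.Helper8.ExtLES Groth.Agent.Lib.Helper8.LC
  Groth.Agent.Lib.Helper8.GV Groth.Agent.Lib.Helper8.MV TensorProduct

/-- A finite module with `p` in its support admits a nonzero map to `R ⧸ p`. -/
theorem exists_nonzero_map {R : Type u} [CommRing R] (p : Ideal R) [hp : p.IsPrime]
    (M : Type u) [AddCommGroup M] [Module R M] [Module.Finite R M]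
    (hsupp : (⟨p, hp⟩ : PrimeSpectrum R) ∈ Module.support R M) :
    ∃ φ : M →ₗ[R] R ⧸ p, φ ≠ 0 := by
  classical
  have hnt : Nontrivial (p.ResidueField ⊗[R] M) :=
    (Module.mem_support_iff_nontrivial_residueField_tensorProduct
      (p := (⟨p, hp⟩ : PrimeSpectrum R))).mp hsupp
  obtain ⟨v, hv⟩ := exists_ne (0 : p.ResidueField ⊗[R] M)
  obtain ⟨ℓ, hℓ⟩ : ∃ ℓ : Module.Dual p.ResidueField (p.ResidueField ⊗[R] M), ℓ v ≠ 0 := by
    by_contra h
    push Not at h
    exact hv ((Module.forall_dual_apply_eq_zero_iff p.ResidueField v).mp h)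
  let ψ : M →ₗ[R] p.ResidueField :=
    (ℓ.restrictScalars R).comp (TensorProduct.mk R p.ResidueField M 1)
  have hψ : ψ ≠ 0 := by
    intro h0
    apply hℓ
    have hall : ∀ w : p.ResidueField ⊗[R] M, ℓ w = 0 := by
      intro w
      induction w using TensorProduct.induction_on with
      | zero => exact map_zero _
      | tmul k m =>
        have h1 : k ⊗ₜ[R] m = k • ((1 : p.ResidueField) ⊗ₜ[R] m) := by
          rw [TensorProduct.smul_tmul', smul_eq_mul, mul_one]
        have h2 : ℓ ((1 : p.ResidueField) ⊗ₜ[R] m) = 0 := LinearMap.congr_fun h0 m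
        rw [h1, map_smul, h2, smul_zero]
      | add x y hx hy => rw [map_add, hx, hy, add_zero]
    exact hall v
  obtain ⟨s, hs⟩ := (Module.Finite.fg_top : (⊤ : Submodule R M).FG)
  obtain ⟨b, hb⟩ := IsLocalization.exist_integer_multiples_of_finset (nonZeroDivisors (R ⧸ p))
    (s.image ψ)
  obtain ⟨t, ht⟩ := Ideal.Quotient.mk_surjective (b : R ⧸ p)
  let ι : (R ⧸ p) →ₗ[R] p.ResidueField :=
    (Algebra.linearMap (R ⧸ p) p.ResidueField).restrictScalars R
  have hι : Function.Injective ι := p.injective_algebraMap_quotient_residueField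
  have hrange : ∀ m : M, (t • ψ) m ∈ LinearMap.range ι := by
    intro m
    have hm : m ∈ Submodule.span R (s : Set M) := by rw [hs]; trivial
    induction hm using Submodule.span_induction with
    | mem x hx =>
      obtain ⟨c, hc⟩ := hb (ψ x) (Finset.mem_image_of_mem ψ hx)
      refine ⟨c, ?_⟩
      change algebraMap (R ⧸ p) p.ResidueField c = t • ψ x
      rw [hc, ← ht]
      exact IsScalarTower.algebraMap_smul (R ⧸ p) t (ψ x)
    | zero => rw [map_zero]; exact Submodule.zero_mem _
    | add x y _ _ hx hy => rw [map_add]; exact Submodule.add_mem _ hx hy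
    | smul a x _ hx => rw [map_smul]; exact Submodule.smul_mem _ a hx
  let φ : M →ₗ[R] R ⧸ p :=
    (LinearEquiv.ofInjective ι hι).symm.toLinearMap ∘ₗ (t • ψ).codRestrict (LinearMap.range ι) hrange
  refine ⟨φ, ?_⟩
  intro hφ
  apply hψ
  apply LinearMap.ext
  intro m
  have h1 : φ m = 0 := LinearMap.congr_fun hφ m
  have h2 : (t • ψ) m = 0 := by
    have h3 : (LinearEquiv.ofInjective ι hι).symm ((t • ψ).codRestrict (LinearMap.range ι) hrange m)
        = 0 := h1
    rw [LinearEquiv.map_eq_zero_iff] at h3
    exact congrArg Subtype.val h3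
  have hb0 : (b : R ⧸ p) ≠ 0 := nonZeroDivisors.ne_zero b.2
  have h4 : algebraMap R p.ResidueField t ≠ 0 := by
    intro h5
    apply hb0
    apply hι
    rw [map_zero, ← ht]
    exact h5
  have h6 : algebraMap R p.ResidueField t * ψ m = 0 := by
    rw [← Algebra.smul_def]
    exact h2
  rcases mul_eq_zero.mp h6 with h7 | h7
  · exact absurd h7 h4
  · exact h7

theorem supportDim_lt_of_forall {R : Type u} [CommRing R] [IsNoetherianRing R] (d : ℕ)
    (hd : ringKrullDim R = d) (N : Type u) [AddCommGroup N] [Module R N]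
    (h : ∀ q ∈ minimalPrimes R, ringKrullDim (R ⧸ q) = d → ∀ hq : q.IsPrime,
      (⟨q, hq⟩ : PrimeSpectrum R) ∉ Module.support R N) :
    Module.supportDim R N < ((d : ℕ) : WithBot ℕ∞) := by
  have hle : Module.supportDim R N ≤ ((d : ℕ) : WithBot ℕ∞) :=
    hd ▸ Module.supportDim_le_ringKrullDim R N
  refine lt_of_le_of_ne hle ?_
  intro heq
  have h1 : ((d : ℕ) : WithBot ℕ∞) ≤ Order.krullDim (Module.support R N) := heq.ge
  obtain ⟨l, hl⟩ := Order.le_krullDim_iff.mp h1
  obtain ⟨p, hpmin, hple⟩ := Ideal.exists_minimalPrimes_le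
    (show (⊥ : Ideal R) ≤ l.head.1.asIdeal from bot_le)
  have hpprime : p.IsPrime := hpmin.1.1
  rcases hple.eq_or_lt with heq' | hlt
  · refine h p hpmin ?_ hpprime ?_
    · apply le_antisymm (hd ▸ ringKrullDim_quotient_le p)
      rw [ringKrullDim_quotient]
      apply Order.le_krullDim_iff.mpr
      refine ⟨{ length := l.length
                toFun := fun i => ⟨(l i).1, ?_⟩
                step := fun i => l.step i }, hl⟩
      rw [PrimeSpectrum.mem_zeroLocus, SetLike.coe_subset_coe, heq']
      exact l.head_le i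
    · have h2 := l.head.2
      have h3 : (⟨p, hpprime⟩ : PrimeSpectrum R) = l.head.1 := PrimeSpectrum.ext heq'
      rw [h3]
      exact h2
  · let l' : LTSeries (PrimeSpectrum R) :=
      (l.map Subtype.val (fun _ _ h => h)).cons ⟨p, hpprime⟩ (by
        change (⟨p, hpprime⟩ : PrimeSpectrum R) < (l.map Subtype.val (fun _ _ h => h)).head
        rw [LTSeries.head_map]
        exact hlt)
    have h3 : (((d + 1 : ℕ) : ℕ) : WithBot ℕ∞) ≤ ringKrullDim R :=
      Order.le_krullDim_iff.mpr ⟨l', by simp [l', hl]⟩
    rw [hd] at h3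
    have h4 : d + 1 ≤ d := by exact_mod_cast h3
    omega

theorem eq_of_minimal_of_le {R : Type u} [CommRing R] {p q : Ideal R} [hp : p.IsPrime]
    (hq : q ∈ minimalPrimes R) (hpq : p ≤ q) : q = p :=
  le_antisymm (hq.2 ⟨hp, bot_le⟩ hpq) hpq

section Main

variable {R : Type u} [CommRing R] [IsNoetherianRing R] (I : Ideal R) (d : ℕ)
  (hd : ringKrullDim R = d) (M : Type u) [AddCommGroup M] [Module R M] [Module.Finite R M]
  (hsupp : ∀ p ∈ minimalPrimes R, ringKrullDim (R ⧸ p) = d → ∀ hp : p.IsPrime,
    (⟨p, hp⟩ : PrimeSpectrum R) ∈ Module.support R M)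
  (hvan : Subsingleton (LocCoh.H I d M))

include hd in
theorem H_succ_eq_zero (K : Type u) [AddCommGroup K] [Module R K] (x : LocCoh.H I (d + 1) K) :
    x = 0 :=
  Groth.Agent.Lib.Helper8.CdDim.Q_all (d + 1) R
    (by rw [hd]; exact_mod_cast Nat.lt_succ_self d) I K x

include hd hsupp hvan in
theorem H_quot_prime_eq_zero (p : Ideal R) [hp : p.IsPrime] (x : LocCoh.H I d (R ⧸ p)) :
    x = 0 := by
  by_cases htop : p ∈ minimalPrimes R ∧ ringKrullDim (R ⧸ p) = d
  · -- the top-dimensional case
    obtain ⟨φ, hφ⟩ := exists_nonzero_map p M (hsupp p htop.1 htop.2 hp)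
    -- H^d(range φ) = 0
    have hex1 : Function.Exact (LinearMap.ker φ).subtype φ.rangeRestrict := by
      intro m
      constructor
      · intro hm
        exact ⟨⟨m, by
          have := congrArg Subtype.val hm
          simpa using this⟩, rfl⟩
      · rintro ⟨k, rfl⟩
        apply Subtype.ext
        exact k.2
    have hS1 := Sfg_shortExact (LinearMap.ker φ).subtype φ.rangeRestrict
      (Submodule.injective_subtype _) φ.surjective_rangeRestrict hex1
    have hrange : ∀ w : LocCoh.H I d (LinearMap.range φ), w = 0 := by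
      intro w
      obtain ⟨v, rfl⟩ := H_exact₃ I d _ hS1 w (H_succ_eq_zero I d hd _ _)
      rw [Subsingleton.elim v 0, map_zero]
    -- H^d of the quotient vanishes
    have hex2 : Function.Exact (LinearMap.range φ).subtype (LinearMap.range φ).mkQ :=
      LinearMap.exact_subtype_mkQ _
    have hS2 := Sfg_shortExact (LinearMap.range φ).subtype (LinearMap.range φ).mkQ
      (Submodule.injective_subtype _) (Submodule.mkQ_surjective _) hex2
    have hQ : ∀ z : LocCoh.H I d ((R ⧸ p) ⧸ LinearMap.range φ), z = 0 := by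
      refine H_eq_zero_of_supportDim_lt I d _ (supportDim_lt_of_forall d hd _ ?_)
      intro q hqmin hqd hq hqsupp
      rw [Module.mem_support_iff_of_finite] at hqsupp
      have hpq : p ≤ q := by
        intro r hr
        apply hqsupp
        rw [Module.mem_annihilator]
        intro n
        obtain ⟨y, rfl⟩ := Submodule.mkQ_surjective _ n
        obtain ⟨y', rfl⟩ := Ideal.Quotient.mk_surjective y
        rw [← map_smul]
        have : r • (Ideal.Quotient.mk p y') = 0 := by
          rw [← Ideal.Quotient.mk_eq_mk, ← Submodule.Quotient.mk_smul,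
            Submodule.Quotient.mk_eq_zero, smul_eq_mul]
          exact Ideal.mul_mem_right _ _ hr
        rw [this, map_zero]
      have hqp : q = p := eq_of_minimal_of_le hqmin hpq
      -- a nonzero element of the range
      obtain ⟨m, hm⟩ : ∃ m, φ m ≠ 0 := by
        by_contra hcon
        push Not at hcon
        exact hφ (LinearMap.ext hcon)
      obtain ⟨f, hf⟩ := Ideal.Quotient.mk_surjective (φ m)
      have hfann : f ∈ Module.annihilator R ((R ⧸ p) ⧸ LinearMap.range φ) := by
        rw [Module.mem_annihilator]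
        intro n
        obtain ⟨y, rfl⟩ := Submodule.mkQ_surjective _ n
        obtain ⟨y', rfl⟩ := Ideal.Quotient.mk_surjective y
        rw [← map_smul, Submodule.mkQ_apply, Submodule.Quotient.mk_eq_zero]
        refine ⟨y' • m, ?_⟩
        rw [map_smul, ← hf]
        change y' • Ideal.Quotient.mk p f = f • Ideal.Quotient.mk p y'
        rw [Algebra.smul_def, Algebra.smul_def, Ideal.Quotient.algebraMap_eq, mul_comm]
      have hfq : f ∈ q := hqsupp hfann
      rw [hqp] at hfq
      apply hm
      rw [← hf]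
      exact Ideal.Quotient.eq_zero_iff_mem.mpr hfq
    obtain ⟨w, rfl⟩ := H_exact₂ I d _ hS2 x (hQ _)
    rw [hrange w, map_zero]
  · -- lower-dimensional case: Grothendieck vanishing
    refine H_eq_zero_of_supportDim_lt I d _ (supportDim_lt_of_forall d hd _ ?_) x
    intro q hqmin hqd hq hqsupp
    rw [Module.mem_support_iff_of_finite, Ideal.annihilator_quotient] at hqsupp
    have hqp : q = p := eq_of_minimal_of_le hqmin hqsupp
    exact htop ⟨hqp ▸ hqmin, hqp ▸ hqd⟩

include hd hsupp hvan in
theorem H_fg_eq_zero (N : Type u) [AddCommGroup N] [Module R N] [hN : Module.Finite R N] :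
    ∀ x : LocCoh.H I d N, x = 0 := by
  induction hN using IsNoetherianRing.induction_on_isQuotientEquivQuotientPrime R with
  | subsingleton N => exact H_eq_zero_of_subsingleton I d N
  | quotient N p e =>
    intro x
    have e2 := ((localCohomology I d).mapIso e.toModuleIso).toLinearEquiv
    apply e2.injective
    rw [map_zero]
    have := p.2
    exact H_quot_prime_eq_zero I d hd M hsupp hvan p.1 _
  | exact N₁ N₂ N₃ f g hf hg hfg h₁ h₃ =>
    intro x
    have hS := Sfg_shortExact f g hf hg hfg
    obtain ⟨w, rfl⟩ := H_exact₂ I d _ hS x (h₃ _)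
    rw [h₁ w, map_zero]

end Main

/-- Over a Noetherian ring of dimension d, if H^d_I(M) = 0 for one finite module M whose support
contains every minimal prime p with dim R/p = d, then H^i_I vanishes in degrees ≥ d on all modules. -/
theorem result (R : Type u) [CommRing R] [IsNoetherianRing R] (I : Ideal R) (d : ℕ) (hd : ringKrullDim R = d) (M : Type u) [AddCommGroup M] [Module R M] [Module.Finite R M] (hsupp : ∀ p ∈ minimalPrimes R, ringKrullDim (R ⧸ p) = d → ∀ hp : p.IsPrime, (⟨p, hp⟩ : PrimeSpectrum R) ∈ Module.support R M) (hvan : Subsingleton (LocCoh.H I d M)) (N : Type u) [AddCommGroup N] [Module R N] (i : ℕ) (hi : d ≤ i) : Subsingleton (LocCoh.H I i N) := by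
  refine ⟨fun x y => ?_⟩
  have h0 : ∀ z : LocCoh.H I i N, z = 0 := by
    intro z
    rcases Nat.eq_or_lt_of_le hi with heq | hlt
    · subst heq
      exact Groth.Agent.Lib.Helper8.FG.eq_zero_of_fg I d
        (fun N' _ _ _ y => H_fg_eq_zero I d hd M hsupp hvan N' y) N z
    · exact Groth.Agent.Lib.Helper8.CdDim.Q_all i R
        (by rw [hd]; exact_mod_cast hlt) I N z
  rw [h0 x, h0 y]

end Groth.Agent.S0333
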