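import Groth.Statements.S0299
import Groth.Agent.Lib.Helper3InjHull
import Mathlib

set_option autoImplicit false
universe u v
open InjHull

namespace Groth.Agent.S0299

open Groth.Agent.Lib.Helper3.InjHull

section Helpers

variable {R : Type u} [CommRing R]

/-- an injective essential extension inside `I` gives an injective hull -/
lemma isInjectiveHull_codRestrict {M I : Type u} [AddCommGroup M] [Module R M] [AddCommGroup I]
    [Module R I] (i : M →ₗ[R] I) (hi : Function.Injective i) (E : Submodule R I)
    (hME : LinearMap.range i ≤ E) (hess : EssIn (LinearMap.range i) E)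
    (hinj : Module.Injective R E) :
    InjHull.IsInjectiveHull (LinearMap.codRestrict E i (fun x => hME ⟨x, rfl⟩)) := by
  refine ⟨⟨?_, ?_⟩, hinj⟩
  · intro x y hxy
    apply hi
    exact congrArg Subtype.val hxy
  · intro N hN
    obtain ⟨x, hxN, hx0⟩ := Submodule.exists_mem_ne_zero_of_ne_bot hN
    have hx0' : (x : I) ≠ 0 := fun h => hx0 (Subtype.ext h)
    obtain ⟨r, hr0, ⟨m, hm⟩⟩ := hess x x.2 hx0'
    intro hbot
    have hmem : r • x ∈ N ⊓ LinearMap.range (LinearMap.codRestrict E i (fun x => hME ⟨x, rfl⟩)) := by
      refine ⟨N.smul_mem r hxN, ⟨m, ?_⟩⟩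
      apply Subtype.ext
      simpa using hm
    rw [hbot, Submodule.mem_bot] at hmem
    apply hr0
    have := congrArg Subtype.val hmem
    simpa using this

end Helpers

/-- Every module over a commutative ring has an injective hull, i.e. an essential injection into an
injective module. -/
theorem result (R : Type u) [CommRing R] (M : Type u) [AddCommGroup M] [Module R M] : ∃ (E : Type u) (_ : AddCommGroup E) (_ : Module R E) (f : M →ₗ[R] E), InjHull.IsInjectiveHull f := by
  obtain ⟨I, _, _, _, i, hi⟩ := exists_embedding_injective R M
  obtain ⟨E, hME, hess, hinj⟩ := exists_injective_essential (LinearMap.range i)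
  exact ⟨E, inferInstance, inferInstance, _, isInjectiveHull_codRestrict i hi E hME hess hinj⟩

end Groth.Agent.S0299
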