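import Groth.Statements.S0310
import Groth.Agent.S5155
import Mathlib

set_option autoImplicit false
universe u v
open Matlis

namespace Groth.Agent.S0310

open IsLocalRing

section Helpers

variable {R : Type u} [CommRing R] [IsLocalRing R]

/-- in a power torsion module every nonzero element has a nonzero multiple in the socle -/
lemma exists_smul_mem_socle {M : Type u} [AddCommGroup M] [Module R M]
    (hM : LocCoh.IsPowerTorsion (maximalIdeal R) M) {x : M} (hx : x ≠ 0) :
    ∃ a : R, a • x ≠ 0 ∧ a • x ∈ LocCoh.torsionBy (maximalIdeal R) M := by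
  classical
  have hex := hM x
  have hn0 : Nat.find hex ≠ 0 := by
    intro h0
    have := Nat.find_spec hex
    rw [h0, pow_zero] at this
    exact hx (by simpa using this 1 (by simp))
  obtain ⟨k, hk⟩ := Nat.exists_eq_succ_of_ne_zero hn0
  have hmin : ¬ ∀ a ∈ maximalIdeal R ^ k, a • x = 0 :=
    Nat.find_min hex (by rw [hk]; exact Nat.lt_succ_self k)
  push Not at hmin
  obtain ⟨a, hak, hae⟩ := hmin
  refine ⟨a, hae, ?_⟩
  rw [Submodule.mem_torsionBySet_iff]
  rintro ⟨b, hb⟩
  show b • a • x = 0
  rw [smul_smul]
  apply Nat.find_spec hex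
  rw [hk, pow_succ']
  exact Ideal.mul_mem_mul hb hak

end Helpers

/-- Over a local ring, a module killed elementwise by powers of the maximal ideal and whose socle has
finite dimension n over the residue field embeds into the n-fold sum of an injective hull of the
residue field. -/
theorem result (R : Type u) [CommRing R] [IsLocalRing R] (E : Type u) [AddCommGroup E] [Module R E] (f : IsLocalRing.ResidueField R →ₗ[R] E) (hf : InjHull.IsInjectiveHull f) (M : Type u) [AddCommGroup M] [Module R M] (hM : LocCoh.IsPowerTorsion (IsLocalRing.maximalIdeal R) M) (n : ℕ) [Module.Finite (R ⧸ IsLocalRing.maximalIdeal R) ↥(LocCoh.torsionBy (IsLocalRing.maximalIdeal R) M)] (hn : Module.finrank (R ⧸ IsLocalRing.maximalIdeal R) ↥(LocCoh.torsionBy (IsLocalRing.maximalIdeal R) M) = n) : ∃ g : M →ₗ[R] (Fin n → E), Function.Injective g := by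
  letI : Field (R ⧸ maximalIdeal R) := Ideal.Quotient.field (maximalIdeal R)
  let b : Module.Basis (Fin n) (R ⧸ maximalIdeal R) ↥(LocCoh.torsionBy (maximalIdeal R) M) :=
    Module.finBasisOfFinrankEq _ _ hn
  -- coordinate maps, viewed as `R`-linear maps into `E`
  let ι : (R ⧸ maximalIdeal R) →ₗ[R] ResidueField R :=
    { toFun := fun x => x
      map_add' := fun _ _ => rfl
      map_smul' := fun _ _ => rfl }
  have hι : Function.Injective ι := fun _ _ h => h
  haveI := hf.isInjective
  let φ : Fin n → (↥(LocCoh.torsionBy (maximalIdeal R) M) →ₗ[R] E) := fun i =>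
    f ∘ₗ ι ∘ₗ ((b.coord i).restrictScalars R)
  have hext : ∀ i, ∃ g : M →ₗ[R] E, g ∘ₗ (LocCoh.torsionBy (maximalIdeal R) M).subtype = φ i :=
    fun i => Module.Injective.extension_property R E _ M _
      (LocCoh.torsionBy (maximalIdeal R) M).injective_subtype (φ i)
  choose g hg using hext
  refine ⟨LinearMap.pi g, ?_⟩
  rw [injective_iff_map_eq_zero]
  intro x hx
  by_contra hx0
  obtain ⟨a, hax, has⟩ := exists_smul_mem_socle hM hx0
  apply hax
  have hcoord : ∀ i, b.coord i ⟨a • x, has⟩ = 0 := by
    intro i
    apply hι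
    apply hf.injective
    rw [map_zero, map_zero]
    have h1 : φ i ⟨a • x, has⟩ = g i (a • x) := by
      rw [← hg i]; rfl
    have h2 : g i (a • x) = 0 := by
      rw [map_smul]
      have := congrFun hx i
      simp only [LinearMap.pi_apply, Pi.zero_apply] at this
      rw [this, smul_zero]
    exact h1.trans h2
  have hz : (⟨a • x, has⟩ : ↥(LocCoh.torsionBy (maximalIdeal R) M)) = 0 := by
    apply b.ext_elem
    intro i
    rw [map_zero, Finsupp.zero_apply]
    exact hcoord i
  exact congrArg Subtype.val hz

end Groth.Agent.S0310
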