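import Groth.Statements.S6035

set_option autoImplicit false
universe u
open Matlis

namespace Groth.Agent.S6035

open IsLocalRing

section

variable {A : Type u} [CommRing A] [IsLocalRing A]
  {E : Type u} [AddCommGroup E] [Module A E]

/-- Data extracted from the injective hull: a socle generator. -/
structure SocGen (e₀ : E) : Prop where
  inj : Module.Injective A E
  ne : e₀ ≠ 0
  kill : ∀ a ∈ maximalIdeal A, a • e₀ = 0
  soc : ∀ e : E, (∀ a ∈ maximalIdeal A, a • e = 0) → ∃ c : A, e = c • e₀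

lemma socGen_of_hull (f : ResidueField A →ₗ[A] E) (hf : InjHull.IsInjectiveHull f) :
    SocGen (A := A) (f 1) := by
  have hkill : ∀ a ∈ maximalIdeal A, a • f 1 = 0 := by
    intro a ha
    rw [← map_smul]
    have : a • (1 : ResidueField A) = 0 := by
      rw [Algebra.smul_def, mul_one]
      exact (IsLocalRing.residue_eq_zero_iff a).2 ha
    rw [this, map_zero]
  refine ⟨hf.isInjective, ?_, hkill, ?_⟩
  · intro h
    have := hf.injective (h.trans (map_zero f).symm)
    exact one_ne_zero this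
  · intro e he
    by_cases h0 : e = 0
    · exact ⟨0, by rw [h0, zero_smul]⟩
    have hN : Submodule.span A {e} ≠ ⊥ := by
      rw [Ne, Submodule.span_singleton_eq_bot]
      exact h0
    have := hf.essential _ hN
    rw [Submodule.ne_bot_iff] at this
    obtain ⟨z, ⟨hz1, hz2⟩, hz0⟩ := this
    obtain ⟨a, rfl⟩ := Submodule.mem_span_singleton.1 hz1
    obtain ⟨x, hx⟩ := hz2
    have ha : IsUnit a := by
      by_contra hna
      exact hz0 (he a ((IsLocalRing.mem_maximalIdeal a).2 hna))
    obtain ⟨b, rfl⟩ := IsLocalRing.residue_surjective x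
    obtain ⟨u, rfl⟩ := ha
    refine ⟨(↑u⁻¹ : A) * b, ?_⟩
    have hb : f (IsLocalRing.residue A b) = b • f 1 := by
      rw [← map_smul, Algebra.smul_def, mul_one]
      rfl
    rw [hb] at hx
    rw [mul_smul, hx, smul_smul, Units.inv_mul, one_smul]

variable {e₀ : E}

lemma cogen (h : SocGen (A := A) e₀) (M : Type u) [AddCommGroup M] [Module A M] (x : M)
    (hx : x ≠ 0) : ∃ φ : M →ₗ[A] E, φ x = e₀ := by
  let I : Submodule A A := LinearMap.ker (LinearMap.toSpanSingleton A M x)
  have hI : I ≤ maximalIdeal A := by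
    apply IsLocalRing.le_maximalIdeal
    intro htop
    have : (1 : A) ∈ I := by rw [htop]; trivial
    rw [LinearMap.mem_ker, LinearMap.toSpanSingleton_apply, one_smul] at this
    exact hx this
  have hle : I ≤ LinearMap.ker (LinearMap.toSpanSingleton A E e₀) := by
    intro a ha
    rw [LinearMap.mem_ker, LinearMap.toSpanSingleton_apply]
    exact h.kill a (hI ha)
  let ι : (A ⧸ I) →ₗ[A] M := I.liftQ (LinearMap.toSpanSingleton A M x) le_rfl
  have hι : Function.Injective ι := by
    rw [← LinearMap.ker_eq_bot]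
    exact Submodule.ker_liftQ_eq_bot _ _ _ le_rfl
  let g : (A ⧸ I) →ₗ[A] E := I.liftQ (LinearMap.toSpanSingleton A E e₀) hle
  obtain ⟨φ, hφ⟩ := h.inj.out ι hι g
  refine ⟨φ, ?_⟩
  have h1 : ι (Submodule.Quotient.mk 1) = x := by
    change I.liftQ (LinearMap.toSpanSingleton A M x) le_rfl (Submodule.Quotient.mk 1) = x
    rw [Submodule.liftQ_apply, LinearMap.toSpanSingleton_apply, one_smul]
  have h2 : g (Submodule.Quotient.mk 1) = e₀ := by
    change I.liftQ (LinearMap.toSpanSingleton A E e₀) hle (Submodule.Quotient.mk 1) = e₀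
    rw [Submodule.liftQ_apply, LinearMap.toSpanSingleton_apply, one_smul]
  have := hφ (Submodule.Quotient.mk 1)
  rw [h1, h2] at this
  exact this

lemma eval_injective (h : SocGen (A := A) e₀) (M : Type u) [AddCommGroup M] [Module A M] :
    Function.Injective (LinearMap.applyₗ : M →ₗ[A] (M →ₗ[A] E) →ₗ[A] E) := by
  rw [← LinearMap.ker_eq_bot, Submodule.eq_bot_iff]
  intro x hx
  by_contra hne
  obtain ⟨φ, hφ⟩ := cogen h M x hne
  have : (LinearMap.applyₗ (R := A) (M₂ := E) x) φ = 0 := by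
    rw [LinearMap.mem_ker] at hx
    rw [hx]
    rfl
  rw [LinearMap.applyₗ_apply_apply, hφ] at this
  exact h.ne this

lemma eval_surj_simple (h : SocGen (A := A) e₀) (S : Type u) [AddCommGroup S] [Module A S]
    [IsSimpleModule A S] :
    Function.Surjective (LinearMap.applyₗ : S →ₗ[A] (S →ₗ[A] E) →ₗ[A] E) := by
  have : Nontrivial S := IsSimpleModule.nontrivial A S
  obtain ⟨s₀, hs₀⟩ := exists_ne (0 : S)
  have hgen : ∀ s : S, ∃ a : A, s = a • s₀ := fun s => by
    obtain ⟨a, ha⟩ := IsSimpleModule.toSpanSingleton_surjective A hs₀ s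
    exact ⟨a, ha.symm⟩
  have hkill : ∀ a ∈ maximalIdeal A, a • s₀ = 0 := by
    intro a ha
    have hmax := IsSimpleModule.ker_toSpanSingleton_isMaximal A hs₀
    have heq := IsLocalRing.eq_maximalIdeal hmax
    have hmem : a ∈ LinearMap.ker (LinearMap.toSpanSingleton A S s₀) := by rw [heq]; exact ha
    simpa using hmem
  have hkillS : ∀ a ∈ maximalIdeal A, ∀ s : S, a • s = 0 := by
    intro a ha s
    obtain ⟨b, rfl⟩ := hgen s
    rw [smul_comm, hkill a ha, smul_zero]
  obtain ⟨φ₀, hφ₀⟩ := cogen h S s₀ hs₀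
  intro ξ
  have hξ : ∀ a ∈ maximalIdeal A, a • ξ φ₀ = 0 := by
    intro a ha
    rw [← map_smul]
    have : a • φ₀ = 0 := by
      ext s
      rw [LinearMap.smul_apply, ← map_smul, hkillS a ha, map_zero, LinearMap.zero_apply]
    rw [this, map_zero]
  obtain ⟨b, hb⟩ := h.soc _ hξ
  refine ⟨b • s₀, ?_⟩
  ext φ
  rw [LinearMap.applyₗ_apply_apply]
  have hφs : ∀ a ∈ maximalIdeal A, a • φ s₀ = 0 := by
    intro a ha; rw [← map_smul, hkill a ha, map_zero]
  obtain ⟨c, hc⟩ := h.soc _ hφs
  have hφ : φ = c • φ₀ := by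
    ext s
    obtain ⟨a, rfl⟩ := hgen s
    rw [map_smul, hc, LinearMap.smul_apply, map_smul, hφ₀, smul_comm]
  rw [hφ, map_smul ξ, hb, LinearMap.smul_apply, map_smul, hφ₀, smul_comm]

lemma eval_surj_glue (h : SocGen (A := A) e₀) (M : Type u) [AddCommGroup M] [Module A M]
    (N : Submodule A M)
    (hN : Function.Surjective (LinearMap.applyₗ : N →ₗ[A] (N →ₗ[A] E) →ₗ[A] E))
    (hQ : Function.Surjective (LinearMap.applyₗ : (M ⧸ N) →ₗ[A] ((M ⧸ N) →ₗ[A] E) →ₗ[A] E)) :
    Function.Surjective (LinearMap.applyₗ : M →ₗ[A] (M →ₗ[A] E) →ₗ[A] E) := by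
  intro ξ
  obtain ⟨ybar, hy⟩ := hQ (ξ ∘ₗ LinearMap.lcomp A E N.mkQ)
  obtain ⟨y, rfl⟩ := N.mkQ_surjective ybar
  let η : (M →ₗ[A] E) →ₗ[A] E := ξ - LinearMap.applyₗ y
  let res : (M →ₗ[A] E) →ₗ[A] (N →ₗ[A] E) := LinearMap.lcomp A E N.subtype
  have hres : Function.Surjective res := by
    intro ψ
    obtain ⟨φ, hφ⟩ := h.inj.out N.subtype N.injective_subtype ψ
    exact ⟨φ, LinearMap.ext hφ⟩
  have hker : LinearMap.ker res ≤ LinearMap.ker η := by
    intro φ hφ
    rw [LinearMap.mem_ker] at hφ ⊢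
    have hφN : N ≤ LinearMap.ker φ := by
      intro n hn
      have := LinearMap.congr_fun hφ ⟨n, hn⟩
      exact this
    have hφ' : (N.liftQ φ hφN) ∘ₗ N.mkQ = φ := N.liftQ_mkQ φ hφN
    have h1 := LinearMap.congr_fun hy (N.liftQ φ hφN)
    rw [LinearMap.applyₗ_apply_apply, LinearMap.comp_apply, LinearMap.lcomp_apply', hφ'] at h1
    change ξ φ - φ y = 0
    rw [← h1, sub_eq_zero]
    rfl
  let ζ : (N →ₗ[A] E) →ₗ[A] E :=
    ((LinearMap.ker res).liftQ η hker) ∘ₗ (LinearMap.quotKerEquivOfSurjective res hres).symm.toLinearMap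
  have hζ : ∀ φ, ζ (res φ) = η φ := by
    intro φ
    change (LinearMap.ker res).liftQ η hker ((LinearMap.quotKerEquivOfSurjective res hres).symm (res φ)) = η φ
    rw [LinearMap.quotKerEquivOfSurjective_symm_apply, Submodule.liftQ_apply]
  obtain ⟨n, hn⟩ := hN ζ
  refine ⟨(n : M) + y, ?_⟩
  ext φ
  have h2 := hζ φ
  rw [← hn] at h2
  have h3 : φ (n : M) = ξ φ - φ y := h2
  rw [LinearMap.applyₗ_apply_apply, map_add, h3, sub_add_cancel]

lemma eval_surj (h : SocGen (A := A) e₀) (M : Type u) [AddCommGroup M] [Module A M]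
    (hM : IsFiniteLength A M) :
    Function.Surjective (LinearMap.applyₗ : M →ₗ[A] (M →ₗ[A] E) →ₗ[A] E) := by
  induction hM with
  | of_subsingleton =>
    intro ξ
    refine ⟨0, ?_⟩
    ext φ
    have : φ = 0 := Subsingleton.elim _ _
    rw [this, map_zero, map_zero]
  | of_simple_quotient _ ih =>
    exact eval_surj_glue h _ _ ih (eval_surj_simple h _)

end

/-- The case of the dualizing functor Hom_A(−, E). Let A be a Noetherian local ring, E an injective hull
of its residue field and M an A-module of finite length. Then the evaluation map M → Hom_A(Hom_A(M,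
E), E) is bijective. -/
theorem result (A : Type u) [CommRing A] [IsLocalRing A] [IsNoetherianRing A]
    (E : Type u) [AddCommGroup E] [Module A E] (f : IsLocalRing.ResidueField A →ₗ[A] E)
    (hf : InjHull.IsInjectiveHull f) (M : Type u) [AddCommGroup M] [Module A M] (hM : IsFiniteLength A M) :
    Function.Bijective (LinearMap.applyₗ : M →ₗ[A] (M →ₗ[A] E) →ₗ[A] E) := by
  have h := socGen_of_hull f hf
  exact ⟨eval_injective h M, eval_surj h M hM⟩

end Groth.Agent.S6035
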