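import Groth.Statements.S0313
import Groth.Agent.S5155
import Groth.Agent.S6035
import Mathlib

set_option autoImplicit false
universe u v
open Matlis

namespace Groth.Agent.S0313

open IsLocalRing

section Helpers

variable {R : Type u} [CommRing R] [IsLocalRing R] [IsNoetherianRing R]

lemma isFiniteLength_quotient_pow (n : ℕ) : IsFiniteLength R (R ⧸ maximalIdeal R ^ n) := by
  rcases Nat.eq_zero_or_pos n with rfl | hn
  · haveI : Subsingleton (R ⧸ maximalIdeal R ^ 0) := by
      rw [pow_zero, Ideal.one_eq_top]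
      exact Ideal.Quotient.subsingleton_iff.2 rfl
    exact IsFiniteLength.of_subsingleton
  · have hmin : maximalIdeal R ∈ (maximalIdeal R ^ n).minimalPrimes := by
      refine ⟨⟨inferInstance, Ideal.pow_le_self hn.ne'⟩, ?_⟩
      rintro q ⟨hq, hle⟩ -
      exact (hq.pow_le_iff hn.ne').1 hle
    haveI : IsArtinianRing (R ⧸ maximalIdeal R ^ n) :=
      IsLocalRing.quotient_artinian_of_mem_minimalPrimes_of_isLocalRing _ hmin
    rw [isFiniteLength_iff_isNoetherian_isArtinian]
    exact ⟨isNoetherian_quotient _,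
      isArtinian_of_surjective_algebraMap (Ideal.Quotient.mk_surjective (I := maximalIdeal R ^ n))⟩

variable {E : Type u} [AddCommGroup E] [Module R E]

/-- the map `R/m^n → E` attached to an element killed by `m^n` -/
noncomputable def killedHom (n : ℕ) (e : E) (he : ∀ a ∈ maximalIdeal R ^ n, a • e = 0) :
    (R ⧸ maximalIdeal R ^ n) →ₗ[R] E :=
  Submodule.liftQ (maximalIdeal R ^ n) (LinearMap.toSpanSingleton R E e) (by
    intro b hb
    simpa using he b hb)

lemma killedHom_mk (n : ℕ) (e : E) (he : ∀ a ∈ maximalIdeal R ^ n, a • e = 0) (r : R) :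
    killedHom n e he (Ideal.Quotient.mk _ r) = r • e := by
  show (LinearMap.toSpanSingleton R E e) r = r • e
  simp

lemma hom_apply_killed (n : ℕ) (h : (R ⧸ maximalIdeal R ^ n) →ₗ[R] E) :
    ∀ a ∈ maximalIdeal R ^ n, a • h 1 = 0 := by
  intro a ha
  rw [← map_smul]
  have : a • (1 : R ⧸ maximalIdeal R ^ n) = 0 := by
    rw [Algebra.smul_def, mul_one]
    exact Ideal.Quotient.eq_zero_iff_mem.2 ha
  rw [this, map_zero]

lemma hom_apply_mk (n : ℕ) (h : (R ⧸ maximalIdeal R ^ n) →ₗ[R] E) (r : R) :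
    h (Ideal.Quotient.mk _ r) = r • h 1 := by
  rw [← map_smul]
  congr 1
  rw [Algebra.smul_def, mul_one]
  rfl

variable {f : ResidueField R →ₗ[R] E} (hf : InjHull.IsInjectiveHull f)
include hf

/-- (S): an endomorphism of `E` acts on `E[m^n]` as multiplication by a scalar. -/
lemma exists_smul_eq (φ : Module.End R E) (n : ℕ) :
    ∃ r : R, ∀ e : E, (∀ a ∈ maximalIdeal R ^ n, a • e = 0) → φ e = r • e := by
  have hbij := Groth.Agent.S6035.result R E f hf (R ⧸ maximalIdeal R ^ n)
    (isFiniteLength_quotient_pow n)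
  let Θ : ((R ⧸ maximalIdeal R ^ n) →ₗ[R] E) →ₗ[R] E :=
    φ ∘ₗ (LinearMap.applyₗ (1 : R ⧸ maximalIdeal R ^ n))
  obtain ⟨rbar, hr⟩ := hbij.2 Θ
  obtain ⟨r, rfl⟩ := Ideal.Quotient.mk_surjective rbar
  refine ⟨r, fun e he => ?_⟩
  have := LinearMap.congr_fun hr (killedHom n e he)
  simp only [LinearMap.applyₗ_apply_apply, Θ, LinearMap.coe_comp, Function.comp_apply] at this
  rw [killedHom_mk] at this
  have h1 : killedHom n e he 1 = e := by
    have := killedHom_mk n e he 1
    rwa [one_smul] at this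
  rw [h1] at this
  exact this.symm

/-- (F): a scalar killing `E[m^n]` lies in `m^n`. -/
lemma mem_pow_of_smul_eq_zero (r : R) (n : ℕ)
    (h : ∀ e : E, (∀ a ∈ maximalIdeal R ^ n, a • e = 0) → r • e = 0) :
    r ∈ maximalIdeal R ^ n := by
  have hbij := Groth.Agent.S6035.result R E f hf (R ⧸ maximalIdeal R ^ n)
    (isFiniteLength_quotient_pow n)
  rw [← Ideal.Quotient.eq_zero_iff_mem]
  apply hbij.1
  rw [map_zero]
  ext g
  simp only [LinearMap.applyₗ_apply_apply, LinearMap.zero_apply]
  rw [hom_apply_mk]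
  exact h _ (hom_apply_killed n g)

/-- a scalar representing `φ` on `E[m^n]` -/
noncomputable def sc (φ : Module.End R E) (n : ℕ) : R := (exists_smul_eq hf φ n).choose

lemma sc_spec (φ : Module.End R E) (n : ℕ) (e : E) (he : ∀ a ∈ maximalIdeal R ^ n, a • e = 0) :
    φ e = sc hf φ n • e := (exists_smul_eq hf φ n).choose_spec e he

lemma sc_unique (φ : Module.End R E) (n : ℕ) (r : R)
    (hr : ∀ e : E, (∀ a ∈ maximalIdeal R ^ n, a • e = 0) → φ e = r • e) :
    sc hf φ n - r ∈ maximalIdeal R ^ n := by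
  refine mem_pow_of_smul_eq_zero hf _ n (fun e he => ?_)
  rw [sub_smul, ← sc_spec hf φ n e he, ← hr e he, sub_self]

lemma sc_cauchy (φ : Module.End R E) : AdicCompletion.IsAdicCauchy (maximalIdeal R) R (sc hf φ) := by
  intro a b hab
  rw [SModEq.sub_mem, smul_eq_mul, Ideal.mul_top]
  refine sc_unique hf φ a _ (fun e he => ?_)
  exact sc_spec hf φ b e (fun c hc => he c (Ideal.pow_le_pow_right hab hc))

/-- the element of the completion attached to an endomorphism -/
noncomputable def Ψfun (φ : Module.End R E) : AdicCompletion (maximalIdeal R) R :=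
  AdicCompletion.mk (maximalIdeal R) R ⟨sc hf φ, sc_cauchy hf φ⟩

lemma evalₐ_Ψfun (φ : Module.End R E) (n : ℕ) (r : R)
    (hr : ∀ e : E, (∀ a ∈ maximalIdeal R ^ n, a • e = 0) → φ e = r • e) :
    AdicCompletion.evalₐ (maximalIdeal R) n (Ψfun hf φ) = Ideal.Quotient.mk _ r := by
  rw [Ψfun, AdicCompletion.evalₐ_mk]
  exact Ideal.Quotient.eq.2 (sc_unique hf φ n r hr)

/-- the algebra map `End(E) → R^` -/
noncomputable def Ψ : Module.End R E →ₐ[R] AdicCompletion (maximalIdeal R) R where
  toFun := Ψfun hf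
  map_one' := AdicCompletion.ext_evalₐ fun n => by
    rw [evalₐ_Ψfun hf 1 n 1 (fun e _ => by simp), map_one, map_one]
  map_mul' φ ψ := AdicCompletion.ext_evalₐ fun n => by
    rw [map_mul, evalₐ_Ψfun hf φ n _ (sc_spec hf φ n), evalₐ_Ψfun hf ψ n _ (sc_spec hf ψ n),
      ← map_mul]
    refine evalₐ_Ψfun hf (φ * ψ) n _ (fun e he => ?_)
    rw [Module.End.mul_apply, sc_spec hf ψ n e he, map_smul, sc_spec hf φ n e he, smul_smul,
      mul_comm]
  map_zero' := AdicCompletion.ext_evalₐ fun n => by
    rw [evalₐ_Ψfun hf 0 n 0 (fun e _ => by simp), map_zero, map_zero]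
  map_add' φ ψ := AdicCompletion.ext_evalₐ fun n => by
    rw [map_add, evalₐ_Ψfun hf φ n _ (sc_spec hf φ n), evalₐ_Ψfun hf ψ n _ (sc_spec hf ψ n),
      ← map_add]
    refine evalₐ_Ψfun hf (φ + ψ) n _ (fun e he => ?_)
    rw [LinearMap.add_apply, sc_spec hf φ n e he, sc_spec hf ψ n e he, add_smul]
  commutes' r := AdicCompletion.ext_evalₐ fun n => by
    rw [evalₐ_Ψfun hf (algebraMap R (Module.End R E) r) n r
      (fun e _ => by rw [Module.algebraMap_end_apply]), AdicCompletion.algebraMap_apply,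
      AdicCompletion.evalₐ_of]
    rfl

omit hf in
lemma cauchy_smul_eq (r : AdicCompletion.AdicCauchySequence (maximalIdeal R) R) {n n' : ℕ} (e : E)
    (he : ∀ a ∈ maximalIdeal R ^ n, a • e = 0) (he' : ∀ a ∈ maximalIdeal R ^ n', a • e = 0) :
    r n • e = r n' • e := by
  wlog h : n ≤ n' generalizing n n'
  · exact (this he' he (le_of_not_ge h)).symm
  have h1 := r.property h
  rw [SModEq.sub_mem, smul_eq_mul, Ideal.mul_top] at h1
  have := he _ h1
  rwa [sub_smul, sub_eq_zero] at this

omit hf in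
/-- the endomorphism of a power torsion module attached to a Cauchy sequence -/
noncomputable def seqEnd (hpt : LocCoh.IsPowerTorsion (maximalIdeal R) E)
    (r : AdicCompletion.AdicCauchySequence (maximalIdeal R) R) : Module.End R E where
  toFun e := r (hpt e).choose • e
  map_add' e e' := by
    set n := max (max (hpt e).choose (hpt e').choose) (hpt (e + e')).choose with hn
    have k1 : ∀ a ∈ maximalIdeal R ^ n, a • e = 0 := fun a ha =>
      (hpt e).choose_spec a (Ideal.pow_le_pow_right
        (le_trans (le_max_left _ _) (le_max_left _ _)) ha)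
    have k2 : ∀ a ∈ maximalIdeal R ^ n, a • e' = 0 := fun a ha =>
      (hpt e').choose_spec a (Ideal.pow_le_pow_right
        (le_trans (le_max_right _ _) (le_max_left _ _)) ha)
    have k3 : ∀ a ∈ maximalIdeal R ^ n, a • (e + e') = 0 := fun a ha => by
      rw [smul_add, k1 a ha, k2 a ha, add_zero]
    rw [cauchy_smul_eq r (e + e') (hpt (e + e')).choose_spec k3,
      cauchy_smul_eq r e (hpt e).choose_spec k1, cauchy_smul_eq r e' (hpt e').choose_spec k2,
      smul_add]
  map_smul' c e := by
    simp only [RingHom.id_apply]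
    set n := max (hpt e).choose (hpt (c • e)).choose with hn
    have k1 : ∀ a ∈ maximalIdeal R ^ n, a • e = 0 := fun a ha =>
      (hpt e).choose_spec a (Ideal.pow_le_pow_right (le_max_left _ _) ha)
    have k2 : ∀ a ∈ maximalIdeal R ^ n, a • (c • e) = 0 := fun a ha => by
      rw [smul_comm, k1 a ha, smul_zero]
    rw [cauchy_smul_eq r (c • e) (hpt (c • e)).choose_spec k2,
      cauchy_smul_eq r e (hpt e).choose_spec k1, smul_comm]

omit hf in
lemma seqEnd_apply (hpt : LocCoh.IsPowerTorsion (maximalIdeal R) E)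
    (r : AdicCompletion.AdicCauchySequence (maximalIdeal R) R) (n : ℕ) (e : E)
    (he : ∀ a ∈ maximalIdeal R ^ n, a • e = 0) : seqEnd hpt r e = r n • e :=
  cauchy_smul_eq r e (hpt e).choose_spec he

lemma Ψ_bijective : Function.Bijective (Ψ hf) := by
  have hpt : LocCoh.IsPowerTorsion (maximalIdeal R) E :=
    Groth.Agent.S5155.isPowerTorsion_of_hull hf.toIsEssentialInj
  constructor
  · rw [injective_iff_map_eq_zero]
    intro φ hφ
    ext e
    obtain ⟨n, hn⟩ := hpt e
    have h1 : AdicCompletion.evalₐ (maximalIdeal R) n (Ψfun hf φ) = 0 := by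
      have : Ψfun hf φ = 0 := hφ
      rw [this, map_zero]
    rw [evalₐ_Ψfun hf φ n _ (sc_spec hf φ n), Ideal.Quotient.eq_zero_iff_mem] at h1
    rw [sc_spec hf φ n e hn, hn _ h1, LinearMap.zero_apply]
  · intro x
    obtain ⟨r, rfl⟩ := AdicCompletion.mk_surjective (maximalIdeal R) R x
    refine ⟨seqEnd hpt r, ?_⟩
    apply AdicCompletion.ext_evalₐ
    intro n
    show AdicCompletion.evalₐ (maximalIdeal R) n (Ψfun hf (seqEnd hpt r)) = _
    rw [evalₐ_Ψfun hf (seqEnd hpt r) n (r n) (fun e he => seqEnd_apply hpt r n e he),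
      AdicCompletion.evalₐ_mk]

end Helpers

/-- Over a Noetherian local ring, the endomorphism ring of an injective hull of the residue field is
isomorphic, as an algebra over the ring, to the completion at the maximal ideal. -/
theorem result (R : Type u) [CommRing R] [IsLocalRing R] [IsNoetherianRing R] (E : Type u) [AddCommGroup E] [Module R E] (f : IsLocalRing.ResidueField R →ₗ[R] E) (hf : InjHull.IsInjectiveHull f) : Nonempty (Module.End R E ≃ₐ[R] AdicCompletion (IsLocalRing.maximalIdeal R) R) := by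
  exact ⟨AlgEquiv.ofBijective (Ψ hf) (Ψ_bijective hf)⟩

end Groth.Agent.S0313
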