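import Groth.Statements.S0314
import Groth.Agent.S0313
import Groth.Agent.Lib.Helper19ComplNoeth
import Mathlib

set_option autoImplicit false
universe u v
open Matlis

namespace Groth.Agent.S0314

open IsLocalRing

section Helpers

variable {R : Type u} [CommRing R] [IsLocalRing R] [IsNoetherianRing R]
  {E : Type u} [AddCommGroup E] [Module R E]

/-- the left ideal of endomorphisms killing a submodule -/
def annEnd (N : Submodule R E) : Ideal (Module.End R E) where
  carrier := {φ | ∀ x ∈ N, φ x = 0}
  add_mem' := by
    intro φ ψ hφ hψ x hx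
    rw [LinearMap.add_apply, hφ x hx, hψ x hx, add_zero]
  zero_mem' := fun x _ => rfl
  smul_mem' := by
    intro c φ hφ x hx
    show (c * φ) x = 0
    rw [Module.End.mul_apply, hφ x hx, map_zero]

lemma annEnd_strictAnti {f : ResidueField R →ₗ[R] E} (hf : InjHull.IsInjectiveHull f) :
    StrictAnti (annEnd (R := R) (E := E)) := by
  intro N N' hlt
  refine lt_of_le_of_ne (fun φ hφ x hx => hφ x (hlt.le hx)) ?_
  intro heq
  obtain ⟨e, heN', heN⟩ := Set.exists_of_ssubset hlt
  have hne : (N.mkQ e) ≠ 0 := by
    intro h0
    exact heN ((Submodule.Quotient.mk_eq_zero N).1 h0)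
  have hinj := Groth.Agent.S6035.eval_injective (Groth.Agent.S6035.socGen_of_hull f hf) (E ⧸ N)
  have : ∃ ψ : (E ⧸ N) →ₗ[R] E, ψ (N.mkQ e) ≠ 0 := by
    by_contra hcon
    push Not at hcon
    apply hne
    apply hinj
    rw [map_zero]
    ext ψ
    simpa using hcon ψ
  obtain ⟨ψ, hψ⟩ := this
  have hmem : (ψ ∘ₗ N.mkQ : Module.End R E) ∈ annEnd N := by
    intro x hx
    have : N.mkQ x = 0 := (Submodule.Quotient.mk_eq_zero N).2 hx
    rw [LinearMap.comp_apply, this, map_zero]
  rw [← heq] at hmem
  exact hψ (hmem e heN')

end Helpers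

/-- Over a Noetherian local ring an injective hull of the residue field satisfies the descending chain
condition on submodules. -/
theorem result (R : Type u) [CommRing R] [IsLocalRing R] [IsNoetherianRing R] (E : Type u) [AddCommGroup E] [Module R E] (f : IsLocalRing.ResidueField R →ₗ[R] E) (hf : InjHull.IsInjectiveHull f) : IsArtinian R E := by
  haveI : IsNoetherianRing (AdicCompletion (maximalIdeal R) R) :=
    Groth.Agent.Lib.Helper19.isNoetherianRing_adicCompletion _
  obtain ⟨e⟩ := Groth.Agent.S0313.result R E f hf
  haveI : IsNoetherianRing (Module.End R E) :=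
    isNoetherianRing_of_ringEquiv _ (e.symm : AdicCompletion (maximalIdeal R) R ≃+* Module.End R E)
  haveI : WellFoundedGT (Ideal (Module.End R E)) := inferInstance
  exact (annEnd_strictAnti hf).wellFoundedLT

end Groth.Agent.S0314
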