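import Groth.Statements.S0315
import Groth.Agent.S0314
import Groth.Agent.S0310
import Groth.Agent.S0299
import Mathlib

set_option autoImplicit false
universe u v
open Matlis

namespace Groth.Agent.S0315

open IsLocalRing

section Helpers

variable {R : Type u} [CommRing R] [IsLocalRing R] [IsNoetherianRing R]
  {M : Type u} [AddCommGroup M] [Module R M]

lemma isPowerTorsion_of_isArtinian [IsArtinian R M] :
    LocCoh.IsPowerTorsion (maximalIdeal R) M := by
  intro x
  let X : Submodule R M := Submodule.span R {x}
  haveI : Module.Finite R X := Module.Finite.span_singleton R x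
  haveI : IsNoetherian R X := isNoetherian_of_isNoetherianRing_of_finite R X
  let F : ℕ →o (Submodule R X)ᵒᵈ :=
    { toFun := fun n => OrderDual.toDual (maximalIdeal R ^ n • (⊤ : Submodule R X))
      monotone' := by
        intro a b hab
        show maximalIdeal R ^ b • (⊤ : Submodule R X) ≤ maximalIdeal R ^ a • ⊤
        exact Submodule.smul_mono_left (Ideal.pow_le_pow_right hab) }
  obtain ⟨n, hn⟩ := IsArtinian.monotone_stabilizes F
  have h1 : maximalIdeal R ^ n • (⊤ : Submodule R X) = maximalIdeal R ^ (n + 1) • ⊤ :=
    congrArg OrderDual.ofDual (hn (n + 1) (Nat.le_succ n))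
  have h2 : maximalIdeal R ^ n • (⊤ : Submodule R X) = ⊥ := by
    apply Submodule.eq_bot_of_le_smul_of_le_jacobson_bot (maximalIdeal R) _
      (IsNoetherian.noetherian _) _ (maximalIdeal_le_jacobson _)
    rw [← mul_smul, ← pow_succ', ← h1]
  refine ⟨n, fun a ha => ?_⟩
  have h3 : a • (⟨x, Submodule.mem_span_singleton_self x⟩ : X) ∈
      maximalIdeal R ^ n • (⊤ : Submodule R X) := Submodule.smul_mem_smul ha Submodule.mem_top
  rw [h2, Submodule.mem_bot] at h3
  exact congrArg Subtype.val h3

lemma finite_socle_of_isArtinian [IsArtinian R M] :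
    Module.Finite (R ⧸ maximalIdeal R) ↥(LocCoh.torsionBy (maximalIdeal R) M) := by
  letI : Field (R ⧸ maximalIdeal R) := Ideal.Quotient.field (maximalIdeal R)
  haveI : IsArtinian (R ⧸ maximalIdeal R) ↥(LocCoh.torsionBy (maximalIdeal R) M) :=
    isArtinian_of_tower R inferInstance
  let b := Module.Basis.ofVectorSpace (R ⧸ maximalIdeal R)
    ↥(LocCoh.torsionBy (maximalIdeal R) M)
  have hfin : (Module.Basis.ofVectorSpaceIndex (R ⧸ maximalIdeal R)
      ↥(LocCoh.torsionBy (maximalIdeal R) M)).Finite :=
    IsArtinian.finite_of_linearIndependent (Module.Basis.ofVectorSpaceIndex.linearIndependent _ _)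
  haveI := hfin.to_subtype
  exact Module.Finite.of_basis b

end Helpers

/-- Over a Noetherian local ring a module has the descending chain condition exactly when it is killed
elementwise by powers of the maximal ideal and its socle is finite-dimensional over the residue
field. -/
theorem result (R : Type u) [CommRing R] [IsLocalRing R] [IsNoetherianRing R] (M : Type u) [AddCommGroup M] [Module R M] : IsArtinian R M ↔ (LocCoh.IsPowerTorsion (IsLocalRing.maximalIdeal R) M ∧ Module.Finite (R ⧸ IsLocalRing.maximalIdeal R) ↥(LocCoh.torsionBy (IsLocalRing.maximalIdeal R) M)) := by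
  constructor
  · intro h
    exact ⟨isPowerTorsion_of_isArtinian, finite_socle_of_isArtinian⟩
  · rintro ⟨hpt, hfin⟩
    obtain ⟨E, _, _, f, hf⟩ := Groth.Agent.S0299.result R (ResidueField R)
    haveI : IsArtinian R E := Groth.Agent.S0314.result R E f hf
    obtain ⟨g, hg⟩ := Groth.Agent.S0310.result R E f hf M hpt _ rfl
    exact isArtinian_of_injective g hg

end Groth.Agent.S0315
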