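import Groth.Statements.S0817
import Groth.Agent.S0315
import Groth.Agent.S11589
import Groth.Agent.S11610
import Groth.Agent.Lib.Helper8LCDepth

set_option autoImplicit false
universe u
open LocCoh

namespace Groth.Agent.S0817

open CategoryTheory Groth.Agent.Lib.Helper8.ExtLES Groth.Agent.Lib.Helper8.LC
  Groth.Agent.Lib.Helper8.DT IsLocalRing

section Helpers

variable {A : Type u} [CommRing A] [IsNoetherianRing A]

theorem torsionSub_quotient_eq_bot (I : Ideal A) (M : Type u) [AddCommGroup M] [Module A M] :
    DRing.torsionSub I (M ⧸ DRing.torsionSub I M) = ⊥ := by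
  rw [eq_bot_iff]
  intro y hy
  obtain ⟨x, rfl⟩ := Submodule.Quotient.mk_surjective _ y
  obtain ⟨n, hn⟩ := hy
  rw [Submodule.mem_bot, Submodule.Quotient.mk_eq_zero]
  have hfg : (I ^ n • Submodule.span A {x}).FG :=
    Submodule.FG.smul ((isNoetherianRing_iff_ideal_fg A).mp inferInstance _)
      (Submodule.fg_span_singleton x)
  have hle : I ^ n • Submodule.span A {x} ≤ DRing.torsionSub I M := by
    rw [Submodule.smul_le]
    intro a ha z hz
    obtain ⟨c, rfl⟩ := Submodule.mem_span_singleton.mp hz
    rw [smul_comm]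
    apply (DRing.torsionSub I M).smul_mem
    have := hn a ha
    rw [← Submodule.Quotient.mk_smul, Submodule.Quotient.mk_eq_zero] at this
    exact this
  obtain ⟨s, hs⟩ := exists_pow_kills_of_fg (I := I) _ hfg hle
  refine ⟨s + n, fun a ha => ?_⟩
  rw [pow_add] at ha
  refine Submodule.mul_induction_on ha ?_ ?_
  · intro b hb c hc
    rw [mul_smul]
    exact hs b hb _ (Submodule.smul_mem_smul hc (Submodule.mem_span_singleton_self x))
  · intro y z hy hz
    rw [add_smul, hy, hz, add_zero]

variable [IsLocalRing A]

omit [IsNoetherianRing A] in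
theorem finite_socle_of_isArtinian_socle (N : Type u) [AddCommGroup N] [Module A N]
    (h : IsArtinian A ↥(LocCoh.torsionBy (maximalIdeal A) N)) :
    Module.Finite (A ⧸ maximalIdeal A) ↥(LocCoh.torsionBy (maximalIdeal A) N) := by
  let _ : Field (A ⧸ maximalIdeal A) := Ideal.Quotient.field (maximalIdeal A)
  have : IsArtinian (A ⧸ maximalIdeal A) ↥(LocCoh.torsionBy (maximalIdeal A) N) :=
    isArtinian_of_tower A h
  let b := Module.Basis.ofVectorSpace (A ⧸ maximalIdeal A)
    ↥(LocCoh.torsionBy (maximalIdeal A) N)
  have hfin : (Module.Basis.ofVectorSpaceIndex (A ⧸ maximalIdeal A)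
      ↥(LocCoh.torsionBy (maximalIdeal A) N)).Finite :=
    IsArtinian.finite_of_linearIndependent (Module.Basis.ofVectorSpaceIndex.linearIndependent _ _)
  have := hfin.to_subtype
  exact Module.Finite.of_basis b

theorem isArtinian_H_zero (M : Type u) [AddCommGroup M] [Module A M] [Module.Finite A M] :
    IsArtinian A (LocCoh.H (maximalIdeal A) 0 M) := by
  have hN : IsNoetherian A M := isNoetherian_of_isNoetherianRing_of_finite A M
  have hpt : LocCoh.IsPowerTorsion (maximalIdeal A) ↥(DRing.torsionSub (maximalIdeal A) M) := by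
    rintro ⟨x, n, hn⟩
    exact ⟨n, fun a ha => Subtype.ext (hn a ha)⟩
  have hfin : Module.Finite (A ⧸ maximalIdeal A)
      ↥(LocCoh.torsionBy (maximalIdeal A) ↥(DRing.torsionSub (maximalIdeal A) M)) :=
    Module.Finite.of_restrictScalars_finite A _ _
  have hart : IsArtinian A ↥(DRing.torsionSub (maximalIdeal A) M) :=
    (Groth.Agent.S0315.result A _).mpr ⟨hpt, hfin⟩
  exact isArtinian_of_linearEquiv (ΦEquiv (maximalIdeal A) (ModuleCat.of A M)).symm

theorem isArtinian_H_succ_of_torsionFree (i : ℕ)
    (ih : ∀ (M : Type u) [AddCommGroup M] [Module A M] [Module.Finite A M],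
      IsArtinian A (LocCoh.H (maximalIdeal A) i M))
    (M : Type u) [AddCommGroup M] [Module A M] [Module.Finite A M]
    (hM : DRing.torsionSub (maximalIdeal A) M = ⊥) :
    IsArtinian A (LocCoh.H (maximalIdeal A) (i + 1) M) := by
  obtain ⟨r, hr, hreg⟩ := Groth.Agent.S11610.result A A (maximalIdeal A) M (by
    rw [Algebra.algebraMap_self, Ideal.map_id]
    exact hM)
  rw [Algebra.algebraMap_self, RingHom.id_apply] at hreg
  -- the short exact sequence `0 → M → M → M/rM → 0`
  let f : M →ₗ[A] M := LinearMap.lsmul A M r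
  have hf : Function.Injective f := hreg
  have hg : Function.Surjective (LinearMap.range f).mkQ := Submodule.mkQ_surjective _
  have hex : Function.Exact f (LinearMap.range f).mkQ := LinearMap.exact_map_mkQ_range f
  have hS := Sfg_shortExact f _ hf hg hex
  have hQ : IsArtinian A (LocCoh.H (maximalIdeal A) i (M ⧸ LinearMap.range f)) := ih _
  have hrange : IsArtinian A ↥(LinearMap.range
      (Hδ (maximalIdeal A) i (Sfg f (LinearMap.range f).mkQ hex) hS).hom) := isArtinian_range _
  have hle : LocCoh.torsionBy (maximalIdeal A) (LocCoh.H (maximalIdeal A) (i + 1) M) ≤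
      LinearMap.range (Hδ (maximalIdeal A) i (Sfg f (LinearMap.range f).mkQ hex) hS).hom := by
    intro x hx
    have h0 : r • x = 0 := (Submodule.mem_torsionBySet_iff _ _).mp hx ⟨r, hr⟩
    have h1 : (localCohomology (maximalIdeal A) (i + 1)).map
        (Sfg f (LinearMap.range f).mkQ hex).f x = 0 := by
      change (localCohomology (maximalIdeal A) (i + 1)).map
        (ModuleCat.ofHom (LinearMap.lsmul A M r)) x = 0
      rw [Groth.Agent.Lib.Helper8.LC.H_map_lsmul]
      exact h0
    obtain ⟨z, hz⟩ := H_exact₁ (maximalIdeal A) i _ hS x h1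
    exact ⟨z, hz⟩
  have hsoc : IsArtinian A
      ↥(LocCoh.torsionBy (maximalIdeal A) (LocCoh.H (maximalIdeal A) (i + 1) M)) :=
    isArtinian_of_le hle
  exact (Groth.Agent.S0315.result A _).mpr
    ⟨fun x => isPowerTorsion_H (maximalIdeal A) (i + 1) (ModuleCat.of A M) x,
      finite_socle_of_isArtinian_socle _ hsoc⟩

theorem isArtinian_H (i : ℕ) : ∀ (M : Type u) [AddCommGroup M] [Module A M] [Module.Finite A M],
    IsArtinian A (LocCoh.H (maximalIdeal A) i M) := by
  induction i with
  | zero => intro M _ _ _; exact isArtinian_H_zero M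
  | succ i ih =>
    intro M _ _ _
    -- reduce to `M' = M / Γ_m(M)`
    have hbij := Groth.Agent.S11589.result A (maximalIdeal A) M (i + 1) (Nat.succ_pos i)
    suffices h : IsArtinian A (LocCoh.H (maximalIdeal A) (i + 1)
        (M ⧸ DRing.torsionSub (maximalIdeal A) M)) from
      isArtinian_of_linearEquiv (LinearEquiv.ofBijective _ hbij).symm
    exact isArtinian_H_succ_of_torsionFree i ih _ (torsionSub_quotient_eq_bot _ M)

end Helpers

/-- Take a Noetherian local ring (A, 𝔪) and a finitely generated A-module M. For each i, the local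
cohomology module H^i_𝔪(M) is Artinian over A (its submodules satisfy the descending chain
condition). (Part (2), about cohomology on the punctured spectrum, is not stated.) -/
theorem result (A : Type u) [CommRing A] [IsNoetherianRing A]
    [IsLocalRing A] (M : Type u) [AddCommGroup M] [Module A M] [Module.Finite A M] (i : ℕ) :
    IsArtinian A (LocCoh.H (IsLocalRing.maximalIdeal A) i M) := by
  exact isArtinian_H i M

end Groth.Agent.S0817
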