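import Groth.Statements.S0334
import Groth.Agent.Lib.Helper8GV

set_option autoImplicit false
universe u v
open LocCoh

namespace Groth.Agent.S0334

open CategoryTheory CategoryTheory.Limits Groth.Agent.Lib.Helper8.ExtLES Groth.Agent.Lib.Helper8.LC
  Groth.Agent.Lib.Helper8.GV

theorem supportDim_lt_of_smul_eq_zero {R : Type u} [CommRing R] [IsNoetherianRing R] (d : ℕ)
    (hd : ringKrullDim R = d) (f : R)
    (hf : ∀ p ∈ minimalPrimes R, ringKrullDim (R ⧸ p) = d → f ∉ p)
    (N : Type u) [AddCommGroup N] [Module R N] [Module.Finite R N] (hN : ∀ n : N, f • n = 0) :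
    Module.supportDim R N < ((d : ℕ) : WithBot ℕ∞) := by
  have hle : Module.supportDim R N ≤ ((d : ℕ) : WithBot ℕ∞) :=
    hd ▸ Module.supportDim_le_ringKrullDim R N
  refine lt_of_le_of_ne hle ?_
  intro heq
  have h1 : ((d : ℕ) : WithBot ℕ∞) ≤ Order.krullDim (Module.support R N) := heq.ge
  obtain ⟨l, hl⟩ := Order.le_krullDim_iff.mp h1
  have hfhead : f ∈ l.head.1.asIdeal := by
    have h2 := l.head.2
    rw [Module.mem_support_iff_of_finite] at h2
    exact h2 (by rw [Module.mem_annihilator]; exact hN)
  obtain ⟨p, hpmin, hple⟩ := Ideal.exists_minimalPrimes_le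
    (show (⊥ : Ideal R) ≤ l.head.1.asIdeal from bot_le)
  have hpprime : p.IsPrime := hpmin.1.1
  rcases hple.eq_or_lt with heq' | hlt
  · apply hf p hpmin ?_ (heq' ▸ hfhead)
    apply le_antisymm (hd ▸ ringKrullDim_quotient_le p)
    rw [ringKrullDim_quotient]
    apply Order.le_krullDim_iff.mpr
    refine ⟨{ length := l.length
              toFun := fun i => ⟨(l i).1, ?_⟩
              step := fun i => l.step i }, hl⟩
    rw [PrimeSpectrum.mem_zeroLocus, SetLike.coe_subset_coe, heq']
    exact l.head_le i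
  · let l' : LTSeries (PrimeSpectrum R) :=
      (l.map Subtype.val (fun _ _ h => h)).cons ⟨p, hpprime⟩ (by
        change (⟨p, hpprime⟩ : PrimeSpectrum R) < (l.map Subtype.val (fun _ _ h => h)).head
        rw [LTSeries.head_map]
        exact hlt)
    have h3 : (((d + 1 : ℕ) : ℕ) : WithBot ℕ∞) ≤ ringKrullDim R :=
      Order.le_krullDim_iff.mpr ⟨l', by simp [l', hl]⟩
    rw [hd] at h3
    have h4 : d + 1 ≤ d := by exact_mod_cast h3
    omega

/-- Over a Noetherian local ring of dimension d, multiplication by an element lying in no minimal prime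
p with dim R/p = d is surjective on H^d_I(M) for every finite module M and every ideal I. -/
theorem result (R : Type u) [CommRing R] [IsLocalRing R] [IsNoetherianRing R] (I : Ideal R) (d : ℕ) (hd : ringKrullDim R = d) (f : R) (hf : ∀ p ∈ minimalPrimes R, ringKrullDim (R ⧸ p) = d → f ∉ p) (M : Type u) [AddCommGroup M] [Module R M] [Module.Finite R M] : Function.Surjective (fun x : LocCoh.H I d M => f • x) := by
  intro y
  let φ : M →ₗ[R] M := LinearMap.lsmul R M f
  have hex1 : Function.Exact (LinearMap.ker φ).subtype φ.rangeRestrict := by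
    intro m
    constructor
    · intro hm
      exact ⟨⟨m, by
        have := congrArg Subtype.val hm
        simpa using this⟩, rfl⟩
    · rintro ⟨k, rfl⟩
      apply Subtype.ext
      exact k.2
  have hS1 := Sfg_shortExact (LinearMap.ker φ).subtype φ.rangeRestrict
    (Submodule.injective_subtype _) φ.surjective_rangeRestrict hex1
  have hex2 : Function.Exact (LinearMap.range φ).subtype (LinearMap.range φ).mkQ :=
    LinearMap.exact_subtype_mkQ _
  have hS2 := Sfg_shortExact (LinearMap.range φ).subtype (LinearMap.range φ).mkQ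
    (Submodule.injective_subtype _) (Submodule.mkQ_surjective _) hex2
  have hQ : ∀ z : LocCoh.H I d (M ⧸ LinearMap.range φ), z = 0 :=
    H_eq_zero_of_supportDim_lt I d _ (supportDim_lt_of_smul_eq_zero d hd f hf _ (by
      intro n
      obtain ⟨m, rfl⟩ := Submodule.mkQ_surjective _ n
      rw [← map_smul, Submodule.mkQ_apply, Submodule.Quotient.mk_eq_zero]
      exact ⟨m, rfl⟩))
  obtain ⟨w, hw⟩ := H_exact₂ I d _ hS2 y (hQ _)
  have hK : ∀ z : LocCoh.H I (d + 1) (LinearMap.ker φ), z = 0 :=
    H_eq_zero_of_supportDim_lt I (d + 1) _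
      (lt_of_le_of_lt (hd ▸ Module.supportDim_le_ringKrullDim R _)
        (by exact_mod_cast Nat.lt_succ_self d))
  obtain ⟨v, hv⟩ := H_exact₃ I d _ hS1 w (hK _)
  refine ⟨v, ?_⟩
  change f • v = y
  rw [← H_map_lsmul I d M f v]
  have hcomp : ModuleCat.ofHom (LinearMap.lsmul R M f) =
      ModuleCat.ofHom φ.rangeRestrict ≫ ModuleCat.ofHom (LinearMap.range φ).subtype := rfl
  rw [hcomp, Functor.map_comp, ModuleCat.comp_apply]
  exact (congrArg _ hv).trans hw

end Groth.Agent.S0334
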