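import Groth.Statements.S5168
-- (no helper imports)

set_option autoImplicit false
universe u
open InjHull

namespace Groth.Agent.S5168

/-- Let A be a Noetherian ring, J an ideal and H a J-power torsion A-module. Then H is injective if and
only if Hom_A(−, H) is exact on finite A-modules killed by a power of J, i.e. every linear map to H
from a submodule of such a module M extends to M. -/
theorem result (A : Type u) [CommRing A] [IsNoetherianRing A] (J : Ideal A) (H : Type u) [AddCommGroup H] [Module A H] (hH : LocCoh.IsPowerTorsion J H) : Module.Injective A H ↔ ∀ (M : Type u) [AddCommGroup M] [Module A M], Module.Finite A M → (∃ k : ℕ, (J ^ k) • (⊤ : Submodule A M) = ⊥) → ∀ (N : Submodule A M) (g : N →ₗ[A] H), ∃ g' : M →ₗ[A] H, g'.comp N.subtype = g := by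
  constructor
  · intro hinj M _ _ _ _ N g
    obtain ⟨h, hh⟩ := hinj.out N.subtype N.injective_subtype g
    exact ⟨h, LinearMap.ext hh⟩
  · intro hext
    apply Module.Baer.injective
    intro 𝔞 g
    -- Step 1: uniform torsion exponent on the image of g
    obtain ⟨k, hk⟩ : ∃ k : ℕ, ∀ x : 𝔞, ∀ r ∈ J ^ k, r • g x = 0 := by
      let Nk : ℕ →o Submodule A 𝔞 :=
        { toFun := fun k =>
            { carrier := {x | ∀ r ∈ J ^ k, r • g x = 0}
              add_mem' := by
                intro x y hx hy r hr
                simp only [Set.mem_ofPred_eq] at hx hy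
                rw [map_add, smul_add, hx r hr, hy r hr, add_zero]
              zero_mem' := by
                intro r _
                simp
              smul_mem' := by
                intro c x hx r hr
                simp only [Set.mem_ofPred_eq] at hx
                rw [map_smul, smul_comm, hx r hr, smul_zero] }
          monotone' := by
            intro k l hkl x hx r hr
            exact hx r (Ideal.pow_le_pow_right hkl hr) }
      obtain ⟨n, hn⟩ := monotone_stabilizes_iff_noetherian.mpr (inferInstance : IsNoetherian A 𝔞) Nk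
      refine ⟨n, fun x => ?_⟩
      obtain ⟨kx, hkx⟩ := hH (g x)
      have h1 : x ∈ Nk kx := hkx
      have h2 : x ∈ Nk (max n kx) := Nk.monotone (le_max_right _ _) h1
      rw [← hn _ (le_max_left _ _)] at h2
      exact h2
    -- Step 2: Artin–Rees
    obtain ⟨c, hc⟩ := Ideal.exists_pow_inf_eq_pow_smul J (𝔞 : Submodule A A)
    set n := k + c with hn
    have hkill : ∀ x : 𝔞, (x : A) ∈ J ^ n → g x = 0 := by
      intro x hx
      have hx' : (x : A) ∈ (J ^ n • ⊤ ⊓ (𝔞 : Submodule A A) : Submodule A A) := by
        refine ⟨?_, x.2⟩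
        simpa using hx
      rw [hc n (by omega)] at hx'
      have hnc : n - c = k := by omega
      rw [hnc] at hx'
      have : ∀ y : A, y ∈ (J ^ k • (J ^ c • ⊤ ⊓ (𝔞 : Submodule A A)) : Submodule A A) →
          ∃ hy : y ∈ 𝔞, g ⟨y, hy⟩ = 0 := by
        intro y hy
        refine Submodule.smul_induction_on hy ?_ ?_
        · intro r hr z hz
          refine ⟨𝔞.smul_mem r hz.2, ?_⟩
          have : (⟨r • z, 𝔞.smul_mem r hz.2⟩ : 𝔞) = r • ⟨z, hz.2⟩ := rfl
          rw [this, map_smul]
          exact hk _ r hr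
        · rintro y z ⟨hy, hgy⟩ ⟨hz, hgz⟩
          refine ⟨𝔞.add_mem hy hz, ?_⟩
          have : (⟨y + z, 𝔞.add_mem hy hz⟩ : 𝔞) = ⟨y, hy⟩ + ⟨z, hz⟩ := rfl
          rw [this, map_add, hgy, hgz, add_zero]
      obtain ⟨_, h0⟩ := this x hx'
      exact h0
    -- Step 3: factor through A ⧸ J ^ n
    let φ : 𝔞 →ₗ[A] (A ⧸ J ^ n) := (Submodule.mkQ (J ^ n)).comp (Submodule.subtype 𝔞)
    have hker : LinearMap.ker φ ≤ LinearMap.ker g := by
      intro x hx
      rw [LinearMap.mem_ker] at hx ⊢
      apply hkill
      have : (Submodule.mkQ (J ^ n)) (x : A) = 0 := hx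
      rwa [Submodule.mkQ_apply, Submodule.Quotient.mk_eq_zero] at this
    let gbar : LinearMap.range φ →ₗ[A] H :=
      ((LinearMap.ker φ).liftQ g hker).comp (LinearMap.quotKerEquivRange φ).symm.toLinearMap
    obtain ⟨g', hg'⟩ := hext (A ⧸ J ^ n) inferInstance ⟨n, by
      rw [eq_bot_iff, Submodule.smul_le]
      intro r hr m _
      obtain ⟨a, rfl⟩ := Submodule.Quotient.mk_surjective _ m
      rw [Submodule.mem_bot, ← Submodule.Quotient.mk_smul, Submodule.Quotient.mk_eq_zero]
      exact Ideal.mul_mem_right _ _ hr⟩ (LinearMap.range φ) gbar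
    refine ⟨g'.comp (Submodule.mkQ (J ^ n)), fun x hx => ?_⟩
    have h1 : g' (Submodule.mkQ (J ^ n) x) = gbar ⟨φ ⟨x, hx⟩, LinearMap.mem_range_self _ _⟩ := by
      rw [← hg']
      rfl
    rw [LinearMap.comp_apply, h1]
    have h2 : (LinearMap.quotKerEquivRange φ).symm ⟨φ ⟨x, hx⟩, LinearMap.mem_range_self _ _⟩
        = Submodule.Quotient.mk ⟨x, hx⟩ := by
      rw [LinearEquiv.symm_apply_eq]
      rfl
    show ((LinearMap.ker φ).liftQ g hker) ((LinearMap.quotKerEquivRange φ).symm _) = _
    rw [h2]
    rfl


end Groth.Agent.S5168
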