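import Groth.Statements.S0341
import Groth.Agent.Lib.Helper29Gorenstein
import Groth.Agent.Lib.Helper5RLR

set_option autoImplicit false
universe u v
open Goren

namespace Groth.Agent.S0341

/-- A Gorenstein local ring is Cohen–Macaulay. -/
theorem result (A : Type u) [CommRing A] [LocCoh.IsGorensteinLocalRing A] : LocCoh.IsCohenMacaulayLocalRing A := by
  obtain ⟨n, hn⟩ := Groth.Agent.Lib.Helper5.exists_nat_ringKrullDim_eq A
  have h := (Groth.Agent.Lib.Helper29Gorenstein.depth_eq_and_hasInjectiveDimensionLT A n hn).1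
  refine ⟨?_⟩
  rw [Module.supportDim_self_eq_ringKrullDim, hn, h]
  rfl

end Groth.Agent.S0341
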