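import Groth.Statements.S0340
import Mathlib
import Groth.Agent.S0339

set_option autoImplicit false
universe u v
open CategoryTheory
open Goren

namespace Groth.Agent.S0340

open CategoryTheory Abelian

/-- A Noetherian local ring is Gorenstein exactly when Ext^i(κ, A) vanishes for all large i. -/
theorem result (A : Type u) [CommRing A] [IsLocalRing A] [IsNoetherianRing A] : LocCoh.IsGorensteinLocalRing A ↔ ∃ N : ℕ, ∀ i : ℕ, N ≤ i → Subsingleton (Abelian.Ext (ModuleCat.of A (IsLocalRing.ResidueField A)) (ModuleCat.of A A) i) := by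
  constructor
  · intro hG
    obtain ⟨n, hn⟩ := hG.exists_hasInjectiveDimensionLT
    exact ⟨n, fun i hi => HasInjectiveDimensionLT.subsingleton _ n i hi _⟩
  · rintro ⟨N, h⟩
    exact @LocCoh.IsGorensteinLocalRing.mk A _ inferInstance inferInstance
      ⟨N + 1, Groth.Agent.S0339.injdim_of_ext_residue N (ModuleCat.of A A)
        (fun i hi => h i (le_of_lt hi))⟩

end Groth.Agent.S0340
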