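import Groth.Statements.S0343
import Groth.Agent.Lib.Helper29GorQuot
import Groth.Agent.Lib.Helper28Depth
import Groth.Agent.S0340

set_option autoImplicit false
universe u v
open Goren

namespace Groth.Agent.S0343

/-- For a Noetherian local ring A and a non-zero-divisor f in the maximal ideal, A is Gorenstein exactly
when A/(f) is. -/
theorem result (A : Type u) [CommRing A] [IsLocalRing A] [IsNoetherianRing A] (f : A) (hf : f ∈ IsLocalRing.maximalIdeal A) (hreg : IsSMulRegular A f) : LocCoh.IsGorensteinLocalRing A ↔ LocCoh.IsGorensteinLocalRing (A ⧸ Ideal.span {f}) := by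
  classical
  open CategoryTheory CategoryTheory.Abelian Groth.Agent.Lib.Helper29GorQuot
    Groth.Agent.Lib.Helper29ExtSes Groth.Agent.Lib.Helper28 in
  have hne : Ideal.span {f} ≠ ⊤ := by
    intro h
    rw [Ideal.span_singleton_eq_top] at h
    exact (IsLocalRing.mem_maximalIdeal f).mp hf h
  haveI : Nontrivial (A ⧸ Ideal.span {f}) := Ideal.Quotient.nontrivial_iff.mpr hne
  haveI : IsLocalRing (A ⧸ Ideal.span {f}) :=
    IsLocalRing.of_surjective' (Ideal.Quotient.mk _) Ideal.Quotient.mk_surjective
  constructor
  · intro hA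
    obtain ⟨n, hn⟩ := hA.exists_hasInjectiveDimensionLT
    have hn' := hasInjectiveDimensionLT_of_ge (ModuleCat.of A A) n (n + 1) (Nat.le_succ n)
    exact @LocCoh.IsGorensteinLocalRing.mk _ _ inferInstance inferInstance
      ⟨n + 1, hasInjectiveDimensionLT_quotient f hreg n hn'⟩
  · intro hB
    obtain ⟨m, hm⟩ := hB.exists_hasInjectiveDimensionLT
    have hm' := hasInjectiveDimensionLT_of_ge
      (ModuleCat.of (A ⧸ Ideal.span {f}) (A ⧸ Ideal.span {f})) m (m + 1) (Nat.le_succ m)
    have hres := hasInjectiveDimensionLT_restrict f hreg m (A ⧸ Ideal.span {f}) hm'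
    rw [Groth.Agent.S0340.result]
    refine ⟨m + 2, fun i hi => ?_⟩
    have hex : Function.Exact (LinearMap.lsmul A A f) (Submodule.mkQ (Ideal.span {f})) := by
      intro x
      rw [← LinearMap.mem_ker, Submodule.ker_mkQ, Ideal.mem_span_singleton]
      constructor
      · rintro ⟨b, rfl⟩
        exact ⟨b, rfl⟩
      · rintro ⟨b, rfl⟩
        exact ⟨b, rfl⟩
    have hS := ses_shortExact (LinearMap.lsmul A A f) (Submodule.mkQ (Ideal.span {f})) hreg
      (Submodule.mkQ_surjective _) hex
    have hann : f ∈ Module.annihilator A (IsLocalRing.ResidueField A) := by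
      rw [Module.mem_annihilator]
      intro y
      rw [Algebra.smul_def]
      have : algebraMap A (IsLocalRing.ResidueField A) f = 0 :=
        (IsLocalRing.residue_eq_zero_iff f).mpr hf
      rw [this, zero_mul]
    have key : ∀ x : Ext.{u} (ModuleCat.of A (IsLocalRing.ResidueField A)) (ModuleCat.of A A) i,
        x = 0 := by
      intro x
      have h0 : x.comp (Ext.mk₀ (ses (LinearMap.lsmul A A f)
          (Submodule.mkQ (Ideal.span {f})) hex).g) (add_zero i) = 0 := by
        haveI := hres
        exact (HasInjectiveDimensionLT.subsingleton (ModuleCat.of A (A ⧸ Ideal.span {f}))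
          (m + 2) i hi (ModuleCat.of A (IsLocalRing.ResidueField A))).elim _ _
      obtain ⟨x₁, hx₁⟩ := Ext.covariant_sequence_exact₂ _ hS x h0
      have h1 : (ses (LinearMap.lsmul A A f) (Submodule.mkQ (Ideal.span {f})) hex).f =
          f • 𝟙 (ModuleCat.of A A) := by
        ext
        simp
      rw [← hx₁, h1, ← Ext.smul_eq_comp_mk₀]
      exact ext_smul_eq_zero_of_mem_annihilator_left hann x₁
    exact ⟨fun a b => by rw [key a, key b]⟩

end Groth.Agent.S0343
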