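import Groth.Statements.S0342
import Mathlib
import Groth.Agent.S0563

set_option autoImplicit false
universe u v
open Goren

namespace Groth.Agent.S0342

open CategoryTheory Abelian

/-- Regular local rings have finite injective dimension over themselves, i.e. are Gorenstein. -/
theorem result (A : Type u) [CommRing A] [IsRegularLocalRing A] : LocCoh.IsGorensteinLocalRing A := by
  have hNoeth : IsNoetherianRing A := inferInstance
  have hloc : IsLocalRing A := inferInstance
  have hne : ringKrullDim A ≠ ⊤ := ringKrullDim_ne_top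
  have hbot : ringKrullDim A ≠ ⊥ := ringKrullDim_ne_bot
  obtain ⟨d, hd⟩ : ∃ d : ℕ, ringKrullDim A = d := by
    have h0 : (0 : WithBot ℕ∞) ≤ ringKrullDim A := ringKrullDim_nonneg_of_nontrivial
    obtain ⟨e, he⟩ := WithBot.ne_bot_iff_exists.mp hbot
    have hetop : e ≠ ⊤ := by
      rintro rfl
      exact hne he.symm
    obtain ⟨d, rfl⟩ := ENat.ne_top_iff_exists.mp hetop
    exact ⟨d, he.symm⟩
  refine @LocCoh.IsGorensteinLocalRing.mk A _ hNoeth hloc ⟨d + 1, ?_⟩
  refine HasInjectiveDimensionLT.mk (fun i hi Y e => ?_)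
  have : HasProjectiveDimensionLT (ModuleCat.of A Y) (d + 1) :=
    Groth.Agent.S0563.result A d hd Y
  exact (HasProjectiveDimensionLT.subsingleton (ModuleCat.of A Y) (d + 1) i hi _).elim _ _

end Groth.Agent.S0342
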