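import Groth.Statements.S10142
import Mathlib
import Groth.Agent.Lib.Helper15Groupoid
-- import your own Groth.Agent.* helpers here

set_option autoImplicit false
universe u
open CategoryTheory CategoryTheory.Limits AlgebraicGeometry
open AlgSp AlgSp.GroupoidSp

namespace Groth.Agent.S10142.Aux
set_option autoImplicit false

namespace GpdSq
open CategoryTheory CategoryTheory.Limits AlgebraicGeometry
open Groth.Agent.Lib.Helper15Groupoid

variable {S : Scheme.{u}} {B : AlgSp.Sp S} (G : AlgSp.GroupoidSp B)

theorem part1 : IsPullback G.c (pullback.snd G.s G.t) G.s G.s := by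
  have w : G.c ≫ G.s = pullback.snd G.s G.t ≫ G.s := by
    rw [c_eq G]
    exact comp_src G _ _ _
  refine ⟨⟨w⟩, ⟨PullbackCone.IsLimit.mk w
    (fun cone => pullback.lift
      (comp G cone.fst (cone.snd ≫ G.i) (by rw [Category.assoc, G.i_t]; exact cone.condition))
      cone.snd (by rw [comp_src, Category.assoc, G.i_s])) ?_ ?_ ?_⟩⟩
  · intro cone
    rw [lift_c]
    rw [comp_congr G _ (pullback.lift_fst _ _ _) (pullback.lift_snd _ _ _)
      (by rw [comp_src, Category.assoc, G.i_s])]
    exact comp_inv_comp G cone.fst cone.snd cone.condition _ _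
  · intro cone
    exact pullback.lift_snd _ _ _
  · intro cone m h1 h2
    apply pullback.hom_ext
    · rw [pullback.lift_fst]
      rw [lift_c] at h1
      have hcond : (m ≫ pullback.fst G.s G.t) ≫ G.s = (m ≫ pullback.snd G.s G.t) ≫ G.t := by
        rw [Category.assoc, Category.assoc, pullback.condition]
      have := comp_comp_inv G (m ≫ pullback.fst G.s G.t) (m ≫ pullback.snd G.s G.t) hcond
        (by rw [comp_src, Category.assoc (m ≫ pullback.snd G.s G.t) G.i G.t, G.i_t])
      rw [← this]
      exact comp_congr G _ h1 (by rw [h2]) _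
    · rw [pullback.lift_snd, h2]

theorem part2 (φ : pullback G.t G.t ⟶ pullback G.s G.t)
    (h1 : φ ≫ pullback.fst G.s G.t = pullback.fst G.t G.t)
    (h2 : φ ≫ pullback.snd G.s G.t =
      pullback.lift (pullback.fst G.t G.t ≫ G.i) (pullback.snd G.t G.t)
        ((Category.assoc _ _ _).trans ((congrArg (pullback.fst G.t G.t ≫ ·) G.i_s).trans pullback.condition)) ≫ G.c) :
    IsIso φ ∧ φ ≫ G.c = pullback.snd G.t G.t := by
  have hi : (pullback.fst G.t G.t ≫ G.i) ≫ G.s = pullback.snd G.t G.t ≫ G.t := by
    rw [Category.assoc, G.i_s, pullback.condition]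
  have h2' : φ ≫ pullback.snd G.s G.t =
      comp G (pullback.fst G.t G.t ≫ G.i) (pullback.snd G.t G.t) hi := h2
  have hc : φ ≫ G.c = pullback.snd G.t G.t := by
    rw [lift_c]
    rw [comp_congr G _ h1 h2' (by rw [comp_tgt, Category.assoc, G.i_t])]
    exact comp_inv_comp' G _ _ pullback.condition _ _
  refine ⟨?_, hc⟩
  have hct : G.c ≫ G.t = pullback.fst G.s G.t ≫ G.t := by
    rw [c_eq G]
    exact comp_tgt G _ _ _
  let ψ : pullback G.s G.t ⟶ pullback G.t G.t := pullback.lift (pullback.fst G.s G.t) G.c hct.symm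
  refine ⟨ψ, ?_, ?_⟩
  · apply pullback.hom_ext
    · rw [Category.assoc, pullback.lift_fst, h1, Category.id_comp]
    · rw [Category.assoc, pullback.lift_snd, hc, Category.id_comp]
  · apply pullback.hom_ext
    · rw [Category.assoc, h1, pullback.lift_fst, Category.id_comp]
    · rw [Category.assoc, h2', Category.id_comp, precomp]
      have e1 : ψ ≫ pullback.fst G.t G.t ≫ G.i = pullback.fst G.s G.t ≫ G.i := by
        rw [← Category.assoc, pullback.lift_fst]
      have e2 : ψ ≫ pullback.snd G.t G.t = comp G (pullback.fst G.s G.t) (pullback.snd G.s G.t)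
          pullback.condition := by
        rw [pullback.lift_snd]
        exact c_eq G
      rw [comp_congr G _ e1 e2 (by rw [comp_tgt, Category.assoc, G.i_s])]
      exact inv_comp_comp G _ _ _ _

theorem main : IsPullback G.c (pullback.snd G.s G.t) G.s G.s ∧
      ∀ φ : pullback G.t G.t ⟶ pullback G.s G.t,
        φ ≫ pullback.fst G.s G.t = pullback.fst G.t G.t →
        φ ≫ pullback.snd G.s G.t =
          pullback.lift (pullback.fst G.t G.t ≫ G.i) (pullback.snd G.t G.t)
            ((Category.assoc _ _ _).trans ((congrArg (pullback.fst G.t G.t ≫ ·) G.i_s).trans pullback.condition)) ≫ G.c →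
        IsIso φ ∧ φ ≫ G.c = pullback.snd G.t G.t :=
  ⟨part1 G, fun φ h1 h2 => part2 G φ h1 h2⟩

end GpdSq

end Groth.Agent.S10142.Aux

namespace Groth.Agent.S10142

/-- For a groupoid in algebraic spaces `(U, R, s, t, c, e, i)` over `B`: the square with sides `c : R
×_{s,U,t} R ⟶ R`, `pr_1 : R ×_{s,U,t} R ⟶ R`, `s` and `s` is cartesian, and the morphism `R
×_{t,U,t} R ⟶ R ×_{s,U,t} R`, `(α, β) ↦ (α, i(α) ∘ β)`, is an isomorphism whose composite with `c`
is the second projection `pr_1 : R ×_{t,U,t} R ⟶ R`. (The published statement also lists the square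
formed by `pr_0`, `pr_1`, `s`, `t`, which is cartesian by definition of the fibre product.) -/
theorem result (S : Scheme.{u}) (B : AlgSp.Sp S) (hB : AlgSp.IsAlgSpace B)
    (G : AlgSp.GroupoidSp B) (hU : AlgSp.IsAlgSpace G.U) (hR : AlgSp.IsAlgSpace G.R) :
    IsPullback G.c (pullback.snd G.s G.t) G.s G.s ∧
      ∀ φ : pullback G.t G.t ⟶ pullback G.s G.t,
        φ ≫ pullback.fst G.s G.t = pullback.fst G.t G.t →
        φ ≫ pullback.snd G.s G.t =
          pullback.lift (pullback.fst G.t G.t ≫ G.i) (pullback.snd G.t G.t)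
            ((Category.assoc _ _ _).trans ((congrArg (pullback.fst G.t G.t ≫ ·) G.i_s).trans pullback.condition)) ≫ G.c →
        IsIso φ ∧ φ ≫ G.c = pullback.snd G.t G.t := by
  exact Aux.GpdSq.main G

end Groth.Agent.S10142
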