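import Groth.Statements.S9911
import Mathlib
import Groth.Agent.S10211

set_option autoImplicit false
universe u
open CategoryTheory CategoryTheory.Limits AlgebraicGeometry
open AlgSp

namespace Groth.Agent.S9911


open CategoryTheory.Limits Opposite MorphismProperty Groth.Agent.S13210

variable {S : Scheme.{u}}

/-- universal openness can be checked on a chart of the source. -/
lemma isUnivOpenMor_of_atlas {Y' Y : AlgSp.Sp S} (g : Y' ⟶ Y) {U : Over S}
    (q : (AlgSp.yon S).obj U ⟶ Y') (hqs : AlgSp.RepWith @Surjective q)
    (h : AlgSp.RepWith @UniversallyOpen (q ≫ g)) : AlgSp.IsUnivOpenMor g := by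
  intro Z Z' hZ c fst snd sq
  have sqE := IsPullback.of_hasPullback fst q
  have big := sqE.flip.paste_vert sq
  have h1 : AlgSp.RepWith @UniversallyOpen (pullback.fst fst q ≫ snd) :=
    MorphismProperty.of_isPullback (P := AlgSp.RepWith @UniversallyOpen) big h
  have h2 : AlgSp.RepWith @Surjective (pullback.fst fst q) :=
    MorphismProperty.of_isPullback (P := AlgSp.RepWith @Surjective) sqE.flip hqs
  refine Groth.Agent.S10211.isOpenMap_of_comp_surjective (pullback.fst fst q) snd
    (Groth.Agent.S9906.surjective_map_of_repWith _ h2) ?_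
  exact Groth.Agent.S9908.isOpenMap_map_of_repWith _ h1



/-- A morphism from an algebraic space to the spectrum of a field is universally open. -/
theorem result {S : Scheme.{u}} (X : AlgSp.Space S) {k : Type u} [Field k]
    (str : Spec (CommRingCat.of k) ⟶ S) (p : X ⟶ (AlgSp.ofScheme S).obj (Over.mk str)) :
    AlgSp.IsUnivOpenMor p.hom := by
  obtain ⟨U, q, hqe, hqs⟩ := X.property.atlas
  refine isUnivOpenMor_of_atlas p.hom q hqs ?_
  obtain ⟨v, hv⟩ := (AlgSp.yon S).map_surjective (q ≫ p.hom)
  haveI : IsIntegral (Over.mk str).left := by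
    change IsIntegral (Spec (CommRingCat.of k))
    infer_instance
  haveI : Subsingleton ↥(Over.mk str).left := by
    change Subsingleton ↥(Spec (CommRingCat.of k))
    infer_instance
  have hvo : UniversallyOpen v.left := inferInstance
  have h1 : AlgSp.RepWith @UniversallyOpen ((AlgSp.yon S).map v) :=
    (AlgSp.repWith_yon_map_iff _ _).2 hvo
  rw [hv] at h1
  exact h1

end Groth.Agent.S9911
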