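import Groth.Statements.S3694
import Mathlib.AlgebraicGeometry.Morphisms.FlatDescent
import Mathlib.AlgebraicGeometry.Morphisms.Etale
import Mathlib.AlgebraicGeometry.Morphisms.UniversallyInjective
import Mathlib.AlgebraicGeometry.Morphisms.FormallyUnramified
-- import your own Groth.Agent.* helpers here

set_option autoImplicit false
universe u
open SGA1

namespace Groth.Agent.S3694

open AlgebraicGeometry CategoryTheory CategoryTheory.Limits MorphismProperty

set_option backward.isDefEq.respectTransparency.types false in
/-- A surjective flat monomorphism locally of finite presentation is an isomorphism. -/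
lemma isIso_of_mono_of_fppf {X Y : Scheme.{u}} (g : X ⟶ Y) [Mono g] [Surjective g] [Flat g]
    [LocallyOfFinitePresentation g] : IsIso g := by
  have h1 : IsIso (pullback.fst g g) := by
    have : IsIso (pullback.diagonal g) := inferInstance
    have e : pullback.diagonal g ≫ pullback.fst g g = 𝟙 X := pullback.diagonal_fst g
    exact IsIso.of_isIso_fac_left e
  exact MorphismProperty.of_pullback_fst_of_descendsAlong (P := isomorphisms Scheme.{u})
    (Q := @Surjective ⊓ @Flat ⊓ @LocallyOfFinitePresentation) (f := g) (g := g)
    ⟨⟨inferInstance, inferInstance⟩, inferInstance⟩ h1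

open AlgebraicGeometry CategoryTheory CategoryTheory.Limits in
/-- A morphism which is etale and universally injective (radicial) is an open immersion. (The converse
is immediate.) -/
theorem result {X Y : Scheme.{u}} (f : X ⟶ Y) [Etale f] [UniversallyInjective f] :
    IsOpenImmersion f := by
  -- f is a monomorphism
  have hΔs : Surjective (pullback.diagonal f) := (UniversallyInjective.iff_diagonal f).1 inferInstance
  have hΔo : IsOpenImmersion (pullback.diagonal f) := inferInstance
  have hΔ : IsIso (pullback.diagonal f) :=
    (isIso_iff_isOpenImmersion_and_surjective _).2 ⟨hΔo, hΔs⟩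
  haveI : Mono f := (pullback.isIso_diagonal_iff f).1 hΔ
  -- restrict to the open image
  have hopen : IsOpenMap f := f.isOpenMap
  let U : Y.Opens := ⟨Set.range f, hopen.isOpen_range⟩
  let g' : X ⟶ U := IsOpenImmersion.lift U.ι f (by simp [U])
  have hfac : g' ≫ U.ι = f := IsOpenImmersion.lift_fac U.ι f (by simp [U])
  haveI : Surjective g' := ⟨fun ⟨x, ⟨y, hy⟩⟩ ↦
    ⟨y, by apply U.ι.injective; simp [← Scheme.Hom.comp_apply, g', hy]⟩⟩
  haveI : Mono g' := by
    have : Mono (g' ≫ U.ι) := by rw [hfac]; infer_instance
    exact mono_of_mono g' U.ι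
  haveI : Etale (g' ≫ U.ι) := by rw [hfac]; infer_instance
  haveI : Etale g' := Etale.of_comp g' U.ι
  haveI : IsIso g' := isIso_of_mono_of_fppf g'
  rw [← hfac]
  infer_instance

end Groth.Agent.S3694
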