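import Groth.Statements.S10340
import Mathlib
import Groth.Agent.Lib.Helper12FibreSpec
import Groth.Agent.Lib.Helper12QcPoint

set_option autoImplicit false
universe u
open CategoryTheory CategoryTheory.Limits AlgebraicGeometry Topology TopologicalSpace
open AlgSp

namespace Groth.Agent.S10340





/-- Let S be a scheme, X a decent algebraic space over S, and a : h_U ⟶ X a representable etale map from
a scheme U. If two points u, u' of U have the same image in |X| and u' specializes to u, then u =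
u'. -/
theorem result {S : Scheme.{u}} (X : AlgSp.Space S) (hX : AlgSp.IsDecent X.obj)
    {U : Over S} (a : (AlgSp.yon S).obj U ⟶ X.obj) (ha : AlgSp.RepWith @Etale a) (u u' : ↥U.left)
    (he : AlgSp.Points.ofPt a u = AlgSp.Points.ofPt a u') (hs : u' ⤳ u) : u = u' := by
  obtain ⟨p, hp, -, hq⟩ := hX (AlgSp.Points.ofPt a u)
  obtain ⟨U₀, hU₀, huU, -⟩ : ∃ V : U.left.Opens, V ∈ U.left.affineOpens ∧ u ∈ V ∧ V ≤ ⊤ :=
    TopologicalSpace.Opens.isBasis_iff_nbhd.1 U.left.isBasis_affineOpens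
      (TopologicalSpace.Opens.mem_top u)
  have hu'U : u' ∈ U₀ := hs.mem_open U₀.2 huU
  let V : Over S := Over.mk (U₀.ι ≫ U.hom)
  let j : V ⟶ U := Over.homMk U₀.ι rfl
  have hb : AlgSp.RepWith @Etale ((AlgSp.yon S).map j ≫ a) :=
    (AlgSp.RepWith @Etale).comp_mem _ _
      ((AlgSp.repWith_yon_map_iff _ _).2 (inferInstance : Etale U₀.ι)) ha
  haveI : IsAffine V.left := hU₀
  haveI : CompactSpace ↥V.left := inferInstance
  have hfin := Groth.Agent.Lib.Helper12.QcPoint.finite_fibre_of_quasiCompact p hq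
    ((AlgSp.yon S).map j ≫ a) hb
  rw [hp] at hfin
  obtain ⟨v₀, hv₀⟩ : ∃ v₀ : ↥V.left, j.left v₀ = u := ⟨⟨u, huU⟩, rfl⟩
  obtain ⟨v₀', hv₀'⟩ : ∃ v₀ : ↥V.left, j.left v₀ = u' := ⟨⟨u', hu'U⟩, rfl⟩
  have hsp : v₀' ⤳ v₀ := by
    have hind : Topology.IsInducing j.left :=
      (Scheme.Hom.isOpenEmbedding U₀.ι).toIsInducing
    rw [← hind.specializes_iff, hv₀, hv₀']
    exact hs
  have he' : AlgSp.Points.ofPt ((AlgSp.yon S).map j ≫ a) v₀ =
      AlgSp.Points.ofPt ((AlgSp.yon S).map j ≫ a) v₀' := by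
    rw [Groth.Agent.S10176.ofPt_map_comp, Groth.Agent.S10176.ofPt_map_comp, hv₀, hv₀']
    exact he
  have hv0 : AlgSp.Points.ofPt ((AlgSp.yon S).map j ≫ a) v₀ = AlgSp.Points.ofPt a u := by
    rw [Groth.Agent.S10176.ofPt_map_comp, hv₀]
  have key := Groth.Agent.Lib.Helper12.FibreSpec.eq_of_specializes_of_min
    ((AlgSp.yon S).map j ≫ a) hb v₀ v₀' he' hsp
    (fun G hG hGu => Groth.Agent.Lib.Helper12.FibreSpec.exists_min_of_finite G hG
      (hfin.subset (fun v hv => by
        have := (hGu hv).2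
        rw [Set.mem_preimage, Set.mem_singleton_iff, this, hv0])))
  rw [← hv₀, ← hv₀', key]

end Groth.Agent.S10340
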