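import Groth.Statements.S0493
import Groth.Agent.S0861
import Groth.Agent.Lib.Helper16CechCmp
import Groth.Agent.Lib.Helper16CechLES
-- import your own Groth.Agent.* helpers here

set_option autoImplicit false
set_option linter.style.haveILetI false
set_option linter.unusedVariables false
universe u
open CohTop CategoryTheory

namespace Groth.Agent.S0493

open TopologicalSpace CategoryTheory.Limits Opposite
open Groth.Agent.Lib.Helper16.CechLow Groth.Agent.Lib.Helper16.CechH1 Groth.Agent.Lib.Helper16.CechCmp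
  Groth.Agent.Lib.Helper16.CechLES

lemma prod_eq_iInf {X : TopCat.{u}} {ι : Type u} (V : ι → Opens X) {n : ℕ} (a : Fin (n + 1) → ι) :
    Ux V a = iInf fun k => V (a k) := by
  apply le_antisymm
  · exact le_iInf (fun k => Ux_le V a k)
  · exact le_Ux V a _ (fun k => iInf_le _ k)

theorem result' {X : TopCat.{u}} (F : CohTop.Ab X)
    (B : Set (Opens X)) (hB : Opens.IsBasis B) (Cov : ∀ (ι : Type u), (ι → Opens X) → Prop)
    (h1 : ∀ (ι : Type u) (V : ι → Opens X), Cov ι V →
      iSup V ∈ B ∧ ∀ (p : ℕ) (a : Fin (p + 1) → ι), (iInf fun k => V (a k)) ∈ B)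
    (h2 : ∀ U ∈ B, ∀ (κ : Type u) (W : κ → Opens X), iSup W = U →
      ∃ (ι : Type u) (V : ι → Opens X), Cov ι V ∧ iSup V = U ∧ ∀ i, ∃ k, V i ≤ W k)
    (h3 : ∀ (ι : Type u) (V : ι → Opens X), Cov ι V → ∀ p : ℕ, IsZero (CohTop.cechH F.obj V (p + 1)))
    (U : Opens X) (hU : U ∈ B) (p : ℕ) : Subsingleton (CohTop.HU F (p + 1) U) := by
  let Cov' : ∀ (U : Opens X) (ι : Type u), (ι → Over U) → Prop := fun U ι Y =>
    Cov ι (UY Y) ∧ iSup (UY Y) = U
  refine Groth.Agent.S0861.result' (Opens.grothendieckTopology X) B Cov' ?_ ?_ F ?_ U hU p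
  · rintro U ι Y ⟨hc, hs⟩
    obtain ⟨hb1, hb2⟩ := h1 ι (UY Y) hc
    refine ⟨hs ▸ hb1, covering_of_iSup Y hs.ge, fun p a => ?_⟩
    have e : (∏ᶜ fun k => Y (a k)).left = iInf fun k => UY Y (a k) := by
      rw [← prod_eq_iInf]
      exact le_antisymm (left_le Y a) (le_left Y a)
    rw [e]
    exact hb2 p a
  · intro U hU T hT
    let κ : Type u := {V : Opens X // ∃ f : V ⟶ U, T.arrows f}
    let W : κ → Opens X := fun k => k.1
    have hW : iSup W = U := by
      apply le_antisymm
      · exact iSup_le (fun k => k.2.choose.le)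
      · intro x hx
        obtain ⟨V, f, hf, hxV⟩ := hT x hx
        exact Opens.mem_iSup.2 ⟨⟨V, f, hf⟩, hxV⟩
    obtain ⟨ι, V, hc, hs, hr⟩ := h2 U hU κ W hW
    have hle : ∀ i, V i ≤ U := fun i => hs ▸ le_iSup V i
    refine ⟨ι, fam V U hle, ⟨hc, hs⟩, fun i => ?_⟩
    obtain ⟨k, hk⟩ := hr i
    obtain ⟨f, hf⟩ := k.2
    have := T.downward_closed hf (homOfLE hk)
    have e : (fam V U hle i).hom = homOfLE hk ≫ f := Subsingleton.elim _ _
    exact e ▸ this
  · rintro U ι Y ⟨hc, hs⟩ p
    exact (h3 ι (UY Y) hc p).of_iso (isoH F.obj Y (p + 1)).symm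


open TopologicalSpace CategoryTheory.Limits in
/-- Let B be a basis of opens of X and Cov a class of families of opens such that (1) every family in
Cov has its union, its members and all finite intersections of members in B, (2) for U in B every
open covering of U is refined by a family in Cov with union U, and (3) the Cech cohomology of F in
positive degrees vanishes for every family in Cov. Then H^(p+1)(U, F) = 0 for every U in B. -/
theorem result {X : TopCat.{u}} (F : CohTop.Ab X)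
    (B : Set (Opens X)) (hB : Opens.IsBasis B) (Cov : ∀ (ι : Type u), (ι → Opens X) → Prop)
    (h1 : ∀ (ι : Type u) (V : ι → Opens X), Cov ι V →
      iSup V ∈ B ∧ ∀ (p : ℕ) (a : Fin (p + 1) → ι), (iInf fun k => V (a k)) ∈ B)
    (h2 : ∀ U ∈ B, ∀ (κ : Type u) (W : κ → Opens X), iSup W = U →
      ∃ (ι : Type u) (V : ι → Opens X), Cov ι V ∧ iSup V = U ∧ ∀ i, ∃ k, V i ≤ W k)
    (h3 : ∀ (ι : Type u) (V : ι → Opens X), Cov ι V → ∀ p : ℕ, IsZero (CohTop.cechH F.obj V (p + 1)))
    (U : Opens X) (hU : U ∈ B) (p : ℕ) : Subsingleton (CohTop.HU F (p + 1) U) := by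
  exact result' F B hB Cov h1 h2 h3 U hU p

end Groth.Agent.S0493
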