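import Groth.Statements.S0464
import Groth.Agent.S0493
import Groth.Agent.S0941
-- import your own Groth.Agent.* helpers here

set_option autoImplicit false
set_option linter.style.haveILetI false
universe u
open CategoryTheory
open CohTop CategoryTheory

namespace Groth.Agent.S0464

open TopologicalSpace CategoryTheory.Limits Opposite
open Groth.Agent.Lib.Helper16.CechLow Groth.Agent.Lib.Helper16.CechH1 Groth.Agent.Lib.Helper16.CechCmp
  Groth.Agent.Lib.Helper16.CechLES

theorem result' {X : TopCat.{u}} (F : CohTop.Ab X) {ι : Type u}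
    (U : ι → Opens X)
    (h : ∀ (p : ℕ) (a : Fin (p + 1) → ι) (q : ℕ), Subsingleton (CohTop.HU F (q + 1) (iInf fun k => U (a k))))
    (p : ℕ)
    (H0941 : ∀ {W : Opens X} {ι : Type u} (Y : ι → Over W)
      (_ : Sieve.ofArrows (fun i => (Y i).left) (fun i => (Y i).hom) ∈ Opens.grothendieckTopology X W)
      (_ : ∀ (p : ℕ) (a : Fin (p + 1) → ι) (q : ℕ),
        Subsingleton (CohSite.HU F (q + 1) (∏ᶜ fun k => Y (a k)).left))
      (p : ℕ), Nonempty (CohCx.cechH F.obj Y p ≃+ CohSite.HU F p W)) :
    Nonempty (CohTop.cechH F.obj U p ≃+ CohTop.HU F p (iSup U)) := by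
  let Y := fam U (iSup U) (le_iSup U)
  have hY : Sieve.ofArrows (fun i => (Y i).left) (fun i => (Y i).hom) ∈
      Opens.grothendieckTopology X (iSup U) := covering_of_iSup Y le_rfl
  have hh : ∀ (p : ℕ) (a : Fin (p + 1) → ι) (q : ℕ),
      Subsingleton (CohSite.HU F (q + 1) (∏ᶜ fun k => Y (a k)).left) := by
    intro p a q
    have e : (∏ᶜ fun k => Y (a k)).left = iInf fun k => U (a k) := by
      rw [← Groth.Agent.S0493.prod_eq_iInf]
      exact le_antisymm (left_le Y a) (le_left Y a)
    rw [e]
    exact h p a q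
  obtain ⟨φ⟩ := H0941 Y hY hh p
  exact ⟨(isoH' F.obj U (iSup U) (le_iSup U) p).addCommGroupIsoToAddEquiv.trans φ⟩


open TopologicalSpace in
/-- Let U_i be a family of opens with union U. If H^(q+1)(U_{i_0} ∩ … ∩ U_{i_p}, F) = 0 for all q and
all finite tuples of indices, then the p-th Cech cohomology of F for this family is isomorphic to
H^p(U, F). -/
theorem result {X : TopCat.{u}} (F : CohTop.Ab X) {ι : Type u}
    (U : ι → Opens X)
    (h : ∀ (p : ℕ) (a : Fin (p + 1) → ι) (q : ℕ), Subsingleton (CohTop.HU F (q + 1) (iInf fun k => U (a k))))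
    (p : ℕ) : Nonempty (CohTop.cechH F.obj U p ≃+ CohTop.HU F p (iSup U)) := by
  exact result' F U h p (fun Y hY hh p => Groth.Agent.S0941.result _ F Y hY hh p)

end Groth.Agent.S0464
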