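import Groth.Statements.S0845
import Mathlib
import Groth.Agent.Lib.Helper27PnTop
import Groth.Agent.Lib.Helper27PnCohVanish

set_option autoImplicit false
universe u
open Coherent

namespace Groth.Agent.S0845

open CategoryTheory AlgebraicGeometry in
/-- Top cohomology of negative twists on projective space: for a ring R and natural numbers n, k, the
R-module H^n(P^n_R, O(-(n+1+k))) is R-linearly isomorphic to the module of homogeneous polynomials
of degree k in n+1 variables over R. The published statement is a canonical identification of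
H^n(P^n_R, O(d)), d < 0, with the degree-d part of (T_0⋯T_n)^(-1) R[1/T_0, …, 1/T_n], a free
R-module on the Laurent monomials with all exponents ≤ -1 and total degree d; only the existence of
an abstract R-linear isomorphism is asserted here. -/
theorem result (R : Type u) [CommRing R] (n k : ℕ) :
    Nonempty (Coh.HH (CohB1.ProjSpace n R) (Twist.twistProjSpace n R (-((n : ℤ) + 1 + k))) n ≃ₗ[R]
      ↥(MvPolynomial.homogeneousSubmodule (Fin (n + 1)) R k)) := by
  classical
  have hM : Twist.twistProjSpace n R (-((n : ℤ) + 1 + k)) =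
      GrTilde.tilde (CohB1.polyGrading n R) (CohB1.polyGrading n R) (-((n : ℤ) + 1 + k)) := rfl
  rw [hM]
  generalize hd : (-((n : ℤ) + 1 + k)) = d
  have hd' : d = -((n : ℤ) + 1 + k) := hd.symm
  have hq : Coh.IsQCoh (X := CohB1.ProjSpace n R)
      (GrTilde.tilde (CohB1.polyGrading n R) (CohB1.polyGrading n R) d) :=
    Groth.Agent.Lib.Helper27GrTildeSect.isQuasicoherent_tilde (CohB1.polyGrading n R)
      (CohB1.polyGrading n R) d
  let Ψ := (Groth.Agent.Lib.Helper27PnTop.topH (n := n) R d k hd').hom
  have hΨ : Function.Bijective Ψ :=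
    ⟨Groth.Agent.Lib.Helper27PnTop.topH_injective (n := n) R d k hd',
      Groth.Agent.Lib.Helper27PnTop.topH_surjective (n := n) R d k hd'⟩
  have key : ∀ (r : R) (x : ↑(CohB1.cechH (Groth.Agent.Lib.Helper27PnCech.V n R)
      (GrTilde.tilde (CohB1.polyGrading n R) (CohB1.polyGrading n R) d) n)),
      Ψ (Groth.Agent.Lib.Helper27CechNat.cechMapM (Groth.Agent.Lib.Helper27PnCech.V n R)
        (Coh.smulAb (GrTilde.tilde (CohB1.polyGrading n R) (CohB1.polyGrading n R) d)
          (Groth.Agent.Lib.Helper27GrTildeSect.constFun (CohB1.polyGrading n R) r)) n x) =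
        r • Ψ x :=
    fun r x => Groth.Agent.Lib.Helper27PnTop.topH_smul (n := n) R d k hd' r x
  have key2 : ∀ (r : R) (x : ↑(CohB1.cechH (Groth.Agent.Lib.Helper27PnCech.V n R)
      (GrTilde.tilde (CohB1.polyGrading n R) (CohB1.polyGrading n R) d) n)),
      Ψ (Groth.Agent.Lib.Helper27CechNat.cechMapM (X := CohB1.ProjSpace n R)
        (Groth.Agent.Lib.Helper27PnCech.V n R)
        (Coh.smulAb (GrTilde.tilde (CohB1.polyGrading n R) (CohB1.polyGrading n R) d)
          (Coh.toGlobal (CohB1.ProjSpace n R ↘ Spec (CommRingCat.of R)) r)) n x) =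
        r • Ψ x := key
  exact Groth.Agent.Lib.Helper27CechNat.nonempty_linearEquiv_of_cech (X := CohB1.ProjSpace n R)
    (Groth.Agent.Lib.Helper27PnCech.V n R) (Groth.Agent.Lib.Helper27PnCohVanish.iSup_V n R)
    (Groth.Agent.Lib.Helper27PnCohVanish.isAffineOpen_iInf_V n R)
    (GrTilde.tilde (CohB1.polyGrading n R) (CohB1.polyGrading n R) d) n Ψ hΨ key2

end Groth.Agent.S0845
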