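import Groth.Statements.S0038
import Mathlib
import Groth.Agent.S0845
import Groth.Agent.S0846
import Groth.Agent.S0022
import Groth.Agent.Lib.Helper27CohFin2
import Groth.Agent.Lib.Helper27TwistCoh
import Groth.Agent.Lib.Helper27QProjCover2
import Groth.Agent.Lib.Helper27PnCohVanish

set_option autoImplicit false
universe u
open Coherent

namespace Groth.Agent.S0038

open AlgebraicGeometry in
/-- For a Noetherian ring R and a coherent module F on P^n_R, every H^i(P^n_R, F) is a finitely
generated R-module. -/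
theorem result (n : ℕ) (R : Type u) [CommRing R] [IsNoetherianRing R]
    (M : (CohB1.ProjSpace n R).Modules) (hM : Coh.IsCoh M) (i : ℕ) :
    Module.Finite R (Coh.HH (CohB1.ProjSpace n R) M i) := by
  classical
  have hN := Groth.Agent.Lib.Helper27QProjCover.isNoetherian_projSpace n R
  haveI : IsLocallyNoetherian (CohB1.ProjSpace n R) := inferInstance
  refine Groth.Agent.Lib.Helper27CohFin.finite_of_resolutions (X := CohB1.ProjSpace n R) R
    (fun M => ∃ d : ℤ, M = Twist.twistProjSpace n R d) ?_ ?_ ?_ n ?_ M hM i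
  · rintro M ⟨d, rfl⟩
    exact Groth.Agent.Lib.Helper27TwistCoh.isCoh_twist n R d
  · rintro M ⟨d, rfl⟩ i
    by_cases h0 : i = 0 ∧ 0 ≤ d
    · obtain ⟨rfl, hd⟩ := h0
      obtain ⟨m, rfl⟩ := Int.eq_ofNat_of_zero_le hd
      obtain ⟨e⟩ := Groth.Agent.Lib.Helper27PnSections.nonempty_linearEquiv n R m
      have hfin : Module.Finite R ↥(MvPolynomial.homogeneousSubmodule (Fin (n + 1)) R m) :=
        Module.Finite.iff_fg.mpr (MvPolynomial.homogeneousSubmodule_fg (σ := Fin (n + 1)) (R := R) m)
      exact Module.Finite.equiv e.symm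
    · by_cases hn : i = n ∧ d ≤ -((n : ℤ) + 1)
      · obtain ⟨rfl, hd⟩ := hn
        obtain ⟨k, rfl⟩ : ∃ k : ℕ, d = -((i : ℤ) + 1 + k) := by
          refine ⟨(-(d + i + 1)).toNat, ?_⟩
          rw [Int.toNat_of_nonneg (by omega)]
          ring
        obtain ⟨e⟩ := Groth.Agent.S0845.result R i k
        have hfin : Module.Finite R ↥(MvPolynomial.homogeneousSubmodule (Fin (i + 1)) R k) :=
          Module.Finite.iff_fg.mpr (MvPolynomial.homogeneousSubmodule_fg (σ := Fin (i + 1)) (R := R) k)
        exact Module.Finite.equiv e.symm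
      · have := Groth.Agent.Lib.Helper27PnCohVanish.subsingleton_HH n R d i h0 hn
        infer_instance
  · intro F hF
    obtain ⟨r, d, φ, hφ⟩ := Groth.Agent.S0846.result (CohB1.polyGrading n R) F hF
    exact ⟨r, fun j => Twist.twistProjSpace n R (d j), φ, fun j => ⟨d j, rfl⟩, hφ⟩
  · intro F hF i hi
    have : Coh.IsQCoh F := hF.1
    exact Groth.Agent.S0022.result n R F i hi

end Groth.Agent.S0038
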