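import Groth.Statements.S10363
import Mathlib
import Groth.Agent.S10176
import Groth.Agent.S10265

set_option autoImplicit false
universe u
open CategoryTheory CategoryTheory.Limits AlgebraicGeometry Topology TopologicalSpace
open AlgSp

namespace Groth.Agent.S10363


/-- local finiteness datum at a point `v` of `V`. -/
lemma local_fin {S : Scheme.{u}} {X : AlgSp.Sp S} (x : AlgSp.Points X) {Ui V : Over S}
    (φ : (AlgSp.yon S).obj Ui ⟶ X) (hφ : AlgSp.RepWith @Etale φ)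
    (hfin : (AlgSp.Points.ofPt φ ⁻¹' {x}).Finite)
    (ψ : (AlgSp.yon S).obj V ⟶ X) (hψ : AlgSp.RepWith @Etale ψ) (v : ↥V.left) (ui : ↥Ui.left)
    (huv : AlgSp.Points.ofPt φ ui = AlgSp.Points.ofPt ψ v) :
    ∃ O : Set ↥V.left, IsOpen O ∧ v ∈ O ∧ (O ∩ (AlgSp.Points.ofPt ψ ⁻¹' {x})).Finite := by
  have sq := hφ.rep.isPullback' ψ
  haveI h1 : Etale (hφ.rep.snd ψ).left := hφ.property_snd ψ
  haveI h2 : Etale (hφ.rep.fst' ψ).left := hψ.2 φ _ _ sq.flip
  obtain ⟨w, hw1, hw2⟩ := Groth.Agent.S10176.exists_point_of_isPullback_yon sq ui v huv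
  obtain ⟨U', hU', huU', -⟩ : ∃ W : Ui.left.Opens, W ∈ Ui.left.affineOpens ∧ ui ∈ W ∧ W ≤ ⊤ :=
    TopologicalSpace.Opens.isBasis_iff_nbhd.1 Ui.left.isBasis_affineOpens
      (TopologicalSpace.Opens.mem_top ui)
  obtain ⟨W', hW', hwW', eW'⟩ : ∃ W : (hφ.rep.pullback ψ).left.Opens,
      W ∈ (hφ.rep.pullback ψ).left.affineOpens ∧ w ∈ W ∧ W ≤ (hφ.rep.fst' ψ).left ⁻¹ᵁ U' :=
    TopologicalSpace.Opens.isBasis_iff_nbhd.1 (hφ.rep.pullback ψ).left.isBasis_affineOpens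
      (show w ∈ (hφ.rep.fst' ψ).left ⁻¹ᵁ U' by
        change (hφ.rep.fst' ψ).left w ∈ U'
        rw [hw1]; exact huU')
  refine ⟨(hφ.rep.snd ψ).left '' (W' : Set _), (hφ.rep.snd ψ).left.isOpenMap _ W'.isOpen,
    ⟨w, hwW', hw2⟩, ?_⟩
  haveI : IsAffine W'.toScheme := hW'
  haveI : IsAffine U'.toScheme := hU'
  haveI : LocallyQuasiFinite (hφ.rep.fst' ψ).left :=
    Groth.Agent.S10265.locallyQuasiFinite_of_unramified _
  haveI : QuasiCompact ((hφ.rep.fst' ψ).left.resLE U' W' eW') := quasiCompact_of_compactSpace _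
  have hs : (U'.ι ⁻¹' (AlgSp.Points.ofPt φ ⁻¹' {x})).Finite :=
    hfin.preimage (U'.ι.isOpenEmbedding.injective.injOn)
  have hfin2 := ((hφ.rep.fst' ψ).left.resLE U' W' eW').finite_preimage hs
  refine ((hfin2.image W'.ι).image (hφ.rep.snd ψ).left).subset ?_
  rintro _ ⟨⟨w', hw'W, rfl⟩, hx⟩
  refine ⟨w', ⟨⟨w', hw'W⟩, ?_, rfl⟩, rfl⟩
  change AlgSp.Points.ofPt φ (U'.ι (((hφ.rep.fst' ψ).left.resLE U' W' eW') ⟨w', hw'W⟩)) = x
  rw [← Scheme.Hom.comp_apply, Scheme.Hom.resLE_comp_ι, Scheme.Hom.comp_apply]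
  change AlgSp.Points.ofPt φ ((hφ.rep.fst' ψ).left w') = x
  have h3 := Groth.Agent.S10176.ofPt_map_comp (hφ.rep.fst' ψ) φ w'
  have h4 := Groth.Agent.S10176.ofPt_map_comp (hφ.rep.snd ψ) ψ w'
  rw [← h3, sq.w, h4]
  exact hx



/-- Let X be an algebraic space over a scheme S and x ∈ |X|. If there is a family of etale maps U_i ⟶ X
from schemes, jointly surjective on points, each with finite fibre of |U_i| → |X| over x, then every
etale V ⟶ X with V an affine scheme has finite fibre of |V| → |X| over x. (The converse implication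
is immediate.) -/
theorem result {S : Scheme.{u}} (X : AlgSp.Space S)
    (x : AlgSp.Points X.obj) {ι : Type u} (U : ι → Over S) (φ : ∀ i, (AlgSp.yon S).obj (U i) ⟶ X.obj)
    (hφ : ∀ i, AlgSp.RepWith @Etale (φ i))
    (hsurj : ∀ y : AlgSp.Points X.obj, ∃ (i : ι) (v : ↥(U i).left), AlgSp.Points.ofPt (φ i) v = y)
    (hfin : ∀ i, (AlgSp.Points.ofPt (φ i) ⁻¹' {x}).Finite)
    {V : Over S} [IsAffine V.left] (ψ : (AlgSp.yon S).obj V ⟶ X.obj) (hψ : AlgSp.RepWith @Etale ψ) :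
    (AlgSp.Points.ofPt ψ ⁻¹' {x}).Finite := by
  have hloc : ∀ v : ↥V.left, ∃ O : Set ↥V.left, IsOpen O ∧ v ∈ O ∧
      (O ∩ (AlgSp.Points.ofPt ψ ⁻¹' {x})).Finite := by
    intro v
    obtain ⟨i, ui, hui⟩ := hsurj (AlgSp.Points.ofPt ψ v)
    exact local_fin x (φ i) (hφ i) (hfin i) ψ hψ v ui hui
  choose O hO1 hO2 hO3 using hloc
  haveI : CompactSpace ↥V.left := inferInstance
  obtain ⟨t, -, ht⟩ := isCompact_univ.elim_nhds_subcover O
    (fun v _ => (hO1 v).mem_nhds (hO2 v))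
  have hfinU : (⋃ v ∈ t, O v ∩ (AlgSp.Points.ofPt ψ ⁻¹' {x})).Finite :=
    t.finite_toSet.biUnion (fun v _ => hO3 v)
  refine hfinU.subset ?_
  intro v hv
  have := ht (Set.mem_univ v)
  simp only [Set.mem_iUnion] at this ⊢
  obtain ⟨v', hv't, hvO⟩ := this
  exact ⟨v', hv't, hvO, hv⟩

end Groth.Agent.S10363
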