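import Groth.Statements.S10364
import Mathlib
import Groth.Agent.S10363
import Groth.Agent.S10177
import Groth.Agent.Lib.Helper12DecentPoint
import Groth.Agent.Lib.Helper12RelFibre
import Groth.Agent.Lib.Helper12LargestOpen
import Groth.Prelude.Def_AlgSpCov

set_option autoImplicit false
universe u
open CategoryTheory CategoryTheory.Limits AlgebraicGeometry Topology TopologicalSpace
open AlgSp

namespace Groth.Agent.S10364


/-- a representable open immersion is representable etale. -/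
lemma repWith_etale_of_open {S : Scheme.{u}} {A Y : AlgSp.Sp S} (j : A ⟶ Y)
    (hj : AlgSp.RepWith @IsOpenImmersion j) : AlgSp.RepWith @Etale j :=
  (AlgSp.repWith_iff _ _).2 ⟨hj.1, fun U V g fst snd sq => by
    haveI : IsOpenImmersion snd.left := hj.2 g fst snd sq
    exact (inferInstance : Etale snd.left)⟩

/-- cancel a monomorphism in a pullback square. -/
lemma isPullback_of_comp_mono {C : Type*} [Category C] {P A B X Y : C} {fst : P ⟶ A} {snd : P ⟶ B}
    {f : A ⟶ X} {g : B ⟶ X} (i : X ⟶ Y) [Mono i]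
    (sq : IsPullback fst snd (f ≫ i) (g ≫ i)) : IsPullback fst snd f g := by
  have hw : fst ≫ f = snd ≫ g := by
    rw [← cancel_mono i, Category.assoc, Category.assoc]; exact sq.w
  refine ⟨⟨hw⟩, ⟨PullbackCone.IsLimit.mk hw
    (fun c => sq.lift c.fst c.snd (by rw [← Category.assoc, c.condition, Category.assoc]))
    (fun c => sq.lift_fst _ _ _) (fun c => sq.lift_snd _ _ _)
    (fun c m h1 h2 => sq.hom_ext (by rw [h1, sq.lift_fst]) (by rw [h2, sq.lift_snd]))⟩⟩



/-- Let X be an algebraic space over a scheme S with a Zariski covering by open subspaces X_i ⟶ X. If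
each X_i is decent then X is decent. -/
theorem result {S : Scheme.{u}} (X : AlgSp.Space S) {ι : Type u} (Xi : ι → AlgSp.Space S)
    (j : ∀ i, Xi i ⟶ X) (hj : AlgSp.IsZarCover (fun i => (Xi i).obj) (fun i => (j i).hom))
    (hd : ∀ i, AlgSp.IsDecent (Xi i).obj) : AlgSp.IsDecent X.obj := by
  intro x
  obtain ⟨i₀, x₀, hx₀⟩ := hj.2 x
  choose A a hae has using fun i => (Xi i).property.atlas
  have hje : ∀ i, AlgSp.RepWith @Etale (j i).hom := fun i => repWith_etale_of_open _ (hj.1 i)
  have hinj : ∀ i, Function.Injective (AlgSp.Points.map (j i).hom) := fun i =>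
    Groth.Agent.Lib.Helper12.LargestOpen.injective_map_of_open _ (hj.1 i)
  have H : ∀ (V' : Over S) (b' : (AlgSp.yon S).obj V' ⟶ X.obj), IsAffine V'.left →
      AlgSp.RepWith @Etale b' → (AlgSp.Points.ofPt b' ⁻¹' {x}).Finite := by
    intro V' b' hV' hb'
    haveI := hV'
    let O : (Σ i, (A i).left.affineOpens) → Over S := fun k => Over.mk (k.2.1.ι ≫ (A k.1).hom)
    let ιO : ∀ k : (Σ i, (A i).left.affineOpens), O k ⟶ A k.1 := fun k => Over.homMk k.2.1.ι rfl
    have hιO : ∀ k, AlgSp.RepWith @Etale ((AlgSp.yon S).map (ιO k)) := fun k =>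
      (AlgSp.repWith_yon_map_iff _ _).2 (by show Etale k.2.1.ι; infer_instance)
    refine Groth.Agent.S10363.result X x O
      (fun k => (AlgSp.yon S).map (ιO k) ≫ a k.1 ≫ (j k.1).hom) ?_ ?_ ?_ b' hb'
    · intro k
      exact MorphismProperty.comp_mem _ _ _ (hιO k)
        (MorphismProperty.comp_mem _ _ _ (hae k.1) (hje k.1))
    · intro y
      obtain ⟨i, yi, rfl⟩ := hj.2 y
      obtain ⟨u, rfl⟩ := Groth.Agent.S10177.surjective_ofPt (a i) (has i) yi
      obtain ⟨W, hW, huW, -⟩ : ∃ W : (A i).left.Opens, W ∈ (A i).left.affineOpens ∧ u ∈ W ∧ W ≤ ⊤ :=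
        TopologicalSpace.Opens.isBasis_iff_nbhd.1 (A i).left.isBasis_affineOpens
          (TopologicalSpace.Opens.mem_top u)
      refine ⟨⟨i, ⟨W, hW⟩⟩, ⟨u, huW⟩, ?_⟩
      rw [Groth.Agent.S10176.ofPt_map_comp, ← AlgSp.Points.map_ofPt]
      rfl
    · intro k
      by_cases hx : x ∈ Set.range (AlgSp.Points.map (j k.1).hom)
      · obtain ⟨xk, rfl⟩ := hx
        obtain ⟨q, hq, -, hqc⟩ := hd k.1 xk
        haveI : IsAffine (O k).left := k.2.2
        haveI : CompactSpace ↥(O k).left := inferInstance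
        have hfin := Groth.Agent.Lib.Helper12.QcPoint.finite_fibre_of_quasiCompact q hqc
          ((AlgSp.yon S).map (ιO k) ≫ a k.1) (MorphismProperty.comp_mem _ _ _ (hιO k) (hae k.1))
        refine hfin.subset ?_
        intro o ho
        rw [Set.mem_preimage, Set.mem_singleton_iff] at ho ⊢
        rw [hq]
        apply hinj k.1
        rw [AlgSp.Points.map_ofPt, Category.assoc]
        exact ho
      · refine Set.Finite.subset Set.finite_empty ?_
        intro o ho
        rw [Set.mem_preimage, Set.mem_singleton_iff] at ho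
        exact (hx ⟨AlgSp.Points.ofPt ((AlgSp.yon S).map (ιO k) ≫ a k.1) o, by
          rw [AlgSp.Points.map_ofPt, Category.assoc]; exact ho⟩).elim
  obtain ⟨V, b₀, v, hV, hb₀, hv⟩ :=
    Groth.Agent.Lib.Helper12.DecentPoint.exists_affine_chart (Xi i₀).property x₀
  haveI := hV
  have hb : AlgSp.RepWith @Etale (b₀ ≫ (j i₀).hom) :=
    MorphismProperty.comp_mem _ _ _ hb₀ (hje i₀)
  have hv' : AlgSp.Points.ofPt (b₀ ≫ (j i₀).hom) v = x := by
    rw [← AlgSp.Points.map_ofPt, hv, hx₀]
  obtain ⟨R, s, t₀, sqR⟩ := hb.1 (b₀ ≫ (j i₀).hom)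
  obtain ⟨t, rfl⟩ := (AlgSp.yon S).map_surjective t₀
  obtain ⟨q₀, hq₀, hm₀, hqc₀⟩ := hd i₀ x₀
  obtain ⟨F, fK, fV₀, sqF⟩ := hb.1 (q₀.map (j i₀).hom).toHom
  obtain ⟨fV, rfl⟩ := (AlgSp.yon S).map_surjective fV₀
  haveI : Mono (j i₀).hom := Groth.Agent.Lib.Helper12.LargestOpen.mono_of_open _ (hj.1 i₀)
  have sqF₀ : IsPullback ((AlgSp.yon S).map fV) ((AlgSp.yon S).map fK) b₀ q₀.toHom := by
    apply isPullback_of_comp_mono (j i₀).hom
    have h := sqF
    rw [AlgSp.FieldPt.toHom_map] at h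
    exact h
  haveI : QuasiCompact fV.left := hqc₀.2 _ _ fV sqF₀.flip
  haveI : Etale fK.left := hb.2 _ _ fK sqF
  haveI : LocallyQuasiFinite fK.left := Groth.Agent.S10265.locallyQuasiFinite_of_unramified _
  haveI : CompactSpace ↥V.left := inferInstance
  haveI : CompactSpace ↥F.left := QuasiCompact.compactSpace_of_compactSpace fV.left
  haveI : QuasiSeparatedSpace ↥(q₀.map (j i₀).hom).pt.left :=
    (inferInstance : QuasiSeparatedSpace ↥(Spec (CommRingCat.of q₀.K)))
  haveI : QuasiCompact fK.left := quasiCompact_of_compactSpace _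
  have hF : (Set.univ : Set ↥F.left).Finite := by
    have := fK.left.finite_preimage_singleton
      ((⊥ : PrimeSpectrum q₀.K) : ↥(q₀.map (j i₀).hom).pt.left)
    refine this.subset (fun y _ => ?_)
    exact (inferInstance : Subsingleton (PrimeSpectrum q₀.K)).elim _ _
  have hRfib := Groth.Agent.Lib.Helper12.RelFibre.finite_relation_fibre (q₀.map (j i₀).hom)
    (b₀ ≫ (j i₀).hom) hb fK fV sqF hF s t sqR
  refine Groth.Agent.Lib.Helper12.DecentPoint.exists_qc_mono_point X.property x
    (b₀ ≫ (j i₀).hom) hb v hv' s t sqR (hRfib.subset ?_) H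
  rintro r ⟨-, hr⟩
  rw [Set.mem_preimage, Set.mem_singleton_iff, Groth.Agent.S10176.ofPt_map_comp, hr, hv', ← hx₀,
    ← hq₀]
  rfl

end Groth.Agent.S10364
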