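import Groth.Statements.S10412
import Mathlib
import Groth.Agent.S10364
import Groth.Agent.S10176
import Groth.Agent.S10177
import Groth.Agent.Lib.Helper12OpenSub
import Groth.Agent.Lib.Helper12LargestOpen
import Groth.Agent.Lib.Helper12AtlasDescent
import Groth.Agent.Lib.Helper12Descent

set_option autoImplicit false
universe u
open CategoryTheory CategoryTheory.Limits AlgebraicGeometry Topology TopologicalSpace
open AlgSp

namespace Groth.Agent.S10412


open Groth.Agent.Lib.Helper12 in
/-- compose both legs of a pullback square with a monomorphism. -/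
lemma isPullback_comp_mono {C : Type*} [Category C] {P A B X Y : C} {fst : P ⟶ A} {snd : P ⟶ B}
    {f : A ⟶ X} {g : B ⟶ X} (i : X ⟶ Y) [Mono i]
    (sq : IsPullback fst snd f g) : IsPullback fst snd (f ≫ i) (g ≫ i) := by
  have hw : fst ≫ f ≫ i = snd ≫ g ≫ i := by
    rw [← Category.assoc, sq.w, Category.assoc]
  refine ⟨⟨hw⟩, ⟨PullbackCone.IsLimit.mk hw
    (fun c => sq.lift c.fst c.snd (by
      rw [← cancel_mono i, Category.assoc, Category.assoc]; exact c.condition))
    (fun c => sq.lift_fst _ _ _) (fun c => sq.lift_snd _ _ _)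
    (fun c m h1 h2 => sq.hom_ext (by rw [h1, sq.lift_fst]) (by rw [h2, sq.lift_snd]))⟩⟩

/-- cancel a monomorphism on the right of a representable morphism with a property. -/
lemma repWith_of_comp_mono (P : MorphismProperty Scheme.{u}) {S : Scheme.{u}} {A F G : AlgSp.Sp S}
    (a : A ⟶ F) (i : F ⟶ G) [Mono i] (h : AlgSp.RepWith P (a ≫ i)) : AlgSp.RepWith P a := by
  refine (AlgSp.repWith_iff _ _).2 ⟨?_, fun U V g fst snd sq => ?_⟩
  · intro T g
    obtain ⟨W, snd, fst, sq⟩ := h.1 (g ≫ i)
    exact ⟨W, snd, fst, Groth.Agent.S10364.isPullback_of_comp_mono i sq⟩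
  · exact h.2 (g ≫ i) fst snd (isPullback_comp_mono i sq)



/-- For an algebraic space X over a scheme S the following are equivalent: (1) X has a Zariski covering
by open subspaces X_i, each X_i admitting a surjective, etale and quasi-compact morphism U_i ⟶ X_i
with U_i a scheme; (2) there are etale morphisms U_i ⟶ X from schemes, jointly surjective, such that
for each i both projection morphisms from U_i ×_X U_i to U_i are quasi-compact. -/
theorem result {S : Scheme.{u}} (X : AlgSp.Space S) :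
    (∃ (ι : Type u) (Xi : ι → AlgSp.Space S) (j : ∀ i, Xi i ⟶ X) (U : ι → Over S)
        (a : ∀ i, (AlgSp.yon S).obj (U i) ⟶ (Xi i).obj),
        AlgSp.IsZarCover (fun i => (Xi i).obj) (fun i => (j i).hom) ∧
          ∀ i, AlgSp.RepWith @Etale (a i) ∧ AlgSp.RepWith @Surjective (a i) ∧ AlgSp.RepWith @QuasiCompact (a i)) ↔
      ∃ (ι : Type u) (U : ι → Over S) (φ : ∀ i, (AlgSp.yon S).obj (U i) ⟶ X.obj),
        (∀ i, AlgSp.RepWith @Etale (φ i)) ∧
          (∀ x : AlgSp.Points X.obj, ∃ (i : ι) (v : ↥(U i).left), AlgSp.Points.ofPt (φ i) v = x) ∧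
          ∀ (i : ι) (R : Over S) (s t : R ⟶ U i), IsPullback ((AlgSp.yon S).map t) ((AlgSp.yon S).map s) (φ i) (φ i) →
            QuasiCompact s.left ∧ QuasiCompact t.left := by
  constructor
  · rintro ⟨ι, Xi, j, U, a, hj, ha⟩
    have hje : ∀ i, AlgSp.RepWith @Etale (j i).hom := fun i =>
      Groth.Agent.S10364.repWith_etale_of_open _ (hj.1 i)
    refine ⟨ι, U, fun i => a i ≫ (j i).hom,
      fun i => MorphismProperty.comp_mem _ _ _ (ha i).1 (hje i), ?_, ?_⟩
    · intro x
      obtain ⟨i, xi, rfl⟩ := hj.2 x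
      obtain ⟨v, rfl⟩ := Groth.Agent.S10177.surjective_ofPt (a i) (ha i).2.1 xi
      exact ⟨i, v, by rw [← AlgSp.Points.map_ofPt]⟩
    · intro i R s t sq
      haveI : Mono (j i).hom := Groth.Agent.Lib.Helper12.LargestOpen.mono_of_open _ (hj.1 i)
      have sq' := Groth.Agent.S10364.isPullback_of_comp_mono (j i).hom sq
      exact ⟨(ha i).2.2.2 _ _ s sq', (ha i).2.2.2 _ _ t sq'.flip⟩
  · rintro ⟨ι, U, φ, hφ, hsurj, hR⟩
    let W : ι → Set (AlgSp.Points X.obj) := fun i => Set.range (AlgSp.Points.ofPt (φ i))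
    have hW : ∀ i, IsOpen (W i) := fun i =>
      (Groth.Agent.S10176.isOpenMap_ofPt (φ i) (hφ i)).isOpen_range
    have hfac : ∀ i, ∃ a' : (AlgSp.yon S).obj (U i) ⟶ Groth.Agent.Lib.Helper12.OpenSub.obj X.obj (W i),
        a' ≫ Groth.Agent.Lib.Helper12.OpenSub.incl X.obj (W i) = φ i := fun i =>
      (Groth.Agent.Lib.Helper12.OpenSub.factor_iff (W i) (φ i)).2 (fun t => ⟨t, rfl⟩)
    choose a ha using hfac
    have hopen : ∀ i, AlgSp.RepWith @IsOpenImmersion (Groth.Agent.Lib.Helper12.OpenSub.incl X.obj (W i)) :=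
      fun i => Groth.Agent.Lib.Helper12.OpenSub.repWith_incl (hW i)
    have hinj : ∀ i, Function.Injective
        (AlgSp.Points.map (Groth.Agent.Lib.Helper12.OpenSub.incl X.obj (W i))) := fun i =>
      Groth.Agent.Lib.Helper12.LargestOpen.injective_map_of_open _ (hopen i)
    have hae : ∀ i, AlgSp.RepWith @Etale (a i) := fun i =>
      repWith_of_comp_mono @Etale (a i) (Groth.Agent.Lib.Helper12.OpenSub.incl X.obj (W i))
        (by rw [ha i]; exact hφ i)
    have has : ∀ i, AlgSp.RepWith @Surjective (a i) := by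
      intro i
      refine (AlgSp.repWith_iff _ _).2 ⟨(hae i).1, fun T V g fst' snd sq => ?_⟩
      obtain ⟨fst, rfl⟩ := (AlgSp.yon S).map_surjective fst'
      refine ⟨fun t => ?_⟩
      have hmem : AlgSp.Points.map (Groth.Agent.Lib.Helper12.OpenSub.incl X.obj (W i))
          (AlgSp.Points.ofPt g t) ∈ W i := by
        have h := Groth.Agent.Lib.Helper12.OpenSub.range_map_incl (X := X.obj) (W i)
        have h2 : AlgSp.Points.map (Groth.Agent.Lib.Helper12.OpenSub.incl X.obj (W i))
            (AlgSp.Points.ofPt g t) ∈ Set.range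
              (AlgSp.Points.map (Groth.Agent.Lib.Helper12.OpenSub.incl X.obj (W i))) := ⟨_, rfl⟩
        exact h.subset h2
      obtain ⟨v, hv⟩ := hmem
      have e : AlgSp.Points.ofPt (a i) v = AlgSp.Points.ofPt g t := by
        apply hinj i
        rw [AlgSp.Points.map_ofPt, ha i]
        exact hv
      obtain ⟨y, -, hy⟩ := Groth.Agent.S10176.exists_point_of_isPullback_yon sq v t e
      exact ⟨y, hy⟩
    refine ⟨ι, fun i => ⟨Groth.Agent.Lib.Helper12.OpenSub.obj X.obj (W i),
        Groth.Agent.Lib.Helper12.OpenSub.isAlgSpace_obj X.property (hW i)⟩,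
      fun i => ObjectProperty.homMk (Groth.Agent.Lib.Helper12.OpenSub.incl X.obj (W i)), U, a,
      ⟨fun i => hopen i, ?_⟩, fun i => ⟨hae i, has i, ?_⟩⟩
    · intro x
      obtain ⟨i, v, rfl⟩ := hsurj x
      refine ⟨i, ?_⟩
      show _ ∈ Set.range (AlgSp.Points.map (Groth.Agent.Lib.Helper12.OpenSub.incl X.obj (W i)))
      rw [Groth.Agent.Lib.Helper12.OpenSub.range_map_incl (W i)]
      exact ⟨v, rfl⟩
    · obtain ⟨R, s, t', sq⟩ := (hae i).1 (a i)
      obtain ⟨t, rfl⟩ := (AlgSp.yon S).map_surjective t'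
      have sq2 := isPullback_comp_mono (Groth.Agent.Lib.Helper12.OpenSub.incl X.obj (W i)) sq
      rw [ha i] at sq2
      obtain ⟨hs, -⟩ := hR i R s t sq2
      haveI := Groth.Agent.Lib.Helper12.descendsAlong_quasiCompact.{u}
      exact Groth.Agent.Lib.Helper12.AtlasDescent.repWith_of_atlas @QuasiCompact (a i) (hae i).1
        (a i) (hae i) (has i) ((AlgSp.yon S).map t) s sq hs

end Groth.Agent.S10412
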