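import Groth.Statements.S10198
import Mathlib
import Groth.Agent.S10412
import Groth.Agent.Lib.Helper12QSep

set_option autoImplicit false
universe u
open CategoryTheory CategoryTheory.Limits AlgebraicGeometry Topology TopologicalSpace
open AlgSp

namespace Groth.Agent.S10198


lemma isPullback_prod_map_left {E : Type*} [Category E] [HasBinaryProducts E] {A B : E} (p : A ⟶ B)
    (C : E) :
    IsPullback (prod.map p (𝟙 C)) (prod.fst : A ⨯ C ⟶ A) (prod.fst : B ⨯ C ⟶ B) p := by
  refine ⟨⟨by simp⟩, ⟨PullbackCone.IsLimit.mk _ (fun s => prod.lift s.snd (s.fst ≫ prod.snd))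
    ?_ ?_ ?_⟩⟩
  · intro s
    apply Limits.prod.hom_ext
    · rw [Category.assoc, prod.map_fst, prod.lift_fst_assoc, s.condition]
    · rw [Category.assoc, prod.map_snd, prod.lift_snd_assoc, Category.comp_id]
  · intro s
    exact prod.lift_fst _ _
  · intro s m h1 h2
    apply Limits.prod.hom_ext
    · rw [prod.lift_fst]; exact h2
    · rw [prod.lift_snd, ← h1, Category.assoc, prod.map_snd, Category.comp_id]

lemma isPullback_prod_map_right {E : Type*} [Category E] [HasBinaryProducts E] {A B : E} (p : A ⟶ B)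
    (C : E) :
    IsPullback (prod.map (𝟙 C) p) (prod.snd : C ⨯ A ⟶ A) (prod.snd : C ⨯ B ⟶ B) p := by
  refine ⟨⟨by simp⟩, ⟨PullbackCone.IsLimit.mk _ (fun s => prod.lift (s.fst ≫ prod.fst) s.snd)
    ?_ ?_ ?_⟩⟩
  · intro s
    apply Limits.prod.hom_ext
    · rw [Category.assoc, prod.map_fst, prod.lift_fst_assoc, Category.comp_id]
    · rw [Category.assoc, prod.map_snd, prod.lift_snd_assoc, s.condition]
  · intro s
    exact prod.lift_snd _ _
  · intro s m h1 h2
    apply Limits.prod.hom_ext
    · rw [prod.lift_fst, ← h1, Category.assoc, prod.map_fst, Category.comp_id]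
    · rw [prod.lift_snd]; exact h2

/-- the product of a chart with itself inherits the properties of the chart. -/
lemma repWith_prod_chart (Pr : MorphismProperty Scheme.{u}) [Pr.IsStableUnderBaseChange]
    [Pr.IsMultiplicative] {S : Scheme.{u}} {X : AlgSp.Sp S} {U : Over S}
    (p : (AlgSp.yon S).obj U ⟶ X) (h : AlgSp.RepWith Pr p) :
    AlgSp.RepWith Pr (prod.lift ((AlgSp.yon S).map (prod.fst : U ⨯ U ⟶ U) ≫ p)
      ((AlgSp.yon S).map (prod.snd : U ⨯ U ⟶ U) ≫ p)) := by
  have h1 : AlgSp.RepWith Pr (prod.map p (𝟙 ((AlgSp.yon S).obj U))) :=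
    MorphismProperty.of_isPullback (P := AlgSp.RepWith Pr) (isPullback_prod_map_left p _).flip h
  have h2 : AlgSp.RepWith Pr (prod.map (𝟙 X) p) :=
    MorphismProperty.of_isPullback (P := AlgSp.RepWith Pr) (isPullback_prod_map_right p _).flip h
  have h3 : AlgSp.RepWith Pr (prodComparison (AlgSp.yon S) U U) :=
    MorphismProperty.of_isIso _ _
  have e : prod.lift ((AlgSp.yon S).map (prod.fst : U ⨯ U ⟶ U) ≫ p)
      ((AlgSp.yon S).map (prod.snd : U ⨯ U ⟶ U) ≫ p) =
      prodComparison (AlgSp.yon S) U U ≫ prod.map p (𝟙 _) ≫ prod.map (𝟙 _) p := by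
    apply Limits.prod.hom_ext
    · rw [prod.lift_fst, Category.assoc, Category.assoc, prod.map_fst, Category.comp_id,
        prod.map_fst, ← Category.assoc, prodComparison_fst]
    · rw [prod.lift_snd, Category.assoc, Category.assoc, prod.map_snd, prod.map_snd_assoc,
        Category.id_comp, ← Category.assoc, prodComparison_snd]
  rw [e]
  exact MorphismProperty.comp_mem _ _ _ h3 (MorphismProperty.comp_mem _ _ _ h1 h2)

/-- the self-product over `S` of an affine scheme mapping into an affine open of `S` is compact. -/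
lemma compactSpace_prod_of_factor {S : Scheme.{u}} {O : Over S} [IsAffine O.left] (V : S.Opens)
    (hV : IsAffineOpen V) (w : O.left ⟶ V.toScheme) (hw : w ≫ V.ι = O.hom) :
    CompactSpace ↥(O ⨯ O).left := by
  haveI : IsAffine V.toScheme := hV
  have sq : IsPullback (pullback.fst w w) (pullback.snd w w) O.hom O.hom := by
    rw [← hw]
    exact Groth.Agent.S10412.isPullback_comp_mono V.ι (IsPullback.of_hasPullback w w)
  haveI : CompactSpace ↥(pullback w w) := inferInstance
  haveI : CompactSpace ↥(pullback O.hom O.hom) :=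
    QuasiCompact.compactSpace_of_compactSpace sq.isoPullback.inv
  exact QuasiCompact.compactSpace_of_compactSpace (Over.prodLeftIsoPullback O O).hom

/-- the self-product over `S` of an affine scheme is a quasi-separated space. -/
lemma quasiSeparatedSpace_prod {S : Scheme.{u}} (O : Over S) [IsAffine O.left] :
    QuasiSeparatedSpace ↥(O ⨯ O).left := by
  haveI : QuasiSeparatedSpace ↥(pullback O.hom O.hom) :=
    quasiSeparatedSpace_of_quasiSeparated (pullback.fst O.hom O.hom)
  exact quasiSeparatedSpace_of_quasiSeparated (Over.prodLeftIsoPullback O O).hom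



/-- (1) if and only if (3): for an algebraic space X over a scheme S, X is Zariski locally
quasi-separated over S (it has a Zariski covering by open subspaces whose diagonals over S are
quasi-compact) if and only if X has a Zariski covering by open subspaces each of which admits a
quasi-compact, etale, surjective map from an affine scheme. Since the second condition does not
mention S, being Zariski locally quasi-separated does not depend on the base. -/
theorem result {S : Scheme.{u}} (X : AlgSp.Space S) :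
    (∃ (ι : Type u) (Xi : ι → AlgSp.Space S) (j : ∀ i, Xi i ⟶ X),
        AlgSp.IsZarCover (fun i => (Xi i).obj) (fun i => (j i).hom) ∧ ∀ i, AlgSp.IsQuasiSeparatedSp (Xi i).obj) ↔
      (∃ (ι : Type u) (Xi : ι → AlgSp.Space S) (j : ∀ i, Xi i ⟶ X),
        AlgSp.IsZarCover (fun i => (Xi i).obj) (fun i => (j i).hom) ∧
          ∀ i, ∃ (U : Over S) (p : (AlgSp.yon S).obj U ⟶ (Xi i).obj), IsAffine U.left ∧
            AlgSp.RepWith @QuasiCompact p ∧ AlgSp.RepWith @Etale p ∧ AlgSp.RepWith @Surjective p) := by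
  constructor
  · rintro ⟨ι, Xi, j, hj, hqs⟩
    choose A a hae has using fun i => (Xi i).property.atlas
    let κ : Type u := Σ i : ι, {W : (A i).left.Opens // IsAffineOpen W ∧
      ∃ V : S.Opens, IsAffineOpen V ∧ W ≤ (A i).hom ⁻¹ᵁ V}
    let O : κ → Over S := fun k => Over.mk (k.2.1.ι ≫ (A k.1).hom)
    let ιO : ∀ k : κ, O k ⟶ A k.1 := fun k => Over.homMk k.2.1.ι rfl
    have hO : ∀ k : κ, IsAffine (O k).left := fun k => k.2.2.1
    let φ : ∀ k : κ, (AlgSp.yon S).obj (O k) ⟶ (Xi k.1).obj := fun k =>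
      (AlgSp.yon S).map (ιO k) ≫ a k.1
    have hφ : ∀ k : κ, AlgSp.RepWith @Etale (φ k) := fun k =>
      MorphismProperty.comp_mem _ _ _
        ((AlgSp.repWith_yon_map_iff _ _).2 (by show Etale k.2.1.ι; infer_instance)) (hae k.1)
    let W : ∀ k : κ, Set (AlgSp.Points (Xi k.1).obj) := fun k => Set.range (AlgSp.Points.ofPt (φ k))
    have hW : ∀ k : κ, IsOpen (W k) := fun k =>
      (Groth.Agent.S10176.isOpenMap_ofPt (φ k) (hφ k)).isOpen_range
    have hfac : ∀ k : κ, ∃ a' : (AlgSp.yon S).obj (O k) ⟶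
        Groth.Agent.Lib.Helper12.OpenSub.obj (Xi k.1).obj (W k),
        a' ≫ Groth.Agent.Lib.Helper12.OpenSub.incl (Xi k.1).obj (W k) = φ k := fun k =>
      (Groth.Agent.Lib.Helper12.OpenSub.factor_iff (W k) (φ k)).2 (fun t => ⟨t, rfl⟩)
    choose p hp using hfac
    have hopen : ∀ k : κ, AlgSp.RepWith @IsOpenImmersion
        (Groth.Agent.Lib.Helper12.OpenSub.incl (Xi k.1).obj (W k)) :=
      fun k => Groth.Agent.Lib.Helper12.OpenSub.repWith_incl (hW k)
    have hinj : ∀ k : κ, Function.Injective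
        (AlgSp.Points.map (Groth.Agent.Lib.Helper12.OpenSub.incl (Xi k.1).obj (W k))) := fun k =>
      Groth.Agent.Lib.Helper12.LargestOpen.injective_map_of_open _ (hopen k)
    have hpe : ∀ k : κ, AlgSp.RepWith @Etale (p k) := fun k =>
      Groth.Agent.S10412.repWith_of_comp_mono @Etale (p k)
        (Groth.Agent.Lib.Helper12.OpenSub.incl (Xi k.1).obj (W k)) (by rw [hp k]; exact hφ k)
    have hps : ∀ k : κ, AlgSp.RepWith @Surjective (p k) := by
      intro k
      refine (AlgSp.repWith_iff _ _).2 ⟨(hpe k).1, fun T V g fst' snd sq => ?_⟩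
      obtain ⟨fst, rfl⟩ := (AlgSp.yon S).map_surjective fst'
      refine ⟨fun t => ?_⟩
      have hmem : AlgSp.Points.map (Groth.Agent.Lib.Helper12.OpenSub.incl (Xi k.1).obj (W k))
          (AlgSp.Points.ofPt g t) ∈ W k := by
        have h := Groth.Agent.Lib.Helper12.OpenSub.range_map_incl (X := (Xi k.1).obj) (W k)
        have h2 : AlgSp.Points.map (Groth.Agent.Lib.Helper12.OpenSub.incl (Xi k.1).obj (W k))
            (AlgSp.Points.ofPt g t) ∈ Set.range
              (AlgSp.Points.map (Groth.Agent.Lib.Helper12.OpenSub.incl (Xi k.1).obj (W k))) :=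
          ⟨_, rfl⟩
        exact h.subset h2
      obtain ⟨v, hv⟩ := hmem
      have e : AlgSp.Points.ofPt (p k) v = AlgSp.Points.ofPt g t := by
        apply hinj k
        rw [AlgSp.Points.map_ofPt, hp k]
        exact hv
      obtain ⟨y, -, hy⟩ := Groth.Agent.S10176.exists_point_of_isPullback_yon sq v t e
      exact ⟨y, hy⟩
    refine ⟨κ, fun k => ⟨Groth.Agent.Lib.Helper12.OpenSub.obj (Xi k.1).obj (W k),
        Groth.Agent.Lib.Helper12.OpenSub.isAlgSpace_obj (Xi k.1).property (hW k)⟩,
      fun k => ObjectProperty.homMk (Groth.Agent.Lib.Helper12.OpenSub.incl (Xi k.1).obj (W k)) ≫ j k.1,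
      ⟨fun k => ?_, ?_⟩, fun k => ⟨O k, p k, hO k, ?_, hpe k, hps k⟩⟩
    · show AlgSp.RepWith @IsOpenImmersion
        (Groth.Agent.Lib.Helper12.OpenSub.incl (Xi k.1).obj (W k) ≫ (j k.1).hom)
      exact MorphismProperty.comp_mem _ _ _ (hopen k) (hj.1 k.1)
    · intro x
      obtain ⟨i, xi, rfl⟩ := hj.2 x
      obtain ⟨u, rfl⟩ := Groth.Agent.S10177.surjective_ofPt (a i) (has i) xi
      obtain ⟨V, hV, huV, -⟩ : ∃ V : S.Opens, V ∈ S.affineOpens ∧ (A i).hom u ∈ V ∧ V ≤ ⊤ :=
        TopologicalSpace.Opens.isBasis_iff_nbhd.1 S.isBasis_affineOpens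
          (TopologicalSpace.Opens.mem_top _)
      obtain ⟨W₀, hW₀, huW, hWV⟩ : ∃ W₀ : (A i).left.Opens, W₀ ∈ (A i).left.affineOpens ∧ u ∈ W₀ ∧
          W₀ ≤ (A i).hom ⁻¹ᵁ V :=
        TopologicalSpace.Opens.isBasis_iff_nbhd.1 (A i).left.isBasis_affineOpens
          (show u ∈ (A i).hom ⁻¹ᵁ V from huV)
      let k : κ := ⟨i, ⟨W₀, hW₀, V, hV, hWV⟩⟩
      refine ⟨k, AlgSp.Points.ofPt (p k) ⟨u, huW⟩, ?_⟩
      show AlgSp.Points.map (Groth.Agent.Lib.Helper12.OpenSub.incl (Xi k.1).obj (W k) ≫ (j k.1).hom) _ = _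
      rw [AlgSp.Points.map_ofPt, ← Category.assoc, hp k]
      show AlgSp.Points.ofPt (((AlgSp.yon S).map (ιO k) ≫ a k.1) ≫ (j k.1).hom) _ = _
      rw [Category.assoc, Groth.Agent.S10176.ofPt_map_comp, ← AlgSp.Points.map_ofPt]
      rfl
    · haveI := hO k
      obtain ⟨R, s, t', sq⟩ := (hpe k).1 (p k)
      obtain ⟨t, rfl⟩ := (AlgSp.yon S).map_surjective t'
      have sq2 := Groth.Agent.S10412.isPullback_comp_mono
        (Groth.Agent.Lib.Helper12.OpenSub.incl (Xi k.1).obj (W k)) sq
      rw [hp k] at sq2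
      have sqD := Groth.Agent.Lib.Helper12.QSep.isPullback_diag (φ k) (φ k) t s sq2
      haveI : QuasiCompact (prod.lift t s).left := (hqs k.1).2 _ _ _ sqD
      obtain ⟨V, hV, hWV⟩ := k.2.2.2
      have hrange : Set.range (O k).hom ⊆ Set.range V.ι := by
        rw [V.range_ι]
        rintro _ ⟨x, rfl⟩
        have hx : k.2.1.ι x ∈ k.2.1 := by
          have h := k.2.1.range_ι
          have h2 : k.2.1.ι x ∈ Set.range k.2.1.ι := ⟨x, rfl⟩
          rw [h] at h2; exact h2
        exact hWV hx
      haveI : CompactSpace ↥(O k ⨯ O k).left :=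
        compactSpace_prod_of_factor V hV (IsOpenImmersion.lift V.ι (O k).hom hrange)
          (IsOpenImmersion.lift_fac _ _ _)
      haveI : CompactSpace ↥R.left :=
        QuasiCompact.compactSpace_of_compactSpace (prod.lift t s).left
      haveI : QuasiCompact s.left := quasiCompact_of_compactSpace _
      haveI := Groth.Agent.Lib.Helper12.descendsAlong_quasiCompact.{u}
      exact Groth.Agent.Lib.Helper12.AtlasDescent.repWith_of_atlas @QuasiCompact (p k) (hpe k).1
        (p k) (hpe k) (hps k) ((AlgSp.yon S).map t) s sq inferInstance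
  · rintro ⟨ι, Xi, j, hj, h⟩
    refine ⟨ι, Xi, j, hj, fun i => ?_⟩
    obtain ⟨U, p, hU, hq, he, hs⟩ := h i
    haveI := hU
    obtain ⟨R, s, t', sq⟩ := he.1 p
    obtain ⟨t, rfl⟩ := (AlgSp.yon S).map_surjective t'
    haveI : QuasiCompact s.left := hq.2 _ _ s sq
    haveI : CompactSpace ↥U.left := inferInstance
    haveI : CompactSpace ↥R.left := QuasiCompact.compactSpace_of_compactSpace s.left
    haveI : QuasiSeparatedSpace ↥(U ⨯ U).left := quasiSeparatedSpace_prod U
    have sqD := Groth.Agent.Lib.Helper12.QSep.isPullback_diag p p t s sq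
    haveI := Groth.Agent.Lib.Helper12.descendsAlong_quasiCompact.{u}
    haveI : QuasiCompact (prod.lift t s).left := quasiCompact_of_compactSpace _
    exact Groth.Agent.Lib.Helper12.AtlasDescent.repWith_of_atlas @QuasiCompact
      (Limits.diag (Xi i).obj) (Xi i).property.diag _ (repWith_prod_chart @Etale p he)
      (repWith_prod_chart @Surjective p hs) _ (prod.lift t s) sqD inferInstance

end Groth.Agent.S10198
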