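import Groth.Statements.S4466
import Mathlib
import Groth.Agent.S0845
import Groth.Agent.Lib.Helper27PnCohVanish

set_option autoImplicit false
universe u
open Coherent

namespace Groth.Agent.S4466

open AlgebraicGeometry CategoryTheory in
/-- Let k be a field, r > 0 and n any integer. Then the Euler characteristic of the twisting sheaf O(n)
on projective r-space over k, namely the alternating sum of the dimensions of H^j(P^r_k, O(n)) for 0
≤ j ≤ r, equals the binomial coefficient C(n+r, r), understood as the binomial polynomial evaluated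
at the integer n+r (so that it makes sense and is correct for negative n too). -/
theorem result (k : Type u) [Field k] (r : ℕ) (hr : 0 < r)
    (n : ℤ) :
    ((Finset.range (r + 1)).sum fun j => (-1 : ℤ) ^ j *
        (Module.finrank k (Coh.HH (CohB1.ProjSpace r k) (Twist.twistProjSpace r k n) j) : ℤ)) =
      Ring.choose (n + r) r := by
  classical
  have hfr : ∀ m : ℕ, Module.finrank k ↥(MvPolynomial.homogeneousSubmodule (Fin (r + 1)) k m) =
      (m + r).choose r := by
    intro m
    have hs : {d : Fin (r + 1) →₀ ℕ | d.degree = m} =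
        ↑((Finset.univ : Finset (Fin (r + 1))).finsuppAntidiag m) := by
      ext d
      simp [Finsupp.degree_eq_sum]
    rw [MvPolynomial.homogeneousSubmodule_eq_finsupp_supported, hs,
      LinearEquiv.finrank_eq (AddMonoidAlgebra.supportedEquivFinsupp _),
      Module.finrank_finsupp_self,
      Fintype.card_of_subtype (Finset.univ.finsuppAntidiag m) (fun x => Finset.mem_coe.symm),
      Finset.card_finsuppAntidiag_nat_eq_choose, Finset.card_univ, Fintype.card_fin]
    have : r + 1 + m - 1 = m + r := by omega
    rw [this, Nat.choose_symm_add]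
  have hvan : ∀ j : ℕ, ¬ (j = 0 ∧ 0 ≤ n) → ¬ (j = r ∧ n ≤ -((r : ℤ) + 1)) →
      Module.finrank k (Coh.HH (CohB1.ProjSpace r k) (Twist.twistProjSpace r k n) j) = 0 := by
    intro j h₀ hn
    have := Groth.Agent.Lib.Helper27PnCohVanish.subsingleton_HH r k n j h₀ hn
    exact Module.finrank_zero_of_subsingleton
  by_cases hn0 : 0 ≤ n
  · obtain ⟨m, rfl⟩ := Int.eq_ofNat_of_zero_le hn0
    rw [Finset.sum_eq_single 0]
    · obtain ⟨e⟩ := Groth.Agent.Lib.Helper27PnSections.nonempty_linearEquiv r k m
      rw [pow_zero, one_mul, LinearEquiv.finrank_eq e, hfr m]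
      have : ((m : ℤ) + (r : ℤ)) = ((m + r : ℕ) : ℤ) := by push_cast; ring
      rw [this, Ring.choose_natCast]
    · intro j _ hj
      rw [hvan j (fun h => hj h.1) (fun h => by have := h.2; omega)]
      simp
    · intro h
      exact absurd (Finset.mem_range.mpr (Nat.succ_pos r)) h
  · push Not at hn0
    by_cases hnr : n ≤ -((r : ℤ) + 1)
    · obtain ⟨k', hk'⟩ : ∃ k' : ℕ, n = -((r : ℤ) + 1 + k') := by
        refine ⟨(-(n + r + 1)).toNat, ?_⟩
        rw [Int.toNat_of_nonneg (by omega)]
        ring
      subst hk'
      rw [Finset.sum_eq_single r]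
      · obtain ⟨e⟩ := Groth.Agent.S0845.result k r k'
        rw [LinearEquiv.finrank_eq e, hfr k']
        have h1 : (-((r : ℤ) + 1 + k') + r) = -(((k' + 1 : ℕ) : ℤ)) := by push_cast; ring
        rw [h1, Ring.choose_neg, Units.smul_def, Int.coe_negOnePow_natCast, smul_eq_mul]
        have h2 : (((k' + 1 : ℕ) : ℤ) + (r : ℤ) - 1) = ((k' + r : ℕ) : ℤ) := by push_cast; ring
        rw [h2, Ring.choose_natCast]
      · intro j _ hj
        rw [hvan j (fun h => by have := h.2; omega) (fun h => hj h.1)]
        simp
      · intro h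
        exact absurd (Finset.mem_range.mpr (Nat.lt_succ_self r)) h
    · push Not at hnr
      rw [Finset.sum_eq_zero]
      · obtain ⟨m, hm⟩ : ∃ m : ℕ, n + r = m := ⟨(n + r).toNat, by rw [Int.toNat_of_nonneg (by omega)]⟩
        rw [hm, Ring.choose_natCast, Nat.choose_eq_zero_of_lt (by omega)]
        rfl
      · intro j _
        rw [hvan j (fun h => by have := h.2; omega) (fun h => by have := h.2; omega)]
        simp

end Groth.Agent.S4466
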