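import Groth.Statements.S9916
import Mathlib
import Groth.Agent.S9913

set_option autoImplicit false
universe u
open CategoryTheory CategoryTheory.Limits AlgebraicGeometry
open AlgSp

namespace Groth.Agent.S9916


open CategoryTheory.Limits Opposite MorphismProperty Groth.Agent.S13210

variable {S : Scheme.{u}}

/-- for a map `π : F ⟶ h_T` from an algebraic space which is open and surjective on points, with `T`
quasi-compact, finitely many affine schemes mapping to `F` cover `h_T`. -/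
lemma exists_finite_affine_cover_of_open_surjective {F : AlgSp.Sp S} (hF : AlgSp.IsAlgSpace F)
    {T : Over S} [CompactSpace ↥T.left] (π : F ⟶ (AlgSp.yon S).obj T)
    (hπo : IsOpenMap (AlgSp.Points.map π)) (hπs : Function.Surjective (AlgSp.Points.map π)) :
    ∃ (ι : Type u) (_ : Finite ι) (W : ι → Over S) (d : ∀ i, (AlgSp.yon S).obj (W i) ⟶ F),
      (∀ i, IsAffine (W i).left) ∧
      ∀ z : AlgSp.Points ((AlgSp.yon S).obj T), ∃ i h, AlgSp.Points.map (d i ≫ π) h = z := by
  obtain ⟨U, q, hqe, hqs⟩ := hF.atlas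
  haveI : CompactSpace (AlgSp.Points ((AlgSp.yon S).obj T)) :=
    (AlgSp.Points.schemeHomeo T).compactSpace
  have hcover : (Set.univ : Set (AlgSp.Points ((AlgSp.yon S).obj T))) ⊆
      ⋃ V : U.left.affineOpens, AlgSp.Points.map π '' (AlgSp.Points.ofPt q '' (V.1 : Set ↥U.left)) := by
    intro z _
    obtain ⟨x, rfl⟩ := hπs z
    obtain ⟨u, rfl⟩ := Groth.Agent.S10177.surjective_ofPt q hqs x
    obtain ⟨V, hV, huV, -⟩ := (U.left.isBasis_affineOpens).exists_subset_of_mem_open
      (Set.mem_univ u) isOpen_univ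
    obtain ⟨V', hV', rfl⟩ := hV
    exact Set.mem_iUnion.2 ⟨⟨V', hV'⟩, _, ⟨u, huV, rfl⟩, rfl⟩
  obtain ⟨t, ht⟩ := isCompact_univ.elim_finite_subcover
    (fun V : U.left.affineOpens =>
      AlgSp.Points.map π '' (AlgSp.Points.ofPt q '' (V.1 : Set ↥U.left)))
    (fun V => hπo _ (Groth.Agent.S10176.isOpenMap_ofPt q hqe _ V.1.2)) hcover
  refine ⟨t, inferInstance, fun V => Over.mk (V.1.1.ι ≫ U.hom),
    fun V => (AlgSp.yon S).map (Over.homMk V.1.1.ι rfl : Over.mk (V.1.1.ι ≫ U.hom) ⟶ U) ≫ q,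
    fun V => V.1.2, ?_⟩
  intro z
  obtain ⟨V, hVt, x, ⟨u, hu, rfl⟩, rfl⟩ : ∃ V ∈ t, z ∈
      AlgSp.Points.map π '' (AlgSp.Points.ofPt q '' (V.1 : Set ↥U.left)) := by
    simpa using ht (Set.mem_univ z)
  refine ⟨⟨V, hVt⟩, AlgSp.Points.ofScheme _ (⟨u, hu⟩ : V.1), ?_⟩
  rw [AlgSp.Points.map_comp, ← AlgSp.Points.ofPt_eq_map_ofScheme,
    Groth.Agent.S10176.ofPt_map_comp]
  rfl

/-- quasi-compactness descends along a universally open surjective base change. -/
lemma isQuasiCompactMor_of_univOpen_surjective {X Y Y' X' : AlgSp.Sp S} (hX : AlgSp.IsAlgSpace X)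
    (hY : AlgSp.IsAlgSpace Y) (hY' : AlgSp.IsAlgSpace Y') (f : X ⟶ Y) (g : Y' ⟶ Y)
    (fst : X' ⟶ X) (f' : X' ⟶ Y') (sq : IsPullback fst f' f g) (hg : AlgSp.IsUnivOpenMor g)
    (hgs : AlgSp.IsSurjectiveMor g) (hf' : AlgSp.IsQuasiCompactMor f') :
    AlgSp.IsQuasiCompactMor f := by
  refine Groth.Agent.S9917.isQuasiCompactMor_of_affine hX hY.diag f ?_
  intro T hT c P pr sndT sqP
  have hP : AlgSp.IsAlgSpace P :=
    Groth.Agent.S9874.isAlgSpace_of_isPullback hY.diag hX (AlgSp.IsAlgSpace.yon_obj T) sqP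
  rw [Groth.Agent.S10174.isQuasiCompactSp_iff hP]
  -- the base change of `g` to `h_T`
  have sqY := IsPullback.of_hasPullback c g
  have hYT : AlgSp.IsAlgSpace (pullback c g) :=
    Groth.Agent.S9874.isAlgSpace_of_isPullback hY.diag (AlgSp.IsAlgSpace.yon_obj T) hY' sqY
  have hπo : IsOpenMap (AlgSp.Points.map (pullback.fst c g)) :=
    hg (AlgSp.IsAlgSpace.yon_obj T) c _ _ sqY.flip
  have hπs : Function.Surjective (AlgSp.Points.map (pullback.fst c g)) := by
    intro z
    obtain ⟨y', hy'⟩ := hgs (AlgSp.Points.map c z)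
    obtain ⟨p, hp1, hp2⟩ := Groth.Agent.S10175.exists_point_of_isPullback sqY z y' hy'.symm
    exact ⟨p, hp1⟩
  obtain ⟨ι, hι, W, d, hW, hd⟩ :=
    exists_finite_affine_cover_of_open_surjective hYT (pullback.fst c g) hπo hπs
  refine Groth.Agent.S9917.compactSpace_points_of_cover sndT (fun i => (AlgSp.yon S).obj (W i))
    (fun i => d i ≫ pullback.fst c g) hd
    (fun i => pullback sndT (d i ≫ pullback.fst c g)) (fun i => pullback.fst _ _)
    (fun i => pullback.snd _ _) (fun i => IsPullback.of_hasPullback _ _) (fun i => ?_)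
  haveI := hW i
  refine Groth.Agent.S9917.compactSpace_points_of_isQuasiCompactSp ?_
  have sqi := IsPullback.of_hasPullback sndT (d i ≫ pullback.fst c g)
  have big := sqi.paste_horiz sqP
  have hcg : (d i ≫ pullback.fst c g) ≫ c = (d i ≫ pullback.snd c g) ≫ g := by
    rw [Category.assoc, Category.assoc, pullback.condition]
  rw [hcg] at big
  have hw : (pullback.fst sndT (d i ≫ pullback.fst c g) ≫ pr) ≫ f =
      (pullback.snd sndT (d i ≫ pullback.fst c g) ≫ d i ≫ pullback.snd c g) ≫ g := by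
    rw [Category.assoc (f := pullback.snd sndT (d i ≫ pullback.fst c g)), ← big.w]
  have hl1 : sq.lift _ _ hw ≫ fst = pullback.fst sndT (d i ≫ pullback.fst c g) ≫ pr :=
    sq.lift_fst _ _ _
  have hl2 : sq.lift _ _ hw ≫ f' =
      pullback.snd sndT (d i ≫ pullback.fst c g) ≫ d i ≫ pullback.snd c g := sq.lift_snd _ _ _
  have sq' : IsPullback (sq.lift _ _ hw) (pullback.snd sndT (d i ≫ pullback.fst c g)) f'
      (d i ≫ pullback.snd c g) := by
    refine IsPullback.of_right ?_ hl2 sq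
    rw [hl1]
    exact big
  exact hf' (AlgSp.IsAlgSpace.yon_obj (W i))
    (Groth.Agent.S9913.isQuasiCompactSp_yon_of_compact (W i)) _ _ _ sq'



/-- Quasi-compactness of a morphism of algebraic spaces descends along a universally open surjective
base change. -/
theorem result {S : Scheme.{u}} {X Y Y' X' : AlgSp.Space S}
    (f : X ⟶ Y) (g : Y' ⟶ Y) (fst : X' ⟶ X) (f' : X' ⟶ Y') (sq : IsPullback fst.hom f'.hom f.hom g.hom)
    (hg : AlgSp.IsUnivOpenMor g.hom) (hgs : AlgSp.IsSurjectiveMor g.hom) (hf' : AlgSp.IsQuasiCompactMor f'.hom) :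
    AlgSp.IsQuasiCompactMor f.hom := by
  exact isQuasiCompactMor_of_univOpen_surjective X.property Y.property Y'.property f.hom g.hom
    fst.hom f'.hom sq hg hgs hf'

end Groth.Agent.S9916
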