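import Groth.Statements.S9910
import Mathlib
import Groth.Agent.S9909

set_option autoImplicit false
universe u
open CategoryTheory CategoryTheory.Limits AlgebraicGeometry
open AlgSp

namespace Groth.Agent.S9910


open CategoryTheory.Limits Opposite MorphismProperty Groth.Agent.S13210 Groth.Agent.S9908
  Groth.Agent.S9909

variable {S : Scheme.{u}}

/-- the squares used to descend a property of a base change along an étale chart of the target. -/
lemma exists_chart_squares {X Y : AlgSp.Sp S} (f : X ⟶ Y) {V : Over S}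
    (p : (AlgSp.yon S).obj V ⟶ Y) (hp : AlgSp.RepWith @Etale p) (hps : AlgSp.RepWith @Surjective p)
    {P : AlgSp.Sp S} (fst : P ⟶ X) (snd : P ⟶ (AlgSp.yon S).obj V) (sq : IsPullback fst snd f p)
    {T : Over S} (g' : (AlgSp.yon S).obj T ⟶ Y) {PT : AlgSp.Sp S} (a : PT ⟶ X)
    (sndT : PT ⟶ (AlgSp.yon S).obj T) (sqT : IsPullback a sndT f g') :
    ∃ (W : Over S) (w : W ⟶ T) (v : W ⟶ V) (PW : AlgSp.Sp S) (prW : PW ⟶ PT)
      (sndW : PW ⟶ (AlgSp.yon S).obj W) (l : PW ⟶ P), Etale w.left ∧ Surjective w.left ∧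
      IsPullback prW sndW sndT ((AlgSp.yon S).map w) ∧ IsPullback l sndW snd ((AlgSp.yon S).map v) := by
  obtain ⟨W, w, v', sqW⟩ := hp.1 g'
  obtain ⟨v, rfl⟩ := (AlgSp.yon S).map_surjective v'
  have h1 : Etale w.left := hp.2 _ _ w sqW
  have h2 : Surjective w.left := hps.2 _ _ w sqW
  have sqPW := IsPullback.of_hasPullback sndT ((AlgSp.yon S).map w)
  have big := sqPW.paste_horiz sqT
  rw [← sqW.w] at big
  have hw : (pullback.fst sndT ((AlgSp.yon S).map w) ≫ a) ≫ f =
      (pullback.snd sndT ((AlgSp.yon S).map w) ≫ (AlgSp.yon S).map v) ≫ p := by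
    rw [Category.assoc (f := pullback.snd sndT ((AlgSp.yon S).map w)), ← big.w]
  have hl1 : sq.lift _ _ hw ≫ fst = pullback.fst sndT ((AlgSp.yon S).map w) ≫ a :=
    sq.lift_fst _ _ _
  have hl2 : sq.lift _ _ hw ≫ snd = pullback.snd sndT ((AlgSp.yon S).map w) ≫ (AlgSp.yon S).map v :=
    sq.lift_snd _ _ _
  refine ⟨W, w, v, _, _, _, sq.lift _ _ hw, h1, h2, sqPW, ?_⟩
  refine IsPullback.of_right ?_ hl2 sq
  rw [hl1]
  exact big

/-- the map on points of `h_w` for an étale surjective `w` is a quotient map. -/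
lemma isQuotientMap_map_yon {W T : Over S} (w : W ⟶ T) [Etale w.left] [Surjective w.left] :
    Topology.IsQuotientMap (AlgSp.Points.map ((AlgSp.yon S).map w)) := by
  rw [AlgSp.Points.map_yon_map_eq]
  have hw : Topology.IsQuotientMap (fun t => w.left t) :=
    w.left.isOpenMap.isQuotientMap w.left.continuous w.left.surjective
  exact (AlgSp.Points.schemeHomeo T).isQuotientMap.comp
    (hw.comp (AlgSp.Points.schemeHomeo W).symm.isQuotientMap)

/-- openness on points descends along a base change which is a quotient map on points. -/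
lemma isOpenMap_map_of_quotient {H H' PT PW : AlgSp.Sp S} {sndT : PT ⟶ H} {q : H' ⟶ H}
    {prW : PW ⟶ PT} {sndW : PW ⟶ H'} (sq : IsPullback prW sndW sndT q)
    (hq : Topology.IsQuotientMap (AlgSp.Points.map q)) (hW : IsOpenMap (AlgSp.Points.map sndW)) :
    IsOpenMap (AlgSp.Points.map sndT) := by
  intro A hA
  rw [← hq.isOpen_preimage, preimage_map_image sq A]
  exact hW _ (hA.preimage (AlgSp.Points.continuous_map _))

/-- universal openness descends along an étale chart of the target. -/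
lemma isUnivOpenMor_of_chart {X Y : AlgSp.Sp S} (f : X ⟶ Y) {V : Over S}
    (p : (AlgSp.yon S).obj V ⟶ Y) (hp : AlgSp.RepWith @Etale p) (hps : AlgSp.RepWith @Surjective p)
    {P : AlgSp.Sp S} (fst : P ⟶ X) (snd : P ⟶ (AlgSp.yon S).obj V) (sq : IsPullback fst snd f p)
    (h : AlgSp.IsUnivOpenMor snd) : AlgSp.IsUnivOpenMor f := by
  intro Z Z' hZ g fstZ sndZ sqZ
  refine isOpenMap_map_of_affine sndZ ?_
  intro T hT c PT pr sndT sqT
  obtain ⟨W, w, v, PW, prW, sndW, l, h1, h2, sq1, sq2⟩ :=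
    exists_chart_squares f p hp hps fst snd sq (c ≫ g) (pr ≫ fstZ) sndT (sqT.paste_horiz sqZ)
  haveI := h1
  haveI := h2
  exact isOpenMap_map_of_quotient sq1 (isQuotientMap_map_yon w)
    (h (AlgSp.IsAlgSpace.yon_obj W) _ _ _ sq2)



/-- (4) ⇒ (1): universal openness of a morphism of algebraic spaces descends along a surjective etale
base change from a scheme. -/
theorem result {S : Scheme.{u}} {X Y : AlgSp.Space S} (f : X ⟶ Y) (V : Over S)
    (p : (AlgSp.yon S).obj V ⟶ Y.obj) (hp : AlgSp.RepWith @Etale p) (hps : AlgSp.RepWith @Surjective p)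
    {P : AlgSp.Sp S} (fst : P ⟶ X.obj) (snd : P ⟶ (AlgSp.yon S).obj V) (sq : IsPullback fst snd f.hom p)
    (h : AlgSp.IsUnivOpenMor snd) : AlgSp.IsUnivOpenMor f.hom := by
  exact isUnivOpenMor_of_chart f.hom p hp hps fst snd sq h

end Groth.Agent.S9910
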