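import Groth.Statements.S9924
import Mathlib
import Groth.Agent.S9910
import Groth.Agent.S9923

set_option autoImplicit false
universe u
open CategoryTheory CategoryTheory.Limits AlgebraicGeometry
open AlgSp

namespace Groth.Agent.S9924


open CategoryTheory.Limits Opposite MorphismProperty Groth.Agent.S13210 Groth.Agent.S9908
  Groth.Agent.S9909 Groth.Agent.S9910

variable {S : Scheme.{u}}

/-- closedness on points descends along a base change which is a quotient map on points. -/
lemma isClosedMap_map_of_quotient {H H' PT PW : AlgSp.Sp S} {sndT : PT ⟶ H} {q : H' ⟶ H}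
    {prW : PW ⟶ PT} {sndW : PW ⟶ H'} (sq : IsPullback prW sndW sndT q)
    (hq : Topology.IsQuotientMap (AlgSp.Points.map q)) (hW : IsClosedMap (AlgSp.Points.map sndW)) :
    IsClosedMap (AlgSp.Points.map sndT) := by
  intro A hA
  rw [← hq.isClosed_preimage, preimage_map_image sq A]
  exact hW _ (hA.preimage (AlgSp.Points.continuous_map _))

/-- universal closedness descends along an étale chart of the target. -/
lemma isUnivClosedMor_of_chart {X Y : AlgSp.Sp S} (f : X ⟶ Y) {V : Over S}
    (p : (AlgSp.yon S).obj V ⟶ Y) (hp : AlgSp.RepWith @Etale p) (hps : AlgSp.RepWith @Surjective p)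
    {P : AlgSp.Sp S} (fst : P ⟶ X) (snd : P ⟶ (AlgSp.yon S).obj V) (sq : IsPullback fst snd f p)
    (h : AlgSp.IsUnivClosedMor snd) : AlgSp.IsUnivClosedMor f := by
  intro Z Z' hZ g fstZ sndZ sqZ
  refine Groth.Agent.S9923.isClosedMap_map_of_affine sndZ ?_
  intro T hT c PT pr sndT sqT
  obtain ⟨W, w, v, PW, prW, sndW, l, h1, h2, sq1, sq2⟩ :=
    exists_chart_squares f p hp hps fst snd sq (c ≫ g) (pr ≫ fstZ) sndT (sqT.paste_horiz sqZ)
  haveI := h1
  haveI := h2
  exact isClosedMap_map_of_quotient sq1 (isQuotientMap_map_yon w)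
    (h (AlgSp.IsAlgSpace.yon_obj W) _ _ _ sq2)



/-- (4) ⇒ (1): universal closedness of a morphism of algebraic spaces descends along a surjective etale
base change from a scheme. -/
theorem result {S : Scheme.{u}} {X Y : AlgSp.Space S} (f : X ⟶ Y) (V : Over S)
    (p : (AlgSp.yon S).obj V ⟶ Y.obj) (hp : AlgSp.RepWith @Etale p) (hps : AlgSp.RepWith @Surjective p)
    {P : AlgSp.Sp S} (fst : P ⟶ X.obj) (snd : P ⟶ (AlgSp.yon S).obj V) (sq : IsPullback fst snd f.hom p)
    (h : AlgSp.IsUnivClosedMor snd) : AlgSp.IsUnivClosedMor f.hom := by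
  exact isUnivClosedMor_of_chart f.hom p hp hps fst snd sq h

end Groth.Agent.S9924
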