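import Groth.Statements.S10121
import Mathlib
import Groth.Agent.S9938
import Groth.Agent.S10175

set_option autoImplicit false
universe u
open CategoryTheory CategoryTheory.Limits AlgebraicGeometry
open AlgSp

namespace Groth.Agent.S10121


open CategoryTheory.Limits Opposite MorphismProperty Groth.Agent.S13210 Groth.Agent.S9938

variable {S : Scheme.{u}}

/-- the point defined by a field-valued point given as a morphism. -/
noncomputable def ptOf {F : AlgSp.Sp S} {K : Type u} [Field K] (str : Spec (CommRingCat.of K) ⟶ S)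
    (a : (AlgSp.yon S).obj (Over.mk str) ⟶ F) : AlgSp.Points F :=
  AlgSp.Points.mk ⟨K, str, yEquiv _ F a⟩

lemma map_ptOf {F G : AlgSp.Sp S} (f : F ⟶ G) {K : Type u} [Field K]
    (str : Spec (CommRingCat.of K) ⟶ S) (a : (AlgSp.yon S).obj (Over.mk str) ⟶ F) :
    AlgSp.Points.map f (ptOf str a) = ptOf str (a ≫ f) := by
  rw [ptOf, ptOf, AlgSp.Points.map_mk, yEquiv_comp]
  rfl

lemma ptOf_restrict {F : AlgSp.Sp S} {K Ω : Type u} [Field K] [Field Ω]
    (str : Spec (CommRingCat.of K) ⟶ S) (w : Spec (CommRingCat.of Ω) ⟶ S)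
    (β : Over.mk w ⟶ Over.mk str) (a : (AlgSp.yon S).obj (Over.mk str) ⟶ F) :
    ptOf w ((AlgSp.yon S).map β ≫ a) = ptOf str a := by
  have h1 := Groth.Agent.S10175.mk_restrict (⟨K, str, yEquiv _ F a⟩ : AlgSp.FieldPt F) w β
  rw [ptOf, ptOf, ← h1]
  congr 2
  exact ((AlgSp.J S).uliftYonedaEquiv_naturality a β).symm

lemma exists_ptOf {F : AlgSp.Sp S} (x : AlgSp.Points F) :
    ∃ (K : Type u) (_ : Field K) (str : Spec (CommRingCat.of K) ⟶ S)
      (a : (AlgSp.yon S).obj (Over.mk str) ⟶ F), ptOf str a = x := by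
  obtain ⟨p, rfl⟩ := AlgSp.Points.mk_surjective x
  refine ⟨p.K, inferInstance, p.str, (yEquiv _ F).symm p.val, ?_⟩
  rw [ptOf, Equiv.apply_symm_apply]
  rfl

lemma exists_of_ptOf_eq {F : AlgSp.Sp S} {K K' : Type u} [Field K] [Field K']
    {str : Spec (CommRingCat.of K) ⟶ S} {str' : Spec (CommRingCat.of K') ⟶ S}
    {a : (AlgSp.yon S).obj (Over.mk str) ⟶ F} {a' : (AlgSp.yon S).obj (Over.mk str') ⟶ F}
    (h : ptOf str a = ptOf str' a') :
    ∃ (Ω : Type u) (_ : Field Ω) (w : Spec (CommRingCat.of Ω) ⟶ S) (β : Over.mk w ⟶ Over.mk str)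
      (β' : Over.mk w ⟶ Over.mk str'), (AlgSp.yon S).map β ≫ a = (AlgSp.yon S).map β' ≫ a' := by
  obtain ⟨Ω, _, w, β, β', hβ⟩ := AlgSp.Points.mk_eq_mk_iff.1 h
  refine ⟨Ω, inferInstance, w, β, β', ?_⟩
  apply (yEquiv _ F).injective
  have h1 := (AlgSp.J S).uliftYonedaEquiv_naturality a β
  have h2 := (AlgSp.J S).uliftYonedaEquiv_naturality a' β'
  exact h1.symm.trans (hβ.trans h2)



/-- For a pre-equivalence relation `s, t : R ⟶ U` of algebraic spaces, the relation on points of `U`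
given by `x ∼ y` when some point `r` of `R` has `t(r) = x` and `s(r) = y` is an equivalence relation
on `|U|`. -/
theorem result (S : Scheme.{u}) (R U : AlgSp.Sp S)
    (hR : AlgSp.IsAlgSpace R) (hU : AlgSp.IsAlgSpace U) (s t : R ⟶ U) (h : AlgSp.IsPreEqvRelSp s t) :
    _root_.Equivalence (fun x y : AlgSp.Points U =>
      ∃ r : AlgSp.Points R, AlgSp.Points.map t r = x ∧ AlgSp.Points.map s r = y) := by
  refine ⟨fun x => ?_, fun {x y} hxy => ?_, fun {x y z} hxy hyz => ?_⟩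
  · obtain ⟨K, _, str, a, rfl⟩ := exists_ptOf x
    obtain ⟨r, hr1, hr2⟩ := (h (Over.mk str)).refl a
    exact ⟨ptOf str r, by rw [map_ptOf, hr1], by rw [map_ptOf, hr2]⟩
  · obtain ⟨r, rfl, rfl⟩ := hxy
    obtain ⟨K, _, str, ρ, rfl⟩ := exists_ptOf r
    obtain ⟨ρ', h1, h2⟩ := (h (Over.mk str)).symm ⟨ρ, rfl, rfl⟩
    exact ⟨ptOf str ρ', by rw [map_ptOf, map_ptOf, h1], by rw [map_ptOf, map_ptOf, h2]⟩
  · obtain ⟨r₁, rfl, rfl⟩ := hxy
    obtain ⟨r₂, h2t, rfl⟩ := hyz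
    obtain ⟨K₁, _, str₁, ρ₁, rfl⟩ := exists_ptOf r₁
    obtain ⟨K₂, _, str₂, ρ₂, rfl⟩ := exists_ptOf r₂
    rw [map_ptOf, map_ptOf] at h2t
    obtain ⟨Ω, _, w, β₂, β₁, hβ⟩ := exists_of_ptOf_eq h2t
    obtain ⟨ρ₃, h3t, h3s⟩ := (h (Over.mk w)).trans
      ⟨(AlgSp.yon S).map β₁ ≫ ρ₁, rfl, rfl⟩ ⟨(AlgSp.yon S).map β₂ ≫ ρ₂, by
        rw [Category.assoc, Category.assoc, hβ], rfl⟩
    refine ⟨ptOf w ρ₃, ?_, ?_⟩
    · rw [map_ptOf, map_ptOf, h3t, Category.assoc, ptOf_restrict]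
    · rw [map_ptOf, map_ptOf, h3s, Category.assoc, ptOf_restrict]

end Groth.Agent.S10121
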