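import Groth.Statements.S10424
import Mathlib
import Groth.Agent.Lib.Helper12UnivBdd3

set_option autoImplicit false
universe u
open CategoryTheory CategoryTheory.Limits AlgebraicGeometry Topology TopologicalSpace
open AlgSp

namespace Groth.Agent.S10424





/-- Let X be an algebraic space over a scheme S, V ⟶ U a morphism of schemes over S and U ⟶ X a
morphism. Suppose that the fibres of V ⟶ U and of U ⟶ X are universally bounded. Then V ⟶ X also has
universally bounded fibres. -/
theorem result {S : Scheme.{u}} (X : AlgSp.Space S) {U V : Over S} (f : V ⟶ U)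
    (g : (AlgSp.yon S).obj U ⟶ X.obj) (hf : W4dec.HasUnivBddFibres ((AlgSp.yon S).map f)) (hg : W4dec.HasUnivBddFibres g) :
    W4dec.HasUnivBddFibres ((AlgSp.yon S).map f ≫ g) := by
  obtain ⟨n, hn⟩ := hf
  obtain ⟨m, hm⟩ := hg
  refine ⟨n * m, fun q T c snd sq => ?_⟩
  obtain ⟨sndV, rfl⟩ := (AlgSp.yon S).map_surjective snd
  obtain ⟨T', c', sndU', sq'⟩ := X.property.representable_from_yon g q.toHom
  obtain ⟨sndU, rfl⟩ := (AlgSp.yon S).map_surjective sndU'
  obtain ⟨hfin', hrank'⟩ := hm q T' c' _ sq'.flip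
  obtain ⟨r', hr1, hr2⟩ : ∃ r' : (AlgSp.yon S).obj T ⟶ (AlgSp.yon S).obj T',
      r' ≫ (AlgSp.yon S).map sndU = (AlgSp.yon S).map sndV ≫ (AlgSp.yon S).map f ∧
      r' ≫ (AlgSp.yon S).map c' = (AlgSp.yon S).map c :=
    ⟨sq'.lift ((AlgSp.yon S).map sndV ≫ (AlgSp.yon S).map f) ((AlgSp.yon S).map c)
      (by rw [Category.assoc]; exact sq.w.symm), sq'.lift_fst _ _ _, sq'.lift_snd _ _ _⟩
  obtain ⟨r, rfl⟩ := (AlgSp.yon S).map_surjective r'
  have hr1' : r ≫ sndU = sndV ≫ f := (AlgSp.yon S).map_injective (by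
    rw [Functor.map_comp, Functor.map_comp]; exact hr1)
  have hr2' : r ≫ c' = c := (AlgSp.yon S).map_injective (by
    rw [Functor.map_comp]; exact hr2)
  have sqRVy : IsPullback ((AlgSp.yon S).map r) ((AlgSp.yon S).map sndV) ((AlgSp.yon S).map sndU)
      ((AlgSp.yon S).map f) := by
    refine IsPullback.of_right ?_ hr1 sq'.flip
    rw [hr2]
    exact sq
  have sqRV : IsPullback r sndV sndU f := IsPullback.of_map (AlgSp.yon S) hr1' sqRVy
  have G1 : ∀ (L : Type u) [Field L] (e : Spec (CommRingCat.of L) ⟶ T'.left),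
      IsFinite (pullback.snd r.left e) ∧ ∀ s, (pullback.snd r.left e).finrank s ≤ n := by
    intro L _ e
    let eO : Over.mk (e ≫ T'.hom) ⟶ T' := Over.homMk e rfl
    have sqF := IsPullback.of_hasPullback r eO
    have sqP := sqF.flip.paste_vert sqRV
    have sqPy := sqP.map (AlgSp.yon S)
    let p : AlgSp.FieldPt ((AlgSp.yon S).obj U) :=
      Groth.Agent.Lib.Helper12.UnivBdd.fpOf (e ≫ T'.hom) ((AlgSp.yon S).map (eO ≫ sndU))
    have hp : p.toHom = (AlgSp.yon S).map (eO ≫ sndU) :=
      Groth.Agent.Lib.Helper12.UnivBdd.fpOf_toHom _ _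
    obtain ⟨h1, h2⟩ := hn p (pullback r eO) (pullback.snd r eO)
      ((AlgSp.yon S).map (pullback.fst r eO ≫ sndV)) (hp ▸ sqPy)
    have sqL : IsPullback (pullback.fst r eO).left (pullback.snd r eO).left r.left e :=
      sqF.map (Over.forget S)
    have hiso : sqL.isoPullback.hom ≫ pullback.snd r.left e = (pullback.snd r eO).left :=
      sqL.isoPullback_hom_snd
    have hsnd : pullback.snd r.left e = sqL.isoPullback.inv ≫ (pullback.snd r eO).left :=
      (Iso.eq_inv_comp _).2 hiso
    haveI h1' : IsFinite (pullback.snd r eO).left := h1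
    have h2' : ∀ s, (pullback.snd r eO).left.finrank s ≤ n := h2
    haveI : IsIntegral (Over.mk (e ≫ T'.hom)).left :=
      (inferInstance : IsIntegral (Spec (CommRingCat.of L)))
    haveI : Subsingleton ↥(Over.mk (e ≫ T'.hom)).left :=
      (inferInstance : Subsingleton (PrimeSpectrum L))
    haveI : Flat (pullback.snd r eO).left := inferInstance
    rw [hsnd]
    refine ⟨inferInstance, fun s => ?_⟩
    rw [Scheme.Hom.finrank_comp_left_of_isIso]
    exact h2' s
  haveI := hfin'
  haveI : IsFinite r.left := Groth.Agent.Lib.Helper12.UnivBdd.isFinite_of_fibres (K := q.K)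
    c'.left r.left (fun L _ e => (G1 L e).1)
  have hc : c.left = r.left ≫ c'.left := by rw [← hr2']; rfl
  rw [hc]
  refine ⟨inferInstance, fun s => ?_⟩
  calc (r.left ≫ c'.left).finrank s ≤ n * c'.left.finrank s :=
        Groth.Agent.Lib.Helper12.UnivBdd.finrank_comp_le (K := q.K) c'.left r.left n G1 s
    _ ≤ n * m := Nat.mul_le_mul_left _ (hrank' s)

end Groth.Agent.S10424
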