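import Groth.Statements.S10427
import Mathlib
import Groth.Agent.Lib.Helper12UnivBdd2

set_option autoImplicit false
universe u
open CategoryTheory CategoryTheory.Limits AlgebraicGeometry Topology TopologicalSpace
open AlgSp

namespace Groth.Agent.S10427





/-- Let X be an algebraic space over a scheme S and U ⟶ V ⟶ X with U, V schemes, U ⟶ V surjective and
flat. If U ⟶ X has universally bounded fibres, then so does V ⟶ X. -/
theorem result {S : Scheme.{u}} (X : AlgSp.Space S) {U V : Over S} (f : U ⟶ V)
    [Surjective f.left] [Flat f.left] (h : (AlgSp.yon S).obj V ⟶ X.obj) (hg : W4dec.HasUnivBddFibres ((AlgSp.yon S).map f ≫ h)) :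
    W4dec.HasUnivBddFibres h := by
  obtain ⟨n, hn⟩ := hg
  refine ⟨n, fun q T c snd sq => ?_⟩
  obtain ⟨sndm, rfl⟩ := (AlgSp.yon S).map_surjective snd
  have sqO := IsPullback.of_hasPullback sndm f
  have sqC := sqO.map (AlgSp.yon S)
  have sqL : IsPullback (pullback.fst sndm f).left (pullback.snd sndm f).left sndm.left f.left :=
    sqO.map (Over.forget S)
  have big := sqC.paste_horiz sq
  rw [← Functor.map_comp] at big
  obtain ⟨hfin, hrank⟩ := hn q _ (pullback.fst sndm f ≫ c) _ big
  haveI : Surjective (pullback.fst sndm f).left :=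
    MorphismProperty.of_isPullback (P := @Surjective) sqL.flip inferInstance
  haveI : Flat (pullback.fst sndm f).left :=
    MorphismProperty.of_isPullback (P := @Flat) sqL.flip inferInstance
  haveI : IsFinite ((pullback.fst sndm f).left ≫ c.left) := hfin
  have key := fun s => Groth.Agent.Lib.Helper12.UnivBdd.degLE_of_flat_surjective (K := q.K)
    (pullback.fst sndm f).left c.left s
  exact ⟨(key (IsLocalRing.closedPoint q.K : PrimeSpectrum q.K)).1,
    fun s => (key s).2.trans (hrank s)⟩

end Groth.Agent.S10427
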