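import Groth.Statements.S6150
import Groth.Agent.Lib.Helper21FreeAb2
import Groth.Agent.Lib.Helper21AcyclicClass

set_option autoImplicit false
universe u
open CategoryTheory
open ModSite

namespace Groth.Agent.S6150

open Groth.Agent.Lib.Helper21 Groth.Agent.Lib.Helper21.ModTensor3 Groth.Agent.Lib.Helper21.ModTensor5 Groth.Agent.Lib.Helper21.FreeAb Groth.Agent.Lib.Helper21.TorsFree Limits

/-- Ringed topos of sheaves on a small site with commutative structure sheaf O: for an O-module F and an
injective O-module G, the abelian sheaf underlying the internal hom Hom_O(F, G) is flasque, i.e.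
totally acyclic: H^q(K, Hom_O(F, G)) = 0 for every sheaf of sets K and every q > 0. The binder
providing Hom_O(F, -) as right adjoint of - (x)_O F always holds. -/
theorem result {C : Type u} [SmallCategory C] {J : GrothendieckTopology C}
    (O : Sheaf J CommRingCat.{u}) (F G : ModSite.Mod O) [ModSite.HasSheafHom F] [Injective G] :
    CohCx.IsTotallyAcyclic (ModSite.toAb ((ModSite.sheafHom F).obj G)) := by
  intro K p
  -- the adjunction `(O ⊗_ℤ -) ⊗_O F ⊣ toAb ∘ Hom_O(F, -)`
  let L : Sheaf J AddCommGrpCat.{u} ⥤ ModSite.Mod O := freeSh O ⋙ tR O F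
  let Φ : ModSite.Mod O ⥤ Sheaf J AddCommGrpCat.{u} :=
    ModSite.sheafHom F ⋙ SheafOfModules.toSheaf (ModSite.ringSh O)
  let adjL : L ⊣ Φ := (freeShAdj O).comp (ModSite.sheafHomAdj F)
  have key := AcyclicClass.ext_eq_zero (𝒜 := Sheaf J AddCommGrpCat.{u}) TF (Φ.obj G)
    (fun π _ hP _ => TF_kernel π hP)
    (fun A => by
      obtain ⟨K', π, hπ⟩ := exists_epi_freeAb A
      exact ⟨freeAb K', π, hπ, TF_freeAb K'⟩)
    (fun {E A} i g w hS hA => by
      have hSE := shortExact_map_freeSh_tensor O hS hA F
      haveI : Mono (L.map i) := hSE.mono_f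
      let ε : L.obj (Φ.obj G) ⟶ G := (adjL.homEquiv _ _).symm (𝟙 _)
      let ext : L.obj E ⟶ G := Injective.factorThru ε (L.map i)
      refine ⟨adjL.homEquiv _ _ ext, ?_⟩
      rw [← adjL.homEquiv_naturality_left, Injective.comp_factorThru]
      exact (adjL.homEquiv _ _).apply_symm_apply _)
  constructor
  intro x y
  rw [key p (freeAb K) (TF_freeAb K) x, key p (freeAb K) (TF_freeAb K) y]

end Groth.Agent.S6150
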