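import Groth.Statements.S0796
import Groth.Agent.Lib.Helper20StalkExact
import Groth.Agent.S0020
import Groth.Agent.S0791

set_option autoImplicit false
universe u
open Coherent

namespace Groth.Agent.S0796

open CategoryTheory AlgebraicGeometry in
/-- Part (2), through the usual criterion for Serre subcategories. Let S be locally Noetherian and f : X
→ S locally of finite type. For a short exact sequence 0 → F₁ → F₂ → F₃ → 0 of coherent O_X-modules,
the support of F₂ is proper over S if and only if the supports of F₁ and F₃ are. -/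
theorem result {X S : Scheme.{u}} (f : X ⟶ S) [LocallyOfFiniteType f]
    [IsLocallyNoetherian S] (E : ShortComplex X.Modules) (hE : E.ShortExact)
    (h₁ : Coh.IsCoh E.X₁) (h₂ : Coh.IsCoh E.X₂) (h₃ : Coh.IsCoh E.X₃) :
    ClSub.IsProperOver f (CohB1.support E.X₂) ↔
      ClSub.IsProperOver f (CohB1.support E.X₁) ∧ ClSub.IsProperOver f (CohB1.support E.X₃) := by
  have hsupp : CohB1.support E.X₂ = CohB1.support E.X₁ ∪ CohB1.support E.X₃ := by
    ext x
    show ¬ Subsingleton (E.X₂.presheaf.stalk x) ↔
      (¬ Subsingleton (E.X₁.presheaf.stalk x) ∨ ¬ Subsingleton (E.X₃.presheaf.stalk x))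
    rw [Groth.Agent.Lib.Helper20.StalkExact.subsingleton_stalk_iff E hE x, not_and_or]
  have hc₁ : IsClosed (CohB1.support E.X₁) := Groth.Agent.S0020.result X E.X₁ h₁.2
  have hc₃ : IsClosed (CohB1.support E.X₃) := Groth.Agent.S0020.result X E.X₃ h₃.2
  have hsub : ∀ {Z₁ Z₂ : Set X}, ClSub.IsProperOver f Z₂ → IsClosed Z₁ → Z₁ ⊆ Z₂ →
      ClSub.IsProperOver f Z₁ := by
    intro Z₁ Z₂ h hc hs
    obtain ⟨hc₂, hp⟩ := h
    refine ⟨hc, ?_⟩
    have hle : Scheme.IdealSheafData.vanishingIdeal ⟨Z₂, hc₂⟩ ≤
        Scheme.IdealSheafData.vanishingIdeal ⟨Z₁, hc⟩ :=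
      Scheme.IdealSheafData.vanishingIdeal_antimono hs
    haveI : IsClosedImmersion (Scheme.IdealSheafData.inclusion hle) := by
      have h1 := Scheme.IdealSheafData.inclusion_subschemeι hle
      have h2 : IsClosedImmersion (Scheme.IdealSheafData.inclusion hle ≫
          (Scheme.IdealSheafData.vanishingIdeal ⟨Z₂, hc₂⟩).subschemeι) := by
        rw [h1]; infer_instance
      exact IsClosedImmersion.of_comp (Scheme.IdealSheafData.inclusion hle)
        (Scheme.IdealSheafData.vanishingIdeal ⟨Z₂, hc₂⟩).subschemeι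
    rw [← Scheme.IdealSheafData.inclusion_subschemeι hle, Category.assoc]
    infer_instance
  rw [hsupp]
  constructor
  · intro h
    exact ⟨hsub h hc₁ Set.subset_union_left, hsub h hc₃ Set.subset_union_right⟩
  · rintro ⟨p₁, p₃⟩
    have := Groth.Agent.S0791.result f Bool (fun b => cond b (CohB1.support E.X₁) (CohB1.support E.X₃))
      (fun b => by cases b <;> assumption)
    rwa [← Set.union_eq_iUnion] at this

end Groth.Agent.S0796
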