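import Groth.Statements.S4851
-- import your own Groth.Agent.* helpers here
import Mathlib
import Groth.Agent.Lib.Helper26FPKer
import Groth.Agent.Lib.Helper2FinPushFP
import Groth.Agent.Lib.Helper2FlatOver2
import Groth.Agent.Lib.Helper2FlatOpen
import Groth.Agent.Lib.Helper2FPAff
import Groth.Agent.Lib.Helper2QCoh
import Groth.Agent.Lib.Helper2ModExact
import Groth.Agent.Lib.Helper23FinTypeLocal
import Groth.Agent.Lib.Helper23FPQuot
import Groth.Agent.Lib.Helper18Strict6

set_option autoImplicit false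
universe u
open EGA43

namespace Groth.Agent.S4851

open AlgebraicGeometry CategoryTheory Limits
open Groth.Agent.Lib.Helper2 Groth.Agent.Lib.Helper2.FlatOver Groth.Agent.Lib.Helper2.ModExact

/-- The stalk map of a morphism of `O_X`-modules, as a map of abelian groups. -/
noncomputable abbrev stalkHom {X : Scheme.{u}} {F G : X.Modules} (φ : F ⟶ G) (x : X) :
    F.presheaf.stalk x ⟶ G.presheaf.stalk x :=
  (TopCat.Presheaf.stalkFunctor AddCommGrpCat.{u} x).map (Scheme.Modules.Hom.mapPresheaf φ)

theorem stalkHom_germ {X : Scheme.{u}} {F G : X.Modules} (φ : F ⟶ G) (x : X) (U : X.Opens) (hx : x ∈ U)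
    (m : Γ(F, U)) :
    stalkHom φ x (F.presheaf.germ U x hx m) =
      G.presheaf.germ U x hx (Scheme.Modules.Hom.app φ U m) :=
  (germ_app φ U x hx m).symm

theorem stalkHom_smul {X : Scheme.{u}} {F G : X.Modules} (φ : F ⟶ G) (x : X) (r : X.presheaf.stalk x)
    (y : F.presheaf.stalk x) : stalkHom φ x (r • y) = r • stalkHom φ x y := by
  obtain ⟨V, hxV, t, rfl⟩ := F.presheaf.exists_germ_eq y
  obtain ⟨V', hxV', r', rfl⟩ := X.presheaf.exists_germ_eq r
  have hxW : x ∈ V ⊓ V' := ⟨hxV, hxV'⟩
  have h1 : F.presheaf.germ V x hxV t = F.presheaf.germ (V ⊓ V') x hxW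
      (F.presheaf.map (homOfLE inf_le_left).op t) :=
    (TopCat.Presheaf.germ_res_apply F.presheaf (homOfLE inf_le_left) x hxW t).symm
  have h2 : X.presheaf.germ V' x hxV' r' = X.presheaf.germ (V ⊓ V') x hxW
      (X.presheaf.map (homOfLE inf_le_right).op r') :=
    (TopCat.Presheaf.germ_res_apply X.presheaf (homOfLE inf_le_right) x hxW r').symm
  rw [h1, h2, ← QCoh.germ_smul, stalkHom_germ, stalkHom_germ, app_smul, QCoh.germ_smul]

open AlgebraicGeometry CategoryTheory Limits in
/-- Let f : X ⟶ Y be locally of finite presentation, F and F' quasi-coherent O_X-modules of finite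
presentation and u : F' ⟶ F a homomorphism. Then the set of points x of X at which the stalk map u_x
is injective and Coker u is f-flat at x is open in X. (No flatness hypothesis on F is made; the form
of this openness statement in which F is moreover assumed f-flat is a special case.) -/
theorem result {X Y : Scheme.{u}} (f : X ⟶ Y)
    [LocallyOfFinitePresentation f] (F F' : X.Modules) [Coh.IsQCoh F] [Coh.IsQCoh F']
    (hF : CohB1.IsFP F) (hF' : CohB1.IsFP F') (u : F' ⟶ F) :
    IsOpen {x : X | Function.Injective ((TopCat.Presheaf.stalkFunctor Ab x).map (Scheme.Modules.Hom.mapPresheaf u)) ∧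
      FlatMod.IsFlatOverAt f (cokernel u) x} := by
  haveI : F.IsQuasicoherent := ‹Coh.IsQCoh F›
  haveI : F'.IsQuasicoherent := ‹Coh.IsQCoh F'›
  haveI : SheafOfModules.IsFinitePresentation (R := X.ringCatSheaf) F := hF
  haveI : SheafOfModules.IsFinitePresentation (R := X.ringCatSheaf) F' := hF'
  haveI : SheafOfModules.IsFiniteType (R := X.ringCatSheaf) F' :=
    Groth.Agent.Helper18Strict.isFT_of_isFP F' hF'
  obtain ⟨hCq, hCfp⟩ := Groth.Agent.Lib.Helper23.FPQuot.isFP_cokernel u
  haveI hCq' : (cokernel u).IsQuasicoherent := hCq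
  haveI hCfp' : SheafOfModules.IsFinitePresentation (R := X.ringCatSheaf) (cokernel u : X.Modules) := hCfp
  let π : F ⟶ cokernel u := cokernel.π u
  let I : X.Modules := kernel π
  haveI hIq : I.IsQuasicoherent := Groth.Agent.Lib.Helper23.QCohLocal.isQuasicoherent_kernel π
  let q : F' ⟶ I := Abelian.factorThruImage u
  haveI hq : Epi q := inferInstanceAs (Epi (Abelian.factorThruImage u))
  let ι : I ⟶ F := kernel.ι π
  have hqι : q ≫ ι = u := Abelian.image.fac u
  have hW := FinPres.isOpen_setOf_isFlatOverAt f (cokernel u)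
  rw [isOpen_iff_forall_mem_open]
  rintro x ⟨hxinj, hxflat⟩
  -- charts
  obtain ⟨V, hV, hxV⟩ : ∃ V : Y.Opens, IsAffineOpen V ∧ f.base x ∈ V := by
    obtain ⟨_, ⟨V, hV, rfl⟩, hxV, -⟩ :=
      Y.isBasis_affineOpens.exists_subset_of_mem_open (Set.mem_univ (f.base x)) isOpen_univ
    exact ⟨V, hV, hxV⟩
  let W : X.Opens := ⟨_, hW⟩ ⊓ f ⁻¹ᵁ V
  have hxW : x ∈ W := ⟨hxflat, hxV⟩
  obtain ⟨U, hU, hxU, hUW⟩ : ∃ U : X.Opens, IsAffineOpen U ∧ x ∈ U ∧ U ≤ W := by
    obtain ⟨_, ⟨U, hU, rfl⟩, hxU, hUle⟩ :=
      X.isBasis_affineOpens.exists_subset_of_mem_open hxW W.isOpen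
    exact ⟨U, hU, hxU, hUle⟩
  have e : U ≤ f ⁻¹ᵁ V := hUW.trans inf_le_right
  have hUflat : ∀ y : X, y ∈ U → FlatMod.IsFlatOverAt f (cokernel u) y := fun y hy => (hUW hy).1
  -- ring-level data
  letI : Algebra Γ(Y, V) Γ(X, U) := (f.appLE V U e).hom.toAlgebra
  haveI : Algebra.FinitePresentation Γ(Y, V) Γ(X, U) := f.finitePresentation_appLE hV hU e
  haveI : Module.FinitePresentation Γ(X, U) Γ(F, U) := FPAff.finitePresentation_sections F hU
  haveI : Module.FinitePresentation Γ(X, U) Γ(F', U) := FPAff.finitePresentation_sections F' hU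
  haveI : Module.FinitePresentation Γ(X, U) Γ(cokernel u, U) :=
    FPAff.finitePresentation_sections (cokernel u) hU
  letI : Module Γ(Y, V) Γ(cokernel u, U) := Module.compHom Γ(cokernel u, U) (f.appLE V U e).hom
  haveI : IsScalarTower Γ(Y, V) Γ(X, U) Γ(cokernel u, U) :=
    ⟨fun a b m => by
      change ((f.appLE V U e).hom a * b) • m = (f.appLE V U e).hom a • (b • m)
      rw [mul_smul]⟩
  haveI : Module.Flat Γ(Y, V) Γ(cokernel u, U) :=
    flat_sections_of_isFlatOverAt f (cokernel u) hU hV e hUflat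
  let πU : Γ(F, U) →ₗ[Γ(X, U)] Γ(cokernel u, U) :=
    { toFun := fun m => Scheme.Modules.Hom.app π U m
      map_add' := fun a b => map_add _ a b
      map_smul' := fun a m => ModExact.app_smul π U a m }
  have hπU : Function.Surjective πU :=
    Groth.Agent.Lib.Helper23.FinType.surjective_app_of_epi π hU
  have hker : Module.FinitePresentation Γ(X, U) (LinearMap.ker πU) :=
    Groth.Agent.Lib.Helper26.FPKer.finitePresentation_ker Γ(Y, V) Γ(X, U) Γ(cokernel u, U) πU hπU
  -- identify the sections of the kernel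
  let T : ShortComplex X.Modules := ShortComplex.mk (kernel.ι π) π (kernel.condition π)
  have hT : T.ShortExact :=
    { exact := ShortComplex.exact_kernel π
      mono_f := inferInstanceAs (Mono (kernel.ι π))
      epi_g := inferInstanceAs (Epi π) }
  let ιU : Γ(I, U) →ₗ[Γ(X, U)] Γ(F, U) :=
    { toFun := fun m => Scheme.Modules.Hom.app ι U m
      map_add' := fun a b => map_add _ a b
      map_smul' := fun a m => ModExact.app_smul ι U a m }
  have hιinj : Function.Injective ιU := ModExact.app_injective_of_mono ι U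
  have hrange : LinearMap.range ιU = LinearMap.ker πU := by
    ext m
    constructor
    · rintro ⟨t, rfl⟩
      rw [LinearMap.mem_ker]
      change Scheme.Modules.Hom.app π U (Scheme.Modules.Hom.app ι U t) = 0
      have h0 : ι ≫ π = 0 := kernel.condition π
      have h1 : Scheme.Modules.Hom.app (ι ≫ π) U t = 0 := by
        rw [h0]; rfl
      exact h1
    · intro hm
      obtain ⟨t, ht⟩ := ModExact.exists_app_eq_of_shortExact T hT U m hm
      exact ⟨t, ht⟩
  have e1 : Γ(I, U) ≃ₗ[Γ(X, U)] LinearMap.range ιU := LinearEquiv.ofInjective ιU hιinj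
  have e2 : LinearMap.range ιU ≃ₗ[Γ(X, U)] LinearMap.ker πU := LinearEquiv.ofEq _ _ hrange
  haveI hIfp : Module.FinitePresentation Γ(X, U) Γ(I, U) :=
    Module.FinitePresentation.of_equiv (R := Γ(X, U)) (M := LinearMap.ker πU)
      (N := Γ(I, U)) (e1.trans e2).symm
  let qU : Γ(F', U) →ₗ[Γ(X, U)] Γ(I, U) :=
    { toFun := fun m => Scheme.Modules.Hom.app q U m
      map_add' := fun a b => map_add _ a b
      map_smul' := fun a m => ModExact.app_smul q U a m }
  have hqU : Function.Surjective qU :=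
    Groth.Agent.Lib.Helper23.FinType.surjective_app_of_epi q hU
  have hLfg : (LinearMap.ker qU).FG := Module.FinitePresentation.fg_ker qU hqU
  have huq : ∀ m : Γ(F', U), Scheme.Modules.Hom.app u U m =
      Scheme.Modules.Hom.app ι U (Scheme.Modules.Hom.app q U m) := by
    intro m
    rw [← hqι]
    rfl
  -- kill the generators of the kernel near `x`
  classical
  obtain ⟨s, hs⟩ := hLfg
  have hkill : ∀ l : Γ(F', U), l ∈ s → ∃ t : Γ(X, U), x ∈ X.basicOpen t ∧ t • l = 0 := by
    intro l hl
    have hl' : Scheme.Modules.Hom.app q U l = 0 := by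
      have h0 : l ∈ LinearMap.ker qU := by
        rw [← hs]
        exact Submodule.subset_span hl
      exact (LinearMap.mem_ker (f := qU)).1 h0
    have hul : Scheme.Modules.Hom.app u U l = 0 := by
      rw [huq, hl', map_zero]
    have hg : F'.presheaf.germ U x hxU l = 0 := by
      refine (injective_iff_map_eq_zero _).1 hxinj _ ?_
      change stalkHom u x (F'.presheaf.germ U x hxU l) = 0
      rw [stalkHom_germ, hul, map_zero]
    exact QCoh.exists_smul_eq_zero_of_germ_eq_zero hU F' x hxU l hg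
  choose! t ht1 ht2 using hkill
  let h : Γ(X, U) := ∏ l ∈ s, t l
  have hxh : x ∈ X.basicOpen h := by
    have : ∀ s' : Finset Γ(F', U), s' ⊆ s → x ∈ X.basicOpen (∏ l ∈ s', t l) := by
      intro s'
      induction s' using Finset.induction_on with
      | empty =>
        intro _
        rw [Finset.prod_empty, Scheme.basicOpen_of_isUnit _ isUnit_one]
        exact hxU
      | insert a s' ha ih =>
        intro hsub
        rw [Finset.prod_insert ha, Scheme.basicOpen_mul]
        exact ⟨ht1 a (hsub (Finset.mem_insert_self a s')),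
          ih (fun b hb => hsub (Finset.mem_insert_of_mem hb))⟩
    exact this s (Finset.Subset.refl s)
  have hh : ∀ l : Γ(F', U), l ∈ LinearMap.ker qU → h • l = 0 := by
    intro l hl
    rw [← hs] at hl
    induction hl using Submodule.span_induction with
    | mem l hl =>
      have : h = (∏ l' ∈ s.erase l, t l') * t l := by
        rw [Finset.prod_erase_mul s t hl]
      rw [this, mul_smul, ht2 l hl, smul_zero]
    | zero => exact smul_zero h
    | add a b _ _ ha hb => rw [smul_add, ha, hb, add_zero]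
    | smul r a _ ha => rw [smul_comm, ha, smul_zero]
  refine ⟨X.basicOpen h, ?_, (X.basicOpen h).isOpen, hxh⟩
  intro x' hx'
  have hx'U : x' ∈ U := X.basicOpen_le h hx'
  refine ⟨?_, hUflat x' hx'U⟩
  -- injectivity of the stalk map at `x'`
  change Function.Injective (stalkHom u x')
  rw [injective_iff_map_eq_zero]
  intro ξ hξ
  obtain ⟨s₁, m', hs₁, hm'⟩ := QCoh.exists_smul_eq_germ hU F' x' hx'U ξ
  have h1 : F.presheaf.germ U x' hx'U (Scheme.Modules.Hom.app u U m') = 0 := by
    rw [← stalkHom_germ, ← hm', stalkHom_smul, hξ, smul_zero]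
  obtain ⟨t₁, ht₁, ht₁m⟩ := QCoh.exists_smul_eq_zero_of_germ_eq_zero hU F x' hx'U _ h1
  have h2 : t₁ • m' ∈ LinearMap.ker qU := by
    rw [LinearMap.mem_ker]
    apply hιinj
    rw [map_zero]
    change Scheme.Modules.Hom.app ι U (Scheme.Modules.Hom.app q U (t₁ • m')) = 0
    rw [← huq, ModExact.app_smul, ht₁m]
  have h3 : h • (t₁ • m') = 0 := hh _ h2
  have h4 : X.presheaf.germ U x' hx'U (h * t₁ * s₁) • ξ = 0 := by
    rw [map_mul, mul_smul, hm', ← QCoh.germ_smul, mul_smul, h3, map_zero]
  have hunit : IsUnit (X.presheaf.germ U x' hx'U (h * t₁ * s₁)) := by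
    rw [← Scheme.mem_basicOpen, Scheme.basicOpen_mul, Scheme.basicOpen_mul]
    exact ⟨⟨hx', ht₁⟩, hs₁⟩
  exact QCoh.germ_smul_eq_zero_of_isUnit hunit h4

end Groth.Agent.S4851
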