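import Groth.Statements.S2066
import Mathlib
import Groth.Agent.Lib.Helper1PCTower
-- import your own Groth.Agent.* helpers here

set_option autoImplicit false
universe u
open CategoryTheory
attribute [local instance] HasDerivedCategory.standard
open CAlg

namespace Groth.Agent.S2066

open Groth.Agent.Lib.Helper1.PC Groth.Agent.Lib.Helper1.PCTower

/-- An object `K` of `D(A)` is `m`-pseudo-coherent for every integer `m` if and only if some bounded
above complex of finite free modules represents it in `D(A)` ((1) iff (2)), and also if and only if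
some bounded above complex of finite projective modules represents it ((2) iff (3)). -/
theorem result {A : Type u} [CommRing A] (K : Dual.D A) :
    ((∀ m : ℤ, DRing.IsPseudoCoherent A m K) ↔ DRing.IsPseudoCoherent' A K) ∧
      ((∀ m : ℤ, DRing.IsPseudoCoherent A m K) ↔ ∃ (E : DRing.Cx A) (b : ℤ), DRing.VanishesAbove E b ∧
        DRing.TermwiseFiniteProjective E ∧ Nonempty (DRing.toD E ≅ K)) := by
  have key : ∀ (E : DRing.Cx A) (b : ℤ), DRing.VanishesAbove E b →
      DRing.TermwiseFiniteProjective E → Nonempty (DRing.toD E ≅ K) →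
      ∀ m : ℤ, DRing.IsPseudoCoherent A m K := by
    rintro E b hE hP ⟨e⟩ m
    exact isPC_of_iso e (isPC_of_bddAbove_finProj E b hE hP m)
  refine ⟨⟨isPseudoCoherent'_of_forall K, ?_⟩, ⟨fun h => ?_, ?_⟩⟩
  · rintro ⟨E, b, hE, hff, he⟩
    exact key E b hE (fun i => ⟨(hff i).1, have := (hff i).2; Module.Projective.of_free⟩) he
  · obtain ⟨E, b, hE, hff, he⟩ := isPseudoCoherent'_of_forall K h
    exact ⟨E, b, hE, fun i => ⟨(hff i).1, have := (hff i).2; Module.Projective.of_free⟩, he⟩
  · rintro ⟨E, b, hE, hP, he⟩
    exact key E b hE hP he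

end Groth.Agent.S2066
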