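import Groth.Statements.S0960
import Mathlib
import Groth.Agent.Lib.Helper1KBC6
import Groth.Agent.Lib.Helper1PT4
import Groth.Agent.Lib.Helper1LDer2
import Groth.Agent.Lib.Helper1BKF17
-- import your own Groth.Agent.* helpers here

set_option autoImplicit false
universe u
open CategoryTheory
attribute [local instance] HasDerivedCategory.standard
open DCoh

namespace Groth.Agent.S0960

open AlgebraicGeometry Groth.Agent.Lib.Helper1.KBC Groth.Agent.Lib.Helper1.Sky
  Groth.Agent.Lib.Helper1.BKF Groth.Agent.Lib.Helper1.PT in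
/-- the termwise pullback of a K-flat complex is K-flat -/
theorem isKFlat_pullC {X Y : Scheme.{u}} (f : X ⟶ Y) (K : CochainComplex Y.Modules ℤ)
    (hK : DCoh.IsKFlat K) : DCoh.IsKFlat ((pullC f).obj K) := by
  apply isKFlat_of_forall_stalk
  intro x
  have h1 : RKFlat ((stalkC (f x)).obj K) := rKFlat_stalk_of_isKFlat (f x) K hK
  have h2 : RKFlat (((ext (f.stalkMap x).hom).mapHomologicalComplex (ComplexShape.up ℤ)).obj
      ((stalkC (f x)).obj K)) := fun M hM =>
    acyc_mapBifunctor_ext (f.stalkMap x).hom M ((stalkC (f x)).obj K) h1 hM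
  refine RKFlat.of_iso ?_ h2
  exact (HomologicalComplex.Hom.isoOfComponents (fun i => (stalkPullbackIso f x).app (K.X i))
    (fun i j _ => ((stalkPullbackIso f x).hom.naturality (K.d i j)).symm)).symm

open AlgebraicGeometry Groth.Agent.Lib.Helper1.KBC Groth.Agent.Lib.Helper1.Sky
  Groth.Agent.Lib.Helper1.BKF Groth.Agent.Lib.Helper1.PT in
theorem aux {X Y : Scheme.{u}} (f : X ⟶ Y) [DCoh.HasLpull f] (L : CochainComplex Y.Modules ℤ)
    (hL : DCoh.IsKFlat L) [DCoh.HasLTensorCx L] [DCoh.HasLTensorCx ((pullC f).obj L)]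
    (K : DCoh.D Y) :
    Nonempty ((DCoh.Lpull f).obj ((DCoh.LTensorCx L).obj K) ≅
      (DCoh.LTensorCx ((pullC f).obj L)).obj ((DCoh.Lpull f).obj K)) := by
  -- a K-flat representative of `K`
  let F0 := (DerivedCategory.Q (C := Y.Modules)).objPreimage K
  have e0 : DerivedCategory.Q.obj F0 ≅ K := (DerivedCategory.Q (C := Y.Modules)).objObjPreimageIso K
  obtain ⟨P, q, hP, -, hq, -⟩ := exists_kflat_flat_resolution (O := Y.sheaf) F0
  haveI : QuasiIso q := hq
  have hP' : DCoh.IsKFlat P := hP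
  haveI : IsIso (DerivedCategory.Q.map q) := by
    rw [DerivedCategory.isIso_Q_map_iff_quasiIso]; exact hq
  have eK : K ≅ DerivedCategory.Q.obj P := e0.symm ≪≫ (asIso (DerivedCategory.Q.map q)).symm
  -- left hand side
  have hPL : DCoh.IsKFlat ((DCoh.tensorCx.obj P).obj L) :=
    isKFlat_tensorCx (O := Y.sheaf) P L hP hL
  haveI hI1 : ModSite.HasLTensorCx (O := Y.sheaf) L := (inferInstance : DCoh.HasLTensorCx L)
  haveI hI2 : ModSite.HasLTensorCx (O := X.sheaf) ((pullC f).obj L) :=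
    (inferInstance : DCoh.HasLTensorCx ((pullC f).obj L))
  have i1 : (DCoh.LTensorCx L).obj (DerivedCategory.Q.obj P) ≅
      DerivedCategory.Q.obj ((DCoh.tensorCx.obj P).obj L) :=
    lTensorCxIsoOfIsKFlat (O := Y.sheaf) L P hP
  have i2 := lpullIsoK f ((DCoh.tensorCx.obj P).obj L) hPL
  obtain ⟨i3⟩ := nonempty_pullTotIso f P L
  -- right hand side
  have hfP : DCoh.IsKFlat ((pullC f).obj P) := isKFlat_pullC f P hP'
  have j1 := lpullIsoK f P hP'
  have j2 : (DCoh.LTensorCx ((pullC f).obj L)).obj (DerivedCategory.Q.obj ((pullC f).obj P)) ≅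
      DerivedCategory.Q.obj ((DCoh.tensorCx.obj ((pullC f).obj P)).obj ((pullC f).obj L)) :=
    lTensorCxIsoOfIsKFlat (O := X.sheaf) ((pullC f).obj L) ((pullC f).obj P) hfP
  exact ⟨(DCoh.Lpull f).mapIso ((DCoh.LTensorCx L).mapIso eK ≪≫ i1) ≪≫ i2 ≪≫
    DerivedCategory.Q.mapIso i3 ≪≫ j2.symm ≪≫
    (DCoh.LTensorCx ((pullC f).obj L)).mapIso (j1.symm ≪≫ (DCoh.Lpull f).mapIso eK.symm)⟩

open AlgebraicGeometry in
/-- Schemes; second factor given by a K-flat complex L, so that Lf^* L is the plain pullback f^* L: for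
f : X -> Y, K in D(O_Y) and a K-flat complex L of O_Y-modules there is an isomorphism Lf^*(K ⊗^L L)
≅ (Lf^* K) ⊗^L (f^* L). The derived functors are taken under their existence binders; the assertion
is the existence of an isomorphism for each K. -/
theorem result {X Y : Scheme.{u}} (f : X ⟶ Y) [DCoh.HasLpull f] (L : CochainComplex Y.Modules ℤ)
    (hL : DCoh.IsKFlat L) [DCoh.HasLTensorCx L] [DCoh.HasLTensorCx (((Scheme.Modules.pullback f).mapHomologicalComplex (ComplexShape.up ℤ)).obj L)] (K : DCoh.D Y) :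
    Nonempty ((DCoh.Lpull f).obj ((DCoh.LTensorCx L).obj K) ≅
      (DCoh.LTensorCx (((Scheme.Modules.pullback f).mapHomologicalComplex (ComplexShape.up ℤ)).obj L)).obj ((DCoh.Lpull f).obj K)) := by
  exact aux f L hL K

end Groth.Agent.S0960
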