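import Groth.Statements.S15270
import Groth.Agent.Lib.Helper12XiFibreC
import Groth.Agent.Lib.Helper27ProjSpaceFibres

set_option autoImplicit false
open CategoryTheory CategoryTheory.Limits AlgebraicGeometry
open Coherent

namespace Groth.Agent.S15270

/-- Over the complex numbers, let S be a separated scheme of finite type, X a closed subscheme of
projective n-space over S which is flat over S, and ξ a section of X over S. Let F be a coherent
sheaf on X, flat over S, such that for every complex point t of S the restriction F_t to the fibre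
X_t, polarised by the pull-back of O(1), is semistable of dimension d (nonzero, pure of dimension d,
reduced Hilbert polynomials of nonzero proper coherent subsheaves at most that of F_t for large
arguments) and has a filtration by coherent subsheaves with stable d-dimensional successive
quotients of the reduced Hilbert polynomial of F_t whose associated graded sheaf is finite locally
free on an open neighbourhood of the point ξ(t). Then F is locally free along ξ: for every complex
point t of S, F is finite locally free on an open neighbourhood of the point ξ(t) of X. (The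
published statement is for modules over a sheaf of rings of differential operators, on a projective
flat family with irreducible fibres of dimension d, and uses closed points; this row is the case of
the structure sheaf with complex points, which are the closed points here, and does not assume the
fibres irreducible.) -/
theorem result
    (S : Scheme.{0}) (sS : S ⟶ Spec (CommRingCat.of ℂ)) [LocallyOfFiniteType sS] [QuasiCompact sS] [IsSeparated sS]
    (n : ℕ) (X : Scheme.{0}) (i : X ⟶ CohB1.ProjSpaceOver n S) [IsClosedImmersion i] [Flat (i ≫ (CohB1.ProjSpaceOver n S ↘ S))] (d : ℕ)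
    (ξ : S ⟶ X) (hξ : ξ ≫ (i ≫ (CohB1.ProjSpaceOver n S ↘ S)) = 𝟙 S)
    (F : X.Modules) (hF : Coh.IsCoh F) (hFfl : FlatMod.IsFlatOver (i ≫ (CohB1.ProjSpaceOver n S ↘ S)) F)
    (hss : ∀ (t : Spec (CommRingCat.of ℂ) ⟶ S), t ≫ sS = 𝟙 (Spec (CommRingCat.of ℂ)) →
      @ShStab.IsSemistable ℂ _ (PicF.XT (i ≫ (CohB1.ProjSpaceOver n S ↘ S)) (Over.mk t)) ⟨PicF.XTproj (i ≫ (CohB1.ProjSpaceOver n S ↘ S)) (Over.mk t)⟩ ((Scheme.Modules.pullback (pullback.fst (i ≫ (CohB1.ProjSpaceOver n S ↘ S)) (Over.mk t).hom ≫ i)).obj (Twist.twistOver n S 1)) ((Scheme.Modules.pullback (pullback.fst (i ≫ (CohB1.ProjSpaceOver n S ↘ S)) (Over.mk t).hom)).obj F) d)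
    (hLF : ∀ (t : Spec (CommRingCat.of ℂ) ⟶ S), t ≫ sS = 𝟙 (Spec (CommRingCat.of ℂ)) →
      ∃ sF : LTSeries (Subobject ((Scheme.Modules.pullback (pullback.fst (i ≫ (CohB1.ProjSpaceOver n S ↘ S)) (Over.mk t).hom)).obj F)), @ShStab.IsJHFiltration ℂ _ (PicF.XT (i ≫ (CohB1.ProjSpaceOver n S ↘ S)) (Over.mk t)) ⟨PicF.XTproj (i ≫ (CohB1.ProjSpaceOver n S ↘ S)) (Over.mk t)⟩ ((Scheme.Modules.pullback (pullback.fst (i ≫ (CohB1.ProjSpaceOver n S ↘ S)) (Over.mk t).hom ≫ i)).obj (Twist.twistOver n S 1)) ((Scheme.Modules.pullback (pullback.fst (i ≫ (CohB1.ProjSpaceOver n S ↘ S)) (Over.mk t).hom)).obj F) d sF ∧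
        ∀ x ∈ Set.range (PicF.secT (i ≫ (CohB1.ProjSpaceOver n S ↘ S)) ξ hξ (Over.mk t)).base, ∃ V : (PicF.XT (i ≫ (CohB1.ProjSpaceOver n S ↘ S)) (Over.mk t)).Opens, x ∈ V ∧ FlatMod.IsFinLocFree ((StabCat.grObj sF).restrict V.ι))
    (t : Spec (CommRingCat.of ℂ) ⟶ S) (ht : t ≫ sS = 𝟙 (Spec (CommRingCat.of ℂ))) :
    ∀ x ∈ Set.range (t ≫ ξ).base, ∃ U : X.Opens, x ∈ U ∧ FlatMod.IsFinLocFree (F.restrict U.ι) := by
  intro x hx
  obtain ⟨p, rfl⟩ := hx
  haveI : IsLocallyNoetherian S := LocallyOfFiniteType.isLocallyNoetherian sS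
  haveI : IsProper (CohB1.ProjSpaceOver n S ↘ S) :=
    Groth.Agent.Lib.Helper27ProjSpaceFibres.isProper_toBase n S
  haveI : LocallyOfFiniteType (i ≫ (CohB1.ProjSpaceOver n S ↘ S)) := inferInstance
  haveI : IsLocallyNoetherian X :=
    LocallyOfFiniteType.isLocallyNoetherian (i ≫ (CohB1.ProjSpaceOver n S ↘ S))
  -- the residue field of the image point is `ℂ`
  let s : S := t (IsLocalRing.closedPoint ℂ)
  let τ : S.residueField s ⟶ CommRingCat.of ℂ := S.descResidueField (Scheme.stalkClosedPointTo t)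
  have hτ : Spec.map τ ≫ S.fromSpecResidueField s = t :=
    Scheme.descResidueField_stalkClosedPointTo_fromSpecResidueField ℂ S t
  haveI : IsIso τ := by
    let q : Spec (S.residueField s) ⟶ Spec (CommRingCat.of ℂ) := S.fromSpecResidueField s ≫ sS
    let σ₀ : CommRingCat.of ℂ ⟶ S.residueField s := Spec.preimage q
    have hq : Spec.map σ₀ = q := Spec.map_preimage q
    have h1 : σ₀ ≫ τ = 𝟙 _ := by
      apply Spec.map_injective
      rw [Spec.map_comp, hq, Spec.map_id]
      show Spec.map τ ≫ S.fromSpecResidueField s ≫ sS = _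
      rw [← Category.assoc, hτ, ht]
    rw [ConcreteCategory.isIso_iff_bijective]
    refine ⟨RingHom.injective τ.hom, fun c => ⟨σ₀.hom c, ?_⟩⟩
    exact congrArg (fun φ => φ.hom c) h1
  let x' := (PicF.secT (i ≫ (CohB1.ProjSpaceOver n S ↘ S)) ξ hξ (Over.mk t)).base p
  have hx' : (pullback.fst (i ≫ (CohB1.ProjSpaceOver n S ↘ S)) t).base x' = (t ≫ ξ).base p := by
    show (pullback.fst (i ≫ (CohB1.ProjSpaceOver n S ↘ S)) t).base
      ((PicF.secT (i ≫ (CohB1.ProjSpaceOver n S ↘ S)) ξ hξ (Over.mk t)).base p) = _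
    have hfac : PicF.secT (i ≫ (CohB1.ProjSpaceOver n S ↘ S)) ξ hξ (Over.mk t) ≫
        pullback.fst (i ≫ (CohB1.ProjSpaceOver n S ↘ S)) t = t ≫ ξ := by
      unfold PicF.secT
      exact pullback.lift_fst _ _ _
    rw [← Scheme.Hom.comp_apply, hfac]
  obtain ⟨sF, hsF, hgr⟩ := hLF t ht
  have hgr' : Groth.Agent.Lib.Helper12.XiA.LFnear (StabCat.grObj sF) x' := hgr x' ⟨p, rfl⟩
  have hFt := Groth.Agent.Lib.Helper12.XiC.LFnear.of_chain sF hsF.1 hsF.2.1
    (Groth.Agent.Lib.Helper12.XiA.LFnear.factor sF hgr')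
  have := Groth.Agent.Lib.Helper12.XiC.lfnear_of_fibre (i ≫ (CohB1.ProjSpaceOver n S ↘ S)) F hF hFfl t s τ hτ
    x' hFt
  rw [hx'] at this
  exact this

end Groth.Agent.S15270
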