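import Groth.Statements.S10369
import Mathlib
import Groth.Agent.S9929
import Groth.Agent.S9885
import Groth.Agent.S9948
import Groth.Agent.S9906
import Groth.Agent.S10175
import Groth.Agent.Lib.Helper12LocPCases

set_option autoImplicit false
universe u
open CategoryTheory CategoryTheory.Limits AlgebraicGeometry Topology TopologicalSpace
open AlgSp

namespace Groth.Agent.S10369





/-- Let S be a scheme, Z' and Z algebraic spaces over S, and Z' ⟶ Z a monomorphism, and suppose there is
a locally finitely presented, flat, surjective morphism Spec k ⟶ Z from the spectrum of a field.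
Then Z' is empty or Z' ⟶ Z is an isomorphism. -/
theorem result {S : Scheme.{u}} {Z' Z : AlgSp.Space S} (f : Z' ⟶ Z)
    [Mono f.hom]
    (hZ : ∃ (k : Type u) (_ : Field k) (str : Spec (CommRingCat.of k) ⟶ S) (p : (AlgSp.yon S).obj (Over.mk str) ⟶ Z.obj),
        AlgSp.LocP @LocallyOfFinitePresentation p ∧ AlgSp.LocP @Flat p ∧ AlgSp.IsSurjectiveMor p) :
    IsEmpty (AlgSp.Points Z'.obj) ∨ IsIso f := by
  obtain ⟨k, _, str, p, hlfp, hfl, hsurj⟩ := hZ
  by_cases hne : Nonempty (AlgSp.Points Z'.obj)
  swap
  · left
    exact not_nonempty_iff.1 hne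
  right
  obtain ⟨z'⟩ := hne
  have hgf := Groth.Agent.Lib.Helper12.LocPCases.good_flat.{u}
  have hgp := Groth.Agent.Lib.Helper12.LocPCases.good_lfp.{u}
  have hrep : AlgSp.Representable p := Z.property.representable_from_yon p
  -- `p` is an epimorphism
  haveI : Epi p := by
    haveI := hgf.bc
    haveI := hgf.comp
    haveI := hgf.desc
    haveI := hgp.bc
    haveI := hgp.comp
    haveI := hgp.desc
    have h1 : AlgSp.RepWith @Flat p :=
      (Groth.Agent.S9948.locP_iff_repWith @Flat hgf.hEt Z.property p hrep).1 hfl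
    have h2 : AlgSp.RepWith @LocallyOfFinitePresentation p :=
      (Groth.Agent.S9948.locP_iff_repWith @LocallyOfFinitePresentation hgp.hEt Z.property p hrep).1 hlfp
    have h3 : AlgSp.RepWith @Surjective p :=
      Groth.Agent.S9906.repWith_surjective_of_surjective_map p hrep hsurj
    haveI := Groth.Agent.S9885.isLocallySurjective_of_repWith p h1 h2 h3
    exact (Sheaf.isLocallySurjective_iff_epi p).1 inferInstance
  -- the base change of `f` to the point
  have sqW := IsPullback.of_hasPullback f.hom p
  have hW : AlgSp.IsAlgSpace (pullback f.hom p) :=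
    Groth.Agent.S9874.isAlgSpace_of_isPullback Z.property.diag Z'.property
      (AlgSp.IsAlgSpace.yon_obj _) sqW
  haveI : Mono (pullback.snd f.hom p) := sqW.mono_snd_of_mono
  obtain ⟨s, hs⟩ := hsurj (AlgSp.Points.map f.hom z')
  obtain ⟨w, -, -⟩ := Groth.Agent.S10175.exists_point_of_isPullback sqW.flip s z' hs
  haveI : Epi (pullback.snd f.hom p) :=
    Groth.Agent.S9929.epi_of_mono_to_field str hW (pullback.snd f.hom p) ⟨w⟩
  haveI : IsIso (pullback.snd f.hom p) := isIso_of_mono_of_epi _
  have hfac : (inv (pullback.snd f.hom p) ≫ pullback.fst f.hom p) ≫ f.hom = p := by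
    rw [Category.assoc, pullback.condition, IsIso.inv_hom_id_assoc]
  haveI : Epi f.hom := epi_of_epi_fac hfac
  haveI : IsIso f.hom := isIso_of_mono_of_epi _
  refine ⟨ObjectProperty.homMk (inv f.hom), ?_, ?_⟩
  · apply ObjectProperty.hom_ext
    show f.hom ≫ inv f.hom = 𝟙 _
    exact IsIso.hom_inv_id _
  · apply ObjectProperty.hom_ext
    show inv f.hom ≫ f.hom = 𝟙 _
    exact IsIso.inv_hom_id _

end Groth.Agent.S10369
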