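import Groth.Statements.S10341
import Mathlib
import Groth.Agent.Lib.Helper12FibreSpec

set_option autoImplicit false
universe u
open CategoryTheory CategoryTheory.Limits AlgebraicGeometry Topology TopologicalSpace
open AlgSp

namespace Groth.Agent.S10341





/-- Let X be an algebraic space over a scheme S and x a point of |X| such that for every affine scheme V
and every representable etale h_V ⟶ X the fibre of |V| → |X| over x is finite. If a : h_U ⟶ X is
representable etale from a scheme U and u, u' are points of U over x with u' specializing to u, then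
u = u'. -/
theorem result {S : Scheme.{u}} (X : AlgSp.Space S) (x : AlgSp.Points X.obj)
    (hx : ∀ (V : Over S) (b : (AlgSp.yon S).obj V ⟶ X.obj), IsAffine V.left → AlgSp.RepWith @Etale b →
      (AlgSp.Points.ofPt b ⁻¹' {x}).Finite)
    {U : Over S} (a : (AlgSp.yon S).obj U ⟶ X.obj) (ha : AlgSp.RepWith @Etale a) (u u' : ↥U.left)
    (hu : AlgSp.Points.ofPt a u = x) (hu' : AlgSp.Points.ofPt a u' = x) (hs : u' ⤳ u) : u = u' := by
  refine Groth.Agent.Lib.Helper12.FibreSpec.eq_of_specializes_of_min a ha u u' (hu.trans hu'.symm) hs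
    (fun G hG hGu => Groth.Agent.Lib.Helper12.FibreSpec.exists_min_of_finite G hG ?_)
  obtain ⟨W₀, hW₀, huW, -⟩ : ∃ V : U.left.Opens, V ∈ U.left.affineOpens ∧ u ∈ V ∧ V ≤ ⊤ :=
    TopologicalSpace.Opens.isBasis_iff_nbhd.1 U.left.isBasis_affineOpens
      (TopologicalSpace.Opens.mem_top u)
  let V : Over S := Over.mk (W₀.ι ≫ U.hom)
  let j : V ⟶ U := Over.homMk W₀.ι rfl
  have hb : AlgSp.RepWith @Etale ((AlgSp.yon S).map j ≫ a) :=
    (AlgSp.RepWith @Etale).comp_mem _ _
      ((AlgSp.repWith_yon_map_iff _ _).2 (inferInstance : Etale W₀.ι)) ha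
  haveI : IsAffine V.left := hW₀
  have hfin := hx V _ this hb
  refine (hfin.image W₀.ι).subset ?_
  intro v hv
  obtain ⟨hv1, hv2⟩ := hGu hv
  have hvW : v ∈ W₀ := hv1.mem_open W₀.isOpen huW
  refine ⟨⟨v, hvW⟩, ?_, rfl⟩
  change AlgSp.Points.ofPt ((AlgSp.yon S).map j ≫ a) ⟨v, hvW⟩ = x
  rw [Groth.Agent.S10176.ofPt_map_comp]
  exact hv2.trans hu

end Groth.Agent.S10341
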