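import Groth.Statements.S4801
import Mathlib
import Groth.Agent.Lib.Helper2GenFree2

set_option autoImplicit false
universe u
open TensorProduct
open Cons9

namespace Groth.Agent.S4801

open Groth.Agent.Lib.Helper2.GenFree in
/-- Torsion from vanishing in the generic fibre. -/
theorem exists_ne_zero_smul_eq_zero {R : Type u} [CommRing R] [IsDomain R] {H : Type u}
    [AddCommGroup H] [Module R H] {y : H}
    (h : (1 : FractionRing R) ⊗ₜ[R] y = 0) : ∃ c : R, c ≠ 0 ∧ c • y = 0 := by
  obtain ⟨c, hc⟩ := (IsLocalizedModule.eq_zero_iff (nonZeroDivisors R)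
    (TensorProduct.mk R (FractionRing R) H 1) (m := y)).mp h
  exact ⟨c, nonZeroDivisors.ne_zero c.2, hc⟩

/-- Let R be an integral domain with fraction field K, B an R-algebra of finite presentation, F, G, H
three B-modules of finite presentation and u : F → G, v : G → H homomorphisms of B-modules such that
the generic fibre sequence K ⊗_R F → K ⊗_R G → K ⊗_R H is exact. Then there is a nonzero f ∈ R such
that, for every prime ideal p of R with f ∉ p, the fibre sequence κ(p) ⊗_R F → κ(p) ⊗_R G → κ(p) ⊗_R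
H is exact. Affine form: S = Spec R, X = Spec B with B a finitely presented R-algebra, the modules
finitely presented B-modules, and the fibre of a module M at a prime p taken as κ(p) ⊗_R M; the
published statement, for a morphism of finite presentation and quasi-coherent modules of finite
presentation, is local on S and on X and reduces to this one. -/
theorem result {R B : Type u} [CommRing R] [IsDomain R]
    [CommRing B] [Algebra R B] [Algebra.FinitePresentation R B]
    {F G H : Type u} [AddCommGroup F] [Module B F] [Module R F] [IsScalarTower R B F] [Module.FinitePresentation B F]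
    [AddCommGroup G] [Module B G] [Module R G] [IsScalarTower R B G] [Module.FinitePresentation B G]
    [AddCommGroup H] [Module B H] [Module R H] [IsScalarTower R B H] [Module.FinitePresentation B H]
    (u : F →ₗ[B] G) (v : G →ₗ[B] H)
    (hgen : Function.Exact ((u.restrictScalars R).baseChange (FractionRing R)) ((v.restrictScalars R).baseChange (FractionRing R))) :
    ∃ f : R, f ≠ 0 ∧ ∀ p : PrimeSpectrum R, f ∉ p.asIdeal →
      Function.Exact ((u.restrictScalars R).baseChange p.asIdeal.ResidueField) ((v.restrictScalars R).baseChange p.asIdeal.ResidueField) := by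
  classical
  set uR := u.restrictScalars R with huR
  set vR := v.restrictScalars R with hvR
  -- (1) `v ∘ u` is killed by a nonzero element
  have hvu : ∀ x : F, ∃ c : R, c ≠ 0 ∧ c • v (u x) = 0 := by
    intro x
    apply exists_ne_zero_smul_eq_zero
    have := (hgen (uR.baseChange (FractionRing R) ((1 : FractionRing R) ⊗ₜ[R] x))).mpr ⟨_, rfl⟩
    have h' : (1 : FractionRing R) ⊗ₜ[R] vR (uR x) = 0 := by simpa using this
    exact h'
  obtain ⟨s, hs⟩ := (Module.Finite.fg_top : (⊤ : Submodule B F).FG)
  choose c hc0 hc using hvu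
  obtain ⟨f₁, hf₁def⟩ : ∃ f₁ : R, f₁ = ∏ x ∈ s, c x := ⟨_, rfl⟩
  have hf₁ : f₁ ≠ 0 := by
    rw [hf₁def]; exact Finset.prod_ne_zero_iff.mpr fun x _ => hc0 x
  have h1 : ∀ x : F, f₁ • v (u x) = 0 := by
    intro x
    have hx : x ∈ Submodule.span B (s : Set F) := by rw [hs]; trivial
    induction hx using Submodule.span_induction with
    | mem x hx =>
      rw [hf₁def, ← Finset.mul_prod_erase s c hx, mul_comm, mul_smul, hc x, smul_zero]
    | zero => simp
    | add x y _ _ hx hy => rw [map_add, map_add, smul_add, hx, hy, add_zero]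
    | smul b x _ hx => rw [map_smul, map_smul, smul_comm, hx, smul_zero]
  -- (2) generic freeness of `G / range u` and `H / range v`
  obtain ⟨f₂, hf₂, -, hC, -, -⟩ :=
    Groth.Agent.Lib.Helper2.GenFree.exists_freeAway R B (G ⧸ LinearMap.range u)
  obtain ⟨f₃, hf₃, -, hD, -, -⟩ :=
    Groth.Agent.Lib.Helper2.GenFree.exists_freeAway R B (H ⧸ LinearMap.range v)
  have h2 : ∀ y : G, v y = 0 → ∃ n : ℕ, f₂ ^ n • y ∈ LinearMap.range u := by
    intro y hy
    have hker : vR.baseChange (FractionRing R) ((1 : FractionRing R) ⊗ₜ[R] y) = 0 := by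
      rw [LinearMap.baseChange_tmul]
      change (1 : FractionRing R) ⊗ₜ[R] v y = 0
      rw [hy, TensorProduct.tmul_zero]
    obtain ⟨w, hw⟩ := (hgen _).mp hker
    obtain ⟨⟨x, t⟩, hxt⟩ := IsLocalizedModule.surj (nonZeroDivisors R)
      (TensorProduct.mk R (FractionRing R) F 1) w
    have hxt' : (t : R) • w = (1 : FractionRing R) ⊗ₜ[R] x := hxt
    have h3 : (1 : FractionRing R) ⊗ₜ[R] ((t : R) • y - u x) = 0 := by
      rw [TensorProduct.tmul_sub, TensorProduct.tmul_smul, ← hw, ← LinearMap.map_smul_of_tower,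
        hxt', LinearMap.baseChange_tmul]
      exact sub_self _
    obtain ⟨c', hc'0, hc'⟩ := exists_ne_zero_smul_eq_zero h3
    have htors : (c' * (t : R)) • (Submodule.Quotient.mk y : G ⧸ LinearMap.range u) = 0 := by
      rw [← Submodule.Quotient.mk_smul, Submodule.Quotient.mk_eq_zero]
      refine ⟨c' • x, ?_⟩
      rw [smul_sub, sub_eq_zero] at hc'
      rw [mul_smul, hc', LinearMap.map_smul_of_tower]
    obtain ⟨n, hn⟩ := hC.exists_pow_smul_eq_zero
      (mul_ne_zero hc'0 (nonZeroDivisors.ne_zero t.2)) htors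
    refine ⟨n, ?_⟩
    rw [← Submodule.Quotient.mk_smul, Submodule.Quotient.mk_eq_zero] at hn
    exact hn
  -- assemble
  refine ⟨f₁ * f₂ * f₃, mul_ne_zero (mul_ne_zero hf₁ hf₂) hf₃, fun p hp => ?_⟩
  have hκ : IsUnit (algebraMap R p.asIdeal.ResidueField (f₁ * f₂ * f₃)) := by
    rw [isUnit_iff_ne_zero, Ne, Ideal.algebraMap_residueField_eq_zero]
    exact hp
  have hDR : Groth.Agent.Lib.Helper2.GenFree.FreeAway R (f₁ * f₂ * f₃) (H ⧸ LinearMap.range vR) := by
    have e : (H ⧸ LinearMap.range v) ≃ₗ[R] (H ⧸ LinearMap.range vR) :=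
      (Submodule.Quotient.restrictScalarsEquiv R (LinearMap.range v)).symm ≪≫ₗ
        Submodule.quotEquivOfEq _ _ (by ext z; simp [hvR])
    exact (hD.mul_left (f₁ * f₂)).of_linearEquiv e
  have hfree : Module.Free (Localization.Away (f₁ * f₂ * f₃))
      (Localization.Away (f₁ * f₂ * f₃) ⊗[R] (H ⧸ LinearMap.range vR)) :=
    hDR.free (Localization.Away (f₁ * f₂ * f₃))
      (TensorProduct.mk R (Localization.Away (f₁ * f₂ * f₃)) (H ⧸ LinearMap.range vR) 1)
  refine Groth.Agent.Lib.Helper2.GenFree.exact_baseChange_of_flat_coker_away (f₁ * f₂ * f₃) uR vR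
    (fun x => ⟨1, ?_⟩) (fun y hy => ?_) inferInstance _ hκ
  · change (f₁ * f₂ * f₃) ^ 1 • v (u x) = 0
    rw [pow_one, mul_assoc, mul_comm, mul_smul, h1, smul_zero]
  · obtain ⟨n, x, hx⟩ := h2 y hy
    refine ⟨n, (f₁ * f₃) ^ n • x, ?_⟩
    change u ((f₁ * f₃) ^ n • x) = _
    rw [LinearMap.map_smul_of_tower, hx, ← mul_smul, ← mul_pow]
    congr 2
    ring

end Groth.Agent.S4801
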