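import Groth.Statements.S9273
import Mathlib

set_option autoImplicit false
universe u
open CAlgX

namespace Groth.Agent.S9273

open TensorProduct

section

variable {A B A' : Type u} [CommRing A] [CommRing B] [CommRing A'] [Algebra A B] [Algebra A A']

/-- the `A`-linear relation map -/
noncomputable def phi {r : ℕ} (f : Fin r → B) : (Fin r → B) →ₗ[A] B :=
  (Fintype.linearCombination B f).restrictScalars A

lemma phi_apply {r : ℕ} (f : Fin r → B) (a : Fin r → B) :
    phi (A := A) f a = ∑ i, a i * f i := by
  simp [phi, Fintype.linearCombination_apply]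

/-- the comparison map -/
noncomputable def Phi (r : ℕ) : A' ⊗[A] (Fin r → B) ≃ₗ[A] (Fin r → A' ⊗[A] B) :=
  TensorProduct.piRight A A A' (fun _ : Fin r => B)

lemma Phi_tmul (r : ℕ) (x : A') (a : Fin r → B) :
    Phi (A := A) r (x ⊗ₜ[A] a) = fun j => x ⊗ₜ[A] a j := by
  simp [Phi]

lemma phi'_Phi {r : ℕ} (f : Fin r → B) (z : A' ⊗[A] (Fin r → B)) :
    ∑ i, (Phi (A := A) r z) i * ((1 : A') ⊗ₜ[A] f i) = (phi (A := A) f).lTensor A' z := by
  induction z using TensorProduct.induction_on with
  | zero => simp
  | tmul x a =>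
    rw [Phi_tmul, LinearMap.lTensor_tmul, phi_apply, tmul_sum]
    refine Finset.sum_congr rfl fun i _ => ?_
    rw [Algebra.TensorProduct.tmul_mul_tmul, mul_one]
  | add z w hz hw =>
    rw [map_add, map_add, ← hz, ← hw, ← Finset.sum_add_distrib]
    refine Finset.sum_congr rfl fun i _ => ?_
    rw [Pi.add_apply, add_mul]

/-- the span of trivial relations for the base-changed sequence -/
noncomputable def T' {r : ℕ} (f : Fin r → B) : Submodule (A' ⊗[A] B) (Fin r → A' ⊗[A] B) :=
  Submodule.span (A' ⊗[A] B) {v | ∃ i j : Fin r,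
    v = Pi.single i ((1 : A') ⊗ₜ[A] f j) - Pi.single j ((1 : A') ⊗ₜ[A] f i)}

lemma tmul_mem_T' {r : ℕ} (f : Fin r → B) (t : Fin r → B)
    (ht : t ∈ Submodule.span B {v : Fin r → B | ∃ i j : Fin r, v = Pi.single i (f j) - Pi.single j (f i)}) :
    ∀ x : A', (fun k => x ⊗ₜ[A] t k) ∈ T' (A := A) (A' := A') f := by
  induction ht using Submodule.span_induction with
  | mem v hv =>
    obtain ⟨i, j, rfl⟩ := hv
    intro x
    have : (fun k => x ⊗ₜ[A] (Pi.single i (f j) - Pi.single j (f i) : Fin r → B) k) =
        (x ⊗ₜ[A] (1 : B)) • (Pi.single i ((1 : A') ⊗ₜ[A] f j) - Pi.single j ((1 : A') ⊗ₜ[A] f i) :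
          Fin r → A' ⊗[A] B) := by
      funext k
      simp only [Pi.sub_apply, Pi.smul_apply, Pi.single_apply, smul_eq_mul]
      split_ifs <;> simp [tmul_sub, tmul_neg, mul_sub, Algebra.TensorProduct.tmul_mul_tmul]
    rw [this]
    exact Submodule.smul_mem _ _ (Submodule.subset_span ⟨i, j, rfl⟩)
  | zero =>
    intro x
    have : (fun k => x ⊗ₜ[A] (0 : Fin r → B) k) = 0 := by
      funext k; simp
    rw [this]; exact Submodule.zero_mem _
  | add a b _ _ ha hb =>
    intro x
    have : (fun k => x ⊗ₜ[A] (a + b) k) = (fun k => x ⊗ₜ[A] a k) + (fun k => x ⊗ₜ[A] b k) := by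
      funext k; simp [tmul_add]
    rw [this]; exact Submodule.add_mem _ (ha x) (hb x)
  | smul c a _ ha =>
    intro x
    have : (fun k => x ⊗ₜ[A] (c • a) k) = ((1 : A') ⊗ₜ[A] c) • (fun k => x ⊗ₜ[A] a k) := by
      funext k
      simp [Algebra.TensorProduct.tmul_mul_tmul]
    rw [this]; exact Submodule.smul_mem _ _ (ha x)

end


/-- Let A → B and A → A' be ring maps and B' = A' ⊗_A B. If f_1, ..., f_r is an H_1-regular sequence in
B with B/(f_1, ..., f_r) flat over A, then the images of the f_i in B' form an H_1-regular sequence. -/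
theorem result (A B A' : Type u) [CommRing A] [CommRing B]
    [CommRing A'] [Algebra A B] [Algebra A A'] (r : ℕ) (f : Fin r → B)
    (hflat : Module.Flat A (B ⧸ Ideal.span (Set.range f))) (hq : CAlgX.IsH1Regular f) :
    CAlgX.IsH1Regular (fun i => ((1 : A') ⊗ₜ[A] f i : TensorProduct A A' B)) := by
  intro a' ha'
  show a' ∈ T' (A := A) (A' := A') f
  obtain ⟨z, rfl⟩ := (Phi (A := A) (A' := A') (B := B) r).surjective a'
  rw [phi'_Phi] at ha'
  -- factor phi through its range
  set g := (phi (A := A) f).rangeRestrict with hg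
  have hfac : phi (A := A) f = (LinearMap.range (phi (A := A) f)).subtype ∘ₗ g :=
    LinearMap.ext fun _ => rfl
  -- injectivity of lTensor of the inclusion, by flatness of the quotient
  have hrange : ∀ y : B, y ∈ LinearMap.range (phi (A := A) f) ↔ y ∈ Ideal.span (Set.range f) := by
    intro y
    rw [Ideal.mem_span_range_iff_exists_fun]
    constructor
    · rintro ⟨a, rfl⟩
      exact ⟨a, (phi_apply f a).symm⟩
    · rintro ⟨a, rfl⟩
      exact ⟨a, phi_apply f a⟩
  have hinj : Function.Injective ((LinearMap.range (phi (A := A) f)).subtype.lTensor A') := by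
    have := hflat
    refine LinearMap.lTensor_injective_of_exact_of_flat
      ((Ideal.span (Set.range f)).mkQ.restrictScalars A) ?_ _ (Submodule.subtype_injective _) ?_ A'
    · exact (Ideal.span (Set.range f)).mkQ_surjective
    · intro y
      simp only [LinearMap.coe_restrictScalars, Submodule.mkQ_apply, Submodule.Quotient.mk_eq_zero,
        Submodule.coe_subtype, Set.mem_range, Subtype.exists, exists_prop, exists_eq_right]
      exact (hrange y).symm
  have hz : g.lTensor A' z = 0 := by
    apply hinj
    rw [map_zero, ← LinearMap.comp_apply, ← LinearMap.lTensor_comp, ← hfac]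
    exact ha'
  have hex : Function.Exact ((LinearMap.ker g).subtype.lTensor A') (g.lTensor A') :=
    lTensor_exact A' (LinearMap.exact_subtype_ker_map g) (LinearMap.surjective_rangeRestrict _)
  obtain ⟨w, rfl⟩ := (hex z).mp hz
  -- now show membership by induction on w
  clear hz ha'
  induction w using TensorProduct.induction_on with
  | zero => simp
  | tmul x t =>
    rw [LinearMap.lTensor_tmul, Phi_tmul]
    apply tmul_mem_T'
    apply hq
    have ht := t.2
    rw [LinearMap.mem_ker] at ht
    have ht2 := congrArg Subtype.val ht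
    rw [← phi_apply (A := A)]
    exact ht2
  | add w₁ w₂ h₁ h₂ =>
    rw [map_add, map_add]
    exact Submodule.add_mem _ h₁ h₂

end Groth.Agent.S9273
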