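import Groth.Statements.S2008
import Mathlib

set_option autoImplicit false
universe u
open TensorProduct
open EtAlg

namespace Groth.Agent.S2008

variable (R S : Type u) [CommRing R] [CommRing S] [Algebra R S] (I : Ideal R)

theorem flat_quot [Module.Flat R S] : Module.Flat (R ⧸ I) (S ⧸ I.map (algebraMap R S)) := by
  let e₁ : (S ⧸ I.map (algebraMap R S)) ≃ₗ[R] S ⊗[R] (R ⧸ I) :=
    (Ideal.qoutMapEquivTensorQout S (I := I)).restrictScalars R
  let e₂ : S ⊗[R] (R ⧸ I) ≃ₗ[R] (R ⧸ I) ⊗[R] S := TensorProduct.comm R S (R ⧸ I)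
  let e : (R ⧸ I) ⊗[R] S ≃ₗ[R ⧸ I] (S ⧸ I.map (algebraMap R S)) :=
    LinearEquiv.extendScalarsOfSurjective Ideal.Quotient.mk_surjective (e₁.trans e₂).symm
  exact Module.Flat.of_linearEquiv e.symm

/-- the commutation of comaps -/
theorem comap_comm (q : PrimeSpectrum (S ⧸ I.map (algebraMap R S))) :
    PrimeSpectrum.comap (Ideal.Quotient.mk I)
      (PrimeSpectrum.comap (Ideal.quotientMap (I.map (algebraMap R S)) (algebraMap R S) Ideal.le_comap_map) q)
    = PrimeSpectrum.comap (algebraMap R S) (PrimeSpectrum.comap (Ideal.Quotient.mk (I.map (algebraMap R S))) q) := by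
  rw [← PrimeSpectrum.comap_comp_apply, ← PrimeSpectrum.comap_comp_apply]
  congr 1


/-- every maximal (indeed prime) ideal containing `I` is hit, given surjectivity on the quotient -/
theorem exists_prime_over (hsurj : Function.Surjective (PrimeSpectrum.comap
      (Ideal.quotientMap (I.map (algebraMap R S)) (algebraMap R S) Ideal.le_comap_map)))
    (p : PrimeSpectrum R) (hp : I ≤ p.asIdeal) :
    ∃ q : PrimeSpectrum S, PrimeSpectrum.comap (algebraMap R S) q = p := by
  have h1 : p ∈ Set.range (PrimeSpectrum.comap (Ideal.Quotient.mk I)) := by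
    rw [range_comap_of_surjective _ _ Ideal.Quotient.mk_surjective,
      Ideal.mk_ker]
    exact hp
  obtain ⟨pb, hpb⟩ := h1
  obtain ⟨qb, hqb⟩ := hsurj pb
  refine ⟨PrimeSpectrum.comap (Ideal.Quotient.mk (I.map (algebraMap R S))) qb, ?_⟩
  rw [← comap_comm, hqb, hpb]

theorem nontrivial_of_surj [Module.Flat R S] (hsurj : Function.Surjective (PrimeSpectrum.comap
      (Ideal.quotientMap (I.map (algebraMap R S)) (algebraMap R S) Ideal.le_comap_map)))
    (M : Type u) [AddCommGroup M] [Module R M] (hM : ∀ (a : R) (m : M), a ∈ I → a • m = 0)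
    [Nontrivial M] : Nontrivial (S ⊗[R] M) := by
  obtain ⟨m, hm⟩ := exists_ne (0 : M)
  let J : Ideal R := LinearMap.ker (LinearMap.toSpanSingleton R M m)
  have hIJ : I ≤ J := fun a ha => by
    simp only [J, LinearMap.mem_ker, LinearMap.toSpanSingleton_apply]
    exact hM a m ha
  have hJ : J ≠ ⊤ := by
    intro h
    have : (1 : R) ∈ J := h ▸ Submodule.mem_top
    simp only [J, LinearMap.mem_ker, LinearMap.toSpanSingleton_apply, one_smul] at this
    exact hm this
  obtain ⟨𝔪, h𝔪, hJ𝔪⟩ := Ideal.exists_le_maximal J hJ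
  obtain ⟨q, hq⟩ := exists_prime_over R S I hsurj ⟨𝔪, h𝔪.isPrime⟩ (hIJ.trans hJ𝔪)
  have hJS : J.map (algebraMap R S) ≠ ⊤ := by
    intro h
    have h1 : J.map (algebraMap R S) ≤ q.asIdeal := by
      rw [Ideal.map_le_iff_le_comap]
      have : (PrimeSpectrum.comap (algebraMap R S) q).asIdeal = 𝔪 := by rw [hq]
      rw [PrimeSpectrum.comap_asIdeal] at this
      rw [this]
      exact hJ𝔪
    rw [h] at h1
    exact q.2.ne_top (top_le_iff.mp h1)
  -- injective map R/J → M
  let g : (R ⧸ J) →ₗ[R] M := Submodule.liftQ J (LinearMap.toSpanSingleton R M m) le_rfl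
  have hg : Function.Injective g := by
    rw [← LinearMap.ker_eq_bot]
    exact Submodule.ker_liftQ_eq_bot _ _ _ le_rfl
  have hinj := Module.Flat.lTensor_preserves_injective_linearMap (M := S) g hg
  have hnt : Nontrivial (S ⊗[R] (R ⧸ J)) := by
    have : Nontrivial (S ⧸ J.map (algebraMap R S)) := Ideal.Quotient.nontrivial_iff.mpr hJS
    exact (Ideal.qoutMapEquivTensorQout S (I := J)).symm.toEquiv.nontrivial
  exact hinj.nontrivial

theorem surj_of_nontrivial
    (h3 : ∀ (M : Type u) [AddCommGroup M] [Module R M], (∀ (a : R) (m : M), a ∈ I → a • m = 0) →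
        Nontrivial M → Nontrivial (S ⊗[R] M)) :
    Function.Surjective (PrimeSpectrum.comap
      (Ideal.quotientMap (I.map (algebraMap R S)) (algebraMap R S) Ideal.le_comap_map)) := by
  intro pb
  let p : PrimeSpectrum R := PrimeSpectrum.comap (Ideal.Quotient.mk I) pb
  have hIp : I ≤ p.asIdeal := by
    intro a ha
    simp only [p, PrimeSpectrum.comap_asIdeal, Ideal.mem_comap]
    rw [Ideal.Quotient.eq_zero_iff_mem.mpr ha]
    exact Ideal.zero_mem _
  have hnt : Nontrivial (S ⊗[R] p.asIdeal.ResidueField) := by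
    refine h3 p.asIdeal.ResidueField ?_ inferInstance
    intro a x ha
    rw [Algebra.smul_def, Ideal.algebraMap_residueField_eq_zero.mpr (hIp ha), zero_mul]
  have hnt' : Nontrivial (p.asIdeal.ResidueField ⊗[R] S) :=
    (TensorProduct.comm R S p.asIdeal.ResidueField).symm.toEquiv.nontrivial
  obtain ⟨q, hq⟩ := (PrimeSpectrum.nontrivial_iff_mem_rangeComap p).mp hnt'
  have hq2 : q ∈ Set.range (PrimeSpectrum.comap (Ideal.Quotient.mk (I.map (algebraMap R S)))) := by
    rw [range_comap_of_surjective _ _ Ideal.Quotient.mk_surjective, Ideal.mk_ker]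
    change I.map (algebraMap R S) ≤ q.asIdeal
    rw [Ideal.map_le_iff_le_comap]
    have : (PrimeSpectrum.comap (algebraMap R S) q).asIdeal = p.asIdeal := by rw [hq]
    rw [PrimeSpectrum.comap_asIdeal] at this
    rw [this]
    exact hIp
  obtain ⟨qb, hqb⟩ := hq2
  refine ⟨qb, ?_⟩
  apply PrimeSpectrum.comap_injective_of_surjective _ Ideal.Quotient.mk_surjective
  rw [comap_comm, hqb, hq]

theorem exists_torsion_elt (M : Type u) [AddCommGroup M] [Module R M] :
    ∀ (n : ℕ) (m : M), m ≠ 0 → (∀ a ∈ I ^ n, a • m = 0) → ∃ m' : M, m' ≠ 0 ∧ ∀ a ∈ I, a • m' = 0 := by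
  intro n
  induction n with
  | zero =>
    intro m hm h
    have := h 1 (by simp)
    rw [one_smul] at this
    exact absurd this hm
  | succ n ih =>
    intro m hm h
    by_cases hc : ∀ a ∈ I, a • m = 0
    · exact ⟨m, hm, hc⟩
    · push_neg at hc
      obtain ⟨a, ha, ham⟩ := hc
      refine ih (a • m) ham fun b hb => ?_
      rw [smul_smul]
      refine h _ ?_
      rw [pow_succ]
      exact Ideal.mul_mem_mul hb ha

/-- For a ring map R -> S and an ideal I of R the following are equivalent: (1) S is flat over R and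
S/IS is faithfully flat over R/I; (2) S is flat over R and Spec(S/IS) -> Spec(R/I) is surjective;
(3) S is flat over R and S ⊗_R M is nonzero for every nonzero R-module M killed by I; (4) S is flat
over R and S ⊗_R M is nonzero for every nonzero I-power torsion R-module M. (Faithfulness of base
change on these subcategories is stated as detection of nonzero objects, which is equivalent for an
exact functor.) -/
theorem result (R S : Type u) [CommRing R] [CommRing S] [Algebra R S] (I : Ideal R) :
    List.TFAE [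
      Module.Flat R S ∧ Module.FaithfullyFlat (R ⧸ I) (S ⧸ I.map (algebraMap R S)),
      Module.Flat R S ∧ Function.Surjective (PrimeSpectrum.comap (Ideal.quotientMap (I.map (algebraMap R S)) (algebraMap R S) Ideal.le_comap_map)),
      Module.Flat R S ∧ ∀ (M : Type u) [AddCommGroup M] [Module R M], (∀ (a : R) (m : M), a ∈ I → a • m = 0) →
        Nontrivial M → Nontrivial (S ⊗[R] M),
      Module.Flat R S ∧ ∀ (M : Type u) [AddCommGroup M] [Module R M], (∀ m : M, ∃ n : ℕ, ∀ a ∈ I ^ n, a • m = 0) →
        Nontrivial M → Nontrivial (S ⊗[R] M)] := by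
  tfae_have 1 → 2 := by
    rintro ⟨hflat, hff⟩
    exact ⟨hflat, PrimeSpectrum.comap_surjective_of_faithfullyFlat (A := R ⧸ I)
      (B := S ⧸ I.map (algebraMap R S))⟩
  tfae_have 2 → 1 := by
    rintro ⟨hflat, hsurj⟩
    haveI := flat_quot R S I
    exact ⟨hflat, Module.FaithfullyFlat.of_comap_surjective hsurj⟩
  tfae_have 2 → 3 := by
    rintro ⟨hflat, hsurj⟩
    refine ⟨hflat, fun M _ _ hM hnt => ?_⟩
    exact nontrivial_of_surj R S I hsurj M hM
  tfae_have 3 → 2 := by
    rintro ⟨hflat, h3⟩
    exact ⟨hflat, surj_of_nontrivial R S I h3⟩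
  tfae_have 4 → 3 := by
    rintro ⟨hflat, h4⟩
    refine ⟨hflat, fun M _ _ hM hnt => h4 M (fun m => ⟨1, fun a ha => ?_⟩) hnt⟩
    rw [pow_one] at ha
    exact hM a m ha
  tfae_have 3 → 4 := by
    rintro ⟨hflat, h3⟩
    refine ⟨hflat, fun M _ _ hM hnt => ?_⟩
    obtain ⟨m, hm⟩ := exists_ne (0 : M)
    obtain ⟨n, hn⟩ := hM m
    obtain ⟨m', hm', hm'I⟩ := exists_torsion_elt R I M n m hm hn
    let T : Submodule R M := Submodule.torsionBySet R M (I : Set R)
    have hm'T : m' ∈ T := by
      rw [Submodule.mem_torsionBySet_iff]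
      rintro ⟨a, ha⟩
      exact hm'I a ha
    haveI : Nontrivial T := ⟨⟨⟨m', hm'T⟩, 0, fun h => hm' (congrArg Subtype.val h)⟩⟩
    have hT : Nontrivial (S ⊗[R] T) := by
      refine h3 T ?_ inferInstance
      intro a x ha
      apply Subtype.ext
      have := (Submodule.mem_torsionBySet_iff _ _).mp x.2 ⟨a, ha⟩
      simpa using this
    have hinj := Module.Flat.lTensor_preserves_injective_linearMap (M := S) T.subtype
      Subtype.val_injective
    exact hinj.nontrivial
  tfae_finish

end Groth.Agent.S2008
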