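import Groth.Statements.S2009
import Mathlib
import Groth.Agent.S2008

set_option autoImplicit false
universe u
open TensorProduct
open EtAlg

namespace Groth.Agent.S2009

variable (R S : Type u) [CommRing R] [CommRing S] [Algebra R S] (I : Ideal R)

/-- surjectivity part: `S = R + I^n S` -/
theorem mem_sup_pow (hsurj : Function.Surjective
      (Ideal.quotientMap (I.map (algebraMap R S)) (algebraMap R S) Ideal.le_comap_map)) (n : ℕ) :
    ∀ s : S, ∃ r : R, s - algebraMap R S r ∈ (I ^ n).map (algebraMap R S) := by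
  induction n with
  | zero =>
    intro s
    refine ⟨0, ?_⟩
    rw [pow_zero, Ideal.one_eq_top, Ideal.map_top]
    trivial
  | succ n ih =>
    intro s
    obtain ⟨r, hr⟩ := ih s
    -- s - r ∈ I^n S = span of a * t; handle by span induction
    have key : ∀ y ∈ (I ^ n).map (algebraMap R S), ∃ r' : R, r' ∈ I ^ n ∧
        y - algebraMap R S r' ∈ (I ^ (n + 1)).map (algebraMap R S) := by
      intro y hy
      induction hy using Submodule.span_induction with
      | mem y hy =>
        obtain ⟨a, ha, rfl⟩ := hy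
        exact ⟨a, ha, by simp⟩
      | zero => exact ⟨0, Ideal.zero_mem _, by simp⟩
      | add y z _ _ ihy ihz =>
        obtain ⟨r1, hr1, h1⟩ := ihy
        obtain ⟨r2, hr2, h2⟩ := ihz
        refine ⟨r1 + r2, Ideal.add_mem _ hr1 hr2, ?_⟩
        have : y + z - algebraMap R S (r1 + r2) = (y - algebraMap R S r1) + (z - algebraMap R S r2) := by
          rw [map_add]; ring
        rw [this]
        exact Ideal.add_mem _ h1 h2
      | smul t y _ ihy =>
        obtain ⟨r1, hr1, h1⟩ := ihy
        -- t = r0 + (element of IS)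
        obtain ⟨tb, htb⟩ := hsurj (Ideal.Quotient.mk _ t)
        obtain ⟨r0, rfl⟩ := Ideal.Quotient.mk_surjective tb
        have ht : t - algebraMap R S r0 ∈ I.map (algebraMap R S) := by
          rw [← Ideal.Quotient.eq]
          exact htb.symm
        refine ⟨r0 * r1, Ideal.mul_mem_left _ _ hr1, ?_⟩
        have : t • y - algebraMap R S (r0 * r1) =
            t * (y - algebraMap R S r1) + (t - algebraMap R S r0) * algebraMap R S r1 := by
          rw [map_mul, smul_eq_mul]; ring
        rw [this]
        refine Ideal.add_mem _ (Ideal.mul_mem_left _ _ h1) ?_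
        rw [pow_succ', Ideal.map_mul]
        exact Ideal.mul_mem_mul ht (Ideal.mem_map_of_mem _ hr1)
    obtain ⟨r', -, hr'⟩ := key _ hr
    refine ⟨r + r', ?_⟩
    have : s - algebraMap R S (r + r') = (s - algebraMap R S r) - algebraMap R S r' := by
      rw [map_add]; ring
    rw [this]
    exact hr'


theorem tmul_eq_zero_of_mem (M : Type u) [AddCommGroup M] [Module R M] (n : ℕ) (m : M)
    (hm : ∀ a ∈ I ^ n, a • m = 0) :
    ∀ y ∈ (I ^ n).map (algebraMap R S), y ⊗ₜ[R] m = 0 := by
  intro y hy
  induction hy using Submodule.span_induction with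
  | mem y hy =>
    obtain ⟨a, ha, rfl⟩ := hy
    rw [Algebra.algebraMap_eq_smul_one, TensorProduct.smul_tmul, hm a ha, TensorProduct.tmul_zero]
  | zero => exact TensorProduct.zero_tmul _ _
  | add y z _ _ ihy ihz => rw [TensorProduct.add_tmul, ihy, ihz, add_zero]
  | smul t y _ ihy =>
    have : (t • y) ⊗ₜ[R] m = t • (y ⊗ₜ[R] m) := (TensorProduct.smul_tmul' t y m).symm
    rw [this, ihy, smul_zero]

theorem surj_mk (hsurj : Function.Surjective
      (Ideal.quotientMap (I.map (algebraMap R S)) (algebraMap R S) Ideal.le_comap_map))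
    (M : Type u) [AddCommGroup M] [Module R M] (hM : ∀ m : M, ∃ n : ℕ, ∀ a ∈ I ^ n, a • m = 0) :
    Function.Surjective (TensorProduct.mk R S M 1) := by
  intro t
  induction t using TensorProduct.induction_on with
  | zero => exact ⟨0, map_zero _⟩
  | tmul s m =>
    obtain ⟨n, hn⟩ := hM m
    obtain ⟨r, hr⟩ := mem_sup_pow R S I hsurj n s
    refine ⟨r • m, ?_⟩
    have h0 := tmul_eq_zero_of_mem R S I M n m hn _ hr
    rw [TensorProduct.sub_tmul, sub_eq_zero] at h0
    rw [h0, TensorProduct.mk_apply, Algebra.algebraMap_eq_smul_one, TensorProduct.smul_tmul]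
  | add x y hx hy =>
    obtain ⟨a, rfl⟩ := hx
    obtain ⟨b, rfl⟩ := hy
    exact ⟨a + b, map_add _ _ _⟩

theorem inj_mk [Module.Flat R S] [Module.FaithfullyFlat (R ⧸ I) (S ⧸ I.map (algebraMap R S))]
    (M : Type u) [AddCommGroup M] [Module R M] (hM : ∀ m : M, ∃ n : ℕ, ∀ a ∈ I ^ n, a • m = 0) :
    Function.Injective (TensorProduct.mk R S M 1) := by
  rw [← LinearMap.ker_eq_bot]
  by_contra hK
  set K := LinearMap.ker (TensorProduct.mk R S M 1) with hKdef
  have hnt : Nontrivial K := Submodule.nontrivial_iff_ne_bot.mpr hK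
  have h03 := (Groth.Agent.S2008.result R S I).out 0 3
  have h4' := h03.mp ⟨inferInstance, inferInstance⟩
  have h4 := h4'.2
  have hSK : Nontrivial (S ⊗[R] K) := by
    refine h4 K ?_ hnt
    intro k
    obtain ⟨n, hn⟩ := hM k.1
    exact ⟨n, fun a ha => Subtype.ext (by simpa using hn a ha)⟩
  have hinj := Module.Flat.lTensor_preserves_injective_linearMap (M := S) K.subtype
    Subtype.val_injective
  have hzero : K.subtype.lTensor S = 0 := by
    apply TensorProduct.ext'
    intro s k
    rw [LinearMap.lTensor_tmul, LinearMap.zero_apply, Submodule.subtype_apply]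
    have hk : (1 : S) ⊗ₜ[R] (k : M) = 0 := k.2
    have : s ⊗ₜ[R] (k : M) = s • ((1 : S) ⊗ₜ[R] (k : M)) := by
      rw [TensorProduct.smul_tmul', smul_eq_mul, mul_one]
    rw [this, hk, smul_zero]
  obtain ⟨a, b, hab⟩ := hSK
  apply hab
  apply hinj
  rw [hzero]
  rfl

/-- Let R -> S be flat with S/IS faithfully flat over R/I. Then the natural map M -> S ⊗_R M is
bijective for every I-power torsion R-module M if and only if R/I -> S/IS is bijective. -/
theorem result (R S : Type u) [CommRing R] [CommRing S] [Algebra R S] (I : Ideal R)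
    [Module.Flat R S] [Module.FaithfullyFlat (R ⧸ I) (S ⧸ I.map (algebraMap R S))] :
    (∀ (M : Type u) [AddCommGroup M] [Module R M], (∀ m : M, ∃ n : ℕ, ∀ a ∈ I ^ n, a • m = 0) →
      Function.Bijective (TensorProduct.mk R S M 1)) ↔
    Function.Bijective (Ideal.quotientMap (I.map (algebraMap R S)) (algebraMap R S) Ideal.le_comap_map) := by
  constructor
  · intro h
    have hRI : ∀ m : R ⧸ I, ∃ n : ℕ, ∀ a ∈ I ^ n, a • m = 0 := by
      intro m
      refine ⟨1, fun a ha => ?_⟩
      rw [pow_one] at ha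
      rw [Algebra.smul_def, Ideal.Quotient.algebraMap_eq, Ideal.Quotient.eq_zero_iff_mem.mpr ha,
        zero_mul]
    obtain ⟨hinj, hsurj⟩ := h (R ⧸ I) hRI
    have hone : ∀ a ∈ I ^ 1, a • (1 : R ⧸ I) = 0 := by
      intro a ha
      rw [pow_one] at ha
      rw [Algebra.smul_def, Ideal.Quotient.algebraMap_eq, Ideal.Quotient.eq_zero_iff_mem.mpr ha,
        zero_mul]
    constructor
    · rw [injective_iff_map_eq_zero]
      intro x hx
      obtain ⟨r, rfl⟩ := Ideal.Quotient.mk_surjective x
      rw [Ideal.quotientMap_mk, Ideal.Quotient.eq_zero_iff_mem] at hx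
      have h0 := tmul_eq_zero_of_mem R S I (R ⧸ I) 1 1 hone _ (by rwa [pow_one])
      apply hinj
      rw [map_zero, TensorProduct.mk_apply, ← h0, Algebra.algebraMap_eq_smul_one,
        TensorProduct.smul_tmul]
      congr 1
      rw [Algebra.smul_def, mul_one]
      rfl
    · intro y
      obtain ⟨s, rfl⟩ := Ideal.Quotient.mk_surjective y
      obtain ⟨x, hx⟩ := hsurj (s ⊗ₜ[R] (1 : R ⧸ I))
      let F : S ⊗[R] (R ⧸ I) →ₐ[R] S ⧸ I.map (algebraMap R S) :=
        Algebra.TensorProduct.productMap (Ideal.Quotient.mkₐ R (I.map (algebraMap R S)))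
          (IsScalarTower.toAlgHom R (R ⧸ I) (S ⧸ I.map (algebraMap R S)))
      refine ⟨x, ?_⟩
      have h1 := congrArg F hx
      rw [TensorProduct.mk_apply] at h1
      simp only [F, Algebra.TensorProduct.productMap_apply_tmul, map_one, one_mul, mul_one] at h1
      exact h1
  · intro hbij M _ _ hM
    exact ⟨inj_mk R S I M hM, surj_mk R S I hbij.2 M hM⟩

end Groth.Agent.S2009
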