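import Groth.Statements.S0500
import Groth.Agent.Lib.Helper3HenselA
import Mathlib

set_option autoImplicit false
universe u
open Hensel

namespace Groth.Agent.S0500

/-- If every algebra over a local ring that is finitely generated as a module is ring-isomorphic to a
finite product of local rings, then the local ring is henselian. -/
theorem result (R : Type u) [CommRing R] [IsLocalRing R]
    (h : ∀ (S : Type u) [CommRing S] [Algebra R S], Module.Finite R S →
      ∃ (ι : Type u) (_ : Fintype ι) (A : ι → Type u) (_ : ∀ i, CommRing (A i)),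
        (∀ i, IsLocalRing (A i)) ∧ Nonempty (S ≃+* (∀ i, A i))) :
    HenselianLocalRing R := by
  open Polynomial IsLocalRing Groth.Agent.Lib.Helper3.Hensel in
  classical
  refine ((HenselianLocalRing.TFAE R).out 0 1).mpr ?_
  intro f hf a₀ h0 h1
  have e0 : (f.map (residue R)).eval a₀ = 0 := by rw [eval_map]; exact h0
  have e1 : (f.map (residue R)).derivative.eval a₀ ≠ 0 := by
    rw [derivative_map, eval_map]; exact h1
  obtain ⟨g₀, hfg, hg₀, hcop⟩ := simple_root_factor _ a₀ e0 e1
  haveI : Module.Finite R (AdjoinRoot f) := hf.finite_adjoinRoot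
  obtain ⟨ι, _, A, _, hloc, ⟨ψ⟩⟩ := h (AdjoinRoot f) inferInstance
  let π : AdjoinRoot f →ₐ[R] ResidueField R :=
    AdjoinRoot.liftAlgHom f (Algebra.ofId R (ResidueField R)) a₀ h0
  have hπ : π (AdjoinRoot.root f) = a₀ := AdjoinRoot.liftAlgHom_root _ _ _ _
  let π' : (∀ i, A i) →+* ResidueField R := π.toRingHom.comp ψ.symm.toRingHom
  have hsum : ∑ i, π' (Pi.single i 1) = 1 := by
    rw [← map_sum, Finset.univ_sum_single]
    exact map_one π'
  obtain ⟨i₀, hi₀⟩ : ∃ i₀, π' (Pi.single i₀ 1) ≠ 0 := by
    by_contra hcon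
    push Not at hcon
    rw [Finset.sum_eq_zero (fun i _ => hcon i)] at hsum
    exact zero_ne_one hsum
  have hidem : π' (Pi.single i₀ 1) = 1 := by
    have h2 : π' (Pi.single i₀ 1) * π' (Pi.single i₀ 1) = π' (Pi.single i₀ 1) := by
      rw [← map_mul, ← Pi.single_mul, mul_one]
    exact mul_left_cancel₀ hi₀ (by rw [h2, mul_one])
  haveI := hloc i₀
  let φ : AdjoinRoot f →+* A i₀ := (Pi.evalRingHom A i₀).comp ψ.toRingHom
  have hφ : Function.Surjective φ := by
    intro y
    refine ⟨ψ.symm (Pi.single i₀ y), ?_⟩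
    simp [φ]
  let e : AdjoinRoot f := ψ.symm (Pi.single i₀ 1)
  have hsingle : ∀ z : (∀ i, A i), Pi.single i₀ (z i₀) = z * Pi.single i₀ 1 := by
    intro z
    ext j
    by_cases hj : j = i₀
    · subst hj; simp
    · simp [Pi.single_eq_of_ne hj]
  have he : ∀ b, φ b = 0 → b * e = 0 := by
    intro b hb
    apply ψ.injective
    rw [map_mul, map_zero]
    change ψ b * ψ (ψ.symm (Pi.single i₀ 1)) = 0
    rw [RingEquiv.apply_symm_apply, ← hsingle]
    have : ψ b i₀ = 0 := hb
    rw [this, Pi.single_zero]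
  have hπe : π e = 1 := hidem
  let ρ : A i₀ →+* ResidueField R :=
    { toFun := fun y => π' (Pi.single i₀ y)
      map_one' := hidem
      map_mul' := fun y z => by rw [← map_mul, ← Pi.single_mul]
      map_zero' := by rw [Pi.single_zero, map_zero]
      map_add' := fun y z => by rw [← map_add, ← Pi.single_add] }
  have hρ : ∀ b, ρ (φ b) = π b := by
    intro b
    change π' (Pi.single i₀ (ψ b i₀)) = π b
    rw [hsingle, map_mul, hidem, mul_one]
    change π (ψ.symm (ψ b)) = π b
    rw [RingEquiv.symm_apply_apply]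
  exact exists_root_of_local_factor f hf a₀ g₀ hfg hg₀ (A i₀) φ hφ e he π hπ hπe ρ hρ

end Groth.Agent.S0500
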