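import Groth.Statements.S1964
import Groth.Agent.Lib.Helper3HenselInt
import Mathlib

set_option autoImplicit false
universe u
open EtAlg

namespace Groth.Agent.S1964

open IsLocalRing Polynomial

/-- A domain finite over a henselian local ring is local. -/
theorem isLocalRing_of_finite_of_isDomain (R : Type u) [CommRing R] [HenselianLocalRing R]
    (S : Type u) [CommRing S] [IsDomain S] [Algebra R S] [Module.Finite R S] : IsLocalRing S := by
  classical
  obtain ⟨ι, _, A, _, hloc, ⟨e⟩⟩ :=
    Groth.Agent.Lib.Helper3.Hensel.exists_pi_isLocalRing_of_finite R S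
  haveI : IsDomain (∀ i, A i) := MulEquiv.isDomain S e.symm.toMulEquiv
  haveI : ∀ i, Nontrivial (A i) := fun i => inferInstance
  have hne : Nonempty ι := by
    by_contra h
    rw [not_nonempty_iff] at h
    exact one_ne_zero (α := ∀ i, A i) (Subsingleton.elim _ _)
  have hsub : Subsingleton ι := by
    refine ⟨fun i j => ?_⟩
    by_contra hij
    have h1 : (Pi.single i 1 : ∀ i, A i) * Pi.single j 1 = 0 := by
      ext k
      by_cases hk : k = i
      · subst hk
        simp [Pi.single_eq_of_ne hij]
      · simp [Pi.single_eq_of_ne hk]
    rcases mul_eq_zero.mp h1 with h | h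
    · have := congr_fun h i
      simp at this
    · have := congr_fun h j
      simp at this
  obtain ⟨i₀⟩ := hne
  haveI : Unique ι := ⟨⟨i₀⟩, fun i => Subsingleton.elim _ _⟩
  exact (e.trans (RingEquiv.piUnique A)).symm.isLocalRing

theorem isLocalHom_of_isIntegral_of_isLocalRing {A B : Type*} [CommRing A] [IsLocalRing A]
    [CommRing B] [IsLocalRing B] [Algebra A B] [Algebra.IsIntegral A B] :
    IsLocalHom (algebraMap A B) := by
  have hmax : ((maximalIdeal B).comap (algebraMap A B)).IsMaximal :=
    Ideal.isMaximal_comap_of_isIntegral_of_isMaximal _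
  have := IsLocalRing.eq_maximalIdeal hmax
  refine ⟨fun a ha => ?_⟩
  by_contra hna
  have : a ∈ (maximalIdeal B).comap (algebraMap A B) := by
    rw [this]; exact hna
  exact this ha

theorem isAlgebraic_residueField {A B : Type*} [CommRing A] [IsLocalRing A]
    [CommRing B] [IsLocalRing B] [Algebra A B] [Algebra.IsIntegral A B]
    [IsLocalHom (algebraMap A B)] :
    letI := (IsLocalRing.ResidueField.map (algebraMap A B)).toAlgebra
    Algebra.IsAlgebraic (ResidueField A) (ResidueField B) := by
  letI := (IsLocalRing.ResidueField.map (algebraMap A B)).toAlgebra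
  refine ⟨fun x => ?_⟩
  obtain ⟨b, rfl⟩ := IsLocalRing.residue_surjective x
  obtain ⟨p, hp, hpb⟩ := Algebra.IsIntegral.isIntegral (R := A) b
  apply IsIntegral.isAlgebraic
  refine ⟨p.map (residue A), hp.map _, ?_⟩
  rw [Polynomial.eval₂_map]
  have : (algebraMap (ResidueField A) (ResidueField B)).comp (residue A)
      = (residue B).comp (algebraMap A B) := by
    ext a; rfl
  rw [this, ← Polynomial.hom_eval₂, hpb, map_zero]

/-- A domain B integral over a henselian local ring A is itself henselian local, and the structure map A
-> B is local; if the residue field of A is separably closed, so is that of B, and the residue field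
extension is purely inseparable. -/
theorem result (A B : Type u) [CommRing A] [HenselianLocalRing A] [CommRing B]
    [IsDomain B] [Algebra A B] [Algebra.IsIntegral A B] :
    ∃ _ : HenselianLocalRing B, IsLocalHom (algebraMap A B) ∧
      (IsSepClosed (IsLocalRing.ResidueField A) →
        IsSepClosed (IsLocalRing.ResidueField B) ∧
        ∀ _ : IsLocalHom (algebraMap A B),
          letI := (IsLocalRing.ResidueField.map (algebraMap A B)).toAlgebra
          IsPurelyInseparable (IsLocalRing.ResidueField A) (IsLocalRing.ResidueField B)) := by
  haveI hB : IsLocalRing B := by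
    refine IsLocalRing.of_isUnit_or_isUnit_one_sub_self fun b => ?_
    let B' : Subalgebra A B := Algebra.adjoin A {b}
    haveI : Module.Finite A B' :=
      Algebra.finite_adjoin_simple_of_isIntegral (Algebra.IsIntegral.isIntegral b)
    haveI : IsLocalRing B' := isLocalRing_of_finite_of_isDomain A B'
    let b' : B' := ⟨b, Algebra.subset_adjoin rfl⟩
    rcases IsLocalRing.isUnit_or_isUnit_one_sub_self b' with h | h
    · left; exact h.map B'.val
    · right
      have := h.map B'.val
      simpa [b'] using this
  haveI hH : HenselianLocalRing B :=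
    Groth.Agent.Lib.Helper3.HenselInt.henselian_of_isIntegral A B
  have hloc : IsLocalHom (algebraMap A B) := isLocalHom_of_isIntegral_of_isLocalRing
  refine ⟨hH, hloc, fun hsep => ?_⟩
  have key : ∀ _ : IsLocalHom (algebraMap A B),
      letI := (IsLocalRing.ResidueField.map (algebraMap A B)).toAlgebra
      IsSepClosed (IsLocalRing.ResidueField B) ∧
        IsPurelyInseparable (IsLocalRing.ResidueField A) (IsLocalRing.ResidueField B) := by
    intro hl
    letI := (IsLocalRing.ResidueField.map (algebraMap A B)).toAlgebra
    haveI : Algebra.IsAlgebraic (ResidueField A) (ResidueField B) := isAlgebraic_residueField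
    exact ⟨Algebra.IsAlgebraic.isSepClosed (F := ResidueField A), inferInstance⟩
  exact ⟨(key hloc).1, fun hl => (key hl).2⟩

end Groth.Agent.S1964
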