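import Groth.Statements.S0735
import Groth.Agent.Lib.Helper3IndEt
import Mathlib

set_option autoImplicit false
open CategoryTheory CategoryTheory.Limits AlgebraicGeometry Opposite Topology
universe u
open ProEtW

namespace Groth.Agent.S0735

open Groth.Agent.Lib.Helper3.IndEt
open scoped TensorProduct

set_option maxHeartbeats 1000000 in

/-- If A -> B and A -> C are ind-etale and C is a B-algebra compatibly with A, then C is ind-etale over
B. -/
theorem result (A B C : Type u) [CommRing A] [CommRing B]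
    [CommRing C] [Algebra A B] [Algebra B C] [Algebra A C] [IsScalarTower A B C]
    (hB : EtPBC.IsIndEtale A B) (hC : EtPBC.IsIndEtale A C) : EtPBC.IsIndEtale B C := by
  apply isIndEtale_of_factor
  intro P _ _ _ ψ
  classical
  let pres := Algebra.Presentation.ofFinitePresentation B P
  have hfin : pres.coeffs.Finite := Algebra.Presentation.finite_coeffs
  let N : Finset B := hfin.toFinset
  let φ₀ : MvPolynomial N A →ₐ[A] B := MvPolynomial.aeval (fun x => (x : B))
  obtain ⟨B₀, _, _, _, f₀, β, hβ⟩ := factor_of_isIndEtale hB (MvPolynomial N A) φ₀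
  letI : Algebra B₀ B := β.toRingHom.toAlgebra
  haveI : IsScalarTower A B₀ B := IsScalarTower.of_algebraMap_eq (fun a => (β.commutes a).symm)
  letI : Algebra B₀ P := ((algebraMap B P).comp β.toRingHom).toAlgebra
  haveI : IsScalarTower B₀ B P := IsScalarTower.of_algebraMap_eq (fun _ => rfl)
  haveI : pres.HasCoeffs B₀ := by
    refine ⟨fun x hx => ?_⟩
    have hxN : x ∈ N := hfin.mem_toFinset.mpr hx
    refine ⟨f₀ (MvPolynomial.X ⟨x, hxN⟩), ?_⟩
    show β (f₀ (MvPolynomial.X ⟨x, hxN⟩)) = x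
    have := congr($hβ (MvPolynomial.X ⟨x, hxN⟩))
    rw [AlgHom.comp_apply] at this
    rw [this]
    simp [φ₀]
  let P₀ := pres.ModelOfHasCoeffs B₀
  haveI : Algebra.FinitePresentation A P₀ := Algebra.FinitePresentation.trans A B₀ P₀
  let e : B ⊗[B₀] P₀ ≃ₐ[B] P := pres.tensorModelOfHasCoeffsEquiv B₀
  letI : Algebra B₀ C := ((algebraMap B C).comp (algebraMap B₀ B)).toAlgebra
  haveI : IsScalarTower B₀ B C := IsScalarTower.of_algebraMap_eq (fun _ => rfl)
  haveI : IsScalarTower A B₀ C := IsScalarTower.of_algebraMap_eq (fun a => by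
    rw [IsScalarTower.algebraMap_apply A B C, IsScalarTower.algebraMap_apply A B₀ B,
      ← IsScalarTower.algebraMap_apply B₀ B C])
  letI : Algebra A P := ((algebraMap B P).comp (algebraMap A B)).toAlgebra
  haveI : IsScalarTower A B P := IsScalarTower.of_algebraMap_eq (fun _ => rfl)
  haveI : IsScalarTower A B₀ P := IsScalarTower.of_algebraMap_eq (fun a => by
    rw [IsScalarTower.algebraMap_apply A B P, IsScalarTower.algebraMap_apply A B₀ B,
      ← IsScalarTower.algebraMap_apply B₀ B P])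
  let ι₀ : P₀ →ₐ[B₀] P :=
    ((e : B ⊗[B₀] P₀ →ₐ[B] P).restrictScalars B₀).comp Algebra.TensorProduct.includeRight
  let ψ₀ : P₀ →ₐ[A] C := (ψ.restrictScalars A).comp (ι₀.restrictScalars A)
  obtain ⟨E, _, _, _, u, v, huv⟩ := factor_of_isIndEtale hC P₀ ψ₀
  letI : Algebra B₀ E := (u.toRingHom.comp (algebraMap B₀ P₀)).toAlgebra
  haveI : IsScalarTower A B₀ E := IsScalarTower.of_algebraMap_eq (fun a => by
    show algebraMap A E a = u (algebraMap B₀ P₀ (algebraMap A B₀ a))
    rw [← IsScalarTower.algebraMap_apply A B₀ P₀, u.commutes])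
  haveI : Algebra.Etale B₀ E := Algebra.Etale.of_restrictScalars A B₀ E
  let u' : P₀ →ₐ[B₀] E := { u with commutes' := fun _ => rfl }
  have hv : ∀ b : B₀, v (algebraMap B₀ E b) = algebraMap B₀ C b := by
    intro b
    show v (u (algebraMap B₀ P₀ b)) = _
    have := congr($huv (algebraMap B₀ P₀ b))
    rw [AlgHom.comp_apply] at this
    rw [this]
    show ψ (ι₀ (algebraMap B₀ P₀ b)) = _
    rw [ι₀.commutes, IsScalarTower.algebraMap_apply B₀ B P, ψ.commutes,
      ← IsScalarTower.algebraMap_apply B₀ B C]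
  let v' : E →ₐ[B₀] C := { v with commutes' := hv }
  let f : P →ₐ[B] B ⊗[B₀] E :=
    (Algebra.TensorProduct.map (AlgHom.id B B) u').comp (e.symm : P →ₐ[B] B ⊗[B₀] P₀)
  let g : B ⊗[B₀] E →ₐ[B] C :=
    Algebra.TensorProduct.lift (Algebra.ofId B C) v' (fun _ _ => Commute.all _ _)
  refine ⟨B ⊗[B₀] E, inferInstance, inferInstance, inferInstance, f, g, ?_⟩
  have key : (g.comp (Algebra.TensorProduct.map (AlgHom.id B B) u'))
      = ψ.comp (e : B ⊗[B₀] P₀ →ₐ[B] P) := by
    apply Algebra.TensorProduct.ext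
    · apply AlgHom.ext
      intro b
      show g (b ⊗ₜ[B₀] u' 1) = ψ (e (b ⊗ₜ[B₀] 1))
      rw [map_one]
      have h1 : g (b ⊗ₜ[B₀] (1 : E)) = algebraMap B C b := by
        simp [g]
      have hb : (b ⊗ₜ[B₀] (1 : P₀)) = b • (1 : B ⊗[B₀] P₀) := by
        rw [Algebra.TensorProduct.one_def, TensorProduct.smul_tmul', smul_eq_mul, mul_one]
      rw [h1, hb, map_smul, map_one, map_smul, map_one, Algebra.smul_def, mul_one]
    · apply AlgHom.ext
      intro p
      show g ((1 : B) ⊗ₜ[B₀] u' p) = ψ (e ((1 : B) ⊗ₜ[B₀] p))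
      have h1 : g ((1 : B) ⊗ₜ[B₀] u' p) = v (u p) := by
        simp [g, v', u']
      rw [h1]
      have := congr($huv p)
      rw [AlgHom.comp_apply] at this
      rw [this]
      rfl
  apply AlgHom.ext
  intro p
  show g (Algebra.TensorProduct.map (AlgHom.id B B) u' (e.symm p)) = ψ p
  have := congr($key (e.symm p))
  rw [AlgHom.comp_apply, AlgHom.comp_apply] at this
  rw [this]
  show ψ (e (e.symm p)) = ψ p
  rw [e.apply_symm_apply]

end Groth.Agent.S0735
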