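import Groth.Statements.S13598
import Mathlib.Algebra.Polynomial.Lifts
import Mathlib.RingTheory.Henselian

set_option autoImplicit false
universe u
open Hensel

namespace Groth.Agent.S13598

open Polynomial IsLocalRing in
lemma henselian_quotient {S : Type u} [CommRing S] [HenselianLocalRing S] (J : Ideal S)
    [hloc : IsLocalRing (S ⧸ J)] : HenselianLocalRing (S ⧸ J) := by
  have hπ : Function.Surjective (Ideal.Quotient.mk J) := Ideal.Quotient.mk_surjective
  have hJtop : J ≠ ⊤ := by
    intro h
    have : Subsingleton (S ⧸ J) := Ideal.Quotient.subsingleton_iff.mpr h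
    exact not_subsingleton (S ⧸ J) this
  have hJ : J ≤ Ideal.jacobson ⊥ := by
    rw [IsLocalRing.jacobson_eq_maximalIdeal ⊥ bot_ne_top]
    exact IsLocalRing.le_maximalIdeal hJtop
  have hlocal : IsLocalHom (Ideal.Quotient.mk J) := isLocalHom_of_le_jacobson_bot J hJ
  refine { toIsLocalRing := hloc, is_henselian := ?_ }
  intro fbar hmonic abar h₁ h₂
  obtain ⟨f, hfmap, -, hfmonic⟩ := lifts_and_natDegree_eq_and_monic (f := Ideal.Quotient.mk J)
    ((mem_lifts fbar).mpr (map_surjective _ hπ fbar)) hmonic
  obtain ⟨a₀, rfl⟩ := hπ abar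
  subst hfmap
  rw [eval_map_apply] at h₁
  rw [derivative_map, eval_map_apply] at h₂
  have h₁' : f.eval a₀ ∈ maximalIdeal S := by
    rw [mem_maximalIdeal, mem_nonunits_iff]
    intro hu
    have : IsUnit (Ideal.Quotient.mk J (f.eval a₀)) := hu.map _
    exact (mem_nonunits_iff.mp ((mem_maximalIdeal _).mp h₁)) this
  have h₂' : IsUnit (f.derivative.eval a₀) := hlocal.map_nonunit _ h₂
  obtain ⟨a, ha, haa⟩ := HenselianLocalRing.is_henselian f hfmonic a₀ h₁' h₂'
  refine ⟨Ideal.Quotient.mk J a, ?_, ?_⟩
  · rw [IsRoot.def, eval_map_apply, ha, map_zero]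
  · rw [← map_sub, mem_maximalIdeal, mem_nonunits_iff]
    intro hu
    have := hlocal.map_nonunit _ hu
    exact (mem_nonunits_iff.mp ((mem_maximalIdeal _).mp haa)) this

/-- For a local ring A, a henselization A ⟶ S of A (S a henselian local ring, the structure map local,
and initial among local homomorphisms from A to henselian local rings) and an ideal I of A inside
the maximal ideal, the quotient S/IS with its induced algebra structure over A/I is a henselization
of A/I. (The local-ring and local-homomorphism instances on the quotients hold automatically; they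
are taken as hypotheses only so that the conclusion can be stated.) -/
theorem result {A S : Type u} [CommRing A] [IsLocalRing A] [CommRing S]
    [IsLocalRing S] [Algebra A S] [IsLocalHom (algebraMap A S)] [Hensel.IsHenselization A S]
    (I : Ideal A) (hI : I ≤ IsLocalRing.maximalIdeal A)
    [IsLocalRing (A ⧸ I)] [IsLocalRing (S ⧸ I.map (algebraMap A S))]
    [IsLocalHom (algebraMap (A ⧸ I) (S ⧸ I.map (algebraMap A S)))] :
    Hensel.IsHenselization (A ⧸ I) (S ⧸ I.map (algebraMap A S)) := by
  have hS : HenselianLocalRing S := Hensel.IsHenselization.henselian A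
  refine { henselian := henselian_quotient _, universal := ?_ }
  intro T _ _ f hf
  -- the composite A → A/I → T is local
  have hmk : IsLocalHom (Ideal.Quotient.mk I) := by
    apply isLocalHom_of_le_jacobson_bot
    rw [IsLocalRing.jacobson_eq_maximalIdeal ⊥ bot_ne_top]
    exact hI
  have hcomp : IsLocalHom (f.comp (Ideal.Quotient.mk I)) := by
    constructor
    intro a ha
    exact hmk.map_nonunit a (hf.map_nonunit _ ha)
  obtain ⟨g, hg, hguniq⟩ := Hensel.IsHenselization.universal (R := A) (S := S) T
    (f.comp (Ideal.Quotient.mk I)) hcomp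
  have hgker : ∀ x ∈ I.map (algebraMap A S), g x = 0 := by
    intro x hx
    have : I.map (algebraMap A S) ≤ RingHom.ker g := by
      rw [Ideal.map_le_iff_le_comap]
      intro a ha
      show g (algebraMap A S a) = 0
      have := congrArg (fun h : A →+* T => h a) hg
      simp only [RingHom.comp_apply] at this
      rw [this, Ideal.Quotient.eq_zero_iff_mem.mpr ha, map_zero]
    exact this hx
  refine ⟨Ideal.Quotient.lift _ g hgker, ?_, ?_⟩
  · ext a
    simp only [RingHom.comp_apply]
    have e1 : algebraMap (A ⧸ I) (S ⧸ I.map (algebraMap A S)) (Ideal.Quotient.mk I a) =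
        Ideal.Quotient.mk _ (algebraMap A S a) := rfl
    rw [e1, Ideal.Quotient.lift_mk]
    exact congrArg (fun h : A →+* T => h a) hg
  · intro g' hg'
    have h2 : g'.comp (Ideal.Quotient.mk (I.map (algebraMap A S))) = g := by
      apply hguniq
      ext a
      simp only [RingHom.comp_apply]
      have e1 : Ideal.Quotient.mk (I.map (algebraMap A S)) (algebraMap A S a) =
          algebraMap (A ⧸ I) (S ⧸ I.map (algebraMap A S)) (Ideal.Quotient.mk I a) := rfl
      rw [e1]
      exact congrArg (fun h : (A ⧸ I) →+* T => h (Ideal.Quotient.mk I a)) hg'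
    apply Ideal.Quotient.ringHom_ext
    rw [h2]
    ext x
    simp

end Groth.Agent.S13598
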