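import Groth.Statements.S2052
import Groth.Agent.Lib.Helper3Unibranch
import Groth.Agent.Lib.Helper3HzNil
import Groth.Agent.S13598
import Mathlib

set_option autoImplicit false
universe u
open CAlg

namespace Groth.Agent.S2052

open IsLocalRing Groth.Agent.Lib.Helper3

/-- a ring whose nilradical is prime has a unique minimal prime -/
theorem hasUniqueMinimalPrime_of_isPrime_nilradical (B : Type u) [CommRing B]
    (h : (nilradical B).IsPrime) : CAlgX.HasUniqueMinimalPrime B := by
  have hmin : nilradical B ∈ minimalPrimes B :=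
    ⟨⟨h, bot_le⟩, fun Q hQ _ => nilradical_le_prime (H := hQ.1) Q⟩
  refine ⟨nilradical B, hmin, fun Q hQ => ?_⟩
  have h1 : nilradical B ≤ Q := nilradical_le_prime (H := hQ.1.1) Q
  exact le_antisymm (hQ.2 ⟨h, bot_le⟩ h1) h1

theorem isPrime_nilradical_of_hasUniqueMinimalPrime (B : Type u) [CommRing B]
    (h : CAlgX.HasUniqueMinimalPrime B) : (nilradical B).IsPrime := by
  obtain ⟨P, hP, huniq⟩ := h
  have : nilradical B = P := by
    rw [nilradical, ← Ideal.sInf_minimalPrimes]
    apply le_antisymm
    · exact sInf_le hP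
    · exact le_sInf fun Q hQ => (huniq Q hQ).ge
  rw [this]
  exact hP.1.1

/-- A local ring `A` is unibranch (its reduction is a domain with local integral closure) if and only if
the henselization of `A` has a unique minimal prime ideal. -/
theorem result {A Ah : Type u} [CommRing A] [IsLocalRing A]
    [CommRing Ah] [IsLocalRing Ah] [Algebra A Ah] [IsLocalHom (algebraMap A Ah)]
    [Hensel.IsHenselization A Ah] :
    CAlg2.IsUnibranch A ↔ CAlgX.HasUniqueMinimalPrime Ah := by
  have hN : nilradical A ≤ maximalIdeal A := nilradical_le_prime (maximalIdeal A)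
  haveI : Nontrivial (A ⧸ nilradical A) :=
    Ideal.Quotient.nontrivial_iff.mpr (fun h => by
      have := (maximalIdeal.isMaximal A).ne_top
      exact this (top_le_iff.mp (h ▸ hN)))
  haveI : IsLocalRing (A ⧸ nilradical A) :=
    IsLocalRing.of_surjective' (Ideal.Quotient.mk (nilradical A)) Ideal.Quotient.mk_surjective
  have hmap := HzP.hz_map_nilradical A Ah
  have hN' : (nilradical A).map (algebraMap A Ah) ≤ maximalIdeal Ah := by
    rw [hmap]; exact nilradical_le_prime (maximalIdeal Ah)
  haveI : Nontrivial (Ah ⧸ (nilradical A).map (algebraMap A Ah)) :=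
    Ideal.Quotient.nontrivial_iff.mpr (fun h => by
      have := (maximalIdeal.isMaximal Ah).ne_top
      exact this (top_le_iff.mp (h ▸ hN')))
  haveI : IsLocalRing (Ah ⧸ (nilradical A).map (algebraMap A Ah)) :=
    IsLocalRing.of_surjective' (Ideal.Quotient.mk _) Ideal.Quotient.mk_surjective
  haveI : IsLocalHom (algebraMap (A ⧸ nilradical A) (Ah ⧸ (nilradical A).map (algebraMap A Ah))) := by
    refine ⟨fun a ha => ?_⟩
    obtain ⟨a, rfl⟩ := Ideal.Quotient.mk_surjective a
    by_contra hcon
    have ha' : a ∈ maximalIdeal A := by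
      rw [mem_maximalIdeal, mem_nonunits_iff]
      intro hu
      exact hcon (hu.map _)
    have h2 : algebraMap A Ah a ∈ maximalIdeal Ah := by
      rw [mem_maximalIdeal, mem_nonunits_iff]
      intro hu
      exact ((mem_maximalIdeal _).mp ha') (isUnit_of_map_unit (algebraMap A Ah) a hu)
    have h3 : Ideal.Quotient.mk ((nilradical A).map (algebraMap A Ah)) (algebraMap A Ah a) ∈
        maximalIdeal (Ah ⧸ (nilradical A).map (algebraMap A Ah)) := by
      rw [mem_maximalIdeal, mem_nonunits_iff]
      intro hu
      obtain ⟨c, hc⟩ := hu.exists_right_inv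
      obtain ⟨c, rfl⟩ := Ideal.Quotient.mk_surjective c
      rw [← map_mul, ← map_one (Ideal.Quotient.mk _), Ideal.Quotient.eq] at hc
      have h4 : algebraMap A Ah a * c - 1 ∈ maximalIdeal Ah := hN' hc
      have h5 : (1 : Ah) ∈ maximalIdeal Ah := by
        have := Ideal.sub_mem _ (Ideal.mul_mem_right c _ h2) h4
        simpa using this
      exact (maximalIdeal.isMaximal Ah).ne_top ((Ideal.eq_top_iff_one _).mpr h5)
    exact ((mem_maximalIdeal _).mp h3) ha
  haveI : Hensel.IsHenselization (A ⧸ nilradical A) (Ah ⧸ (nilradical A).map (algebraMap A Ah)) :=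
    Groth.Agent.S13598.result (nilradical A) hN
  constructor
  · rintro ⟨hD, hloc⟩
    haveI : IsDomain (A ⧸ nilradical A) := hD
    have hdom : IsDomain (Ah ⧸ (nilradical A).map (algebraMap A Ah)) :=
      Unibranch.isDomain_of_isLocalRing_integralClosure (A ⧸ nilradical A)
        (Ah ⧸ (nilradical A).map (algebraMap A Ah)) (FractionRing (A ⧸ nilradical A)) hloc
    apply hasUniqueMinimalPrime_of_isPrime_nilradical
    rw [← hmap]
    exact (Ideal.Quotient.isDomain_iff_prime _).mp hdom
  · intro h
    have hprime := isPrime_nilradical_of_hasUniqueMinimalPrime Ah h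
    rw [← hmap] at hprime
    haveI hdom : IsDomain (Ah ⧸ (nilradical A).map (algebraMap A Ah)) :=
      (Ideal.Quotient.isDomain_iff_prime _).mpr hprime
    haveI : Module.FaithfullyFlat (A ⧸ nilradical A) (Ah ⧸ (nilradical A).map (algebraMap A Ah)) :=
      HzP.hz_faithfullyFlat _ _
    haveI : IsDomain (A ⧸ nilradical A) :=
      Function.Injective.isDomain (algebraMap (A ⧸ nilradical A) (Ah ⧸ (nilradical A).map (algebraMap A Ah)))
        (FaithfulSMul.algebraMap_injective _ _)
    exact ⟨inferInstance, Unibranch.isLocalRing_integralClosure_of_isDomain (A ⧸ nilradical A)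
        (Ah ⧸ (nilradical A).map (algebraMap A Ah)) (FractionRing (A ⧸ nilradical A))⟩

end Groth.Agent.S2052
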