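import Groth.Statements.S2135
import Groth.Agent.Lib.Helper3GeomUnibranch
import Groth.Agent.Lib.Helper3HzNil
import Groth.Agent.Lib.Helper3ShQuot
import Groth.Agent.S2052
import Mathlib

set_option autoImplicit false
universe u
open CAlg

namespace Groth.Agent.S2135

open IsLocalRing Groth.Agent.Lib.Helper3

/-- A local ring `A` is geometrically unibranch if and only if a strict henselization of `A` has a
unique minimal prime ideal. -/
theorem result {A Ash : Type u} [CommRing A] [IsLocalRing A]
    [CommRing Ash] [IsLocalRing Ash] [Algebra A Ash] [IsLocalHom (algebraMap A Ash)]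
    [Hensel.IsStrictHenselization A Ash] :
    CAlg2.IsGeomUnibranch A ↔ CAlgX.HasUniqueMinimalPrime Ash := by
  have hN : nilradical A ≤ maximalIdeal A := nilradical_le_prime (maximalIdeal A)
  haveI : Nontrivial (A ⧸ nilradical A) :=
    Ideal.Quotient.nontrivial_iff.mpr (fun h => by
      have := (maximalIdeal.isMaximal A).ne_top
      exact this (top_le_iff.mp (h ▸ hN)))
  haveI : IsLocalRing (A ⧸ nilradical A) :=
    IsLocalRing.of_surjective' (Ideal.Quotient.mk (nilradical A)) Ideal.Quotient.mk_surjective
  have hmap := HzP.sh_map_nilradical A Ash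
  have hN' : (nilradical A).map (algebraMap A Ash) ≤ maximalIdeal Ash := by
    rw [hmap]; exact nilradical_le_prime (maximalIdeal Ash)
  haveI : Nontrivial (Ash ⧸ (nilradical A).map (algebraMap A Ash)) :=
    Ideal.Quotient.nontrivial_iff.mpr (fun h => by
      have := (maximalIdeal.isMaximal Ash).ne_top
      exact this (top_le_iff.mp (h ▸ hN')))
  haveI : IsLocalRing (Ash ⧸ (nilradical A).map (algebraMap A Ash)) :=
    IsLocalRing.of_surjective' (Ideal.Quotient.mk _) Ideal.Quotient.mk_surjective
  haveI : IsLocalHom (algebraMap (A ⧸ nilradical A) (Ash ⧸ (nilradical A).map (algebraMap A Ash))) := by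
    refine ⟨fun a ha => ?_⟩
    obtain ⟨a, rfl⟩ := Ideal.Quotient.mk_surjective a
    by_contra hcon
    have ha' : a ∈ maximalIdeal A := by
      rw [mem_maximalIdeal, mem_nonunits_iff]
      intro hu
      exact hcon (hu.map _)
    have h2 : algebraMap A Ash a ∈ maximalIdeal Ash := by
      rw [mem_maximalIdeal, mem_nonunits_iff]
      intro hu
      exact ((mem_maximalIdeal _).mp ha') (isUnit_of_map_unit (algebraMap A Ash) a hu)
    have h3 : Ideal.Quotient.mk ((nilradical A).map (algebraMap A Ash)) (algebraMap A Ash a) ∈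
        maximalIdeal (Ash ⧸ (nilradical A).map (algebraMap A Ash)) := by
      rw [mem_maximalIdeal, mem_nonunits_iff]
      intro hu
      obtain ⟨c, hc⟩ := hu.exists_right_inv
      obtain ⟨c, rfl⟩ := Ideal.Quotient.mk_surjective c
      rw [← map_mul, ← map_one (Ideal.Quotient.mk _), Ideal.Quotient.eq] at hc
      have h4 : algebraMap A Ash a * c - 1 ∈ maximalIdeal Ash := hN' hc
      have h5 : (1 : Ash) ∈ maximalIdeal Ash := by
        have := Ideal.sub_mem _ (Ideal.mul_mem_right c _ h2) h4
        simpa using this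
      exact (maximalIdeal.isMaximal Ash).ne_top ((Ideal.eq_top_iff_one _).mpr h5)
    exact ((mem_maximalIdeal _).mp h3) ha
  haveI : Hensel.IsStrictHenselization (A ⧸ nilradical A) (Ash ⧸ (nilradical A).map (algebraMap A Ash)) :=
    ShQuot.isStrictHenselization_quotient (nilradical A)
  constructor
  · rintro ⟨⟨h1, h2⟩, h3⟩
    haveI : IsDomain (A ⧸ nilradical A) := h1
    haveI : IsLocalRing (CAlg2.normRed A) := h2
    let p := ringExpChar (ResidueField (CAlg2.normRed A))
    haveI : ExpChar (ResidueField (CAlg2.normRed A)) p := ringExpChar.expChar _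
    have hdom : IsDomain (Ash ⧸ (nilradical A).map (algebraMap A Ash)) := by
      refine GeomUnibranch.isDomain_of_pi (A ⧸ nilradical A)
        (Ash ⧸ (nilradical A).map (algebraMap A Ash)) (FractionRing (A ⧸ nilradical A)) h2 p ?_
      intro b
      obtain ⟨n, r, hr⟩ := h3 (maximalIdeal (CAlg2.normRed A))
        (Ideal.Quotient.mk (maximalIdeal (CAlg2.normRed A)) b)
      refine ⟨n, Ideal.Quotient.mk (nilradical A) r, ?_⟩
      have hr' : Ideal.Quotient.mk (maximalIdeal (CAlg2.normRed A))
          (algebraMap (CAlg2.red A) (CAlg2.normRed A) (Ideal.Quotient.mk (nilradical A) r))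
          = Ideal.Quotient.mk (maximalIdeal (CAlg2.normRed A)) (b ^ p ^ n) := by
        rw [map_pow]
        exact hr
      rw [← Ideal.Quotient.eq]
      exact hr'.symm
    apply Groth.Agent.S2052.hasUniqueMinimalPrime_of_isPrime_nilradical
    rw [← hmap]
    exact (Ideal.Quotient.isDomain_iff_prime _).mp hdom
  · intro h
    have hprime := Groth.Agent.S2052.isPrime_nilradical_of_hasUniqueMinimalPrime Ash h
    rw [← hmap] at hprime
    haveI hdom : IsDomain (Ash ⧸ (nilradical A).map (algebraMap A Ash)) :=
      (Ideal.Quotient.isDomain_iff_prime _).mpr hprime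
    haveI : Module.FaithfullyFlat (A ⧸ nilradical A) (Ash ⧸ (nilradical A).map (algebraMap A Ash)) :=
      HzP.sh_faithfullyFlat _ _
    haveI : IsDomain (A ⧸ nilradical A) :=
      Function.Injective.isDomain (algebraMap (A ⧸ nilradical A) (Ash ⧸ (nilradical A).map (algebraMap A Ash)))
        (FaithfulSMul.algebraMap_injective _ _)
    refine ⟨⟨inferInstance, GeomUnibranch.isLocalRing_integralClosure_of_isDomain (A ⧸ nilradical A)
        (Ash ⧸ (nilradical A).map (algebraMap A Ash)) (FractionRing (A ⧸ nilradical A))⟩, ?_⟩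
    intro m' _ x
    obtain ⟨n, d, hd⟩ := GeomUnibranch.pi_of_isDomain (A ⧸ nilradical A)
      (Ash ⧸ (nilradical A).map (algebraMap A Ash)) (FractionRing (A ⧸ nilradical A)) m' x
    obtain ⟨r, rfl⟩ := Ideal.Quotient.mk_surjective d
    exact ⟨n, r, hd⟩

end Groth.Agent.S2135
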