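import Groth.Statements.S9237
import Groth.Agent.Lib.Helper3Branch
import Groth.Agent.Lib.Helper3IndEtHz
import Groth.Agent.Lib.Helper3TensorLocal
import Groth.Agent.Lib.Helper3MinLoc
import Mathlib

set_option autoImplicit false
universe u
open Brnch

namespace Groth.Agent.S9237

/-- Let A be a local ring and S a henselization of A. Then the number of minimal prime ideals of S, a
natural number or infinity, equals the number of branches of A as computed from the integral closure
of A_red in its total ring of fractions: infinity if A has infinitely many minimal primes, and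
otherwise the number of maximal ideals of that integral closure. -/
theorem result (A S : Type u) [CommRing A]
    [IsLocalRing A] [CommRing S] [IsLocalRing S] [Algebra A S] [IsLocalHom (algebraMap A S)]
    [Hensel.IsHenselization A S] :
    ENat.card (minimalPrimes S) = Brnch.numBranches A := by
  open TensorProduct Groth.Agent.Lib.Helper3 in
  haveI : Module.FaithfullyFlat A S := HzP.hz_faithfullyFlat A S
  unfold Brnch.numBranches
  by_cases hfin : (minimalPrimes A).Finite
  · rw [if_pos hfin]
    haveI hH : HenselianLocalRing S := Hensel.IsHenselization.henselian A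
    haveI : Algebra.IsIntegral A (CAlg2.normRed A) := by
      haveI : Algebra.IsIntegral A (CAlg2.red A) :=
        Algebra.isIntegral_of_surjective Ideal.Quotient.mk_surjective
      exact Algebra.IsIntegral.trans (CAlg2.red A)
    -- step 1: minimal primes of S vs. of T
    have e1 : ENat.card (minimalPrimes S) = ENat.card (minimalPrimes ((CAlg2.normRed A) ⊗[A] S)) :=
      (ENat.card_congr (Set.BijOn.equiv _ (MinLoc.bijOn_minimalPrimes_normRed_tensor A S))).symm
    -- step 2: minimal primes of T vs. maximal ideals of T
    have h1 : ∀ q ∈ minimalPrimes ((CAlg2.normRed A) ⊗[A] S),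
        ∃! m : Ideal ((CAlg2.normRed A) ⊗[A] S), m.IsMaximal ∧ q ≤ m := by
      intro q hq
      haveI : q.IsPrime := hq.1.1
      exact Branch.existsUnique_maximal_ge _ TensorLocal.includeRight_isIntegral q
    have h2 : ∀ m : Ideal ((CAlg2.normRed A) ⊗[A] S), m.IsMaximal →
        ∃! q : Ideal ((CAlg2.normRed A) ⊗[A] S),
          q ∈ minimalPrimes ((CAlg2.normRed A) ⊗[A] S) ∧ q ≤ m := by
      intro m hm
      haveI : m.IsPrime := hm.isPrime
      have hind : EtPBC.IsIndEtale (CAlg2.normRed A) ((CAlg2.normRed A) ⊗[A] S) :=
        Groth.Agent.S0733.result A S (CAlg2.normRed A)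
          (IndEt.isIndEtale_of_isHenselization A S)
      have hL : @Branch.LDP ((CAlg2.normRed A) ⊗[A] S) _ m :=
        Branch.ldp_of_isIndEtale (CAlg2.normRed A)
          (fun p _ => Branch.normal_normRed A hfin p) _ hind m
      exact @Branch.existsUnique_minimalPrimes_le_of_ldp ((CAlg2.normRed A) ⊗[A] S) _ m _ hL
    obtain ⟨e2⟩ := Branch.nonempty_equiv_minimalPrimes_maximalSpectrum
      (T := (CAlg2.normRed A) ⊗[A] S) h1 h2
    -- step 3: maximal ideals of T vs. of normRed A
    obtain ⟨e3⟩ := Branch.nonempty_equiv_maximalSpectrum_tensor (A := A) (B := CAlg2.normRed A)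
      (S := S) (HzP.hz_exists_sub_mem_maximalIdeal A S)
    rw [e1, ENat.card_congr e2, ENat.card_congr e3]
  · rw [if_neg hfin]
    haveI := Branch.infinite_minimalPrimes_of_faithfullyFlat (A := A) (S := S) hfin
    exact ENat.card_eq_top_of_infinite

end Groth.Agent.S9237
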