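import Groth.Statements.S9238
import Groth.Agent.Lib.Helper3Branch
import Groth.Agent.Lib.Helper3IndEtHz
import Groth.Agent.Lib.Helper3TensorLocal
import Groth.Agent.Lib.Helper3MinLoc
import Groth.Agent.Lib.Helper4BranchSum
import Mathlib

set_option autoImplicit false
universe u
open Brnch

namespace Groth.Agent.S9238

/-- Let A be a local ring and S a strict henselization of A. Then the number of minimal prime ideals of
S, a natural number or infinity, equals the number of geometric branches of A as computed from the
integral closure of A_red in its total ring of fractions (maximal ideals counted with multiplicity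
the separable degree of their residue field over that of A; infinity if A has infinitely many
minimal primes). -/
theorem result (A S : Type u) [CommRing A]
    [IsLocalRing A] [CommRing S] [IsLocalRing S] [Algebra A S] [IsLocalHom (algebraMap A S)]
    [Hensel.IsStrictHenselization A S] :
    ENat.card (minimalPrimes S) = Brnch.numGeomBranches A := by
  open TensorProduct IsLocalRing Groth.Agent.Lib.Helper3 in
  haveI : Module.FaithfullyFlat A S := HzP.sh_faithfullyFlat A S
  by_cases hfin : (minimalPrimes A).Finite
  · rw [Groth.Agent.Lib.Helper4.BranchSum.numGeomBranches_eq_card_pts A hfin]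
    haveI hH : HenselianLocalRing S := Hensel.IsStrictHenselization.henselian A
    haveI hsc : IsSepClosure (ResidueField A) (ResidueField S) :=
      Hensel.IsStrictHenselization.isSepClosure
    haveI : IsSepClosed (ResidueField S) := hsc.sep_closed
    haveI : Algebra.IsSeparable (ResidueField A) (ResidueField S) := hsc.separable
    haveI : Algebra.IsAlgebraic (ResidueField A) (ResidueField S) := inferInstance
    haveI : Algebra.IsIntegral A (CAlg2.normRed A) := by
      haveI : Algebra.IsIntegral A (CAlg2.red A) :=
        Algebra.isIntegral_of_surjective Ideal.Quotient.mk_surjective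
      exact Algebra.IsIntegral.trans (CAlg2.red A)
    -- the map ι : S → Ω
    let Ω := AlgebraicClosure (ResidueField A)
    let j : ResidueField S →ₐ[ResidueField A] Ω := IsAlgClosed.lift
    let ι : S →+* Ω := j.toRingHom.comp (residue S)
    have hι : RingHom.ker ι = maximalIdeal S := by
      ext s
      rw [RingHom.mem_ker, ← IsLocalRing.residue_eq_zero_iff]
      show j (residue S s) = 0 ↔ _
      exact map_eq_zero_iff _ j.injective
    have hιA : ι.comp (algebraMap A S) = Brnch.toClosure A := by
      ext a
      show j (residue S (algebraMap A S a)) = _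
      have : residue S (algebraMap A S a) =
          algebraMap (ResidueField A) (ResidueField S) (residue A a) := rfl
      rw [this, j.commutes]
      rfl
    -- step 1: minimal primes of S vs. of T
    have e1 : ENat.card (minimalPrimes S) = ENat.card (minimalPrimes ((CAlg2.normRed A) ⊗[A] S)) :=
      (ENat.card_congr (Set.BijOn.equiv _ (MinLoc.bijOn_minimalPrimes_normRed_tensor A S))).symm
    -- step 2: minimal primes of T vs. maximal ideals of T
    have h1 : ∀ q ∈ minimalPrimes ((CAlg2.normRed A) ⊗[A] S),
        ∃! m : Ideal ((CAlg2.normRed A) ⊗[A] S), m.IsMaximal ∧ q ≤ m := by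
      intro q hq
      haveI : q.IsPrime := hq.1.1
      exact Branch.existsUnique_maximal_ge _ TensorLocal.includeRight_isIntegral q
    have h2 : ∀ m : Ideal ((CAlg2.normRed A) ⊗[A] S), m.IsMaximal →
        ∃! q : Ideal ((CAlg2.normRed A) ⊗[A] S),
          q ∈ minimalPrimes ((CAlg2.normRed A) ⊗[A] S) ∧ q ≤ m := by
      intro m hm
      haveI : m.IsPrime := hm.isPrime
      have hind : EtPBC.IsIndEtale (CAlg2.normRed A) ((CAlg2.normRed A) ⊗[A] S) :=
        Groth.Agent.S0733.result A S (CAlg2.normRed A)
          (IndEt.isIndEtale_of_isStrictHenselization A S)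
      have hL : @Branch.LDP ((CAlg2.normRed A) ⊗[A] S) _ m :=
        Branch.ldp_of_isIndEtale (CAlg2.normRed A)
          (fun p _ => Branch.normal_normRed A hfin p) _ hind m
      exact @Branch.existsUnique_minimalPrimes_le_of_ldp ((CAlg2.normRed A) ⊗[A] S) _ m _ hL
    obtain ⟨e2⟩ := Branch.nonempty_equiv_minimalPrimes_maximalSpectrum
      (T := (CAlg2.normRed A) ⊗[A] S) h1 h2
    -- step 3: maximal ideals of T vs. points
    obtain ⟨e3⟩ := Branch.nonempty_equiv_pts_maximalSpectrum (A := A) (B := CAlg2.normRed A)
      (S := S) ι hι
    obtain ⟨e4⟩ := Branch.nonempty_equiv_pts_pts (A := A) (B := CAlg2.normRed A) (S := S) ι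
    rw [e1, ENat.card_congr e2, ← ENat.card_congr e3, ENat.card_congr e4]
    apply ENat.card_congr
    have hcan : algebraMap A (CAlg2.normRed A) = Groth.Agent.Lib.Helper4.Unibranch.canNorm A := rfl
    rw [hιA, hcan]
  · unfold Brnch.numGeomBranches
    rw [if_neg hfin]
    haveI := Branch.infinite_minimalPrimes_of_faithfullyFlat (A := A) (S := S) hfin
    exact ENat.card_eq_top_of_infinite

end Groth.Agent.S9238
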