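import Groth.Statements.S3399
import Groth.Agent.Lib.Helper5ProCons

set_option autoImplicit false
open CategoryTheory AlgebraicGeometry
universe u
open EGA41

namespace Groth.Agent.S3399

/-- Let f : X' ⟶ X be a morphism locally of finite presentation and E' an ind-constructible subset of
X'. Then f(E') is ind-constructible in X; in particular f(X') is ind-constructible. -/
theorem result {X' X : Scheme.{u}} (f : X' ⟶ X)
    [LocallyOfFinitePresentation f] (E' : Set X') (hE' : ProCons.IsIndConstructible E') :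
    ProCons.IsIndConstructible (f.base '' E') := by
  classical
  intro x
  -- an affine open neighbourhood of x
  obtain ⟨U, hU, hxU, -⟩ :=
    TopologicalSpace.Opens.isBasis_iff_nbhd.mp X.isBasis_affineOpens
      (show x ∈ (⊤ : X.Opens) from trivial)
  have : IsAffine (U : Scheme.{u}) := hU
  -- local data on X'
  choose U' hU' hxU' S' hS' hES' using hE'
  -- affine opens inside
  have hW : ∀ x' : X', f.base x' ∈ U → ∃ W : X'.Opens, IsAffineOpen W ∧ x' ∈ W ∧
      (W : Set X') ⊆ U' x' ∧ W ≤ f ⁻¹ᵁ U := by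
    intro x' hx'
    obtain ⟨W, hW, hxW, hWU⟩ :=
      TopologicalSpace.Opens.isBasis_iff_nbhd.mp X'.isBasis_affineOpens
        (show x' ∈ ((⟨U' x', hU' x'⟩ : X'.Opens) ⊓ f ⁻¹ᵁ U) from ⟨hxU' x', hx'⟩)
    exact ⟨W, hW, hxW, fun z hz => (hWU hz).1, fun z hz => (hWU hz).2⟩
  let P : Type u := {x' : X' // f.base x' ∈ U}
  choose W hWaff hxW hWU' hWU using fun p : P => hW p.1 p.2
  let g : ∀ p : P, ((W p : X'.Opens) : Scheme.{u}) ⟶ (U : Scheme.{u}) :=
    fun p => f.resLE U (W p) (hWU p)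
  have hgval : ∀ (p : P) (z : ((W p : X'.Opens) : Scheme.{u})),
      ((g p).base z).1 = f.base z.1 := fun p z =>
    Scheme.Hom.coe_resLE_apply f (hWU p) z
  refine ⟨(U : Set X), U.isOpen, hxU,
    {T | ∃ (p : P) (T' : Set (U' p.1)), T' ∈ S' p.1 ∧
      T = (g p).base '' (Set.inclusion (hWU' p) ⁻¹' T')}, ?_, ?_⟩
  · rintro _ ⟨p, T', hT', rfl⟩
    have : IsAffine ((W p : X'.Opens) : Scheme.{u}) := hWaff p
    have hemb : Topology.IsOpenEmbedding (Set.inclusion (hWU' p)) :=
      .inclusion (hWU' p) ((W p).isOpen.preimage continuous_subtype_val)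
    have hloc : Topology.IsLocallyConstructible (Set.inclusion (hWU' p) ⁻¹' T') :=
      (hS' p.1 T' hT').preimage_of_isOpenEmbedding hemb
    exact (g p).isLocallyConstructible_image hloc
  · ext ⟨y, hy⟩
    constructor
    · rintro ⟨x', hx'E, hx'y⟩
      have hx'y' : f.base x' = y := hx'y
      let p : P := ⟨x', by rw [hx'y']; exact hy⟩
      have h1 : (⟨x', hxU' x'⟩ : U' x') ∈ (Subtype.val ⁻¹' E' : Set (U' x')) := hx'E
      rw [hES' x'] at h1
      obtain ⟨T', hT', hxT'⟩ := h1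
      refine ⟨_, ⟨p, T', hT', rfl⟩, ⟨⟨x', hxW p⟩, hxT', ?_⟩⟩
      apply Subtype.ext
      rw [hgval p ⟨x', hxW p⟩]
      exact hx'y'
    · rintro ⟨_, ⟨p, T', hT', rfl⟩, ⟨z, hzT', hzy⟩⟩
      have h1 : (⟨z.1, hWU' p z.2⟩ : U' p.1) ∈ ⋃₀ S' p.1 := ⟨T', hT', hzT'⟩
      rw [← hES' p.1] at h1
      refine ⟨z.1, h1, ?_⟩
      have := hgval p z
      rw [hzy] at this
      exact this.symm

end Groth.Agent.S3399
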