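import Groth.Statements.S3403
import Groth.Agent.Lib.Helper5Cons
import Mathlib.AlgebraicGeometry.Morphisms.QuasiSeparated
import Mathlib.AlgebraicGeometry.Properties

set_option autoImplicit false
open CategoryTheory AlgebraicGeometry
universe u
open EGA41

namespace Groth.Agent.S3403

/-- Let X be a scheme, E an ind-constructible subset of X and x a point of X. Then x is an interior
point of E if and only if every generization of x belongs to E. -/
theorem result (X : Scheme.{u}) (E : Set X)
    (hE : ProCons.IsIndConstructible E) (x : X) :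
    x ∈ interior E ↔ ∀ x' : X, x' ⤳ x → x' ∈ E := by
  constructor
  · intro hx x' hx'
    exact interior_subset (hx'.mem_open isOpen_interior hx)
  · intro hx
    obtain ⟨U₁, hU₁, hxU₁, S₁, hS₁, h₁⟩ := hE x
    obtain ⟨W, hW, hxW, hWU⟩ :=
      TopologicalSpace.Opens.isBasis_iff_nbhd.mp X.isBasis_affineOpens
        (show x ∈ (⟨U₁, hU₁⟩ : X.Opens) from hxU₁)
    have : IsAffine (W : Scheme.{u}) := hW
    have : CompactSpace ↥(W : Set X) := inferInstanceAs (CompactSpace (W : Scheme.{u}))
    have : QuasiSober ↥(W : Set X) := inferInstanceAs (QuasiSober (W : Scheme.{u}))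
    have : PrespectralSpace ↥(W : Set X) := inferInstanceAs (PrespectralSpace (W : Scheme.{u}))
    have : QuasiSeparatedSpace ↥(W : Set X) :=
      inferInstanceAs (QuasiSeparatedSpace (W : Scheme.{u}))
    exact Groth.Agent.Lib.Helper5.mem_interior_of_sUnion E W.isOpen hWU S₁ hS₁ h₁ x hxW hx

end Groth.Agent.S3403
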