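import Groth.Statements.S3404
import Groth.Agent.Lib.Helper5Gen
import Groth.Agent.S3399
import Groth.Agent.S3403

set_option autoImplicit false
open CategoryTheory AlgebraicGeometry
universe u
open EGA41

namespace Groth.Agent.S3404

/-- Let f : X ⟶ Y be a morphism of schemes, x a point of X and y = f x. If f is open at x then every
generization of y is the image of a generization of x; when f is locally of finite presentation the
converse holds. -/
theorem result {X Y : Scheme.{u}} (f : X ⟶ Y) (x : X) :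
    (EGA43.IsOpenAt f.base x → ∀ y' : Y, y' ⤳ f.base x → ∃ x' : X, x' ⤳ x ∧ f.base x' = y') ∧
    (LocallyOfFinitePresentation f →
      ((EGA43.IsOpenAt f.base x) ↔ ∀ y' : Y, y' ⤳ f.base x → ∃ x' : X, x' ⤳ x ∧ f.base x' = y')) := by
  have part1 : EGA43.IsOpenAt f.base x →
      ∀ y' : Y, y' ⤳ f.base x → ∃ x' : X, x' ⤳ x ∧ f.base x' = y' := fun hopen y' hy' =>
    Groth.Agent.Lib.Helper5.exists_specializes_of_isOpenAt f x hopen y' hy'
  refine ⟨part1, fun hfp => ⟨part1, ?_⟩⟩
  intro hlift N hN
  -- shrink to an open neighbourhood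
  obtain ⟨U, hUN, hUo, hxU⟩ := mem_nhds_iff.mp hN
  let U' : X.Opens := ⟨U, hUo⟩
  have hind : ProCons.IsIndConstructible ((U'.ι ≫ f).base '' Set.univ) := by
    apply Groth.Agent.S3399.result (U'.ι ≫ f) Set.univ
    intro z
    refine ⟨Set.univ, isOpen_univ, trivial, {Set.univ}, ?_, ?_⟩
    · intro T hT
      rw [Set.mem_singleton_iff] at hT
      rw [hT]
      exact Topology.IsLocallyConstructible.univ
    · simp
  have himg : (U'.ι ≫ f).base '' Set.univ = f.base '' U := by
    ext y
    constructor
    · rintro ⟨z, -, rfl⟩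
      exact ⟨z.1, z.2, rfl⟩
    · rintro ⟨z, hz, rfl⟩
      exact ⟨⟨z, hz⟩, trivial, rfl⟩
  rw [himg] at hind
  have hint : f.base x ∈ interior (f.base '' U) := by
    rw [Groth.Agent.S3403.result Y _ hind (f.base x)]
    intro y' hy'
    obtain ⟨x', hx', rfl⟩ := hlift y' hy'
    exact ⟨x', hx'.mem_open hUo hxU, rfl⟩
  exact Filter.mem_of_superset (mem_interior_iff_mem_nhds.mp hint) (Set.image_mono hUN)

end Groth.Agent.S3404
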