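import Groth.Statements.S4925
import Groth.Agent.Lib.Helper7UnivOpen

set_option autoImplicit false
open CategoryTheory AlgebraicGeometry
universe u v w
open EGA43

namespace Groth.Agent.S4925

/-- Let f : X ⟶ Y and g : Y ⟶ Z be morphisms of schemes and x a point of X. If f is universally open at
x and g is universally open at f x, then f ≫ g is universally open at x. -/
theorem result {X Y Z : Scheme.{u}} (f : X ⟶ Y) (g : Y ⟶ Z) (x : X)
    (hf : EGA43.IsUnivOpenAt f x) (hg : EGA43.IsUnivOpenAt g (f.base x)) :
    EGA43.IsUnivOpenAt (f ≫ g) x := by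
  intro Z' h x' hx'
  -- the intermediate pullback
  let u : Limits.pullback (f ≫ g) h ⟶ Limits.pullback g h :=
    Limits.pullback.lift (Limits.pullback.fst (f ≫ g) h ≫ f) (Limits.pullback.snd (f ≫ g) h)
      (by rw [Category.assoc]; exact Limits.pullback.condition)
  have hu1 : u ≫ Limits.pullback.fst g h = Limits.pullback.fst (f ≫ g) h ≫ f := Limits.pullback.lift_fst _ _ _
  have hu2 : u ≫ Limits.pullback.snd g h = Limits.pullback.snd (f ≫ g) h := Limits.pullback.lift_snd _ _ _
  have sqbig : IsPullback (Limits.pullback.fst (f ≫ g) h) (u ≫ Limits.pullback.snd g h) (f ≫ g) h := by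
    rw [hu2]; exact IsPullback.of_hasPullback _ _
  have sqtop : IsPullback (Limits.pullback.fst (f ≫ g) h) u f (Limits.pullback.fst g h) :=
    IsPullback.of_bot sqbig hu1.symm (IsPullback.of_hasPullback g h)
  have h1 : EGA43.IsOpenAt u.base x' :=
    Groth.Agent.Lib.Helper7.isOpenAt_of_isPullback sqtop x hf x' hx'
  have h2 : EGA43.IsOpenAt (Limits.pullback.snd g h).base (u.base x') := by
    refine hg Z' h _ ?_
    rw [← Scheme.Hom.comp_apply, hu1, Scheme.Hom.comp_apply, hx']
  have h3 := Groth.Agent.Lib.Helper7.isOpenAt_comp _ _ x' h1 h2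
  have h4 : (Limits.pullback.snd g h).base ∘ u.base = (Limits.pullback.snd (f ≫ g) h).base := by
    rw [← hu2]; rfl
  rw [← h4]; exact h3

end Groth.Agent.S4925
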