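import Groth.Statements.S4926
import Groth.Agent.Lib.Helper7UnivOpen

set_option autoImplicit false
open CategoryTheory AlgebraicGeometry
universe u v w
open EGA43

namespace Groth.Agent.S4926

/-- Let f : X ⟶ Y and g : Y ⟶ Z be morphisms of schemes and x a point of X. If f ≫ g is universally open
at x, then g is universally open at the point f x. -/
theorem result {X Y Z : Scheme.{u}} (f : X ⟶ Y) (g : Y ⟶ Z) (x : X)
    (h : EGA43.IsUnivOpenAt (f ≫ g) x) : EGA43.IsUnivOpenAt g (f.base x) := by
  intro Z' k y' hy'
  have sq2 : IsPullback (Limits.pullback.fst f (Limits.pullback.fst g k))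
      (Limits.pullback.snd f (Limits.pullback.fst g k) ≫ Limits.pullback.snd g k) (f ≫ g) k :=
    (IsPullback.of_hasPullback f (Limits.pullback.fst g k)).paste_vert (IsPullback.of_hasPullback g k)
  obtain ⟨z, hz1, hz2⟩ := AlgebraicGeometry.Scheme.Pullback.exists_preimage_pullback
    (f := f) (g := Limits.pullback.fst g k) x y' hy'.symm
  have h1 : EGA43.IsOpenAt (Limits.pullback.snd f (Limits.pullback.fst g k) ≫ Limits.pullback.snd g k).base z :=
    Groth.Agent.Lib.Helper7.isOpenAt_of_isPullback sq2 x h z hz1
  have h2 := Groth.Agent.Lib.Helper7.isOpenAt_of_isOpenAt_comp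
    (Limits.pullback.snd f (Limits.pullback.fst g k)).base (Limits.pullback.snd f (Limits.pullback.fst g k)).continuous
    (Limits.pullback.snd g k).base z h1
  rw [hz2] at h2
  exact h2

end Groth.Agent.S4926
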