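import Groth.Statements.S2165
import Mathlib
import Groth.Agent.Lib.Helper28ComplQuot
import Groth.Agent.Lib.Helper19ComplDim
import Groth.Agent.Lib.Helper5RLR
-- import your own Groth.Agent.* helpers here

set_option autoImplicit false
universe u
open LCI

namespace Groth.Agent.S2165
open Groth.Agent.Lib.Helper28 IsLocalRing

/-- quotient of a regular local ring by a regular sequence is a complete intersection
(in the sense of the completion). -/
theorem isCompleteIntersection_quotient_ofList {S : Type u} [CommRing S] [IsRegularLocalRing S]
    (rs : List S) (hreg : RingTheory.Sequence.IsRegular S rs)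
    [IsLocalRing (S ⧸ Ideal.ofList rs)] :
    Pi1.IsCompleteIntersection (S ⧸ Ideal.ofList rs) := by
  have hP : maximalIdeal (AdicCompletion (maximalIdeal S) S) =
      (maximalIdeal S).map (algebraMap S (AdicCompletion (maximalIdeal S) S)) :=
    AdicCompletion.maximalIdeal_eq_map
  have hloc : IsLocalHom (algebraMap S (AdicCompletion (maximalIdeal S) S)) := by
    apply ((IsLocalRing.local_hom_TFAE (algebraMap S (AdicCompletion (maximalIdeal S) S))).out 0 2).mpr
    rw [hP]
  have hff : Module.FaithfullyFlat S (AdicCompletion (maximalIdeal S) S) :=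
    Module.FaithfullyFlat.of_flat_of_isLocalHom
  have hregc : IsRegularLocalRing (AdicCompletion (maximalIdeal S) S) :=
    (Groth.Agent.Lib.Helper19.isRegularLocalRing_adicCompletion_iff S).mp inferInstance
  have hreg' : RingTheory.Sequence.IsRegular (AdicCompletion (maximalIdeal S) S)
      (rs.map (algebraMap S (AdicCompletion (maximalIdeal S) S))) :=
    RingTheory.Sequence.IsRegular.of_faithfullyFlat hreg
  have hne : Ideal.ofList rs ≠ ⊤ := by
    intro h
    have : Nontrivial (S ⧸ Ideal.ofList rs) := inferInstance
    exact (Ideal.Quotient.nontrivial_iff.mp this) h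
  have hmem : ∀ r ∈ rs, r ∈ maximalIdeal S := by
    intro r hr
    exact IsLocalRing.le_maximalIdeal hne (Ideal.subset_span hr)
  refine ⟨AdicCompletion (maximalIdeal S) S, inferInstance, hregc,
    rs.map (algebraMap S (AdicCompletion (maximalIdeal S) S)), ?_, hreg', ?_⟩
  · intro r hr
    obtain ⟨r0, hr0, rfl⟩ := List.mem_map.mp hr
    rw [hP]
    exact Ideal.mem_map_of_mem _ (hmem r0 hr0)
  · obtain ⟨e, -⟩ := exists_ringEquiv_adicCompletion_quotient (maximalIdeal S) (Ideal.ofList rs)
    rw [Groth.Agent.Lib.Helper5.maximalIdeal_quotient_eq_map (Ideal.ofList rs)]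
    have hK : (Ideal.ofList rs).map (algebraMap S (AdicCompletion (maximalIdeal S) S)) =
        Ideal.span {r | r ∈ rs.map (algebraMap S (AdicCompletion (maximalIdeal S) S))} := by
      rw [Ideal.map_ofList]
    exact ⟨e.symm.trans (Ideal.quotEquivOfEq hK)⟩

/-- Let R be a regular ring, p a prime ideal of R and f_1, ..., f_r a regular sequence of R contained in
p. Then the local ring R_p/(f_1, ..., f_r) is a complete intersection: its completion is a regular
local ring modulo a regular sequence. The instance hypothesis that the quotient is local always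
holds. -/
theorem result {R : Type u} [CommRing R] [IsRegularRing R]
    (p : Ideal R) [p.IsPrime] (rs : List R) (hmem : ∀ r ∈ rs, r ∈ p)
    (hreg : RingTheory.Sequence.IsRegular R rs)
    [IsLocalRing (Localization.AtPrime p ⧸
      Ideal.map (algebraMap R (Localization.AtPrime p)) (Ideal.ofList rs))] :
    Pi1.IsCompleteIntersection (Localization.AtPrime p ⧸
      Ideal.map (algebraMap R (Localization.AtPrime p)) (Ideal.ofList rs)) := by
  have hS : IsRegularLocalRing (Localization.AtPrime p) :=
    (isRegularRing_iff (R := R)).mp inferInstance p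
  have hreg' : RingTheory.Sequence.IsRegular (Localization.AtPrime p)
      (rs.map (algebraMap R (Localization.AtPrime p))) :=
    RingTheory.Sequence.IsWeaklyRegular.isRegular_of_isLocalization_of_mem
      (Localization.AtPrime p) p hreg.1 hmem
  have hK : Ideal.map (algebraMap R (Localization.AtPrime p)) (Ideal.ofList rs) =
      Ideal.ofList (rs.map (algebraMap R (Localization.AtPrime p))) := Ideal.map_ofList _ _
  revert ‹IsLocalRing (Localization.AtPrime p ⧸
      Ideal.map (algebraMap R (Localization.AtPrime p)) (Ideal.ofList rs))›
  rw [hK]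
  intro hloc
  exact isCompleteIntersection_quotient_ofList _ hreg'

end Groth.Agent.S2165
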