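import Groth.Statements.S2166
import Groth.Agent.Lib.Helper7CIPres2
import Groth.Agent.S2165

set_option autoImplicit false
universe u
open LCI

namespace Groth.Agent.S2166

/-- R already a regular local ring: for a regular local ring R and a proper ideal I, the local ring R/I
is a complete intersection (its completion is a regular local ring modulo a regular sequence) if and
only if I itself is generated by a regular sequence of R. -/
theorem result {R : Type u} [CommRing R] [IsRegularLocalRing R]
    (I : Ideal R) (hI : I ≠ ⊤) [IsLocalRing (R ⧸ I)] :
    Pi1.IsCompleteIntersection (R ⧸ I) ↔
      ∃ rs : List R, Ideal.ofList rs = I ∧ RingTheory.Sequence.IsRegular R rs := by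
  constructor
  · intro hA
    exact Groth.Agent.Lib.Helper7.CIPres.regular_of_isCompleteIntersection_quotient I hI hA
  · rintro ⟨rs, rfl, hreg⟩
    exact Groth.Agent.S2165.isCompleteIntersection_quotient_ofList rs hreg


end Groth.Agent.S2166
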