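import Groth.Statements.S9159
import Groth.Agent.Lib.Helper14QFFlat
import Groth.Agent.S2082

set_option autoImplicit false
universe u
open CAlg

namespace Groth.Agent.S9159

/-- Fix a field k, a k-algebra S of finite type, and a quasi-finite map of k-algebras k[y_1, …, y_d] →
S. A prime q of S has S_q flat over k[y_1, …, y_d] exactly when S_q is Cohen–Macaulay and Spec S has
local dimension d at q. -/
theorem result (k S : Type u) [Field k] [CommRing S]
    [Algebra k S] [Algebra.FiniteType k S] (d : ℕ) [Algebra (MvPolynomial (Fin d) k) S]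
    [IsScalarTower k (MvPolynomial (Fin d) k) S] [Algebra.QuasiFinite (MvPolynomial (Fin d) k) S]
    (q : Ideal S) [q.IsPrime] :
    Module.Flat (MvPolynomial (Fin d) k) (Localization.AtPrime q) ↔
      (LocCoh.IsCohenMacaulayLocalRing (Localization.AtPrime q) ∧
        FlatMor.localDim (PrimeSpectrum S) ⟨q, inferInstance⟩ = (d : WithBot ℕ∞)) := by
  classical
  set P := MvPolynomial (Fin d) k with hP
  set p : Ideal P := q.comap (algebraMap P S) with hp
  haveI : p.IsPrime := Ideal.comap_isPrime _ _
  haveI : IsNoetherianRing S := Algebra.FiniteType.isNoetherianRing k S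
  -- dimensions
  have hF1 : ringKrullDim (S ⧸ q) = ringKrullDim (P ⧸ p) :=
    le_antisymm (Groth.Agent.Lib.Helper14.QFFlat.ringKrullDim_quotient_le_of_quasiFinite
      (P := P) q)
      (Groth.Agent.Lib.Helper14.QFFlat.ringKrullDim_quotient_comap_le (k := k) (P := P) q)
  obtain ⟨m, c, hc, hm, hcp, hmc⟩ := Groth.Agent.Lib.Helper14.FTDim.exists_dim_height (k := k) P p
  have hdimP : ringKrullDim P = (d : WithBot ℕ∞) := by
    show ringKrullDim (MvPolynomial (Fin d) k) = _
    rw [MvPolynomial.ringKrullDim_of_isNoetherianRing, ringKrullDim_eq_zero_of_field,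
      Nat.card_eq_fintype_card, Fintype.card_fin]
    simp
  have hmd : m = d := by
    rw [hm] at hdimP
    exact_mod_cast hdimP
  subst hmd
  obtain ⟨n, e, hn, he, -, he'⟩ := Groth.Agent.Lib.Helper14.LocalDim.exists_dims (k := k) q
  have hloc := Groth.Agent.Lib.Helper14.LocalDim.localDim_eq (k := k) q n e hn he he'
  rw [he, hmc] at hF1
  have hem : e = m - c := by exact_mod_cast hF1
  -- `localDim = d ↔ ht q = ht p`
  have hiff : FlatMor.localDim (PrimeSpectrum S) ⟨q, inferInstance⟩ = (m : WithBot ℕ∞) ↔ n = c := by
    rw [hloc]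
    constructor
    · intro h
      have : n + e = m := by exact_mod_cast h
      omega
    · intro h
      have : n + e = m := by omega
      exact_mod_cast congrArg (fun x : ℕ => (x : WithBot ℕ∞)) this
  -- the local homomorphism
  obtain ⟨alg, hlochom, hflat_iff, hmap⟩ :=
    Groth.Agent.Lib.Helper14.QFFlat.exists_algebra_localization (A := P) q
  have hfib := Groth.Agent.Lib.Helper14.QFFlat.ringKrullDim_fibre_eq_zero (A := P) q
  set J : Ideal (Localization.AtPrime q) :=
    (IsLocalRing.maximalIdeal (Localization.AtPrime p)).map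
      (algebraMap (Localization.AtPrime p) (Localization.AtPrime q)) with hJ
  have hfib' : ringKrullDim (Localization.AtPrime q ⧸ J) = 0 := by
    rw [← hmap]; exact hfib
  have hdimR : ringKrullDim (Localization.AtPrime p) = (c : WithBot ℕ∞) := by
    rw [IsLocalization.AtPrime.ringKrullDim_eq_height p (Localization.AtPrime p), hcp]; rfl
  have hdimT : ringKrullDim (Localization.AtPrime q) = (n : WithBot ℕ∞) := by
    rw [IsLocalization.AtPrime.ringKrullDim_eq_height q (Localization.AtPrime q), hn]; rfl
  haveI : IsRegularLocalRing (Localization.AtPrime p) := inferInstance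
  constructor
  · intro hflat
    have hflatR : Module.Flat (Localization.AtPrime p) (Localization.AtPrime q) :=
      hflat_iff.mpr hflat
    have hdim := Groth.Agent.Lib.Helper28.ringKrullDim_eq_add_of_flat
      (R := Localization.AtPrime p) (S := Localization.AtPrime q) J hJ
    rw [hfib', zero_add, hdimR, hdimT] at hdim
    have hnc : n = c := by exact_mod_cast hdim
    refine ⟨?_, hiff.mpr hnc⟩
    have hJne : J ≠ ⊤ := by
      intro h
      have : Subsingleton (Localization.AtPrime q ⧸ J) := by
        rw [h]; exact Ideal.Quotient.subsingleton_iff.mpr rfl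
      rw [ringKrullDim_eq_bot_of_subsingleton] at hfib'
      exact absurd hfib' (by decide)
    haveI : IsLocalRing (Localization.AtPrime q ⧸ J) :=
      Groth.Agent.Lib.Helper5.isLocalRing_quotient hJne
    have hdepth := Groth.Agent.Lib.Helper28.depth_eq_depth_add_depth_quotient_of_flat
      (R := Localization.AtPrime p) (S := Localization.AtPrime q) J hJ
    have hdep0 : LocCoh.depth (Localization.AtPrime q ⧸ J) (Localization.AtPrime q ⧸ J) = 0 := by
      have h1 := Groth.Agent.Lib.Helper5.depth_le_supportDim
        (A := Localization.AtPrime q ⧸ J) (M := Localization.AtPrime q ⧸ J)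
      rw [Module.supportDim_self_eq_ringKrullDim, hfib'] at h1
      have : LocCoh.depth (Localization.AtPrime q ⧸ J) (Localization.AtPrime q ⧸ J) ≤ 0 := by
        exact_mod_cast h1
      exact le_antisymm this zero_le
    have hCMR : LocCoh.IsCohenMacaulayLocalRing (Localization.AtPrime p) :=
      Groth.Agent.Lib.Helper5.isCohenMacaulayLocalRing_of_isRegularLocalRing _
    have hdR := hCMR.supportDim_eq_depth
    rw [Module.supportDim_self_eq_ringKrullDim, hdimR] at hdR
    refine ⟨?_⟩
    rw [Module.supportDim_self_eq_ringKrullDim, hdimT, hdepth, hdep0, add_zero, ← hdR, hnc]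
  · rintro ⟨hCM, hld⟩
    have hnc : n = c := hiff.mp hld
    have hdim : ringKrullDim (Localization.AtPrime q) = ringKrullDim (Localization.AtPrime p) +
        ringKrullDim (Localization.AtPrime q ⧸ J) := by
      rw [hfib', add_zero, hdimR, hdimT, hnc]
    have := Groth.Agent.S2082.result (R := Localization.AtPrime p) (S := Localization.AtPrime q) hdim
    exact hflat_iff.mp this

end Groth.Agent.S9159
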