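import Groth.Statements.S6304
import Mathlib.RingTheory.Flat.Equalizer

set_option autoImplicit false
universe u
open CAlg

namespace Groth.Agent.S6304

/-- In a short exact sequence 0 → M' → M → M'' → 0 of R-modules whose right-hand term M'' is flat, the
middle term M is flat when M' is, and M' is flat when M is. -/
theorem result {R : Type u} [CommRing R] {M' M M'' : Type u} [AddCommGroup M'] [Module R M'] [AddCommGroup M] [Module R M] [AddCommGroup M''] [Module R M''] (f : M' →ₗ[R] M) (g : M →ₗ[R] M'') (hf : Function.Injective f) (hexact : Function.Exact f g) (hg : Function.Surjective g) [Module.Flat R M''] : (Module.Flat R M' → Module.Flat R M) ∧ (Module.Flat R M → Module.Flat R M') := by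
  constructor
  · intro hM'
    rw [Module.Flat.iff_rTensor_preserves_injective_linearMap]
    intro A B _ _ _ _ u hu
    have hfA : Function.Injective (f.lTensor A) :=
      LinearMap.lTensor_injective_of_exact_of_flat g hg f hf hexact A
    have hfB : Function.Injective (f.lTensor B) :=
      LinearMap.lTensor_injective_of_exact_of_flat g hg f hf hexact B
    have hexA : Function.Exact (f.lTensor A) (g.lTensor A) := lTensor_exact A hexact hg
    have hu' : Function.Injective (u.rTensor M') :=
      Module.Flat.rTensor_preserves_injective_linearMap u hu
    have hu'' : Function.Injective (u.rTensor M'') :=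
      Module.Flat.rTensor_preserves_injective_linearMap u hu
    rw [injective_iff_map_eq_zero]
    intro x hx
    have h1 : u.rTensor M'' (g.lTensor A x) = 0 := by
      have : u.rTensor M'' (g.lTensor A x) = g.lTensor B (u.rTensor M x) := by
        rw [← LinearMap.comp_apply, ← LinearMap.comp_apply, LinearMap.rTensor_comp_lTensor,
          LinearMap.lTensor_comp_rTensor]
      rw [this, hx, map_zero]
    have h2 : g.lTensor A x = 0 := (injective_iff_map_eq_zero _).mp hu'' _ h1
    obtain ⟨x', rfl⟩ := (hexA x).mp h2
    have h3 : f.lTensor B (u.rTensor M' x') = 0 := by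
      have : f.lTensor B (u.rTensor M' x') = u.rTensor M (f.lTensor A x') := by
        rw [← LinearMap.comp_apply, ← LinearMap.comp_apply, LinearMap.rTensor_comp_lTensor,
          LinearMap.lTensor_comp_rTensor]
      rw [this, hx]
    have h4 : u.rTensor M' x' = 0 := (injective_iff_map_eq_zero _).mp hfB _ h3
    have h5 : x' = 0 := (injective_iff_map_eq_zero _).mp hu' _ h4
    rw [h5, map_zero]
  · intro hM
    rw [Module.Flat.iff_rTensor_preserves_injective_linearMap]
    intro A B _ _ _ _ u hu
    have hfA : Function.Injective (f.lTensor A) :=
      LinearMap.lTensor_injective_of_exact_of_flat g hg f hf hexact A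
    have huM : Function.Injective (u.rTensor M) :=
      Module.Flat.rTensor_preserves_injective_linearMap u hu
    rw [injective_iff_map_eq_zero]
    intro x hx
    have h3 : u.rTensor M (f.lTensor A x) = 0 := by
      have : u.rTensor M (f.lTensor A x) = f.lTensor B (u.rTensor M' x) := by
        rw [← LinearMap.comp_apply, ← LinearMap.comp_apply, LinearMap.rTensor_comp_lTensor,
          LinearMap.lTensor_comp_rTensor]
      rw [this, hx, map_zero]
    have h4 : f.lTensor A x = 0 := (injective_iff_map_eq_zero _).mp huM _ h3
    exact (injective_iff_map_eq_zero _).mp hfA _ h4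

end Groth.Agent.S6304
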