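import Groth.Statements.S2103
import Mathlib
import Groth.Agent.S5802
-- import your own Groth.Agent.* helpers here

set_option autoImplicit false
universe u
open CAlg

namespace Groth.Agent.S2103.Aux

set_option autoImplicit false

namespace H1Q


open MvPolynomial
open Groth.Agent.S5802.Aux

/-- the module of trivial relations -/
def triv {B : Type*} [CommRing B] {c : ℕ} (F : Fin c → B) : Submodule B (Fin c → B) :=
  Submodule.span B {v : Fin c → B | ∃ i j : Fin c, v = Pi.single i (F j) - Pi.single j (F i)}

lemma h1_poly {R : Type u} [CommRing R] {c : ℕ} (σ : Type*) (f : Fin c → R)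
    (hf : CAlgX.IsH1Regular f) :
    CAlgX.IsH1Regular (fun k => (C (f k) : MvPolynomial σ R)) := by
  classical
  intro a ha
  change a ∈ triv (fun k => (C (f k) : MvPolynomial σ R))
  -- coefficient vectors
  have hw : ∀ m : σ →₀ ℕ, (fun i => coeff m (a i)) ∈ triv f := by
    intro m
    apply hf
    have := congrArg (coeff m) ha
    simp only [coeff_sum, coeff_zero] at this
    rw [← this]
    refine Finset.sum_congr rfl fun i _ => ?_
    rw [mul_comm (a i), coeff_C_mul, mul_comm]
  let L : (Fin c → R) →ₗ[R] (Fin c → MvPolynomial σ R) :=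
    (Algebra.linearMap R (MvPolynomial σ R)).compLeft (Fin c)
  have hL : ∀ w ∈ triv f, L w ∈ triv (fun k => (C (f k) : MvPolynomial σ R)) := by
    intro w hw
    have : triv f ≤ ((triv (fun k => (C (f k) : MvPolynomial σ R))).restrictScalars R).comap L := by
      apply Submodule.span_le.mpr
      rintro _ ⟨i, j, rfl⟩
      refine Submodule.subset_span ⟨i, j, ?_⟩
      funext k
      simp only [L, LinearMap.compLeft_apply, Function.comp, Algebra.linearMap_apply,
        Pi.sub_apply, algebraMap_eq, map_sub]
      simp only [Pi.single_apply]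
      split_ifs <;> simp
    exact this hw
  let S : Finset (σ →₀ ℕ) := Finset.univ.biUnion (fun i => (a i).support)
  have hsum : a = ∑ m ∈ S, (monomial m (1 : R)) • L (fun i => coeff m (a i)) := by
    funext i
    rw [Finset.sum_apply]
    have h1 : ∀ m ∈ S, ((monomial m (1 : R)) • L (fun i => coeff m (a i))) i =
        monomial m (coeff m (a i)) := by
      intro m _
      simp only [L, Pi.smul_apply, LinearMap.compLeft_apply, Function.comp,
        Algebra.linearMap_apply, algebraMap_eq, smul_eq_mul]
      rw [mul_comm, C_mul_monomial, mul_one]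
    rw [Finset.sum_congr rfl h1]
    have hsub : (a i).support ⊆ S := by
      intro m hm
      exact Finset.mem_biUnion.mpr ⟨i, Finset.mem_univ _, hm⟩
    rw [← Finset.sum_subset hsub]
    · exact (support_sum_monomial_coeff (a i)).symm
    · intro m _ hm
      rw [notMem_support_iff.mp hm, monomial_zero]
  rw [hsum]
  exact Submodule.sum_mem _ fun m _ => Submodule.smul_mem _ _ (hL _ (hw m))

/-- pairing with a vector -/
noncomputable def pair {B : Type*} [CommRing B] {c : ℕ} (v : Fin c → B) : (Fin c → B) →ₗ[B] B :=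
  ∑ i, v i • LinearMap.proj i

lemma pair_apply {B : Type*} [CommRing B] {c : ℕ} (v z : Fin c → B) :
    pair v z = ∑ i, v i * z i := by
  simp [pair, LinearMap.sum_apply]

lemma colon {B : Type*} [CommRing B] {n : ℕ} (F : Fin (n + 1) → B) (hF : CAlgX.IsH1Regular F)
    (v : Fin (n + 1) → B) (hv0 : v 0 = 1) (a : B)
    (ha : a * F 0 ∈ Ideal.span (Set.range fun k => F k - v k * F 0)) :
    a ∈ Ideal.span (Set.range fun k => F k - v k * F 0) := by
  classical
  set J := Ideal.span (Set.range fun k => F k - v k * F 0) with hJ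
  obtain ⟨cc, hcc⟩ := Ideal.mem_span_range_iff_exists_fun.mp ha
  let s : B := a + ∑ j, cc j * v j
  let z : Fin (n + 1) → B := fun k => cc k - (if k = 0 then s else 0)
  have hz : ∑ k, z k * F k = 0 := by
    simp only [z, sub_mul, Finset.sum_sub_distrib, ite_mul, zero_mul, Finset.sum_ite_eq',
      Finset.mem_univ, if_true]
    have h1 : ∑ k, cc k * F k = a * F 0 + (∑ k, cc k * v k) * F 0 := by
      rw [← hcc, Finset.sum_mul, ← Finset.sum_add_distrib]
      exact Finset.sum_congr rfl fun k _ => by ring
    rw [h1]; simp only [s]; ring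
  have hzt : z ∈ triv F := hF z hz
  have hpair : ∀ w ∈ triv F, pair v w ∈ J := by
    intro w hw
    have : triv F ≤ (J.restrictScalars B).comap (pair v) := by
      apply Submodule.span_le.mpr
      rintro _ ⟨i, j, rfl⟩
      show pair v _ ∈ J
      rw [map_sub, pair_apply, pair_apply]
      simp only [Pi.single_apply, mul_ite, mul_zero, Finset.sum_ite_eq', Finset.mem_univ, if_true]
      have : v i * F j - v j * F i = v i * (F j - v j * F 0) - v j * (F i - v i * F 0) := by ring
      rw [this]
      exact J.sub_mem (J.mul_mem_left _ (Ideal.subset_span ⟨j, rfl⟩))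
        (J.mul_mem_left _ (Ideal.subset_span ⟨i, rfl⟩))
    exact this hw
  have h2 := hpair z hzt
  have h3 : pair v z = - a := by
    rw [pair_apply]
    simp only [z, mul_sub, Finset.sum_sub_distrib, mul_ite, mul_zero, Finset.sum_ite_eq',
      Finset.mem_univ, if_true, hv0, one_mul, s]
    have : ∑ x, v x * cc x = ∑ j, cc j * v j := Finset.sum_congr rfl fun k _ => mul_comm _ _
    rw [this]; ring
  rw [h3] at h2
  exact (Ideal.neg_mem_iff _).mp h2

lemma colon_pow {B : Type*} [CommRing B] {n : ℕ} (F : Fin (n + 1) → B) (hF : CAlgX.IsH1Regular F)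
    (v : Fin (n + 1) → B) (hv0 : v 0 = 1) (d : ℕ) (a : B)
    (ha : F 0 ^ d * a ∈ Ideal.span (Set.range fun k => F k - v k * F 0)) :
    a ∈ Ideal.span (Set.range fun k => F k - v k * F 0) := by
  induction d with
  | zero => simpa using ha
  | succ d ih =>
    apply ih
    apply colon F hF v hv0
    rw [pow_succ] at ha
    convert ha using 1
    ring

theorem step {R : Type u} [CommRing R] {n : ℕ} (f : Fin (n + 1) → R) (hf : CAlgX.IsH1Regular f)
    (d : ℕ) (P : MvPolynomial (Fin (n + 1)) R) (hP : P.IsHomogeneous d) (h0 : eval f P = 0)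
    (m : Fin (n + 1) →₀ ℕ) : coeff m P ∈ Ideal.span (Set.range f) := by
  by_cases hm : m.degree = d
  swap
  · rw [hP.coeff_eq_zero hm]
    exact Ideal.zero_mem _
  let B := MvPolynomial (Fin n) R
  let F : Fin (n + 1) → B := fun k => C (f k)
  let v : Fin (n + 1) → B := QR.dh n R
  have hF : CAlgX.IsH1Regular F := h1_poly (Fin n) f hf
  have hv0 : v 0 = 1 := by simp [v, QR.dh]
  set J := Ideal.span (Set.range fun k => F k - v k * F 0) with hJ
  have hmk : ∀ k, Ideal.Quotient.mk J (F k) = Ideal.Quotient.mk J (F 0) * Ideal.Quotient.mk J (v k) := by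
    intro k
    rw [← map_mul, Ideal.Quotient.eq, mul_comm]
    exact Ideal.subset_span ⟨k, rfl⟩
  have h1 : aeval F P = 0 := by
    have := aeval_algebraMap_apply (B := B) f P
    rw [show (aeval f) P = eval f P from rfl, h0, map_zero] at this
    exact this
  have h2 : F 0 ^ d * aeval v P ∈ J := by
    rw [← Ideal.Quotient.eq_zero_iff_mem, map_mul, map_pow]
    have h3 : Ideal.Quotient.mk J (aeval F P) = aeval (fun k => Ideal.Quotient.mk J (F k)) P :=
      comp_aeval_apply (φ := Ideal.Quotient.mkₐ R J) F P
    have h4 : Ideal.Quotient.mk J (aeval v P) = aeval (fun k => Ideal.Quotient.mk J (v k)) P :=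
      comp_aeval_apply (φ := Ideal.Quotient.mkₐ R J) v P
    rw [h4, ← QR.hom_scale P hP, ← funext hmk, ← h3, h1, map_zero]
  have h5 : aeval v P ∈ J := colon_pow F hF v hv0 d _ h2
  have hJle : J ≤ Ideal.map (C : R →+* B) (Ideal.span (Set.range f)) := by
    apply Ideal.span_le.mpr
    rintro _ ⟨k, rfl⟩
    refine Ideal.sub_mem _ ?_ (Ideal.mul_mem_left _ _ ?_)
    · exact Ideal.mem_map_of_mem _ (Ideal.subset_span ⟨k, rfl⟩)
    · exact Ideal.mem_map_of_mem _ (Ideal.subset_span ⟨0, rfl⟩)
  rw [← QR.coeff_dehom P hP m hm]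
  exact mem_map_C_iff.mp (hJle h5) _

theorem main {R : Type u} [CommRing R] {c : ℕ} (f : Fin c → R) (hf : CAlgX.IsH1Regular f) :
    CAlgX.IsQuasiRegular f := by
  intro n P hP hmem d
  cases c with
  | zero =>
    have hd : d = 0 := Subsingleton.elim _ _
    subst hd
    have hPC := MvPolynomial.eq_C_of_isEmpty P
    have : eval f P = coeff 0 P := by rw [hPC]; simp
    rw [this] at hmem
    exact Ideal.pow_le_self (Nat.succ_ne_zero n) hmem
  | succ c =>
    rw [pow_succ'] at hmem
    obtain ⟨y, hy, hxy⟩ := QR.exists_sum_of_mem_mul f _ _ hmem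
    have hG : ∀ i, ∃ G : MvPolynomial (Fin (c + 1)) R, G.IsHomogeneous n ∧ eval f G = y i :=
      fun i => (Ideal.mem_span_pow_iff_exists_isHomogeneous f _).mp (hy i)
    choose G hGh hGe using hG
    let P' := P - ∑ i, C (f i) * G i
    have hP' : P'.IsHomogeneous n :=
      hP.sub (IsHomogeneous.sum _ _ _ fun i _ => (hGh i).C_mul (f i))
    have hev : eval f P' = 0 := by
      simp only [P', map_sub, map_sum, map_mul, eval_C, hGe]
      rw [hxy, sub_self]
    have hc := step f hf n P' hP' hev d
    have : coeff d P = coeff d P' + ∑ i, f i * coeff d (G i) := by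
      simp only [P', coeff_sub, coeff_sum, coeff_C_mul]
      ring
    rw [this]
    refine Ideal.add_mem _ hc (Ideal.sum_mem _ fun i _ => ?_)
    exact Ideal.mul_mem_right _ _ (Ideal.subset_span ⟨i, rfl⟩)

end H1Q

end Groth.Agent.S2103.Aux

namespace Groth.Agent.S2103

/-- Case `M = R`: an `H_1`-regular sequence in a ring (first Koszul homology zero) is quasi-regular (the
associated graded of the ideal it generates is a polynomial ring over the quotient). -/
theorem result {R : Type u} [CommRing R] {c : ℕ} (f : Fin c → R) (hf : CAlgX.IsH1Regular f) :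
    CAlgX.IsQuasiRegular f := by
  exact Aux.H1Q.main f hf

end Groth.Agent.S2103
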