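import Groth.Statements.S2104
import Mathlib
import Groth.Agent.S2103
-- import your own Groth.Agent.* helpers here

set_option autoImplicit false
universe u
open CAlg

namespace Groth.Agent.S2104.Aux

set_option autoImplicit false

namespace APP


open MvPolynomial
open Groth.Agent.S5802.Aux
open Groth.Agent.S2103.Aux

section part1

variable {A : Type u} [CommRing A] {m : ℕ}

lemma triv_rel (g : Fin m → A) {z : Fin m → A} (hz : z ∈ H1Q.triv g) : ∑ j, z j * g j = 0 := by
  classical
  have : H1Q.triv g ≤ LinearMap.ker (H1Q.pair g) := by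
    apply Submodule.span_le.mpr
    rintro _ ⟨i, j, rfl⟩
    show H1Q.pair g _ = 0
    rw [map_sub, H1Q.pair_apply, H1Q.pair_apply]
    simp only [Pi.single_apply, mul_ite, mul_zero, Finset.sum_ite_eq', Finset.mem_univ, if_true]
    ring
  have h := this hz
  rw [LinearMap.mem_ker, H1Q.pair_apply] at h
  rw [← h]
  exact Finset.sum_congr rfl fun j _ => mul_comm _ _

/-- images of trivial relations -/
lemma triv_map {B : Type*} [CommRing B] (φ : A →+* B) (g : Fin m → A) {z : Fin m → A}
    (hz : z ∈ H1Q.triv g) : (fun j => φ (z j)) ∈ H1Q.triv (fun j => φ (g j)) := by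
  classical
  induction hz using Submodule.span_induction with
  | mem y hy =>
    obtain ⟨i, j, rfl⟩ := hy
    refine Submodule.subset_span ⟨i, j, ?_⟩
    funext k
    simp only [Pi.sub_apply, map_sub, Pi.single_apply]
    split_ifs <;> simp
  | zero =>
    have : (fun j => φ ((0 : Fin m → A) j)) = 0 := by funext j; simp
    rw [this]; exact Submodule.zero_mem _
  | add y1 y2 _ _ h1 h2 =>
    have : (fun j => φ ((y1 + y2) j)) = (fun j => φ (y1 j)) + fun j => φ (y2 j) := by
      funext j; simp
    rw [this]; exact Submodule.add_mem _ h1 h2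
  | smul r y _ h =>
    have : (fun j => φ ((r • y) j)) = φ r • fun j => φ (y j) := by
      funext j; simp
    rw [this]; exact Submodule.smul_mem _ _ h

/-- lifting trivial relations along a surjection -/
lemma triv_lift {B : Type*} [CommRing B] (φ : A →+* B) (hφ : Function.Surjective φ)
    (g : Fin m → A) {y : Fin m → B} (hy : y ∈ H1Q.triv (fun j => φ (g j))) :
    ∃ z ∈ H1Q.triv g, ∀ j, φ (z j) = y j := by
  classical
  induction hy using Submodule.span_induction with
  | mem y hy =>
    obtain ⟨i, j, rfl⟩ := hy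
    refine ⟨Pi.single i (g j) - Pi.single j (g i), Submodule.subset_span ⟨i, j, rfl⟩, fun k => ?_⟩
    simp only [Pi.sub_apply, map_sub, Pi.single_apply]
    split_ifs <;> simp
  | zero => exact ⟨0, Submodule.zero_mem _, fun j => by simp⟩
  | add y1 y2 _ _ h1 h2 =>
    obtain ⟨z1, hz1, e1⟩ := h1
    obtain ⟨z2, hz2, e2⟩ := h2
    exact ⟨z1 + z2, Submodule.add_mem _ hz1 hz2, fun j => by simp [e1, e2]⟩
  | smul r y _ h =>
    obtain ⟨z, hz, e⟩ := h
    obtain ⟨r, rfl⟩ := hφ r
    exact ⟨r • z, Submodule.smul_mem _ _ hz, fun j => by simp [e]⟩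

variable {n : ℕ} (f : Fin n → A) (g : Fin m → A)

lemma lemL (hg : CAlgX.IsH1Regular (fun j => Ideal.Quotient.mk (Ideal.span (Set.range f)) (g j)))
    (w : Fin m → A) (hw : ∑ j, w j * g j ∈ Ideal.span (Set.range f)) :
    ∃ z ∈ H1Q.triv g, ∀ j, w j - z j ∈ Ideal.span (Set.range f) := by
  set I := Ideal.span (Set.range f) with hI
  have h1 : ∑ j, (Ideal.Quotient.mk I (w j)) * Ideal.Quotient.mk I (g j) = 0 := by
    rw [← Ideal.Quotient.eq_zero_iff_mem, map_sum] at hw
    simpa only [map_mul] using hw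
  have h2 := hg _ h1
  obtain ⟨z, hz, hzw⟩ := triv_lift (Ideal.Quotient.mk I) Ideal.Quotient.mk_surjective g h2
  exact ⟨z, hz, fun j => Ideal.Quotient.eq.mp (hzw j).symm⟩

lemma eval_eq_sum (P : MvPolynomial (Fin n) A) (S : Finset (Fin n →₀ ℕ)) (hS : P.support ⊆ S) :
    eval f P = ∑ α ∈ S, coeff α P * eval f (monomial α 1) := by
  conv_lhs => rw [← support_sum_monomial_coeff P, map_sum]
  rw [Finset.sum_subset hS]
  · refine Finset.sum_congr rfl fun α _ => ?_
    rw [eval_monomial, eval_monomial, one_mul]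
  · intro α _ hα
    rw [notMem_support_iff.mp hα, monomial_zero, map_zero]

lemma eval_monomial_mem (α : Fin n →₀ ℕ) (k : ℕ) (hα : α.degree = k) :
    eval f (monomial α (1 : A)) ∈ Ideal.span (Set.range f) ^ k :=
  (Ideal.mem_span_pow_iff_exists_isHomogeneous f _).mpr
    ⟨monomial α 1, isHomogeneous_monomial 1 hα, rfl⟩

lemma lemA (hf : CAlgX.IsQuasiRegular f)
    (hg : CAlgX.IsH1Regular (fun j => Ideal.Quotient.mk (Ideal.span (Set.range f)) (g j))) :
    ∀ (k : ℕ) (w : Fin m → A), ∑ j, w j * g j ∈ Ideal.span (Set.range f) ^ k →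
      ∃ z ∈ H1Q.triv g, ∀ j, w j - z j ∈ Ideal.span (Set.range f) ^ k := by
  classical
  set I := Ideal.span (Set.range f) with hI
  intro k
  induction k with
  | zero =>
    intro w _
    exact ⟨0, Submodule.zero_mem _, fun j => by simp⟩
  | succ k ih =>
    intro w hw
    obtain ⟨z, hz, hzw⟩ := ih w (Ideal.pow_le_pow_right (Nat.le_succ k) hw)
    -- u = w - z
    have hu : ∑ j, (w j - z j) * g j ∈ I ^ (k + 1) := by
      have : ∑ j, (w j - z j) * g j = ∑ j, w j * g j - ∑ j, z j * g j := by
        rw [← Finset.sum_sub_distrib]; exact Finset.sum_congr rfl fun j _ => by ring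
      rw [this, triv_rel g hz, sub_zero]; exact hw
    have hU : ∀ j, ∃ U : MvPolynomial (Fin n) A, U.IsHomogeneous k ∧ eval f U = w j - z j :=
      fun j => (Ideal.mem_span_pow_iff_exists_isHomogeneous f _).mp (hzw j)
    choose U hUh hUe using hU
    let W : MvPolynomial (Fin n) A := ∑ j, C (g j) * U j
    have hWh : W.IsHomogeneous k := IsHomogeneous.sum _ _ _ fun j _ => (hUh j).C_mul (g j)
    have hWe : eval f W ∈ I ^ (k + 1) := by
      have : eval f W = ∑ j, (w j - z j) * g j := by
        simp only [W, map_sum, map_mul, eval_C, hUe]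
        exact Finset.sum_congr rfl fun j _ => mul_comm _ _
      rw [this]; exact hu
    have hWc := hf k W hWh hWe
    have hrel : ∀ α : Fin n →₀ ℕ, ∑ j, coeff α (U j) * g j ∈ I := by
      intro α
      have := hWc α
      simp only [W, coeff_sum, coeff_C_mul] at this
      convert this using 1
      exact Finset.sum_congr rfl fun j _ => mul_comm _ _
    have hzα : ∀ α : Fin n →₀ ℕ, ∃ z' ∈ H1Q.triv g, ∀ j, coeff α (U j) - z' j ∈ I :=
      fun α => lemL f g hg _ (hrel α)
    choose zα hzα1 hzα2 using hzα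
    let S : Finset (Fin n →₀ ℕ) := Finset.univ.biUnion fun j => (U j).support
    have hSsub : ∀ j, (U j).support ⊆ S := fun j α hα =>
      Finset.mem_biUnion.mpr ⟨j, Finset.mem_univ _, hα⟩
    have hSdeg : ∀ α ∈ S, α.degree = k := by
      intro α hα
      obtain ⟨j, _, hj⟩ := Finset.mem_biUnion.mp hα
      rw [Finsupp.degree_eq_weight_one]
      exact hUh j (mem_support_iff.mp hj)
    refine ⟨z + ∑ α ∈ S, eval f (monomial α 1) • zα α,
      Submodule.add_mem _ hz (Submodule.sum_mem _ fun α _ => Submodule.smul_mem _ _ (hzα1 α)),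
      fun j => ?_⟩
    have e1 : w j - (z + ∑ α ∈ S, eval f (monomial α 1) • zα α) j =
        ∑ α ∈ S, (coeff α (U j) - zα α j) * eval f (monomial α 1) := by
      simp only [Pi.add_apply, Finset.sum_apply, Pi.smul_apply, smul_eq_mul]
      rw [← sub_sub, ← hUe j, eval_eq_sum f (U j) S (hSsub j), ← Finset.sum_sub_distrib]
      exact Finset.sum_congr rfl fun α _ => by ring
    rw [e1]
    refine Ideal.sum_mem _ fun α hα => ?_
    rw [pow_succ']
    exact Ideal.mul_mem_mul (hzα2 α j) (eval_monomial_mem f α k (hSdeg α hα))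

/-- `g` is H1-regular modulo every power of `I` -/
lemma h1_mod_pow (hf : CAlgX.IsQuasiRegular f)
    (hg : CAlgX.IsH1Regular (fun j => Ideal.Quotient.mk (Ideal.span (Set.range f)) (g j))) (k : ℕ) :
    CAlgX.IsH1Regular (fun j => Ideal.Quotient.mk (Ideal.span (Set.range f) ^ k) (g j)) := by
  set I := Ideal.span (Set.range f) with hI
  intro a ha
  change a ∈ H1Q.triv _
  have hlift : ∀ j, ∃ w : A, Ideal.Quotient.mk (I ^ k) w = a j :=
    fun j => Ideal.Quotient.mk_surjective (a j)
  choose w hw using hlift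
  have h1 : ∑ j, w j * g j ∈ I ^ k := by
    rw [← Ideal.Quotient.eq_zero_iff_mem, map_sum, ← ha]
    exact Finset.sum_congr rfl fun j _ => by rw [map_mul, hw]
  obtain ⟨z, hz, hzw⟩ := lemA f g hf hg k w h1
  have h2 := triv_map (Ideal.Quotient.mk (I ^ k)) g hz
  have h3 : a = fun j => Ideal.Quotient.mk (I ^ k) (z j) := by
    funext j
    rw [← hw j]
    exact Ideal.Quotient.eq.mpr (hzw j)
  rw [h3]; exact h2

/-- consequence: quasi-regularity of `g` modulo powers of `I` -/
lemma QG (hf : CAlgX.IsQuasiRegular f)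
    (hg : CAlgX.IsH1Regular (fun j => Ideal.Quotient.mk (Ideal.span (Set.range f)) (g j)))
    (k e : ℕ) (Q : MvPolynomial (Fin m) A) (hQ : Q.IsHomogeneous e)
    (hev : eval g Q ∈ Ideal.span (Set.range g) ^ (e + 1) ⊔ Ideal.span (Set.range f) ^ k)
    (ν : Fin m →₀ ℕ) :
    coeff ν Q ∈ Ideal.span (Set.range g) ⊔ Ideal.span (Set.range f) ^ k := by
  set I := Ideal.span (Set.range f) with hI
  set G := Ideal.span (Set.range g) with hG
  have hq := H1Q.main _ (h1_mod_pow f g hf hg k)
  have hspan : Ideal.span (Set.range fun j => Ideal.Quotient.mk (I ^ k) (g j)) =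
      G.map (Ideal.Quotient.mk (I ^ k)) := by
    rw [hG, Ideal.map_span, ← Set.range_comp]; rfl
  have he : eval (fun j => Ideal.Quotient.mk (I ^ k) (g j)) (map (Ideal.Quotient.mk (I ^ k)) Q) =
      Ideal.Quotient.mk (I ^ k) (eval g Q) := by
    rw [eval_map]
    have := eval₂_comp_left (Ideal.Quotient.mk (I ^ k)) (RingHom.id A) g Q
    rw [RingHom.comp_id] at this
    exact this.symm
  have h1 := hq e (map (Ideal.Quotient.mk (I ^ k)) Q) (hQ.map _) (by
    rw [he, hspan, ← Ideal.map_pow]
    have h2 := Ideal.mem_map_of_mem (Ideal.Quotient.mk (I ^ k)) hev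
    rw [Ideal.map_sup, Ideal.map_quotient_self, sup_bot_eq] at h2
    exact h2) ν
  rw [coeff_map, hspan, Ideal.mem_quotient_iff_mem_sup] at h1
  exact h1

end part1

section part2

lemma wdeg {σ : Type*} (μ : σ →₀ ℕ) : Finsupp.weight (1 : σ → ℕ) μ = μ.degree := by
  rw [Finsupp.degree_eq_weight_one]; rfl

variable {A : Type u} [CommRing A] {n m : ℕ}

/-- X-part of an exponent -/
noncomputable def expX (μ : Fin (n + m) →₀ ℕ) : Fin n →₀ ℕ :=
  Finsupp.equivFunOnFinite.symm (fun i => μ (Fin.castAdd m i))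

/-- Y-part of an exponent -/
noncomputable def expY (μ : Fin (n + m) →₀ ℕ) : Fin m →₀ ℕ :=
  Finsupp.equivFunOnFinite.symm (fun j => μ (Fin.natAdd n j))

/-- joining exponents -/
noncomputable def join (α : Fin n →₀ ℕ) (ν : Fin m →₀ ℕ) : Fin (n + m) →₀ ℕ :=
  Finsupp.equivFunOnFinite.symm (Fin.append α ν)

@[simp] lemma expX_apply (μ : Fin (n + m) →₀ ℕ) (i : Fin n) : expX μ i = μ (Fin.castAdd m i) := rfl
@[simp] lemma expY_apply (μ : Fin (n + m) →₀ ℕ) (j : Fin m) : expY μ j = μ (Fin.natAdd n j) := rfl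
@[simp] lemma join_castAdd (α : Fin n →₀ ℕ) (ν : Fin m →₀ ℕ) (i : Fin n) :
    join α ν (Fin.castAdd m i) = α i := by
  simp [join]
@[simp] lemma join_natAdd (α : Fin n →₀ ℕ) (ν : Fin m →₀ ℕ) (j : Fin m) :
    join α ν (Fin.natAdd n j) = ν j := by
  simp [join]

lemma expX_join (α : Fin n →₀ ℕ) (ν : Fin m →₀ ℕ) : expX (join α ν) = α := by
  ext i; simp
lemma expY_join (α : Fin n →₀ ℕ) (ν : Fin m →₀ ℕ) : expY (join α ν) = ν := by
  ext j; simp
lemma join_exp (μ : Fin (n + m) →₀ ℕ) : join (expX μ) (expY μ) = μ := by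
  ext i
  refine Fin.addCases (fun i => ?_) (fun j => ?_) i <;> simp

lemma eq_join_iff (μ : Fin (n + m) →₀ ℕ) (α : Fin n →₀ ℕ) (ν : Fin m →₀ ℕ) :
    μ = join α ν ↔ expX μ = α ∧ expY μ = ν := by
  constructor
  · rintro rfl; exact ⟨expX_join α ν, expY_join α ν⟩
  · rintro ⟨rfl, rfl⟩; exact (join_exp μ).symm

lemma degree_join (α : Fin n →₀ ℕ) (ν : Fin m →₀ ℕ) :
    (join α ν).degree = α.degree + ν.degree := by
  rw [Finsupp.degree_eq_sum, Finsupp.degree_eq_sum, Finsupp.degree_eq_sum, Fin.sum_univ_add]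
  simp

/-- pass to the iterated polynomial ring -/
noncomputable def Phi :
    MvPolynomial (Fin (n + m)) A →ₐ[A] MvPolynomial (Fin m) (MvPolynomial (Fin n) A) :=
  aeval (Fin.append (fun i => C (X i)) (fun j => X j))

lemma Phi_monomial (μ : Fin (n + m) →₀ ℕ) (c : A) :
    Phi (monomial μ c) = monomial (expY μ) (monomial (expX μ) c) := by
  rw [Phi, aeval_monomial, Finsupp.prod_fintype _ _ (fun i => pow_zero _), Fin.prod_univ_add]
  simp only [Fin.append_left, Fin.append_right]
  rw [monomial_eq (s := expY μ), monomial_eq (s := expX μ),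
    Finsupp.prod_fintype _ _ (fun i => pow_zero _), Finsupp.prod_fintype _ _ (fun i => pow_zero _)]
  simp only [expX_apply, expY_apply, map_mul, map_prod, map_pow, MvPolynomial.algebraMap_apply,
    algebraMap_eq]
  ring

lemma coeff_Phi (P : MvPolynomial (Fin (n + m)) A) (α : Fin n →₀ ℕ) (ν : Fin m →₀ ℕ) :
    coeff α (coeff ν (Phi P)) = coeff (join α ν) P := by
  classical
  induction P using MvPolynomial.induction_on' with
  | monomial μ c =>
    rw [Phi_monomial, coeff_monomial, coeff_monomial]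
    by_cases h : μ = join α ν
    · obtain ⟨h1, h2⟩ := (eq_join_iff μ α ν).mp h
      rw [if_pos h2, coeff_monomial, if_pos h1, if_pos h]
    · rw [if_neg h]
      by_cases h2 : expY μ = ν
      · rw [if_pos h2, coeff_monomial]
        have h1 : ¬ expX μ = α := fun h1 => h ((eq_join_iff μ α ν).mpr ⟨h1, h2⟩)
        rw [if_neg h1]
      · rw [if_neg h2, coeff_zero]
  | add p q hp hq => rw [map_add, coeff_add, coeff_add, coeff_add, hp, hq]

lemma eval_Phi (f : Fin n → A) (g : Fin m → A) (P : MvPolynomial (Fin (n + m)) A) :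
    eval (Fin.append f g) P = eval g (map (eval f) (Phi P)) := by
  have : eval (Fin.append f g) =
      (eval g).comp ((map (eval f)).comp (Phi (A := A) (n := n) (m := m)).toRingHom) := by
    apply ringHom_ext
    · intro c
      simp [Phi]
    · intro i
      refine Fin.addCases (fun i => ?_) (fun j => ?_) i <;> simp [Phi]
  exact RingHom.congr_fun this P

lemma Phi_homog (P : MvPolynomial (Fin (n + m)) A) (d : ℕ) (hP : P.IsHomogeneous d)
    (ν : Fin m →₀ ℕ) : (coeff ν (Phi P)).IsHomogeneous (d - ν.degree) := by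
  intro α hα
  rw [coeff_Phi] at hα
  have := hP hα
  rw [wdeg] at this ⊢
  rw [degree_join] at this
  omega

lemma Phi_coeff_ne (P : MvPolynomial (Fin (n + m)) A) (d : ℕ) (hP : P.IsHomogeneous d)
    (ν : Fin m →₀ ℕ) (α : Fin n →₀ ℕ) (h : coeff α (coeff ν (Phi P)) ≠ 0) :
    α.degree + ν.degree = d := by
  rw [coeff_Phi] at h
  have := hP h
  rw [wdeg, degree_join] at this
  exact this

end part2

section part3

variable {A : Type u} [CommRing A]

lemma EV {r : ℕ} (h : Fin r → A) (c : Ideal A) (e : ℕ) (Q : MvPolynomial (Fin r) A)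
    (hQ : Q.IsHomogeneous e) (hc : ∀ ν, coeff ν Q ∈ c) :
    eval h Q ∈ c * Ideal.span (Set.range h) ^ e := by
  rw [eval_eq_sum h Q Q.support (Finset.Subset.refl _)]
  refine Ideal.sum_mem _ fun ν hν => ?_
  refine Ideal.mul_mem_mul (hc ν) (eval_monomial_mem h ν e ?_)
  rw [Finsupp.degree_eq_weight_one]
  exact hQ (mem_support_iff.mp hν)

lemma sharp_binom (I G : Ideal A) (k e : ℕ) : (I ⊔ G) ^ (k + e + 1) ≤ I ^ (k + 1) ⊔ G ^ (e + 1) := by
  rw [← Ideal.add_eq_sup, ← Ideal.add_eq_sup, add_pow, Ideal.sum_eq_sup]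
  apply Finset.sup_le
  intro i hi
  by_cases hn : k + 1 ≤ i
  · exact (Ideal.mul_le_left.trans (Ideal.mul_le_left.trans
      ((Ideal.pow_le_pow_right hn).trans le_sup_left)))
  · refine (Ideal.mul_le_left.trans (Ideal.mul_le_right.trans
      ((Ideal.pow_le_pow_right ?_).trans le_sup_right)))
    omega

end part3

section core

variable {A : Type u} [CommRing A] {n m : ℕ} (f : Fin n → A) (g : Fin m → A)

lemma span_append : Ideal.span (Set.range (Fin.append f g)) =
    Ideal.span (Set.range f) ⊔ Ideal.span (Set.range g) := by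
  rw [← Ideal.span_union]
  congr 1
  ext x
  simp only [Set.mem_range, Set.mem_union]
  constructor
  · rintro ⟨i, rfl⟩
    refine Fin.addCases (fun i => ?_) (fun j => ?_) i
    · left; exact ⟨i, by simp⟩
    · right; exact ⟨j, by simp⟩
  · rintro (⟨i, rfl⟩ | ⟨j, rfl⟩)
    · exact ⟨Fin.castAdd m i, by simp⟩
    · exact ⟨Fin.natAdd n j, by simp⟩

theorem core (hf : CAlgX.IsQuasiRegular f)
    (hg : CAlgX.IsH1Regular (fun j => Ideal.Quotient.mk (Ideal.span (Set.range f)) (g j)))
    (d : ℕ) (P : MvPolynomial (Fin (n + m)) A) (hP : P.IsHomogeneous d)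
    (hev : eval (Fin.append f g) P ∈
      (Ideal.span (Set.range f) ⊔ Ideal.span (Set.range g)) ^ (d + 1)) :
    ∀ (k : ℕ) (ν : Fin m →₀ ℕ) (α : Fin n →₀ ℕ), α.degree = k →
      coeff α (coeff ν (Phi P)) ∈ Ideal.span (Set.range f) ⊔ Ideal.span (Set.range g) := by
  set I := Ideal.span (Set.range f) with hI
  set G := Ideal.span (Set.range g) with hG
  set J := I ⊔ G with hJ
  intro k
  induction k using Nat.strong_induction_on with
  | _ k ih =>
    intro ν₀ α₀ hα₀
    by_cases hne : coeff α₀ (coeff ν₀ (Phi P)) = 0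
    · rw [hne]; exact Ideal.zero_mem _
    have hdeg := Phi_coeff_ne P d hP ν₀ α₀ hne
    obtain ⟨e, he⟩ : ∃ e, ν₀.degree = e := ⟨_, rfl⟩
    have hd : d = k + e := by omega
    let S : (Fin m →₀ ℕ) → MvPolynomial (Fin n) A := fun ν => coeff ν (Phi P)
    have hS : ∀ ν, (S ν).IsHomogeneous (d - ν.degree) := Phi_homog P d hP
    let Qall : MvPolynomial (Fin m) A := map (eval f) (Phi P)
    have hQc : ∀ ν, coeff ν Qall = eval f (S ν) := fun ν => coeff_map _ _ _
    have hQe : eval g Qall ∈ J ^ (d + 1) := by rw [← eval_Phi]; exact hev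
    have hT : ∀ e', e' ≠ e → eval g (homogeneousComponent e' Qall) ∈ J ^ (d + 1) ⊔ I ^ (k + 1) := by
      intro e' hne'
      rcases lt_or_gt_of_ne hne' with hlt | hgt
      · have hc : ∀ ν, coeff ν (homogeneousComponent e' Qall) ∈ I ^ (k + 1) := by
          intro ν
          rw [coeff_homogeneousComponent]
          split_ifs with hν
          · rw [hQc]
            have : eval f (S ν) ∈ I ^ (d - ν.degree) :=
              (Ideal.mem_span_pow_iff_exists_isHomogeneous f _).mpr ⟨S ν, hS ν, rfl⟩
            exact Ideal.pow_le_pow_right (by omega) this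
          · exact Ideal.zero_mem _
        have := EV g (I ^ (k + 1)) e' _ (homogeneousComponent_isHomogeneous e' Qall) hc
        exact (le_sup_right : I ^ (k + 1) ≤ J ^ (d + 1) ⊔ I ^ (k + 1)) (Ideal.mul_le_left this)
      · have hc : ∀ ν, coeff ν (homogeneousComponent e' Qall) ∈ J * I ^ (d - e') := by
          intro ν
          rw [coeff_homogeneousComponent]
          split_ifs with hν
          · rw [hQc]
            have := EV f J (d - ν.degree) (S ν) (hS ν) (fun α => by
              by_cases h0 : coeff α (S ν) = 0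
              · rw [h0]; exact Ideal.zero_mem _
              · have := Phi_coeff_ne P d hP ν α h0
                exact ih α.degree (by omega) ν α rfl)
            rwa [hν] at this
          · exact Ideal.zero_mem _
        have := EV g (J * I ^ (d - e')) e' _ (homogeneousComponent_isHomogeneous e' Qall) hc
        refine (le_sup_left : J ^ (d + 1) ≤ J ^ (d + 1) ⊔ I ^ (k + 1)) ?_
        have hle : J * I ^ (d - e') * G ^ e' ≤ J ^ (d + 1) := by
          calc J * I ^ (d - e') * G ^ e' ≤ J * J ^ (d - e') * J ^ e' :=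
                Ideal.mul_mono (Ideal.mul_mono le_rfl (Ideal.pow_right_mono le_sup_left _))
                  (Ideal.pow_right_mono le_sup_right _)
            _ = J ^ (1 + (d - e') + e') := by rw [pow_add, pow_add, pow_one]
            _ ≤ J ^ (d + 1) := Ideal.pow_le_pow_right (by omega)
        exact hle this
    have hC1 : eval g (homogeneousComponent e Qall) ∈ G ^ (e + 1) ⊔ I ^ (k + 1) := by
      have hTle : J ^ (d + 1) ⊔ I ^ (k + 1) ≤ G ^ (e + 1) ⊔ I ^ (k + 1) := by
        apply sup_le _ le_sup_right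
        rw [hd]
        calc J ^ (k + e + 1) ≤ I ^ (k + 1) ⊔ G ^ (e + 1) := sharp_binom I G k e
          _ = _ := sup_comm _ _
      apply hTle
      by_cases hr : e ∈ Finset.range (Qall.totalDegree + 1)
      · have hsum := sum_homogeneousComponent Qall
        have h1 : eval g Qall = ∑ i ∈ Finset.range (Qall.totalDegree + 1),
            eval g (homogeneousComponent i Qall) := by
          conv_lhs => rw [← hsum, map_sum]
        rw [← Finset.add_sum_erase _ _ hr] at h1
        have h2 : eval g (homogeneousComponent e Qall) = eval g Qall -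
            ∑ i ∈ (Finset.range (Qall.totalDegree + 1)).erase e,
              eval g (homogeneousComponent i Qall) := by rw [h1]; ring
        rw [h2]
        exact Ideal.sub_mem _ ((le_sup_left : J ^ (d + 1) ≤ J ^ (d + 1) ⊔ I ^ (k + 1)) hQe)
          (Ideal.sum_mem _ fun i hi => hT i (Finset.ne_of_mem_erase hi))
      · rw [homogeneousComponent_eq_zero, map_zero]
        · exact Ideal.zero_mem _
        · rw [Finset.mem_range] at hr; omega
    have hC2 := QG f g hf hg (k + 1) e (homogeneousComponent e Qall)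
      (homogeneousComponent_isHomogeneous e Qall) hC1 ν₀
    rw [coeff_homogeneousComponent, if_pos he, hQc] at hC2
    obtain ⟨x, hx, r, hr, hxr⟩ := Submodule.mem_sup.mp hC2
    obtain ⟨h, hh⟩ := Ideal.mem_span_range_iff_exists_fun.mp hx
    have hdk : d - ν₀.degree = k := by omega
    have hqI : eval f (S ν₀) ∈ I ^ k := by
      have := (Ideal.mem_span_pow_iff_exists_isHomogeneous f (eval f (S ν₀))).mpr
        ⟨S ν₀, hS ν₀, rfl⟩
      rwa [hdk] at this
    have hxI : ∑ j, h j * g j ∈ I ^ k := by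
      rw [hh]
      have : x = eval f (S ν₀) - r := by rw [← hxr]; ring
      rw [this]
      exact Ideal.sub_mem _ hqI (Ideal.pow_le_pow_right (Nat.le_succ k) hr)
    obtain ⟨z, hz, hzh⟩ := lemA f g hf hg k h hxI
    have hH : ∀ j, ∃ H : MvPolynomial (Fin n) A, H.IsHomogeneous k ∧ eval f H = h j - z j :=
      fun j => (Ideal.mem_span_pow_iff_exists_isHomogeneous f _).mp (hzh j)
    choose H hHh hHe using hH
    let T : MvPolynomial (Fin n) A := S ν₀ - ∑ j, C (g j) * H j
    have hSk : (S ν₀).IsHomogeneous k := by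
      have := hS ν₀
      rwa [hdk] at this
    have hTh : T.IsHomogeneous k :=
      hSk.sub (IsHomogeneous.sum _ _ _ fun j _ => (hHh j).C_mul _)
    have hTe : eval f T ∈ I ^ (k + 1) := by
      have : eval f T = r := by
        simp only [T, map_sub, map_sum, map_mul, eval_C, hHe]
        have e1 : ∑ j, g j * (h j - z j) = ∑ j, h j * g j - ∑ j, z j * g j := by
          rw [← Finset.sum_sub_distrib]; exact Finset.sum_congr rfl fun j _ => by ring
        rw [e1, triv_rel g hz, sub_zero, hh, ← hxr]; ring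
      rw [this]; exact hr
    have hTc := hf k T hTh hTe α₀
    have hfin : coeff α₀ (S ν₀) = coeff α₀ T + ∑ j, g j * coeff α₀ (H j) := by
      simp only [T, coeff_sub, coeff_sum, coeff_C_mul]; ring
    show coeff α₀ (S ν₀) ∈ J
    rw [hfin]
    exact Ideal.add_mem _ ((le_sup_left : I ≤ J) hTc) (Ideal.sum_mem _ fun j _ =>
      Ideal.mul_mem_right _ _ ((le_sup_right : G ≤ J) (Ideal.subset_span ⟨j, rfl⟩)))

theorem main (hf : CAlgX.IsQuasiRegular f)
    (hg : CAlgX.IsH1Regular (fun j => Ideal.Quotient.mk (Ideal.span (Set.range f)) (g j))) :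
    CAlgX.IsQuasiRegular (Fin.append f g) := by
  intro d P hP hmem μ
  rw [span_append] at hmem ⊢
  have := core f g hf hg d P hP hmem (expX μ).degree (expY μ) (expX μ) rfl
  rwa [coeff_Phi, join_exp] at this

end core

end APP

end Groth.Agent.S2104.Aux

namespace Groth.Agent.S2104

/-- Appending to a quasi-regular sequence `f` a sequence `g` whose image modulo the ideal `(f)` is
`H_1`-regular yields a quasi-regular sequence. -/
theorem result {A : Type u} [CommRing A] {n m : ℕ} (f : Fin n → A)
    (g : Fin m → A) (hf : CAlgX.IsQuasiRegular f)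
    (hg : CAlgX.IsH1Regular (fun j => Ideal.Quotient.mk (Ideal.span (Set.range f)) (g j))) :
    CAlgX.IsQuasiRegular (Fin.append f g) := by
  exact Aux.APP.main f g hf hg

end Groth.Agent.S2104
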