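import Groth.Statements.S2105
import Mathlib
import Groth.Agent.S2104
-- import your own Groth.Agent.* helpers here

set_option autoImplicit false
universe u
open CAlg

namespace Groth.Agent.S2105.Aux

set_option autoImplicit false

namespace HA
open Groth.Agent.S2103.Aux Groth.Agent.S2104.Aux

variable {A : Type u} [CommRing A] {n m : ℕ}

/-- extension by zero on the right -/
def iL : (Fin n → A) →ₗ[A] (Fin (n + m) → A) where
  toFun a := Fin.append a 0
  map_add' a a' := by
    funext k
    refine Fin.addCases (fun i => ?_) (fun j => ?_) k <;> simp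
  map_smul' c a := by
    funext k
    refine Fin.addCases (fun i => ?_) (fun j => ?_) k <;> simp

/-- extension by zero on the left -/
def iR : (Fin m → A) →ₗ[A] (Fin (n + m) → A) where
  toFun b := Fin.append 0 b
  map_add' b b' := by
    funext k
    refine Fin.addCases (fun i => ?_) (fun j => ?_) k <;> simp
  map_smul' c b := by
    funext k
    refine Fin.addCases (fun i => ?_) (fun j => ?_) k <;> simp

@[simp] lemma iL_left (a : Fin n → A) (i : Fin n) : (iL (m := m) a) (Fin.castAdd m i) = a i := by
  simp [iL]
@[simp] lemma iL_right (a : Fin n → A) (j : Fin m) : (iL (m := m) a) (Fin.natAdd n j) = 0 := by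
  simp [iL]
@[simp] lemma iR_left (b : Fin m → A) (i : Fin n) : (iR (n := n) b) (Fin.castAdd m i) = 0 := by
  simp [iR]
@[simp] lemma iR_right (b : Fin m → A) (j : Fin m) : (iR (n := n) b) (Fin.natAdd n j) = b j := by
  simp [iR]

lemma iL_single (i : Fin n) (c : A) :
    iL (m := m) (Pi.single i c) = Pi.single (Fin.castAdd m i) c := by
  classical
  funext k
  refine Fin.addCases (fun i' => ?_) (fun j => ?_) k
  · rw [iL_left, Pi.single_apply, Pi.single_apply]
    simp only [Fin.castAdd_inj]
  · rw [iL_right, Pi.single_apply, if_neg]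
    intro h
    have := congrArg Fin.val h
    simp only [Fin.val_natAdd, Fin.val_castAdd] at this
    omega

lemma iR_single (j : Fin m) (c : A) :
    iR (n := n) (Pi.single j c) = Pi.single (Fin.natAdd n j) c := by
  classical
  funext k
  refine Fin.addCases (fun i => ?_) (fun j' => ?_) k
  · rw [iR_left, Pi.single_apply, if_neg]
    intro h
    have := congrArg Fin.val h
    simp only [Fin.val_natAdd, Fin.val_castAdd] at this
    omega
  · rw [iR_right, Pi.single_apply, Pi.single_apply]
    simp only [Fin.natAdd_inj]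

variable (f : Fin n → A) (g : Fin m → A)

lemma iL_triv {a : Fin n → A} (ha : a ∈ H1Q.triv f) : iL (m := m) a ∈ H1Q.triv (Fin.append f g) := by
  have : Submodule.map (iL (m := m)) (H1Q.triv f) ≤ H1Q.triv (Fin.append f g) := by
    rw [H1Q.triv, Submodule.map_span, Submodule.span_le]
    rintro _ ⟨_, ⟨i, j, rfl⟩, rfl⟩
    apply Submodule.subset_span
    refine ⟨Fin.castAdd m i, Fin.castAdd m j, ?_⟩
    rw [map_sub, iL_single, iL_single, Fin.append_left, Fin.append_left]
  exact this ⟨a, ha, rfl⟩

lemma iR_triv {b : Fin m → A} (hb : b ∈ H1Q.triv g) : iR (n := n) b ∈ H1Q.triv (Fin.append f g) := by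
  have : Submodule.map (iR (n := n)) (H1Q.triv g) ≤ H1Q.triv (Fin.append f g) := by
    rw [H1Q.triv, Submodule.map_span, Submodule.span_le]
    rintro _ ⟨_, ⟨i, j, rfl⟩, rfl⟩
    apply Submodule.subset_span
    refine ⟨Fin.natAdd n i, Fin.natAdd n j, ?_⟩
    rw [map_sub, iR_single, iR_single, Fin.append_right, Fin.append_right]
  exact this ⟨b, hb, rfl⟩

lemma cross_triv (i : Fin n) (j : Fin m) :
    iL (m := m) (Pi.single i (g j)) - iR (n := n) (Pi.single j (f i)) ∈
      H1Q.triv (Fin.append f g) := by
  apply Submodule.subset_span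
  refine ⟨Fin.castAdd m i, Fin.natAdd n j, ?_⟩
  rw [iL_single, iR_single, Fin.append_left, Fin.append_right]

theorem main (hf : CAlgX.IsH1Regular f)
    (hg : CAlgX.IsH1Regular (fun j => Ideal.Quotient.mk (Ideal.span (Set.range f)) (g j))) :
    CAlgX.IsH1Regular (Fin.append f g) := by
  classical
  intro v hv
  show v ∈ H1Q.triv (Fin.append f g)
  set a : Fin n → A := fun i => v (Fin.castAdd m i) with ha
  set b : Fin m → A := fun j => v (Fin.natAdd n j) with hb
  have hsum : ∑ i, a i * f i + ∑ j, b j * g j = 0 := by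
    rw [← hv, Fin.sum_univ_add]
    simp [ha, hb]
  have hbI : ∑ j, b j * g j ∈ Ideal.span (Set.range f) := by
    have : ∑ j, b j * g j = -∑ i, a i * f i := by linear_combination hsum
    rw [this]
    refine neg_mem (Ideal.sum_mem _ fun i _ => Ideal.mul_mem_left _ _ (Ideal.subset_span ⟨i, rfl⟩))
  obtain ⟨z, hz, hzI⟩ := APP.lemL f g hg b hbI
  have hc : ∀ j, ∃ c : Fin n → A, ∑ i, c i * f i = b j - z j := fun j =>
    Ideal.mem_span_range_iff_exists_fun.mp (hzI j)
  choose c hc using hc
  set a' : Fin n → A := fun i => a i + ∑ j, c j i * g j with ha'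
  have hzrel := APP.triv_rel g hz
  have ha'rel : ∑ i, a' i * f i = 0 := by
    have h1 : ∑ i, a' i * f i = ∑ i, a i * f i + ∑ j, (∑ i, c j i * f i) * g j := by
      simp only [ha', add_mul, Finset.sum_add_distrib, Finset.sum_mul]
      congr 1
      rw [Finset.sum_comm]
      refine Finset.sum_congr rfl fun j _ => Finset.sum_congr rfl fun i _ => by ring
    rw [h1]
    simp only [hc, sub_mul, Finset.sum_sub_distrib]
    rw [hzrel]
    linear_combination hsum
  have ha'triv : a' ∈ H1Q.triv f := hf a' ha'rel
  have hdecomp : v = iL (m := m) a' + iR (n := n) z -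
      ∑ i, ∑ j, c j i • (iL (m := m) (Pi.single i (g j)) - iR (n := n) (Pi.single j (f i))) := by
    funext k
    refine Fin.addCases (fun i₀ => ?_) (fun j₀ => ?_) k
    · simp only [Pi.sub_apply, Pi.add_apply, Finset.sum_apply, Pi.smul_apply, iL_left, iR_left,
        smul_eq_mul, Pi.single_apply, sub_zero, add_zero]
      simp only [mul_ite, mul_zero]
      rw [Finset.sum_comm]
      simp only [Finset.sum_ite_eq, Finset.sum_ite_eq', Finset.mem_univ, if_true, ha', ha]
      ring
    · simp only [Pi.sub_apply, Pi.add_apply, Finset.sum_apply, Pi.smul_apply, iL_right, iR_right,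
        smul_eq_mul, Pi.single_apply, zero_sub, zero_add, mul_neg, Finset.sum_neg_distrib,
        sub_neg_eq_add]
      simp only [mul_ite, mul_zero]
      simp only [Finset.sum_ite_eq, Finset.sum_ite_eq', Finset.mem_univ, if_true]
      rw [hc j₀]
      simp only [hb]; ring
  rw [hdecomp]
  refine Submodule.sub_mem _ (Submodule.add_mem _ (iL_triv f g ha'triv) (iR_triv f g hz)) ?_
  refine Submodule.sum_mem _ fun i _ => Submodule.sum_mem _ fun j _ => ?_
  exact Submodule.smul_mem _ _ (cross_triv f g i j)

end HA

end Groth.Agent.S2105.Aux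

namespace Groth.Agent.S2105

/-- Appending to an `H_1`-regular sequence `f` a sequence `g` whose image modulo the ideal `(f)` is
`H_1`-regular yields an `H_1`-regular sequence. -/
theorem result {A : Type u} [CommRing A] {n m : ℕ} (f : Fin n → A)
    (g : Fin m → A) (hf : CAlgX.IsH1Regular f)
    (hg : CAlgX.IsH1Regular (fun j => Ideal.Quotient.mk (Ideal.span (Set.range f)) (g j))) :
    CAlgX.IsH1Regular (Fin.append f g) := by
  exact Aux.HA.main f g hf hg

end Groth.Agent.S2105
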