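import Groth.Statements.S14433
import Groth.Agent.Lib.Helper21Koszul

set_option autoImplicit false
universe u
open Koszul3

namespace Groth.Agent.S14433

open CategoryTheory CategoryTheory.Limits in
theorem key {R : Type u} [CommRing R] (M : ModuleCat.{u} R) (xs : List R) :
    ∀ x ∈ xs, Nonempty (Homotopy (x • 𝟙 (CohIII.koszulCx M xs)) 0) := by
  induction xs with
  | nil => simp
  | cons f fs ih =>
    intro x hx
    rcases List.mem_cons.mp hx with rfl | hx
    · exact ⟨Groth.Agent.Lib.Helper21.coneSelfHomotopy _ _⟩
    · obtain ⟨H⟩ := ih x hx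
      exact ⟨Groth.Agent.Lib.Helper21.coneHomotopy _ _ _ H⟩

open CategoryTheory CategoryTheory.Limits in
theorem key2 {R : Type u} [CommRing R] (M : ModuleCat.{u} R) (xs : List R) (a : R)
    (ha : a ∈ Ideal.span {x | x ∈ xs}) :
    Nonempty (Homotopy (a • 𝟙 (CohIII.koszulCx M xs)) 0) := by
  refine Submodule.span_induction (p := fun a _ => Nonempty (Homotopy (a • 𝟙 (CohIII.koszulCx M xs)) 0))
    ?_ ?_ ?_ ?_ ha
  · intro x hx
    exact key M xs x hx
  · exact ⟨Homotopy.ofEq (by simp)⟩
  · rintro a b _ _ ⟨H1⟩ ⟨H2⟩
    exact ⟨(Homotopy.ofEq (add_smul a b _)).trans ((H1.add H2).trans (Homotopy.ofEq (add_zero 0)))⟩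
  · rintro c a _ ⟨H⟩
    exact ⟨(Homotopy.ofEq (by rw [smul_eq_mul, mul_smul])).trans ((H.smul c).trans (Homotopy.ofEq (smul_zero c)))⟩

open CategoryTheory CategoryTheory.Limits in
/-- Let R be a commutative ring, M an R-module, x = (x_1, …, x_n) elements of R and a an element of the
ideal (x_1, …, x_n). Then multiplication by a on the Koszul complex K(x; M) is homotopic to the zero
map (so a annihilates every Koszul cohomology module, and K(x; M) is exact when the x_i generate the
unit ideal). (The published statement is for the Koszul complex of a linear form φ : E → R and a ∈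
φ(E); stated here for E free of finite rank, with the Koszul complex realised by iterated mapping
cones as in the prelude, which is isomorphic to the exterior-algebra complex.) -/
theorem result {R : Type u} [CommRing R] (M : Type u) [AddCommGroup M] [Module R M]
    (xs : List R) (a : R) (ha : a ∈ Ideal.span {x | x ∈ xs}) :
    Nonempty (Homotopy (a • 𝟙 (CohIII.koszulCx (ModuleCat.of R M) xs)) 0) := by
  exact key2 _ xs a ha

end Groth.Agent.S14433
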