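import Groth.Statements.S12211
import Mathlib
import Groth.Agent.Lib.Helper5SamuelAdd

set_option autoImplicit false
universe u
open IntMult

namespace Groth.Agent.S12211

/-- Suppose A is a local Noetherian ring and I ⊆ A is an ideal of definition. Given a short exact
sequence 0 → M' → M → M'' → 0 of finite A-modules and a number d with dim Supp(M) ≤ d, we have
e_I(M, d) = e_I(M', d) + e_I(M'', d), where e_I(N, d) denotes the limit as t → ∞ of d! ·
length_A(N/I^t N)/t^d. Concretely: whenever these limits for M' and M'' exist and equal e' and e'',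
the corresponding limit for M exists and equals e' + e''. -/
theorem result (A : Type u) [CommRing A] [IsNoetherianRing A] [IsLocalRing A]
    (I : Ideal A) (hI : I ≤ IsLocalRing.maximalIdeal A ∧ ∃ n : ℕ, IsLocalRing.maximalIdeal A ^ n ≤ I)
    {M' M M'' : Type u} [AddCommGroup M'] [Module A M'] [AddCommGroup M] [Module A M]
    [AddCommGroup M''] [Module A M''] [Module.Finite A M'] [Module.Finite A M] [Module.Finite A M'']
    (f : M' →ₗ[A] M) (g : M →ₗ[A] M'') (hf : Function.Injective f) (hg : Function.Surjective g)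
    (hfg : LinearMap.range f = LinearMap.ker g)
    (d : ℕ) (hd : Module.supportDim A M ≤ d) (e' e'' : ℝ)
    (h' : Filter.Tendsto (fun t : ℕ => (d.factorial : ℝ) * ((Module.length A (M' ⧸ (I ^ t • (⊤ : Submodule A M')))).toNat : ℝ) / (t : ℝ) ^ d) Filter.atTop (nhds e'))
    (h'' : Filter.Tendsto (fun t : ℕ => (d.factorial : ℝ) * ((Module.length A (M'' ⧸ (I ^ t • (⊤ : Submodule A M'')))).toNat : ℝ) / (t : ℝ) ^ d) Filter.atTop (nhds e'')) :
    Filter.Tendsto (fun t : ℕ => (d.factorial : ℝ) * ((Module.length A (M ⧸ (I ^ t • (⊤ : Submodule A M)))).toNat : ℝ) / (t : ℝ) ^ d) Filter.atTop (nhds (e' + e'')) := by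
  obtain ⟨-, n, hn⟩ := hI
  have fin'' : ∀ t, Module.length A (M'' ⧸ (I ^ t • (⊤ : Submodule A M''))) ≠ ⊤ := fun t =>
    Module.length_ne_top_iff.2
      (Groth.Agent.Lib.Helper5.SamuelAdd.isFiniteLength_quotient I n hn M'' _ t le_rfl)
  have finN : ∀ t, Module.length A (M' ⧸ ((I ^ t • (⊤ : Submodule A M)).comap f)) ≠ ⊤ := fun t =>
    Module.length_ne_top_iff.2
      (Groth.Agent.Lib.Helper5.SamuelAdd.isFiniteLength_quotient I n hn M' _ t
        (Groth.Agent.Lib.Helper5.SamuelAdd.smul_top_le_comap I f t))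
  have fin' : ∀ t, Module.length A (M' ⧸ (I ^ t • (⊤ : Submodule A M'))) ≠ ⊤ := fun t =>
    Module.length_ne_top_iff.2
      (Groth.Agent.Lib.Helper5.SamuelAdd.isFiniteLength_quotient I n hn M' _ t le_rfl)
  obtain ⟨c, hc⟩ := Groth.Agent.Lib.Helper5.SamuelAdd.exists_comap_le I f hf
  have h1 : ∀ t, c ≤ t →
      (Module.length A (M' ⧸ (I ^ (t - c) • (⊤ : Submodule A M')))).toNat ≤
        (Module.length A (M' ⧸ ((I ^ t • (⊤ : Submodule A M)).comap f))).toNat := by
    intro t ht
    apply ENat.toNat_le_toNat _ (finN t)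
    exact Module.length_le_of_surjective (Submodule.factor (hc t ht))
      (Submodule.factor_surjective _)
  have h2 : ∀ t, (Module.length A (M' ⧸ ((I ^ t • (⊤ : Submodule A M)).comap f))).toNat ≤
      (Module.length A (M' ⧸ (I ^ t • (⊤ : Submodule A M')))).toNat := by
    intro t
    apply ENat.toNat_le_toNat _ (fin' t)
    exact Module.length_le_of_surjective
      (Submodule.factor (Groth.Agent.Lib.Helper5.SamuelAdd.smul_top_le_comap I f t))
      (Submodule.factor_surjective _)
  have hu := Groth.Agent.Lib.Helper5.SamuelAdd.squeeze d c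
    (fun t => (Module.length A (M' ⧸ (I ^ t • (⊤ : Submodule A M')))).toNat)
    (fun t => (Module.length A (M' ⧸ ((I ^ t • (⊤ : Submodule A M)).comap f))).toNat)
    e' h1 h2 h'
  have hsum : ∀ t, (Module.length A (M ⧸ (I ^ t • (⊤ : Submodule A M)))).toNat =
      (Module.length A (M' ⧸ ((I ^ t • (⊤ : Submodule A M)).comap f))).toNat +
        (Module.length A (M'' ⧸ (I ^ t • (⊤ : Submodule A M'')))).toNat := by
    intro t
    rw [Groth.Agent.Lib.Helper5.SamuelAdd.length_quotient_eq_add I f g hg hfg t,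
      ENat.toNat_add (finN t) (fin'' t)]
  refine (hu.add h'').congr ?_
  intro t
  rw [hsum t]
  push_cast
  ring

end Groth.Agent.S12211
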