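import Groth.Statements.S8658
import Groth.Agent.Lib.Helper5KindFlat

set_option autoImplicit false
universe u
open CategoryTheory CategoryTheory.Limits AlgebraicGeometry
open Synt

namespace Groth.Agent.S8658

/-- Let f : X ⟶ Y be a local complete intersection morphism in the factorisation sense (around each
point of X, f is locally of finite type and factors as a Koszul-regular immersion followed by a
smooth morphism), and let g : Y' ⟶ Y be flat. Then for any cartesian square, the base change f' : X'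
⟶ Y' is a local complete intersection morphism in the same sense. -/
theorem result {X Y X' Y' : Scheme.{u}} (f : X ⟶ Y) (g : Y' ⟶ Y) [Flat g]
    (f' : X' ⟶ Y') (g' : X' ⟶ X) (hsq : IsPullback g' f' f g)
    (hf : ∀ x : X, Synt.IsKoszulAt f x) : ∀ x' : X', Synt.IsKoszulAt f' x' := by
  intro x'
  obtain ⟨U, P, i, π, hxU, hlft, hi, hsm, hcomp⟩ := hf (g' x')
  haveI := hsm
  have HA : IsPullback (g' ∣_ U) (g' ⁻¹ᵁ U).ι U.ι g' := isPullback_morphismRestrict g' U
  have HU : IsPullback (g' ∣_ U) ((g' ⁻¹ᵁ U).ι ≫ f') (U.ι ≫ f) g := HA.paste_vert hsq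
  have HU' : IsPullback (g' ∣_ U) ((g' ⁻¹ᵁ U).ι ≫ f') (i ≫ π) g := by
    rw [hcomp]
    exact HU
  have t : IsPullback (pullback.fst π g) (pullback.snd π g) π g := IsPullback.of_hasPullback π g
  obtain ⟨i', hi'def⟩ : ∃ i' : ((g' ⁻¹ᵁ U : X'.Opens) : Scheme) ⟶ pullback π g,
      i' = t.lift (g' ∣_ U ≫ i) ((g' ⁻¹ᵁ U).ι ≫ f') (by rw [Category.assoc, HU'.w]) := ⟨_, rfl⟩
  have Htop : IsPullback (g' ∣_ U) i' i (pullback.fst π g) := by
    rw [hi'def]
    exact HU'.of_bot' t
  have hsnd : i' ≫ pullback.snd π g = (g' ⁻¹ᵁ U).ι ≫ f' := by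
    rw [hi'def]
    exact t.lift_snd _ _ _
  haveI : Flat (pullback.fst π g) := MorphismProperty.pullback_fst (P := @Flat) π g inferInstance
  haveI : Smooth (pullback.snd π g) := MorphismProperty.pullback_snd (P := @Smooth) π g hsm
  refine ⟨g' ⁻¹ᵁ U, pullback π g, i', pullback.snd π g, hxU, ?_, ⟨?_, fun z' => ?_⟩, inferInstance,
    hsnd⟩
  · exact MorphismProperty.of_isPullback (P := @LocallyOfFiniteType) HU hlft
  · exact MorphismProperty.of_isPullback (P := @IsImmersion) Htop hi.1
  · exact Groth.Agent.Lib.Helper5.KindFlat.isRegularImmersionAt_flat_baseChange .koszul Htop z'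
      (hi.2 _)

end Groth.Agent.S8658
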