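import Groth.Statements.S6916
import Mathlib.LinearAlgebra.TensorProduct.RightExactness
import Mathlib.RingTheory.TensorProduct.Basic
-- import your own Groth.Agent.* helpers here

set_option autoImplicit false
universe u
open TensorProduct
open EtAlg

namespace Groth.Agent.S6916

/-- Let `B' = B ×_A A'` be a fibre square of rings with `A' → A` surjective and `L'` any `B'`-module.
Then the canonical map from `L'` to the glueing of `(L' ⊗_{B'} B, L' ⊗_{B'} A')` is surjective:
every pair `(x, y) ∈ (B ⊗_{B'} L') × (A' ⊗_{B'} L')` with equal images in `A ⊗_{B'} L'` is of the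
form `(1 ⊗ l, 1 ⊗ l)`. (It is in general not injective.) -/
theorem result (B' B A' A : Type u) [CommRing B'] [CommRing B] [CommRing A'] [CommRing A]
    [Algebra B' B] [Algebra B' A'] [Algebra B A] [Algebra A' A] [Algebra B' A] [IsScalarTower B' B A] [IsScalarTower B' A' A]
    (hsq : EtMil.IsFibreSquare B' B A' A)
    (L' : Type u) [AddCommGroup L'] [Module B' L'] (x : B ⊗[B'] L') (y : A' ⊗[B'] L')
    (hxy : (IsScalarTower.toAlgHom B' B A).toLinearMap.rTensor L' x = (IsScalarTower.toAlgHom B' A' A).toLinearMap.rTensor L' y) :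
    ∃ l : L', (1 : B) ⊗ₜ[B'] l = x ∧ (1 : A') ⊗ₜ[B'] l = y := by
  obtain ⟨hAsurj, huniq⟩ := hsq
  -- `B' → B` is surjective
  have hBsurj : Function.Surjective (algebraMap B' B) := by
    intro b
    obtain ⟨a', ha'⟩ := hAsurj (algebraMap B A b)
    obtain ⟨b', ⟨hb', -⟩, -⟩ := huniq b a' ha'.symm
    exact ⟨b', hb'⟩
  let gB : B →ₗ[B'] A := (IsScalarTower.toAlgHom B' B A).toLinearMap
  let g : A' →ₗ[B'] A := (IsScalarTower.toAlgHom B' A' A).toLinearMap
  have hg : Function.Surjective g := hAsurj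
  let f : ↥(LinearMap.ker g) →ₗ[B'] A' := (LinearMap.ker g).subtype
  have hex : Function.Exact (f.rTensor L') (g.rTensor L') :=
    rTensor_exact L' (LinearMap.exact_subtype_ker_map g) hg
  obtain ⟨l₀, hl₀⟩ := TensorProduct.mk_surjective B' L' B hBsurj x
  have hl₀' : (1 : B) ⊗ₜ[B'] l₀ = x := hl₀
  have h2 : g.rTensor L' (y - (1 : A') ⊗ₜ[B'] l₀) = 0 := by
    have hxy' : gB.rTensor L' x = g.rTensor L' y := hxy
    rw [map_sub, ← hxy', ← hl₀', LinearMap.rTensor_tmul, LinearMap.rTensor_tmul]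
    have h1 : gB 1 = 1 := map_one (IsScalarTower.toAlgHom B' B A)
    have h1' : g 1 = 1 := map_one (IsScalarTower.toAlgHom B' A' A)
    rw [h1, h1', sub_self]
  obtain ⟨t, ht⟩ := (hex _).mp h2
  have key : ∀ t : ↥(LinearMap.ker g) ⊗[B'] L', ∃ l₁ : L', (1 : B) ⊗ₜ[B'] l₁ = 0 ∧
      f.rTensor L' t = (1 : A') ⊗ₜ[B'] l₁ := by
    intro t
    induction t using TensorProduct.induction_on with
    | zero => exact ⟨0, by simp, by simp⟩
    | tmul i l =>
      have hi : algebraMap A' A (i : A') = 0 := i.2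
      obtain ⟨j, ⟨hj1, hj2⟩, -⟩ := huniq 0 (i : A') (by rw [map_zero, hi])
      refine ⟨j • l, ?_, ?_⟩
      · rw [← TensorProduct.smul_tmul, Algebra.smul_def, hj1, zero_mul, TensorProduct.zero_tmul]
      · rw [LinearMap.rTensor_tmul, ← TensorProduct.smul_tmul, Algebra.smul_def, hj2, mul_one]
        rfl
    | add t₁ t₂ h₁ h₂ =>
      obtain ⟨l₁, h11, h12⟩ := h₁
      obtain ⟨l₂, h21, h22⟩ := h₂
      refine ⟨l₁ + l₂, ?_, ?_⟩
      · rw [TensorProduct.tmul_add, h11, h21, add_zero]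
      · rw [map_add, h12, h22, TensorProduct.tmul_add]
  obtain ⟨l₁, hl₁, hl₁'⟩ := key t
  refine ⟨l₀ + l₁, ?_, ?_⟩
  · rw [TensorProduct.tmul_add, hl₁, add_zero, hl₀']
  · rw [TensorProduct.tmul_add, ← hl₁', ht]
    abel

end Groth.Agent.S6916
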