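import Groth.Statements.S2020
import Groth.Agent.Lib.Helper22MilnorGlue
import Groth.Agent.Lib.Helper22MilnorFlat
import Groth.Agent.Lib.Helper22FlatExact
import Groth.Agent.S6916

set_option autoImplicit false
universe u
open TensorProduct
open EtAlg

namespace Groth.Agent.S2020

/-- Let B' → B, B' → A', B → A and A' → A be ring homomorphisms forming a commutative square that is a
fibre product, B' = B ×_A A', with A' → A surjective. (1) Given a flat B-module N, a flat A'-module
M' and an A-linear isomorphism φ : A ⊗_B N ≅ A ⊗_{A'} M', the glued module N ×_φ M' (pairs (n, m')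
with φ(1 ⊗ n) = 1 ⊗ m') is a flat B'-module. (2) For every flat B'-module L', the map L' → (B ⊗_{B'}
L') × (A' ⊗_{B'} L') is injective, and any pair (x, y) whose two images in A ⊗_{B'} L' agree comes
from an element of L'. -/
theorem result (B' B A' A : Type u) [CommRing B'] [CommRing B] [CommRing A'] [CommRing A]
    [Algebra B' B] [Algebra B' A'] [Algebra B A] [Algebra A' A] [Algebra B' A] [IsScalarTower B' B A] [IsScalarTower B' A' A]
    (hsq : EtMil.IsFibreSquare B' B A' A) :
    (∀ (N M' : Type u) [AddCommGroup N] [Module B N] [Module B' N] [IsScalarTower B' B N]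
    [AddCommGroup M'] [Module A' M'] [Module B' M'] [IsScalarTower B' A' M'] (φ : A ⊗[B] N ≃ₗ[A] A ⊗[A'] M'), Module.Flat B N → Module.Flat A' M' → Module.Flat B' ↥(EtMil.glue B' φ)) ∧
    (∀ (L' : Type u) [AddCommGroup L'] [Module B' L'], Module.Flat B' L' →
      Function.Injective (fun l : L' => (((1 : B) ⊗ₜ[B'] l : B ⊗[B'] L'), ((1 : A') ⊗ₜ[B'] l : A' ⊗[B'] L'))) ∧
      ∀ (x : B ⊗[B'] L') (y : A' ⊗[B'] L'),
        (IsScalarTower.toAlgHom B' B A).toLinearMap.rTensor L' x = (IsScalarTower.toAlgHom B' A' A).toLinearMap.rTensor L' y →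
          ∃ l : L', (1 : B) ⊗ₜ[B'] l = x ∧ (1 : A') ⊗ₜ[B'] l = y) := by
  refine ⟨?_, ?_⟩
  · intro N M' _ _ _ _ _ _ _ _ φ hN hM'
    have : Module.Flat B (B ⊗[B'] ↥(EtMil.glue B' φ)) :=
      Module.Flat.of_linearEquiv
        (LinearEquiv.ofBijective _ (Groth.Agent.Lib.Helper22.glue_fst_bijective φ hsq))
    have : Module.Flat A' (A' ⊗[B'] ↥(EtMil.glue B' φ)) :=
      Module.Flat.of_linearEquiv
        (LinearEquiv.ofBijective _ (Groth.Agent.Lib.Helper22.glue_snd_bijective φ hsq))
    exact Groth.Agent.Lib.Helper22.fs_flat hsq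
  · intro L' _ _ hL'
    refine ⟨?_, ?_⟩
    · intro l1 l2 h
      simp only [Prod.mk.injEq] at h
      have h1 : ((1 : B) ⊗ₜ[B'] (l1 - l2) : B ⊗[B'] L') = 0 := by
        rw [TensorProduct.tmul_sub, h.1, sub_self]
      have h2 : ((1 : A') ⊗ₜ[B'] (l1 - l2) : A' ⊗[B'] L') = 0 := by
        rw [TensorProduct.tmul_sub, h.2, sub_self]
      exact sub_eq_zero.mp (Groth.Agent.Lib.Helper22.fs_eq_zero_of_flat hsq (l1 - l2) h1 h2)
    · intro x y hxy
      exact Groth.Agent.S6916.result B' B A' A hsq L' x y hxy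

end Groth.Agent.S2020
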