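import Groth.Statements.S6921
import Groth.Agent.Lib.Helper18MilGlue

set_option autoImplicit false
universe u
open TensorProduct
open EtAlg

namespace Groth.Agent.S6921

/-- Let `B' = B ×_A A'` be a fibre square of rings with `A' → A` surjective, `B' → D'` a ring map, and
`D = D' ⊗_{B'} B`, `C' = D' ⊗_{B'} A'`, `C = D' ⊗_{B'} A`. Let `N` be a finite `D`-module, `M'` a
finite `C'`-module and `φ : N ⊗_D C ≅ M' ⊗_{C'} C` a `C`-linear isomorphism. Then the glued module
`N ×_φ M'` is a finite `D'`-module. -/
theorem result (B' B A' A : Type u) [CommRing B'] [CommRing B] [CommRing A'] [CommRing A]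
    [Algebra B' B] [Algebra B' A'] [Algebra B A] [Algebra A' A] [Algebra B' A] [IsScalarTower B' B A] [IsScalarTower B' A' A]
    (hsq : EtMil.IsFibreSquare B' B A' A)
    (D' D C' C : Type u) [CommRing D'] [CommRing D] [CommRing C'] [CommRing C]
    [Algebra B' D'] [Algebra B D] [Algebra A' C'] [Algebra A C]
    [Algebra D' D] [Algebra B' D] [IsScalarTower B' B D] [IsScalarTower B' D' D] [Algebra.IsPushout B' B D' D]
    [Algebra D' C'] [Algebra B' C'] [IsScalarTower B' A' C'] [IsScalarTower B' D' C'] [Algebra.IsPushout B' A' D' C']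
    [Algebra D' C] [Algebra B' C] [IsScalarTower B' A C] [IsScalarTower B' D' C] [Algebra.IsPushout B' A D' C]
    [Algebra D C] [IsScalarTower D' D C] [Algebra B C] [IsScalarTower B A C] [IsScalarTower B D C]
    [Algebra C' C] [IsScalarTower D' C' C] [Algebra A' C] [IsScalarTower A' A C] [IsScalarTower A' C' C]
    {N M' : Type u} [AddCommGroup N] [Module D N] [Module D' N] [IsScalarTower D' D N]
    [AddCommGroup M'] [Module C' M'] [Module D' M'] [IsScalarTower D' C' M'] (φ : C ⊗[D] N ≃ₗ[C] C ⊗[C'] M')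
    [Module.Finite D N] [Module.Finite C' M'] : Module.Finite D' ↥(EtMil.glue D' φ) := by
  open Groth.Agent.Helper18MilGlue in
  have h1 : Function.Surjective (algebraMap D' D) :=
    surj_of_isPushout B' B D' D (surj_B B' B A' A hsq)
  have h2 : Function.Surjective (algebraMap C' C) :=
    Groth.Agent.Helper18MilGlue.surj_C B' B A' A hsq D' C' C
  have h3 : ∀ j : C', algebraMap C' C j = 0 →
      ∃ δ : D', algebraMap D' C' δ = j ∧ algebraMap D' D δ = 0 := by
    intro j hj
    obtain ⟨δ, hδ, n, b, d, hb, rfl⟩ :=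
      Groth.Agent.Helper18MilGlue.ker_C B' B A' A hsq D' C' C j hj
    refine ⟨_, hδ, ?_⟩
    rw [map_sum]
    refine Finset.sum_eq_zero fun i _ => ?_
    rw [map_mul, ← IsScalarTower.algebraMap_apply B' D' D, IsScalarTower.algebraMap_apply B' B D,
      hb i, map_zero, zero_mul]
  exact Module.Finite.iff_fg.2 (Groth.Agent.Helper18MilGlue.glue_fg φ h1 h2 h3)

end Groth.Agent.S6921
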