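import Groth.Statements.S7137
import Mathlib
import Groth.Agent.Lib.Helper13Ses
import Groth.Agent.Lib.Helper28Depth
import Groth.Agent.Lib.Helper5Depth
import Groth.Agent.Lib.Helper5CM
import Groth.Agent.Lib.Helper5RLR
import Groth.Agent.S0604
-- import your own Groth.Agent.* helpers here

set_option autoImplicit false
universe u
open CategoryTheory
open CAlg

namespace Groth.Agent.S7137

open CategoryTheory.Limits
open Groth.Agent.Helper13Ses

/-- finite powers keep projective dimension bounds. -/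
theorem pdLT_pi_fin {R : Type u} [CommRing R] (S : Type u) [AddCommGroup S] [Module R S] (m : ℕ)
    (h : HasProjectiveDimensionLT (ModuleCat.of R S) m) (n : ℕ) :
    HasProjectiveDimensionLT (ModuleCat.of R (Fin n → S)) m := by
  induction n with
  | zero =>
    have hz : IsZero (ModuleCat.of R (Fin 0 → S)) := ModuleCat.isZero_of_subsingleton _
    have := hz.hasProjectiveDimensionLT_zero
    exact hasProjectiveDimensionLT_of_ge _ 0 m (Nat.zero_le _)
  | succ n ih =>
    have e : ModuleCat.of R (S × (Fin n → S)) ≅ ModuleCat.of R (Fin (n + 1) → S) :=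
      (Fin.consLinearEquiv R (fun _ : Fin (n + 1) => S)).toModuleIso
    have : HasProjectiveDimensionLT (ModuleCat.of R S ⊞ ModuleCat.of R (Fin n → S)) m :=
      inferInstance
    exact hasProjectiveDimensionLT_of_iso
      ((ModuleCat.biprodIsoProd (ModuleCat.of R S) (ModuleCat.of R (Fin n → S))) ≪≫ e) m

/-- finiteness of projective dimension along `R → R/I`. -/
theorem pdLT_restrict {R : Type u} [CommRing R] [IsLocalRing R] [IsNoetherianRing R] (I : Ideal R)
    [IsLocalRing (R ⧸ I)] (p₁ : ℕ)
    (h1 : HasProjectiveDimensionLT (ModuleCat.of R (R ⧸ I)) (p₁ + 1)) (q : ℕ) :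
    ∀ (E : Type u) [AddCommGroup E] [Module (R ⧸ I) E] [Module R E] [IsScalarTower R (R ⧸ I) E]
      [Module.Finite (R ⧸ I) E],
      HasProjectiveDimensionLT (ModuleCat.of (R ⧸ I) E) (q + 1) →
        HasProjectiveDimensionLT (ModuleCat.of R E) (p₁ + q + 1) := by
  induction q with
  | zero =>
    intro E _ _ _ _ _ hE
    have : Module.Projective (R ⧸ I) E := projective_of_pdLT_one hE
    have : Module.Free (R ⧸ I) E := Module.free_of_flat_of_isLocalRing
    obtain ⟨b⟩ : Nonempty (Module.Basis (Fin (Module.finrank (R ⧸ I) E)) (R ⧸ I) E) :=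
      ⟨Module.finBasis (R ⧸ I) E⟩
    have e : E ≃ₗ[R] (Fin (Module.finrank (R ⧸ I) E) → (R ⧸ I)) := b.equivFun.restrictScalars R
    have := pdLT_pi_fin (R := R) (R ⧸ I) (p₁ + 1) h1 (Module.finrank (R ⧸ I) E)
    exact hasProjectiveDimensionLT_of_iso e.symm.toModuleIso (p₁ + 0 + 1)
  | succ q ih =>
    intro E _ _ _ _ _ hE
    obtain ⟨n, π, hπ⟩ := Module.Finite.exists_fin' (R ⧸ I) E
    have hK : HasProjectiveDimensionLT (ModuleCat.of (R ⧸ I) (LinearMap.ker π)) (q + 1) :=
      pdLT_ker π hπ q hE
    have hK' := ih (LinearMap.ker π) hK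
    let S' : ShortComplex (ModuleCat.{u} R) :=
      ShortComplex.mk
        (ModuleCat.ofHom ((LinearMap.ker π).subtype.restrictScalars R) :
          ModuleCat.of R (LinearMap.ker π) ⟶ ModuleCat.of R (Fin n → (R ⧸ I)))
        (ModuleCat.ofHom (π.restrictScalars R) :
          ModuleCat.of R (Fin n → (R ⧸ I)) ⟶ ModuleCat.of R E) (by
        apply ModuleCat.hom_ext
        apply LinearMap.ext
        intro y
        exact y.2)
    have hS' : S'.ShortExact :=
      { exact := by
          rw [ShortComplex.ShortExact.moduleCat_exact_iff_function_exact]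
          intro y
          show π y = 0 ↔ y ∈ Set.range (LinearMap.ker π).subtype
          constructor
          · intro hy
            exact ⟨⟨y, hy⟩, rfl⟩
          · rintro ⟨z, rfl⟩
            exact z.2
        mono_f := by
          rw [ModuleCat.mono_iff_injective]
          exact Submodule.injective_subtype _
        epi_g := by
          rw [ModuleCat.epi_iff_surjective]
          exact hπ }
    have h2 : HasProjectiveDimensionLT S'.X₂ (p₁ + q + 1 + 1) := by
      have := pdLT_pi_fin (R := R) (R ⧸ I) (p₁ + 1) h1 n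
      exact hasProjectiveDimensionLT_of_ge (ModuleCat.of R (Fin n → (R ⧸ I))) (p₁ + 1)
        (p₁ + q + 1 + 1) (by omega)
    exact hS'.hasProjectiveDimensionLT_X₃ (p₁ + q + 1) hK' h2

/-- depth does not change along `R → R/I`. -/
theorem depth_quotient_eq {R : Type u} [CommRing R] [IsLocalRing R] [IsNoetherianRing R]
    (I : Ideal R) [IsLocalRing (R ⧸ I)] (N : Type u) [AddCommGroup N] [Module R N]
    [Module (R ⧸ I) N] [IsScalarTower R (R ⧸ I) N] [Module.Finite (R ⧸ I) N] [Nontrivial N] :
    LocCoh.depth R N = LocCoh.depth (R ⧸ I) N := by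
  have : Module.Finite R N := Module.Finite.trans (R ⧸ I) N
  have hIM : IsLocalRing.maximalIdeal R • (⊤ : Submodule R N) ≠ ⊤ :=
    Groth.Agent.Lib.Helper5.maximalIdeal_smul_top_ne_top
  have hIM' : IsLocalRing.maximalIdeal (R ⧸ I) • (⊤ : Submodule (R ⧸ I) N) ≠ ⊤ :=
    Groth.Agent.Lib.Helper5.maximalIdeal_smul_top_ne_top
  obtain ⟨rs, -, hrs, hmem, hmax⟩ := Groth.Agent.Lib.Helper28.exists_maximal_extension hIM []
    (RingTheory.Sequence.IsWeaklyRegular.nil R N) (by simp)
  have h1 := Groth.Agent.Lib.Helper28.length_eq_idealDepth_of_maximal hIM rs hrs hmem hmax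
  have h2 := Groth.Agent.Lib.Helper28.length_eq_idealDepth_of_maximal hIM'
    (rs.map (algebraMap R (R ⧸ I)))
    ((RingTheory.Sequence.isWeaklyRegular_map_algebraMap_iff (R ⧸ I) N rs).2 hrs)
    (by
      intro r' hr'
      obtain ⟨r, hr, rfl⟩ := List.mem_map.1 hr'
      exact (Groth.Agent.Lib.Helper5.mk_mem_maximalIdeal_quotient_iff I r).2 (hmem r hr))
    (by
      intro r' hr' hcon
      obtain ⟨r, rfl⟩ := Ideal.Quotient.mk_surjective r'
      have hr : r ∈ IsLocalRing.maximalIdeal R :=
        (Groth.Agent.Lib.Helper5.mk_mem_maximalIdeal_quotient_iff I r).1 hr'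
      have : rs.map (algebraMap R (R ⧸ I)) ++ [Ideal.Quotient.mk I r] =
          (rs ++ [r]).map (algebraMap R (R ⧸ I)) := by
        rw [List.map_append, List.map_singleton]
        rfl
      rw [this, RingTheory.Sequence.isWeaklyRegular_map_algebraMap_iff] at hcon
      exact hmax r hr hcon)
  unfold LocCoh.depth
  rw [← h1, ← h2, List.length_map]

/-- a nonzero object of finite projective dimension has a natural number as projective dimension. -/
theorem exists_nat_pd {C : Type*} [Category C] [Abelian C] (X : C) (h : projectiveDimension X ≠ ⊤)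
    (hX : ¬ IsZero X) : ∃ n : ℕ, projectiveDimension X = n := by
  have hb : projectiveDimension X ≠ ⊥ := by
    rw [Ne, projectiveDimension_eq_bot_iff]
    exact hX
  obtain ⟨a, ha⟩ := WithBot.ne_bot_iff_exists.mp hb
  have h3 : a ≠ ⊤ := fun h' => h (by rw [← ha, h']; rfl)
  obtain ⟨n, rfl⟩ := ENat.ne_top_iff_exists.mp h3
  exact ⟨n, ha.symm⟩


/-- Take a Noetherian local ring R, an ideal I and a finite module E ≠ 0 over R/I. Suppose that R/I, as
an R-module, and E, as an R/I-module, both have finite projective dimension. Then E, as an R-module,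
has finite projective dimension too, and it equals pd_R(R/I) + pd_{R/I}(E). -/
theorem result (R : Type u) [CommRing R] [IsNoetherianRing R] [IsLocalRing R]
    (I : Ideal R) (E : Type u) [AddCommGroup E] [Module (R ⧸ I) E] [Module R E] [IsScalarTower R (R ⧸ I) E]
    [Module.Finite (R ⧸ I) E] [Nontrivial E]
    (h1 : projectiveDimension (ModuleCat.of R (R ⧸ I)) ≠ ⊤)
    (h2 : projectiveDimension (ModuleCat.of (R ⧸ I) E) ≠ ⊤) :
    projectiveDimension (ModuleCat.of R E) ≠ ⊤ ∧
      projectiveDimension (ModuleCat.of R E) =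
        projectiveDimension (ModuleCat.of R (R ⧸ I)) + projectiveDimension (ModuleCat.of (R ⧸ I) E) := by
  classical
  have hI : I ≠ ⊤ := by
    rintro rfl
    have : Subsingleton (R ⧸ (⊤ : Ideal R)) := Ideal.Quotient.subsingleton_iff.2 rfl
    have : Subsingleton E := Module.subsingleton (R ⧸ (⊤ : Ideal R)) E
    exact not_subsingleton E this
  haveI : IsLocalRing (R ⧸ I) := Groth.Agent.Lib.Helper5.isLocalRing_quotient hI
  have hnzS : ¬ IsZero (ModuleCat.of R (R ⧸ I)) := by
    rw [ModuleCat.isZero_iff_subsingleton]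
    exact not_subsingleton _
  have hnzE : ¬ IsZero (ModuleCat.of (R ⧸ I) E) := by
    rw [ModuleCat.isZero_iff_subsingleton]
    exact not_subsingleton _
  have hnzE' : ¬ IsZero (ModuleCat.of R E) := by
    rw [ModuleCat.isZero_iff_subsingleton]
    exact not_subsingleton _
  obtain ⟨p₁, hp₁⟩ := exists_nat_pd _ h1 hnzS
  obtain ⟨p₂, hp₂⟩ := exists_nat_pd _ h2 hnzE
  have hS1 : HasProjectiveDimensionLT (ModuleCat.of R (R ⧸ I)) (p₁ + 1) := by
    rw [← projectiveDimension_lt_iff, hp₁]
    exact Nat.cast_lt.2 (Nat.lt_succ_self _)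
  have hE2 : HasProjectiveDimensionLT (ModuleCat.of (R ⧸ I) E) (p₂ + 1) := by
    rw [← projectiveDimension_lt_iff, hp₂]
    exact Nat.cast_lt.2 (Nat.lt_succ_self _)
  have hER := pdLT_restrict I p₁ hS1 p₂ E hE2
  have hfin : projectiveDimension (ModuleCat.of R E) ≠ ⊤ := by
    rw [← projectiveDimension_lt_iff] at hER
    exact ne_top_of_lt hER
  obtain ⟨p, hp⟩ := exists_nat_pd _ hfin hnzE'
  have : Module.Finite R E := Module.Finite.trans (R ⧸ I) E
  have ab1 := Groth.Agent.S0604.result R (R ⧸ I) p₁ hp₁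
  have ab2 := Groth.Agent.S0604.result (R ⧸ I) E p₂ hp₂
  have ab3 := Groth.Agent.S0604.result R E p hp
  have d1 : LocCoh.depth R (R ⧸ I) = LocCoh.depth (R ⧸ I) (R ⧸ I) := depth_quotient_eq I (R ⧸ I)
  have d2 : LocCoh.depth R E = LocCoh.depth (R ⧸ I) E := depth_quotient_eq I E
  have hne : LocCoh.depth (R ⧸ I) E ≠ ⊤ := Groth.Agent.Lib.Helper5.depth_ne_top
  obtain ⟨s, hs⟩ := ENat.ne_top_iff_exists.mp hne
  rw [d1, ab2, ← hs] at ab1
  rw [d2, ← hs, ab1] at ab3
  have hnat : p₁ + (p₂ + s) = p + s := by exact_mod_cast ab3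
  have hpp : p = p₁ + p₂ := by omega
  refine ⟨hfin, ?_⟩
  rw [hp, hp₁, hp₂, hpp]
  push_cast
  rfl

end Groth.Agent.S7137
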