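import Groth.Statements.S2189
import Mathlib
import Groth.Agent.Lib.Helper13Vasc4
-- import your own Groth.Agent.* helpers here

set_option autoImplicit false
universe u
open CategoryTheory
open LCI

namespace Groth.Agent.S2189

open IsLocalRing Groth.Agent.Helper13Vasc

/-- every element of a localization is, up to a unit, the image of an element of the ring. -/
theorem exists_list_units {R : Type u} [CommRing R] (M : Submonoid R) (T : Type u) [CommRing T]
    [Algebra R T] [IsLocalization M T] (l : List T) :
    ∃ as : List R, List.Forall₂ (fun (t t' : T) => ∃ u : Tˣ, t' = t * (u : T)) l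
      (as.map (algebraMap R T)) := by
  induction l with
  | nil => exact ⟨[], List.Forall₂.nil⟩
  | cons t l ih =>
    obtain ⟨as, has⟩ := ih
    obtain ⟨⟨a, s⟩, hs⟩ := IsLocalization.surj M t
    obtain ⟨u, hu⟩ := IsLocalization.map_units T s
    refine ⟨a :: as, ?_⟩
    rw [List.map_cons]
    refine List.Forall₂.cons ⟨u, ?_⟩ has
    rw [hu]
    exact hs.symm

/-- Let R be a Noetherian ring and I an ideal which has finite projective dimension as an R-module and
whose conormal module I/I^2 is finite locally free (projective) over R/I. Then I is a regular ideal: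
for every prime p containing I there is g outside p such that the extension of I to R_g is generated
by a regular sequence of R_g. -/
theorem result {R : Type u} [CommRing R]
    [IsNoetherianRing R] (I : Ideal R) (n : ℕ)
    (hpd : HasProjectiveDimensionLT (ModuleCat.of R I) n)
    [Module.Projective (R ⧸ I) I.Cotangent] (p : Ideal R) [p.IsPrime] (hIp : I ≤ p) :
    ∃ g : R, g ∉ p ∧ ∃ rs : List (Localization.Away g),
      RingTheory.Sequence.IsRegular (Localization.Away g) rs ∧
        Ideal.ofList rs = I.map (algebraMap R (Localization.Away g)) := by
  classical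
  -- the local situation
  have hJ : I.map (algebraMap R (Localization.AtPrime p)) ≤
      maximalIdeal (Localization.AtPrime p) := by
    rw [Ideal.map_le_iff_le_comap]
    exact le_trans hIp (le_of_eq
      (IsLocalization.AtPrime.comap_maximalIdeal (Localization.AtPrime p) p).symm)
  have hfinR : Module.Finite R I.Cotangent :=
    Module.Finite.of_surjective I.toCotangent I.toCotangent_surjective
  have hfin : Module.Finite (R ⧸ I) I.Cotangent :=
    Module.Finite.of_restrictScalars_finite R (R ⧸ I) I.Cotangent
  have hproj := projective_cotangent_map I p.primeCompl (Localization.AtPrime p)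
  obtain ⟨r, x, hspan, hind⟩ := exists_indep_of_projective_cotangent
    (I.map (algebraMap R (Localization.AtPrime p))) hJ
  -- finite projective dimension of the localized ideal
  have hpdJ : ∃ m, HasProjectiveDimensionLT (ModuleCat.of (Localization.AtPrime p)
      ↥(Ideal.span (Set.range x))) m := by
    rw [hspan]
    have h1 : HasProjectiveDimensionLT (ModuleCat.of R ↥I) (n + 1) :=
      hasProjectiveDimensionLT_of_ge _ n (n + 1) (Nat.le_succ n)
    have h2 := pdLT_localizedModule p.primeCompl ↥I n h1
    let e₀ : LocalizedModule p.primeCompl ↥I ≃ₗ[R]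
        ↥(I.map (algebraMap R (Localization.AtPrime p))) :=
      IsLocalizedModule.linearEquiv p.primeCompl (LocalizedModule.mkLinearMap p.primeCompl ↥I)
        (Algebra.idealMap (Localization.AtPrime p) I)
    let e : LocalizedModule p.primeCompl ↥I ≃ₗ[Localization.AtPrime p]
        ↥(I.map (algebraMap R (Localization.AtPrime p))) :=
      LinearEquiv.extendScalarsOfIsLocalization p.primeCompl (Localization.AtPrime p) e₀
    have := h2
    exact ⟨n + 1, hasProjectiveDimensionLT_of_iso e.toModuleIso (n + 1)⟩
  obtain ⟨rsT, hrsT, hrsTJ⟩ := exists_regular_of_indep r (Localization.AtPrime p) x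
    (hspan ▸ hJ) hind hpdJ
  rw [hspan] at hrsTJ
  -- clear denominators
  obtain ⟨as, has⟩ := exists_list_units p.primeCompl (Localization.AtPrime p) rsT
  have H1 := isWeaklyRegular_of_forall₂_units has hrsT
  have H2 := (ofList_eq_of_forall₂_units has).trans hrsTJ
  obtain ⟨g, hg, hreg, hideal⟩ := exists_away_isRegular p I hIp as H1 H2
  exact ⟨g, hg, _, hreg, hideal⟩

end Groth.Agent.S2189
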