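import Groth.Statements.S7458
import Mathlib

set_option autoImplicit false
universe u
open CategoryTheory MonoidalCategory CartesianMonoidalCategory MonObj GrpObj AlgebraicGeometry
open GrpSch

namespace Groth.Agent.S7458


open CategoryTheory.Limits

lemma whisker_mul_eq {S : Scheme.{u}} {G T : Over S} [GrpObj G] (ψ : T ⟶ G) :
    ψ ▷ G ≫ μ[G] = (fst T G ≫ ψ) * snd T G := by
  rw [Hom.mul_def]
  congr 1

lemma flat_translate {S : Scheme.{u}} {G T : Over S} [GrpObj G] (ψ : T ⟶ G) (hT : Flat T.hom) :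
    Flat (ψ ▷ G ≫ μ[G]).left := by
  let σ : T ⊗ G ⟶ T ⊗ G := lift (fst T G) (ψ ▷ G ≫ μ[G])
  let τ : T ⊗ G ⟶ T ⊗ G := lift (fst T G) ((ψ ≫ ι[G]) ▷ G ≫ μ[G])
  have hσ1 : σ ≫ fst T G = fst T G := by simp [σ]
  have hσ2 : σ ≫ snd T G = (fst T G ≫ ψ) * snd T G := by simp [σ, whisker_mul_eq]
  have hτ1 : τ ≫ fst T G = fst T G := by simp [τ]
  have hτ2 : τ ≫ snd T G = (fst T G ≫ ψ)⁻¹ * snd T G := by
    simp only [τ, lift_snd, whisker_mul_eq]
    rw [Hom.inv_def, Category.assoc]
  have hστ : σ ≫ τ = 𝟙 _ := by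
    apply CartesianMonoidalCategory.hom_ext
    · rw [Category.assoc, hτ1, hσ1, Category.id_comp]
    · rw [Category.assoc, hτ2, MonObj.comp_mul, GrpObj.comp_inv, ← Category.assoc, hσ1, hσ2,
        Category.id_comp, inv_mul_cancel_left]
  have hτσ : τ ≫ σ = 𝟙 _ := by
    apply CartesianMonoidalCategory.hom_ext
    · rw [Category.assoc, hσ1, hτ1, Category.id_comp]
    · rw [Category.assoc, hσ2, MonObj.comp_mul, ← Category.assoc, hτ1, hτ2,
        Category.id_comp, mul_inv_cancel_left]
  have h : ψ ▷ G ≫ μ[G] = σ ≫ snd T G := by simp [σ]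
  rw [h, Over.comp_left]
  haveI : IsIso σ := ⟨τ, hστ, hτσ⟩
  haveI : IsIso σ.left := inferInstanceAs (IsIso ((Over.forget S).map σ))
  haveI : Flat (snd T G).left := by
    change Flat (pullback.snd T.hom G.hom)
    infer_instance
  infer_instance



/-- For a group scheme G over a scheme S, a scheme T flat over S and a morphism ψ : T -> G over S, the
map T x_S G -> G sending (t, g) to the product ψ(t)·g is a flat morphism; taking T = G and ψ the
identity, the multiplication G x_S G -> G is flat whenever G is flat over S. -/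
theorem result (S : Scheme.{u}) (G : Over S) [GrpObj G] : (∀ (T : Over S) (ψ : T ⟶ G), Flat T.hom → Flat (ψ ▷ G ≫ μ[G]).left) ∧ (Flat G.hom → Flat μ[G].left) := by
  refine ⟨fun T ψ hT => flat_translate ψ hT, fun hG => ?_⟩
  have := flat_translate (𝟙 G) hG
  simpa using this

end Groth.Agent.S7458
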