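import Groth.Statements.S0386
import Groth.Agent.Lib.Helper3FlatOpenFP
import Groth.Agent.Lib.Helper20EtLocalSch
import Mathlib

set_option autoImplicit false
universe u
open FlatMor

namespace Groth.Agent.S0386

open AlgebraicGeometry CategoryTheory Limits

/-- chart version: the stalk map is flat iff the localization of the chart algebra at the
corresponding prime is flat over the base chart ring. -/
theorem flat_stalkMap_iff_localizedModule {X Y : Scheme.{u}} {f : X ⟶ Y} {x : X} (U : Y.Opens)
    (hU : IsAffineOpen U) (V : X.Opens) (hV : IsAffineOpen V) (hVU : V ≤ f ⁻¹ᵁ U)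
    (hx : x ∈ V) :
    letI := (f.appLE U V hVU).hom.toAlgebra
    (f.stalkMap x).hom.Flat ↔ Module.Flat Γ(Y, U)
      (LocalizedModule (hV.primeIdealOf ⟨x, hx⟩).asIdeal.primeCompl Γ(X, V)) := by
  let := (f.appLE U V hVU).hom.toAlgebra
  let p := (hU.primeIdealOf ⟨f x, hVU hx⟩).asIdeal
  let q := (hV.primeIdealOf ⟨x, hx⟩).asIdeal
  have : q.LiesOver p :=
    ⟨congr($(IsAffineOpen.comap_primeIdealOf_appLE U hU V hV hVU hx).1).symm⟩
  let := Localization.AtPrime.algebraOfLiesOver p q
  change _ ↔ Module.Flat Γ(Y, U) (LocalizedModule q.primeCompl Γ(X, V))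
  rw [Groth.Agent.Lib.Helper20.EtLocal.flat_stalkMap_iff_chart U hU V hV hVU hx]
  change Module.Flat (Localization.AtPrime p) (Localization.AtPrime q) ↔ _
  rw [Module.flat_iff_of_isLocalization (Localization.AtPrime p) p.primeCompl
    (Localization.AtPrime q)]

open AlgebraicGeometry CategoryTheory Limits in
/-- Openness of the flat locus: for a morphism f : X ⟶ S locally of finite presentation, the set of
points x of X at which the local ring O_{X,x} is flat over O_{S,f(x)} is open in X. (The published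
statement also treats the flat locus of a finitely presented quasi-coherent module; stated here for
the structure sheaf.) -/
theorem result {X S : Scheme.{u}} (f : X ⟶ S) [LocallyOfFinitePresentation f] :
    IsOpen {x : X | (f.stalkMap x).hom.Flat} := by
  rw [isOpen_iff_forall_mem_open]
  intro x hx
  obtain ⟨_, ⟨V, hV : IsAffineOpen V, rfl⟩, hxV, -⟩ :=
    S.isBasis_affineOpens.exists_subset_of_mem_open (Set.mem_univ (f x)) isOpen_univ
  obtain ⟨_, ⟨U, hU : IsAffineOpen U, rfl⟩, hxU, hUV⟩ :=
    X.isBasis_affineOpens.exists_subset_of_mem_open (show x ∈ f ⁻¹ᵁ V from hxV) (f ⁻¹ᵁ V).isOpen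
  have hfp : (f.appLE V U hUV).hom.FinitePresentation :=
    HasRingHomProperty.appLE (P := @LocallyOfFinitePresentation) f inferInstance ⟨V, hV⟩ ⟨U, hU⟩ hUV
  letI := (f.appLE V U hUV).hom.toAlgebra
  haveI : Algebra.FinitePresentation Γ(S, V) Γ(X, U) := hfp
  have hW := Groth.Agent.Lib.Helper3.FlatOpen.isOpen_flatLocus_of_finitePresentation
    (R := Γ(S, V)) (S := Γ(X, U)) (M := Γ(X, U))
  set W := {q : PrimeSpectrum Γ(X, U) | Module.Flat Γ(S, V)
    (LocalizedModule q.asIdeal.primeCompl Γ(X, U))} with hWdef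
  have hcont : Continuous (fun y : U => hU.primeIdealOf y) := hU.isoSpec.hom.continuous
  refine ⟨Subtype.val '' ((fun y : U => hU.primeIdealOf y) ⁻¹' W), ?_,
    U.isOpen.isOpenMap_subtype_val _ (hW.preimage hcont), ?_⟩
  · rintro _ ⟨⟨y, hy⟩, hyW, rfl⟩
    exact (flat_stalkMap_iff_localizedModule V hV U hU hUV hy).mpr hyW
  · exact ⟨⟨x, hxU⟩, (flat_stalkMap_iff_localizedModule V hV U hU hUV hxU).mp hx, rfl⟩

end Groth.Agent.S0386
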