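import Groth.Statements.S4935
import Mathlib

set_option autoImplicit false
universe u
open EGA43

namespace Groth.Agent.S4935

section Helpers

lemma going_down_aux {A B C D : Type u} [CommRing A] [IsLocalRing A] [CommRing B] [CommRing C]
    [CommRing D] [IsDomain D] [IsDomain C] [IsLocalRing C] [IsIntegrallyClosed C]
    [Algebra A B] [Algebra A C] [Algebra A D] [Algebra B D] [Algebra C D]
    [IsScalarTower A B D] [IsScalarTower A C D]
    [Algebra.IsIntegral A D] [Algebra.IsIntegral A C]
    (hAC : Function.Injective (algebraMap A C))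
    (hCD : Function.Injective (algebraMap C D)) (hBD : Function.Injective (algebraMap B D))
    (n : Ideal B) [n.IsPrime] (hn : n.comap (algebraMap A B) = IsLocalRing.maximalIdeal A)
    (p : Ideal A) [p.IsPrime] :
    ∃ q : Ideal B, q.IsPrime ∧ q ≤ n ∧ q.comap (algebraMap A B) = p := by
  haveI : Algebra.IsIntegral B D := Algebra.IsIntegral.tower_top (R := A)
  haveI : Algebra.IsIntegral C D := Algebra.IsIntegral.tower_top (R := A)
  haveI : FaithfulSMul C D := (faithfulSMul_iff_algebraMap_injective C D).2 hCD
  obtain ⟨n', hn'p, hn'⟩ := Ideal.exists_ideal_over_prime_of_isIntegral_of_isDomain (S := D) n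
    (by rw [(RingHom.injective_iff_ker_eq_bot _).1 hBD]; exact bot_le)
  let m' : Ideal C := n'.comap (algebraMap C D)
  haveI : m'.IsPrime := Ideal.comap_isPrime _ _
  have hm'A : m'.comap (algebraMap A C) = IsLocalRing.maximalIdeal A := by
    rw [← hn, ← hn', Ideal.comap_comap, Ideal.comap_comap, ← IsScalarTower.algebraMap_eq,
      ← IsScalarTower.algebraMap_eq]
  haveI : m'.IsMaximal := Ideal.isMaximal_of_isIntegral_of_isMaximal_comap (R := A) m'
    (by rw [hm'A]; infer_instance)
  obtain ⟨p', hp'p, hp'⟩ := Ideal.exists_ideal_over_prime_of_isIntegral_of_isDomain (S := C) p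
    (by rw [(RingHom.injective_iff_ker_eq_bot _).1 hAC]; exact bot_le)
  have hle : p' ≤ m' := by
    rw [IsLocalRing.eq_maximalIdeal ‹m'.IsMaximal›]
    exact IsLocalRing.le_maximalIdeal hp'p.ne_top
  haveI : n'.LiesOver m' := ⟨rfl⟩
  obtain ⟨q', hq'le, hq'p, hq'o⟩ := Ideal.exists_ideal_le_liesOver_of_le (p := p') (q := m') n' hle
  refine ⟨q'.comap (algebraMap B D), Ideal.comap_isPrime _ _, ?_, ?_⟩
  · rw [← hn']; exact Ideal.comap_mono hq'le
  · have h1 : q'.comap (algebraMap C D) = p' := (hq'o.over).symm
    rw [Ideal.comap_comap, ← IsScalarTower.algebraMap_eq, IsScalarTower.algebraMap_eq A C D,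
      ← Ideal.comap_comap, h1, hp']

end Helpers

/-- Let A be a unibranch local domain, B a domain containing A and integral over A, and 𝔫 a prime ideal
of B lying over the maximal ideal of A. Then Spec B_𝔫 → Spec A is surjective: for every prime ideal
𝔭 of A there is a prime ideal 𝔮 ⊆ 𝔫 of B with 𝔮 ∩ A = 𝔭. -/
theorem result {A B : Type u} [CommRing A] [IsDomain A]
    [IsLocalRing A] (hA : CAlg2.IsUnibranch A) [CommRing B] [IsDomain B] [Algebra A B]
    (hinj : Function.Injective (algebraMap A B)) [Algebra.IsIntegral A B] (n : Ideal B) [n.IsPrime]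
    (hn : n.comap (algebraMap A B) = IsLocalRing.maximalIdeal A) (p : Ideal A) [p.IsPrime] :
    ∃ q : Ideal B, q.IsPrime ∧ q ≤ n ∧ q.comap (algebraMap A B) = p := by
  obtain ⟨hdom, hloc⟩ := hA
  haveI := hdom
  haveI := hloc
  haveI : IsIntegrallyClosed (CAlg2.normRed A) :=
    integralClosure.isIntegrallyClosedOfFiniteExtension (FractionRing (CAlg2.red A))
  -- the field `L = Frac B` and the map `A_red → L`
  have hAL : Function.Injective (algebraMap A (FractionRing B)) := by
    rw [IsScalarTower.algebraMap_eq A B (FractionRing B)]
    exact (IsFractionRing.injective B (FractionRing B)).comp hinj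
  have hnil : nilradical A = ⊥ := nilradical_eq_zero A
  let f0 : CAlg2.red A →+* FractionRing B :=
    Ideal.Quotient.lift (nilradical A) (algebraMap A (FractionRing B)) (by
      intro a ha
      rw [hnil, Ideal.mem_bot] at ha
      rw [ha, map_zero])
  have hf0 : Function.Injective f0 := by
    rw [injective_iff_map_eq_zero]
    intro x hx
    obtain ⟨a, rfl⟩ := Ideal.Quotient.mk_surjective x
    have : algebraMap A (FractionRing B) a = 0 := hx
    rw [(injective_iff_map_eq_zero _).1 hAL a this, map_zero]
  let f1 : FractionRing (CAlg2.red A) →+* FractionRing B := IsFractionRing.lift hf0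
  have hf1 : Function.Injective f1 := f1.injective
  letI algCL : Algebra (CAlg2.normRed A) (FractionRing B) :=
    (f1.comp (algebraMap (CAlg2.normRed A) (FractionRing (CAlg2.red A)))).toAlgebra
  have hCL : Function.Injective (algebraMap (CAlg2.normRed A) (FractionRing B)) :=
    hf1.comp Subtype.val_injective
  haveI : IsScalarTower A (CAlg2.normRed A) (FractionRing B) := by
    refine IsScalarTower.of_algebraMap_eq (fun a => ?_)
    change _ = f1 (algebraMap (CAlg2.normRed A) (FractionRing (CAlg2.red A))
      (algebraMap A (CAlg2.normRed A) a))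
    rw [← IsScalarTower.algebraMap_apply A (CAlg2.normRed A) (FractionRing (CAlg2.red A)),
      IsScalarTower.algebraMap_apply A (CAlg2.red A) (FractionRing (CAlg2.red A))]
    simp [f1, f0]
  haveI : Algebra.IsIntegral A (CAlg2.normRed A) := by
    haveI : Algebra.IsIntegral A (CAlg2.red A) :=
      ⟨fun x => by
        obtain ⟨a, rfl⟩ := Ideal.Quotient.mk_surjective x
        exact isIntegral_algebraMap (R := A) (A := CAlg2.red A) (x := a)⟩
    exact Algebra.IsIntegral.trans (CAlg2.red A)
  have hAC : Function.Injective (algebraMap A (CAlg2.normRed A)) := by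
    have h1 : Function.Injective (algebraMap A (FractionRing B)) := hAL
    rw [IsScalarTower.algebraMap_eq A (CAlg2.normRed A) (FractionRing B), RingHom.coe_comp] at h1
    exact Function.Injective.of_comp h1
  -- the big ring `D`
  let D := integralClosure A (FractionRing B)
  letI algBD : Algebra B D := (IsIntegralClosure.lift A D (FractionRing B) : B →ₐ[A] D).toAlgebra
  letI algCD : Algebra (CAlg2.normRed A) D :=
    (IsIntegralClosure.lift A D (FractionRing B) : CAlg2.normRed A →ₐ[A] D).toAlgebra
  haveI : IsScalarTower A B D := IsScalarTower.of_algebraMap_eq (fun a =>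
    ((IsIntegralClosure.lift A D (FractionRing B) : B →ₐ[A] D).commutes a).symm)
  haveI : IsScalarTower A (CAlg2.normRed A) D := IsScalarTower.of_algebraMap_eq (fun a =>
    ((IsIntegralClosure.lift A D (FractionRing B) : CAlg2.normRed A →ₐ[A] D).commutes a).symm)
  have hBD : Function.Injective (algebraMap B D) := by
    intro x y hxy
    have := congrArg (algebraMap D (FractionRing B)) hxy
    change algebraMap D (FractionRing B) (IsIntegralClosure.lift A D (FractionRing B) x) =
      algebraMap D (FractionRing B) (IsIntegralClosure.lift A D (FractionRing B) y) at this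
    rw [IsIntegralClosure.algebraMap_lift, IsIntegralClosure.algebraMap_lift] at this
    exact IsFractionRing.injective B (FractionRing B) this
  have hCD : Function.Injective (algebraMap (CAlg2.normRed A) D) := by
    intro x y hxy
    have := congrArg (algebraMap D (FractionRing B)) hxy
    change algebraMap D (FractionRing B) (IsIntegralClosure.lift A D (FractionRing B) x) =
      algebraMap D (FractionRing B) (IsIntegralClosure.lift A D (FractionRing B) y) at this
    rw [IsIntegralClosure.algebraMap_lift, IsIntegralClosure.algebraMap_lift] at this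
    exact hCL this
  exact going_down_aux (C := CAlg2.normRed A) (D := D) hAC hCD hBD n hn p

end Groth.Agent.S4935
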