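import Groth.Statements.S2235
import Groth.Agent.Lib.Helper13WiebeF
-- import your own Groth.Agent.* helpers here

set_option autoImplicit false
universe u
open TensorProduct
open Disc

namespace Groth.Agent.S2235

/-- Let A -> P be a ring map, f_1, ..., f_n a Koszul-regular sequence in P with B = P/(f_1, ..., f_n)
flat over A, and g_1, ..., g_n a Koszul-regular sequence in P tensor_A B generating the kernel of
the multiplication map P tensor_A B -> B. Write f_i tensor 1 = sum_j c_ij g_j. Then the annihilator
of the kernel of B tensor_A B -> B is the principal ideal generated by the image of det(c_ij). -/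
theorem result {A P : Type u} [CommRing A] [CommRing P] [Algebra A P]
    {n : ℕ} (f : Fin n → P) (hf : LCI.IsKoszulRegularSeq P (List.ofFn f))
    [Module.Flat A (P ⧸ Ideal.span (Set.range f))]
    (g : Fin n → P ⊗[A] (P ⧸ Ideal.span (Set.range f)))
    (hg : LCI.IsKoszulRegularSeq (P ⊗[A] (P ⧸ Ideal.span (Set.range f))) (List.ofFn g))
    (hgker : Ideal.span (Set.range g) = RingHom.ker (Algebra.TensorProduct.productMap
      (Ideal.Quotient.mkₐ A (Ideal.span (Set.range f))) (AlgHom.id A (P ⧸ Ideal.span (Set.range f)))))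
    (c : Matrix (Fin n) (Fin n) (P ⊗[A] (P ⧸ Ideal.span (Set.range f))))
    (hc : ∀ i, f i ⊗ₜ[A] (1 : P ⧸ Ideal.span (Set.range f)) = ∑ j, c i j * g j) :
    Submodule.annihilator (RingHom.ker
        (Algebra.TensorProduct.lmul' (S := P ⧸ Ideal.span (Set.range f)) A)) =
      Ideal.span {Algebra.TensorProduct.map (Ideal.Quotient.mkₐ A (Ideal.span (Set.range f)))
        (AlgHom.id A (P ⧸ Ideal.span (Set.range f))) (Matrix.det c)} := by
  classical
  let ψ : P ⊗[A] (P ⧸ Ideal.span (Set.range f)) →ₐ[A]
      (P ⧸ Ideal.span (Set.range f)) ⊗[A] (P ⧸ Ideal.span (Set.range f)) :=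
    Algebra.TensorProduct.map (Ideal.Quotient.mkₐ A (Ideal.span (Set.range f)))
      (AlgHom.id A (P ⧸ Ideal.span (Set.range f)))
  have hψsurj : Function.Surjective ψ :=
    Algebra.TensorProduct.map_surjective _ _ (Ideal.Quotient.mkₐ_surjective A _)
      Function.surjective_id
  have hkerψ : RingHom.ker ψ =
      Ideal.span (Set.range fun i => f i ⊗ₜ[A] (1 : P ⧸ Ideal.span (Set.range f))) := by
    have h1 := Algebra.TensorProduct.rTensor_ker (R := A) (C := P ⧸ Ideal.span (Set.range f))
      (Ideal.Quotient.mkₐ A (Ideal.span (Set.range f))) (Ideal.Quotient.mkₐ_surjective A _)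
    have hk : RingHom.ker (Ideal.Quotient.mkₐ A (Ideal.span (Set.range f))) =
        Ideal.span (Set.range f) := by
      ext p
      rw [RingHom.mem_ker, Ideal.Quotient.mkₐ_eq_mk, Ideal.Quotient.eq_zero_iff_mem]
    rw [hk] at h1
    show RingHom.ker (Algebra.TensorProduct.map (Ideal.Quotient.mkₐ A (Ideal.span (Set.range f)))
      (AlgHom.id A (P ⧸ Ideal.span (Set.range f)))) = _
    rw [h1, Ideal.map_span, ← Set.range_comp]
    rfl
  -- the base-changed sequence is Koszul-regular
  have hflat : (algebraMap P (P ⊗[A] (P ⧸ Ideal.span (Set.range f)))).Flat := by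
    rw [RingHom.flat_algebraMap_iff]
    infer_instance
  have hf' : LCI.IsKoszulRegularSeq (P ⊗[A] (P ⧸ Ideal.span (Set.range f)))
      (List.ofFn fun i => f i ⊗ₜ[A] (1 : P ⧸ Ideal.span (Set.range f))) := by
    have := Groth.Agent.Lib.Helper5.KindFlat.isKoszulRegularSeq_map_of_flat _ hflat (List.ofFn f) hf
    rw [List.map_ofFn] at this
    exact this
  have hcomp : ∀ m, Algebra.TensorProduct.lmul' (S := P ⧸ Ideal.span (Set.range f)) A (ψ m) =
      Algebra.TensorProduct.productMap (Ideal.Quotient.mkₐ A (Ideal.span (Set.range f)))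
        (AlgHom.id A (P ⧸ Ideal.span (Set.range f))) m := by
    intro m
    have : (Algebra.TensorProduct.lmul' (S := P ⧸ Ideal.span (Set.range f)) A).comp ψ =
        Algebra.TensorProduct.productMap (Ideal.Quotient.mkₐ A (Ideal.span (Set.range f)))
          (AlgHom.id A (P ⧸ Ideal.span (Set.range f))) := by
      ext <;> simp [ψ]
    exact congr($this m)
  apply le_antisymm
  · intro y hy
    obtain ⟨x, rfl⟩ := hψsurj y
    have hx : ∀ j, x * g j ∈
        Ideal.span (Set.range fun i => f i ⊗ₜ[A] (1 : P ⧸ Ideal.span (Set.range f))) := by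
      intro j
      rw [← hkerψ, RingHom.mem_ker, map_mul]
      have hgj : ψ (g j) ∈ RingHom.ker
          (Algebra.TensorProduct.lmul' (S := P ⧸ Ideal.span (Set.range f)) A) := by
        rw [RingHom.mem_ker, hcomp, ← RingHom.mem_ker, ← hgker]
        exact Ideal.subset_span ⟨j, rfl⟩
      exact (Submodule.mem_annihilator.1 hy) _ hgj
    have key := Groth.Agent.Helper13Wiebe.wiebe
      (fun i => f i ⊗ₜ[A] (1 : P ⧸ Ideal.span (Set.range f))) g c hf' hg hc x hx
    obtain ⟨d, hd, i, hi, rfl⟩ := Submodule.mem_sup.1 key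
    obtain ⟨r, rfl⟩ := Ideal.mem_span_singleton'.1 hd
    rw [← hkerψ, RingHom.mem_ker] at hi
    rw [map_add, hi, add_zero, map_mul]
    exact Ideal.mul_mem_left _ _ (Ideal.subset_span rfl)
  · rw [Ideal.span_le, Set.singleton_subset_iff, SetLike.mem_coe, Submodule.mem_annihilator]
    intro m hm
    obtain ⟨m', rfl⟩ := hψsurj m
    have hm' : m' ∈ Ideal.span (Set.range g) := by
      rw [hgker, RingHom.mem_ker, ← hcomp]
      exact hm
    have hcr : ∀ j, Matrix.det c * g j ∈
        Ideal.span (Set.range fun i => f i ⊗ₜ[A] (1 : P ⧸ Ideal.span (Set.range f))) := by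
      intro j
      have h1 : (Matrix.adjugate c * c).mulVec g = (Matrix.det c • (1 : Matrix (Fin n) (Fin n) _)).mulVec g := by
        rw [Matrix.adjugate_mul]
      rw [← Matrix.mulVec_mulVec, Matrix.smul_mulVec, Matrix.one_mulVec] at h1
      have h2 : c.mulVec g = fun i => f i ⊗ₜ[A] (1 : P ⧸ Ideal.span (Set.range f)) := by
        funext i
        rw [hc i]
        rfl
      rw [h2] at h1
      have h3 := congrFun h1 j
      rw [Pi.smul_apply, smul_eq_mul] at h3
      rw [← h3]
      simp only [Matrix.mulVec, dotProduct]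
      refine Ideal.sum_mem _ fun i _ => ?_
      exact Ideal.mul_mem_left _ _ (Ideal.subset_span ⟨i, rfl⟩)
    have hall : Matrix.det c * m' ∈
        Ideal.span (Set.range fun i => f i ⊗ₜ[A] (1 : P ⧸ Ideal.span (Set.range f))) := by
      clear hm
      induction hm' using Submodule.span_induction with
      | mem x hx =>
        obtain ⟨j, rfl⟩ := hx
        exact hcr j
      | zero => rw [mul_zero]; exact Submodule.zero_mem _
      | add x y _ _ hx hy => rw [mul_add]; exact Submodule.add_mem _ hx hy
      | smul a x _ hx =>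
        rw [smul_eq_mul, mul_left_comm]
        exact Ideal.mul_mem_left _ _ hx
    rw [← hkerψ, RingHom.mem_ker, map_mul] at hall
    exact hall

end Groth.Agent.S2235
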