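import Groth.Statements.S2210
import Groth.Agent.S2235
import Groth.Agent.S9254
import Groth.Agent.Lib.Helper7Synt5
import Groth.Agent.Lib.Helper13DiagPoly
-- import your own Groth.Agent.* helpers here

set_option autoImplicit false
universe u
open Disc
open TensorProduct

namespace Groth.Agent.S2210

/-- a quasi-finite presentation by `n` equations in `n` variables is a relative global complete
intersection -/
theorem isRelGCI_of_quasiFinite {A : Type u} [CommRing A] {n : ℕ} (f : Fin n → MvPolynomial (Fin n) A)
    [Algebra.QuasiFinite A (MvPolynomial (Fin n) A ⧸ Ideal.span (Set.range f))] :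
    Synt.IsRelGCI A n n f := by
  intro p hp
  refine ⟨le_refl n, ?_⟩
  have h1 : IsArtinianRing (p.asIdeal.Fiber (MvPolynomial (Fin n) A ⧸ Ideal.span (Set.range f))) :=
    inferInstance
  have h2 := ((isArtinianRing_iff_isNoetherianRing_krullDimLE_zero
    (R := p.asIdeal.Fiber (MvPolynomial (Fin n) A ⧸ Ideal.span (Set.range f)))).1 h1).2
  have h3 := (ringKrullDimZero_iff_ringKrullDim_eq_zero
    (R := p.asIdeal.Fiber (MvPolynomial (Fin n) A ⧸ Ideal.span (Set.range f)))).1 h2
  rw [Nat.sub_self]
  exact h3

/-- Parts (1) (flatness) and (3), in the case h = 1: let A be a ring, n at least 1, f_1, ..., f_n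
polynomials in A[x_1, ..., x_n] and B = A[x_1, ..., x_n]/(f_1, ..., f_n). When B is quasi-finite
over A, it is A-flat, and its Noether different over A is the principal ideal generated by the image
of the Jacobian determinant det(d f_i / d x_j). -/
theorem result {A : Type u} [CommRing A] {n : ℕ}
    (hn : 1 ≤ n) (f : Fin n → MvPolynomial (Fin n) A)
    [Algebra.QuasiFinite A (MvPolynomial (Fin n) A ⧸ Ideal.span (Set.range f))] :
    Module.Flat A (MvPolynomial (Fin n) A ⧸ Ideal.span (Set.range f)) ∧
      Disc.noetherDifferent A (MvPolynomial (Fin n) A ⧸ Ideal.span (Set.range f)) =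
        Ideal.span {Ideal.Quotient.mk (Ideal.span (Set.range f))
          (Matrix.det (Matrix.of fun i j => MvPolynomial.pderiv j (f i)))} := by
  classical
  have hGCI := isRelGCI_of_quasiFinite f
  have hflat : Module.Flat A (MvPolynomial (Fin n) A ⧸ Ideal.span (Set.range f)) :=
    Groth.Agent.Lib.Helper7.Synt.flat_relGCIRing f hGCI
  refine ⟨hflat, ?_⟩
  have hf : LCI.IsKoszulRegularSeq (MvPolynomial (Fin n) A) (List.ofFn f) :=
    Groth.Agent.S9254.result A n n f hGCI
  let xbar : Fin n → MvPolynomial (Fin n) A ⧸ Ideal.span (Set.range f) :=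
    fun j => Ideal.Quotient.mk _ (MvPolynomial.X j)
  have hae : (MvPolynomial.aeval xbar : MvPolynomial (Fin n) A →ₐ[A] _) =
      Ideal.Quotient.mkₐ A (Ideal.span (Set.range f)) :=
    (MvPolynomial.aeval_unique (Ideal.Quotient.mkₐ A (Ideal.span (Set.range f)))).symm
  have hg := Groth.Agent.Helper13DiagPoly.isKoszulRegularSeq_gg (A := A) xbar
  have hgker := Groth.Agent.Helper13DiagPoly.span_gg (A := A) xbar
  rw [hae] at hgker
  have hmem : ∀ i, f i ⊗ₜ[A] (1 : MvPolynomial (Fin n) A ⧸ Ideal.span (Set.range f)) ∈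
      Ideal.span (Set.range (Groth.Agent.Helper13DiagPoly.gg (A := A) xbar)) := by
    intro i
    rw [hgker, RingHom.mem_ker, Algebra.TensorProduct.productMap_apply_tmul, map_one, mul_one]
    exact Ideal.Quotient.eq_zero_iff_mem.2 (Ideal.subset_span ⟨i, rfl⟩)
  choose c hc using fun i => (Ideal.mem_span_range_iff_exists_fun.1 (hmem i))
  have key := Groth.Agent.S2235.result f hf (Groth.Agent.Helper13DiagPoly.gg (A := A) xbar) hg hgker
    (Matrix.of c) (fun i => (hc i).symm)
  unfold Disc.noetherDifferent
  rw [key, Ideal.map_span, Set.image_singleton]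
  congr 2
  have hcomp : ∀ m, Algebra.TensorProduct.lmul'
      (S := MvPolynomial (Fin n) A ⧸ Ideal.span (Set.range f)) A
      (Algebra.TensorProduct.map (Ideal.Quotient.mkₐ A (Ideal.span (Set.range f)))
        (AlgHom.id A (MvPolynomial (Fin n) A ⧸ Ideal.span (Set.range f))) m) =
      Algebra.TensorProduct.productMap (Ideal.Quotient.mkₐ A (Ideal.span (Set.range f)))
        (AlgHom.id A (MvPolynomial (Fin n) A ⧸ Ideal.span (Set.range f))) m := by
    intro m
    have : (Algebra.TensorProduct.lmul'
        (S := MvPolynomial (Fin n) A ⧸ Ideal.span (Set.range f)) A).comp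
        (Algebra.TensorProduct.map (Ideal.Quotient.mkₐ A (Ideal.span (Set.range f)))
          (AlgHom.id A (MvPolynomial (Fin n) A ⧸ Ideal.span (Set.range f)))) =
        Algebra.TensorProduct.productMap (Ideal.Quotient.mkₐ A (Ideal.span (Set.range f)))
          (AlgHom.id A (MvPolynomial (Fin n) A ⧸ Ideal.span (Set.range f))) := by
      ext <;> simp
    exact congr($this m)
  show Algebra.TensorProduct.lmul' (S := MvPolynomial (Fin n) A ⧸ Ideal.span (Set.range f)) A _ = _
  rw [hcomp]
  have e1 := AlgHom.map_det (Algebra.TensorProduct.productMap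
    (Ideal.Quotient.mkₐ A (Ideal.span (Set.range f)))
    (AlgHom.id A (MvPolynomial (Fin n) A ⧸ Ideal.span (Set.range f)))) (Matrix.of c)
  have e2 := RingHom.map_det (Ideal.Quotient.mk (Ideal.span (Set.range f)))
    (Matrix.of fun i j => (MvPolynomial.pderiv j) (f i))
  rw [e1, e2]
  congr 1
  ext i j
  have h1 := Groth.Agent.Helper13DiagPoly.productMap_coeff (A := A) xbar (f i) (c i) (hc i).symm j
  rw [hae] at h1
  simp only [AlgHom.mapMatrix_apply, RingHom.mapMatrix_apply, Matrix.map_apply, Matrix.of_apply]
  exact h1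

end Groth.Agent.S2210
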