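import Groth.Statements.S2228
import Mathlib

set_option autoImplicit false
universe u
open TensorProduct
open Disc

namespace Groth.Agent.S2228

/-- Special case: B finite free over the Noetherian ring A (the source allows flat quasi-finite maps).
Let J be the annihilator of the kernel of the multiplication map B tensor_A B -> B and omega =
Hom_A(B, A) with its B-module structure through the argument. Pairing xi = sum of b_i tensor c_i in
J with lambda in omega to the sum of lambda(b_i) c_i identifies J with the B-linear maps omega -> B: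
every B-linear Phi : omega -> B arises from exactly one xi in J in this way. -/
theorem result {A B : Type u} [CommRing A] [CommRing B] [Algebra A B]
    [IsNoetherianRing A] [Module.Finite A B] [Module.Free A B] (Φ : Disc.Omega A B →ₗ[B] B) :
    ∃! ξ : B ⊗[A] B,
      ξ ∈ Submodule.annihilator (RingHom.ker (Algebra.TensorProduct.lmul' (S := B) A)) ∧
        ∀ l : Disc.Omega A B,
          Φ l = TensorProduct.lift ((LinearMap.lsmul A B).comp l.toLinearMap) ξ := by
  classical
  let ι := Module.Free.ChooseBasisIndex A B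
  let b : Module.Basis ι A B := Module.Free.chooseBasis A B
  let lam : ι → Disc.Omega A B := fun i => ⟨b.coord i⟩
  let pair : Disc.Omega A B → (B ⊗[A] B →ₗ[A] B) := fun l =>
    TensorProduct.lift ((LinearMap.lsmul A B).comp l.toLinearMap)
  have pair_tmul : ∀ (l : Disc.Omega A B) (x y : B), pair l (x ⊗ₜ[A] y) = l.toLinearMap x • y :=
    fun l x y => by simp [pair]
  let toLM : Disc.Omega A B →+ (B →ₗ[A] A) :=
    { toFun := Disc.Omega.toLinearMap, map_zero' := rfl, map_add' := fun _ _ => rfl }
  have hlam : ∀ i j, (lam i).toLinearMap (b j) = if j = i then 1 else 0 := by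
    intro i j
    show b.coord i (b j) = _
    rw [Module.Basis.coord_apply, Module.Basis.repr_self, Finsupp.single_apply]
  -- (F1) expansion of a functional in the dual basis
  have F1 : ∀ l : Disc.Omega A B,
      l = ∑ i, (algebraMap A B (l.toLinearMap (b i))) • lam i := by
    intro l
    apply Disc.Omega.toLinearMap_injective
    apply b.ext
    intro j
    have h1 : (∑ i, (algebraMap A B (l.toLinearMap (b i))) • lam i).toLinearMap =
        ∑ i, ((algebraMap A B (l.toLinearMap (b i))) • lam i).toLinearMap := map_sum toLM _ _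
    rw [h1, LinearMap.sum_apply, Finset.sum_eq_single j]
    · rw [Disc.Omega.smul_toLinearMap_apply, ← Algebra.smul_def, map_smul, hlam, if_pos rfl,
        smul_eq_mul, mul_one]
    · intro i _ hij
      rw [Disc.Omega.smul_toLinearMap_apply, ← Algebra.smul_def, map_smul, hlam,
        if_neg (Ne.symm hij), smul_zero]
    · intro h; exact absurd (Finset.mem_univ j) h
  have F1' : ∀ l : Disc.Omega A B, Φ l = ∑ i, l.toLinearMap (b i) • Φ (lam i) := by
    intro l
    conv_lhs => rw [F1 l]
    rw [map_sum]
    refine Finset.sum_congr rfl fun i _ => ?_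
    rw [map_smul, smul_eq_mul, Algebra.smul_def]
  -- (F3) the pairings with the dual basis detect zero
  let e := TensorProduct.equivFinsuppOfBasisLeft (N := B) b
  have hcoord : ∀ (ζ : B ⊗[A] B) (j : ι), e ζ j = pair (lam j) ζ := by
    intro ζ j
    induction ζ using TensorProduct.induction_on with
    | zero => simp
    | tmul m n =>
      rw [TensorProduct.equivFinsuppOfBasisLeft_apply_tmul_apply, pair_tmul]
      rfl
    | add x y hx hy => rw [map_add, Finsupp.add_apply, map_add, hx, hy]
  have F3 : ∀ ζ : B ⊗[A] B, (∀ j, pair (lam j) ζ = 0) → ζ = 0 := by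
    intro ζ h
    apply e.injective
    rw [map_zero]
    ext j
    rw [Finsupp.zero_apply, hcoord, h j]
  -- the candidate
  let ξ : B ⊗[A] B := ∑ i, b i ⊗ₜ[A] Φ (lam i)
  have pair_ξ_mul : ∀ (l : Disc.Omega A B) (x y : B),
      pair l (ξ * (x ⊗ₜ[A] y)) = ∑ i, l.toLinearMap (b i * x) • (Φ (lam i) * y) := by
    intro l x y
    simp only [ξ, Finset.sum_mul, Algebra.TensorProduct.tmul_mul_tmul, map_sum, pair_tmul]
  have hξpair : ∀ l : Disc.Omega A B, Φ l = pair l ξ := by
    intro l
    have := pair_ξ_mul l 1 1
    rw [show (1 : B) ⊗ₜ[A] (1 : B) = 1 from rfl, mul_one] at this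
    rw [this, F1' l]
    simp only [mul_one]
  have hξJ : ξ ∈ Submodule.annihilator
      (RingHom.ker (Algebra.TensorProduct.lmul' (S := B) A)) := by
    have hker : RingHom.ker (Algebra.TensorProduct.lmul' (S := B) A) =
        Ideal.span (Set.range fun s : B => (1 : B) ⊗ₜ[A] s - s ⊗ₜ[A] (1 : B)) :=
      (KaehlerDifferential.span_range_eq_ideal (R := A) (S := B)).symm
    rw [hker, Ideal.span, Submodule.mem_annihilator_span]
    rintro ⟨_, x, rfl⟩
    show ξ • ((1 : B) ⊗ₜ[A] x - x ⊗ₜ[A] (1 : B)) = 0
    rw [smul_eq_mul, mul_sub]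
    apply F3
    intro j
    rw [map_sub, pair_ξ_mul, pair_ξ_mul, sub_eq_zero]
    have h1 : ∑ i, (lam j).toLinearMap (b i * 1) • (Φ (lam i) * x) = Φ (lam j) * x := by
      rw [F1' (lam j), Finset.sum_mul]
      refine Finset.sum_congr rfl fun i _ => ?_
      rw [mul_one, smul_mul_assoc]
    have h2 : ∑ i, (lam j).toLinearMap (b i * x) • (Φ (lam i) * 1) = x * Φ (lam j) := by
      have := F1' (x • lam j)
      rw [map_smul, smul_eq_mul] at this
      rw [this]
      refine Finset.sum_congr rfl fun i _ => ?_
      rw [mul_one, Disc.Omega.smul_toLinearMap_apply, mul_comm x (b i)]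
    rw [h1, h2, mul_comm]
  refine ⟨ξ, ⟨hξJ, hξpair⟩, ?_⟩
  rintro ξ' ⟨-, hξ'⟩
  rw [← sub_eq_zero]
  apply F3
  intro j
  rw [map_sub, ← hξ' (lam j), ← hξpair (lam j), sub_self]

end Groth.Agent.S2228
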