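import Groth.Statements.S7127
import Mathlib
import Groth.Agent.Lib.Helper10WEtale
-- import your own Groth.Agent.* helpers here

set_option autoImplicit false
universe u
open EtAlg

namespace Groth.Agent.S7127

/-- Let A be a ring and B → C an A-algebra homomorphism between weakly étale A-algebras. Then C is
weakly étale over B. -/
theorem result (A B C : Type u) [CommRing A] [CommRing B] [CommRing C]
    [Algebra A B] [Algebra A C] [Algebra B C] [IsScalarTower A B C] [Algebra.WeaklyEtale A B]
    [Algebra.WeaklyEtale A C] : Algebra.WeaklyEtale B C := by
  refine ⟨?_, ?_⟩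
  · exact Groth.Agent.Lib.Helper10.WEtale.flat_of_flat_lmul' A B
      (Algebra.WeaklyEtale.flat_lmul' A B) C
  · let φ : TensorProduct A C C →ₐ[A] TensorProduct B C C :=
      Algebra.TensorProduct.mapOfCompatibleSMul B A A C C
    have hsurj : Function.Surjective φ.toRingHom :=
      Algebra.TensorProduct.mapOfCompatibleSMul_surjective B A A C C
    refine Groth.Agent.Lib.Helper10.WEtale.flat_of_comp_surjective φ.toRingHom
      (Algebra.TensorProduct.lmul' B (S := C)).toRingHom hsurj ?_
    have heq : (Algebra.TensorProduct.lmul' B (S := C)).toRingHom.comp φ.toRingHom =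
        (Algebra.TensorProduct.lmul' A (S := C)).toRingHom := by
      refine RingHom.ext fun x => ?_
      show Algebra.TensorProduct.lmul' B (S := C) (φ x) =
        Algebra.TensorProduct.lmul' A (S := C) x
      induction x with
      | zero => simp
      | add x y hx hy => simp only [map_add, hx, hy]
      | tmul c c' => simp [φ]
    rw [heq]
    exact Algebra.WeaklyEtale.flat_lmul' A C

end Groth.Agent.S7127
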