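import Groth.Statements.S0675
import Groth.Agent.Lib.Helper3HzC
import Groth.Agent.Lib.Helper3HenselA
import Mathlib

set_option autoImplicit false
open CategoryTheory CategoryTheory.Limits AlgebraicGeometry Opposite Topology
universe u
open ProEtW

namespace Groth.Agent.S0675

open IsLocalRing Polynomial Groth.Agent.Lib.Helper3

section prod

variable (R B C : Type u) [CommRing R] [CommRing B] [CommRing C] [Algebra R B] [Algebra R C]

/-- the two-term family -/
def Fam : Fin 2 → Type u := ![B, C]

instance famCommRing : ∀ i, CommRing (Fam B C i) := fun i => by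
  refine Fin.cases ?_ (fun j => ?_) i
  · exact inferInstanceAs (CommRing B)
  · refine Fin.cases ?_ (fun k => k.elim0) j
    exact inferInstanceAs (CommRing C)

instance famAlgebra : ∀ i, Algebra R (Fam B C i) := fun i => by
  refine Fin.cases ?_ (fun j => ?_) i
  · exact inferInstanceAs (Algebra R B)
  · refine Fin.cases ?_ (fun k => k.elim0) j
    exact inferInstanceAs (Algebra R C)

theorem etale_prod [Algebra.Etale R B] [Algebra.Etale R C] : Algebra.Etale R (B × C) := by
  haveI : ∀ i, Algebra.Etale R (Fam B C i) := fun i => by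
    refine Fin.cases ?_ (fun j => ?_) i
    · exact inferInstanceAs (Algebra.Etale R B)
    · refine Fin.cases ?_ (fun k => k.elim0) j
      exact inferInstanceAs (Algebra.Etale R C)
  let e : (∀ i, Fam B C i) ≃ₐ[R] B × C :=
    AlgEquiv.ofRingEquiv (f := RingEquiv.piFinTwo (Fam B C)) (fun r => rfl)
  exact Algebra.Etale.of_equiv e

end prod

section retract

variable (A : Type u) [CommRing A] (h : ProEtW.HasEtaleRetractions A) (m : Ideal A) [m.IsMaximal]

include h in
/-- **Key lemma**: an étale algebra with a prime over `m` maps to `A_m`. -/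
theorem exists_algHom_atPrime (B : Type u) [CommRing B] [Algebra A B] [Algebra.Etale A B]
    (q : Ideal B) [q.IsPrime] (hq : q.comap (algebraMap A B) = m) :
    Nonempty (B →ₐ[A] Localization.AtPrime m) := by
  classical
  haveI : Module.Flat A B := inferInstance
  have hopen : IsOpenMap (PrimeSpectrum.comap (algebraMap A B)) :=
    PrimeSpectrum.isOpenMap_comap_of_hasGoingDown_of_finitePresentation
  set U : Set (PrimeSpectrum A) := Set.range (PrimeSpectrum.comap (algebraMap A B)) with hU
  have hUo : IsOpen U := hopen.isOpen_range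
  have hmU : (⟨m, inferInstance⟩ : PrimeSpectrum A) ∈ U :=
    ⟨⟨q, inferInstance⟩, PrimeSpectrum.ext hq⟩
  set J : Ideal A := PrimeSpectrum.vanishingIdeal Uᶜ with hJ
  have hzero : PrimeSpectrum.zeroLocus (J : Set A) = Uᶜ := by
    rw [hJ, PrimeSpectrum.zeroLocus_vanishingIdeal_eq_closure]
    exact hUo.isClosed_compl.closure_eq
  have hJm : ¬ J ≤ m := by
    intro hle
    have : (⟨m, inferInstance⟩ : PrimeSpectrum A) ∈ PrimeSpectrum.zeroLocus (J : Set A) := hle
    rw [hzero] at this
    exact this hmU
  obtain ⟨j, hjJ, hjm⟩ := Set.not_subset.mp hJm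
  obtain ⟨a, g, hgm, hag⟩ := Ideal.IsMaximal.exists_inv (I := m) inferInstance hjm
  -- the cover
  haveI : Algebra.Etale A (B × Localization.Away g) := etale_prod A B (Localization.Away g)
  have hsurj : Function.Surjective
      (PrimeSpectrum.comap (algebraMap A (B × Localization.Away g))) := by
    intro p
    by_cases hp : p ∈ U
    · obtain ⟨P, rfl⟩ := hp
      refine ⟨PrimeSpectrum.comap (RingHom.fst B (Localization.Away g)) P, ?_⟩
      rw [← PrimeSpectrum.comap_comp_apply]
      rfl
    · have hp' : p ∈ PrimeSpectrum.zeroLocus (J : Set A) := by rw [hzero]; exact hp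
      have hjp : j ∈ p.asIdeal := hp' hjJ
      have hgp : g ∉ p.asIdeal := by
        intro hg
        have : (1 : A) ∈ p.asIdeal := by
          rw [← hag]
          exact Ideal.add_mem _ (Ideal.mul_mem_left _ a hjp) hg
        exact p.2.ne_top ((Ideal.eq_top_iff_one _).mpr this)
      have hdisj : Disjoint (Submonoid.powers g : Set A) (p.asIdeal : Set A) :=
        (Ideal.disjoint_powers_iff_notMem_of_isPrime g).mpr hgp
      haveI : (p.asIdeal.map (algebraMap A (Localization.Away g))).IsPrime :=
        IsLocalization.isPrime_of_isPrime_disjoint (Submonoid.powers g) _ _ p.2 hdisj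
      refine ⟨PrimeSpectrum.comap (RingHom.snd B (Localization.Away g))
        ⟨p.asIdeal.map (algebraMap A (Localization.Away g)), inferInstance⟩, ?_⟩
      rw [← PrimeSpectrum.comap_comp_apply]
      apply PrimeSpectrum.ext
      exact IsLocalization.under_map_of_isPrime_disjoint (Submonoid.powers g) _ p.2 hdisj
  haveI : Module.Flat A (B × Localization.Away g) := inferInstance
  haveI : Module.FaithfullyFlat A (B × Localization.Away g) :=
    Module.FaithfullyFlat.of_comap_surjective hsurj
  obtain ⟨σ⟩ := h (B × Localization.Away g) inferInstance inferInstance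
  let ψ : (B × Localization.Away g) →ₐ[A] Localization.AtPrime m :=
    (IsScalarTower.toAlgHom A A (Localization.AtPrime m)).comp σ
  set e₁ : B × Localization.Away g := (1, 0) with he₁
  set e₂ : B × Localization.Away g := (0, 1) with he₂
  have hsum : ψ e₁ + ψ e₂ = 1 := by
    rw [← map_add, he₁, he₂, Prod.mk_add_mk, add_zero, zero_add, ← Prod.one_eq_mk, map_one]
  have hprod : ψ e₁ * ψ e₂ = 0 := by
    rw [← map_mul, he₁, he₂, Prod.mk_mul_mk, mul_zero, zero_mul, ← Prod.zero_eq_mk, map_zero]
  have hnu : ¬ IsUnit (ψ e₂) := by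
    intro hu
    -- `g` becomes a unit in `A_m`
    have h1 : ψ (0, algebraMap A (Localization.Away g) g) =
        algebraMap A (Localization.AtPrime m) g * ψ e₂ := by
      have : ((0 : B), algebraMap A (Localization.Away g) g) = g • e₂ := by
        rw [he₂, Prod.smul_mk, smul_zero, Algebra.smul_def, mul_one]
      rw [this, map_smul, Algebra.smul_def]
    have h2 : ((0 : B), algebraMap A (Localization.Away g) g) *
        ((0 : B), IsLocalization.Away.invSelf (S := Localization.Away g) g) = e₂ := by
      rw [he₂, Prod.mk_mul_mk, mul_zero, IsLocalization.Away.mul_invSelf]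
    have h3 := congrArg ψ h2
    rw [map_mul, h1] at h3
    have h4 : IsUnit (algebraMap A (Localization.AtPrime m) g) := by
      have : IsUnit (algebraMap A (Localization.AtPrime m) g * ψ e₂ *
          ψ (0, IsLocalization.Away.invSelf (S := Localization.Away g) g)) := by
        rw [h3]; exact hu
      exact isUnit_of_mul_isUnit_left (isUnit_of_mul_isUnit_left this)
    exact ((IsLocalization.AtPrime.isUnit_to_map_iff (Localization.AtPrime m) m g).mp h4) hgm
  have hu1 : IsUnit (ψ e₁) := (IsLocalRing.isUnit_or_isUnit_of_add_one hsum).resolve_right hnu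
  have h20 : ψ e₂ = 0 := by
    have := hu1.mul_right_eq_zero.mp hprod
    exact this
  have h11 : ψ e₁ = 1 := by rw [← hsum, h20, add_zero]
  refine ⟨{ toFun := fun b => ψ (b, 0)
            map_one' := h11
            map_mul' := fun b b' => by
              rw [← map_mul, Prod.mk_mul_mk, mul_zero]
            map_zero' := by rw [← Prod.zero_eq_mk, map_zero]
            map_add' := fun b b' => by
              rw [← map_add, Prod.mk_add_mk, add_zero]
            commutes' := fun r => by
              have : (algebraMap A B r, (0 : Localization.Away g)) = r • e₁ := by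
                rw [he₁, Prod.smul_mk, smul_zero, Algebra.smul_def, mul_one]
              show ψ (algebraMap A B r, 0) = _
              rw [this, map_smul, h11, Algebra.smul_def, mul_one] }⟩

include h in
/-- roots of monic polynomials over `A` lift from `κ(m)` to `A_m` -/
theorem exists_root (F : A[X]) (hF : F.Monic) (a' : m.ResidueField)
    (h0 : (F.map (algebraMap A m.ResidueField)).eval a' = 0)
    (h1 : (F.map (algebraMap A m.ResidueField)).derivative.eval a' ≠ 0) :
    ∃ b : Localization.AtPrime m,
      (F.map (algebraMap A (Localization.AtPrime m))).IsRoot b ∧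
        residue (Localization.AtPrime m) b = a' := by
  obtain ⟨Gb, hFG, hGa, -⟩ := Hensel.simple_root_factor (F.map (algebraMap A m.ResidueField)) a' h0 h1
  obtain ⟨G, rfl⟩ := Polynomial.map_surjective (algebraMap A m.ResidueField)
    (Ideal.algebraMap_residueField_surjective m) Gb
  let P : StandardEtalePair A := ⟨F, hF, derivative F * G, ⟨G, 0, 1, by ring⟩⟩
  have hmap : P.HasMap a' := by
    refine ⟨?_, ?_⟩
    · show aeval a' F = 0
      rw [aeval_def, eval₂_eq_eval_map]; exact h0
    · show IsUnit (aeval a' (derivative F * G))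
      rw [map_mul, aeval_def, aeval_def, eval₂_eq_eval_map, eval₂_eq_eval_map, ← derivative_map]
      exact (mul_ne_zero h1 hGa).isUnit
  let χ : P.Ring →ₐ[A] m.ResidueField := P.lift a' hmap
  haveI : (RingHom.ker χ).IsPrime := RingHom.ker_isPrime χ
  have hq : (RingHom.ker χ).comap (algebraMap A P.Ring) = m := by
    ext x
    rw [Ideal.mem_comap, RingHom.mem_ker, AlgHom.commutes, ← RingHom.mem_ker,
      Ideal.ker_algebraMap_residueField]
  obtain ⟨φ⟩ := exists_algHom_atPrime A h m P.Ring (RingHom.ker χ) hq
  have hb := P.hasMap_X.map φ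
  let ρ : Localization.AtPrime m →ₐ[A] m.ResidueField := IsScalarTower.toAlgHom A _ _
  have hx := hb.map ρ
  refine ⟨φ P.X, ?_, ?_⟩
  · rw [IsRoot.def, eval_map_algebraMap]; exact hb.1
  · have e1 : (F.map (algebraMap A m.ResidueField)).eval (ρ (φ P.X)) = 0 := by
      rw [← eval₂_eq_eval_map, ← aeval_def]; exact hx.1
    rw [hFG, eval_mul, eval_sub, eval_X, eval_C] at e1
    have e2 : (G.map (algebraMap A m.ResidueField)).eval (ρ (φ P.X)) ≠ 0 := by
      have h3 : IsUnit (aeval (ρ (φ P.X)) (derivative F * G)) := hx.2
      rw [map_mul] at h3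
      have h4 := (isUnit_of_mul_isUnit_right h3).ne_zero
      rwa [aeval_def, eval₂_eq_eval_map] at h4
    exact sub_eq_zero.mp ((mul_eq_zero.mp e1).resolve_right e2)

include h in
theorem henselian : HenselianLocalRing (Localization.AtPrime m) := by
  refine ((HenselianLocalRing.TFAE (Localization.AtPrime m)).out 0 1).mpr ?_
  intro f hf a₀ h0 h1
  obtain ⟨s, F, hF, hFs⟩ := Hz.exists_monic_map_eq_scaleRoots m.primeCompl
    (L := Localization.AtPrime m) f hf
  set ι := algebraMap A (Localization.AtPrime m) with hι
  have hsu : IsUnit (ι s) := IsLocalization.map_units _ s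
  set sb : m.ResidueField := residue _ (ι s) with hsb
  have hsb0 : sb ≠ 0 := (hsu.map (residue _)).ne_zero
  have hπ : algebraMap A m.ResidueField = (residue (Localization.AtPrime m)).comp ι := rfl
  have hlc : (residue (Localization.AtPrime m)) f.leadingCoeff ≠ 0 := by
    rw [hf.leadingCoeff, map_one]; exact one_ne_zero
  have hFbar : F.map (algebraMap A m.ResidueField) =
      (f.map (residue (Localization.AtPrime m))).scaleRoots sb := by
    rw [hπ, ← Polynomial.map_map, hFs, map_scaleRoots _ _ _ hlc]
  have hf0 : (f.map (residue (Localization.AtPrime m))).eval a₀ = 0 := by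
    rw [← eval₂_eq_eval_map]; exact h0
  have hf1 : (f.map (residue (Localization.AtPrime m))).derivative.eval a₀ ≠ 0 := by
    rw [derivative_map, ← eval₂_eq_eval_map]; exact h1
  obtain ⟨b, hb, hbres⟩ := exists_root A h m F hF (sb * a₀)
    (by rw [hFbar, scaleRoots_eval_mul, hf0, mul_zero])
    (by
      rw [hFbar]
      intro hcon
      have := Hz.derivative_scaleRoots_eval_mul (f.map (residue (Localization.AtPrime m))) sb a₀
      rw [hcon, zero_mul] at this
      exact (mul_ne_zero (pow_ne_zero _ hsb0) hf1) this.symm)
  obtain ⟨u, hu⟩ := hsu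
  refine ⟨↑u⁻¹ * b, ?_, ?_⟩
  · rw [IsRoot.def, hFs] at hb
    have hb' : b = ι s * (↑u⁻¹ * b) := by rw [← hu, ← mul_assoc, Units.mul_inv, one_mul]
    rw [hb', scaleRoots_eval_mul] at hb
    have hu' : IsUnit (ι s ^ f.natDegree) := (hu ▸ u.isUnit).pow _
    exact hu'.mul_right_eq_zero.mp hb
  · rw [map_mul, hbres, hsb, ← hu, ← mul_assoc, ← map_mul, Units.inv_mul, map_one, one_mul]

include h in
theorem sepClosed : IsSepClosed (ResidueField (Localization.AtPrime m)) := by
  apply IsSepClosed.of_exists_root
  intro p hpm hpi hps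
  obtain ⟨F, hFmap, -, hFmonic⟩ := lifts_and_natDegree_eq_and_monic
    (f := algebraMap A m.ResidueField)
    ((mem_lifts p).mpr (Polynomial.map_surjective _ (Ideal.algebraMap_residueField_surjective m) p)) hpm
  haveI : Fact (Irreducible p) := ⟨hpi⟩
  let K' := AdjoinRoot p
  let P : StandardEtalePair A := ⟨F, hFmonic, derivative F, ⟨1, 0, 1, by ring⟩⟩
  have hmap : P.HasMap (AdjoinRoot.root p : K') := by
    refine ⟨?_, ?_⟩
    · show aeval (AdjoinRoot.root p) F = 0
      rw [aeval_def, IsScalarTower.algebraMap_eq A m.ResidueField K', ← eval₂_map, hFmap]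
      exact AdjoinRoot.eval₂_root p
    · show IsUnit (aeval (AdjoinRoot.root p) (derivative F))
      rw [aeval_def, IsScalarTower.algebraMap_eq A m.ResidueField K', ← eval₂_map,
        ← derivative_map, hFmap]
      obtain ⟨a, b, hab⟩ := hps
      have := congrArg (eval₂ (algebraMap m.ResidueField K') (AdjoinRoot.root p)) hab
      rw [eval₂_add, eval₂_mul, eval₂_mul, eval₂_one] at this
      have h0 : eval₂ (algebraMap m.ResidueField K') (AdjoinRoot.root p) p = 0 :=
        AdjoinRoot.eval₂_root p
      rw [h0, mul_zero, zero_add] at this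
      exact IsUnit.of_mul_eq_one _ (by rw [mul_comm]; exact this)
  let χ : P.Ring →ₐ[A] K' := P.lift _ hmap
  haveI : (RingHom.ker χ).IsPrime := RingHom.ker_isPrime χ
  have hq : (RingHom.ker χ).comap (algebraMap A P.Ring) = m := by
    ext x
    rw [Ideal.mem_comap, RingHom.mem_ker, AlgHom.commutes,
      IsScalarTower.algebraMap_apply A m.ResidueField K',
      (algebraMap m.ResidueField K').injective.eq_iff' (map_zero _), ← RingHom.mem_ker,
      Ideal.ker_algebraMap_residueField]
  obtain ⟨φ⟩ := exists_algHom_atPrime A h m P.Ring (RingHom.ker χ) hq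
  have hb := P.hasMap_X.map φ
  let ρ : Localization.AtPrime m →ₐ[A] m.ResidueField := IsScalarTower.toAlgHom A _ _
  have hx := hb.map ρ
  refine ⟨ρ (φ P.X), ?_⟩
  have := hx.1
  rw [← hFmap, ← eval₂_eq_eval_map, ← aeval_def]
  exact this

end retract

/-- If every faithfully flat etale A-algebra has an A-algebra retraction, then for every maximal ideal m
of A the localization A_m is a strictly henselian local ring (henselian with separably closed
residue field). -/
theorem result (A : Type u) [CommRing A]
    (h : ProEtW.HasEtaleRetractions A) (m : Ideal A) [m.IsMaximal] :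
    EtCoh.IsStrictlyHenselianLocalRing (Localization.AtPrime m) := by
  exact ⟨henselian A h m, sepClosed A h m⟩

end Groth.Agent.S0675
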