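import Groth.Statements.S0693
import Groth.Agent.Lib.Helper3IndEtHull
import Groth.Agent.Lib.Helper3IndEtComp
import Groth.Agent.Lib.Helper3IndEtFlat
import Mathlib

set_option autoImplicit false
open CategoryTheory CategoryTheory.Limits AlgebraicGeometry Opposite Topology
universe u
open ProEtW

namespace Groth.Agent.S0693

open TensorProduct Groth.Agent.Lib.Helper3.IndEt

-- a nontrivial finite type algebra over an algebraically closed field has a rational point
theorem exists_point_of_isAlgClosed (K E : Type u) [Field K] [IsAlgClosed K] [CommRing E]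
    [Algebra K E] [Algebra.FiniteType K E] [Nontrivial E] : Nonempty (E →ₐ[K] K) := by
  obtain ⟨m, hm⟩ := Ideal.exists_maximal E
  letI : Field (E ⧸ m) := Ideal.Quotient.field m
  haveI : Algebra.FiniteType K (E ⧸ m) :=
    Algebra.FiniteType.of_surjective (Ideal.Quotient.mkₐ K m) (Ideal.Quotient.mkₐ_surjective K m)
  haveI : Module.Finite K (E ⧸ m) := finite_of_finite_type_of_isJacobsonRing K (E ⧸ m)
  have hbij := IsAlgClosed.algebraMap_bijective_of_isIntegral (k := K) (K := E ⧸ m)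
  let e : K ≃ₐ[K] (E ⧸ m) := AlgEquiv.ofBijective (Algebra.ofId K (E ⧸ m)) hbij
  exact ⟨(e.symm : (E ⧸ m) →ₐ[K] K).comp (Ideal.Quotient.mkₐ K m)⟩

theorem exists_algHom_of_nontrivial (B₁ E₁ K : Type u) [CommRing B₁] [CommRing E₁] [Algebra B₁ E₁]
    [Algebra.FiniteType B₁ E₁] [Field K] [IsAlgClosed K] [Algebra B₁ K]
    [Nontrivial (K ⊗[B₁] E₁)] : Nonempty (E₁ →ₐ[B₁] K) := by
  obtain ⟨ρ⟩ := exists_point_of_isAlgClosed K (K ⊗[B₁] E₁)
  exact ⟨(ρ.restrictScalars B₁).comp Algebra.TensorProduct.includeRight⟩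

abbrev Kp (A : Type u) [CommRing A] (p : PrimeSpectrum A) : Type u :=
  AlgebraicClosure p.asIdeal.ResidueField

abbrev Om (A : Type u) [CommRing A] : Type u := ∀ p : PrimeSpectrum A, Kp A p

/-- Every ring A admits a faithfully flat ind-etale extension C over which all faithfully flat etale
algebras have retractions. -/
theorem result (A : Type u) [CommRing A] :
    ∃ (C : Type u) (_ : CommRing C) (_ : Algebra A C),
      Module.FaithfullyFlat A C ∧ EtPBC.IsIndEtale A C ∧ ProEtW.HasEtaleRetractions C := by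
  classical
  obtain ⟨C, _, _, Ψ, hind, hbij⟩ := exists_hull A (Om A)
  have hFac := factor_of_isIndEtale hind
  refine ⟨C, inferInstance, inferInstance, ?_, hind, ?_⟩
  · haveI : Module.Flat A C := flat_of_factor' hFac
    apply Module.FaithfullyFlat.of_comap_surjective
    intro p
    let χ : C →ₐ[A] Kp A p := (Pi.evalAlgHom A (Kp A) p).comp Ψ
    haveI : (RingHom.ker χ.toRingHom).IsPrime := RingHom.ker_isPrime _
    refine ⟨⟨RingHom.ker χ.toRingHom, inferInstance⟩, ?_⟩
    ext a
    show algebraMap A C a ∈ RingHom.ker χ.toRingHom ↔ a ∈ p.asIdeal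
    rw [RingHom.mem_ker]
    show χ (algebraMap A C a) = 0 ↔ _
    rw [χ.commutes, IsScalarTower.algebraMap_apply A p.asIdeal.ResidueField (Kp A p),
      map_eq_zero_iff _ (algebraMap p.asIdeal.ResidueField (Kp A p)).injective,
      Ideal.algebraMap_residueField_eq_zero]
  · intro E _ _ hff hEt
    obtain ⟨B₁, _, _, _, _, _, E₁, _, _, _, ⟨e⟩⟩ := exists_descent_etale hFac E
    let β : B₁ →ₐ[A] C := IsScalarTower.toAlgHom A B₁ C
    letI algAE₁ : Algebra A E₁ := ((algebraMap B₁ E₁).comp (algebraMap A B₁)).toAlgebra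
    haveI : IsScalarTower A B₁ E₁ := IsScalarTower.of_algebraMap_eq' rfl
    haveI : Algebra.Etale A E₁ := Algebra.Etale.comp A B₁ E₁
    have hpt : ∀ p : PrimeSpectrum A, ∃ χ : E₁ →+* Kp A p,
        ∀ b, χ (algebraMap B₁ E₁ b) = Ψ (algebraMap B₁ C b) p := by
      intro p
      letI algCK : Algebra C (Kp A p) :=
        ((Pi.evalRingHom (Kp A) p).comp Ψ.toRingHom).toAlgebra
      letI algBK : Algebra B₁ (Kp A p) :=
        ((algebraMap C (Kp A p)).comp (algebraMap B₁ C)).toAlgebra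
      haveI : IsScalarTower B₁ C (Kp A p) := IsScalarTower.of_algebraMap_eq' rfl
      haveI : Nontrivial (Kp A p ⊗[C] E) := inferInstance
      haveI : Nontrivial (Kp A p ⊗[B₁] E₁) := by
        let e1 : Kp A p ⊗[C] (C ⊗[B₁] E₁) ≃ₐ[Kp A p] Kp A p ⊗[B₁] E₁ :=
          Algebra.TensorProduct.cancelBaseChange B₁ C (Kp A p) (Kp A p) E₁
        let e2 : Kp A p ⊗[C] (C ⊗[B₁] E₁) ≃ₗ[C] Kp A p ⊗[C] E :=
          TensorProduct.congr (LinearEquiv.refl C (Kp A p)) e.toLinearEquiv
        exact (e1.symm.toEquiv.trans e2.toEquiv).nontrivial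
      obtain ⟨χ⟩ := exists_algHom_of_nontrivial B₁ E₁ (Kp A p)
      exact ⟨χ.toRingHom, fun b => χ.commutes b⟩
    choose χp hχp using hpt
    let χ : E₁ →ₐ[A] Om A :=
      { Pi.ringHom χp with
        commutes' := fun a => by
          funext p
          show χp p (algebraMap B₁ E₁ (algebraMap A B₁ a)) = _
          rw [hχp, ← IsScalarTower.algebraMap_apply A B₁ C, Ψ.commutes] }
    have hχ : ∀ x p, χ x p = χp p x := fun x p => rfl
    obtain ⟨θ, hθ⟩ := (hbij E₁).2 χ
    have hθ' : ∀ x, Ψ (θ x) = χ x := fun x => congr($hθ x)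
    have hθβ : θ.comp (IsScalarTower.toAlgHom A B₁ E₁) = β := by
      apply (hbij B₁).1
      apply AlgHom.ext
      intro b
      show Ψ (θ (algebraMap B₁ E₁ b)) = Ψ (algebraMap B₁ C b)
      rw [hθ']
      funext p
      rw [hχ, hχp]
    let θ' : E₁ →ₐ[B₁] C :=
      { θ with commutes' := fun b => congr($hθβ b) }
    let r : C ⊗[B₁] E₁ →ₐ[C] C :=
      Algebra.TensorProduct.lift (AlgHom.id C C) θ' (fun _ _ => Commute.all _ _)
    exact ⟨r.comp (e.symm : E →ₐ[C] C ⊗[B₁] E₁)⟩

end Groth.Agent.S0693
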