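import Groth.Statements.S0694
import Groth.Agent.Lib.Helper3LCSpec
import Groth.Agent.Lib.Helper3LCIndZar
import Groth.Agent.Lib.Helper3WLoc
import Groth.Agent.Lib.Helper3IndZarFlat
import Groth.Agent.Lib.Helper3ConsSpace
import Mathlib

set_option autoImplicit false
open CategoryTheory CategoryTheory.Limits AlgebraicGeometry Opposite Topology
universe u
open ProEtW

namespace Groth.Agent.S0694

open Groth.Agent.Lib.Helper3.LCIndZar Groth.Agent.Lib.Helper3.WLoc
open Groth.Agent.Lib.Helper3.IndZarCrit Groth.Agent.Lib.Helper3.ConsSpace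

/-- For every ring A there is a faithfully flat ind-Zariski A-algebra A_w whose spectrum is w-local, the
closed points of Spec A_w mapping bijectively onto Spec A. (Part (4), reducedness of the particular
closed subscheme structure of the construction, is not stated.) -/
theorem result (A : Type u) [CommRing A] :
    ∃ (Aw : Type u) (_ : CommRing Aw) (_ : Algebra A Aw),
      Module.FaithfullyFlat A Aw ∧ EtPBC.IsIndZariski A Aw ∧ ProEtW.IsWLocal (PrimeSpectrum Aw) ∧
      Set.BijOn (PrimeSpectrum.comap (algebraMap A Aw)) (ProEtW.closedPoints (PrimeSpectrum Aw))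
        Set.univ := by
  have hind : EtPBC.IsIndZariski A (Aw (ρ A) (isClopen_ρ A)) :=
    isIndZariski_localization (M (ρ A) (isClopen_ρ A)) (Aw (ρ A) (isClopen_ρ A))
  haveI : Module.Flat A (Aw (ρ A) (isClopen_ρ A)) := flat_of_isIndZariski hind
  refine ⟨Aw (ρ A) (isClopen_ρ A), inferInstance, inferInstance,
    Module.FaithfullyFlat.of_comap_surjective (comap_surjective _ _ (bijective_ρ A).2), hind,
    isWLocal _ _, bijOn_closedPoints _ _ (bijective_ρ A)⟩

end Groth.Agent.S0694
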