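import Groth.Statements.S0699
import Groth.Agent.Lib.Helper3WLocal
import Mathlib

set_option autoImplicit false
open CategoryTheory CategoryTheory.Limits AlgebraicGeometry Opposite Topology
universe u
open ProEtW

namespace Groth.Agent.S0699

open Groth.Agent.Lib.Helper3.WLocal

-- L1: local surjectivity
theorem L1 {A B : Type u} [CommRing A] [CommRing B] [Algebra A B]
    (h1 : EtPBC.IdentifiesLocalRings A B) (n : PrimeSpectrum B) (b : B) :
    ∃ a s : A, ∃ t : B, s ∉ n.asIdeal.comap (algebraMap A B) ∧ t ∉ n.asIdeal ∧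
      t * (algebraMap A B s * b - algebraMap A B a) = 0 := by
  obtain ⟨z, hz⟩ := (h1 n).2 (algebraMap B (Localization.AtPrime n.asIdeal) b)
  obtain ⟨a, s, rfl⟩ := IsLocalization.exists_mk'_eq (n.asIdeal.comap (algebraMap A B)).primeCompl z
  rw [Localization.localRingHom_mk'] at hz
  rw [eq_comm, IsLocalization.eq_mk'_iff_mul_eq] at hz
  rw [← map_mul, IsLocalization.eq_iff_exists n.asIdeal.primeCompl] at hz
  obtain ⟨t, ht⟩ := hz
  refine ⟨a, s, t, s.2, t.2, ?_⟩
  simp only at ht
  rw [mul_sub, mul_comm (algebraMap A B s) b, ht, sub_self]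

-- L2: local injectivity
theorem L2 {A B : Type u} [CommRing A] [CommRing B] [Algebra A B]
    (h1 : EtPBC.IdentifiesLocalRings A B) (n : PrimeSpectrum B) (a : A)
    (ha : algebraMap A B a = 0) :
    ∃ s : A, s ∉ n.asIdeal.comap (algebraMap A B) ∧ s * a = 0 := by
  have hz : Localization.localRingHom (n.asIdeal.comap (algebraMap A B)) n.asIdeal
      (algebraMap A B) rfl (algebraMap A _ a) = 0 := by
    rw [Localization.localRingHom_to_map, ha, map_zero]
  have h0 := (h1 n).1 (hz.trans (map_zero _).symm)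
  rw [IsLocalization.map_eq_zero_iff (n.asIdeal.comap (algebraMap A B)).primeCompl] at h0
  obtain ⟨s, hs⟩ := h0
  exact ⟨s, s.2, hs⟩

/-- Let A -> B identify local rings, with Spec A and Spec B w-local, Spec B -> Spec A w-local, and
pi_0(Spec B) -> pi_0(Spec A) bijective. Then A -> B is bijective. -/
theorem result (A B : Type u) [CommRing A] [CommRing B]
    [Algebra A B] (h1 : EtPBC.IdentifiesLocalRings A B) (h2 : ProEtW.IsWLocal (PrimeSpectrum A))
    (h3 : ProEtW.IsWLocal (PrimeSpectrum B))
    (h4 : ProEtW.IsWLocalMap (PrimeSpectrum.comap (algebraMap A B)))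
    (h5 : Function.Bijective
      (PrimeSpectrum.continuous_comap (algebraMap A B)).connectedComponentsMap) :
    Function.Bijective (algebraMap A B) := by
  obtain ⟨f, hf⟩ : ∃ f : PrimeSpectrum B → PrimeSpectrum A,
    f = PrimeSpectrum.comap (algebraMap A B) := ⟨_, rfl⟩
  have hfc : Continuous f := hf ▸ PrimeSpectrum.continuous_comap (algebraMap A B)
  have hfI : ∀ q : PrimeSpectrum B, (f q).asIdeal = q.asIdeal.comap (algebraMap A B) := by
    intro q; rw [hf]; rfl
  have hfmem : ∀ (q : PrimeSpectrum B) (a : A), a ∈ (f q).asIdeal ↔ algebraMap A B a ∈ q.asIdeal := by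
    intro q a; rw [hfI]; rfl
  have hfcl : ∀ n : PrimeSpectrum B, IsClosed ({n} : Set (PrimeSpectrum B)) →
      IsClosed ({f n} : Set (PrimeSpectrum A)) := by
    intro n hn; rw [hf]; exact h4.2 n hn
  -- (1a)
  have h1a : ∀ q : PrimeSpectrum B, f (r h3 q) = r h2 (f q) := by
    intro q
    exact eq_r h2 (hfcl _ (isClosed_r h3 q)) ((specializes_r h3 q).map hfc)
  have hmap : ∀ y : PrimeSpectrum B,
      (PrimeSpectrum.continuous_comap (algebraMap A B)).connectedComponentsMap
        (ConnectedComponents.mk y) = ConnectedComponents.mk (f y) := by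
    intro y; rw [hf]; rfl
  -- (1b)
  have h1b : ∀ n n' : PrimeSpectrum B, IsClosed ({n} : Set (PrimeSpectrum B)) →
      IsClosed ({n'} : Set (PrimeSpectrum B)) → f n = f n' → n = n' := by
    intro n n' hn hn' hnn'
    apply eq_of_mk_eq h3 hn hn'
    apply h5.1
    rw [hmap, hmap, hnn']
  -- (1c)
  have h1c : ∀ m : PrimeSpectrum A, IsClosed ({m} : Set (PrimeSpectrum A)) →
      ∃ n : PrimeSpectrum B, IsClosed ({n} : Set (PrimeSpectrum B)) ∧ f n = m := by
    intro m hm
    obtain ⟨c, hc⟩ := h5.2 (ConnectedComponents.mk m)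
    obtain ⟨y, rfl⟩ := ConnectedComponents.surjective_coe c
    refine ⟨r h3 y, isClosed_r h3 y, ?_⟩
    apply eq_of_mk_eq h2 (hfcl _ (isClosed_r h3 y)) hm
    rw [← hc, ← hmap, ← mk_eq_mk_r h3 y]
  -- Step 2
  have hstep2 : ∀ q n : PrimeSpectrum B, IsClosed ({n} : Set (PrimeSpectrum B)) →
      (f q).asIdeal ≤ (f n).asIdeal → q.asIdeal ≤ n.asIdeal := by
    intro q n hn hle
    have hsp : f q ⤳ f n := (PrimeSpectrum.le_iff_specializes _ _).mp hle
    have e1 : f n = r h2 (f q) := eq_r h2 (hfcl n hn) hsp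
    have e2 : r h3 q = n := h1b _ _ (isClosed_r h3 q) hn (by rw [h1a, e1])
    rw [← e2]
    exact le_r h3 q
  constructor
  · -- injective
    rw [injective_iff_map_eq_zero]
    intro a ha
    by_contra hne
    have hann : (Ideal.span {a}).annihilator ≠ ⊤ := by
      intro htop
      have h1' : (1 : A) ∈ (Ideal.span {a}).annihilator := htop ▸ Submodule.mem_top
      rw [Submodule.mem_annihilator_span_singleton] at h1'
      exact hne (by simpa using h1')
    obtain ⟨m, hm, hle⟩ := Ideal.exists_le_maximal _ hann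
    have hmcl : IsClosed ({(⟨m, hm.isPrime⟩ : PrimeSpectrum A)} : Set (PrimeSpectrum A)) :=
      (PrimeSpectrum.isClosed_singleton_iff_isMaximal _).mpr hm
    obtain ⟨n, hn, hfn⟩ := h1c ⟨m, hm.isPrime⟩ hmcl
    obtain ⟨s, hs, hsa⟩ := L2 h1 n a ha
    rw [← hfI, hfn] at hs
    apply hs
    apply hle
    rw [Submodule.mem_annihilator_span_singleton]
    exact hsa
  · -- surjective
    intro b
    obtain ⟨𝔞, h𝔞⟩ : ∃ 𝔞 : Ideal A, ∀ x, x ∈ 𝔞 ↔ algebraMap A B x * b ∈ (algebraMap A B).range := by
      refine ⟨{ carrier := {x | algebraMap A B x * b ∈ (algebraMap A B).range}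
                zero_mem' := ?_
                add_mem' := ?_
                smul_mem' := ?_ }, fun x => Iff.rfl⟩
      · intro x y hx hy
        show algebraMap A B (x + y) * b ∈ (algebraMap A B).range
        rw [map_add, add_mul]; exact add_mem hx hy
      · show algebraMap A B 0 * b ∈ (algebraMap A B).range
        rw [map_zero, zero_mul]; exact zero_mem _
      · intro c x hx
        show algebraMap A B (c • x) * b ∈ (algebraMap A B).range
        rw [smul_eq_mul, map_mul, mul_assoc]
        exact mul_mem ⟨c, rfl⟩ hx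
    by_cases htop : 𝔞 = ⊤
    · have : (1 : A) ∈ 𝔞 := htop ▸ Submodule.mem_top
      rw [h𝔞, map_one, one_mul] at this
      exact this
    exfalso
    obtain ⟨m, hm, hle⟩ := Ideal.exists_le_maximal _ htop
    have hmcl : IsClosed ({(⟨m, hm.isPrime⟩ : PrimeSpectrum A)} : Set (PrimeSpectrum A)) :=
      (PrimeSpectrum.isClosed_singleton_iff_isMaximal _).mpr hm
    obtain ⟨n, hn, hfn⟩ := h1c ⟨m, hm.isPrime⟩ hmcl
    obtain ⟨a, s, t, hs, ht, hst⟩ := L1 h1 n b
    rw [← hfI, hfn] at hs
    have hs' : s ∉ m := hs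
    obtain ⟨x, hx⟩ : ∃ x : B, x = algebraMap A B s * b - algebraMap A B a := ⟨_, rfl⟩
    rw [← hx] at hst
    -- claim
    have hclaim : ∃ s' : A, s' ∉ m ∧ algebraMap A B s' * x = 0 := by
      by_contra hcon
      push Not at hcon
      have hdisj : Disjoint ((Ideal.span {x}).annihilator : Set B)
          ((m.primeCompl.map (algebraMap A B) : Submonoid B) : Set B) := by
        rw [Set.disjoint_left]
        rintro y hy ⟨s', hs'm, rfl⟩
        rw [SetLike.mem_coe, Submodule.mem_annihilator_span_singleton] at hy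
        exact hcon s' hs'm hy
      obtain ⟨q, hq, hIq, hqS⟩ := Ideal.exists_le_prime_disjoint _ _ hdisj
      have hfq : (f ⟨q, hq⟩).asIdeal ≤ (f n).asIdeal := by
        intro a' ha'
        rw [hfn]
        show a' ∈ m
        by_contra ham
        rw [hfmem] at ha'
        exact Set.disjoint_left.mp hqS ha' ⟨a', ham, rfl⟩
      have hqn := hstep2 ⟨q, hq⟩ n hn hfq
      apply ht
      apply hqn
      apply hIq
      rw [Submodule.mem_annihilator_span_singleton]
      exact hst
    obtain ⟨s', hs'm, hs'x⟩ := hclaim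
    have hmem : s' * s ∈ 𝔞 := by
      rw [h𝔞]
      refine ⟨s' * a, ?_⟩
      rw [hx, mul_sub, sub_eq_zero] at hs'x
      rw [map_mul, map_mul, mul_assoc, hs'x]
    have := hle hmem
    rcases hm.isPrime.mem_or_mem this with h | h
    · exact hs'm h
    · exact hs' h

end Groth.Agent.S0699
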