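import Groth.Statements.S0737
import Groth.Agent.Lib.Helper3LCSpec
import Groth.Agent.Lib.Helper3LCIndZar
import Groth.Agent.Lib.Helper3WLoc
import Groth.Agent.Lib.Helper3WLoc2
import Groth.Agent.Lib.Helper3ConsSpace
import Groth.Agent.Lib.Helper3IdLoc
import Groth.Agent.Lib.Helper3IdLoc2
import Groth.Agent.Lib.Helper10ProCons
import Mathlib

set_option autoImplicit false
open CategoryTheory CategoryTheory.Limits AlgebraicGeometry Opposite Topology
universe u
open ProEtW

namespace Groth.Agent.S0737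

open Groth.Agent.Lib.Helper3.LCIndZar Groth.Agent.Lib.Helper3.WLoc
open Groth.Agent.Lib.Helper3.IdLoc Groth.Agent.Lib.Helper3.ConsSpace

set_option maxHeartbeats 1600000

/-- Let Spec A be w-local with radical ideal I cutting out its closed points, and A -> B inducing
algebraic residue field extensions. Then (1) every point of V(IB) is closed in Spec B, and (2) there
is an ind-Zariski B-algebra C with B/IB -> C/IC bijective, Spec C w-local, Spec C -> Spec A w-local,
and closed points of Spec C exactly the points over closed points of Spec A. -/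
theorem result (A B : Type u) [CommRing A]
    [CommRing B] [Algebra A B] (hA : ProEtW.IsWLocal (PrimeSpectrum A)) (I : Ideal A) (hI : I.IsRadical)
    (hI0 : PrimeSpectrum.zeroLocus (R := A) I = ProEtW.closedPoints (PrimeSpectrum A))
    (h : ProEtW.AlgebraicResidueExtensions A B) :
    PrimeSpectrum.zeroLocus (R := B) (I.map (algebraMap A B)) ⊆ ProEtW.closedPoints (PrimeSpectrum B) ∧
    ∃ (C : Type u) (_ : CommRing C) (_ : Algebra B C) (_ : Algebra A C) (_ : IsScalarTower A B C),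
      EtPBC.IsIndZariski B C ∧
      Function.Bijective (Ideal.quotientMap ((I.map (algebraMap A B)).map (algebraMap B C))
        (algebraMap B C) Ideal.le_comap_map) ∧
      ProEtW.IsWLocal (PrimeSpectrum C) ∧
      ProEtW.IsWLocalMap (PrimeSpectrum.comap (algebraMap A C)) ∧
      ProEtW.closedPoints (PrimeSpectrum C) =
        PrimeSpectrum.comap (algebraMap A C) ⁻¹' ProEtW.closedPoints (PrimeSpectrum A) := by
  classical
  obtain ⟨J, hJ⟩ : ∃ J : Ideal B, J = I.map (algebraMap A B) := ⟨_, rfl⟩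
  rw [← hJ]
  -- part (1)
  have hmax : ∀ q : PrimeSpectrum B, q ∈ PrimeSpectrum.zeroLocus (R := B) J → q.asIdeal.IsMaximal := by
    intro q hq
    have hp : PrimeSpectrum.comap (algebraMap A B) q ∈ PrimeSpectrum.zeroLocus (R := A) I := by
      rw [PrimeSpectrum.mem_zeroLocus, SetLike.coe_subset_coe] at hq ⊢
      rw [hJ, Ideal.map_le_iff_le_comap] at hq
      exact hq
    rw [hI0] at hp
    have hpmax : (q.asIdeal.comap (algebraMap A B)).IsMaximal :=
      (PrimeSpectrum.isClosed_singleton_iff_isMaximal _).mp hp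
    haveI := h q.asIdeal
    letI := Ideal.Quotient.field (q.asIdeal.comap (algebraMap A B))
    haveI : Algebra.IsIntegral (A ⧸ q.asIdeal.comap (algebraMap A B)) (B ⧸ q.asIdeal) :=
      Algebra.IsAlgebraic.isIntegral
    apply Ideal.Quotient.maximal_of_isField
    exact isField_of_isIntegral_of_isField' (R := A ⧸ q.asIdeal.comap (algebraMap A B))
      (Field.toIsField _)
  have h1 : PrimeSpectrum.zeroLocus (R := B) J ⊆ ProEtW.closedPoints (PrimeSpectrum B) := by
    intro q hq
    exact (PrimeSpectrum.isClosed_singleton_iff_isMaximal _).mpr (hmax q hq)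
  refine ⟨h1, ?_⟩
  -- the profinite space
  obtain ⟨Z, hZ⟩ : ∃ Z : Set (Cons B), Z = {t | ∀ z ∈ J, t.1 z = true} := ⟨_, rfl⟩
  have hZmem : ∀ t : Cons B, t ∈ Z ↔ ∀ z ∈ J, t.1 z = true := fun t => by rw [hZ]; rfl
  have hZcl : IsClosed Z := by
    have : Z = ⋂ z ∈ J, {t : Cons B | t.1 z = true} := by
      rw [hZ]
      ext t
      simp
    rw [this]
    refine isClosed_biInter fun z _ => ?_
    exact ((isClopen_eval B z true).preimage continuous_subtype_val).1
  haveI : CompactSpace ↥Z := isCompact_iff_compactSpace.mp hZcl.isCompact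
  obtain ⟨ρ', hρ'def⟩ : ∃ ρ' : ↥Z → PrimeSpectrum B, ρ' = fun t => ρ B t.1 := ⟨_, rfl⟩
  have hρ'mem : ∀ (t : ↥Z) (z : B), z ∈ (ρ' t).asIdeal ↔ t.1.1 z = true := by
    intro t z; rw [hρ'def]; rfl
  have hρ'J : ∀ t : ↥Z, ρ' t ∈ PrimeSpectrum.zeroLocus (R := B) J := by
    intro t
    rw [PrimeSpectrum.mem_zeroLocus]
    intro z hz
    rw [SetLike.mem_coe, hρ'mem]
    exact (hZmem t.1).mp t.2 z hz
  have hρ'inj : Function.Injective ρ' := by
    intro t t' htt'
    rw [hρ'def] at htt'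
    exact Subtype.ext ((bijective_ρ B).1 htt')
  have hρ'surj : ∀ x ∈ PrimeSpectrum.zeroLocus (R := B) J, ∃ t, ρ' t = x := by
    intro x hx
    obtain ⟨t₀, rfl⟩ := (bijective_ρ B).2 x
    refine ⟨⟨t₀, ?_⟩, ?_⟩
    · rw [hZmem]
      intro z hz
      exact hx hz
    · rw [hρ'def]
  have hρ' : ∀ f : B, IsClopen {t : ↥Z | f ∈ (ρ' t).asIdeal} := by
    intro f
    have : {t : ↥Z | f ∈ (ρ' t).asIdeal} = Subtype.val ⁻¹' {t : Cons B | f ∈ (ρ B t).asIdeal} := by
      ext t
      rw [hρ'def]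
      rfl
    rw [this]
    exact (isClopen_ρ B f).preimage continuous_subtype_val
  haveI : IsScalarTower A B (LocallyConstant ↥Z B) :=
    ⟨fun a b h => by ext t; exact smul_assoc a b (h t)⟩
  have hind : EtPBC.IsIndZariski B (Aw ρ' hρ') := isIndZariski_localization (M ρ' hρ') (Aw ρ' hρ')
  have hcomap : ∀ y : PrimeSpectrum (Aw ρ' hρ'),
      y.asIdeal.comap (algebraMap B (Aw ρ' hρ')) = (Ψ ρ' hρ' y).1.asIdeal := by
    intro y
    rw [Ψ_fst]
    rfl
  have hcp : ProEtW.closedPoints (PrimeSpectrum (Aw ρ' hρ')) =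
      PrimeSpectrum.zeroLocus (J.map (algebraMap B (Aw ρ' hρ'))) := by
    ext y
    rw [closedPoints_eq, PrimeSpectrum.mem_zeroLocus, SetLike.coe_subset_coe,
      Ideal.map_le_iff_le_comap, hcomap]
    constructor
    · intro hy
      have hy' : (Ψ ρ' hρ' y).1 = ρ' (Ψ ρ' hρ' y).2 := hy
      rw [hy']
      exact hρ'J _
    · intro hy
      have hq : (Ψ ρ' hρ' y).1 ∈ PrimeSpectrum.zeroLocus (R := B) J := hy
      have hqmax := hmax _ hq
      show (Ψ ρ' hρ' y).1 = ρ' (Ψ ρ' hρ' y).2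
      apply PrimeSpectrum.ext
      exact hqmax.eq_of_le (ρ' _).2.ne_top (Ψ_le ρ' hρ' y)
  have hbij : Set.BijOn (PrimeSpectrum.comap (algebraMap B (Aw ρ' hρ')))
      (ProEtW.closedPoints (PrimeSpectrum (Aw ρ' hρ'))) (PrimeSpectrum.zeroLocus (R := B) J) := by
    refine ⟨?_, ?_, ?_⟩
    · intro y hy
      rw [closedPoints_eq] at hy
      have hy' : (Ψ ρ' hρ' y).1 = ρ' (Ψ ρ' hρ' y).2 := hy
      rw [← Ψ_fst, hy']
      exact hρ'J _
    · intro y hy y' hy' heq
      rw [closedPoints_eq] at hy hy'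
      have e1 : (Ψ ρ' hρ' y).1 = ρ' (Ψ ρ' hρ' y).2 := hy
      have e2 : (Ψ ρ' hρ' y').1 = ρ' (Ψ ρ' hρ' y').2 := hy'
      rw [← Ψ_fst, ← Ψ_fst] at heq
      apply (isEmbedding_Ψ ρ' hρ').injective
      apply Prod.ext heq
      apply hρ'inj
      rw [← e1, ← e2, heq]
    · intro x hx
      obtain ⟨t, rfl⟩ := hρ'surj x hx
      obtain ⟨y, hy⟩ := exists_closedPt ρ' hρ' t
      refine ⟨y, ?_, ?_⟩
      · rw [closedPoints_eq]
        show (Ψ ρ' hρ' y).1 = ρ' (Ψ ρ' hρ' y).2
        rw [hy]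
      · rw [← Ψ_fst, hy]
  -- T1 of Spec (B / J)
  haveI hT1 : T1Space (PrimeSpectrum (B ⧸ J)) := by
    have hjB : Topology.IsClosedEmbedding (PrimeSpectrum.comap (Ideal.Quotient.mk J)) :=
      PrimeSpectrum.isClosedEmbedding_comap_of_surjective _ _ Ideal.Quotient.mk_surjective
    have hjBr : Set.range (PrimeSpectrum.comap (Ideal.Quotient.mk J)) =
        PrimeSpectrum.zeroLocus (R := B) J := by
      rw [_root_.range_comap_of_surjective _ _ Ideal.Quotient.mk_surjective, Ideal.mk_ker]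
    rw [t1Space_iff_specializes_imp_eq]
    intro x x' hxx'
    have h2 := hxx'.map hjB.continuous
    have h3 : PrimeSpectrum.comap (Ideal.Quotient.mk J) x ∈ PrimeSpectrum.zeroLocus (R := B) J :=
      hjBr ▸ ⟨x, rfl⟩
    have h4 : IsClosed ({PrimeSpectrum.comap (Ideal.Quotient.mk J) x} : Set (PrimeSpectrum B)) :=
      h1 h3
    have h5 := specializes_iff_mem_closure.mp h2
    rw [h4.closure_eq] at h5
    exact (hjB.injective h5).symm
  have hquot := quotient_bijective' B (Aw ρ' hρ') J (identifies_of_isIndZariski hind) hcp hbij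
  -- compatibility with A
  have hcomapA : ∀ y : PrimeSpectrum (Aw ρ' hρ'),
      PrimeSpectrum.comap (algebraMap A (Aw ρ' hρ')) y =
        PrimeSpectrum.comap (algebraMap A B) (PrimeSpectrum.comap (algebraMap B (Aw ρ' hρ')) y) := by
    intro y
    ext a
    show algebraMap A (Aw ρ' hρ') a ∈ y.asIdeal ↔
      algebraMap B (Aw ρ' hρ') (algebraMap A B a) ∈ y.asIdeal
    rw [IsScalarTower.algebraMap_apply A B (Aw ρ' hρ')]
  have hclA : ∀ y : PrimeSpectrum (Aw ρ' hρ'),
      y ∈ ProEtW.closedPoints (PrimeSpectrum (Aw ρ' hρ')) ↔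
        PrimeSpectrum.comap (algebraMap A (Aw ρ' hρ')) y ∈
          ProEtW.closedPoints (PrimeSpectrum A) := by
    intro y
    rw [hcp, hcomapA, ← hI0, PrimeSpectrum.mem_zeroLocus, PrimeSpectrum.mem_zeroLocus,
      SetLike.coe_subset_coe, SetLike.coe_subset_coe, Ideal.map_le_iff_le_comap, hJ,
      Ideal.map_le_iff_le_comap]
    rfl
  refine ⟨Aw ρ' hρ', inferInstance, inferInstance, inferInstance, inferInstance, hind, hquot,
    isWLocal ρ' hρ', ⟨Groth.Agent.Lib.Helper10.ProCons.isSpectralMap_comap _, ?_⟩, ?_⟩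
  · intro y hy
    exact (hclA y).mp hy
  · ext y
    exact hclA y

end Groth.Agent.S0737
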