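import Groth.Statements.S0696
import Groth.Agent.Lib.Helper3LCSpec
import Groth.Agent.Lib.Helper3LCIndZar
import Groth.Agent.Lib.Helper3WLoc
import Groth.Agent.Lib.Helper3IndZarFlat
import Groth.Agent.Lib.Helper3ConsSpace
import Mathlib

set_option autoImplicit false
open CategoryTheory CategoryTheory.Limits AlgebraicGeometry Opposite Topology
universe u
open ProEtW

namespace Groth.Agent.S0696

open Groth.Agent.Lib.Helper3.LCIndZar Groth.Agent.Lib.Helper3.WLoc
open Groth.Agent.Lib.Helper3.IndZarCrit Groth.Agent.Lib.Helper3.ConsSpace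

-- extremal disconnectedness transfers along homeomorphisms
theorem extremallyDisconnected_of_homeo {X Y : Type*} [TopologicalSpace X] [TopologicalSpace Y]
    (e : X ≃ₜ Y) [ExtremallyDisconnected Y] : ExtremallyDisconnected X := by
  constructor
  intro U hU
  have h1 : IsOpen (e.symm ⁻¹' U) := hU.preimage e.symm.continuous
  have h2 : IsOpen (closure (e.symm ⁻¹' U)) := ExtremallyDisconnected.open_closure _ h1
  have h3 : e ⁻¹' closure (e.symm ⁻¹' U) = closure U := by
    rw [e.preimage_closure]
    congr 1
    ext x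
    simp
  rw [← h3]
  exact h2.preimage e.continuous

/-- Every ring A admits a faithfully flat ind-Zariski extension B whose spectrum is w-local with
extremally disconnected space of connected components. -/
theorem result (A : Type u) [CommRing A] :
    ∃ (B : Type u) (_ : CommRing B) (_ : Algebra A B),
      Module.FaithfullyFlat A B ∧ EtPBC.IsIndZariski A B ∧ ProEtW.IsWLocal (PrimeSpectrum B) ∧
        ExtremallyDisconnected (_root_.ConnectedComponents (PrimeSpectrum B)) := by
  obtain ⟨S, hS⟩ : ∃ S : Stonean.{u}, S = (CompHaus.of (Cons A)).presentation := ⟨_, rfl⟩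
  obtain ⟨π, hπc, hπs⟩ : ∃ π : S → Cons A, Continuous π ∧ Function.Surjective π := by
    subst hS
    refine ⟨(CompHaus.presentation.π (CompHaus.of (Cons A))).hom.hom, ?_, ?_⟩
    · exact (CompHaus.presentation.π (CompHaus.of (Cons A))).hom.hom.continuous
    · exact (CompHaus.epi_iff_surjective _).mp inferInstance
  obtain ⟨ρ', hρ'⟩ : ∃ ρ' : S → PrimeSpectrum A, ρ' = ρ A ∘ π := ⟨_, rfl⟩
  have hclopen : ∀ f : A, IsClopen {t : S | f ∈ (ρ' t).asIdeal} := by
    intro f
    rw [hρ']
    exact (isClopen_ρ A f).preimage hπc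
  have hsurj : Function.Surjective ρ' := by
    rw [hρ']
    exact (bijective_ρ A).2.comp hπs
  have hind : EtPBC.IsIndZariski A (Aw ρ' hclopen) :=
    isIndZariski_localization (M ρ' hclopen) (Aw ρ' hclopen)
  haveI : Module.Flat A (Aw ρ' hclopen) := flat_of_isIndZariski hind
  refine ⟨Aw ρ' hclopen, inferInstance, inferInstance,
    Module.FaithfullyFlat.of_comap_surjective (comap_surjective _ _ hsurj), hind,
    isWLocal _ _, ?_⟩
  exact extremallyDisconnected_of_homeo (pi0Homeo ρ' hclopen)

end Groth.Agent.S0696
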