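import Groth.Statements.S0678
import Groth.Agent.Lib.Helper3LCSpec
import Groth.Agent.Lib.Helper3LCIndZar
import Groth.Agent.Lib.Helper3WLoc
import Groth.Agent.Lib.Helper3IndZarFlat
import Groth.Agent.Lib.Helper3ConsSpace
import Groth.Agent.Lib.Helper3IdLoc
import Groth.Agent.Lib.Helper3WLocalIndZar
import Groth.Agent.Lib.Helper3WLocRetr
import Groth.Agent.Lib.Helper3WLocRetr2
import Groth.Agent.S0696
import Mathlib

set_option autoImplicit false
open CategoryTheory CategoryTheory.Limits AlgebraicGeometry Opposite Topology
universe u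
open ProEtW

namespace Groth.Agent.S0678

open Groth.Agent.Lib.Helper3.LCIndZar Groth.Agent.Lib.Helper3.WLoc
open Groth.Agent.Lib.Helper3.IndZarCrit Groth.Agent.Lib.Helper3.ConsSpace
open Groth.Agent.Lib.Helper3.IdLoc Groth.Agent.Lib.Helper3.WLocalIndZar
open Groth.Agent.Lib.Helper3.WLocRetr

set_option linter.style.haveILetI false

-- a retract of an extremally disconnected space is extremally disconnected
theorem extremallyDisconnected_of_retract {X Y : Type*} [TopologicalSpace X] [TopologicalSpace Y]
    (s : X → Y) (q : Y → X) (hs : Continuous s) (hq : Continuous q) (hqs : ∀ x, q (s x) = x)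
    [ExtremallyDisconnected Y] : ExtremallyDisconnected X := by
  constructor
  intro U hU
  have h1 : IsOpen (q ⁻¹' U) := hU.preimage hq
  have h2 : IsOpen (closure (q ⁻¹' U)) := ExtremallyDisconnected.open_closure _ h1
  have h3 : s ⁻¹' closure (q ⁻¹' U) = closure U := by
    apply Set.Subset.antisymm
    · intro x hx
      have hx' : s x ∈ closure (q ⁻¹' U) := hx
      have h4 : q (s x) ∈ q '' closure (q ⁻¹' U) := ⟨_, hx', rfl⟩
      have h5 := image_closure_subset_closure_image hq h4
      rw [hqs] at h5
      exact closure_mono (Set.image_preimage_subset q U) h5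
    · apply closure_minimal
      · intro x hx
        apply subset_closure
        show q (s x) ∈ U
        rw [hqs]; exact hx
      · exact isClosed_closure.preimage hs
  rw [← h3]
  exact h2.preimage hs

-- the forward direction
theorem forward (A : Type u) [CommRing A] (h : ProEtW.HasIndZariskiRetractions A) :
    ProEtW.IsWLocal (PrimeSpectrum A) ∧
        ExtremallyDisconnected (_root_.ConnectedComponents (PrimeSpectrum A)) := by
  obtain ⟨B, _, _, hff, hind, hB, hed⟩ := Groth.Agent.S0696.result A
  obtain ⟨φ⟩ := h B hff hind
  have hφsurj : Function.Surjective φ := fun a => ⟨algebraMap A B a, φ.commutes a⟩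
  obtain ⟨i, hi⟩ : ∃ i : PrimeSpectrum A → PrimeSpectrum B,
    i = PrimeSpectrum.comap (φ : B →+* A) := ⟨_, rfl⟩
  obtain ⟨p, hp⟩ : ∃ p : PrimeSpectrum B → PrimeSpectrum A,
    p = PrimeSpectrum.comap (algebraMap A B) := ⟨_, rfl⟩
  have hic : Topology.IsClosedEmbedding i := by
    rw [hi]; exact PrimeSpectrum.isClosedEmbedding_comap_of_surjective _ _ hφsurj
  have hpc : Continuous p := by rw [hp]; exact PrimeSpectrum.continuous_comap _
  have hpi : ∀ x, p (i x) = x := by
    intro x
    rw [hp, hi]
    ext a
    simp only [PrimeSpectrum.comap_asIdeal, Ideal.mem_comap]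
    rw [show (φ : B →+* A) (algebraMap A B a) = a from φ.commutes a]
  have hcl : ∀ x : PrimeSpectrum A, IsClosed ({x} : Set (PrimeSpectrum A)) ↔
      IsClosed ({i x} : Set (PrimeSpectrum B)) := by
    intro x
    constructor
    · intro hx
      have := hic.isClosedMap _ hx
      rwa [Set.image_singleton] at this
    · intro hx
      have := hx.preimage hic.continuous
      rwa [← Set.image_singleton, Set.preimage_image_eq _ hic.injective] at this
  refine ⟨⟨inferInstance, ?_, ?_⟩, ?_⟩
  · have : {x : PrimeSpectrum A | IsClosed ({x} : Set (PrimeSpectrum A))} =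
        i ⁻¹' {y | IsClosed ({y} : Set (PrimeSpectrum B))} := by
      ext x
      exact hcl x
    rw [this]
    exact hB.2.1.preimage hic.continuous
  · intro x
    obtain ⟨z, ⟨hz1, hz2⟩, hz3⟩ := hB.2.2 (i x)
    have hzr : z ∈ Set.range i := by
      have : z ∈ closure ({i x} : Set (PrimeSpectrum B)) := by
        rw [← specializes_iff_mem_closure]; exact hz2
      have hsub : closure ({i x} : Set (PrimeSpectrum B)) ⊆ Set.range i :=
        closure_minimal (by rintro _ rfl; exact ⟨x, rfl⟩) hic.isClosed_range
      exact hsub this
    obtain ⟨y, rfl⟩ := hzr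
    refine ⟨y, ⟨(hcl y).mpr hz1, hic.isInducing.specializes_iff.mp hz2⟩, ?_⟩
    rintro y' ⟨hy'1, hy'2⟩
    apply hic.injective
    exact hz3 _ ⟨(hcl y').mp hy'1, hic.isInducing.specializes_iff.mpr hy'2⟩
  · refine extremallyDisconnected_of_retract
      (hic.continuous.connectedComponentsMap) (hpc.connectedComponentsMap)
      hic.continuous.connectedComponentsMap_continuous hpc.connectedComponentsMap_continuous ?_
    intro x
    obtain ⟨a, rfl⟩ := ConnectedComponents.surjective_coe x
    show hpc.connectedComponentsMap (hic.continuous.connectedComponentsMap (ConnectedComponents.mk a)) = _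
    simp only [Continuous.connectedComponentsMap, Continuous.connectedComponentsLift_apply_coe,
      Function.comp_apply]
    rw [hpi]

/-- For a ring A, every faithfully flat ind-Zariski A-algebra (filtered colimit of local isomorphisms)
has an A-algebra retraction if and only if Spec A is w-local and the space of connected components
of Spec A is extremally disconnected. -/
theorem result (A : Type u) [CommRing A] :
    ProEtW.HasIndZariskiRetractions A ↔
      (ProEtW.IsWLocal (PrimeSpectrum A) ∧
        ExtremallyDisconnected (_root_.ConnectedComponents (PrimeSpectrum A))) := by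
  constructor
  · exact forward A
  · rintro ⟨hA, hed⟩ B _ _ hff hind
    letI : IsScalarTower A B (LocallyConstant (Cons B) B) :=
      ⟨fun a b h => by ext t; exact smul_assoc a b (h t)⟩
    have hind1 : EtPBC.IsIndZariski B (Aw (ρ B) (isClopen_ρ B)) :=
      isIndZariski_localization (M (ρ B) (isClopen_ρ B)) (Aw (ρ B) (isClopen_ρ B))
    have hid : EtPBC.IdentifiesLocalRings A (Aw (ρ B) (isClopen_ρ B)) :=
      identifies_comp (B := B) (identifies_of_isIndZariski hind) (identifies_of_isIndZariski hind1)
    have hW : ProEtW.IsWLocal (PrimeSpectrum (Aw (ρ B) (isClopen_ρ B))) := isWLocal _ _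
    have hsurj : Function.Surjective
        (PrimeSpectrum.comap (algebraMap A (Aw (ρ B) (isClopen_ρ B)))) := by
      rw [IsScalarTower.algebraMap_eq A B (Aw (ρ B) (isClopen_ρ B)), PrimeSpectrum.comap_comp]
      exact (PrimeSpectrum.comap_surjective_of_faithfullyFlat).comp
        (comap_surjective _ _ (bijective_ρ B).2)
    obtain ⟨ψ⟩ := retraction_of_wLocal hA hW hid hsurj
    exact ⟨ψ.comp (IsScalarTower.toAlgHom A B (Aw (ρ B) (isClopen_ρ B)))⟩

end Groth.Agent.S0678
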