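import Groth.Statements.S15432
import Mathlib
import Groth.Agent.Lib.Helper13HB
import Groth.Agent.S15428
-- import your own Groth.Agent.* helpers here

set_option autoImplicit false
universe u
open GrSyz

namespace Groth.Agent.S15432

/-- Let k be a field, Z a nonempty finite set of nonzero vectors of k^3, regarded as points of the
projective plane, I ⊆ S = k[x_0, x_1, x_2] the homogeneous vanishing ideal of Z (a polynomial lies
in I exactly when each of its homogeneous components vanishes at every vector of Z), M = S/I given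
as a ℤ-graded S-module with a surjective degree-preserving S-linear map π : S → M with kernel I, and
F a minimal graded free resolution of M of length at most 2 whose terms F_1 and F_2 have ranks t + 1
and t, with basis degrees a_1 ≥ … ≥ a_{t+1} for F_1 and b_1 ≥ … ≥ b_t for F_2 (non-increasing along
the chosen bases), so that the (i, j) entry of the matrix F_2 → F_1 has degree b_j − a_i. Put e_i =
b_i − a_i and f_i = b_i − a_{i+1}. Then e_i ≥ 1 and f_i ≥ 1 for every i, and Σ_i a_i = Σ_j b_j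
(equivalently a_i = Σ_{j < i} e_j + Σ_{j ≥ i} f_j for every i). (The ordering of both bases is the
standing assumption under which the published statement is made; this row carries it as the
hypotheses on the basis degrees. The further inequalities f_i ≥ e_i and f_i ≥ e_{i+1} follow at once
from the ordering and are not restated.) -/
theorem result (k : Type u) [Field k]
    (Z : Finset (Fin 3 → k)) (hZ : ∀ p ∈ Z, p ≠ 0) (hZne : Z.Nonempty) (I : Ideal (MvPolynomial (Fin 3) k))
    (hI : ∀ f : MvPolynomial (Fin 3) k, f ∈ I ↔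
      ∀ p ∈ Z, ∀ j : ℕ, MvPolynomial.eval p (MvPolynomial.homogeneousComponent j f) = 0)
    (M : Type u) [AddCommGroup M] [Module k M] [Module (MvPolynomial (Fin 3) k) M] [IsScalarTower k (MvPolynomial (Fin 3) k) M]
    (ℳ : ℤ → Submodule k M) [DirectSum.Decomposition ℳ] [SetLike.GradedSMul (GrSyz.stdGr k (Fin 3)) ℳ]
    (π : MvPolynomial (Fin 3) k →ₗ[MvPolynomial (Fin 3) k] M) (hπ : Function.Surjective π)
    (hπg : GrLC.IsGrHom (GrSyz.stdGr k (Fin 3)) ℳ π) (hker : LinearMap.ker π = I)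
    (F : GrSyz.FreeRes (GrSyz.stdGr k (Fin 3)) ℳ) (hF : F.IsMinimal (GrSyz.irrel (GrSyz.stdGr k (Fin 3))).toIdeal) (hlen : F.HasLengthLE 2)
    (t : ℕ) (h1 : F.rk 1 = t + 1) (h2 : F.rk 2 = t)
    (ha : ∀ i j : Fin (t + 1), i ≤ j → F.deg 1 (Fin.cast h1.symm j) ≤ F.deg 1 (Fin.cast h1.symm i))
    (hb : ∀ i j : Fin t, i ≤ j → F.deg 2 (Fin.cast h2.symm j) ≤ F.deg 2 (Fin.cast h2.symm i)) :
    (∀ i : Fin t, 1 ≤ F.deg 2 (Fin.cast h2.symm i) - F.deg 1 (Fin.cast h1.symm i.castSucc) ∧
        1 ≤ F.deg 2 (Fin.cast h2.symm i) - F.deg 1 (Fin.cast h1.symm i.succ)) ∧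
      ∑ i : Fin (t + 1), F.deg 1 (Fin.cast h1.symm i) = ∑ j : Fin t, F.deg 2 (Fin.cast h2.symm j) := by
  classical
  have h3 : F.rk 3 = 0 := hlen 3 (by omega)
  have ha' : ∀ l l' : Fin (F.rk 1), l.val ≤ l'.val → F.deg 1 l' ≤ F.deg 1 l := by
    intro l l' hll
    have := ha (Fin.cast h1 l) (Fin.cast h1 l') (show (Fin.cast h1 l).val ≤ (Fin.cast h1 l').val from hll)
    simpa using this
  have hb' : ∀ j j' : Fin (F.rk 2), j.val ≤ j'.val → F.deg 2 j' ≤ F.deg 2 j := by
    intro j j' hjj
    have := hb (Fin.cast h2 j) (Fin.cast h2 j') (show (Fin.cast h2 j).val ≤ (Fin.cast h2 j').val from hjj)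
    simpa using this
  refine ⟨fun i => ⟨?_, ?_⟩, ?_⟩
  · exact Groth.Agent.Helper13HB.one_le_deg_sub F hF h3 t h1 h2 ha' hb'
      (Fin.cast h2.symm i) (Fin.cast h1.symm i.castSucc) (by simp)
  · exact Groth.Agent.Helper13HB.one_le_deg_sub F hF h3 t h1 h2 ha' hb'
      (Fin.cast h2.symm i) (Fin.cast h1.symm i.succ) (by simp)
  · -- the sums: Hilbert function is bounded
    have hfin : Module.Finite (MvPolynomial (Fin 3) k) M := Module.Finite.of_surjective π hπ
    have hHF := fun d => Groth.Agent.S15428.result k 2 M ℳ F 2 hlen d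
    have hbd := fun d => Groth.Agent.Helper13HB.finrank_piece_le π hπg Z I hI hπ hker d
    -- a bound for all degrees
    obtain ⟨D, hD⟩ : ∃ D : ℤ, ∀ (i : ℕ) (b : Fin (F.rk i)), i < 3 → F.deg i b ≤ D := by
      refine ⟨∑ i ∈ Finset.range 3, ∑ b : Fin (F.rk i), |F.deg i b|, fun i b hi => ?_⟩
      calc F.deg i b ≤ |F.deg i b| := le_abs_self _
        _ ≤ ∑ b : Fin (F.rk i), |F.deg i b| :=
            Finset.single_le_sum (f := fun b => |F.deg i b|) (fun _ _ => abs_nonneg _)
              (Finset.mem_univ b)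
        _ ≤ ∑ i ∈ Finset.range 3, ∑ b : Fin (F.rk i), |F.deg i b| :=
            Finset.single_le_sum (f := fun i => ∑ b : Fin (F.rk i), |F.deg i b|)
              (fun _ _ => Finset.sum_nonneg (fun _ _ => abs_nonneg _)) (Finset.mem_range.2 hi)
    -- the quadratic polynomial
    have hquad : ∀ d, D ≤ d → 2 * (Module.finrank k ↥(ℳ d) : ℤ) =
        ((F.rk 0 : ℤ) - F.rk 1 + F.rk 2) * d ^ 2 +
        ((∑ b : Fin (F.rk 0), (3 - 2 * F.deg 0 b)) - (∑ b : Fin (F.rk 1), (3 - 2 * F.deg 1 b)) +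
          (∑ b : Fin (F.rk 2), (3 - 2 * F.deg 2 b))) * d +
        ((∑ b : Fin (F.rk 0), (F.deg 0 b ^ 2 - 3 * F.deg 0 b + 2)) -
          (∑ b : Fin (F.rk 1), (F.deg 1 b ^ 2 - 3 * F.deg 1 b + 2)) +
          (∑ b : Fin (F.rk 2), (F.deg 2 b ^ 2 - 3 * F.deg 2 b + 2))) := by
      intro d hd
      rw [hHF d, Finset.sum_range_succ, Finset.sum_range_succ, Finset.sum_range_one]
      have e0 := Groth.Agent.Helper13HB.sum_expand (F.deg 0) d (fun b => (hD 0 b (by omega)).trans hd)
      have e1 := Groth.Agent.Helper13HB.sum_expand (F.deg 1) d (fun b => (hD 1 b (by omega)).trans hd)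
      have e2 := Groth.Agent.Helper13HB.sum_expand (F.deg 2) d (fun b => (hD 2 b (by omega)).trans hd)
      simp only [pow_zero, pow_one, one_mul, neg_mul, even_two, Even.neg_pow, one_pow]
      linear_combination e0 - e1 + e2
    obtain ⟨hc₂, hc₁⟩ := Groth.Agent.Helper13HB.quad_bounded _ _ _ (2 * (Z.card : ℤ)) D (fun d hd => by
      rw [← hquad d hd]
      have := hbd d
      constructor
      · positivity
      · exact_mod_cast Nat.mul_le_mul_left 2 this)
    have hrk0 : F.rk 0 = 1 := by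
      rw [h1, h2] at hc₂
      push_cast at hc₂
      omega
    have hπ1 : π 1 ≠ 0 := by
      intro h
      have : (1 : MvPolynomial (Fin 3) k) ∈ LinearMap.ker π := h
      rw [hker] at this
      exact Groth.Agent.Helper13HB.one_notMem Z I hI hZne this
    have hdeg0 := Groth.Agent.Helper13HB.deg_zero_eq_zero π hπg F hπ hπ1 hrk0
    have hs0 : ∑ b : Fin (F.rk 0), (3 - 2 * F.deg 0 b) = 3 := by
      rw [Finset.sum_congr rfl (fun b _ => by rw [hdeg0 b])]
      simp [hrk0]
    have hs1 : ∑ b : Fin (F.rk 1), (3 - 2 * F.deg 1 b) =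
        3 * ((t : ℤ) + 1) - 2 * ∑ i : Fin (t + 1), F.deg 1 (Fin.cast h1.symm i) := by
      have hre : ∑ i : Fin (t + 1), F.deg 1 (Fin.cast h1.symm i) = ∑ b : Fin (F.rk 1), F.deg 1 b :=
        Fintype.sum_equiv (finCongr h1.symm) _ _ (fun i => rfl)
      rw [hre, Finset.sum_sub_distrib, Finset.sum_const, ← Finset.mul_sum]
      simp [h1]
      ring
    have hs2 : ∑ b : Fin (F.rk 2), (3 - 2 * F.deg 2 b) =
        3 * (t : ℤ) - 2 * ∑ j : Fin t, F.deg 2 (Fin.cast h2.symm j) := by
      have hre : ∑ j : Fin t, F.deg 2 (Fin.cast h2.symm j) = ∑ b : Fin (F.rk 2), F.deg 2 b :=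
        Fintype.sum_equiv (finCongr h2.symm) _ _ (fun i => rfl)
      rw [hre, Finset.sum_sub_distrib, Finset.sum_const, ← Finset.mul_sum]
      simp [h2]
      ring
    rw [hs0, hs1, hs2] at hc₁
    linarith

end Groth.Agent.S15432
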