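import Groth.Statements.S1217
import Groth.Agent.Lib.Helper22PurityDescent

set_option autoImplicit false
universe u
open FlatMor

namespace Groth.Agent.S1217

section Core

open TensorProduct

set_option linter.style.haveILetI false

attribute [local instance] Algebra.TensorProduct.rightAlgebra

open Groth.Agent.Lib.Helper22.PurityDescent Groth.Agent.Lib.Helper22.FiberAssLift

theorem core {A B : Type u} [CommRing A] [CommRing B] [Algebra A B] [Algebra.FiniteType A B]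
    (N : Type u) [AddCommGroup N] [Module B N] (p : Ideal A) [p.IsPrime]
    (A' B' N' : Type u) [CommRing A'] [CommRing B'] [Algebra A A'] [Algebra B B'] [Algebra A' B']
    [Algebra A B'] [IsScalarTower A B B'] [IsScalarTower A A' B'] [Algebra.IsPushout A B A' B']
    [AddCommGroup N'] [Module B' N'] [Module B N'] [IsScalarTower B B' N'] (f : N →ₗ[B] N')
    (hf : IsBaseChange B' f)
    (p' : Ideal A') [p'.IsPrime] [p'.LiesOver p] [Module.Flat A (Localization.AtPrime p')]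
    (A1 B1 N1 : Type u) [CommRing A1] [CommRing B1] [Algebra A A1] [Algebra B B1]
    [Algebra A1 B1] [Algebra A B1] [IsScalarTower A B B1] [IsScalarTower A A1 B1]
    [AddCommGroup N1] [Module B1 N1] [Module B N1] [IsScalarTower B B1 N1] [Module A1 N1]
    [IsScalarTower A1 B1 N1] (f1 : N →ₗ[B] N1) (t' t : Ideal A1) [t'.IsPrime] [t.IsPrime]
    (P : Ideal B1) [P.IsPrime]
    (himp : FlatCA.IsImpurity A B N p A1 B1 N1 f1 t' t P) :
    (¬ FlatCA.IsUnivPureAlong A' B' N' p') ∧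
      (FlatCA.IsEtaleNhd A A1 p t → ¬ FlatCA.IsPureAlong A' B' N' p') := by
  obtain ⟨hpo, hbc, hle, htp, hPt', hass, hno⟩ := himp
  -- missing algebra structures on `B1' = B' ⊗[A'] (A' ⊗[A] A1)`
  have tAA1'B1' : IsScalarTower A (A' ⊗[A] A1) (B' ⊗[A'] (A' ⊗[A] A1)) :=
    .of_algebraMap_eq (fun a => by
      rw [IsScalarTower.algebraMap_apply A A' (A' ⊗[A] A1),
        ← IsScalarTower.algebraMap_apply A' (A' ⊗[A] A1) (B' ⊗[A'] (A' ⊗[A] A1)),
        ← IsScalarTower.algebraMap_apply A A' (B' ⊗[A'] (A' ⊗[A] A1))])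
  letI algA1B1' : Algebra A1 (B' ⊗[A'] (A' ⊗[A] A1)) :=
    ((algebraMap (A' ⊗[A] A1) (B' ⊗[A'] (A' ⊗[A] A1))).comp (algebraMap A1 (A' ⊗[A] A1))).toAlgebra
  have tA1A1'B1' : IsScalarTower A1 (A' ⊗[A] A1) (B' ⊗[A'] (A' ⊗[A] A1)) :=
    .of_algebraMap_eq (fun _ => rfl)
  have tAA1B1' : IsScalarTower A A1 (B' ⊗[A'] (A' ⊗[A] A1)) :=
    .of_algebraMap_eq (fun a => by
      rw [IsScalarTower.algebraMap_apply A1 (A' ⊗[A] A1) (B' ⊗[A'] (A' ⊗[A] A1)),
        ← IsScalarTower.algebraMap_apply A A1 (A' ⊗[A] A1),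
        ← IsScalarTower.algebraMap_apply A (A' ⊗[A] A1) (B' ⊗[A'] (A' ⊗[A] A1))])
  -- the map `B1 → B1'`
  let β : B1 →ₐ[A] B' ⊗[A'] (A' ⊗[A] A1) :=
    Algebra.pushoutDesc B1 (IsScalarTower.toAlgHom A B (B' ⊗[A'] (A' ⊗[A] A1)))
      (IsScalarTower.toAlgHom A A1 (B' ⊗[A'] (A' ⊗[A] A1))) (fun _ _ => mul_comm _ _)
  letI algB1B1' : Algebra B1 (B' ⊗[A'] (A' ⊗[A] A1)) := β.toRingHom.toAlgebra
  have tBB1B1' : IsScalarTower B B1 (B' ⊗[A'] (A' ⊗[A] A1)) :=
    .of_algebraMap_eq (fun b => by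
      change algebraMap B (B' ⊗[A'] (A' ⊗[A] A1)) b = β (algebraMap B B1 b)
      rw [Algebra.pushoutDesc_left]
      rfl)
  have tA1B1B1' : IsScalarTower A1 B1 (B' ⊗[A'] (A' ⊗[A] A1)) :=
    .of_algebraMap_eq (fun x => by
      change algebraMap A1 (B' ⊗[A'] (A' ⊗[A] A1)) x = β (algebraMap A1 B1 x)
      rw [Algebra.pushoutDesc_right]
      rfl)
  have tAB1B1' : IsScalarTower A B1 (B' ⊗[A'] (A' ⊗[A] A1)) :=
    .of_algebraMap_eq (fun a => (β.commutes a).symm)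
  -- the pushout squares
  have hpo0 : Algebra.IsPushout A A' B B' := Algebra.IsPushout.symm inferInstance
  have hpo1 : Algebra.IsPushout A (A' ⊗[A] A1) B (B' ⊗[A'] (A' ⊗[A] A1)) :=
    (Algebra.IsPushout.comp_iff A A' B B').mpr TensorProduct.isPushout'
  have hpo2 : Algebra.IsPushout A A1 B B1 := Algebra.IsPushout.symm hpo
  have hpo3 : Algebra.IsPushout A1 (A' ⊗[A] A1) B1 (B' ⊗[A'] (A' ⊗[A] A1)) :=
    (Algebra.IsPushout.comp_iff A A1 B B1).mp hpo1
  have hpo4 : Algebra.IsPushout A1 B1 (A' ⊗[A] A1) (B' ⊗[A'] (A' ⊗[A] A1)) :=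
    Algebra.IsPushout.symm hpo3
  -- the module `N1' = B1' ⊗[B'] N'`
  have hbcN' : IsBaseChange (B' ⊗[A'] (A' ⊗[A] A1))
      (TensorProduct.mk B' (B' ⊗[A'] (A' ⊗[A] A1)) N' 1) :=
    TensorProduct.isBaseChange B' N' (B' ⊗[A'] (A' ⊗[A] A1))
  let ψ : N →ₗ[B] (B' ⊗[A'] (A' ⊗[A] A1)) ⊗[B'] N' :=
    ((TensorProduct.mk B' (B' ⊗[A'] (A' ⊗[A] A1)) N' 1).restrictScalars B).comp f
  have hψ : IsBaseChange (B' ⊗[A'] (A' ⊗[A] A1)) ψ := IsBaseChange.comp hf hbcN'
  have hcommB1 : SMulCommClass B' B1 (B' ⊗[A'] (A' ⊗[A] A1)) :=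
    ⟨fun b' b1 x => by
      rw [Algebra.smul_def b1, Algebra.smul_def b1]
      exact (mul_smul_comm b' _ x).symm⟩
  have tB1B1'N1' : IsScalarTower B1 (B' ⊗[A'] (A' ⊗[A] A1))
    ((B' ⊗[A'] (A' ⊗[A] A1)) ⊗[B'] N') := inferInstance
  have tBB1N1' : IsScalarTower B B1 ((B' ⊗[A'] (A' ⊗[A] A1)) ⊗[B'] N') :=
    ⟨fun b b1 m => by
      rw [Algebra.smul_def]
      refine (mul_smul (algebraMap B B1 b) b1 m).trans ?_
      generalize b1 • m = y
      rw [← algebraMap_smul (B' ⊗[A'] (A' ⊗[A] A1)) (algebraMap B B1 b) y,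
        ← IsScalarTower.algebraMap_apply B B1 (B' ⊗[A'] (A' ⊗[A] A1)),
        algebraMap_smul (B' ⊗[A'] (A' ⊗[A] A1)) b y]⟩
  let g1 : N1 →ₗ[B1] (B' ⊗[A'] (A' ⊗[A] A1)) ⊗[B'] N' := hbc.lift ψ
  have hg1 : IsBaseChange (B' ⊗[A'] (A' ⊗[A] A1)) g1 := by
    apply IsBaseChange.of_comp hbc
    have : (g1.restrictScalars B).comp f1 = ψ := by
      ext x
      exact hbc.lift_eq ψ x
    rw [this]
    exact hψ
  -- the primes
  obtain ⟨s', s, hs'p, hsp, hle', hsp', hst, hs't'⟩ := exists_primes_tensor p p' t' t hle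
  have hft1 : Algebra.FiniteType A1 B1 := finiteType_of_isPushout (A := A) (B := B)
  have step1 := impurity_lift (A1 := A1) (A1' := A' ⊗[A] A1) N1
    ((B' ⊗[A'] (A' ⊗[A] A1)) ⊗[B'] N') g1 hg1
  obtain ⟨Q, hQp, hQo, hQa, hQno⟩ := step1 t' t s' s P hass hno
  have himp' : FlatCA.IsImpurity A' B' N' p' (A' ⊗[A] A1) (B' ⊗[A'] (A' ⊗[A] A1))
      ((B' ⊗[A'] (A' ⊗[A] A1)) ⊗[B'] N') (TensorProduct.mk B' (B' ⊗[A'] (A' ⊗[A] A1)) N' 1)
      s' s Q :=
    ⟨TensorProduct.isPushout, hbcN', hle', hsp', hQo, hQa, hQno⟩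
  constructor
  · intro hU
    exact hU _ _ _ _ s' s Q himp'
  · intro het hPure
    exact hPure _ _ _ _ s' s Q (isEtaleNhd_tensor p p' t s hsp' hst het) himp'

end Core

/-- Ring form, X = Spec B affine: let B be a finite type A-algebra, N a finite B-module, p a prime of A,
and A' an A-algebra with a prime p' over p such that the local ring of A' at p' is flat over A. Let
B', N' be the base changes of B, N to A'. If N' is pure along the fibre over p' then N is pure along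
the fibre over p, and likewise for universal purity. -/
theorem result {A B : Type u} [CommRing A] [CommRing B] [Algebra A B] [Algebra.FiniteType A B]
    (N : Type u) [AddCommGroup N] [Module B N] [Module.Finite B N] (p : Ideal A) [p.IsPrime]
    (A' B' N' : Type u) [CommRing A'] [CommRing B'] [Algebra A A'] [Algebra B B'] [Algebra A' B'] [Algebra A B']
    [IsScalarTower A B B'] [IsScalarTower A A' B'] [Algebra.IsPushout A B A' B']
    [AddCommGroup N'] [Module B' N'] [Module B N'] [IsScalarTower B B' N'] (f : N →ₗ[B] N') (hf : IsBaseChange B' f)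
    (p' : Ideal A') [p'.IsPrime] [p'.LiesOver p] [Module.Flat A (Localization.AtPrime p')] :
    (FlatCA.IsPureAlong A' B' N' p' → FlatCA.IsPureAlong A B N p) ∧
    (FlatCA.IsUnivPureAlong A' B' N' p' → FlatCA.IsUnivPureAlong A B N p) := by
  constructor
  · intro hpure A1 B1 N1 _ _ _ _ _ _ _ _ _ _ _ _ _ _ f1 t' t _ _ P _ hEt himp
    exact (core N p A' B' N' f hf p' A1 B1 N1 f1 t' t P himp).2 hEt hpure
  · intro hU A1 B1 N1 _ _ _ _ _ _ _ _ _ _ _ _ _ _ f1 t' t _ _ P _ himp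
    exact (core N p A' B' N' f hf p' A1 B1 N1 f1 t' t P himp).1 hU

end Groth.Agent.S1217
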