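import Groth.Statements.S1246
import Groth.Agent.Lib.Helper22PurityQF

set_option autoImplicit false
universe u
open FlatMor

namespace Groth.Agent.S1246

section Core

open TensorProduct

set_option linter.style.haveILetI false

attribute [local instance] Algebra.TensorProduct.rightAlgebra

open Groth.Agent.Lib.Helper22.PurityDescent Groth.Agent.Lib.Helper22.FiberAssLift
  Groth.Agent.Lib.Helper22.PurityQF

theorem core {A B : Type u} [CommRing A] [CommRing B] [Algebra A B] [Algebra.FiniteType A B]
    (N : Type u) [AddCommGroup N] [Module B N] (p : Ideal A) [p.IsPrime]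
    (A1 B1 N1 : Type u) [CommRing A1] [CommRing B1] [Algebra A A1] [Algebra B B1]
    [Algebra A1 B1] [Algebra A B1] [IsScalarTower A B B1] [IsScalarTower A A1 B1]
    [AddCommGroup N1] [Module B1 N1] [Module B N1] [IsScalarTower B B1 N1] [Module A1 N1]
    [IsScalarTower A1 B1 N1] (f1 : N →ₗ[B] N1) (t' t : Ideal A1) [t'.IsPrime] [t.IsPrime]
    (P : Ideal B1) [P.IsPrime]
    (himp : FlatCA.IsImpurity A B N p A1 B1 N1 f1 t' t P)
    [Algebra.FiniteType A A1] [Algebra.QuasiFiniteAt A t] :
    FlatCA.HasImpurity A B N p (fun A' _ _ t => ∃ _ : t.IsPrime, FlatCA.IsEtaleNhd A A' p t) := by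
  obtain ⟨hpo, hbc, hle, htp, hPt', hass, hno⟩ := himp
  obtain ⟨A2, _, _, het, s0, hs0p, hs0over, e, he, P', hP'p, hP'over, hP'comap, heP', hbij, hfin,
    huniq⟩ := Algebra.exists_etale_isIdempotentElem_forall_liesOver_eq p t
  -- flatness of `C = (A2 ⊗ A1)_e` over `A1`
  have hflatA2 : Module.Flat A A2 := inferInstance
  have hflatT : Module.Flat A1 (A2 ⊗[A] A1) :=
    Module.Flat.isBaseChange A A1 A2 _ (TensorProduct.isPushout' (R := A) (S := A2) (T := A1)).out
  have hflatC : Module.Flat A1 (Localization.Away e) :=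
    Module.Flat.trans A1 (A2 ⊗[A] A1) (Localization.Away e)
  -- the primes `u' ≤ u` of `C`
  have hdisj : Disjoint ((Submonoid.powers e : Submonoid (A2 ⊗[A] A1)) : Set (A2 ⊗[A] A1))
      (P' : Set (A2 ⊗[A] A1)) := by
    rwa [Ideal.disjoint_powers_iff_notMem_of_isPrime]
  have hup : (P'.map (algebraMap (A2 ⊗[A] A1) (Localization.Away e))).IsPrime :=
    IsLocalization.isPrime_of_isPrime_disjoint (.powers e) _ _ hP'p hdisj
  have hucomap : (P'.map (algebraMap (A2 ⊗[A] A1) (Localization.Away e))).comap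
      (algebraMap (A2 ⊗[A] A1) (Localization.Away e)) = P' :=
    IsLocalization.under_map_of_isPrime_disjoint (.powers e) _ hP'p hdisj
  have hut : (P'.map (algebraMap (A2 ⊗[A] A1) (Localization.Away e))).LiesOver t := by
    constructor
    rw [Ideal.under_def, IsScalarTower.algebraMap_eq A1 (A2 ⊗[A] A1) (Localization.Away e),
      ← Ideal.comap_comap, hucomap]
    exact hP'comap.symm
  have hus0 : (P'.map (algebraMap (A2 ⊗[A] A1) (Localization.Away e))).LiesOver s0 := by
    constructor
    rw [Ideal.under_def, IsScalarTower.algebraMap_eq A2 (A2 ⊗[A] A1) (Localization.Away e),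
      ← Ideal.comap_comap, hucomap]
    exact hP'over.over
  obtain ⟨u', hu'le, hu'p, hu'over⟩ := Ideal.exists_ideal_le_liesOver_of_le (p := t') (q := t)
    (P'.map (algebraMap (A2 ⊗[A] A1) (Localization.Away e))) hle
  -- uniqueness of `u` over `s0`
  have huniqC : ∀ (u'' : Ideal (Localization.Away e)) [u''.IsPrime], u''.LiesOver s0 →
      u'' = P'.map (algebraMap (A2 ⊗[A] A1) (Localization.Away e)) := by
    intro u'' hu''p hu''over
    have h1 : (u''.comap (algebraMap (A2 ⊗[A] A1) (Localization.Away e))).LiesOver s0 := by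
      constructor
      rw [Ideal.under_def, Ideal.comap_comap,
        ← IsScalarTower.algebraMap_eq A2 (A2 ⊗[A] A1) (Localization.Away e)]
      exact hu''over.over
    have h2 : e ∉ u''.comap (algebraMap (A2 ⊗[A] A1) (Localization.Away e)) := by
      intro hmem
      rw [Ideal.mem_comap] at hmem
      exact hu''p.ne_top (Ideal.eq_top_of_isUnit_mem _ hmem
        (IsLocalization.map_units (Localization.Away e) ⟨e, Submonoid.mem_powers e⟩))
    have h3 := huniq _ (Ideal.comap_isPrime _ _) h1 h2
    rw [← h3, IsLocalization.map_under (.powers e)]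
  -- Step A: the impurity over `C`
  have hft1 : Algebra.FiniteType A1 B1 := finiteType_of_isPushout (A := A) (B := B)
  have hbcNC : IsBaseChange (B1 ⊗[A1] (Localization.Away e))
      (TensorProduct.mk B1 (B1 ⊗[A1] (Localization.Away e)) N1 1) :=
    TensorProduct.isBaseChange B1 N1 (B1 ⊗[A1] (Localization.Away e))
  have stepA := impurity_lift (A1 := A1) (A1' := Localization.Away e) N1
    ((B1 ⊗[A1] (Localization.Away e)) ⊗[B1] N1)
    (TensorProduct.mk B1 (B1 ⊗[A1] (Localization.Away e)) N1 1) hbcNC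
  obtain ⟨Q, hQp, hQo, hQa, hQno⟩ := stepA t' t u'
    (P'.map (algebraMap (A2 ⊗[A] A1) (Localization.Away e))) P hass hno
  -- Step B: plumbing
  have tACBC : IsScalarTower A (Localization.Away e) (B1 ⊗[A1] (Localization.Away e)) :=
    .of_algebraMap_eq (fun a => by
      rw [IsScalarTower.algebraMap_apply A B1 (B1 ⊗[A1] (Localization.Away e)),
        IsScalarTower.algebraMap_apply A A1 B1,
        ← IsScalarTower.algebraMap_apply A1 B1 (B1 ⊗[A1] (Localization.Away e)),
        IsScalarTower.algebraMap_apply A1 (Localization.Away e) (B1 ⊗[A1] (Localization.Away e)),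
        ← IsScalarTower.algebraMap_apply A A1 (Localization.Away e)])
  letI algA2BC : Algebra A2 (B1 ⊗[A1] (Localization.Away e)) :=
    ((algebraMap (Localization.Away e) (B1 ⊗[A1] (Localization.Away e))).comp
      (algebraMap A2 (Localization.Away e))).toAlgebra
  have tA2CBC : IsScalarTower A2 (Localization.Away e) (B1 ⊗[A1] (Localization.Away e)) :=
    .of_algebraMap_eq (fun _ => rfl)
  have tAA2BC : IsScalarTower A A2 (B1 ⊗[A1] (Localization.Away e)) :=
    .of_algebraMap_eq (fun a => by
      rw [IsScalarTower.algebraMap_apply A2 (Localization.Away e) (B1 ⊗[A1] (Localization.Away e)),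
        ← IsScalarTower.algebraMap_apply A A2 (Localization.Away e),
        ← IsScalarTower.algebraMap_apply A (Localization.Away e)
          (B1 ⊗[A1] (Localization.Away e))])
  let γ : B ⊗[A] A2 →ₐ[A] B1 ⊗[A1] (Localization.Away e) :=
    Algebra.TensorProduct.productMap (IsScalarTower.toAlgHom A B (B1 ⊗[A1] (Localization.Away e)))
      (IsScalarTower.toAlgHom A A2 (B1 ⊗[A1] (Localization.Away e)))
  letI algB2BC : Algebra (B ⊗[A] A2) (B1 ⊗[A1] (Localization.Away e)) := γ.toRingHom.toAlgebra
  have tBB2BC : IsScalarTower B (B ⊗[A] A2) (B1 ⊗[A1] (Localization.Away e)) :=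
    .of_algebraMap_eq (fun b => by
      change algebraMap B (B1 ⊗[A1] (Localization.Away e)) b = γ (b ⊗ₜ[A] (1 : A2))
      rw [Algebra.TensorProduct.productMap_left_apply]
      rfl)
  have tA2B2BC : IsScalarTower A2 (B ⊗[A] A2) (B1 ⊗[A1] (Localization.Away e)) :=
    .of_algebraMap_eq (fun x => by
      change algebraMap A2 (B1 ⊗[A1] (Localization.Away e)) x = γ ((1 : B) ⊗ₜ[A] x)
      rw [Algebra.TensorProduct.productMap_right_apply]
      rfl)
  have tAB2BC : IsScalarTower A (B ⊗[A] A2) (B1 ⊗[A1] (Localization.Away e)) :=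
    .of_algebraMap_eq (fun a => (γ.commutes a).symm)
  -- the pushout squares
  have hpoa : Algebra.IsPushout A A1 B B1 := Algebra.IsPushout.symm hpo
  have hpob : Algebra.IsPushout A1 (Localization.Away e) B1 (B1 ⊗[A1] (Localization.Away e)) :=
    Algebra.IsPushout.symm TensorProduct.isPushout
  have hpoc : Algebra.IsPushout A (Localization.Away e) B (B1 ⊗[A1] (Localization.Away e)) :=
    (Algebra.IsPushout.comp_iff A A1 B B1).mpr hpob
  have hpod : Algebra.IsPushout A A2 B (B ⊗[A] A2) := Algebra.IsPushout.symm TensorProduct.isPushout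
  have hpoe : Algebra.IsPushout A2 (Localization.Away e) (B ⊗[A] A2)
      (B1 ⊗[A1] (Localization.Away e)) :=
    (Algebra.IsPushout.comp_iff A A2 B (B ⊗[A] A2)).mp hpoc
  have hpof : Algebra.IsPushout A2 (B ⊗[A] A2) (Localization.Away e)
      (B1 ⊗[A1] (Localization.Away e)) := Algebra.IsPushout.symm hpoe
  -- the modules
  have hbcN2 : IsBaseChange (B ⊗[A] A2) (TensorProduct.mk B (B ⊗[A] A2) N 1) :=
    TensorProduct.isBaseChange B N (B ⊗[A] A2)
  let ψ : N →ₗ[B] (B1 ⊗[A1] (Localization.Away e)) ⊗[B1] N1 :=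
    ((TensorProduct.mk B1 (B1 ⊗[A1] (Localization.Away e)) N1 1).restrictScalars B).comp f1
  have hψ : IsBaseChange (B1 ⊗[A1] (Localization.Away e)) ψ := IsBaseChange.comp hbc hbcNC
  have hcommB2 : SMulCommClass B1 (B ⊗[A] A2) (B1 ⊗[A1] (Localization.Away e)) :=
    ⟨fun b1 b2 x => by
      rw [Algebra.smul_def b2, Algebra.smul_def b2]
      exact (mul_smul_comm b1 _ x).symm⟩
  have tB2BCNC : IsScalarTower (B ⊗[A] A2) (B1 ⊗[A1] (Localization.Away e))
    ((B1 ⊗[A1] (Localization.Away e)) ⊗[B1] N1) := inferInstance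
  have tBB2NC : IsScalarTower B (B ⊗[A] A2) ((B1 ⊗[A1] (Localization.Away e)) ⊗[B1] N1) :=
    ⟨fun b b2 m => by
      rw [Algebra.smul_def]
      refine (mul_smul (algebraMap B (B ⊗[A] A2) b) b2 m).trans ?_
      generalize b2 • m = y
      rw [← algebraMap_smul (B1 ⊗[A1] (Localization.Away e)) (algebraMap B (B ⊗[A] A2) b) y,
        ← IsScalarTower.algebraMap_apply B (B ⊗[A] A2) (B1 ⊗[A1] (Localization.Away e)),
        algebraMap_smul (B1 ⊗[A1] (Localization.Away e)) b y]⟩
  let g2 : (B ⊗[A] A2) ⊗[B] N →ₗ[B ⊗[A] A2] (B1 ⊗[A1] (Localization.Away e)) ⊗[B1] N1 :=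
    hbcN2.lift ψ
  have hg2 : IsBaseChange (B1 ⊗[A1] (Localization.Away e)) g2 := by
    apply IsBaseChange.of_comp hbcN2
    have : (g2.restrictScalars B).comp (TensorProduct.mk B (B ⊗[A] A2) N 1) = ψ := by
      ext x
      exact hbcN2.lift_eq ψ x
    rw [this]
    exact hψ
  -- Step B: descend the impurity to `A2`
  have hft2 : Algebra.FiniteType A2 (B ⊗[A] A2) := finiteType_of_isPushout (A := A) (B := B)
  have stepB := impurity_pushdown_finite (A2 := A2) (C := Localization.Away e)
    ((B ⊗[A] A2) ⊗[B] N) ((B1 ⊗[A1] (Localization.Away e)) ⊗[B1] N1) g2 hg2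
  obtain ⟨hs'le, hQ0over, hQ0ass, hQ0no⟩ := stepB u'
    (P'.map (algebraMap (A2 ⊗[A] A1) (Localization.Away e))) hu'le s0 huniqC Q hQa hQno
  refine ⟨A2, B ⊗[A] A2, (B ⊗[A] A2) ⊗[B] N, inferInstance, inferInstance, inferInstance,
    inferInstance, inferInstance, inferInstance, inferInstance, inferInstance, inferInstance,
    inferInstance, inferInstance, inferInstance, inferInstance, inferInstance,
    TensorProduct.mk B (B ⊗[A] A2) N 1, u'.under A2, s0, Ideal.comap_isPrime _ _, hs0p,
    Q.comap (algebraMap (B ⊗[A] A2) (B1 ⊗[A1] (Localization.Away e))), Ideal.comap_isPrime _ _,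
    ⟨TensorProduct.isPushout, hbcN2, hs'le, hs0over, hQ0over, hQ0ass, hQ0no⟩, hs0p,
    ⟨het, hs0over, hbij⟩⟩

end Core

/-- Ring form, X = Spec B affine: let B be a finite type A-algebra, N a finite B-module and p a prime of
A. If there is an impurity of N above p whose base change A → A' is of finite type and quasi-finite
at the point t, then there is an impurity of N above p for which (A', t) is an elementary étale ring
map at p. -/
theorem result {A B : Type u} [CommRing A] [CommRing B] [Algebra A B] [Algebra.FiniteType A B]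
    (N : Type u) [AddCommGroup N] [Module B N] [Module.Finite B N] (p : Ideal A) [p.IsPrime]
    (h : FlatCA.HasImpurity A B N p (fun A' _ _ t => ∃ _ : t.IsPrime, Algebra.FiniteType A A' ∧ Algebra.QuasiFiniteAt A t)) :
    FlatCA.HasImpurity A B N p (fun A' _ _ t => ∃ _ : t.IsPrime, FlatCA.IsEtaleNhd A A' p t) := by
  obtain ⟨A1, B1, N1, _, _, _, _, _, _, _, _, _, _, _, _, _, _, f1, t', t, _, _, P, _, himp, ht, hft,
    hqf⟩ := h
  exact core N p A1 B1 N1 f1 t' t P himp

end Groth.Agent.S1246
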