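import Groth.Statements.S1224
import Mathlib.RingTheory.Ideal.GoingUp
import Mathlib.RingTheory.IntegralClosure.Algebra.Basic
import Mathlib.RingTheory.TensorProduct.Finite
import Mathlib.RingTheory.IsTensorProduct
import Mathlib.RingTheory.LocalRing.ResidueField.Fiber
import Mathlib.RingTheory.Ideal.Quotient.Operations
-- import your own Groth.Agent.* helpers here

set_option autoImplicit false
universe u
open FlatMor

namespace Groth.Agent.S1224

open TensorProduct FlatCA

attribute [local instance] Algebra.TensorProduct.rightAlgebra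

section
variable {R : Type u} [CommRing R] (p : Ideal R) [p.IsPrime] {S : Type u} [CommRing S]
  [Algebra R S]

lemma comap_fiberIdeal (q : Ideal S) [q.IsPrime] [q.LiesOver p] :
    (fiberIdeal p q).comap
      (Algebra.TensorProduct.includeRight (R := R) (A := p.ResidueField) (B := S)).toRingHom = q := by
  apply le_antisymm
  · let Q : p.primesOver S := ⟨q, ⟨inferInstance, inferInstance⟩⟩
    let 𝔓 := (PrimeSpectrum.primesOverOrderIsoFiber R S p) Q
    have h1 : 𝔓.1.comap Algebra.TensorProduct.includeRight = q := by
      have := PrimeSpectrum.coe_primesOverOrderIsoFiber_symm_apply (R := R) (S := S) (p := p) 𝔓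
      rw [OrderIso.symm_apply_apply] at this
      exact this.symm
    have h2 : fiberIdeal p q ≤ 𝔓.1 := by
      unfold fiberIdeal
      rw [Ideal.map_le_iff_le_comap]
      exact h1.symm.le
    calc (fiberIdeal p q).comap _ ≤ 𝔓.1.comap _ := Ideal.comap_mono h2
      _ = q := h1
  · exact Ideal.le_comap_map

variable (N : Type u) [AddCommGroup N] [Module S N]

lemma includeRight_smul_eq_zero' (b : S) (hb : b ∈ Module.annihilator S N) (x : (p.Fiber S) ⊗[S] N) :
    (Algebra.TensorProduct.includeRight (R := R) (A := p.ResidueField) (B := S) b) • x = 0 := by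
  induction x using TensorProduct.induction_on with
  | zero => rw [smul_zero]
  | tmul c n =>
    rw [TensorProduct.smul_tmul', smul_eq_mul, mul_comm]
    have : c * (Algebra.TensorProduct.includeRight (R := R) (A := p.ResidueField) (B := S) b) = b • c := by
      rw [Algebra.smul_def, mul_comm]
      rfl
    rw [this, TensorProduct.smul_tmul, Module.mem_annihilator.1 hb n, tmul_zero]
  | add x y hx hy => rw [smul_add, hx, hy, add_zero]

lemma includeRight_smul_eq_zero (b : S) (hb : b ∈ Module.annihilator S N) (x : fiberMod p S N) :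
    (Algebra.TensorProduct.includeRight (R := R) (A := p.ResidueField) (B := S) b) • x = 0 :=
  includeRight_smul_eq_zero' p N b hb x

lemma annihilator_le_of_fiberIdeal_mem (q : Ideal S) [q.IsPrime] [q.LiesOver p]
    (h : fiberIdeal p q ∈ associatedPrimes (p.Fiber S) (fiberMod p S N)) :
    Module.annihilator S N ≤ q := by
  intro b hb
  obtain ⟨_, x, hx⟩ := h
  rw [← comap_fiberIdeal p q, Ideal.mem_comap, hx]
  apply Ideal.le_radical
  rw [Submodule.mem_colon_singleton, Submodule.mem_bot]
  exact includeRight_smul_eq_zero p N b hb x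

end

/-- Ring form, X = Spec B affine, where proper support means finite support: let B be a finite type
A-algebra and N a finite B-module such that B modulo the annihilator of N is finite over A. Then N
is universally pure relative to Spec A. -/
theorem result {A B : Type u} [CommRing A] [CommRing B] [Algebra A B] [Algebra.FiniteType A B]
    (N : Type u) [AddCommGroup N] [Module B N] [Module A N] [IsScalarTower A B N] [Module.Finite B N]
    [Module.Finite A (B ⧸ Module.annihilator B N)] : FlatCA.IsUnivPure A B N := by
  intro p _ A' B' N' _ _ _ _ _ _ _ _ _ _ _ _ _ _ f t' t _ _ P _ himp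
  obtain ⟨hpush, hbc, hle, hlies, hPlies, hass, hno⟩ := himp
  -- Step 1
  have h1 : Module.annihilator B' N' ≤ P := annihilator_le_of_fiberIdeal_mem t' N' P hass
  -- Step 2
  set I := Module.annihilator B N with hI
  set J := I.map (algebraMap B B') with hJ
  have h2 : J ≤ Module.annihilator B' N' := by
    rw [hJ, Ideal.map_le_iff_le_comap]
    intro b hb
    rw [Ideal.mem_comap, Module.mem_annihilator]
    intro n'
    induction n' using hbc.inductionOn with
    | zero => rw [smul_zero]
    | tmul n =>
      rw [algebraMap_smul, ← map_smul, Module.mem_annihilator.1 hb n, map_zero]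
    | smul s n' ih => rw [smul_comm, ih, smul_zero]
    | add x y hx hy => rw [smul_add, hx, hy, add_zero]
  have hJP : J ≤ P := h2.trans h1
  -- Step 3
  have hbcB : IsBaseChange A' (IsScalarTower.toAlgHom A B B').toLinearMap := hpush.symm.out
  let ψ : (B ⧸ I) →ₐ[A] (B' ⧸ J) :=
    Ideal.quotientMapₐ J (IsScalarTower.toAlgHom A B B') Ideal.le_comap_map
  let Ψ : A' ⊗[A] (B ⧸ I) →ₗ[A'] (B' ⧸ J) := LinearMap.liftBaseChange A' ψ.toLinearMap
  have hΨ : Function.Surjective Ψ := by
    intro y
    obtain ⟨b', rfl⟩ := Ideal.Quotient.mk_surjective y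
    rw [← LinearMap.mem_range]
    induction b' using hbcB.inductionOn with
    | zero => rw [map_zero]; exact Submodule.zero_mem _
    | tmul b =>
      refine ⟨(1 : A') ⊗ₜ[A] (Ideal.Quotient.mk I b), ?_⟩
      simp only [Ψ, LinearMap.liftBaseChange_tmul, one_smul]
      rfl
    | smul a' b' ih =>
      have : (Ideal.Quotient.mk J) (a' • b') = a' • (Ideal.Quotient.mk J) b' := by
        rw [Algebra.smul_def, map_mul, Algebra.smul_def]
        rfl
      rw [this]
      exact Submodule.smul_mem _ _ ih
    | add x y hx hy =>
      rw [map_add]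
      exact Submodule.add_mem _ hx hy
  haveI : Module.Finite A' (B' ⧸ J) := Module.Finite.of_surjective Ψ hΨ
  haveI : Algebra.IsIntegral A' (B' ⧸ J) := Algebra.IsIntegral.of_finite A' _
  -- Step 4
  set Pbar := P.map (Ideal.Quotient.mk J) with hPbar
  have hmk : Function.Surjective (Ideal.Quotient.mk J) := Ideal.Quotient.mk_surjective
  haveI : Pbar.IsPrime := Ideal.map_isPrime_of_surjective hmk (by rw [Ideal.mk_ker]; exact hJP)
  have hcm : Pbar.comap (Ideal.Quotient.mk J) = P := by
    rw [hPbar, Ideal.comap_map_of_surjective _ hmk, ← RingHom.ker_eq_comap_bot, Ideal.mk_ker]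
    exact sup_eq_left.2 hJP
  have hcomap : Pbar.comap (algebraMap A' (B' ⧸ J)) ≤ t := by
    intro x hx
    apply hle
    have hx' : algebraMap A' B' x ∈ Pbar.comap (Ideal.Quotient.mk J) := hx
    rw [hcm] at hx'
    rw [hPlies.over, Ideal.under_def]
    exact hx'
  obtain ⟨Q, hQge, hQprime, hQcomap⟩ :=
    Ideal.exists_ideal_over_prime_of_isIntegral_of_isPrime t Pbar hcomap
  refine hno (Q.comap (Ideal.Quotient.mk J)) (Ideal.map_le_iff_le_comap.1 hQge) ⟨?_⟩
  rw [Ideal.under_def, ← hQcomap]
  rfl

end Groth.Agent.S1224
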