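import Groth.Statements.S1245
import Groth.Agent.Lib.Helper22ImpurityStage
import Groth.Agent.Lib.Helper22PurityDescent

set_option autoImplicit false
universe u
open FlatMor

namespace Groth.Agent.S1245

section Core

open TensorProduct

set_option linter.style.haveILetI false

attribute [local instance] Algebra.TensorProduct.rightAlgebra

open Groth.Agent.Lib.Helper22.ImpurityStage Groth.Agent.Lib.Helper22.PurityDescent
  Groth.Agent.Lib.Helper22.FiberAssLift

theorem core {A B : Type u} [CommRing A] [CommRing B] [Algebra A B] [Algebra.FiniteType A B]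
    (N : Type u) [AddCommGroup N] [Module B N] (p : Ideal A) [p.IsPrime]
    (A1 B1 N1 : Type u) [CommRing A1] [CommRing B1] [Algebra A A1] [Algebra B B1]
    [Algebra A1 B1] [Algebra A B1] [IsScalarTower A B B1] [IsScalarTower A A1 B1]
    [AddCommGroup N1] [Module B1 N1] [Module B N1] [IsScalarTower B B1 N1] [Module A1 N1]
    [IsScalarTower A1 B1 N1] (f1 : N →ₗ[B] N1) (t' t : Ideal A1) [t'.IsPrime] [t.IsPrime]
    (P : Ideal B1) [P.IsPrime]
    (himp : FlatCA.IsImpurity A B N p A1 B1 N1 f1 t' t P) :
    FlatCA.HasImpurity A B N p (fun A' _ _ t =>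
      Algebra.FinitePresentation A A' ∧ (FlatCA.fiberIdeal p t).IsMaximal) := by
  classical
  obtain ⟨hpo, hbc, hle, htp, hPt', hass, hno⟩ := himp
  -- Step 1: localize at `t`
  have hdisj : Disjoint ((t.primeCompl : Submonoid A1) : Set A1) (t' : Set A1) := by
    rw [Set.disjoint_left]
    intro a ha ha'
    exact ha (hle ha')
  have hu'p : (t'.map (algebraMap A1 (Localization.AtPrime t))).IsPrime :=
    IsLocalization.isPrime_of_isPrime_disjoint t.primeCompl _ _ inferInstance hdisj
  have hu'over : (t'.map (algebraMap A1 (Localization.AtPrime t))).LiesOver t' :=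
    ⟨(IsLocalization.under_map_of_isPrime_disjoint t.primeCompl _ inferInstance hdisj).symm⟩
  have huover : (IsLocalRing.maximalIdeal (Localization.AtPrime t)).LiesOver t :=
    ⟨(Localization.AtPrime.under_maximalIdeal).symm⟩
  have hu'le : t'.map (algebraMap A1 (Localization.AtPrime t)) ≤
      IsLocalRing.maximalIdeal (Localization.AtPrime t) :=
    IsLocalRing.le_maximalIdeal hu'p.ne_top
  have hft1 : Algebra.FiniteType A1 B1 := finiteType_of_isPushout (A := A) (B := B)
  have hbcNl : IsBaseChange (B1 ⊗[A1] (Localization.AtPrime t))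
      (TensorProduct.mk B1 (B1 ⊗[A1] (Localization.AtPrime t)) N1 1) :=
    TensorProduct.isBaseChange B1 N1 (B1 ⊗[A1] (Localization.AtPrime t))
  have stepA := impurity_lift (A1 := A1) (A1' := Localization.AtPrime t) N1
    ((B1 ⊗[A1] (Localization.AtPrime t)) ⊗[B1] N1)
    (TensorProduct.mk B1 (B1 ⊗[A1] (Localization.AtPrime t)) N1 1) hbcNl
  obtain ⟨Q, hQp, hQo, hQa, hQno⟩ := stepA t' t
    (t'.map (algebraMap A1 (Localization.AtPrime t)))
    (IsLocalRing.maximalIdeal (Localization.AtPrime t)) P hass hno
  have hone : algebraMap (Localization.AtPrime t) (B1 ⊗[A1] (Localization.AtPrime t)) 1 ∈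
      Q ⊔ (IsLocalRing.maximalIdeal (Localization.AtPrime t)).map
        (algebraMap (Localization.AtPrime t) (B1 ⊗[A1] (Localization.AtPrime t))) := by
    obtain ⟨σ, hσ, hmem⟩ := exists_notMem_mem_sup
      (IsLocalRing.maximalIdeal (Localization.AtPrime t)) Q hQno
    have hunit : IsUnit σ := by
      by_contra h
      exact hσ ((IsLocalRing.mem_maximalIdeal σ).mpr h)
    obtain ⟨v, rfl⟩ := hunit
    have h1 := Ideal.mul_mem_left _
      (algebraMap (Localization.AtPrime t) (B1 ⊗[A1] (Localization.AtPrime t)) (↑v⁻¹)) hmem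
    rwa [← map_mul, Units.inv_mul] at h1
  -- the squares over `A`
  have tAAlBl : IsScalarTower A (Localization.AtPrime t) (B1 ⊗[A1] (Localization.AtPrime t)) :=
    .of_algebraMap_eq (fun a => by
      rw [IsScalarTower.algebraMap_apply A B1 (B1 ⊗[A1] (Localization.AtPrime t)),
        IsScalarTower.algebraMap_apply A A1 B1,
        ← IsScalarTower.algebraMap_apply A1 B1 (B1 ⊗[A1] (Localization.AtPrime t)),
        IsScalarTower.algebraMap_apply A1 (Localization.AtPrime t)
          (B1 ⊗[A1] (Localization.AtPrime t)),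
        ← IsScalarTower.algebraMap_apply A A1 (Localization.AtPrime t)])
  have hpoa : Algebra.IsPushout A A1 B B1 := Algebra.IsPushout.symm hpo
  have hpob : Algebra.IsPushout A1 (Localization.AtPrime t) B1
      (B1 ⊗[A1] (Localization.AtPrime t)) := Algebra.IsPushout.symm TensorProduct.isPushout
  have hpoc : Algebra.IsPushout A (Localization.AtPrime t) B (B1 ⊗[A1] (Localization.AtPrime t)) :=
    (Algebra.IsPushout.comp_iff A A1 B B1).mpr hpob
  have hpod : Algebra.IsPushout A B (Localization.AtPrime t) (B1 ⊗[A1] (Localization.AtPrime t)) :=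
    Algebra.IsPushout.symm hpoc
  let ψ : N →ₗ[B] (B1 ⊗[A1] (Localization.AtPrime t)) ⊗[B1] N1 :=
    ((TensorProduct.mk B1 (B1 ⊗[A1] (Localization.AtPrime t)) N1 1).restrictScalars B).comp f1
  have hψ : IsBaseChange (B1 ⊗[A1] (Localization.AtPrime t)) ψ := IsBaseChange.comp hbc hbcNl
  -- Step 2: a finite stage
  have step2 := exists_finset_stage (A := A) (B := B) (A1 := Localization.AtPrime t)
    (B1 := B1 ⊗[A1] (Localization.AtPrime t)) N
    ((B1 ⊗[A1] (Localization.AtPrime t)) ⊗[B1] N1) ψ hpod hψ
  obtain ⟨S, hS⟩ := step2 (t'.map (algebraMap A1 (Localization.AtPrime t)))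
    (IsLocalRing.maximalIdeal (Localization.AtPrime t)) Q hQa 1 hone
  -- Step 3: the polynomial ring on `S`
  letI algA0Al : Algebra (MvPolynomial S A) (Localization.AtPrime t) :=
    (MvPolynomial.aeval (fun a : S => (a : Localization.AtPrime t))).toRingHom.toAlgebra
  have tAA0Al : IsScalarTower A (MvPolynomial S A) (Localization.AtPrime t) :=
    .of_algebraMap_eq (fun a =>
      ((MvPolynomial.aeval (fun a : S => (a : Localization.AtPrime t))).commutes a).symm)
  have hrange : ∀ a ∈ S, a ∈ Set.range (algebraMap (MvPolynomial S A) (Localization.AtPrime t)) := by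
    intro a ha
    exact ⟨MvPolynomial.X ⟨a, ha⟩, MvPolynomial.aeval_X _ _⟩
  obtain ⟨P0, hP0p, hP0o, hP0a, hP0s⟩ := hS (MvPolynomial S A) hrange
  have h1 := hP0s 1 (map_one _)
  rw [map_one] at h1
  -- Step 4: a closed point of the fibre
  have ht0over : ((IsLocalRing.maximalIdeal (Localization.AtPrime t)).under
      (MvPolynomial S A)).LiesOver p := by
    constructor
    rw [Ideal.under_def, Ideal.under_def, Ideal.comap_comap,
      ← IsScalarTower.algebraMap_eq A (MvPolynomial S A) (Localization.AtPrime t),
      IsScalarTower.algebraMap_eq A A1 (Localization.AtPrime t), ← Ideal.comap_comap]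
    have h2 : (IsLocalRing.maximalIdeal (Localization.AtPrime t)).comap
        (algebraMap A1 (Localization.AtPrime t)) = t := huover.over.symm
    rw [h2]
    exact htp.over
  have hcf := comap_fiberIdeal p ((IsLocalRing.maximalIdeal (Localization.AtPrime t)).under
      (MvPolynomial S A))
  have hne : FlatCA.fiberIdeal p ((IsLocalRing.maximalIdeal (Localization.AtPrime t)).under
      (MvPolynomial S A)) ≠ ⊤ := by
    intro htop
    rw [htop, Ideal.comap_top] at hcf
    exact (Ideal.IsPrime.ne_top inferInstance) hcf.symm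
  obtain ⟨𝔪, h𝔪max, h𝔪le⟩ := Ideal.exists_le_maximal _ hne
  have h𝔪prime : 𝔪.IsPrime := h𝔪max.isPrime
  have ht1over : (𝔪.comap (algebraMap (MvPolynomial S A) (p.Fiber (MvPolynomial S A)))).LiesOver p := by
    have hover : 𝔪.LiesOver p := inferInstance
    constructor
    ext a
    rw [Ideal.under_def, Ideal.mem_comap, Ideal.mem_comap,
      ← IsScalarTower.algebraMap_apply A (MvPolynomial S A) (p.Fiber (MvPolynomial S A))]
    have h2 : a ∈ p ↔ a ∈ 𝔪.under A := by rw [← hover.over]
    rw [h2, Ideal.under_def, Ideal.mem_comap]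
  have ht0t1 : (IsLocalRing.maximalIdeal (Localization.AtPrime t)).under (MvPolynomial S A) ≤
      𝔪.comap (algebraMap (MvPolynomial S A) (p.Fiber (MvPolynomial S A))) := by
    rw [← hcf]
    exact Ideal.comap_mono h𝔪le
  have hfib : FlatCA.fiberIdeal p
      (𝔪.comap (algebraMap (MvPolynomial S A) (p.Fiber (MvPolynomial S A)))) = 𝔪 :=
    Groth.Agent.Lib.Helper22.UnivInjGlob.map_comap_fiber p 𝔪
  have ht0't0 : (t'.map (algebraMap A1 (Localization.AtPrime t))).under (MvPolynomial S A) ≤
      (IsLocalRing.maximalIdeal (Localization.AtPrime t)).under (MvPolynomial S A) :=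
    Ideal.comap_mono hu'le
  refine ⟨MvPolynomial S A, B ⊗[A] MvPolynomial S A, (B ⊗[A] MvPolynomial S A) ⊗[B] N,
    inferInstance, inferInstance, inferInstance,
    inferInstance, inferInstance, inferInstance, inferInstance, inferInstance, inferInstance,
    inferInstance, inferInstance, inferInstance, inferInstance, inferInstance,
    TensorProduct.mk B (B ⊗[A] MvPolynomial S A) N 1,
    (t'.map (algebraMap A1 (Localization.AtPrime t))).under (MvPolynomial S A),
    𝔪.comap (algebraMap (MvPolynomial S A) (p.Fiber (MvPolynomial S A))),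
    Ideal.comap_isPrime _ _, Ideal.comap_isPrime _ _, P0, hP0p,
    ⟨TensorProduct.isPushout, TensorProduct.isBaseChange B N (B ⊗[A] MvPolynomial S A),
      ht0't0.trans ht0t1, ht1over, hP0o, hP0a, fun P' _ hPP' => ?_⟩, inferInstance, ?_⟩
  · refine no_prime_of_mem_sup _ P0 1 ?_ ?_ P' hPP'
    · intro hmem
      exact (Ideal.IsPrime.ne_top (Ideal.comap_isPrime _ _)) ((Ideal.eq_top_iff_one _).mpr hmem)
    · rw [map_one]
      exact (sup_le_sup_left (Ideal.map_mono ht0t1) P0) h1
  · rw [hfib]
    exact h𝔪max

end Core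

/-- Ring form, X = Spec B affine, base change rings affine: let B be a finite type A-algebra, N a finite
B-module and p a prime of A. If there is an impurity of N above p, then there is one whose base
change A → A' is of finite presentation and whose point t is a closed point of the fibre of Spec A'
over p (the extension of t to the fibre ring is maximal). -/
theorem result {A B : Type u} [CommRing A] [CommRing B] [Algebra A B] [Algebra.FiniteType A B]
    (N : Type u) [AddCommGroup N] [Module B N] [Module.Finite B N] (p : Ideal A) [p.IsPrime]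
    (h : FlatCA.HasImpurity A B N p (fun _ _ _ _ => True)) :
    FlatCA.HasImpurity A B N p (fun A' _ _ t => Algebra.FinitePresentation A A' ∧ (FlatCA.fiberIdeal p t).IsMaximal) := by
  obtain ⟨A1, B1, N1, _, _, _, _, _, _, _, _, _, _, _, _, _, _, f1, t', t, _, _, P, _, himp, _⟩ := h
  exact core N p A1 B1 N1 f1 t' t P himp

end Groth.Agent.S1245
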