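import Groth.Statements.S1247
import Groth.Agent.Lib.Helper22NoethMain
import Groth.Agent.S1245

set_option autoImplicit false
universe u
open FlatMor

namespace Groth.Agent.S1247

/-- Ring form, X = Spec B and S = Spec A affine with A Noetherian: let B be a finite type A-algebra, N a
finite B-module and p a prime of A. If there is an impurity of N above p then there is one whose
base change A → A' is of finite type and quasi-finite at the point t. -/
theorem result {A B : Type u} [CommRing A] [IsNoetherianRing A] [CommRing B] [Algebra A B] [Algebra.FiniteType A B]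
    (N : Type u) [AddCommGroup N] [Module B N] [Module.Finite B N] (p : Ideal A) [p.IsPrime]
    (h : FlatCA.HasImpurity A B N p (fun _ _ _ _ => True)) :
    FlatCA.HasImpurity A B N p (fun A' _ _ t => ∃ _ : t.IsPrime, Algebra.FiniteType A A' ∧ Algebra.QuasiFiniteAt A t) := by
  obtain ⟨A1, B1, N1, _, _, _, _, _, _, _, _, _, _, _, _, _, _, f1, t', t, _, _, P, _, himp, hfp,
    hmax⟩ := Groth.Agent.S1245.result N p h
  haveI : Algebra.FiniteType A A1 := inferInstance
  exact Groth.Agent.Lib.Helper22.NoethMain.core N p A1 B1 N1 f1 t' t P himp hmax

end Groth.Agent.S1247
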