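import Groth.Statements.S1296
import Groth.Agent.Lib.Helper22ImpurityStage

set_option autoImplicit false
universe u
open FlatMor

namespace Groth.Agent.S1296

section Core

open TensorProduct

set_option linter.style.haveILetI false

attribute [local instance] Algebra.TensorProduct.rightAlgebra

open Groth.Agent.Lib.Helper22.ImpurityStage

theorem exists_stage_finset {ι : Type u} [Preorder ι] (G : ι → Type u) [∀ i, CommRing (G i)]
    (g : ∀ i j, i ≤ j → G i →+* G j) (A' : Type u) [CommRing A'] [∀ i, Algebra (G i) A']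
    (hcolim : FlatCA.IsDirectedColimitRing G g A') (S : Finset A') :
    ∃ i, ∀ a ∈ S, a ∈ Set.range (algebraMap (G i) A') := by
  classical
  obtain ⟨hdir, hne, -, -, hcompat, hsurj, -⟩ := hcolim
  induction S using Finset.induction_on with
  | empty => exact ⟨hne.some, fun a ha => absurd ha (Finset.notMem_empty a)⟩
  | insert a S _ ih =>
    obtain ⟨i, hi⟩ := ih
    obtain ⟨j, x, hx⟩ := hsurj a
    obtain ⟨k, hik, hjk⟩ := hdir.directed i j
    refine ⟨k, fun b hb => ?_⟩
    rcases Finset.mem_insert.mp hb with rfl | hb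
    · refine ⟨g j k hjk x, ?_⟩
      rw [← hx, ← hcompat j k hjk]
      rfl
    · obtain ⟨y, hy⟩ := hi b hb
      refine ⟨g i k hik y, ?_⟩
      rw [← hy, ← hcompat i k hik]
      rfl

theorem main {A B : Type u} [CommRing A] [CommRing B] [Algebra A B] [Algebra.FiniteType A B]
    (N : Type u) [AddCommGroup N] [Module B N] (p : Ideal A) [p.IsPrime]
    {ι : Type u} [Preorder ι] (G : ι → Type u) [∀ i, CommRing (G i)] [∀ i, Algebra A (G i)]
    (g : ∀ i j, i ≤ j → G i →ₐ[A] G j)
    (A' : Type u) [CommRing A'] [Algebra A A'] [∀ i, Algebra (G i) A'] [∀ i, IsScalarTower A (G i) A']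
    (hcolim : FlatCA.IsDirectedColimitRing G (fun i j h => (g i j h).toRingHom) A')
    (B' N' : Type u) [CommRing B'] [Algebra B B'] [Algebra A' B'] [Algebra A B'] [IsScalarTower A B B'] [IsScalarTower A A' B']
    [AddCommGroup N'] [Module B' N'] [Module B N'] [IsScalarTower B B' N'] [Module A' N'] [IsScalarTower A' B' N']
    (f : N →ₗ[B] N') (t' t : Ideal A') [t'.IsPrime] [t.IsPrime] (P : Ideal B') [P.IsPrime]
    (himp : FlatCA.IsImpurity A B N p A' B' N' f t' t P) :
    ∃ i : ι, FlatCA.HasImpurity A B N p (fun A'' _ _ t'' => ∃ e : A'' ≃ₐ[A] G i, t''.map e = t.comap (algebraMap (G i) A')) := by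
  classical
  obtain ⟨hpo, hbc, hle, htp, hPt', hass, hno⟩ := himp
  obtain ⟨σ, hσt, hσ⟩ := exists_notMem_mem_sup t P hno
  obtain ⟨S, hS⟩ := exists_finset_stage N N' f hpo hbc t' t P hass σ hσ
  obtain ⟨i, hi⟩ := exists_stage_finset G (fun i j h => (g i j h).toRingHom) A' hcolim (insert σ S)
  obtain ⟨P0, hP0p, hP0o, hP0a, hP0s⟩ := hS (G i) (fun a ha => hi a (Finset.mem_insert_of_mem ha))
  obtain ⟨σ0, hσ0⟩ := hi σ (Finset.mem_insert_self σ S)
  have hσ0t : σ0 ∉ t.under (G i) := by
    rw [Ideal.under_def, Ideal.mem_comap, hσ0]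
    exact hσt
  have hover : (t.under (G i)).LiesOver p := by
    constructor
    rw [Ideal.under_def, Ideal.under_def, Ideal.comap_comap,
      ← IsScalarTower.algebraMap_eq A (G i) A']
    exact htp.over
  refine ⟨i, G i, B ⊗[A] G i, (B ⊗[A] G i) ⊗[B] N, inferInstance, inferInstance, inferInstance,
    inferInstance, inferInstance, inferInstance, inferInstance, inferInstance, inferInstance,
    inferInstance, inferInstance, inferInstance, inferInstance, inferInstance,
    TensorProduct.mk B (B ⊗[A] G i) N 1, t'.under (G i), t.under (G i), Ideal.comap_isPrime _ _,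
    Ideal.comap_isPrime _ _, P0, hP0p,
    ⟨TensorProduct.isPushout, TensorProduct.isBaseChange B N (B ⊗[A] G i), Ideal.comap_mono hle,
      hover, hP0o, hP0a, fun P' _ hPP' => no_prime_of_mem_sup (t.under (G i)) P0 σ0 hσ0t
        (hP0s σ0 hσ0) P' hPP'⟩, AlgEquiv.refl, ?_⟩
  apply le_antisymm
  · rw [Ideal.map_le_iff_le_comap]
    intro x hx
    exact hx
  · intro x hx
    have : x = (AlgEquiv.refl : G i ≃ₐ[A] G i) x := rfl
    rw [this]
    exact Ideal.mem_map_of_mem _ hx

end Core

/-- Ring form, X = Spec B affine, T = Spec A' with A' the colimit of a directed system of A-algebras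
A'_i: let B be a finite type A-algebra, N a finite B-module, p a prime of A, and suppose given an
impurity of N above p with base change ring A' and points t' ⊆ t. Then for some index i there is an
impurity of N above p whose base change ring is A'_i (up to an A-isomorphism) and whose point t
corresponds to the contraction of t to A'_i. -/
theorem result {A B : Type u} [CommRing A] [CommRing B] [Algebra A B] [Algebra.FiniteType A B]
    (N : Type u) [AddCommGroup N] [Module B N] [Module.Finite B N] (p : Ideal A) [p.IsPrime]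
    {ι : Type u} [Preorder ι] (G : ι → Type u) [∀ i, CommRing (G i)] [∀ i, Algebra A (G i)]
    (g : ∀ i j, i ≤ j → G i →ₐ[A] G j)
    (A' : Type u) [CommRing A'] [Algebra A A'] [∀ i, Algebra (G i) A'] [∀ i, IsScalarTower A (G i) A']
    (hcolim : FlatCA.IsDirectedColimitRing G (fun i j h => (g i j h).toRingHom) A')
    (B' N' : Type u) [CommRing B'] [Algebra B B'] [Algebra A' B'] [Algebra A B'] [IsScalarTower A B B'] [IsScalarTower A A' B']
    [AddCommGroup N'] [Module B' N'] [Module B N'] [IsScalarTower B B' N'] [Module A' N'] [IsScalarTower A' B' N']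
    (f : N →ₗ[B] N') (t' t : Ideal A') [t'.IsPrime] [t.IsPrime] (P : Ideal B') [P.IsPrime]
    (himp : FlatCA.IsImpurity A B N p A' B' N' f t' t P) :
    ∃ i : ι, FlatCA.HasImpurity A B N p (fun A'' _ _ t'' => ∃ e : A'' ≃ₐ[A] G i, t''.map e = t.comap (algebraMap (G i) A')) := by
  exact main N p G g A' hcolim B' N' f t' t P himp

end Groth.Agent.S1296
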