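import Groth.Statements.S9758
import Groth.Agent.S9287
import Groth.Agent.Lib.Helper13LciSmD
import Groth.Agent.Lib.Helper5LciImm
-- import your own Groth.Agent.* helpers here

set_option autoImplicit false
universe u
open FlatMor

namespace Groth.Agent.S9758

open AlgebraicGeometry CategoryTheory Limits Groth.Agent.Helper13SmKR
open Groth.Agent.Lib.Helper5.LciLocal Groth.Agent.Lib.Helper5.LciComp


open AlgebraicGeometry CategoryTheory Limits in
/-- A morphism of schemes f : X ⟶ S is flat and a local complete intersection morphism (Koszul at every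
point) if and only if it is syntomic. -/
theorem result {X S : Scheme.{u}} (f : X ⟶ S) :
    (Flat f ∧ ∀ x : X, Synt.IsKoszulAt f x) ↔ Synt.IsSyntomicMor f := by
  constructor
  · rintro ⟨hflat, hK⟩ x
    have hL := lciMor_of_isKoszulAt f hK
    obtain ⟨_, ⟨V, hV, rfl⟩, hfxV, -⟩ := S.isBasis_affineOpens.exists_subset_of_mem_open
      (Set.mem_univ (f x)) isOpen_univ
    obtain ⟨_, ⟨U, hU, rfl⟩, hxU, hUle⟩ := X.isBasis_affineOpens.exists_subset_of_mem_open
      (show x ∈ ((f ⁻¹ᵁ V : X.Opens) : Set X) from hfxV) (f ⁻¹ᵁ V).2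
    have h1 := (lciMor_iff f).1 hL U V hU hV hUle
    have h2 : (f.appLE V U hUle).hom.Flat :=
      (HasRingHomProperty.iff_appLE (P := @Flat)).mp hflat ⟨V, hV⟩ ⟨U, hU⟩ hUle
    refine ⟨⟨U, hU⟩, ⟨V, hV⟩, hUle, hxU, ?_⟩
    letI := (f.appLE V U hUle).hom.toAlgebra
    exact (Groth.Agent.S9287.result _ _).mpr ⟨h2, h1⟩
  · intro h
    have key : ∀ x : X, ∃ (V : S.affineOpens) (U : X.affineOpens) (_ : x ∈ U.1)
        (e : U.1 ≤ f ⁻¹ᵁ V.1), (f.appLE V.1 U.1 e).hom.Flat ∧ IsLCIHom (f.appLE V.1 U.1 e).hom := by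
      intro x
      obtain ⟨U, V, e, hx, hs⟩ := h x
      letI := (f.appLE V.1 U.1 e).hom.toAlgebra
      exact ⟨V, U, hx, e, (Groth.Agent.S9287.result _ _).mp hs⟩
    have hflat : Flat f := by
      rw [HasRingHomProperty.iff_exists_appLE (P := @Flat)
        (RingHom.Flat.stableUnderComposition.stableUnderCompositionWithLocalizationAway
          RingHom.Flat.holdsForLocalizationAway).1]
      intro x
      obtain ⟨V, U, hx, e, h1, -⟩ := key x
      exact ⟨V, U, hx, e, h1⟩
    have hL : LciMor f := by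
      rw [HasRingHomProperty.iff_exists_appLE (P := LciMor)
        Groth.Agent.Lib.Helper5.LciImm.stableUnderCompositionWithLocalizationAwaySource]
      intro x
      obtain ⟨V, U, hx, e, -, h2⟩ := key x
      exact ⟨V, U, hx, e, h2⟩
    exact ⟨hflat, fun x => isKoszulAt_of_lciMor f hL x⟩

end Groth.Agent.S9758
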