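import Groth.Statements.S15429
import Mathlib
import Groth.Agent.S15428
-- import your own Groth.Agent.* helpers here

set_option autoImplicit false
universe u
open GrSyz

namespace Groth.Agent.S15429

open Polynomial in
/-- the polynomial `d ↦ C(r + d - a, r)`. -/
noncomputable def Q (r : ℕ) (a : ℤ) : Polynomial ℚ :=
  Polynomial.C ((r.factorial : ℚ)⁻¹) * (ascPochhammer ℚ r).comp (Polynomial.X - Polynomial.C (a : ℚ) + 1)

theorem Q_eval (r : ℕ) (a d : ℤ) (h : a - r ≤ d) :
    (Q r a).eval (d : ℚ) =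
      ((if a ≤ d then ((Nat.choose (r + (d - a).toNat) r : ℕ) : ℤ) else 0 : ℤ) : ℚ) := by
  unfold Q
  rw [Polynomial.eval_mul, Polynomial.eval_C, Polynomial.eval_comp]
  simp only [Polynomial.eval_add, Polynomial.eval_sub, Polynomial.eval_X, Polynomial.eval_C,
    Polynomial.eval_one]
  split_ifs with had
  · obtain ⟨n, hn⟩ : ∃ n : ℕ, d - a = n := ⟨(d - a).toNat, by omega⟩
    have e : (d : ℚ) - a + 1 = ((n + 1 : ℕ) : ℚ) := by
      have : (d : ℚ) - a = n := by exact_mod_cast hn
      rw [this]; push_cast; ring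
    rw [e, ascPochhammer_nat_eq_natCast_ascFactorial, Nat.ascFactorial_eq_factorial_mul_choose, hn,
      Int.toNat_natCast]
    have hr : (r.factorial : ℚ) ≠ 0 := by exact_mod_cast r.factorial_ne_zero
    push_cast
    rw [← mul_assoc, inv_mul_cancel₀ hr, one_mul, add_comm]
  · obtain ⟨t, ht⟩ : ∃ t : ℕ, a - d - 1 = t := ⟨(a - d - 1).toNat, by omega⟩
    have e : (d : ℚ) - a + 1 = -(t : ℚ) := by
      have : (a : ℚ) - d - 1 = t := by exact_mod_cast ht
      linarith
    rw [e, ascPochhammer_eval_neg_coe_nat_of_lt (by omega : t < r)]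
    simp

/-- Let k be a field, S = k[x_0, …, x_r] graded by degree and M a ℤ-graded S-module with a finite graded
free resolution 0 → F_m → … → F_0 → M → 0 by free modules of finite rank with homogeneous bases, the
basis vectors of F_i having degrees a_{i,b}. Then there is a polynomial P with rational
coefficients, the Hilbert polynomial of M, with dim_k M_d = P(d) for every integer d such that d ≥
a_{i,b} − r for all i and b. -/
theorem result (k : Type u) [Field k] (r : ℕ)
    (M : Type u) [AddCommGroup M] [Module k M] [Module (MvPolynomial (Fin (r + 1)) k) M]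
    [IsScalarTower k (MvPolynomial (Fin (r + 1)) k) M] [Module.Finite (MvPolynomial (Fin (r + 1)) k) M]
    (ℳ : ℤ → Submodule k M) [DirectSum.Decomposition ℳ] [SetLike.GradedSMul (GrSyz.stdGr k (Fin (r + 1))) ℳ]
    (F : GrSyz.FreeRes (GrSyz.stdGr k (Fin (r + 1))) ℳ) (m : ℕ) (hF : F.HasLengthLE m) :
    ∃ P : Polynomial ℚ, ∀ d : ℤ, (∀ (i : ℕ) (b : Fin (F.rk i)), F.deg i b - (r : ℤ) ≤ d) →
      ((Module.finrank k ↥(ℳ d) : ℤ) : ℚ) = P.eval (d : ℚ) := by
  classical
  refine ⟨∑ i ∈ Finset.range (m + 1), Polynomial.C ((-1 : ℚ) ^ i) *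
    ∑ b : Fin (F.rk i), Q r (F.deg i b), ?_⟩
  intro d hd
  rw [Groth.Agent.S15428.result k r M ℳ F m hF d]
  rw [Polynomial.eval_finset_sum]
  push_cast
  refine Finset.sum_congr rfl (fun i _ => ?_)
  rw [Polynomial.eval_mul, Polynomial.eval_C, Polynomial.eval_finset_sum]
  congr 1
  refine Finset.sum_congr rfl (fun b _ => ?_)
  rw [Q_eval r (F.deg i b) d (hd i b)]
  push_cast
  rfl

end Groth.Agent.S15429
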