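import Groth.Statements.S1996
import Mathlib
import Groth.Agent.Lib.Helper12Flat

set_option autoImplicit false
universe u
open EtAlg

namespace Groth.Agent.S1996

/-- Let A -> B -> C be ring maps with B -> C faithfully flat. Weak etaleness of A -> C then implies weak
etaleness of A -> B. -/
theorem result (A B C : Type u) [CommRing A] [CommRing B] [CommRing C] [Algebra A B]
    [Algebra B C] [Algebra A C] [IsScalarTower A B C] [Module.FaithfullyFlat B C] [Algebra.WeaklyEtale A C] :
    Algebra.WeaklyEtale A B := by
  have hflatAB : Module.Flat A B := Groth.Agent.Lib.Helper12.flat_of_faithfullyFlat_of_flat_comp A B C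
  refine ⟨hflatAB, ?_⟩
  let μB : TensorProduct A B B →+* B := (Algebra.TensorProduct.lmul' A (S := B)).toRingHom
  let μC : TensorProduct A C C →+* C := (Algebra.TensorProduct.lmul' A (S := C)).toRingHom
  let ι : B →ₐ[A] C := IsScalarTower.toAlgHom A B C
  let τ : TensorProduct A B B →ₐ[A] TensorProduct A C C := Algebra.TensorProduct.map ι ι
  have hιflat : ι.Flat := by
    show (algebraMap B C).Flat
    rw [RingHom.flat_algebraMap_iff]
    infer_instance
  have hτ : τ.Flat := RingHom.Flat.tensorProductMap hιflat hιflat
  have hμC : μC.Flat := Algebra.WeaklyEtale.flat_lmul' A C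
  have hcomm : (algebraMap B C).comp μB = μC.comp τ.toRingHom := by
    have : (ι.comp (Algebra.TensorProduct.lmul' A (S := B))) =
        (Algebra.TensorProduct.lmul' A (S := C)).comp τ := by
      ext <;> simp [τ]
    exact congr_arg AlgHom.toRingHom this
  have hflat : ((algebraMap B C).comp μB).Flat := by
    rw [hcomm]; exact RingHom.Flat.comp hτ hμC
  let _ : Algebra (TensorProduct A B B) B := μB.toAlgebra
  let _ : Algebra (TensorProduct A B B) C := ((algebraMap B C).comp μB).toAlgebra
  have : IsScalarTower (TensorProduct A B B) B C := IsScalarTower.of_algebraMap_eq' rfl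
  have : Module.Flat (TensorProduct A B B) C := hflat
  exact Groth.Agent.Lib.Helper12.flat_of_faithfullyFlat_of_flat_comp (TensorProduct A B B) B C

end Groth.Agent.S1996
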