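import Groth.Statements.S2221
import Mathlib
import Groth.Agent.S2215
-- import your own Groth.Agent.* helpers here

set_option autoImplicit false
set_option linter.style.haveILetI false
set_option linter.unusedSectionVars false
universe u
open Disc

namespace Groth.Agent.S2221

open TensorProduct in
lemma inv_key {R M : Type*} [CommRing R] [AddCommGroup M] [Module R M] [Module.Invertible R M]
    (f g : Module.Dual R M) (m x y : M) : (f m * g y) • x = (g m * f x) • y := by
  have hinj := (Module.Invertible.bijective (R := R) (M := M)).injective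
  have h1 : f ⊗ₜ[R] (g y • x) = g ⊗ₜ[R] (f x • y) := by
    apply hinj
    rw [contractLeft_apply, contractLeft_apply, map_smul, map_smul, smul_eq_mul, smul_eq_mul,
      mul_comm]
  let L : Module.Dual R M ⊗[R] M →ₗ[R] M :=
    TensorProduct.lift ((LinearMap.lsmul R M).comp (LinearMap.applyₗ m))
  have h2 := congrArg L h1
  simp only [L, TensorProduct.lift.tmul, LinearMap.comp_apply, LinearMap.applyₗ_apply_apply,
    LinearMap.lsmul_apply, smul_smul] at h2
  exact h2

open TensorProduct in
lemma inv_symm {R M : Type*} [CommRing R] [AddCommGroup M] [Module R M] [Module.Invertible R M]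
    (φ : Module.Dual R M) (x y : M) : φ x • y = φ y • x := by
  classical
  obtain ⟨S, hS⟩ := ((Module.Invertible.linearEquiv R M).symm 1).exists_finset
  have hone : (1 : R) = ∑ i ∈ S, i.1 i.2 := by
    have := congrArg (Module.Invertible.linearEquiv R M) hS
    rw [LinearEquiv.apply_symm_apply, map_sum] at this
    rw [this]
    refine Finset.sum_congr rfl (fun i _ => ?_)
    rfl
  set z : M := φ x • y - φ y • x with hz
  -- each r_i^2 kills z
  have hkill : ∀ i ∈ S, (i.1 i.2) ^ 2 • z = 0 := by
    intro i _
    obtain ⟨f, m⟩ := i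
    show (f m) ^ 2 • z = 0
    have e1 : (f m * φ x) • y = (φ m * f y) • x := inv_key f φ m y x
    have e2 : (f m * φ y) • x = (φ m * f x) • y := inv_key f φ m x y
    have e3 : (f m * f x) • y = (f m * f y) • x := inv_key f f m y x
    rw [hz, smul_sub, smul_smul, smul_smul, pow_two, mul_assoc, mul_assoc, ← smul_smul (f m),
      ← smul_smul (f m) (f m * φ y), e1, e2, smul_smul, smul_smul]
    have : (f m * (φ m * f y)) • x = (f m * (φ m * f x)) • y := by
      rw [show f m * (φ m * f y) = φ m * (f m * f y) by ring,
        show f m * (φ m * f x) = φ m * (f m * f x) by ring, mul_smul (φ m) (f m * f y) x,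
        mul_smul (φ m) (f m * f x) y, e3]
    rw [this, sub_self]
  -- annihilator
  let I : Ideal R := LinearMap.ker (LinearMap.toSpanSingleton R M z)
  have hI : ∀ i ∈ S, (i.1 i.2) ^ 2 ∈ I := fun i hi => by
    show (LinearMap.toSpanSingleton R M z) _ = 0
    rw [LinearMap.toSpanSingleton_apply]
    exact hkill i hi
  have hspan : Ideal.span ((fun i : Module.Dual R M × M => i.1 i.2) '' (S : Set _)) = ⊤ := by
    rw [Ideal.eq_top_iff_one, hone]
    exact Ideal.sum_mem _ (fun i hi => Ideal.subset_span ⟨i, hi, rfl⟩)
  have hspan2 := Ideal.span_pow_eq_top _ hspan 2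
  have hItop : I = ⊤ := by
    rw [eq_top_iff, ← hspan2, Ideal.span_le]
    rintro _ ⟨_, ⟨i, hi, rfl⟩, rfl⟩
    exact hI i hi
  have h1 : (1 : R) ∈ I := hItop ▸ Submodule.mem_top
  have h2 : (1 : R) • z = 0 := by
    have : (LinearMap.toSpanSingleton R M z) 1 = 0 := h1
    rwa [LinearMap.toSpanSingleton_apply] at this
  rw [one_smul] at h2
  exact sub_eq_zero.mp h2


/-- Affine finite free case: let A be a Noetherian ring and B an A-algebra which is finite free as an
A-module, and suppose omega = Hom_A(B, A) is an invertible B-module. Then the different of B over A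
(the b with b omega inside B Trace) equals the Noether different of B over A. -/
theorem result {A B : Type u} [CommRing A]
    [CommRing B] [Algebra A B] [IsNoetherianRing A] [Module.Finite A B] [Module.Free A B]
    [Module.Invertible B (Disc.Omega A B)] :
    Disc.differentSet A B = (Disc.noetherDifferent A B : Set B) := by
  classical
  rw [Groth.Agent.S2215.result]
  ext b
  constructor
  · intro hb
    -- ∀ t, ∃ φ, φ τ = b * contract t
    have hall : ∀ t : TensorProduct B (Module.Dual B (Disc.Omega A B)) (Disc.Omega A B),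
        ∃ φ : Disc.Omega A B →ₗ[B] B, φ (Disc.Omega.trace A B) = b * contractLeft B (Disc.Omega A B) t := by
      intro t
      induction t using TensorProduct.induction_on with
      | zero => exact ⟨0, by simp⟩
      | tmul φ₀ m =>
        obtain ⟨c, hc⟩ := hb m.toLinearMap
        have hcm : b • m = c • Disc.Omega.trace A B := by
          ext x
          rw [Disc.Omega.smul_toLinearMap_apply, Disc.Omega.smul_toLinearMap_apply]
          exact hc x
        refine ⟨c • φ₀, ?_⟩
        rw [LinearMap.smul_apply, contractLeft_apply, smul_eq_mul]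
        have : c * φ₀ (Disc.Omega.trace A B) = φ₀ (c • Disc.Omega.trace A B) := by
          rw [map_smul, smul_eq_mul]
        rw [this, ← hcm, map_smul, smul_eq_mul]
      | add t₁ t₂ h₁ h₂ =>
        obtain ⟨φ₁, h₁⟩ := h₁
        obtain ⟨φ₂, h₂⟩ := h₂
        exact ⟨φ₁ + φ₂, by rw [LinearMap.add_apply, h₁, h₂, map_add, mul_add]⟩
    obtain ⟨t, ht⟩ := (Module.Invertible.bijective (R := B) (M := Disc.Omega A B)).surjective 1
    obtain ⟨φ, hφ⟩ := hall t
    exact ⟨φ, by simp only [hφ, ht, mul_one]⟩
  · rintro ⟨φ, rfl⟩
    intro l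
    refine ⟨φ ⟨l⟩, fun x => ?_⟩
    have hs : φ (Disc.Omega.trace A B) • (⟨l⟩ : Disc.Omega A B) = φ ⟨l⟩ • Disc.Omega.trace A B :=
      inv_symm (R := B) (M := Disc.Omega A B) φ (Disc.Omega.trace A B) ⟨l⟩
    have := congrArg (fun w : Disc.Omega A B => w.toLinearMap x) hs
    simp only [Disc.Omega.smul_toLinearMap_apply] at this
    exact this

end Groth.Agent.S2221
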