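import Groth.Statements.S8954
import Groth.Agent.Lib.Helper7Synt52

set_option autoImplicit false
universe u
open Synt

namespace Groth.Agent.S8954

/-- The equivalence of being finite syntomic with having a square presentation, stated over a local
base. For a local ring A and a finite A-algebra B, the map A → B is syntomic if and only if B ≅
A[x_1, …, x_n]/(f_1, …, f_n) as A-algebras for some n and f_1, …, f_n ∈ A[x_1, …, x_n]. (The
published statement is for a finite morphism of schemes and asserts such a presentation over some
affine open neighbourhood of each point of the base; over a local base that neighbourhood is the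
whole spectrum.) -/
theorem result (A B : Type u) [CommRing A] [IsLocalRing A] [CommRing B] [Algebra A B] [Module.Finite A B] : Synt.IsSyntomic A B ↔ ∃ (n : ℕ) (F : Fin n → MvPolynomial (Fin n) A), Nonempty (B ≃ₐ[A] Synt.RelGCIRing A n n F) := by
  constructor
  · intro hsyn
    haveI := hsyn.2.1
    obtain ⟨n, s, H, ⟨e⟩⟩ := Groth.Agent.Lib.Helper7.Synt.exists_presentation_equiv (R := A) B
    haveI : Module.Finite A (Synt.RelGCIRing A n s H) := Module.Finite.equiv e.toLinearEquiv
    obtain ⟨F, ⟨ε⟩⟩ := Groth.Agent.Lib.Helper7.Synt.exists_square_of_finite_of_isSyntomic H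
      (Groth.Agent.Lib.Helper7.Synt.isSyntomic_of_algEquiv e hsyn)
    exact ⟨n + 1, F, ⟨e.trans ε⟩⟩
  · rintro ⟨n, F, ⟨e⟩⟩
    haveI : Module.Finite A (Synt.RelGCIRing A n n F) := Module.Finite.equiv e.toLinearEquiv
    exact Groth.Agent.Lib.Helper7.Synt.isSyntomic_of_algEquiv e.symm
      (Groth.Agent.Lib.Helper7.Synt.isSyntomic_relGCIRing F
        (Groth.Agent.Lib.Helper7.Synt.isRelGCI_of_finite_square F))


end Groth.Agent.S8954
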