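import Groth.Statements.S3587
-- no extra imports

set_option autoImplicit false
universe u
open CategoryTheory AlgebraicGeometry Opposite TopologicalSpace
open EGA2

namespace Groth.Agent.S3587

/-- Let S be a graded ring, M a graded S-module, f a homogeneous element of degree d > 0 and m a
homogeneous element of M. If the fraction m/f^k vanishes in the localized module M_x for every point
x of D_+(f), then f^N m = 0 for some N (so m/f^k = 0 in M_(f)); this is the injectivity half of the
identification of the sections of M~ over D_+(f) with M_(f). -/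
theorem result {R A : Type u} [CommRing R] [CommRing A] [Algebra R A] (𝒜 : ℕ → Submodule R A) [GradedAlgebra 𝒜]
    {M : Type u} [AddCommGroup M] [Module R M] [Module A M] [IsScalarTower R A M] (ℳ : ℕ → Submodule R M) [DirectSum.Decomposition ℳ] [SetLike.GradedSMul 𝒜 ℳ] {d : ℕ} (hd : 0 < d) {f : A} (hf : f ∈ 𝒜 d) (k i : ℕ) (m : ℳ i)
    (h : ∀ x : ProjectiveSpectrum.basicOpen 𝒜 f,
      (LocalizedModule.mk m.1 ⟨f ^ k, fun h => (ProjectiveSpectrum.mem_basicOpen 𝒜 f x.1).mp x.2
        (x.1.isPrime.mem_of_pow_mem k h)⟩ : GrTilde.LocMod 𝒜 (M := M) x.1) = 0) :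
    ∃ N : ℕ, f ^ N • m.1 = 0 := by
  classical
  -- the annihilator ideal of m
  let I : Ideal A := LinearMap.ker (LinearMap.toSpanSingleton A M m.1)
  have memI : ∀ a : A, a ∈ I ↔ a • m.1 = 0 := by
    intro a
    simp only [I, LinearMap.mem_ker, LinearMap.toSpanSingleton_apply]
  -- I is homogeneous
  have hIhom : I.IsHomogeneous 𝒜 := by
    intro j₀ a ha
    rw [memI] at ha ⊢
    have hsum : a • m.1 = ∑ j ∈ (DirectSum.decompose 𝒜 a).support, ((DirectSum.decompose 𝒜 a j : A) • m.1) := by
      conv_lhs => rw [← DirectSum.sum_support_decompose 𝒜 a]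
      rw [Finset.sum_smul]
    have hmemj : ∀ j, (DirectSum.decompose 𝒜 a j : A) • m.1 ∈ ℳ (j + i) := by
      intro j
      have := SetLike.GradedSMul.smul_mem (A := 𝒜) (B := ℳ) (DirectSum.decompose 𝒜 a j).2 m.2
      simpa [vadd_eq_add] using this
    have h0 : ((DirectSum.decompose ℳ (a • m.1)) (j₀ + i) : M) = 0 := by
      rw [ha]; simp
    rw [hsum, DirectSum.decompose_sum] at h0
    rw [DFinsupp.finsetSum_apply, AddSubmonoidClass.coe_finsetSum] at h0
    have hterm : ∀ j ∈ (DirectSum.decompose 𝒜 a).support,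
        ((DirectSum.decompose ℳ ((DirectSum.decompose 𝒜 a j : A) • m.1)) (j₀ + i) : M) =
          if j = j₀ then (DirectSum.decompose 𝒜 a j : A) • m.1 else 0 := by
      intro j _
      split_ifs with hj
      · subst hj
        rw [DirectSum.decompose_of_mem_same ℳ (hmemj j)]
      · rw [DirectSum.decompose_of_mem_ne ℳ (hmemj j)]
        intro heq
        exact hj (Nat.add_right_cancel heq)
    rw [Finset.sum_congr rfl hterm, Finset.sum_ite_eq'] at h0
    split_ifs at h0 with hj
    · exact h0
    · rw [DFinsupp.mem_support_toFun, not_not] at hj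
      have : (DirectSum.decompose 𝒜 a j₀ : A) = 0 := by
        rw [hj]; rfl
      rw [this, zero_smul]
  -- f ∈ radical I
  have hrad : f ∈ I.radical := by
    rw [hIhom.radical_eq, Ideal.mem_sInf]
    rintro J ⟨hJhom, hIJ, hJprime⟩
    by_contra hfJ
    have hirr : ¬ HomogeneousIdeal.irrelevant 𝒜 ≤ (⟨J, hJhom⟩ : HomogeneousIdeal 𝒜) := by
      intro hle
      exact hfJ (hle (HomogeneousIdeal.mem_irrelevant_of_mem 𝒜 hd hf))
    let x : ProjectiveSpectrum 𝒜 := ⟨⟨J, hJhom⟩, hJprime, hirr⟩
    have hx : x ∈ ProjectiveSpectrum.basicOpen 𝒜 f := by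
      rw [ProjectiveSpectrum.mem_basicOpen]
      exact hfJ
    have h0 := h ⟨x, hx⟩
    rw [← LocalizedModule.zero_mk (1 : x.asHomogeneousIdeal.toIdeal.primeCompl), LocalizedModule.mk_eq] at h0
    obtain ⟨u, hu⟩ := h0
    rw [one_smul, smul_zero, smul_zero] at hu
    have huI : (u : A) ∈ I := by
      rw [memI]
      exact hu
    exact u.2 (hIJ huI)
  obtain ⟨N, hN⟩ := hrad
  exact ⟨N, (memI _).1 hN⟩

end Groth.Agent.S3587
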