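import Groth.Statements.S0750
import Mathlib

set_option autoImplicit false
open CategoryTheory CategoryTheory.Limits AlgebraicGeometry Opposite Topology
universe u
open ProEtW

namespace Groth.Agent.S0750

open TensorProduct

-- general topology: a continuous open locally injective map into an extremally disconnected
-- space has extremally disconnected source
theorem extremallyDisconnected_of_locallyInjective {X Y : Type*} [TopologicalSpace X]
    [TopologicalSpace Y] [ExtremallyDisconnected X] (f : Y → X) (hc : Continuous f)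
    (ho : IsOpenMap f)
    (hli : ∀ y, ∃ W : Set Y, IsOpen W ∧ y ∈ W ∧ Set.InjOn f W) : ExtremallyDisconnected Y := by
  constructor
  intro U hU
  rw [isOpen_iff_mem_nhds]
  intro z hz
  obtain ⟨W, hWo, hzW, hinj⟩ := hli z
  have hC : IsOpen (closure (f '' (U ∩ W))) :=
    ExtremallyDisconnected.open_closure _ (ho _ (hU.inter hWo))
  have hsub : W ∩ f ⁻¹' closure (f '' (U ∩ W)) ⊆ closure U := by
    rintro w ⟨hwW, hwC⟩
    rw [mem_closure_iff]
    intro N hN hwN
    have h1 : IsOpen (f '' (N ∩ W)) := ho _ (hN.inter hWo)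
    have h2 : f w ∈ f '' (N ∩ W) := ⟨w, ⟨hwN, hwW⟩, rfl⟩
    obtain ⟨_, ⟨n, ⟨hnN, hnW⟩, rfl⟩, ⟨u, ⟨huU, huW⟩, hun⟩⟩ := mem_closure_iff.mp hwC _ h1 h2
    have : u = n := hinj huW hnW hun
    exact ⟨n, hnN, this ▸ huU⟩
  refine Filter.mem_of_superset ?_ hsub
  apply IsOpen.mem_nhds (hWo.inter (hC.preimage hc))
  refine ⟨hzW, ?_⟩
  have h3 : z ∈ closure (U ∩ W) := by
    have := hWo.inter_closure (t := U) ⟨hzW, hz⟩
    rwa [Set.inter_comm] at this
  exact (image_closure_subset_closure_image hc) ⟨z, h3, rfl⟩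

theorem isSepClosed_of_ringEquiv {K K' : Type*} [Field K] [Field K'] [IsSepClosed K]
    (e : K ≃+* K') : IsSepClosed K' := by
  refine ⟨fun p hp => ?_⟩
  have h1 : (p.map (e.symm : K' →+* K)).Separable := hp.map
  have h2 := IsSepClosed.splits_of_separable _ h1
  have h3 := h2.map (e : K →+* K')
  rw [Polynomial.map_map] at h3
  have h4 : (e : K →+* K').comp (e.symm : K' →+* K) = RingHom.id K' := by
    ext x; simp
  rwa [h4, Polynomial.map_id] at h3

variable {A B : Type u} [CommRing A] [CommRing B] [Algebra A B]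

theorem isMaximal_of_quasiFinite [Algebra.QuasiFinite A B]
    (hA : ∀ p : Ideal A, p.IsPrime → p.IsMaximal) (q : Ideal B) [q.IsPrime] : q.IsMaximal := by
  obtain ⟨m, hm, hqm⟩ := Ideal.exists_le_maximal q (Ideal.IsPrime.ne_top inferInstance)
  have h1 : (q.under A).IsMaximal := hA _ inferInstance
  have h2 : q.under A = m.under A :=
    h1.eq_of_le (Ideal.IsPrime.ne_top inferInstance) (Ideal.comap_mono hqm)
  have := Algebra.QuasiFinite.eq_of_le_of_under_eq (R := A) q m hqm h2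
  rw [this]; exact hm

theorem exists_pow_sub_mem [Algebra.QuasiFinite A B] (q : Ideal B) [q.IsPrime]
    [hp : (q.under A).IsMaximal] (hsc : IsSepClosed (q.under A).ResidueField)
    (c : ℕ) [ExpChar (A ⧸ q.under A) c] (b : B) :
    ∃ (n : ℕ) (a : A), b ^ c ^ n - algebraMap A B a ∈ q := by
  letI : Field (A ⧸ q.under A) := Ideal.Quotient.field _
  haveI : IsSepClosed (A ⧸ q.under A) := by
    have hbij := Ideal.bijective_algebraMap_quotient_residueField (q.under A)
    exact isSepClosed_of_ringEquiv (RingEquiv.ofBijective _ hbij).symm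
  haveI : Algebra.QuasiFinite (A ⧸ q.under A) (B ⧸ q) :=
    Algebra.QuasiFinite.of_restrictScalars A _ _
  haveI : Module.Finite (A ⧸ q.under A) (B ⧸ q) := Module.Finite.of_quasiFinite
  haveI : Algebra.IsAlgebraic (A ⧸ q.under A) (B ⧸ q) := Algebra.IsAlgebraic.of_finite _ _
  obtain ⟨n, a', ha'⟩ := IsPurelyInseparable.pow_mem (A ⧸ q.under A) c (Ideal.Quotient.mk q b)
  obtain ⟨a, rfl⟩ := Ideal.Quotient.mk_surjective a'
  refine ⟨n, a, ?_⟩
  rw [← Ideal.Quotient.eq, map_pow, ← ha']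
  rfl

theorem diag_mem [Algebra.QuasiFinite A B] (q : Ideal B) [q.IsPrime]
    [hp : (q.under A).IsMaximal] (hsc : IsSepClosed (q.under A).ResidueField)
    (P : Ideal (B ⊗[A] B)) [P.IsPrime]
    (h1 : P.comap (Algebra.TensorProduct.includeLeft : B →ₐ[A] B ⊗[A] B).toRingHom = q)
    (h2 : P.comap (Algebra.TensorProduct.includeRight : B →ₐ[A] B ⊗[A] B).toRingHom = q) (b : B) :
    b ⊗ₜ[A] (1:B) - (1:B) ⊗ₜ[A] b ∈ P := by
  letI : Field (A ⧸ q.under A) := Ideal.Quotient.field _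
  obtain ⟨c, hc⟩ := ExpChar.exists (A ⧸ q.under A)
  obtain ⟨n, a, hna⟩ := exists_pow_sub_mem q hsc c b
  have hker : ∀ a : A, a ∈ q.under A →
      ((Ideal.Quotient.mk P).comp (algebraMap A (B ⊗[A] B))) a = 0 := by
    intro a ha
    rw [RingHom.comp_apply, Ideal.Quotient.eq_zero_iff_mem]
    have : algebraMap A B a ∈ q := ha
    rw [← h1] at this
    exact this
  let φ : A ⧸ q.under A →+* (B ⊗[A] B) ⧸ P := Ideal.Quotient.lift _ _ hker
  haveI : ExpChar ((B ⊗[A] B) ⧸ P) c := expChar_of_injective_ringHom φ.injective c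
  have e : (b ⊗ₜ[A] (1:B)) ^ c ^ n - ((1:B) ⊗ₜ[A] b) ^ c ^ n =
      (b ^ c ^ n - algebraMap A B a) ⊗ₜ[A] (1 : B) - (1 : B) ⊗ₜ[A] (b ^ c ^ n - algebraMap A B a) := by
    rw [Algebra.TensorProduct.tmul_pow, Algebra.TensorProduct.tmul_pow, one_pow,
      TensorProduct.sub_tmul, TensorProduct.tmul_sub]
    have : (algebraMap A B a) ⊗ₜ[A] (1:B) = (1:B) ⊗ₜ[A] (algebraMap A B a) := by
      rw [Algebra.algebraMap_eq_smul_one, TensorProduct.smul_tmul]
    rw [this]; ring
  have key : (Ideal.Quotient.mk P (b ⊗ₜ[A] (1:B) - (1:B) ⊗ₜ[A] b)) ^ c ^ n = 0 := by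
    rw [map_sub, sub_pow_expChar_pow, ← map_pow, ← map_pow, ← map_sub,
      Ideal.Quotient.eq_zero_iff_mem, e]
    refine P.sub_mem ?_ ?_
    · have : b ^ c ^ n - algebraMap A B a ∈
          P.comap (Algebra.TensorProduct.includeLeft : B →ₐ[A] B ⊗[A] B).toRingHom := h1 ▸ hna
      exact this
    · have : b ^ c ^ n - algebraMap A B a ∈
          P.comap (Algebra.TensorProduct.includeRight : B →ₐ[A] B ⊗[A] B).toRingHom := h2 ▸ hna
      exact this
  exact Ideal.Quotient.eq_zero_iff_mem.mp ((pow_eq_zero_iff (pow_ne_zero n (expChar_pos (A ⧸ q.under A) c).ne')).mp key)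

theorem exists_prime_tensor (q₁ q₂ : Ideal B) [hq₁ : q₁.IsMaximal] [hq₂ : q₂.IsMaximal]
    (h : q₁.under A = q₂.under A) :
    ∃ P : Ideal (B ⊗[A] B), P.IsPrime ∧
      P.comap (Algebra.TensorProduct.includeLeft : B →ₐ[A] B ⊗[A] B).toRingHom = q₁ ∧
      P.comap (Algebra.TensorProduct.includeRight : B →ₐ[A] B ⊗[A] B).toRingHom = q₂ := by
  obtain ⟨p, hp⟩ : ∃ p, p = q₁.under A := ⟨_, rfl⟩
  haveI : q₁.LiesOver p := ⟨hp⟩
  haveI : q₂.LiesOver p := ⟨hp.trans h⟩
  haveI : p.IsPrime := hp ▸ inferInstance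
  haveI : Nontrivial ((B ⧸ q₁) ⊗[A ⧸ p] (B ⧸ q₂)) :=
    Algebra.TensorProduct.nontrivial_of_algebraMap_injective_of_isDomain (A ⧸ p) (B ⧸ q₁) (B ⧸ q₂)
      (FaithfulSMul.algebraMap_injective _ _) (FaithfulSMul.algebraMap_injective _ _)
  haveI : TensorProduct.CompatibleSMul (A ⧸ p) A (B ⧸ q₁) (B ⧸ q₂) :=
    TensorProduct.CompatibleSMul.isScalarTower
  haveI : Nontrivial ((B ⧸ q₁) ⊗[A] (B ⧸ q₂)) :=
    (Algebra.TensorProduct.mapOfCompatibleSMul (A ⧸ p) A A (B ⧸ q₁)
      (B ⧸ q₂)).toRingHom.domain_nontrivial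
  obtain ⟨P₀, hP₀⟩ := Ideal.exists_maximal ((B ⧸ q₁) ⊗[A] (B ⧸ q₂))
  obtain ⟨ψ, hψ⟩ : ∃ ψ : B ⊗[A] B →ₐ[A] (B ⧸ q₁) ⊗[A] (B ⧸ q₂),
    ψ = Algebra.TensorProduct.map (Ideal.Quotient.mkₐ A q₁) (Ideal.Quotient.mkₐ A q₂) := ⟨_, rfl⟩
  letI : Field (B ⧸ q₁) := Ideal.Quotient.field q₁
  letI : Field (B ⧸ q₂) := Ideal.Quotient.field q₂
  refine ⟨P₀.comap ψ.toRingHom, inferInstance, ?_, ?_⟩
  · ext b
    simp only [Ideal.mem_comap]
    have e : ψ.toRingHom ((Algebra.TensorProduct.includeLeft : B →ₐ[A] B ⊗[A] B).toRingHom b) =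
        (Algebra.TensorProduct.includeLeft : (B ⧸ q₁) →ₐ[A] (B ⧸ q₁) ⊗[A] (B ⧸ q₂))
          (Ideal.Quotient.mk q₁ b) := by
      subst hψ
      simp
    rw [e]
    constructor
    · intro hb
      by_contra hbq
      have hne : Ideal.Quotient.mk q₁ b ≠ 0 := by
        rwa [Ne, Ideal.Quotient.eq_zero_iff_mem]
      have hu : IsUnit (Ideal.Quotient.mk q₁ b) := hne.isUnit
      have hu' := hu.map (Algebra.TensorProduct.includeLeft :
        (B ⧸ q₁) →ₐ[A] (B ⧸ q₁) ⊗[A] (B ⧸ q₂))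
      exact hP₀.ne_top (Ideal.eq_top_of_isUnit_mem _ hb hu')
    · intro hb
      rw [Ideal.Quotient.eq_zero_iff_mem.mpr hb, map_zero]
      exact P₀.zero_mem
  · ext b
    simp only [Ideal.mem_comap]
    have e : ψ.toRingHom ((Algebra.TensorProduct.includeRight : B →ₐ[A] B ⊗[A] B).toRingHom b) =
        (Algebra.TensorProduct.includeRight : (B ⧸ q₂) →ₐ[A] (B ⧸ q₁) ⊗[A] (B ⧸ q₂))
          (Ideal.Quotient.mk q₂ b) := by
      subst hψ
      simp
    rw [e]
    constructor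
    · intro hb
      by_contra hbq
      have hne : Ideal.Quotient.mk q₂ b ≠ 0 := by
        rwa [Ne, Ideal.Quotient.eq_zero_iff_mem]
      have hu : IsUnit (Ideal.Quotient.mk q₂ b) := hne.isUnit
      have hu' := hu.map (Algebra.TensorProduct.includeRight :
        (B ⧸ q₂) →ₐ[A] (B ⧸ q₁) ⊗[A] (B ⧸ q₂))
      exact hP₀.ne_top (Ideal.eq_top_of_isUnit_mem _ hb hu')
    · intro hb
      rw [Ideal.Quotient.eq_zero_iff_mem.mpr hb, map_zero]
      exact P₀.zero_mem


set_option maxHeartbeats 1600000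

/-- Let A -> B be quasi-finite and of finite presentation. Suppose all residue fields of A (at every
prime) are separably closed, and Spec A is a Hausdorff, extremally disconnected space. Then Spec B
is also extremally disconnected. -/
theorem result (A B : Type u) [CommRing A]
    [CommRing B] [Algebra A B] [Algebra.QuasiFinite A B] [Algebra.FinitePresentation A B]
    (hres : ∀ p : PrimeSpectrum A, IsSepClosed p.asIdeal.ResidueField)
    [T2Space (PrimeSpectrum A)] [ExtremallyDisconnected (PrimeSpectrum A)] :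
    ExtremallyDisconnected (PrimeSpectrum B) := by
  have hA : ∀ p : Ideal A, p.IsPrime → p.IsMaximal := by
    intro p hp
    exact (PrimeSpectrum.isClosed_singleton_iff_isMaximal ⟨p, hp⟩).mp isClosed_singleton
  have hBmax : ∀ q : Ideal B, q.IsPrime → q.IsMaximal :=
    fun q hq => isMaximal_of_quasiFinite hA q
  haveI : Algebra.HasGoingDown A B := ⟨by
    intro p hp Q hQ hlt
    exfalso
    have h1 := hA p hp
    have h2 := h1.eq_of_le (Ideal.IsPrime.ne_top inferInstance) hlt.le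
    exact absurd hlt (h2 ▸ lt_irrefl _)⟩
  have hopen : IsOpenMap (PrimeSpectrum.comap (algebraMap A B)) :=
    PrimeSpectrum.isOpenMap_comap_of_hasGoingDown_of_finitePresentation
  refine extremallyDisconnected_of_locallyInjective _ (PrimeSpectrum.continuous_comap _) hopen ?_
  intro y
  obtain ⟨q, hq⟩ := y
  haveI := hq
  obtain ⟨p, hp⟩ : ∃ p, p = q.under A := ⟨_, rfl⟩
  haveI : q.LiesOver p := ⟨hp⟩
  haveI hpp : p.IsPrime := hp ▸ inferInstance
  obtain ⟨g, hgq, hg⟩ := Ideal.exists_not_mem_forall_mem_of_ne_of_liesOver p q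
  obtain ⟨I, hI⟩ : ∃ I, I = KaehlerDifferential.ideal A B := ⟨_, rfl⟩
  have hIfg : I.FG := hI ▸ KaehlerDifferential.ideal_fg A B
  obtain ⟨Ω, hΩ⟩ : ∃ Ω : Set (PrimeSpectrum (B ⊗[A] B)),
    Ω = (PrimeSpectrum.basicOpen (g ⊗ₜ[A] g) : Set _) ∩ (PrimeSpectrum.zeroLocus (I : Set _))ᶜ :=
    ⟨_, rfl⟩
  have hΩc : IsCompact Ω := by
    rw [hΩ]
    have h2 := (PrimeSpectrum.isCompact_isOpen_iff_ideal
      (s := (PrimeSpectrum.zeroLocus (I : Set (B ⊗[A] B)))ᶜ)).mpr ⟨I, hIfg, rfl⟩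
    exact IsCompact.inter_of_isOpen (PrimeSpectrum.isCompact_basicOpen _) h2.1
      (PrimeSpectrum.basicOpen _).isOpen h2.2
  obtain ⟨E, hE⟩ : ∃ E : Set (PrimeSpectrum A),
    E = PrimeSpectrum.comap (algebraMap A (B ⊗[A] B)) '' Ω := ⟨_, rfl⟩
  have hEcl : IsClosed E := by
    rw [hE]
    exact (hΩc.image (PrimeSpectrum.continuous_comap _)).isClosed
  -- contractions
  have hcontr : ∀ P : PrimeSpectrum (B ⊗[A] B),
      PrimeSpectrum.comap (algebraMap A B) (PrimeSpectrum.comap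
        (Algebra.TensorProduct.includeLeft : B →ₐ[A] B ⊗[A] B).toRingHom P) =
      PrimeSpectrum.comap (algebraMap A (B ⊗[A] B)) P := by
    intro P
    rw [← PrimeSpectrum.comap_comp_apply]
    congr 1
  have hcontr' : ∀ P : PrimeSpectrum (B ⊗[A] B),
      PrimeSpectrum.comap (algebraMap A B) (PrimeSpectrum.comap
        (Algebra.TensorProduct.includeRight : B →ₐ[A] B ⊗[A] B).toRingHom P) =
      PrimeSpectrum.comap (algebraMap A (B ⊗[A] B)) P := by
    intro P
    rw [← PrimeSpectrum.comap_comp_apply]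
    congr 1
    ext a
    simp [Algebra.algebraMap_eq_smul_one]
  have hgg : (g ⊗ₜ[A] g : B ⊗[A] B) = (g ⊗ₜ[A] (1 : B)) * ((1 : B) ⊗ₜ[A] g) := by
    rw [Algebra.TensorProduct.tmul_mul_tmul, mul_one, one_mul]
  have hxE : (⟨p, hpp⟩ : PrimeSpectrum A) ∉ E := by
    rw [hE]
    rintro ⟨P, hPΩ, hPx⟩
    rw [hΩ] at hPΩ
    obtain ⟨hP1, hP2⟩ := hPΩ
    have hgP : g ⊗ₜ[A] g ∉ P.asIdeal := hP1
    have hg1 : g ⊗ₜ[A] (1 : B) ∉ P.asIdeal := fun h => hgP (hgg ▸ P.asIdeal.mul_mem_right _ h)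
    have hg2 : (1 : B) ⊗ₜ[A] g ∉ P.asIdeal := fun h => hgP (hgg ▸ P.asIdeal.mul_mem_left _ h)
    have hl : (PrimeSpectrum.comap
        (Algebra.TensorProduct.includeLeft : B →ₐ[A] B ⊗[A] B).toRingHom P).asIdeal = q := by
      by_contra hne
      have hlo : (PrimeSpectrum.comap
          (Algebra.TensorProduct.includeLeft : B →ₐ[A] B ⊗[A] B).toRingHom P).asIdeal.LiesOver p := by
        constructor
        have := congrArg PrimeSpectrum.asIdeal ((hcontr P).trans hPx)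
        exact this.symm
      exact hg1 (hg _ inferInstance hne hlo)
    have hr : (PrimeSpectrum.comap
        (Algebra.TensorProduct.includeRight : B →ₐ[A] B ⊗[A] B).toRingHom P).asIdeal = q := by
      by_contra hne
      have hlo : (PrimeSpectrum.comap
          (Algebra.TensorProduct.includeRight : B →ₐ[A] B ⊗[A] B).toRingHom P).asIdeal.LiesOver p := by
        constructor
        have := congrArg PrimeSpectrum.asIdeal ((hcontr' P).trans hPx)
        exact this.symm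
      exact hg2 (hg _ inferInstance hne hlo)
    apply hP2
    rw [PrimeSpectrum.mem_zeroLocus, hI, ← KaehlerDifferential.span_range_eq_ideal, SetLike.coe_subset_coe, Ideal.span_le]
    rintro _ ⟨b, rfl⟩
    haveI : (q.under A).IsMaximal := hA _ inferInstance
    have := diag_mem q (hres ⟨q.under A, inferInstance⟩) P.asIdeal hl hr b
    have h3 := P.asIdeal.neg_mem this
    rwa [neg_sub] at h3
  refine ⟨(PrimeSpectrum.basicOpen g : Set _) ∩ PrimeSpectrum.comap (algebraMap A B) ⁻¹' Eᶜ,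
    (PrimeSpectrum.basicOpen g).isOpen.inter
      (hEcl.isOpen_compl.preimage (PrimeSpectrum.continuous_comap _)), ⟨hgq, ?_⟩, ?_⟩
  · show PrimeSpectrum.comap (algebraMap A B) ⟨q, hq⟩ ∉ E
    have : PrimeSpectrum.comap (algebraMap A B) ⟨q, hq⟩ = ⟨p, hpp⟩ := by
      ext1
      exact hp.symm
    rw [this]
    exact hxE
  · rintro y₁ ⟨hy₁g, hy₁E⟩ y₂ ⟨hy₂g, hy₂E⟩ h12
    haveI : y₁.asIdeal.IsMaximal := hBmax _ y₁.2
    haveI : y₂.asIdeal.IsMaximal := hBmax _ y₂.2
    obtain ⟨P, hPp, hP1, hP2⟩ := exists_prime_tensor (A := A) y₁.asIdeal y₂.asIdeal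
      (congrArg PrimeSpectrum.asIdeal h12)
    have hPE : PrimeSpectrum.comap (algebraMap A (B ⊗[A] B)) ⟨P, hPp⟩ ∉ E := by
      rw [← hcontr ⟨P, hPp⟩]
      have : PrimeSpectrum.comap
          (Algebra.TensorProduct.includeLeft : B →ₐ[A] B ⊗[A] B).toRingHom ⟨P, hPp⟩ = y₁ := by
        ext1
        exact hP1
      rw [this]
      exact hy₁E
    have hPΩ : (⟨P, hPp⟩ : PrimeSpectrum (B ⊗[A] B)) ∉ Ω := fun h => hPE (hE ▸ ⟨_, h, rfl⟩)
    have hg1 : g ⊗ₜ[A] (1 : B) ∉ P := by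
      intro h
      apply hy₁g
      rw [← hP1]
      exact h
    have hg2 : (1 : B) ⊗ₜ[A] g ∉ P := by
      intro h
      apply hy₂g
      rw [← hP2]
      exact h
    have hgP : g ⊗ₜ[A] g ∉ P := by
      rw [hgg]
      intro h
      rcases hPp.mem_or_mem h with h | h
      · exact hg1 h
      · exact hg2 h
    have hIP : I ≤ P := by
      by_contra hn
      apply hPΩ
      rw [hΩ]
      exact ⟨hgP, fun h => hn h⟩
    ext1
    ext b
    have hb : (1 : B) ⊗ₜ[A] b - b ⊗ₜ[A] (1 : B) ∈ P :=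
      hIP (hI ▸ KaehlerDifferential.one_smul_sub_smul_one_mem_ideal A b)
    rw [← hP1, ← hP2]
    show b ⊗ₜ[A] (1 : B) ∈ P ↔ (1 : B) ⊗ₜ[A] b ∈ P
    constructor
    · intro h
      have := P.add_mem hb h
      rwa [sub_add_cancel] at this
    · intro h
      have := P.sub_mem h hb
      rwa [sub_sub_cancel] at this

end Groth.Agent.S0750
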