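import Groth.Statements.S1713
import Groth.Agent.Lib.Helper14LDualG
import Groth.Agent.S0299
import Groth.Agent.S6035

set_option autoImplicit false
universe u
open CategoryTheory
attribute [local instance] HasDerivedCategory.standard
open Dual

namespace Groth.Agent.S1713

/-- Let A be a Noetherian local ring with maximal ideal m and a normalized dualizing complex ω, and M a
finite A-module. For every i ≥ 0 the annihilator of the A-module of maps M → ω[-i] in D(A) equals
the annihilator of the local cohomology module H^i_m(M). -/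
theorem result (A : Type u) [CommRing A] [IsLocalRing A] [IsNoetherianRing A] (ω : Dual.D A) (hω : Dual.IsDualizing A ω) (hn : Dual.IsNormalized A ω) (M : Type u) [AddCommGroup M] [Module A M] [Module.Finite A M] (i : ℕ) : Module.annihilator A (Dual.inD A M ⟶ ω⟦(-(i : ℤ))⟧) = Module.annihilator A (LocCoh.H (IsLocalRing.maximalIdeal A) i M) := by
  classical
  obtain ⟨E, _, _, f, hf⟩ := Groth.Agent.S0299.result A (IsLocalRing.ResidueField A)
  -- the module `T = Hom_D(M, ω[-i])` is finite, hence has a model in `Type u`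
  have hT : Module.Finite A (Dual.inD A M ⟶ ω⟦(-(i : ℤ))⟧) :=
    Groth.Agent.Lib.Helper14.LDual.finite_T ω hω (-(i : ℤ)) (ModuleCat.of A M)
  obtain ⟨n, π, hπ⟩ := Module.Finite.exists_fin' A (Dual.inD A M ⟶ ω⟦(-(i : ℤ))⟧)
  let T' := (Fin n → A) ⧸ LinearMap.ker π
  let e : T' ≃ₗ[A] (Dual.inD A M ⟶ ω⟦(-(i : ℤ))⟧) := LinearMap.quotKerEquivOfSurjective π hπ
  -- local duality
  let ψ : LocCoh.H (IsLocalRing.maximalIdeal A) i M ≃ₗ[A]
      ((Dual.inD A M ⟶ ω⟦(-(i : ℤ))⟧) →ₗ[A] E) :=
    LinearEquiv.ofBijective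
      (Groth.Agent.Lib.Helper14.LDual.Psi ω hω hn f hf i (ModuleCat.of A M))
      (Groth.Agent.Lib.Helper14.LDual.Psi_bijective ω hω hn f hf i M)
  let c : (T' →ₗ[A] E) ≃ₗ[A] LocCoh.H (IsLocalRing.maximalIdeal A) i M :=
    (LinearEquiv.arrowCongr e (LinearEquiv.refl A E)).trans ψ.symm
  rw [← e.annihilator_eq, ← c.annihilator_eq]
  have hsoc := Groth.Agent.S6035.socGen_of_hull f hf
  ext a
  rw [Module.mem_annihilator, Module.mem_annihilator]
  constructor
  · intro h φ
    refine LinearMap.ext fun t => ?_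
    rw [LinearMap.smul_apply, ← map_smul, h t, map_zero, LinearMap.zero_apply]
  · intro h t
    by_contra hne
    obtain ⟨φ, hφ⟩ := Groth.Agent.S6035.cogen hsoc T' (a • t) hne
    have h1 := LinearMap.congr_fun (h φ) t
    rw [LinearMap.smul_apply, ← map_smul, hφ, LinearMap.zero_apply] at h1
    exact hsoc.ne h1

end Groth.Agent.S1713
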