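import Groth.Statements.S1751
import Groth.Agent.Lib.Helper14HDTI

set_option autoImplicit false
set_option linter.style.haveILetI false
universe u
open LocCoh
open CategoryTheory
attribute [local instance] HasDerivedCategory.standard

namespace Groth.Agent.S1751

/-- (1)⇔(2) for a general subset T ⊆ Spec A stable under specialization. Let A be a Noetherian ring, M a
finite A-module and n ≥ 0. Then H^i_T(M) is a finite A-module for all i ≤ n if and only if there is
an ideal J with V(J) ⊆ T annihilating H^i_T(M) for all i ≤ n. -/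
theorem result (A : Type u) [CommRing A] [IsNoetherianRing A] (T : Set (PrimeSpectrum A)) (hT : StableUnderSpecialization T) (M : Type u) [AddCommGroup M] [Module A M] [Module.Finite A M] (n : ℕ) : (∀ i : ℕ, i ≤ n → Module.Finite A (Dual2.HT T i M)) ↔ ∃ J : Ideal A, PrimeSpectrum.zeroLocus (J : Set A) ⊆ T ∧ ∀ i : ℕ, i ≤ n → ∀ a ∈ J, ∀ x : Dual2.HT T i M, a • x = 0 := by
  classical
  let P : ModuleCat.{u} A := ModuleCat.of A M
  let K : Dual.D A := (DerivedCategory.singleFunctor (ModuleCat.{u} A) 0).obj P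
  haveI : Module.Finite A P := inferInstanceAs (Module.Finite A M)
  have hKa : ∀ i : ℤ, i < 0 → Subsingleton (Dual.HD A K i) := fun i hi =>
    ModuleCat.subsingleton_of_isZero (DerivedCategory.isZero_of_isGE K 0 i hi)
  have hK : ∀ i : ℤ, Module.Finite A (Dual.HD A K i) :=
    fun i => Groth.Agent.Lib.Helper14.HDT.finite_homology_dsgl P i
  have hneg : ∀ i : ℤ, i < 0 → Subsingleton (Groth.Agent.Lib.Helper14.HDT.FT T (K⟦i⟧)) :=
    fun i hi => Groth.Agent.Lib.Helper14.HDT.subsingleton_FT_shift_of_neg T K i hi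
  have hmain := Groth.Agent.Lib.Helper14.HDT.finite_iff_ann T hT K 0 hKa hK (n : ℤ)
  have e : ∀ k : ℕ, Groth.Agent.Lib.Helper14.HDT.FT T (K⟦(k : ℤ)⟧) ≃ₗ[A] Dual2.HT T k M :=
    fun k => Groth.Agent.Lib.Helper14.HDT.compEquiv T k P
  constructor
  · intro hfin
    have h1 : ∀ i : ℤ, i ≤ (n : ℤ) → Module.Finite A (Groth.Agent.Lib.Helper14.HDT.FT T (K⟦i⟧)) := by
      intro i hi
      by_cases hi0 : i < 0
      · haveI := hneg i hi0
        infer_instance
      · obtain ⟨k, rfl⟩ : ∃ k : ℕ, i = (k : ℤ) := ⟨i.toNat, by omega⟩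
        haveI := hfin k (by omega)
        exact Module.Finite.equiv (e k).symm
    obtain ⟨J, hJ, hann⟩ := hmain.mp h1
    refine ⟨J, hJ, fun i hi a ha x => ?_⟩
    have h2 := hann (i : ℤ) (by omega) a ha ((e i).symm x)
    have h3 := congrArg (e i) h2
    rwa [map_smul, LinearEquiv.apply_symm_apply, map_zero] at h3
  · rintro ⟨J, hJ, hann⟩
    have h1 : ∀ i : ℤ, i ≤ (n : ℤ) → ∀ x : A, x ∈ J →
        ∀ y : Groth.Agent.Lib.Helper14.HDT.FT T (K⟦i⟧), x • y = 0 := by
      intro i hi x hx y
      by_cases hi0 : i < 0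
      · haveI := hneg i hi0
        exact Subsingleton.elim _ _
      · obtain ⟨k, rfl⟩ : ∃ k : ℕ, i = (k : ℤ) := ⟨i.toNat, by omega⟩
        have h2 := hann k (by omega) x hx (e k y)
        rw [← map_smul] at h2
        exact (e k).injective (h2.trans (map_zero _).symm)
    have hfin := hmain.mpr ⟨J, hJ, h1⟩
    intro i hi
    haveI := hfin (i : ℤ) (by omega)
    exact Module.Finite.equiv (e i)

end Groth.Agent.S1751
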