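import Groth.Statements.S6285
import Mathlib
import Groth.Agent.Lib.Helper25Minors
-- import your own Groth.Agent.* helpers here

set_option autoImplicit false
universe u
open CAlg

namespace Groth.Agent.S6285.Aux
set_option autoImplicit false
namespace SuppFP
open Matrix

theorem main (R : Type u) [CommRing R] (M : Type u) [AddCommGroup M] [Module R M]
    [Module.FinitePresentation R M] :
    IsClosed (Module.support R M) ∧ IsCompact (Module.support R M)ᶜ := by
  classical
  obtain ⟨b, K, e, hK⟩ := Module.FinitePresentation.exists_fin R M
  obtain ⟨a, c, hc⟩ := Submodule.fg_iff_exists_fin_generating_family.mp hK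
  let δ : (Fin b → Fin a) → R := fun f => det (Matrix.of fun i => c (f i))
  have hminor : ∀ f, δ f ∈ Module.annihilator R M := by
    intro f
    rw [Module.mem_annihilator]
    intro m
    obtain ⟨w, hw⟩ := K.mkQ_surjective (e m)
    set T : Matrix (Fin b) (Fin b) R := Matrix.of fun i => c (f i) with hT
    have hmem : det T • w ∈ K := by
      have h1 : det T • w = (w ᵥ* adjugate T) ᵥ* T := by
        rw [Matrix.vecMul_vecMul, Matrix.adjugate_mul, Matrix.vecMul_smul, Matrix.vecMul_one]
      rw [h1]
      have h2 : ∀ u : Fin b → R, u ᵥ* T = ∑ i, u i • c (f i) := by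
        intro u
        funext j
        simp [Matrix.vecMul, dotProduct, T, Finset.sum_apply]
      rw [h2]
      refine Submodule.sum_mem _ fun i _ => Submodule.smul_mem _ _ ?_
      rw [← hc]
      exact Submodule.subset_span ⟨f i, rfl⟩
    apply e.injective
    rw [map_smul, ← hw, map_zero, ← map_smul, Submodule.mkQ_apply, Submodule.Quotient.mk_eq_zero]
    exact hmem
  have hsupp : Module.support R M = PrimeSpectrum.zeroLocus (Set.range δ) := by
    rw [Module.support_eq_zeroLocus]
    ext p
    simp only [PrimeSpectrum.mem_zeroLocus, SetLike.coe_subset_coe]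
    constructor
    · rintro hp _ ⟨f, rfl⟩
      exact hp (hminor f)
    · intro hp r hr
      -- rows of r • 1 lie in K
      have hrows : ∀ j : Fin b, r • (Pi.single j 1 : Fin b → R) ∈ Submodule.span R (Set.range c) := by
        intro j
        rw [hc]
        have := Module.mem_annihilator.mp hr (e.symm (K.mkQ (Pi.single j 1)))
        rw [← map_smul, ← map_smul, LinearEquiv.map_eq_zero_iff, Submodule.mkQ_apply,
          Submodule.Quotient.mk_eq_zero] at this
        exact this
      have hdet := Groth.Agent.Lib.Helper25.MultilinearMap.map_mem_of_span
        (Matrix.detRowAlternating (R := R) (n := Fin b)).toMultilinearMap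
        (Ideal.span (Set.range δ)) (Set.range c)
        (by
          intro g hg
          choose f hf using hg
          have : g = fun i => c (f i) := funext fun i => (hf i).symm
          rw [this]
          exact Ideal.subset_span ⟨f, rfl⟩)
        (fun j => r • (Pi.single j 1 : Fin b → R)) hrows
      have hval : (Matrix.detRowAlternating (R := R) (n := Fin b)).toMultilinearMap
          (fun j => r • (Pi.single j 1 : Fin b → R)) = r ^ b := by
        change det (Matrix.of fun j => r • (Pi.single j 1 : Fin b → R)) = r ^ b
        have : (Matrix.of fun j => r • (Pi.single j 1 : Fin b → R)) = r • (1 : Matrix (Fin b) (Fin b) R) := by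
          ext i j
          simp [Matrix.one_apply, Pi.single_apply, eq_comm]
        rw [this, Matrix.det_smul, Matrix.det_one, mul_one, Fintype.card_fin]
      rw [hval] at hdet
      have hle : Ideal.span (Set.range δ) ≤ p.asIdeal := Ideal.span_le.mpr hp
      exact p.2.mem_of_pow_mem b (hle hdet)
  rw [hsupp]
  refine ⟨PrimeSpectrum.isClosed_zeroLocus _, ?_⟩
  have : (PrimeSpectrum.zeroLocus (Set.range δ))ᶜ =
      ⋃ f, (PrimeSpectrum.basicOpen (δ f) : Set (PrimeSpectrum R)) := by
    ext p
    simp [PrimeSpectrum.mem_zeroLocus, Set.subset_def]
  rw [this]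
  exact isCompact_iUnion fun f => PrimeSpectrum.isCompact_basicOpen (δ f)

end SuppFP

end Groth.Agent.S6285.Aux

namespace Groth.Agent.S6285

/-- For a ring R and an R-module M of finite presentation, the support Supp(M) is closed in Spec(R), and
its complement in Spec(R) is quasi-compact. -/
theorem result (R : Type u) [CommRing R] (M : Type u) [AddCommGroup M] [Module R M] [Module.FinitePresentation R M] : IsClosed (Module.support R M) ∧ IsCompact (Module.support R M)ᶜ := by
  exact Aux.SuppFP.main R M

end Groth.Agent.S6285
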