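import Groth.Statements.S9780
import Groth.Agent.Lib.Helper7RelAssBC
import Groth.Agent.Lib.Helper26FibInj
import Mathlib

set_option autoImplicit false
set_option linter.style.haveILetI false
universe u
open FlatMor

namespace Groth.Agent.S9780

open AlgebraicGeometry CategoryTheory Limits TensorProduct IsLocalRing
open Groth.Agent.Lib.Helper4.NormDelta Groth.Agent.Lib.Helper26.StalkBC
  Groth.Agent.Lib.Helper26.FibFlatSch Groth.Agent.Lib.Helper2.PullbackSec
  Groth.Agent.Lib.Helper7.RelAssBC Groth.Agent.Lib.Helper7.FibreBC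

-- associated primes along a surjective semilinear map with matched kernels
theorem isAssociatedPrime_quotient_iff_of_semilinear {B C M N : Type*} [CommRing B] [CommRing C]
    [IsLocalRing B] [IsLocalRing C]
    [AddCommGroup M] [Module B M] [AddCommGroup N] [Module C N]
    (φ : B →+* C) [IsLocalHom φ] (hφ : Function.Surjective φ) (u : M →+ N)
    (hu : Function.Surjective u)
    (hsl : ∀ (b : B) (m : M), u (b • m) = φ b • u m)
    (J : Ideal B)
    (hker : ∀ m : M, u m = 0 ↔ m ∈ J • (⊤ : Submodule B M)) :
    IsAssociatedPrime (maximalIdeal B) (M ⧸ J • (⊤ : Submodule B M)) ↔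
      IsAssociatedPrime (maximalIdeal C) N := by
  have hloc : ∀ b : B, b ∈ maximalIdeal B ↔ φ b ∈ maximalIdeal C := by
    intro b
    rw [mem_maximalIdeal, mem_maximalIdeal, mem_nonunits_iff, mem_nonunits_iff, not_iff_not]
    exact ⟨fun h => h.map φ, fun h => isUnit_of_map_unit φ b h⟩
  have hpow : ∀ (x : M) (b : B) (k : ℕ),
      (b ^ k • (Submodule.Quotient.mk x : M ⧸ J • (⊤ : Submodule B M)) = 0) ↔
        (φ b ^ k • u x = 0) := by
    intro x b k
    rw [← Submodule.Quotient.mk_smul, Submodule.Quotient.mk_eq_zero, ← hker, hsl, map_pow]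
  have key : ∀ x : M,
      maximalIdeal B = ((⊥ : Submodule B (M ⧸ J • (⊤ : Submodule B M))).colon
        {(Submodule.Quotient.mk x : M ⧸ J • (⊤ : Submodule B M))}).radical ↔
      maximalIdeal C = ((⊥ : Submodule C N).colon {u x}).radical := by
    intro x
    constructor
    · intro h
      ext c
      obtain ⟨b, rfl⟩ := hφ c
      rw [← hloc, h, Ideal.mem_radical_iff, Ideal.mem_radical_iff]
      simp only [Submodule.mem_colon_singleton, Submodule.mem_bot]
      exact exists_congr fun k => hpow x b k
    · intro h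
      ext b
      rw [hloc, h, Ideal.mem_radical_iff, Ideal.mem_radical_iff]
      simp only [Submodule.mem_colon_singleton, Submodule.mem_bot]
      exact exists_congr fun k => (hpow x b k).symm
  constructor
  · rintro ⟨_, xb, hx⟩
    obtain ⟨x, rfl⟩ := Submodule.Quotient.mk_surjective _ xb
    exact ⟨inferInstance, u x, (key x).mp hx⟩
  · rintro ⟨_, n, hn⟩
    obtain ⟨x, rfl⟩ := hu n
    exact ⟨inferInstance, Submodule.Quotient.mk x, (key x).mpr hn⟩

-- relative assassin in terms of associated points of the fibre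
theorem mem_relAss_iff {X S : Scheme.{u}} (f : X ⟶ S) (F : X.Modules) [F.IsQuasicoherent]
    (s : S) (z : f.fiber s) :
    f.fiberι s z ∈ MoreMor.relAss f F ↔
      Curv2.IsAssPoint ((Scheme.Modules.pullback (f.fiberι s)).obj F) z := by
  have hs : Function.Surjective ((f.fiberι s).stalkMap z).hom := (f.fiberι s).stalkMap_surjective z
  have hk := ker_stalkMap_fiberι f s z
  unfold MoreMor.relAss Curv2.IsAssPoint
  rw [Set.mem_ofPred_eq]
  refine isAssociatedPrime_quotient_iff_of_semilinear ((f.fiberι s).stalkMap z).hom hs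
    (stalkUnit (f.fiberι s) F z).hom (stalkUnit_surjective_of_surjective (f.fiberι s) F z hs)
    (fun b m => stalkUnit_smul (f.fiberι s) F z b m) _ (fun m => ?_)
  rw [← hk]
  exact stalkUnit_eq_zero_iff_of_surjective (f.fiberι s) F z hs m

theorem surjective_SpecMap_residueFieldMap {X S : Scheme.{u}} (f : X ⟶ S) (x : X) :
    Surjective (Spec.map (f.residueFieldMap x)) := by
  have h : (f.residueFieldMap x).hom.FaithfullyFlat := by
    letI := (f.residueFieldMap x).hom.toAlgebra
    change Module.FaithfullyFlat _ _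
    infer_instance
  exact ((flat_and_surjective_SpecMap_iff _).mpr h).2

theorem exists_maximal_over {X S X' S' : Scheme.{u}} {f : X ⟶ S} {f' : X' ⟶ S'} {g' : X' ⟶ X}
    {g : S' ⟶ S} (hc : IsPullback g' f' f g) (x : X) (y : g.fiber (f x)) :
    ∃ z : g'.fiber x, fibreMap hc x z = y ∧
      ∀ z' : g'.fiber x, fibreMap hc x z' = fibreMap hc x z → z' ⤳ z → z' = z := by
  haveI := surjective_SpecMap_residueFieldMap f x
  have hsurj : Surjective (fibreMap hc x) :=
    MorphismProperty.of_isPullback (isPullback_fibreMap hc x).flip inferInstance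
  obtain ⟨z₀, hz₀⟩ := hsurj.surj y
  obtain ⟨w₀, hw₀⟩ : z₀ ∈ Set.range ((fibreMap hc x).fiberι y) := by
    rw [Scheme.Hom.range_fiberι]; exact hz₀
  -- generic point of an irreducible component of the fibre of fibreMap over y
  have hirr : IsIrreducible (irreducibleComponent w₀) := isIrreducible_irreducibleComponent
  have hgen : IsGenericPoint hirr.genericPoint (irreducibleComponent w₀) :=
    hirr.isGenericPoint_genericPoint isClosed_irreducibleComponent
  set η := hirr.genericPoint with hη
  refine ⟨(fibreMap hc x).fiberι y η, fiberι_mem' _ _ _, ?_⟩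
  intro z' hz' hsp
  rw [fiberι_mem'] at hz'
  obtain ⟨w', hw'⟩ : z' ∈ Set.range ((fibreMap hc x).fiberι y) := by
    rw [Scheme.Hom.range_fiberι]; exact hz'
  have hspw : w' ⤳ η := by
    rw [← ((fibreMap hc x).fiberι y).isEmbedding.toIsInducing.specializes_iff, hw']
    exact hsp
  -- closure {w'} is irreducible and contains the component
  have hcl : irreducibleComponent w₀ ⊆ closure {w'} := by
    rw [← hgen.def]
    exact specializes_iff_closure_subset.mp hspw
  have hmax := irreducibleComponent_mem_irreducibleComponents w₀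
  have hle : closure {w'} ⊆ irreducibleComponent w₀ :=
    hmax.2 (isIrreducible_singleton.closure) hcl
  have hspw' : η ⤳ w' := by
    rw [specializes_iff_closure_subset, hgen.def]
    exact hle
  have : w' = η := (hspw.antisymm hspw').eq
  rw [← hw', this]

open AlgebraicGeometry CategoryTheory Limits in
/-- Let f : X ⟶ S be locally of finite type, F a quasi-coherent O_X-module of finite type and U ⊆ X an
open subscheme. For a base change f' : X' ⟶ S' of f along S' ⟶ S with projection g' : X' ⟶ X, F' =
(g')^*F and U' = (g')⁻¹(U), and a point s' of S' with image s: the associated points of F on the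
fibre X_s lie in U if and only if the associated points of F' on the fibre X'_{s'} lie in U'. -/
theorem result {X S X' S' : Scheme.{u}} (f : X ⟶ S) [LocallyOfFiniteType f] (F : X.Modules) [Coh.IsQCoh F]
    (hF : CohB1.IsFT F) (U : X.Opens) (g : S' ⟶ S) (f' : X' ⟶ S') (g' : X' ⟶ X) (hc : IsPullback g' f' f g) (s' : S') :
    {x : ↑X | x ∈ MoreMor.relAss f F ∧ f x = g s'} ⊆ (U : Set ↑X) ↔
      {x' : ↑X' | x' ∈ MoreMor.relAss f' ((Scheme.Modules.pullback g').obj F) ∧ f' x' = s'} ⊆ (g' ⁻¹ᵁ U : Set ↑X') := by
  haveI : F.IsQuasicoherent := ‹Coh.IsQCoh F›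
  haveI : ((Scheme.Modules.pullback g').obj F).IsQuasicoherent := isQuasicoherent_pullback g' F
  haveI : LocallyOfFiniteType f' := MorphismProperty.of_isPullback hc inferInstance
  haveI : LocallyOfFiniteType (f'.fiberToSpecResidueField s') :=
    inferInstanceAs (LocallyOfFiniteType (pullback.snd f' (S'.fromSpecResidueField s')))
  haveI : LocallyOfFiniteType (f.fiberToSpecResidueField (g s')) :=
    inferInstanceAs (LocallyOfFiniteType (pullback.snd f (S.fromSpecResidueField (g s'))))
  haveI : IsLocallyNoetherian (f'.fiber s') :=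
    LocallyOfFiniteType.isLocallyNoetherian (f'.fiberToSpecResidueField s')
  haveI : IsLocallyNoetherian (f.fiber (g s')) :=
    LocallyOfFiniteType.isLocallyNoetherian (f.fiberToSpecResidueField _)
  have key := fun z : f'.fiber s' => isAssPoint_fibre_pullback_iff_maximal hc.flip F s'
    (fun z => inferInstance) (fun y => inferInstance) z
  constructor
  · intro h x' ⟨hx', hs⟩
    obtain ⟨z, rfl⟩ : x' ∈ Set.range (f'.fiberι s') := by
      rw [Scheme.Hom.range_fiberι]; exact hs
    rw [mem_relAss_iff, key z] at hx'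
    have h1 : f.fiberι (g s') (fibreMap hc.flip s' z) ∈ MoreMor.relAss f F := by
      rw [mem_relAss_iff]; exact hx'.1
    have h2 := h ⟨h1, fiberι_mem' _ _ _⟩
    rw [fibreMap_apply] at h2
    exact h2
  · intro h x ⟨hx, hs⟩
    obtain ⟨y, rfl⟩ : x ∈ Set.range (f.fiberι (g s')) := by
      rw [Scheme.Hom.range_fiberι]; exact hs
    rw [mem_relAss_iff] at hx
    obtain ⟨z, hz, hmax⟩ := exists_maximal_over hc.flip s' y
    have h1 : f'.fiberι s' z ∈ MoreMor.relAss f' ((Scheme.Modules.pullback g').obj F) := by
      rw [mem_relAss_iff, key z]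
      refine ⟨?_, hmax⟩
      rw [hz]; exact hx
    have h2 := h ⟨h1, fiberι_mem' _ _ _⟩
    change g' (f'.fiberι s' z) ∈ (U : Set X) at h2
    rw [← fibreMap_apply hc.flip, hz] at h2
    exact h2

end Groth.Agent.S9780
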