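import Groth.Statements.S1576
import Mathlib
import Groth.Agent.Lib.Helper23AssAffine
import Groth.Agent.Lib.Helper23FinType2
-- import your own Groth.Agent.* helpers here

set_option autoImplicit false
universe u
open CategoryTheory CategoryTheory.Limits AlgebraicGeometry
open Divisors

namespace Groth.Agent.S1576


open Groth.Agent.Lib.Helper23.AssAffine Groth.Agent.Lib.Helper23.FinType

theorem finite_ass_affine (X : Scheme.{u}) [IsLocallyNoetherian X]
    (F : X.Modules) (hF : Coh.IsCoh F) (V : X.affineOpens) :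
    {x : X | x ∈ (V : X.Opens) ∧ Curv2.IsAssPoint F x}.Finite := by
  haveI := hF.1
  have hV : IsAffineOpen (V : X.Opens) := V.2
  haveI : IsNoetherianRing Γ(X, (V : X.Opens)) := IsLocallyNoetherian.component_noetherian V
  haveI : Module.Finite Γ(X, (V : X.Opens)) Γ(F, (V : X.Opens)) :=
    (isFiniteType_iff_forall_affine F).1 hF.2 V hV
  have hfin := associatedPrimes.finite Γ(X, (V : X.Opens)) Γ(F, (V : X.Opens))
  classical
  refine Set.Finite.of_injOn
    (f := fun x => if hx : x ∈ (V : X.Opens) then (hV.primeIdealOf ⟨x, hx⟩).asIdeal else ⊥)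
    ?_ ?_ hfin
  · rintro x ⟨hx, hass⟩
    simp only [dif_pos hx]
    exact (isAssPoint_iff_mem_associatedPrimes hV F x hx).1 hass
  · rintro x ⟨hx, -⟩ x' ⟨hx', -⟩ h
    simp only [dif_pos hx, dif_pos hx'] at h
    have h2 : hV.primeIdealOf ⟨x, hx⟩ = hV.primeIdealOf ⟨x', hx'⟩ := PrimeSpectrum.ext h
    have h3 : hV.fromSpec (hV.primeIdealOf ⟨x, hx⟩) = hV.fromSpec (hV.primeIdealOf ⟨x', hx'⟩) := by
      rw [h2]
    rw [IsAffineOpen.fromSpec_primeIdealOf, IsAffineOpen.fromSpec_primeIdealOf] at h3
    exact h3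

/-- Let X be locally Noetherian and F coherent. Then the associated points of F lying in any
quasi-compact open subset form a finite set. -/
theorem result (X : Scheme.{u}) [IsLocallyNoetherian X]
    (F : X.Modules) (hF : Coh.IsCoh F) (U : X.Opens) (hU : IsCompact (U : Set X)) :
    {x : X | x ∈ U ∧ Curv2.IsAssPoint F x}.Finite := by
  obtain ⟨s, hs, e⟩ := (isCompact_iff_finite_and_eq_biUnion_affineOpens).1 hU
  refine (Set.Finite.biUnion hs (fun V _ => finite_ass_affine X F hF V)).subset ?_
  rintro x ⟨hxU, hass⟩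
  rw [e] at hxU
  simp only [TopologicalSpace.Opens.mem_iSup] at hxU
  obtain ⟨V, hV, hxV⟩ := hxU
  exact Set.mem_iUnion₂.2 ⟨V, hV, hxV, hass⟩

end Groth.Agent.S1576
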