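import Groth.Statements.S4744
import Mathlib
import Groth.Agent.Lib.Helper28ComplFlatLocal
-- import your own Groth.Agent.* helpers here

set_option autoImplicit false
universe u
open EGA4

namespace Groth.Agent.S4744
open Groth.Agent.Lib.Helper28 IsLocalRing

/-- Let A → A' be a flat local homomorphism of Noetherian local rings all of whose fibre rings k(p) ⊗_A
A' are Cohen–Macaulay. If the completion map of A' is regular (the formal fibres of A' are
geometrically regular), then the formal fibres of A are Cohen–Macaulay. -/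
theorem result (A A' : Type u) [CommRing A] [CommRing A'] [IsNoetherianRing A]
    [IsNoetherianRing A'] [IsLocalRing A] [IsLocalRing A'] [Algebra A A'] [IsLocalHom (algebraMap A A')]
    [Module.Flat A A'] (hf : ∀ (p : Ideal A) [p.IsPrime], LocCoh.IsCohenMacaulayRing (p.Fiber A'))
    (hA' : CAlg.IsRegularHom A' (EGA4.Cpl A')) : EGA4.HasCMFormalFibres A := by
  obtain ⟨alg, htower, hloc, hflat⟩ := exists_algebra_adicCompletion_of_isLocalHom A A'
  have hfl := hflat inferInstance
  have hff : Module.FaithfullyFlat (EGA4.Cpl A) (EGA4.Cpl A') :=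
    Module.FaithfullyFlat.of_flat_of_isLocalHom
  have h1 : ∀ (q : Ideal A') [q.IsPrime], LocCoh.IsCohenMacaulayRing (q.Fiber (EGA4.Cpl A')) := by
    intro q _
    obtain ⟨hN, hreg⟩ := hA'.2 q
    have h2 := hreg q.ResidueField (Module.Finite.self _)
    have h3 : IsRegularRing (q.Fiber (EGA4.Cpl A')) :=
      IsRegularRing.of_ringEquiv (R := TensorProduct q.ResidueField q.ResidueField
        (q.Fiber (EGA4.Cpl A')))
        (Algebra.TensorProduct.lid q.ResidueField (q.Fiber (EGA4.Cpl A'))).toRingEquiv
    exact ⟨fun P _ => Groth.Agent.Lib.Helper5.isCohenMacaulayLocalRing_of_isRegularLocalRing _⟩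
  have h2 := (isCohenMacaulayRing_fiber_comp A A' (EGA4.Cpl A') hf h1)
  have := h2.1
  exact (isCohenMacaulayRing_fiber_descent A (EGA4.Cpl A) (EGA4.Cpl A') h2.2).2

end Groth.Agent.S4744
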