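import Groth.Statements.S11179
import Groth.Agent.Lib.Helper1GlDim

set_option autoImplicit false
universe u
open CategoryTheory
attribute [local instance] HasDerivedCategory.standard
open Goren

namespace Groth.Agent.S11179

open DerivedCategory Groth.Agent.S14388 Groth.Agent.Lib.Helper1.GlDim

theorem subsingleton_neg {A : Type u} [CommRing A] (M N : ModuleCat.{u} A) (i : ℤ) (hi : i < 0) :
    Subsingleton ((singleFunctor (ModuleCat.{u} A) 0).obj M ⟶
      (shiftFunctor (DerivedCategory (ModuleCat.{u} A)) i).obj
        ((singleFunctor (ModuleCat.{u} A) 0).obj N)) := by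
  refine ⟨fun f g => ?_⟩
  have h1 : ((shiftFunctor (DerivedCategory (ModuleCat.{u} A)) i).obj
      ((singleFunctor (ModuleCat.{u} A) 0).obj N)).IsGE (-i) :=
    tt.isGE_shift ((singleFunctor (ModuleCat.{u} A) 0).obj N) 0 i (-i) (by omega)
  rw [tt.zero_of_isLE_of_isGE f 0 (-i) (by omega) inferInstance h1,
    tt.zero_of_isLE_of_isGE g 0 (-i) (by omega) inferInstance h1]

theorem subsingleton_hom_of_id {A : Type u} [CommRing A] (M N : ModuleCat.{u} A) (d : ℕ)
    (h : HasInjectiveDimensionLT N d) (n : ℤ) (hn : (d : ℤ) ≤ n) :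
    Subsingleton ((singleFunctor (ModuleCat.{u} A) 0).obj M ⟶
      (shiftFunctor (DerivedCategory (ModuleCat.{u} A)) n).obj
        ((singleFunctor (ModuleCat.{u} A) 0).obj N)) := by
  obtain ⟨m, rfl⟩ : ∃ m : ℕ, n = m := ⟨n.toNat, (Int.toNat_of_nonneg (by omega)).symm⟩
  have hs : Subsingleton (Abelian.Ext.{u} M N m) :=
    HasInjectiveDimensionLT.subsingleton N d m (by omega) M
  exact (Abelian.Ext.homEquiv (X := M) (Y := N) (n := m)).symm.subsingleton

theorem dualizing_of_injDim {A : Type u} [CommRing A] [IsNoetherianRing A] (d : ℕ)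
    (h : HasInjectiveDimensionLT (ModuleCat.of A A) d) : Dual.IsDualizing A (Dual.inD A A) := by
  refine ⟨inferInstance, ⟨0, d, fun M _ _ i hi => ?_⟩, fun i => ?_, ?_, fun i hi => ?_⟩
  · rcases hi with hi | hi
    · exact subsingleton_neg _ _ i hi
    · exact subsingleton_hom_of_id (ModuleCat.of A M) (ModuleCat.of A A) d h i hi.le
  · by_cases hi : i = 0
    · subst hi
      let e : (homologyFunctor (ModuleCat.{u} A) 0).obj
          ((DerivedCategory.singleFunctor (ModuleCat.{u} A) 0).obj (ModuleCat.of A A)) ≅ ModuleCat.of A A :=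
        (singleFunctorCompHomologyFunctorIso (ModuleCat.{u} A) 0).app (ModuleCat.of A A)
      exact Module.Finite.equiv e.symm.toLinearEquiv
    · have hz : Limits.IsZero ((homologyFunctor (ModuleCat.{u} A) i).obj (Dual.inD A A)) := by
        rcases lt_or_gt_of_ne hi with h | h
        · exact isZero_of_isGE _ 0 i h
        · exact isZero_of_isLE _ 0 i h
      have := ModuleCat.subsingleton_of_isZero hz
      infer_instance
  · constructor
    · intro a b hab
      have h1 : (DerivedCategory.singleFunctor (ModuleCat.{u} A) 0).map (a • 𝟙 (ModuleCat.of A A)) =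
          (DerivedCategory.singleFunctor (ModuleCat.{u} A) 0).map (b • 𝟙 (ModuleCat.of A A)) := by
        rw [Functor.map_smul, Functor.map_smul, CategoryTheory.Functor.map_id]
        exact hab
      have h2 := (DerivedCategory.singleFunctor (ModuleCat.{u} A) 0).map_injective h1
      have h3 := congrArg (fun f : ModuleCat.of A A ⟶ ModuleCat.of A A => f.hom (1 : A)) h2
      simpa using h3
    · intro g
      obtain ⟨g', hg'⟩ := (DerivedCategory.singleFunctor (ModuleCat.{u} A) 0).map_surjective g
      refine ⟨g'.hom (1 : A), ?_⟩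
      show g'.hom (1 : A) • 𝟙 _ = g
      rw [← hg', ← CategoryTheory.Functor.map_id, ← Functor.map_smul]
      congr 1
      ext
      simp
  · rcases lt_or_gt_of_ne hi with h | h
    · exact subsingleton_neg _ _ i h
    · have hp : HasProjectiveDimensionLT (ModuleCat.of A A) (0 + 1) :=
        projective_iff_hasProjectiveDimensionLT_one.1 inferInstance
      exact subsingleton_hom_of_pd (ModuleCat.of A A) (ModuleCat.of A A) 0 hp i (by exact_mod_cast h)

theorem injDim_of_dualizing {A : Type u} [CommRing A]
    (h : Dual.IsDualizing A (Dual.inD A A)) :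
    ∃ n : ℕ, HasInjectiveDimensionLT (ModuleCat.of A A) n := by
  obtain ⟨a, b, hab⟩ := h.finite_injective_dimension
  refine ⟨(b + 1).toNat, ?_⟩
  rw [hasInjectiveDimensionLT_iff.{u}]
  intro i hi Y e
  have hs : Subsingleton ((singleFunctor (ModuleCat.{u} A) 0).obj Y ⟶
      (shiftFunctor (DerivedCategory (ModuleCat.{u} A)) (i : ℤ)).obj
        ((singleFunctor (ModuleCat.{u} A) 0).obj (ModuleCat.of A A))) :=
    hab Y (i : ℤ) (Or.inr (by omega))
  have hs' : Subsingleton (Abelian.Ext.{u} Y (ModuleCat.of A A) i) :=
    (Abelian.Ext.homEquiv (X := Y) (Y := ModuleCat.of A A) (n := i)).subsingleton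
  exact Subsingleton.elim _ _

/-- A Noetherian local ring A is Gorenstein (A has finite injective dimension as a module over itself)
if and only if the complex A[0] is a dualizing complex for A (finite injective dimension expressed
by vanishing of maps M[0] → A[i] in D(A) outside a bounded range, finite cohomology, A → End(A[0])
bijective and no self-maps of nonzero degree). -/
theorem result (A : Type u) [CommRing A] [IsLocalRing A] [IsNoetherianRing A] : LocCoh.IsGorensteinLocalRing A ↔ Dual.IsDualizing A (Dual.inD A A) := by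
  constructor
  · intro h
    obtain ⟨n, hn⟩ := h.exists_hasInjectiveDimensionLT
    exact dualizing_of_injDim n hn
  · intro h
    exact { exists_hasInjectiveDimensionLT := injDim_of_dualizing h }

end Groth.Agent.S11179
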