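import Groth.Statements.S0376
import Groth.Agent.S0580
import Groth.Agent.S0342
import Groth.Agent.S11179
import Groth.Agent.Lib.Helper5CoextB
import Groth.Agent.Lib.Helper19PsRegular

set_option autoImplicit false
universe u v
open CategoryTheory
attribute [local instance] HasDerivedCategory.standard
open Dual

namespace Groth.Agent.S0376

/-- A complete Noetherian local ring has a dualizing complex. -/
theorem result (A : Type u) [CommRing A] [IsLocalRing A] [IsNoetherianRing A] [IsAdicComplete (IsLocalRing.maximalIdeal A) A] : ∃ ω : Dual.D A, Dual.IsDualizing A ω := by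
  have hfg : (IsLocalRing.maximalIdeal A).FG :=
    (isNoetherianRing_iff_ideal_fg A).mp inferInstance _
  obtain ⟨Λ, instΛ, n, f, hΛ, hsurj⟩ := Groth.Agent.S0580.result A hfg
  have hΛ' : IsRegularLocalRing Λ := by
    rcases hΛ with h | ⟨hdom, hdvr, hcomp, -⟩
    · letI := h.toField
      infer_instance
    · infer_instance
  haveI := hΛ'
  haveI : IsRegularLocalRing (MvPowerSeries (Fin n) Λ) :=
    Groth.Agent.Lib.Helper19.isRegularLocalRing_mvPowerSeries_of_isRegularLocalRing Λ n
  have hG : LocCoh.IsGorensteinLocalRing (MvPowerSeries (Fin n) Λ) := Groth.Agent.S0342.result _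
  have hD : Dual.IsDualizing (MvPowerSeries (Fin n) Λ)
      (Dual.inD (MvPowerSeries (Fin n) Λ) (MvPowerSeries (Fin n) Λ)) :=
    (Groth.Agent.S11179.result _).mp hG
  letI : Algebra (MvPowerSeries (Fin n) Λ) A := f.toAlgebra
  haveI : Module.Finite (MvPowerSeries (Fin n) Λ) A :=
    Module.Finite.of_surjective (Algebra.linearMap (MvPowerSeries (Fin n) Λ) A) hsurj
  exact ⟨_, Groth.Agent.Lib.Helper5.Coext.isDualizing_rightAdjoint
    (Groth.Agent.Lib.Helper5.Coext.RG (MvPowerSeries (Fin n) Λ) A)
    (Groth.Agent.Lib.Helper5.Coext.adjD (MvPowerSeries (Fin n) Λ) A) _ hD⟩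

end Groth.Agent.S0376
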