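import Groth.Statements.S0318
import Groth.Agent.Lib.Helper8LCDepth

set_option autoImplicit false
universe u v
open LocCoh

namespace Groth.Agent.S0318

/-- Part (1): =(3): for a finite module M over a Noetherian ring and an ideal I with IM ≠ M, the I-depth
of M is the least degree in which the local cohomology of M with support in I is nonzero. -/
theorem result (R : Type u) [CommRing R] [IsNoetherianRing R] (I : Ideal R) (M : Type u) [AddCommGroup M] [Module R M] [Module.Finite R M] (hIM : I • (⊤ : Submodule R M) ≠ ⊤) (n : ℕ) : LocCoh.idealDepth I M = n ↔ ((∀ i : ℕ, i < n → Subsingleton (LocCoh.H I i M)) ∧ Nontrivial (LocCoh.H I n M)) := by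
  have key : ∀ d : ℕ, LocCoh.idealDepth I M = d →
      ((∀ i : ℕ, i < d → Subsingleton (LocCoh.H I i M)) ∧ Nontrivial (LocCoh.H I d M)) := by
    intro d hd
    refine ⟨fun i hi => ⟨fun a b => ?_⟩, ?_⟩
    · rw [Groth.Agent.Lib.Helper8.LC.H_eq_zero_of_lt_depth I d M hIM (le_of_eq hd.symm) i hi a,
        Groth.Agent.Lib.Helper8.LC.H_eq_zero_of_lt_depth I d M hIM (le_of_eq hd.symm) i hi b]
    · obtain ⟨y, hy⟩ := Groth.Agent.Lib.Helper8.LC.H_ne_zero_of_depth_eq I d M hIM hd
      exact ⟨y, 0, hy⟩
  constructor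
  · exact key n
  · rintro ⟨hlt, hnt⟩
    obtain ⟨d, hd⟩ := ENat.ne_top_iff_exists.mp (Groth.Agent.Lib.Helper28.idealDepth_ne_top hIM)
    obtain ⟨hlt', hnt'⟩ := key d hd.symm
    rw [← hd]
    congr 1
    rcases lt_trichotomy d n with h | h | h
    · exact absurd (hlt d h) (not_subsingleton _)
    · exact h
    · exact absurd (hlt' n h) (not_subsingleton _)

end Groth.Agent.S0318
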