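import Groth.Statements.S0332
import Groth.Agent.Lib.Helper29Conn
import Groth.Agent.Lib.Helper28ComplCat
import Groth.Agent.Lib.Helper18ComplProd
import Groth.Agent.Lib.Helper19ComplDim
import Groth.Agent.S11617

set_option autoImplicit false
universe u v
open LocCoh

namespace Groth.Agent.S0332

set_option linter.style.haveILetI false
set_option linter.unusedSectionVars false
open IsLocalRing

section aux
open Groth.Agent.Lib.Helper29.HLVT Groth.Agent.Lib.Helper8.Cd Groth.Agent.Lib.Helper8.Acyc
  Groth.Agent.S11668 Groth.Agent.Lib.Helper29.Conn Groth.Agent.Lib.Helper8.LC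

variable (S : Type u) [CommRing S] [IsLocalRing S] [IsNoetherianRing S]
  [IsAdicComplete (maximalIdeal S) S] (d : ℕ) (hd : ringKrullDim S = d) (J : Ideal S)
  (h : ∀ p ∈ minimalPrimes S, ringKrullDim (S ⧸ p) = d → 1 ≤ ringKrullDim (S ⧸ (J ⊔ p)))

include hd h in
theorem H_quot_prime (q : Ideal S) [hq : q.IsPrime] : Subsingleton (LocCoh.H J d (S ⧸ q)) := by
  obtain ⟨e, he⟩ := exists_nat_dim_quot q hq.ne_top
  have hle : e ≤ d := by
    have := ringKrullDim_quotient_le q
    rw [he, hd] at this
    exact_mod_cast this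
  rcases Nat.lt_or_ge e d with hlt | hge
  · refine ⟨fun x y => ?_⟩
    have hdim : Module.supportDim S (S ⧸ q) < ((d : ℕ) : WithBot ℕ∞) := by
      rw [Module.supportDim_quotient_eq_ringKrullDim, he]
      exact_mod_cast hlt
    rw [Groth.Agent.Lib.Helper8.GV.H_eq_zero_of_supportDim_lt J d (S ⧸ q) hdim x,
      Groth.Agent.Lib.Helper8.GV.H_eq_zero_of_supportDim_lt J d (S ⧸ q) hdim y]
  · obtain rfl : e = d := le_antisymm hle hge
    have hqmin : q ∈ minimalPrimes S := by
      obtain ⟨p, hp, hpq⟩ := Ideal.exists_minimalPrimes_le (I := ⊥) (J := q) bot_le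
      by_contra hnot
      have hlt : p < q := lt_of_le_of_ne hpq (fun h => hnot (h ▸ hp))
      obtain ⟨x, hxq, hxp⟩ := SetLike.exists_of_lt hlt
      haveI := hp.1.1
      have h1 := dim_drop p x (fun p' hp' => by
        rw [Ideal.minimalPrimes_eq_subsingleton_self] at hp'
        rw [Set.mem_singleton_iff.mp hp']
        exact hxp)
      have h2 : ringKrullDim (S ⧸ q) ≤ ringKrullDim (S ⧸ (p ⊔ Ideal.span {x})) :=
        dim_quot_mono (sup_le hpq ((Ideal.span_singleton_le_iff_mem _).mpr hxq))
      have h3 : ringKrullDim (S ⧸ p) ≤ (e : WithBot ℕ∞) := hd ▸ ringKrullDim_quotient_le p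
      have h4 : ringKrullDim (S ⧸ q) + 1 ≤ (e : WithBot ℕ∞) :=
        (add_le_add_left h2 1).trans (h1.trans h3)
      rw [he] at h4
      have h5 : e + 1 ≤ e := by exact_mod_cast h4
      omega
    have h1 := h q hqmin he
    obtain ⟨P, hP, hleP, hPm⟩ := (pos_dim_iff (J ⊔ q)).mp (lt_of_lt_of_le zero_lt_one h1)
    haveI : IsAdicComplete (maximalIdeal (S ⧸ q)) (S ⧸ q) :=
      (Groth.Agent.Lib.Helper18ComplProd.isAdicComplete_of_finite S (S ⧸ q)).2
    have hker : RingHom.ker (Ideal.Quotient.mk q) ≤ P := by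
      rw [Ideal.mk_ker]; exact le_sup_right.trans hleP
    have hP' : (P.map (Ideal.Quotient.mk q)).IsPrime :=
      Ideal.map_isPrime_of_surjective Ideal.Quotient.mk_surjective hker
    have hcomap : (P.map (Ideal.Quotient.mk q)).comap (Ideal.Quotient.mk q) = P := by
      rw [Ideal.comap_map_of_surjective _ Ideal.Quotient.mk_surjective, ← RingHom.ker_eq_comap_bot]
      exact sup_eq_left.mpr hker
    have hP'm : P.map (Ideal.Quotient.mk q) ≠ maximalIdeal (S ⧸ q) := by
      intro heq
      apply hPm
      rw [← hcomap, heq]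
      exact IsLocalRing.eq_maximalIdeal
        (Ideal.comap_isMaximal_of_surjective _ Ideal.Quotient.mk_surjective)
    have hsub := H_subsingleton_of_complete_domain (S ⧸ q) e he (J.map (Ideal.Quotient.mk q))
      ⟨P.map (Ideal.Quotient.mk q), hP', Ideal.map_mono (le_sup_left.trans hleP), hP'm⟩
    obtain ⟨φ, -⟩ := Groth.Agent.S11614.result S (S ⧸ q) J (S ⧸ q) e
    exact φ.symm.toEquiv.subsingleton

include hd h in
theorem H_fg (N : Type u) [AddCommGroup N] [Module S N] [hN : Module.Finite S N] :
    Subsingleton (LocCoh.H J d N) := by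
  induction hN using IsNoetherianRing.induction_on_isQuotientEquivQuotientPrime S with
  | subsingleton N =>
    exact ⟨fun x y => by
      rw [Groth.Agent.Lib.Helper8.GV.H_eq_zero_of_subsingleton J d N x,
        Groth.Agent.Lib.Helper8.GV.H_eq_zero_of_subsingleton J d N y]⟩
  | quotient N p e =>
    haveI := p.2
    haveI := H_quot_prime S d hd J h p.asIdeal
    exact ((localCohomology J d).mapIso (LinearEquiv.toModuleIso e)).toLinearEquiv.toEquiv.subsingleton
  | exact N₁ N₂ N₃ f g hf hg hex h1 h3 =>
    refine ⟨fun x y => ?_⟩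
    have hS := Sfg_shortExact f g hf hg hex
    have key : ∀ y : LocCoh.H J d N₂, y = 0 := by
      intro y
      obtain ⟨x, rfl⟩ := H_exact₂ J d _ hS y (Subsingleton.elim _ _)
      rw [Subsingleton.elim x 0, map_zero]
    rw [key x, key y]

end aux

/-- Let R be Noetherian local of dimension d with completion R^; suppose that for every minimal prime p
of R^ with dim R^/p = d the quotient of R^ by I R^ + p has Krull dimension at least 1 (i.e. some
prime containing I R^ + p is not maximal). Then local cohomology with support in I vanishes in all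
degrees ≥ d for every module. -/
theorem result (R : Type u) [CommRing R] [IsLocalRing R] [IsNoetherianRing R] (I : Ideal R) (d : ℕ) (hd : ringKrullDim R = d) (h : ∀ p ∈ minimalPrimes (AdicCompletion (IsLocalRing.maximalIdeal R) R), ringKrullDim (AdicCompletion (IsLocalRing.maximalIdeal R) R ⧸ p) = d → 1 ≤ ringKrullDim (AdicCompletion (IsLocalRing.maximalIdeal R) R ⧸ (I.map (algebraMap R (AdicCompletion (IsLocalRing.maximalIdeal R) R)) ⊔ p))) (M : Type u) [AddCommGroup M] [Module R M] (i : ℕ) (hi : d ≤ i) : Subsingleton (LocCoh.H I i M) := by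
  open Groth.Agent.Lib.Helper29.HLVT Groth.Agent.Lib.Helper8.Cd Groth.Agent.Lib.Helper29.Conn
    TensorProduct in
  haveI : IsAdicComplete
      (IsLocalRing.maximalIdeal (AdicCompletion (IsLocalRing.maximalIdeal R) R))
      (AdicCompletion (IsLocalRing.maximalIdeal R) R) :=
    Groth.Agent.Lib.Helper28.isAdicComplete_maximalIdeal_adicCompletion R
  have hdS : ringKrullDim (AdicCompletion (IsLocalRing.maximalIdeal R) R) = d :=
    (Groth.Agent.Lib.Helper19.ringKrullDim_adicCompletion_maximalIdeal R).trans hd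
  have h3 : Subsingleton (LocCoh.H (I.map (algebraMap R (AdicCompletion (IsLocalRing.maximalIdeal R) R)))
      d (AdicCompletion (IsLocalRing.maximalIdeal R) R)) :=
    H_fg (AdicCompletion (IsLocalRing.maximalIdeal R) R) d hdS _ h _
  haveI : Module.FaithfullyFlat R (AdicCompletion (IsLocalRing.maximalIdeal R) R) :=
    Module.FaithfullyFlat.of_flat_of_isLocalHom
  obtain ⟨e2⟩ := Groth.Agent.S11617.result R (AdicCompletion (IsLocalRing.maximalIdeal R) R) I R d
  have e3 : (AdicCompletion (IsLocalRing.maximalIdeal R) R ⊗[R] R) ≃ₗ[AdicCompletion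
      (IsLocalRing.maximalIdeal R) R] AdicCompletion (IsLocalRing.maximalIdeal R) R :=
    TensorProduct.AlgebraTensorModule.rid R _ _
  have h4 : Subsingleton (LocCoh.H (I.map (algebraMap R (AdicCompletion (IsLocalRing.maximalIdeal R) R)))
      d (AdicCompletion (IsLocalRing.maximalIdeal R) R ⊗[R] R)) :=
    ((localCohomology _ d).mapIso (LinearEquiv.toModuleIso e3)).toLinearEquiv.toEquiv.subsingleton
  have h5 : Subsingleton (AdicCompletion (IsLocalRing.maximalIdeal R) R ⊗[R] LocCoh.H I d R) :=
    e2.toEquiv.subsingleton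
  have h6 : Subsingleton (LocCoh.H I d R) :=
    Module.FaithfullyFlat.lTensor_reflects_triviality R
      (AdicCompletion (IsLocalRing.maximalIdeal R) R) _
  have hd1 : 1 ≤ d := by
    obtain ⟨p, hp, hpd⟩ := exists_minimalPrime_dim_ge
      (⊥ : Ideal (AdicCompletion (IsLocalRing.maximalIdeal R) R)) ⊥ d (by
        rw [sup_bot_eq, ringKrullDim_eq_of_ringEquiv (RingEquiv.quotientBot _), hdS])
    rw [bot_sup_eq] at hpd
    have hpd' : ringKrullDim (AdicCompletion (IsLocalRing.maximalIdeal R) R ⧸ p) = d :=
      le_antisymm (hdS ▸ ringKrullDim_quotient_le p) hpd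
    have h1 := h p hp hpd'
    have h2 := ringKrullDim_quotient_le
      (I.map (algebraMap R (AdicCompletion (IsLocalRing.maximalIdeal R) R)) ⊔ p)
    rw [hdS] at h2
    exact_mod_cast h1.trans h2
  have hb : Bound I (d - 1) := by
    apply bound_of_ring
    intro j hj x
    rcases Nat.eq_or_lt_of_le (show d ≤ j by omega) with hjd | hjd
    · subst hjd
      exact Subsingleton.elim _ _
    · apply Groth.Agent.Lib.Helper8.GV.H_eq_zero_of_supportDim_lt I j R
      rw [Module.supportDim_self_eq_ringKrullDim, hd]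
      exact_mod_cast hjd
  exact ⟨fun x y => by rw [hb M i (by omega) x, hb M i (by omega) y]⟩

end Groth.Agent.S0332
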