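import Groth.Statements.S1802
import Groth.Agent.Lib.Helper8CdOne2

set_option autoImplicit false
universe u
open AlgebraicGeometry
open LocCoh

namespace Groth.Agent.S1802

/-- For a Noetherian ring. Let I be an ideal of a Noetherian ring A with cd(A, I) = 1, i.e. H^i_I(M) = 0
for all modules M and all i ≥ 2 but H^1_I(M) ≠ 0 for some M. Then the open subscheme Spec A minus
V(I) is nonempty and affine. -/
theorem result (A : Type u) [CommRing A] [IsNoetherianRing A] (I : Ideal A) (h1 : LocCoh.CdLE A I 1) (h0 : ¬ LocCoh.CdLE A I 0) : Nonempty (↑(LocCoh.puncturedOpen A I) : Scheme.{u}) ∧ IsAffine (↑(LocCoh.puncturedOpen A I) : Scheme.{u}) := by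
  classical
  obtain ⟨t, ht⟩ := (isNoetherianRing_iff_ideal_fg A).mp ‹_› I
  have hI : I = Ideal.span {a | a ∈ t.toList} := by
    rw [← ht]
    congr 1
    ext a
    simp
  subst hI
  refine ⟨?_, ?_⟩
  · by_contra hne
    apply h0
    have hall : ∀ x : PrimeSpectrum A,
        x ∈ PrimeSpectrum.zeroLocus ((Ideal.span {a | a ∈ t.toList} : Ideal A) : Set A) := by
      intro x
      by_contra hx
      exact hne ⟨(⟨x, hx⟩ : LocCoh.puncturedOpen A (Ideal.span {a | a ∈ t.toList}))⟩
    have hnil : ((Ideal.span {a | a ∈ t.toList} : Ideal A) : Set A) ⊆ nilradical A := by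
      rw [← PrimeSpectrum.zeroLocus_eq_univ_iff, Set.eq_univ_iff_forall]
      exact hall
    obtain ⟨N, hN⟩ := IsNoetherianRing.isNilpotent_nilradical A
    have hpow : (Ideal.span {a | a ∈ t.toList} : Ideal A) ^ N = ⊥ := by
      rw [eq_bot_iff]
      calc (Ideal.span {a | a ∈ t.toList} : Ideal A) ^ N ≤ (nilradical A) ^ N :=
            Ideal.pow_right_mono (fun a ha => hnil ha) N
        _ = ⊥ := hN
    intro M _ _ i hi
    obtain ⟨n, rfl⟩ : ∃ n, i = n + 1 := ⟨i - 1, by omega⟩
    have htors : DRing.torsionSub (Ideal.span {a | a ∈ t.toList}) M = ⊤ := by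
      rw [eq_top_iff]
      intro m _
      refine ⟨N, fun a ha => ?_⟩
      rw [hpow, Ideal.mem_bot] at ha
      rw [ha, zero_smul]
    refine ⟨fun x y => ?_⟩
    rw [Groth.Agent.Lib.Helper8.LC.H_succ_eq_zero_of_torsion _ n M htors x,
      Groth.Agent.Lib.Helper8.LC.H_succ_eq_zero_of_torsion _ n M htors y]
  · exact Groth.Agent.Lib.Helper8.CdOne.isAffine_UA A t.toList
      (fun K _ _ x => (h1 K 2 (by norm_num)).elim x 0)

end Groth.Agent.S1802
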