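import Groth.Statements.S6337
import Groth.Agent.Lib.Helper14ML
import Groth.Agent.S6338
import Mathlib.LinearAlgebra.DirectSum.TensorProduct

set_option autoImplicit false
universe u
open CAlg
open scoped TensorProduct

namespace Groth.Agent.S6337

/-- A direct sum of modules is Mittag-Leffler if and only if each summand is Mittag-Leffler. -/
theorem result (R : Type u) [CommRing R] {ι : Type u} (M : ι → Type u)
    [∀ i, AddCommGroup (M i)] [∀ i, Module R (M i)] :
    CAlg.IsMittagLeffler R (DirectSum ι M) ↔ ∀ i, CAlg.IsMittagLeffler R (M i) := by
  classical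
  constructor
  · intro h i
    apply Groth.Agent.S6338.result R (DirectSum.lof R ι M i) _ h
    intro Q _ _
    apply Function.LeftInverse.injective (g := (DirectSum.component R ι M i).rTensor Q)
    intro w
    rw [← LinearMap.comp_apply, ← LinearMap.rTensor_comp]
    have : DirectSum.component R ι M i ∘ₗ DirectSum.lof R ι M i = LinearMap.id := by
      ext x
      simp
    rw [this, LinearMap.rTensor_id, LinearMap.id_apply]
  · intro h
    rw [Groth.Agent.Lib.Helper14.ML.isMittagLeffler_iff]
    intro κ Q _ _ z hz
    have hcomp : ∀ (N : Type u) [AddCommGroup N] [Module R N] (w : (DirectSum ι M) ⊗[R] N) (i : ι),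
        TensorProduct.directSumLeft R R M N w i = (DirectSum.component R ι M i).rTensor N w := by
      intro N _ _ w i
      induction w using TensorProduct.induction_on with
      | zero => simp
      | tmul m n => simp [DirectSum.component.of]; rfl
      | add w₁ w₂ h₁ h₂ => rw [map_add, map_add, DirectSum.add_apply, h₁, h₂]
    apply (TensorProduct.directSumLeft R R M (∀ j, Q j)).injective
    rw [map_zero]
    apply DFinsupp.ext
    intro i
    rw [hcomp, DirectSum.zero_apply]
    have hi := h i
    rw [Groth.Agent.Lib.Helper14.ML.isMittagLeffler_iff] at hi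
    apply hi κ Q
    intro j
    rw [Groth.Agent.Lib.Helper14.ML.rTensor_lTensor_comm, hz j, map_zero]
end Groth.Agent.S6337
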