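import Groth.Statements.S0584
import Groth.Agent.Lib.Helper14Kaplansky
import Groth.Agent.Lib.Helper14ML5
import Groth.Agent.S6337
import Groth.Agent.S6338
import Mathlib.LinearAlgebra.Finsupp.VectorSpace
import Mathlib.LinearAlgebra.LinearIndependent.Lemmas

set_option autoImplicit false
universe u
open scoped Classical
open CAlg
open scoped TensorProduct

namespace Groth.Agent.S0584

open Groth.Agent.Lib.Helper14.ML Groth.Agent.Lib.Helper14.Kaplansky

theorem ml_self (R : Type u) [CommRing R] : CAlg.IsMittagLeffler R R := by
  rw [isMittagLeffler_iff]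
  intro ι Q _ _ z hz
  obtain ⟨q, rfl⟩ := (TensorProduct.lid R (∀ i, Q i)).symm.surjective z
  suffices q = 0 by rw [this, map_zero]
  funext i
  have := hz i
  rw [TensorProduct.lid_symm_apply, LinearMap.lTensor_tmul] at this
  have h2 := congrArg (TensorProduct.lid R (Q i)) this
  simpa using h2

theorem univInj_of_retract {R : Type u} [CommRing R] {A B : Type u} [AddCommGroup A] [Module R A]
    [AddCommGroup B] [Module R B] (i : A →ₗ[R] B) (r : B →ₗ[R] A) (h : r ∘ₗ i = LinearMap.id) :
    CAlgX.UniversallyInjective R i := by
  intro Q _ _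
  apply Function.LeftInverse.injective (g := r.rTensor Q)
  intro w
  rw [← LinearMap.comp_apply, ← LinearMap.rTensor_comp, h, LinearMap.rTensor_id,
    LinearMap.id_apply]

theorem ml_of_retract {R : Type u} [CommRing R] {A B : Type u} [AddCommGroup A] [Module R A]
    [AddCommGroup B] [Module R B] (i : A →ₗ[R] B) (r : B →ₗ[R] A) (h : r ∘ₗ i = LinearMap.id)
    (hB : CAlg.IsMittagLeffler R B) : CAlg.IsMittagLeffler R A :=
  Groth.Agent.S6338.result R i (univInj_of_retract i r h) hB

theorem ml_of_equiv {R : Type u} [CommRing R] {A B : Type u} [AddCommGroup A] [Module R A]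
    [AddCommGroup B] [Module R B] (e : A ≃ₗ[R] B)
    (hB : CAlg.IsMittagLeffler R B) : CAlg.IsMittagLeffler R A :=
  ml_of_retract e.toLinearMap e.symm.toLinearMap (by ext x; simp) hB

theorem ml_finsupp (R : Type u) [CommRing R] (X : Type u) : CAlg.IsMittagLeffler R (X →₀ R) := by
  classical
  apply ml_of_equiv (finsuppLEquivDirectSum R R X)
  exact (Groth.Agent.S6337.result R (fun _ : X => R)).mpr fun _ => ml_self R

theorem projective_of (R : Type u) [CommRing R] (M : Type u) [AddCommGroup M] [Module R M]
    [Module.Flat R M] (hML : CAlg.IsMittagLeffler R M) (ι : Type u) (N : ι → Submodule R M)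
    (hN : DirectSum.IsInternal N) (hc : ∀ i, CAlg.IsCountablyGenerated R (N i)) :
    Module.Projective R M := by
  classical
  let e : (DirectSum ι fun i => N i) ≃ₗ[R] M :=
    LinearEquiv.ofBijective (DirectSum.coeLinearMap N) hN
  have hret : ∀ i, (DirectSum.component R ι (fun i => N i) i ∘ₗ e.symm.toLinearMap) ∘ₗ
      (N i).subtype = LinearMap.id := by
    intro i
    ext x
    have : e.symm (x : M) = DirectSum.lof R ι (fun i => N i) i x := by
      rw [LinearEquiv.symm_apply_eq]
      simp [e]
    simp [this]
  have hproj : ∀ i, Module.Projective R (N i) := by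
    intro i
    have hflat : Module.Flat R (N i) := Module.Flat.of_retract _ _ (hret i)
    exact projective_of_flat_of_isMittagLeffler_of_isCountablyGenerated R (N i)
      (ml_of_retract _ _ (hret i) hML) (hc i)
  have : Module.Projective R (DirectSum ι fun i => N i) :=
    inferInstanceAs (Module.Projective R (Π₀ i, N i))
  exact Module.Projective.of_equiv e

theorem exists_internal_of_projective (R : Type u) [CommRing R] (M : Type u) [AddCommGroup M]
    [Module R M] [Module.Projective R M] :
    ∃ (ι : Type u) (N : ι → Submodule R M), DirectSum.IsInternal N ∧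
      ∀ i, CAlg.IsCountablyGenerated R (N i) := by
  classical
  obtain ⟨s, hs⟩ := (Module.projective_def' (R := R) (P := M)).mp inferInstance
  let lc : (M →₀ R) →ₗ[R] M := Finsupp.linearCombination R id
  have hs' : ∀ x, lc (s x) = x := fun x => LinearMap.congr_fun hs x
  have hsinj : Function.Injective s := Function.LeftInverse.injective hs'
  -- the free module as internal direct sum of cyclic modules
  let b := Finsupp.basisSingleOne (R := R) (ι := M)
  let N : M → Submodule R (M →₀ R) := fun x => Submodule.span R {b x}
  have hN : DirectSum.IsInternal N := by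
    rw [DirectSum.isInternal_submodule_iff_iSupIndep_and_iSup_eq_top]
    refine ⟨b.linearIndependent.iSupIndep_span_singleton, ?_⟩
    rw [← Submodule.span_range_eq_iSup]
    exact b.span_eq
  have hNc : ∀ x, CAlg.IsCountablyGenerated R (N x) := fun x =>
    isCountablyGenerated_of_span _ ⟨{b x}, Set.countable_singleton _, rfl⟩
  -- the idempotent
  have hidem : IsIdempotentElem (s ∘ₗ lc) := by
    apply LinearMap.ext
    intro y
    show s (lc (s (lc y))) = s (lc y)
    rw [hs']
  have hcompl := LinearMap.IsIdempotentElem.isCompl hidem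
  have hrange : LinearMap.range (s ∘ₗ lc) = LinearMap.range s := by
    apply le_antisymm
    · rintro _ ⟨y, rfl⟩; exact ⟨lc y, rfl⟩
    · rintro _ ⟨x, rfl⟩; exact ⟨s x, by show s (lc (s x)) = s x; rw [hs']⟩
  rw [hrange] at hcompl
  obtain ⟨𝒞, h1, h2, h3⟩ := kaplansky' N hN hNc _ _ hcompl
  let e : M ≃ₗ[R] LinearMap.range s := LinearEquiv.ofInjective s hsinj
  let o := Submodule.orderIsoMapComap e.symm
  refine ⟨𝒞, fun C => o C.1, ?_, ?_⟩
  · have key := (DirectSum.isInternal_submodule_iff_iSupIndep_and_iSup_eq_top
      (fun C : 𝒞 => o C.1)).mpr ⟨?_, ?_⟩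
    · convert key
    · exact ((sSupIndep_iff 𝒞).mp h1).map_orderIso o
    · rw [← o.map_iSup, ← sSup_eq_iSup', h2, OrderIso.map_top]
  · intro C
    obtain ⟨t, ht, hspan⟩ := exists_span_of_isCountablyGenerated (A := LinearMap.range s) C.1 (h3 C.1 C.2)
    apply isCountablyGenerated_of_span
    refine ⟨e.symm '' t, ht.image _, ?_⟩
    show _ = Submodule.map (e.symm : _ →ₗ[R] M) C.1
    rw [← hspan, Submodule.map_span]
    rfl

/-- Projectivity of a module is equivalent to the conjunction of three conditions — flatness, the
Mittag-Leffler property, and being an internal direct sum of countably generated submodules. -/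
theorem result (R : Type u) [CommRing R] (M : Type u)
    [AddCommGroup M] [Module R M] :
    Module.Projective R M ↔ (Module.Flat R M ∧ CAlg.IsMittagLeffler R M ∧
      ∃ (ι : Type u) (N : ι → Submodule R M), DirectSum.IsInternal N ∧
        ∀ i, CAlg.IsCountablyGenerated R (N i)) := by
  constructor
  · intro hP
    refine ⟨inferInstance, ?_, exists_internal_of_projective R M⟩
    obtain ⟨s, hs⟩ := (Module.projective_def' (R := R) (P := M)).mp hP
    exact ml_of_retract s (Finsupp.linearCombination R id) hs (ml_finsupp R M)
  · rintro ⟨hflat, hML, ι, N, hN, hc⟩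
    exact projective_of R M hML ι N hN hc
end Groth.Agent.S0584
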