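import Groth.Statements.S6348
import Groth.Agent.Lib.Helper14ML
import Mathlib.LinearAlgebra.TensorProduct.Tower

set_option autoImplicit false
universe u
open scoped TensorProduct
open CAlg

namespace Groth.Agent.S6348

section phi
variable (R S : Type u) [CommRing R] [CommRing S] [Algebra R S] (M : Type u)
    [AddCommGroup M] [Module R M] (N : Type u) [AddCommGroup N] [Module S N] [Module R N]
    [IsScalarTower R S N]

/-- The canonical identification `(S ⊗[R] M) ⊗[S] N ≃ M ⊗[R] N`, as an additive map. -/
noncomputable def phi : (S ⊗[R] M) ⊗[S] N →+ M ⊗[R] N :=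
  ((TensorProduct.comm R N M).toLinearMap.toAddMonoidHom.comp
    (TensorProduct.AlgebraTensorModule.cancelBaseChange R S S N M).toLinearMap.toAddMonoidHom).comp
    (TensorProduct.comm S (S ⊗[R] M) N).toLinearMap.toAddMonoidHom

theorem phi_tmul (s : S) (m : M) (n : N) :
    phi R S M N ((s ⊗ₜ[R] m) ⊗ₜ[S] n) = m ⊗ₜ[R] (s • n) := by
  simp [phi]

theorem phi_injective : Function.Injective (phi R S M N) := by
  intro a b hab
  simp only [phi, AddMonoidHom.coe_comp, LinearMap.toAddMonoidHom_coe, LinearEquiv.coe_coe,
    Function.comp_apply, EmbeddingLike.apply_eq_iff_eq] at hab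
  exact hab

end phi

theorem phi_natural (R S : Type u) [CommRing R] [CommRing S] [Algebra R S] (M : Type u)
    [AddCommGroup M] [Module R M] (N N' : Type u) [AddCommGroup N] [Module S N] [Module R N]
    [IsScalarTower R S N] [AddCommGroup N'] [Module S N'] [Module R N']
    [IsScalarTower R S N'] (p : N →ₗ[S] N') (p' : N →ₗ[R] N') (hp : ∀ x, p x = p' x)
    (z : (S ⊗[R] M) ⊗[S] N) :
    phi R S M N' (p.lTensor (S ⊗[R] M) z) = p'.lTensor M (phi R S M N z) := by
  induction z using TensorProduct.induction_on with
  | zero => simp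
  | tmul w n =>
    induction w using TensorProduct.induction_on with
    | zero => simp
    | tmul s m =>
      rw [LinearMap.lTensor_tmul, phi_tmul, phi_tmul, LinearMap.lTensor_tmul, ← hp, map_smul]
    | add w₁ w₂ h₁ h₂ =>
      rw [TensorProduct.add_tmul, map_add, map_add, map_add, map_add, h₁, h₂]
  | add z₁ z₂ h₁ h₂ => rw [map_add, map_add, map_add, map_add, h₁, h₂]

/-- For a ring map R → S and a Mittag-Leffler R-module M, the S-module S ⊗_R M is Mittag-Leffler. (The
companion parts on flat modules, projective modules and direct sums of countably generated modules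
are standard base-change facts.) -/
theorem result (R S : Type u) [CommRing R] [CommRing S] [Algebra R S] (M : Type u)
    [AddCommGroup M] [Module R M] (hM : CAlg.IsMittagLeffler R M) :
    CAlg.IsMittagLeffler S (S ⊗[R] M) := by
  rw [Groth.Agent.Lib.Helper14.ML.isMittagLeffler_iff] at hM ⊢
  intro ι Q _ _ z hz
  letI : ∀ i, Module R (Q i) := fun i => Module.compHom (Q i) (algebraMap R S)
  have hst : ∀ i, IsScalarTower R S (Q i) := fun i =>
    IsScalarTower.of_algebraMap_smul fun r x => rfl
  apply phi_injective R S M (∀ i, Q i)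
  rw [map_zero]
  apply hM ι Q
  intro i
  rw [← phi_natural R S M (∀ i, Q i) (Q i) (LinearMap.proj i) (LinearMap.proj i) (fun x => rfl) z,
    hz i, map_zero]
end Groth.Agent.S6348
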