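import Groth.Statements.S6380
import Mathlib.LinearAlgebra.TensorProduct.Vanishing
import Mathlib.RingTheory.TensorProduct.DirectLimitFG
import Mathlib.Algebra.Module.FinitePresentation

set_option autoImplicit false
universe u
open scoped TensorProduct
open CAlg

namespace Groth.Agent.S6380

/-- Given a linear map f : P → M of R-modules with P finitely presented, an R-module Q and an element x
of P ⊗ Q in the kernel of f ⊗ id_Q, one can factor f as h ∘ f' through some finitely presented
module P' (with f' : P → P' and h : P' → M) so that already f' ⊗ id_Q sends x to zero. -/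
theorem result (R : Type u) [CommRing R] {P M Q : Type u}
    [AddCommGroup P] [Module R P] [Module.FinitePresentation R P] [AddCommGroup M] [Module R M]
    [AddCommGroup Q] [Module R Q] (f : P →ₗ[R] M) (x : P ⊗[R] Q) (hx : f.rTensor Q x = 0) :
    ∃ (P' : Type u) (_ : AddCommGroup P') (_ : Module R P') (_ : Module.FinitePresentation R P')
      (f' : P →ₗ[R] P') (h : P' →ₗ[R] M), f = h ∘ₗ f' ∧ f'.rTensor Q x = 0 := by
  classical
  obtain ⟨k, p, q, rfl⟩ := TensorProduct.exists_sum_tmul_eq x
  -- the finitely generated submodule `range f`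
  let P₁ : Submodule R M := LinearMap.range f
  have hP₁ : P₁.FG := by
    show (LinearMap.range f).FG
    rw [LinearMap.range_eq_map]
    exact (Module.Finite.fg_top).map f
  let p' : Fin k → P₁ := fun j => ⟨f (p j), ⟨p j, rfl⟩⟩
  let t : P₁ ⊗[R] Q := ∑ j, p' j ⊗ₜ[R] q j
  have ht : LinearMap.rTensor Q P₁.subtype t = 0 := by
    simp only [t, map_sum, LinearMap.rTensor_tmul, Submodule.subtype_apply, p']
    simpa only [map_sum, LinearMap.rTensor_tmul] using hx
  obtain ⟨M₀, hPM, hM₀, ht'⟩ := TensorProduct.eq_zero_of_fg_of_subtype_eq_zero hP₁ ht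
  simp only [t, map_sum, LinearMap.rTensor_tmul] at ht'
  have : Module.Finite R M₀ := Module.Finite.iff_fg.mpr hM₀
  obtain ⟨r, g, hg⟩ := Module.Finite.exists_fin (R := R) (M := M₀)
  let mm : Fin k ⊕ Fin r → M₀ := Sum.elim (fun j => Submodule.inclusion hPM (p' j)) g
  let nn : Fin k ⊕ Fin r → Q := Sum.elim q (fun _ => 0)
  have hspan : Submodule.span R (Set.range mm) = ⊤ := by
    rw [eq_top_iff, ← hg]
    apply Submodule.span_mono
    rintro _ ⟨i, rfl⟩
    exact ⟨Sum.inr i, rfl⟩
  have hsum : ∑ i, mm i ⊗ₜ[R] nn i = 0 := by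
    rw [Fintype.sum_sum_type]
    simp only [mm, nn, Sum.elim_inl, Sum.elim_inr, TensorProduct.tmul_zero, Finset.sum_const_zero,
      add_zero]
    exact ht'
  obtain ⟨κ, a, y, hay, ha⟩ := TensorProduct.vanishesTrivially_of_sum_tmul_eq_zero R hspan hsum
  -- the module `P'`
  let rel₁ : Fin k → P × (Fin k ⊕ Fin r → R) := fun j => (p j, -Pi.single (Sum.inl j) 1)
  let rel₂ : Fin κ → P × (Fin k ⊕ Fin r → R) := fun t => (0, fun i => a i t)
  let W : Submodule R (P × (Fin k ⊕ Fin r → R)) :=
    Submodule.span R (Set.range rel₁ ∪ Set.range rel₂)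
  have hfp : Module.FinitePresentation R ((P × (Fin k ⊕ Fin r → R)) ⧸ W) :=
    Module.finitePresentation_of_surjective W.mkQ W.mkQ_surjective
      (by rw [Submodule.ker_mkQ]
          exact Submodule.fg_span ((Set.finite_range _).union (Set.finite_range _)))
  let H : (P × (Fin k ⊕ Fin r → R)) →ₗ[R] M :=
    f.coprod (Fintype.linearCombination R (fun i => (mm i : M)))
  have hH : W ≤ LinearMap.ker H := by
    rw [Submodule.span_le]
    rintro _ (⟨j, rfl⟩ | ⟨t, rfl⟩)
    · simp only [SetLike.mem_coe, LinearMap.mem_ker, H, rel₁, LinearMap.coprod_apply, map_neg,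
        Fintype.linearCombination_apply_single, one_smul]
      simp [mm, p']
    · simp only [SetLike.mem_coe, LinearMap.mem_ker, H, rel₂, LinearMap.coprod_apply, map_zero,
        zero_add, Fintype.linearCombination_apply]
      have := congrArg M₀.subtype (ha t)
      simpa using this
  let e : Fin k ⊕ Fin r → (P × (Fin k ⊕ Fin r → R)) ⧸ W := fun i => W.mkQ (0, Pi.single i 1)
  have hsum_e : ∀ c : Fin k ⊕ Fin r → R, ∑ i, c i • e i = W.mkQ (0, c) := by
    intro c
    simp only [e, ← map_smul, ← map_sum]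
    congr 1
    rw [Prod.ext_iff]
    constructor
    · simp [Prod.fst_sum]
    · simp only [Prod.snd_sum, Prod.smul_snd]
      conv_rhs => rw [pi_eq_sum_univ' c]
  have hpe : ∀ j : Fin k, W.mkQ (p j, 0) = e (Sum.inl j) := by
    intro j
    simp only [e, Submodule.mkQ_apply]
    rw [Submodule.Quotient.eq]
    have : (p j, (0 : Fin k ⊕ Fin r → R)) - (0, Pi.single (Sum.inl j) 1) = rel₁ j := by
      simp [rel₁]
    rw [this]
    exact Submodule.subset_span (Or.inl ⟨j, rfl⟩)
  refine ⟨(P × (Fin k ⊕ Fin r → R)) ⧸ W, inferInstance, inferInstance, hfp,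
    W.mkQ ∘ₗ LinearMap.inl R P _, W.liftQ H hH, ?_, ?_⟩
  · ext z
    simp [H]
  · simp only [map_sum, LinearMap.rTensor_tmul, LinearMap.coe_comp, Function.comp_apply,
      LinearMap.inl_apply, hpe]
    have h1 : ∑ j : Fin k, e (Sum.inl j) ⊗ₜ[R] q j = ∑ i, e i ⊗ₜ[R] nn i := by
      rw [Fintype.sum_sum_type]
      simp only [nn, Sum.elim_inl, Sum.elim_inr, TensorProduct.tmul_zero, Finset.sum_const_zero,
        add_zero]
    rw [h1]
    have h2 : ∀ i, e i ⊗ₜ[R] nn i = ∑ t, (a i t • e i) ⊗ₜ[R] y t := by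
      intro i
      have hayi : nn i = ∑ t, a i t • y t := hay i
      rw [hayi, TensorProduct.tmul_sum]
      refine Finset.sum_congr rfl fun t _ => ?_
      rw [TensorProduct.tmul_smul, TensorProduct.smul_tmul']
    simp only [h2]
    rw [Finset.sum_comm]
    simp only [← TensorProduct.sum_tmul]
    refine Finset.sum_eq_zero fun t _ => ?_
    rw [hsum_e (fun i => a i t), Submodule.mkQ_apply,
      (Submodule.Quotient.mk_eq_zero W).mpr (Submodule.subset_span (Or.inr ⟨t, rfl⟩)),
      TensorProduct.zero_tmul]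

end Groth.Agent.S6380
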