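import Groth.Statements.S6356
import Groth.Agent.Lib.Helper14ML
import Groth.Agent.Lib.Helper18TensorPi
import Groth.Agent.S6380

set_option autoImplicit false
universe u
open scoped TensorProduct
open CAlg

namespace Groth.Agent.S6356

open scoped TensorProduct
open Groth.Agent.Lib.Helper14.ML

/-- Finite free domination implies Mittag-Leffler. -/
theorem isMittagLeffler_of_finiteFree_dominate (R : Type u) [CommRing R] (M : Type u)
    [AddCommGroup M] [Module R M]
    (H : ∀ (n : ℕ) (f : (Fin n → R) →ₗ[R] M),
        ∃ (Q : Type u) (_ : AddCommGroup Q) (_ : Module R Q) (_ : Module.FinitePresentation R Q)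
          (g : (Fin n → R) →ₗ[R] Q),
          ∀ (N : Type u) [AddCommGroup N] [Module R N],
            LinearMap.ker (f.rTensor N) = LinearMap.ker (g.rTensor N)) :
    CAlg.IsMittagLeffler R M := by
  classical
  rw [isMittagLeffler_iff]
  intro ι Q _ _ z hz
  obtain ⟨n, m, q, rfl⟩ := TensorProduct.exists_sum_tmul_eq z
  let f : (Fin n → R) →ₗ[R] M := Fintype.linearCombination R m
  let zP : (Fin n → R) ⊗[R] (∀ i, Q i) := ∑ j, (Pi.single j (1 : R) : Fin n → R) ⊗ₜ[R] q j
  have hzP : f.rTensor (∀ i, Q i) zP = ∑ j, m j ⊗ₜ[R] q j := by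
    simp only [zP, map_sum, LinearMap.rTensor_tmul, f, Fintype.linearCombination_apply_single,
      one_smul]
  obtain ⟨Q₀, _, _, hfp, g, hg⟩ := H n f
  rw [← hzP]
  have hmem : zP ∈ LinearMap.ker (g.rTensor (∀ i, Q i)) := by
    rw [LinearMap.mem_ker]
    apply Groth.Agent.Lib.Helper18.TensorPi.piRightHom_injective_of_finitePresentation
      (R := R) (M := Q₀) Q
    rw [map_zero, piRightHom_eq_zero_iff]
    intro i
    rw [rTensor_lTensor_comm]
    have : (LinearMap.proj i : (∀ i, Q i) →ₗ[R] Q i).lTensor (Fin n → R) zP ∈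
        LinearMap.ker (f.rTensor (Q i)) := by
      rw [LinearMap.mem_ker, ← rTensor_lTensor_comm, hzP]
      exact hz i
    rw [hg (Q i)] at this
    exact this
  rw [← hg (∀ i, Q i)] at hmem
  exact hmem

/-- Mittag-Leffler implies finitely presented domination. -/
theorem exists_dominate_of_isMittagLeffler (R : Type u) [CommRing R] (M : Type u)
    [AddCommGroup M] [Module R M] (hM : CAlg.IsMittagLeffler R M)
    (P : Type u) [AddCommGroup P] [Module R P] [Module.FinitePresentation R P] (f : P →ₗ[R] M) :
    ∃ (Q : Type u) (_ : AddCommGroup Q) (_ : Module R Q) (_ : Module.FinitePresentation R Q)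
      (g : P →ₗ[R] Q),
      ∀ (N : Type u) [AddCommGroup N] [Module R N],
        LinearMap.ker (f.rTensor N) = LinearMap.ker (g.rTensor N) := by
  classical
  rw [isMittagLeffler_iff] at hM
  -- the (small) type of factorizations through standard finitely presented modules
  let A : Type u := Σ (n : ℕ) (K : Submodule R (Fin n → R)),
    {gh : (P →ₗ[R] (Fin n → R) ⧸ K) × (((Fin n → R) ⧸ K) →ₗ[R] M) // K.FG ∧ f = gh.2 ∘ₗ gh.1}
  by_contra hcon
  have hbad : ∀ α : A, ∃ (N : Type u) (_ : AddCommGroup N) (_ : Module R N) (x : P ⊗[R] N),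
      f.rTensor N x = 0 ∧ α.2.2.1.1.rTensor N x ≠ 0 := by
    intro α
    by_contra hα
    apply hcon
    have hfpQ : Module.FinitePresentation R ((Fin α.1 → R) ⧸ α.2.1) :=
      Module.finitePresentation_of_surjective α.2.1.mkQ α.2.1.mkQ_surjective
        (by rw [Submodule.ker_mkQ]; exact α.2.2.2.1)
    refine ⟨(Fin α.1 → R) ⧸ α.2.1, inferInstance, inferInstance, hfpQ, α.2.2.1.1, ?_⟩
    intro N _ _
    apply le_antisymm
    · intro x hx
      rw [LinearMap.mem_ker] at hx ⊢
      by_contra hne
      exact hα ⟨N, inferInstance, inferInstance, x, hx, hne⟩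
    · have := α.2.2.2.2
      conv_rhs => rw [this, LinearMap.rTensor_comp]
      exact LinearMap.ker_le_ker_comp _ _
  choose N iA iM x hx1 hx2 using hbad
  obtain ⟨X, hX⟩ := Groth.Agent.Lib.Helper18.TensorPi.piRightHom_surjective_of_finite
    (R := R) (M := P) N x
  have hXα : ∀ α, (LinearMap.proj α : (∀ α, N α) →ₗ[R] N α).lTensor P X = x α := by
    intro α
    rw [← piRightHom_apply, hX]
  have hfX : f.rTensor (∀ α, N α) X = 0 := by
    apply hM A N
    intro α
    rw [rTensor_lTensor_comm, hXα, hx1]
  obtain ⟨P', _, _, hP', f', h, hfac, hf'X⟩ := Groth.Agent.S6380.result R f X hfX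
  obtain ⟨n, K, φ, hK⟩ := Module.FinitePresentation.exists_fin R P'
  let α₀ : A := ⟨n, K, ⟨(φ.toLinearMap ∘ₗ f', h ∘ₗ φ.symm.toLinearMap), hK, by
    rw [hfac]
    ext p
    simp⟩⟩
  apply hx2 α₀
  have h1 : α₀.2.2.1.1.rTensor (∀ α, N α) X = 0 := by
    show (φ.toLinearMap ∘ₗ f').rTensor (∀ α, N α) X = 0
    rw [LinearMap.rTensor_comp, LinearMap.comp_apply, hf'X, map_zero]
  rw [← hXα α₀, ← rTensor_lTensor_comm, h1, map_zero]

/-- An R-module M is Mittag-Leffler if and only if for every finitely presented module P and every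
linear map f : P → M there exist a finitely presented module Q and a linear map g : P → Q such that
f and g dominate each other, i.e. for every module N the maps f ⊗ id_N and g ⊗ id_N have the same
kernel. -/
theorem result (R : Type u) [CommRing R] (M : Type u)
    [AddCommGroup M] [Module R M] :
    CAlg.IsMittagLeffler R M ↔
      ∀ (P : Type u) [AddCommGroup P] [Module R P] [Module.FinitePresentation R P] (f : P →ₗ[R] M),
        ∃ (Q : Type u) (_ : AddCommGroup Q) (_ : Module R Q) (_ : Module.FinitePresentation R Q) (g : P →ₗ[R] Q),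
          ∀ (N : Type u) [AddCommGroup N] [Module R N],
            LinearMap.ker (f.rTensor N) = LinearMap.ker (g.rTensor N) := by
  constructor
  · intro hM P _ _ _ f
    exact exists_dominate_of_isMittagLeffler R M hM P f
  · intro H
    apply isMittagLeffler_of_finiteFree_dominate
    intro n f
    exact H (Fin n → R) f

end Groth.Agent.S6356
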