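import Groth.Statements.S0586
import Groth.Agent.S6356
import Groth.Agent.S6348
import Mathlib.RingTheory.Flat.FaithfullyFlat.Algebra

set_option autoImplicit false
universe u
open CAlg
open scoped TensorProduct

namespace Groth.Agent.S0586

open Groth.Agent.Lib.Helper14.ML

theorem phi_surjective (R S : Type u) [CommRing R] [CommRing S] [Algebra R S] (M : Type u)
    [AddCommGroup M] [Module R M] (N : Type u) [AddCommGroup N] [Module S N] [Module R N]
    [IsScalarTower R S N] : Function.Surjective (Groth.Agent.S6348.phi R S M N) := by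
  intro y
  refine ⟨(TensorProduct.comm S (S ⊗[R] M) N).symm
    ((TensorProduct.AlgebraTensorModule.cancelBaseChange R S S N M).symm
      ((TensorProduct.comm R N M).symm y)), ?_⟩
  simp [Groth.Agent.S6348.phi]

/-- If `S ⊗ M` is Mittag-Leffler over `S`, then `M` satisfies the Mittag-Leffler condition with
respect to families of `S`-modules. -/
theorem rel_ml (R S : Type u) [CommRing R] [CommRing S] [Algebra R S] (M : Type u)
    [AddCommGroup M] [Module R M] (h : CAlg.IsMittagLeffler S (S ⊗[R] M))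
    (ι : Type u) (W : ι → Type u) [∀ i, AddCommGroup (W i)] [∀ i, Module S (W i)]
    [∀ i, Module R (W i)] [∀ i, IsScalarTower R S (W i)] (z : M ⊗[R] (∀ i, W i))
    (hz : ∀ i, (LinearMap.proj i : (∀ i, W i) →ₗ[R] W i).lTensor M z = 0) : z = 0 := by
  rw [isMittagLeffler_iff] at h
  obtain ⟨z', rfl⟩ := phi_surjective R S M (∀ i, W i) z
  suffices hz' : z' = 0 by rw [hz', map_zero]
  apply h ι W
  intro i
  apply Groth.Agent.S6348.phi_injective R S M (W i)
  rw [map_zero, Groth.Agent.S6348.phi_natural R S M (∀ i, W i) (W i) (LinearMap.proj i)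
    (LinearMap.proj i) (fun x => rfl) z']
  exact hz i

theorem mk_lTensor_injective (R S : Type u) [CommRing R] [CommRing S] [Algebra R S]
    [Module.FaithfullyFlat R S] (Q N : Type u) [AddCommGroup Q] [Module R Q] [AddCommGroup N]
    [Module R N] : Function.Injective ((TensorProduct.mk R S N 1).lTensor Q) := by
  have : (TensorProduct.leftComm R Q S N).toLinearMap ∘ₗ (TensorProduct.mk R S N 1).lTensor Q =
      TensorProduct.mk R S (Q ⊗[R] N) 1 := by
    apply TensorProduct.ext'
    intro q n
    simp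
  have hinj := Module.FaithfullyFlat.tensorProduct_mk_injective (A := R) (B := S) (Q ⊗[R] N)
  rw [← this, LinearMap.coe_comp] at hinj
  exact Function.Injective.of_comp hinj

theorem exists_dominate_rel (R S : Type u) [CommRing R] [CommRing S] [Algebra R S]
    [Module.FaithfullyFlat R S] (M : Type u)
    [AddCommGroup M] [Module R M] (hM : CAlg.IsMittagLeffler S (S ⊗[R] M))
    (P : Type u) [AddCommGroup P] [Module R P] [Module.FinitePresentation R P] (f : P →ₗ[R] M) :
    ∃ (Q : Type u) (_ : AddCommGroup Q) (_ : Module R Q) (_ : Module.FinitePresentation R Q)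
      (g : P →ₗ[R] Q),
      ∀ (N : Type u) [AddCommGroup N] [Module R N],
        LinearMap.ker (f.rTensor N) = LinearMap.ker (g.rTensor N) := by
  classical
  let A : Type u := Σ (n : ℕ) (K : Submodule R (Fin n → R)),
    {gh : (P →ₗ[R] (Fin n → R) ⧸ K) × (((Fin n → R) ⧸ K) →ₗ[R] M) // K.FG ∧ f = gh.2 ∘ₗ gh.1}
  by_contra hcon
  have hbad : ∀ α : A, ∃ (N : Type u) (_ : AddCommGroup N) (_ : Module R N) (x : P ⊗[R] N),
      f.rTensor N x = 0 ∧ α.2.2.1.1.rTensor N x ≠ 0 := by
    intro α
    by_contra hα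
    apply hcon
    have hfpQ : Module.FinitePresentation R ((Fin α.1 → R) ⧸ α.2.1) :=
      Module.finitePresentation_of_surjective α.2.1.mkQ α.2.1.mkQ_surjective
        (by rw [Submodule.ker_mkQ]; exact α.2.2.2.1)
    refine ⟨(Fin α.1 → R) ⧸ α.2.1, inferInstance, inferInstance, hfpQ, α.2.2.1.1, ?_⟩
    intro N _ _
    apply le_antisymm
    · intro x hx
      rw [LinearMap.mem_ker] at hx ⊢
      by_contra hne
      exact hα ⟨N, inferInstance, inferInstance, x, hx, hne⟩
    · have := α.2.2.2.2
      conv_rhs => rw [this, LinearMap.rTensor_comp]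
      exact LinearMap.ker_le_ker_comp _ _
  choose N iA iM x hx1 hx2 using hbad
  let W : A → Type u := fun α => S ⊗[R] N α
  let η : ∀ α, N α →ₗ[R] W α := fun α => TensorProduct.mk R S (N α) 1
  let x' : ∀ α, P ⊗[R] W α := fun α => (η α).lTensor P (x α)
  obtain ⟨X, hX⟩ := Groth.Agent.Lib.Helper18.TensorPi.piRightHom_surjective_of_finite
    (R := R) (M := P) W x'
  have hXα : ∀ α, (LinearMap.proj α : (∀ α, W α) →ₗ[R] W α).lTensor P X = x' α := by
    intro α
    rw [← piRightHom_apply, hX]
  have hfX : f.rTensor (∀ α, W α) X = 0 := by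
    apply rel_ml R S M hM A W
    intro α
    rw [rTensor_lTensor_comm, hXα]
    show f.rTensor (W α) ((η α).lTensor P (x α)) = 0
    rw [← rTensor_lTensor_comm, hx1, map_zero]
  obtain ⟨P', _, _, hP', f', h, hfac, hf'X⟩ := Groth.Agent.S6380.result R f X hfX
  obtain ⟨n, K, φ, hK⟩ := Module.FinitePresentation.exists_fin R P'
  let α₀ : A := ⟨n, K, ⟨(φ.toLinearMap ∘ₗ f', h ∘ₗ φ.symm.toLinearMap), hK, by
    rw [hfac]
    ext p
    simp⟩⟩
  apply hx2 α₀
  have h1 : α₀.2.2.1.1.rTensor (∀ α, W α) X = 0 := by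
    show (φ.toLinearMap ∘ₗ f').rTensor (∀ α, W α) X = 0
    rw [LinearMap.rTensor_comp, LinearMap.comp_apply, hf'X, map_zero]
  have h2 : α₀.2.2.1.1.rTensor (W α₀) (x' α₀) = 0 := by
    rw [← hXα α₀, ← rTensor_lTensor_comm, h1, map_zero]
  have h3 : (η α₀).lTensor _ (α₀.2.2.1.1.rTensor (N α₀) (x α₀)) = 0 := by
    rw [rTensor_lTensor_comm]
    exact h2
  apply mk_lTensor_injective R S _ (N α₀)
  rw [map_zero]
  exact h3

/-- Let `R → S` be faithfully flat and `M` an `R`-module. If `S ⊗ M` is a Mittag-Leffler `S`-module then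
`M` is a Mittag-Leffler `R`-module. -/
theorem result (R : Type u) [CommRing R] (S : Type u)
    [CommRing S] [Algebra R S] [Module.FaithfullyFlat R S] (M : Type u) [AddCommGroup M] [Module R M]
    (h : CAlg.IsMittagLeffler S (TensorProduct R S M)) : CAlg.IsMittagLeffler R M := by
  apply Groth.Agent.S6356.isMittagLeffler_of_finiteFree_dominate
  intro n f
  exact exists_dominate_rel R S M h (Fin n → R) f
end Groth.Agent.S0586
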