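import Groth.Statements.S14855
import Groth.Agent.Lib.Helper14WittPadic
import Groth.Agent.Lib.Helper14FiltAdic

set_option autoImplicit false
universe u
open CAlg

namespace Groth.Agent.S14855

open WittVector Groth.Agent.Lib.Helper14 Groth.Agent.Lib.Helper22

variable {p : ℕ} [Fact p.Prime] {R : Type u} [CommRing R]

theorem mem_ker_ρ_iff (n : ℕ) (x : WittVector p R) :
    x ∈ RingHom.ker (WittPadic.ρ p R n) ↔ ∀ i < n, x.coeff i ∈ Ideal.span {(p : R) ^ n} := by
  have := WittPadic.sub_mem_ker_ρ_iff n x 0
  simpa using this

theorem J_sep [IsHausdorff (Ideal.span {(p : R)}) R] (a : WittVector p R)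
    (ha : ∀ n, a ∈ RingHom.ker (WittPadic.ρ p R n)) : a = 0 := by
  ext i
  rw [WittVector.zero_coeff]
  apply IsHausdorff.haus (I := Ideal.span {(p : R)}) (M := R) inferInstance
  intro n
  rw [SModEq.sub_mem, sub_zero, smul_eq_mul, Ideal.mul_top, Ideal.span_singleton_pow]
  have h := (mem_ker_ρ_iff (max n (i + 1)) a).mp (ha _) i (by omega)
  exact Ideal.span_singleton_le_span_singleton.mpr (pow_dvd_pow _ (le_max_left _ _)) h

theorem J_complete [IsPrecomplete (Ideal.span {(p : R)}) R] (z : ℕ → WittVector p R)
    (hz : ∀ n, z (n + 1) - z n ∈ RingHom.ker (WittPadic.ρ p R n)) :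
    ∃ x : WittVector p R, ∀ n, x - z n ∈ RingHom.ker (WittPadic.ρ p R n) := by
  have hstep : ∀ n i, i < n → (z (n + 1)).coeff i - (z n).coeff i ∈ Ideal.span {(p : R) ^ n} :=
    fun n i hi => (WittPadic.sub_mem_ker_ρ_iff n _ _).mp (hz n) i hi
  have htel : ∀ i n m, i < n → n ≤ m →
      (z m).coeff i - (z n).coeff i ∈ Ideal.span {(p : R) ^ n} := by
    intro i n m hin hnm
    induction m, hnm using Nat.le_induction with
    | base => rw [sub_self]; exact Ideal.zero_mem _
    | succ m hnm ih =>
      have h1 : (z (m + 1)).coeff i - (z n).coeff i =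
          ((z (m + 1)).coeff i - (z m).coeff i) + ((z m).coeff i - (z n).coeff i) := by ring
      rw [h1]
      refine Ideal.add_mem _ ?_ ih
      exact Ideal.span_singleton_le_span_singleton.mpr (pow_dvd_pow _ hnm)
        (hstep m i (by omega))
  have hlim : ∀ i, ∃ L : R, ∀ n, i < n → L - (z n).coeff i ∈ Ideal.span {(p : R) ^ n} := by
    intro i
    obtain ⟨L, hL⟩ := IsPrecomplete.prec (I := Ideal.span {(p : R)}) (M := R) inferInstance
      (f := fun n => (z (n + i + 1)).coeff i) (by
      intro a b hab
      rw [SModEq.sub_mem, smul_eq_mul, Ideal.mul_top, Ideal.span_singleton_pow]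
      have h1 := htel i (a + i + 1) (b + i + 1) (by omega) (by omega)
      have h2 := Ideal.span_singleton_le_span_singleton.mpr
        (pow_dvd_pow (p : R) (show a ≤ a + i + 1 by omega)) h1
      rw [← neg_sub]
      exact neg_mem h2)
    refine ⟨L, fun n hin => ?_⟩
    have h1 := hL n
    rw [SModEq.sub_mem, smul_eq_mul, Ideal.mul_top, Ideal.span_singleton_pow] at h1
    have h2 := htel i n (n + i + 1) hin (by omega)
    have h3 : L - (z n).coeff i =
        -((z (n + i + 1)).coeff i - L) + ((z (n + i + 1)).coeff i - (z n).coeff i) := by ring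
    rw [h3]
    exact Ideal.add_mem _ (neg_mem h1) h2
  choose L hL using hlim
  refine ⟨WittVector.mk p (fun i => L i), fun n => ?_⟩
  rw [WittPadic.sub_mem_ker_ρ_iff]
  intro i hi
  exact hL i n hi

theorem J_pow (n : ℕ) : (p : WittVector p R) ^ (n * n) ∈ RingHom.ker (WittPadic.ρ p R n) := by
  have hpB : ((p : ℕ) : R ⧸ Ideal.span {(p : R) ^ n}) ^ n = 0 := by
    rw [← map_natCast (Ideal.Quotient.mk (Ideal.span {(p : R) ^ n})), ← map_pow,
      Ideal.Quotient.eq_zero_iff_mem]
    exact Ideal.mem_span_singleton_self _
  have hNI := WittFilt.natCast_pow_mem_kerCC (p := p) hpB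
  have h1 := pow_mem_ker_truncate (p := p) n hNI n
  rw [RingHom.mem_ker, WittPadic.ρ, RingHom.comp_apply, map_pow, map_natCast, ← RingHom.mem_ker]
  exact h1

theorem padic_complete [IsAdicComplete (Ideal.span {(p : R)}) R] :
    IsAdicComplete (Ideal.span {(p : WittVector p R)}) (WittVector p R) :=
  FiltAdic.isAdicComplete_span_singleton (fun n => RingHom.ker (WittPadic.ρ p R n)) _
    (fun x hx => J_sep x hx) (fun z hz => J_complete z hz) (fun n => ⟨n * n, J_pow n⟩)

theorem span_mul_kerCC_le :
    Ideal.span {(p : WittVector p R)} * RingHom.ker (constantCoeff : WittVector p R →+* R) ≤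
      RingHom.ker (constantCoeff : WittVector p R →+* R) *
        RingHom.ker (constantCoeff : WittVector p R →+* R) := by
  rw [Ideal.mul_le]
  intro a ha b hb
  obtain ⟨c, rfl⟩ := Ideal.mem_span_singleton'.mp ha
  obtain ⟨b', rfl⟩ := (mem_ker_constantCoeff_iff b).mp hb
  have h1 : c * (p : WittVector p R) * verschiebung b' =
      c * (verschiebung (1 : WittVector p R) * verschiebung b') := by
    rw [verschiebung_mul_verschiebung, one_mul]; ring
  rw [h1]
  refine Ideal.mul_mem_left _ _ (Ideal.mul_mem_mul ?_ ?_)
  · exact (mem_ker_constantCoeff_iff _).mpr ⟨_, rfl⟩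
  · exact (mem_ker_constantCoeff_iff _).mpr ⟨_, rfl⟩

theorem span_pow_mul_kerCC_le (k : ℕ) :
    Ideal.span {(p : WittVector p R)} ^ k * RingHom.ker (constantCoeff : WittVector p R →+* R) ≤
      RingHom.ker (constantCoeff : WittVector p R →+* R) ^ (k + 1) := by
  induction k with
  | zero => simp
  | succ k ih =>
    calc Ideal.span {(p : WittVector p R)} ^ (k + 1) *
          RingHom.ker (constantCoeff : WittVector p R →+* R)
        = Ideal.span {(p : WittVector p R)} ^ k * (Ideal.span {(p : WittVector p R)} *
          RingHom.ker (constantCoeff : WittVector p R →+* R)) := by rw [pow_succ, mul_assoc]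
      _ ≤ Ideal.span {(p : WittVector p R)} ^ k *
          (RingHom.ker (constantCoeff : WittVector p R →+* R) *
            RingHom.ker (constantCoeff : WittVector p R →+* R)) :=
          Ideal.mul_mono_right span_mul_kerCC_le
      _ = (Ideal.span {(p : WittVector p R)} ^ k *
          RingHom.ker (constantCoeff : WittVector p R →+* R)) *
            RingHom.ker (constantCoeff : WittVector p R →+* R) := by rw [mul_assoc]
      _ ≤ RingHom.ker (constantCoeff : WittVector p R →+* R) ^ (k + 1) *
            RingHom.ker (constantCoeff : WittVector p R →+* R) := Ideal.mul_mono_left ih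
      _ = RingHom.ker (constantCoeff : WittVector p R →+* R) ^ (k + 1 + 1) := by
          rw [← pow_succ]

theorem verschiebung_pow_mul (k : ℕ) (w : WittVector p R) :
    verschiebung ((p : WittVector p R) ^ k * w) = (p : WittVector p R) ^ k * verschiebung w := by
  have h1 : (p : WittVector p R) ^ k * w = (p ^ k : ℕ) • w := by
    rw [nsmul_eq_mul, Nat.cast_pow]
  have h2 : (p : WittVector p R) ^ k * verschiebung w = (p ^ k : ℕ) • verschiebung w := by
    rw [nsmul_eq_mul, Nat.cast_pow]
  rw [h1, h2, map_nsmul]


/-- Let p be a prime and R a commutative ring which is complete and separated for the p-adic topology.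
Then the ring W(R) of p-typical Witt vectors of R is complete and separated for its own p-adic
topology, and it is also complete and separated for the adic topology of the ideal I_R, the kernel
of the projection of W(R) onto the zeroth Witt component. -/
theorem result (p : ℕ) [Fact p.Prime] (R : Type u) [CommRing R]
    [IsAdicComplete (Ideal.span {(p : R)}) R] :
    IsAdicComplete (Ideal.span {(p : WittVector p R)}) (WittVector p R) ∧
      IsAdicComplete (RingHom.ker (WittVector.constantCoeff : WittVector p R →+* R)) (WittVector p R) := by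
  haveI hpc : IsAdicComplete (Ideal.span {(p : WittVector p R)}) (WittVector p R) := padic_complete
  refine ⟨hpc, ?_⟩
  refine { toIsHausdorff := ⟨?_⟩, toIsPrecomplete := ⟨?_⟩ }
  · intro x hx
    apply IsHausdorff.haus (I := Ideal.span {(p : WittVector p R)}) (M := WittVector p R)
      inferInstance
    intro m
    have h1 := hx (m + 1)
    rw [SModEq.zero, smul_eq_mul, Ideal.mul_top] at h1 ⊢
    have h2 := kerCC_pow_succ_le (p := p) (R := R) m h1
    have h3 : Ideal.span {(p : WittVector p R)} ^ m *
        RingHom.ker (constantCoeff : WittVector p R →+* R) ≤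
        Ideal.span {(p : WittVector p R)} ^ m := Ideal.mul_le_left
    exact h3 h2
  · intro f hf
    have h1 : ∀ k, ∃ w : WittVector p R,
        f (k + 2) - f (k + 1) = (p : WittVector p R) ^ k * verschiebung w := by
      intro k
      have h2 := hf (Nat.le_succ (k + 1))
      rw [SModEq.sub_mem, smul_eq_mul, Ideal.mul_top] at h2
      have h3 := kerCC_pow_succ_le (p := p) (R := R) k h2
      rw [Ideal.span_singleton_pow, Ideal.mem_span_singleton_mul] at h3
      obtain ⟨y, hy, hy2⟩ := h3
      obtain ⟨w, rfl⟩ := (mem_ker_constantCoeff_iff y).mp hy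
      refine ⟨-w, ?_⟩
      rw [map_neg, mul_neg, hy2]
      change f (k + 2) - f (k + 1) = -(f (k + 1) - f (k + 1 + 1))
      ring
    choose w hw using h1
    set h : ℕ → WittVector p R := fun k => ∑ i ∈ Finset.range k, (p : WittVector p R) ^ i * w i
      with hh
    have hfh : ∀ k, f (k + 1) - f 1 = verschiebung (h k) := by
      intro k
      induction k with
      | zero => simp [hh]
      | succ k ih =>
        have e1 : f (k + 1 + 1) - f 1 = (f (k + 2) - f (k + 1)) + (f (k + 1) - f 1) := by ring
        rw [e1, ih, hw k, hh]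
        simp only
        rw [Finset.sum_range_succ, map_add, verschiebung_pow_mul]
        ring
    obtain ⟨H, hH⟩ := IsPrecomplete.prec (I := Ideal.span {(p : WittVector p R)})
      (M := WittVector p R) inferInstance (f := h) (by
      intro a b hab
      rw [SModEq.sub_mem, FiltAdic.mem_span_singleton_pow_smul_top_iff]
      have e2 : h a - h b = -∑ i ∈ Finset.Ico a b, (p : WittVector p R) ^ i * w i := by
        rw [Finset.sum_Ico_eq_sub _ hab]; ring
      rw [e2]
      refine ⟨-∑ i ∈ Finset.Ico a b, (p : WittVector p R) ^ (i - a) * w i, ?_⟩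
      rw [mul_neg, Finset.mul_sum]
      congr 1
      refine Finset.sum_congr rfl fun i hi => ?_
      rw [← mul_assoc, ← pow_add, Nat.add_sub_cancel' (Finset.mem_Ico.mp hi).1])
    refine ⟨f 1 + verschiebung H, fun n => ?_⟩
    cases n with
    | zero =>
      rw [pow_zero, Ideal.one_eq_top, SModEq.sub_mem]
      simp
    | succ k =>
      rw [SModEq.sub_mem, smul_eq_mul, Ideal.mul_top]
      have e3 : f (k + 1) - (f 1 + verschiebung H) = verschiebung (h k - H) := by
        rw [map_sub, ← hfh k]; ring
      rw [e3]
      have h4 := hH k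
      rw [SModEq.sub_mem, FiltAdic.mem_span_singleton_pow_smul_top_iff] at h4
      obtain ⟨d, hd⟩ := h4
      rw [hd, verschiebung_pow_mul]
      apply span_pow_mul_kerCC_le k
      rw [Ideal.span_singleton_pow]
      exact Ideal.mul_mem_mul (Ideal.mem_span_singleton_self _)
        ((mem_ker_constantCoeff_iff _).mpr ⟨_, rfl⟩)

end Groth.Agent.S14855
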