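import Groth.Statements.S5170
import Groth.Agent.S5155
import Mathlib

set_option autoImplicit false
universe u
open Matlis

namespace Groth.Agent.S5170

open IsLocalRing

section Helpers

variable {A : Type u} [CommRing A] {E : Type u} [AddCommGroup E] [Module A E]

/-- `Hom(-, E)` is exact on `0 → N → M → M/N → 0` when `E` is injective; in particular lengths add. -/
lemma length_hom_eq_add (hE : Module.Injective A E) {M : Type u} [AddCommGroup M] [Module A M]
    (N : Submodule A M) :
    Module.length A (M →ₗ[A] E) =
      Module.length A ((M ⧸ N) →ₗ[A] E) + Module.length A (N →ₗ[A] E) := by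
  refine Module.length_eq_add_of_exact (LinearMap.lcomp A E N.mkQ) (LinearMap.lcomp A E N.subtype)
    ?_ ?_ ?_
  · intro g h hgh
    apply LinearMap.ext
    intro x
    obtain ⟨y, rfl⟩ := N.mkQ_surjective x
    exact LinearMap.congr_fun hgh y
  · intro g
    obtain ⟨h, hh⟩ := Module.Injective.extension_property A E N M N.subtype N.injective_subtype g
    exact ⟨h, hh⟩
  · intro g
    constructor
    · intro hg
      have hN : N ≤ LinearMap.ker g := by
        intro x hx
        exact LinearMap.congr_fun hg ⟨x, hx⟩
      exact ⟨N.liftQ g hN, by ext x; simp⟩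
    · rintro ⟨h, rfl⟩
      ext x
      have : (Submodule.Quotient.mk (x : M) : M ⧸ N) = 0 :=
        (Submodule.Quotient.mk_eq_zero N).2 x.2
      simp [this]

variable [IsLocalRing A]

/-- a simple module over a local ring is isomorphic to the residue field -/
lemma nonempty_equiv_residueField_of_simple (S : Type u) [AddCommGroup S] [Module A S]
    [IsSimpleModule A S] : Nonempty (S ≃ₗ[A] ResidueField A) := by
  obtain ⟨I, hI, ⟨e⟩⟩ := (isSimpleModule_iff_quot_maximal (R := A) (M := S)).1 inferInstance
  have : I = maximalIdeal A := IsLocalRing.eq_maximalIdeal hI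
  subst this
  exact ⟨e⟩

lemma length_hom_simple {f : ResidueField A →ₗ[A] E} (hf : InjHull.IsEssentialInj f)
    (S : Type u) [AddCommGroup S] [Module A S] [IsSimpleModule A S] :
    Module.length A (S →ₗ[A] E) = 1 := by
  obtain ⟨e⟩ := nonempty_equiv_residueField_of_simple (A := A) S
  haveI := Groth.Agent.S5155.isSimpleModule_hom_of_hull hf
  rw [(LinearEquiv.congrLeft E A e).length_eq]
  exact Module.length_eq_one A _

lemma length_hom_eq {f : ResidueField A →ₗ[A] E} (hf : InjHull.IsInjectiveHull f)
    (M : Type u) [AddCommGroup M] [Module A M] (hM : IsFiniteLength A M) :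
    Module.length A (M →ₗ[A] E) = Module.length A M := by
  induction hM with
  | of_subsingleton =>
    rw [Module.length_eq_zero, Module.length_eq_zero]
  | @of_simple_quotient M _ _ N _ hN ih =>
    rw [length_hom_eq_add hf.isInjective N, ih, length_hom_simple hf.toIsEssentialInj,
      Module.length_eq_add_of_exact N.subtype N.mkQ N.injective_subtype N.mkQ_surjective
        (LinearMap.exact_subtype_mkQ N), Module.length_eq_one A (M ⧸ N), add_comm]

end Helpers

/-- Applied to the dualizing functor Hom_A(−, E). Let A be a Noetherian local ring, E an injective hull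
of the residue field and M an A-module of finite length. Then length Hom_A(M, E) = length M. -/
theorem result (A : Type u) [CommRing A] [IsLocalRing A] [IsNoetherianRing A] (E : Type u) [AddCommGroup E] [Module A E] (f : IsLocalRing.ResidueField A →ₗ[A] E) (hf : InjHull.IsInjectiveHull f) (M : Type u) [AddCommGroup M] [Module A M] (hM : IsFiniteLength A M) : Module.length A (M →ₗ[A] E) = Module.length A M := by
  exact length_hom_eq hf M hM

end Groth.Agent.S5170
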