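import Groth.Statements.S0312
import Groth.Agent.S5155
import Groth.Agent.S5170
import Groth.Agent.S0299
import Groth.Agent.S0313
import Groth.Agent.S0310
import Mathlib

set_option autoImplicit false
universe u v
open Matlis

namespace Groth.Agent.S0312

open IsLocalRing TensorProduct

section Helpers

/-- injective map between finite length modules with length target ≤ length source is surjective -/
lemma surjective_of_length_le {R : Type*} [Ring R] {N M : Type*} [AddCommGroup N] [Module R N]
    [AddCommGroup M] [Module R M]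
    (h : N →ₗ[R] M) (hinj : Function.Injective h) (hfin : Module.length R N ≠ ⊤)
    (hle : Module.length R M ≤ Module.length R N) : Function.Surjective h := by
  have hM : IsFiniteLength R M := by
    rw [← Module.length_ne_top_iff]
    exact ne_top_of_le_ne_top hfin hle
  rw [isFiniteLength_iff_isNoetherian_isArtinian] at hM
  obtain ⟨_, _⟩ := hM
  by_contra hsurj
  have hne : LinearMap.range h ≠ ⊤ := by
    rwa [Ne, LinearMap.range_eq_top]
  have hlt := Submodule.length_lt hne
  have heq : Module.length R (LinearMap.range h) = Module.length R N :=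
    (LinearEquiv.ofInjective h hinj).length_eq.symm
  rw [heq] at hlt
  exact absurd hle (not_le.2 hlt)

section gen

variable {A : Type u} [CommRing A] {B : Type u} [CommRing B] [Algebra A B]

lemma smul_eq_zero_of_mem_map {T : Type*} [AddCommGroup T] [Module A T] [Module B T]
    [IsScalarTower A B T]
    (I : Ideal A) (x : T) (h : ∀ a ∈ I, a • x = 0) : ∀ c ∈ I.map (algebraMap A B), c • x = 0 := by
  intro c hc
  have : I.map (algebraMap A B) ≤ LinearMap.ker (LinearMap.toSpanSingleton B T x) := by
    rw [Ideal.map_le_iff_le_comap]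
    intro a ha
    simp only [Ideal.mem_comap, LinearMap.mem_ker, LinearMap.toSpanSingleton_apply]
    rw [algebraMap_smul]
    exact h a ha
  simpa using this hc

lemma smul_tensor_eq_zero {M : Type*} [AddCommGroup M] [Module A M] (I : Ideal A)
    (h : ∀ a ∈ I, ∀ m : M, a • m = 0) : ∀ a ∈ I, ∀ x : B ⊗[A] M, a • x = 0 := by
  intro a ha x
  induction x using TensorProduct.induction_on with
  | zero => exact smul_zero a
  | tmul b m => rw [← TensorProduct.tmul_smul, h a ha, TensorProduct.tmul_zero]
  | add x y hx hy => rw [smul_add, hx, hy, add_zero]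

end gen

section loc

variable {R : Type u} [CommRing R] [IsLocalRing R] [IsNoetherianRing R]
  {E : Type u} [AddCommGroup E] [Module R E]

lemma length_torsion_eq {f : ResidueField R →ₗ[R] E} (hf : InjHull.IsInjectiveHull f) (n : ℕ) :
    Module.length R (Submodule.torsionBySet R E ((maximalIdeal R ^ n : Ideal R) : Set R)) =
      Module.length R (R ⧸ maximalIdeal R ^ n) := by
  rw [← Groth.Agent.S5170.length_hom_eq hf (R ⧸ maximalIdeal R ^ n)
    (Groth.Agent.S0313.isFiniteLength_quotient_pow n)]
  let Φ : ((R ⧸ maximalIdeal R ^ n) →ₗ[R] E) →ₗ[R]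
      Submodule.torsionBySet R E ((maximalIdeal R ^ n : Ideal R) : Set R) :=
    LinearMap.codRestrict _ (LinearMap.applyₗ (1 : R ⧸ maximalIdeal R ^ n)) (fun h => by
      rw [Submodule.mem_torsionBySet_iff]
      intro a
      exact Groth.Agent.S0313.hom_apply_killed n h a a.2)
  have hΦ : Function.Bijective Φ := by
    constructor
    · intro h h' hh
      have h1 : h 1 = h' 1 := congrArg Subtype.val hh
      apply LinearMap.ext
      intro x
      obtain ⟨r, rfl⟩ := Ideal.Quotient.mk_surjective x
      rw [Groth.Agent.S0313.hom_apply_mk, Groth.Agent.S0313.hom_apply_mk, h1]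
    · rintro ⟨e, he⟩
      rw [Submodule.mem_torsionBySet_iff] at he
      refine ⟨Groth.Agent.S0313.killedHom n e (fun a ha => he ⟨a, ha⟩), ?_⟩
      apply Subtype.ext
      have := Groth.Agent.S0313.killedHom_mk n e (fun a ha => he ⟨a, ha⟩) 1
      rw [one_smul] at this
      exact this
  exact (LinearEquiv.ofBijective Φ hΦ).length_eq.symm

end loc

variable {A : Type u} [CommRing A] [IsLocalRing A] [IsNoetherianRing A]
  {B : Type u} [CommRing B] [IsLocalRing B] [IsNoetherianRing B] [Algebra A B]
  [IsLocalHom (algebraMap A B)] [Module.Flat A B]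
  (hm : (maximalIdeal A).map (algebraMap A B) = maximalIdeal B)
  {E : Type u} [AddCommGroup E] [Module A E]

include hm in
lemma isPowerTorsion_tensor (hE : LocCoh.IsPowerTorsion (maximalIdeal A) E) :
    LocCoh.IsPowerTorsion (maximalIdeal B) (B ⊗[A] E) := by
  intro t
  induction t using TensorProduct.induction_on with
  | zero => exact ⟨0, fun a _ => smul_zero a⟩
  | tmul b e =>
    obtain ⟨n, hn⟩ := hE e
    refine ⟨n, ?_⟩
    rw [← hm, ← Ideal.map_pow]
    apply smul_eq_zero_of_mem_map
    intro a ha
    rw [← TensorProduct.tmul_smul, hn a ha, TensorProduct.tmul_zero]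
  | add x y hx hy =>
    obtain ⟨n, hn⟩ := hx
    obtain ⟨k, hk⟩ := hy
    refine ⟨max n k, fun a ha => ?_⟩
    rw [smul_add, hn a (Ideal.pow_le_pow_right (le_max_left n k) ha),
      hk a (Ideal.pow_le_pow_right (le_max_right n k) ha), add_zero]

omit [IsNoetherianRing A] in
lemma exact_f_u {f : ResidueField A →ₗ[A] E} (hf : InjHull.IsEssentialInj f) {r : ℕ} (a : Fin r → A)
    (ha : Submodule.span A (Set.range a) = maximalIdeal A) :
    Function.Exact f (LinearMap.pi fun i => LinearMap.lsmul A E (a i)) := by
  intro x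
  constructor
  · intro hx
    have hx' : ∀ i, a i • x = 0 := fun i => by
      have := congrFun hx i
      simpa using this
    have hsoc : ∀ b ∈ maximalIdeal A, b • x = 0 := by
      intro b hb
      rw [← ha] at hb
      have : Submodule.span A (Set.range a) ≤ LinearMap.ker (LinearMap.toSpanSingleton A E x) := by
        rw [Submodule.span_le]
        rintro _ ⟨i, rfl⟩
        simpa using hx' i
      simpa using this hb
    obtain ⟨c, hc⟩ := Groth.Agent.S5155.exists_eq_of_essential hf
      (Groth.Agent.S5155.socleHom x hsoc)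
    rw [Groth.Agent.S5155.socleHom_one] at hc
    exact ⟨c, hc.symm⟩
  · rintro ⟨c, rfl⟩
    ext i
    simp only [LinearMap.pi_apply, LinearMap.lsmul_apply, Pi.zero_apply]
    rw [← map_smul, Groth.Agent.S5155.smul_residue_eq_zero
      (ha ▸ Submodule.subset_span ⟨i, rfl⟩), map_zero]

omit [IsLocalRing A] [IsNoetherianRing A] [IsLocalRing B] [IsNoetherianRing B]
  [IsLocalHom (algebraMap A B)] [Module.Flat A B] in
lemma piRight_lTensor {r : ℕ} (a : Fin r → A) (t : B ⊗[A] E) :
    TensorProduct.piRight A A B (fun _ : Fin r => E)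
      ((LinearMap.pi fun i => LinearMap.lsmul A E (a i)).lTensor B t) = fun i => a i • t := by
  induction t using TensorProduct.induction_on with
  | zero => ext i; simp
  | tmul b e =>
    ext i
    simp only [LinearMap.lTensor_tmul, TensorProduct.piRight_apply, TensorProduct.piRightHom_tmul,
      LinearMap.pi_apply, LinearMap.lsmul_apply]
    rw [TensorProduct.tmul_smul]
  | add x y hx hy =>
    rw [map_add, map_add, hx, hy]
    ext i
    simp

omit [IsLocalRing A] [IsNoetherianRing A] [IsLocalRing B] [IsNoetherianRing B]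
  [IsLocalHom (algebraMap A B)] [Module.Flat A B] in
lemma exists_eq_tmul_one [IsLocalRing A] (s : B ⊗[A] ResidueField A) : ∃ b : B, s = b ⊗ₜ[A] (1 : ResidueField A) := by
  induction s using TensorProduct.induction_on with
  | zero => exact ⟨0, by rw [TensorProduct.zero_tmul]⟩
  | tmul b c =>
    obtain ⟨a, rfl⟩ := residue_surjective c
    refine ⟨a • b, ?_⟩
    rw [Groth.Agent.S5155.residue_eq_smul_one, TensorProduct.tmul_smul, TensorProduct.smul_tmul']
  | add x y hx hy =>
    obtain ⟨b, rfl⟩ := hx
    obtain ⟨b', rfl⟩ := hy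
    exact ⟨b + b', by rw [TensorProduct.add_tmul]⟩

include hm in
lemma exists_eq_smul_of_socle {f : ResidueField A →ₗ[A] E} (hf : InjHull.IsEssentialInj f)
    (t : B ⊗[A] E) (ht : ∀ c ∈ maximalIdeal B, c • t = 0) :
    ∃ b : B, t = b • ((1 : B) ⊗ₜ[A] f 1) := by
  obtain ⟨r, a, ha⟩ := Submodule.fg_iff_exists_fin_generating_family.1
    (IsNoetherian.noetherian (maximalIdeal A))
  have hex := Module.Flat.lTensor_exact B (exact_f_u hf a ha)
  have h0 : (LinearMap.pi fun i => LinearMap.lsmul A E (a i)).lTensor B t = 0 := by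
    apply (TensorProduct.piRight A A B (fun _ : Fin r => E)).injective
    rw [piRight_lTensor, map_zero]
    ext i
    rw [← algebraMap_smul B (a i) t]
    apply ht
    rw [← hm]
    apply Ideal.mem_map_of_mem
    rw [← ha]
    exact Submodule.subset_span ⟨i, rfl⟩
  obtain ⟨s, hs⟩ := (hex t).1 h0
  obtain ⟨b, rfl⟩ := exists_eq_tmul_one s
  refine ⟨b, ?_⟩
  rw [← hs, LinearMap.lTensor_tmul, TensorProduct.smul_tmul', smul_eq_mul, mul_one]

include hm in
lemma length_tensor_eq (M : Type u) [AddCommGroup M] [Module A M] :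
    Module.length B (B ⊗[A] M) = Module.length A M := by
  rw [IsLocalRing.length_baseChange A B M, hm]
  have : Module.length B (B ⧸ maximalIdeal B) = 1 := by
    rw [Module.length_eq_one_iff, isSimpleModule_iff_quot_maximal]
    exact ⟨maximalIdeal B, inferInstance, ⟨LinearEquiv.refl _ _⟩⟩
  rw [this, mul_one]

include hm in
lemma length_quot_pow_eq (n : ℕ) :
    Module.length B (B ⧸ maximalIdeal B ^ n) = Module.length A (A ⧸ maximalIdeal A ^ n) := by
  rw [← length_tensor_eq hm (A ⧸ maximalIdeal A ^ n)]
  have hmn : (maximalIdeal A ^ n).map (algebraMap A B) = maximalIdeal B ^ n := by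
    rw [Ideal.map_pow, hm]
  rw [← hmn]
  exact (Algebra.TensorProduct.quotIdealMapEquivTensorQuot B
    (maximalIdeal A ^ n)).toLinearEquiv.length_eq

end Helpers

/-- For a flat local homomorphism A → B of Noetherian local rings with m_A B equal to the maximal ideal
of B, tensoring an injective hull of the residue field of A with B gives an injective hull of the
residue field of B. -/
theorem result (A : Type u) [CommRing A] [IsLocalRing A] [IsNoetherianRing A] (B : Type u) [CommRing B] [IsLocalRing B] [IsNoetherianRing B] [Algebra A B] [IsLocalHom (algebraMap A B)] [Module.Flat A B] (hm : (IsLocalRing.maximalIdeal A).map (algebraMap A B) = IsLocalRing.maximalIdeal B) (E : Type u) [AddCommGroup E] [Module A E] (f : IsLocalRing.ResidueField A →ₗ[A] E) (hf : InjHull.IsInjectiveHull f) : ∃ g : IsLocalRing.ResidueField B →ₗ[B] TensorProduct A B E, InjHull.IsInjectiveHull g := by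
  have hEtor := Groth.Agent.S5155.isPowerTorsion_of_hull hf.toIsEssentialInj
  have hTtor : LocCoh.IsPowerTorsion (maximalIdeal B) (B ⊗[A] E) := isPowerTorsion_tensor hm hEtor
  haveI : Module.FaithfullyFlat A B := Module.FaithfullyFlat.of_flat_of_isLocalHom
  -- the socle generator
  have hx0soc : ∀ c ∈ maximalIdeal B, c • ((1 : B) ⊗ₜ[A] f 1) = 0 := by
    rw [← hm]
    refine smul_eq_zero_of_mem_map (maximalIdeal A) ((1 : B) ⊗ₜ[A] f 1) (fun a ha => ?_)
    rw [← TensorProduct.tmul_smul, ← map_smul, Groth.Agent.S5155.smul_residue_eq_zero ha, map_zero,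
      TensorProduct.tmul_zero]
  have hx0ne : ((1 : B) ⊗ₜ[A] f 1) ≠ 0 := by
    intro h0
    have h1 : TensorProduct.mk A B E 1 (f 1) = TensorProduct.mk A B E 1 0 := by
      simpa using h0
    have h2 := Module.FaithfullyFlat.tensorProduct_mk_injective (A := A) (B := B) E h1
    have h3 : f 1 = f 0 := by rw [h2, map_zero]
    exact one_ne_zero (hf.injective h3)
  let ι : ResidueField B →ₗ[B] B ⊗[A] E := Groth.Agent.S5155.socleHom _ hx0soc
  have hι1 : ι 1 = (1 : B) ⊗ₜ[A] f 1 := Groth.Agent.S5155.socleHom_one _ hx0soc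
  have hιres : ∀ b : B, ι (residue B b) = b • ((1 : B) ⊗ₜ[A] f 1) := by
    intro b
    rw [Groth.Agent.S5155.residue_eq_smul_one, map_smul, hι1]
  have hιinj : Function.Injective ι := by
    rw [← LinearMap.ker_eq_bot, LinearMap.ker_eq_bot']
    intro c hc
    by_contra hc0
    obtain ⟨b, rfl⟩ := residue_surjective c
    have hb : IsUnit b := by
      by_contra hb
      exact hc0 ((residue_eq_zero_iff b).2 ((mem_maximalIdeal b).2 hb))
    rw [hιres] at hc
    obtain ⟨b', rfl⟩ := hb
    have h5 : (1 : B) ⊗ₜ[A] f 1 = (↑b'⁻¹ : B) • ((b' : B) • ((1 : B) ⊗ₜ[A] f 1)) := by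
      rw [smul_smul, Units.inv_mul, one_smul]
    exact hx0ne (by rw [h5, hc, smul_zero])
  -- the hull over B
  obtain ⟨E', _, _, f', hf'⟩ := Groth.Agent.S0299.result B (ResidueField B)
  haveI := hf'.isInjective
  obtain ⟨g, hg⟩ := Module.Injective.extension_property B E' _ _ ι hιinj f'
  have hess : ∀ N : Submodule B (B ⊗[A] E), N ≠ ⊥ → N ⊓ LinearMap.range ι ≠ ⊥ := by
    intro N hN
    obtain ⟨x, hxN, hx0⟩ := Submodule.exists_mem_ne_zero_of_ne_bot hN
    obtain ⟨c, hc0, hcs⟩ := Groth.Agent.S0310.exists_smul_mem_socle hTtor hx0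
    rw [Submodule.mem_torsionBySet_iff] at hcs
    obtain ⟨b, hb⟩ := exists_eq_smul_of_socle hm hf.toIsEssentialInj (c • x)
      (fun d hd => hcs ⟨d, hd⟩)
    intro hbot
    have hmem : c • x ∈ N ⊓ LinearMap.range ι :=
      ⟨N.smul_mem c hxN, ⟨residue B b, by rw [hιres, hb]⟩⟩
    rw [hbot, Submodule.mem_bot] at hmem
    exact hc0 hmem
  have hginj : Function.Injective g := by
    rw [← LinearMap.ker_eq_bot]
    by_contra hker
    have := hess _ hker
    apply this
    rw [eq_bot_iff]
    rintro y ⟨hy1, ⟨c, rfl⟩⟩
    have : f' c = 0 := by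
      rw [← hg]
      exact hy1
    have hc : c = 0 := hf'.injective (by rw [this, map_zero])
    rw [hc, map_zero]
    exact Submodule.zero_mem _
  have hE'tor := Groth.Agent.S5155.isPowerTorsion_of_hull hf'.toIsEssentialInj
  have hgsurj : Function.Surjective g := by
    intro y
    obtain ⟨n, hn⟩ := hE'tor y
    let En : Submodule A E := Submodule.torsionBySet A E ((maximalIdeal A ^ n : Ideal A) : Set A)
    let E'n : Submodule B E' := Submodule.torsionBySet B E' ((maximalIdeal B ^ n : Ideal B) : Set B)
    have hkill : ∀ a ∈ maximalIdeal A ^ n, ∀ x : B ⊗[A] En, a • x = 0 := by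
      apply smul_tensor_eq_zero
      intro a ha m
      apply Subtype.ext
      have := m.2
      rw [Submodule.mem_torsionBySet_iff] at this
      exact this ⟨a, ha⟩
    let h0 : B ⊗[A] En →ₗ[B] E' := g ∘ₗ (En.subtype.baseChange B)
    have hmn : (maximalIdeal A ^ n).map (algebraMap A B) = maximalIdeal B ^ n := by
      rw [Ideal.map_pow, hm]
    let h1 : B ⊗[A] En →ₗ[B] E'n := LinearMap.codRestrict E'n h0 (fun x => by
      rw [Submodule.mem_torsionBySet_iff]
      rintro ⟨c, hc⟩
      show c • h0 x = 0
      rw [← map_smul]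
      have : c • x = 0 := by
        have hc' : c ∈ (maximalIdeal A ^ n).map (algebraMap A B) := by rw [hmn]; exact hc
        exact smul_eq_zero_of_mem_map _ x (fun a ha => hkill a ha x) c hc'
      rw [this, map_zero])
    have h1inj : Function.Injective h1 := by
      intro x x' hxx
      have h2 : h0 x = h0 x' := congrArg Subtype.val hxx
      have h3 : (En.subtype.baseChange B) x = (En.subtype.baseChange B) x' := hginj h2
      have h4 : Function.Injective (En.subtype.baseChange B) := by
        have := Module.Flat.lTensor_preserves_injective_linearMap (M := B) En.subtype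
          En.injective_subtype
        intro p q hpq
        apply this
        rw [← LinearMap.baseChange_eq_ltensor]
        exact hpq
      exact h4 h3
    have hlen1 : Module.length B (B ⊗[A] En) = Module.length A (A ⧸ maximalIdeal A ^ n) := by
      rw [length_tensor_eq hm]
      exact length_torsion_eq hf n
    have hlen2 : Module.length B E'n = Module.length A (A ⧸ maximalIdeal A ^ n) := by
      rw [← length_quot_pow_eq hm]
      exact length_torsion_eq hf' n
    have hfin : Module.length B (B ⊗[A] En) ≠ ⊤ := by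
      rw [hlen1, Module.length_ne_top_iff]
      exact Groth.Agent.S0313.isFiniteLength_quotient_pow n
    have h1surj := surjective_of_length_le h1 h1inj hfin (by rw [hlen1, hlen2])
    have hy : y ∈ E'n := by
      rw [Submodule.mem_torsionBySet_iff]
      rintro ⟨c, hc⟩
      exact hn c hc
    obtain ⟨s, hs⟩ := h1surj ⟨y, hy⟩
    exact ⟨(En.subtype.baseChange B) s, congrArg Subtype.val hs⟩
  let e : (B ⊗[A] E) ≃ₗ[B] E' := LinearEquiv.ofBijective g ⟨hginj, hgsurj⟩
  refine ⟨ι, ⟨⟨hιinj, hess⟩, ?_⟩⟩
  exact (Module.Baer.of_equiv e.symm (Module.Baer.of_injective hf'.isInjective)).injective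

end Groth.Agent.S0312
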