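import Groth.Statements.S9351
import Mathlib

set_option autoImplicit false
universe u
open FlatMod

namespace Groth.Agent.S9351

open AlgebraicGeometry CategoryTheory CategoryTheory.Limits

section Algebra

variable {A : Type u} [CommRing A]

/-- elements vanishing in the localizations at all primes of `T`. -/
def pureIdeal (T : Set (PrimeSpectrum A)) : Ideal A where
  carrier := {a | ∀ p ∈ T, ∃ s : A, s ∉ p.asIdeal ∧ s * a = 0}
  add_mem' := by
    intro a b ha hb p hp
    obtain ⟨s, hs, hsa⟩ := ha p hp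
    obtain ⟨t, ht, htb⟩ := hb p hp
    refine ⟨s * t, p.isPrime.mul_notMem hs ht, ?_⟩
    have : s * t * (a + b) = t * (s * a) + s * (t * b) := by ring
    rw [this, hsa, htb, mul_zero, mul_zero, add_zero]
  zero_mem' := fun p _ => ⟨1, (Ideal.ne_top_iff_one _).mp p.isPrime.ne_top, by simp⟩
  smul_mem' := by
    intro c a ha p hp
    obtain ⟨s, hs, hsa⟩ := ha p hp
    exact ⟨s, hs, by rw [smul_eq_mul, mul_left_comm, hsa, mul_zero]⟩

lemma mem_pureIdeal_iff {T : Set (PrimeSpectrum A)} {a : A} :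
    a ∈ pureIdeal T ↔ ∀ p ∈ T, ∃ s : A, s ∉ p.asIdeal ∧ s * a = 0 := Iff.rfl

lemma mem_pureIdeal_of_eq_mul (J : Ideal A) (a j : A) (hj : j ∈ J) (h : a = a * j) :
    a ∈ pureIdeal (PrimeSpectrum.zeroLocus (J : Set A)) := by
  intro p hp
  refine ⟨1 - j, ?_, ?_⟩
  · intro h1
    have hjp : j ∈ p.asIdeal := hp hj
    have : (1 : A) ∈ p.asIdeal := by
      have := p.asIdeal.add_mem h1 hjp
      simpa using this
    exact (Ideal.ne_top_iff_one _).mp p.isPrime.ne_top this
  · rw [sub_mul, one_mul, mul_comm j a, ← h, sub_self]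

lemma exists_eq_mul_of_mem_pureIdeal (J : Ideal A) (a : A)
    (ha : a ∈ pureIdeal (PrimeSpectrum.zeroLocus (J : Set A))) : ∃ j ∈ J, a = a * j := by
  obtain ⟨K, hK⟩ : ∃ K : Ideal A, K = LinearMap.ker (LinearMap.toSpanSingleton A A a) := ⟨_, rfl⟩
  have hKmem : ∀ c, c ∈ K ↔ c * a = 0 := by
    intro c
    rw [hK, LinearMap.mem_ker, LinearMap.toSpanSingleton_apply, smul_eq_mul]
  have htop : K ⊔ J = ⊤ := by
    by_contra hne
    obtain ⟨m, hm, hle⟩ := Ideal.exists_le_maximal _ hne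
    have hmem : (⟨m, hm.isPrime⟩ : PrimeSpectrum A) ∈ PrimeSpectrum.zeroLocus (J : Set A) := by
      intro x hx
      exact hle (Ideal.mem_sup_right hx)
    obtain ⟨s, hs, hsa⟩ := ha _ hmem
    exact hs (hle (Ideal.mem_sup_left ((hKmem s).mpr hsa)))
  have h1 : (1 : A) ∈ K ⊔ J := by rw [htop]; trivial
  obtain ⟨c, hc, j, hj, hcj⟩ := Submodule.mem_sup.mp h1
  refine ⟨j, hj, ?_⟩
  have : a = (c + j) * a := by rw [hcj, one_mul]
  rw [add_mul, (hKmem c).mp hc, zero_add] at this
  rw [mul_comm]; exact this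

lemma zeroLocus_pureIdeal_subset (J : Ideal A)
    (hgen : StableUnderGeneralization (PrimeSpectrum.zeroLocus (J : Set A))) :
    PrimeSpectrum.zeroLocus (pureIdeal (PrimeSpectrum.zeroLocus (J : Set A)) : Set A) ⊆
      PrimeSpectrum.zeroLocus (J : Set A) := by
  intro p hp
  obtain ⟨S₁, hS₁⟩ : ∃ S₁ : Submonoid A, S₁ = Submonoid.comap (Ideal.Quotient.mk J) ⊥ := ⟨_, rfl⟩
  have hS₁mem : ∀ t, t ∈ S₁ ↔ 1 - t ∈ J := by
    intro t
    rw [hS₁, Submonoid.mem_comap, Submonoid.mem_bot, ← Ideal.Quotient.eq_zero_iff_mem, map_sub,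
      map_one, sub_eq_zero, eq_comm]
  have hdisj : Disjoint ((⊥ : Ideal A) : Set A) (p.asIdeal.primeCompl ⊔ S₁ : Submonoid A) := by
    rw [Set.disjoint_left]
    intro x hx hxS
    have hx0 : x = 0 := hx
    subst hx0
    obtain ⟨s, hs, t, ht, hst⟩ := Submonoid.mem_sup.mp hxS
    have hsI : s ∈ pureIdeal (PrimeSpectrum.zeroLocus (J : Set A)) := by
      refine mem_pureIdeal_of_eq_mul J s (1 - t) ((hS₁mem t).mp ht) ?_
      rw [mul_sub, mul_one, hst, sub_zero]
    exact hs (hp hsI)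
  obtain ⟨q, hq, -, hqS⟩ := Ideal.exists_le_prime_disjoint ⊥ _ hdisj
  have hqp : q ≤ p.asIdeal := by
    intro x hx
    by_contra hxp
    exact Set.disjoint_left.mp hqS hx (Submonoid.mem_sup_left hxp)
  have hne : q ⊔ J ≠ ⊤ := by
    intro htop
    have h1 : (1 : A) ∈ q ⊔ J := by rw [htop]; trivial
    obtain ⟨a, ha, j, hj, haj⟩ := Submodule.mem_sup.mp h1
    have haS : a ∈ S₁ := by
      rw [hS₁mem]
      have : 1 - a = j := by rw [← haj]; ring
      rw [this]; exact hj
    exact Set.disjoint_left.mp hqS ha (Submonoid.mem_sup_right haS)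
  obtain ⟨m, hm, hle⟩ := Ideal.exists_le_maximal _ hne
  have hmem : (⟨m, hm.isPrime⟩ : PrimeSpectrum A) ∈ PrimeSpectrum.zeroLocus (J : Set A) := by
    intro x hx
    exact hle (Ideal.mem_sup_right hx)
  have hspec : (⟨q, hq⟩ : PrimeSpectrum A) ⤳ ⟨m, hm.isPrime⟩ := by
    rw [← PrimeSpectrum.le_iff_specializes]
    change q ≤ m
    exact le_trans le_sup_left hle
  have hqJ : (⟨q, hq⟩ : PrimeSpectrum A) ∈ PrimeSpectrum.zeroLocus (J : Set A) := hgen hspec hmem
  intro x hx
  exact hqp (hqJ hx)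

lemma exists_pow_mem_pureIdeal (J : Ideal A)
    (hgen : StableUnderGeneralization (PrimeSpectrum.zeroLocus (J : Set A))) (j : A) (hj : j ∈ J) :
    ∃ n : ℕ, j ^ n ∈ pureIdeal (PrimeSpectrum.zeroLocus (J : Set A)) := by
  have : j ∈ (pureIdeal (PrimeSpectrum.zeroLocus (J : Set A))).radical := by
    rw [Ideal.radical_eq_sInf, Ideal.mem_sInf]
    rintro P ⟨hP1, hP2⟩
    have hPmem : (⟨P, hP2⟩ : PrimeSpectrum A) ∈
        PrimeSpectrum.zeroLocus (pureIdeal (PrimeSpectrum.zeroLocus (J : Set A)) : Set A) :=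
      fun x hx => hP1 hx
    exact zeroLocus_pureIdeal_subset J hgen hPmem hj
  exact this

lemma exists_mul_eq_self (J : Ideal A)
    (hgen : StableUnderGeneralization (PrimeSpectrum.zeroLocus (J : Set A))) (x : A)
    (hx : x ∈ pureIdeal (PrimeSpectrum.zeroLocus (J : Set A))) :
    ∃ y ∈ pureIdeal (PrimeSpectrum.zeroLocus (J : Set A)), x = x * y := by
  obtain ⟨j, hj, hxj⟩ := exists_eq_mul_of_mem_pureIdeal J x hx
  obtain ⟨n, hn⟩ := exists_pow_mem_pureIdeal J hgen j hj
  refine ⟨j ^ n, hn, ?_⟩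
  clear hn
  induction n with
  | zero => simp
  | succ n ih => rw [pow_succ, ← mul_assoc, ← ih, ← hxj]

lemma exists_pow_mul_mem (J : Ideal A)
    (hgen : StableUnderGeneralization (PrimeSpectrum.zeroLocus (J : Set A))) (a f : A)
    (h : ∀ p ∈ PrimeSpectrum.zeroLocus (J : Set A), f ∉ p.asIdeal →
      ∃ s : A, s ∉ p.asIdeal ∧ s * a = 0) :
    ∃ k : ℕ, f ^ k * a ∈ pureIdeal (PrimeSpectrum.zeroLocus (J : Set A)) := by
  obtain ⟨K, hK⟩ : ∃ K : Ideal A, K = LinearMap.ker (LinearMap.toSpanSingleton A A a) := ⟨_, rfl⟩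
  have hKmem : ∀ c, c ∈ K ↔ c * a = 0 := by
    intro c
    rw [hK, LinearMap.mem_ker, LinearMap.toSpanSingleton_apply, smul_eq_mul]
  have hf : f ∈ (K ⊔ J).radical := by
    rw [Ideal.radical_eq_sInf, Ideal.mem_sInf]
    rintro P ⟨hP1, hP2⟩
    by_contra hfP
    obtain ⟨s, hs, hsa⟩ := h ⟨P, hP2⟩ (fun x hx => hP1 (Ideal.mem_sup_right hx)) hfP
    exact hs (hP1 (Ideal.mem_sup_left ((hKmem s).mpr hsa)))
  obtain ⟨k, hk⟩ := hf
  obtain ⟨c, hc, j, hj, hcj⟩ := Submodule.mem_sup.mp hk
  obtain ⟨n, hn⟩ := exists_pow_mem_pureIdeal J hgen j hj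
  have h1 : f ^ k * a = j * a := by
    rw [← hcj, add_mul, (hKmem c).mp hc, zero_add]
  have h2 : ∀ n : ℕ, (f ^ k) ^ n * a = j ^ n * a := by
    intro n
    induction n with
    | zero => simp
    | succ n ih =>
      rw [pow_succ, mul_assoc, h1, ← mul_assoc, mul_comm _ j, mul_assoc, ih, ← mul_assoc,
        ← pow_succ']
  refine ⟨k * n, ?_⟩
  rw [pow_mul, h2]
  exact Ideal.mul_mem_right _ _ hn

lemma flat_of_surjective_of_pure {B : Type u} [CommRing B] (φ : A →+* B)
    (hsurj : Function.Surjective φ)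
    (hpure : ∀ x, φ x = 0 → ∃ y, φ y = 0 ∧ x = x * y) : φ.Flat := by
  algebraize [φ]
  have hloc : IsLocalization (Submonoid.comap φ ⊥) B := by
    rw [isLocalization_iff]
    refine ⟨?_, ?_, ?_⟩
    · rintro ⟨y, hy⟩
      have : φ y = 1 := hy
      change IsUnit (φ y)
      rw [this]; exact isUnit_one
    · intro z
      obtain ⟨a, rfl⟩ := hsurj z
      exact ⟨(a, 1), by simp [RingHom.algebraMap_toAlgebra]⟩
    · intro x y hxy
      have h0 : φ (x - y) = 0 := by
        rw [map_sub, sub_eq_zero]; exact hxy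
      obtain ⟨t, ht, hxt⟩ := hpure _ h0
      refine ⟨⟨1 - t, ?_⟩, ?_⟩
      · change φ (1 - t) = 1
        rw [map_sub, map_one, ht, sub_zero]
      · change (1 - t) * x = (1 - t) * y
        have : (1 - t) * (x - y) = 0 := by
          rw [sub_mul, one_mul, mul_comm t, ← hxt, sub_self]
        rw [mul_sub, sub_eq_zero] at this
        exact this
  exact IsLocalization.flat B (Submonoid.comap φ ⊥)

lemma exists_zeroLocus_eq (T : Set (PrimeSpectrum A)) (hT : IsClosed T) :
    ∃ J : Ideal A, T = PrimeSpectrum.zeroLocus (J : Set A) :=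
  ⟨PrimeSpectrum.vanishingIdeal T, by
    rw [PrimeSpectrum.zeroLocus_vanishingIdeal_eq_closure, hT.closure_eq]⟩

lemma zeroLocus_pureIdeal_subset' (T : Set (PrimeSpectrum A)) (hT : IsClosed T)
    (hgen : StableUnderGeneralization T) :
    PrimeSpectrum.zeroLocus (pureIdeal T : Set A) ⊆ T := by
  obtain ⟨J, rfl⟩ := exists_zeroLocus_eq T hT
  exact zeroLocus_pureIdeal_subset J hgen

lemma exists_mul_eq_self' (T : Set (PrimeSpectrum A)) (hT : IsClosed T)
    (hgen : StableUnderGeneralization T) (x : A) (hx : x ∈ pureIdeal T) :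
    ∃ y ∈ pureIdeal T, x = x * y := by
  obtain ⟨J, rfl⟩ := exists_zeroLocus_eq T hT
  exact exists_mul_eq_self J hgen x hx

lemma exists_pow_mul_mem' (T : Set (PrimeSpectrum A)) (hT : IsClosed T)
    (hgen : StableUnderGeneralization T) (a f : A)
    (h : ∀ p ∈ T, f ∉ p.asIdeal → ∃ s : A, s ∉ p.asIdeal ∧ s * a = 0) :
    ∃ k : ℕ, f ^ k * a ∈ pureIdeal T := by
  obtain ⟨J, rfl⟩ := exists_zeroLocus_eq T hT
  exact exists_pow_mul_mem J hgen a f h

end Algebra

section Geometry

variable {X : Scheme.{u}}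

/-- the primes of `Γ(X, U)` corresponding to points of `Z`. -/
def primesOf (Z : Set X) (U : X.affineOpens) : Set (PrimeSpectrum Γ(X, U.1)) :=
  {p | U.2.fromSpec p ∈ Z}

lemma isClosed_primesOf (Z : TopologicalSpace.Closeds X) (U : X.affineOpens) :
    IsClosed (primesOf (Z : Set X) U) :=
  Z.isClosed.preimage U.2.fromSpec.continuous

lemma stableUnderGeneralization_primesOf (Z : Set X) (hZ : StableUnderGeneralization Z)
    (U : X.affineOpens) : StableUnderGeneralization (primesOf Z U) := by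
  intro p q hqp hp
  exact hZ (hqp.map U.2.fromSpec.continuous) hp

lemma primesOf_eq_zeroLocus (Z : TopologicalSpace.Closeds X) (U : X.affineOpens) :
    primesOf (Z : Set X) U =
      PrimeSpectrum.zeroLocus (PrimeSpectrum.vanishingIdeal (primesOf (Z : Set X) U) : Set _) := by
  rw [PrimeSpectrum.zeroLocus_vanishingIdeal_eq_closure, (isClosed_primesOf Z U).closure_eq]

lemma fromSpec_mem (U : X.affineOpens) (p : PrimeSpectrum Γ(X, U.1)) : U.2.fromSpec p ∈ U.1 := by
  have h : U.2.fromSpec p ∈ U.2.fromSpec.opensRange := ⟨p, rfl⟩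
  rwa [U.2.opensRange_fromSpec] at h

lemma germ_eq_zero_iff_of_fromSpec (U : X.affineOpens) (p : PrimeSpectrum Γ(X, U.1))
    (a : Γ(X, U.1)) :
    X.presheaf.germ U.1 (U.2.fromSpec p) (fromSpec_mem U p) a = 0 ↔
      ∃ s : Γ(X, U.1), s ∉ p.asIdeal ∧ s * a = 0 := by
  letI : Algebra Γ(X, U.1) (X.presheaf.stalk (U.2.fromSpec p)) :=
    TopCat.Presheaf.algebra_section_stalk X.presheaf ⟨U.2.fromSpec p, fromSpec_mem U p⟩
  haveI hloc : IsLocalization.AtPrime (X.presheaf.stalk (U.2.fromSpec p)) p.asIdeal :=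
    U.2.isLocalization_stalk' p (fromSpec_mem U p)
  have := IsLocalization.map_eq_zero_iff p.asIdeal.primeCompl
    (X.presheaf.stalk (U.2.fromSpec p)) a
  constructor
  · intro h
    obtain ⟨m, hm⟩ := this.mp h
    exact ⟨m.1, m.2, hm⟩
  · rintro ⟨s, hs, hsa⟩
    exact this.mpr ⟨⟨s, hs⟩, hsa⟩

lemma germ_eq_zero_iff (U : X.affineOpens) (z : X) (hz : z ∈ U.1) (a : Γ(X, U.1)) :
    X.presheaf.germ U.1 z hz a = 0 ↔
      ∃ s : Γ(X, U.1), s ∉ (U.2.primeIdealOf ⟨z, hz⟩).asIdeal ∧ s * a = 0 := by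
  letI : Algebra Γ(X, U.1) (X.presheaf.stalk z) :=
    TopCat.Presheaf.algebra_section_stalk X.presheaf ⟨z, hz⟩
  haveI hloc : IsLocalization.AtPrime (X.presheaf.stalk z) (U.2.primeIdealOf ⟨z, hz⟩).asIdeal :=
    U.2.isLocalization_stalk ⟨z, hz⟩
  have := IsLocalization.map_eq_zero_iff (U.2.primeIdealOf ⟨z, hz⟩).asIdeal.primeCompl
    (X.presheaf.stalk z) a
  constructor
  · intro h
    obtain ⟨m, hm⟩ := this.mp h
    exact ⟨m.1, m.2, hm⟩
  · rintro ⟨s, hs, hsa⟩
    exact this.mpr ⟨⟨s, hs⟩, hsa⟩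

/-- sections on `U` whose germs vanish at all points of `Z`. -/
def idl (Z : Set X) (U : X.affineOpens) : Ideal Γ(X, U.1) where
  carrier := {a | ∀ (z : X) (hz : z ∈ U.1), z ∈ Z → X.presheaf.germ U.1 z hz a = 0}
  add_mem' := by
    intro a b ha hb z hz hzZ
    rw [map_add, ha z hz hzZ, hb z hz hzZ, add_zero]
  zero_mem' := by
    intro z hz _
    rw [map_zero]
  smul_mem' := by
    intro c a ha z hz hzZ
    rw [smul_eq_mul, map_mul, ha z hz hzZ, mul_zero]

lemma mem_idl_iff (Z : Set X) (U : X.affineOpens) (a : Γ(X, U.1)) :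
    a ∈ idl Z U ↔ ∀ (z : X) (hz : z ∈ U.1), z ∈ Z → X.presheaf.germ U.1 z hz a = 0 := Iff.rfl

lemma idl_eq_pureIdeal (Z : Set X) (U : X.affineOpens) : idl Z U = pureIdeal (primesOf Z U) := by
  ext a
  rw [mem_idl_iff, mem_pureIdeal_iff]
  constructor
  · intro h p hp
    exact (germ_eq_zero_iff_of_fromSpec U p a).mp (h _ (fromSpec_mem U p) hp)
  · intro h z hz hzZ
    rw [germ_eq_zero_iff]
    apply h
    change U.2.fromSpec (U.2.primeIdealOf ⟨z, hz⟩) ∈ Z
    rw [U.2.fromSpec_primeIdealOf]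
    exact hzZ

lemma map_idl_basicOpen (Z : TopologicalSpace.Closeds X)
    (hZ : StableUnderGeneralization (Z : Set X)) (U : X.affineOpens) (f : Γ(X, U.1)) :
    (idl (Z : Set X) U).map (X.presheaf.map (homOfLE <| X.basicOpen_le f).op).hom =
      idl (Z : Set X) (X.affineBasicOpen f) := by
  apply le_antisymm
  · rw [Ideal.map_le_iff_le_comap]
    intro a ha z hz hzZ
    have h1 : X.presheaf.germ (X.basicOpen f) z hz
        (X.presheaf.map (homOfLE <| X.basicOpen_le f).op a) =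
        X.presheaf.germ U.1 z (X.basicOpen_le f hz) a :=
      TopCat.Presheaf.germ_res_apply X.presheaf (homOfLE <| X.basicOpen_le f) z hz a
    exact h1.trans (ha z (X.basicOpen_le f hz) hzZ)
  · intro b hb
    haveI := U.2.isLocalization_basicOpen f
    obtain ⟨n, a, hba⟩ := IsLocalization.Away.surj f b
    have hu : IsUnit (algebraMap Γ(X, U.1) Γ(X, X.basicOpen f) f) :=
      IsLocalization.Away.algebraMap_isUnit f
    have halg : ∀ c : Γ(X, U.1), algebraMap Γ(X, U.1) Γ(X, X.basicOpen f) c =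
        X.presheaf.map (homOfLE <| X.basicOpen_le f).op c := fun c => rfl
    obtain ⟨k, hk⟩ := exists_pow_mul_mem' (primesOf (Z : Set X) U) (isClosed_primesOf Z U)
      (stableUnderGeneralization_primesOf _ hZ U) a f (by
        intro p hp hfp
        rw [← germ_eq_zero_iff_of_fromSpec]
        have hzf : U.2.fromSpec p ∈ X.basicOpen f := by
          have : p ∈ U.2.fromSpec ⁻¹ᵁ X.basicOpen f := by
            rw [U.2.fromSpec_preimage_basicOpen]; exact hfp
          exact this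
        have h1 : X.presheaf.germ (X.basicOpen f) (U.2.fromSpec p) hzf
            (X.presheaf.map (homOfLE <| X.basicOpen_le f).op a) =
            X.presheaf.germ U.1 (U.2.fromSpec p) (X.basicOpen_le f hzf) a :=
          TopCat.Presheaf.germ_res_apply X.presheaf (homOfLE <| X.basicOpen_le f) _ hzf a
        have h2 : X.presheaf.germ (X.basicOpen f) (U.2.fromSpec p) hzf b = 0 := hb _ hzf hp
        rw [← h1, ← halg, ← hba, map_mul, h2, zero_mul])
    rw [← idl_eq_pureIdeal] at hk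
    have hb2 : b * (algebraMap Γ(X, U.1) Γ(X, X.basicOpen f) f) ^ (n + k) =
        X.presheaf.map (homOfLE <| X.basicOpen_le f).op (f ^ k * a) := by
      rw [pow_add, ← mul_assoc, hba, ← halg, map_mul, map_pow, mul_comm]
    have hmem := Ideal.mem_map_of_mem (X.presheaf.map (homOfLE <| X.basicOpen_le f).op).hom hk
    change (X.presheaf.map (homOfLE <| X.basicOpen_le f).op) (f ^ k * a) ∈ _ at hmem
    rw [← hb2] at hmem
    exact (Ideal.mul_unit_mem_iff_mem _ (hu.pow (n + k))).mp hmem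

/-- the pure ideal sheaf attached to a closed subset stable under generalization. -/
noncomputable def pureSheaf (Z : TopologicalSpace.Closeds X)
    (hZ : StableUnderGeneralization (Z : Set X)) : X.IdealSheafData where
  ideal := idl (Z : Set X)
  map_ideal_basicOpen := map_idl_basicOpen Z hZ

lemma support_pureSheaf (Z : TopologicalSpace.Closeds X)
    (hZ : StableUnderGeneralization (Z : Set X)) : (pureSheaf Z hZ).support = Z := by
  ext x
  obtain ⟨_, ⟨U, hU, rfl⟩, hxU, -⟩ :=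
    X.isBasis_affineOpens.exists_subset_of_mem_open (Set.mem_univ x) isOpen_univ
  change x ∈ (pureSheaf Z hZ).support ↔ x ∈ Z
  rw [Scheme.IdealSheafData.mem_support_iff_of_mem (U := ⟨U, hU⟩) hxU, Scheme.mem_zeroLocus_iff]
  constructor
  · intro h
    by_contra hxZ
    obtain ⟨p, hp⟩ : ∃ p, p = hU.primeIdealOf ⟨x, hxU⟩ := ⟨_, rfl⟩
    have hpx : hU.fromSpec p = x := by rw [hp]; exact hU.fromSpec_primeIdealOf ⟨x, hxU⟩
    have hpT : p ∉ primesOf (Z : Set X) ⟨U, hU⟩ := by
      change ¬ (hU.fromSpec p ∈ (Z : Set X))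
      rw [hpx]; exact hxZ
    have hpI : p ∉ PrimeSpectrum.zeroLocus
        (pureIdeal (primesOf (Z : Set X) ⟨U, hU⟩) : Set Γ(X, U)) := fun hmem =>
      hpT (zeroLocus_pureIdeal_subset' _ (isClosed_primesOf Z ⟨U, hU⟩)
        (stableUnderGeneralization_primesOf _ hZ ⟨U, hU⟩) hmem)
    rw [PrimeSpectrum.mem_zeroLocus, Set.not_subset] at hpI
    obtain ⟨a, ha, hap⟩ := hpI
    refine h a ?_ ?_
    · change a ∈ idl (Z : Set X) ⟨U, hU⟩
      rw [idl_eq_pureIdeal]; exact ha
    · have h1 : p ∈ hU.fromSpec ⁻¹ᵁ X.basicOpen a := by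
        rw [hU.fromSpec_preimage_basicOpen]; exact hap
      have h2 : hU.fromSpec p ∈ X.basicOpen a := h1
      rwa [hpx] at h2
  · intro hxZ a ha hxa
    have h0 : X.presheaf.germ U x hxU a = 0 := ha x hxU hxZ
    rw [Scheme.mem_basicOpen _ _ x hxU, h0] at hxa
    exact not_isUnit_zero hxa

lemma flat_pureSheaf (Z : TopologicalSpace.Closeds X)
    (hZ : StableUnderGeneralization (Z : Set X)) : Flat (pureSheaf Z hZ).subschemeι := by
  rw [HasRingHomProperty.iff_exists_appLE (P := @Flat)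
    (RingHom.Flat.stableUnderComposition.stableUnderCompositionWithLocalizationAway
      RingHom.Flat.holdsForLocalizationAway).1]
  intro x
  obtain ⟨_, ⟨U, hU, rfl⟩, hxU, -⟩ :=
    X.isBasis_affineOpens.exists_subset_of_mem_open
      (Set.mem_univ ((pureSheaf Z hZ).subschemeι x)) isOpen_univ
  refine ⟨⟨U, hU⟩, ⟨(pureSheaf Z hZ).subschemeι ⁻¹ᵁ U, hU.preimage _⟩, hxU, le_rfl, ?_⟩
  rw [← Scheme.Hom.app_eq_appLE]
  apply flat_of_surjective_of_pure
  · exact (pureSheaf Z hZ).subschemeι_app_surjective ⟨U, hU⟩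
  · intro a ha
    have h1 : a ∈ RingHom.ker ((pureSheaf Z hZ).subschemeι.app U).hom := ha
    rw [(pureSheaf Z hZ).ker_subschemeι_app ⟨U, hU⟩] at h1
    have h2 : a ∈ idl (Z : Set X) ⟨U, hU⟩ := h1
    rw [idl_eq_pureIdeal] at h2
    obtain ⟨y, hy, hay⟩ := exists_mul_eq_self' _ (isClosed_primesOf Z ⟨U, hU⟩)
      (stableUnderGeneralization_primesOf _ hZ ⟨U, hU⟩) a h2
    refine ⟨y, ?_, hay⟩
    rw [← idl_eq_pureIdeal] at hy
    have h3 : y ∈ RingHom.ker ((pureSheaf Z hZ).subschemeι.app U).hom := by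
      rw [(pureSheaf Z hZ).ker_subschemeι_app ⟨U, hU⟩]; exact hy
    exact h3

/-- a flat surjective closed immersion is an isomorphism. -/
lemma isIso_of_flat_of_surjective {Z X : Scheme.{u}} (p : Z ⟶ X) [IsClosedImmersion p] [Flat p]
    [Surjective p] : IsIso p := by
  have h4 : IsIso (pullback.fst p p) := inferInstance
  exact MorphismProperty.of_pullback_fst_of_descendsAlong
    (P := MorphismProperty.isomorphisms Scheme.{u})
    (Q := @Surjective ⊓ @Flat ⊓ @QuasiCompact) (f := p) (g := p)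
    ⟨⟨inferInstance, inferInstance⟩, inferInstance⟩ h4

lemma exists_factor (I : X.IdealSheafData) (hI : Flat I.subschemeι) (Y : Scheme.{u}) (g : Y ⟶ X)
    (hg : Set.range g.base ⊆ (I.support : Set ↑X)) :
    ∃ g' : Y ⟶ I.subscheme, g' ≫ I.subschemeι = g := by
  have hsurj : Surjective (pullback.fst g I.subschemeι) := by
    constructor
    intro y
    have hy : g y ∈ Set.range I.subschemeι := by
      rw [I.range_subschemeι]
      exact hg ⟨y, rfl⟩
    obtain ⟨z, hz⟩ := hy
    obtain ⟨w, hw, -⟩ := Scheme.Pullback.exists_preimage_pullback (f := g) (g := I.subschemeι)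
      y z hz.symm
    exact ⟨w, hw⟩
  have hiso : IsIso (pullback.fst g I.subschemeι) := isIso_of_flat_of_surjective _
  refine ⟨inv (pullback.fst g I.subschemeι) ≫ pullback.snd g I.subschemeι, ?_⟩
  rw [Category.assoc, ← pullback.condition, IsIso.inv_hom_id_assoc]

end Geometry


open AlgebraicGeometry CategoryTheory in
/-- On a scheme X, taking supports is a bijection from the closed subschemes Z ⊆ X with Z → X flat
(indexed by their quasi-coherent ideal sheaves) onto the closed subsets of X stable under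
generalization; and any morphism g : Y → X with image inside such a Z factors through Z. -/
theorem result (X : Scheme.{u}) :
    Set.BijOn (fun I : X.IdealSheafData => I.support) {I : X.IdealSheafData | Flat I.subschemeι}
        {Z : TopologicalSpace.Closeds ↑X | StableUnderGeneralization (Z : Set ↑X)} ∧
      ∀ I : X.IdealSheafData, Flat I.subschemeι → ∀ (Y : Scheme.{u}) (g : Y ⟶ X),
        Set.range g.base ⊆ (I.support : Set ↑X) → ∃ g' : Y ⟶ I.subscheme, g' ≫ I.subschemeι = g := by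
  refine ⟨⟨?_, ?_, ?_⟩, ?_⟩
  · -- maps to
    intro I hI
    have hI' : Flat I.subschemeι := hI
    intro x y hyx hx
    have hx' : x ∈ Set.range I.subschemeι := by rw [I.range_subschemeι]; exact hx
    obtain ⟨z, rfl⟩ := hx'
    have hgen : GeneralizingMap I.subschemeι := Flat.generalizingMap _
    obtain ⟨w, hw, hwy⟩ := hgen hyx
    have : y ∈ Set.range I.subschemeι := ⟨w, hwy⟩
    rw [I.range_subschemeι] at this
    exact this
  · -- injective
    intro I hI J hJ hIJ
    have hI' : Flat I.subschemeι := hI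
    have hJ' : Flat J.subschemeι := hJ
    have hIJ' : I.support = J.support := hIJ
    have key : ∀ (I J : X.IdealSheafData), Flat J.subschemeι → I.support = J.support → J ≤ I := by
      intro I J hJ hs
      obtain ⟨g', hg'⟩ := exists_factor J hJ _ I.subschemeι (by
        rw [← hs, ← I.range_subschemeι])
      have h1 : J.subschemeι.ker ≤ (g' ≫ J.subschemeι).ker := by
        rw [Scheme.Hom.ker_comp, ← Scheme.IdealSheafData.map_bot]
        exact Scheme.IdealSheafData.map_mono _ bot_le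
      rwa [hg', Scheme.IdealSheafData.ker_subschemeι, Scheme.IdealSheafData.ker_subschemeι] at h1
    exact le_antisymm (key J I hI' hIJ'.symm) (key I J hJ' hIJ')
  · -- surjective
    intro Z hZ
    exact ⟨pureSheaf Z hZ, flat_pureSheaf Z hZ, support_pureSheaf Z hZ⟩
  · intro I hI Y g hg
    exact exists_factor I hI Y g hg

end Groth.Agent.S9351
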