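import Groth.Statements.S0300
import Mathlib

set_option autoImplicit false
universe u v
open InjHull

namespace Groth.Agent.S0300

/-- Over a Noetherian ring, injectivity of modules is preserved under arbitrary direct sums. -/
theorem result (R : Type u) [CommRing R] [IsNoetherianRing R] {ι : Type u} (E : ι → Type u) [∀ i, AddCommGroup (E i)] [∀ i, Module R (E i)] (hE : ∀ i, Module.Injective R (E i)) : Module.Injective R (DirectSum ι E) := by
  classical
  apply Module.Baer.injective
  intro I g
  haveI : ∀ i, Module.Injective R (E i) := hE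
  let p : DirectSum ι E →ₗ[R] (∀ i, E i) := DFinsupp.coeFnLinearMap R
  obtain ⟨G, hG⟩ := Module.Injective.extension_property R (∀ i, E i) I R I.subtype
    I.injective_subtype (p ∘ₗ g)
  haveI : Module.Finite R I := Module.IsNoetherian.finite R I
  obtain ⟨T, hT⟩ := (Module.Finite.fg_top : (⊤ : Submodule R I).FG)
  let s : Finset ι := T.biUnion (fun x => DFinsupp.support (g x))
  have hsupp : ∀ y : I, DFinsupp.support (g y) ⊆ s := by
    intro y
    have hy : y ∈ Submodule.span R (T : Set I) := by rw [hT]; trivial
    induction hy using Submodule.span_induction with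
    | mem x hx => exact Finset.subset_biUnion_of_mem (fun x => DFinsupp.support (g x)) hx
    | zero => rw [map_zero]; simp
    | add x y _ _ hx hy =>
      rw [map_add]
      exact (DFinsupp.support_add).trans (Finset.union_subset hx hy)
    | smul a x _ hx =>
      rw [map_smul]
      exact (DFinsupp.support_smul a _).trans hx
  let trunc : (∀ i, E i) →ₗ[R] DirectSum ι E :=
    ∑ i ∈ s, (DirectSum.lof R ι E i) ∘ₗ (LinearMap.proj i)
  refine ⟨trunc ∘ₗ G, fun x mem => ?_⟩
  have h1 : G x = p (g ⟨x, mem⟩) := LinearMap.congr_fun hG ⟨x, mem⟩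
  rw [LinearMap.comp_apply, h1]
  simp only [trunc, LinearMap.sum_apply, LinearMap.comp_apply, LinearMap.proj_apply]
  conv_rhs => rw [← DirectSum.sum_support_of (g ⟨x, mem⟩)]
  symm
  apply Finset.sum_subset (hsupp ⟨x, mem⟩)
  intro i _ hi
  rw [DFinsupp.notMem_support_iff] at hi
  rw [hi, map_zero]

end Groth.Agent.S0300
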