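import Groth.Statements.S0336
import Groth.Agent.Lib.Helper28Kunz
import Groth.Agent.Lib.Helper5RLR3
import Groth.Agent.S2082
-- import your own Groth.Agent.* helpers here

set_option autoImplicit false
universe u v
open LocCoh

namespace Groth.Agent.S0336

open IsLocalRing

/-- regular local ⇒ Frobenius flat (via miracle flatness). -/
theorem frobenius_flat_of_isRegularLocalRing (p : ℕ) [Fact p.Prime] (A : Type u) [CommRing A]
    [IsRegularLocalRing A] [CharP A p] : (frobenius A p).Flat := by
  letI alg : Algebra A A := (frobenius A p).toAlgebra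
  have hmap : ∀ a : A, algebraMap A A a = a ^ p := fun a => rfl
  have hloc : IsLocalHom (algebraMap A A) := by
    constructor
    intro a ha
    rw [hmap] at ha
    exact (isUnit_pow_iff (Fact.out : p.Prime).ne_zero).mp ha
  have hCM : LocCoh.IsCohenMacaulayLocalRing A :=
    Groth.Agent.Lib.Helper5.isCohenMacaulayLocalRing_of_isRegularLocalRing A
  have hJle : (maximalIdeal A).map (algebraMap A A) ≤ maximalIdeal A := by
    rw [Ideal.map_le_iff_le_comap]
    intro a ha
    change algebraMap A A a ∈ maximalIdeal A
    rw [hmap]
    exact Ideal.pow_mem_of_mem _ ha p (Fact.out : p.Prime).pos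
  have hnt : Nontrivial (A ⧸ (maximalIdeal A).map (algebraMap A A)) := by
    rw [Ideal.Quotient.nontrivial_iff]
    exact fun h => (maximalIdeal.isMaximal A).ne_top (top_le_iff.mp (h ▸ hJle))
  have hzero : ringKrullDim (A ⧸ (maximalIdeal A).map (algebraMap A A)) = 0 := by
    rw [← ringKrullDimZero_iff_ringKrullDim_eq_zero,
      Ideal.krullDimLE_zero_quotient_iff_forall_minimalPrimes_isMaximal]
    intro P hP
    have hPp : P.IsPrime := hP.1.1
    have hmP : maximalIdeal A ≤ P := by
      intro a ha
      have h1 : a ^ p ∈ P := hP.1.2 (by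
        have := Ideal.mem_map_of_mem (algebraMap A A) ha
        rwa [hmap] at this)
      exact hPp.mem_of_pow_mem p h1
    have : P = maximalIdeal A := ((maximalIdeal.isMaximal A).eq_of_le hPp.ne_top hmP).symm
    rw [this]
    exact maximalIdeal.isMaximal A
  have hdim : ringKrullDim A = ringKrullDim A +
      ringKrullDim (A ⧸ (maximalIdeal A).map (algebraMap A A)) := by
    rw [hzero, add_zero]
  exact @Groth.Agent.S2082.result A A _ _ _ hCM alg hloc hdim

/-- iterates of a flat Frobenius are flat `p^e`-power maps. -/
theorem exists_flat_pow (p : ℕ) [Fact p.Prime] (A : Type u) [CommRing A] [CharP A p]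
    (h : (frobenius A p).Flat) (e : ℕ) :
    ∃ φ : A →+* A, (∀ a, φ a = a ^ (p ^ e)) ∧ φ.Flat := by
  induction e with
  | zero => exact ⟨RingHom.id A, fun a => by simp, RingHom.Flat.id A⟩
  | succ e ih =>
    obtain ⟨φ, hφ, hflat⟩ := ih
    refine ⟨(frobenius A p).comp φ, fun a => ?_, hflat.comp h⟩
    rw [RingHom.comp_apply, hφ, frobenius_def, ← pow_mul, pow_succ]

theorem charP_localization (p : ℕ) [Fact p.Prime] (R : Type u) [CommRing R] [CharP R p]
    (J : Ideal R) [J.IsPrime] : CharP (Localization.AtPrime J) p := by
  rw [CharP.charP_iff_prime_eq_zero (Fact.out : p.Prime)]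
  have : ((p : R) : R) = 0 := CharP.cast_eq_zero R p
  have h2 := congrArg (algebraMap R (Localization.AtPrime J)) this
  rwa [map_natCast, map_zero] at h2

/-- the localization of Frobenius is Frobenius. -/
theorem localRingHom_frobenius (p : ℕ) [Fact p.Prime] (R : Type u) [CommRing R] [CharP R p]
    (J : Ideal R) [J.IsPrime] [CharP (Localization.AtPrime J) p]
    (hJ : J = Ideal.comap (frobenius R p) J) :
    Localization.localRingHom J J (frobenius R p) hJ = frobenius (Localization.AtPrime J) p := by
  apply IsLocalization.ringHom_ext J.primeCompl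
  ext a
  rw [RingHom.comp_apply, RingHom.comp_apply, Localization.localRingHom_to_map, frobenius_def,
    frobenius_def, map_pow]

theorem comap_frobenius (p : ℕ) [Fact p.Prime] (R : Type u) [CommRing R] [CharP R p]
    (J : Ideal R) [J.IsPrime] : J = Ideal.comap (frobenius R p) J := by
  ext a
  rw [Ideal.mem_comap, frobenius_def]
  exact ⟨fun h => Ideal.pow_mem_of_mem _ h p (Fact.out : p.Prime).pos,
    fun h => Ideal.IsPrime.mem_of_pow_mem inferInstance p h⟩

/-- A Noetherian ring of prime characteristic p is regular exactly when its Frobenius endomorphism is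
flat. -/
theorem result (p : ℕ) [Fact p.Prime] (R : Type u) [CommRing R] [IsNoetherianRing R] [CharP R p] : IsRegularRing R ↔ (frobenius R p).Flat := by
  constructor
  · intro hreg
    apply RingHom.Flat.ofLocalizationPrime
    intro J hJ
    have key : ∀ (Q : Ideal R) [Q.IsPrime] (hQ : Q = Ideal.comap (frobenius R p) J),
        (Localization.localRingHom Q J (frobenius R p) hQ).Flat := by
      intro Q _ hQ
      have hQJ : Q = J := hQ.trans (comap_frobenius p R J).symm
      subst hQJ
      haveI := charP_localization p R Q
      rw [localRingHom_frobenius p R Q hQ]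
      exact frobenius_flat_of_isRegularLocalRing p (Localization.AtPrime Q)
    exact key _ rfl
  · intro hflat
    rw [isRegularRing_iff]
    intro J hJ
    haveI := charP_localization p R J
    have h1 := RingHom.Flat.localRingHom hflat J J (comap_frobenius p R J)
    rw [localRingHom_frobenius p R J] at h1
    exact Groth.Agent.Lib.Helper28.Kunz.isRegularLocalRing_of_flat_pow p
      (Fact.out : p.Prime).one_lt (exists_flat_pow p _ h1)

end Groth.Agent.S0336
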