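import Groth.Statements.S0344
import Groth.Agent.Lib.Helper5GorFlat

set_option autoImplicit false
universe u v
open Goren

namespace Groth.Agent.S0344

/-- For a flat local homomorphism A → B of Noetherian local rings, B is Gorenstein exactly when A and
the closed fibre B/m_A B are. -/
theorem result (A : Type u) [CommRing A] [IsLocalRing A] [IsNoetherianRing A] (B : Type u) [CommRing B] [IsLocalRing B] [IsNoetherianRing B] [Algebra A B] [IsLocalHom (algebraMap A B)] [Module.Flat A B] : LocCoh.IsGorensteinLocalRing B ↔ (LocCoh.IsGorensteinLocalRing A ∧ LocCoh.IsGorensteinLocalRing (B ⧸ (IsLocalRing.maximalIdeal A).map (algebraMap A B))) := by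
  have hne : (IsLocalRing.maximalIdeal A).map (algebraMap A B) ≠ ⊤ :=
    Groth.Agent.Lib.Helper28.map_ne_top_of_isLocalHom (A' := B) _
      (IsLocalRing.maximalIdeal.isMaximal A).ne_top
  haveI : IsLocalRing (B ⧸ (IsLocalRing.maximalIdeal A).map (algebraMap A B)) :=
    Groth.Agent.Lib.Helper5.isLocalRing_quotient hne
  exact Groth.Agent.Lib.Helper5.GorFlat.main A B _
    (Ideal.Quotient.mk ((IsLocalRing.maximalIdeal A).map (algebraMap A B)))
    Ideal.Quotient.mk_surjective Ideal.mk_ker

end Groth.Agent.S0344
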