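import Groth.Statements.S2004
import Groth.Agent.Lib.Helper16BL

set_option autoImplicit false
universe u
open TensorProduct
open EtAlg

namespace Groth.Agent.S2004

open Groth.Agent.Lib.Helper16

theorem away_eq_zero_iff {R : Type u} [CommRing R] (f x : R) :
    algebraMap R (Localization.Away f) x = 0 ↔ ∃ n : ℕ, f ^ n * x = 0 := by
  rw [IsLocalization.map_eq_zero_iff (Submonoid.powers f)]
  constructor
  · rintro ⟨⟨_, n, rfl⟩, h⟩
    exact ⟨n, h⟩
  · rintro ⟨n, h⟩
    exact ⟨⟨f ^ n, n, rfl⟩, h⟩

theorem awayMap_algebraMap {R R' : Type u} [CommRing R] [CommRing R'] [Algebra R R'] (f r : R) :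
    Localization.awayMap (algebraMap R R') f (algebraMap R (Localization.Away f) r) =
      algebraMap R' (Localization.Away (algebraMap R R' f)) (algebraMap R R' r) :=
  IsLocalization.map_eq (M := Submonoid.powers f) (S := Localization.Away f)
    (T := Submonoid.powers (algebraMap R R' f))
    (Q := Localization.Away (algebraMap R R' f)) _ r

/-- Let R -> R' induce bijections R/f^n R -> R'/f^n R' for all n > 0. Then (R -> R', f) is a glueing
pair if and only if R -> R' maps the f-power torsion of R bijectively onto the f-power torsion of R'
(stated as: injective on f-power torsion elements, and every f-power torsion element of R' is the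
image of one of R). -/
theorem result (R R' : Type u) [CommRing R] [CommRing R'] [Algebra R R'] (f : R)
    (hq : EtGlue.QuotPowBijective R R' f) :
    EtGlue.IsGlueingPair R R' f ↔
      ((∀ x : R, (∃ n : ℕ, f ^ n * x = 0) → algebraMap R R' x = 0 → x = 0) ∧
       (∀ x' : R', (∃ n : ℕ, algebraMap R R' f ^ n * x' = 0) →
          ∃ x : R, (∃ n : ℕ, f ^ n * x = 0) ∧ algebraMap R R' x = x')) := by
  constructor
  · rintro ⟨-, hinj, hmid, -⟩
    constructor
    · intro x hx h0
      apply hinj
      have h1 : algebraMap R (Localization.Away f) x = 0 := (away_eq_zero_iff f x).2 hx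
      simp only [h0, h1, map_zero]
    · intro x' hx'
      have h1 : algebraMap R' (Localization.Away ((algebraMap R R') f)) x' =
          Localization.awayMap (algebraMap R R') f 0 := by
        rw [map_zero]; exact (away_eq_zero_iff ((algebraMap R R') f) x').2 hx'
      obtain ⟨r, hr1, hr2⟩ := hmid x' 0 h1
      exact ⟨r, (away_eq_zero_iff f r).1 hr2, hr1⟩
  · rintro ⟨hinj, hsurj⟩
    refine ⟨hq, ?_, ?_, ?_⟩
    · intro a b hab
      have h1 : (algebraMap R R') (a - b) = 0 := by
        rw [map_sub, sub_eq_zero]; exact congrArg Prod.fst hab
      have h2 : algebraMap R (Localization.Away f) (a - b) = 0 := by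
        rw [map_sub, sub_eq_zero]; exact congrArg Prod.snd hab
      exact sub_eq_zero.mp (hinj _ ((away_eq_zero_iff f _).1 h2) h1)
    · intro x y hxy
      obtain ⟨n, r, hr⟩ := IsLocalization.Away.surj f y
      have h1 : algebraMap R' (Localization.Away ((algebraMap R R') f)) (x * (algebraMap R R') f ^ n - (algebraMap R R') r) = 0 := by
        have e : Localization.awayMap (algebraMap R R') f
            (y * algebraMap R (Localization.Away f) f ^ n) =
            Localization.awayMap (algebraMap R R') f (algebraMap R (Localization.Away f) r) :=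
          congrArg _ hr
        rw [map_mul, map_pow, awayMap_algebraMap, awayMap_algebraMap, ← hxy] at e
        rw [map_sub, map_mul, map_pow, e, sub_self]
      obtain ⟨k, hk⟩ := (away_eq_zero_iff ((algebraMap R R') f) _).1 h1
      obtain ⟨t, ⟨j, hj⟩, ht⟩ := hsurj _ ⟨k, hk⟩
      have ht0 : algebraMap R (Localization.Away f) t = 0 := (away_eq_zero_iff f t).2 ⟨j, hj⟩
      have h2 : (algebraMap R R') (r + t) = (algebraMap R R') f ^ n * x := by rw [map_add, ht]; ring
      rcases Nat.eq_zero_or_pos n with h0 | hpos
      · subst h0
        refine ⟨r + t, by rw [h2]; simp, ?_⟩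
        rw [map_add, ht0, add_zero, ← hr]; simp
      · obtain ⟨r₂, hr₂⟩ := quotPow_inj hq hpos (r + t) x h2
        have h3 : (algebraMap R R') f ^ n * (x - (algebraMap R R') r₂) = 0 := by
          rw [mul_sub, ← h2, hr₂, map_mul, map_pow, sub_self]
        obtain ⟨t₂, ⟨j₂, hj₂⟩, ht₂⟩ := hsurj _ ⟨n, h3⟩
        have ht₂0 : algebraMap R (Localization.Away f) t₂ = 0 :=
          (away_eq_zero_iff f t₂).2 ⟨j₂, hj₂⟩
        refine ⟨r₂ + t₂, by rw [map_add, ht₂]; ring, ?_⟩
        rw [map_add, ht₂0, add_zero]
        have hu : IsUnit (algebraMap R (Localization.Away f) f ^ n) :=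
          (IsLocalization.Away.algebraMap_isUnit f).pow n
        apply hu.mul_left_injective
        change algebraMap R (Localization.Away f) r₂ * algebraMap R (Localization.Away f) f ^ n =
          y * algebraMap R (Localization.Away f) f ^ n
        rw [hr, ← map_pow, ← map_mul, mul_comm, ← hr₂, map_add, ht0, add_zero]
    · intro z
      obtain ⟨n, x', hx'⟩ := IsLocalization.Away.surj ((algebraMap R R') f) z
      rcases Nat.eq_zero_or_pos n with h0 | hpos
      · subst h0
        exact ⟨x', 0, by rw [map_zero, sub_zero, ← hx']; simp⟩
      · obtain ⟨r, s', hrs⟩ := quotPow_surj hq hpos x'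
        have hu : IsUnit (algebraMap R (Localization.Away f) f ^ n) :=
          (IsLocalization.Away.algebraMap_isUnit f).pow n
        obtain ⟨u, hu'⟩ := hu
        refine ⟨s', - (algebraMap R (Localization.Away f) r * ((u⁻¹ : (Localization.Away f)ˣ) :
          Localization.Away f)), ?_⟩
        have hu2 : IsUnit (algebraMap R' (Localization.Away ((algebraMap R R') f)) ((algebraMap R R') f) ^ n) :=
          (IsLocalization.Away.algebraMap_isUnit ((algebraMap R R') f)).pow n
        apply hu2.mul_left_injective
        change (algebraMap R' (Localization.Away ((algebraMap R R') f)) s' - Localization.awayMap (algebraMap R R') f _) *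
          algebraMap R' (Localization.Away ((algebraMap R R') f)) ((algebraMap R R') f) ^ n =
          z * algebraMap R' (Localization.Away ((algebraMap R R') f)) ((algebraMap R R') f) ^ n
        rw [hx', hrs, map_neg, map_mul, awayMap_algebraMap, sub_neg_eq_add, add_mul, map_add,
          map_mul, map_pow]
        have e : Localization.awayMap (algebraMap R R') f ((u⁻¹ : (Localization.Away f)ˣ) : Localization.Away f) *
            algebraMap R' (Localization.Away ((algebraMap R R') f)) ((algebraMap R R') f) ^ n = 1 := by
          have e' : algebraMap R' (Localization.Away ((algebraMap R R') f)) ((algebraMap R R') f) ^ n =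
              Localization.awayMap (algebraMap R R') f (u : Localization.Away f) := by
            rw [hu', map_pow, awayMap_algebraMap]
          rw [e', ← map_mul, Units.inv_mul, map_one]
        rw [mul_assoc, e]
        ring

end Groth.Agent.S2004
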