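import Groth.Statements.S0316
import Groth.Agent.S0313
import Groth.Agent.S11681
import Mathlib

set_option autoImplicit false
universe u v
open Matlis

namespace Groth.Agent.S0316

open IsLocalRing

section Helpers

variable {R : Type u} [CommRing R] [IsLocalRing R] [IsNoetherianRing R]
  [IsAdicComplete (maximalIdeal R) R]
  {E : Type u} [AddCommGroup E] [Module R E]

/-- Matlis: over a complete local ring every endomorphism of `E(k)` is a homothety. -/
lemma exists_smul_eq_of_complete {f : ResidueField R →ₗ[R] E} (hf : InjHull.IsInjectiveHull f)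
    (ψ : Module.End R E) : ∃ r : R, ∀ e : E, ψ e = r • e := by
  obtain ⟨r, hr⟩ := (AdicCompletion.of_bijective (maximalIdeal R) R).2 (Groth.Agent.S0313.Ψ hf ψ)
  refine ⟨r, fun e => ?_⟩
  have h1 : Groth.Agent.S0313.Ψ hf (algebraMap R (Module.End R E) r) = Groth.Agent.S0313.Ψ hf ψ := by
    rw [AlgHom.commutes, AdicCompletion.algebraMap_apply]
    exact hr
  have h2 := (Groth.Agent.S0313.Ψ_bijective hf).1 h1
  rw [← h2, Module.algebraMap_end_apply]

/-- evaluation into the double dual is surjective for finite modules over a complete local ring -/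
lemma eval_surjective_of_finite {f : ResidueField R →ₗ[R] E} (hf : InjHull.IsInjectiveHull f)
    (M : Type u) [AddCommGroup M] [Module R M] [Module.Finite R M] :
    Function.Surjective (LinearMap.applyₗ : M →ₗ[R] (M →ₗ[R] E) →ₗ[R] E) := by
  intro θ
  haveI := hf.isInjective
  obtain ⟨n, s, hs⟩ := Module.Finite.exists_fin (R := R) (M := M)
  let ev : (M →ₗ[R] E) →ₗ[R] (Fin n → E) := LinearMap.pi (fun i => LinearMap.applyₗ (s i))
  have hev : Function.Injective ev := by
    rw [injective_iff_map_eq_zero]
    intro φ hφ
    apply LinearMap.ext_on_range hs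
    intro i
    have := congrFun hφ i
    simpa [ev] using this
  obtain ⟨θ', hθ'⟩ := Module.Injective.extension_property R E _ _ ev hev θ
  have hr : ∀ i : Fin n, ∃ r : R, ∀ e : E, θ' (Pi.single i e) = r • e := fun i =>
    exists_smul_eq_of_complete hf (θ' ∘ₗ LinearMap.single R (fun _ : Fin n => E) i)
  choose r hr using hr
  refine ⟨∑ i, r i • s i, ?_⟩
  ext φ
  rw [LinearMap.applyₗ_apply_apply, ← hθ', LinearMap.comp_apply, map_sum]
  have h1 : ev φ = ∑ i, Pi.single i (φ (s i)) := by
    ext j
    simp [ev, Finset.sum_apply, Pi.single_apply]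
  rw [h1, map_sum]
  apply Finset.sum_congr rfl
  intro i _
  rw [hr i, map_smul]

end Helpers

/-- Over a complete Noetherian local ring with E an injective hull of the residue field, the E-dual of a
finite module is Artinian and the evaluation map into the double E-dual is bijective. -/
theorem result (R : Type u) [CommRing R] [IsLocalRing R] [IsNoetherianRing R] [IsAdicComplete (IsLocalRing.maximalIdeal R) R] (E : Type u) [AddCommGroup E] [Module R E] (f : IsLocalRing.ResidueField R →ₗ[R] E) (hf : InjHull.IsInjectiveHull f) (M : Type u) [AddCommGroup M] [Module R M] [Module.Finite R M] : IsArtinian R (M →ₗ[R] E) ∧ Function.Bijective (LinearMap.applyₗ : M →ₗ[R] (M →ₗ[R] E) →ₗ[R] E) := by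
  obtain ⟨h1, h2⟩ := Groth.Agent.S11681.result R E f hf
  exact ⟨h2 M, (h1 M).1, eval_surjective_of_finite hf M⟩

end Groth.Agent.S0316
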