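import Groth.Statements.S18470


set_option autoImplicit false
universe u v
open OortTate

namespace Groth.Agent.S18470

/-- Let R be a commutative ring and A a commutative Hopf algebra over R which is finitely generated and
projective as an R-module (a finite locally free group scheme G = Spec A, not assumed commutative),
and let A^D = Hom_R(A, R) be the dual algebra with its Hopf structure (the Cartier dual when A is
cocommutative), whose counit is evaluation at 1. Then restriction of linear forms to the
augmentation ideal I = ker ε_A of A is a bijection from the augmentation ideal of A^D onto the dual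
module Hom_R(I, R): the dual of the augmentation ideal of G is the augmentation ideal of the dual.
The published statement is for a group scheme of order p over a Λ_p-algebra; the argument uses only
the splitting A = R·1 ⊕ ker ε. -/
theorem result
    (R : Type u) [CommRing R] (A : Type v) [CommRing A] [HopfAlgebra R A]
    [Module.Finite R A] [Module.Projective R A] :
    Function.Bijective (fun f : LinearMap.ker (Bialgebra.counitAlgHom R (CartDual.D R A)).toLinearMap =>
      ((CartDual.toDual R A) (f : CartDual.D R A)).comp
        (LinearMap.ker (Bialgebra.counitAlgHom R A).toLinearMap).subtype) := by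
  have hsub : ∀ a : A, a - algebraMap R A (Bialgebra.counitAlgHom R A a) ∈
      LinearMap.ker (Bialgebra.counitAlgHom R A).toLinearMap := by
    intro a
    rw [LinearMap.mem_ker]
    change Bialgebra.counitAlgHom R A (a - algebraMap R A (Bialgebra.counitAlgHom R A a)) = 0
    rw [map_sub, AlgHom.commutes]; exact sub_self _
  have hf1 : ∀ f : LinearMap.ker (Bialgebra.counitAlgHom R (CartDual.D R A)).toLinearMap,
      (f : CartDual.D R A) 1 = 0 := by
    intro f
    have := f.2
    rw [LinearMap.mem_ker] at this
    exact this
  constructor
  · intro f g h
    apply Subtype.ext
    apply WithConv.ofConv_injective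
    apply LinearMap.ext
    intro a
    have h1 := LinearMap.congr_fun h ⟨_, hsub a⟩
    simp only [LinearMap.comp_apply, Submodule.subtype_apply, CartDual.toDual_apply] at h1
    rw [map_sub, map_sub, Algebra.algebraMap_eq_smul_one, map_smul, map_smul] at h1
    have e1 : (f : CartDual.D R A).ofConv 1 = 0 := hf1 f
    have e2 : (g : CartDual.D R A).ofConv 1 = 0 := hf1 g
    rw [e1, e2, smul_zero, sub_zero, sub_zero] at h1
    exact h1
  · intro g
    let f0 : A →ₗ[R] R :=
      { toFun := fun a => g ⟨_, hsub a⟩
        map_add' := fun a b => by
          rw [← map_add]; congr 1; apply Subtype.ext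
          simp only [map_add, Submodule.coe_add]; ring
        map_smul' := fun c a => by
          rw [RingHom.id_apply, ← map_smul]; congr 1; apply Subtype.ext
          simp only [map_smul, Submodule.coe_smul, smul_sub, Algebra.algebraMap_eq_smul_one, smul_smul,
            smul_eq_mul] }
    have hf0 : f0 1 = 0 := by
      change g ⟨_, hsub 1⟩ = 0
      have : (⟨_, hsub 1⟩ : LinearMap.ker (Bialgebra.counitAlgHom R A).toLinearMap) = 0 := by
        apply Subtype.ext; simp
      rw [this, map_zero]
    refine ⟨⟨WithConv.toConv f0, ?_⟩, ?_⟩
    · rw [LinearMap.mem_ker]; exact hf0
    · apply LinearMap.ext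
      intro z
      simp only [LinearMap.comp_apply, Submodule.subtype_apply, CartDual.toDual_apply]
      change g ⟨_, hsub z⟩ = g z
      congr 1
      apply Subtype.ext
      have := z.2
      rw [LinearMap.mem_ker] at this
      change Bialgebra.counitAlgHom R A (z : A) = 0 at this
      simp [this]

end Groth.Agent.S18470
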