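import Groth.Statements.S3433
import Mathlib
import Groth.Agent.Lib.Helper10PunctJac
-- import your own Groth.Agent.* helpers here

set_option autoImplicit false
universe u
open EGA43

namespace Groth.Agent.S3433

/-- Let A be a Noetherian local ring with maximal ideal m and let Y be the punctured spectrum Spec A ∖
{m}. Then Y is a Jacobson space, and a point p of Y is closed in Y if and only if dim A/p = 1. -/
theorem result (A : Type u) [CommRing A] [IsNoetherianRing A] [IsLocalRing A] :
    JacobsonSpace ↥({IsLocalRing.closedPoint A}ᶜ : Set (PrimeSpectrum A)) ∧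
      ∀ p : ↥({IsLocalRing.closedPoint A}ᶜ : Set (PrimeSpectrum A)),
        IsClosed ({p} : Set ↥({IsLocalRing.closedPoint A}ᶜ : Set (PrimeSpectrum A))) ↔
          ringKrullDim (A ⧸ p.1.asIdeal) = 1 := by
  classical
  have hYopen : IsOpen ({IsLocalRing.closedPoint A}ᶜ : Set (PrimeSpectrum A)) := by
    rw [isOpen_compl_iff, PrimeSpectrum.isClosed_singleton_iff_isMaximal]
    exact IsLocalRing.maximalIdeal.isMaximal A
  have hmem : ∀ q : PrimeSpectrum A, q ∈ ({IsLocalRing.closedPoint A}ᶜ : Set (PrimeSpectrum A)) ↔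
      q.asIdeal ≠ IsLocalRing.maximalIdeal A := by
    intro q
    rw [Set.mem_compl_iff, Set.mem_singleton_iff, not_iff_not]
    constructor
    · intro h; rw [h]; rfl
    · intro h; exact PrimeSpectrum.ext h
  constructor
  · rw [jacobsonSpace_iff_locallyClosed]
    rintro Z ⟨z0, hz0⟩ ⟨U, C, hU, hC, hZ⟩
    obtain ⟨U₀, hU₀, rfl⟩ := isOpen_induced_iff.mp hU
    obtain ⟨C₀, hC₀, rfl⟩ := isClosed_induced_iff.mp hC
    rw [hZ] at hz0
    have hz0U : z0.1 ∈ U₀ := hz0.1
    have hz0C : z0.1 ∈ C₀ := hz0.2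
    obtain ⟨v, ⟨g, rfl⟩, hz0v, hvU⟩ :=
      PrimeSpectrum.isTopologicalBasis_basic_opens.exists_subset_of_mem_open
        (show z0.1 ∈ U₀ ∩ ({IsLocalRing.closedPoint A}ᶜ : Set (PrimeSpectrum A)) from ⟨hz0U, z0.2⟩)
        (hU₀.inter hYopen)
    have hg0 : g ∉ z0.1.asIdeal := by simpa using hz0v
    let T : Set (Ideal A) := {p | p.IsPrime ∧ z0.1.asIdeal ≤ p ∧ g ∉ p}
    have hT : T.Nonempty := ⟨z0.1.asIdeal, z0.1.isPrime, le_rfl, hg0⟩
    obtain ⟨p, ⟨hpprime, hz0p, hgp⟩, hpmax⟩ :=
      (wellFounded_gt : WellFounded ((· > ·) : Ideal A → Ideal A → Prop)).has_min T hT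
    have hpv : (⟨p, hpprime⟩ : PrimeSpectrum A) ∈
        U₀ ∩ ({IsLocalRing.closedPoint A}ᶜ : Set (PrimeSpectrum A)) := hvU (by simpa using hgp)
    have hpC : (⟨p, hpprime⟩ : PrimeSpectrum A) ∈ C₀ := by
      have hsp : z0.1 ⤳ (⟨p, hpprime⟩ : PrimeSpectrum A) := by
        rw [← PrimeSpectrum.le_iff_specializes]; exact hz0p
      have : closure {z0.1} ⊆ C₀ := hC₀.closure_subset_iff.mpr (Set.singleton_subset_iff.mpr hz0C)
      exact this (specializes_iff_mem_closure.mp hsp)
    refine ⟨⟨⟨p, hpprime⟩, hpv.2⟩, ?_, ?_⟩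
    · rw [hZ]; exact ⟨hpv.1, hpC⟩
    · rw [mem_closedPoints_iff, Groth.Agent.Lib.Helper10.PunctJac.isClosed_singleton_subtype_iff]
      intro q hqY hpq
      by_contra hne
      have hle : p ≤ q.asIdeal := (PrimeSpectrum.le_iff_specializes ⟨p, hpprime⟩ q).mpr hpq
      have hlt : p < q.asIdeal := lt_of_le_of_ne hle (fun heq => hne (PrimeSpectrum.ext heq.symm))
      have hmaxq : q.asIdeal.IsMaximal := by
        haveI := hpprime
        refine Groth.Agent.Lib.Helper10.PunctJac.isMaximal_of_lt_of_forall_eq hgp ?_ q.asIdeal hlt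
        intro q' hq' hpq' hgq'
        by_contra hne'
        exact hpmax q' ⟨hq', hz0p.trans hpq', hgq'⟩ (lt_of_le_of_ne hpq' (Ne.symm hne'))
      exact (hmem q).mp hqY (IsLocalRing.eq_maximalIdeal hmaxq)
  · intro p
    haveI := p.1.isPrime
    have hpm : p.1.asIdeal ≠ IsLocalRing.maximalIdeal A := (hmem p.1).mp p.2
    have hplt : p.1.asIdeal < IsLocalRing.maximalIdeal A :=
      lt_of_le_of_ne (IsLocalRing.le_maximalIdeal p.1.isPrime.ne_top) hpm
    rw [Groth.Agent.Lib.Helper10.PunctJac.isClosed_singleton_subtype_iff]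
    constructor
    · intro h
      apply le_antisymm
      · apply Groth.Agent.Lib.Helper10.PunctJac.ringKrullDim_quotient_le_one
        intro q q' hq hq' hpq hqq'
        have hqm : q ≠ IsLocalRing.maximalIdeal A := by
          intro heq
          have : q' ≤ IsLocalRing.maximalIdeal A := IsLocalRing.le_maximalIdeal hq'.ne_top
          exact (not_le_of_gt hqq') (heq ▸ this)
        have hsp : p.1 ⤳ (⟨q, hq⟩ : PrimeSpectrum A) := by
          rw [← PrimeSpectrum.le_iff_specializes]; exact hpq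
        have := h ⟨q, hq⟩ ((hmem _).mpr hqm) hsp
        exact congrArg PrimeSpectrum.asIdeal this
      · exact Groth.Agent.Lib.Helper10.PunctJac.one_le_ringKrullDim_quotient hplt
    · intro hdim q hqY hpq
      by_contra hne
      have hle : p.1.asIdeal ≤ q.asIdeal := (PrimeSpectrum.le_iff_specializes p.1 q).mpr hpq
      have hlt : p.1.asIdeal < q.asIdeal :=
        lt_of_le_of_ne hle (fun heq => hne (PrimeSpectrum.ext heq.symm))
      have hqm : q.asIdeal < IsLocalRing.maximalIdeal A :=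
        lt_of_le_of_ne (IsLocalRing.le_maximalIdeal q.isPrime.ne_top) ((hmem q).mp hqY)
      haveI := q.isPrime
      have h2 := Groth.Agent.Lib.Helper10.PunctJac.two_le_ringKrullDim_quotient hlt hqm
      rw [hdim] at h2
      exact absurd h2 (by decide)

end Groth.Agent.S3433
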