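import Groth.Statements.S12780
import Mathlib
import Groth.Agent.Lib.Helper15RepComp
import Groth.Agent.S9948
import Groth.Agent.S9906
-- import your own Groth.Agent.* helpers here

set_option autoImplicit false
open CategoryTheory AlgebraicGeometry
universe u
open AlgSt

namespace Groth.Agent.S12780.Aux

set_option autoImplicit false
set_option backward.isDefEq.respectTransparency false
set_option backward.isDefEq.respectTransparency.types false
open CategoryTheory CategoryTheory.Functor CategoryTheory.Limits Opposite AlgebraicGeometry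


open Groth.Agent.Lib.Helper15RepComp

variable {S : Scheme.{u}}

theorem isFppfCover_atlas {G : AlgSp.Sp S} (hG : AlgSp.IsAlgSpace G) {V : Over S}
    (p : (AlgSp.yon S).obj V ⟶ G) (hpe : AlgSp.RepWith @Etale p)
    (hps : AlgSp.RepWith @Surjective p) :
    AlgSp.IsFppfCover (fun _ : PUnit.{u + 1} => (AlgSp.yon S).obj V) (fun _ => p) := by
  let X : AlgSp.Space S := ⟨(AlgSp.yon S).obj V, AlgSp.IsAlgSpace.yon_obj V⟩
  let Y : AlgSp.Space S := ⟨G, hG⟩
  let f : X ⟶ Y := ObjectProperty.homMk p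
  have hrep : AlgSp.Representable f.hom := hG.representable_from_yon p
  have hle1 : MorphismProperty.inverseImage (@Etale) (Over.forget S) ≤
      MorphismProperty.inverseImage (@Flat) (Over.forget S) :=
    fun X Y g hg => by
      have : Etale g.left := hg
      exact (inferInstance : Flat g.left)
  have hle2 : MorphismProperty.inverseImage (@Etale) (Over.forget S) ≤
      MorphismProperty.inverseImage (@LocallyOfFinitePresentation) (Over.forget S) :=
    fun X Y g hg => by
      have : Etale g.left := hg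
      exact (inferInstance : LocallyOfFinitePresentation g.left)
  have hflat : AlgSp.RepWith @Flat p := MorphismProperty.relative_monotone hle1 _ hpe
  have hlfp : AlgSp.RepWith @LocallyOfFinitePresentation p :=
    MorphismProperty.relative_monotone hle2 _ hpe
  refine ⟨fun _ => ⟨?_, ?_⟩, fun x => ?_⟩
  · exact (Groth.Agent.S9948.result @Flat (Or.inr (Or.inr (Or.inl rfl))) f hrep).2 hflat
  · exact (Groth.Agent.S9948.result @LocallyOfFinitePresentation (Or.inr (Or.inl rfl)) f hrep).2 hlfp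
  · have hs : AlgSp.IsSurjectiveMor f.hom := (Groth.Agent.S9906.result f hrep).1 hps
    obtain ⟨x', hx'⟩ := hs x
    exact ⟨PUnit.unit, x', hx'⟩

theorem compCond_of_local (P : MorphismProperty (AlgSp.Sp S))
    (hPc : ∀ ⦃X Y Z : AlgSp.Sp S⦄, AlgSp.IsAlgSpace X → AlgSp.IsAlgSpace Y → AlgSp.IsAlgSpace Z →
      ∀ (a : X ⟶ Y) (b : Y ⟶ Z), P a → P b → P (a ≫ b))
    (hP : AlgSp.IsLocalOnBase AlgSp.IsFppfCover P) : CompCond P := by
  intro H G U a b hH hG hb hpb
  refine hPc hH hG (AlgSp.IsAlgSpace.yon_obj U) a b ?_ hb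
  obtain ⟨V, p, hpe, hps⟩ := hG.atlas
  obtain ⟨F_V, fst, snd, hF, sq, hsnd⟩ := hpb V p
  exact (hP (fun _ : PUnit.{u + 1} => (AlgSp.yon S).obj V) (fun _ => p) hG
    (fun _ => AlgSp.IsAlgSpace.yon_obj V) (isFppfCover_atlas hG p hpe hps) a hH (fun _ => F_V)
    (fun _ => snd) (fun _ => fst) (fun _ => hF) (fun _ => sq)).2 (fun _ => hsnd)

end Groth.Agent.S12780.Aux

namespace Groth.Agent.S12780

/-- Let `𝒳`, `𝒴`, `𝒵` be fibred in groupoids over `(Sch/S)` and `P` a property of morphisms of algebraic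
spaces which is stable under base change, fppf local on the base and stable under composition. If `f
: 𝒳 ⟶ 𝒴` and `g : 𝒴 ⟶ 𝒵` are representable by algebraic spaces and have `P`, then so does `g ∘ f`.
(Stability under base change is asked for every pullback square of fppf sheaves whose four corners
are algebraic spaces, and stability under composition for composable morphisms between algebraic
spaces.) -/
theorem result {S : Scheme.{u}} {𝒳 𝒴 𝒵 : AlgSt.Cat S}
    (h𝒳 : FibCat.IsFibGrpd 𝒳.p) (h𝒴 : FibCat.IsFibGrpd 𝒴.p) (h𝒵 : FibCat.IsFibGrpd 𝒵.p)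
    (P : MorphismProperty (AlgSp.Sp S))
    (hPb : ∀ ⦃X₁ Y₁ X₂ Y₂ : AlgSp.Sp S⦄, AlgSp.IsAlgSpace X₁ → AlgSp.IsAlgSpace Y₁ → AlgSp.IsAlgSpace X₂ →
      AlgSp.IsAlgSpace Y₂ → ∀ (a : X₁ ⟶ Y₁) (b : Y₂ ⟶ Y₁) (a' : X₂ ⟶ Y₂) (b' : X₂ ⟶ X₁),
      IsPullback b' a' a b → P a → P a')
    (hPc : ∀ ⦃X Y Z : AlgSp.Sp S⦄, AlgSp.IsAlgSpace X → AlgSp.IsAlgSpace Y → AlgSp.IsAlgSpace Z →
      ∀ (a : X ⟶ Y) (b : Y ⟶ Z), P a → P b → P (a ≫ b))
    (hP : AlgSp.IsLocalOnBase AlgSp.IsFppfCover P)
    (f : 𝒳 ⥤ᵇ 𝒴) (g : 𝒴 ⥤ᵇ 𝒵) (hf : AlgSt.RepByAlgSpWith P f) (hg : AlgSt.RepByAlgSpWith P g) :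
    AlgSt.RepByAlgSpWith P (BasedFunctor.comp f g) := by
  exact Groth.Agent.Lib.Helper15RepComp.repByAlgSpWith_comp_of_compCond h𝒳 h𝒴 P (Aux.compCond_of_local P hPc hP) f g hf hg

end Groth.Agent.S12780
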