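import Groth.Statements.S9952
import Mathlib
import Groth.Agent.S10262

set_option autoImplicit false
universe u
open CategoryTheory CategoryTheory.Limits AlgebraicGeometry
open AlgSp

namespace Groth.Agent.S9952


open CategoryTheory.Limits Opposite MorphismProperty

variable {S : Scheme.{u}}

/-- cancellation for `LocP`: if `P` has the cancellation property `P (u ≫ k) → P u` on schemes
and descends along fppf covers, then `LocP P (f ≫ g) → LocP P f`. -/
lemma locP_of_comp (P : MorphismProperty Scheme.{u})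
    (hcancel : ∀ {A B C : Scheme.{u}} (u : A ⟶ B) (k : B ⟶ C), P (u ≫ k) → P u)
    [P.DescendsAlong (@Surjective ⊓ @Flat ⊓ @LocallyOfFinitePresentation)]
    {X Y Z : AlgSp.Sp S} (hZ : AlgSp.IsAlgSpace Z) (f : X ⟶ Y) (g : Y ⟶ Z)
    (h : AlgSp.LocP P (f ≫ g)) : AlgSp.LocP P f := by
  intro U V a b hh ha hb hcomm
  obtain ⟨W, c, hc, hcs⟩ := hZ.atlas
  obtain ⟨V', π, k', sqV'⟩ := hc.1 (b ≫ g)
  obtain ⟨k, rfl⟩ := (AlgSp.yon S).map_surjective k'
  haveI : Etale π.left := hc.2 _ _ π sqV'
  haveI : Surjective π.left := hcs.2 _ _ π sqV'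
  have hsq : IsPullback (pullback.fst hh π).left (pullback.snd hh π).left hh.left π.left :=
    (IsPullback.of_hasPullback hh π).map (Over.forget S)
  haveI : Etale (pullback.fst hh π).left :=
    MorphismProperty.of_isPullback (P := @Etale) hsq.flip inferInstance
  have hchart : ((AlgSp.yon S).map (pullback.fst hh π) ≫ a) ≫ (f ≫ g) =
      (AlgSp.yon S).map (pullback.snd hh π ≫ k) ≫ c := by
    have e2 : (AlgSp.yon S).map (pullback.fst hh π) ≫ (AlgSp.yon S).map hh =
        (AlgSp.yon S).map (pullback.snd hh π) ≫ (AlgSp.yon S).map π := by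
      rw [← Functor.map_comp, ← Functor.map_comp, pullback.condition]
    rw [Functor.map_comp]
    simp only [Category.assoc]
    rw [reassoc_of% hcomm, reassoc_of% e2, sqV'.w]
  have hP := h ((AlgSp.yon S).map (pullback.fst hh π) ≫ a) c (pullback.snd hh π ≫ k)
    ((AlgSp.RepWith @Etale).comp_mem _ _ ((AlgSp.repWith_yon_map_iff _ _).2 inferInstance) ha)
    hc hchart
  rw [Over.comp_left] at hP
  have h1 : P (pullback.snd hh π).left := hcancel _ _ hP
  have hπQ : (@Surjective ⊓ @Flat ⊓ @LocallyOfFinitePresentation : MorphismProperty Scheme.{u})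
      π.left := ⟨⟨inferInstance, inferInstance⟩, inferInstance⟩
  exact MorphismProperty.of_isPullback_of_descendsAlong (P := P)
      (Q := @Surjective ⊓ @Flat ⊓ @LocallyOfFinitePresentation) hsq.flip hπQ h1



/-- If g ∘ f is locally of finite type then f is locally of finite type. -/
theorem result {S : Scheme.{u}} {X Y Z : AlgSp.Space S} (f : X ⟶ Y) (g : Y ⟶ Z)
    (h : AlgSp.LocP @LocallyOfFiniteType (f ≫ g).hom) : AlgSp.LocP @LocallyOfFiniteType f.hom := by
  refine locP_of_comp @LocallyOfFiniteType (fun u k huk => ?_) Z.property f.hom g.hom h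
  haveI : LocallyOfFiniteType (u ≫ k) := huk
  exact locallyOfFiniteType_of_comp u k

end Groth.Agent.S9952
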