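import Groth.Statements.S12766
import Mathlib
import Groth.Agent.Lib.Helper15RepComp

set_option autoImplicit false
open CategoryTheory AlgebraicGeometry
universe u
open AlgSt

namespace Groth.Agent.S12766

/-- Let `𝒳`, `𝒴`, `𝒵` be fibred in groupoids over `(Sch/S)`, `f : 𝒳 ⟶ 𝒴` representable by algebraic
spaces, `g : 𝒵 ⟶ 𝒴` a 1-morphism and `𝒵` representable by an algebraic space. Then the 2-fibre
product `𝒵 ×_𝒴 𝒳` is representable by an algebraic space. -/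
theorem result {S : Scheme.{u}} {𝒳 𝒴 𝒵 : AlgSt.Cat S}
    (h𝒳 : FibCat.IsFibGrpd 𝒳.p) (h𝒴 : FibCat.IsFibGrpd 𝒴.p) (h𝒵 : FibCat.IsFibGrpd 𝒵.p)
    (f : 𝒳 ⥤ᵇ 𝒴) (g : 𝒵 ⥤ᵇ 𝒴) (hf : AlgSt.RepByAlgSp1 f) (hZ : AlgSt.RepByAlgSp 𝒵) :
    AlgSt.RepByAlgSp (FibCat.fp g f) := by
  open Groth.Agent.Lib.Helper17 in
  obtain ⟨F, e, he⟩ := hZ
  have hf' : AlgSt.RepByAlgSpWith (⊤ : MorphismProperty (AlgSp.Sp S)) f := fun U y => by
    obtain ⟨F', e', he'⟩ := hf U y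
    exact ⟨F', e', he', trivial⟩
  obtain ⟨H, E, hE, -⟩ := Groth.Agent.Lib.Helper15RepComp.exists_space_of_fp h𝒳 h𝒴 _ f hf'
    F.obj F.property (BasedFunctor.comp e g)
  have := IsEquivOver.isEquivalence (BasedFunctor.id 𝒴) (isEquivOver_id 𝒴)
  have hM := isEquivOver_fpMap g f (BasedFunctor.comp e g) f e (BasedFunctor.id 𝒳)
    (BasedFunctor.id 𝒴) (Iso.refl _) (Iso.refl _) he (isEquivOver_id 𝒳)
  exact ⟨H, BasedFunctor.comp E _, IsEquivOver.comp E _ hE hM⟩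

end Groth.Agent.S12766
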