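import Groth.Statements.S10263
import Mathlib
import Groth.Agent.S10262

set_option autoImplicit false
universe u
open CategoryTheory CategoryTheory.Limits AlgebraicGeometry
open AlgSp

namespace Groth.Agent.S10263


open CategoryTheory.Limits Opposite MorphismProperty Groth.Agent.S13210 Groth.Agent.S9900

variable {S : Scheme.{u}}



/-- If the composite X -> Y -> Z is unramified then X -> Y is unramified. -/
theorem result {S : Scheme.{u}} {X Y Z : AlgSp.Space S} (f : X ⟶ Y) (g : Y ⟶ Z)
    (h : AlgSp.LocP (@LocallyOfFiniteType ⊓ @FormallyUnramified) (f ≫ g).hom) :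
    AlgSp.LocP (@LocallyOfFiniteType ⊓ @FormallyUnramified) f.hom := by
  intro U V a b hh ha hb hcomm
  obtain ⟨W, c, hc, hcs⟩ := Z.property.atlas
  obtain ⟨V', π, k', sqV'⟩ := hc.1 (b ≫ g.hom)
  obtain ⟨k, rfl⟩ := (AlgSp.yon S).map_surjective k'
  haveI : Etale π.left := hc.2 _ _ π sqV'
  haveI : Surjective π.left := hcs.2 _ _ π sqV'
  have hsq : IsPullback (pullback.fst hh π).left (pullback.snd hh π).left hh.left π.left :=
    (IsPullback.of_hasPullback hh π).map (Over.forget S)
  haveI : Etale (pullback.fst hh π).left :=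
    MorphismProperty.of_isPullback (P := @Etale) hsq.flip inferInstance
  have hchart : ((AlgSp.yon S).map (pullback.fst hh π) ≫ a) ≫ (f ≫ g).hom =
      (AlgSp.yon S).map (pullback.snd hh π ≫ k) ≫ c := by
    have e1 : (f ≫ g).hom = f.hom ≫ g.hom := rfl
    have e2 : (AlgSp.yon S).map (pullback.fst hh π) ≫ (AlgSp.yon S).map hh =
        (AlgSp.yon S).map (pullback.snd hh π) ≫ (AlgSp.yon S).map π := by
      rw [← Functor.map_comp, ← Functor.map_comp, pullback.condition]
    rw [e1, Functor.map_comp]
    simp only [Category.assoc]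
    rw [reassoc_of% hcomm, reassoc_of% e2, sqV'.w]
  have hP := h ((AlgSp.yon S).map (pullback.fst hh π) ≫ a) c (pullback.snd hh π ≫ k)
    ((AlgSp.RepWith @Etale).comp_mem _ _ ((AlgSp.repWith_yon_map_iff _ _).2 inferInstance) ha)
    hc hchart
  rw [Over.comp_left] at hP
  haveI : LocallyOfFiniteType ((pullback.snd hh π).left ≫ k.left) := hP.1
  haveI : FormallyUnramified ((pullback.snd hh π).left ≫ k.left) := hP.2
  have h1 : LocallyOfFiniteType (pullback.snd hh π).left :=
    locallyOfFiniteType_of_comp (pullback.snd hh π).left k.left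
  have h2 : FormallyUnramified (pullback.snd hh π).left :=
    FormallyUnramified.of_comp (pullback.snd hh π).left k.left
  have hπQ : (@Surjective ⊓ @Flat ⊓ @LocallyOfFinitePresentation : MorphismProperty Scheme.{u})
      π.left := ⟨⟨inferInstance, inferInstance⟩, inferInstance⟩
  exact ⟨MorphismProperty.of_isPullback_of_descendsAlong (P := @LocallyOfFiniteType)
      (Q := @Surjective ⊓ @Flat ⊓ @LocallyOfFinitePresentation) hsq.flip hπQ h1,
    MorphismProperty.of_isPullback_of_descendsAlong (P := @FormallyUnramified)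
      (Q := @Surjective ⊓ @Flat ⊓ @LocallyOfFinitePresentation) hsq.flip hπQ h2⟩

end Groth.Agent.S10263
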