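import Groth.Statements.S9956
import Mathlib
import Groth.Agent.S9952
import Groth.Agent.Lib.Helper12QuasiFiniteDescent

set_option autoImplicit false
universe u
open CategoryTheory CategoryTheory.Limits AlgebraicGeometry
open AlgSp

namespace Groth.Agent.S9956


open CategoryTheory.Limits Opposite MorphismProperty

variable {S : Scheme.{u}}



/-- For morphisms X -> Y -> Z of algebraic spaces, local quasi-finiteness of the composite implies that
of the first map (locally quasi-finite includes locally of finite type, etale locally on source and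
target). -/
theorem result {S : Scheme.{u}} {X Y Z : AlgSp.Space S} (f : X ⟶ Y) (g : Y ⟶ Z)
    (h : AlgSp.LocP ((@LocallyQuasiFinite : MorphismProperty Scheme.{u}) ⊓ @LocallyOfFiniteType) (f ≫ g).hom) :
    AlgSp.LocP ((@LocallyQuasiFinite : MorphismProperty Scheme.{u}) ⊓ @LocallyOfFiniteType) f.hom := by
  haveI := Groth.Agent.Lib.Helper12.descendsAlong_locallyQuasiFinite_inf_locallyOfFiniteType.{u}
  refine Groth.Agent.S9952.locP_of_comp
    ((@LocallyQuasiFinite : MorphismProperty Scheme.{u}) ⊓ @LocallyOfFiniteType)
    (fun u k huk => ?_) Z.property f.hom g.hom h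
  haveI : LocallyQuasiFinite (u ≫ k) := huk.1
  haveI : LocallyOfFiniteType (u ≫ k) := huk.2
  exact ⟨LocallyQuasiFinite.of_comp u k, locallyOfFiniteType_of_comp u k⟩

end Groth.Agent.S9956
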