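import Groth.Statements.S10548
import Mathlib
import Groth.Agent.S10580
import Groth.Agent.Lib.Helper12Flat

set_option autoImplicit false
universe u
open CategoryTheory CategoryTheory.Limits AlgebraicGeometry
open AlgSp

namespace Groth.Agent.S10548


open MorphismProperty

/-- flatness of morphisms of schemes is fpqc local on the source. -/
instance flat_isLocalAtSource_fpqc :
    MorphismProperty.IsLocalAtSource (@Flat : MorphismProperty Scheme.{u}) Scheme.fpqcPrecoverage where
  comp := fun {X Y f R} hR {U} g hg hf => by
    haveI : Flat g := hR.2.2 hg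
    haveI : Flat f := hf
    exact (inferInstance : Flat (g ≫ f))
  of_forall_comp := fun {X Y f R} hR h => by
    rw [Flat.iff_flat_stalkMap]
    intro y
    obtain ⟨W, e, he, x, hx⟩ :=
      (Presieve.mem_comap_jointlySurjectivePrecoverage_iff Scheme.forget).1 hR.2.1 y
    have hey : e x = y := hx
    subst hey
    haveI : Flat e := hR.2.2 he
    haveI : Flat (e ≫ f) := h he
    have h2 : (e.stalkMap x).hom.Flat := Flat.stalkMap e x
    set φ := (f.stalkMap (e x)).hom with hφ
    set ψ := (e.stalkMap x).hom with hψ
    have h1 : (ψ.comp φ).Flat := by
      have := Flat.stalkMap (e ≫ f) x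
      rw [Scheme.Hom.stalkMap_comp] at this
      exact this
    have hloc : IsLocalHom ψ := inferInstance
    algebraize [φ, ψ, ψ.comp φ]
    have : IsLocalHom (algebraMap (X.presheaf.stalk (e x)) (W.presheaf.stalk x)) := hloc
    have : Module.FaithfullyFlat (X.presheaf.stalk (e x)) (W.presheaf.stalk x) :=
      Module.FaithfullyFlat.of_flat_of_isLocalHom
    exact Groth.Agent.Lib.Helper12.flat_of_faithfullyFlat_of_flat_comp _
      (X.presheaf.stalk (e x)) (W.presheaf.stalk x)



/-- The property of morphisms of algebraic spaces over S given by f is flat (on etale charts) is fpqc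
local on the source: for a morphism f : X ⟶ Y of algebraic spaces and a fpqc covering of X by
algebraic spaces X_i, f has the property if and only if every composite X_i ⟶ X ⟶ Y has it. -/
theorem result (S : Scheme.{u}) :
    AlgSp.IsLocalOnSource (AlgSp.IsFpqcCover (S := S)) (AlgSp.LocP @Flat) := by
  exact Groth.Agent.S10580.isLocalOnSource_fpqc @Flat

end Groth.Agent.S10548
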