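import Groth.Statements.S10567
import Mathlib
import Groth.Agent.Lib.Helper12SmoothST
import Groth.Agent.S10177

set_option autoImplicit false
universe u
open CategoryTheory CategoryTheory.Limits AlgebraicGeometry
open AlgSp

namespace Groth.Agent.S10567


open Groth.Agent.Lib.Helper12.SmoothST in
/-- the two-member family `{𝟙 Y, f}` is a smooth covering when `f` is smooth. -/
lemma isSmCover_option {S : Scheme.{u}} {X Y : AlgSp.Sp S} (f : X ⟶ Y) (hf : AlgSp.LocP @Smooth f) :
    AlgSp.IsSmCover (S := S) (ι := Option PUnit.{u + 1}) (X := Y)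
      (fun i => Option.rec (motive := fun _ => AlgSp.Sp S) Y (fun _ => X) i)
      (fun i => Option.rec (motive := fun i =>
        (Option.rec (motive := fun _ => AlgSp.Sp S) Y (fun _ => X) i : AlgSp.Sp S) ⟶ Y)
        (𝟙 Y) (fun _ => f) i) := by
  refine ⟨fun i => ?_, fun y => ⟨none, y, ?_⟩⟩
  · cases i with
    | none => exact locP_smooth_id Y
    | some _ => exact hf
  · show AlgSp.Points.map (𝟙 Y) y = y
    rw [AlgSp.Points.map_id]



/-- A property P of morphisms of algebraic spaces over S that is smooth local on the source, smooth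
local on the base, and stable under postcomposition with smooth morphisms (whenever g : Y ⟶ Z is
smooth and f : X ⟶ Y has P, the composite f ≫ g has P) is smooth local on source-and-target. -/
theorem result {S : Scheme.{u}} (P : MorphismProperty (AlgSp.Sp S))
    (h1 : AlgSp.IsLocalOnSource (AlgSp.IsSmCover (S := S)) P)
    (h2 : AlgSp.IsLocalOnBase (AlgSp.IsSmCover (S := S)) P)
    (h3 : ∀ ⦃X Y Z : AlgSp.Space S⦄ (f : X ⟶ Y) (g : Y ⟶ Z), P f.hom → AlgSp.LocP @Smooth g.hom → P (f ≫ g).hom) :
    AlgSp.IsSmoothLocalST P := by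
  refine ⟨?_, ?_, ?_⟩
  · intro X Y Z hX hY hZ f g hf hg
    have key := h1 (ι := Option PUnit.{u + 1}) (X := Y)
      (fun i => Option.rec (motive := fun _ => AlgSp.Sp S) Y (fun _ => X) i)
      (fun i => Option.rec (motive := fun i =>
        (Option.rec (motive := fun _ => AlgSp.Sp S) Y (fun _ => X) i : AlgSp.Sp S) ⟶ Y)
        (𝟙 Y) (fun _ => f) i) hY
      (fun i => by cases i with
        | none => exact hY
        | some _ => exact hX) (isSmCover_option f hf) g hZ
    exact key.1 hg (some PUnit.unit)
  · intro X Y X' Y' hX hY hX' hY' f g f' g' sq hg hf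
    have key := h2 (ι := Option PUnit.{u + 1}) (Y := Y)
      (fun i => Option.rec (motive := fun _ => AlgSp.Sp S) Y (fun _ => Y') i)
      (fun i => Option.rec (motive := fun i =>
        (Option.rec (motive := fun _ => AlgSp.Sp S) Y (fun _ => Y') i : AlgSp.Sp S) ⟶ Y)
        (𝟙 Y) (fun _ => g) i) hY
      (fun i => by cases i with
        | none => exact hY
        | some _ => exact hY') (isSmCover_option g hg) f hX
      (fun i => Option.rec (motive := fun _ => AlgSp.Sp S) X (fun _ => X') i)
      (fun i => Option.rec (motive := fun i =>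
        (Option.rec (motive := fun _ => AlgSp.Sp S) X (fun _ => X') i : AlgSp.Sp S) ⟶
        (Option.rec (motive := fun _ => AlgSp.Sp S) Y (fun _ => Y') i : AlgSp.Sp S))
        f (fun _ => f') i)
      (fun i => Option.rec (motive := fun i =>
        (Option.rec (motive := fun _ => AlgSp.Sp S) X (fun _ => X') i : AlgSp.Sp S) ⟶ X)
        (𝟙 X) (fun _ => g') i)
      (fun i => by cases i with
        | none => exact hX
        | some _ => exact hX')
      (fun i => by cases i with
        | none => exact IsPullback.of_horiz_isIso ⟨by simp⟩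
        | some _ => exact sq)
    exact key.1 hf (some PUnit.unit)
  · intro X Y hX hY f
    constructor
    · intro hf x
      exact ⟨X, Y, 𝟙 X, 𝟙 Y, f, x, hX, hY, Groth.Agent.Lib.Helper12.SmoothST.locP_smooth_id X,
        Groth.Agent.Lib.Helper12.SmoothST.locP_smooth_id Y, by simp,
        by rw [AlgSp.Points.map_id], hf⟩
    · intro H
      obtain ⟨W, w, hwe, hws⟩ := hX.atlas
      choose U V a b h v hU hV ha hb hcomm hv hPh using H
      have key := h1 (ι := ↥W.left) (X := X) (fun t => U (AlgSp.Points.ofPt w t))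
        (fun t => a (AlgSp.Points.ofPt w t)) hX (fun t => hU _)
        ⟨fun t => ha _, fun x => by
          obtain ⟨t, rfl⟩ := Groth.Agent.S10177.surjective_ofPt w hws x
          exact ⟨t, v _, hv _⟩⟩ f hY
      refine key.2 (fun t => ?_)
      rw [hcomm]
      exact h3 (X := ⟨U _, hU _⟩) (Y := ⟨V _, hV _⟩) (Z := ⟨Y, hY⟩) ⟨h _⟩ ⟨b _⟩ (hPh _) (hb _)

end Groth.Agent.S10567
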