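import Groth.Statements.S10280
import Mathlib
import Groth.Agent.Lib.Helper12Proper
import Groth.Agent.S9900
import Groth.Agent.S9922

set_option autoImplicit false
universe u
open CategoryTheory CategoryTheory.Limits AlgebraicGeometry
open AlgSp

namespace Groth.Agent.S10280


open Groth.Agent.Lib.Helper12.Proper

variable {S : Scheme.{u}}

lemma isSeparatedMor_of_isUnivClosedMor_diagonal {X Y : AlgSp.Space S} (f : X ⟶ Y)
    (h : AlgSp.IsUnivClosedMor (pullback.diagonal f.hom)) : AlgSp.IsSeparatedMor f.hom := by
  obtain ⟨hrep, hlft, hmono, hsep, -⟩ := Groth.Agent.S9900.result f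
  have huc := Groth.Agent.S9922.repWith_universallyClosed_of_isUnivClosedMor _ hrep h
  refine ⟨hrep, fun T W g pr w sq => ?_⟩
  haveI : LocallyOfFiniteType w.left := hlft.2 g pr w sq
  haveI : Mono w.left := hmono.2 g pr w sq
  haveI : IsSeparated w.left := hsep.2 g pr w sq
  haveI : UniversallyClosed w.left := huc.2 g pr w sq
  haveI : IsProper w.left := { }
  exact (IsClosedImmersion.iff_isProper_and_mono w.left).2 ⟨inferInstance, inferInstance⟩



/-- F is separated if and only if its diagonal is universally closed, if and only if its diagonal is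
proper. -/
theorem result {S : Scheme.{u}} {X Y : AlgSp.Space S} (f : X ⟶ Y) :
    (AlgSp.IsSeparatedMor f.hom ↔ AlgSp.IsUnivClosedMor (pullback.diagonal f.hom)) ∧
    (AlgSp.IsSeparatedMor f.hom ↔ AlgSp.IsProperMor (pullback.diagonal f.hom)) := by
  have hXX : AlgSp.IsAlgSpace (pullback f.hom f.hom) :=
    Groth.Agent.S9874.isAlgSpace_of_isPullback Y.property.diag X.property X.property
      (IsPullback.of_hasPullback _ _)
  refine ⟨⟨fun hsep => isUnivClosedMor_of_isClosedImmersion _ hsep,
    fun h => isSeparatedMor_of_isUnivClosedMor_diagonal f h⟩,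
    ⟨fun hsep => isProperMor_of_isClosedImmersion hXX _ hsep,
    fun h => isSeparatedMor_of_isUnivClosedMor_diagonal f h.2.2⟩⟩

end Groth.Agent.S10280
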