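import Groth.Statements.S9925
import Mathlib
import Groth.Agent.Lib.Helper12Proper
import Groth.Agent.S9874
import Groth.Agent.S9917
import Groth.Agent.S10174
import Groth.Agent.S10175
import Groth.Agent.S10176
import Groth.Agent.S10177

set_option autoImplicit false
universe u
open CategoryTheory CategoryTheory.Limits AlgebraicGeometry
open AlgSp

namespace Groth.Agent.S9925


open Groth.Agent.Lib.Helper12.Proper

variable {S : Scheme.{u}}

open MvPolynomial PrimeSpectrum TopologicalSpace in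
/-- an algebraic space universally closed over a field is quasi-compact. -/
lemma compactSpace_points_of_isUnivClosedMor_field {K : Type u} [Field K]
    (strK : Spec (.of K) ⟶ S) {F : AlgSp.Sp S} (hF : AlgSp.IsAlgSpace F)
    (s : F ⟶ (AlgSp.yon S).obj (Over.mk strK))
    (hs : AlgSp.IsUnivClosedMor s) : CompactSpace (AlgSp.Points F) := by
  classical
  obtain ⟨U, q, hqe, hqs⟩ := hF.atlas
  let 𝒰 : U.left.OpenCover := U.left.affineCover
  let Ui (i : 𝒰.I₀) : Over S := Over.mk (𝒰.f i ≫ U.hom)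
  let ji (i : 𝒰.I₀) : Ui i ⟶ U := Over.homMk (𝒰.f i) rfl
  let V (i : 𝒰.I₀) : Set (AlgSp.Points F) :=
    Set.range (AlgSp.Points.ofPt ((AlgSp.yon S).map (ji i) ≫ q))
  have hVo : ∀ i, IsOpen (V i) := fun i => by
    have hje : AlgSp.RepWith @Etale ((AlgSp.yon S).map (ji i)) :=
      (AlgSp.repWith_yon_map_iff _ _).2 (by show Etale (𝒰.f i); infer_instance)
    exact (Groth.Agent.S10176.isOpenMap_ofPt _
      ((AlgSp.RepWith @Etale).comp_mem _ _ hje hqe)).isOpen_range
  have hVc : ∀ i, IsCompact (V i) := fun i => by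
    haveI : CompactSpace ↥(Ui i).left := by show CompactSpace ↥(𝒰.X i); infer_instance
    exact isCompact_range (AlgSp.Points.continuous_ofPt _)
  have hVcov : ∀ x : AlgSp.Points F, ∃ i, x ∈ V i := fun x => by
    obtain ⟨u, rfl⟩ := Groth.Agent.S10177.surjective_ofPt q hqs x
    obtain ⟨v, hv⟩ := 𝒰.covers u
    refine ⟨𝒰.idx u, v, ?_⟩
    rw [Groth.Agent.S10176.ofPt_map_comp]
    exact congrArg (AlgSp.Points.ofPt q) hv
  let T : Scheme.{u} := Spec (.of (MvPolynomial 𝒰.I₀ K))
  let qT : T ⟶ Spec (.of K) := Spec.map (CommRingCat.ofHom MvPolynomial.C)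
  let ptT : Over S := Over.mk (qT ≫ strK)
  let qT' : ptT ⟶ Over.mk strK := Over.homMk qT rfl
  have sqT := IsPullback.of_hasPullback s ((AlgSp.yon S).map qT')
  have hfTc : IsClosedMap (AlgSp.Points.map (pullback.snd s ((AlgSp.yon S).map qT'))) :=
    hs (AlgSp.IsAlgSpace.yon_obj ptT) _ _ _ sqT
  let fT' : AlgSp.Points (pullback s ((AlgSp.yon S).map qT')) → T := fun z =>
    (AlgSp.Points.schemeHomeo ptT).symm
      (AlgSp.Points.map (pullback.snd s ((AlgSp.yon S).map qT')) z)
  have hfT'cont : Continuous fT' :=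
    (AlgSp.Points.schemeHomeo ptT).symm.continuous.comp (AlgSp.Points.continuous_map _)
  have hfT'closed : IsClosedMap fT' :=
    (AlgSp.Points.schemeHomeo ptT).symm.isClosedMap.comp hfTc
  let Ti (i : 𝒰.I₀) : T.Opens := basicOpen (MvPolynomial.X i)
  let Zs : Set (AlgSp.Points (pullback s ((AlgSp.yon S).map qT'))) :=
    (⋃ i, fT' ⁻¹' (Ti i : Set T) ∩
      AlgSp.Points.map (pullback.fst s ((AlgSp.yon S).map qT')) ⁻¹' V i)ᶜ
  have hZs : IsClosed Zs := by
    rw [isClosed_compl_iff]
    exact isOpen_iUnion fun i => ((Ti i).2.preimage hfT'cont).inter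
      ((hVo i).preimage (AlgSp.Points.continuous_map _))
  have hD : IsClosed (fT' '' Zs) := hfT'closed _ hZs
  let Zc : T.Opens := ⟨(fT' '' Zs)ᶜ, hD.isOpen_compl⟩
  let ψ : MvPolynomial 𝒰.I₀ K →ₐ[K] K := MvPolynomial.aeval (fun _ ↦ 1)
  let t : T := Spec.map (CommRingCat.ofHom ψ.toRingHom) default
  have ht (i : 𝒰.I₀) : t ∈ Ti i := show ψ (.X i) ≠ 0 by simp [ψ]
  have htZc : t ∈ Zc := by
    rintro ⟨z, hz, hzt⟩
    obtain ⟨i, hi⟩ := hVcov (AlgSp.Points.map (pullback.fst s ((AlgSp.yon S).map qT')) z)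
    exact hz (Set.mem_iUnion.2 ⟨i, by rw [Set.mem_preimage, hzt]; exact ht i, hi⟩)
  obtain ⟨U', ⟨g, rfl⟩, htU', hU'le⟩ := Opens.isBasis_iff_nbhd.mp isBasis_basic_opens htZc
  let σ : Finset 𝒰.I₀ := MvPolynomial.vars g
  let φ : MvPolynomial 𝒰.I₀ K →+* MvPolynomial 𝒰.I₀ K :=
    (MvPolynomial.aeval fun i : 𝒰.I₀ ↦ if i ∈ σ then MvPolynomial.X i else 0).toRingHom
  let t' : T := Spec.map (CommRingCat.ofHom φ) t
  have ht'g : t' ∈ PrimeSpectrum.basicOpen g :=
    show φ g ∉ t.asIdeal from (show φ g = g from aeval_ite_mem_eq_self g subset_rfl).symm ▸ htU'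
  have h : t' ∉ fT' '' Zs := hU'le ht'g
  suffices hcov : ⋃ i ∈ σ, V i = Set.univ from
    ⟨hcov ▸ Finset.isCompact_biUnion _ fun i _ ↦ hVc i⟩
  rw [Set.iUnion₂_eq_univ_iff]
  by_contra hne
  push_neg at hne
  obtain ⟨x, hx⟩ := hne
  haveI hsubK : Subsingleton ↥(Over.mk strK).left := by
    show Subsingleton ↥(Spec (CommRingCat.of K))
    infer_instance
  haveI hsub : Subsingleton (AlgSp.Points ((AlgSp.yon S).obj (Over.mk strK))) :=
    (AlgSp.Points.schemeHomeo (Over.mk strK)).symm.injective.subsingleton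
  obtain ⟨z, hz1, hz2⟩ := Groth.Agent.S10175.exists_point_of_isPullback sqT x
    (AlgSp.Points.schemeHomeo ptT t') (Subsingleton.elim _ _)
  have hfz : fT' z = t' := by
    show (AlgSp.Points.schemeHomeo ptT).symm
      (AlgSp.Points.map (pullback.snd s ((AlgSp.yon S).map qT')) z) = t'
    rw [hz2]
    exact (AlgSp.Points.schemeHomeo ptT).symm_apply_apply t'
  apply h
  refine ⟨z, ?_, hfz⟩
  intro hzU
  obtain ⟨i, hi1, hi2⟩ := Set.mem_iUnion.1 hzU
  rw [Set.mem_preimage, hfz] at hi1
  rw [Set.mem_preimage, hz1] at hi2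
  by_cases hiσ : i ∈ σ
  · exact hx i hiσ hi2
  · have h0 : φ (MvPolynomial.X i) = 0 := by simp [φ, hiσ]
    exact hi1 (show φ (MvPolynomial.X i) ∈ t.asIdeal by rw [h0]; exact t.asIdeal.zero_mem)



/-- A universally closed morphism of algebraic spaces is quasi-compact. -/
theorem result {S : Scheme.{u}} {X Y : AlgSp.Space S} (f : X ⟶ Y)
    (hf : AlgSp.IsUnivClosedMor f.hom) : AlgSp.IsQuasiCompactMor f.hom := by
  refine Groth.Agent.S9917.isQuasiCompactMor_of_affine X.property Y.property.diag f.hom ?_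
  intro Z hZ g P fst snd sq
  haveI : IsAffine Z.left := hZ
  have hP : AlgSp.IsAlgSpace P :=
    Groth.Agent.S9874.isAlgSpace_of_isPullback Y.property.diag X.property
      (AlgSp.IsAlgSpace.yon_obj Z) sq
  rw [Groth.Agent.S10174.isQuasiCompactSp_iff hP]
  have hsnd : AlgSp.IsUnivClosedMor snd := isUnivClosedMor_baseChange sq hf
  have hcl : IsClosedMap (AlgSp.Points.map snd) := hf (AlgSp.IsAlgSpace.yon_obj Z) g fst snd sq
  haveI : CompactSpace (AlgSp.Points ((AlgSp.yon S).obj Z)) :=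
    (AlgSp.Points.schemeHomeo Z).compactSpace
  have hproper : IsProperMap (AlgSp.Points.map snd) := by
    rw [isProperMap_iff_isClosedMap_and_compact_fibers]
    refine ⟨AlgSp.Points.continuous_map snd, hcl, fun y => ?_⟩
    obtain ⟨z, rfl⟩ := (AlgSp.Points.schemeHomeo Z).surjective y
    let ptz : Over S := Over.mk (Z.left.fromSpecResidueField z ≫ Z.hom)
    let ιz : ptz ⟶ Z := Over.homMk (Z.left.fromSpecResidueField z) rfl
    have sqz := IsPullback.of_hasPullback snd ((AlgSp.yon S).map ιz)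
    have hFz : AlgSp.IsAlgSpace (pullback snd ((AlgSp.yon S).map ιz)) :=
      Groth.Agent.S9874.isAlgSpace_of_isPullback (AlgSp.IsAlgSpace.yon_obj Z).diag hP
        (AlgSp.IsAlgSpace.yon_obj ptz) sqz
    haveI := compactSpace_points_of_isUnivClosedMor_field
      (Z.left.fromSpecResidueField z ≫ Z.hom) hFz
      (pullback.snd snd ((AlgSp.yon S).map ιz)) (isUnivClosedMor_baseChange sqz hsnd)
    have hfib : AlgSp.Points.map snd ⁻¹' {AlgSp.Points.schemeHomeo Z z} =
        Set.range (AlgSp.Points.map (pullback.fst snd ((AlgSp.yon S).map ιz))) := by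
      ext x
      constructor
      · intro hx
        rw [Set.mem_preimage, Set.mem_singleton_iff] at hx
        obtain ⟨w, hw1, -⟩ := Groth.Agent.S10175.exists_point_of_isPullback sqz x
          (AlgSp.Points.schemeHomeo ptz (default : ↥(Spec (Z.left.residueField z)))) (by
            rw [hx, AlgSp.Points.map_yon_map_apply]
            congr 1
            exact (Scheme.fromSpecResidueField_apply z _).symm)
        exact ⟨w, hw1⟩
      · rintro ⟨w, rfl⟩
        rw [Set.mem_preimage, Set.mem_singleton_iff, ← AlgSp.Points.map_comp, sqz.w,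
          AlgSp.Points.map_comp]
        obtain ⟨k, hk⟩ := (AlgSp.Points.schemeHomeo ptz).surjective
          (AlgSp.Points.map (pullback.snd snd ((AlgSp.yon S).map ιz)) w)
        rw [← hk, AlgSp.Points.map_yon_map_apply]
        congr 1
        exact Scheme.fromSpecResidueField_apply z _
    rw [hfib]
    exact isCompact_range (AlgSp.Points.continuous_map _)
  exact ⟨by simpa using hproper.isCompact_preimage isCompact_univ⟩

end Groth.Agent.S9925
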