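import Groth.Statements.S1131
import Mathlib.AlgebraicGeometry.Sites.Fpqc
-- import your own Groth.Agent.* helpers here

set_option autoImplicit false
open CategoryTheory CategoryTheory.Limits AlgebraicGeometry Opposite
universe u
open Desc

namespace Groth.Agent.S1131

/-- If p : X ⟶ S is surjective, flat and quasi-compact, then the functor sending a scheme over S to its
canonical descent datum relative to p is full. (Faithfulness, which needs no quasi-compactness, is a
companion statement.) (Descent data are taken in functor-of-points form, equivalent by the Yoneda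
lemma to the usual form of an isomorphism over X ×_S X satisfying the cocycle condition.) -/
theorem result {X S : Scheme.{u}} (p : X ⟶ S) [Surjective p] [Flat p] [QuasiCompact p] :
    (Desc.toDD p).Full := by
  refine ⟨fun {U U'} F => ?_⟩
  -- the fpqc cover q : X ×_S U ⟶ U
  let q : pullback p U.hom ⟶ U.left := pullback.snd p U.hom
  have hq : EffectiveEpi q := by dsimp [q]; infer_instance
  have hqepi : Epi q := inferInstance
  let Fl : pullback p U.hom ⟶ pullback p U'.hom := F.hom.left
  have hFl : Fl ≫ pullback.fst p U'.hom = pullback.fst p U.hom := Over.w F.hom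
  let h : pullback p U.hom ⟶ U'.left := Fl ≫ pullback.snd p U'.hom
  have hcond : ∀ {Z : Scheme.{u}} (a b : Z ⟶ pullback p U.hom), a ≫ q = b ≫ q → a ≫ h = b ≫ h := by
    intro Z a b hab
    have hx : (a ≫ pullback.fst p U.hom) ≫ p = (b ≫ pullback.fst p U.hom) ≫ p := by
      rw [Category.assoc, Category.assoc, pullback.condition, ← Category.assoc, ← Category.assoc]
      exact congrArg (· ≫ U.hom) hab
    have hc : (Desc.canMap p U' (a ≫ pullback.fst p U.hom) (b ≫ pullback.fst p U.hom) hx
        ⟨a ≫ Fl, by
          change (a ≫ Fl) ≫ pullback.fst p U'.hom = _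
          rw [Category.assoc, hFl]⟩).1 =
        (Desc.canMap p U (a ≫ pullback.fst p U.hom) (b ≫ pullback.fst p U.hom) hx ⟨a, rfl⟩).1 ≫ Fl :=
      F.comm (a ≫ pullback.fst p U.hom) (b ≫ pullback.fst p U.hom) hx ⟨a, rfl⟩
        ⟨a ≫ Fl, by
          change (a ≫ Fl) ≫ pullback.fst p U'.hom = _
          rw [Category.assoc, hFl]⟩ rfl
    have hb : (Desc.canMap p U (a ≫ pullback.fst p U.hom) (b ≫ pullback.fst p U.hom) hx ⟨a, rfl⟩).1 = b := by
      apply pullback.hom_ext
      · rw [Desc.canMap_val, pullback.lift_fst]
      · rw [Desc.canMap_val, pullback.lift_snd]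
        exact hab
    rw [hb] at hc
    have := congrArg (· ≫ pullback.snd p U'.hom) hc
    rw [Desc.canMap_val, pullback.lift_snd] at this
    dsimp [h]
    rw [← Category.assoc, ← Category.assoc]
    exact this
  let g : U.left ⟶ U'.left := EffectiveEpi.desc q h hcond
  have hg : q ≫ g = h := EffectiveEpi.fac q h hcond
  have hgS : g ≫ U'.hom = U.hom := by
    rw [← cancel_epi q, ← Category.assoc, hg]
    dsimp [h, q]
    rw [Category.assoc, ← pullback.condition, ← Category.assoc, hFl, pullback.condition]
  refine ⟨Over.homMk g hgS, ?_⟩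
  apply Desc.SchDD.hom_ext
  apply Over.OverMorphism.ext
  apply pullback.hom_ext
  · change pullback.map p U.hom p U'.hom (𝟙 X) g (𝟙 S) (by simp) (by simp [hgS]) ≫
        pullback.fst p U'.hom = Fl ≫ pullback.fst p U'.hom
    rw [hFl, pullback.lift_fst, Category.comp_id]
  · change pullback.map p U.hom p U'.hom (𝟙 X) g (𝟙 S) (by simp) (by simp [hgS]) ≫
        pullback.snd p U'.hom = Fl ≫ pullback.snd p U'.hom
    rw [pullback.lift_snd]
    exact hg

end Groth.Agent.S1131
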