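import Groth.Statements.S2339
import Mathlib
import Groth.Agent.Lib.Helper12QuasiAffineLocal

set_option autoImplicit false
universe u
open CategoryTheory CategoryTheory.Limits AlgebraicGeometry
open EGA2

namespace Groth.Agent.S2339


open Groth.Agent.Lib.Helper12 in


/-- If f : X → Y is quasi-affine then so is its base change along any morphism Y' → Y. -/
theorem result {X Y Y' : Scheme.{u}} (f : X ⟶ Y) (hf : Mor2.IsQuasiAffine f) (g : Y' ⟶ Y) :
    Mor2.IsQuasiAffine (pullback.snd f g) := by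
  obtain ⟨hfqc, hfqa⟩ := hf
  refine ⟨inferInstance, fun V hV => ?_⟩
  set p := pullback.snd f g with hp
  have hWc : IsCompact (p ⁻¹ᵁ V).1 :=
    p.isCompact_preimage hV.isCompact
  refine isQuasiAffine_opens_of_cover _ hWc fun x hx => ?_
  obtain ⟨_, ⟨Vj, hVj : IsAffineOpen Vj, rfl⟩, hxV, -⟩ :=
    Y.isBasis_affineOpens.exists_subset_of_mem_open (Set.mem_univ (g (p x))) isOpen_univ
  obtain ⟨a, ha1, ha2⟩ := hV.exists_basicOpen_le (V := g ⁻¹ᵁ Vj) ⟨p x, hxV⟩ hx
  refine ⟨p.app V a, ?_, ?_⟩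
  · rw [← Scheme.preimage_basicOpen]; exact ha2
  · rw [← Scheme.preimage_basicOpen]
    have hTqa := hfqa Vj hVj
    have hDaff : IsAffineOpen (Y'.basicOpen a) := hV.basicOpen a
    have H : IsPullback (pullback.fst f g) p f g := IsPullback.of_hasPullback f g
    have hle1 : p ⁻¹ᵁ Y'.basicOpen a ≤ (pullback.fst f g) ⁻¹ᵁ (f ⁻¹ᵁ Vj) := by
      intro z hz
      change f (pullback.fst f g z) ∈ Vj
      have h1 : f (pullback.fst f g z) = g (p z) := congr($(pullback.condition (f := f) (g := g)) z)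
      rw [h1]
      exact ha1 hz
    have hUY : p ⁻¹ᵁ Y'.basicOpen a =
        (pullback.fst f g) ⁻¹ᵁ (f ⁻¹ᵁ Vj) ⊓ p ⁻¹ᵁ Y'.basicOpen a :=
      (inf_eq_right.mpr hle1).symm
    have Hres := Scheme.Hom.isPullback_resLE H (US := Vj) (UT := Y'.basicOpen a)
      (UX := f ⁻¹ᵁ Vj) ha1 le_rfl hUY
    have : IsAffine (Vj : Scheme.{u}) := hVj
    have : IsAffine (Y'.basicOpen a : Scheme.{u}) := hDaff
    have haff : IsAffineHom (g.resLE Vj (Y'.basicOpen a) ha1) := inferInstance
    have haff2 := MorphismProperty.of_isPullback (P := @IsAffineHom) Hres.flip haff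
    exact Scheme.IsQuasiAffine.of_isAffineHom
      ((pullback.fst f g).resLE (f ⁻¹ᵁ Vj) (p ⁻¹ᵁ Y'.basicOpen a) hle1)

end Groth.Agent.S2339
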