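import Groth.Statements.S1134
import Mathlib
import Groth.Agent.Lib.Helper15DescReduce
import Groth.Agent.Lib.Helper15QAffDescCore
import Groth.Agent.S2339

set_option autoImplicit false
open CategoryTheory CategoryTheory.Limits AlgebraicGeometry Opposite
universe u
open Desc

namespace Groth.Agent.S1134

/-- Let p : X → S be a surjective, flat and quasi-compact morphism of schemes. Every descent datum
relative to p whose underlying scheme is quasi-affine over X is effective: it is isomorphic to the
canonical descent datum of some scheme over S. Descent data are taken in functor-of-points form,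
equivalent by the Yoneda lemma to the usual form of an isomorphism over X ×_S X satisfying the
cocycle condition. -/
theorem result {X S : Scheme.{u}} (p : X ⟶ S) [Surjective p] [Flat p] [QuasiCompact p]
    (D : Desc.SchDD p) (hD : Mor2.IsQuasiAffine D.obj.hom) : ∃ U : Over S, Nonempty ((Desc.toDD p).obj U ≅ D) := by
  obtain ⟨P, hP⟩ : ∃ P : MorphismProperty Scheme.{u}, P = fun _ _ f => Mor2.IsQuasiAffine f :=
    ⟨_, rfl⟩
  have hiso : P.RespectsIso := by
    subst hP
    apply MorphismProperty.RespectsIso.mk
    · intro X' X Y e f hf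
      refine ⟨?_, fun V hV => ?_⟩
      · have := hf.1
        infer_instance
      · have := hf.2 V hV
        have hr : IsAffineHom (e.hom ∣_ (f ⁻¹ᵁ V)) :=
          IsZariskiLocalAtTarget.restrict (P := @IsAffineHom) inferInstance _
        have key : Scheme.IsQuasiAffine (e.hom ⁻¹ᵁ (f ⁻¹ᵁ V) : Scheme.{u}) :=
          @Scheme.IsQuasiAffine.of_isAffineHom _ _ (e.hom ∣_ (f ⁻¹ᵁ V)) hr _
        exact key
    · intro X Y Y' e f hf
      refine ⟨?_, fun V hV => ?_⟩
      · have := hf.1
        infer_instance
      · exact hf.2 (e.hom ⁻¹ᵁ V) (hV.preimage_of_isIso e.hom)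
  have hbc : P.IsStableUnderBaseChange := by
    apply MorphismProperty.IsStableUnderBaseChange.mk'
    intro X Y S f g _ hg
    have h1 : P (Limits.pullback.snd g f) := by
      subst hP
      exact Groth.Agent.S2339.result g hg f
    have h2 : Limits.pullback.fst f g = (Limits.pullbackSymmetry f g).hom ≫ Limits.pullback.snd g f := by
      simp
    rw [h2]
    exact (MorphismProperty.cancel_left_of_respectsIso P _ _).mpr h1
  refine Groth.Agent.Lib.Helper15DescReduce.effective_of_affine_case (P := P) ?_ p D
    (by subst hP; exact hD)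
  intro X S p hX hS hp hps D hD
  subst hP
  have h1 : Scheme.IsQuasiAffine ((⊤ : D.obj.left.Opens) : Scheme.{u}) :=
    hD.2 ⊤ (isAffineOpen_top X)
  have hDq : D.obj.left.IsQuasiAffine :=
    Scheme.IsQuasiAffine.of_isAffineHom D.obj.left.topIso.inv
  obtain ⟨U, -, hU⟩ := Groth.Agent.Lib.Helper15QAffDescCore.exists_effective_qaff D
  exact ⟨U, hU⟩

end Groth.Agent.S1134
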