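import Groth.Statements.S1893
import Mathlib

set_option autoImplicit false
universe u
open CategoryTheory CategoryTheory.Limits AlgebraicGeometry
open Grpd

namespace Groth.Agent.S1893

section Dev
open TopologicalSpace

/-- a compact subset of an open set of a scheme lies in a quasi-compact open inside it -/
theorem exists_compact_open_between (X : Scheme.{u}) (K O : Set X) (hK : IsCompact K) (hO : IsOpen O)
    (hKO : K ⊆ O) : ∃ D : X.Opens, IsCompact (D : Set X) ∧ K ⊆ D ∧ (D : Set X) ⊆ O := by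
  have hex : ∀ x : K, ∃ A : X.Opens, IsAffineOpen A ∧ x.1 ∈ A ∧ (A : Set X) ⊆ O := by
    intro x
    obtain ⟨_, ⟨A, hA, rfl⟩, hxA, hAO⟩ :=
      X.isBasis_affineOpens.exists_subset_of_mem_open (hKO x.2) hO
    exact ⟨A, hA, hxA, hAO⟩
  choose A hA hxA hAO using hex
  obtain ⟨t, ht⟩ := hK.elim_finite_subcover (fun x : K => (A x : Set X)) (fun x => (A x).2)
    (fun x hx => Set.mem_iUnion.mpr ⟨⟨x, hx⟩, hxA _⟩)
  refine ⟨⨆ i ∈ t, A i, ?_, ?_, ?_⟩
  · have : ((⨆ i ∈ t, A i : X.Opens) : Set X) = ⋃ i ∈ t, (A i : Set X) := by simp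
    rw [this]
    exact t.isCompact_biUnion (fun i _ => (hA i).isCompact)
  · have : ((⨆ i ∈ t, A i : X.Opens) : Set X) = ⋃ i ∈ t, (A i : Set X) := by simp
    rw [this]; exact ht
  · have : ((⨆ i ∈ t, A i : X.Opens) : Set X) = ⋃ i ∈ t, (A i : Set X) := by simp
    rw [this]
    exact Set.iUnion₂_subset fun i _ => hAO i

variable {S : Scheme.{u}} (G : Grpd.GroupoidScheme S)

theorem sat_gen [Flat G.t] (W : G.U.Opens) (u u' : G.U) (h : u' ⤳ u)
    (hu : u ∈ G.t '' (G.s ⁻¹' (W : Set G.U))) : u' ∈ G.t '' (G.s ⁻¹' (W : Set G.U)) := by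
  obtain ⟨r, hr, rfl⟩ := hu
  obtain ⟨r', hr', rfl⟩ := Flat.generalizingMap G.t h
  refine ⟨r', ?_, rfl⟩
  have h1 : G.s r' ⤳ G.s r := hr'.map G.s.continuous
  exact h1.mem_open W.2 hr

theorem sat_eq_iInter [QuasiCompact G.s] [Flat G.t] (W : G.U.Opens)
    (hW : IsCompact (W : Set G.U)) :
    ∃ (ι : Type u) (_ : Nonempty ι) (V : ι → G.U.Opens), (∀ i, IsCompact (V i : Set G.U)) ∧
      ⇑G.t '' (⇑G.s ⁻¹' (W : Set G.U)) = ⋂ i, (V i : Set G.U) := by
  classical
  set E := ⇑G.t '' (⇑G.s ⁻¹' (W : Set G.U)) with hE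
  have hEc : IsCompact E :=
    (QuasiCompact.isCompact_preimage (f := G.s) _ W.2 hW).image G.t.continuous
  obtain ⟨W', hW'c, hEW', -⟩ := exists_compact_open_between G.U E Set.univ hEc isOpen_univ
    (Set.subset_univ _)
  have hex : ∀ p : {p : G.U // p ∈ (W' : Set G.U) \ E}, ∃ D : G.U.Opens,
      IsCompact (D : Set G.U) ∧ E ⊆ D ∧ p.1 ∉ D := by
    intro p
    have hsub : E ⊆ (closure {p.1})ᶜ := by
      intro e he hcl
      have : p.1 ⤳ e := specializes_iff_mem_closure.mpr hcl
      exact p.2.2 (sat_gen G W e p.1 this he)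
    obtain ⟨D, hDc, hED, hDO⟩ := exists_compact_open_between G.U E _ hEc
      isClosed_closure.isOpen_compl hsub
    exact ⟨D, hDc, hED, fun hp => hDO hp (subset_closure rfl)⟩
  choose D hDc hED hpD using hex
  refine ⟨Option {p : G.U // p ∈ (W' : Set G.U) \ E}, ⟨none⟩,
    fun o => o.elim W' D, ?_, ?_⟩
  · rintro (_ | p)
    · exact hW'c
    · exact hDc p
  · apply Set.Subset.antisymm
    · intro e he
      simp only [Set.mem_iInter]
      rintro (_ | p)
      · exact hEW' he
      · exact hED p he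
    · intro x hx
      simp only [Set.mem_iInter] at hx
      by_contra hxE
      have h1 : x ∈ (W' : Set G.U) := hx none
      exact hpD ⟨x, h1, hxE⟩ (hx (some ⟨x, h1, hxE⟩))

end Dev

/-- Let (U, R, s, t, c) be a groupoid scheme over S with s, t quasi-compact and flat and U
quasi-separated, and W ⊆ U a quasi-compact open. Then the saturation t(s⁻¹(W)) can be written as an
intersection of quasi-compact opens of U, indexed by a nonempty set. (A groupoid scheme carries U,
R, s, t, c, e, i over S with the groupoid axioms on T-points; 'finite locally free' is finite, flat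
and locally of finite presentation; C ⊂ Γ(U) is the ring of functions a with s♯(a) = t♯(a) and M =
Spec C.) -/
theorem result (S : Scheme.{u}) (G : Grpd.GroupoidScheme S) [QuasiCompact G.s] [Flat G.s] [QuasiCompact G.t] [Flat G.t] [QuasiSeparatedSpace G.U] (W : G.U.Opens) (hW : IsCompact (W : Set G.U)) : ∃ (ι : Type u) (_ : Nonempty ι) (V : ι → G.U.Opens), (∀ i, IsCompact (V i : Set G.U)) ∧ ⇑G.t '' (⇑G.s ⁻¹' (W : Set G.U)) = ⋂ i, (V i : Set G.U) := by
  exact sat_eq_iInter G W hW

end Groth.Agent.S1893
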