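import Groth.Statements.S7456
import Mathlib

set_option autoImplicit false
universe u
open CategoryTheory CategoryTheory.Limits AlgebraicGeometry
open Grpd

namespace Groth.Agent.S7456

/-- Let (U, R, s, t, c) be a groupoid scheme over S. For every subset W of U, the subset t(s^{-1}(W)) is
set-theoretically R-invariant: its preimages under s and t coincide. If moreover s and t are open
maps and quasi-compact, then U is covered by R-invariant quasi-compact open subsets. (The published
statement also asserts that this set is open when W is open and s, t are open maps; this row omits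
that clause.) (A groupoid scheme carries U, R, s, t, c, e, i over S with the groupoid axioms on
T-points; c is defined on the fibre product of s and t and sends a pair (a, b) with s(a) = t(b) to a
composed with b.) -/
theorem result (S : Scheme.{u}) (G : Grpd.GroupoidScheme S) : (∀ W : Set G.U, ⇑G.s ⁻¹' (⇑G.t '' (⇑G.s ⁻¹' W)) = ⇑G.t ⁻¹' (⇑G.t '' (⇑G.s ⁻¹' W))) ∧ (IsOpenMap ⇑G.s → IsOpenMap ⇑G.t → QuasiCompact G.s → QuasiCompact G.t → ∀ u : G.U, ∃ W : G.U.Opens, IsCompact (W : Set G.U) ∧ u ∈ W ∧ G.s ⁻¹ᵁ W = G.t ⁻¹ᵁ W) := by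
  classical
  have hct : G.c ≫ G.t = pullback.fst G.s G.t ≫ G.t := by
    have h := G.comp_t (pullback.fst G.s G.t) (pullback.snd G.s G.t) pullback.condition
    have h1 : pullback.lift (pullback.fst G.s G.t) (pullback.snd G.s G.t) pullback.condition =
        𝟙 _ := by
      apply pullback.hom_ext <;> simp
    rwa [h1, Category.id_comp] at h
  have hcs : G.c ≫ G.s = pullback.snd G.s G.t ≫ G.s := by
    have h := G.comp_s (pullback.fst G.s G.t) (pullback.snd G.s G.t) pullback.condition
    have h1 : pullback.lift (pullback.fst G.s G.t) (pullback.snd G.s G.t) pullback.condition =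
        𝟙 _ := by
      apply pullback.hom_ext <;> simp
    rwa [h1, Category.id_comp] at h
  -- composition of points
  have hcomp : ∀ x r : G.R, G.s x = G.t r → ∃ y : G.R, G.t y = G.t x ∧ G.s y = G.s r := by
    intro x r h
    obtain ⟨w, hw1, hw2⟩ := Scheme.Pullback.exists_preimage_pullback (f := G.s) (g := G.t) x r h
    refine ⟨G.c w, ?_, ?_⟩
    · have : G.t (G.c w) = (G.c ≫ G.t) w := rfl
      rw [this, hct]
      show G.t (pullback.fst G.s G.t w) = _
      rw [hw1]
    · have : G.s (G.c w) = (G.c ≫ G.s) w := rfl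
      rw [this, hcs]
      show G.s (pullback.snd G.s G.t w) = _
      rw [hw2]
  have his : ∀ x : G.R, G.s (G.i x) = G.t x := by
    intro x
    have : G.s (G.i x) = (G.i ≫ G.s) x := rfl
    rw [this, G.i_s]
  have hit : ∀ x : G.R, G.t (G.i x) = G.s x := by
    intro x
    have : G.t (G.i x) = (G.i ≫ G.t) x := rfl
    rw [this, G.i_t]
  have part1 : ∀ W : Set G.U, ⇑G.s ⁻¹' (⇑G.t '' (⇑G.s ⁻¹' W)) = ⇑G.t ⁻¹' (⇑G.t '' (⇑G.s ⁻¹' W)) := by
    intro W
    ext x
    simp only [Set.mem_preimage, Set.mem_image]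
    constructor
    · rintro ⟨r, hrW, hr⟩
      obtain ⟨y, hy1, hy2⟩ := hcomp x r hr.symm
      exact ⟨y, by rw [hy2]; exact hrW, hy1⟩
    · rintro ⟨r, hrW, hr⟩
      obtain ⟨y, hy1, hy2⟩ := hcomp (G.i x) r (by rw [his, hr])
      exact ⟨y, by rw [hy2]; exact hrW, by rw [hy1, hit]⟩
  refine ⟨part1, ?_⟩
  intro hso hto hsq htq u
  obtain ⟨_, ⟨W₀, hW₀, rfl⟩, huW₀, -⟩ := G.U.isBasis_affineOpens.exists_subset_of_mem_open
    (Set.mem_univ u) isOpen_univ
  have hopen : IsOpen (⇑G.t '' (⇑G.s ⁻¹' (W₀ : Set G.U))) :=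
    hto _ (W₀.isOpen.preimage G.s.continuous)
  refine ⟨⟨_, hopen⟩, ?_, ?_, ?_⟩
  · show IsCompact (⇑G.t '' (⇑G.s ⁻¹' (W₀ : Set G.U)))
    have h1 : IsCompact (⇑G.s ⁻¹' (W₀ : Set G.U)) :=
      QuasiCompact.isCompact_preimage (f := G.s) _ W₀.isOpen hW₀.isCompact
    exact h1.image G.t.continuous
  · show u ∈ ⇑G.t '' (⇑G.s ⁻¹' (W₀ : Set G.U))
    refine ⟨G.e u, ?_, ?_⟩
    · show G.s (G.e u) ∈ W₀
      have : G.s (G.e u) = (G.e ≫ G.s) u := rfl
      rw [this, G.e_s]
      exact huW₀
    · have : G.t (G.e u) = (G.e ≫ G.t) u := rfl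
      rw [this, G.e_t]
      rfl
  · ext x
    exact Set.ext_iff.mp (part1 (W₀ : Set G.U)) x

end Groth.Agent.S7456
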