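import Groth.Statements.S1894
import Mathlib
import Groth.Agent.S7456

set_option autoImplicit false
universe u
open CategoryTheory CategoryTheory.Limits AlgebraicGeometry
open Grpd

namespace Groth.Agent.S1894

section Dev
open TopologicalSpace
/-- a compact subset of an open set of a scheme lies in a quasi-compact open inside it -/
theorem exists_compact_open_between (X : Scheme.{u}) (K O : Set X) (hK : IsCompact K) (hO : IsOpen O)
    (hKO : K ⊆ O) : ∃ D : X.Opens, IsCompact (D : Set X) ∧ K ⊆ D ∧ (D : Set X) ⊆ O := by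
  have hex : ∀ x : K, ∃ A : X.Opens, IsAffineOpen A ∧ x.1 ∈ A ∧ (A : Set X) ⊆ O := by
    intro x
    obtain ⟨_, ⟨A, hA, rfl⟩, hxA, hAO⟩ :=
      X.isBasis_affineOpens.exists_subset_of_mem_open (hKO x.2) hO
    exact ⟨A, hA, hxA, hAO⟩
  choose A hA hxA hAO using hex
  obtain ⟨t, ht⟩ := hK.elim_finite_subcover (fun x : K => (A x : Set X)) (fun x => (A x).2)
    (fun x hx => Set.mem_iUnion.mpr ⟨⟨x, hx⟩, hxA _⟩)
  refine ⟨⨆ i ∈ t, A i, ?_, ?_, ?_⟩
  · have : ((⨆ i ∈ t, A i : X.Opens) : Set X) = ⋃ i ∈ t, (A i : Set X) := by simp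
    rw [this]
    exact t.isCompact_biUnion (fun i _ => (hA i).isCompact)
  · have : ((⨆ i ∈ t, A i : X.Opens) : Set X) = ⋃ i ∈ t, (A i : Set X) := by simp
    rw [this]; exact ht
  · have : ((⨆ i ∈ t, A i : X.Opens) : Set X) = ⋃ i ∈ t, (A i : Set X) := by simp
    rw [this]
    exact Set.iUnion₂_subset fun i _ => hAO i


/-- affine case: a point in the closure of the image of a closed set is a specialization of an
image point -/
theorem spec_closure_image {A B : CommRingCat.{u}} (φ : A ⟶ B) (Z : Set (Spec B)) (hZ : IsClosed Z)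
    (p : Spec A) (hp : p ∈ closure (Spec.map φ '' Z)) : ∃ c ∈ Z, Spec.map φ c ⤳ p := by
  obtain ⟨I, rfl⟩ := (PrimeSpectrum.isClosed_iff_zeroLocus_ideal Z).mp hZ
  have h1 : Spec.map φ '' PrimeSpectrum.zeroLocus (I : Set B) ⊆
      PrimeSpectrum.zeroLocus ((I.comap φ.hom : Ideal A) : Set A) := by
    rintro _ ⟨q, hq, rfl⟩
    exact Ideal.comap_mono (f := φ.hom) hq
  have h2 : p ∈ PrimeSpectrum.zeroLocus ((I.comap φ.hom : Ideal A) : Set A) :=
    closure_minimal h1 (PrimeSpectrum.isClosed_zeroLocus _) hp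
  have h3 : I.comap φ.hom ≤ p.asIdeal := h2
  obtain ⟨q, hIq, hq, hqp⟩ := Ideal.exists_ideal_comap_le_prime p.asIdeal I h3
  refine ⟨⟨q, hq⟩, hIq, ?_⟩
  exact (PrimeSpectrum.le_iff_specializes ⟨q.comap φ.hom, inferInstance⟩ p).mp hqp

/-- a point in the closure of the image of a closed set under a quasi-compact morphism is a
specialization of a point in the image -/
theorem exists_specializes_of_mem_closure_image {X Y : Scheme.{u}} (f : X ⟶ Y) [QuasiCompact f]
    (C : Set X) (hC : IsClosed C) (ξ : Y) (hξ : ξ ∈ closure (f '' C)) :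
    ∃ c ∈ C, f c ⤳ ξ := by
  classical
  obtain ⟨_, ⟨V, hV, rfl⟩, hξV, -⟩ :=
    Y.isBasis_affineOpens.exists_subset_of_mem_open (Set.mem_univ ξ) isOpen_univ
  have hcomp : IsCompact ((f ⁻¹ᵁ V : X.Opens) : Set X) :=
    QuasiCompact.isCompact_preimage (f := f) _ V.2 hV.isCompact
  obtain ⟨s, hsfin, hs⟩ := isCompact_iff_finite_and_eq_biUnion_affineOpens.mp hcomp
  -- ξ in closure of image of C ∩ f⁻¹V
  have h1 : ξ ∈ closure (f '' (C ∩ (f ⁻¹ᵁ V : X.Opens))) := by
    rw [mem_closure_iff]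
    intro N hN hξN
    obtain ⟨_, ⟨hyN, hyV⟩, c, hc, rfl⟩ := mem_closure_iff.mp hξ (N ∩ V) (hN.inter V.2) ⟨hξN, hξV⟩
    exact ⟨f c, hyN, c, ⟨hc, hyV⟩, rfl⟩
  have h2 : f '' (C ∩ (f ⁻¹ᵁ V : X.Opens)) = ⋃ i ∈ s, f '' (C ∩ (i : X.Opens)) := by
    rw [hs]
    ext y
    simp only [Set.mem_image, Set.mem_inter_iff, SetLike.mem_coe, Opens.mem_iSup, Set.mem_iUnion,
      exists_prop]
    constructor
    · rintro ⟨c, ⟨hc, i, hi, hci⟩, rfl⟩
      exact ⟨i, hi, c, ⟨hc, hci⟩, rfl⟩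
    · rintro ⟨i, hi, c, ⟨hc, hci⟩, rfl⟩
      exact ⟨c, ⟨hc, i, hi, hci⟩, rfl⟩
  rw [h2, hsfin.closure_biUnion] at h1
  simp only [Set.mem_iUnion, exists_prop] at h1
  obtain ⟨R, hRs, hξR⟩ := h1
  have hRle : (R : X.Opens) ≤ f ⁻¹ᵁ V := by
    rw [hs]; exact le_iSup₂ (f := fun (i : X.affineOpens) (_ : i ∈ s) => (i : X.Opens)) R hRs
  have hR : IsAffineOpen (R : X.Opens) := R.2
  set φ := f.appLE V R hRle with hφ
  have hsq : Spec.map φ ≫ hV.fromSpec = hR.fromSpec ≫ f := IsAffineOpen.SpecMap_appLE_fromSpec f hV hR hRle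
  -- translate
  let Z : Set (Spec Γ(X, (R : X.Opens))) := hR.fromSpec ⁻¹' C
  have hZ : IsClosed Z := hC.preimage hR.fromSpec.continuous
  have himg : f '' (C ∩ (R : X.Opens)) = hV.fromSpec '' (Spec.map φ '' Z) := by
    ext y
    constructor
    · rintro ⟨c, ⟨hc, hcR⟩, rfl⟩
      have : c ∈ Set.range hR.fromSpec := by rw [hR.range_fromSpec]; exact hcR
      obtain ⟨z, rfl⟩ := this
      refine ⟨Spec.map φ z, ⟨z, hc, rfl⟩, ?_⟩
      rw [← Scheme.Hom.comp_apply, hsq, Scheme.Hom.comp_apply]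
    · rintro ⟨_, ⟨z, hz, rfl⟩, rfl⟩
      refine ⟨hR.fromSpec z, ⟨hz, ?_⟩, ?_⟩
      · have : hR.fromSpec z ∈ Set.range hR.fromSpec := ⟨z, rfl⟩
        rwa [hR.range_fromSpec] at this
      · rw [← Scheme.Hom.comp_apply, ← hsq, Scheme.Hom.comp_apply]
  have hξrange : ξ ∈ Set.range hV.fromSpec := by rw [hV.range_fromSpec]; exact hξV
  obtain ⟨p, rfl⟩ := hξrange
  rw [himg] at hξR
  have hp : p ∈ closure (Spec.map φ '' Z) := by
    rw [hV.fromSpec.isOpenEmbedding.isEmbedding.closure_eq_preimage_closure_image]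
    exact hξR
  obtain ⟨c, hcZ, hcp⟩ := spec_closure_image φ Z hZ p hp
  refine ⟨hR.fromSpec c, hcZ, ?_⟩
  have := hcp.map hV.fromSpec.continuous
  rw [← Scheme.Hom.comp_apply, hsq, Scheme.Hom.comp_apply] at this
  exact this

variable {S : Scheme.{u}} (G : Grpd.GroupoidScheme S)

theorem exists_invariant_open_between [QuasiCompact G.s] [Flat G.s] [QuasiCompact G.t]
    (W : G.U.Opens) (hW : IsCompact (W : Set G.U)) :
    ∃ V W' : G.U.Opens, G.s ⁻¹ᵁ V = G.t ⁻¹ᵁ V ∧ IsCompact (W' : Set G.U) ∧ W ≤ V ∧ V ≤ W' := by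
  have hinv := (Groth.Agent.S7456.result S G).1
  set E := ⇑G.t '' (⇑G.s ⁻¹' (W : Set G.U)) with hE
  have hEc : IsCompact E :=
    (QuasiCompact.isCompact_preimage (f := G.s) _ W.2 hW).image G.t.continuous
  obtain ⟨W', hW'c, hEW', -⟩ := exists_compact_open_between G.U E Set.univ hEc isOpen_univ
    (Set.subset_univ _)
  set Z : Set G.U := (W' : Set G.U)ᶜ with hZ
  have hZc : IsClosed Z := W'.2.isClosed_compl
  set C : Set G.R := ⇑G.s ⁻¹' Z with hC
  have hCc : IsClosed C := hZc.preimage G.s.continuous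
  set T : Set G.U := ⇑G.t '' C with hT
  have hes : ∀ x : G.U, G.s (G.e x) = x := fun x => by
    rw [← Scheme.Hom.comp_apply, G.e_s]; rfl
  have het : ∀ x : G.U, G.t (G.e x) = x := fun x => by
    rw [← Scheme.Hom.comp_apply, G.e_t]; rfl
  have hWE : (W : Set G.U) ⊆ E := fun w hw => ⟨G.e w, by show G.s (G.e w) ∈ W; rwa [hes], het w⟩
  have hZT : Z ⊆ T := fun z hz => ⟨G.e z, by show G.s (G.e z) ∈ Z; rwa [hes], het z⟩
  have hinvE : ⇑G.s ⁻¹' E = ⇑G.t ⁻¹' E := hinv (W : Set G.U)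
  have hinvT : ⇑G.s ⁻¹' T = ⇑G.t ⁻¹' T := hinv Z
  have key : ∀ r : G.R, G.s r ∈ closure T → G.t r ∈ closure T := by
    intro r hr
    obtain ⟨c, hc, hcr⟩ := exists_specializes_of_mem_closure_image G.t C hCc (G.s r) hr
    obtain ⟨r', hr', hsr'⟩ := Flat.generalizingMap G.s hcr
    have h1 : r' ∈ ⇑G.s ⁻¹' T := by
      show G.s r' ∈ T
      rw [hsr']; exact ⟨c, hc, rfl⟩
    rw [hinvT] at h1
    have h2 : G.t r' ⤳ G.t r := hr'.map G.t.continuous
    exact h2.mem_closed isClosed_closure (subset_closure h1)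
  refine ⟨⟨(closure T)ᶜ, isClosed_closure.isOpen_compl⟩, W', ?_, hW'c, ?_, ?_⟩
  · ext r
    show G.s r ∈ (closure T)ᶜ ↔ G.t r ∈ (closure T)ᶜ
    simp only [Set.mem_compl_iff, not_iff_not]
    refine ⟨key r, fun h => ?_⟩
    have h1 : G.s (G.i r) = G.t r := by rw [← Scheme.Hom.comp_apply, G.i_s]
    have h2 : G.t (G.i r) = G.s r := by rw [← Scheme.Hom.comp_apply, G.i_t]
    rw [← h2]
    apply key
    rw [h1]; exact h
  · intro w hw hcl
    obtain ⟨x, hxW, r, hr, rfl⟩ := mem_closure_iff.mp hcl W W.2 hw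
    have h1 : r ∈ ⇑G.t ⁻¹' E := hWE hxW
    rw [← hinvE] at h1
    exact hr (hEW' h1)
  · intro x hx
    by_contra hxW'
    exact hx (subset_closure (hZT hxW'))


end Dev

/-- Let (U, R, s, t, c) be a groupoid scheme over S with s, t quasi-compact and flat and U
quasi-separated, and W ⊆ U a quasi-compact open. Then there are an R-invariant open V (s⁻¹V = t⁻¹V)
and a quasi-compact open W' with W ⊆ V ⊆ W'. (A groupoid scheme carries U, R, s, t, c, e, i over S
with the groupoid axioms on T-points; 'finite locally free' is finite, flat and locally of finite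
presentation; C ⊂ Γ(U) is the ring of functions a with s♯(a) = t♯(a) and M = Spec C.) -/
theorem result (S : Scheme.{u}) (G : Grpd.GroupoidScheme S) [QuasiCompact G.s] [Flat G.s] [QuasiCompact G.t] [Flat G.t] [QuasiSeparatedSpace G.U] (W : G.U.Opens) (hW : IsCompact (W : Set G.U)) : ∃ V W' : G.U.Opens, G.s ⁻¹ᵁ V = G.t ⁻¹ᵁ V ∧ IsCompact (W' : Set G.U) ∧ W ≤ V ∧ V ≤ W' := by
  exact exists_invariant_open_between G W hW

end Groth.Agent.S1894
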