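import Groth.Statements.S1400
import Groth.Agent.Lib.Helper2IndQA

set_option autoImplicit false
universe u
open FlatMor

namespace Groth.Agent.S1400

open AlgebraicGeometry CategoryTheory Limits in
/-- The base change of an ind-quasi-affine morphism is ind-quasi-affine. -/
theorem result {X S X' S' : Scheme.{u}} (f : X ⟶ S) (f' : X' ⟶ S') (g' : X' ⟶ X) (g : S' ⟶ S)
    (hc : IsPullback g' f' f g) (hf : MoreMor.IsIndQuasiAffineHom f) : MoreMor.IsIndQuasiAffineHom f' := by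
  have hf' := (Groth.Agent.Lib.Helper2.isIndQuasiAffineHom_iff f).mp hf
  rw [Groth.Agent.Lib.Helper2.isIndQuasiAffineHom_iff]
  intro V' hV' U' hUV' hU'
  have : CompactSpace U'.toScheme := isCompact_iff_compactSpace.mp hU'
  refine Groth.Agent.Lib.Helper2.isQuasiAffine_opens_of_cover U' hU' fun x hx ↦ ?_
  obtain ⟨_, ⟨(V : S.Opens), hV, rfl⟩, hxV, -⟩ := S.isBasis_affineOpens.exists_subset_of_mem_open
    (Set.mem_univ (g (f' x))) isOpen_univ
  obtain ⟨r, hr1, hr2⟩ := hV'.exists_basicOpen_le (V := g ⁻¹ᵁ V) ⟨f' x, hxV⟩ (hUV' hx)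
  let k : U'.toScheme ⟶ V'.toScheme := f'.resLE V' U' hUV'
  let r' : Γ(V'.toScheme, ⊤) := V'.topIso.inv r
  have hpre : k ⁻¹ᵁ (V'.toScheme.basicOpen r') = U'.toScheme.basicOpen (k.appTop r') :=
    Scheme.preimage_basicOpen_top k r'
  have himg : V'.ι ''ᵁ V'.toScheme.basicOpen r' = S'.basicOpen r :=
    V'.ι_image_basicOpen_topIso_inv r
  refine ⟨k.appTop r', ⟨⟨x, hx⟩, ?_, rfl⟩, ?_⟩
  · rw [← hpre]
    have h1 : V'.ι (k ⟨x, hx⟩) = f' x := congr($(Scheme.Hom.resLE_comp_ι f' hUV') ⟨x, hx⟩)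
    have h2 : V'.ι (k ⟨x, hx⟩) ∈ V'.ι ''ᵁ V'.toScheme.basicOpen r' := by
      rw [himg, h1]; exact hr2
    obtain ⟨y, hy, hyx⟩ := h2
    have hyk : y = k ⟨x, hx⟩ := V'.ι.isOpenEmbedding.injective hyx
    show k ⟨x, hx⟩ ∈ V'.toScheme.basicOpen r'
    exact hyk ▸ hy
  · have hTD : U'.ι ''ᵁ U'.toScheme.basicOpen (k.appTop r') ≤ f' ⁻¹ᵁ (S'.basicOpen r) := by
      rintro _ ⟨y, hy, rfl⟩
      rw [← hpre] at hy
      have h1 : V'.ι (k y) = f' (U'.ι y) := congr($(Scheme.Hom.resLE_comp_ι f' hUV') y)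
      show f' (U'.ι y) ∈ S'.basicOpen r
      rw [← himg, ← h1]; exact ⟨k y, hy, rfl⟩
    have hTc : IsCompact ((U'.ι ''ᵁ U'.toScheme.basicOpen (k.appTop r') : X'.Opens) : Set X') := by
      have h1 : IsCompact (U'.toScheme.basicOpen (k.appTop r') : Set U'.toScheme) := by
        simpa using (isRetrocompact_basicOpen (k.appTop r')) isCompact_univ isOpen_univ
      simpa using h1.image U'.ι.continuous
    generalize U'.ι ''ᵁ U'.toScheme.basicOpen (k.appTop r') = T at hTD hTc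
    have hTV : T ≤ g' ⁻¹ᵁ (f ⁻¹ᵁ V) := by
      intro t ht
      have h3 : g (f' t) ∈ V := hr1 (hTD ht)
      show f (g' t) ∈ V
      have h4 : f (g' t) = g (f' t) := congr($(hc.w) t)
      rw [h4]; exact h3
    obtain ⟨Q, hQc, hQV, hTQ⟩ :=
      Groth.Agent.Lib.Helper2.exists_isCompact_le_preimage g' T hTc (f ⁻¹ᵁ V) hTV
    have hQ : Scheme.IsQuasiAffine Q.toScheme := hf' V hV Q hQV hQc
    have hD : IsAffineOpen (S'.basicOpen r) := hV'.basicOpen r
    have : IsAffine (S'.basicOpen r).toScheme := hD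
    have : IsAffine V.toScheme := hV
    obtain ⟨qV, h5⟩ : ∃ q : Q.toScheme ⟶ V.toScheme, q ≫ V.ι = Q.ι ≫ f :=
      ⟨_, Scheme.Hom.resLE_comp_ι f hQV⟩
    obtain ⟨dV, h6⟩ : ∃ q : (S'.basicOpen r).toScheme ⟶ V.toScheme,
        q ≫ V.ι = (S'.basicOpen r).ι ≫ g := ⟨_, Scheme.Hom.resLE_comp_ι g hr1⟩
    obtain ⟨tQ, h7⟩ : ∃ q : T.toScheme ⟶ Q.toScheme, q ≫ Q.ι = T.ι ≫ g' :=
      ⟨_, Scheme.Hom.resLE_comp_ι g' hTQ⟩
    obtain ⟨tD, h8⟩ : ∃ q : T.toScheme ⟶ (S'.basicOpen r).toScheme,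
        q ≫ (S'.basicOpen r).ι = T.ι ≫ f' := ⟨_, Scheme.Hom.resLE_comp_ι f' hTD⟩
    have : IsAffineHom (pullback.fst qV dV) :=
      MorphismProperty.pullback_fst (P := @IsAffineHom) _ _ inferInstance
    have : Scheme.IsQuasiAffine (pullback qV dV) :=
      Scheme.IsQuasiAffine.of_isAffineHom (pullback.fst qV dV)
    have hcomp : tQ ≫ qV = tD ≫ dV := by
      rw [← cancel_mono V.ι, Category.assoc, Category.assoc, h5, h6, reassoc_of% h7,
        reassoc_of% h8, hc.w]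
    let a : T.toScheme ⟶ pullback qV dV := pullback.lift tQ tD hcomp
    have hcomp2 : (pullback.fst qV dV ≫ Q.ι) ≫ f = (pullback.snd qV dV ≫ (S'.basicOpen r).ι) ≫ g := by
      rw [Category.assoc, Category.assoc, ← h5, ← h6, ← Category.assoc, ← Category.assoc,
        pullback.condition]
    let b : pullback qV dV ⟶ X' :=
      hc.lift (pullback.fst _ _ ≫ Q.ι) (pullback.snd _ _ ≫ (S'.basicOpen r).ι) hcomp2
    have hab : a ≫ b = T.ι := by
      apply hc.hom_ext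
      · rw [Category.assoc, hc.lift_fst, pullback.lift_fst_assoc, h7]
      · rw [Category.assoc, hc.lift_snd, pullback.lift_snd_assoc, h8]
    have : IsImmersion (a ≫ b) := by rw [hab]; infer_instance
    have : IsImmersion a := IsImmersion.of_comp a b
    have : CompactSpace T.toScheme := isCompact_iff_compactSpace.mp hTc
    exact Scheme.IsQuasiAffine.of_isImmersion a

end Groth.Agent.S1400
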