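import Groth.Statements.S0115
-- import your own Groth.Agent.* helpers here
import Mathlib
import Groth.Agent.S0114
import Groth.Agent.Lib.Helper12SmoothSrc

set_option autoImplicit false
open CategoryTheory CategoryTheory.Limits AlgebraicGeometry Opposite
universe u
open EtBase

namespace Groth.Agent.S0115

open CategoryTheory.Limits

/-- Smoothness descends along fppf coverings: if f : X ⟶ Y is surjective, flat and locally of finite
presentation and q : Y ⟶ S is a morphism such that f ≫ q is smooth, then q is smooth. -/
theorem result {X Y S : Scheme.{u}} (f : X ⟶ Y) (q : Y ⟶ S) [Surjective f] [Flat f]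
    [LocallyOfFinitePresentation f] [Smooth (f ≫ q)] : Smooth q := by
  have : LocallyOfFinitePresentation q := Groth.Agent.S0114.result f q
  have : Flat q := Groth.Agent.Lib.Helper12.flat_of_comp_of_flat_of_surjective f q
  refine Smooth.of_smooth_fiberToSpecResidueField q (fun y => ?_)
  let t := S.fromSpecResidueField y
  let eK : pullback (f ≫ q) t ⟶ pullback q t :=
    pullback.lift (pullback.fst (f ≫ q) t ≫ f) (pullback.snd (f ≫ q) t)
      (by simp [pullback.condition])
  have sq : IsPullback eK (pullback.fst (f ≫ q) t) (pullback.fst q t) f :=
    Groth.Agent.Lib.Helper12.SmoothSrc.isPullback_lift f q t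
  have : Flat eK := MorphismProperty.of_isPullback (P := @Flat) sq.flip inferInstance
  have : Surjective eK := MorphismProperty.of_isPullback (P := @Surjective) sq.flip inferInstance
  have he : eK ≫ pullback.snd q t = pullback.snd (f ≫ q) t := pullback.lift_snd _ _ _
  have : Smooth (eK ≫ pullback.snd q t) := by rw [he]; infer_instance
  exact Groth.Agent.Lib.Helper12.SmoothSrc.smooth_of_flat_surjective_of_field
    (S.residueField y) eK (pullback.snd q t)

end Groth.Agent.S0115
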