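import Groth.Statements.S10182
import Mathlib
import Groth.Agent.S9904
import Groth.Agent.S9921
import Groth.Agent.Lib.Helper12Descent

set_option autoImplicit false
universe u
open CategoryTheory CategoryTheory.Limits AlgebraicGeometry Topology TopologicalSpace
open AlgSp

namespace Groth.Agent.S10182


open CategoryTheory.Limits Opposite MorphismProperty Groth.Agent.S13210 Groth.Agent.S9900

variable {S : Scheme.{u}}

/-- the equalizer locus of two points factoring through a chart, in terms of `R = U ×_X U`. -/
lemma isEqLocus_of_chart {X : AlgSp.Sp S} {U R : Over S} {p : (AlgSp.yon S).obj U ⟶ X}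
    {s t : R ⟶ U} (hR : IsPullback ((AlgSp.yon S).map t) ((AlgSp.yon S).map s) p p)
    {T : Over S} (a b : T ⟶ U) :
    IsEqLocus ((AlgSp.yon S).map a ≫ p) ((AlgSp.yon S).map b ≫ p)
      (pullback.fst (prod.lift a b) (prod.lift t s)) := by
  haveI : Mono (prod.lift t s) := by
    constructor
    intro Z x x' hxx
    apply (AlgSp.yon S).map_injective
    apply hR.hom_ext
    · rw [← Functor.map_comp, ← Functor.map_comp]
      congr 1
      have := congrArg (fun m => m ≫ prod.fst) hxx
      simpa only [Category.assoc, prod.lift_fst] using this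
    · rw [← Functor.map_comp, ← Functor.map_comp]
      congr 1
      have := congrArg (fun m => m ≫ prod.snd) hxx
      simpa only [Category.assoc, prod.lift_snd] using this
  refine ⟨pullback.fst_of_mono, fun T' x => ?_⟩
  rw [← Category.assoc, ← Category.assoc, ← Functor.map_comp, ← Functor.map_comp]
  constructor
  · intro hab
    obtain ⟨r, hr⟩ := (AlgSp.yon S).map_surjective (hR.lift _ _ hab)
    have hr1 : r ≫ t = x ≫ a := by
      apply (AlgSp.yon S).map_injective
      rw [Functor.map_comp, hr, hR.lift_fst]
    have hr2 : r ≫ s = x ≫ b := by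
      apply (AlgSp.yon S).map_injective
      rw [Functor.map_comp, hr, hR.lift_snd]
    refine ⟨pullback.lift x r ?_, pullback.lift_fst _ _ _⟩
    apply Limits.prod.hom_ext
    · rw [Category.assoc, Category.assoc, prod.lift_fst, prod.lift_fst, hr1]
    · rw [Category.assoc, Category.assoc, prod.lift_snd, prod.lift_snd, hr2]
  · rintro ⟨x', rfl⟩
    have hc := pullback.condition (f := prod.lift a b) (g := prod.lift t s)
    have h1 : pullback.fst (prod.lift a b) (prod.lift t s) ≫ a =
        pullback.snd (prod.lift a b) (prod.lift t s) ≫ t := by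
      have := congrArg (fun m => m ≫ prod.fst) hc
      simpa only [Category.assoc, prod.lift_fst] using this
    have h2 : pullback.fst (prod.lift a b) (prod.lift t s) ≫ b =
        pullback.snd (prod.lift a b) (prod.lift t s) ≫ s := by
      have := congrArg (fun m => m ≫ prod.snd) hc
      simpa only [Category.assoc, prod.lift_snd] using this
    rw [Category.assoc, Category.assoc, h1, h2, Functor.map_comp, Functor.map_comp,
      Functor.map_comp, Functor.map_comp, Category.assoc, Category.assoc, hR.w]
    simp only [Category.assoc]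

/-- a property of `R ⟶ U × U` which descends along fpqc coverings passes to the diagonal. -/
lemma repWith_diag_of_chart (Pr : MorphismProperty Scheme.{u}) [Pr.IsStableUnderBaseChange]
    [IsZariskiLocalAtTarget Pr] [Pr.DescendsAlong (@Surjective ⊓ @Flat ⊓ @QuasiCompact)]
    {X : AlgSp.Sp S} (hX : AlgSp.Representable (Limits.diag X)) {U R : Over S}
    (p : (AlgSp.yon S).obj U ⟶ X) (hp : AlgSp.RepWith @Etale p) (hs : AlgSp.RepWith @Surjective p)
    (s t : R ⟶ U) (hR : IsPullback ((AlgSp.yon S).map t) ((AlgSp.yon S).map s) p p)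
    (hj : Pr (prod.lift t s).left) : AlgSp.RepWith Pr (Limits.diag X) := by
  refine Groth.Agent.S9921.repWith_diag_of_isEqLocus Pr (fun {T} a b => ?_)
  obtain ⟨E, e, he⟩ := exists_isEqLocus hX a b
  refine ⟨E, e, he, ?_⟩
  -- lift `a` and `b` étale locally
  obtain ⟨T1, t1, a1', sq1⟩ := hp.1 a
  obtain ⟨a1, rfl⟩ := (AlgSp.yon S).map_surjective a1'
  haveI : Etale t1.left := hp.2 _ _ t1 sq1
  haveI : Surjective t1.left := hs.2 _ _ t1 sq1
  obtain ⟨T2, t2, b2', sq2⟩ := hp.1 ((AlgSp.yon S).map t1 ≫ b)
  obtain ⟨b2, rfl⟩ := (AlgSp.yon S).map_surjective b2'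
  haveI : Etale t2.left := hp.2 _ _ t2 sq2
  haveI : Surjective t2.left := hs.2 _ _ t2 sq2
  have ha2 : (AlgSp.yon S).map (t2 ≫ t1) ≫ a = (AlgSp.yon S).map (t2 ≫ a1) ≫ p := by
    rw [Functor.map_comp, Functor.map_comp, Category.assoc, Category.assoc, sq1.w]
  have hb2 : (AlgSp.yon S).map (t2 ≫ t1) ≫ b = (AlgSp.yon S).map b2 ≫ p := by
    rw [Functor.map_comp, Category.assoc, sq2.w]
  have he2 := Groth.Agent.S9904.IsEqLocus.baseChange he (t2 ≫ t1)
  rw [ha2, hb2] at he2
  have he2' := isEqLocus_of_chart hR (t2 ≫ a1) b2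
  haveI : Mono (pullback.snd e (t2 ≫ t1)) := he2.1
  haveI : Mono (pullback.fst (prod.lift (t2 ≫ a1) b2) (prod.lift t s)) := he2'.1
  obtain ⟨i, hi⟩ := exists_iso_of_factor_iff (pullback.snd e (t2 ≫ t1))
    (pullback.fst (prod.lift (t2 ≫ a1) b2) (prod.lift t s))
    (fun T' x => by rw [← he2.2, ← he2'.2])
  have hP2 : Pr (pullback.fst (prod.lift (t2 ≫ a1) b2) (prod.lift t s)).left :=
    Pr.of_isPullback ((IsPullback.of_hasPullback (prod.lift (t2 ≫ a1) b2)
      (prod.lift t s)).flip.map (Over.forget S)) hj
  have hP1 : Pr (pullback.snd e (t2 ≫ t1)).left := by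
    rw [← hi, Over.comp_left]
    exact (Pr.cancel_left_of_respectsIso i.hom.left _).2 hP2
  have hsq : IsPullback (pullback.fst e (t2 ≫ t1)).left (pullback.snd e (t2 ≫ t1)).left e.left
      (t2 ≫ t1).left := (IsPullback.of_hasPullback e (t2 ≫ t1)).map (Over.forget S)
  have hQ : (@Surjective ⊓ @Flat ⊓ @LocallyOfFinitePresentation : MorphismProperty Scheme.{u})
      (t2 ≫ t1).left := by
    rw [Over.comp_left]
    exact ⟨⟨inferInstance, inferInstance⟩, inferInstance⟩
  exact MorphismProperty.of_isPullback_of_descendsAlong (P := Pr)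
    (Q := @Surjective ⊓ @Flat ⊓ @LocallyOfFinitePresentation) hsq.flip hQ hP1



/-- Let X be an algebraic space over a scheme S, U a scheme over S whose underlying scheme is
quasi-separated, p : h_U ⟶ X representable etale and surjective, and R a scheme over S with h_R =
h_U ×_X h_U. If one of the two projections R ⟶ U is quasi-compact, then X is quasi-separated over S.
(The published statement concludes absolute quasi-separatedness, i.e. over the integers; this row
concludes quasi-separatedness of the diagonal over S, which the same argument gives and which the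
absolute notion implies.) -/
theorem result {S : Scheme.{u}} (X : AlgSp.Space S) {R U : Over S}
    (p : (AlgSp.yon S).obj U ⟶ X.obj) (hp : AlgSp.RepWith @Etale p) (hs : AlgSp.RepWith @Surjective p)
    [QuasiSeparatedSpace ↥U.left] (s t : R ⟶ U)
    (hR : IsPullback ((AlgSp.yon S).map t) ((AlgSp.yon S).map s) p p) [QuasiCompact t.left] :
    AlgSp.IsQuasiSeparatedSp X.obj := by
  haveI := Groth.Agent.Lib.Helper12.descendsAlong_quasiCompact.{u}
  refine repWith_diag_of_chart @QuasiCompact X.property.diag p hp hs s t hR ?_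
  have h1 : QuasiSeparated (prod.fst : U ⨯ U ⟶ U).left := by
    rw [← Over.prodLeftIsoPullback_hom_fst]
    infer_instance
  have h2 : (prod.lift t s).left ≫ (prod.fst : U ⨯ U ⟶ U).left = t.left := by
    rw [← Over.comp_left, prod.lift_fst]
  haveI : QuasiCompact ((prod.lift t s).left ≫ (prod.fst : U ⨯ U ⟶ U).left) := by
    rw [h2]; infer_instance
  exact QuasiCompact.of_comp (prod.lift t s).left (prod.fst : U ⨯ U ⟶ U).left

end Groth.Agent.S10182
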