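import Groth.Statements.S9889
import Mathlib
import Groth.Agent.Lib.Helper10SigmaRel
-- import your own Groth.Agent.* helpers here

set_option autoImplicit false
universe u
open CategoryTheory CategoryTheory.Limits AlgebraicGeometry
open AlgSp

namespace Groth.Agent.S9889

/-- Let `U` be a scheme over `S` and `G` a group acting on `U` by automorphisms over `S`, freely: no
non-identity element of `G` fixes a point `x` of `U` while inducing the identity on its residue
field (equivalently, composing `Spec κ(x) ⟶ U` with the automorphism changes it). Let `R = ∐_{g ∈ G}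
U` (coproduct in schemes over `S`) with `s` the identity and `t` the action of `g` on the `g`-th
copy. Then `s, t : R ⟶ U` is an etale equivalence relation on `U` over `S` (so that `U/R` is an
algebraic space). -/
theorem result (S : Scheme.{u}) (U : Over S) (G : Type u) [Group G] (ρ : G →* Aut U)
    (hfree : ∀ (g : G) (x : U.left), g ≠ 1 →
      U.left.fromSpecResidueField x ≫ (ρ g).hom.left ≠ U.left.fromSpecResidueField x)
    (c : Cofan (fun _ : G => U)) (hc : IsColimit c) (s t : c.pt ⟶ U)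
    (hs : ∀ g, c.inj g ≫ s = 𝟙 U) (ht : ∀ g, c.inj g ≫ t = (ρ g).hom) :
    AlgSp.IsEtaleEqvRel s t := by
  classical
  have hOI : ∀ g, IsOpenImmersion (c.inj g).left :=
    Groth.Agent.Lib.Helper10.SigmaRel.isOpenImmersion_inj_left c hc
  let V : G → c.pt.left.Opens := fun g => (c.inj g).left.opensRange
  have hsl : ∀ g, (c.inj g).left ≫ s.left = 𝟙 _ := fun g => by
    rw [← Over.comp_left, hs g]; rfl
  have htl : ∀ g, (c.inj g).left ≫ t.left = (ρ g).hom.left := fun g => by
    rw [← Over.comp_left, ht g]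
  have hmul : ∀ g h : G, (ρ (g * h)).hom = (ρ h).hom ≫ (ρ g).hom := fun g h => by
    rw [map_mul]; rfl
  have hinvρ : ∀ g : G, (ρ g⁻¹).hom = (ρ g).inv := fun g => by
    rw [map_inv]; rfl
  have hone : (ρ 1).hom = 𝟙 U := by rw [map_one]; rfl
  have hVcover : ∀ x : c.pt.left, ∃ g, x ∈ V g := fun x => by
    obtain ⟨g, y, hy⟩ := Groth.Agent.Lib.Helper10.SigmaRel.exists_inj_eq c hc x
    exact ⟨g, y, hy⟩
  have hVdis : ∀ (g h : G) (x : c.pt.left), x ∈ V g → x ∈ V h → g = h := by
    rintro g h x ⟨y, hy⟩ ⟨y', hy'⟩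
    by_contra hne
    exact Groth.Agent.Lib.Helper10.SigmaRel.inj_ne_of_ne c hc hne y y' (hy.trans hy'.symm)
  -- the factorisation lemma
  have factor : ∀ (T : Over S) (r : T ⟶ c.pt) (g : G) (W : T.left.Opens),
      W ≤ r.left ⁻¹ᵁ V g → W.ι ≫ r.left = (W.ι ≫ r.left ≫ s.left) ≫ (c.inj g).left := by
    intro T r g W hW
    have hrange : Set.range (W.ι ≫ r.left) ⊆ Set.range (c.inj g).left := by
      rintro _ ⟨z, rfl⟩
      have hz : r.left (W.ι z) ∈ V g := hW z.2
      rw [Scheme.Hom.comp_apply]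
      exact hz
    obtain ⟨l, hl⟩ : ∃ l, l ≫ (c.inj g).left = W.ι ≫ r.left :=
      ⟨_, IsOpenImmersion.lift_fac (c.inj g).left (W.ι ≫ r.left) hrange⟩
    have h2 : W.ι ≫ r.left ≫ s.left = l := by
      rw [← Category.assoc, ← hl, Category.assoc, hsl, Category.comp_id]
    rw [h2, hl]
  have hWtop : ∀ (T : Over S) (r r' : T ⟶ c.pt),
      ⨆ p : G × G, (r.left ⁻¹ᵁ V p.1 ⊓ r'.left ⁻¹ᵁ V p.2) = ⊤ := by
    intro T r r'
    rw [eq_top_iff]
    intro x _
    obtain ⟨g, hg⟩ := hVcover (r.left x)
    obtain ⟨h, hh⟩ := hVcover (r'.left x)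
    exact TopologicalSpace.Opens.mem_iSup.mpr ⟨(g, h), hg, hh⟩
  have hWdis : ∀ (T : Over S) (r r' : T ⟶ c.pt) (p q : G × G), p ≠ q →
      (r.left ⁻¹ᵁ V p.1 ⊓ r'.left ⁻¹ᵁ V p.2) ⊓ (r.left ⁻¹ᵁ V q.1 ⊓ r'.left ⁻¹ᵁ V q.2) = ⊥ := by
    intro T r r' p q hpq
    rw [eq_bot_iff]
    rintro x ⟨⟨h1, h2⟩, ⟨h3, h4⟩⟩
    exact (hpq (Prod.ext (hVdis _ _ _ h1 h3) (hVdis _ _ _ h2 h4))).elim
  refine { injective := ?_, equivalence := ?_, etale_left := ?_, etale_right := ?_ }
  · -- injectivity
    intro T r r' hrt hrs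
    have hrtl : r.left ≫ t.left = r'.left ≫ t.left := by
      rw [← Over.comp_left, hrt, Over.comp_left]
    have hrsl : r.left ≫ s.left = r'.left ≫ s.left := by
      rw [← Over.comp_left, hrs, Over.comp_left]
    apply Over.OverMorphism.ext
    refine Groth.Agent.Lib.Helper10.SigmaRel.hom_ext_iSup _ (hWtop T r r') _ _ (fun p => ?_)
    obtain ⟨g, h⟩ := p
    have e1 := factor T r g (r.left ⁻¹ᵁ V g ⊓ r'.left ⁻¹ᵁ V h) inf_le_left
    have e2 := factor T r' h (r.left ⁻¹ᵁ V g ⊓ r'.left ⁻¹ᵁ V h) inf_le_right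
    by_cases hgh : g = h
    · subst hgh
      rw [e1, e2, hrsl]
    · have hemp : IsEmpty ↥(r.left ⁻¹ᵁ V g ⊓ r'.left ⁻¹ᵁ V h).toScheme := by
        refine ⟨fun z => ?_⟩
        set W := (r.left ⁻¹ᵁ V g ⊓ r'.left ⁻¹ᵁ V h) with hWdef
        set β : W.toScheme ⟶ U.left := W.ι ≫ r.left ≫ s.left with hβ
        have hβ' : W.ι ≫ r'.left ≫ s.left = β := by rw [hβ, hrsl]
        have h1 : W.ι ≫ r.left ≫ t.left = β ≫ (ρ g).hom.left := by
          rw [← Category.assoc, e1, Category.assoc, htl]
        have h2 : W.ι ≫ r'.left ≫ t.left = β ≫ (ρ h).hom.left := by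
          rw [← Category.assoc, e2, Category.assoc, htl, hβ']
        have h3 : β ≫ (ρ g).hom.left = β ≫ (ρ h).hom.left := by
          rw [← h1, ← h2, hrtl]
        have hk : h⁻¹ * g ≠ 1 := by
          intro hk
          exact hgh (by rw [← mul_one h, ← hk, mul_inv_cancel_left])
        have h4 : β ≫ (ρ (h⁻¹ * g)).hom.left = β := by
          have hid : (ρ h).hom.left ≫ (ρ h).inv.left = 𝟙 _ := by
            rw [← Over.comp_left, (ρ h).hom_inv_id]; rfl
          rw [hmul, hinvρ, Over.comp_left, ← Category.assoc, h3, Category.assoc,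
            hid, Category.comp_id]
        have h5 := Scheme.Hom.SpecMap_residueFieldMap_fromSpecResidueField β z
        have h6 : Spec.map (β.residueFieldMap z) ≫
            (U.left.fromSpecResidueField (β z) ≫ (ρ (h⁻¹ * g)).hom.left) =
            Spec.map (β.residueFieldMap z) ≫ U.left.fromSpecResidueField (β z) := by
          rw [← Category.assoc, h5, Category.assoc, h4]
        haveI : Epi (Spec.map (β.residueFieldMap z)) :=
          Groth.Agent.Lib.Helper10.SigmaRel.epi_Spec_map_of_isField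
            (Field.toIsField _) (Field.toIsField _) _
        exact hfree (h⁻¹ * g) (β z) hk ((cancel_epi _).mp h6)
      exact (isInitialOfIsEmpty).hom_ext _ _
  · -- equivalence relation
    intro T
    refine ⟨?_, ?_, ?_⟩
    · intro a
      refine ⟨a ≫ c.inj 1, ?_, ?_⟩
      · rw [Category.assoc, ht, hone, Category.comp_id]
      · rw [Category.assoc, hs, Category.comp_id]
    · rintro a b ⟨r, hra, hrb⟩
      let inv : c.pt ⟶ c.pt := Cofan.IsColimit.desc hc (fun g => (ρ g).hom ≫ c.inj g⁻¹)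
      have hinv : ∀ g, c.inj g ≫ inv = (ρ g).hom ≫ c.inj g⁻¹ :=
        fun g => Cofan.IsColimit.fac hc _ g
      have h1 : inv ≫ t = s := by
        refine Cofan.IsColimit.hom_ext hc _ _ (fun g => ?_)
        rw [← Category.assoc, hinv, Category.assoc, ht, hs, hinvρ, (ρ g).hom_inv_id]
      have h2 : inv ≫ s = t := by
        refine Cofan.IsColimit.hom_ext hc _ _ (fun g => ?_)
        rw [← Category.assoc, hinv, Category.assoc, hs, ht, Category.comp_id]
      exact ⟨r ≫ inv, by rw [Category.assoc, h1, hrb], by rw [Category.assoc, h2, hra]⟩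
    · rintro a b d ⟨r₁, h1a, h1b⟩ ⟨r₂, h2b, h2d⟩
      have h1al : r₁.left ≫ t.left = a.left := by rw [← Over.comp_left, h1a]
      have h1bl : r₁.left ≫ s.left = b.left := by rw [← Over.comp_left, h1b]
      have h2bl : r₂.left ≫ t.left = b.left := by rw [← Over.comp_left, h2b]
      have h2dl : r₂.left ≫ s.left = d.left := by rw [← Over.comp_left, h2d]
      let W : G × G → T.left.Opens := fun p => r₁.left ⁻¹ᵁ V p.1 ⊓ r₂.left ⁻¹ᵁ V p.2
      obtain ⟨k, hk⟩ := Groth.Agent.Lib.Helper10.SigmaRel.exists_glue_disjoint W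
        (hWtop T r₁ r₂) (hWdis T r₁ r₂)
        (fun p => (W p).ι ≫ d.left ≫ (c.inj (p.1 * p.2)).left)
      have hkw : k ≫ c.pt.hom = T.hom := by
        refine Groth.Agent.Lib.Helper10.SigmaRel.hom_ext_iSup W (hWtop T r₁ r₂) _ _ (fun p => ?_)
        rw [← Category.assoc, hk, Category.assoc, Category.assoc, Over.w, Over.w]
      have hks : k ≫ s.left = d.left := by
        refine Groth.Agent.Lib.Helper10.SigmaRel.hom_ext_iSup W (hWtop T r₁ r₂) _ _ (fun p => ?_)
        rw [← Category.assoc, hk, Category.assoc, Category.assoc, hsl, Category.comp_id]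
      have hkt : k ≫ t.left = a.left := by
        refine Groth.Agent.Lib.Helper10.SigmaRel.hom_ext_iSup W (hWtop T r₁ r₂) _ _ (fun p => ?_)
        obtain ⟨g, h⟩ := p
        have e1 := factor T r₁ g (W (g, h)) inf_le_left
        have e2 := factor T r₂ h (W (g, h)) inf_le_right
        rw [h1bl] at e1
        rw [h2dl] at e2
        have hb : (W (g, h)).ι ≫ b.left = ((W (g, h)).ι ≫ d.left) ≫ (ρ h).hom.left := by
          rw [← h2bl, ← Category.assoc, e2, Category.assoc, htl]
        have ha : (W (g, h)).ι ≫ a.left = ((W (g, h)).ι ≫ b.left) ≫ (ρ g).hom.left := by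
          rw [← h1al, ← Category.assoc, e1, Category.assoc, htl]
        rw [← Category.assoc, hk, ha, hb, Category.assoc, Category.assoc, htl, hmul,
          Over.comp_left, Category.assoc, Category.assoc]
      refine ⟨Over.homMk k hkw, ?_, ?_⟩
      · apply Over.OverMorphism.ext
        rw [Over.comp_left]
        exact hkt
      · apply Over.OverMorphism.ext
        rw [Over.comp_left]
        exact hks
  · -- s is etale
    refine Groth.Agent.Lib.Helper10.SigmaRel.etale_of_inj c hc s.left (fun g => ?_)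
    rw [hsl]
    infer_instance
  · -- t is etale
    refine Groth.Agent.Lib.Helper10.SigmaRel.etale_of_inj c hc t.left (fun g => ?_)
    rw [htl]
    haveI : IsIso (ρ g).hom := Iso.isIso_hom (ρ g)
    haveI : IsIso (ρ g).hom.left := inferInstanceAs (IsIso ((Over.forget S).map (ρ g).hom))
    infer_instance

end Groth.Agent.S9889
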