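import Groth.Statements.S10552
import Mathlib
import Groth.Agent.S9962
import Groth.Agent.S10175
import Groth.Agent.Lib.Helper12Proper

set_option autoImplicit false
universe u
open CategoryTheory CategoryTheory.Limits AlgebraicGeometry
open AlgSp

namespace Groth.Agent.S10552


open MorphismProperty Groth.Agent.Lib.Helper12.Proper

variable {S : Scheme.{u}}

lemma isUnivOpenMor_comp {X Y Z0 : AlgSp.Sp S} (hY : AlgSp.IsAlgSpace Y)
    (hZ0 : AlgSp.IsAlgSpace Z0) (f : X ⟶ Y) (g : Y ⟶ Z0) (hf : AlgSp.IsUnivOpenMor f)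
    (hg : AlgSp.IsUnivOpenMor g) : AlgSp.IsUnivOpenMor (f ≫ g) := by
  intro T P hT t a b sqP
  have hYT : AlgSp.IsAlgSpace (pullback g t) :=
    Groth.Agent.S9874.isAlgSpace_of_isPullback hZ0.diag hY hT (IsPullback.of_hasPullback g t)
  obtain ⟨l, hl, top⟩ := exists_factor_of_isPullback_comp f g t a b sqP
  have h1 : IsOpenMap (AlgSp.Points.map l) := hf hYT (pullback.fst g t) a l top
  have h2 : IsOpenMap (AlgSp.Points.map (pullback.snd g t)) :=
    hg hT t _ _ (IsPullback.of_hasPullback g t)
  have e : AlgSp.Points.map b = AlgSp.Points.map (pullback.snd g t) ∘ AlgSp.Points.map l := by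
    funext x
    rw [← hl, AlgSp.Points.map_comp]
    rfl
  change IsOpenMap (AlgSp.Points.map b)
  rw [e]
  exact h2.comp h1



/-- The property of morphisms of algebraic spaces over S given by f is universally open (every base
change along a morphism from an algebraic space is open on points) is fppf local on the source: for
a morphism f : X ⟶ Y of algebraic spaces and a fppf covering of X by algebraic spaces X_i, f has the
property if and only if every composite X_i ⟶ X ⟶ Y has it. -/
theorem result (S : Scheme.{u}) :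
    AlgSp.IsLocalOnSource (AlgSp.IsFppfCover (S := S)) AlgSp.IsUnivOpenMor := by
  intro ι X Xi g hX hXi hcov Y f hY
  constructor
  · intro hf i
    exact isUnivOpenMor_comp hX hY (g i) f
      (Groth.Agent.S9962.isUnivOpenMor_of_flat_lfp (hXi i) hX (g i) (hcov.1 i).1 (hcov.1 i).2) hf
  · intro h Z Z' hZ gZ fst snd sq
    change IsOpenMap (AlgSp.Points.map snd)
    intro W hW
    have hP : ∀ i, IsOpenMap (AlgSp.Points.map (pullback.snd (g i ≫ f) gZ)) := fun i =>
      h i hZ gZ _ _ (IsPullback.of_hasPullback _ _)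
    have hw : ∀ i, (pullback.fst (g i ≫ f) gZ ≫ g i) ≫ f = pullback.snd (g i ≫ f) gZ ≫ gZ :=
      fun i => by rw [Category.assoc]; exact pullback.condition
    obtain ⟨m, hm⟩ : ∃ m : ∀ i, pullback (g i ≫ f) gZ ⟶ Z', ∀ i, m i = sq.lift _ _ (hw i) :=
      ⟨fun i => sq.lift _ _ (hw i), fun i => rfl⟩
    have hm1 : ∀ i, m i ≫ fst = pullback.fst _ _ ≫ g i := fun i => by rw [hm, sq.lift_fst]
    have hm2 : ∀ i, m i ≫ snd = pullback.snd _ _ := fun i => by rw [hm, sq.lift_snd]
    have sqi : ∀ i, IsPullback (pullback.fst (g i ≫ f) gZ) (m i) (g i) fst := fun i => by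
      have s : IsPullback (m i ≫ snd) (pullback.fst (g i ≫ f) gZ) gZ (g i ≫ f) := by
        rw [hm2]; exact (IsPullback.of_hasPullback (g i ≫ f) gZ).flip
      exact (IsPullback.of_right s (hm1 i) sq.flip).flip
    have e : AlgSp.Points.map snd '' W = ⋃ i, AlgSp.Points.map (pullback.snd (g i ≫ f) gZ) ''
        (AlgSp.Points.map (m i) ⁻¹' W) := by
      ext z
      constructor
      · rintro ⟨z', hz', rfl⟩
        obtain ⟨i, xi, hxi⟩ := hcov.2 (AlgSp.Points.map fst z')
        obtain ⟨p, hp1, hp2⟩ := Groth.Agent.S10175.exists_point_of_isPullback (sqi i) xi z' hxi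
        refine Set.mem_iUnion.2 ⟨i, p, ?_, ?_⟩
        · rw [Set.mem_preimage, hp2]; exact hz'
        · rw [← hm2, AlgSp.Points.map_comp, hp2]
      · intro hz
        obtain ⟨i, p, hp, rfl⟩ := Set.mem_iUnion.1 hz
        exact ⟨AlgSp.Points.map (m i) p, hp, by rw [← AlgSp.Points.map_comp, hm2]⟩
    rw [e]
    exact isOpen_iUnion fun i => hP i _ (hW.preimage (AlgSp.Points.continuous_map (m i)))

end Groth.Agent.S10552
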