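import Groth.Statements.S9944
import Mathlib
import Groth.Agent.S10262

set_option autoImplicit false
universe u
open CategoryTheory CategoryTheory.Limits AlgebraicGeometry
open AlgSp

namespace Groth.Agent.S9944


open CategoryTheory.Limits Opposite MorphismProperty

variable {S : Scheme.{u}}

/-- affine morphisms of sheaves are stable under base change. -/
lemma isAffineMor_of_isPullback {F G G' P : AlgSp.Sp S} {f : F ⟶ G} {g' : G' ⟶ G} {fst : P ⟶ F}
    {snd : P ⟶ G'} (sq : IsPullback fst snd f g') (hf : AlgSp.IsAffineMor f) :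
    AlgSp.IsAffineMor snd := by
  intro Z hZ c
  obtain ⟨W, i, a, sqW, hW⟩ := hf hZ (c ≫ g')
  have hw : a ≫ f = ((AlgSp.yon S).map i ≫ c) ≫ g' := by rw [Category.assoc]; exact sqW.w
  refine ⟨W, i, sq.lift a ((AlgSp.yon S).map i ≫ c) hw, ?_, hW⟩
  refine IsPullback.of_right ?_ (sq.lift_snd _ _ _) sq
  rw [sq.lift_fst]
  exact sqW

/-- affine morphisms of sheaves are stable under composition. -/
lemma isAffineMor_comp {F G H : AlgSp.Sp S} (f1 : F ⟶ G) (f2 : G ⟶ H)
    (h1 : AlgSp.IsAffineMor f1) (h2 : AlgSp.IsAffineMor f2) : AlgSp.IsAffineMor (f1 ≫ f2) := by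
  intro Z hZ c
  obtain ⟨W2, i2, a2, sq2, hW2⟩ := h2 hZ c
  obtain ⟨W1, i1, a1, sq1, hW1⟩ := h1 hW2 a2
  refine ⟨W1, i1 ≫ i2, a1, ?_, hW1⟩
  rw [Functor.map_comp]
  exact sq1.paste_vert sq2

/-- a representable closed immersion is affine. -/
lemma isAffineMor_of_isClosedImmersion {F G : AlgSp.Sp S} (f : F ⟶ G)
    (hf : AlgSp.RepWith @IsClosedImmersion f) : AlgSp.IsAffineMor f := by
  intro Z hZ c
  obtain ⟨W, i, a, sq⟩ := hf.1 c
  haveI : IsClosedImmersion i.left := hf.2 _ _ i sq
  haveI : IsAffine Z.left := hZ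
  exact ⟨W, i, a, sq, isAffine_of_isAffineHom i.left⟩

/-- a morphism from a `B`-affine space to a space with affine diagonal over `B` is affine. -/
lemma isAffineMor_of_diagonal {X Y B : AlgSp.Sp S} (g : X ⟶ Y) (q : Y ⟶ B)
    (hp : AlgSp.IsAffineMor (g ≫ q)) (hΔ : AlgSp.IsAffineMor (pullback.diagonal q)) :
    AlgSp.IsAffineMor g := by
  have sq := pullback_lift_diagonal_isPullback g q
  have hΓ : AlgSp.IsAffineMor (pullback.lift (𝟙 X) g (by simp) : X ⟶ pullback (g ≫ q) q) :=
    isAffineMor_of_isPullback sq hΔ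
  have hsnd : AlgSp.IsAffineMor (pullback.snd (g ≫ q) q) :=
    isAffineMor_of_isPullback (IsPullback.of_hasPullback (g ≫ q) q) hp
  have e1 : g = (pullback.lift (𝟙 X) g (by simp) : X ⟶ pullback (g ≫ q) q) ≫
      pullback.snd (g ≫ q) q := by rw [pullback.lift_snd]
  rw [e1]
  exact isAffineMor_comp _ _ hΓ hsnd



/-- Let g : X -> Y be a morphism over a base algebraic space B with X affine over B. Then g is affine as
soon as the diagonal of Y over B is affine, and in particular as soon as Y is B-separated. (The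
published lemma also has two versions with the absolute diagonal of Y; this row states the versions
over B.) -/
theorem result {S : Scheme.{u}} {X Y B : AlgSp.Space S} (g : X ⟶ Y) (p : X ⟶ B)
    (q : Y ⟶ B) (comm : g ≫ q = p) (hp : AlgSp.IsAffineMor p.hom) :
    (AlgSp.IsAffineMor (pullback.diagonal q.hom) → AlgSp.IsAffineMor g.hom) ∧
    (AlgSp.IsSeparatedMor q.hom → AlgSp.IsAffineMor g.hom) := by
  have hp' : AlgSp.IsAffineMor (g.hom ≫ q.hom) := by
    rw [← comm] at hp
    exact hp
  exact ⟨fun hΔ => isAffineMor_of_diagonal g.hom q.hom hp' hΔ,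
    fun hsep => isAffineMor_of_diagonal g.hom q.hom hp'
      (isAffineMor_of_isClosedImmersion _ hsep)⟩

end Groth.Agent.S9944
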