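import Groth.Statements.S9902
import Mathlib
import Groth.Agent.S9900

set_option autoImplicit false
universe u
open CategoryTheory CategoryTheory.Limits AlgebraicGeometry
open AlgSp

namespace Groth.Agent.S9902


open CategoryTheory.Limits MorphismProperty

/-- a section is a base change of the relative diagonal (up to an isomorphism). -/
lemma of_section {E : Type*} [Category* E] [HasPullbacks E] (P : MorphismProperty E)
    [P.IsStableUnderBaseChange] {X T : E} (f : X ⟶ T) (s : T ⟶ X) (hs : s ≫ f = 𝟙 T)
    (h : P (pullback.diagonal f)) : P s := by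
  haveI : P.RespectsIso := inferInstance
  haveI : IsIso (s ≫ f) := by rw [hs]; infer_instance
  have sq := pullback_lift_diagonal_isPullback s f
  have h1 := MorphismProperty.of_isPullback (P := P) sq h
  have e : s = pullback.lift (𝟙 T) s (by simp) ≫ pullback.snd (s ≫ f) f := by
    rw [pullback.lift_snd]
  rw [e, P.cancel_right_of_respectsIso]
  exact h1



/-- Let s be a section of a morphism f : X -> T of algebraic spaces. Then s is representable by schemes
and, in the representable sense, a separated monomorphism that is locally of finite type and locally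
quasi-finite; when f is separated s is a closed immersion, and when f is quasi-separated s is
quasi-compact. (The published lemma also shows that s is an immersion when f is locally separated;
this row omits that clause.) -/
theorem result {S : Scheme.{u}} {X T : AlgSp.Space S} (f : X ⟶ T) (s : T ⟶ X)
    (hs : s ≫ f = 𝟙 T) :
    AlgSp.Representable s.hom ∧
    AlgSp.RepWith @LocallyOfFiniteType s.hom ∧
    AlgSp.RepWith (@LocallyQuasiFinite ⊓ @LocallyOfFiniteType) s.hom ∧
    AlgSp.RepWith @IsSeparated s.hom ∧
    AlgSp.RepWith (MorphismProperty.monomorphisms Scheme.{u}) s.hom ∧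
    (AlgSp.IsSeparatedMor f.hom → AlgSp.RepWith @IsClosedImmersion s.hom) ∧
    (AlgSp.IsQuasiSeparatedMor f.hom → AlgSp.RepWith @QuasiCompact s.hom) := by
  obtain ⟨h1, h2, h3, h4, h5⟩ := S9900.result f
  have hs' : s.hom ≫ f.hom = 𝟙 T.obj := congrArg (fun m => m.hom) hs
  exact ⟨of_section AlgSp.Representable f.hom s.hom hs' h1,
    of_section (AlgSp.RepWith _) f.hom s.hom hs' h2,
    of_section (AlgSp.RepWith _) f.hom s.hom hs' h5,
    of_section (AlgSp.RepWith _) f.hom s.hom hs' h4,
    of_section (AlgSp.RepWith _) f.hom s.hom hs' h3,
    fun hsep => of_section (AlgSp.RepWith _) f.hom s.hom hs' hsep,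
    fun hsep => of_section (AlgSp.RepWith _) f.hom s.hom hs' hsep⟩

end Groth.Agent.S9902
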