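import Groth.Statements.S5346
import Mathlib
import Groth.Agent.S2305
import Groth.Agent.Lib.Helper22Thick3

set_option autoImplicit false
universe u
open CategoryTheory CategoryTheory.Limits MonoidalCategory CartesianMonoidalCategory MonObj GrpObj AlgebraicGeometry
open SGA3

namespace Groth.Agent.S5346

open Groth.Agent.Lib.Helper22.Thick

/-- Let A be a local artinian ring with residue field k and i : Spec k → Spec A the closed point. (i) If
X is an A-scheme whose base change X ⊗_A k is locally of finite type (resp. of finite type) over k,
then X is locally of finite type (resp. of finite type) over A. (ii) If u : X → Y is a morphism of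
A-schemes whose base change u ⊗_A k is an immersion (resp. a closed immersion), then u is an
immersion (resp. a closed immersion). -/
theorem result (A : Type u) [CommRing A] [IsArtinianRing A] [IsLocalRing A] (X Y : Over (Spec (CommRingCat.of A))) (u : X ⟶ Y) :
    letI i : Spec (CommRingCat.of (IsLocalRing.ResidueField A)) ⟶ (Spec (CommRingCat.of A)) := Spec.map (CommRingCat.ofHom (IsLocalRing.residue A))
    (LocallyOfFiniteType (pullback.snd X.hom i) → LocallyOfFiniteType X.hom) ∧
    (LocallyOfFiniteType (pullback.snd X.hom i) → QuasiCompact (pullback.snd X.hom i) → QuasiCompact X.hom) ∧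
    (IsImmersion ((Over.pullback i).map u).left → IsImmersion u.left) ∧
    (IsClosedImmersion ((Over.pullback i).map u).left → IsClosedImmersion u.left) := by
  set i : Spec (CommRingCat.of (IsLocalRing.ResidueField A)) ⟶ (Spec (CommRingCat.of A)) := Spec.map (CommRingCat.ofHom (IsLocalRing.residue A)) with hi
  haveI hci : IsClosedImmersion i :=
    IsClosedImmersion.spec_of_surjective _ IsLocalRing.residue_surjective
  have hsub : ∀ y : Spec (CommRingCat.of A), y = IsLocalRing.closedPoint A := by
    intro y
    apply PrimeSpectrum.ext
    haveI : y.asIdeal.IsPrime := y.isPrime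
    have : y.asIdeal.IsMaximal := IsArtinianRing.isMaximal_of_isPrime y.asIdeal
    exact IsLocalRing.eq_maximalIdeal this
  haveI hsurj : Surjective i := by
    constructor
    intro y
    obtain ⟨z⟩ : Nonempty (PrimeSpectrum (IsLocalRing.ResidueField A)) := inferInstance
    refine ⟨z, ?_⟩
    rw [hsub y]
    exact hsub _
  haveI : IsLocallyNoetherian (Spec (CommRingCat.of A)) := inferInstance
  -- the square for `u`
  have hm1 : ((Over.pullback i).map u).left ≫ pullback.snd Y.hom i = pullback.snd X.hom i := by
    dsimp [Over.pullback]
    exact pullback.lift_snd _ _ _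
  have hm2 : ((Over.pullback i).map u).left ≫ pullback.fst Y.hom i =
      pullback.fst X.hom i ≫ u.left := by
    dsimp [Over.pullback]
    exact pullback.lift_fst _ _ _
  have sq : IsPullback (pullback.fst X.hom i) ((Over.pullback i).map u).left u.left
      (pullback.fst Y.hom i) := by
    refine (IsPullback.of_right ?_ hm2 (IsPullback.of_hasPullback Y.hom i).flip).flip
    rw [hm1, Over.w u]
    exact (IsPullback.of_hasPullback X.hom i).flip
  have hnil : ∀ U : Y.left.Opens, IsAffineOpen U →
      IsNilpotent (RingHom.ker ((pullback.fst Y.hom i).app U).hom) := by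
    intro U hU
    have h1 := ker_app_le (IsPullback.of_hasPullback Y.hom i) (isAffineOpen_top _) hU
      (show U ≤ Y.hom ⁻¹ᵁ ⊤ from le_top)
    obtain ⟨n, hn⟩ := isNilpotent_ker_app i (isAffineOpen_top (Spec (CommRingCat.of A)))
    refine ⟨n, ?_⟩
    have h2 := Ideal.pow_right_mono h1 n
    rw [← Ideal.map_pow, hn, Ideal.zero_eq_bot, Ideal.map_bot] at h2
    exact le_bot_iff.mp h2
  refine ⟨?_, ?_, ?_, ?_⟩
  · intro h
    exact Groth.Agent.S2305.result X.hom i
  · intro h1 h2
    exact quasiCompact_of_isPullback (IsPullback.of_hasPullback X.hom i)
  · intro h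
    exact isImmersion_of_isPullback sq hnil
  · intro h
    exact isClosedImmersion_of_isPullback' sq hnil

end Groth.Agent.S5346
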