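import Groth.Statements.S0113
import Groth.Agent.Lib.Helper3FppfDescent
import Mathlib

set_option autoImplicit false
universe u
open EtBase

namespace Groth.Agent.S0113

open TensorProduct

/-- Finite type can be tested after a faithfully flat, finitely presented extension: given ring maps R →
A → B with B faithfully flat and of finite presentation over A, if B is of finite type over R then A
is of finite type over R. -/
theorem result {R A B : Type u} [CommRing R] [CommRing A] [CommRing B] [Algebra R A] [Algebra A B]
    [Algebra R B] [IsScalarTower R A B] [Algebra.FiniteType R B]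
    [Module.FaithfullyFlat A B] [Algebra.FinitePresentation A B] : Algebra.FiniteType R A := by
  obtain ⟨A₀, B₀, _, _, _, _, hft, hfp, hff, ⟨e⟩⟩ :=
    Groth.Agent.Lib.Helper3.Fppf.exists_faithfullyFlat_model A B
  refine Groth.Agent.Lib.Helper3.Fppf.finiteType_of_model (R := R) (A₀ := A₀) (B₀ := B₀)
    ((Algebra.TensorProduct.comm A₀ B₀ A).toRingEquiv.trans e.toRingEquiv) fun a => ?_
  simp only [RingEquiv.trans_apply, AlgEquiv.coe_ringEquiv,
    Algebra.TensorProduct.comm_tmul]
  rw [← e.commutes a, Algebra.TensorProduct.algebraMap_apply, Algebra.algebraMap_self,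
    RingHom.id_apply]

end Groth.Agent.S0113
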