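import Groth.Statements.S5938
import Groth.Agent.S0113
import Mathlib

set_option autoImplicit false
universe u
open CategoryTheory AlgebraicGeometry
open Unram17

namespace Groth.Agent.S5938

/-- Ring-hom form of fppf descent of finite type. -/
theorem finiteType_of_comp {R A C : Type u} [CommRing R] [CommRing A] [CommRing C]
    (φ : R →+* A) (ψ : A →+* C) (h1 : ψ.FaithfullyFlat) (h2 : ψ.FinitePresentation)
    (h3 : (ψ.comp φ).FiniteType) : φ.FiniteType := by
  algebraize [φ, ψ, ψ.comp φ]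
  exact Groth.Agent.S0113.result (R := R) (A := A) (B := C)

/-- All three schemes affine. -/
theorem aux_affine {Z Y S : Scheme.{u}} [IsAffine Z] [IsAffine Y] [IsAffine S] (g : Z ⟶ Y)
    (q : Y ⟶ S) [Surjective g] [Flat g] [LocallyOfFinitePresentation g]
    [LocallyOfFiniteType (g ≫ q)] : LocallyOfFiniteType q := by
  rw [HasRingHomProperty.iff_of_isAffine (P := @LocallyOfFiniteType)]
  have h1 : g.appTop.hom.FaithfullyFlat :=
    (Flat.flat_and_surjective_iff_faithfullyFlat_of_isAffine g).1 ⟨inferInstance, inferInstance⟩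
  have h2 : g.appTop.hom.FinitePresentation :=
    (HasRingHomProperty.iff_of_isAffine (P := @LocallyOfFinitePresentation)).1 inferInstance
  have h3 : (g ≫ q).appTop.hom.FiniteType :=
    (HasRingHomProperty.iff_of_isAffine (P := @LocallyOfFiniteType)).1 inferInstance
  rw [Scheme.Hom.comp_appTop, CommRingCat.hom_comp] at h3
  exact finiteType_of_comp _ _ h1 h2 h3

/-- `Y` and `S` affine. -/
theorem aux_Y {X Y S : Scheme.{u}} [IsAffine Y] [IsAffine S] (f : X ⟶ Y)
    (q : Y ⟶ S) [Surjective f] [Flat f] [LocallyOfFinitePresentation f]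
    [LocallyOfFiniteType (f ≫ q)] : LocallyOfFiniteType q := by
  obtain ⟨V : X.Opens, hV, e⟩ := f.isOpenMap.exists_opens_image_eq_of_prespectralSpace
    f.continuous (by simp) isOpen_univ isCompact_univ
  haveI : CompactSpace V.toScheme := isCompact_iff_compactSpace.mp hV
  haveI : MorphismProperty.ContainsIdentities
      ((@Flat ⊓ @LocallyOfFinitePresentation : MorphismProperty Scheme.{u})) :=
    ⟨fun X => ⟨inferInstance, inferInstance⟩⟩
  obtain ⟨Z, p, hp1, ⟨hp2, hp3⟩, hZ⟩ := Scheme.exists_hom_isAffine_of_isZariskiLocalAtSource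
    (@Flat ⊓ @LocallyOfFinitePresentation : MorphismProperty Scheme.{u}) V.toScheme
  haveI : Flat p := hp2
  haveI : LocallyOfFinitePresentation p := hp3
  haveI : Surjective (p ≫ V.ι ≫ f) := by
    refine ⟨fun y => ?_⟩
    obtain ⟨x, hxV, hx⟩ := e.ge (Set.mem_univ y)
    obtain ⟨z, hz⟩ := hp1.surj ⟨x, hxV⟩
    refine ⟨z, ?_⟩
    rw [Scheme.Hom.comp_apply, Scheme.Hom.comp_apply, hz]
    exact hx
  haveI : LocallyOfFiniteType ((p ≫ V.ι ≫ f) ≫ q) := by
    have : (p ≫ V.ι ≫ f) ≫ q = p ≫ V.ι ≫ (f ≫ q) := by simp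
    rw [this]
    infer_instance
  exact aux_affine (p ≫ V.ι ≫ f) q

/-- `S` affine. -/
theorem aux_S {X Y S : Scheme.{u}} [IsAffine S] (f : X ⟶ Y)
    (q : Y ⟶ S) [Surjective f] [Flat f] [LocallyOfFinitePresentation f]
    [LocallyOfFiniteType (f ≫ q)] : LocallyOfFiniteType q := by
  rw [IsZariskiLocalAtSource.iff_of_iSup_eq_top (P := @LocallyOfFiniteType)
    (fun V : Y.affineOpens => V.1) (iSup_affineOpens_eq_top Y)]
  intro V
  haveI : IsAffine V.1.toScheme := V.2
  haveI : Surjective (f ∣_ V.1) :=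
    IsZariskiLocalAtTarget.restrict (P := @Surjective) inferInstance _
  haveI : Flat (f ∣_ V.1) :=
    IsZariskiLocalAtTarget.restrict (P := @Flat) inferInstance _
  haveI : LocallyOfFinitePresentation (f ∣_ V.1) :=
    IsZariskiLocalAtTarget.restrict (P := @LocallyOfFinitePresentation) inferInstance _
  haveI : LocallyOfFiniteType ((f ∣_ V.1) ≫ V.1.ι ≫ q) := by
    rw [morphismRestrict_ι_assoc]
    infer_instance
  exact aux_Y (f ∣_ V.1) (V.1.ι ≫ q)

/-- Let f : X ⟶ Y be faithfully flat (flat and surjective) and locally of finite presentation, and let g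
: Y ⟶ Z be a morphism such that f ≫ g is locally of finite type. Then g is locally of finite type. -/
theorem result {X Y Z : Scheme.{u}} (f : X ⟶ Y) (g : Y ⟶ Z)
    [Surjective f] [Flat f] [LocallyOfFinitePresentation f] [LocallyOfFiniteType (f ≫ g)] :
    LocallyOfFiniteType g := by
  rw [IsZariskiLocalAtTarget.iff_of_iSup_eq_top (P := @LocallyOfFiniteType)
    (fun W : Z.affineOpens => W.1) (iSup_affineOpens_eq_top Z)]
  intro W
  haveI : IsAffine W.1.toScheme := W.2
  haveI : Surjective (f ∣_ (g ⁻¹ᵁ W.1)) :=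
    IsZariskiLocalAtTarget.restrict (P := @Surjective) inferInstance _
  haveI : Flat (f ∣_ (g ⁻¹ᵁ W.1)) :=
    IsZariskiLocalAtTarget.restrict (P := @Flat) inferInstance _
  haveI : LocallyOfFinitePresentation (f ∣_ (g ⁻¹ᵁ W.1)) :=
    IsZariskiLocalAtTarget.restrict (P := @LocallyOfFinitePresentation) inferInstance _
  haveI : LocallyOfFiniteType ((f ∣_ (g ⁻¹ᵁ W.1)) ≫ (g ∣_ W.1)) := by
    rw [← morphismRestrict_comp]
    exact IsZariskiLocalAtTarget.restrict (P := @LocallyOfFiniteType) inferInstance _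
  exact aux_S (f ∣_ (g ⁻¹ᵁ W.1)) (g ∣_ W.1)

end Groth.Agent.S5938
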