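import Groth.Statements.S5311
import Groth.Agent.Lib.Helper25TopGrp
import Groth.Agent.Lib.Helper11SchImageT
import Mathlib

set_option autoImplicit false
universe u
open CategoryTheory CategoryTheory.Limits MonoidalCategory CartesianMonoidalCategory MonObj GrpObj AlgebraicGeometry
open SGA3

namespace Groth.Agent.S5311

section
variable {S : Scheme.{u}}

-- `q × id` is the base change of `q` along the first projection.
theorem isPullback_whiskerRight' {Y Z : Over S} (q : Y ⟶ Z) (X : Over S) :
    IsPullback (fst Y X).left (q ▷ X).left q.left (fst Z X).left := by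
  have hr : IsPullback (snd Z X).left (fst Z X).left X.hom Z.hom :=
    (IsPullback.of_hasPullback Z.hom X.hom).flip
  have h1 : (q ▷ X).left ≫ (snd Z X).left = (snd Y X).left := by
    rw [← Over.comp_left, whiskerRight_snd]
  have h2 : (q ▷ X).left ≫ (fst Z X).left = (fst Y X).left ≫ q.left := by
    rw [← Over.comp_left, whiskerRight_fst, Over.comp_left]
  have ho : IsPullback ((q ▷ X).left ≫ (snd Z X).left) (fst Y X).left X.hom (q.left ≫ Z.hom) := by
    rw [h1, Over.w q]
    exact (IsPullback.of_hasPullback Y.hom X.hom).flip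
  exact (IsPullback.of_right ho h2 hr).flip

-- right translation by a `T`-point of `G`, as an automorphism of `G × T`
theorem isIso_rightTranslate (G : Over S) [GrpObj G] {T : Over S} (t : T ⟶ G) :
    IsIso (lift (fst G T * (snd G T ≫ t)) (snd G T)).left := by
  let r : G ⊗ T ⟶ G ⊗ T := lift (fst G T * (snd G T ≫ t)) (snd G T)
  let r' : G ⊗ T ⟶ G ⊗ T := lift (fst G T * (snd G T ≫ t)⁻¹) (snd G T)
  have h1 : r ≫ r' = 𝟙 _ := by
    apply CartesianMonoidalCategory.hom_ext
    · simp only [r, r', Category.assoc, lift_fst, Category.id_comp]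
      rw [MonObj.comp_mul, GrpObj.comp_inv, lift_fst, ← Category.assoc, lift_snd,
        mul_inv_cancel_right]
    · simp [r, r']
  have h2 : r' ≫ r = 𝟙 _ := by
    apply CartesianMonoidalCategory.hom_ext
    · simp only [r, r', Category.assoc, lift_fst, Category.id_comp]
      rw [MonObj.comp_mul, lift_fst, ← Category.assoc, lift_snd, inv_mul_cancel_right]
    · simp [r, r']
  exact ⟨r'.left, by rw [← Over.comp_left, h1]; rfl, by rw [← Over.comp_left, h2]; rfl⟩

end

/-- Let u : G → H be a homomorphism of S-group schemes with G or H universally open over S, and let V be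
the largest open subscheme of G on which the restriction of u is universally open. Then the image U
of V in S is open and V is an open subgroup scheme of G over U: V contains the unit point of every
fibre of G that it meets, V is stable under the inversion of G, and the product of a point of G ×_S
G whose two projections lie in V lies in V. -/
theorem result (S : Scheme.{u}) (G H : Over S) [GrpObj G] [GrpObj H]
    (u : G ⟶ H) [IsMonHom u] (hG : UniversallyOpen G.hom ∨ UniversallyOpen H.hom)
    (V : G.left.Opens) (hV : UniversallyOpen (V.ι ≫ u.left))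
    (hmax : ∀ W : G.left.Opens, UniversallyOpen (W.ι ≫ u.left) → W ≤ V) :
    IsOpen (G.hom.base '' (V : Set G.left)) ∧
    (∀ g ∈ V, ∀ p : ↥(𝟙_ (Over S)).left, (𝟙_ (Over S)).hom.base p = G.hom.base g → η[G].left.base p ∈ V) ∧
    (∀ g ∈ V, ι[G].left.base g ∈ V) ∧
    (∀ z : ↥(G ⊗ G).left, (fst G G).left.base z ∈ V → (snd G G).left.base z ∈ V → μ[G].left.base z ∈ V) := by
  haveI := hV
  -- `V → S` is universally open
  haveI hVS : UniversallyOpen (V.ι ≫ G.hom) := by
    rcases hG with h | h
    · haveI := h; infer_instance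
    · haveI := h
      rw [← Over.w u, ← Category.assoc]
      infer_instance
  let VO : Over S := Over.mk (V.ι ≫ G.hom)
  let ιV : VO ⟶ G := Over.homMk V.ι rfl
  have hιV : ιV.left = V.ι := rfl
  haveI : UniversallyOpen VO.hom := hVS
  -- the inverse
  have hinv : ∀ g : G.left, ι[G].left.base g ∈ V → g ∈ V := by
    intro g hg
    let W' : G.left.Opens := ι[G].left ⁻¹ᵁ V
    have hW' : UniversallyOpen (W'.ι ≫ u.left) := by
      have e1 : W'.ι ≫ u.left = (ι[G].left ∣_ V) ≫ (V.ι ≫ u.left) ≫ ι[H].left := by
        rw [← Category.assoc, ← Category.assoc, morphismRestrict_ι, Category.assoc, Category.assoc,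
          ← Over.comp_left, ← Over.comp_left, ← GrpObj.inv_hom, ← Category.assoc,
          GrpObj.inv_comp_inv, Category.id_comp]
      rw [e1]
      haveI : IsIso ι[G].left :=
        ⟨ι[G].left, by rw [← Over.comp_left, GrpObj.inv_comp_inv]; rfl,
          by rw [← Over.comp_left, GrpObj.inv_comp_inv]; rfl⟩
      haveI : IsIso ι[H].left :=
        ⟨ι[H].left, by rw [← Over.comp_left, GrpObj.inv_comp_inv]; rfl,
          by rw [← Over.comp_left, GrpObj.inv_comp_inv]; rfl⟩
      infer_instance
    exact hmax W' hW' hg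
  -- the product
  have hmul : ∀ z : ↥(G ⊗ G).left, (fst G G).left.base z ∈ V → (snd G G).left.base z ∈ V →
      μ[G].left.base z ∈ V := by
    intro z hz1 hz2
    let m : VO ⊗ VO ⟶ G := (ιV ⊗ₘ ιV) ≫ μ[G]
    let r : G ⊗ VO ⟶ G ⊗ VO := lift (fst G VO * (snd G VO ≫ ιV)) (snd G VO)
    let rH : H ⊗ VO ⟶ H ⊗ VO := lift (fst H VO * (snd H VO ≫ ιV ≫ u)) (snd H VO)
    haveI : IsIso r.left := isIso_rightTranslate G ιV
    haveI : IsIso rH.left := isIso_rightTranslate H (ιV ≫ u)
    have hm : m = (ιV ▷ VO) ≫ r ≫ fst G VO := by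
      simp only [m, r]
      rw [lift_fst, MonObj.comp_mul, whiskerRight_fst, ← Category.assoc, whiskerRight_snd,
        MonObj.mul_eq_mul G, MonObj.comp_mul, tensorHom_fst, tensorHom_snd]
    have hmu : m ≫ u = ((ιV ≫ u) ▷ VO) ≫ rH ≫ fst H VO := by
      simp only [m, rH]
      rw [lift_fst, MonObj.comp_mul, whiskerRight_fst, ← Category.assoc ((ιV ≫ u) ▷ VO),
        whiskerRight_snd, Category.assoc, IsMonHom.mul_hom, ← Category.assoc,
        tensorHom_comp_tensorHom, MonObj.mul_eq_mul H, MonObj.comp_mul, tensorHom_fst,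
        tensorHom_snd]
    haveI hjV : IsOpenImmersion (ιV ▷ VO).left :=
      MorphismProperty.of_isPullback (P := @IsOpenImmersion) (isPullback_whiskerRight' ιV VO)
        (inferInstanceAs (IsOpenImmersion V.ι))
    haveI : UniversallyOpen (fst G VO).left := by rw [Over.fst_left]; infer_instance
    haveI : UniversallyOpen (fst H VO).left := by rw [Over.fst_left]; infer_instance
    have hmopen : IsOpenMap m.left := by
      rw [hm, Over.comp_left, Over.comp_left]
      exact ((ιV ▷ VO).left ≫ r.left ≫ (fst G VO).left).isOpenMap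
    haveI : UniversallyOpen ((ιV ≫ u) ▷ VO).left :=
      MorphismProperty.of_isPullback (P := @UniversallyOpen)
        (isPullback_whiskerRight' (ιV ≫ u) VO) (by rw [Over.comp_left]; exact hV)
    have hmuo : UniversallyOpen (m.left ≫ u.left) := by
      rw [← Over.comp_left, hmu, Over.comp_left, Over.comp_left]
      infer_instance
    let W : G.left.Opens := ⟨Set.range m.left, hmopen.isOpen_range⟩
    let m' : (VO ⊗ VO).left ⟶ W := IsOpenImmersion.lift W.ι m.left (by simp [W])
    have hfac : m' ≫ W.ι = m.left := IsOpenImmersion.lift_fac _ _ _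
    haveI : Surjective m' := ⟨fun ⟨x, ⟨y, hy⟩⟩ ↦
      ⟨y, by apply W.ι.injective; simp [← Scheme.Hom.comp_apply, m', hy]⟩⟩
    haveI : UniversallyOpen (m' ≫ W.ι ≫ u.left) := by rw [← Category.assoc, hfac]; exact hmuo
    have hW : UniversallyOpen (W.ι ≫ u.left) :=
      Groth.Agent.Lib.Helper25.TopGrp.universallyOpen_of_comp_of_surjective m' (W.ι ≫ u.left)
    have hWV := hmax W hW
    obtain ⟨w, hw⟩ := Groth.Agent.Lib.Helper11SchImage.exists_tensor_preimage ιV ιV z
      ⟨_, hz1⟩ ⟨_, hz2⟩ rfl rfl
    apply hWV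
    refine ⟨w, ?_⟩
    change m.left w = μ[G].left z
    simp only [m]
    rw [Over.comp_left, Scheme.Hom.comp_apply, hw]
  refine ⟨?_, ?_, fun g hg => ?_, hmul⟩
  · have : G.hom.base '' (V : Set G.left) = Set.range (V.ι ≫ G.hom) := by
      ext s
      constructor
      · rintro ⟨g, hg, rfl⟩
        exact ⟨⟨g, hg⟩, rfl⟩
      · rintro ⟨⟨g, hg⟩, rfl⟩
        exact ⟨g, hg, rfl⟩
    rw [this]
    exact (V.ι ≫ G.hom).isOpenMap.isOpen_range
  · intro g hg p hp
    have hg' : ι[G].left.base g ∈ V := hinv _ (by
      rw [← Scheme.Hom.comp_apply, ← Over.comp_left, GrpObj.inv_comp_inv]; exact hg)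
    have h1 := hmul ((lift (𝟙 G) ι[G]).left g)
      (by rw [← Scheme.Hom.comp_apply, ← Over.comp_left, lift_fst]; exact hg)
      (by rw [← Scheme.Hom.comp_apply, ← Over.comp_left, lift_snd]; exact hg')
    rw [← Scheme.Hom.comp_apply, ← Over.comp_left, GrpObj.right_inv, Over.comp_left,
      Scheme.Hom.comp_apply] at h1
    have e0 : (𝟙_ (Over S)).hom = 𝟙 _ := rfl
    have e1 : (toUnit G).left g = p := by
      have h2 := Over.w (toUnit G)
      rw [e0, Category.comp_id] at h2
      rw [e0] at hp
      rw [h2]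
      exact hp.symm
    rw [e1] at h1
    exact h1
  · exact hinv _ (by
      rw [← Scheme.Hom.comp_apply, ← Over.comp_left, GrpObj.inv_comp_inv]; exact hg)

end Groth.Agent.S5311
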