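import Groth.Statements.S5370
import Mathlib
import Groth.Agent.Lib.Helper12Cart
import Groth.Agent.Lib.Helper12Torsor

set_option autoImplicit false
universe u
open CategoryTheory CategoryTheory.Limits MonoidalCategory CartesianMonoidalCategory MonObj GrpObj AlgebraicGeometry
open SGA3

namespace Groth.Agent.S5370


open Groth.Agent.Lib.Helper12

set_option backward.isDefEq.respectTransparency.types false in
/-- Sections inject along a flat surjective morphism. -/
lemma app_injective_of_flat_of_surjective {Z Y : Scheme.{u}} (q : Z ⟶ Y) [Flat q] [Surjective q]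
    (V : Y.Opens) : Function.Injective (q.app V) := by
  rw [injective_iff_map_eq_zero]
  intro s hs
  refine TopCat.Presheaf.section_ext Y.sheaf V s 0 fun x hx => ?_
  obtain ⟨z, rfl⟩ := q.surjective x
  have hinj : Function.Injective (q.stalkMap z) := by
    algebraize [(q.stalkMap z).hom]
    have : Module.FaithfullyFlat (Y.presheaf.stalk (q z)) (Z.presheaf.stalk z) :=
      @Module.FaithfullyFlat.of_flat_of_isLocalHom _ _ _ _ _ _ _
        (Flat.stalkMap q z) (q.toLRSHom.prop z)
    exact ‹RingHom.FaithfullyFlat _›.injective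
  apply hinj
  change q.stalkMap z (Y.presheaf.germ V (q z) hx s) = q.stalkMap z (Y.presheaf.germ V (q z) hx 0)
  rw [Scheme.Hom.germ_stalkMap_apply, Scheme.Hom.germ_stalkMap_apply, hs, map_zero, map_zero,
    map_zero]


lemma isReduced_of_factor {Z G Y : Scheme.{u}} (q : Z ⟶ Y) (r : Z ⟶ G) (p : G ⟶ Y)
    (h : r ≫ p = q) [Flat q] [Surjective q] [IsReduced G] : IsReduced Y := by
  refine ⟨fun V => ?_⟩
  have hinj : Function.Injective (p.app V) := by
    have := app_injective_of_flat_of_surjective q V
    subst h
    rw [Scheme.Hom.comp_app] at this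
    exact Function.Injective.of_comp this
  exact isReduced_of_injective (p.app V).hom hinj


/-- A flat surjective morphism with the fpqc quasi-compactness condition is an fpqc covering. -/
lemma singleton_mem_fpqcPrecoverage {Z Y : Scheme.{u}} (q : Z ⟶ Y) [Flat q] [Surjective q]
    (hqc : ∀ V : Y.Opens, IsAffineOpen V →
      ∃ W : Z.Opens, IsCompact (W : Set Z) ∧ q.base '' (W : Set Z) = (V : Set Y)) :
    Presieve.singleton q ∈ Scheme.fpqcPrecoverage Y := by
  refine ⟨?_, ?_⟩
  · rw [Scheme.qcPrecoverage, PreZeroHypercoverFamily.mem_precoverage_iff]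
    refine ⟨(q.cover (P := ⊤) trivial).toPreZeroHypercover, ?_, by simp⟩
    simp only [Scheme.qcCoverFamily_property, Scheme.quasiCompactCover_iff]
    refine ⟨fun {U} hU => ?_⟩
    obtain ⟨W, hW, hWU⟩ := hqc U hU
    rw [← hWU]
    exact IsCompactOpenCovered.image (f := fun i => ((q.cover (P := ⊤) trivial).f i).base)
      (i := ⟨⟩) W hW
  · exact (Scheme.singleton_mem_precoverage_iff (P := @Flat) q).mpr ⟨‹Surjective q›.surj, ‹Flat q›⟩


open MorphismProperty in
/-- Descent of a property of `p` along an fpqc covering `q` which factors through `p`, given that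
the base change of `p` along itself has the property. -/
lemma of_fpqc_factor {P : MorphismProperty Scheme.{u}} [IsZariskiLocalAtTarget P]
    [P.IsStableUnderBaseChange]
    (hP : P.DescendsAlong (@Surjective ⊓ @Flat ⊓ @QuasiCompact : MorphismProperty Scheme.{u}))
    {X Y Z W : Scheme.{u}} (p : X ⟶ Y) (q : Z ⟶ Y) (r : Z ⟶ X) (hrq : r ≫ p = q)
    (hq : Presieve.singleton q ∈ Scheme.fpqcPrecoverage Y) {a b : W ⟶ X}
    (hpb : IsPullback a b p p) (hb : P b) : P p := by
  apply of_mem_fpqcPrecoverage hP p (Presieve.singleton q) hq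
  rintro Y' f ⟨⟩
  subst hrq
  have h1 := IsPullback.of_bot' (IsPullback.of_hasPullback p (r ≫ p)).flip hpb.flip
  exact P.of_isPullback h1.flip hb


/-- `G' ⟶ S` is a base change of the projection `G ×_S G' ⟶ G` (along the unit section). -/
lemma hom_of_fst {P : MorphismProperty Scheme.{u}} [P.RespectsIso] [P.IsStableUnderBaseChange]
    {S : Scheme.{u}} (G G' : Over S) [GrpObj G] (h : P (fst G G').left) : P G'.hom := by
  have h1 := (isPullback_whiskerRight G' (η[G])).map (Over.forget S)
  have h2 : P (fst (𝟙_ (Over S)) G').left := P.of_isPullback h1 h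
  have h3 : toUnit G' = (λ_ G').inv ≫ fst (𝟙_ (Over S)) G' := toUnit_unique _ _
  have h4 : G'.hom = (λ_ G').inv.left ≫ (fst (𝟙_ (Over S)) G').left := by
    rw [← Over.comp_left, ← h3]; rfl
  rw [h4]
  have : IsIso (λ_ G').inv.left := inferInstanceAs (IsIso ((Over.forget S).map (λ_ G').inv))
  exact (P.cancel_left_of_respectsIso _ _).mpr h2



/-- Let u : G' → G be a monomorphism of S-group schemes and p : G → G'' a morphism of S-schemes which is
covering for the fpqc topology (some Z → G'' which is flat, surjective, with every affine open of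
G'' the image of a quasi-compact open of Z, factors through p) and such that the square (g, h) ↦
g·u(h), first projection G ×_S G' → G, p, p is cartesian, so that G'' represents the fpqc quotient
sheaf G/G'. Then: (ix) if G is reduced, G'' is reduced; (xi) G' is flat over S if and only if p is
flat, and in that case G'' is flat over S if and only if G is flat over S. -/
theorem result (S : Scheme.{u}) (G G' G'' : Over S) [GrpObj G] [GrpObj G']
    (u : G' ⟶ G) [IsMonHom u] [Mono u] (p : G ⟶ G'')
    (hcov : (∃ (Z : Scheme.{u}) (q : Z ⟶ G''.left) (r : Z ⟶ G.left), r ≫ p.left = q ∧ Surjective q ∧ Flat q ∧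
        ∀ V : G''.left.Opens, IsAffineOpen V → ∃ W : Z.Opens, IsCompact (W : Set Z) ∧ q.base '' (W : Set Z) = (V : Set G''.left)))
    (hsq : IsPullback ((G ◁ u) ≫ μ[G]) (fst G G') p p) :
    (IsReduced G.left → IsReduced G''.left) ∧
    (Flat G'.hom ↔ Flat p.left) ∧ (Flat p.left → (Flat G''.hom ↔ Flat G.hom)) := by
  obtain ⟨Z, q, r, hrq, hqs, hqf, hqc⟩ := hcov
  have hq := singleton_mem_fpqcPrecoverage q hqc
  have hsq' := hsq.map (Over.forget S)
  have hps : Surjective p.left := ⟨fun y => by
    obtain ⟨z, hz⟩ := hqs.surj y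
    exact ⟨r z, by rw [← Scheme.Hom.comp_apply, hrq, hz]⟩⟩
  refine ⟨fun hG => isReduced_of_factor q r p.left hrq, ⟨?_, ?_⟩, ?_⟩
  · intro hG'
    have hfst : Flat (fst G G').left :=
      inferInstanceAs (Flat (pullback.fst G.hom G'.hom))
    exact of_fpqc_factor (P := @Flat) descendsAlong_flat p.left q r hrq hq hsq' hfst
  · intro hp
    have hfst : Flat (fst G G').left := MorphismProperty.of_isPullback (P := @Flat) hsq' hp
    exact hom_of_fst (P := @Flat) G G' hfst
  · intro hp
    have hw : p.left ≫ G''.hom = G.hom := Over.w p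
    constructor
    · intro hG''
      rw [← hw]
      infer_instance
    · intro hG
      have : Flat (p.left ≫ G''.hom) := by rw [hw]; exact hG
      exact flat_of_comp_of_flat_of_surjective p.left G''.hom

end Groth.Agent.S5370
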