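import Groth.Statements.S1128
-- import your own Groth.Agent.* helpers here

set_option autoImplicit false
open CategoryTheory CategoryTheory.Limits AlgebraicGeometry Opposite
universe u
open Desc

namespace Groth.Agent.S1128

open TensorProduct in
lemma flat_of_flat_of_faithfullyFlat (A B C : Type u) [CommRing A] [CommRing B] [CommRing C]
    [Algebra A B] [Algebra B C] [Algebra A C] [IsScalarTower A B C]
    [Module.FaithfullyFlat B C] [Module.Flat A C] : Module.Flat A B := by
  rw [Module.Flat.iff_lTensor_preserves_injective_linearMap]
  intro N P _ _ _ _ f hf
  have h0 : Function.Injective (f.baseChange B) := by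
    rw [← Module.FaithfullyFlat.lTensor_injective_iff_injective B C]
    have key : (AlgebraTensorModule.cancelBaseChange A B C C P).toLinearMap.restrictScalars B ∘ₗ
        (f.baseChange B).lTensor C =
        ((f.baseChange C).restrictScalars B) ∘ₗ
          (AlgebraTensorModule.cancelBaseChange A B C C N).toLinearMap.restrictScalars B := by
      ext c n
      simp
    have hinj : Function.Injective (⇑((f.baseChange C).restrictScalars B) ∘
          ⇑((AlgebraTensorModule.cancelBaseChange A B C C N).toLinearMap.restrictScalars B)) :=
      Function.Injective.comp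
        (by exact Module.Flat.lTensor_preserves_injective_linearMap (M := C) f hf)
        (AlgebraTensorModule.cancelBaseChange A B C C N).injective
    rw [← LinearMap.coe_comp, ← key, LinearMap.coe_comp] at hinj
    exact Function.Injective.of_comp hinj
  exact h0

/-- If f is flat and surjective and the composite of f with g is flat, then g is flat; together with
stability of flatness under composition this says flatness is fpqc local on the source. -/
theorem result {X' X Y : Scheme.{u}} (f : X' ⟶ X) (g : X ⟶ Y) [Flat f]
    [Surjective f] [Flat (f ≫ g)] : Flat g := by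
  rw [Flat.iff_flat_stalkMap]
  intro x
  obtain ⟨x', rfl⟩ := f.surjective x
  have h1 : ((f ≫ g).stalkMap x').hom.Flat := Flat.stalkMap (f ≫ g) x'
  have h2 : (f.stalkMap x').hom.Flat := Flat.stalkMap f x'
  rw [Scheme.Hom.stalkMap_comp] at h1
  set φ := (g.stalkMap (f x')).hom with hφ
  set ψ := (f.stalkMap x').hom with hψ
  have h1' : (ψ.comp φ).Flat := h1
  have hloc : IsLocalHom ψ := inferInstance
  algebraize [φ, ψ, ψ.comp φ]
  have : Module.FaithfullyFlat (X.presheaf.stalk (f x')) (X'.presheaf.stalk x') :=
    Module.FaithfullyFlat.of_flat_of_isLocalHom
  exact flat_of_flat_of_faithfullyFlat (Y.presheaf.stalk (g (f x'))) (X.presheaf.stalk (f x'))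
    (X'.presheaf.stalk x')

end Groth.Agent.S1128
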