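import Groth.Statements.S10267
import Mathlib
import Groth.Agent.Lib.Helper12ZarGlue

set_option autoImplicit false
universe u
open CategoryTheory CategoryTheory.Limits AlgebraicGeometry
open AlgSp

namespace Groth.Agent.S10267





/-- (1) ⇔ (2): a morphism of algebraic spaces is integral (resp. finite), tested on affine schemes over
the target, if and only if it is representable with integral (resp. finite) base changes to all
schemes. -/
theorem result {S : Scheme.{u}} {X Y : AlgSp.Space S} (f : X ⟶ Y) :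
    (AlgSp.IsIntegralMor f.hom ↔ AlgSp.RepWith @IsIntegralHom f.hom) ∧
    (AlgSp.IsFiniteMor f.hom ↔ AlgSp.RepWith @IsFinite f.hom) := by
  refine ⟨⟨fun hf => ?_, fun hf Z hZ g => ?_⟩, ⟨fun hf => ?_, fun hf Z hZ g => ?_⟩⟩
  · refine Groth.Agent.Lib.Helper12.ZarGlue.repWith_of_affine @IsIntegralHom f.hom (fun Z hZ g => ?_)
    obtain ⟨W, i, fst, sq, -, hW⟩ := hf hZ g
    exact ⟨W, i, fst, sq, hW⟩
  · obtain ⟨W, snd, fst, sq⟩ := hf.1 g
    haveI : IsIntegralHom snd.left := hf.2 g fst snd sq
    haveI := hZ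
    exact ⟨W, snd, fst, sq, isAffine_of_isAffineHom snd.left, inferInstance⟩
  · refine Groth.Agent.Lib.Helper12.ZarGlue.repWith_of_affine @IsFinite f.hom (fun Z hZ g => ?_)
    obtain ⟨W, i, fst, sq, -, hW⟩ := hf hZ g
    exact ⟨W, i, fst, sq, hW⟩
  · obtain ⟨W, snd, fst, sq⟩ := hf.1 g
    haveI : IsFinite snd.left := hf.2 g fst snd sq
    haveI := hZ
    exact ⟨W, snd, fst, sq, isAffine_of_isAffineHom snd.left, inferInstance⟩

end Groth.Agent.S10267
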