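import Groth.Statements.S10271
import Mathlib
import Groth.Agent.Lib.Helper12ProperLoc

set_option autoImplicit false
universe u
open CategoryTheory CategoryTheory.Limits AlgebraicGeometry
open AlgSp

namespace Groth.Agent.S10271





/-- A morphism of algebraic spaces is finite if and only if it is affine and proper. -/
theorem result {S : Scheme.{u}} {X Y : AlgSp.Space S} (f : X ⟶ Y) :
    AlgSp.IsFiniteMor f.hom ↔ (AlgSp.IsAffineMor f.hom ∧ AlgSp.IsProperMor f.hom) := by
  constructor
  · intro h
    refine ⟨fun Z hZ g => ?_, Groth.Agent.Lib.Helper12.ProperLoc.isProperMor_of_isFiniteMor f h⟩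
    obtain ⟨W, i, fst, sq, hW, -⟩ := h hZ g
    exact ⟨W, i, fst, sq, hW⟩
  · intro h
    obtain ⟨ha, hp⟩ := h
    intro Z hZ g
    obtain ⟨W, i, fst, sq, hW⟩ := ha hZ g
    refine ⟨W, i, fst, sq, hW, ?_⟩
    have hpi : AlgSp.IsProperMor ((AlgSp.yon S).map i) :=
      Groth.Agent.Lib.Helper12.Proper.isProperMor_baseChange X.property Y.property
        (AlgSp.IsAlgSpace.yon_obj Z) sq hp
    haveI : IsProper i.left :=
      Groth.Agent.Lib.Helper12.ProperLoc.isProper_of_isProperMor_yon_map i hpi
    haveI : IsAffine W.left := hW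
    haveI : IsAffine Z.left := hZ
    exact IsFinite.iff_isProper_and_isAffineHom.2 ⟨inferInstance, inferInstance⟩

end Groth.Agent.S10271
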