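import Groth.Statements.S10272
import Mathlib

set_option autoImplicit false
universe u
open CategoryTheory CategoryTheory.Limits AlgebraicGeometry
open AlgSp

namespace Groth.Agent.S10272


open CategoryTheory.Limits Opposite MorphismProperty

variable {S : Scheme.{u}}

/-- the common shape of affine/integral/finite morphisms of sheaves. -/
def AffTest (Q : MorphismProperty Scheme.{u}) {F G : AlgSp.Sp S} (f : F ⟶ G) : Prop :=
  ∀ ⦃Z : Over S⦄, IsAffine Z.left → ∀ (g : (AlgSp.yon S).obj Z ⟶ G),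
    ∃ (W : Over S) (i : W ⟶ Z) (fst : (AlgSp.yon S).obj W ⟶ F),
      IsPullback fst ((AlgSp.yon S).map i) f g ∧ IsAffine W.left ∧ Q i.left

lemma affTest_of_isPullback (Q : MorphismProperty Scheme.{u}) {F G G' P : AlgSp.Sp S} {f : F ⟶ G}
    {g' : G' ⟶ G} {fst : P ⟶ F} {snd : P ⟶ G'} (sq : IsPullback fst snd f g') (hf : AffTest Q f) :
    AffTest Q snd := by
  intro Z hZ c
  obtain ⟨W, i, a, sqW, hW⟩ := hf hZ (c ≫ g')
  have hw : a ≫ f = ((AlgSp.yon S).map i ≫ c) ≫ g' := by rw [Category.assoc]; exact sqW.w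
  refine ⟨W, i, sq.lift a ((AlgSp.yon S).map i ≫ c) hw, ?_, hW⟩
  refine IsPullback.of_right ?_ (sq.lift_snd _ _ _) sq
  rw [sq.lift_fst]
  exact sqW

lemma affTest_comp (Q : MorphismProperty Scheme.{u}) [Q.IsStableUnderComposition]
    {F G H : AlgSp.Sp S} (f1 : F ⟶ G) (f2 : G ⟶ H)
    (h1 : AffTest Q f1) (h2 : AffTest Q f2) : AffTest Q (f1 ≫ f2) := by
  intro Z hZ c
  obtain ⟨W2, i2, a2, sq2, hW2, hQ2⟩ := h2 hZ c
  obtain ⟨W1, i1, a1, sq1, hW1, hQ1⟩ := h1 hW2 a2
  refine ⟨W1, i1 ≫ i2, a1, ?_, hW1, ?_⟩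
  · rw [Functor.map_comp]
    exact sq1.paste_vert sq2
  · rw [Over.comp_left]
    exact Q.comp_mem _ _ hQ1 hQ2

lemma affTest_of_isClosedImmersion (Q : MorphismProperty Scheme.{u})
    (hQ : ∀ {A B : Scheme.{u}} (i : A ⟶ B), IsClosedImmersion i → Q i) {F G : AlgSp.Sp S}
    (f : F ⟶ G) (hf : AlgSp.RepWith @IsClosedImmersion f) : AffTest Q f := by
  intro Z hZ c
  obtain ⟨W, i, a, sq⟩ := hf.1 c
  haveI : IsClosedImmersion i.left := hf.2 _ _ i sq
  haveI : IsAffine Z.left := hZ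
  exact ⟨W, i, a, sq, isAffine_of_isAffineHom i.left, hQ _ inferInstance⟩

lemma affTest_of_diagonal (Q : MorphismProperty Scheme.{u}) [Q.IsStableUnderComposition]
    (hQ : ∀ {A B : Scheme.{u}} (i : A ⟶ B), IsClosedImmersion i → Q i)
    {X Y B : AlgSp.Sp S} (g : X ⟶ Y) (q : Y ⟶ B)
    (hp : AffTest Q (g ≫ q)) (hΔ : AlgSp.RepWith @IsClosedImmersion (pullback.diagonal q)) :
    AffTest Q g := by
  have sq := pullback_lift_diagonal_isPullback g q
  have hΓ : AffTest Q (pullback.lift (𝟙 X) g (by simp) : X ⟶ pullback (g ≫ q) q) :=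
    affTest_of_isPullback Q sq (affTest_of_isClosedImmersion Q hQ _ hΔ)
  have hsnd : AffTest Q (pullback.snd (g ≫ q) q) :=
    affTest_of_isPullback Q (IsPullback.of_hasPullback (g ≫ q) q) hp
  have e1 : g = (pullback.lift (𝟙 X) g (by simp) : X ⟶ pullback (g ≫ q) q) ≫
      pullback.snd (g ≫ q) q := by rw [pullback.lift_snd]
  rw [e1]
  exact affTest_comp Q _ _ hΓ hsnd



/-- If g is separated and the composite of f and g is finite (resp. integral) then f is finite (resp.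
integral). -/
theorem result {S : Scheme.{u}} {X Y Z : AlgSp.Space S} (f : X ⟶ Y) (g : Y ⟶ Z)
    (hg : AlgSp.IsSeparatedMor g.hom) :
    (AlgSp.IsFiniteMor (f ≫ g).hom → AlgSp.IsFiniteMor f.hom) ∧
    (AlgSp.IsIntegralMor (f ≫ g).hom → AlgSp.IsIntegralMor f.hom) := by
  constructor
  · intro h
    exact affTest_of_diagonal @IsFinite (fun i hi => by haveI := hi; infer_instance) f.hom g.hom h hg
  · intro h
    exact affTest_of_diagonal @IsIntegralHom (fun i hi => by haveI := hi; infer_instance)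
      f.hom g.hom h hg

end Groth.Agent.S10272
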