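import Groth.Statements.S1419
import Groth.Agent.Lib.Helper2Weight2

set_option autoImplicit false
universe u
open FlatMor

namespace Groth.Agent.S1419

open AlgebraicGeometry CategoryTheory Limits in
/-- Let f be locally quasi-finite with a weighting w, and let f' : X' → Y' be a base change of f with
projection h : X' → X. Then w ∘ h is a weighting of f'. -/
theorem result {X Y : Scheme.{u}} (f : X ⟶ Y) [LocallyQuasiFinite f] [LocallyOfFiniteType f] (w : ↑X → ℤ) (hw : MoreMor.IsWeighting f w)
    {X' Y' : Scheme.{u}} (f' : X' ⟶ Y') (h : X' ⟶ X) (g : Y' ⟶ Y) (hc : IsPullback h f' f g) :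
    MoreMor.IsWeighting f' (w ∘ ⇑h) := by
  intro V' g' _ U' hfin
  haveI := hfin
  have hsq : IsPullback (pullback.fst f' g' ≫ h) (pullback.snd f' g') f (g' ≫ g) :=
    (IsPullback.of_hasPullback f' g').paste_horiz hc
  have hL := Groth.Agent.Lib.Helper2.Weight.isLocallyConstant_fI f w hw
    (pullback.fst f' g' ≫ h) (pullback.snd f' g') (g' ≫ g) hsq U'
  have e : MoreMor.fibreIntegral (U'.ι ≫ pullback.snd f' g')
      (fun u => (w ∘ ⇑h) (pullback.fst f' g' (U'.ι u))) =
      Groth.Agent.Lib.Helper2.Weight.fI (pullback.snd f' g')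
        (w ∘ ⇑(pullback.fst f' g' ≫ h)) U' :=
    funext fun v' => Groth.Agent.Lib.Helper2.Weight.fibreIntegral_opens U' _
      (w ∘ ⇑(pullback.fst f' g' ≫ h)) v'
  rw [e]
  exact hL

end Groth.Agent.S1419
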