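import Groth.Statements.S1428
import Groth.Agent.Lib.Helper2Weight2
import Groth.Agent.S1419

set_option autoImplicit false
universe u
open FlatMor

namespace Groth.Agent.S1428

open AlgebraicGeometry CategoryTheory Limits in
/-- Let f : X → Y be separated, locally of finite type and locally quasi-finite with finite fibres, w a
positive weighting of f, and suppose the fibre integral of w is at most d at every point of Y and
equals d at some point. Then the set Y_d of points where the integral equals d is open and the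
restriction of f over Y_d is finite. (Finiteness of the fibres, which makes the fibre integral a
finite sum, is carried here as an explicit hypothesis.) -/
theorem result {X Y : Scheme.{u}} (f : X ⟶ Y) [LocallyQuasiFinite f] [LocallyOfFiniteType f] [IsSeparated f] (hfin : ∀ y : Y, (f ⁻¹' {y}).Finite)
    (w : ↑X → ℤ) (hw : MoreMor.IsWeighting f w) (hpos : ∀ x, 0 < w x) (d : ℤ)
    (hmax : ∀ y : Y, MoreMor.fibreIntegral f w y ≤ d) (hatt : ∃ y : Y, MoreMor.fibreIntegral f w y = d) :
    ∃ hYd : IsOpen {y : ↑Y | MoreMor.fibreIntegral f w y = d}, IsFinite (f ∣_ ⟨{y : ↑Y | MoreMor.fibreIntegral f w y = d}, hYd⟩) := by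
  have hYd : IsOpen {y : ↑Y | MoreMor.fibreIntegral f w y = d} := by
    rw [isOpen_iff_mem_nhds]
    intro y hy
    have hy' : MoreMor.fibreIntegral f w y = d := hy
    obtain ⟨N, hN, hyN, h⟩ :=
      Groth.Agent.Lib.Helper2.Weight.exists_etale_nhd_le f hfin w hw hpos y
    refine Filter.mem_of_superset (hN.mem_nhds hyN) (fun y' hy'' => ?_)
    have h1 := h y' hy''
    have h2 := hmax y'
    rw [hy'] at h1
    exact le_antisymm h2 h1
  refine ⟨hYd, ?_⟩
  set Yd : Y.Opens := ⟨{y : ↑Y | MoreMor.fibreIntegral f w y = d}, hYd⟩ with hYd_def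
  have hpb : IsPullback (f ⁻¹ᵁ Yd).ι (f ∣_ Yd) f Yd.ι := (isPullback_morphismRestrict f Yd).flip
  haveI : LocallyQuasiFinite (f ∣_ Yd) :=
    MorphismProperty.of_isPullback (P := @LocallyQuasiFinite) hpb ‹_›
  haveI : LocallyOfFiniteType (f ∣_ Yd) :=
    MorphismProperty.of_isPullback (P := @LocallyOfFiniteType) hpb ‹_›
  haveI : IsSeparated (f ∣_ Yd) :=
    MorphismProperty.of_isPullback (P := @IsSeparated) hpb ‹_›
  have hw_d : MoreMor.IsWeighting (f ∣_ Yd) (w ∘ ⇑(f ⁻¹ᵁ Yd).ι) :=
    Groth.Agent.S1419.result f w hw (f ∣_ Yd) (f ⁻¹ᵁ Yd).ι Yd.ι hpb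
  have hbc := fun y : ↥Yd => Groth.Agent.Lib.Helper2.Weight.fibreIntegral_baseChange f hfin
    (f ∣_ Yd) (f ⁻¹ᵁ Yd).ι Yd.ι hpb w y
  have hint : ∀ y : ↥Yd, MoreMor.fibreIntegral (f ∣_ Yd) (w ∘ ⇑(f ⁻¹ᵁ Yd).ι) y = d := by
    intro y
    rw [(hbc y).1]
    have : Yd.ι y ∈ Set.range Yd.ι := ⟨y, rfl⟩
    rw [Scheme.Opens.range_ι] at this
    exact this
  apply Groth.Agent.Lib.Helper2.Weight.isFinite_of_etale_local
  intro y
  exact Groth.Agent.Lib.Helper2.Weight.exists_etale_nhd_finite (f ∣_ Yd) (fun y => (hbc y).2) _ hw_d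
    (fun x => hpos _) y (fun y' => by rw [hint, hint])

end Groth.Agent.S1428
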