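import Groth.Statements.S19416
import Groth.Agent.Lib.Helper2DiagDim
import Groth.Agent.Lib.Helper4VarDim6

set_option autoImplicit false
universe u
open CategoryTheory AlgebraicGeometry
open IntMult

namespace Groth.Agent.S19416

open Groth.Agent.Lib.Helper4.VarDim in
theorem dim_eq_trdegNat_of_isGenericPoint (k : Type u) [Field k] (X : Scheme.{u})
    [X.Over (Spec (CommRingCat.of k))] [LocallyOfFiniteType (X ↘ Spec (CommRingCat.of k))]
    (T : Set X) (hT : IsClosed T) (η : X) (hη : IsGenericPoint η T) :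
    topologicalKrullDim ↥T = ((trdegNat k X η : ℕ) : WithBot ℕ∞) := by
  rw [topologicalKrullDim_eq_iSup_trdegNat_of_isLocallyClosed k X T hT.isLocallyClosed]
  apply le_antisymm
  · refine iSup_le fun t => ?_
    exact_mod_cast trdegNat_le_of_specializes k X η t (hη.specializes t.2)
  · exact le_iSup_of_le (⟨η, hη.mem⟩ : T) le_rfl

/-- Let k be a field and X a smooth variety over k (the structure morphism X → Spec k smooth, separated
and quasi-compact, X integral) of dimension n, and let V, W ⊆ X be closed irreducible subsets of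
dimensions r and s. Then every irreducible component Z of V ∩ W has dimension at least r + s − n,
stated as r + s ≤ dim Z + n with Krull dimensions of the subspaces; equivalently the codimension of
Z is at most the sum of the codimensions of V and W. The base field is arbitrary here; the same
statement over an algebraically closed field is the classical dimension count for intersections on a
nonsingular variety. -/
theorem result (k : Type u) [Field k] (X : Scheme.{u})
    (f : X ⟶ Spec (CommRingCat.of k)) [Smooth f] [IsSeparated f] [QuasiCompact f] [IsIntegral X]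
    (n r s : ℕ) (hn : topologicalKrullDim X = n) (V W : Set X) (hVc : IsClosed V)
    (hVi : IsIrreducible V) (hWc : IsClosed W) (hWi : IsIrreducible W)
    (hr : topologicalKrullDim ↥V = r) (hs : topologicalKrullDim ↥W = s) (Z : Set ↥(V ∩ W))
    (hZ : Z ∈ irreducibleComponents ↥(V ∩ W)) :
    ((r + s : ℕ) : WithBot ℕ∞) ≤ topologicalKrullDim ↥Z + n := by
  classical
  haveI hlft : LocallyOfFiniteType f := inferInstance
  letI : X.Over (Spec (CommRingCat.of k)) := ⟨f⟩
  haveI : LocallyOfFiniteType (X ↘ Spec (CommRingCat.of k)) := hlft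
  have hVWc : IsClosed (V ∩ W) := hVc.inter hWc
  have hZc : IsClosed Z := isClosed_of_mem_irreducibleComponents Z hZ
  have hZi : IsIrreducible Z := hZ.1
  set Z' : Set X := Subtype.val '' Z with hZ'
  have hZ'c : IsClosed Z' := hVWc.isClosedEmbedding_subtypeVal.isClosedMap Z hZc
  have hZ'i : IsIrreducible Z' := hZi.image _ continuous_subtype_val.continuousOn
  obtain ⟨ξ, hξ⟩ := QuasiSober.sober hZ'i hZ'c
  obtain ⟨ηV, hηV⟩ := QuasiSober.sober hVi hVc
  obtain ⟨ηW, hηW⟩ := QuasiSober.sober hWi hWc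
  obtain ⟨ξ₀, hξ₀Z, hξ₀⟩ := hξ.mem
  have hξV : ξ ∈ V := hξ₀ ▸ ξ₀.2.1
  have hξW : ξ ∈ W := hξ₀ ▸ ξ₀.2.2
  obtain ⟨U, hU, hξU, -⟩ := exists_isAffineOpen_mem_and_subset (U := ⊤) (x := ξ) trivial
  have hVξ : ηV ⤳ ξ := hηV.specializes hξV
  have hWξ : ηW ⤳ ξ := hηW.specializes hξW
  have hηVU : ηV ∈ U := hVξ.mem_open U.isOpen hξU
  have hηWU : ηW ∈ U := hWξ.mem_open U.isOpen hξU
  letI algKA : Algebra k Γ(X, U) := Groth.Agent.Lib.Helper4.VarDim.sectionsAlgebra k X U
  have hsm : ((Scheme.ΓSpecIso (CommRingCat.of k)).inv ≫ f.appLE ⊤ U le_top).hom.Smooth := by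
    rw [CommRingCat.hom_comp]
    exact RingHom.Smooth.comp
      (RingHom.Smooth.of_bijective
        (ConcreteCategory.bijective_of_isIso (Scheme.ΓSpecIso (CommRingCat.of k)).inv))
      (Smooth.smooth_appLE f (isAffineOpen_top (Spec (CommRingCat.of k))) hU
        (show U ≤ f ⁻¹ᵁ ⊤ from le_top))
  haveI : Algebra.Smooth k Γ(X, U) := RingHom.smooth_algebraMap.mp hsm
  haveI : Nonempty U := ⟨⟨ξ, hξU⟩⟩
  haveI : IsDomain Γ(X, U) := inferInstance
  set P : Ideal Γ(X, U) := (hU.primeIdealOf ⟨ξ, hξU⟩).asIdeal with hP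
  set a₀ : Ideal Γ(X, U) := (hU.primeIdealOf ⟨ηV, hηVU⟩).asIdeal with ha₀
  set b₀ : Ideal Γ(X, U) := (hU.primeIdealOf ⟨ηW, hηWU⟩).asIdeal with hb₀
  have haP : a₀ ≤ P :=
    (Groth.Agent.Lib.Helper4.VarDim.primeIdealOf_le_iff hU ηV ξ hηVU hξU).mpr hVξ
  have hbP : b₀ ≤ P :=
    (Groth.Agent.Lib.Helper4.VarDim.primeIdealOf_le_iff hU ηW ξ hηWU hξU).mpr hWξ
  have hPmin : P ∈ (a₀ ⊔ b₀).minimalPrimes := by
    refine ⟨⟨inferInstance, sup_le haP hbP⟩, ?_⟩
    rintro Q ⟨hQp, hQle⟩ hQP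
    set y : X := hU.fromSpec ⟨Q, hQp⟩ with hy
    have hyU : y ∈ U := Groth.Agent.Lib.Helper4.VarDim.fromSpec_mem hU _
    have hQeq : hU.primeIdealOf ⟨y, hyU⟩ = ⟨Q, hQp⟩ :=
      Groth.Agent.Lib.Helper4.VarDim.primeIdealOf_fromSpec hU _ hyU
    have hQ' : (hU.primeIdealOf ⟨y, hyU⟩).asIdeal = Q := by rw [hQeq]
    have h1 : ηV ⤳ y :=
      (Groth.Agent.Lib.Helper4.VarDim.primeIdealOf_le_iff hU ηV y hηVU hyU).mp
        (by rw [hQ']; exact le_sup_left.trans hQle)
    have h2 : ηW ⤳ y :=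
      (Groth.Agent.Lib.Helper4.VarDim.primeIdealOf_le_iff hU ηW y hηWU hyU).mp
        (by rw [hQ']; exact le_sup_right.trans hQle)
    have h3 : y ⤳ ξ :=
      (Groth.Agent.Lib.Helper4.VarDim.primeIdealOf_le_iff hU y ξ hyU hξU).mp
        (by rw [hQ']; exact hQP)
    have hyV : y ∈ V := by
      rw [← hηV.def]
      exact specializes_iff_mem_closure.mp h1
    have hyW : y ∈ W := by
      rw [← hηW.def]
      exact specializes_iff_mem_closure.mp h2
    let y' : ↥(V ∩ W) := ⟨y, hyV, hyW⟩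
    have hirr : IsIrreducible (closure ({y'} : Set ↥(V ∩ W))) := isIrreducible_singleton.closure
    have hsub : Z ≤ closure ({y'} : Set ↥(V ∩ W)) := by
      intro z hz
      have hz1 : z.val ∈ closure ({ξ} : Set X) := by
        rw [hξ.def]
        exact ⟨z, hz, rfl⟩
      have hz2 : z.val ∈ closure ({y} : Set X) :=
        (closure_minimal (Set.singleton_subset_iff.mpr (specializes_iff_mem_closure.mp h3))
          isClosed_closure) hz1
      rw [Topology.IsInducing.subtypeVal.closure_eq_preimage_closure_image, Set.image_singleton]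
      exact hz2
    have hle := hZ.2 hirr hsub
    have hy'Z : y' ∈ Z := hle (subset_closure rfl)
    have hyZ' : y ∈ Z' := ⟨y', hy'Z, rfl⟩
    have h4 : ξ ⤳ y := hξ.specializes hyZ'
    show P ≤ Q
    rw [← hQ']
    exact (Groth.Agent.Lib.Helper4.VarDim.primeIdealOf_le_iff hU ξ y hξU hyU).mpr h4
  -- dimensions
  have dimV := dim_eq_trdegNat_of_isGenericPoint k X V hVc ηV hηV
  have dimW := dim_eq_trdegNat_of_isGenericPoint k X W hWc ηW hηW
  have dimZ' := dim_eq_trdegNat_of_isGenericPoint k X Z' hZ'c ξ hξ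
  have dimZ : topologicalKrullDim ↥Z = topologicalKrullDim ↥Z' :=
    IsHomeomorph.topologicalKrullDim_eq _
      (Topology.IsEmbedding.subtypeVal.homeomorphImage Z).isHomeomorph
  obtain ⟨nV, hnV, hnV'⟩ := Groth.Agent.Lib.Helper4.VarDim.exists_trdeg_eq_dim k X hU ηV hηVU
  obtain ⟨nW, hnW, hnW'⟩ := Groth.Agent.Lib.Helper4.VarDim.exists_trdeg_eq_dim k X hU ηW hηWU
  obtain ⟨nZ, hnZ, hnZ'⟩ := Groth.Agent.Lib.Helper4.VarDim.exists_trdeg_eq_dim k X hU ξ hξU
  have eV := Groth.Agent.Lib.Helper4.VarDim.trdegNat_eq_of_trdeg_eq k X ηV nV hnV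
  have eW := Groth.Agent.Lib.Helper4.VarDim.trdegNat_eq_of_trdeg_eq k X ηW nW hnW
  have eZ := Groth.Agent.Lib.Helper4.VarDim.trdegNat_eq_of_trdeg_eq k X ξ nZ hnZ
  obtain ⟨n', hn', hall⟩ := Groth.Agent.Lib.Helper4.VarDim.exists_dim_irreducible k X
  have hXn' := Groth.Agent.Lib.Helper4.VarDim.topologicalKrullDim_eq_of_irreducible k X n' hn'
  have hA : ringKrullDim Γ(X, U) = n' := hall U hU ⟨ξ, hξU⟩
  have key := Groth.Agent.Lib.Helper2.DiagAlg.ringKrullDim_add_le k Γ(X, U) P a₀ b₀ hPmin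
  rw [hnV', hnW', hnZ', hA] at key
  rw [dimV, eV] at hr
  rw [dimW, eW] at hs
  rw [hXn'] at hn
  rw [dimZ, dimZ', eZ]
  have e1 : nV = r := by exact_mod_cast hr
  have e2 : nW = s := by exact_mod_cast hs
  have e3 : n' = n := by exact_mod_cast hn
  subst e1 e2 e3
  exact_mod_cast key

end Groth.Agent.S19416
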