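import Groth.Statements.S1833
import Mathlib
import Groth.Agent.Lib.Helper22Herbrand

set_option autoImplicit false
universe u v
open Pointwise
open CycAlg

namespace Groth.Agent.S1833

open Groth.Agent.Lib.Helper22.Herbrand Function

section

variable {R : Type u} [CommRing R] [IsNoetherianRing R] [IsLocalRing R] (x : R)
  (Z₀ : Set (PrimeSpectrum R))

/-- the right-hand side sum over a set `Z₀` of primes -/
noncomputable def rs (N : Type*) [AddCommGroup N] [Module R N] : ℕ∞ :=
  ∑ᶠ (p : PrimeSpectrum R) (_ : p ∈ Z₀),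
    Ring.ord (R ⧸ p.asIdeal) (Ideal.Quotient.mk p.asIdeal x) *
      Module.length (Localization.AtPrime p.asIdeal) (LocalizedModule p.asIdeal.primeCompl N)

variable {M' M M'' : Type*} [AddCommGroup M'] [Module R M'] [AddCommGroup M] [Module R M]
  [AddCommGroup M''] [Module R M'']

omit [IsLocalRing R] [IsNoetherianRing R] in
theorem rs_add (hZ : Z₀.Finite) (i : M' →ₗ[R] M) (p : M →ₗ[R] M'') (hi : Injective i)
    (hp : Surjective p) (hex : Exact i p) : rs x Z₀ M = rs x Z₀ M' + rs x Z₀ M'' := by
  unfold rs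
  have key := finsum_mem_add_distrib (s := Z₀)
    (f := fun p : PrimeSpectrum R => Ring.ord (R ⧸ p.asIdeal) (Ideal.Quotient.mk p.asIdeal x) *
      Module.length (Localization.AtPrime p.asIdeal) (LocalizedModule p.asIdeal.primeCompl M'))
    (g := fun p : PrimeSpectrum R => Ring.ord (R ⧸ p.asIdeal) (Ideal.Quotient.mk p.asIdeal x) *
      Module.length (Localization.AtPrime p.asIdeal) (LocalizedModule p.asIdeal.primeCompl M''))
    hZ
  refine Eq.trans ?_ key
  refine finsum_mem_congr (s := Z₀) rfl (fun q hq => ?_)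
  rw [← mul_add]
  congr 1
  exact Module.length_eq_add_of_exact (LocalizedModule.map _ i) (LocalizedModule.map _ p)
    (LocalizedModule.map_injective _ _ hi) (LocalizedModule.map_surjective _ _ hp)
    (LocalizedModule.map_exact _ _ _ hex)

omit [IsLocalRing R] [IsNoetherianRing R] in
theorem rs_zero (N : Type*) [AddCommGroup N] [Module R N]
    (h : ∀ q : PrimeSpectrum R, q ∈ Z₀ →
      Subsingleton (LocalizedModule q.asIdeal.primeCompl N)) : rs x Z₀ N = 0 := by
  classical
  unfold rs
  apply finsum_eq_zero_of_forall_eq_zero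
  intro q
  rw [finsum_eq_if]
  split_ifs with hq
  · haveI := h q hq
    rw [Module.length_eq_zero, mul_zero]
  · rfl

omit [IsLocalRing R] [IsNoetherianRing R] in
theorem rs_quot (q : PrimeSpectrum R) (hq : q ∈ Z₀)
    (hmin : ∀ p ∈ Z₀, q.asIdeal ≤ p.asIdeal → p = q) :
    rs x Z₀ (R ⧸ q.asIdeal) = Ring.ord (R ⧸ q.asIdeal) (Ideal.Quotient.mk q.asIdeal x) := by
  classical
  unfold rs
  rw [finsum_eq_single _ q]
  · rw [finsum_eq_if, if_pos hq]
    haveI := loc_quot_simple q.asIdeal
    rw [Module.length_eq_one, mul_one]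
  · intro p hp
    rw [finsum_eq_if]
    split_ifs with hpm
    swap
    · rfl
    have hne : ¬ q.asIdeal ≤ p.asIdeal := fun hle => hp (hmin p hpm hle)
    haveI := loc_quot_subsingleton p.asIdeal q.asIdeal hne
    rw [Module.length_eq_zero, mul_zero]

/-- the formula -/
def Fm (N : Type*) [AddCommGroup N] [Module R N] : Prop :=
  Module.length R (QuotSMulTop x N) = Module.length R (tKer x N) + rs x Z₀ N

omit [IsLocalRing R] [IsNoetherianRing R] in
theorem fm_subsingleton (N : Type*) [AddCommGroup N] [Module R N] [Subsingleton N] :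
    Fm x Z₀ N := by
  unfold Fm
  rw [rs_zero x Z₀ N (fun q _ => inferInstance), Module.length_eq_zero, Module.length_eq_zero,
    add_zero]

/-- finiteness of the `x`-torsion -/
theorem tKer_fin (Z : Set (PrimeSpectrum R))
    (hZa : ∀ q ∈ Z, x ∈ q.asIdeal → q.asIdeal = IsLocalRing.maximalIdeal R)
    (N : Type*) [AddCommGroup N] [Module R N] [Module.Finite R N]
    (hN : Module.support R N ⊆ Z) : Module.length R (tKer x N) ≠ ⊤ := by
  rw [Module.length_ne_top_iff]
  apply Groth.Agent.Lib.Helper5.isFiniteLength_of_supportDim_le_zero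
  apply Groth.Agent.Lib.Helper5.supportDim_le_zero_of_forall_isMaximal
  intro p hp
  have h1 : p ∈ Z := hN (Module.support_subset_of_injective (tKer x N).subtype
    (Submodule.injective_subtype _) hp)
  have hann : x ∈ Module.annihilator R (tKer x N) := by
    rw [Module.mem_annihilator]
    intro y
    apply Subtype.ext
    exact (mem_tKer x _).mp y.2
  have hxp : x ∈ p.asIdeal := Module.annihilator_le_of_mem_support hp hann
  rw [hZa p h1 hxp]
  infer_instance

theorem fm_step (hZ : Z₀.Finite) (Z : Set (PrimeSpectrum R))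
    (hZa : ∀ q ∈ Z, x ∈ q.asIdeal → q.asIdeal = IsLocalRing.maximalIdeal R)
    [Module.Finite R M'] [Module.Finite R M'']
    (hM' : Module.support R M' ⊆ Z) (hM'' : Module.support R M'' ⊆ Z)
    (i : M' →ₗ[R] M) (p : M →ₗ[R] M'') (hi : Injective i) (hp : Surjective p)
    (hex : Exact i p) (h1 : Fm x Z₀ M') (h3 : Fm x Z₀ M'') : Fm x Z₀ M := by
  unfold Fm at h1 h3 ⊢
  have hadd := chi_add x i p hi hp hex
  rw [h1, h3, rs_add x Z₀ hZ i p hi hp hex] at *
  have f1 := tKer_fin x Z hZa M' hM'
  have f3 := tKer_fin x Z hZa M'' hM''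
  have hfin : Module.length R (tKer x M') + Module.length R (tKer x M'') ≠ ⊤ :=
    WithTop.add_ne_top.mpr ⟨f1, f3⟩
  have h : (Module.length R (tKer x M') + Module.length R (tKer x M'')) +
      Module.length R (QuotSMulTop x M) =
      (Module.length R (tKer x M') + Module.length R (tKer x M'')) +
        (Module.length R (tKer x M) + (rs x Z₀ M' + rs x Z₀ M'')) := by
    rw [hadd]; ring
  exact WithTop.add_left_cancel hfin h

omit [IsLocalRing R] [IsNoetherianRing R] in
theorem length_quot_eq_ord (q : Ideal R) :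
    Module.length R (QuotSMulTop x (R ⧸ q)) = Ring.ord (R ⧸ q) (Ideal.Quotient.mk q x) := by
  unfold Ring.ord
  have hsurj : Surjective (algebraMap R (R ⧸ q)) := Ideal.Quotient.mk_surjective
  rw [← Module.length_eq_of_surjective (S := R) hsurj]
  have heq : (x • (⊤ : Submodule R (R ⧸ q))) =
      (Ideal.span {Ideal.Quotient.mk q x}).restrictScalars R := by
    ext y
    rw [Submodule.mem_smul_pointwise_iff_exists, Submodule.restrictScalars_mem,
      Ideal.mem_span_singleton']
    constructor
    · rintro ⟨z, -, rfl⟩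
      exact ⟨z, by rw [mul_comm, Algebra.smul_def]; rfl⟩
    · rintro ⟨z, rfl⟩
      exact ⟨z, trivial, by rw [mul_comm, Algebra.smul_def]; rfl⟩
  exact ((Submodule.quotEquivOfEq _ _ heq).trans
    (Submodule.Quotient.restrictScalarsEquiv R _)).length_eq

theorem fm_residue (hZ₀ : ∀ q ∈ Z₀, q.asIdeal ≠ IsLocalRing.maximalIdeal R) :
    Fm x Z₀ (R ⧸ IsLocalRing.maximalIdeal R) := by
  unfold Fm
  have hs : IsSimpleModule R (R ⧸ IsLocalRing.maximalIdeal R) :=
    isSimpleModule_iff_quot_maximal.mpr ⟨_, IsLocalRing.maximalIdeal.isMaximal R,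
      ⟨LinearEquiv.refl _ _⟩⟩
  have h1 : Module.length R (R ⧸ IsLocalRing.maximalIdeal R) ≠ ⊤ := by
    rw [Module.length_eq_one]
    exact ENat.one_ne_top
  rw [rs_zero, add_zero]
  · exact (chi_finite x _ h1).symm
  · intro q hq
    apply loc_quot_subsingleton
    intro hle
    exact hZ₀ q hq ((IsLocalRing.maximalIdeal.isMaximal R).eq_of_le q.2.ne_top hle).symm

omit [IsLocalRing R] [IsNoetherianRing R] in
theorem fm_quot (q : PrimeSpectrum R) (hq : q ∈ Z₀) (hx : x ∉ q.asIdeal)
    (hmin : ∀ p ∈ Z₀, q.asIdeal ≤ p.asIdeal → p = q) : Fm x Z₀ (R ⧸ q.asIdeal) := by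
  unfold Fm
  have h0 : Subsingleton (tKer x (R ⧸ q.asIdeal)) := by
    refine ⟨fun y z => ?_⟩
    have hy : ∀ z : tKer x (R ⧸ q.asIdeal), z = 0 := by
      intro z
      apply Subtype.ext
      have hz := (mem_tKer x _).mp z.2
      obtain ⟨b, hb⟩ := Submodule.Quotient.mk_surjective _ (z : R ⧸ q.asIdeal)
      rw [← hb, ← Submodule.Quotient.mk_smul, Submodule.Quotient.mk_eq_zero, smul_eq_mul] at hz
      rw [← hb]
      exact (Submodule.Quotient.mk_eq_zero _).mpr
        ((Ideal.IsPrime.mem_or_mem q.2 hz).resolve_left hx)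
    rw [hy y, hy z]
  have hz : Module.length R (tKer x (R ⧸ q.asIdeal)) = 0 := Module.length_eq_zero
  rw [rs_quot x Z₀ q hq hmin, hz, zero_add, length_quot_eq_ord]

theorem main (Z : Set (PrimeSpectrum R))
    (hZ₀ : Z₀ = {q | q ∈ Z ∧ q.asIdeal ≠ IsLocalRing.maximalIdeal R}) (hfin : Z₀.Finite)
    (hZa : ∀ q ∈ Z, x ∈ q.asIdeal → q.asIdeal = IsLocalRing.maximalIdeal R)
    (hZb : ∀ q ∈ Z₀, ∀ q' ∈ Z, q' ≤ q → q' = q)
    (N : Type u) [AddCommGroup N] [Module R N] [Module.Finite R N]
    (hN : Module.support R N ⊆ Z) : Fm x Z₀ N := by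
  induction ‹Module.Finite R N› using
    IsNoetherianRing.induction_on_isQuotientEquivQuotientPrime R with
  | subsingleton N => exact fm_subsingleton x Z₀ N
  | quotient N p e =>
    have hsupp : Module.support R (R ⧸ p.asIdeal) ⊆ Z := by
      rw [← e.support_eq]; exact hN
    have hpZ : p ∈ Z := by
      apply hsupp
      rw [Module.mem_support_iff_of_finite, Ideal.annihilator_quotient]
    have hq : Fm x Z₀ (R ⧸ p.asIdeal) := by
      by_cases hpm : p.asIdeal = IsLocalRing.maximalIdeal R
      · rw [hpm]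
        refine fm_residue x Z₀ ?_
        intro q hq
        rw [hZ₀] at hq
        exact hq.2
      · have hp0 : p ∈ Z₀ := by rw [hZ₀]; exact ⟨hpZ, hpm⟩
        refine fm_quot x Z₀ p hp0 (fun hx => hpm (hZa p hpZ hx)) ?_
        intro q hq hle
        have hqZ : q ∈ Z := by rw [hZ₀] at hq; exact hq.1
        exact (hZb q hq p hpZ hle).symm
    refine fm_step x Z₀ hfin Z hZa hsupp ?_ (e.symm : (R ⧸ p.asIdeal) →ₗ[R] N)
      (0 : N →ₗ[R] PUnit) e.symm.injective (surjective_to_subsingleton _)
      ((e.symm.exact_zero_iff_surjective _).2 e.symm.surjective) hq (fm_subsingleton x Z₀ PUnit)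
    rw [Module.support_eq_empty]
    exact Set.empty_subset _
  | exact N₁ N₂ N₃ f g hf hg hfg h1 h3 =>
    exact fm_step x Z₀ hfin Z hZa
      ((Module.support_subset_of_injective f hf).trans hN)
      ((Module.support_subset_of_surjective g hg).trans hN) f g hf hg hfg
      (h1 ((Module.support_subset_of_injective f hf).trans hN))
      (h3 ((Module.support_subset_of_surjective g hg).trans hN))

end

/-- Let R be Noetherian local, M a finite R-module whose support has dimension at most 1, and x an
element with M/xM supported in dimension ≤ 0. Then length(M/xM) = length(ker(x : M → M)) + Σ_q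
ord_{R/q}(x) · length_{R_q}(M_q), the sum running over the primes q of the support other than the
maximal ideal (stated in ℕ∞; all terms are finite under the hypotheses). -/
theorem result (R : Type u) [CommRing R] [IsNoetherianRing R] [IsLocalRing R] (M : Type u) [AddCommGroup M] [Module R M] [Module.Finite R M] (x : R) (h1 : Module.supportDim R M ≤ 1) (h0 : Module.supportDim R (M ⧸ x • (⊤ : Submodule R M)) ≤ 0) : Module.length R (M ⧸ x • (⊤ : Submodule R M)) = Module.length R (LinearMap.ker (LinearMap.lsmul R M x)) + ∑ᶠ (p : PrimeSpectrum R) (_ : p ∈ Module.support R M ∧ p.asIdeal ≠ IsLocalRing.maximalIdeal R), Ring.ord (R ⧸ p.asIdeal) (Ideal.Quotient.mk p.asIdeal x) * Module.length (Localization.AtPrime p.asIdeal) (LocalizedModule p.asIdeal.primeCompl M) := by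
  have hZa : ∀ q ∈ Module.support R M, x ∈ q.asIdeal →
      q.asIdeal = IsLocalRing.maximalIdeal R := by
    intro q hq hx
    have hq' : q ∈ Module.support R (QuotSMulTop x M) := by
      rw [Module.support_quotSMulTop]
      refine ⟨hq, ?_⟩
      rw [PrimeSpectrum.mem_zeroLocus]
      intro y hy
      rw [Set.mem_singleton_iff] at hy
      rw [hy]
      exact hx
    have hfl := Groth.Agent.Lib.Helper5.isFiniteLength_of_supportDim_le_zero h0
    have := Groth.Agent.Lib.Helper5.isMaximal_of_annihilator_le_of_isFiniteLength hfl q.asIdeal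
      (Module.annihilator_le_of_mem_support hq')
    exact IsLocalRing.eq_maximalIdeal this
  have hZb : ∀ q ∈ {q : PrimeSpectrum R | q ∈ Module.support R M ∧
      q.asIdeal ≠ IsLocalRing.maximalIdeal R}, ∀ q' ∈ Module.support R M, q' ≤ q → q' = q := by
    rintro q ⟨hqZ, hqm⟩ q' hq'Z hle
    by_contra hne
    have hlt : q' < q := lt_of_le_of_ne hle hne
    have hqle : q ≤ IsLocalRing.closedPoint R := IsLocalRing.le_maximalIdeal q.2.ne_top
    have hqlt : q < IsLocalRing.closedPoint R := by
      refine lt_of_le_of_ne hqle (fun h => hqm ?_)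
      rw [h]; rfl
    have hmZ : IsLocalRing.closedPoint R ∈ Module.support R M := Module.mem_support_mono hqle hqZ
    let s : LTSeries (Module.support R M) :=
      LTSeries.mk 2 ![⟨q', hq'Z⟩, ⟨q, hqZ⟩, ⟨IsLocalRing.closedPoint R, hmZ⟩] (by
        rw [Fin.strictMono_iff_lt_succ]
        intro i
        fin_cases i
        · exact hlt
        · exact hqlt)
    have hs := Order.LTSeries.length_le_krullDim s
    have hlen : s.length = 2 := rfl
    unfold Module.supportDim at h1
    rw [hlen] at hs
    have h21 : ((2 : ℕ) : WithBot ℕ∞) ≤ 1 := hs.trans h1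
    exact absurd h21 (by decide)
  have hfin : {q : PrimeSpectrum R | q ∈ Module.support R M ∧
      q.asIdeal ≠ IsLocalRing.maximalIdeal R}.Finite := by
    have hmin := Ideal.finite_minimalPrimes_of_isNoetherianRing R (Module.annihilator R M)
    have hpre : {p : PrimeSpectrum R | p.asIdeal ∈ (Module.annihilator R M).minimalPrimes}.Finite :=
      Set.Finite.preimage (fun a _ b _ h => PrimeSpectrum.ext h) hmin
    refine hpre.subset ?_
    intro q hq
    refine ⟨⟨q.2, Module.annihilator_le_of_mem_support hq.1⟩, ?_⟩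
    rintro p' ⟨hp'prime, hp'ann⟩ hp'le
    have hp'Z : (⟨p', hp'prime⟩ : PrimeSpectrum R) ∈ Module.support R M := by
      rw [Module.mem_support_iff_of_finite]
      exact hp'ann
    have := hZb q hq ⟨p', hp'prime⟩ hp'Z hp'le
    rw [← this]
  have hmain := main x {q : PrimeSpectrum R | q ∈ Module.support R M ∧
      q.asIdeal ≠ IsLocalRing.maximalIdeal R} (Module.support R M) rfl hfin hZa hZb M
    (le_refl _)
  unfold Fm rs tKer at hmain
  have hk : LinearMap.lsmul R M x = x • LinearMap.id := by
    ext y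
    simp
  rw [hk]
  exact hmain

end Groth.Agent.S1833
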