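import Groth.Statements.S1875
import Mathlib
import Groth.Agent.Lib.Helper16PInsepLen
import Groth.Agent.Lib.Helper14GeomRed
import Groth.Agent.Lib.Helper12GeomConn
-- import your own Groth.Agent.* helpers here

set_option autoImplicit false
set_option linter.style.haveILetI false
set_option linter.unusedSectionVars false
universe u
open TensorProduct
open RelCyc

namespace Groth.Agent.S1875

open Groth.Agent.Lib.Helper16.PInsepLen

theorem length_eq_of_ringEquiv {A B : Type*} [CommRing A] [CommRing B] (e : A ≃+* B) :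
    Module.length A A = Module.length B B := by
  apply WithBot.coe_injective
  rw [Module.coe_length, Module.coe_length]
  exact Order.krullDim_eq_of_orderIso e.idealComapOrderIso.symm

theorem lemmaA (k K M L : Type u) [Field k] [Field K] [Field M] [Field L] [Algebra k K]
    [Algebra k M] [Algebra k L] [Algebra M L] [IsScalarTower k M L] [Module.Finite M L]
    [IsPurelyInseparable M L] (p : ℕ) [ExpChar k p] (hred : IsReduced (M ⊗[k] K))
    (q : Ideal (L ⊗[k] K)) [q.IsPrime] (hq : q ∈ minimalPrimes (L ⊗[k] K)) :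
    ∃ n : ℕ, Module.length (Localization.AtPrime q) (Localization.AtPrime q) = (p ^ n : ℕ) := by
  classical
  letI : Algebra (M ⊗[k] K) (L ⊗[k] K) :=
    (Algebra.TensorProduct.map (IsScalarTower.toAlgHom k M L) (AlgHom.id k K)).toRingHom.toAlgebra
  have hmap : ∀ x, algebraMap (M ⊗[k] K) (L ⊗[k] K) x =
      Algebra.TensorProduct.map (IsScalarTower.toAlgHom k M L) (AlgHom.id k K) x := fun _ => rfl
  haveI : IsScalarTower M (M ⊗[k] K) (L ⊗[k] K) := by
    refine IsScalarTower.of_algebraMap_eq fun x => ?_
    rw [hmap]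
    simp [Algebra.TensorProduct.algebraMap_apply]
  have hpo : Algebra.IsPushout M L (M ⊗[k] K) (L ⊗[k] K) := by
    refine Algebra.IsPushout.tensorProduct_tensorProduct k K M L ?_
    ext x
    simp [hmap]
  have hpo' : Algebra.IsPushout M (M ⊗[k] K) L (L ⊗[k] K) := hpo.symm
  have ibc := hpo'.out
  let b := Module.Free.chooseBasis M L
  let b' := ibc.basis b
  haveI : Module.Free (M ⊗[k] K) (L ⊗[k] K) := Module.Free.of_basis b'
  haveI : Module.Finite (M ⊗[k] K) (L ⊗[k] K) := Module.Finite.of_basis b'
  haveI : ExpChar M p := expChar_of_injective_algebraMap (algebraMap k M).injective p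
  haveI hnt : Nontrivial (M ⊗[k] K) :=
    (Algebra.TensorProduct.includeLeft_injective (S := M) (R := k) (A := M) (B := K)
      (algebraMap k K).injective).nontrivial
  have hrank : ∃ d : ℕ, Module.finrank (M ⊗[k] K) (L ⊗[k] K) = p ^ d := by
    obtain ⟨d, hd⟩ := IsPurelyInseparable.finrank_eq_pow (F := M) L p
    refine ⟨d, ?_⟩
    rw [← hd, Module.finrank_eq_card_basis b', Module.finrank_eq_card_basis b]
  haveI : ExpChar (L ⊗[k] K) p :=
    expChar_of_injective_algebraMap (FaithfulSMul.algebraMap_injective k (L ⊗[k] K)) p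
  have hpi := (isPurelyInseparable_iff_pow_mem (F := M) (E := L) p).mp inferInstance
  have hpow : ∀ x : L ⊗[k] K, ∃ n : ℕ, x ^ p ^ n ∈ (algebraMap (M ⊗[k] K) (L ⊗[k] K)).range := by
    intro x
    induction x using TensorProduct.induction_on with
    | zero => exact ⟨0, 0, by simp⟩
    | tmul l a =>
      obtain ⟨n, m, hm⟩ := hpi l
      refine ⟨n, m ⊗ₜ (a ^ p ^ n), ?_⟩
      rw [hmap, Algebra.TensorProduct.map_tmul, Algebra.TensorProduct.tmul_pow]
      simp only [IsScalarTower.coe_toAlgHom', AlgHom.coe_id, id_eq]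
      rw [hm]
    | add x y hx hy =>
      obtain ⟨n, w1, h1⟩ := hx
      obtain ⟨m, w2, h2⟩ := hy
      refine ⟨n + m, w1 ^ p ^ m + w2 ^ p ^ n, ?_⟩
      rw [add_pow_expChar_pow, map_add, map_pow, map_pow, h1, h2, ← pow_mul, ← pow_mul,
        ← pow_add, ← pow_add, add_comm m n]
  exact exists_length_eq_pow (k := k) (W := M ⊗[k] K) (T := L ⊗[k] K) p hrank hpow q hq

theorem lemmaB (k K F M : Type u) [Field k] [Field K] [Field F] [Field M] [Algebra k K]
    [Algebra k F] [Algebra k M] [Algebra F M] [IsScalarTower k F M] [Algebra.IsSeparable F M]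
    (ι : Type u) (e : FractionRing (MvPolynomial ι k) ≃ₐ[k] F) : IsReduced (M ⊗[k] K) := by
  haveI h0 := Groth.Agent.Lib.Helper12.GeomConn.isDomain_tensor_of_isFractionRing_mvPolynomial
    k ι K (FractionRing (MvPolynomial ι k))
  haveI h1 : IsDomain (K ⊗[k] F) :=
    (Algebra.TensorProduct.congr (AlgEquiv.refl (R := k) (A₁ := K)) e.symm).toMulEquiv.isDomain
  haveI h2 : IsDomain (F ⊗[k] K) := (Algebra.TensorProduct.comm k F K).toMulEquiv.isDomain
  haveI h3 : IsReduced (M ⊗[F] (F ⊗[k] K)) :=
    Groth.Agent.Lib.Helper14.GeomRed.isReduced_tensor_of_isSeparable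
  let e' := Algebra.TensorProduct.cancelBaseChange k F F M K
  exact isReduced_of_injective e'.symm e'.symm.injective


/-- Let k be a field of exponential characteristic p, K/k any field extension and L/k a finitely
generated field extension (the function field of an integral scheme locally of finite type over k).
For every minimal prime 𝔮 of K ⊗_k L the length of the Artinian local ring (K ⊗_k L)_𝔮 — the
multiplicity of the corresponding irreducible component of the base change — is a power of p (so 1
in characteristic zero). -/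
theorem result (k K L : Type u) [Field k] [Field K] [Field L] [Algebra k K] [Algebra k L] (hL : (⊤ : IntermediateField k L).FG) (p : ℕ) [ExpChar k p] (q : Ideal (K ⊗[k] L)) [q.IsPrime] (hq : q ∈ minimalPrimes (K ⊗[k] L)) : ∃ n : ℕ, Module.length (Localization.AtPrime q) (Localization.AtPrime q) = (p ^ n : ℕ) := by
  classical
  haveI hess : Algebra.EssFiniteType k L := IntermediateField.fg_top_iff.mp hL
  obtain ⟨ι, t, ht⟩ := exists_isTranscendenceBasis' (R := k) (A := L)
  let F : IntermediateField k L := IntermediateField.adjoin k (Set.range t)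
  haveI halg : Algebra.IsAlgebraic F L := ht.isAlgebraic_field
  haveI : Algebra.EssFiniteType F L := Algebra.EssFiniteType.of_comp k F L
  haveI hfin : Module.Finite F L := Algebra.finite_of_essFiniteType_of_isAlgebraic
  let M : IntermediateField F L := separableClosure F L
  haveI : IsPurelyInseparable M L := separableClosure.isPurelyInseparable F L
  haveI : Module.Finite M L := Module.Finite.of_restrictScalars_finite F M L
  have hred : IsReduced (M ⊗[k] K) := lemmaB k K F M ι ht.1.aevalEquivField
  haveI : IsScalarTower k M L := IsScalarTower.of_algebraMap_eq (fun x => rfl)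
  -- transport along the swap
  let e : K ⊗[k] L ≃+* L ⊗[k] K := (Algebra.TensorProduct.comm k K L).toRingEquiv
  let q' : Ideal (L ⊗[k] K) := q.comap (e.symm : L ⊗[k] K →+* K ⊗[k] L)
  haveI hq'prime : q'.IsPrime := Ideal.comap_isPrime _ q
  have hqq' : q = q'.comap (e : K ⊗[k] L →+* L ⊗[k] K) := by
    ext x
    simp [q']
  have hq'min : q' ∈ minimalPrimes (L ⊗[k] K) := by
    refine ⟨⟨hq'prime, bot_le⟩, fun P' hP' hle => ?_⟩
    haveI : P'.IsPrime := hP'.1
    have h1 : P'.comap (e : K ⊗[k] L →+* L ⊗[k] K) ≤ q := by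
      rw [hqq']
      exact Ideal.comap_mono hle
    have h2 : q ≤ P'.comap (e : K ⊗[k] L →+* L ⊗[k] K) :=
      hq.2 ⟨Ideal.comap_isPrime _ P', bot_le⟩ h1
    intro x hx
    have h3 : e.symm x ∈ P'.comap (e : K ⊗[k] L →+* L ⊗[k] K) := h2 hx
    rw [Ideal.mem_comap] at h3
    simpa using h3
  obtain ⟨n, hn⟩ := lemmaA k K M L p hred q' hq'min
  refine ⟨n, ?_⟩
  rw [← hn]
  exact length_eq_of_ringEquiv (Localization.localRingEquiv q q' e hqq')

end Groth.Agent.S1875
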