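import Groth.Statements.S1919
import Mathlib
import Groth.Agent.S1875
import Groth.Agent.Lib.Helper10FibStalk
import Groth.Agent.Lib.Helper9ResTrdeg
import Groth.Agent.Lib.Helper12FibreLN3
import Groth.Agent.Lib.Helper25SubfieldFG
-- import your own Groth.Agent.* helpers here

set_option autoImplicit false
set_option linter.style.haveILetI false
set_option linter.unusedSectionVars false
universe u
open CategoryTheory AlgebraicGeometry
open CategoryTheory.Limits
open RelCyc

namespace Groth.Agent.S1919

open TensorProduct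

/-- ring-level: every local ring of `K ⊗ L` has `p`-power length, for `K/k` purely inseparable. -/
theorem length_pow_of_purelyInseparable (k K L : Type u) [Field k] [Field K] [Field L]
    [Algebra k K] [Algebra k L] [IsPurelyInseparable k K] [Algebra.EssFiniteType k L]
    (p : ℕ) [ExpChar k p] (q : Ideal (K ⊗[k] L)) [q.IsPrime] :
    ∃ n : ℕ, Module.length (Localization.AtPrime q) (Localization.AtPrime q) = (p ^ n : ℕ) := by
  have hL : (⊤ : IntermediateField k L).FG :=
    Groth.Agent.Lib.Helper25.SubfieldFG.fg_of_essFiniteType ⊤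
  refine Groth.Agent.S1875.result k K L hL p q ?_
  have hsub : Subsingleton (PrimeSpectrum (K ⊗[k] L)) := by
    have h1 := PrimeSpectrum.isHomeomorph_comap_of_isPurelyInseparable k K L
    haveI h2 : Subsingleton (PrimeSpectrum (L ⊗[k] K)) := h1.injective.subsingleton
    exact (PrimeSpectrum.comapEquiv (Algebra.TensorProduct.comm k K L).toRingEquiv).subsingleton
  obtain ⟨q', hq', hle⟩ := Ideal.exists_minimalPrimes_le (bot_le : (⊥ : Ideal (K ⊗[k] L)) ≤ q)
  haveI : q'.IsPrime := hq'.1.1
  have : (⟨q', inferInstance⟩ : PrimeSpectrum (K ⊗[k] L)) = ⟨q, inferInstance⟩ :=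
    Subsingleton.elim _ _
  have h3 : q' = q := congrArg PrimeSpectrum.asIdeal this
  rw [← h3]
  exact hq'

/-- the local ring of `X'` at a point of the fibre modulo the maximal ideal of the base is the
local ring of the fibre. -/
theorem quot_equiv_fiber_stalk {X' X : Scheme.{u}} (π : X' ⟶ X) (x : X) (y : ↥(π.fiber x)) :
    Nonempty ((X'.presheaf.stalk ((π.fiberι x) y) ⧸
      Ideal.map (π.stalkMap ((π.fiberι x) y)).hom
        (IsLocalRing.maximalIdeal (X.presheaf.stalk (π ((π.fiberι x) y))))) ≃+*
      (π.fiber x).presheaf.stalk y) := by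
  have hker := Groth.Agent.Lib.Helper10.FibStalk.ker_eq_map π x y
  have hsurj : Function.Surjective ((π.fiberι x).stalkMap y).hom :=
    (π.fiberι x).stalkMap_surjective y
  exact ⟨(Ideal.quotEquivOfEq hker.symm).trans (RingHom.quotientKerEquivOfSurjective hsurj)⟩

theorem stalk_equiv_localization {F : Scheme.{u}} (B : Type u) [CommRing B]
    (e : F ≅ Spec (CommRingCat.of B)) (y : F) :
    ∃ (q : Ideal B) (_ : q.IsPrime), Nonempty (F.presheaf.stalk y ≃+* Localization.AtPrime q) := by
  have i1 : (Spec (CommRingCat.of B)).presheaf.stalk (e.hom y) ≅ F.presheaf.stalk y :=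
    asIso (e.hom.stalkMap y)
  let z : PrimeSpectrum.Top B := e.hom y
  have i2 := StructureSheaf.stalkIso B z
  exact ⟨z.asIdeal, z.isPrime, ⟨i1.symm.commRingCatIsoToRingEquiv.trans i2.symm.toRingEquiv⟩⟩

theorem fiber_iso (k K : Type u) [Field k] [Field K] [Algebra k K] {X : Scheme.{u}}
    (f : X ⟶ Spec (CommRingCat.of k)) (x : X) :
    letI : Algebra k (X.residueField x) :=
      (Spec.preimage (X.fromSpecResidueField x ≫ f)).hom.toAlgebra
    Nonempty ((pullback.fst f (Spec.map (CommRingCat.ofHom (algebraMap k K)))).fiber x ≅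
      Spec (CommRingCat.of (K ⊗[k] X.residueField x))) := by
  letI : Algebra k (X.residueField x) :=
    (Spec.preimage (X.fromSpecResidueField x ≫ f)).hom.toAlgebra
  let g := Spec.map (CommRingCat.ofHom (algebraMap k K))
  let h := X.fromSpecResidueField x
  have e1 : (pullback.fst f g).fiber x ≅ pullback g (h ≫ f) :=
    pullbackSymmetry _ _ ≪≫ pullbackRightPullbackFstIso f g h ≪≫ pullbackSymmetry _ _
  have hh : h ≫ f = Spec.map (CommRingCat.ofHom (algebraMap k (X.residueField x))) := by
    change _ = Spec.map (CommRingCat.ofHom (Spec.preimage (h ≫ f)).hom)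
    rw [CommRingCat.ofHom_hom, Spec.map_preimage]
  exact ⟨e1 ≪≫ eqToIso (congrArg (fun m => pullback g m) hh) ≪≫
    pullbackSpecIso k K (X.residueField x)⟩


theorem length_fiber_pow (k K : Type u) [Field k] [Field K] [Algebra k K]
    [IsPurelyInseparable k K] (p : ℕ) [ExpChar k p] {X : Scheme.{u}}
    (f : X ⟶ Spec (CommRingCat.of k)) [LocallyOfFiniteType f] (x : X)
    (y : ↥((pullback.fst f (Spec.map (CommRingCat.ofHom (algebraMap k K)))).fiber x)) :
    ∃ e : ℕ, Module.length
      ((pullback f (Spec.map (CommRingCat.ofHom (algebraMap k K)))).presheaf.stalk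
        (((pullback.fst f (Spec.map (CommRingCat.ofHom (algebraMap k K)))).fiberι x) y))
      ((pullback f (Spec.map (CommRingCat.ofHom (algebraMap k K)))).presheaf.stalk
        (((pullback.fst f (Spec.map (CommRingCat.ofHom (algebraMap k K)))).fiberι x) y) ⧸
        Ideal.map ((pullback.fst f (Spec.map (CommRingCat.ofHom (algebraMap k K)))).stalkMap
          (((pullback.fst f (Spec.map (CommRingCat.ofHom (algebraMap k K)))).fiberι x) y)).hom
          (IsLocalRing.maximalIdeal (X.presheaf.stalk
            ((pullback.fst f (Spec.map (CommRingCat.ofHom (algebraMap k K))))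
              (((pullback.fst f (Spec.map (CommRingCat.ofHom (algebraMap k K)))).fiberι x) y)))))
      = (p ^ e : ℕ) := by
  letI : Algebra k (X.residueField x) :=
    (Spec.preimage (X.fromSpecResidueField x ≫ f)).hom.toAlgebra
  haveI : Algebra.EssFiniteType k (X.residueField x) :=
    Groth.Agent.Lib.Helper12.FibreLN3.essFiniteType_fromSpecResidueField_comp f x
  obtain ⟨e1⟩ := quot_equiv_fiber_stalk
    (pullback.fst f (Spec.map (CommRingCat.ofHom (algebraMap k K)))) x y
  obtain ⟨e2⟩ := fiber_iso k K f x
  obtain ⟨q, hq, ⟨e3⟩⟩ := stalk_equiv_localization _ e2 y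
  obtain ⟨n, hn⟩ := length_pow_of_purelyInseparable k K (X.residueField x) p q
  refine ⟨n, ?_⟩
  rw [← hn, ← Groth.Agent.S1875.length_eq_of_ringEquiv (e1.trans e3)]
  exact Module.length_eq_of_surjective Ideal.Quotient.mk_surjective

theorem univInj_of_purelyInseparable (k K : Type u) [Field k] [Field K] [Algebra k K]
    [IsPurelyInseparable k K] :
    UniversallyInjective (Spec.map (CommRingCat.ofHom (algebraMap k K))) := by
  have h01 := (tfae_universallyInjective (Spec.map (CommRingCat.ofHom (algebraMap k K)))).out 0 1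
  rw [h01]
  intro L _ g₁ g₂ hg
  dsimp only at hg
  obtain ⟨a, rfl⟩ : ∃ a, Spec.map a = g₁ := ⟨Spec.preimage g₁, Spec.map_preimage _⟩
  obtain ⟨b, rfl⟩ : ∃ b, Spec.map b = g₂ := ⟨Spec.preimage g₂, Spec.map_preimage _⟩
  rw [← Spec.map_comp, ← Spec.map_comp] at hg
  have h2 := Spec.map_injective hg
  congr 1
  ext1
  exact IsPurelyInseparable.injective_comp_algebraMap k K L (congrArg CommRingCat.Hom.hom h2)

theorem resTrdeg_eq_zero_of_univInj {X Y : Scheme.{u}} (f : X ⟶ Y) [UniversallyInjective f]
    (x : X) : Dual3.resTrdeg f x = 0 := by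
  have h02 := (tfae_universallyInjective f).out 0 2
  have h := h02.mp inferInstance
  have hx := h.2 x
  unfold Dual3.resTrdeg
  letI := (f.residueFieldMap x).hom.toAlgebra
  haveI : IsPurelyInseparable (Y.residueField (f x)) (X.residueField x) := hx
  exact trdeg_eq_zero


theorem main (k K : Type u) [Field k] [Field K] [Algebra k K] [IsPurelyInseparable k K]
    (p : ℕ) [ExpChar k p]
    (X : Scheme.{u}) (f : X ⟶ Spec (CommRingCat.of k)) [LocallyOfFiniteType f] [QuasiCompact f]
    (δ : X → ℤ) (hδ : Cyc.DeltaCompat f δ (fun _ => 0))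
    (δ' : ↥(pullback f (Spec.map (CommRingCat.ofHom (algebraMap k K)))) → ℤ)
    (hδ' : Cyc.DeltaCompat (pullback.snd f (Spec.map (CommRingCat.ofHom (algebraMap k K))))
      δ' (fun _ => 0))
    (r : ℤ) (β : AlgebraicCycle (pullback f (Spec.map (CommRingCat.ofHom (algebraMap k K)))) ℤ)
    (hβ : β ∈ Cyc.Zk _ δ' r) :
    ∃ (n : ℕ) (α : AlgebraicCycle X ℤ), α ∈ Cyc.Zk X δ r ∧
      (p : ℤ) ^ n • ⇑β =
        Cyc.pullFun (pullback.fst f (Spec.map (CommRingCat.ofHom (algebraMap k K)))) δ' δ 0 ⇑α := by
  classical
  haveI hgi : UniversallyInjective (Spec.map (CommRingCat.ofHom (algebraMap k K))) :=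
    univInj_of_purelyInseparable k K
  haveI hgs : Surjective (Spec.map (CommRingCat.ofHom (algebraMap k K))) := by
    refine ⟨fun y => ⟨default, Subsingleton.elim _ _⟩⟩
  haveI : UniversallyInjective (pullback.fst f (Spec.map (CommRingCat.ofHom (algebraMap k K)))) :=
    MorphismProperty.of_isPullback (P := @UniversallyInjective)
      (IsPullback.of_hasPullback f _).flip hgi
  haveI : Surjective (pullback.fst f (Spec.map (CommRingCat.ofHom (algebraMap k K)))) :=
    inferInstance
  have hinj : Function.Injective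
      (pullback.fst f (Spec.map (CommRingCat.ofHom (algebraMap k K)))) :=
    Scheme.Hom.injective _
  have hsurj : Function.Surjective
      (pullback.fst f (Spec.map (CommRingCat.ofHom (algebraMap k K)))) :=
    Scheme.Hom.surjective _
  -- (B)
  have hB : ∀ x', δ' x' = δ ((pullback.fst f (Spec.map (CommRingCat.ofHom (algebraMap k K)))) x') := by
    intro x'
    obtain ⟨n', hn', hd'⟩ := hδ' x'
    obtain ⟨m, hm, hd⟩ := hδ ((pullback.fst f (Spec.map (CommRingCat.ofHom (algebraMap k K)))) x')
    have h1 : Dual3.resTrdeg (pullback.fst f (Spec.map (CommRingCat.ofHom (algebraMap k K))) ≫ f) x'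
        = m := by
      rw [Groth.Agent.Lib.Helper9.ResTrdeg.resTrdeg_comp,
        resTrdeg_eq_zero_of_univInj (pullback.fst f _) x', add_zero]
      exact hm
    have h2 : Dual3.resTrdeg (pullback.snd f (Spec.map (CommRingCat.ofHom (algebraMap k K))) ≫
        Spec.map (CommRingCat.ofHom (algebraMap k K))) x' = n' := by
      rw [Groth.Agent.Lib.Helper9.ResTrdeg.resTrdeg_comp,
        resTrdeg_eq_zero_of_univInj (Spec.map (CommRingCat.ofHom (algebraMap k K))), zero_add]
      exact hn'
    have h4 : (m : Cardinal.{u}) = n' := by rw [← h1, ← h2, pullback.condition]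
    have h5 : m = n' := by exact_mod_cast h4
    rw [hd, hd', h5]
  -- (C)
  have hC : ∀ x' : ↥(pullback f (Spec.map (CommRingCat.ofHom (algebraMap k K)))), ∃ e : ℕ,
      Module.length ((pullback f (Spec.map (CommRingCat.ofHom (algebraMap k K)))).presheaf.stalk x')
        ((pullback f (Spec.map (CommRingCat.ofHom (algebraMap k K)))).presheaf.stalk x' ⧸
          Ideal.map ((pullback.fst f (Spec.map (CommRingCat.ofHom (algebraMap k K)))).stalkMap x').hom
            (IsLocalRing.maximalIdeal (X.presheaf.stalk
              ((pullback.fst f (Spec.map (CommRingCat.ofHom (algebraMap k K)))) x')))) =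
        (p ^ e : ℕ) := by
    intro x'
    have key : ∀ z : ↥(pullback f (Spec.map (CommRingCat.ofHom (algebraMap k K)))), z = x' →
        (∃ e : ℕ, Module.length
          ((pullback f (Spec.map (CommRingCat.ofHom (algebraMap k K)))).presheaf.stalk z)
          ((pullback f (Spec.map (CommRingCat.ofHom (algebraMap k K)))).presheaf.stalk z ⧸
            Ideal.map ((pullback.fst f (Spec.map (CommRingCat.ofHom (algebraMap k K)))).stalkMap z).hom
              (IsLocalRing.maximalIdeal (X.presheaf.stalk
                ((pullback.fst f (Spec.map (CommRingCat.ofHom (algebraMap k K)))) z)))) =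
          (p ^ e : ℕ)) →
        ∃ e : ℕ, Module.length
          ((pullback f (Spec.map (CommRingCat.ofHom (algebraMap k K)))).presheaf.stalk x')
          ((pullback f (Spec.map (CommRingCat.ofHom (algebraMap k K)))).presheaf.stalk x' ⧸
            Ideal.map ((pullback.fst f (Spec.map (CommRingCat.ofHom (algebraMap k K)))).stalkMap x').hom
              (IsLocalRing.maximalIdeal (X.presheaf.stalk
                ((pullback.fst f (Spec.map (CommRingCat.ofHom (algebraMap k K)))) x')))) =
          (p ^ e : ℕ) := by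
      rintro z rfl h
      exact h
    exact key _ (Scheme.Hom.fiberι_asFiber _ x')
      (length_fiber_pow k K p f _ (Scheme.Hom.asFiber _ x'))
  choose e he using hC
  -- (D)
  haveI : CompactSpace ↥(pullback f (Spec.map (CommRingCat.ofHom (algebraMap k K)))) :=
    QuasiCompact.compactSpace_of_compactSpace
      (pullback.snd f (Spec.map (CommRingCat.ofHom (algebraMap k K))))
  have hfin : (Function.support ⇑β).Finite := by
    have := (Function.locallyFinsupp.locallyFiniteSupport β).finite_inter_support_of_isCompact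
      isCompact_univ
    simpa using this
  let n := hfin.toFinset.sup e
  have hn : ∀ x', β x' ≠ 0 → e x' ≤ n := fun x' hx' =>
    Finset.le_sup (f := e) (hfin.mem_toFinset.mpr hx')
  let s := Function.surjInv hsurj
  have hs : ∀ x, (pullback.fst f (Spec.map (CommRingCat.ofHom (algebraMap k K)))) (s x) = x :=
    Function.surjInv_eq hsurj
  have hs' : ∀ x', s ((pullback.fst f (Spec.map (CommRingCat.ofHom (algebraMap k K)))) x') = x' :=
    fun x' => hinj (hs _)
  let αf : X → ℤ := fun x => (p : ℤ) ^ (n - e (s x)) * β (s x)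
  have hαsupp : (Function.support αf).Finite := by
    refine (hfin.image (pullback.fst f (Spec.map (CommRingCat.ofHom (algebraMap k K))))).subset ?_
    intro x hx
    refine ⟨s x, ?_, hs x⟩
    intro h0
    apply hx
    change (p : ℤ) ^ (n - e (s x)) * β (s x) = 0
    rw [h0, mul_zero]
  let α : AlgebraicCycle X ℤ :=
    ⟨αf, fun _ _ => trivial, fun z _ => ⟨Set.univ, Filter.univ_mem, by simpa using hαsupp⟩⟩
  refine ⟨n, α, ?_, ?_⟩
  · intro x hx
    change (p : ℤ) ^ (n - e (s x)) * β (s x) = 0
    have : β (s x) = 0 := hβ (s x) (by rw [hB, hs]; exact hx)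
    rw [this, mul_zero]
  · funext x'
    unfold Cyc.pullFun
    rw [if_pos (by rw [hB x', add_zero])]
    change (p : ℤ) ^ n * β x' = ((p : ℤ) ^ (n - e (s _)) * β (s _)) * _
    rw [he x', hs']
    by_cases h0 : β x' = 0
    · rw [h0]; ring
    · have := hn x' h0
      have h6 : ((p ^ e x' : ℕ) : ℕ∞).toNat = p ^ e x' := ENat.toNat_natCast _
      rw [h6]
      push_cast
      rw [mul_assoc, mul_comm (β x'), ← mul_assoc, pow_sub_mul_pow _ this]


/-- For a scheme X of finite type over a field k of characteristic p > 0, with base change X' = X ×_k k'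
to the perfect closure k', the base change map Z_r(X) → Z_r(X') (flat pullback along the projection)
has p-power torsion cokernel: for every r-cycle β on X' some p^n β is the base change of an r-cycle
on X. Dimension functions are transcendence degrees of residue fields over the ground fields. -/
theorem result (k : Type u) [Field k] (p : ℕ) [Fact p.Prime] [CharP k p] (X : Scheme.{u}) (f : X ⟶ Spec (CommRingCat.of k)) [LocallyOfFiniteType f] [QuasiCompact f] (δ : X → ℤ) (hδ : Cyc.DeltaCompat f δ (fun _ => 0)) (δ' : ↥(pullback f (Spec.map (CommRingCat.ofHom (PerfectClosure.of k p)))) → ℤ) (hδ' : Cyc.DeltaCompat (pullback.snd f (Spec.map (CommRingCat.ofHom (PerfectClosure.of k p)))) δ' (fun _ => 0)) (r : ℤ) (β : AlgebraicCycle (pullback f (Spec.map (CommRingCat.ofHom (PerfectClosure.of k p)))) ℤ) (hβ : β ∈ Cyc.Zk _ δ' r) : ∃ (n : ℕ) (α : AlgebraicCycle X ℤ), α ∈ Cyc.Zk X δ r ∧ (p : ℤ) ^ n • ⇑β = Cyc.pullFun (pullback.fst f (Spec.map (CommRingCat.ofHom (PerfectClosure.of k p)))) δ' δ 0 ⇑α := by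
  letI : Algebra k (PerfectClosure k p) := (PerfectClosure.of k p).toAlgebra
  haveI : ExpChar k p := ExpChar.prime Fact.out
  haveI : IsPRadical (algebraMap k (PerfectClosure k p)) p := PerfectClosure.isPRadical k p
  haveI : IsPurelyInseparable k (PerfectClosure k p) := IsPRadical.isPurelyInseparable k _ p
  exact main k (PerfectClosure k p) p X f δ hδ δ' hδ' r β hβ

end Groth.Agent.S1919
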