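import Groth.Statements.S4687
import Mathlib
import Groth.Agent.S1875
import Groth.Agent.S1919
-- import your own Groth.Agent.* helpers here

set_option autoImplicit false
set_option linter.style.haveILetI false
set_option linter.unusedSectionVars false
open CategoryTheory AlgebraicGeometry
universe u
open FBase

namespace Groth.Agent.S4687

open CategoryTheory.Limits TensorProduct

/-- a maximal point has a zero-dimensional local ring. -/
theorem krullDimLE_zero_of_maximal {X : Scheme.{u}} (x : X) (hx : ∀ z : X, z ⤳ x → z = x) :
    Ring.KrullDimLE 0 (X.presheaf.stalk x) := by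
  apply krullDimLE_of_coheight_le
  have : IsMax x := by
    intro b hb
    have : b = x := hx b hb
    rw [this]
  rw [Order.coheight_eq_zero.mpr this]
  exact le_rfl

/-- the fibre factor at a maximal point of a reduced fibre is `1`. -/
theorem length_fiber_eq_one {X'' X' : Scheme.{u}} (π : X'' ⟶ X') (x : X') (y : ↥(π.fiber x))
    [IsReduced (π.fiber x)]
    (hmax : ∀ z : X'', z ⤳ (π.fiberι x) y → z = (π.fiberι x) y) :
    Module.length (X''.presheaf.stalk ((π.fiberι x) y))
      (X''.presheaf.stalk ((π.fiberι x) y) ⧸
        Ideal.map (π.stalkMap ((π.fiberι x) y)).hom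
          (IsLocalRing.maximalIdeal (X'.presheaf.stalk (π ((π.fiberι x) y))))) = 1 := by
  obtain ⟨e1⟩ := Groth.Agent.S1919.quot_equiv_fiber_stalk π x y
  haveI h0 : Ring.KrullDimLE 0 (X''.presheaf.stalk ((π.fiberι x) y)) :=
    krullDimLE_zero_of_maximal _ hmax
  have hsurj : Function.Surjective ((π.fiberι x).stalkMap y).hom :=
    (π.fiberι x).stalkMap_surjective y
  haveI h1 : Ring.KrullDimLE 0 ((π.fiber x).presheaf.stalk y) := by
    rw [Ring.krullDimLE_iff] at h0 ⊢
    exact (ringKrullDim_le_of_surjective _ hsurj).trans h0
  have hF : IsField ((π.fiber x).presheaf.stalk y) := Ring.KrullDimLE.isField_of_isReduced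
  letI : Field ((π.fiber x).presheaf.stalk y) := hF.toField
  have h2 : Module.length ((π.fiber x).presheaf.stalk y) ((π.fiber x).presheaf.stalk y) = 1 := by
    rw [Module.length_eq_finrank, Module.finrank_self]
    rfl
  rw [← h2, ← Groth.Agent.S1875.length_eq_of_ringEquiv e1]
  exact Module.length_eq_of_surjective Ideal.Quotient.mk_surjective

theorem length_eq_of_flat_of_reduced_fiber {X'' X' : Scheme.{u}} (π : X'' ⟶ X') [Flat π]
    (x'' : X'') (hmax : ∀ z : X'', z ⤳ x'' → z = x'') [IsReduced (π.fiber (π x''))] :
    Module.length (X''.presheaf.stalk x'') (X''.presheaf.stalk x'') =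
      Module.length (X'.presheaf.stalk (π x'')) (X'.presheaf.stalk (π x'')) := by
  have hone : Module.length (X''.presheaf.stalk x'')
      (X''.presheaf.stalk x'' ⧸ Ideal.map (π.stalkMap x'').hom
        (IsLocalRing.maximalIdeal (X'.presheaf.stalk (π x'')))) = 1 := by
    have key : ∀ z : X'', z = x'' →
        Module.length (X''.presheaf.stalk z)
          (X''.presheaf.stalk z ⧸ Ideal.map (π.stalkMap z).hom
            (IsLocalRing.maximalIdeal (X'.presheaf.stalk (π z)))) = 1 →
        Module.length (X''.presheaf.stalk x'')
          (X''.presheaf.stalk x'' ⧸ Ideal.map (π.stalkMap x'').hom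
            (IsLocalRing.maximalIdeal (X'.presheaf.stalk (π x'')))) = 1 := by
      rintro z rfl h
      exact h
    refine key _ (Scheme.Hom.fiberι_asFiber π x'') (length_fiber_eq_one π _ (π.asFiber x'') ?_)
    rw [Scheme.Hom.fiberι_asFiber]
    exact hmax
  letI : Algebra (X'.presheaf.stalk (π x'')) (X''.presheaf.stalk x'') :=
    (π.stalkMap x'').hom.toAlgebra
  haveI : Module.Flat (X'.presheaf.stalk (π x'')) (X''.presheaf.stalk x'') :=
    Flat.stalkMap π x''
  haveI : IsLocalHom (algebraMap (X'.presheaf.stalk (π x'')) (X''.presheaf.stalk x'')) :=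
    inferInstanceAs (IsLocalHom (π.stalkMap x'').hom)
  have h1 := IsLocalRing.length_baseChange (X'.presheaf.stalk (π x'')) (X''.presheaf.stalk x'')
    (X'.presheaf.stalk (π x''))
  have h2 : Module.length (X''.presheaf.stalk x'')
      (X''.presheaf.stalk x'' ⊗[X'.presheaf.stalk (π x'')] X'.presheaf.stalk (π x'')) =
      Module.length (X''.presheaf.stalk x'') (X''.presheaf.stalk x'') :=
    (TensorProduct.AlgebraTensorModule.rid (X'.presheaf.stalk (π x'')) (X''.presheaf.stalk x'')
      (X''.presheaf.stalk x'')).length_eq
  rw [h2] at h1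
  rw [h1]
  have h3 : Module.length (X''.presheaf.stalk x'')
      (X''.presheaf.stalk x'' ⧸ Ideal.map
        (algebraMap (X'.presheaf.stalk (π x'')) (X''.presheaf.stalk x''))
        (IsLocalRing.maximalIdeal (X'.presheaf.stalk (π x'')))) = 1 := hone
  rw [h3, mul_one]


/-- Let X be an integral locally Noetherian scheme over a field k, k′ an extension field of k such that
X′ = X ⊗_k k′ is locally Noetherian, and k″ an extension field of k′ which is separable over k′
(Spec k″ → Spec k′ geometrically reduced) and such that (X′)_red ⊗_{k′} k″ is locally Noetherian.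
Then for every maximal point x″ of X″ = X′ ⊗_{k′} k″ (generic point of an irreducible component),
with image x′ in X′, the local rings O_{X″,x″} and O_{X′,x′} have the same length, each as a module
over itself, with values in ℕ∞. -/
theorem result {k k' k'' : Type u} [Field k] [Field k'] [Field k''] [Algebra k k']
    [Algebra k' k''] {X : Scheme.{u}} (f : X ⟶ Spec (CommRingCat.of k)) [IsIntegral X] [IsLocallyNoetherian X]
    [IsLocallyNoetherian (FBase.bc f k')] [GeometricallyReduced (Spec.map (CommRingCat.ofHom (algebraMap k' k'')))]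
    [IsLocallyNoetherian (FBase.bc ((FBase.bc f k').nilradical.subschemeι ≫ FBase.bcStr f k') k'')]
    (x'' : ↥(FBase.bc (FBase.bcStr f k') k'')) (hx'' : ∀ z : ↥(FBase.bc (FBase.bcStr f k') k''), z ⤳ x'' → z = x'') :
    Module.length ((FBase.bc (FBase.bcStr f k') k'').presheaf.stalk x'') ((FBase.bc (FBase.bcStr f k') k'').presheaf.stalk x'') =
      Module.length ((FBase.bc f k').presheaf.stalk (FBase.bcπ (FBase.bcStr f k') k'' x''))
        ((FBase.bc f k').presheaf.stalk (FBase.bcπ (FBase.bcStr f k') k'' x'')) := by
  haveI : Flat (Spec.map (CommRingCat.ofHom (algebraMap k' k''))) := by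
    rw [Flat.SpecMap_iff]
    change (algebraMap k' k'').Flat
    exact RingHom.flat_algebraMap_iff.mpr inferInstance
  haveI : Flat (pullback.fst (FBase.bcStr f k')
      (Spec.map (CommRingCat.ofHom (algebraMap k' k'')))) := inferInstance
  haveI : GeometricallyReduced (pullback.fst (FBase.bcStr f k')
      (Spec.map (CommRingCat.ofHom (algebraMap k' k'')))) := inferInstance
  exact length_eq_of_flat_of_reduced_fiber (pullback.fst (FBase.bcStr f k')
      (Spec.map (CommRingCat.ofHom (algebraMap k' k'')))) x'' hx''

end Groth.Agent.S4687
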