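import Groth.Statements.S4686
import Mathlib
import Groth.Agent.S1875
import Groth.Agent.S1919
import Groth.Agent.S4687
import Groth.Agent.Lib.Helper6Reduced
-- import your own Groth.Agent.* helpers here

set_option autoImplicit false
set_option linter.style.haveILetI false
set_option linter.unusedSectionVars false
open CategoryTheory AlgebraicGeometry
universe u
open FBase

namespace Groth.Agent.S4686

open CategoryTheory.Limits TensorProduct

/-- the flat local length formula at the level of stalks. -/
theorem length_stalk_flat {X'' X' : Scheme.{u}} (π : X'' ⟶ X') [Flat π] (x'' : X'') :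
    Module.length (X''.presheaf.stalk x'') (X''.presheaf.stalk x'') =
      Module.length (X'.presheaf.stalk (π x'')) (X'.presheaf.stalk (π x'')) *
      Module.length (X''.presheaf.stalk x'')
        (X''.presheaf.stalk x'' ⧸ Ideal.map (π.stalkMap x'').hom
          (IsLocalRing.maximalIdeal (X'.presheaf.stalk (π x'')))) := by
  letI : Algebra (X'.presheaf.stalk (π x'')) (X''.presheaf.stalk x'') :=
    (π.stalkMap x'').hom.toAlgebra
  haveI : Module.Flat (X'.presheaf.stalk (π x'')) (X''.presheaf.stalk x'') :=
    Flat.stalkMap π x''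
  haveI : IsLocalHom (algebraMap (X'.presheaf.stalk (π x'')) (X''.presheaf.stalk x'')) :=
    inferInstanceAs (IsLocalHom (π.stalkMap x'').hom)
  have h1 := IsLocalRing.length_baseChange (X'.presheaf.stalk (π x'')) (X''.presheaf.stalk x'')
    (X'.presheaf.stalk (π x''))
  have h2 : Module.length (X''.presheaf.stalk x'')
      (X''.presheaf.stalk x'' ⊗[X'.presheaf.stalk (π x'')] X'.presheaf.stalk (π x'')) =
      Module.length (X''.presheaf.stalk x'') (X''.presheaf.stalk x'') :=
    (TensorProduct.AlgebraTensorModule.rid (X'.presheaf.stalk (π x'')) (X''.presheaf.stalk x'')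
      (X''.presheaf.stalk x'')).length_eq
  rw [h2] at h1
  exact h1

/-- the fibre factor is the length of the local ring of the fibre. -/
theorem fiber_factor_eq {X'' X' : Scheme.{u}} (π : X'' ⟶ X') (x : X') (y : ↥(π.fiber x)) :
    Module.length (X''.presheaf.stalk ((π.fiberι x) y))
      (X''.presheaf.stalk ((π.fiberι x) y) ⧸
        Ideal.map (π.stalkMap ((π.fiberι x) y)).hom
          (IsLocalRing.maximalIdeal (X'.presheaf.stalk (π ((π.fiberι x) y))))) =
    Module.length ((π.fiber x).presheaf.stalk y) ((π.fiber x).presheaf.stalk y) := by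
  obtain ⟨e1⟩ := Groth.Agent.S1919.quot_equiv_fiber_stalk π x y
  rw [← Groth.Agent.S1875.length_eq_of_ringEquiv e1]
  exact Module.length_eq_of_surjective Ideal.Quotient.mk_surjective

theorem fiber_factor_eq' {X'' X' : Scheme.{u}} (π : X'' ⟶ X') (x'' : X'') :
    Module.length (X''.presheaf.stalk x'')
      (X''.presheaf.stalk x'' ⧸ Ideal.map (π.stalkMap x'').hom
          (IsLocalRing.maximalIdeal (X'.presheaf.stalk (π x'')))) =
    Module.length ((π.fiber (π x'')).presheaf.stalk (π.asFiber x''))
      ((π.fiber (π x'')).presheaf.stalk (π.asFiber x'')) := by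
  have key : ∀ z : X'', z = x'' →
      Module.length (X''.presheaf.stalk z)
        (X''.presheaf.stalk z ⧸ Ideal.map (π.stalkMap z).hom
          (IsLocalRing.maximalIdeal (X'.presheaf.stalk (π z)))) =
      Module.length (X''.presheaf.stalk x'')
        (X''.presheaf.stalk x'' ⧸ Ideal.map (π.stalkMap x'').hom
          (IsLocalRing.maximalIdeal (X'.presheaf.stalk (π x'')))) := by
    rintro z rfl
    rfl
  rw [← key _ (Scheme.Hom.fiberι_asFiber π x'')]
  exact fiber_factor_eq π (π x'') (π.asFiber x'')

theorem length_stalk_eq_of_iso {F G : Scheme.{u}} (Φ : F ≅ G) (y : F) :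
    Module.length (F.presheaf.stalk y) (F.presheaf.stalk y) =
      Module.length (G.presheaf.stalk (Φ.hom y)) (G.presheaf.stalk (Φ.hom y)) :=
  (Groth.Agent.S1875.length_eq_of_ringEquiv
    (asIso (Φ.hom.stalkMap y)).commRingCatIsoToRingEquiv).symm

/-- residue field maps of closed immersions are isomorphisms. -/
theorem isIso_residueFieldMap {R X' : Scheme.{u}} (ι : R ⟶ X') [IsClosedImmersion ι] (r : R) :
    IsIso (ι.residueFieldMap r) := by
  have hsurj : Function.Surjective (ι.residueFieldMap r).hom := by
    have h1 := Scheme.residue_residueFieldMap ι r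
    have h2 : Function.Surjective (ι.stalkMap r ≫ R.residue r).hom := by
      rw [CommRingCat.hom_comp]
      exact (Scheme.residue_surjective R r).comp (ι.stalkMap_surjective r)
    rw [← h1, CommRingCat.hom_comp] at h2
    rw [RingHom.coe_comp] at h2
    exact Function.Surjective.of_comp h2
  have hbij : Function.Bijective (ι.residueFieldMap r).hom :=
    ⟨(ι.residueFieldMap r).hom.injective, hsurj⟩
  exact (ConcreteCategory.isIso_iff_bijective _).mpr hbij

/-- fibres of a base change of `π` along a closed immersion. -/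
theorem fiber_iso_of_isPullback {X'' X' R Z'' : Scheme.{u}} (π : X'' ⟶ X') (ι : R ⟶ X')
    (j : Z'' ⟶ X'') (πZ : Z'' ⟶ R) (sq : IsPullback j πZ π ι) [IsClosedImmersion ι] (r : R) :
    ∃ Φ : πZ.fiber r ≅ π.fiber (ι r), Φ.hom ≫ π.fiberι (ι r) = πZ.fiberι r ≫ j := by
  haveI := isIso_residueFieldMap ι r
  have h1 : IsPullback (πZ.fiberι r) (πZ.fiberToSpecResidueField r) πZ
      (R.fromSpecResidueField r) := IsPullback.of_hasPullback _ _
  have h2 := h1.paste_horiz sq
  have h3 : IsPullback (πZ.fiberι r ≫ j)
      (πZ.fiberToSpecResidueField r ≫ Spec.map (ι.residueFieldMap r)) π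
      (X'.fromSpecResidueField (ι r)) := by
    refine h2.of_iso (Iso.refl _) (Iso.refl _) (asIso (Spec.map (ι.residueFieldMap r)))
      (Iso.refl _) ?_ ?_ ?_ ?_
    · simp
    · simp
    · simp
    · simp
  exact ⟨h3.isoPullback, h3.isoPullback_hom_fst⟩

/-- main abstract statement. -/
theorem fiber_factor_eq_length {X'' X' R Z'' : Scheme.{u}} (π : X'' ⟶ X') (ι : R ⟶ X')
    (j : Z'' ⟶ X'') (πZ : Z'' ⟶ R) (sq : IsPullback j πZ π ι) [IsClosedImmersion ι] [Flat πZ]
    (z'' : Z'')
    (hone : Module.length (R.presheaf.stalk (πZ z'')) (R.presheaf.stalk (πZ z'')) = 1) :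
    Module.length (X''.presheaf.stalk (j z''))
      (X''.presheaf.stalk (j z'') ⧸ Ideal.map (π.stalkMap (j z'')).hom
          (IsLocalRing.maximalIdeal (X'.presheaf.stalk (π (j z''))))) =
    Module.length (Z''.presheaf.stalk z'') (Z''.presheaf.stalk z'') := by
  obtain ⟨Φ, hΦ⟩ := fiber_iso_of_isPullback π ι j πZ sq (πZ z'')
  -- the point of the fibre of `π`
  set yZ := πZ.asFiber z'' with hyZ
  set y := Φ.hom yZ with hy
  have hyj : (π.fiberι (ι (πZ z''))) y = j z'' := by
    rw [hy, ← Scheme.Hom.comp_apply, hΦ, Scheme.Hom.comp_apply, hyZ,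
      Scheme.Hom.fiberι_asFiber]
  have key : ∀ z : X'', z = j z'' →
      Module.length (X''.presheaf.stalk z)
        (X''.presheaf.stalk z ⧸ Ideal.map (π.stalkMap z).hom
          (IsLocalRing.maximalIdeal (X'.presheaf.stalk (π z)))) =
      Module.length (X''.presheaf.stalk (j z''))
        (X''.presheaf.stalk (j z'') ⧸ Ideal.map (π.stalkMap (j z'')).hom
          (IsLocalRing.maximalIdeal (X'.presheaf.stalk (π (j z''))))) := by
    rintro z rfl
    rfl
  rw [← key _ hyj, fiber_factor_eq π _ y, hy, ← length_stalk_eq_of_iso Φ yZ,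
    ← fiber_factor_eq' πZ z'', length_stalk_flat πZ z'', hone, one_mul]


theorem length_stalk_eq_one_of_maximal {R : Scheme.{u}} [IsReduced R] (r : R)
    (hr : ∀ z : R, z ⤳ r → z = r) :
    Module.length (R.presheaf.stalk r) (R.presheaf.stalk r) = 1 := by
  haveI := Groth.Agent.S4687.krullDimLE_zero_of_maximal r hr
  have hF : IsField (R.presheaf.stalk r) := Ring.KrullDimLE.isField_of_isReduced
  letI : Field (R.presheaf.stalk r) := hF.toField
  rw [Module.length_eq_finrank, Module.finrank_self]
  rfl

theorem main {X' R B T : Scheme.{u}} (g' : X' ⟶ B) (s : T ⟶ B) [Flat s] (ι : R ⟶ X')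
    [IsClosedImmersion ι] [IsReduced R]
    (j : pullback (ι ≫ g') s ⟶ pullback g' s)
    (hj1 : j ≫ pullback.fst g' s = pullback.fst (ι ≫ g') s ≫ ι)
    (hj2 : j ≫ pullback.snd g' s = pullback.snd (ι ≫ g') s)
    (z'' : ↥(pullback (ι ≫ g') s))
    (hmax : ∀ z : ↥(pullback g' s), z ⤳ j z'' → z = j z'') :
    Module.length ((pullback g' s).presheaf.stalk (j z''))
      ((pullback g' s).presheaf.stalk (j z'')) =
    Module.length (X'.presheaf.stalk ((pullback.fst g' s) (j z'')))
      (X'.presheaf.stalk ((pullback.fst g' s) (j z''))) *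
    Module.length ((pullback (ι ≫ g') s).presheaf.stalk z'')
      ((pullback (ι ≫ g') s).presheaf.stalk z'') := by
  haveI : Flat (pullback.fst g' s) := inferInstance
  haveI : Flat (pullback.fst (ι ≫ g') s) := inferInstance
  have sq : IsPullback j (pullback.fst (ι ≫ g') s) (pullback.fst g' s) ι := by
    have hbig : IsPullback (j ≫ pullback.snd g' s) (pullback.fst (ι ≫ g') s) s (ι ≫ g') := by
      rw [hj2]
      exact (IsPullback.of_hasPullback (ι ≫ g') s).flip
    exact IsPullback.of_right hbig hj1 (IsPullback.of_hasPullback g' s).flip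
  haveI hjcl : IsClosedImmersion j :=
    MorphismProperty.of_isPullback (P := @IsClosedImmersion) sq.flip inferInstance
  have hzmax : ∀ w : ↥(pullback (ι ≫ g') s), w ⤳ z'' → w = z'' := by
    intro w hw
    have h1 : j w ⤳ j z'' := hw.map j.continuous
    exact j.isEmbedding.injective (hmax _ h1)
  have hrmax : ∀ r₁ : R, r₁ ⤳ (pullback.fst (ι ≫ g') s) z'' →
      r₁ = (pullback.fst (ι ≫ g') s) z'' := by
    intro r₁ hr₁
    obtain ⟨w, hw, hwr⟩ := (Flat.generalizingMap (pullback.fst (ι ≫ g') s)) hr₁
    rw [← hwr, hzmax w hw]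
  have hone := length_stalk_eq_one_of_maximal _ hrmax
  rw [length_stalk_flat (pullback.fst g' s) (j z''),
    fiber_factor_eq_length (pullback.fst g' s) ι j (pullback.fst (ι ≫ g') s) sq z'' hone]


open CategoryTheory.Limits in
/-- Let X be an integral locally Noetherian scheme over a field k, k′ an extension field of k such that
X′ = X ⊗_k k′ is locally Noetherian, and k″ an extension field of k′; put X″ = X′ ⊗_{k′} k″ and Z″ =
(X′)_red ⊗_{k′} k″, with its canonical closed immersion j : Z″ → X″ (a homeomorphism). Let x″ be a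
maximal point of X″ (the generic point of an irreducible component), x′ its image in X′ and z″ the
point of Z″ with j(z″) = x″. Then length(O_{X″,x″}) = length(O_{X′,x′}) · length(O_{Z″,z″}), each
local ring being measured as a module over itself, with values in ℕ∞. -/
theorem result {k k' k'' : Type u} [Field k] [Field k'] [Field k''] [Algebra k k']
    [Algebra k' k''] {X : Scheme.{u}} (f : X ⟶ Spec (CommRingCat.of k)) [IsIntegral X] [IsLocallyNoetherian X]
    [IsLocallyNoetherian (FBase.bc f k')] (x'' : ↥(FBase.bc (FBase.bcStr f k') k''))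
    (hx'' : ∀ z : ↥(FBase.bc (FBase.bcStr f k') k''), z ⤳ x'' → z = x'')
    (z'' : ↥(FBase.bc ((FBase.bc f k').nilradical.subschemeι ≫ FBase.bcStr f k') k''))
    (hz'' : pullback.map ((FBase.bc f k').nilradical.subschemeι ≫ FBase.bcStr f k')
        (Spec.map (CommRingCat.ofHom (algebraMap k' k''))) (FBase.bcStr f k')
        (Spec.map (CommRingCat.ofHom (algebraMap k' k''))) (FBase.bc f k').nilradical.subschemeι (𝟙 _) (𝟙 _)
        (Category.comp_id _) ((Category.comp_id _).trans (Category.id_comp _).symm) z'' = x'') :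
    Module.length ((FBase.bc (FBase.bcStr f k') k'').presheaf.stalk x'') ((FBase.bc (FBase.bcStr f k') k'').presheaf.stalk x'') =
      Module.length ((FBase.bc f k').presheaf.stalk (FBase.bcπ (FBase.bcStr f k') k'' x''))
          ((FBase.bc f k').presheaf.stalk (FBase.bcπ (FBase.bcStr f k') k'' x'')) *
        Module.length ((FBase.bc ((FBase.bc f k').nilradical.subschemeι ≫ FBase.bcStr f k') k'').presheaf.stalk z'')
          ((FBase.bc ((FBase.bc f k').nilradical.subschemeι ≫ FBase.bcStr f k') k'').presheaf.stalk z'') := by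
  subst hz''
  haveI := Groth.Agent.Lib.Helper6.isReduced_nilradical_subscheme (FBase.bc f k')
  haveI : Flat (Spec.map (CommRingCat.ofHom (algebraMap k' k''))) := by
    rw [Flat.SpecMap_iff]
    change (algebraMap k' k'').Flat
    exact RingHom.flat_algebraMap_iff.mpr inferInstance
  exact main (FBase.bcStr f k') (Spec.map (CommRingCat.ofHom (algebraMap k' k'')))
    (FBase.bc f k').nilradical.subschemeι _ (pullback.lift_fst _ _ _)
    (by rw [pullback.lift_snd, Category.comp_id]) z'' hx''

end Groth.Agent.S4686
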