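import Groth.Statements.S7287
import Mathlib
import Groth.Agent.Lib.Helper20ResFld
import Groth.Agent.Lib.Helper9ResTrdeg
import Groth.Agent.Lib.Helper16TrdegAlg
-- import your own Groth.Agent.* helpers here

set_option autoImplicit false
set_option linter.style.haveILetI false
set_option linter.unusedSectionVars false
open CategoryTheory CategoryTheory.Limits AlgebraicGeometry Opposite
universe u
open RelCyc

namespace Groth.Agent.S7287

open Groth.Agent.Lib.Helper16.TrdegAlg Scheme.Pullback

/-- residue field map with a propositional target point -/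
noncomputable def resMap {X Y : Scheme.{u}} (φ : X ⟶ Y) (a : X) (b : Y) (h : φ a = b) :
    Y.residueField b →+* X.residueField a :=
  ((Y.residueFieldCongr h).inv ≫ φ.residueFieldMap a).hom

theorem resMap_rfl {X Y : Scheme.{u}} (φ : X ⟶ Y) (a : X) :
    resMap φ a (φ a) rfl = (φ.residueFieldMap a).hom := by
  simp [resMap]

theorem resMap_comp {X Y Z : Scheme.{u}} (φ : X ⟶ Y) (ψ : Y ⟶ Z) (a : X) (b : Y) (c : Z)
    (h₁ : φ a = b) (h₂ : ψ b = c) :
    (resMap φ a b h₁).comp (resMap ψ b c h₂) =
      resMap (φ ≫ ψ) a c (by rw [Scheme.Hom.comp_apply, h₁, h₂]) := by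
  subst h₁ h₂
  have h := resMap_rfl (φ ≫ ψ) a
  simp only [resMap_rfl]
  refine Eq.trans ?_ h.symm
  rw [Scheme.residueFieldMap_comp]
  rfl

theorem resMap_congr {X Y : Scheme.{u}} {φ φ' : X ⟶ Y} (e : φ = φ') (a : X) (b : Y)
    (h : φ a = b) : resMap φ a b h = resMap φ' a b (e ▸ h) := by
  subst e; rfl

theorem resMap_square {P X Y S : Scheme.{u}} (a : P ⟶ X) (b : X ⟶ S) (c : P ⟶ Y) (d : Y ⟶ S)
    (comm : a ≫ b = c ≫ d) (w : P) (x : X) (y : Y) (s : S) (h1 : a w = x) (h2 : b x = s)
    (h3 : c w = y) (h4 : d y = s) :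
    (resMap a w x h1).comp (resMap b x s h2) = (resMap c w y h3).comp (resMap d y s h4) := by
  rw [resMap_comp, resMap_comp]
  exact resMap_congr comm _ _ _

theorem resMap_mem_of_forall {X Y : Scheme.{u}} (φ : X ⟶ Y) (a : X) (b : Y) (h : φ a = b)
    (F : Subfield (X.residueField a)) (h1 : ∀ z, resMap φ a b h z ∈ F) (b' : Y) (h' : φ a = b')
    (z : Y.residueField b') : resMap φ a b' h' z ∈ F := by
  subst h
  subst h'
  exact h1 z

theorem gen_of_isPullback {P X Y S : Scheme.{u}} {fst : P ⟶ X} {snd : P ⟶ Y} {f : X ⟶ S}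
    {g : Y ⟶ S} (h : IsPullback fst snd f g) (w : P) (x : X) (y : Y) (hx : fst w = x)
    (hy : snd w = y) : Gen (resMap fst w x hx) (resMap snd w y hy) := by
  intro F h1 h2
  let e := h.isoPullback
  have he1 : e.hom ≫ pullback.fst f g = fst := h.isoPullback_hom_fst
  have he2 : e.hom ≫ pullback.snd f g = snd := h.isoPullback_hom_snd
  let ρ := (e.hom.residueFieldMap w).hom
  have hρ : Function.Bijective ρ := ConcreteCategory.bijective_of_isIso (e.hom.residueFieldMap w)
  let F' : Subfield ((pullback f g).residueField (e.hom w)) := F.comap ρ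
  have key1 : ∀ a, (pullback.fst f g).residueFieldMap (e.hom w) a ∈ F' := by
    intro a
    change ρ ((pullback.fst f g).residueFieldMap (e.hom w) a) ∈ F
    have h3 := resMap_comp e.hom (pullback.fst f g) w (e.hom w) _ rfl rfl
    rw [resMap_congr he1, resMap_rfl, resMap_rfl] at h3
    have h4 : ρ ((pullback.fst f g).residueFieldMap (e.hom w) a) = _ := congr($h3 a)
    rw [h4]
    exact resMap_mem_of_forall fst w x hx F h1 _ _ _
  have key2 : ∀ a, (pullback.snd f g).residueFieldMap (e.hom w) a ∈ F' := by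
    intro a
    change ρ ((pullback.snd f g).residueFieldMap (e.hom w) a) ∈ F
    have h3 := resMap_comp e.hom (pullback.snd f g) w (e.hom w) _ rfl rfl
    rw [resMap_congr he2, resMap_rfl, resMap_rfl] at h3
    have h4 : ρ ((pullback.snd f g).residueFieldMap (e.hom w) a) = _ := congr($h3 a)
    rw [h4]
    exact resMap_mem_of_forall snd w y hy F h2 _ _ _
  have hF' : F' = ⊤ := Groth.Agent.Lib.Helper20.ResFld.subfield_eq_top (e.hom w) F' key1 key2
  rw [eq_top_iff]
  intro z _
  obtain ⟨z', rfl⟩ := hρ.2 z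
  have : z' ∈ F' := hF' ▸ Subfield.mem_top z'
  exact this

section Min

variable {X Y S : Scheme.{u}} {f : X ⟶ S} {g : Y ⟶ S}

theorem exists_min_point (x : X) (y : Y) (hxy : f x = g y) :
    ∃ w : ↑(pullback f g), pullback.fst f g w = x ∧ pullback.snd f g w = y ∧
      (SpecOfPoint w).asIdeal ∈ minimalPrimes (Triplet.ofPoint w).tensor := by
  let T : Triplet f g := Triplet.mk' x y hxy
  obtain ⟨Q, hQ⟩ : ∃ Q : Ideal T.tensor, Q ∈ minimalPrimes T.tensor := by
    obtain ⟨m, hm⟩ := Ideal.exists_maximal T.tensor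
    obtain ⟨Q, hQ, -⟩ := Ideal.exists_minimalPrimes_le (I := ⊥) (J := m) bot_le
    exact ⟨Q, hQ⟩
  haveI : Q.IsPrime := hQ.1.1
  let p : Spec T.tensor := ⟨Q, inferInstance⟩
  obtain ⟨e, he⟩ := carrierEquiv_eq_iff.mp (carrierEquiv.apply_symm_apply ⟨T, p⟩)
  refine ⟨carrierEquiv.symm ⟨T, p⟩, carrierEquiv_symm_fst T p, carrierEquiv_symm_snd T p, ?_⟩
  set w := carrierEquiv.symm ⟨T, p⟩ with hw
  change Triplet.ofPoint w = T at e
  change Spec.map (Triplet.tensorCongr e).inv (SpecOfPoint w) = p at he
  let τ : T.tensor →+* (Triplet.ofPoint w).tensor := (Triplet.tensorCongr e).inv.hom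
  have hτ : Function.Surjective τ :=
    (ConcreteCategory.bijective_of_isIso (Triplet.tensorCongr e).inv).2
  have hQeq : Q = Ideal.comap τ (SpecOfPoint w).asIdeal := by
    have := congrArg PrimeSpectrum.asIdeal he
    exact this.symm
  refine ⟨⟨(SpecOfPoint w).isPrime, bot_le⟩, fun P' hP' hle => ?_⟩
  haveI : P'.IsPrime := hP'.1
  have h1 : Ideal.comap τ P' ≤ Q := by rw [hQeq]; exact Ideal.comap_mono hle
  have h2 : Q ≤ Ideal.comap τ P' := hQ.2 ⟨inferInstance, bot_le⟩ h1
  intro z hz
  obtain ⟨z', rfl⟩ := hτ z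
  have : z' ∈ Q := by rw [hQeq]; exact hz
  exact h2 this

theorem algebraicIndependent_of_min (w : ↑(pullback f g))
    (hmin : (SpecOfPoint w).asIdeal ∈ minimalPrimes (Triplet.ofPoint w).tensor)
    {ι : Type u} (v : ι → Y.residueField (pullback.snd f g w))
    (hv : @AlgebraicIndependent ι (S.residueField (f (pullback.fst f g w))) _ v _ _
      (resMap g (pullback.snd f g w) (f (pullback.fst f g w)) (Triplet.ofPoint w).hy).toAlgebra) :
    @AlgebraicIndependent ι (X.residueField (pullback.fst f g w)) _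
      (((pullback.snd f g).residueFieldMap w).hom ∘ v) _ _
      ((pullback.fst f g).residueFieldMap w).hom.toAlgebra := by
  set T := Triplet.ofPoint w with hT
  let α : S.residueField T.s ⟶ X.residueField T.x :=
    (S.residueFieldCongr T.hx).inv ≫ f.residueFieldMap T.x
  let β : S.residueField T.s ⟶ Y.residueField T.y :=
    (S.residueFieldCongr T.hy).inv ≫ g.residueFieldMap T.y
  letI a1 : Algebra (S.residueField T.s) (X.residueField T.x) := α.hom.toAlgebra
  letI a2 : Algebra (S.residueField T.s) (Y.residueField T.y) := β.hom.toAlgebra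
  letI a3 : Algebra (X.residueField T.x) T.tensor := T.tensorInl.hom.toAlgebra
  letI a4 : Algebra (Y.residueField T.y) T.tensor := T.tensorInr.hom.toAlgebra
  letI a5 : Algebra (S.residueField T.s) T.tensor := (α ≫ T.tensorInl).hom.toAlgebra
  haveI t1 : IsScalarTower (S.residueField T.s) (X.residueField T.x) T.tensor :=
    .of_algebraMap_eq fun _ => rfl
  haveI t2 : IsScalarTower (S.residueField T.s) (Y.residueField T.y) T.tensor :=
    .of_algebraMap_eq fun z => by
      change (α ≫ T.tensorInl) z = (β ≫ T.tensorInr) z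
      have : α ≫ T.tensorInl = β ≫ T.tensorInr := pushout.condition
      rw [this]
  haveI hpo : Algebra.IsPushout (S.residueField T.s) (X.residueField T.x) (Y.residueField T.y)
      T.tensor :=
    (CommRingCat.isPushout_iff_isPushout (R := S.residueField T.s) (R' := X.residueField T.x)
      (S := Y.residueField T.y) (S' := T.tensor)).mp (IsPushout.of_hasPushout α β)
  letI a6 : Algebra T.tensor ((pullback f g).residueField w) := (ofPointTensor w).hom.toAlgebra
  letI a7 : Algebra (X.residueField T.x) ((pullback f g).residueField w) :=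
    ((pullback.fst f g).residueFieldMap w).hom.toAlgebra
  letI a8 : Algebra (Y.residueField T.y) ((pullback f g).residueField w) :=
    ((pullback.snd f g).residueFieldMap w).hom.toAlgebra
  haveI t3 : IsScalarTower (X.residueField T.x) T.tensor ((pullback f g).residueField w) :=
    .of_algebraMap_eq fun z => by
      change (pullback.fst f g).residueFieldMap w z = (T.tensorInl ≫ ofPointTensor w) z
      have : T.tensorInl ≫ ofPointTensor w = (pullback.fst f g).residueFieldMap w :=
        pushout.inl_desc _ _ _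
      rw [this]
      rfl
  haveI t4 : IsScalarTower (Y.residueField T.y) T.tensor ((pullback f g).residueField w) :=
    .of_algebraMap_eq fun z => by
      change (pullback.snd f g).residueFieldMap w z = (T.tensorInr ≫ ofPointTensor w) z
      have : T.tensorInr ≫ ofPointTensor w = (pullback.snd f g).residueFieldMap w :=
        pushout.inr_desc _ _ _
      rw [this]
      rfl
  have hmin' : RingHom.ker (algebraMap T.tensor ((pullback f g).residueField w)) ∈
      minimalPrimes T.tensor := hmin
  have hv' : @AlgebraicIndependent ι (S.residueField T.s) (Y.residueField T.y) v _ _ a2 := hv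
  have hres := algebraicIndependent_of_minimal (K := S.residueField T.s) (K₁ := X.residueField T.x)
    (K₂ := Y.residueField T.y) (Tn := T.tensor) (L := (pullback f g).residueField w) hmin' v hv'
  exact hres

theorem algebraicIndependent_of_min' (w : ↑(pullback f g))
    (hmin : (SpecOfPoint w).asIdeal ∈ minimalPrimes (Triplet.ofPoint w).tensor)
    (x : X) (y : Y) (s : S) (hx : pullback.fst f g w = x) (hy : pullback.snd f g w = y)
    (hs : f x = s) (hs' : g y = s)
    {ι : Type u} (v : ι → Y.residueField y)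
    (hv : @AlgebraicIndependent ι (S.residueField s) _ v _ _ (resMap g y s hs').toAlgebra) :
    @AlgebraicIndependent ι (X.residueField x) _
      (resMap (pullback.snd f g) w y hy ∘ v) _ _ (resMap (pullback.fst f g) w x hx).toAlgebra := by
  subst hx hy hs
  rw [resMap_rfl, resMap_rfl]
  exact algebraicIndependent_of_min w hmin v hv

end Min

theorem core {X S S' S'' X' : Scheme.{u}}
    (f : X ⟶ S) (r : ℕ) (g : S' ⟶ S)
    (p q : S'' ⟶ S') (hS : IsPullback p q g g)
    (f' : X' ⟶ S') (g' : X' ⟶ X) (hX : IsPullback g' f' f g)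
    (f'' : pullback g' g' ⟶ S'')
    (hp : IsPullback (pullback.fst g' g') f'' f' p) (hq : IsPullback (pullback.snd g' g') f'' f' q)
    (x : ↥X) (hx : Dual3.resTrdeg f x = r)
    (x₁ x₂ : ↥X') (h₁ : g' x₁ = x) (h₂ : g' x₂ = x)
    (hx₁ : Dual3.resTrdeg f' x₁ = r) (hx₂ : Dual3.resTrdeg f' x₂ = r) :
    ∃ x'' : ↥(pullback g' g'), Dual3.resTrdeg f'' x'' = r ∧ pullback.fst g' g' x'' = x₁ ∧
      pullback.snd g' g' x'' = x₂ := by
  obtain ⟨w, rfl, rfl, hmin⟩ := exists_min_point (f := g') (g := g') x₁ x₂ (h₁.trans h₂.symm)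
  subst h₁
  refine ⟨w, ?_, rfl, rfl⟩
  have e1 : g (f' (pullback.fst g' g' w)) = f (g' (pullback.fst g' g' w)) :=
    (congr($(hX.w) (pullback.fst g' g' w))).symm
  have e2 : g (f' (pullback.snd g' g' w)) = f (g' (pullback.fst g' g' w)) := by
    rw [← h₂]; exact (congr($(hX.w) (pullback.snd g' g' w))).symm
  have e3 : p (f'' w) = f' (pullback.fst g' g' w) := (congr($(hp.w) w)).symm
  have e4 : q (f'' w) = f' (pullback.snd g' g' w) := (congr($(hq.w) w)).symm
  have key := trdeg_eq_of_minimal
    (a := resMap f (g' (pullback.fst g' g' w)) _ rfl)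
    (b₁ := resMap g (f' (pullback.fst g' g' w)) _ e1)
    (b₂ := resMap g (f' (pullback.snd g' g' w)) _ e2)
    (c₁ := resMap g' (pullback.fst g' g' w) _ rfl) (c₂ := resMap g' (pullback.snd g' g' w) _ h₂)
    (d₁ := resMap f' (pullback.fst g' g' w) _ rfl) (d₂ := resMap f' (pullback.snd g' g' w) _ rfl)
    (e₁ := resMap (pullback.fst g' g') w _ rfl) (e₂ := resMap (pullback.snd g' g') w _ rfl)
    (m₁ := resMap p (f'' w) _ e3) (m₂ := resMap q (f'' w) _ e4)
    (n := resMap f'' w _ rfl)
    (resMap_square g' f f' g hX.w _ _ _ _ rfl rfl rfl e1)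
    (resMap_square g' f f' g hX.w _ _ _ _ h₂ rfl rfl e2)
    (resMap_square p g q g hS.w _ _ _ _ e3 e1 e4 e2)
    (resMap_square (pullback.fst g' g') f' f'' p hp.w _ _ _ _ rfl rfl rfl e3)
    (resMap_square (pullback.snd g' g') f' f'' q hq.w _ _ _ _ rfl rfl rfl e4)
    (gen_of_isPullback hX _ _ _ rfl rfl)
    (gen_of_isPullback hX _ _ _ h₂ rfl)
    (gen_of_isPullback hS _ _ _ e3 e4)
    (by
      rw [resMap_comp]
      exact gen_of_isPullback (hp.paste_horiz hX) w _ _ rfl rfl)
    r
    (by rw [resMap_rfl]; exact hx)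
    (by rw [resMap_rfl]; exact hx₁)
    (by rw [resMap_rfl]; exact hx₂)
    (fun ι v hv => algebraicIndependent_of_min' w hmin _ _ _ rfl rfl rfl h₂ v hv)
  rw [resMap_rfl] at key
  exact key


/-- Let f from X to S be locally of finite type, r a natural number and g from S' to S a surjective
morphism. Let S'' be the fibre product of S' with itself over S (projections p, q), X' the base
change of X along g (structure map f', projection g' to X), and X'' the base change of X along S''
with structure map f'' and the two projections p', q' to X' lying over p and q and compatible with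
the projections to X. Let x be a point of X whose residue field has transcendence degree r over that
of f(x). If x1 and x2 are points of X' mapping to x whose residue fields have transcendence degree r
over those of their images in S', then there is a point of X'' whose residue field has transcendence
degree r over that of its image in S'' and whose two projections are x1 and x2. -/
theorem result {X S S' S'' X' X'' : Scheme.{u}}
    (f : X ⟶ S) [LocallyOfFiniteType f] (r : ℕ) (g : S' ⟶ S) [Surjective g]
    (p q : S'' ⟶ S') (hS : IsPullback p q g g)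
    (f' : X' ⟶ S') (g' : X' ⟶ X) (hX : IsPullback g' f' f g)
    (f'' : X'' ⟶ S'') (p' q' : X'' ⟶ X') (hp : IsPullback p' f'' f' p) (hq : IsPullback q' f'' f' q)
    (hpq : p' ≫ g' = q' ≫ g')
    (x : ↥X) (hx : Dual3.resTrdeg f x = r)
    (x₁ x₂ : ↥X') (h₁ : g'.base x₁ = x) (h₂ : g'.base x₂ = x)
    (hx₁ : Dual3.resTrdeg f' x₁ = r) (hx₂ : Dual3.resTrdeg f' x₂ = r) :
    ∃ x'' : ↥X'', Dual3.resTrdeg f'' x'' = r ∧ p'.base x'' = x₁ ∧ q'.base x'' = x₂ := by
  have big : IsPullback (q' ≫ f') p' g (g' ≫ f) := by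
    rw [hq.w, hX.w]
    exact hp.flip.paste_horiz hS.flip
  have hpb : IsPullback p' q' g' g' := (IsPullback.of_right big hpq.symm hX.flip).flip
  let e := hpb.isoPullback
  have he1 : e.hom ≫ pullback.fst g' g' = p' := hpb.isoPullback_hom_fst
  have he2 : e.hom ≫ pullback.snd g' g' = q' := hpb.isoPullback_hom_snd
  have he1' : e.inv ≫ p' = pullback.fst g' g' := hpb.isoPullback_inv_fst
  have he2' : e.inv ≫ q' = pullback.snd g' g' := hpb.isoPullback_inv_snd
  have hp' : IsPullback (pullback.fst g' g') (e.inv ≫ f'') f' p :=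
    IsPullback.of_iso hp e (Iso.refl _) (Iso.refl _) (Iso.refl _)
      (by simp [he1]) (by simp) (by simp) (by simp)
  have hq' : IsPullback (pullback.snd g' g') (e.inv ≫ f'') f' q :=
    IsPullback.of_iso hq e (Iso.refl _) (Iso.refl _) (Iso.refl _)
      (by simp [he2]) (by simp) (by simp) (by simp)
  obtain ⟨w, hw, hw1, hw2⟩ := core f r g p q hS f' g' hX (e.inv ≫ f'') hp' hq' x hx x₁ x₂ h₁ h₂
    hx₁ hx₂
  refine ⟨e.inv w, ?_, ?_, ?_⟩
  · rw [Groth.Agent.Lib.Helper9.ResTrdeg.resTrdeg_comp,
      Groth.Agent.Lib.Helper9.ResTrdeg.resTrdeg_eq_zero_of_locallyQuasiFinite e.inv w,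
      add_zero] at hw
    exact hw
  · rw [← hw1, ← he1']; rfl
  · rw [← hw2, ← he2']; rfl

end Groth.Agent.S7287
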