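import Groth.Statements.S1858
import Mathlib
import Groth.Agent.Lib.Helper2CycFinFlat
import Groth.Agent.Lib.Helper2CycRelDim
import Groth.Agent.Lib.Helper16TrdegAlg
import Groth.Agent.S7287
import Groth.Agent.S4686
-- import your own Groth.Agent.* helpers here

set_option autoImplicit false
set_option linter.style.haveILetI false
set_option linter.unusedSectionVars false
universe u
open CategoryTheory AlgebraicGeometry
open CategoryTheory.Limits
open Cyc

namespace Groth.Agent.S1858

open Groth.Agent.S7287 Groth.Agent.Lib.Helper16.TrdegAlg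

section Core

variable {X Y Y' : Scheme.{u}} (f : X ⟶ Y) (g : Y' ⟶ Y)

/-- the map between the fibres -/
noncomputable def fibMap (x : X) : (pullback.fst f g).fiber x ⟶ g.fiber (f x) :=
  pullback.map _ _ _ _ (pullback.snd f g) (Spec.map (f.residueFieldMap x)) f
    (IsPullback.of_hasPullback f g).flip.w.symm (by simp)

theorem fibMap_isPullback (x : X) :
    IsPullback (fibMap f g x) ((pullback.fst f g).fiberToSpecResidueField x)
      (g.fiberToSpecResidueField (f x)) (Spec.map (f.residueFieldMap x)) :=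
  isPullback_fiberToSpecResidueField_of_isPullback (IsPullback.of_hasPullback f g).flip x

theorem fibMap_fiberι (x : X) :
    fibMap f g x ≫ g.fiberι (f x) = (pullback.fst f g).fiberι x ≫ pullback.snd f g :=
  pullback.lift_fst _ _ _

theorem fibMap_finite (x : X) (hfin : (f.residueFieldMap x).hom.Finite) :
    IsFinite (fibMap f g x) := by
  have h1 : IsFinite (Spec.map (f.residueFieldMap x)) := (IsFinite.SpecMap_iff _).mpr hfin
  exact MorphismProperty.of_isPullback (P := @IsFinite) (fibMap_isPullback f g x).flip h1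

theorem flat_residueFieldMap (x : X) : Flat (Spec.map (f.residueFieldMap x)) := by
  rw [Flat.SpecMap_iff]
  letI := (f.residueFieldMap x).hom.toAlgebra
  show Module.Flat _ _
  infer_instance

theorem fibMap_flat (x : X) : Flat (fibMap f g x) := by
  have h1 := flat_residueFieldMap f x
  exact MorphismProperty.of_isPullback (P := @Flat) (fibMap_isPullback f g x).flip h1

theorem fibMap_finrank (x : X) (hfin : (f.residueFieldMap x).hom.Finite)
    (w : g.fiber (f x)) :
    haveI := fibMap_finite f g x hfin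
    haveI := fibMap_flat f g x
    (fibMap f g x).finrank w = f.residueDegree x := by
  haveI := fibMap_finite f g x hfin
  haveI := fibMap_flat f g x
  haveI h1 : IsFinite (Spec.map (f.residueFieldMap x)) := (IsFinite.SpecMap_iff _).mpr hfin
  haveI := flat_residueFieldMap f x
  rw [Scheme.Hom.finrank_of_isPullback _ _ _ _ (fibMap_isPullback f g x).flip w]
  letI := (f.residueFieldMap x).hom.toAlgebra
  haveI : Module.Finite (Y.residueField (f x)) (X.residueField x) := hfin
  have h2 := Scheme.Hom.finrank_SpecMap_algebraMap (Y.residueField (f x)) (X.residueField x)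
    (g.fiberToSpecResidueField (f x) w)
  have h3 : CommRingCat.ofHom (algebraMap (Y.residueField (f x)) (X.residueField x)) =
      f.residueFieldMap x := rfl
  rw [h3] at h2
  rw [h2, Module.rankAtStalk_eq_finrank_of_free]
  rfl

theorem fiberι_injective' {A B : Scheme.{u}} (π : A ⟶ B) (b : B) :
    Function.Injective (π.fiberι b) := (π.fiberι b).isEmbedding.injective

theorem fibMap_apply (x : X) (z : (pullback.fst f g).fiber x) :
    g.fiberι (f x) (fibMap f g x z) = pullback.snd f g ((pullback.fst f g).fiberι x z) := by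
  rw [← Scheme.Hom.comp_apply, fibMap_fiberι, Scheme.Hom.comp_apply]

theorem bijOn_fiberι (x : X) (w : g.fiber (f x)) :
    Set.BijOn ((pullback.fst f g).fiberι x) ((fibMap f g x) ⁻¹' {w})
      {x' | pullback.fst f g x' = x ∧ pullback.snd f g x' = g.fiberι (f x) w} := by
  refine ⟨?_, ?_, ?_⟩
  · intro z hz
    refine ⟨((pullback.fst f g).fiberHomeo x z).2, ?_⟩
    rw [← fibMap_apply, show fibMap f g x z = w from hz]
  · exact (fiberι_injective' _ _).injOn
  · rintro x' ⟨h1, h2⟩
    refine ⟨((pullback.fst f g).fiberHomeo x).symm ⟨x', h1⟩, ?_,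
      (pullback.fst f g).fiberι_fiberHomeo_symm x ⟨x', h1⟩⟩
    apply fiberι_injective' g (f x)
    rw [fibMap_apply, (pullback.fst f g).fiberι_fiberHomeo_symm x ⟨x', h1⟩]
    exact h2

/-- residue field maps of preimmersions are bijective -/
theorem bijective_resMap_of_isPreimmersion {A B : Scheme.{u}} (ι : A ⟶ B) [IsPreimmersion ι]
    (a : A) (b : B) (h : ι a = b) : Function.Bijective (resMap ι a b h) := by
  subst h
  rw [resMap_rfl]
  have hsurj : Function.Surjective (ι.residueFieldMap a).hom := by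
    have h1 := Scheme.residue_residueFieldMap ι a
    have h2 : Function.Surjective (ι.stalkMap a ≫ A.residue a).hom := by
      rw [CommRingCat.hom_comp]
      exact (Scheme.residue_surjective A a).comp (ι.stalkMap_surjective a)
    rw [← h1, CommRingCat.hom_comp] at h2
    rw [RingHom.coe_comp] at h2
    exact Function.Surjective.of_comp h2
  exact ⟨(ι.residueFieldMap a).hom.injective, hsurj⟩

theorem residueDegree_eq_of_comm {A B C D : Scheme.{u}} (a : A ⟶ B) (b : B ⟶ D) (c : A ⟶ C)
    (d : C ⟶ D) (comm : a ≫ b = c ≫ d) [IsPreimmersion a] [IsPreimmersion d] (z : A) :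
    b.residueDegree (a z) = c.residueDegree z := by
  have e : d (c z) = b (a z) := by
    rw [← Scheme.Hom.comp_apply, ← Scheme.Hom.comp_apply, comm]
  unfold Scheme.Hom.residueDegree
  letI := (b.residueFieldMap (a z)).hom.toAlgebra
  letI := (c.residueFieldMap z).hom.toAlgebra
  refine Algebra.finrank_eq_of_equiv_equiv
    (RingEquiv.ofBijective _ (bijective_resMap_of_isPreimmersion d (c z) (b (a z)) e))
    (RingEquiv.ofBijective _ (bijective_resMap_of_isPreimmersion a z (a z) rfl)) ?_
  have h := resMap_square a b c d comm z (a z) (c z) (b (a z)) rfl rfl rfl e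
  rw [resMap_rfl b, resMap_rfl c] at h
  ext t
  exact (congr($h t)).symm

/-- the length factor in `Cyc.pullFun`. -/
noncomputable abbrev lenFac {A B : Scheme.{u}} (π : A ⟶ B) (a : A) : ℕ∞ :=
  Module.length (A.presheaf.stalk a) (A.presheaf.stalk a ⧸ Ideal.map (π.stalkMap a).hom
    (IsLocalRing.maximalIdeal (B.presheaf.stalk (π a))))

theorem core (x : X) (hfin : (f.residueFieldMap x).hom.Finite) (w : g.fiber (f x)) :
    ∑ᶠ x' ∈ {x' | pullback.fst f g x' = x ∧ pullback.snd f g x' = g.fiberι (f x) w},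
      ((lenFac (pullback.fst f g) x').toNat * (pullback.snd f g).residueDegree x') =
    (lenFac g (g.fiberι (f x) w)).toNat * f.residueDegree x := by
  haveI := fibMap_finite f g x hfin
  haveI := fibMap_flat f g x
  have hbij := bijOn_fiberι f g x w
  have hterm : ∀ z ∈ (fibMap f g x) ⁻¹' {w},
      (lenFac (pullback.fst f g) ((pullback.fst f g).fiberι x z)).toNat *
        (pullback.snd f g).residueDegree ((pullback.fst f g).fiberι x z) =
      (lenFac g (g.fiberι (f x) w)).toNat *
        ((lenFac (fibMap f g x) z).toNat * (fibMap f g x).residueDegree z) := by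
    intro z hz
    obtain rfl : fibMap f g x z = w := hz
    have h1 := Groth.Agent.S4686.fiber_factor_eq (pullback.fst f g) x z
    have h2 := Groth.Agent.S4686.length_stalk_flat (fibMap f g x) z
    have h3 := Groth.Agent.S4686.fiber_factor_eq g (f x) (fibMap f g x z)
    have h4 := residueDegree_eq_of_comm ((pullback.fst f g).fiberι x) (pullback.snd f g)
      (fibMap f g x) (g.fiberι (f x)) (fibMap_fiberι f g x).symm z
    rw [h4]
    change (Module.length _ _).toNat * _ = (Module.length _ _).toNat * _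
    rw [h1, h2, h3, ENat.toNat_mul]
    ring
  rw [← finsum_mem_eq_of_bijOn _ hbij (fun z hz => (hterm z hz).symm)]
  have key := Groth.Agent.Lib.Helper2.CycFinFlat.finsum_ram_mul_deg_eq_finrank (fibMap f g x) w
  rw [fibMap_finrank f g x hfin w] at key
  rw [← mul_finsum_mem (fun z => (lenFac (fibMap f g x) z).toNat *
    (fibMap f g x).residueDegree z) (lenFac g (g.fiberι (f x) w)).toNat]
  exact congrArg _ key

theorem trdeg_le_of_gen' {k K l L : Type u} [Field k] [Field K] [Field l] [Field L]
    (a : k →+* K) (b : k →+* l) (c : K →+* L) (d : l →+* L) (comm : c.comp a = d.comp b)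
    (hgen : Gen c d) :
    @Algebra.trdeg l L _ _ d.toAlgebra ≤ @Algebra.trdeg k K _ _ a.toAlgebra := by
  letI := a.toAlgebra
  letI := b.toAlgebra
  letI := c.toAlgebra
  letI := d.toAlgebra
  letI : Algebra k L := (c.comp a).toAlgebra
  haveI : IsScalarTower k K L := IsScalarTower.of_algebraMap_eq fun _ => rfl
  haveI : IsScalarTower k l L := IsScalarTower.of_algebraMap_eq fun t => congr($comm t)
  exact trdeg_le_of_gen (k := k) (K := K) (l := l) (L := L) hgen

theorem snd_eq (x' : ↥(pullback f g)) :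
    g (pullback.snd f g x') = f (pullback.fst f g x') :=
  (congr($(pullback.condition (f := f) (g := g)) x')).symm

theorem trdeg_snd_le (x' : ↥(pullback f g)) :
    @Algebra.trdeg (Y'.residueField (pullback.snd f g x')) ((pullback f g).residueField x') _ _
      ((pullback.snd f g).residueFieldMap x').hom.toAlgebra ≤
    @Algebra.trdeg (Y.residueField (f (pullback.fst f g x')))
      (X.residueField (pullback.fst f g x')) _ _
      (f.residueFieldMap (pullback.fst f g x')).hom.toAlgebra := by
  have e := snd_eq f g x'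
  have h := trdeg_le_of_gen' (resMap f (pullback.fst f g x') _ rfl)
    (resMap g (pullback.snd f g x') _ e)
    (resMap (pullback.fst f g) x' _ rfl) (resMap (pullback.snd f g) x' _ rfl)
    (resMap_square (pullback.fst f g) f (pullback.snd f g) g pullback.condition x' _ _ _
      rfl rfl rfl e)
    (gen_of_isPullback (IsPullback.of_hasPullback f g) x' _ _ rfl rfl)
  rw [resMap_rfl, resMap_rfl] at h
  exact h

theorem cond_iff [LocallyOfFiniteType g] (δX : X → ℤ) (δY : Y → ℤ) (δY' : Y' → ℤ)
    (δX' : ↥(pullback f g) → ℤ) (r : ℕ) (hr : Cyc.HasRelDim g r)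
    (hf : Cyc.DeltaCompat f δX δY) (hg : Cyc.DeltaCompat g δY' δY)
    (hX' : Cyc.DeltaCompat (pullback.snd f g) δX' δY') (x' : ↥(pullback f g)) :
    (δX' x' = δX (pullback.fst f g x') + r ∧ δX' x' = δY' (pullback.snd f g x')) ↔
    (δY' (pullback.snd f g x') = δY (g (pullback.snd f g x')) + r ∧
      δX (pullback.fst f g x') = δY (f (pullback.fst f g x'))) := by
  obtain ⟨na, hna, hδa⟩ := hf (pullback.fst f g x')
  obtain ⟨nb, hnb, hδb⟩ := hg (pullback.snd f g x')
  obtain ⟨nc, hnc, hδc⟩ := hX' x'
  obtain ⟨n, hn, hnn⟩ := Groth.Agent.Lib.Helper2.CycRelDim.exists_trdeg_le g r hr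
    (pullback.snd f g x')
  have h1 : (nb : Cardinal.{u}) = (n : Cardinal.{u}) := hnb.symm.trans hnn
  have h1' : nb = n := by exact_mod_cast h1
  have h2 := trdeg_snd_le f g x'
  rw [hna, hnc] at h2
  have h2' : nc ≤ na := by exact_mod_cast h2
  have e := snd_eq f g x'
  rw [e] at hδb ⊢
  omega

theorem finite_of_delta_eq [LocallyOfFiniteType f] (δX : X → ℤ) (δY : Y → ℤ)
    (hf : Cyc.DeltaCompat f δX δY) (x : X) (h : δX x = δY (f x)) :
    (f.residueFieldMap x).hom.Finite := by
  obtain ⟨n, hn, hδ⟩ := hf x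
  have hn0 : n = 0 := by omega
  subst hn0
  letI := (f.residueFieldMap x).hom.toAlgebra
  have h0 : Algebra.trdeg (Y.residueField (f x)) (X.residueField x) = 0 := by
    rw [hn]; simp
  haveI : Algebra.IsAlgebraic (Y.residueField (f x)) (X.residueField x) :=
    _root_.trdeg_eq_zero_iff.mp h0
  haveI : Algebra.EssFiniteType (Y.residueField (f x)) (X.residueField x) := by
    have := RingHom.EssFiniteType.residueFieldMap (LocallyOfFiniteType.stalkMap f x)
    exact this
  exact Algebra.finite_of_essFiniteType_of_isAlgebraic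

theorem perX [LocallyOfFiniteType f] [LocallyOfFiniteType g] (δX : X → ℤ) (δY : Y → ℤ)
    (δY' : Y' → ℤ) (δX' : ↥(pullback f g) → ℤ) (r : ℕ) (hr : Cyc.HasRelDim g r)
    (hf : Cyc.DeltaCompat f δX δY) (hg : Cyc.DeltaCompat g δY' δY)
    (hX' : Cyc.DeltaCompat (pullback.snd f g) δX' δY')
    (α : X → ℤ) (α' : ↥(pullback f g) → ℤ)
    (hα' : α' = Cyc.pullFun (pullback.fst f g) δX' δX r α)
    (y' : Y') (x : X) (hxy : f x = g y') :
    ∑ᶠ x' ∈ {x' | pullback.fst f g x' = x ∧ pullback.snd f g x' = y'},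
        α' x' * ((AlgebraicCycle.mapCoeff (pullback.snd f g) δX' δY' x' : ℕ) : ℤ) =
      if δY' y' = δY (g y') + r then
        α x * ((AlgebraicCycle.mapCoeff f δX δY x : ℕ) : ℤ) * ((lenFac g y').toNat : ℤ)
      else 0 := by
  obtain ⟨w, rfl⟩ : ∃ w : g.fiber (f x), g.fiberι (f x) w = y' :=
    ⟨(g.fiberHomeo (f x)).symm ⟨y', hxy.symm⟩, g.fiberι_fiberHomeo_symm _ _⟩
  by_cases hQ : δY' (g.fiberι (f x) w) = δY (g (g.fiberι (f x) w)) + r ∧ δX x = δY (f x)
  · obtain ⟨hQ1, hQ2⟩ := hQ
    have hfin := finite_of_delta_eq f δX δY hf x hQ2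
    rw [if_pos hQ1]
    have hterm : ∀ x' ∈ {x' | pullback.fst f g x' = x ∧
        pullback.snd f g x' = g.fiberι (f x) w},
        α' x' * ((AlgebraicCycle.mapCoeff (pullback.snd f g) δX' δY' x' : ℕ) : ℤ) =
        α x * (((lenFac (pullback.fst f g) x').toNat *
          (pullback.snd f g).residueDegree x' : ℕ) : ℤ) := by
      rintro x' ⟨rfl, h2⟩
      have hP := (cond_iff f g δX δY δY' δX' r hr hf hg hX' x').mpr
        ⟨by rw [h2]; exact hQ1, hQ2⟩
      rw [hα']
      unfold Cyc.pullFun AlgebraicCycle.mapCoeff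
      rw [if_pos hP.1, if_pos hP.2]
      push_cast
      ring
    rw [finsum_mem_congr rfl hterm, ← mul_finsum_mem]
    haveI := fibMap_finite f g x hfin
    have hBfin : {x' | pullback.fst f g x' = x ∧
        pullback.snd f g x' = g.fiberι (f x) w}.Finite := by
      rw [← (bijOn_fiberι f g x w).image_eq]
      exact (Scheme.Hom.finite_preimage_singleton (fibMap f g x) w).image _
    rw [← Nat.cast_finsum_mem hBfin, core f g x hfin w]
    unfold AlgebraicCycle.mapCoeff
    rw [if_pos hQ2]
    push_cast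
    ring
  · have hterm : ∀ x' ∈ {x' | pullback.fst f g x' = x ∧
        pullback.snd f g x' = g.fiberι (f x) w},
        α' x' * ((AlgebraicCycle.mapCoeff (pullback.snd f g) δX' δY' x' : ℕ) : ℤ) = 0 := by
      rintro x' ⟨rfl, h2⟩
      have hP : ¬ (δX' x' = δX (pullback.fst f g x') + r ∧
          δX' x' = δY' (pullback.snd f g x')) := by
        intro hP
        apply hQ
        have := (cond_iff f g δX δY δY' δX' r hr hf hg hX' x').mp hP
        rw [h2] at this
        exact this
      rw [hα']
      unfold Cyc.pullFun AlgebraicCycle.mapCoeff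
      by_cases h1 : δX' x' = δX (pullback.fst f g x') + r
      · have h2' : ¬ δX' x' = δY' (pullback.snd f g x') := fun h => hP ⟨h1, h⟩
        rw [if_neg h2']
        simp
      · rw [if_neg h1]
        simp
    rw [finsum_mem_congr rfl hterm, finsum_mem_zero]
    split_ifs with hQ1
    · have hQ2 : ¬ δX x = δY (f x) := fun h => hQ ⟨hQ1, h⟩
      unfold AlgebraicCycle.mapCoeff
      rw [if_neg hQ2]
      simp
    · rfl

end Core


open Classical in
theorem finsum_fiberwise {A B : Type*} (s : Set A) (t : Set B) (φ : A → B) (h : A → ℤ)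
    (hT : (s ∩ Function.support h).Finite) (hst : ∀ a ∈ s, φ a ∈ t) :
    ∑ᶠ a ∈ s, h a = ∑ᶠ b ∈ t, ∑ᶠ a ∈ {a | φ a = b ∧ a ∈ s}, h a := by
  have hinner : ∀ b, ∑ᶠ a ∈ {a | φ a = b ∧ a ∈ s}, h a =
      ∑ a ∈ hT.toFinset.filter (fun a => φ a = b), h a := by
    intro b
    apply finsum_mem_eq_sum_of_inter_support_eq
    ext a
    simp only [Set.mem_inter_iff, Set.mem_ofPred_eq, Function.mem_support, Finset.coe_filter,
      Set.Finite.mem_toFinset]
    tauto
  rw [finsum_mem_eq_sum h hT]
  have houter : ∑ᶠ b ∈ t, ∑ᶠ a ∈ {a | φ a = b ∧ a ∈ s}, h a =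
      ∑ b ∈ hT.toFinset.image φ, ∑ᶠ a ∈ {a | φ a = b ∧ a ∈ s}, h a := by
    apply finsum_mem_eq_sum_of_inter_support_eq
    ext b
    simp only [Set.mem_inter_iff, Function.mem_support, Finset.coe_image, Set.mem_image,
      Finset.mem_coe, Set.Finite.mem_toFinset]
    constructor
    · rintro ⟨hb, hne⟩
      refine ⟨?_, hne⟩
      rw [hinner b] at hne
      obtain ⟨a, ha, -⟩ := Finset.exists_ne_zero_of_sum_ne_zero hne
      rw [Finset.mem_filter, Set.Finite.mem_toFinset] at ha
      exact ⟨a, ha.1, ha.2⟩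
    · rintro ⟨⟨a, ha, rfl⟩, hne⟩
      exact ⟨hst a ha.1, hne⟩
  rw [houter]
  symm
  apply Finset.sum_image'
  intro a _
  exact hinner (φ a)


/-- Let f : X → Y be proper and g : Y' → Y flat, locally of finite type, of relative dimension r, and
form X' = X ×_Y Y' with projections g' to X and f' to Y'. For a k-cycle α on X one has g^*(f_*α) =
f'_*(g'^*α) as (k + r)-cycles on Y' (stated on coefficient functions, for any cycle on X' with the
coefficients of g'^*α). Here a pair (X, δ) with Cyc.IsSetup plays the role of a scheme locally of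
finite type over a fixed base with a dimension function (X locally Noetherian with universally
catenary local rings, δ a dimension function), and Cyc.DeltaCompat records that the dimension
function upstairs is the induced one. -/
theorem result (X Y Y' : Scheme.{u}) (f : X ⟶ Y) (g : Y' ⟶ Y) [IsProper f] [Flat g] [LocallyOfFiniteType g] (δX : X → ℤ) (δY : Y → ℤ) (δY' : Y' → ℤ) (δX' : ↥(pullback f g) → ℤ) (r : ℕ) (hr : Cyc.HasRelDim g r) (hY : Cyc.IsSetup Y δY) (hX : Cyc.IsSetup X δX) (hY' : Cyc.IsSetup Y' δY') (hf : Cyc.DeltaCompat f δX δY) (hg : Cyc.DeltaCompat g δY' δY) (hX' : Cyc.DeltaCompat (pullback.snd f g) δX' δY') (k : ℤ) (α : AlgebraicCycle X ℤ) (hα : α ∈ Cyc.Zk X δX k) (α' : AlgebraicCycle (pullback f g) ℤ) (hα' : ⇑α' = Cyc.pullFun (pullback.fst f g) δX' δX r ⇑α) : ⇑(AlgebraicCycle.map (pullback.snd f g) δX' δY' α') = Cyc.pullFun g δY' δY r ⇑(AlgebraicCycle.map f δX δY α) := by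
  funext y'
  have hL : (AlgebraicCycle.map (pullback.snd f g) δX' δY' α') y' =
      ∑ᶠ x' ∈ (pullback.snd f g) ⁻¹' {y'},
        α' x' * ((AlgebraicCycle.mapCoeff (pullback.snd f g) δX' δY' x' : ℕ) : ℤ) := rfl
  have hR : Cyc.pullFun g δY' δY r ⇑(AlgebraicCycle.map f δX δY α) y' =
      if δY' y' = δY (g y') + r then
        (∑ᶠ x ∈ f ⁻¹' {g y'}, α x * ((AlgebraicCycle.mapCoeff f δX δY x : ℕ) : ℤ)) *
          ((lenFac g y').toNat : ℤ)
      else 0 := rfl
  rw [hL, hR]
  have h3 : (if δY' y' = δY (g y') + r then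
        (∑ᶠ x ∈ f ⁻¹' {g y'}, α x * ((AlgebraicCycle.mapCoeff f δX δY x : ℕ) : ℤ)) *
          ((lenFac g y').toNat : ℤ)
      else 0) = ∑ᶠ x ∈ f ⁻¹' {g y'}, (if δY' y' = δY (g y') + r then
        α x * ((AlgebraicCycle.mapCoeff f δX δY x : ℕ) : ℤ) * ((lenFac g y').toNat : ℤ)
      else 0) := by
    split_ifs
    · rw [finsum_mem_mul]
    · rw [finsum_mem_zero]
  have h4 : ∑ᶠ x ∈ f ⁻¹' {g y'}, (if δY' y' = δY (g y') + r then
        α x * ((AlgebraicCycle.mapCoeff f δX δY x : ℕ) : ℤ) * ((lenFac g y').toNat : ℤ)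
      else 0) = ∑ᶠ x ∈ f ⁻¹' {g y'},
        ∑ᶠ x' ∈ {x' | pullback.fst f g x' = x ∧ x' ∈ (pullback.snd f g) ⁻¹' {y'}},
        α' x' * ((AlgebraicCycle.mapCoeff (pullback.snd f g) δX' δY' x' : ℕ) : ℤ) :=
    finsum_mem_congr rfl (fun x hx => (perX f g δX δY δY' δX' r hr hf hg hX' ⇑α ⇑α' hα'
      y' x hx).symm)
  rw [h3, h4]
  have hT : ((pullback.snd f g) ⁻¹' {y'} ∩ Function.support (fun x' => α' x' *
      ((AlgebraicCycle.mapCoeff (pullback.snd f g) δX' δY' x' : ℕ) : ℤ))).Finite := by
    refine (α'.locallyFiniteSupport.finite_inter_support_of_isCompact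
      ((pullback.snd f g).isCompact_preimage_singleton y')).subset ?_
    rintro x' ⟨h1, h2⟩
    refine ⟨h1, fun h0 => h2 ?_⟩
    have h0' : α' x' = 0 := h0
    simp [h0']
  exact finsum_fiberwise ((pullback.snd f g) ⁻¹' {y'}) (f ⁻¹' {g y'}) (pullback.fst f g) _ hT
    (fun x' hx' => by
      have hx'' : pullback.snd f g x' = y' := hx'
      change f (pullback.fst f g x') = g y'
      rw [← hx'']
      exact (snd_eq f g x').symm)

end Groth.Agent.S1858
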