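import Groth.Statements.S1421
import Mathlib
import Groth.Agent.Lib.Helper2CycFinFlat
import Groth.Agent.S4686
import Groth.Agent.S4687
import Groth.Agent.S1858
-- import your own Groth.Agent.* helpers here

set_option autoImplicit false
set_option linter.style.haveILetI false
set_option linter.unusedSectionVars false
universe u
open FlatMor

namespace Groth.Agent.S1421

open AlgebraicGeometry CategoryTheory Limits

noncomputable abbrev lenFac {A B : Scheme.{u}} (π : A ⟶ B) (a : A) : ℕ∞ :=
  Module.length (A.presheaf.stalk a) (A.presheaf.stalk a ⧸ Ideal.map (π.stalkMap a).hom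
    (IsLocalRing.maximalIdeal (B.presheaf.stalk (π a))))

noncomputable def insepDeg {A B : Scheme.{u}} (a : A ⟶ B) (z : A) : ℕ :=
  letI := (a.residueFieldMap z).hom.toAlgebra
  Field.finInsepDegree (B.residueField (a z)) (A.residueField z)

noncomputable def sepDeg {A B : Scheme.{u}} (a : A ⟶ B) (z : A) : ℕ :=
  letI := (a.residueFieldMap z).hom.toAlgebra
  Field.finSepDegree (B.residueField (a z)) (A.residueField z)

theorem sepDeg_mul_insepDeg {A B : Scheme.{u}} (a : A ⟶ B) (z : A) :
    sepDeg a z * insepDeg a z = a.residueDegree z := by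
  unfold sepDeg insepDeg Scheme.Hom.residueDegree
  letI := (a.residueFieldMap z).hom.toAlgebra
  exact Field.finSepDegree_mul_finInsepDegree _ _

theorem unramified_residue {A B : Scheme.{u}} (h : A ⟶ B) [FormallyUnramified h]
    [LocallyOfFiniteType h] (a : A) :
    letI := (h.residueFieldMap a).hom.toAlgebra
    Module.Finite (B.residueField (h a)) (A.residueField a) ∧
      Algebra.IsSeparable (B.residueField (h a)) (A.residueField a) := by
  algebraize [(h.stalkMap a).hom]
  have : IsLocalHom (algebraMap (B.presheaf.stalk (h a)) (A.presheaf.stalk a)) :=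
    inferInstanceAs <| IsLocalHom (h.stalkMap a).hom
  have : Algebra.EssFiniteType (B.presheaf.stalk (h a)) (A.presheaf.stalk a) := by
    rw [← RingHom.essFiniteType_algebraMap, RingHom.algebraMap_toAlgebra]
    exact LocallyOfFiniteType.stalkMap h a
  have : Algebra.FormallyUnramified (B.presheaf.stalk (h a)) (A.presheaf.stalk a) := by
    rw [← RingHom.formallyUnramified_algebraMap, RingHom.algebraMap_toAlgebra]
    exact FormallyUnramified.stalkMap h a
  have h1 : Module.Finite (IsLocalRing.ResidueField <| B.presheaf.stalk (h a))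
      (IsLocalRing.ResidueField <| A.presheaf.stalk a) := inferInstance
  have h2 : Algebra.IsSeparable (IsLocalRing.ResidueField <| B.presheaf.stalk (h a))
      (IsLocalRing.ResidueField <| A.presheaf.stalk a) := inferInstance
  have key : (h.residueFieldMap a).hom.toAlgebra =
      (inferInstance : Algebra (IsLocalRing.ResidueField <| B.presheaf.stalk (h a))
        (IsLocalRing.ResidueField <| A.presheaf.stalk a)) := by
    apply Algebra.algebra_ext
    intro r
    obtain ⟨r, rfl⟩ := IsLocalRing.residue_surjective r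
    rfl
  rw [key]
  exact ⟨h1, h2⟩

theorem unramified_map_maximalIdeal {A B : Scheme.{u}} (h : A ⟶ B) [FormallyUnramified h]
    [LocallyOfFiniteType h] (a : A) :
    Ideal.map (h.stalkMap a).hom (IsLocalRing.maximalIdeal (B.presheaf.stalk (h a))) =
      IsLocalRing.maximalIdeal (A.presheaf.stalk a) := by
  algebraize [(h.stalkMap a).hom]
  have : IsLocalHom (algebraMap (B.presheaf.stalk (h a)) (A.presheaf.stalk a)) :=
    inferInstanceAs <| IsLocalHom (h.stalkMap a).hom
  have : Algebra.EssFiniteType (B.presheaf.stalk (h a)) (A.presheaf.stalk a) := by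
    rw [← RingHom.essFiniteType_algebraMap, RingHom.algebraMap_toAlgebra]
    exact LocallyOfFiniteType.stalkMap h a
  have : Algebra.FormallyUnramified (B.presheaf.stalk (h a)) (A.presheaf.stalk a) := by
    rw [← RingHom.formallyUnramified_algebraMap, RingHom.algebraMap_toAlgebra]
    exact FormallyUnramified.stalkMap h a
  exact Algebra.FormallyUnramified.map_maximalIdeal

theorem lqf_residue_finite {A B : Scheme.{u}} (h : A ⟶ B) [LocallyQuasiFinite h] (a : A) :
    letI := (h.residueFieldMap a).hom.toAlgebra
    Module.Finite (B.residueField (h a)) (A.residueField a) := by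
  have hq := h.quasiFiniteAt a
  algebraize [(h.stalkMap a).hom]
  have : IsLocalHom (algebraMap (B.presheaf.stalk (h a)) (A.presheaf.stalk a)) :=
    inferInstanceAs <| IsLocalHom (h.stalkMap a).hom
  have q0 : Algebra.QuasiFinite (B.presheaf.stalk (h a)) (A.presheaf.stalk a) := hq
  have q1 : Algebra.QuasiFinite (B.presheaf.stalk (h a))
      (IsLocalRing.ResidueField <| A.presheaf.stalk a) :=
    inferInstanceAs <| Algebra.QuasiFinite (B.presheaf.stalk (h a))
      (A.presheaf.stalk a ⧸ IsLocalRing.maximalIdeal (A.presheaf.stalk a))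
  have q2 : Algebra.QuasiFinite (IsLocalRing.ResidueField <| B.presheaf.stalk (h a))
      (IsLocalRing.ResidueField <| A.presheaf.stalk a) :=
    .of_restrictScalars (B.presheaf.stalk (h a)) _ _
  have h1 : Module.Finite (IsLocalRing.ResidueField <| B.presheaf.stalk (h a))
      (IsLocalRing.ResidueField <| A.presheaf.stalk a) := Module.Finite.of_quasiFinite
  have key : (h.residueFieldMap a).hom.toAlgebra =
      (inferInstance : Algebra (IsLocalRing.ResidueField <| B.presheaf.stalk (h a))
        (IsLocalRing.ResidueField <| A.presheaf.stalk a)) := by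
    apply Algebra.algebra_ext
    intro r
    obtain ⟨r, rfl⟩ := IsLocalRing.residue_surjective r
    rfl
  rw [key]
  exact h1

theorem length_comp_flat {A R S : Type u} [CommRing A] [CommRing R] [CommRing S] [IsLocalRing A]
    [IsLocalRing R] [IsLocalRing S] (φ : A →+* R) (β : R →+* S) (hβ : β.Flat) [IsLocalHom β] :
    Module.length S (S ⧸ (IsLocalRing.maximalIdeal A).map (β.comp φ)) =
      Module.length R (R ⧸ (IsLocalRing.maximalIdeal A).map φ) *
        Module.length S (S ⧸ (IsLocalRing.maximalIdeal R).map β) := by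
  letI := β.toAlgebra
  haveI : Module.Flat R S := hβ
  haveI : IsLocalHom (algebraMap R S) := ‹IsLocalHom β›
  have h1 := IsLocalRing.length_baseChange R S (R ⧸ (IsLocalRing.maximalIdeal A).map φ)
  have e := Algebra.TensorProduct.quotIdealMapEquivTensorQuot S ((IsLocalRing.maximalIdeal A).map φ)
  rw [← e.toLinearEquiv.length_eq] at h1
  rw [← Ideal.map_map]
  exact h1

theorem lenFac_comp_flat {A B C : Scheme.{u}} (a : A ⟶ B) (b : B ⟶ C) [Flat a] (z : A) :
    lenFac (a ≫ b) z = lenFac b (a z) * lenFac a z := by
  have h := length_comp_flat (b.stalkMap (a z)).hom (a.stalkMap z).hom (Flat.stalkMap a z)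
  unfold lenFac
  rw [Scheme.Hom.stalkMap_comp]
  exact h

theorem lenFac_comp_unramified {A B C : Scheme.{u}} (a : A ⟶ B) (b : B ⟶ C)
    [FormallyUnramified b] [LocallyOfFiniteType b] (z : A) :
    lenFac (a ≫ b) z = lenFac a z := by
  have h : Ideal.map ((a ≫ b).stalkMap z).hom
      (IsLocalRing.maximalIdeal (C.presheaf.stalk ((a ≫ b) z))) =
      Ideal.map (a.stalkMap z).hom (Ideal.map (b.stalkMap (a z)).hom
        (IsLocalRing.maximalIdeal (C.presheaf.stalk (b (a z))))) := by
    rw [Scheme.Hom.stalkMap_comp]
    exact (Ideal.map_map _ _).symm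
  unfold lenFac
  rw [h, unramified_map_maximalIdeal b (a z)]

theorem lenFac_unramified {A B : Scheme.{u}} (a : A ⟶ B) [FormallyUnramified a]
    [LocallyOfFiniteType a] (z : A) : lenFac a z = 1 := by
  unfold lenFac
  rw [unramified_map_maximalIdeal a z]
  exact Module.length_eq_one_iff.mpr (isSimpleModule_iff_quot_maximal.mpr
    ⟨_, IsLocalRing.maximalIdeal.isMaximal _, ⟨LinearEquiv.refl _ _⟩⟩)

theorem insepDeg_unramified {A B : Scheme.{u}} (a : A ⟶ B) [FormallyUnramified a]
    [LocallyOfFiniteType a] (z : A) : insepDeg a z = 1 := by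
  unfold insepDeg
  letI := (a.residueFieldMap z).hom.toAlgebra
  haveI := (unramified_residue a z).2
  exact Algebra.IsSeparable.finInsepDegree_eq _ _

theorem insepDeg_comp {A B C : Scheme.{u}} (a : A ⟶ B) (b : B ⟶ C) (z : A)
    (halg : letI := (b.residueFieldMap (a z)).hom.toAlgebra
      Algebra.IsAlgebraic (C.residueField (b (a z))) (B.residueField (a z))) :
    insepDeg (a ≫ b) z = insepDeg b (a z) * insepDeg a z := by
  unfold insepDeg
  letI alg1 := (b.residueFieldMap (a z)).hom.toAlgebra
  letI alg2 := (a.residueFieldMap z).hom.toAlgebra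
  letI alg3 : Algebra (C.residueField (b (a z))) (A.residueField z) :=
    ((a ≫ b).residueFieldMap z).hom.toAlgebra
  haveI : IsScalarTower (C.residueField (b (a z))) (B.residueField (a z)) (A.residueField z) :=
    .of_algebraMap_eq fun x => by
      have := Scheme.residueFieldMap_comp a b z
      exact congr($this x)
  haveI := halg
  exact (Field.finInsepDegree_mul_finInsepDegree_of_isAlgebraic (C.residueField (b (a z)))
    (B.residueField (a z)) (A.residueField z)).symm

theorem lenFac_ne_top {X Y : Scheme.{u}} (f : X ⟶ Y) [LocallyQuasiFinite f] (x : X) :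
    lenFac f x ≠ ⊤ := by
  unfold lenFac
  rw [Groth.Agent.S4686.fiber_factor_eq' f x]
  haveI : IsLocallyArtinian (f.fiber (f x)) := inferInstance
  haveI : Ring.KrullDimLE 0 ((f.fiber (f x)).presheaf.stalk (f.asFiber x)) :=
    Groth.Agent.S4687.krullDimLE_zero_of_maximal _ (fun z hz => hz.eq)
  haveI : IsArtinianRing ((f.fiber (f x)).presheaf.stalk (f.asFiber x)) :=
    isArtinianRing_iff_isNoetherianRing_krullDimLE_zero.mpr ⟨inferInstance, inferInstance⟩
  exact Module.length_ne_top

theorem lenFac_ne_zero {X Y : Scheme.{u}} (f : X ⟶ Y) (x : X) : lenFac f x ≠ 0 := by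
  unfold lenFac
  rw [Ne, Module.length_eq_zero_iff]
  have hlt := IsLocalRing.map_maximalIdeal_lt_top (f.stalkMap x).hom
  have : Nontrivial (X.presheaf.stalk x ⧸ Ideal.map (f.stalkMap x).hom
      (IsLocalRing.maximalIdeal (Y.presheaf.stalk (f x)))) :=
    Ideal.Quotient.nontrivial_iff.mpr hlt.ne
  exact not_subsingleton _

theorem insepDeg_pos {X Y : Scheme.{u}} (f : X ⟶ Y) [LocallyQuasiFinite f] (x : X) :
    0 < insepDeg f x := by
  have h := sepDeg_mul_insepDeg f x
  have hpos : 0 < f.residueDegree x := by
    unfold Scheme.Hom.residueDegree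
    letI := (f.residueFieldMap x).hom.toAlgebra
    haveI := lqf_residue_finite f x
    exact Module.finrank_pos
  rw [← h] at hpos
  exact Nat.pos_of_mul_pos_left hpos

theorem term_eq {U X V Y : Scheme.{u}} (h : U ⟶ X) (f : X ⟶ Y) (π : U ⟶ V) (g : V ⟶ Y)
    (comm : h ≫ f = π ≫ g)
    [Flat h] [FormallyUnramified h] [LocallyOfFiniteType h] [FormallyUnramified g]
    [LocallyOfFiniteType g] [LocallyQuasiFinite f] (u : U) :
    ((lenFac f (h u)).toNat * insepDeg f (h u)) * sepDeg π u =
      (lenFac π u).toNat * π.residueDegree u := by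
  have e1 : lenFac f (h u) = lenFac π u := by
    have h1 := lenFac_comp_flat h f u
    rw [lenFac_unramified h u, mul_one] at h1
    have h2 := lenFac_comp_unramified π g u
    have h3 := congrArg (fun F => lenFac F u) comm
    exact h1.symm.trans (h3.trans h2)
  have e2 : insepDeg f (h u) = insepDeg π u := by
    have h1 := insepDeg_comp h f u (by
      letI := (f.residueFieldMap (h u)).hom.toAlgebra
      haveI := lqf_residue_finite f (h u)
      exact Algebra.IsAlgebraic.of_finite _ _)
    rw [insepDeg_unramified h u, mul_one] at h1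
    have h2 := insepDeg_comp π g u (by
      letI := (g.residueFieldMap (π u)).hom.toAlgebra
      haveI := (unramified_residue g (π u)).1
      exact Algebra.IsAlgebraic.of_finite _ _)
    rw [insepDeg_unramified g (π u), one_mul] at h2
    have h3 := congrArg (fun F => insepDeg F u) comm
    exact h1.symm.trans (h3.trans h2)
  rw [e1, e2, mul_assoc, mul_comm (insepDeg π u), sepDeg_mul_insepDeg]

theorem fibreIntegral_eq {U V : Scheme.{u}} (π : U ⟶ V) [IsFinite π] [Flat π] (w : U → ℤ)
    (hw : ∀ u, w u * (sepDeg π u : ℤ) = ((lenFac π u).toNat * π.residueDegree u : ℕ)) (v : V) :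
    MoreMor.fibreIntegral π w v = (π.finrank v : ℤ) := by
  unfold MoreMor.fibreIntegral
  change (∑ᶠ u : {u : U // π u = v}, w u.1 * (sepDeg π u.1 : ℤ)) = _
  have h1 : (∑ᶠ u : {u : U // π u = v}, w u.1 * (sepDeg π u.1 : ℤ)) =
      ∑ᶠ u ∈ π ⁻¹' {v}, (((lenFac π u).toNat * π.residueDegree u : ℕ) : ℤ) := by
    rw [finsum_subtype_eq_finsum_cond (f := fun u : U => w u * (sepDeg π u : ℤ)) (fun u => π u = v)]
    refine finsum_congr fun u => ?_
    refine finsum_congr fun _ => ?_
    exact hw u
  rw [h1, ← Nat.cast_finsum_mem (Scheme.Hom.finite_preimage_singleton π v)]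
  exact congrArg _ (Groth.Agent.Lib.Helper2.CycFinFlat.finsum_ram_mul_deg_eq_finrank π v)

open AlgebraicGeometry CategoryTheory Limits in

open AlgebraicGeometry CategoryTheory Limits in
/-- Let f : X → Y be flat, locally quasi-finite and locally of finite presentation. Then the function w
sending a point x over y to length(O_{X,x} / m_y O_{X,x}) · [κ(x) : κ(y)]_i (inseparable degree) is
a weighting of f with positive values. -/
theorem result {X Y : Scheme.{u}} (f : X ⟶ Y) [LocallyQuasiFinite f] [Flat f] [LocallyOfFinitePresentation f] :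
    let w : ↑X → ℤ := fun x =>
      (Module.length ↑(X.presheaf.stalk x) (↑(X.presheaf.stalk x) ⧸ Ideal.map (f.stalkMap x).hom (IsLocalRing.maximalIdeal ↑(Y.presheaf.stalk (f x))))).toNat *
      (letI := (f.residueFieldMap x).hom.toAlgebra
       (Field.finInsepDegree (Y.residueField (f x)) (X.residueField x) : ℤ))
    MoreMor.IsWeighting f w ∧ ∀ x, 0 < w x := by
  intro w
  have hw : ∀ x, w x = ((lenFac f x).toNat : ℤ) * (insepDeg f x : ℤ) := fun x => rfl
  refine ⟨?_, ?_⟩
  · intro V g _ U hfin
    haveI : IsFinite (U.ι ≫ pullback.snd f g) := hfin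
    have comm : (U.ι ≫ pullback.fst f g) ≫ f = (U.ι ≫ pullback.snd f g) ≫ g := by
      rw [Category.assoc, Category.assoc, pullback.condition]
    haveI : Flat (U.ι ≫ pullback.snd f g) := inferInstance
    haveI : LocallyOfFinitePresentation (U.ι ≫ pullback.snd f g) := inferInstance
    haveI : Etale (U.ι ≫ pullback.fst f g) := inferInstance
    haveI : Flat (U.ι ≫ pullback.fst f g) := inferInstance
    have key : MoreMor.fibreIntegral (U.ι ≫ pullback.snd f g)
        (fun u => w (pullback.fst f g (U.ι u))) =
        fun v => (((U.ι ≫ pullback.snd f g).finrank v : ℕ) : ℤ) := by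
      funext v
      apply fibreIntegral_eq (U.ι ≫ pullback.snd f g)
      intro u
      have h1 := term_eq (U.ι ≫ pullback.fst f g) f (U.ι ≫ pullback.snd f g) g comm u
      rw [← h1, hw]
      push_cast
      rfl
    rw [key]
    exact (Scheme.Hom.isLocallyConstant_finrank (U.ι ≫ pullback.snd f g)).comp _
  · intro x
    rw [hw]
    refine mul_pos (Nat.cast_pos.mpr ?_) (Nat.cast_pos.mpr (insepDeg_pos f x))
    refine Nat.pos_of_ne_zero ?_
    rw [Ne, ENat.toNat_eq_zero, not_or]
    exact ⟨lenFac_ne_zero f x, lenFac_ne_top f x⟩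

end Groth.Agent.S1421
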