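import Groth.Statements.S1449
import Mathlib
import Groth.Agent.Lib.Helper16FibDeg
-- import your own Groth.Agent.* helpers here

set_option autoImplicit false
set_option linter.style.haveILetI false
set_option linter.unusedSectionVars false
universe u
open FlatMor

namespace Groth.Agent.S1449

open AlgebraicGeometry CategoryTheory Limits TopologicalSpace
open Groth.Agent.S1421 (lenFac insepDeg sepDeg)
open Groth.Agent.Lib.Helper16.FibDeg

theorem exists_compact_opens_supset (X : Scheme.{u}) (F : Set X) (hF : F.Finite) :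
    ∃ X' : X.Opens, IsCompact (X' : Set X) ∧ F ⊆ X' := by
  induction F, hF using Set.Finite.induction_on with
  | empty => exact ⟨⊥, by simp, Set.empty_subset _⟩
  | @insert x F _ _ ih =>
    obtain ⟨X', h1, h2⟩ := ih
    obtain ⟨_, ⟨W, hW, rfl⟩, hxW, -⟩ :=
      X.isBasis_affineOpens.exists_subset_of_mem_open (Set.mem_univ x) isOpen_univ
    refine ⟨X' ⊔ W, ?_, ?_⟩
    · rw [Opens.coe_sup]
      exact h1.union hW.isCompact
    · rw [Opens.coe_sup]
      intro y hy
      rcases hy with rfl | hy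
      · exact Or.inr hxW
      · exact Or.inl (h2 hy)

/-- the local term. -/
noncomputable def aTerm {X S : Scheme.{u}} (f : X ⟶ S) (x : X) : ℕ :=
  (lenFac f x).toNat * f.residueDegree x

theorem one_le_aTerm {X S : Scheme.{u}} (f : X ⟶ S) [LocallyQuasiFinite f] (x : X) :
    1 ≤ aTerm f x := by
  unfold aTerm
  have h1 : 0 < (lenFac f x).toNat := by
    refine Nat.pos_of_ne_zero ?_
    rw [Ne, ENat.toNat_eq_zero, not_or]
    exact ⟨Groth.Agent.S1421.lenFac_ne_zero f x, Groth.Agent.S1421.lenFac_ne_top f x⟩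
  have h2 : 0 < f.residueDegree x := by
    unfold Scheme.Hom.residueDegree
    letI := (f.residueFieldMap x).hom.toAlgebra
    haveI := Groth.Agent.S1421.lqf_residue_finite f x
    exact Module.finrank_pos
  exact Nat.mul_pos h1 h2

theorem ncard_le_finsum {X S : Scheme.{u}} (f : X ⟶ S) [LocallyQuasiFinite f] (s : S)
    (hfin : (f ⁻¹' {s}).Finite) (F : Set X) (hF : F ⊆ f ⁻¹' {s}) :
    F.ncard ≤ ∑ᶠ x ∈ f ⁻¹' {s}, aTerm f x := by
  classical
  rw [finsum_mem_eq_finite_toFinset_sum _ hfin]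
  calc F.ncard ≤ (f ⁻¹' {s}).ncard := Set.ncard_le_ncard hF hfin
    _ = hfin.toFinset.card := Set.ncard_eq_toFinset_card _ hfin
    _ = ∑ _x ∈ hfin.toFinset, 1 := (Finset.card_eq_sum_ones _)
    _ ≤ ∑ x ∈ hfin.toFinset, aTerm f x := Finset.sum_le_sum (fun x _ => one_le_aTerm f x)

section Main

variable {X S : Scheme.{u}} (f : X ⟶ S) [Flat f] [LocallyOfFinitePresentation f] [IsSeparated f]
  [LocallyQuasiFinite f]

/-- the fibre degree of a compact open. -/
noncomputable def Dq (X' : X.Opens) (s : S) : ℕ :=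
  ∑ᶠ x ∈ (X'.ι ≫ f) ⁻¹' {s}, aTerm (X'.ι ≫ f) x

theorem fibreIntegral_eq_Dq (X' : X.Opens) (hc : IsCompact (X' : Set X)) (s : S) :
    MoreMor.fibreIntegral (X'.ι ≫ f) (stdW (X'.ι ≫ f)) s = (Dq f X' s : ℤ) := by
  haveI : CompactSpace X' := isCompact_iff_compactSpace.mp hc
  exact fibreIntegral_stdW (X'.ι ≫ f) s (finite_fiber_of_compactSpace (X'.ι ≫ f) s).1

theorem isOpen_T (X' : X.Opens) (hc : IsCompact (X' : Set X)) (d : ℕ) :
    IsOpen {s : S | d ≤ Dq f X' s} := by
  haveI : CompactSpace X' := isCompact_iff_compactSpace.mp hc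
  rw [isOpen_iff_forall_mem_open]
  intro s hs
  obtain ⟨hw, hpos⟩ := stdW_spec (X'.ι ≫ f)
  obtain ⟨N, hN, hsN, h⟩ := Groth.Agent.Lib.Helper2.Weight.exists_etale_nhd_le (X'.ι ≫ f)
    (fun y => (finite_fiber_of_compactSpace (X'.ι ≫ f) y).1) (stdW _) hw hpos s
  refine ⟨N, ?_, hN, hsN⟩
  intro s' hs'
  have h1 := h s' hs'
  rw [fibreIntegral_eq_Dq f X' hc, fibreIntegral_eq_Dq f X' hc] at h1
  exact le_trans hs (Nat.cast_le.mp h1)

theorem kpoint_of_exists (K : Type u) [Field K] (g : Spec (CommRingCat.of K) ⟶ S) (d : ℕ)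
    (X' : X.Opens) (hc : IsCompact (X' : Set X))
    (hd : d ≤ Dq f X' (g (IsLocalRing.closedPoint K))) :
    (d : Cardinal.{u}) ≤ @Module.rank K Γ(pullback f g, ⊤) _ _ (algK f g).toModule := by
  haveI : CompactSpace X' := isCompact_iff_compactSpace.mp hc
  haveI := (finite_fiber_of_compactSpace (X'.ι ≫ f) (g (IsLocalRing.closedPoint K))).2
  obtain ⟨hfinK, hrk⟩ := kpoint_finrank (X'.ι ≫ f) K g
  haveI : IsLocallyArtinian (pullback f g) :=
    IsLocallyArtinian.of_locallyQuasiFinite (pullback.snd f g)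
  have hcl : IsClosed (Set.range (jmap f X' g)) := isClosed_discrete _
  refine le_trans ?_ (rank_le_of_isClosed_range f X' g hcl)
  letI := algK (X'.ι ≫ f) g
  rw [← Module.finrank_eq_rank K Γ(pullback (X'.ι ≫ f) g, ⊤)]
  exact Nat.cast_le.mpr (hd.trans hrk.symm.le)

theorem fst_mem_fiber (K : Type u) [Field K] (g : Spec (CommRingCat.of K) ⟶ S)
    (z : ↥(pullback f g)) : pullback.fst f g z ∈ f ⁻¹' {g (IsLocalRing.closedPoint K)} := by
  change f (pullback.fst f g z) = g (IsLocalRing.closedPoint K)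
  have h1 : (pullback.fst f g ≫ f) z = (pullback.snd f g ≫ g) z := by
    rw [pullback.condition]
  have h2 : pullback.snd f g z = IsLocalRing.closedPoint K := Subsingleton.elim _ _
  change f (pullback.fst f g z) = g (pullback.snd f g z) at h1
  rw [h1, h2]

theorem exists_of_kpoint (K : Type u) [Field K] (g : Spec (CommRingCat.of K) ⟶ S) (d : ℕ)
    (h : (d : Cardinal.{u}) ≤ @Module.rank K Γ(pullback f g, ⊤) _ _ (algK f g).toModule) :
    ∃ X' : X.Opens, IsCompact (X' : Set X) ∧ d ≤ Dq f X' (g (IsLocalRing.closedPoint K)) := by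
  by_cases hfin : (f ⁻¹' {g (IsLocalRing.closedPoint K)}).Finite
  · obtain ⟨X', hc, hsub⟩ := exists_compact_opens_supset X _ hfin
    refine ⟨X', hc, ?_⟩
    haveI : CompactSpace X' := isCompact_iff_compactSpace.mp hc
    haveI := (finite_fiber_of_compactSpace (X'.ι ≫ f) (g (IsLocalRing.closedPoint K))).2
    obtain ⟨hfinK, hrk⟩ := kpoint_finrank (X'.ι ≫ f) K g
    have hiso : IsIso (jmap f X' g) := by
      rw [isIso_iff_isOpenImmersion_and_epi_base]
      refine ⟨inferInstance, (TopCat.epi_iff_surjective _).mpr ?_⟩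
      rw [← Set.range_eq_univ]
      refine (range_jmap f X' g).trans ?_
      ext z
      simp only [Set.mem_preimage, Set.mem_univ, iff_true]
      exact hsub (fst_mem_fiber f K g z)
    have h3 := rank_eq_of_isIso f X' g hiso
    rw [← h3] at h
    letI := algK (X'.ι ≫ f) g
    rw [← Module.finrank_eq_rank K Γ(pullback (X'.ι ≫ f) g, ⊤)] at h
    exact (Nat.cast_le.mp h).trans hrk.le
  · obtain ⟨F, hFsub, hFfin, hFcard⟩ := Set.Infinite.exists_subset_ncard_eq hfin d
    obtain ⟨X', hc, hsub⟩ := exists_compact_opens_supset X F hFfin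
    refine ⟨X', hc, ?_⟩
    haveI : CompactSpace X' := isCompact_iff_compactSpace.mp hc
    have hfin' := (finite_fiber_of_compactSpace (X'.ι ≫ f) (g (IsLocalRing.closedPoint K))).1
    have h1 := ncard_le_finsum (X'.ι ≫ f) (g (IsLocalRing.closedPoint K)) hfin' (X'.ι ⁻¹' F)
      (fun x hx => hFsub hx)
    rw [Set.ncard_preimage_of_injective_subset_range X'.ι.isOpenEmbedding.injective
      (by rw [Scheme.Opens.range_ι]; exact hsub), hFcard] at h1
    exact h1

end Main

open AlgebraicGeometry CategoryTheory Limits in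

open AlgebraicGeometry CategoryTheory Limits in
/-- Consider a separated, flat, locally quasi-finite morphism f : X → S which is locally of finite
presentation. Then there are opens S = U_0 ⊇ U_1 ⊇ U_2 ⊇ ... of S with the property that a morphism
from the spectrum of a field to S lands in U_d exactly when the base change of X to that field has
rank (of its ring of global functions over the field) at least d. -/
theorem result {X S : Scheme.{u}} (f : X ⟶ S) [Flat f] [LocallyOfFinitePresentation f] [IsSeparated f] [LocallyQuasiFinite f] :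
    ∃ U : ℕ → S.Opens, Antitone U ∧ U 0 = ⊤ ∧ ∀ (K : Type u) [Field K] (g : Spec (CommRingCat.of K) ⟶ S) (d : ℕ),
      Set.range ⇑g ⊆ (U d : Set ↑S) ↔ (d : Cardinal.{u}) ≤ (letI := ((Scheme.ΓSpecIso (CommRingCat.of K)).inv ≫ (pullback.snd f g).appTop).hom.toAlgebra
        Module.rank K (Γ(pullback f g, ⊤) : Type u)) := by
  let U : ℕ → S.Opens := fun d => ⨆ X' : {X' : X.Opens // IsCompact (X' : Set X)},
    (⟨{s | d ≤ Dq f X'.1 s}, isOpen_T f X'.1 X'.2 d⟩ : S.Opens)
  have hmem : ∀ (d : ℕ) (s : S), s ∈ U d ↔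
      ∃ X' : X.Opens, IsCompact (X' : Set X) ∧ d ≤ Dq f X' s := by
    intro d s
    constructor
    · intro hs
      obtain ⟨X', hX'⟩ := Opens.mem_iSup.mp hs
      exact ⟨X'.1, X'.2, hX'⟩
    · rintro ⟨X', hc, hd⟩
      exact Opens.mem_iSup.mpr ⟨⟨X', hc⟩, hd⟩
  refine ⟨U, ?_, ?_, ?_⟩
  · intro d d' hdd' s hs
    obtain ⟨X', hc, h⟩ := (hmem d' s).mp hs
    exact (hmem d s).mpr ⟨X', hc, hdd'.trans h⟩
  · rw [eq_top_iff]
    intro s _
    exact (hmem 0 s).mpr ⟨⊥, by simp, Nat.zero_le _⟩
  · intro K _ g d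
    have hr : Set.range g = {g (IsLocalRing.closedPoint K)} := by
      ext y
      constructor
      · rintro ⟨p, rfl⟩
        rw [Subsingleton.elim p (IsLocalRing.closedPoint K)]
        rfl
      · rintro rfl
        exact ⟨_, rfl⟩
    rw [hr, Set.singleton_subset_iff]
    constructor
    · intro hs
      obtain ⟨X', hc, hd⟩ := (hmem d _).mp hs
      exact kpoint_of_exists f K g d X' hc hd
    · intro h
      exact (hmem d _).mpr (exists_of_kpoint f K g d h)

end Groth.Agent.S1449
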