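import Groth.Statements.S1447
import Mathlib
import Groth.Agent.Lib.Helper16FibDeg
import Groth.Agent.S1449
import Groth.Agent.S1428
-- import your own Groth.Agent.* helpers here

set_option autoImplicit false
set_option linter.style.haveILetI false
set_option linter.unusedSectionVars false
universe u
open FlatMor

namespace Groth.Agent.S1447

open AlgebraicGeometry CategoryTheory Limits TopologicalSpace
open Groth.Agent.S1421 (lenFac insepDeg sepDeg)
open Groth.Agent.Lib.Helper16.FibDeg
open Groth.Agent.S1449 (aTerm one_le_aTerm ncard_le_finsum exists_compact_opens_supset)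

/-- the fibre degree. -/
noncomputable def D {X S : Scheme.{u}} (f : X ⟶ S) (s : S) : ℕ :=
  ∑ᶠ x ∈ f ⁻¹' {s}, aTerm f x

theorem isFinite_fiber_of_finite {X S : Scheme.{u}} (f : X ⟶ S) [LocallyQuasiFinite f] (s : S)
    (hfin : (f ⁻¹' {s}).Finite) : IsFinite (f.fiberToSpecResidueField s) := by
  haveI : Finite ↥(f ⁻¹' {s}) := hfin
  haveI : Finite (f.fiber s) := Finite.of_equiv _ (f.fiberHomeo s).toEquiv.symm
  haveI : QuasiCompact (f.fiberToSpecResidueField s) := quasiCompact_of_finite _
  haveI : LocallyQuasiFinite (f.fiberToSpecResidueField s) :=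
    (inferInstance : LocallyQuasiFinite (pullback.snd f (S.fromSpecResidueField s)))
  exact IsFinite.of_locallyQuasiFinite _

theorem kpoint_snd {X S : Scheme.{u}} (f : X ⟶ S) [Flat f] [LocallyQuasiFinite f]
    (K : Type u) [Field K] (g : Spec (CommRingCat.of K) ⟶ S)
    [IsFinite (f.fiberToSpecResidueField (g (IsLocalRing.closedPoint K)))] :
    IsFinite (pullback.snd f g) ∧ Flat (pullback.snd f g) ∧
      ∀ pt, (pullback.snd f g).finrank pt = D f (g (IsLocalRing.closedPoint K)) := by
  set s := g (IsLocalRing.closedPoint K) with hs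
  let h : S.residueField s ⟶ CommRingCat.of K :=
    Scheme.descResidueField (Scheme.stalkClosedPointTo g)
  have hg : Spec.map h ≫ S.fromSpecResidueField s = g :=
    Scheme.descResidueField_stalkClosedPointTo_fromSpecResidueField K S g
  let lift : pullback f g ⟶ f.fiber s :=
    pullback.lift (pullback.fst f g) (pullback.snd f g ≫ Spec.map h)
      (by rw [Category.assoc, hg, pullback.condition])
  have hl1 : lift ≫ f.fiberι s = pullback.fst f g := pullback.lift_fst _ _ _
  have hl2 : lift ≫ f.fiberToSpecResidueField s = pullback.snd f g ≫ Spec.map h :=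
    pullback.lift_snd _ _ _
  have big : IsPullback (lift ≫ f.fiberι s) (pullback.snd f g) f
      (Spec.map h ≫ S.fromSpecResidueField s) := by
    rw [hl1, hg]
    exact IsPullback.of_hasPullback f g
  have sq : IsPullback lift (pullback.snd f g) (f.fiberToSpecResidueField s) (Spec.map h) :=
    IsPullback.of_right big hl2 (IsPullback.of_hasPullback f (S.fromSpecResidueField s))
  haveI : Flat (f.fiberToSpecResidueField s) :=
    MorphismProperty.of_isPullback (P := @Flat)
      (IsPullback.of_hasPullback f (S.fromSpecResidueField s)) inferInstance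
  haveI i1 : IsFinite (pullback.snd f g) :=
    MorphismProperty.of_isPullback (P := @AlgebraicGeometry.IsFinite) sq inferInstance
  haveI i2 : Flat (pullback.snd f g) :=
    MorphismProperty.of_isPullback (P := @Flat) sq inferInstance
  refine ⟨i1, i2, fun pt => ?_⟩
  have h1 := Scheme.Hom.finrank_of_isPullback lift (pullback.snd f g)
    (f.fiberToSpecResidueField s) (Spec.map h) sq pt
  rw [h1]
  exact (fiber_sum f s _).symm

theorem fiberT {X S : Scheme.{u}} (f : X ⟶ S) [Flat f] [LocallyQuasiFinite f]
    (hfin : ∀ s : S, (f ⁻¹' {s}).Finite) {T : Scheme.{u}} (g : T ⟶ S) (t : T) :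
    IsFinite ((pullback.snd f g).fiberToSpecResidueField t) ∧
      ∀ pt, ((pullback.snd f g).fiberToSpecResidueField t).finrank pt = D f (g t) := by
  let g' : Spec (CommRingCat.of (T.residueField t)) ⟶ S := T.fromSpecResidueField t ≫ g
  have hcp : g' (IsLocalRing.closedPoint (T.residueField t)) = g t := by
    exact congrArg g (Scheme.fromSpecResidueField_apply t _)
  haveI := isFinite_fiber_of_finite f _ (hfin (g' (IsLocalRing.closedPoint (T.residueField t))))
  obtain ⟨h1, h2, h3⟩ := kpoint_snd f (T.residueField t) g'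
  let e := pullbackLeftPullbackSndIso f g (T.fromSpecResidueField t)
  have he : pullback.snd (pullback.snd f g) (T.fromSpecResidueField t) =
      e.hom ≫ pullback.snd f (T.fromSpecResidueField t ≫ g) :=
    (pullbackLeftPullbackSndIso_hom_snd f g (T.fromSpecResidueField t)).symm
  haveI h1' : IsFinite (pullback.snd f (T.fromSpecResidueField t ≫ g)) := h1
  haveI h2' : Flat (pullback.snd f (T.fromSpecResidueField t ≫ g)) := h2
  have main : IsFinite (pullback.snd (pullback.snd f g) (T.fromSpecResidueField t)) ∧
      ∀ pt, (pullback.snd (pullback.snd f g) (T.fromSpecResidueField t)).finrank pt =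
        D f (g t) := by
    constructor
    · rw [he]; infer_instance
    · intro pt
      rw [he, Scheme.Hom.finrank_comp_left_of_isIso]
      exact (h3 pt).trans (congrArg (D f) hcp)
  exact main

section Main

variable {X S : Scheme.{u}} (f : X ⟶ S) [Flat f] [LocallyOfFinitePresentation f] [IsSeparated f]
  [LocallyQuasiFinite f]

theorem finite_fiber_of_bound (n : ℕ)
    (hn : ∀ (K : Type u) [Field K] (g : Spec (CommRingCat.of K) ⟶ S),
      @Module.rank K Γ(pullback f g, ⊤) _ _ (algK f g).toModule ≤ (n : Cardinal.{u})) (s : S) :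
    (f ⁻¹' {s}).Finite := by
  by_contra hinf
  let g : Spec (CommRingCat.of (S.residueField s)) ⟶ S := S.fromSpecResidueField s
  have hcp : g (IsLocalRing.closedPoint (S.residueField s)) = s :=
    Scheme.fromSpecResidueField_apply s _
  obtain ⟨F, hFsub, hFfin, hFcard⟩ := Set.Infinite.exists_subset_ncard_eq hinf (n + 1)
  obtain ⟨X', hc, hsub⟩ := exists_compact_opens_supset X F hFfin
  haveI : CompactSpace X' := isCompact_iff_compactSpace.mp hc
  have hfin' := (finite_fiber_of_compactSpace (X'.ι ≫ f) s).1
  have h1 := ncard_le_finsum (X'.ι ≫ f) s hfin' (X'.ι ⁻¹' F) (fun x hx => hFsub hx)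
  rw [Set.ncard_preimage_of_injective_subset_range X'.ι.isOpenEmbedding.injective
    (by rw [Scheme.Opens.range_ι]; exact hsub), hFcard] at h1
  have h2 := Groth.Agent.S1449.kpoint_of_exists f (S.residueField s) g (n + 1) X' hc
    (by rw [hcp]; exact h1)
  have h3 := h2.trans (hn (S.residueField s) g)
  have h4 : n + 1 ≤ n := by exact_mod_cast h3
  omega

theorem D_le (hfin : ∀ s : S, (f ⁻¹' {s}).Finite) (n : ℕ)
    (hn : ∀ (K : Type u) [Field K] (g : Spec (CommRingCat.of K) ⟶ S),
      @Module.rank K Γ(pullback f g, ⊤) _ _ (algK f g).toModule ≤ (n : Cardinal.{u})) (s : S) :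
    D f s ≤ n := by
  let g : Spec (CommRingCat.of (S.residueField s)) ⟶ S := S.fromSpecResidueField s
  have hcp : g (IsLocalRing.closedPoint (S.residueField s)) = s :=
    Scheme.fromSpecResidueField_apply s _
  haveI := isFinite_fiber_of_finite f _ (hfin (g (IsLocalRing.closedPoint (S.residueField s))))
  obtain ⟨h1, h2⟩ := kpoint_finrank f (S.residueField s) g
  have h3 := hn (S.residueField s) g
  letI := algK f g
  rw [← Module.finrank_eq_rank (S.residueField s) Γ(pullback f g, ⊤)] at h3
  have h4 : Module.finrank (S.residueField s) Γ(pullback f g, ⊤) ≤ n := by exact_mod_cast h3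
  rw [h2, hcp] at h4
  exact h4

theorem fibreIntegral_eq_D (hfin : ∀ s : S, (f ⁻¹' {s}).Finite) (s : S) :
    MoreMor.fibreIntegral f (stdW f) s = (D f s : ℤ) :=
  fibreIntegral_stdW f s (hfin s)

theorem isOpen_D (hfin : ∀ s : S, (f ⁻¹' {s}).Finite) (d : ℕ) : IsOpen {s : S | d ≤ D f s} := by
  rw [isOpen_iff_forall_mem_open]
  intro s hs
  obtain ⟨hw, hpos⟩ := stdW_spec f
  obtain ⟨N, hN, hsN, h⟩ := Groth.Agent.Lib.Helper2.Weight.exists_etale_nhd_le f hfin
    (stdW _) hw hpos s
  refine ⟨N, ?_, hN, hsN⟩
  intro s' hs'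
  have h1 := h s' hs'
  rw [fibreIntegral_eq_D f hfin, fibreIntegral_eq_D f hfin] at h1
  exact le_trans hs (Nat.cast_le.mp h1)

theorem finrank_snd_eq {T : Scheme.{u}} (hfin : ∀ s : S, (f ⁻¹' {s}).Finite) (g : T ⟶ S)
    [IsFinite (pullback.snd f g)] [Flat (pullback.snd f g)] (t : T) :
    (pullback.snd f g).finrank t = D f (g t) := by
  obtain ⟨h1, h2⟩ := fiberT f hfin g t
  have pt : ↥(Spec (T.residueField t)) := IsLocalRing.closedPoint (T.residueField t)
  have h3 := Scheme.Hom.finrank_of_isPullback ((pullback.snd f g).fiberι t)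
    ((pullback.snd f g).fiberToSpecResidueField t) (pullback.snd f g)
    (T.fromSpecResidueField t) (IsPullback.of_hasPullback _ _) pt
  rw [Scheme.fromSpecResidueField_apply] at h3
  rw [← h3, h2 pt]

theorem finite_fiber_snd {T : Scheme.{u}} (hfin : ∀ s : S, (f ⁻¹' {s}).Finite) (g : T ⟶ S)
    (t : T) : ((pullback.snd f g) ⁻¹' {t}).Finite := by
  obtain ⟨h1, -⟩ := fiberT f hfin g t
  have pt : ↥(Spec (T.residueField t)) := IsLocalRing.closedPoint (T.residueField t)
  have h2 := Scheme.Hom.finite_preimage_singleton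
    ((pullback.snd f g).fiberToSpecResidueField t) pt
  have h3 : ((pullback.snd f g).fiberToSpecResidueField t) ⁻¹' {pt} = Set.univ := by
    ext z
    simp only [Set.mem_preimage, Set.mem_singleton_iff, Set.mem_univ, iff_true]
    exact Subsingleton.elim _ _
  rw [h3] at h2
  haveI : Finite ((pullback.snd f g).fiber t) := Set.finite_univ_iff.mp h2
  haveI : Finite ↥((pullback.snd f g) ⁻¹' {t}) :=
    Finite.of_equiv _ ((pullback.snd f g).fiberHomeo t).toEquiv
  exact Set.toFinite _

theorem D_snd {T : Scheme.{u}} (hfin : ∀ s : S, (f ⁻¹' {s}).Finite) (g : T ⟶ S) (t : T) :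
    D (pullback.snd f g) t = D f (g t) := by
  obtain ⟨h1, h2⟩ := fiberT f hfin g t
  have pt : ↥(Spec (T.residueField t)) := IsLocalRing.closedPoint (T.residueField t)
  haveI : Flat (pullback.snd f g) := inferInstance
  haveI : LocallyQuasiFinite (pullback.snd f g) := inferInstance
  have h3 := fiber_sum (pullback.snd f g) t pt
  exact h3.trans (h2 pt)

set_option backward.isDefEq.respectTransparency.types false in
theorem isFinite_of_isEmpty {A B : Scheme.{u}} (φ : A ⟶ B) [IsEmpty B] : IsFinite φ := by
  refine IsZariskiLocalAtTarget.of_iSup_eq_top (P := @AlgebraicGeometry.IsFinite) (fun i : PEmpty.{1} => i.elim) ?_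
    (fun i => i.elim)
  rw [iSup_of_empty]
  ext x
  exact (IsEmpty.false x).elim

set_option backward.isDefEq.respectTransparency.types false in
theorem isFinite_snd_of_const {T : Scheme.{u}} (hfin : ∀ s : S, (f ⁻¹' {s}).Finite) (g : T ⟶ S)
    (r : ℕ) (hr : ∀ t : T, D f (g t) = r) : IsFinite (pullback.snd f g) := by
  by_cases hT : IsEmpty T
  · exact isFinite_of_isEmpty _
  · rw [not_isEmpty_iff] at hT
    obtain ⟨t₀⟩ := hT
    haveI : Flat (pullback.snd f g) := inferInstance
    haveI : LocallyQuasiFinite (pullback.snd f g) := inferInstance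
    haveI : LocallyOfFinitePresentation (pullback.snd f g) := inferInstance
    haveI : IsSeparated (pullback.snd f g) := inferInstance
    have hfinT := finite_fiber_snd f hfin g
    obtain ⟨hw, hpos⟩ := stdW_spec (pullback.snd f g)
    have hval : ∀ t : T, MoreMor.fibreIntegral (pullback.snd f g) (stdW (pullback.snd f g)) t =
        (r : ℤ) := by
      intro t
      rw [fibreIntegral_stdW (pullback.snd f g) t (hfinT t)]
      have h5 := D_snd f hfin g t
      exact congrArg Nat.cast (h5.trans (hr t))
    obtain ⟨hYd, hF⟩ := Groth.Agent.S1428.result (pullback.snd f g) hfinT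
      (stdW (pullback.snd f g)) hw hpos (r : ℤ) (fun t => (hval t).le) ⟨t₀, hval t₀⟩
    refine (IsZariskiLocalAtTarget.iff_of_iSup_eq_top (P := @AlgebraicGeometry.IsFinite)
      (fun _ : Unit => (⟨{y : ↑T | MoreMor.fibreIntegral (pullback.snd f g)
        (stdW (pullback.snd f g)) y = (r : ℤ)}, hYd⟩ : T.Opens)) ?_).mpr (fun _ => hF)
    rw [eq_top_iff]
    intro t _
    exact Opens.mem_iSup.mpr ⟨(), hval t⟩

end Main

open AlgebraicGeometry CategoryTheory Limits in

open AlgebraicGeometry CategoryTheory Limits in
/-- For a separated, flat, locally quasi-finite morphism f : X → S which is locally of finite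
presentation, assume the fibres of f over all field-valued points have rank (of their ring of global
functions) at most n. Then there is a function deg : S → ℕ bounded by n with every sublevel set {deg
≤ r} closed (equivalently a chain of closed subsets ∅ ⊂ Z_0 ⊂ ... ⊂ Z_n = S with strata {deg = r})
such that for every morphism g : T → S and every r, deg ∘ g is constant with value r exactly when
the base change of f along g is finite locally free of degree r. -/
theorem result {X S : Scheme.{u}} (f : X ⟶ S) [Flat f] [LocallyOfFinitePresentation f] [IsSeparated f] [LocallyQuasiFinite f]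
    (n : ℕ) (hn : ∀ (K : Type u) [Field K] (g : Spec (CommRingCat.of K) ⟶ S), (letI := ((Scheme.ΓSpecIso (CommRingCat.of K)).inv ≫ (pullback.snd f g).appTop).hom.toAlgebra
        Module.rank K (Γ(pullback f g, ⊤) : Type u)) ≤ (n : Cardinal.{u})) :
    ∃ deg : ↑S → ℕ, (∀ s, deg s ≤ n) ∧ (∀ r : ℕ, IsClosed {s : ↑S | deg s ≤ r}) ∧
      ∀ (T : Scheme.{u}) (g : T ⟶ S) (r : ℕ), Mor2.IsFinLocFreeOfDeg r (pullback.snd f g) ↔ ∀ t : T, deg (g t) = r := by
  have hn' : ∀ (K : Type u) [Field K] (g : Spec (CommRingCat.of K) ⟶ S),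
      @Module.rank K Γ(pullback f g, ⊤) _ _ (algK f g).toModule ≤ (n : Cardinal.{u}) := hn
  have hfin := finite_fiber_of_bound f n hn'
  refine ⟨D f, D_le f hfin n hn', ?_, ?_⟩
  · intro r
    have h1 := isOpen_D f hfin (r + 1)
    have h2 : {s : ↑S | D f s ≤ r} = {s : ↑S | r + 1 ≤ D f s}ᶜ := by
      ext s
      change D f s ≤ r ↔ ¬ (r + 1 ≤ D f s)
      omega
    rw [h2]
    exact h1.isClosed_compl
  · intro T g r
    constructor
    · rintro ⟨⟨h1, h2, h3⟩, h4⟩ t
      haveI := h1
      haveI := h2
      rw [← finrank_snd_eq f hfin g t]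
      exact h4 t
    · intro hr
      haveI := isFinite_snd_of_const f hfin g r hr
      haveI : Flat (pullback.snd f g) := inferInstance
      haveI : LocallyOfFinitePresentation (pullback.snd f g) := inferInstance
      refine ⟨⟨inferInstance, inferInstance, inferInstance⟩, fun t => ?_⟩
      rw [finrank_snd_eq f hfin g t]
      exact hr t

end Groth.Agent.S1447
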