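import Groth.Statements.S1448
import Mathlib
import Groth.Agent.Lib.Helper16FibDeg
import Groth.Agent.Lib.Helper2Weight
import Groth.Agent.Lib.Helper2Weight2
import Groth.Agent.Lib.Helper2Weight3
import Groth.Agent.Lib.Helper20EtSplitClopen
import Groth.Agent.S1419
import Groth.Agent.S1449
import Groth.Agent.S1447
import Groth.Agent.S1428
-- import your own Groth.Agent.* helpers here

set_option autoImplicit false
set_option linter.style.haveILetI false
set_option linter.unusedSectionVars false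
universe u
open FlatMor

namespace Groth.Agent.S1448

open AlgebraicGeometry CategoryTheory Limits TopologicalSpace
open Groth.Agent.Lib.Helper16.FibDeg
open Groth.Agent.Lib.Helper2.Weight

/-- covering lemma for compactness. -/
theorem isCompact_inter_of_cover {S : Scheme.{u}} (E U C : Set S) (hC : IsCompact C)
    (hCU : C ⊆ U) (hEC : E ∩ U ⊆ C)
    (H : ∀ s ∈ C, ∃ (V : Scheme.{u}) (g : V ⟶ S) (V' : Set V), IsOpenMap g ∧ IsOpen V' ∧
      s ∈ g '' V' ∧ ∀ K : Set V, IsOpen K → IsCompact K → K ⊆ V' → IsCompact (g ⁻¹' E ∩ K))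
    (hU : IsOpen U) : IsCompact (E ∩ U) := by
  have H' : ∀ s : C, ∃ (V : Scheme.{u}) (g : V ⟶ S) (V' : Set V), IsOpenMap g ∧ IsOpen V' ∧
      s.1 ∈ g '' V' ∧ ∀ K : Set V, IsOpen K → IsCompact K → K ⊆ V' → IsCompact (g ⁻¹' E ∩ K) :=
    fun s => H s.1 s.2
  choose V g V' hg hV' hs hK using H'
  have H2 : ∀ s : C, ∃ K : Set (V s), IsOpen K ∧ IsCompact K ∧ K ⊆ V' s ∧ K ⊆ g s ⁻¹' U ∧
      s.1 ∈ g s '' K := by
    intro s
    obtain ⟨v, hv, hvs⟩ := hs s
    have hO : IsOpen (V' s ∩ g s ⁻¹' U) := (hV' s).inter (hU.preimage (g s).continuous)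
    have hvO : v ∈ V' s ∩ g s ⁻¹' U := ⟨hv, by rw [Set.mem_preimage, hvs]; exact hCU s.2⟩
    obtain ⟨_, ⟨K, hKaff, rfl⟩, hvK, hKsub⟩ :=
      (V s).isBasis_affineOpens.exists_subset_of_mem_open hvO hO
    exact ⟨K, K.2, IsAffineOpen.isCompact hKaff, fun y hy => (hKsub hy).1,
      fun y hy => (hKsub hy).2, ⟨v, hvK, hvs⟩⟩
  choose K hK1 hK2 hK3 hK4 hK5 using H2
  obtain ⟨b, hcov⟩ := hC.elim_finite_subcover (fun s : C => g s '' K s)
    (fun s => hg s _ (hK1 s))
    (fun s hs => Set.mem_iUnion.mpr ⟨⟨s, hs⟩, hK5 ⟨s, hs⟩⟩)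
  have heq : E ∩ U = ⋃ s ∈ b, g s '' (g s ⁻¹' E ∩ K s) := by
    ext e
    constructor
    · rintro ⟨heE, heU⟩
      have := hcov (hEC ⟨heE, heU⟩)
      obtain ⟨s, hsb, κ, hκ, rfl⟩ := Set.mem_iUnion₂.mp this
      exact Set.mem_iUnion₂.mpr ⟨s, hsb, κ, ⟨heE, hκ⟩, rfl⟩
    · intro he
      obtain ⟨s, hsb, κ, ⟨hκE, hκK⟩, rfl⟩ := Set.mem_iUnion₂.mp he
      exact ⟨hκE, hK4 s hκK⟩
  rw [heq]
  refine b.finite_toSet.isCompact_biUnion (fun s hsb => ?_)
  exact (hK s (K s) (hK1 s) (hK2 s) (hK3 s)).image (g s).continuous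

theorem fibreIntegral_nonneg {X S : Scheme.{u}} (f : X ⟶ S) (w : X → ℤ) (hpos : ∀ x, 0 < w x)
    (s : S) (hfin : (f ⁻¹' {s}).Finite) : 0 ≤ MoreMor.fibreIntegral f w s := by
  rw [fibreIntegral_eq_fI_univ, ← fI_empty f w s]
  refine fI_mono_of_nonneg f w (fun x => (hpos x).le) ∅ Set.univ (Set.subset_univ _) s ?_
  rw [Set.inter_univ]
  exact hfin

theorem quasiCompact_ι_of_isClosed {P : Scheme.{u}} (R : P.Opens) (hR : IsClosed (R : Set P)) :
    QuasiCompact R.ι := by
  constructor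
  intro K hKo hKc
  have hce : Topology.IsClosedEmbedding R.ι :=
    ⟨R.ι.isOpenEmbedding.isEmbedding, by rw [Scheme.Opens.range_ι]; exact hR⟩
  exact hce.isCompact_preimage hKc

theorem retro (r : ℕ) : ∀ (X S : Scheme.{u}) (f : X ⟶ S) [LocallyQuasiFinite f]
    [LocallyOfFiniteType f] [IsSeparated f] [QuasiCompact f] (w : X → ℤ),
    MoreMor.IsWeighting f w → (∀ x, 0 < w x) →
    IsRetrocompact {s : S | (r : ℤ) ≤ MoreMor.fibreIntegral f w s} := by
  induction r using Nat.strong_induction_on with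
  | _ r IH =>
  intro X S f _ _ _ _ w hw hpos
  have hfin : ∀ s : S, (f ⁻¹' {s}).Finite := fun s => Scheme.Hom.finite_preimage_singleton f s
  have hnn : ∀ s, 0 ≤ MoreMor.fibreIntegral f w s := fun s =>
    fibreIntegral_nonneg f w hpos s (hfin s)
  rcases Nat.eq_zero_or_pos r with rfl | hr
  · have : {s : S | ((0 : ℕ) : ℤ) ≤ MoreMor.fibreIntegral f w s} = Set.univ := by
      ext s
      simp [hnn s]
    rw [this]
    exact IsRetrocompact.univ
  intro U hUc hUo
  refine isCompact_inter_of_cover _ U (f '' (f ⁻¹' U)) ?_ ?_ ?_ ?_ hUo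
  · exact (QuasiCompact.isCompact_preimage U hUo hUc).image f.continuous
  · rintro _ ⟨x, hx, rfl⟩
    exact hx
  · rintro s ⟨hsE, hsU⟩
    have hsE' : (r : ℤ) ≤ MoreMor.fibreIntegral f w s := hsE
    have h1 : (1 : ℤ) ≤ r := by exact_mod_cast hr
    have hne : MoreMor.fibreIntegral f w s ≠ 0 := by omega
    rw [fibreIntegral_eq_fI_univ] at hne
    obtain ⟨x, -, hx⟩ := exists_mem_of_fI_pos f w Set.univ s hne
    exact ⟨x, by rw [Set.mem_preimage, hx]; exact hsU, hx⟩
  · rintro _ ⟨x, hxU, rfl⟩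
    obtain ⟨V, g, v, hg, hv, -, Vz, -, H⟩ :=
      Groth.Agent.Lib.Helper20.EtSections.exists_etale_split_clopen f (f x) {x}
        (Set.finite_singleton x)
        (fun t ht => ⟨by rw [Set.mem_singleton_iff.mp ht], f.quasiFiniteAt t⟩)
    haveI := hg
    obtain ⟨z, hz1, hz2⟩ := Scheme.Pullback.exists_preimage_pullback x v hv.symm
    obtain ⟨hzW, hWclopen, hWfin, -, -, -⟩ := H z hz2 (by rw [hz1]; rfl)
    haveI := hWfin
    set π := pullback.snd f g with hπ
    set w₂ : ↥(pullback f g) → ℤ := w ∘ pullback.fst f g with hw₂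
    have hpos₂ : ∀ y, 0 < w₂ y := fun y => hpos _
    haveI : LocallyQuasiFinite π := inferInstance
    haveI : LocallyOfFiniteType π := inferInstance
    haveI : IsSeparated π := inferInstance
    haveI : QuasiCompact π := inferInstance
    have hw₂w : MoreMor.IsWeighting π w₂ :=
      Groth.Agent.S1419.result f w hw π (pullback.fst f g) g (IsPullback.of_hasPullback f g)
    set W : (pullback f g).Opens := Vz z with hW
    let R : (pullback f g).Opens := ⟨(W : Set ↥(pullback f g))ᶜ, hWclopen.compl.isOpen⟩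
    have hRclosed : IsClosed (R : Set ↥(pullback f g)) := hWclopen.compl.isClosed
    haveI : QuasiCompact R.ι := quasiCompact_ι_of_isClosed R hRclosed
    have hG : IsLocallyConstant (fI π w₂ W) := isLocallyConstant_fI_etale f w hw g W
    have hfinπ : ∀ v', (π ⁻¹' {v'}).Finite := fun v' =>
      Scheme.Hom.finite_preimage_singleton π v'
    have hfinA : ∀ (A : Set ↥(pullback f g)) v', ({y | π y = v'} ∩ A).Finite := fun A v' =>
      (hfinπ v').subset (fun y hy => hy.1)
    set c : ℤ := fI π w₂ W v with hc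
    have hc1 : 1 ≤ c := by
      have h1 := le_fI π w₂ hpos₂ (W : Set ↥(pullback f g)) v (hfinA _ _) z hzW hz2
      have h2 := hpos₂ z
      omega
    let V' : Set V := {v' | fI π w₂ W v' = c}
    have hV'o : IsOpen V' := hG.isOpen_fiber _
    have hwR : MoreMor.IsWeighting (R.ι ≫ π) (w₂ ∘ R.ι) := isWeighting_opens π w₂ hw₂w R
    have hdecomp : ∀ v', MoreMor.fibreIntegral f w (g v') =
        fI π w₂ W v' + MoreMor.fibreIntegral (R.ι ≫ π) (w₂ ∘ R.ι) v' := by
      intro v'
      have h1 := (fibreIntegral_baseChange f hfin π (pullback.fst f g) g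
        (IsPullback.of_hasPullback f g) w v').1
      rw [← h1, fibreIntegral_eq_fI_univ]
      have h2 : (Set.univ : Set ↥(pullback f g)) = (W : Set ↥(pullback f g)) ∪ (R : Set ↥(pullback f g)) := by
        change Set.univ = (W : Set ↥(pullback f g)) ∪ (W : Set ↥(pullback f g))ᶜ
        rw [Set.union_compl_self]
      rw [h2, fI_union π w₂ (W : Set ↥(pullback f g)) (R : Set ↥(pullback f g)) v' (hfinA _ _) (hfinA _ _)]
      · congr 1
        exact (fibreIntegral_opens R π w₂ v').symm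
      · rw [Set.disjoint_left]
        rintro y ⟨-, hyW⟩ ⟨-, hyR⟩
        exact hyR hyW
    have hnnR : ∀ v', 0 ≤ MoreMor.fibreIntegral (R.ι ≫ π) (w₂ ∘ R.ι) v' := fun v' =>
      fibreIntegral_nonneg (R.ι ≫ π) (w₂ ∘ R.ι) (fun y => hpos₂ _) v'
        (Scheme.Hom.finite_preimage_singleton (R.ι ≫ π) v')
    have hm : r - c.toNat < r := by omega
    have hIH := IH (r - c.toNat) hm R V (R.ι ≫ π) (w₂ ∘ R.ι) hwR (fun y => hpos₂ _)
    refine ⟨V, g, V', g.isOpenMap, hV'o, ⟨v, rfl, hv⟩, ?_⟩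
    intro K hKo hKc hKV'
    have hset : g ⁻¹' {s : S | (r : ℤ) ≤ MoreMor.fibreIntegral f w s} ∩ K =
        {v' : V | ((r - c.toNat : ℕ) : ℤ) ≤ MoreMor.fibreIntegral (R.ι ≫ π) (w₂ ∘ R.ι) v'} ∩ K := by
      ext v'
      constructor
      · rintro ⟨h1, h2⟩
        refine ⟨?_, h2⟩
        have h3 : (r : ℤ) ≤ MoreMor.fibreIntegral f w (g v') := h1
        have h4 : fI π w₂ W v' = c := hKV' h2
        rw [hdecomp v', h4] at h3
        change ((r - c.toNat : ℕ) : ℤ) ≤ _
        have := hnnR v'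
        omega
      · rintro ⟨h1, h2⟩
        refine ⟨?_, h2⟩
        change (r : ℤ) ≤ MoreMor.fibreIntegral f w (g v')
        have h4 : fI π w₂ W v' = c := hKV' h2
        have h3 : ((r - c.toNat : ℕ) : ℤ) ≤ MoreMor.fibreIntegral (R.ι ≫ π) (w₂ ∘ R.ι) v' := h1
        rw [hdecomp v', h4]
        have := hnnR v'
        omega
    rw [hset]
    exact hIH hKc hKo

open Groth.Agent.S1447 (D) in

open AlgebraicGeometry CategoryTheory Limits in
/-- Consider a separated, flat, quasi-compact and locally quasi-finite morphism f : X → S which is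
locally of finite presentation. Then there is a function deg : S → ℕ with every sublevel set {deg ≤
r} closed and every level set retrocompact, such that for every morphism g : T → S and every r, deg
∘ g is constant with value r exactly when the base change of f along g is finite locally free of
degree r. -/
theorem result {X S : Scheme.{u}} (f : X ⟶ S) [Flat f] [LocallyOfFinitePresentation f] [IsSeparated f] [LocallyQuasiFinite f] [QuasiCompact f] :
    ∃ deg : ↑S → ℕ, (∀ r : ℕ, IsClosed {s : ↑S | deg s ≤ r}) ∧ (∀ r : ℕ, IsRetrocompact {s : ↑S | deg s = r}) ∧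
      ∀ (T : Scheme.{u}) (g : T ⟶ S) (r : ℕ), Mor2.IsFinLocFreeOfDeg r (pullback.snd f g) ↔ ∀ t : T, deg (g t) = r := by
  have hfin : ∀ s : S, (f ⁻¹' {s}).Finite := fun s => Scheme.Hom.finite_preimage_singleton f s
  have hclosed : ∀ r : ℕ, IsClosed {s : ↑S | D f s ≤ r} := by
    intro r
    have h1 := Groth.Agent.S1447.isOpen_D f hfin (r + 1)
    have h2 : {s : ↑S | D f s ≤ r} = {s : ↑S | r + 1 ≤ D f s}ᶜ := by
      ext s
      change D f s ≤ r ↔ ¬ (r + 1 ≤ D f s)
      omega
    rw [h2]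
    exact h1.isClosed_compl
  refine ⟨D f, hclosed, ?_, ?_⟩
  · intro r U hUc hUo
    obtain ⟨hw, hpos⟩ := stdW_spec f
    have h1 := retro r X S f (stdW f) hw hpos hUc hUo
    have h2 : {s : ↑S | D f s = r} ∩ U =
        {s : ↑S | D f s ≤ r} ∩ ({s : ↑S | (r : ℤ) ≤ MoreMor.fibreIntegral f (stdW f) s} ∩ U) := by
      ext s
      change (D f s = r ∧ s ∈ U) ↔
        (D f s ≤ r ∧ ((r : ℤ) ≤ MoreMor.fibreIntegral f (stdW f) s ∧ s ∈ U))
      rw [Groth.Agent.S1447.fibreIntegral_eq_D f hfin s]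
      constructor
      · rintro ⟨h3, h4⟩
        exact ⟨h3.le, by exact_mod_cast h3.ge, h4⟩
      · rintro ⟨h3, h4, h5⟩
        have h6 : r ≤ D f s := by exact_mod_cast h4
        exact ⟨le_antisymm h3 h6, h5⟩
    rw [h2]
    exact h1.inter_left (hclosed r)
  · intro T g r
    constructor
    · rintro ⟨⟨h1, h2, h3⟩, h4⟩ t
      haveI := h1
      haveI := h2
      rw [← Groth.Agent.S1447.finrank_snd_eq f hfin g t]
      exact h4 t
    · intro hr
      haveI := Groth.Agent.S1447.isFinite_snd_of_const f hfin g r hr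
      haveI : Flat (pullback.snd f g) := inferInstance
      haveI : LocallyOfFinitePresentation (pullback.snd f g) := inferInstance
      refine ⟨⟨inferInstance, inferInstance, inferInstance⟩, fun t => ?_⟩
      rw [Groth.Agent.S1447.finrank_snd_eq f hfin g t]
      exact hr t

end Groth.Agent.S1448
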