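import Groth.Statements.S8686
-- import your own Groth.Agent.* helpers here

set_option autoImplicit false
universe u
open LambdaRing

namespace Groth.Agent.S8686

theorem lamSeries_one_eq (K : Type u) [CommRing K] [LambdaRing.LambdaOps K]
    (h1 : ∀ n : ℕ, 2 ≤ n → LambdaRing.LambdaOps.lam n (1 : K) = 0) :
    LambdaRing.lamSeries (1 : K) = 1 + PowerSeries.X := by
  ext n
  rw [LambdaRing.lamSeries, PowerSeries.coeff_mk, map_add, PowerSeries.coeff_one,
    PowerSeries.coeff_X]
  rcases n with _ | _ | n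
  · simp [LambdaRing.LambdaOps.lam_zero]
  · simp [LambdaRing.LambdaOps.lam_one]
  · rw [h1 (n + 2) (by omega)]
    simp

theorem one_add_X_mul (K : Type u) [CommRing K] :
    (1 + PowerSeries.X : PowerSeries K) * PowerSeries.mk (fun k => (-1 : K) ^ k) = 1 := by
  ext n
  rw [add_mul, one_mul, map_add, PowerSeries.coeff_mk, PowerSeries.coeff_one]
  rcases n with _ | n
  · simp
  · rw [PowerSeries.coeff_succ_X_mul, PowerSeries.coeff_mk]
    simp [pow_succ]

/-- Let K be a pre-λ-ring with λ^n(1) = 0 for all n ≥ 2, i.e. λ_t(1) = 1 + t. Then the Adams operations,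
defined for k ≥ 1 through (d/dt λ_t(x)) · λ_t(x)⁻¹ = Σ_{k ≥ 1} (−1)^{k−1} ψ^k(x) t^{k−1}, satisfy
ψ^k(1) = 1 for every k ≥ 1. (The published statement is for a λ-ring in the strict sense; this
identity uses only λ_t(1) = 1 + t, the hypothesis taken here.) -/
theorem result (K : Type u) [CommRing K] [LambdaRing.LambdaOps K]
    (h1 : ∀ n : ℕ, 2 ≤ n → LambdaRing.LambdaOps.lam n (1 : K) = 0) (k : ℕ) (hk : 1 ≤ k) :
    LambdaRing.adamsOp k (1 : K) = 1 := by
  obtain ⟨k, rfl⟩ : ∃ j, k = j + 1 := ⟨k - 1, by omega⟩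
  have hinv : (LambdaRing.lamSeries (1 : K)).invOfUnit 1 = PowerSeries.mk (fun k => (-1 : K) ^ k) := by
    have h2 : (LambdaRing.lamSeries (1 : K)).invOfUnit 1 * LambdaRing.lamSeries (1 : K) = 1 := by
      apply PowerSeries.invOfUnit_mul
      rw [lamSeries_one_eq K h1]
      simp
    have h3 := one_add_X_mul K
    rw [← lamSeries_one_eq K h1] at h3
    calc (LambdaRing.lamSeries (1 : K)).invOfUnit 1
        = (LambdaRing.lamSeries (1 : K)).invOfUnit 1 * (LambdaRing.lamSeries (1 : K) *
            PowerSeries.mk (fun k => (-1 : K) ^ k)) := by rw [h3, mul_one]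
      _ = PowerSeries.mk (fun k => (-1 : K) ^ k) := by rw [← mul_assoc, h2, one_mul]
  show (-1 : K) ^ k * PowerSeries.coeff k (LambdaRing.logDerivSeries (1 : K)) = 1
  rw [LambdaRing.logDerivSeries, hinv, lamSeries_one_eq K h1]
  have hd : PowerSeries.derivative K (1 + PowerSeries.X : PowerSeries K) = 1 := by
    simp
  rw [hd, one_mul, PowerSeries.coeff_mk, ← mul_pow]
  simp

end Groth.Agent.S8686
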