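import Groth.Statements.S6857
import Mathlib
import Groth.Agent.Lib.Helper16ClosedEmb
-- import your own Groth.Agent.* helpers here

set_option autoImplicit false
set_option linter.style.haveILetI false
set_option linter.unusedSectionVars false
universe u
open CategoryTheory CategoryTheory.Limits TopologicalSpace
open CohTop

namespace Groth.Agent.S6857
open Groth.Agent.Lib.Helper16.ClosedEmb Opposite

variable {Z X : TopCat.{u}} (i : Z ⟶ X) (hi : Topology.IsClosedEmbedding i)
include hi

/-- stalks of `i_* G` vanish outside the image. -/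
lemma isZero_stalk_push (G : CohTop.Ab Z) (x : X) (hx : x ∉ Set.range i) :
    IsZero (CohTop.stalk ((CohTop.push i).obj G) x) := by
  let U : Opens X := ⟨(Set.range i)ᶜ, hi.isClosed_range.isOpen_compl⟩
  have hxU : x ∈ U := hx
  have hsub : Subsingleton (ToType (CohTop.stalk ((CohTop.push i).obj G) x)) := by
    refine subsingleton_of_forall_eq 0 (fun t => ?_)
    obtain ⟨V, hVU, hxV, s, rfl⟩ :=
      TopCat.Presheaf.exists_le_germ_eq ((CohTop.push i).obj G).obj t hxU
    have hbot : (Opens.map i).obj V = ⊥ := by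
      ext z
      simp only [Opens.coe_bot, Set.mem_empty_iff_false, iff_false]
      intro hz
      exact hVU (show i z ∈ V from hz) ⟨z, rfl⟩
    have hsub' : Subsingleton (ToType (((CohTop.push i).obj G).obj.obj (op V))) :=
      subsingleton_of_eq_bot G hbot
    have hs : s = 0 := hsub'.elim _ _
    rw [hs, map_zero]
  exact AddCommGrpCat.isZero_of_subsingleton _

/-- the open complement of the image -/
def Uc : Opens X := ⟨(Set.range i)ᶜ, hi.isClosed_range.isOpen_compl⟩

/-- `Z` is homeomorphic to the closed complement of `Uc`. -/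
noncomputable def eHomeo : Z ≃ₜ ((Uc i hi : Set X)ᶜ : Set X) :=
  Topology.IsEmbedding.toHomeomorphOfSurjective
    (f := Set.codRestrict i ((Uc i hi : Set X)ᶜ) (fun z => by
      show i z ∈ ((Set.range i)ᶜ)ᶜ
      rw [compl_compl]; exact ⟨z, rfl⟩))
    (hi.isEmbedding.codRestrict _ _)
    (by
      rintro ⟨x, hx⟩
      have hx' : x ∈ ((Set.range i)ᶜ)ᶜ := hx
      rw [compl_compl] at hx'
      obtain ⟨z, rfl⟩ := hx'
      exact ⟨z, rfl⟩)

/-- as an isomorphism in `TopCat` -/
noncomputable def eIso : Z ≅ TopCat.of ((Uc i hi : Set X)ᶜ : Set X) :=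
  TopCat.isoOfHomeo (eHomeo i hi)

lemma eIso_hom_comp : (eIso i hi).hom ≫ iZ (Uc i hi) = i := by
  ext z
  rfl

lemma sz_of_stalks (F : CohTop.Ab X) (hF : ∀ x : X, x ∉ Set.range i → IsZero (CohTop.stalk F x)) :
    SZ (Uc i hi) F := by
  intro V hV
  refine subsingleton_of_forall_eq 0 (fun s => ?_)
  apply TopCat.Presheaf.section_ext F V
  intro x hx
  have hz := hF x (hV hx)
  haveI : Subsingleton (ToType (CohTop.stalk F x)) := AddCommGrpCat.subsingleton_of_isZero hz
  exact Subsingleton.elim _ _

lemma essImage_of_stalks (F : CohTop.Ab X)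
    (hF : ∀ x : X, x ∉ Set.range i → IsZero (CohTop.stalk F x)) : (CohTop.push i).essImage F := by
  have hSZ := sz_of_stalks i hi F hF
  let G := toZ (Uc i hi) F hSZ
  let θ' := asIso (θ (Uc i hi) F hSZ)
  let G' := (CohTop.push (eIso i hi).inv).obj G
  have h1 : (eIso i hi).inv ≫ i = iZ (Uc i hi) := by
    have h0 := eIso_hom_comp i hi
    calc (eIso i hi).inv ≫ i = (eIso i hi).inv ≫ (eIso i hi).hom ≫ iZ (Uc i hi) :=
          congrArg (fun t => (eIso i hi).inv ≫ t) h0.symm
      _ = iZ (Uc i hi) := by rw [← Category.assoc, Iso.inv_hom_id, Category.id_comp]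
  let e1 : (CohTop.push i).obj G' ≅ (CohTop.push ((eIso i hi).inv ≫ i)).obj G := Iso.refl _
  let e2 : (CohTop.push ((eIso i hi).inv ≫ i)).obj G ≅ (CohTop.push (iZ (Uc i hi))).obj G :=
    eqToIso (by rw [h1])
  exact ⟨G', ⟨e1 ≪≫ e2 ≪≫ θ'⟩⟩

omit hi in

/-- Let i : Z → X be the inclusion of a closed subset of a topological space (a closed embedding). Then
i_* : Ab(Z) → Ab(X) is exact (right exactness being the content, i_* is a right adjoint) and fully
faithful, an abelian sheaf on X lies in its essential image exactly when its stalks at points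
outside i(Z) are zero (support contained in Z), and i⁻¹ ∘ i_* is isomorphic to the identity functor
(existence of an isomorphism of functors is asserted). -/
theorem result {Z X : TopCat.{u}} (i : Z ⟶ X)
    (hi : Topology.IsClosedEmbedding i) :
    PreservesFiniteColimits (CohTop.push i) ∧ (CohTop.push i).Full ∧ (CohTop.push i).Faithful ∧
      (∀ F : CohTop.Ab X, (CohTop.push i).essImage F ↔ ∀ x : X, x ∉ Set.range i → IsZero (CohTop.stalk F x)) ∧
      Nonempty (CohTop.push i ⋙ CohTop.pull i ≅ 𝟭 (CohTop.Ab Z)) := by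
  haveI := push_full i hi
  haveI := push_faithful i hi
  refine ⟨push_preservesFiniteColimits i hi, inferInstance, inferInstance, ?_, ?_⟩
  · intro F
    constructor
    · rintro ⟨G, ⟨e⟩⟩ x hx
      exact IsZero.of_iso (isZero_stalk_push i hi G x hx)
        ((TopCat.Presheaf.stalkFunctor _ x).mapIso ((sheafToPresheaf _ _).mapIso e.symm))
    · exact essImage_of_stalks i hi F
  · let adj := TopCat.Sheaf.pullbackPushforwardAdjunction AddCommGrpCat.{u} i
    have hc : IsIso adj.counit :=
      @Adjunction.counit_isIso_of_R_fully_faithful _ _ _ _ _ _ adj (push_full i hi) (push_faithful i hi)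
    exact ⟨@asIso _ _ _ _ adj.counit hc⟩

end Groth.Agent.S6857
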