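import Groth.Statements.S2193
import Mathlib
import Groth.Agent.Lib.Helper16DPow
-- import your own Groth.Agent.* helpers here

set_option autoImplicit false
set_option linter.style.haveILetI false
set_option linter.unusedSectionVars false
universe u v
open DPow

namespace Groth.Agent.S2193

open Groth.Agent.Lib.Helper16DPow Finset TensorProduct

variable {A : Type u} {B : Type v} [CommRing A] [CommRing B] [Algebra A B] {I : Ideal A}

/-- exponential series of `x ⊗ b` -/
noncomputable def e (γ : DividedPowers I) (x : A) (b : B) : PowerSeries B :=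
  PowerSeries.mk fun n => algebraMap A B (γ.dpow n x) * b ^ n

theorem coeff_e (γ : DividedPowers I) (x : A) (b : B) (n : ℕ) :
    PowerSeries.coeff n (e γ x b) = algebraMap A B (γ.dpow n x) * b ^ n := by
  simp [e]

theorem e_add_left (γ : DividedPowers I) {x x' : A} (hx : x ∈ I) (hx' : x' ∈ I) (b : B) :
    e γ (x + x') b = e γ x b * e γ x' b := by
  ext n
  rw [PowerSeries.coeff_mul, coeff_e, γ.dpow_add hx hx', map_sum, sum_mul]
  refine sum_congr rfl (fun p hp => ?_)
  rw [HasAntidiagonal.mem_antidiagonal] at hp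
  rw [coeff_e, coeff_e, map_mul, ← hp, pow_add]
  ring

theorem e_zero_left (γ : DividedPowers I) (b : B) : e γ 0 b = 1 := by
  ext n
  rw [coeff_e, PowerSeries.coeff_one]
  split_ifs with hn
  · subst hn
    rw [γ.dpow_zero I.zero_mem, map_one, pow_zero, mul_one]
  · rw [γ.dpow_eval_zero hn, map_zero, zero_mul]

theorem e_add_right (γ : DividedPowers I) {x : A} (hx : x ∈ I) (b b' : B) :
    e γ x (b + b') = e γ x b * e γ x b' := by
  ext n
  rw [PowerSeries.coeff_mul, coeff_e, (Commute.all b b').add_pow', mul_sum]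
  refine sum_congr rfl (fun p hp => ?_)
  rw [HasAntidiagonal.mem_antidiagonal] at hp
  rw [coeff_e, coeff_e]
  have h1 : algebraMap A B (γ.dpow p.1 x) * algebraMap A B (γ.dpow p.2 x) =
      ((p.1 + p.2).choose p.1 : B) * algebraMap A B (γ.dpow (p.1 + p.2) x) := by
    rw [← map_mul, γ.mul_dpow hx, map_mul, map_natCast]
  have h2 : algebraMap A B (γ.dpow p.1 x) * b ^ p.1 * (algebraMap A B (γ.dpow p.2 x) * b' ^ p.2) =
      (algebraMap A B (γ.dpow p.1 x) * algebraMap A B (γ.dpow p.2 x)) * (b ^ p.1 * b' ^ p.2) := by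
    ring
  rw [h2, h1, hp, nsmul_eq_mul, ← hp]
  ring

theorem e_zero_right (γ : DividedPowers I) {x : A} (hx : x ∈ I) : e γ x (0 : B) = 1 := by
  ext n
  rw [coeff_e, PowerSeries.coeff_one]
  split_ifs with hn
  · subst hn
    rw [γ.dpow_zero hx, map_one, pow_zero, mul_one]
  · rw [zero_pow hn, mul_zero]

theorem e_smul (γ : DividedPowers I) {x : A} (hx : x ∈ I) (a : A) (b : B) :
    e γ (a * x) b = e γ x (a • b) := by
  ext n
  rw [coeff_e, coeff_e, γ.dpow_mul hx, map_mul, map_pow, Algebra.smul_def, mul_pow]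
  ring

/-- the exponential as an additive map out of `I ⊗ B` -/
noncomputable def F (γ : DividedPowers I) : (↥I ⊗[A] B) →+ Additive (PowerSeries B) :=
  TensorProduct.liftAddHom
    { toFun := fun x =>
        { toFun := fun b => Additive.ofMul (e γ x.1 b)
          map_zero' := by
            rw [e_zero_right γ x.2]; rfl
          map_add' := fun b b' => by
            rw [e_add_right γ x.2]; rfl }
      map_zero' := by
        refine AddMonoidHom.ext (fun b => ?_)
        show Additive.ofMul (e γ 0 b) = 0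
        rw [e_zero_left]; rfl
      map_add' := fun x x' => by
        refine AddMonoidHom.ext (fun b => ?_)
        show Additive.ofMul (e γ (x.1 + x'.1) b) = _
        rw [e_add_left γ x.2 x'.2]; rfl }
    (fun a x b => by
      show Additive.ofMul (e γ (a • x.1) b) = Additive.ofMul (e γ x.1 (a • b))
      rw [smul_eq_mul, e_smul γ x.2])

theorem F_tmul (γ : DividedPowers I) (x : ↥I) (b : B) :
    (F γ (x ⊗ₜ[A] b)).toMul = e γ x.1 b := by
  unfold F
  rw [TensorProduct.liftAddHom_tmul]
  rfl

theorem F_add (γ : DividedPowers I) (t t' : ↥I ⊗[A] B) :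
    (F γ (t + t')).toMul = (F γ t).toMul * (F γ t').toMul := by
  rw [map_add]; rfl

theorem F_zero (γ : DividedPowers I) : (F γ (0 : ↥I ⊗[A] B)).toMul = 1 := by
  rw [map_zero]; rfl

/-- the multiplication map `I ⊗ B → B` -/
noncomputable def μ : (↥I ⊗[A] B) →ₗ[A] B :=
  (TensorProduct.lid A B).toLinearMap ∘ₗ LinearMap.rTensor B I.subtype

theorem μ_tmul (x : ↥I) (b : B) : μ (I := I) (x ⊗ₜ[A] b) = algebraMap A B x.1 * b := by
  simp [μ, Algebra.smul_def]

theorem μ_injective [Module.Flat A B] : Function.Injective (μ (I := I) (B := B)) := by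
  unfold μ
  rw [LinearMap.coe_comp]
  exact (TensorProduct.lid A B).injective.comp
    (Module.Flat.rTensor_preserves_injective_linearMap I.subtype Subtype.val_injective)

theorem μ_mem (t : ↥I ⊗[A] B) : μ t ∈ I.map (algebraMap A B) := by
  induction t using TensorProduct.induction_on with
  | zero => rw [map_zero]; exact zero_mem _
  | tmul x b =>
    rw [μ_tmul]
    exact Ideal.mul_mem_right _ _ (Ideal.mem_map_of_mem _ x.2)
  | add t t' ht ht' => rw [map_add]; exact add_mem ht ht'

theorem μ_mulLeft (c : B) (t : ↥I ⊗[A] B) :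
    μ (LinearMap.lTensor (↥I) (LinearMap.mulLeft A c) t) = c * μ t := by
  induction t using TensorProduct.induction_on with
  | zero => simp
  | tmul x b =>
    rw [LinearMap.lTensor_tmul, μ_tmul, μ_tmul, LinearMap.mulLeft_apply]
    ring
  | add t t' ht ht' => rw [map_add, map_add, map_add, ht, ht', mul_add]

theorem exists_μ {y : B} (hy : y ∈ I.map (algebraMap A B)) : ∃ t : ↥I ⊗[A] B, μ t = y := by
  unfold Ideal.map at hy
  induction hy using Submodule.span_induction with
  | mem y hy =>
    obtain ⟨x, hx, rfl⟩ := hy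
    exact ⟨(⟨x, hx⟩ : ↥I) ⊗ₜ[A] (1 : B), by rw [μ_tmul, mul_one]⟩
  | zero => exact ⟨0, map_zero _⟩
  | add y y' _ _ hy hy' =>
    obtain ⟨t, rfl⟩ := hy
    obtain ⟨t', rfl⟩ := hy'
    exact ⟨t + t', map_add _ _ _⟩
  | smul c y _ hy =>
    obtain ⟨t, rfl⟩ := hy
    exact ⟨LinearMap.lTensor (↥I) (LinearMap.mulLeft A c) t, by rw [μ_mulLeft, smul_eq_mul]⟩

theorem F_mulLeft (γ : DividedPowers I) (c : B) (t : ↥I ⊗[A] B) :
    (F γ (LinearMap.lTensor (↥I) (LinearMap.mulLeft A c) t)).toMul =
      PowerSeries.rescale c (F γ t).toMul := by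
  induction t using TensorProduct.induction_on with
  | zero => rw [map_zero, F_zero, map_one]
  | tmul x b =>
    rw [LinearMap.lTensor_tmul, F_tmul, F_tmul, LinearMap.mulLeft_apply]
    ext n
    rw [PowerSeries.coeff_rescale, coeff_e, coeff_e, mul_pow]
    ring
  | add t t' ht ht' => rw [map_add, F_add, F_add, ht, ht', map_mul]

theorem coeff_zero_F (γ : DividedPowers I) (t : ↥I ⊗[A] B) :
    PowerSeries.coeff 0 (F γ t).toMul = 1 := by
  induction t using TensorProduct.induction_on with
  | zero => rw [F_zero, PowerSeries.coeff_one, if_pos rfl]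
  | tmul x b => rw [F_tmul, coeff_e, γ.dpow_zero x.2, map_one, pow_zero, mul_one]
  | add t t' ht ht' =>
    rw [F_add, PowerSeries.coeff_mul, Finset.Nat.antidiagonal_zero, sum_singleton, ht, ht', mul_one]

theorem coeff_one_F (γ : DividedPowers I) (t : ↥I ⊗[A] B) :
    PowerSeries.coeff 1 (F γ t).toMul = μ t := by
  induction t using TensorProduct.induction_on with
  | zero => rw [F_zero, PowerSeries.coeff_one, if_neg one_ne_zero, map_zero]
  | tmul x b => rw [F_tmul, coeff_e, γ.dpow_one x.2, pow_one, μ_tmul]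
  | add t t' ht ht' =>
    rw [F_add, PowerSeries.coeff_mul, Finset.Nat.sum_antidiagonal_eq_sum_range_succ_mk,
      sum_range_succ, sum_range_one, Nat.sub_zero, Nat.sub_self, coeff_zero_F, coeff_zero_F,
      ht, ht', map_add]
    ring

theorem coeff_mem_F (γ : DividedPowers I) (t : ↥I ⊗[A] B) :
    ∀ n : ℕ, n ≠ 0 → PowerSeries.coeff n (F γ t).toMul ∈ I.map (algebraMap A B) := by
  induction t using TensorProduct.induction_on with
  | zero =>
    intro n hn
    rw [F_zero, PowerSeries.coeff_one, if_neg hn]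
    exact zero_mem _
  | tmul x b =>
    intro n hn
    rw [F_tmul, coeff_e]
    exact Ideal.mul_mem_right _ _ (Ideal.mem_map_of_mem _ (γ.dpow_mem hn x.2))
  | add t t' ht ht' =>
    intro n hn
    rw [F_add, PowerSeries.coeff_mul]
    refine Ideal.sum_mem _ (fun p hp => ?_)
    rw [HasAntidiagonal.mem_antidiagonal] at hp
    by_cases hp1 : p.1 = 0
    · exact Ideal.mul_mem_left _ _ (ht' p.2 (by omega))
    · exact Ideal.mul_mem_right _ _ (ht p.1 hp1)

/-- the divided powers on `I B` -/
noncomputable def dd (γ : DividedPowers I) (n : ℕ) (y : B) : B := by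
  classical
  exact if h : ∃ t : ↥I ⊗[A] B, μ t = y then PowerSeries.coeff n (F γ (Classical.choose h)).toMul
    else 0

theorem dd_μ [Module.Flat A B] (γ : DividedPowers I) (n : ℕ) (t : ↥I ⊗[A] B) :
    dd γ n (μ t) = PowerSeries.coeff n (F γ t).toMul := by
  have h : ∃ t' : ↥I ⊗[A] B, μ t' = μ t := ⟨t, rfl⟩
  unfold dd
  rw [dif_pos h, μ_injective (Classical.choose_spec h)]

theorem dd_pre [Module.Flat A B] (γ : DividedPowers I) :
    PreDP (I.map (algebraMap A B)) (dd (B := B) γ) where
  zero y hy := by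
    obtain ⟨t, rfl⟩ := exists_μ hy
    rw [dd_μ, coeff_zero_F]
  mem n y hn hy := by
    obtain ⟨t, rfl⟩ := exists_μ hy
    rw [dd_μ]
    exact coeff_mem_F γ t n hn
  add n y y' hy hy' := by
    obtain ⟨t, rfl⟩ := exists_μ hy
    obtain ⟨t', rfl⟩ := exists_μ hy'
    rw [← map_add, dd_μ, F_add, PowerSeries.coeff_mul]
    refine sum_congr rfl (fun p _ => ?_)
    rw [dd_μ, dd_μ]
  mul n c y hy := by
    obtain ⟨t, rfl⟩ := exists_μ hy
    rw [← μ_mulLeft, dd_μ, dd_μ, F_mulLeft, PowerSeries.coeff_rescale]

theorem dd_alg [Module.Flat A B] (γ : DividedPowers I) (n : ℕ) {x : A} (hx : x ∈ I) :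
    dd (B := B) γ n (algebraMap A B x) = algebraMap A B (γ.dpow n x) := by
  have : algebraMap A B x = μ ((⟨x, hx⟩ : ↥I) ⊗ₜ[A] (1 : B)) := by rw [μ_tmul, mul_one]
  rw [this, dd_μ, F_tmul, coeff_e, one_pow, mul_one]


/-- Uniqueness in general and existence in case (3): let I be an ideal of A with a divided power
structure and B an A-algebra. There is at most one divided power structure on the ideal I B for
which A -> B is a homomorphism of divided power rings, and if B is flat over A there is one. -/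
theorem result {A : Type u} {B : Type v} [CommRing A] [CommRing B] [Algebra A B]
    {I : Ideal A} (γ : DividedPowers I) :
    (∀ δ δ' : DividedPowers (I.map (algebraMap A B)),
        γ.IsDPMorphism δ (algebraMap A B) → γ.IsDPMorphism δ' (algebraMap A B) → δ = δ') ∧
      (Module.Flat A B →
        ∃ δ : DividedPowers (I.map (algebraMap A B)), γ.IsDPMorphism δ (algebraMap A B)) := by
  constructor
  · intro δ δ' hδ hδ'
    refine DividedPowers.dpow_eq_from_gens δ' δ (S := (algebraMap A B) '' (I : Set A)) rfl ?_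
    rintro n _ ⟨x, hx, rfl⟩
    rw [hδ'.2 x hx, hδ.2 x hx]
  · intro hflat
    have hpre := dd_pre (B := B) γ
    have hnull : ∀ (n : ℕ) (y : B), y ∉ I.map (algebraMap A B) → dd γ n y = 0 := by
      intro n y hy
      unfold dd
      rw [dif_neg]
      rintro ⟨t, rfl⟩
      exact hy (μ_mem t)
    have hone : ∀ y ∈ I.map (algebraMap A B), dd γ 1 y = y := by
      intro y hy
      obtain ⟨t, rfl⟩ := exists_μ hy
      rw [dd_μ, coeff_one_F]
    have hgood : ∀ y ∈ (algebraMap A B) '' (I : Set A), Good (dd (B := B) γ) y := by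
      rintro _ ⟨x, hx, rfl⟩
      have hx' : x ∈ I := hx
      constructor
      · intro m n
        rw [dd_alg γ _ hx', dd_alg γ _ hx', dd_alg γ _ hx', ← map_mul, γ.mul_dpow hx', map_mul,
          map_natCast]
      · intro m n hn
        rw [dd_alg γ _ hx', dd_alg γ _ (γ.dpow_mem hn hx'), dd_alg γ _ hx', γ.dpow_comp hn hx',
          map_mul, map_natCast]
    refine ⟨ofGens hpre hnull hone _ rfl hgood, le_refl _, fun x hx => ?_⟩
    exact dd_alg γ _ hx

end Groth.Agent.S2193
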