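import Groth.Statements.S2191
import Mathlib.RingTheory.DividedPowers.DPMorphism
import Groth.Agent.Lib.Helper16DPow
-- import your own Groth.Agent.* helpers here

set_option autoImplicit false
set_option linter.style.haveILetI false
set_option linter.unusedSectionVars false
universe u v
open DPow

namespace Groth.Agent.S2191

open Groth.Agent.Lib.Helper16DPow Finset

variable {A : Type u} [CommRing A] {I J : Ideal A}

/-- product of the two exponential series -/
noncomputable def E (γ : DividedPowers I) (δ : DividedPowers J) (a b : A) : PowerSeries A :=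
  γ.exp a * δ.exp b

theorem coeff_E (γ : DividedPowers I) (δ : DividedPowers J) (a b : A) (n : ℕ) :
    PowerSeries.coeff n (E γ δ a b) = ∑ p ∈ antidiagonal n, γ.dpow p.1 a * δ.dpow p.2 b := by
  simp only [E, DividedPowers.exp, PowerSeries.coeff_mul, PowerSeries.coeff_mk]

theorem exp_eq (γ : DividedPowers I) (δ : DividedPowers J)
    (h : ∀ (n : ℕ) (x : A), x ∈ I ⊓ J → γ.dpow n x = δ.dpow n x) {c : A} (hc : c ∈ I ⊓ J) :
    γ.exp c = δ.exp c := by
  ext n
  simp only [DividedPowers.exp, PowerSeries.coeff_mk]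
  exact h n c hc

theorem E_wd (γ : DividedPowers I) (δ : DividedPowers J)
    (h : ∀ (n : ℕ) (x : A), x ∈ I ⊓ J → γ.dpow n x = δ.dpow n x) {a b a' b' : A}
    (ha : a ∈ I) (hb : b ∈ J) (ha' : a' ∈ I) (hb' : b' ∈ J) (hab : a + b = a' + b') :
    E γ δ a b = E γ δ a' b' := by
  have hcI : a - a' ∈ I := I.sub_mem ha ha'
  have hc : a - a' = b' - b := by
    rw [sub_eq_sub_iff_add_eq_add, hab, add_comm]
  have hcJ : a - a' ∈ J := by rw [hc]; exact J.sub_mem hb' hb
  have h1 : a = a' + (a - a') := by abel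
  have h2 : b' = (a - a') + b := by rw [hc]; abel
  unfold E
  rw [h1, γ.exp_add ha' hcI, exp_eq γ δ h ⟨hcI, hcJ⟩, mul_assoc, ← δ.exp_add hcJ hb, ← h2]

/-- the divided power operations on the sum -/
noncomputable def eps (γ : DividedPowers I) (δ : DividedPowers J) (n : ℕ) (x : A) : A := by
  classical
  exact if hx : x ∈ I ⊔ J then
    PowerSeries.coeff n (E γ δ (Classical.choose (Submodule.mem_sup.mp hx))
      (Classical.choose (Classical.choose_spec (Submodule.mem_sup.mp hx)).2)) else 0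

theorem eps_eq (γ : DividedPowers I) (δ : DividedPowers J)
    (h : ∀ (n : ℕ) (x : A), x ∈ I ⊓ J → γ.dpow n x = δ.dpow n x) (n : ℕ) {a b : A}
    (ha : a ∈ I) (hb : b ∈ J) : eps γ δ n (a + b) = PowerSeries.coeff n (E γ δ a b) := by
  have hx : a + b ∈ I ⊔ J := Submodule.add_mem_sup ha hb
  unfold eps
  rw [dif_pos hx]
  have s1 := Classical.choose_spec (Submodule.mem_sup.mp hx)
  have s2 := Classical.choose_spec s1.2
  rw [E_wd γ δ h s1.1 s2.1 ha hb s2.2]

theorem eps_null (γ : DividedPowers I) (δ : DividedPowers J) (n : ℕ) {x : A} (hx : x ∉ I ⊔ J) :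
    eps γ δ n x = 0 := by
  unfold eps
  rw [dif_neg hx]

theorem eps_left (γ : DividedPowers I) (δ : DividedPowers J)
    (h : ∀ (n : ℕ) (x : A), x ∈ I ⊓ J → γ.dpow n x = δ.dpow n x) (n : ℕ) {a : A} (ha : a ∈ I) :
    eps γ δ n a = γ.dpow n a := by
  have := eps_eq γ δ h n ha J.zero_mem
  rw [add_zero] at this
  rw [this, coeff_E, sum_eq_single (n, 0)]
  · rw [δ.dpow_zero J.zero_mem, mul_one]
  · rintro ⟨p1, p2⟩ hp hne
    rw [mem_antidiagonal] at hp
    have : p2 ≠ 0 := by
      rintro rfl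
      simp only [add_zero] at hp
      exact hne (by rw [hp])
    rw [δ.dpow_eval_zero this, mul_zero]
  · intro hn
    exact absurd (mem_antidiagonal.mpr (add_zero n)) hn

theorem eps_right (γ : DividedPowers I) (δ : DividedPowers J)
    (h : ∀ (n : ℕ) (x : A), x ∈ I ⊓ J → γ.dpow n x = δ.dpow n x) (n : ℕ) {b : A} (hb : b ∈ J) :
    eps γ δ n b = δ.dpow n b := by
  have := eps_eq γ δ h n I.zero_mem hb
  rw [zero_add] at this
  rw [this, coeff_E, sum_eq_single (0, n)]
  · rw [γ.dpow_zero I.zero_mem, one_mul]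
  · rintro ⟨p1, p2⟩ hp hne
    rw [mem_antidiagonal] at hp
    have : p1 ≠ 0 := by
      rintro rfl
      simp only [zero_add] at hp
      exact hne (by rw [hp])
    rw [γ.dpow_eval_zero this, zero_mul]
  · intro hn
    exact absurd (mem_antidiagonal.mpr (zero_add n)) hn

theorem eps_pre (γ : DividedPowers I) (δ : DividedPowers J)
    (h : ∀ (n : ℕ) (x : A), x ∈ I ⊓ J → γ.dpow n x = δ.dpow n x) :
    PreDP (I ⊔ J) (eps γ δ) where
  zero x hx := by
    obtain ⟨a, ha, b, hb, rfl⟩ := Submodule.mem_sup.mp hx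
    rw [eps_eq γ δ h 0 ha hb, coeff_E]
    simp [γ.dpow_zero ha, δ.dpow_zero hb]
  mem n x hn hx := by
    obtain ⟨a, ha, b, hb, rfl⟩ := Submodule.mem_sup.mp hx
    rw [eps_eq γ δ h n ha hb, coeff_E]
    refine Ideal.sum_mem _ (fun p hp => ?_)
    rw [mem_antidiagonal] at hp
    by_cases hp1 : p.1 = 0
    · have hp2 : p.2 ≠ 0 := by omega
      exact Ideal.mul_mem_left _ _ (Ideal.mem_sup_right (δ.dpow_mem hp2 hb))
    · exact Ideal.mul_mem_right _ _ (Ideal.mem_sup_left (γ.dpow_mem hp1 ha))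
  add n x y hx hy := by
    obtain ⟨a, ha, b, hb, rfl⟩ := Submodule.mem_sup.mp hx
    obtain ⟨a', ha', b', hb', rfl⟩ := Submodule.mem_sup.mp hy
    have e1 : a + b + (a' + b') = (a + a') + (b + b') := by abel
    rw [e1, eps_eq γ δ h n (I.add_mem ha ha') (J.add_mem hb hb')]
    have e2 : E γ δ (a + a') (b + b') = E γ δ a b * E γ δ a' b' := by
      unfold E
      rw [γ.exp_add ha ha', δ.exp_add hb hb']
      ring
    rw [e2, PowerSeries.coeff_mul]
    refine sum_congr rfl (fun p _ => ?_)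
    rw [eps_eq γ δ h _ ha hb, eps_eq γ δ h _ ha' hb']
  mul n c x hx := by
    obtain ⟨a, ha, b, hb, rfl⟩ := Submodule.mem_sup.mp hx
    rw [mul_add, eps_eq γ δ h n (I.mul_mem_left c ha) (J.mul_mem_left c hb),
      eps_eq γ δ h n ha hb, coeff_E, coeff_E, mul_sum]
    refine sum_congr rfl (fun p hp => ?_)
    rw [mem_antidiagonal] at hp
    rw [γ.dpow_mul ha, δ.dpow_mul hb, ← hp, pow_add]
    ring


/-- Part (2): if two ideals I and J of a ring carry divided power structures agreeing on their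
intersection, then exactly one divided power structure on the ideal I + J restricts to the given
ones on I and on J. -/
theorem result {A : Type u} [CommRing A] {I J : Ideal A} (γ : DividedPowers I)
    (δ : DividedPowers J) (h : ∀ (n : ℕ) (x : A), x ∈ I ⊓ J → γ.dpow n x = δ.dpow n x) :
    ∃! ε : DividedPowers (I ⊔ J),
      (∀ (n : ℕ) (x : A), x ∈ I → ε.dpow n x = γ.dpow n x) ∧
        (∀ (n : ℕ) (x : A), x ∈ J → ε.dpow n x = δ.dpow n x) := by
  have hpre := eps_pre γ δ h
  have hone : ∀ x ∈ I ⊔ J, eps γ δ 1 x = x := by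
    intro x hx
    obtain ⟨a, ha, b, hb, rfl⟩ := Submodule.mem_sup.mp hx
    rw [hpre.add' 1 (Ideal.mem_sup_left ha) (Ideal.mem_sup_right hb), sum_range_succ,
      sum_range_one]
    simp only [eps_left γ δ h _ ha, eps_right γ δ h _ hb, Nat.sub_zero, Nat.sub_self,
      γ.dpow_zero ha, δ.dpow_zero hb, γ.dpow_one ha, δ.dpow_one hb, one_mul, mul_one]
    exact add_comm _ _
  have hS : Ideal.span ((I : Set A) ∪ (J : Set A)) = I ⊔ J := by
    rw [Ideal.span_union, Ideal.span_eq, Ideal.span_eq]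
  have hgood : ∀ x ∈ ((I : Set A) ∪ (J : Set A)), Good (eps γ δ) x := by
    rintro x (hx | hx)
    · have hx' : x ∈ I := hx
      constructor
      · intro m n
        rw [eps_left γ δ h _ hx', eps_left γ δ h _ hx', eps_left γ δ h _ hx']
        exact γ.mul_dpow hx'
      · intro m n hn
        rw [eps_left γ δ h n hx', eps_left γ δ h _ (γ.dpow_mem hn hx'), eps_left γ δ h _ hx']
        exact γ.dpow_comp hn hx'
    · have hx' : x ∈ J := hx
      constructor
      · intro m n
        rw [eps_right γ δ h _ hx', eps_right γ δ h _ hx', eps_right γ δ h _ hx']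
        exact δ.mul_dpow hx'
      · intro m n hn
        rw [eps_right γ δ h n hx', eps_right γ δ h _ (δ.dpow_mem hn hx'), eps_right γ δ h _ hx']
        exact δ.dpow_comp hn hx'
  refine ⟨ofGens hpre (fun n x hx => eps_null γ δ n hx) hone _ hS hgood,
    ⟨fun n x hx => eps_left γ δ h n hx, fun n x hx => eps_right γ δ h n hx⟩, ?_⟩
  rintro ε' ⟨h1, h2⟩
  refine DividedPowers.ext _ _ (fun n x hx => ?_)
  obtain ⟨a, ha, b, hb, rfl⟩ := Submodule.mem_sup.mp hx
  rw [ε'.dpow_add (Ideal.mem_sup_left ha) (Ideal.mem_sup_right hb)]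
  show _ = eps γ δ n (a + b)
  rw [eps_eq γ δ h n ha hb, coeff_E]
  refine sum_congr rfl (fun p _ => ?_)
  rw [h1 _ _ ha, h2 _ _ hb]

end Groth.Agent.S2191
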