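import Groth.Statements.S18421
import Mathlib
import Groth.Agent.Lib.Helper16DPPres2
import Groth.Agent.S2191
import Groth.Agent.S2193
-- import your own Groth.Agent.* helpers here

set_option autoImplicit false
set_option linter.style.haveILetI false
set_option linter.unusedSectionVars false
universe u v w
open DPow

namespace Groth.Agent.S18421

open Groth.Agent.Lib.Helper16DPPres Groth.Agent.Lib.Helper16DPPres2


/-- Let (R, I, γ) be a divided power ring, Λ a set and P = R⟨X_λ : λ ∈ Λ⟩ the divided power polynomial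
algebra, presented concretely as an R-algebra P with elements x l n = X_λ^[n] such that X_λ^[0] = 1,
X_λ^[n] · X_λ^[m] = C(n+m, n) X_λ^[n+m], and the monomials ∏_λ X_λ^[e_λ] form an R-basis of P; let
P_+ be the ideal generated by the X_λ^[n] with n ≥ 1 and δ_+ a divided power structure on P_+ with
δ_+,n(X_λ^[1]) = X_λ^[n]. Put J = IP + P_+. Then there is exactly one divided power structure δ on J
which is compatible with γ (the structure map R → P is a divided power morphism from (I, γ) to (J,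
δ)) and with δ_+ (δ_n(y) = δ_+,n(y) for all y ∈ P_+ and all n). -/
theorem result (R : Type u) [CommRing R] {I : Ideal R}
    (γ : DividedPowers I) (Λ : Type w)
    (P : Type v) [CommRing P] [Algebra R P] (x : Λ → ℕ → P)
    (hx0 : ∀ l, x l 0 = 1)
    (hxmul : ∀ l n m, x l n * x l m = ((n + m).choose n : P) * x l (n + m))
    (b : Module.Basis (Λ →₀ ℕ) R P) (hb : ∀ e : Λ →₀ ℕ, b e = e.prod (fun l k => x l k))
    (δplus : DividedPowers (Ideal.span {y : P | ∃ (l : Λ) (n : ℕ), 1 ≤ n ∧ y = x l n}))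
    (hδplus : ∀ (l : Λ) (n : ℕ), δplus.dpow n (x l 1) = x l n) :
    ∃! δ : DividedPowers (I.map (algebraMap R P) ⊔ Ideal.span {y : P | ∃ (l : Λ) (n : ℕ), 1 ≤ n ∧ y = x l n}),
      γ.IsDPMorphism δ (algebraMap R P) ∧
        ∀ (n : ℕ) (y : P), y ∈ Ideal.span {y : P | ∃ (l : Λ) (n : ℕ), 1 ≤ n ∧ y = x l n} →
          δ.dpow n y = δplus.dpow n y := by
  haveI : Module.Free R P := Module.Free.of_basis b
  obtain ⟨γP, hγP⟩ := (Groth.Agent.S2193.result (B := P) γ).2 inferInstance
  have hagree : ∀ (n : ℕ) (y : P), y ∈ I.map (algebraMap R P) ⊓ Pplus x →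
      γP.dpow n y = δplus.dpow n y := fun n y hy =>
    γP.coincide_on_smul δplus (inf_le_smul x hx0 hxmul b hb I hy)
  obtain ⟨ε, ⟨hε1, hε2⟩, hεu⟩ := Groth.Agent.S2191.result γP δplus hagree
  refine ⟨ε, ⟨⟨le_sup_left, fun a ha => ?_⟩, hε2⟩, ?_⟩
  · rw [hε1 _ _ (Ideal.mem_map_of_mem _ ha), hγP.2 a ha]
  · rintro δ' ⟨hδ'1, hδ'2⟩
    refine hεu δ' ⟨?_, hδ'2⟩
    intro n y hy
    have := DividedPowers.dpow_comp_from_gens γP δ' (f := RingHom.id P)
      (S := (algebraMap R P) '' (I : Set R)) rfl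
      (by
        rintro _ ⟨a, ha, rfl⟩
        exact hδ'1.1 (Ideal.mem_map_of_mem _ ha))
      (by
        rintro m _ ⟨a, ha, rfl⟩
        rw [RingHom.id_apply, RingHom.id_apply, hγP.2 a ha, hδ'1.2 a ha]) (n := n) y hy
    simpa using this

end Groth.Agent.S18421
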