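import Groth.Statements.S2213
import Mathlib
import Groth.Agent.Lib.Helper16DPUniv
import Groth.Agent.S18421
-- import your own Groth.Agent.* helpers here

set_option autoImplicit false
set_option linter.style.haveILetI false
set_option linter.unusedSectionVars false
universe u
open DPow

namespace Groth.Agent.S2213

open Groth.Agent.Lib.Helper16DPPoly Groth.Agent.Lib.Helper16DPMap Groth.Agent.Lib.Helper16DPPres
open Groth.Agent.Lib.Helper16DPPres2 Groth.Agent.Lib.Helper16DPUniv TensorProduct

theorem sc_single_single {σ : Type*} (i : σ) (n m : ℕ) :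
    sc (Finsupp.single i n) (Finsupp.single i m) = (n + m).choose n := by
  classical
  unfold sc
  rw [← Finsupp.single_add]
  by_cases h : n + m = 0
  · have hn : n = 0 := by omega
    have hm : m = 0 := by omega
    subst hn hm
    simp
  · unfold Finsupp.prod
    rw [Finsupp.support_single _ h, Finset.prod_singleton]
    show ((Finsupp.single i (n + m)) i).choose ((Finsupp.single i n) i) = (n + m).choose n
    rw [Finsupp.single_eq_same, Finsupp.single_eq_same]

theorem mZ_single_mul {σ : Type*} (i : σ) (n m : ℕ) :
    mZ (Finsupp.single i n) * mZ (Finsupp.single i m) =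
      ((n + m).choose n : DPZ σ) * mZ (Finsupp.single i (n + m)) := by
  rw [mZ_mul, sc_single_single, Finsupp.single_add]

theorem mZ_eq_prod {σ : Type*} (e : σ →₀ ℕ) :
    mZ e = e.prod (fun i k => mZ (Finsupp.single i k)) := by
  classical
  induction e using Finsupp.induction with
  | zero => rw [mZ_zero, Finsupp.prod_zero_index]
  | single_add a c f haf hc ih =>
    have hdisj : Disjoint (Finsupp.single a c).support f.support := by
      rw [Finsupp.support_single _ hc, Finset.disjoint_singleton_left]
      exact haf
    rw [Finsupp.prod_add_index_of_disjoint hdisj, Finsupp.prod_single_index (by rw [Finsupp.single_zero, mZ_zero]), ← ih]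
    have h1 := mZ_factor (Finsupp.single a c + f) a
    have hfa : f a = 0 := Finsupp.notMem_support_iff.mp haf
    have h2 : (Finsupp.single a c + f) a = c := by
      rw [Finsupp.add_apply, Finsupp.single_eq_same, hfa, add_zero]
    have h3 : (Finsupp.single a c + f).erase a = f := by
      ext j
      by_cases hj : j = a
      · subst hj
        rw [Finsupp.erase_same, hfa]
      · rw [Finsupp.erase_ne hj, Finsupp.add_apply, Finsupp.single_eq_of_ne hj, zero_add]
    rw [h2, h3] at h1
    exact h1


/-- Let (A, I) be a ring with divided powers and t a natural number. There is a divided power ring (D,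
J) with an A-algebra structure making A -> D a divided power homomorphism and elements x_1, ..., x_t
of J, such that for every divided power ring (C, K) with a divided power homomorphism A -> C and
every choice of k_1, ..., k_t in K there is exactly one divided power homomorphism D -> C over A
sending x_i to k_i (the divided power polynomial algebra). -/
theorem result {A : Type u} [CommRing A] {I : Ideal A} (γ : DividedPowers I) (t : ℕ) :
    ∃ (D : Type u) (_ : CommRing D) (_ : Algebra A D) (J : Ideal D) (δ : DividedPowers J)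
      (x : Fin t → D), (∀ i, x i ∈ J) ∧ γ.IsDPMorphism δ (algebraMap A D) ∧
      ∀ (C : Type u) [CommRing C] [Algebra A C] (K : Ideal C) (ε : DividedPowers K),
        γ.IsDPMorphism ε (algebraMap A C) → ∀ k : Fin t → C, (∀ i, k i ∈ K) →
          ∃! φ : D →ₐ[A] C, (∀ i, φ (x i) = k i) ∧ δ.IsDPMorphism ε φ.toRingHom := by
  let σ := Fin t
  let P := A ⊗[ℤ] DPZ σ
  let ir : DPZ σ →ₐ[ℤ] P := Algebra.TensorProduct.includeRight
  let x : σ → ℕ → P := fun i n => ir (mZ (Finsupp.single i n))
  have hx0 : ∀ i, x i 0 = 1 := fun i => by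
    show ir (mZ (Finsupp.single i 0)) = 1
    rw [Finsupp.single_zero, mZ_zero, map_one]
  have hxmul : ∀ i n m, x i n * x i m = ((n + m).choose n : P) * x i (n + m) := fun i n m => by
    show ir (mZ (Finsupp.single i n)) * ir (mZ (Finsupp.single i m)) =
      ((n + m).choose n : P) * ir (mZ (Finsupp.single i (n + m)))
    rw [← map_mul, mZ_single_mul, map_mul, map_natCast]
  let b : Module.Basis (σ →₀ ℕ) A P := Algebra.TensorProduct.basis A (bZ σ)
  have hb : ∀ e : σ →₀ ℕ, b e = e.prod (fun i k => x i k) := fun e => by
    show Algebra.TensorProduct.basis A (bZ σ) e = e.prod (fun i k => ir (mZ (Finsupp.single i k)))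
    rw [Algebra.TensorProduct.basis_apply, bZ_apply, ← map_finsuppProd, ← mZ_eq_prod]
    rfl
  obtain ⟨δp, hδp⟩ := exists_dp x hx0 hxmul b hb
  obtain ⟨δ, ⟨hδ1, hδ2⟩, -⟩ := Groth.Agent.S18421.result A γ σ P x hx0 hxmul b hb δp hδp
  have hx1 : ∀ i, x i 1 ∈ Pplus x := fun i => x_mem x i le_rfl
  have hδx : ∀ i n, δ.dpow n (x i 1) = x i n := fun i n => by rw [hδ2 n _ (hx1 i), hδp]
  refine ⟨P, inferInstance, inferInstance, _, δ, fun i => x i 1,
    fun i => Ideal.mem_sup_right (hx1 i), hδ1, ?_⟩
  intro C _ _ K ε hε k hk
  refine ⟨φ x hx0 hxmul b hb (fun i n => ε.dpow n (k i)) (fun i => ε.dpow_zero (hk i))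
      (fun i _ _ => ε.mul_dpow (hk i)), ⟨fun i => ?_, ?_⟩, ?_⟩
  · rw [φ_x, ε.dpow_one (hk i)]
  · exact isDPMorphism_φ x hx0 hxmul b hb γ δ hδ1 hδx ε hε k hk
  · rintro φ' ⟨h1, h2⟩
    refine φ_unique x b hb _ _ (fun i n => ?_)
    rw [φ_x, ← hδx i n]
    have := h2.2 (n := n) (x i 1) (Ideal.mem_sup_right (hx1 i))
    rw [← h1 i]
    exact this.symm

end Groth.Agent.S2213
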