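import Groth.Statements.S0100
import Mathlib
-- import your own Groth.Agent.* helpers here

set_option autoImplicit false
open CategoryTheory CategoryTheory.Limits AlgebraicGeometry Opposite
universe u
open EtBase

namespace Groth.Agent.S0100

set_option backward.isDefEq.respectTransparency.types false in
/-- the fibre functor of the point `ξ ≫ f` of `Y` is the fibre functor of `ξ` composed with base change -/
noncomputable def fiberIso {X Y : Scheme.{u}} (f : X ⟶ Y) {Ω : Type u} [Field Ω] [IsSepClosed Ω]
    (ξ : Spec (CommRingCat.of Ω) ⟶ X) :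
    EtCoh.bc f ⋙ (Scheme.pointSmallEtale ξ).fiber ≅ (Scheme.pointSmallEtale (ξ ≫ f)).fiber :=
  let e1 : EtCoh.bc f ⋙ Scheme.Etale.forget X ≅ Scheme.Etale.forget Y ⋙ Over.pullback f :=
    MorphismProperty.Over.pullbackCompForgetIso (P := EtCoh.etaleMP) (Q := ⊤) f
  let e2 : Over.pullback f ⋙ coyoneda.obj (op (Over.mk ξ)) ≅
      coyoneda.obj (op ((Over.map f).obj (Over.mk ξ))) :=
    ((Over.mapPullbackAdj f).compCoyonedaIso.app (op (Over.mk ξ))).symm
  Functor.isoWhiskerRight e1 (coyoneda.obj (op (Over.mk ξ))) ≪≫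
    Functor.isoWhiskerLeft (Scheme.Etale.forget Y) e2

/-- isomorphic fibre functors give isomorphic skyscraper presheaf functors -/
noncomputable def skyIso {C : Type*} [Category C] {A : Type*} [Category A] [HasProducts.{u} A]
    {T T' : C ⥤ Type u} (e : T ≅ T') :
    Functor.flip (T.op ⋙ (piFunctor.{u} (C := A)).flip) ≅ Functor.flip (T'.op ⋙ (piFunctor.{u} (C := A)).flip) :=
  (flipFunctor _ _ _).mapIso (Functor.isoWhiskerRight (NatIso.op e.symm) _)

set_option backward.isDefEq.respectTransparency.types false in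
/-- the key isomorphism of right adjoints -/
noncomputable def skySheafIso {X Y : Scheme.{u}} (f : X ⟶ Y) {Ω : Type u} [Field Ω] [IsSepClosed Ω]
    (ξ : Spec (CommRingCat.of Ω) ⟶ X) :
    (Scheme.pointSmallEtale ξ).skyscraperSheafFunctor (A := AddCommGrpCat.{u + 1}) ⋙ EtCoh.push f ≅
      (Scheme.pointSmallEtale (ξ ≫ f)).skyscraperSheafFunctor :=
  NatIso.ofComponents
    (fun M => (fullyFaithfulSheafToPresheaf _ _).preimageIso ((skyIso (fiberIso f ξ)).app M))
    (by
      intro M N g
      apply Sheaf.hom_ext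
      exact (skyIso (A := AddCommGrpCat.{u + 1}) (fiberIso f ξ)).hom.naturality g)


set_option backward.isDefEq.respectTransparency.types false in
/-- Let f : X ⟶ Y be a morphism of schemes, G an abelian sheaf on the small étale site of Y and ξ : Spec
Ω ⟶ X a geometric point of X (Ω a separably closed field). Then the stalk of the inverse image f⁻¹G
at ξ is isomorphic to the stalk of G at the image geometric point ξ ≫ f of Y. Only the existence of
an isomorphism is asserted; the published identification is canonical. -/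
theorem result {X Y : Scheme.{u}} (f : X ⟶ Y) [EtCoh.BCCont f] (G : EtCoh.Ab Y)
    {Ω : Type u} [Field Ω] [IsSepClosed Ω] (ξ : Spec (CommRingCat.of Ω) ⟶ X) :
    Nonempty ((EtCoh.stalk ξ).obj ((EtCoh.pull f).obj G) ≅ (EtCoh.stalk (ξ ≫ f)).obj G) := by
  let adj₁ := (EtCoh.pullPushAdj f).comp
    ((Scheme.pointSmallEtale ξ).skyscraperSheafAdjunction (A := AddCommGrpCat.{u + 1}))
  let adj₂ := (Scheme.pointSmallEtale (ξ ≫ f)).skyscraperSheafAdjunction (A := AddCommGrpCat.{u + 1})
  let e : EtCoh.stalk (ξ ≫ f) ≅ EtCoh.pull f ⋙ EtCoh.stalk ξ :=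
    (conjugateIsoEquiv adj₁ adj₂).symm (skySheafIso f ξ)
  exact ⟨(e.app G).symm⟩

end Groth.Agent.S0100
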