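import Groth.Statements.S0101
import Mathlib
import Groth.Agent.S0100
import Groth.Agent.Lib.Helper16EtStalk
-- import your own Groth.Agent.* helpers here

set_option autoImplicit false
open CategoryTheory CategoryTheory.Limits AlgebraicGeometry Opposite
universe u
open EtBase

namespace Groth.Agent.S0101

open Groth.Agent.Lib.Helper16.EtStalk


set_option backward.isDefEq.respectTransparency.types false in
/-- natural form of S0100 -/
noncomputable def stalkPullIso {X Y : Scheme.{u}} (f : X ⟶ Y) [EtCoh.BCCont f]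
    {Ω : Type u} [Field Ω] [IsSepClosed Ω] (ξ : Spec (CommRingCat.of Ω) ⟶ X) :
    EtCoh.stalk (ξ ≫ f) ≅ EtCoh.pull f ⋙ EtCoh.stalk ξ :=
  let adj₁ := (EtCoh.pullPushAdj f).comp
    ((Scheme.pointSmallEtale ξ).skyscraperSheafAdjunction (A := AddCommGrpCat.{u + 1}))
  let adj₂ := (Scheme.pointSmallEtale (ξ ≫ f)).skyscraperSheafAdjunction (A := AddCommGrpCat.{u + 1})
  (conjugateIsoEquiv adj₁ adj₂).symm (Groth.Agent.S0100.skySheafIso f ξ)

set_option backward.isDefEq.respectTransparency.types false in
lemma mono_pull_map {X Y : Scheme.{u}} (f : X ⟶ Y) [EtCoh.BCCont f]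
    {G G' : EtCoh.Ab Y} (a : G ⟶ G') [Mono a] : Mono ((EtCoh.pull f).map a) := by
  apply mono_of_stalks
  intro Ω _ _ ξ
  have h1 : Mono ((EtCoh.stalk (ξ ≫ f)).map a) := inferInstance
  have nat := (stalkPullIso f ξ).hom.naturality a
  have h2 : Mono ((EtCoh.pull f ⋙ EtCoh.stalk ξ).map a) := by
    have h3 : Mono ((stalkPullIso f ξ).hom.app G ≫ (EtCoh.pull f ⋙ EtCoh.stalk ξ).map a) := by
      rw [← nat]; infer_instance
    have e : (EtCoh.pull f ⋙ EtCoh.stalk ξ).map a =
        (stalkPullIso f ξ).inv.app G ≫ ((stalkPullIso f ξ).hom.app G ≫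
          (EtCoh.pull f ⋙ EtCoh.stalk ξ).map a) := by simp
    rw [e]; infer_instance
  exact (AddCommGrpCat.mono_iff_injective _).mp h2


/-- Part (1) — pullback of abelian étale sheaves along a morphism of schemes is exact (it is a left
adjoint and preserves finite limits). -/
theorem result {X Y : Scheme.{u}} (f : X ⟶ Y) [EtCoh.BCCont f] :
    PreservesFiniteLimits (EtCoh.pull f) := by
  have hadd : (EtCoh.pull f).Additive := (EtCoh.pullPushAdj f).left_adjoint_additive
  have hcolim : PreservesFiniteColimits (EtCoh.pull f) := by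
    have := (EtCoh.pullPushAdj f).leftAdjoint_preservesColimits
    infer_instance
  rw [Functor.preservesFiniteLimits_iff_forall_exact_map_and_mono]
  intro S hS
  have h1 := (Functor.preservesFiniteColimits_iff_forall_exact_map_and_epi _).mp hcolim S hS
  have : Mono S.f := hS.mono_f
  exact ⟨h1.1, mono_pull_map f S.f⟩

end Groth.Agent.S0101
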