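import Groth.Statements.S0671
import Mathlib
import Groth.Agent.Lib.Helper16EtStalk
-- import your own Groth.Agent.* helpers here

set_option autoImplicit false
open CategoryTheory CategoryTheory.Limits AlgebraicGeometry Opposite
universe u
open EtCore

namespace Groth.Agent.S0671

open Groth.Agent.Lib.Helper16.EtStalk


set_option backward.isDefEq.respectTransparency.types false in
lemma sectSupp_closed {S : Scheme.{u}} (F : EtCoh.Ab S) (U : S.Etale) (σ : EtCoh.sect F U) :
    IsClosed (EtShriek.sectSupp F U σ) := by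
  rw [← isOpen_compl_iff]
  have e : (EtShriek.sectSupp F U σ)ᶜ =
      ⋃ (W : S.Etale) (g : W ⟶ U) (_ : F.obj.map g.op σ = 0), Set.range g.left := by
    ext x
    simp only [EtShriek.sectSupp, Set.mem_compl_iff, Set.mem_setOf_eq, Set.mem_iUnion,
      Set.mem_range, exists_prop]
    push_neg
    constructor
    · rintro ⟨W, g, hw, h0⟩
      exact ⟨W, g, h0, hw⟩
    · rintro ⟨W, g, h0, hw⟩
      exact ⟨W, g, hw, h0⟩
  rw [e]
  refine isOpen_iUnion fun W => isOpen_iUnion fun g => isOpen_iUnion fun _ => ?_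
  have : Etale g.left := inferInstance
  exact g.left.isOpenMap.isOpen_range



lemma range_spec_field {X : Scheme.{u}} {Ω : Type u} [Field Ω] (ξ : Spec (CommRingCat.of Ω) ⟶ X) :
    Set.range ξ = {ξ default} := by
  ext y
  constructor
  · rintro ⟨a, rfl⟩
    rw [Subsingleton.elim a default]
    rfl
  · rintro rfl
    exact ⟨default, rfl⟩

set_option backward.isDefEq.respectTransparency.types false in
lemma supp_subset {S : Scheme.{u}} (F : EtCoh.Ab S) :
    EtPBC.supp F ⊆ ⋃ (U : S.Etale) (σ : EtCoh.sect F U), U.hom.base '' EtShriek.sectSupp F U σ := by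
  rintro x ⟨Ω, _, _, ξ, hξ, hnz⟩
  let Φ := Scheme.pointSmallEtale ξ
  have hx : ξ default = x := by
    have : ξ default ∈ Set.range ξ := ⟨default, rfl⟩
    rw [hξ] at this
    exact this
  -- nonzero element
  have hns : ¬ Subsingleton ((EtCoh.stalk ξ).obj F) := fun h =>
    hnz (AddCommGrpCat.isZero_iff_subsingleton.mpr h)
  rw [not_subsingleton_iff_nontrivial] at hns
  obtain ⟨t, ht⟩ := exists_ne (0 : (EtCoh.stalk ξ).obj F)
  obtain ⟨U, u, σ, rfl⟩ := Φ.toPresheafFiber_jointly_surjective (P := F.obj) t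
  simp only [Set.mem_iUnion]
  obtain ⟨ul, hul, huw⟩ : ∃ ul : Spec (CommRingCat.of Ω) ⟶ U.left, ul = u.left ∧ ul ≫ U.hom = ξ :=
    ⟨u.left, rfl, Over.w u⟩
  refine ⟨U, σ, ul default, ?_, ?_⟩
  · intro W g ⟨w, hw⟩ h0
    obtain ⟨l, hl1, hl2⟩ := Scheme.exists_fac_of_etale_of_isSepClosed g.left ul w hw
    let w' : Φ.fiber.obj W := Over.homMk l (by
      change l ≫ W.hom = ξ
      rw [← huw, ← hl1, Category.assoc]
      congr 1
      exact (MorphismProperty.Over.w g).symm)
    have hw' : Φ.fiber.map g w' = u := by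
      apply Over.OverMorphism.ext
      change l ≫ g.left = u.left
      rw [hl1, hul]
    have e := Φ.toPresheafFiber_w_apply g w' F.obj σ
    rw [hw', h0, map_zero] at e
    exact ht e.symm
  · rw [← hx, ← huw]
    rfl



set_option backward.isDefEq.respectTransparency.types false in
lemma subset_supp {S : Scheme.{u}} (F : EtCoh.Ab S) :
    (⋃ (U : S.Etale) (σ : EtCoh.sect F U), U.hom.base '' EtShriek.sectSupp F U σ) ⊆ EtPBC.supp F := by
  intro x hx
  simp only [Set.mem_iUnion] at hx
  obtain ⟨U, σ, y, hy, rfl⟩ := hx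
  obtain ⟨Ω, _, _, ξ, x₀, hx₀⟩ := exists_geometric_point U y
  let Φ := Scheme.pointSmallEtale ξ
  obtain ⟨ul, hul, huw⟩ : ∃ ul : Spec (CommRingCat.of Ω) ⟶ U.left, ul = x₀.left ∧ ul ≫ U.hom = ξ :=
    ⟨x₀.left, rfl, Over.w x₀⟩
  refine ⟨Ω, inferInstance, inferInstance, ξ, ?_, ?_⟩
  · rw [range_spec_field, ← huw, ← hx₀, ← hul]
    rfl
  · intro hz
    have hss := AddCommGrpCat.isZero_iff_subsingleton.mp hz
    have e2 : Φ.toPresheafFiber U x₀ F.obj σ = Φ.toPresheafFiber U x₀ F.obj 0 :=
      @Subsingleton.elim _ hss _ _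
    obtain ⟨W, g, w, hw, hg⟩ := (Φ.toPresheafFiber_eq_iff' U x₀ σ 0).mp e2
    rw [map_zero] at hg
    refine hy W g ⟨(w.left : Spec (CommRingCat.of Ω) ⟶ W.left) (default : Spec (CommRingCat.of Ω)), ?_⟩ hg
    have e3 : w.left ≫ g.left = x₀.left := congrArg (fun m => m.left) hw
    rw [← hx₀]
    exact congrArg (fun m : Spec (CommRingCat.of Ω) ⟶ U.left => m default) e3


/-- For an abelian sheaf F on the small etale site of S and a section σ over an etale S-scheme U, the
support of σ is a closed subset of U; and a point of S has a nonzero geometric stalk exactly when it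
is the image of a point lying in the support of some section over some etale S-scheme. -/
theorem result {S : Scheme.{u}} (F : EtCoh.Ab S) :
    (∀ (U : S.Etale) (σ : EtCoh.sect F U), IsClosed (EtShriek.sectSupp F U σ)) ∧
    EtPBC.supp F = ⋃ (U : S.Etale) (σ : EtCoh.sect F U), U.hom.base '' EtShriek.sectSupp F U σ := by
  exact ⟨fun U σ => sectSupp_closed F U σ, Set.Subset.antisymm (supp_subset F) (subset_supp F)⟩

end Groth.Agent.S0671
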