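import Groth.Statements.S0102
import Mathlib
import Groth.Agent.S0671
import Groth.Agent.Lib.Helper16EtStalk
-- import your own Groth.Agent.* helpers here

set_option autoImplicit false
open CategoryTheory CategoryTheory.Limits AlgebraicGeometry Opposite
universe u
open EtBase

namespace Groth.Agent.S0102

open Groth.Agent.Lib.Helper16.EtStalk Groth.Agent.Lib.Helper16.SmallEtale


set_option backward.isDefEq.respectTransparency.types false in
/-- a section vanishing locally vanishes -/
lemma section_eq_zero_of_locally {X : Scheme.{u}} (F : EtCoh.Ab X) (V : X.Etale)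
    (τ : F.obj.obj (op V))
    (h : ∀ v : V.left, ∃ (Y : X.Etale) (g : Y ⟶ V) (y : Y.left), g.left y = v ∧
      F.obj.map g.op τ = 0) : τ = 0 := by
  have hsep : Presieve.IsSeparated X.smallEtaleTopology (F.obj ⋙ forget AddCommGrpCat.{u + 1}) :=
    ((isSheaf_iff_isSheaf_of_type _ _).1
      ((Presheaf.isSheaf_iff_isSheaf_forget _ F.obj (forget AddCommGrpCat.{u + 1})).1 F.2)).isSeparated
  have hR : Presheaf.equalizerSieve (F := F.obj) (X := op V) τ 0 ∈ X.smallEtaleTopology V := by
    rw [mem_smallEtale_iff]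
    intro v
    obtain ⟨Y, g, y, hy, hg⟩ := h v
    refine ⟨Y, g, y, ?_, hy⟩
    change F.obj.map g.op τ = F.obj.map g.op 0
    rw [hg, map_zero]
  exact (hsep _ hR).ext (fun _ _ hf => hf)


set_option backward.isDefEq.respectTransparency.types false in

/-- A section of an abelian étale sheaf over an étale scheme U vanishes on pullback to an étale V → U
exactly when V maps into a certain largest open subset of U. -/
theorem result {S : Scheme.{u}} (F : EtCoh.Ab S) (U : S.Etale) (σ : EtCoh.sect F U) :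
    ∃ W : U.left.Opens, ∀ (V : S.Etale) (φ : V ⟶ U),
      F.obj.map φ.op σ = 0 ↔ Set.range φ.left.base ⊆ (W : Set U.left) := by
  have hcl : IsClosed (EtShriek.sectSupp F U σ) := (Groth.Agent.S0671.result F).1 U σ
  refine ⟨⟨(EtShriek.sectSupp F U σ)ᶜ, hcl.isOpen_compl⟩, ?_⟩
  intro V φ
  constructor
  · rintro h0 _ ⟨v, rfl⟩ hv
    exact hv V φ ⟨v, rfl⟩ h0
  · intro hsub
    apply section_eq_zero_of_locally
    intro v
    have hv : φ.left v ∉ EtShriek.sectSupp F U σ := hsub ⟨v, rfl⟩
    simp only [EtShriek.sectSupp, Set.mem_ofPred_eq, not_forall, not_not] at hv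
    obtain ⟨W', g, ⟨w, hw⟩, hg⟩ := hv
    obtain ⟨Ω, _, _, ξ, x₀, hx₀⟩ := exists_geometric_point V v
    let Φ := Scheme.pointSmallEtale ξ
    obtain ⟨xl, hxl, hxw, hxv⟩ : ∃ xl : Spec (CommRingCat.of Ω) ⟶ V.left,
        xl = x₀.left ∧ xl ≫ V.hom = ξ ∧ xl default = v := ⟨x₀.left, rfl, Over.w x₀, hx₀⟩
    have hw' : g.left w = (xl ≫ φ.left) default := by
      rw [hw, Scheme.Hom.comp_apply, hxv]
    obtain ⟨l, hl1, hl2⟩ := Scheme.exists_fac_of_etale_of_isSepClosed g.left (xl ≫ φ.left) w hw'
    let w' : Φ.fiber.obj W' := Over.homMk l (by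
      change l ≫ W'.hom = ξ
      have e1 : g.left ≫ U.hom = W'.hom := MorphismProperty.Over.w g
      have e2 : φ.left ≫ U.hom = V.hom := MorphismProperty.Over.w φ
      rw [← e1, ← Category.assoc, hl1, Category.assoc, e2, hxw])
    have hmap : Φ.fiber.map g w' = Φ.fiber.map φ x₀ := by
      apply Over.OverMorphism.ext
      change l ≫ g.left = x₀.left ≫ φ.left
      rw [hl1, hxl]
      rfl
    have e1 : Φ.toPresheafFiber V x₀ F.obj (F.obj.map φ.op σ) =
        Φ.toPresheafFiber V x₀ F.obj 0 := by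
      rw [Φ.toPresheafFiber_w_apply, ← hmap, ← Φ.toPresheafFiber_w_apply, hg, map_zero, map_zero]
    obtain ⟨Y, h, y, hy, hh⟩ := (Φ.toPresheafFiber_eq_iff' V x₀ _ _).mp e1
    rw [map_zero] at hh
    refine ⟨Y, h, (y.left : Spec (CommRingCat.of Ω) ⟶ Y.left) (default : Spec (CommRingCat.of Ω)),
      ?_, hh⟩
    have e3 : y.left ≫ h.left = x₀.left := congrArg (fun m => m.left) hy
    rw [← hx₀]
    exact congrArg (fun m : Spec (CommRingCat.of Ω) ⟶ V.left => m default) e3

end Groth.Agent.S0102
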