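import Groth.Statements.S18675
import Mathlib
-- import your own Groth.Agent.* helpers here

set_option autoImplicit false
set_option linter.style.haveILetI false
set_option linter.unusedSectionVars false
open GLat

namespace Groth.Agent.S18675

section Perm

variable (G : Type) [Group G] (X : Type) [MulAction G X]

/-- permutation representation on `X →₀ ℤ` -/
noncomputable def permRep : Representation ℤ G (X →₀ ℤ) where
  toFun g := Finsupp.lmapDomain ℤ ℤ (g • ·)
  map_one' := by
    apply Finsupp.lhom_ext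
    intro x r
    simp [Finsupp.lmapDomain_apply, Finsupp.mapDomain_single]
  map_mul' g h := by
    apply Finsupp.lhom_ext
    intro x r
    simp [Finsupp.lmapDomain_apply, Finsupp.mapDomain_single, mul_smul]

variable {G X}

theorem permRep_single (g : G) (x : X) (r : ℤ) :
    permRep G X g (Finsupp.single x r) = Finsupp.single (g • x) r := by
  simp [permRep, Finsupp.lmapDomain_apply, Finsupp.mapDomain_single]

theorem permRep_apply (g : G) (φ : X →₀ ℤ) (x : X) :
    permRep G X g φ x = φ (g⁻¹ • x) := by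
  have h := Finsupp.mapDomain_apply (MulAction.injective g) φ (g⁻¹ • x)
  rw [smul_inv_smul] at h
  exact h

theorem perm_h1 [Finite G] [Finite X] (H : Subgroup G) (F : H → (X →₀ ℤ))
    (hF : ∀ a b : H, F (a * b) = F a + permRep G X (a : G) (F b)) :
    ∃ p : X →₀ ℤ, ∀ a : H, F a = permRep G X (a : G) p - p := by
  classical
  -- pointwise cocycle
  have hFpt : ∀ (a b : H) (x : X), F (a * b) x = F a x + F b ((a : G)⁻¹ • x) := by
    intro a b x
    rw [hF a b, Finsupp.add_apply, permRep_apply]
  have hF1 : F 1 = 0 := by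
    have := hF 1 1
    rw [mul_one] at this
    simp only [Subgroup.coe_one, map_one, Module.End.one_apply] at this
    exact left_eq_add.mp this
  -- stabilizer lemma
  have hstab : ∀ (x0 : X) (s : H), (s : G) • x0 = x0 → F s x0 = 0 := by
    intro x0 s hs
    have hsinv : (s : G)⁻¹ • x0 = x0 := by
      rw [inv_smul_eq_iff, hs]
    have hpow : ∀ n : ℕ, F (s ^ n) x0 = n * F s x0 := by
      intro n
      induction n with
      | zero => simp [hF1]
      | succ n ih =>
        rw [pow_succ', hFpt, hsinv, ih]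
        push_cast
        ring
    have hN := hpow (Nat.card H)
    rw [pow_card_eq_one', hF1, Finsupp.zero_apply] at hN
    have hNpos : (Nat.card H : ℤ) ≠ 0 := by
      exact_mod_cast Nat.card_pos.ne'
    rcases mul_eq_zero.mp hN.symm with h | h
    · exact absurd h hNpos
    · exact h
  -- well-definedness
  have hwd : ∀ (x x0 : X) (d d' : H), (d : G) • x = x0 → (d' : G) • x = x0 → F d x0 = F d' x0 := by
    intro x x0 d d' hd hd'
    have hs : ((d' * d⁻¹ : H) : G) • x0 = x0 := by
      rw [← hd]
      simp only [Subgroup.coe_mul, Subgroup.coe_inv, mul_smul, inv_smul_smul]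
      rw [hd', hd]
    have h1 := hFpt (d' * d⁻¹) d x0
    rw [inv_mul_cancel_right] at h1
    have hsinv : ((d' * d⁻¹ : H) : G)⁻¹ • x0 = x0 := by
      rw [inv_smul_eq_iff, hs]
    rw [hstab x0 _ hs, hsinv, zero_add] at h1
    exact h1.symm
  -- representatives
  let r : X → X := fun x => (Quotient.mk (MulAction.orbitRel H X) x).out
  have hr : ∀ x, ∃ d : H, (d : G) • x = r x := by
    intro x
    have h1 : (MulAction.orbitRel H X).r (r x) x := Quotient.mk_out (s := MulAction.orbitRel H X) x
    rw [MulAction.orbitRel_apply] at h1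
    obtain ⟨d, hd⟩ := h1
    exact ⟨d, hd⟩
  choose d hd using hr
  have hrorb : ∀ (a : H) (x : X), r ((a : G)⁻¹ • x) = r x := by
    intro a x
    show (Quotient.mk (MulAction.orbitRel H X) ((a : G)⁻¹ • x)).out = _
    have : Quotient.mk (MulAction.orbitRel H X) ((a : G)⁻¹ • x) = Quotient.mk (MulAction.orbitRel H X) x := by
      apply Quotient.sound
      show (MulAction.orbitRel H X).r _ _
      rw [MulAction.orbitRel_apply]
      exact ⟨a⁻¹, rfl⟩
    rw [this]
  let pf : X → ℤ := fun x => F (d x) (r x)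
  refine ⟨Finsupp.equivFunOnFinite.symm pf, fun a => ?_⟩
  ext x
  rw [Finsupp.sub_apply, permRep_apply]
  show F a x = pf ((a : G)⁻¹ • x) - pf x
  set y := (a : G)⁻¹ • x with hy
  have hdy : ((d y : H) : G) • y = r x := by rw [hd y, hy, hrorb]
  have hdx : ((d x * a : H) : G) • y = r x := by
    rw [hy, Subgroup.coe_mul, mul_smul, smul_inv_smul, hd x]
  have h1 : F (d y) (r x) = F (d x * a) (r x) := hwd y (r x) (d y) (d x * a) hdy hdx
  have h2 := hFpt (d x) a (r x)
  have h3 : ((d x : H) : G)⁻¹ • r x = x := by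
    rw [inv_smul_eq_iff, hd x]
  rw [h3] at h2
  show F a x = F (d y) (r y) - F (d x) (r x)
  have hry : r y = r x := hrorb a x
  rw [hry, h1, h2]
  ring

end Perm

section Main

theorem main_aux (G : Type) [Group G] [Finite G]
    (A : Type) [AddCommGroup A] [Module.Finite ℤ A] (ρ : Representation ℤ G A)
    (X : Type) [MulAction G X] [Finite X] (v : X → A) (hv : ∀ g x, v (g • x) = ρ g (v x))
    (hfix : ∀ (H : Subgroup G) (a : A), (∀ h ∈ H, ρ h a = a) →
      ∃ m : X →₀ ℤ, (∀ h ∈ H, permRep G X h m = m) ∧ Finsupp.linearCombination ℤ v m = a) :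
    ∃ (Q : Type) (_ : AddCommGroup Q) (P : Type) (_ : AddCommGroup P)
      (_ : Module.Finite ℤ Q) (_ : Module.Free ℤ Q) (_ : Module.Finite ℤ P) (_ : Module.Free ℤ P)
      (σ : Representation ℤ G Q) (τ : Representation ℤ G P) (i : Q →ₗ[ℤ] P) (π : P →ₗ[ℤ] A),
      GLat.IsEquivariant σ τ i ∧ GLat.IsEquivariant τ ρ π ∧ Function.Injective i ∧ Function.Surjective π ∧
      LinearMap.range i = LinearMap.ker π ∧ GLat.IsPermutation τ ∧ GLat.IsCoflasque σ := by
  classical
  obtain ⟨π, hπ⟩ : ∃ π : (X →₀ ℤ) →ₗ[ℤ] A, π = Finsupp.linearCombination ℤ v := ⟨_, rfl⟩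
  have hπeq : ∀ (g : G) (m : X →₀ ℤ), π (permRep G X g m) = ρ g (π m) := by
    intro g m
    have : π ∘ₗ permRep G X g = ρ g ∘ₗ π := by
      apply Finsupp.lhom_ext
      intro x r
      simp only [LinearMap.comp_apply, permRep_single, hπ, Finsupp.linearCombination_single, hv,
        map_zsmul]
    exact LinearMap.congr_fun this m
  have hstable : ∀ (g : G), ∀ m ∈ LinearMap.ker π, permRep G X g m ∈ LinearMap.ker π := by
    intro g m hm
    rw [LinearMap.mem_ker] at hm ⊢
    rw [hπeq, hm, map_zero]
  let σ : Representation ℤ G (LinearMap.ker π) :=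
    { toFun := fun g => (permRep G X g).restrict (hstable g)
      map_one' := by
        ext m
        simp
      map_mul' := fun g h => by
        ext m
        simp }
  have hσ : ∀ (g : G) (m : LinearMap.ker π), ((σ g m : LinearMap.ker π) : X →₀ ℤ) = permRep G X g m.1 :=
    fun g m => rfl
  haveI : Module.Finite ℤ (LinearMap.ker π) := Module.IsNoetherian.finite ℤ _
  haveI : Module.Free ℤ (LinearMap.ker π) := inferInstance
  refine ⟨LinearMap.ker π, inferInstance, X →₀ ℤ, inferInstance, inferInstance, inferInstance,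
    inferInstance, inferInstance, σ, permRep G X, (LinearMap.ker π).subtype, π, ?_, ?_, ?_, ?_, ?_, ?_, ?_⟩
  · intro g m
    rfl
  · intro g m
    exact hπeq g m
  · exact Submodule.subtype_injective _
  · intro a
    obtain ⟨m, -, hm⟩ := hfix ⊥ a (by
      intro h hh
      rw [Subgroup.mem_bot] at hh
      rw [hh, map_one]
      rfl)
    exact ⟨m, by rw [hπ]; exact hm⟩
  · exact Submodule.range_subtype _
  · refine ⟨X, Finsupp.basisSingleOne, fun g i => ⟨g • i, ?_⟩⟩
    simp [permRep_single]
  · intro H f hf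
    have hF : ∀ a b : H, (f (a * b)).1 = (f a).1 + permRep G X (a : G) (f b).1 := by
      intro a b
      have := congrArg Subtype.val (hf a b)
      exact this
    obtain ⟨p, hp⟩ := perm_h1 H (fun a => (f a).1) hF
    have hinv : ∀ h ∈ H, ρ h (π p) = π p := by
      intro h hh
      have h1 := hp ⟨h, hh⟩
      have h2 : π (f ⟨h, hh⟩).1 = 0 := LinearMap.mem_ker.mp (f ⟨h, hh⟩).2
      simp only at h1
      rw [h1, map_sub, hπeq, sub_eq_zero] at h2
      exact h2
    obtain ⟨p', hp'fix, hp'π⟩ := hfix H (π p) hinv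
    have hmker : p - p' ∈ LinearMap.ker π := by
      rw [LinearMap.mem_ker, map_sub, hπ, hp'π, ← hπ, sub_self]
    refine ⟨⟨p - p', hmker⟩, fun a => ?_⟩
    apply Subtype.ext
    rw [Submodule.coe_sub, hσ]
    simp only
    rw [map_sub, hp'fix a a.2]
    have := hp a
    rw [this]
    abel


/-- For a finite group G and a finitely generated G-module A there is an exact sequence 0 → Q → P → A →
0 of finitely generated G-modules with P a permutation lattice and Q a coflasque lattice; here
rendered by equivariant ℤ-linear maps i : Q → P injective, π : P → A surjective, with range i = ker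
π. -/
theorem result (G : Type) [Group G] [Finite G]
    (A : Type) [AddCommGroup A] [Module.Finite ℤ A] (ρ : Representation ℤ G A) :
    ∃ (Q : Type) (_ : AddCommGroup Q) (P : Type) (_ : AddCommGroup P)
      (_ : Module.Finite ℤ Q) (_ : Module.Free ℤ Q) (_ : Module.Finite ℤ P) (_ : Module.Free ℤ P)
      (σ : Representation ℤ G Q) (τ : Representation ℤ G P) (i : Q →ₗ[ℤ] P) (π : P →ₗ[ℤ] A),
      GLat.IsEquivariant σ τ i ∧ GLat.IsEquivariant τ ρ π ∧ Function.Injective i ∧ Function.Surjective π ∧
      LinearMap.range i = LinearMap.ker π ∧ GLat.IsPermutation τ ∧ GLat.IsCoflasque σ := by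
  classical
  -- invariants
  let inv : Subgroup G → Submodule ℤ A := fun H =>
    { carrier := {a | ∀ h ∈ H, ρ h a = a}
      add_mem' := fun {a b} ha hb h hh => by rw [map_add, ha h hh, hb h hh]
      zero_mem' := fun h _ => map_zero _
      smul_mem' := fun c a ha h hh => by rw [map_zsmul, ha h hh] }
  have hgens : ∀ H : Subgroup G, ∃ (n : ℕ) (s : Fin n → A), (∀ j, ∀ h ∈ H, ρ h (s j) = s j) ∧
      ∀ a : A, (∀ h ∈ H, ρ h a = a) → ∃ c : Fin n → ℤ, ∑ j, c j • s j = a := by
    intro H
    haveI : Module.Finite ℤ (inv H) := Module.IsNoetherian.finite ℤ _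
    obtain ⟨n, s, hs⟩ := Module.Finite.exists_fin (R := ℤ) (M := inv H)
    refine ⟨n, fun j => (s j).1, fun j => (s j).2, fun a ha => ?_⟩
    have hmem : (⟨a, ha⟩ : inv H) ∈ Submodule.span ℤ (Set.range s) := by rw [hs]; trivial
    obtain ⟨c, hc⟩ := (Submodule.mem_span_range_iff_exists_fun ℤ).mp hmem
    refine ⟨c, ?_⟩
    have := congrArg Subtype.val hc
    simpa using this
  choose n s hs_inv hs_span using hgens
  -- the G-set
  let X := Σ p : (Σ H : Subgroup G, Fin (n H)), G ⧸ p.1
  let v : X → A := fun x => Quotient.liftOn' x.2 (fun g => ρ g (s x.1.1 x.1.2)) (by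
    intro a b hab
    rw [QuotientGroup.leftRel_apply] at hab
    show ρ a (s x.1.1 x.1.2) = ρ b (s x.1.1 x.1.2)
    have h1 := hs_inv x.1.1 x.1.2 _ hab
    have h2 : ρ b (s x.1.1 x.1.2) = ρ a (ρ (a⁻¹ * b) (s x.1.1 x.1.2)) := by
      rw [← Module.End.mul_apply, ← map_mul, mul_inv_cancel_left]
    rw [h2, h1])
  have hv : ∀ (g : G) (x : X), v (g • x) = ρ g (v x) := by
    rintro g ⟨p, c⟩
    induction c using Quotient.inductionOn' with
    | h a =>
      show ρ (g * a) (s p.1 p.2) = ρ g (ρ a (s p.1 p.2))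
      rw [map_mul]
      rfl
  have hfix : ∀ (H : Subgroup G) (a : A), (∀ h ∈ H, ρ h a = a) →
      ∃ m : X →₀ ℤ, (∀ h ∈ H, permRep G X h m = m) ∧ Finsupp.linearCombination ℤ v m = a := by
    intro H a ha
    obtain ⟨c, hc⟩ := hs_span H a ha
    let x0 : Fin (n H) → X := fun j => ⟨⟨H, j⟩, ((1 : G) : G ⧸ H)⟩
    refine ⟨∑ j, c j • Finsupp.single (x0 j) 1, ?_, ?_⟩
    · intro h hh
      rw [map_sum]
      refine Finset.sum_congr rfl (fun j _ => ?_)
      rw [map_zsmul, permRep_single]
      congr 2
      show (⟨⟨H, j⟩, ((h * 1 : G) : G ⧸ H)⟩ : X) = ⟨⟨H, j⟩, ((1 : G) : G ⧸ H)⟩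
      congr 1
      rw [QuotientGroup.eq]
      simpa using hh
    · rw [map_sum, ← hc]
      refine Finset.sum_congr rfl (fun j _ => ?_)
      rw [map_zsmul, Finsupp.linearCombination_single, one_smul]
      congr 1
      show ρ 1 (s H j) = s H j
      rw [map_one]
      rfl
  exact main_aux G A ρ X v hv hfix

end Main

end Groth.Agent.S18675
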