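import Groth.Statements.S8604
import Mathlib

set_option autoImplicit false
universe u
open CAlg

namespace Groth.Agent.S8604
open Polynomial

section
variable {p : ℕ} [hp : Fact p.Prime] {k : Type u} [Field k] [IsAlgClosed k] [CharP k p]

/-- the recursive polynomials -/
noncomputable def Cpoly (p : ℕ) (a : ℕ → k) : ℕ → Polynomial k
  | 0 => Polynomial.C (a 0) * Polynomial.X ^ p
  | i+1 => (Cpoly p a i) ^ p + Polynomial.C (a (i+1)) * Polynomial.X ^ p

omit [IsAlgClosed k] [CharP k p] in
lemma Cpoly_natDegree (a : ℕ → k) (ha0 : a 0 ≠ 0) (i : ℕ) :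
    (Cpoly p a i).natDegree = p ^ (i+1) := by
  have hp2 : 2 ≤ p := hp.out.two_le
  induction i with
  | zero =>
    rw [Cpoly, natDegree_C_mul_X_pow _ _ ha0, zero_add, pow_one]
  | succ i ih =>
    rw [Cpoly]
    have h1 : ((Cpoly p a i) ^ p).natDegree = p ^ (i+1+1) := by
      rw [natDegree_pow, ih, pow_succ' p (i+1)]
    have h2 : (Polynomial.C (a (i+1)) * Polynomial.X ^ p).natDegree ≤ p :=
      natDegree_C_mul_X_pow_le _ _
    have h3 : p < p ^ (i+1+1) := by
      calc p = p ^ 1 := (pow_one p).symm
        _ < p ^ (i+1+1) := Nat.pow_lt_pow_right hp2 (by omega)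
    rw [natDegree_add_eq_left_of_natDegree_lt (by omega), h1]

omit [IsAlgClosed k] hp in
lemma Cpoly_derivative (a : ℕ → k) (i : ℕ) : derivative (Cpoly p a i) = 0 := by
  have hX : derivative ((Polynomial.X : Polynomial k) ^ p) = 0 := by
    rw [derivative_X_pow, CharP.cast_eq_zero k p, map_zero, zero_mul]
  cases i with
  | zero => rw [Cpoly, derivative_C_mul, hX, mul_zero]
  | succ i =>
    rw [Cpoly, derivative_add, derivative_C_mul, hX, mul_zero, add_zero, derivative_pow]
    rw [CharP.cast_eq_zero k p, map_zero, zero_mul, zero_mul]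

lemma exists_root (a : ℕ → k) (ha0 : a 0 ≠ 0) (r' : ℕ) :
    ∃ t : k, t ≠ 0 ∧ (Cpoly p a r').eval t = t := by
  have hp2 : 2 ≤ p := hp.out.two_le
  set G : Polynomial k := Cpoly p a r' - Polynomial.X with hG
  have hdeg : G.natDegree = p ^ (r'+1) := by
    rw [hG, natDegree_sub_eq_left_of_natDegree_lt, Cpoly_natDegree a ha0]
    rw [natDegree_X, Cpoly_natDegree a ha0]
    exact Nat.one_lt_pow (by omega) (by omega)
  have hge : 2 ≤ G.natDegree := by
    rw [hdeg]
    calc 2 ≤ p := hp2
      _ = p ^ 1 := (pow_one p).symm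
      _ ≤ p ^ (r'+1) := Nat.pow_le_pow_right (by omega) (by omega)
  have hder : derivative G = -1 := by
    rw [hG, derivative_sub, Cpoly_derivative, derivative_X, zero_sub]
  have hsep : G.Separable := by
    rw [separable_def, hder]
    exact isCoprime_one_right.neg_right
  have hnd := nodup_roots hsep
  have hcard : G.roots.card = G.natDegree := IsAlgClosed.card_roots_eq_natDegree
  by_contra hcon
  push Not at hcon
  -- all roots are 0
  have hall : ∀ t ∈ G.roots, t = 0 := by
    intro t ht
    by_contra ht0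
    have hroot : G.IsRoot t := (mem_roots'.mp ht).2
    apply hcon t ht0
    have : (Cpoly p a r').eval t - t = 0 := by
      have := hroot
      rw [IsRoot, hG, eval_sub, eval_X] at this
      exact this
    exact sub_eq_zero.mp this
  have : G.roots.card ≤ 1 := by
    classical
    rw [← Multiset.toFinset_card_of_nodup hnd]
    have : G.roots.toFinset ⊆ {0} := by
      intro t ht
      rw [Multiset.mem_toFinset] at ht
      rw [Finset.mem_singleton]; exact hall t ht
    exact (Finset.card_le_card this).trans (by simp)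
  omega

variable {V : Type u} [AddCommGroup V] [Module k V]

omit [IsAlgClosed k] [CharP k p] hp in
lemma F_sum (F : V →+ V) (hF : ∀ (a : k) (v : V), F (a • v) = a ^ p • F v) (s : Finset ℕ)
    (c : ℕ → k) (w : ℕ → V) :
    F (∑ i ∈ s, c i • w i) = ∑ i ∈ s, (c i) ^ p • F (w i) := by
  rw [map_sum]
  exact Finset.sum_congr rfl fun i _ => hF _ _

omit [IsAlgClosed k] [CharP k p] hp in
lemma exists_min_dep [FiniteDimensional k V] (q : ℕ → V) :
    ∃ r, q r ∈ Submodule.span k (q '' ↑(Finset.range r)) := by
  by_contra hcon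
  push Not at hcon
  have hind : ∀ m : ℕ, LinearIndependent k (fun i : Fin m => q i) := by
    intro m
    induction m with
    | zero => exact linearIndependent_empty_type
    | succ m ih =>
      have e : (fun i : Fin (m+1) => q i) = Fin.snoc (fun i : Fin m => q i) (q m) := by
        funext i
        refine Fin.lastCases ?_ (fun j => ?_) i
        · simp
        · simp
      rw [e, linearIndependent_finSnoc]
      refine ⟨ih, ?_⟩
      have : Set.range (fun i : Fin m => q i) = q '' ↑(Finset.range m) := by
        ext x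
        simp only [Set.mem_range, Set.mem_image, Finset.coe_range, Set.mem_Iio]
        constructor
        · rintro ⟨i, rfl⟩; exact ⟨i, i.2, rfl⟩
        · rintro ⟨i, hi, rfl⟩; exact ⟨⟨i, hi⟩, rfl⟩
      rw [this]
      exact hcon m
  have := (hind (Module.finrank k V + 1)).fintype_card_le_finrank
  simp at this

/-- relative key lemma -/
theorem key [FiniteDimensional k V] (F : V →+ V)
    (hF : ∀ (a : k) (v : V), F (a • v) = a ^ p • F v) (Z : Submodule k V)
    (hZ2 : ∀ v, F v ∈ Z → v ∈ Z) (hne : Z ≠ ⊤) : ∃ x, x ∉ Z ∧ F x - x ∈ Z := by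
  have hp0 : 0 < p := hp.out.pos
  obtain ⟨u, hu⟩ : ∃ u, u ∉ Z := by
    by_contra h
    push Not at h
    exact hne (eq_top_iff.mpr fun x _ => h x)
  set q : ℕ → V ⧸ Z := fun i => Z.mkQ ((⇑F)^[i] u) with hq
  have hex := exists_min_dep (k := k) q
  classical
  set r := Nat.find hex with hr
  have hrspec : q r ∈ Submodule.span k (q '' ↑(Finset.range r)) := Nat.find_spec hex
  have hmin : ∀ r' < r, q r' ∉ Submodule.span k (q '' ↑(Finset.range r')) :=
    fun r' h => Nat.find_min hex h
  have hr0 : r ≠ 0 := by
    intro h0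
    rw [h0] at hrspec
    simp only [Finset.range_zero, Finset.coe_empty, Set.image_empty, Submodule.span_empty,
      Submodule.mem_bot] at hrspec
    apply hu
    have : Z.mkQ u = 0 := hrspec
    rwa [Submodule.mkQ_apply, Submodule.Quotient.mk_eq_zero] at this
  obtain ⟨r', hr'⟩ : ∃ r', r = r' + 1 := Nat.exists_eq_succ_of_ne_zero hr0
  rw [hr'] at hrspec
  obtain ⟨a, ha⟩ := (Submodule.mem_span_image_finset_iff_exists_fun' k).mp hrspec
  -- z ∈ Z
  obtain ⟨z, hz⟩ : ∃ z, z = (⇑F)^[r'+1] u - ∑ i ∈ Finset.range (r'+1), a i • (⇑F)^[i] u := ⟨_, rfl⟩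
  have hzZ : z ∈ Z := by
    rw [← Submodule.Quotient.mk_eq_zero, ← Submodule.mkQ_apply, hz, map_sub, map_sum]
    simp only [map_smul]
    rw [sub_eq_zero]
    exact ha.symm
  have hFit : ∀ i, F ((⇑F)^[i] u) = (⇑F)^[i+1] u := fun i =>
    (Function.iterate_succ_apply' _ _ _).symm
  -- a 0 ≠ 0
  have ha0 : a 0 ≠ 0 := by
    intro ha0
    choose b hb using fun i => IsAlgClosed.exists_pow_nat_eq (a i) hp0
    obtain ⟨y, hy⟩ : ∃ y, y = (⇑F)^[r'] u - ∑ i ∈ Finset.range r', b (i+1) • (⇑F)^[i] u :=
      ⟨_, rfl⟩
    have hFy : F y = z := by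
      rw [hy, map_sub, F_sum F hF, hFit, hz, Finset.sum_range_succ', ha0, zero_smul, add_zero]
      congr 1
      apply Finset.sum_congr rfl
      intro i _
      rw [hb, hFit]
    have hyZ : y ∈ Z := hZ2 y (hFy ▸ hzZ)
    apply hmin r' (by omega)
    rw [Submodule.mem_span_image_finset_iff_exists_fun']
    refine ⟨fun i => b (i+1), ?_⟩
    have : Z.mkQ y = 0 := by
      rw [Submodule.mkQ_apply, Submodule.Quotient.mk_eq_zero]; exact hyZ
    rw [hy, map_sub, map_sum, sub_eq_zero] at this
    simp only [map_smul] at this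
    exact this.symm
  obtain ⟨t, ht0, ht⟩ := exists_root (p := p) a ha0 r'
  set c : ℕ → k := fun i => (Cpoly p a i).eval t with hc
  have hc0 : c 0 = a 0 * t ^ p := by simp [hc, Cpoly]
  have hcs : ∀ i, c (i+1) = (c i) ^ p + a (i+1) * t ^ p := by
    intro i; simp [hc, Cpoly]
  have hcr : c r' = t := ht
  obtain ⟨x, hx⟩ : ∃ x, x = ∑ i ∈ Finset.range (r'+1), c i • (⇑F)^[i] u := ⟨_, rfl⟩
  refine ⟨x, ?_, ?_⟩
  · intro hxZ
    apply hmin r' (by omega)
    have h0 : Z.mkQ x = 0 := by
      rw [Submodule.mkQ_apply, Submodule.Quotient.mk_eq_zero]; exact hxZ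
    rw [hx, map_sum, Finset.sum_range_succ] at h0
    simp only [map_smul] at h0
    have h1 : q r' = -(c r')⁻¹ • ∑ i ∈ Finset.range r', c i • q i := by
      have hcr0 : c r' ≠ 0 := by rw [hcr]; exact ht0
      have h2 : c r' • q r' = -∑ i ∈ Finset.range r', c i • q i := by
        rw [eq_neg_iff_add_eq_zero, add_comm]; exact h0
      rw [neg_smul, ← smul_neg, ← h2, smul_smul, inv_mul_cancel₀ hcr0, one_smul]
    rw [h1]
    apply Submodule.smul_mem
    apply Submodule.sum_mem
    intro i hi
    apply Submodule.smul_mem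
    exact Submodule.subset_span ⟨i, hi, rfl⟩
  · have hFx : F x - x = t ^ p • z := by
      have e1 : F x = ∑ i ∈ Finset.range r', (c i) ^ p • (⇑F)^[i+1] u
          + t ^ p • (⇑F)^[r'+1] u := by
        rw [hx, F_sum F hF, Finset.sum_range_succ, hcr, hFit]
        congr 1
        apply Finset.sum_congr rfl
        intro i _
        rw [hFit]
      have e2 : x = ∑ i ∈ Finset.range r', ((c i) ^ p + a (i+1) * t ^ p) • (⇑F)^[i+1] u
          + (a 0 * t ^ p) • u := by
        rw [hx, Finset.sum_range_succ', hc0]
        congr 1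
        apply Finset.sum_congr rfl
        intro i _
        rw [hcs]
      have e3 : (⇑F)^[r'+1] u = z + (∑ i ∈ Finset.range r', a (i+1) • (⇑F)^[i+1] u + a 0 • u) := by
        rw [hz, Finset.sum_range_succ']
        simp only [Function.iterate_zero, id_eq]
        abel
      rw [e1, e3]
      rw [e2]
      simp only [add_smul, smul_add, Finset.sum_add_distrib, Finset.smul_sum, mul_smul]
      have e4 : ∀ i, a (i + 1) • t ^ p • (⇑F)^[i + 1] u = t ^ p • a (i + 1) • (⇑F)^[i + 1] u :=
        fun i => smul_comm _ _ _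
      simp only [e4, smul_comm (a 0) (t ^ p) u]
      abel
    rw [hFx]
    exact Submodule.smul_mem _ _ hzZ


omit [IsAlgClosed k] [CharP k p] hp in
lemma iter_smul (F : V →+ V) (hF : ∀ (a : k) (v : V), F (a • v) = a ^ p • F v) (m : ℕ)
    (a : k) (v : V) : (⇑F)^[m] (a • v) = a ^ (p ^ m) • (⇑F)^[m] v := by
  induction m with
  | zero => simp
  | succ m ih =>
    rw [Function.iterate_succ_apply', ih, hF, Function.iterate_succ_apply', ← pow_mul, pow_succ]

omit [IsAlgClosed k] [CharP k p] hp in
lemma iter_sum (F : V →+ V) (hF : ∀ (a : k) (v : V), F (a • v) = a ^ p • F v) (m : ℕ)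
    (s : Finset V) (c : V → k) (hs : ∀ v ∈ s, F v = v) :
    (⇑F)^[m] (∑ v ∈ s, c v • v) = ∑ v ∈ s, (c v) ^ (p ^ m) • v := by
  have h1 : (⇑F)^[m] (∑ v ∈ s, c v • v) = ∑ v ∈ s, (⇑F)^[m] (c v • v) := by
    classical
    induction s using Finset.induction_on with
    | empty => simp [iterate_map_zero]
    | insert a s ha ih =>
      rw [Finset.sum_insert ha, Finset.sum_insert ha, iterate_map_add, ih]
      intro v hv
      exact hs v (Finset.mem_insert_of_mem hv)
  rw [h1]
  apply Finset.sum_congr rfl
  intro v hv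
  rw [iter_smul F hF]
  congr 1
  exact Function.iterate_fixed (hs v hv) m

omit [IsAlgClosed k] [CharP k p] hp in
lemma nil_of_mem (F : V →+ V) (hF : ∀ (a : k) (v : V), F (a • v) = a ^ p • F v) (x : V)
    (hx : x ∈ Submodule.span k {v : V | ∃ m : ℕ, (⇑F)^[m] v = 0}) : ∃ m : ℕ, (⇑F)^[m] x = 0 := by
  induction hx using Submodule.span_induction with
  | mem x hx => exact hx
  | zero => exact ⟨0, rfl⟩
  | add x y _ _ hx hy =>
    obtain ⟨m₁, h₁⟩ := hx
    obtain ⟨m₂, h₂⟩ := hy
    refine ⟨m₁ + m₂, ?_⟩
    rw [iterate_map_add]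
    have e1 : (⇑F)^[m₁ + m₂] x = 0 := by
      rw [add_comm, Function.iterate_add_apply, h₁, iterate_map_zero]
    have e2 : (⇑F)^[m₁ + m₂] y = 0 := by
      rw [Function.iterate_add_apply, h₂, iterate_map_zero]
    rw [e1, e2, add_zero]
  | smul a x _ hx =>
    obtain ⟨m, hm⟩ := hx
    exact ⟨m, by rw [iter_smul F hF, hm, smul_zero]⟩

omit [IsAlgClosed k] [CharP k p] hp in
lemma nil_AS (F : V →+ V) (hF : ∀ (a : k) (v : V), F (a • v) = a ^ p • F v) (n : V)
    (hn : n ∈ Submodule.span k {v : V | ∃ m : ℕ, (⇑F)^[m] v = 0}) :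
    ∃ n' ∈ Submodule.span k {v : V | ∃ m : ℕ, (⇑F)^[m] v = 0}, F n' - n' = n := by
  obtain ⟨m, hm⟩ := nil_of_mem F hF n hn
  refine ⟨-∑ j ∈ Finset.range m, (⇑F)^[j] n, ?_, ?_⟩
  · apply Submodule.neg_mem
    apply Submodule.sum_mem
    intro j _
    apply Submodule.subset_span
    refine ⟨m, ?_⟩
    rw [← Function.iterate_add_apply, add_comm, Function.iterate_add_apply, hm,
      iterate_map_zero]
  · rw [map_neg, map_sum]
    have : ∀ j, F ((⇑F)^[j] n) = (⇑F)^[j+1] n := fun j =>
      (Function.iterate_succ_apply' _ _ _).symm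
    simp only [this]
    rw [neg_sub_neg, ← Finset.sum_sub_distrib]
    have h2 := Finset.sum_range_sub (fun j => (⇑F)^[j] n) m
    have h3 : ∑ x ∈ Finset.range m, ((⇑F)^[x] n - (⇑F)^[x + 1] n)
        = -∑ x ∈ Finset.range m, ((⇑F)^[x + 1] n - (⇑F)^[x] n) := by
      rw [← Finset.sum_neg_distrib]
      apply Finset.sum_congr rfl
      intro x _
      abel
    rw [h3, h2, hm]
    simp

omit [IsAlgClosed k] [CharP k p] hp in
lemma W_stable (F : V →+ V) (hF : ∀ (a : k) (v : V), F (a • v) = a ^ p • F v) (w : V)
    (hw : w ∈ Submodule.span k {v : V | F v = v}) : F w ∈ Submodule.span k {v : V | F v = v} := by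
  induction hw using Submodule.span_induction with
  | mem x hx =>
    have : F x = x := hx
    rw [this]; exact Submodule.subset_span hx
  | zero => rw [map_zero]; exact Submodule.zero_mem _
  | add x y _ _ hx hy => rw [map_add]; exact Submodule.add_mem _ hx hy
  | smul a x _ hx => rw [hF]; exact Submodule.smul_mem _ _ hx

omit [CharP k p] in
lemma W_surj (F : V →+ V) (hF : ∀ (a : k) (v : V), F (a • v) = a ^ p • F v) (w : V)
    (hw : w ∈ Submodule.span k {v : V | F v = v}) :
    ∃ w' ∈ Submodule.span k {v : V | F v = v}, F w' = w := by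
  have hp0 : 0 < p := hp.out.pos
  induction hw using Submodule.span_induction with
  | mem x hx => exact ⟨x, Submodule.subset_span hx, hx⟩
  | zero => exact ⟨0, Submodule.zero_mem _, map_zero _⟩
  | add x y _ _ hx hy =>
    obtain ⟨x', hx', ex⟩ := hx
    obtain ⟨y', hy', ey⟩ := hy
    exact ⟨x' + y', Submodule.add_mem _ hx' hy', by rw [map_add, ex, ey]⟩
  | smul a x _ hx =>
    obtain ⟨x', hx', ex⟩ := hx
    obtain ⟨b, hb⟩ := IsAlgClosed.exists_pow_nat_eq a hp0
    exact ⟨b • x', Submodule.smul_mem _ _ hx', by rw [hF, hb, ex]⟩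

omit [CharP k p] in
lemma W_AS (F : V →+ V) (hF : ∀ (a : k) (v : V), F (a • v) = a ^ p • F v) (w : V)
    (hw : w ∈ Submodule.span k {v : V | F v = v}) :
    ∃ w' ∈ Submodule.span k {v : V | F v = v}, F w' - w' = w := by
  have hp2 : 2 ≤ p := hp.out.two_le
  have main : ∀ a : k, ∃ w' ∈ Submodule.span k {v : V | F v = v}, F w' - w' = a • w := by
    induction hw using Submodule.span_induction with
    | mem x hx =>
      intro a
      have hx' : F x = x := hx
      have hdeg : (Polynomial.X ^ p - Polynomial.X - Polynomial.C a : Polynomial k).degree ≠ 0 := by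
        have h1 : (Polynomial.X ^ p - Polynomial.X : Polynomial k).degree = p := by
          rw [degree_sub_eq_left_of_degree_lt]
          · exact degree_X_pow p
          · rw [degree_X, degree_X_pow]
            exact_mod_cast (by omega : 1 < p)
        rw [degree_sub_eq_left_of_degree_lt]
        · rw [h1]
          exact_mod_cast (by omega : p ≠ 0)
        · rw [h1]
          exact lt_of_le_of_lt degree_C_le (by exact_mod_cast (by omega : 0 < p))
      obtain ⟨b, hb⟩ := IsAlgClosed.exists_root _ hdeg
      rw [IsRoot, eval_sub, eval_sub, eval_pow, eval_X, eval_C, sub_eq_zero] at hb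
      refine ⟨b • x, Submodule.smul_mem _ _ (Submodule.subset_span hx), ?_⟩
      rw [hF, hx', ← sub_smul, hb]
    | zero =>
      intro a
      exact ⟨0, Submodule.zero_mem _, by simp⟩
    | add x y _ _ hx hy =>
      intro a
      obtain ⟨x', hx', ex⟩ := hx a
      obtain ⟨y', hy', ey⟩ := hy a
      refine ⟨x' + y', Submodule.add_mem _ hx' hy', ?_⟩
      rw [map_add, smul_add, ← ex, ← ey]; abel
    | smul c x _ hx =>
      intro a
      obtain ⟨x', hx', ex⟩ := hx (a * c)
      exact ⟨x', hx', by rw [ex, mul_smul]⟩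
  obtain ⟨w', hw', e⟩ := main 1
  exact ⟨w', hw', by rw [e, one_smul]⟩

omit [IsAlgClosed k] [CharP k p] in
lemma disj (F : V →+ V) (hF : ∀ (a : k) (v : V), F (a • v) = a ^ p • F v) :
    Disjoint (Submodule.span k {v : V | F v = v})
      (Submodule.span k {v : V | ∃ m : ℕ, (⇑F)^[m] v = 0}) := by
  have hp0 : 0 < p := hp.out.pos
  rw [Submodule.disjoint_def]
  intro x hxW hxN
  obtain ⟨m, hm⟩ := nil_of_mem F hF x hxN
  obtain ⟨b, hbs, hbspan, hbli⟩ := exists_linearIndependent k {v : V | F v = v}
  rw [← hbspan] at hxW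
  obtain ⟨f, t, htb, hft, rfl⟩ := Submodule.mem_span_iff_exists_finset_subset.mp hxW
  have hfix : ∀ v ∈ t, F v = v := fun v hv => hbs (htb hv)
  rw [iter_sum F hF m t f hfix] at hm
  have hli : LinearIndepOn k id (↑t : Set V) := by
    have : LinearIndepOn k id b := hbli
    exact this.mono htb
  have := linearIndepOn_finset_iff.mp hli (fun v => (f v) ^ (p ^ m)) hm
  apply Finset.sum_eq_zero
  intro v hv
  have h0 : f v = 0 := by
    have := this v hv
    exact pow_eq_zero_iff (pow_pos hp0 m).ne' |>.mp this
  rw [h0, zero_smul]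

lemma codisj [FiniteDimensional k V] (F : V →+ V)
    (hF : ∀ (a : k) (v : V), F (a • v) = a ^ p • F v) :
    (Submodule.span k {v : V | F v = v}) ⊔
      (Submodule.span k {v : V | ∃ m : ℕ, (⇑F)^[m] v = 0}) = ⊤ := by
  by_contra hne
  set W := Submodule.span k {v : V | F v = v} with hW
  set N := Submodule.span k {v : V | ∃ m : ℕ, (⇑F)^[m] v = 0} with hN
  have hZ2 : ∀ v, F v ∈ W ⊔ N → v ∈ W ⊔ N := by
    intro v hv
    obtain ⟨w, hw, n, hn, e⟩ := Submodule.mem_sup.mp hv
    obtain ⟨w', hw', ew⟩ := W_surj F hF w hw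
    obtain ⟨m, hm⟩ := nil_of_mem F hF n hn
    have h1 : F (v - w') = n := by rw [map_sub, ew, ← e]; abel
    have h2 : v - w' ∈ N := by
      apply Submodule.subset_span
      refine ⟨m + 1, ?_⟩
      rw [Function.iterate_succ_apply, h1, hm]
    have : v = w' + (v - w') := by abel
    rw [this]
    exact Submodule.add_mem_sup hw' h2
  obtain ⟨x, hxZ, hx⟩ := key F hF (W ⊔ N) hZ2 hne
  obtain ⟨w, hw, n, hn, e⟩ := Submodule.mem_sup.mp hx
  obtain ⟨w', hw', ew⟩ := W_AS F hF w hw
  obtain ⟨n', hn', en⟩ := nil_AS F hF n hn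
  apply hxZ
  have hfix : F (x - (w' + n')) = x - (w' + n') := by
    have : F (x - (w' + n')) - (x - (w' + n')) = 0 := by
      rw [map_sub, map_add]
      have : F x - (F w' + F n') - (x - (w' + n')) = (F x - x) - ((F w' - w') + (F n' - n')) := by
        abel
      rw [this, ew, en, e, sub_self]
    exact sub_eq_zero.mp this
  have h3 : x - (w' + n') ∈ W := Submodule.subset_span hfix
  have : x = (x - (w' + n') + w') + n' := by abel
  rw [this]
  exact Submodule.add_mem_sup (Submodule.add_mem _ h3 hw') hn'



omit [IsAlgClosed k] in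
lemma indep [FiniteDimensional k V] (F : V →+ V)
    (hF : ∀ (a : k) (v : V), F (a • v) = a ^ p • F v) (s : Finset V) (hs : ∀ v ∈ s, F v = v)
    (hZ : ∀ c : s → ℤ, (∑ v : s, c v • (v : V)) = 0 → ∀ v : s, (p : ℤ) ∣ c v) :
    LinearIndependent k (fun v : s => (v : V)) := by
  classical
  have hp0 : 0 < p := hp.out.pos
  rw [Fintype.linearIndependent_iff]
  -- strong induction on the size of the support
  have main : ∀ n : ℕ, ∀ g : s → k, (Finset.univ.filter fun v => g v ≠ 0).card = n →
      ∑ v : s, g v • (v : V) = 0 → ∀ v, g v = 0 := by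
    intro n
    induction n using Nat.strong_induction_on with
    | _ n ih =>
      intro g hcard hrel
      by_contra hcon
      push Not at hcon
      obtain ⟨v₀, hv₀⟩ := hcon
      -- normalize
      set g' : s → k := fun v => (g v₀)⁻¹ * g v with hg'
      have hg'v₀ : g' v₀ = 1 := inv_mul_cancel₀ hv₀
      have hrel' : ∑ v : s, g' v • (v : V) = 0 := by
        have : ∑ v : s, g' v • (v : V) = (g v₀)⁻¹ • ∑ v : s, g v • (v : V) := by
          rw [Finset.smul_sum]
          apply Finset.sum_congr rfl
          intro v _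
          rw [hg', mul_smul]
        rw [this, hrel, smul_zero]
      have hsupp' : (Finset.univ.filter fun v => g' v ≠ 0) = (Finset.univ.filter fun v => g v ≠ 0) := by
        ext v
        simp only [Finset.mem_filter, Finset.mem_univ, true_and, hg']
        rw [mul_ne_zero_iff]
        exact ⟨fun h => h.2, fun h => ⟨inv_ne_zero hv₀, h⟩⟩
      set h : s → k := fun v => (g' v) ^ p - g' v with hh
      have hrelh : ∑ v : s, h v • (v : V) = 0 := by
        have e1 : F (∑ v : s, g' v • (v : V)) = ∑ v : s, (g' v) ^ p • (v : V) := by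
          rw [map_sum]
          apply Finset.sum_congr rfl
          intro v _
          rw [hF, hs v v.2]
        have : ∑ v : s, h v • (v : V) = F (∑ v : s, g' v • (v : V)) - ∑ v : s, g' v • (v : V) := by
          rw [e1, ← Finset.sum_sub_distrib]
          apply Finset.sum_congr rfl
          intro v _
          rw [hh, sub_smul]
        rw [this, hrel', map_zero, sub_zero]
      have hsub : (Finset.univ.filter fun v => h v ≠ 0) ⊂ (Finset.univ.filter fun v => g' v ≠ 0) := by
        rw [Finset.ssubset_iff_of_subset]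
        · refine ⟨v₀, ?_, ?_⟩
          · simp [hg'v₀]
          · simp [hh, hg'v₀]
        · intro v
          simp only [Finset.mem_filter, Finset.mem_univ, true_and, hh]
          intro hv h0
          apply hv
          rw [h0, zero_pow hp0.ne', sub_zero]
      have hlt : (Finset.univ.filter fun v => h v ≠ 0).card < n := by
        rw [← hcard, ← hsupp']
        exact Finset.card_lt_card hsub
      have hh0 : ∀ v, h v = 0 := ih _ hlt h rfl hrelh
      -- each g' v is an integer cast
      have hint : ∀ v : s, ∃ c : ℤ, (c : k) = g' v := by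
        intro v
        have : g' v ^ p = g' v := sub_eq_zero.mp (hh0 v)
        exact (mem_bot_iff_intCast p k).mp ((Subfield.mem_bot_iff_pow_eq_self k p).mpr this)
      choose c hc using hint
      have hrelZ : ∑ v : s, c v • (v : V) = 0 := by
        rw [← hrel']
        apply Finset.sum_congr rfl
        intro v _
        rw [← hc v, Int.cast_smul_eq_zsmul]
      have hdvd := hZ c hrelZ v₀
      have : (c v₀ : k) = 0 := (CharP.intCast_eq_zero_iff k p _).mpr hdvd
      rw [hc, hg'v₀] at this
      exact one_ne_zero this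
  intro g hg
  exact main _ g rfl hg



end


/-- Over an algebraically closed field: let k be an algebraically closed field of characteristic p > 0,
V a finite-dimensional k-vector space and F : V -> V a p-linear endomorphism (additive with F(a·v) =
a^p·F(v)). Let V^F be the set of vectors fixed by F (an F_p-subspace), V_0 the k-span of V^F and V_n
the k-span of the vectors killed by some iterate of F (these already form an F-stable subspace on
which F is nilpotent). Then V = V_0 ⊕ V_n, and V^F ⊗ k -> V_0 is bijective in the sense that any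
finitely many F-fixed vectors linearly independent over Z/p (every vanishing integer combination has
all coefficients divisible by p) are linearly independent over k. (The published statement asserts
this decomposition, with V^F ⊗ k ≅ V_0, for every PERFECT field k; that is false when k is not
separably closed — for k = Z/3, V = k and F = multiplication by 2 there are no nonzero fixed vectors
although F is bijective — and the decomposition is stated here over an algebraically closed field,
the case in which it holds.) -/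
theorem result (p : ℕ) [Fact p.Prime] (k : Type u) [Field k]
    [IsAlgClosed k] [CharP k p] (V : Type u) [AddCommGroup V] [Module k V] [FiniteDimensional k V]
    (F : V →+ V) (hF : ∀ (a : k) (v : V), F (a • v) = a ^ p • F v) :
    IsCompl (Submodule.span k {v : V | F v = v})
        (Submodule.span k {v : V | ∃ m : ℕ, (⇑F)^[m] v = 0}) ∧
      ∀ (s : Finset V), (∀ v ∈ s, F v = v) →
        (∀ c : s → ℤ, (∑ v : s, c v • (v : V)) = 0 → ∀ v : s, (p : ℤ) ∣ c v) →
          LinearIndependent k (fun v : s => (v : V)) := by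
  refine ⟨⟨disj F hF, codisjoint_iff.mpr (codisj F hF)⟩, ?_⟩
  intro s hs hZ
  exact indep F hF s hs hZ

end Groth.Agent.S8604
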