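import Groth.Statements.S15315
import Mathlib

set_option autoImplicit false
universe u
open ArLef

namespace Groth.Agent.S15315

/-- For a Noetherian commutative ring A, elements a, b with a a non-zero-divisor on A/(b), and an ideal
I, one has length(A/(aI + bA)) = length(A/(a, b)) + length(A/(I + bA)) as extended natural numbers;
in particular when two of the three quotients have finite length so does the third. -/
theorem result (A : Type u) [CommRing A] [IsNoetherianRing A] (a b : A) (I : Ideal A)
    (ha : IsSMulRegular (A ⧸ Ideal.span ({b} : Set A)) a) :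
    Module.length A (A ⧸ (Ideal.span {a} * I ⊔ Ideal.span {b})) =
      Module.length A (A ⧸ Ideal.span ({a, b} : Set A)) + Module.length A (A ⧸ (I ⊔ Ideal.span {b})) := by
  have hKJ : (I ⊔ Ideal.span {b} : Ideal A) ≤
      Submodule.comap (LinearMap.lsmul A A a) (Ideal.span {a} * I ⊔ Ideal.span {b} : Ideal A) := by
    intro x hx
    rw [Submodule.mem_comap]
    obtain ⟨y, hy, z, hz, rfl⟩ := Submodule.mem_sup.mp hx
    simp only [LinearMap.lsmul_apply, smul_eq_mul, mul_add]
    exact Submodule.add_mem _
      (Ideal.mem_sup_left (Ideal.mul_mem_mul (Ideal.mem_span_singleton_self a) hy))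
      (Ideal.mem_sup_right (Ideal.mul_mem_left _ _ hz))
  have hJL : (Ideal.span {a} * I ⊔ Ideal.span {b} : Ideal A) ≤
      Submodule.comap (LinearMap.id : A →ₗ[A] A) (Ideal.span ({a, b} : Set A)) := by
    rw [Submodule.comap_id]
    refine sup_le ?_ ?_
    · refine Ideal.mul_le.mpr (fun r hr s _ => Ideal.mul_mem_right s _ ?_)
      exact (Ideal.span_mono (by intro z hz; rw [Set.mem_singleton_iff] at hz; rw [hz]; exact Set.mem_insert _ _) : Ideal.span ({a} : Set A) ≤ Ideal.span ({a, b} : Set A)) hr
    · exact (Ideal.span_mono (by intro z hz; rw [Set.mem_singleton_iff] at hz; rw [hz]; exact Set.mem_insert_of_mem _ rfl) : Ideal.span ({b} : Set A) ≤ Ideal.span ({a, b} : Set A))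
  have hfinj : Function.Injective
      (Submodule.mapQ (I ⊔ Ideal.span {b} : Ideal A) (Ideal.span {a} * I ⊔ Ideal.span {b} : Ideal A)
        (LinearMap.lsmul A A a) hKJ) := by
    rw [← LinearMap.ker_eq_bot, LinearMap.ker_eq_bot']
    intro m hm
    obtain ⟨x, rfl⟩ := Submodule.Quotient.mk_surjective _ m
    rw [Submodule.mapQ_apply, Submodule.Quotient.mk_eq_zero] at hm
    rw [Submodule.Quotient.mk_eq_zero]
    simp only [LinearMap.lsmul_apply, smul_eq_mul] at hm
    obtain ⟨u, hu, w, hw, huw⟩ := Submodule.mem_sup.mp hm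
    obtain ⟨y, hy, rfl⟩ := Ideal.mem_span_singleton_mul.mp hu
    have hxy : (Ideal.Quotient.mk (Ideal.span ({b} : Set A)) (x - y)) = 0 := by
      apply ha
      simp only [smul_zero]
      rw [Algebra.smul_def, Ideal.Quotient.algebraMap_eq, ← map_mul, Ideal.Quotient.eq_zero_iff_mem]
      have : a * (x - y) = w := by linear_combination -huw
      rw [this]; exact hw
    rw [Ideal.Quotient.eq_zero_iff_mem] at hxy
    have : x = y + (x - y) := by ring
    rw [this]
    exact Submodule.add_mem _ (Ideal.mem_sup_left hy) (Ideal.mem_sup_right hxy)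
  have hgsurj : Function.Surjective
      (Submodule.mapQ (Ideal.span {a} * I ⊔ Ideal.span {b} : Ideal A) (Ideal.span ({a, b} : Set A))
        (LinearMap.id : A →ₗ[A] A) hJL) := by
    intro m
    obtain ⟨x, rfl⟩ := Submodule.Quotient.mk_surjective _ m
    exact ⟨Submodule.Quotient.mk x, by rw [Submodule.mapQ_apply]; rfl⟩
  have hex : Function.Exact
      (Submodule.mapQ (I ⊔ Ideal.span {b} : Ideal A) (Ideal.span {a} * I ⊔ Ideal.span {b} : Ideal A)
        (LinearMap.lsmul A A a) hKJ)
      (Submodule.mapQ (Ideal.span {a} * I ⊔ Ideal.span {b} : Ideal A) (Ideal.span ({a, b} : Set A))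
        (LinearMap.id : A →ₗ[A] A) hJL) := by
    intro m
    obtain ⟨x, rfl⟩ := Submodule.Quotient.mk_surjective _ m
    rw [Submodule.mapQ_apply, Submodule.Quotient.mk_eq_zero]
    simp only [LinearMap.id_coe, id_eq]
    constructor
    · intro hx
      obtain ⟨p, q, rfl⟩ := Ideal.mem_span_pair.mp hx
      refine ⟨Submodule.Quotient.mk p, ?_⟩
      rw [Submodule.mapQ_apply, ← sub_eq_zero, ← Submodule.Quotient.mk_sub,
        Submodule.Quotient.mk_eq_zero]
      simp only [LinearMap.lsmul_apply, smul_eq_mul]
      have : a * p - (p * a + q * b) = (-q) * b := by ring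
      rw [this]
      exact Ideal.mem_sup_right (Ideal.mul_mem_left _ _ (Ideal.mem_span_singleton_self b))
    · rintro ⟨n, hn⟩
      obtain ⟨y, rfl⟩ := Submodule.Quotient.mk_surjective _ n
      rw [Submodule.mapQ_apply, ← sub_eq_zero, ← Submodule.Quotient.mk_sub,
        Submodule.Quotient.mk_eq_zero] at hn
      simp only [LinearMap.lsmul_apply, smul_eq_mul] at hn
      have hx : x = a * y - (a * y - x) := by ring
      rw [hx]
      refine Submodule.sub_mem _ ?_ (hJL hn)
      exact Ideal.mul_mem_right _ _ (Ideal.subset_span (by simp))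
  rw [Module.length_eq_add_of_exact _ _ hfinj hgsurj hex, add_comm]

end Groth.Agent.S15315
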