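import Groth.Statements.S5783
import Mathlib
import Groth.Agent.S2082
import Groth.Agent.Lib.Helper5RLR3
import Groth.Agent.Lib.Helper5IntDim

set_option autoImplicit false
universe u
open EGA41

namespace Groth.Agent.S5783

/-- Let A be a regular local ring, B a local ring and ρ : A → B a local homomorphism making B a finitely
generated A-module. Then B is a free A-module if and only if B is a Cohen-Macaulay ring and ρ is
injective (the latter being equivalent to dim(B) = dim(A)). -/
theorem result (A B : Type u) [CommRing A] [CommRing B]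
    [IsRegularLocalRing A] [IsLocalRing B] [Algebra A B] [IsLocalHom (algebraMap A B)] [Module.Finite A B] :
    Module.Free A B ↔ LocCoh.IsCohenMacaulayLocalRing B ∧ Function.Injective (algebraMap A B) := by
  classical
  have hNoethA : IsNoetherianRing A := inferInstance
  have hNoethB : IsNoetherianRing B := Algebra.FiniteType.isNoetherianRing A B
  have hint : Algebra.IsIntegral A B := inferInstance
  have hmB : (IsLocalRing.maximalIdeal A).map (algebraMap A B) ≤ IsLocalRing.maximalIdeal B :=
    IsLocalRing.map_maximalIdeal_le (algebraMap A B)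
  constructor
  · intro hfree
    have hflat : Module.Flat A B := inferInstance
    have hinj : Function.Injective (algebraMap A B) := FaithfulSMul.algebraMap_injective A B
    refine ⟨?_, hinj⟩
    have hdimB : ringKrullDim B = ringKrullDim A :=
      Groth.Agent.Lib.Helper5.ringKrullDim_eq_of_isIntegral_of_injective A B hinj
    obtain ⟨rs, hlen, hrs, hreg⟩ := Groth.Agent.Lib.Helper5.exists_isRegular_ofList_eq_maximalIdeal A
    have hregB : RingTheory.Sequence.IsWeaklyRegular B (rs.map (algebraMap A B)) :=
      hreg.toIsWeaklyRegular.of_flat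
    have hmem : ∀ r ∈ rs.map (algebraMap A B), r ∈ IsLocalRing.maximalIdeal B := by
      intro r hr
      obtain ⟨a, ha, rfl⟩ := List.mem_map.mp hr
      exact hmB (Ideal.mem_map_of_mem _ (hrs ▸ Ideal.subset_span ha))
    refine ⟨le_antisymm ?_ Groth.Agent.Lib.Helper5.depth_le_supportDim⟩
    rw [Module.supportDim_self_eq_ringKrullDim, hdimB, hlen]
    have h1 := Groth.Agent.Lib.Helper28.length_le_idealDepth (I := IsLocalRing.maximalIdeal B)
      hregB hmem
    rw [List.length_map] at h1
    change ((rs.length : ℕ) : WithBot ℕ∞) ≤
      ((LocCoh.idealDepth (IsLocalRing.maximalIdeal B) B : ℕ∞) : WithBot ℕ∞)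
    exact_mod_cast h1
  · rintro ⟨hCM, hinj⟩
    have hdimB : ringKrullDim B = ringKrullDim A :=
      Groth.Agent.Lib.Helper5.ringKrullDim_eq_of_isIntegral_of_injective A B hinj
    -- the fibre has dimension zero
    have hntF : Nontrivial (B ⧸ (IsLocalRing.maximalIdeal A).map (algebraMap A B)) :=
      Ideal.Quotient.nontrivial_iff.mpr (fun h =>
        (IsLocalRing.maximalIdeal.isMaximal B).ne_top (top_le_iff.mp (h ▸ hmB)))
    let f : A →+* (B ⧸ (IsLocalRing.maximalIdeal A).map (algebraMap A B)) :=
      (Ideal.Quotient.mk _).comp (algebraMap A B)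
    have hfint : f.IsIntegral :=
      RingHom.IsIntegral.trans _ _ (algebraMap_isIntegral_iff.mpr hint)
        (RingHom.isIntegral_of_surjective _ Ideal.Quotient.mk_surjective)
    have hker : IsLocalRing.maximalIdeal A = RingHom.ker f := by
      apply (IsLocalRing.maximalIdeal.isMaximal A).eq_of_le (RingHom.ker_ne_top f)
      intro a ha
      rw [RingHom.mem_ker]
      exact Ideal.Quotient.eq_zero_iff_mem.mpr (Ideal.mem_map_of_mem _ ha)
    have hF : ringKrullDim (B ⧸ (IsLocalRing.maximalIdeal A).map (algebraMap A B)) = 0 := by
      rw [Groth.Agent.Lib.Helper5.ringKrullDim_eq_ringKrullDim_quotient_ker_of_isIntegral f hfint,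
        ← ringKrullDim_eq_of_ringEquiv (Ideal.quotEquivOfEq hker)]
      exact ringKrullDim_eq_zero_of_isField
        ((Ideal.Quotient.maximal_ideal_iff_isField_quotient _).mp (IsLocalRing.maximalIdeal.isMaximal A))
    have hflat : Module.Flat A B := Groth.Agent.S2082.result (by rw [hdimB, hF, add_zero])
    exact Module.free_of_flat_of_isLocalRing

end Groth.Agent.S5783
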