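import Groth.Statements.S1435
import Mathlib

set_option autoImplicit false
universe u
open FlatMor

namespace Groth.Agent.S1435

section Dev
open AlgebraicGeometry CategoryTheory Limits TopologicalSpace

/-- a function to a linear order which is locally bounded below by its value has closed sublevels -/
theorem closed_sublevel_of_local {X : Type*} [TopologicalSpace X] {ι : Type*} [LinearOrder ι]
    (ρ : X → ι) (h : ∀ x, ∃ O : Set X, IsOpen O ∧ x ∈ O ∧ ∀ y ∈ O, ρ x ≤ ρ y) (c : ι) :
    IsClosed {x | ρ x ≤ c} := by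
  rw [← isOpen_compl_iff, isOpen_iff_forall_mem_open]
  intro x hx
  obtain ⟨O, hO, hxO, hOρ⟩ := h x
  refine ⟨O, fun y hy => ?_, hO, hxO⟩
  have hx' : ¬ ρ x ≤ c := hx
  show ¬ ρ y ≤ c
  intro hy'
  exact hx' ((hOρ y hy).trans hy')

/-- a stratum: the range of an affine immersion from an affine scheme -/
def Nice (X : Scheme.{u}) (T : Set X) : Prop :=
  ∃ (Z : Scheme.{u}) (ι : Z ⟶ X), IsImmersion ι ∧ IsAffine Z ∧ IsAffineHom ι ∧ Set.range ι = T

theorem strat_of_finite_linearOrder (X : Scheme.{u}) (ι : Type) [LinearOrder ι] [Fintype ι]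
    [Nonempty ι] (ρ : X → ι) (h1 : ∀ c, IsClosed {x | ρ x ≤ c}) (h2 : ∀ c, Nice X {x | ρ x = c}) :
    ∃ n : ℕ, MoreMor.HasAffineStratification X n := by
  have hcard : 0 < Fintype.card ι := Fintype.card_pos
  obtain ⟨n, hn⟩ : ∃ n, Fintype.card ι = n + 1 := ⟨Fintype.card ι - 1, by omega⟩
  let e : Fin (n + 1) ≃o ι := Fintype.orderIsoFinOfCardEq ι hn
  refine ⟨n, fun x => e.symm (ρ x), fun i => ?_, fun i => ?_⟩
  · have : {x : X | e.symm (ρ x) ≤ i} = {x | ρ x ≤ e i} := by
      ext x; exact e.symm_apply_le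
    rw [this]; exact h1 _
  · have : {x : X | e.symm (ρ x) = i} = {x | ρ x = e i} := by
      ext x; exact e.symm_apply_eq
    rw [this]; exact h2 _

/-- closed subset of an affine open, compatible with an affine open cover -/
theorem nice_of_closed_in_affine (X : Scheme.{u}) (O : X.Opens) (hO : IsAffineOpen O) (F : Set X)
    (hF : IsClosed F) {κ : Type*} (U : κ → X.Opens) (hU : ∀ k, IsAffineOpen (U k))
    (hcov : ∀ x : X, ∃ k, x ∈ U k)
    (h : ∀ k, O ≤ U k ∨ (O : Set X) ∩ F ∩ U k = ∅) : Nice X ((O : Set X) ∩ F) := by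
  have : IsAffine O.toScheme := hO
  let Z₀ : Closeds O.toScheme := ⟨O.ι ⁻¹' F, hF.preimage O.ι.continuous⟩
  let I := Scheme.IdealSheafData.vanishingIdeal Z₀
  have hrange0 : Set.range I.subschemeι = O.ι ⁻¹' F := by
    rw [Scheme.IdealSheafData.range_subschemeι]
    simp [I, Z₀]
  have hrange : Set.range (I.subschemeι ≫ O.ι) = (O : Set X) ∩ F := by
    rw [Scheme.Hom.comp_base, TopCat.coe_comp, Set.range_comp, hrange0,
      Set.image_preimage_eq_inter_range, Scheme.Opens.range_ι, Set.inter_comm]
  have hZaff : IsAffine I.subscheme := isAffine_of_isAffineHom I.subschemeι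
  refine ⟨I.subscheme, I.subschemeι ≫ O.ι, inferInstance, hZaff, ?_, hrange⟩
  apply isAffineHom_of_forall_exists_isAffineOpen
  intro x
  obtain ⟨k, hk⟩ := hcov x
  refine ⟨U k, hk, hU k, ?_⟩
  rcases h k with h1 | h1
  · have : (I.subschemeι ≫ O.ι) ⁻¹ᵁ U k = ⊤ := by
      ext z
      simp only [Scheme.Hom.coe_preimage, Set.mem_preimage, SetLike.mem_coe, Opens.coe_top,
        Set.mem_univ, iff_true]
      have hz : (I.subschemeι ≫ O.ι) z ∈ (O : Set X) ∩ F := by rw [← hrange]; exact ⟨z, rfl⟩
      exact h1 hz.1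
    rw [this]
    exact isAffineOpen_top _
  · have : (I.subschemeι ≫ O.ι) ⁻¹ᵁ U k = ⊥ := by
      ext z
      simp only [Scheme.Hom.coe_preimage, Set.mem_preimage, SetLike.mem_coe, Opens.coe_bot,
        Set.mem_empty_iff_false, iff_false]
      intro hz'
      have hz : (I.subschemeι ≫ O.ι) z ∈ (O : Set X) ∩ F := by rw [← hrange]; exact ⟨z, rfl⟩
      have : (I.subschemeι ≫ O.ι) z ∈ (O : Set X) ∩ F ∩ U k := ⟨hz, hz'⟩
      rw [h1] at this
      exact this
    rw [this]
    exact isAffineOpen_bot _

theorem nice_empty (X : Scheme.{u}) {κ : Type*} (U : κ → X.Opens) (hU : ∀ k, IsAffineOpen (U k))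
    (hcov : ∀ x : X, ∃ k, x ∈ U k) : Nice X ∅ := by
  have := nice_of_closed_in_affine X ⊥ (isAffineOpen_bot X) Set.univ isClosed_univ U hU hcov
    (fun k => Or.inl bot_le)
  simpa using this


theorem qcqs_of_strat (X : Scheme.{u}) (n : ℕ) (h : MoreMor.HasAffineStratification X n) :
    CompactSpace ↑X ∧ QuasiSeparatedSpace ↑X := by
  obtain ⟨s, -, hs⟩ := h
  choose Z ι h1 h2 h3 h4 using hs
  have hcover : ∀ x : X, ∃ i, x ∈ Set.range (ι i) := by
    intro x
    refine ⟨s x, ?_⟩
    rw [h4]; rfl
  constructor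
  · rw [← isCompact_univ_iff]
    have : (Set.univ : Set X) = ⋃ i, Set.range (ι i) := by
      ext x; simpa using hcover x
    rw [this]
    apply isCompact_iUnion
    intro i
    have := h2 i
    exact isCompact_range (ι i).continuous
  · rw [quasiSeparatedSpace_iff_forall_affineOpens]
    intro U V
    have : ((U : X.Opens) : Set X) ∩ (V : X.Opens) =
        ⋃ i, (ι i) '' (((ι i) ⁻¹ᵁ (U : X.Opens) : Set (Z i)) ∩ ((ι i) ⁻¹ᵁ (V : X.Opens))) := by
      ext x
      simp only [Set.mem_inter_iff, SetLike.mem_coe, Set.mem_iUnion, Set.mem_image]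
      constructor
      · rintro ⟨hxU, hxV⟩
        obtain ⟨i, z, rfl⟩ := hcover x
        exact ⟨i, z, ⟨hxU, hxV⟩, rfl⟩
      · rintro ⟨i, z, ⟨hzU, hzV⟩, rfl⟩
        exact ⟨hzU, hzV⟩
    rw [this]
    apply isCompact_iUnion
    intro i
    apply IsCompact.image _ (ι i).continuous
    have := h2 i
    have := h3 i
    have hU' : IsAffineOpen ((ι i) ⁻¹ᵁ (U : X.Opens)) := IsAffineHom.isAffine_preimage _ U.2
    have hV' : IsAffineOpen ((ι i) ⁻¹ᵁ (V : X.Opens)) := IsAffineHom.isAffine_preimage _ V.2
    exact QuasiSeparatedSpace.inter_isCompact _ _ (Opens.isOpen _) hU'.isCompact (Opens.isOpen _)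
      hV'.isCompact

theorem strat_of_qcqs (X : Scheme.{u}) [CompactSpace X] [QuasiSeparatedSpace X] :
    ∃ n, MoreMor.HasAffineStratification X n := by
  classical
  -- finite affine cover
  obtain ⟨s0, hs0fin, hs0⟩ := (isCompact_and_isOpen_iff_finite_and_eq_biUnion_affineOpens
    (X := X) (U := Set.univ)).mp ⟨isCompact_univ, isOpen_univ⟩
  obtain ⟨m, emb, hemb⟩ := hs0fin.fin_embedding
  let U : Fin m → X.Opens := fun k => (emb k).1
  have hU : ∀ k, IsAffineOpen (U k) := fun k => (emb k).2
  have hcov : ∀ x : X, ∃ k, x ∈ U k := by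
    intro x
    have : x ∈ ⋃ i ∈ s0, ((i : X.Opens) : Set X) := hs0 ▸ Set.mem_univ x
    simp only [Set.mem_iUnion] at this
    obtain ⟨i, hi, hx⟩ := this
    rw [← hemb] at hi
    obtain ⟨k, rfl⟩ := hi
    exact ⟨k, hx⟩
  -- pattern
  let S : X → Finset (Fin m) := fun x => Finset.univ.filter (fun k => x ∈ U k)
  have hS : ∀ x k, k ∈ S x ↔ x ∈ U k := by simp [S]
  -- intersections
  let US : Finset (Fin m) → Set X := fun T => ⋂ k ∈ T, (U k : Set X)
  have hUSmem : ∀ T x, x ∈ US T ↔ ∀ k ∈ T, x ∈ U k := by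
    intro T x; simp [US]
  have hUSopen : ∀ T, IsOpen (US T) := fun T => isOpen_biInter_finset (fun k _ => (U k).2)
  have hUScompact : ∀ T, IsCompact (US T) := by
    intro T
    induction T using Finset.induction_on with
    | empty =>
      have : US ∅ = Set.univ := by ext x; simp [US]
      rw [this]; exact isCompact_univ
    | insert a T _ ih =>
      have : US (insert a T) = (U a : Set X) ∩ US T := by
        ext x; simp [US]
      rw [this]
      exact QuasiSeparatedSpace.inter_isCompact _ _ (U a).2 (hU a).isCompact (hUSopen T) ih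
  -- affine covers of US T
  have hdata : ∀ T : Finset (Fin m), ∃ (r : ℕ) (O : ℕ → X.Opens),
      (∀ i < r, IsAffineOpen (O i)) ∧ (∀ i < r, (O i : Set X) ⊆ US T) ∧
      ∀ x ∈ US T, ∃ i < r, x ∈ O i := by
    intro T
    obtain ⟨s, hsfin, hs⟩ := isCompact_and_isOpen_iff_finite_and_eq_biUnion_affineOpens.mp
      ⟨hUScompact T, hUSopen T⟩
    obtain ⟨r, emb, hemb⟩ := hsfin.fin_embedding
    refine ⟨r, fun i => if h : i < r then (emb ⟨i, h⟩).1 else ⊥, ?_, ?_, ?_⟩
    · intro i hi
      simp only [hi, dif_pos]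
      exact (emb ⟨i, hi⟩).2
    · intro i hi
      simp only [hi, dif_pos]
      rw [hs]
      intro x hx
      simp only [Set.mem_iUnion]
      exact ⟨emb ⟨i, hi⟩, hemb ▸ Set.mem_range_self _, hx⟩
    · intro x hx
      rw [hs] at hx
      simp only [Set.mem_iUnion] at hx
      obtain ⟨j, hj, hxj⟩ := hx
      rw [← hemb] at hj
      obtain ⟨⟨i, hi⟩, rfl⟩ := hj
      refine ⟨i, hi, ?_⟩
      simp only [hi, dif_pos]
      exact hxj
  choose r O hO1 hO2 hO3 using hdata
  let M : ℕ := Finset.univ.sup r
  have hrM : ∀ T, r T ≤ M := fun T => Finset.le_sup (Finset.mem_univ T)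
  -- first index
  have hxUS : ∀ x, x ∈ US (S x) := by
    intro x; rw [hUSmem]; intro k hk; exact (hS x k).mp hk
  let first : X → ℕ := fun x => sInf {i | i < r (S x) ∧ x ∈ O (S x) i}
  have hfirst_ne : ∀ x, {i | i < r (S x) ∧ x ∈ O (S x) i}.Nonempty := fun x => by
    obtain ⟨i, hi, hxi⟩ := hO3 (S x) x (hxUS x); exact ⟨i, hi, hxi⟩
  have hfirst_mem : ∀ x, first x < r (S x) ∧ x ∈ O (S x) (first x) :=
    fun x => Nat.sInf_mem (hfirst_ne x)
  have hfirst_le : ∀ x i, i < r (S x) → x ∈ O (S x) i → first x ≤ i :=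
    fun x i h1 h2 => Nat.sInf_le ⟨h1, h2⟩
  have hfirstM : ∀ x, first x ≤ M := fun x => ((hfirst_mem x).1.trans_le (hrM _)).le
  -- rank
  have : Fintype (Colex (Finset (Fin m))) := Fintype.ofEquiv _ toColex
  let ρ : X → Lex (Colex (Finset (Fin m)) × Fin (M + 1)) := fun x =>
    toLex (toColex (S x), ⟨M - first x, Nat.lt_succ_of_le (Nat.sub_le _ _)⟩)
  have hρ : ∀ x y, ρ x = ρ y ↔ S x = S y ∧ first x = first y := by
    intro x y
    constructor
    · intro h
      have h' := toLex.injective h
      rw [Prod.mk.injEq] at h'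
      obtain ⟨h1, h2⟩ := h'
      have h1' : S x = S y := toColex.injective h1
      have h2' : M - first x = M - first y := by simpa using congrArg Fin.val h2
      have := hfirstM x
      have := hfirstM y
      exact ⟨h1', by omega⟩
    · rintro ⟨h1, h2⟩
      simp only [ρ, h1, h2]
  apply strat_of_finite_linearOrder X _ ρ
  · apply closed_sublevel_of_local
    intro x
    refine ⟨O (S x) (first x), (O (S x) (first x)).2, (hfirst_mem x).2, fun y hy => ?_⟩
    have hyUS : y ∈ US (S x) := hO2 (S x) (first x) (hfirst_mem x).1 hy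
    have hsub : S x ⊆ S y := by
      intro k hk
      rw [hS]
      exact (hUSmem _ _).mp hyUS k hk
    rw [Prod.Lex.toLex_le_toLex]
    rcases hsub.eq_or_ssubset with heq | hss
    · right
      refine ⟨by simp only [heq], ?_⟩
      have h1 : first y ≤ first x := by
        apply hfirst_le
        · rw [← heq]; exact (hfirst_mem x).1
        · rw [← heq]; exact hy
      show (⟨M - first x, _⟩ : Fin (M + 1)) ≤ ⟨M - first y, _⟩
      rw [Fin.mk_le_mk]
      omega
    · left
      exact Finset.Colex.toColex_lt_toColex_of_ssubset hss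
  · intro c
    by_cases hne : {x | ρ x = c}.Nonempty
    · obtain ⟨x₀, hx₀⟩ := hne
      have hx₀' : ρ x₀ = c := hx₀
      let F : Set X := {x | (∀ k, k ∉ S x₀ → x ∉ U k) ∧ ∀ i', i' < first x₀ → x ∉ O (S x₀) i'}
      have hFclosed : IsClosed F := by
        have : F = (⋂ k, ⋂ (_ : k ∉ S x₀), ((U k : Set X))ᶜ) ∩
            ⋂ i', ⋂ (_ : i' < first x₀), ((O (S x₀) i' : Set X))ᶜ := by
          ext x; simp [F]
        rw [this]
        apply IsClosed.inter
        · exact isClosed_iInter fun k => isClosed_iInter fun _ => (U k).2.isClosed_compl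
        · exact isClosed_iInter fun k => isClosed_iInter fun _ => (O (S x₀) k).2.isClosed_compl
      have hset : {x | ρ x = c} = (O (S x₀) (first x₀) : Set X) ∩ F := by
        ext x
        simp only [Set.mem_ofPred_eq, Set.mem_inter_iff, SetLike.mem_coe]
        rw [← hx₀', hρ]
        constructor
        · rintro ⟨h1, h2⟩
          refine ⟨?_, ?_, ?_⟩
          · rw [← h1, ← h2]; exact (hfirst_mem x).2
          · intro k hk hxk
            rw [← h1] at hk
            exact hk ((hS x k).mpr hxk)
          · intro i' hi' hxi'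
            rw [← h2] at hi'
            rw [← h1] at hxi'
            have := hfirst_le x i' (hi'.trans (hfirst_mem x).1) hxi'
            omega
        · rintro ⟨h1, h2, h3⟩
          have hxUS : x ∈ US (S x₀) := hO2 _ _ (hfirst_mem x₀).1 h1
          have hSx : S x = S x₀ := by
            ext k
            rw [hS]
            constructor
            · intro hxk
              by_contra hk
              exact h2 k hk hxk
            · intro hk
              exact (hUSmem _ _).mp hxUS k hk
          refine ⟨hSx, ?_⟩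
          have hle : first x ≤ first x₀ := by
            apply hfirst_le
            · rw [hSx]; exact (hfirst_mem x₀).1
            · rw [hSx]; exact h1
          by_contra hne'
          have hlt : first x < first x₀ := lt_of_le_of_ne hle hne'
          have := (hfirst_mem x).2
          rw [hSx] at this
          exact h3 _ hlt this
      rw [hset]
      apply nice_of_closed_in_affine X _ (hO1 _ _ (hfirst_mem x₀).1) F hFclosed U hU hcov
      intro k
      by_cases hk : k ∈ S x₀
      · left
        intro x hx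
        have hxUS : x ∈ US (S x₀) := hO2 _ _ (hfirst_mem x₀).1 hx
        exact (hUSmem _ _).mp hxUS k hk
      · right
        ext x
        simp only [Set.mem_inter_iff, SetLike.mem_coe, Set.mem_empty_iff_false, iff_false]
        rintro ⟨⟨-, hxF⟩, hxk⟩
        exact hxF.1 k hk hxk
    · rw [Set.not_nonempty_iff_eq_empty] at hne
      rw [hne]
      exact nice_empty X U hU hcov


end Dev

open AlgebraicGeometry CategoryTheory Limits in
/-- A scheme has a finite affine stratification if and only if it is quasi-compact and quasi-separated. -/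
theorem result (X : Scheme.{u}) :
    (∃ n : ℕ, MoreMor.HasAffineStratification X n) ↔ CompactSpace ↑X ∧ QuasiSeparatedSpace ↑X := by
  constructor
  · rintro ⟨n, hn⟩
    exact qcqs_of_strat X n hn
  · rintro ⟨h1, h2⟩
    exact strat_of_qcqs X

end Groth.Agent.S1435
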