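import Groth.Statements.S0974
import Groth.Agent.Lib.Helper1BrownRep
-- import your own Groth.Agent.* helpers here

set_option autoImplicit false
universe v u
open CategoryTheory
open CohDer

namespace Groth.Agent.S0974

open Groth.Agent.Lib.Helper1.Brown

open CategoryTheory.Limits CategoryTheory.Pretriangulated.Opposite in
/-- Let D be a triangulated category with all small direct sums and E a small family of objects such
that (1) every nonzero object receives a nonzero map from some member of E, and (2) every map from a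
member of E to a countable direct sum ⨁ Xₙ factors as a map into a direct sum ⨁ Eₙ of members of E
followed by a direct sum of maps Eₙ ⟶ Xₙ. Then every cohomological functor from Dᵒᵖ to abelian
groups that turns direct sums into products is representable. -/
theorem result {D : Type u} [Category.{v} D] [Preadditive D] [Limits.HasZeroObject D] [HasShift D ℤ]
    [∀ n : ℤ, (shiftFunctor D n).Additive] [Pretriangulated D] [IsTriangulated D] [HasCoproducts.{v} D]
    [HasColimitsOfShape (Discrete ℕ) D]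
    {ι : Type v} (E : ι → D)
    (h1 : ∀ X : D, ¬ IsZero X → ∃ (i : ι) (f : E i ⟶ X), f ≠ 0)
    (h2 : ∀ (X : ℕ → D) (i : ι) (α : E i ⟶ ∐ X), ∃ (j : ℕ → ι) (β : ∀ n, E (j n) ⟶ X n)
      (γ : E i ⟶ ∐ (fun n => E (j n))), α = γ ≫ Limits.Sigma.map β)
    (H : Dᵒᵖ ⥤ AddCommGrpCat.{v}) [H.IsHomological]
    [∀ (κ : Type v), PreservesLimitsOfShape (Discrete κ) H] :
    (H ⋙ forget AddCommGrpCat.{v}).IsRepresentable := by
  have h1' : ∀ X : D, ¬ IsZero X →
      ∃ (p : ι × ℤ) (f : (fun p : ι × ℤ => (shiftFunctor D p.2).obj (E p.1)) p ⟶ X), f ≠ 0 := by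
    intro X hX
    obtain ⟨i, f, hf⟩ := h1 X hX
    refine ⟨(i, 0), (shiftFunctorZero D ℤ).hom.app (E i) ≫ f, ?_⟩
    intro h
    apply hf
    rw [← cancel_epi ((shiftFunctorZero D ℤ).hom.app (E i)), h, comp_zero]
  have hE' : Fac (fun p : ι × ℤ => (shiftFunctor D p.2).obj (E p.1)) := by
    intro X p α
    obtain ⟨j, β, γ, hγ⟩ := fac_equiv E (shiftEquiv D p.2) h2 X p.1 α
    exact ⟨fun n => (j n, p.2), β, γ, hγ⟩
  have hsh : ∀ (p : ι × ℤ) (k : ℤ), ∃ p' : ι × ℤ,
      Nonempty ((fun p : ι × ℤ => (shiftFunctor D p.2).obj (E p.1)) p' ≅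
        (shiftFunctor D k).obj ((fun p : ι × ℤ => (shiftFunctor D p.2).obj (E p.1)) p)) :=
    fun p k => ⟨(p.1, p.2 + k), ⟨(shiftFunctorAdd' D p.2 k (p.2 + k) rfl).app (E p.1)⟩⟩
  obtain ⟨X, π, hQ⟩ := core (fun p : ι × ℤ => (shiftFunctor D p.2).obj (E p.1)) h1' hE' hsh H
  exact isRepresentable_of_Q H π hQ

end Groth.Agent.S0974
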