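import Groth.Statements.S0473
import Groth.Agent.S0974
import Groth.Agent.Lib.Helper1Compact
-- import your own Groth.Agent.* helpers here

set_option autoImplicit false
universe v u
open CategoryTheory
open CohDer

namespace Groth.Agent.S0473

open Groth.Agent.Lib.Helper1.Brown Groth.Agent.Lib.Helper1.Compact

open CategoryTheory.Limits CategoryTheory.Pretriangulated.Opposite in
/-- Assume D is triangulated, has all small coproducts, and admits a set of compact objects that
generates it. Any cohomological functor from D^op to abelian groups that turns coproducts of D into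
products is of the form Hom(-, X) for some object X. -/
theorem result {D : Type u} [Category.{v} D] [Preadditive D] [Limits.HasZeroObject D] [HasShift D ℤ]
    [∀ n : ℤ, (shiftFunctor D n).Additive] [Pretriangulated D] [IsTriangulated D] [HasCoproducts.{v} D]
    (hD : CohDer.IsCompactlyGenerated D) (H : Dᵒᵖ ⥤ AddCommGrpCat.{v}) [H.IsHomological]
    [∀ (ι : Type v), PreservesLimitsOfShape (Discrete ι) H] :
    (H ⋙ forget AddCommGrpCat.{v}).IsRepresentable := by
  classical
  obtain ⟨ι, E, hc, hgen⟩ := hD
  have : HasColimitsOfShape (Discrete ℕ) D :=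
    hasColimitsOfShape_of_equivalence (Discrete.equivalence Equiv.ulift.{v, 0})
  refine Groth.Agent.S0974.result (fun p : ι × ℤ => (shiftFunctor D p.2).obj (E p.1)) ?_ ?_ H
  · intro X hX
    by_contra hcon
    push Not at hcon
    apply hX
    apply hgen
    intro i n f
    have h0 := hcon (i, -n) ((shiftFunctor D (-n)).map f ≫
      (shiftFunctorCompIsoId D n (-n) (by simp)).hom.app X)
    have h1 : (shiftFunctor D (-n)).map f = 0 := by
      have := congrArg (fun x => x ≫ (shiftFunctorCompIsoId D n (-n) (by simp)).inv.app X) h0
      simpa using this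
    apply (shiftFunctor D (-n)).map_injective
    rw [h1, Functor.map_zero]
  · intro X p α
    have hK : CohDer.IsCompactObject ((shiftFunctor D p.2).obj (E p.1)) :=
      isCompactObject_shift (hc p.1) p.2
    obtain ⟨s, hs⟩ := IsCompactObject.exists_kill_nat hK X α
    have hα := eq_sum_of_comp_kill_eq_zero X α s hs
    refine ⟨fun _ => p, fun n => if n ∈ s then α ≫ Sigma.π X n else 0,
      ∑ n ∈ s, Sigma.ι (fun _ : ℕ => (shiftFunctor D p.2).obj (E p.1)) n, ?_⟩
    rw [Preadditive.sum_comp]
    conv_lhs => rw [hα]
    refine Finset.sum_congr rfl (fun n hn => ?_)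
    rw [Sigma.ι_map, if_pos hn]

end Groth.Agent.S0473
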