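import Groth.Statements.S6153
import Mathlib
import Groth.Agent.Lib.Helper23FreeOn
-- import your own Groth.Agent.* helpers here

set_option autoImplicit false
universe u
open CategoryTheory
open ModSite

namespace Groth.Agent.S6153

section helpers
open CategoryTheory Opposite Groth.Agent.Lib

lemma iso_of_natural_equiv {𝒞 : Type*} [Category 𝒞] {A B : 𝒞} (e : ∀ M, (A ⟶ M) ≃ (B ⟶ M))
    (he : ∀ {M M' : 𝒞} (h : A ⟶ M) (p : M ⟶ M'), e M' (h ≫ p) = e M h ≫ p) :
    Nonempty (A ≅ B) := by
  refine ⟨{ hom := (e B).symm (𝟙 B), inv := e A (𝟙 A), hom_inv_id := ?_, inv_hom_id := ?_ }⟩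
  · apply (e A).injective
    rw [he, Equiv.apply_symm_apply, Category.id_comp]
  · rw [← he, Category.id_comp, Equiv.apply_symm_apply]

variable {C D : Type u} [SmallCategory C] [SmallCategory D] {J : GrothendieckTopology C}
    {K : GrothendieckTopology D} {O_C : Sheaf J CommRingCat.{u}} {O_D : Sheaf K CommRingCat.{u}}
    (f : ModSite.RMor O_C O_D)

/-- cast -/
noncomputable def toPush (M : ModSite.Mod O_C) (X : D)
    (a : M.val.obj (op (f.fn.obj X))) : (f.push.obj M).val.obj (op X) := by
  dsimp [ModSite.RMor.push, SheafOfModules.pushforward]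
  exact a

/-- inverse cast -/
noncomputable def ofPush (M : ModSite.Mod O_C) (X : D)
    (a : (f.push.obj M).val.obj (op X)) : M.val.obj (op (f.fn.obj X)) := by
  dsimp [ModSite.RMor.push, SheafOfModules.pushforward] at a
  exact a

lemma ofPush_toPush (M : ModSite.Mod O_C) (X : D) (a : M.val.obj (op (f.fn.obj X))) :
    ofPush f M X (toPush f M X a) = a := by
  dsimp [ofPush, toPush]
  try rfl

lemma toPush_ofPush (M : ModSite.Mod O_C) (X : D) (a : (f.push.obj M).val.obj (op X)) :
    toPush f M X (ofPush f M X a) = a := by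
  dsimp [ofPush, toPush]
  try rfl

lemma push_map_app {M N : ModSite.Mod O_C} (p : M ⟶ N) (X : D)
    (a : (f.push.obj M).val.obj (op X)) :
    ofPush f N X ((f.push.map p).val.app (op X) a) =
      p.val.app (op (f.fn.obj X)) (ofPush f M X a) := by
  dsimp [ModSite.RMor.push, SheafOfModules.pushforward, ofPush]
  try rfl

/-- the natural bijection -/
noncomputable def eqv (X : D) (M : ModSite.Mod O_C) :
    (f.pull.obj (ModSite.freeOn O_D X) ⟶ M) ≃ (ModSite.freeOn O_C (f.fn.obj X) ⟶ M) :=
  ((f.adj.homEquiv _ M).trans (Helper23FreeOn.homEquiv O_D (f.push.obj M) X)).trans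
    (({ toFun := ofPush f M X, invFun := toPush f M X, left_inv := toPush_ofPush f M X,
        right_inv := ofPush_toPush f M X } : _ ≃ _).trans
      (Helper23FreeOn.homEquiv O_C M (f.fn.obj X)).symm)

lemma eqv_comp (X : D) {M M' : ModSite.Mod O_C} (h : f.pull.obj (ModSite.freeOn O_D X) ⟶ M)
    (p : M ⟶ M') : eqv f X M' (h ≫ p) = eqv f X M h ≫ p := by
  simp only [eqv, Equiv.trans_apply, Equiv.coe_fn_mk]
  rw [Adjunction.homEquiv_naturality_right, Helper23FreeOn.homEquiv_comp, push_map_app,
    ← Helper23FreeOn.homEquiv_symm_comp]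

end helpers

/-- Morphisms of ringed sites between small sites with commutative structure sheaves: for a morphism of
ringed sites f : (C, O_C) -> (D, O_D) given by a functor u : D -> C and every object X of D, the
inverse image f^*(A'_X) of the free O_D-module on X is isomorphic to the free O_C-module A_{u(X)} on
u(X). Existence of an isomorphism of modules only (the source's isomorphism is the canonical one). -/
theorem result {C D : Type u} [SmallCategory C] [SmallCategory D] {J : GrothendieckTopology C}
    {K : GrothendieckTopology D} {O_C : Sheaf J CommRingCat.{u}} {O_D : Sheaf K CommRingCat.{u}}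
    (f : ModSite.RMor O_C O_D) (X : D) :
    Nonempty (f.pull.obj (ModSite.freeOn O_D X) ≅ ModSite.freeOn O_C (f.fn.obj X)) :=
  iso_of_natural_equiv (eqv f X) (fun h p => eqv_comp f X h p)

end Groth.Agent.S6153
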