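import Groth.Statements.S0984
import Groth.Agent.Lib.Helper1CompactHocolim
-- import your own Groth.Agent.* helpers here

set_option autoImplicit false
universe v u
open CategoryTheory
open DerLim

namespace Groth.Agent.S0984

open CategoryTheory.Limits CategoryTheory.Pretriangulated Groth.Agent.Lib.Helper1.Compact

section Construction

variable {D : Type u} [Category.{v} D] [Preadditive D] [Limits.HasZeroObject D] [HasShift D ℤ]
    [∀ n : ℤ, (shiftFunctor D n).Additive] [Pretriangulated D]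
    [HasCoproducts.{v} D] {ι : Type v} (E : ι → D) (X : D)

/-- a stage of the tower: an object with a map to `X` -/
structure Stage where
  obj : D
  hom : obj ⟶ X

variable {X}

/-- maps from shifts of generators to the stage which die in `X` -/
abbrev Idx (S : Stage X) : Type v :=
  Σ (i : ι) (m : ℤ), {φ : (shiftFunctor D m).obj (E i) ⟶ S.obj // φ ≫ S.hom = 0}

/-- the sum of all shifts of generators mapping to the stage and dying in `X` -/
noncomputable abbrev Y (S : Stage X) : D :=
  ∐ (fun k : Idx E S => (shiftFunctor D k.2.1).obj (E k.1))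

noncomputable def yMap (S : Stage X) : Y E S ⟶ S.obj :=
  Sigma.desc (fun k : Idx E S => k.2.2.1)

omit [HasZeroObject D] [∀ (n : ℤ), (shiftFunctor D n).Additive] [Pretriangulated D] in
lemma yMap_hom (S : Stage X) : yMap E S ≫ S.hom = 0 := by
  refine Sigma.hom_ext _ _ (fun k => ?_)
  rw [yMap, Sigma.ι_desc_assoc, comp_zero]
  exact k.2.2.2

lemma exists_next (S : Stage X) : ∃ (Z : D) (g : S.obj ⟶ Z) (h : Z ⟶ (shiftFunctor D (1 : ℤ)).obj (Y E S))
    (i' : Z ⟶ X), Triangle.mk (yMap E S) g h ∈ distTriang D ∧ g ≫ i' = S.hom := by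
  obtain ⟨Z, g, h, hT⟩ := distinguished_cocone_triangle (yMap E S)
  obtain ⟨i', hi'⟩ : ∃ i' : Z ⟶ X, S.hom = g ≫ i' :=
    Triangle.yoneda_exact₂ _ hT S.hom (yMap_hom E S)
  exact ⟨Z, g, h, i', hT, hi'.symm⟩

noncomputable def next (S : Stage X) : Stage X :=
  ⟨(exists_next E S).choose, (exists_next E S).choose_spec.choose_spec.choose_spec.choose⟩

noncomputable def trans (S : Stage X) : S.obj ⟶ (next E S).obj :=
  (exists_next E S).choose_spec.choose

noncomputable def conn (S : Stage X) : (next E S).obj ⟶ (shiftFunctor D (1 : ℤ)).obj (Y E S) :=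
  (exists_next E S).choose_spec.choose_spec.choose

lemma dist (S : Stage X) : Triangle.mk (yMap E S) (trans E S) (conn E S) ∈ distTriang D :=
  (exists_next E S).choose_spec.choose_spec.choose_spec.choose_spec.1

lemma trans_hom (S : Stage X) : trans E S ≫ (next E S).hom = S.hom :=
  (exists_next E S).choose_spec.choose_spec.choose_spec.choose_spec.2

variable (X)

/-- the initial stage: the sum of all maps from shifts of generators to `X` -/
noncomputable def stage0 : Stage X :=
  ⟨∐ (fun k : (Σ (i : ι) (m : ℤ), ((shiftFunctor D m).obj (E i) ⟶ X)) =>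
      (shiftFunctor D k.2.1).obj (E k.1)),
    Sigma.desc (fun k => k.2.2)⟩

noncomputable def stage : ℕ → Stage X
  | 0 => stage0 E X
  | n + 1 => next E (stage n)

noncomputable abbrev KK (n : ℕ) : D := (stage E X n).obj

noncomputable abbrev ff (n : ℕ) : KK E X n ⟶ KK E X (n + 1) := trans E (stage E X n)

noncomputable abbrev ii (n : ℕ) : KK E X n ⟶ X := (stage E X n).hom

end Construction

open CategoryTheory.Limits CategoryTheory.Pretriangulated in
/-- Let D be a triangulated category with all small direct sums and E a small family of compact objects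
which generates D. Every object X of D is a homotopy colimit of a sequential system X₀ → X₁ → X₂ → …
in which X₀ is a direct sum of shifts of members of E and each transition map Xₙ → Xₙ₊₁ sits in a
distinguished triangle Yₙ → Xₙ → Xₙ₊₁ → Yₙ[1] with Yₙ a direct sum of shifts of members of E. -/
theorem result {D : Type u} [Category.{v} D] [Preadditive D] [Limits.HasZeroObject D] [HasShift D ℤ]
    [∀ n : ℤ, (shiftFunctor D n).Additive] [Pretriangulated D] [IsTriangulated D] [HasCoproducts.{v} D]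
    [HasColimitsOfShape (Discrete ℕ) D]
    {ι : Type v} (E : ι → D) (hc : ∀ i, CohDer.IsCompactObject (E i)) (hg : CohDer.Generates E) (X : D) :
    ∃ (K : ℕ → D) (f : ∀ n, K n ⟶ K (n + 1)) (i : ∀ n, K n ⟶ X),
      DerLim.IsHocolim K f X i ∧
      (∃ (κ : Type v) (a : κ → ι) (m : κ → ℤ), Nonempty (K 0 ≅ ∐ (fun k => (shiftFunctor D (m k)).obj (E (a k))))) ∧
      ∀ n, ∃ (κ : Type v) (a : κ → ι) (m : κ → ℤ) (y : (∐ fun k => (shiftFunctor D (m k)).obj (E (a k))) ⟶ K n)
        (z : K (n + 1) ⟶ (shiftFunctor D (1 : ℤ)).obj (∐ fun k => (shiftFunctor D (m k)).obj (E (a k)))),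
        Triangle.mk y (f n) z ∈ distinguishedTriangles := by
  classical
  have hfi : ∀ n, ff E X n ≫ ii E X (n + 1) = ii E X n := fun n => trans_hom E (stage E X n)
  refine ⟨KK E X, ff E X, ii E X, ?_, ⟨(Σ (i : ι) (m : ℤ), ((shiftFunctor D m).obj (E i) ⟶ X)),
      fun k => k.1, fun k => k.2.1, ⟨Iso.refl _⟩⟩,
    fun n => ⟨Idx E (stage E X n), fun k => k.1, fun k => k.2.1, yMap E (stage E X n),
      conn E (stage E X n), dist E (stage E X n)⟩⟩
  -- the homotopy colimit
  obtain ⟨L, p, c, hT⟩ := distinguished_cocone_triangle (𝟙 (∐ KK E X) - DerLim.shiftMap (KK E X) (ff E X))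
  have h0 : (𝟙 (∐ KK E X) - DerLim.shiftMap (KK E X) (ff E X)) ≫ Sigma.desc (ii E X) = 0 := by
    refine Sigma.hom_ext _ _ (fun n => ?_)
    rw [Preadditive.sub_comp, Preadditive.comp_sub, Category.id_comp, comp_zero,
      Groth.Agent.Lib.Helper1.ι_shiftMap_assoc, Sigma.ι_desc, Sigma.ι_desc, hfi, sub_self]
  obtain ⟨lam, hlam⟩ : ∃ lam : L ⟶ X, Sigma.desc (ii E X) = p ≫ lam :=
    Triangle.yoneda_exact₂ _ hT (Sigma.desc (ii E X)) h0
  have hιlam : ∀ n, Sigma.ι (KK E X) n ≫ p ≫ lam = ii E X n := fun n => by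
    rw [← hlam, Sigma.ι_desc]
  have hiso : IsIso lam := by
    refine isIso_of_bijective_on (shiftsOf E) (isZero_of_generates E hg) lam ?_ ?_
    · -- injectivity
      rintro T hT𝒯 a ha
      have hTc := isCompactObject_of_shiftsOf E hc hT𝒯
      obtain ⟨n, tn, htn⟩ := exists_lift_of_isCompactObject hT hTc a
      have h1 : tn ≫ ii E X n = 0 := by
        rw [← hιlam n, ← Category.assoc, ← Category.assoc, Category.assoc tn, ← htn, ha]
      obtain ⟨j, m, ⟨e⟩⟩ := hT𝒯
      let k : Idx E (stage E X n) := ⟨j, m, ⟨e.inv ≫ tn, by rw [Category.assoc]; erw [h1]; rw [comp_zero]⟩⟩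
      have h2 : tn = e.hom ≫ Sigma.ι (fun k : Idx E (stage E X n) => (shiftFunctor D k.2.1).obj (E k.1)) k ≫
          yMap E (stage E X n) := by
        rw [yMap, Sigma.ι_desc]
        change tn = e.hom ≫ e.inv ≫ tn
        rw [e.hom_inv_id_assoc]
      have h3 : yMap E (stage E X n) ≫ ff E X n = 0 := comp_distTriang_mor_zero₁₂ _ (dist E (stage E X n))
      have h4 : tn ≫ ff E X n = 0 := by
        rw [h2, Category.assoc, Category.assoc, h3, comp_zero, comp_zero]
      rw [htn, ι_comp_p hT n, ← Category.assoc, h4, zero_comp]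
    · -- surjectivity
      rintro T ⟨j, m, ⟨e⟩⟩ b
      have key : ∃ a0 : (shiftFunctor D m).obj (E j) ⟶ KK E X 0, a0 ≫ ii E X 0 = e.inv ≫ b := by
        let k : (Σ (i : ι) (m : ℤ), ((shiftFunctor D m).obj (E i) ⟶ X)) := ⟨j, m, e.inv ≫ b⟩
        refine ⟨Sigma.ι (fun k : (Σ (i : ι) (m : ℤ), ((shiftFunctor D m).obj (E i) ⟶ X)) =>
          (shiftFunctor D k.2.1).obj (E k.1)) k, ?_⟩
        change Sigma.ι _ k ≫ Sigma.desc (fun k => k.2.2) = _
        rw [Sigma.ι_desc]
      obtain ⟨a0, ha0⟩ := key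
      refine ⟨e.hom ≫ a0 ≫ Sigma.ι (KK E X) 0 ≫ p, ?_⟩
      simp only [Category.assoc]
      rw [hιlam 0, ha0, e.hom_inv_id_assoc]
  refine ⟨inv lam ≫ c, ?_⟩
  refine isomorphic_distinguished _ hT _ (Triangle.isoMk _ _ (Iso.refl _) (Iso.refl _)
    (asIso lam).symm ?_ ?_ ?_)
  · change (𝟙 (∐ KK E X) - DerLim.shiftMap (KK E X) (ff E X)) ≫ 𝟙 _ =
      𝟙 _ ≫ (𝟙 (∐ KK E X) - DerLim.shiftMap (KK E X) (ff E X))
    rw [Category.comp_id, Category.id_comp]
  · change Sigma.desc (ii E X) ≫ inv lam = 𝟙 _ ≫ p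
    rw [hlam, Category.assoc, IsIso.hom_inv_id, Category.comp_id, Category.id_comp]
  · change (inv lam ≫ c) ≫ (shiftFunctor D (1 : ℤ)).map (𝟙 _) = inv lam ≫ c
    rw [CategoryTheory.Functor.map_id, Category.comp_id]

end Groth.Agent.S0984
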