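import Groth.Statements.S1076
import Groth.Agent.Lib.Helper1Compact
import Mathlib.CategoryTheory.Triangulated.Generators
-- import your own Groth.Agent.* helpers here

set_option autoImplicit false
universe v u
open CategoryTheory
open DerLim

namespace Groth.Agent.S1076

open CategoryTheory.Limits CategoryTheory.Pretriangulated Groth.Agent.Lib.Helper1.Compact

section

variable {D : Type u} [Category.{v} D] [Preadditive D] [Limits.HasZeroObject D] [HasShift D ℤ]
    [∀ n : ℤ, (shiftFunctor D n).Additive] [Pretriangulated D]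
    [HasCoproducts.{v} D] {ι : Type v} (E : ι → D)

/-- the generating property attached to a finite set of indices (always containing `i₀`) -/
def gen (i₀ : ι) (s : Finset ι) : ObjectProperty D :=
  open Classical in fun Y => ∃ i ∈ insert i₀ s, Y = E i

instance (i₀ : ι) (s : Finset ι) : (gen E i₀ s).Nonempty := by
  classical
  exact ⟨E i₀, i₀, Finset.mem_insert_self i₀ s, rfl⟩

/-- envelope of finitely many generators, intersected with the compact objects -/
def Q (i₀ : ι) (s : Finset ι) : ObjectProperty D :=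
  (gen E i₀ s).triangEnvelope ⊓ (fun K : D => CohDer.IsCompactObject K)

instance [IsTriangulated D] (i₀ : ι) (s : Finset ι) : (Q E i₀ s).IsTriangulated := by
  unfold Q; infer_instance

instance (i₀ : ι) (s : Finset ι) : (Q E i₀ s).IsClosedUnderIsomorphisms := by
  unfold Q; infer_instance

lemma Q_mono (i₀ : ι) {s t : Finset ι} (h : s ⊆ t) : Q E i₀ s ≤ Q E i₀ t := by
  classical
  refine inf_le_inf (ObjectProperty.monotone_triangEnvelope ?_) le_rfl
  rintro Y ⟨i, hi, rfl⟩
  exact ⟨i, Finset.insert_subset_insert i₀ h hi, rfl⟩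

lemma Q_shift_gen (hc : ∀ i, CohDer.IsCompactObject (E i)) (i₀ : ι) (s : Finset ι) (i : ι)
    (hi : i ∈ s) (m : ℤ) : Q E i₀ s ((shiftFunctor D m).obj (E i)) := by
  classical
  refine ⟨?_, isCompactObject_shift (hc i) m⟩
  exact (gen E i₀ s).triangEnvelope.le_shift m _
    ((gen E i₀ s).le_triangEnvelope _ ⟨i, Finset.mem_insert_of_mem hi, rfl⟩)

end

open CategoryTheory.Limits CategoryTheory.Pretriangulated in
/-- Let D be a triangulated category with all small direct sums and E a small nonempty family of compact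
objects (nonempty so that the envelope of a finite subfamily can contain a zero object). Let X₀ → X₁
→ … be a sequential system in which X₀ is a direct sum of shifts of members of E and each Xₙ → Xₙ₊₁
sits in a distinguished triangle Yₙ → Xₙ → Xₙ₊₁ → Yₙ[1] with Yₙ a direct sum of shifts of members of
E. Then every morphism from a compact object C to some Xₙ factors through an object of the
triangulated envelope (closure under shifts, finite sums, summands and extensions) of finitely many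
members of E. -/
theorem result {D : Type u} [Category.{v} D] [Preadditive D] [Limits.HasZeroObject D] [HasShift D ℤ]
    [∀ n : ℤ, (shiftFunctor D n).Additive] [Pretriangulated D] [IsTriangulated D] [HasCoproducts.{v} D]
    {ι : Type v} [Nonempty ι] (E : ι → D) (hc : ∀ i, CohDer.IsCompactObject (E i))
    (K : ℕ → D) (f : ∀ n, K n ⟶ K (n + 1))
    (h0 : ∃ (κ : Type v) (a : κ → ι) (m : κ → ℤ), Nonempty (K 0 ≅ ∐ (fun k => (shiftFunctor D (m k)).obj (E (a k)))))
    (hstep : ∀ n, ∃ (κ : Type v) (a : κ → ι) (m : κ → ℤ) (y : (∐ fun k => (shiftFunctor D (m k)).obj (E (a k))) ⟶ K n)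
      (z : K (n + 1) ⟶ (shiftFunctor D (1 : ℤ)).obj (∐ fun k => (shiftFunctor D (m k)).obj (E (a k)))),
      Triangle.mk y (f n) z ∈ distinguishedTriangles)
    (C : D) (hC : CohDer.IsCompactObject C) (n : ℕ) (φ : C ⟶ K n) :
    ∃ (s : Finset ι) (E' : D) (g : C ⟶ E') (h : E' ⟶ K n),
      ObjectProperty.triangEnvelope (fun Y : D => ∃ i ∈ s, Y = E i) E' ∧ g ≫ h = φ := by
  classical
  let i₀ : ι := Classical.arbitrary ι
  suffices key : ∀ (n : ℕ) (C : D) (_ : CohDer.IsCompactObject C) (φ : C ⟶ K n),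
      ∃ (s : Finset ι) (E' : D) (g : C ⟶ E') (h : E' ⟶ K n), Q E i₀ s E' ∧ g ≫ h = φ by
    obtain ⟨s, E', g, h, hE', hgh⟩ := key n C hC φ
    exact ⟨insert i₀ s, E', g, h, hE'.1, hgh⟩
  intro n
  induction n with
  | zero =>
    intro C hC φ
    obtain ⟨κ, a, m, ⟨e⟩⟩ := h0
    obtain ⟨t, ht⟩ := exists_factor_of_isCompactObject hC
      (fun k => (shiftFunctor D (m k)).obj (E (a k))) (φ ≫ e.hom)
    obtain ⟨E', g, h, hE', hgh⟩ := ht (Q E i₀ (t.image a))
      (fun k hk => Q_shift_gen E hc i₀ _ (a k) (Finset.mem_image_of_mem a hk) (m k))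
    exact ⟨t.image a, E', g, h ≫ e.inv, hE', by rw [← Category.assoc, hgh, Category.assoc,
      e.hom_inv_id, Category.comp_id]⟩
  | succ n ih =>
    intro C hC φ
    obtain ⟨κ, a, m, y, z, hT⟩ := hstep n
    have adj : shiftFunctor D (-1 : ℤ) ⊣ shiftFunctor D (1 : ℤ) :=
      (shiftEquiv' D (-1 : ℤ) 1 (by norm_num)).toAdjunction
    have h0adj : ∀ (A B : D), adj.homEquiv A B 0 = 0 := by
      intro A B
      rw [Adjunction.homEquiv_unit, Functor.map_zero, comp_zero]
    let ψ := (adj.homEquiv C _).symm (φ ≫ z)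
    have hCm : CohDer.IsCompactObject ((shiftFunctor D (-1 : ℤ)).obj C) :=
      isCompactObject_shift hC (-1)
    obtain ⟨t, ht⟩ := exists_factor_of_isCompactObject hCm
      (fun k => (shiftFunctor D (m k)).obj (E (a k))) ψ
    obtain ⟨E'', g₁, j, hE'', hg₁j⟩ := ht (Q E i₀ (t.image a))
      (fun k hk => Q_shift_gen E hc i₀ _ (a k) (Finset.mem_image_of_mem a hk) (m k))
    have hzy : z ≫ (shiftFunctor D (1 : ℤ)).map y = 0 := comp_distTriang_mor_zero₃₁ _ hT
    have hψy : ψ ≫ y = 0 := by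
      apply (adj.homEquiv _ _).injective
      rw [Adjunction.homEquiv_naturality_right, Equiv.apply_symm_apply, h0adj]
      rw [Category.assoc, hzy, comp_zero]
    -- first auxiliary triangle
    obtain ⟨Q₁, q, r, hT₁⟩ := distinguished_cocone_triangle g₁
    have hQ₁ : CohDer.IsCompactObject Q₁ :=
      ObjectProperty.ext_of_isTriangulatedClosed₃ (fun K : D => CohDer.IsCompactObject K) _ hT₁
        hCm hE''.2
    obtain ⟨w, hw⟩ : ∃ w : Q₁ ⟶ K n, j ≫ y = q ≫ w := Triangle.yoneda_exact₂ _ hT₁ (j ≫ y)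
      (by change g₁ ≫ j ≫ y = 0; rw [← Category.assoc, hg₁j, hψy])
    obtain ⟨s₂, E₂, g₂, h₂, hE₂, hg₂h₂⟩ := ih Q₁ hQ₁ w
    have hg₁q : g₁ ≫ q = 0 := comp_distTriang_mor_zero₁₂ _ hT₁
    -- second triangle
    obtain ⟨E₃, β, δ, hT₂⟩ := distinguished_cocone_triangle (q ≫ g₂)
    have hE₃ : Q E i₀ (t.image a ∪ s₂) E₃ :=
      ObjectProperty.ext_of_isTriangulatedClosed₃ (Q E i₀ (t.image a ∪ s₂)) _ hT₂
        (Q_mono E i₀ Finset.subset_union_left _ hE'') (Q_mono E i₀ Finset.subset_union_right _ hE₂)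
    obtain ⟨e, he₁, he₂⟩ : ∃ e : E₃ ⟶ K (n + 1), β ≫ e = h₂ ≫ f n ∧
        δ ≫ (shiftFunctor D (1 : ℤ)).map j = e ≫ z :=
      complete_distinguished_triangle_morphism _ _ hT₂ hT j h₂
        (by change (q ≫ g₂) ≫ h₂ = j ≫ y; rw [Category.assoc, hg₂h₂, hw])
    let γ := adj.homEquiv C E'' g₁
    have hγα : γ ≫ (shiftFunctor D (1 : ℤ)).map (q ≫ g₂) = 0 := by
      have := Adjunction.homEquiv_naturality_right adj g₁ (q ≫ g₂)
      rw [← Category.assoc, hg₁q, zero_comp, h0adj] at this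
      exact this.symm
    obtain ⟨γ', hγ'⟩ : ∃ γ' : C ⟶ E₃, γ = γ' ≫ δ := Triangle.coyoneda_exact₁ _ hT₂ γ hγα
    have hφz : φ ≫ z = γ ≫ (shiftFunctor D (1 : ℤ)).map j := by
      have h1 : adj.homEquiv C _ ψ = φ ≫ z := Equiv.apply_symm_apply _ _
      rw [← h1, ← hg₁j]
      exact Adjunction.homEquiv_naturality_right adj g₁ j
    obtain ⟨ψ', hψ'⟩ : ∃ ψ' : C ⟶ K n, φ - γ' ≫ e = ψ' ≫ f n :=
      Triangle.coyoneda_exact₃ _ hT (φ - γ' ≫ e) (by
        change (φ - γ' ≫ e) ≫ z = 0
        rw [Preadditive.sub_comp, hφz, hγ', Category.assoc, Category.assoc, he₂, sub_self])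
    obtain ⟨s₃, E₄, g₄, h₄, hE₄, hg₄h₄⟩ := ih C hC ψ'
    refine ⟨(t.image a ∪ s₂) ∪ s₃, E₃ ⊞ E₄, biprod.lift γ' g₄, biprod.desc e (h₄ ≫ f n),
      prop_biprod _ (Q_mono E i₀ Finset.subset_union_left _ hE₃)
        (Q_mono E i₀ Finset.subset_union_right _ hE₄), ?_⟩
    rw [biprod.lift_desc, ← Category.assoc, hg₄h₄, ← hψ']
    abel

end Groth.Agent.S1076
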