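import Groth.Statements.S0978
import Groth.Agent.Lib.Helper1CompactHocolim
import Groth.Agent.S0984
import Groth.Agent.S1076
-- import your own Groth.Agent.* helpers here

set_option autoImplicit false
universe v u
open CategoryTheory
open CohDer

namespace Groth.Agent.S0978

open CategoryTheory.Limits CategoryTheory.Pretriangulated Groth.Agent.Lib.Helper1.Compact ZeroObject

set_option linter.unusedSectionVars false

section

variable {D : Type u} [Category.{v} D] [Preadditive D] [Limits.HasZeroObject D] [HasShift D ℤ]
    [∀ n : ℤ, (shiftFunctor D n).Additive] [Pretriangulated D]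

/-- objects all of whose maps to all shifts of `K` vanish -/
def orth (K : D) : ObjectProperty D := fun T => ∀ (n : ℤ) (f : T ⟶ (shiftFunctor D n).obj K), f = 0

lemma orth_shift (K : D) {T : D} (hT : orth K T) (a : ℤ) : orth K ((shiftFunctor D a).obj T) := by
  intro n f
  have adj : shiftFunctor D a ⊣ shiftFunctor D (-a) :=
    (shiftEquiv' D a (-a) (by simp)).toAdjunction
  have h0 : adj.homEquiv T ((shiftFunctor D n).obj K) 0 = 0 := by
    rw [Adjunction.homEquiv_unit, Functor.map_zero, comp_zero]
  apply (adj.homEquiv _ _).injective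
  rw [h0]
  let e : (shiftFunctor D (-a)).obj ((shiftFunctor D n).obj K) ≅ (shiftFunctor D (n + -a)).obj K :=
    ((shiftFunctorAdd D n (-a)).app K).symm
  have h1 := hT (n + -a) (adj.homEquiv _ _ f ≫ e.hom)
  have : adj.homEquiv _ _ f = (adj.homEquiv _ _ f ≫ e.hom) ≫ e.inv := by
    rw [Category.assoc, e.hom_inv_id, Category.comp_id]
  rw [this, h1, zero_comp]

instance (K : D) : (orth K).IsTriangulated where
  exists_zero := ⟨0, isZero_zero D, fun n f => (isZero_zero D).eq_of_src _ _⟩
  isStableUnderShiftBy a := ⟨fun _ hT => orth_shift K hT a⟩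
  ext₂' T hT h₁ h₃ := by
    refine ObjectProperty.le_isoClosure _ _ ?_
    intro n f
    obtain ⟨g, hg⟩ := Triangle.yoneda_exact₂ T hT f (h₁ n _)
    rw [hg, h₃ n g, comp_zero]

instance (K : D) : (orth K).IsStableUnderRetracts where
  of_retract r hT := by
    intro n f
    have : f = r.i ≫ r.r ≫ f := by rw [← Category.assoc, r.retract, Category.id_comp]
    rw [this, hT n (r.r ≫ f), comp_zero]

end

open CategoryTheory.Limits in
/-- Let D be a triangulated category with all small direct sums and E a compact object. Then E generates
D (an object admitting only zero maps from all shifts of E is zero) if and only if D is compactly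
generated and every compact object lies in the triangulated envelope of E (objects reachable from E
by shifts, finite sums, direct summands and extensions). -/
theorem result {D : Type u} [Category.{v} D] [Preadditive D] [Limits.HasZeroObject D] [HasShift D ℤ]
    [∀ n : ℤ, (shiftFunctor D n).Additive] [Pretriangulated D] [IsTriangulated D] [HasCoproducts.{v} D]
    [HasColimitsOfShape (Discrete ℕ) D]
    (E : D) (hE : CohDer.IsCompactObject E) :
    CohDer.Generates (fun _ : Unit => E) ↔
      (CohDer.IsCompactlyGenerated D ∧ ∀ X : D, CohDer.IsCompactObject X → ObjectProperty.triangEnvelope (fun Y : D => Y = E) X) := by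
  constructor
  · intro hgen
    have hgen' : CohDer.Generates (fun _ : PUnit.{v + 1} => E) := by
      intro K hK
      exact hgen K (fun _ n f => hK PUnit.unit n f)
    refine ⟨⟨PUnit.{v + 1}, fun _ => E, fun _ => hE, hgen'⟩, fun X hX => ?_⟩
    obtain ⟨K, f, i, hhocolim, h0, hstep⟩ :=
      Groth.Agent.S0984.result (fun _ : PUnit.{v + 1} => E) (fun _ => hE) hgen' X
    obtain ⟨n, tn, htn⟩ := IsHocolim.exists_lift hhocolim hX (𝟙 X)
    obtain ⟨s, E', g, h, hE', hgh⟩ :=
      Groth.Agent.S1076.result (fun _ : PUnit.{v + 1} => E) (fun _ => hE) K f h0 hstep X hX n tn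
    have hE'' : ObjectProperty.triangEnvelope (fun Y : D => Y = E) E' := by
      refine ObjectProperty.monotone_triangEnvelope ?_ _ hE'
      rintro Y ⟨_, _, rfl⟩
      rfl
    refine ObjectProperty.prop_of_retract (P := ObjectProperty.triangEnvelope (fun Y : D => Y = E))
      ⟨g, h ≫ i n, ?_⟩ hE''
    rw [← Category.assoc, hgh, ← htn]
  · rintro ⟨⟨ι, E', hc', hg'⟩, henv⟩
    intro K hK
    apply hg'
    have hle : ObjectProperty.triangEnvelope (fun Y : D => Y = E) ≤ orth K := by
      rw [ObjectProperty.triangEnvelope_le_iff]
      rintro Y rfl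
      exact fun n f => hK () n f
    intro j n f
    exact hle _ (henv _ (hc' j)) n f

end Groth.Agent.S0978
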