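import Groth.Statements.S0015
import Mathlib.AlgebraicGeometry.Morphisms.Affine
import Mathlib.AlgebraicGeometry.Morphisms.QuasiSeparated
-- import your own Groth.Agent.* helpers here

set_option autoImplicit false
universe u
open Coherent

namespace Groth.Agent.S0015

open AlgebraicGeometry CategoryTheory in
theorem inf_affine_of_le {X : Scheme.{u}} {V W₁ W₂ : X.Opens} (hV : IsAffineOpen V)
    (h₁ : IsAffineOpen W₁) (h₂ : IsAffineOpen W₂) (l₁ : W₁ ≤ V) (l₂ : W₂ ≤ V) :
    IsAffineOpen (W₁ ⊓ W₂) := by
  have : IsAffineHom (Limits.pullback.diagonal (𝟙 X)) := inferInstance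
  exact (isAffineHom_diagonal_iff (f := 𝟙 X)).mp this V hV W₁ (by simpa using l₁) W₂
    (by simpa using l₂) h₁ h₂

open AlgebraicGeometry in
theorem stepA (X : Scheme.{u}) (P : X.Opens → Prop) (h₁ : ∀ U : X.Opens, IsAffineOpen U → P U)
    (h₂ : ∀ U V : X.Opens, IsCompact (U : Set X) → IsAffineOpen V → P U → P V → P (U ⊓ V) →
      P (U ⊔ V)) (V : X.Opens) (hV : IsAffineOpen V) :
    ∀ n : ℕ, ∀ s : Finset X.Opens, s.card ≤ n → (∀ W ∈ s, IsAffineOpen W ∧ W ≤ V) →
      P (s.sup id) := by
  classical
  intro n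
  induction n with
  | zero =>
    intro s hs _
    have : s = ∅ := Finset.card_eq_zero.mp (Nat.le_zero.mp hs)
    subst this
    simpa using h₁ ⊥ (isAffineOpen_bot X)
  | succ n ih =>
    intro s hs hW
    rcases s.eq_empty_or_nonempty with rfl | ⟨W, hWs⟩
    · simpa using h₁ ⊥ (isAffineOpen_bot X)
    · obtain ⟨s', hWs', rfl⟩ : ∃ s', W ∉ s' ∧ s = insert W s' :=
        ⟨s.erase W, Finset.notMem_erase W s, (Finset.insert_erase hWs).symm⟩
      have hcard : s'.card ≤ n := by
        rw [Finset.card_insert_of_notMem hWs'] at hs; omega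
      have hW' : ∀ W' ∈ s', IsAffineOpen W' ∧ W' ≤ V := fun W' h => hW W' (Finset.mem_insert_of_mem h)
      have hWV := hW W (Finset.mem_insert_self W s')
      have hcomp : IsCompact ((s'.sup id : X.Opens) : Set X) := by
        have : ((s'.sup id : X.Opens) : Set X) = ⋃ i ∈ s', (i : Set X) := by
          ext x; simp [Finset.sup_eq_iSup]
        rw [this]
        exact s'.isCompact_biUnion fun i hi => (hW' i hi).1.isCompact
      have hinf : (s'.sup id) ⊓ W = (s'.image (· ⊓ W)).sup id := by
        rw [Finset.sup_image, Finset.sup_inf_distrib_right]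
        rfl
      have h3 : P ((s'.sup id) ⊓ W) := by
        rw [hinf]
        refine ih _ (Finset.card_image_le.trans hcard) ?_
        intro W'' hW''
        obtain ⟨W', hW's, rfl⟩ := Finset.mem_image.mp hW''
        exact ⟨inf_affine_of_le hV (hW' W' hW's).1 hWV.1 (hW' W' hW's).2 hWV.2,
          inf_le_right.trans hWV.2⟩
      have := h₂ (s'.sup id) W hcomp hWV.1 (ih s' hcard hW') (h₁ W hWV.1) h3
      rwa [Finset.sup_insert, id, sup_comm]

open AlgebraicGeometry in
/-- Let X be quasi-compact and quasi-separated and P a property of opens of X. If P holds for affine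
opens, and P(U ∪ V) follows from P(U), P(V), P(U ∩ V) whenever U is quasi-compact open and V affine
open, then P holds for every quasi-compact open, in particular for X. -/
theorem result (X : Scheme.{u}) [CompactSpace X] [QuasiSeparatedSpace X]
    (P : X.Opens → Prop) (h₁ : ∀ U : X.Opens, IsAffineOpen U → P U)
    (h₂ : ∀ U V : X.Opens, IsCompact (U : Set X) → IsAffineOpen V → P U → P V → P (U ⊓ V) →
      P (U ⊔ V))
    (U : X.Opens) (hU : IsCompact (U : Set X)) : P U := by
  classical
  have keyA : ∀ V : X.Opens, IsAffineOpen V → ∀ W : X.Opens, IsCompact (W : Set X) → W ≤ V →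
      P W := by
    intro V hV W hW hWV
    obtain ⟨t, ht, rfl⟩ := isCompact_iff_finite_and_eq_biUnion_affineOpens.mp hW
    have hfin : (Subtype.val '' t : Set X.Opens).Finite := ht.image _
    have := stepA X P h₁ h₂ V hV hfin.toFinset.card hfin.toFinset le_rfl (by
      intro W' hW'
      rw [Set.Finite.mem_toFinset] at hW'
      obtain ⟨i, hi, rfl⟩ := hW'
      exact ⟨i.2, (le_iSup₂ (f := fun (i : X.affineOpens) (_ : i ∈ t) => (i : X.Opens)) i hi).trans hWV⟩)
    convert this using 1
    rw [Finset.sup_eq_iSup]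
    simp only [Set.Finite.mem_toFinset, id]
    rw [iSup_image]
  refine compact_open_induction_on U hU (h₁ ⊥ (isAffineOpen_bot X)) ?_
  intro S hS W hPS
  refine h₂ S W hS W.2 hPS (h₁ W W.2) (keyA W W.2 (S ⊓ W) ?_ inf_le_right)
  exact QuasiSeparatedSpace.inter_isCompact _ _ S.2 hS W.1.2 W.2.isCompact

end Groth.Agent.S0015
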