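import Groth.Statements.S0997
import Groth.Agent.Lib.Helper17TildeD4

set_option autoImplicit false
universe u
open CategoryTheory CategoryTheory.Limits AlgebraicGeometry
attribute [local instance] HasDerivedCategory.standard
open Perf

namespace Groth.Agent.S0997

/-- The equivalence D(A) ≃ D_QCoh(O_X) for X = Spec A: assuming the tilde functor M ↦ M~ is recorded as
left exact, the induced functor D(A) ⥤ D(O_{Spec A}) is full and faithful, and an object of
D(O_{Spec A}) has quasi-coherent cohomology sheaves if and only if it is in the essential image. -/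
theorem result (R : CommRingCat.{u}) [PreservesFiniteLimits (tilde.functor R)] :
    (DCoh.tildeD R).Full ∧ (DCoh.tildeD R).Faithful ∧
    ∀ K : DCoh.D (Spec (CommRingCat.of R)), DCoh.IsQCohD K ↔ ∃ M, Nonempty ((DCoh.tildeD R).obj M ≅ K) := by
  obtain ⟨RG, adj, h1, h2⟩ := Groth.Agent.Lib.Helper17.TildeD.tildeD_main R
  haveI : IsIso adj.unit := by
    haveI : ∀ Y, IsIso (adj.unit.app Y) := fun Y => (h1 Y).2
    exact NatIso.isIso_of_isIso_app _
  refine ⟨(adj.fullyFaithfulLOfIsIsoUnit).full, (adj.fullyFaithfulLOfIsIsoUnit).faithful,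
    fun K => ⟨fun hK => ?_, ?_⟩⟩
  · haveI := h2 K hK
    exact ⟨RG.obj K, ⟨asIso (adj.counit.app K)⟩⟩
  · rintro ⟨M, ⟨e⟩⟩
    intro i
    have h : (SheafOfModules.isQuasicoherent (Spec (CommRingCat.of R)).ringCatSheaf)
        (DCoh.HD ((DCoh.tildeD R).obj M) i) := (h1 M).1 i
    exact (SheafOfModules.isQuasicoherent (Spec (CommRingCat.of R)).ringCatSheaf).prop_of_iso
      ((DerivedCategory.homologyFunctor (Spec (CommRingCat.of R)).Modules i).mapIso e) h

end Groth.Agent.S0997
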