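import Groth.Statements.S11168
import Groth.Agent.Lib.Helper17Hull2
-- import your own Groth.Agent.* helpers here

set_option autoImplicit false
universe v u
open CategoryTheory CategoryTheory.Limits
open CohDer ZeroObject

namespace Groth.Agent.S11168

/-- Let A be an abelian category and P a class of objects of A such that (i) every object admits a
monomorphism into an object of P; (ii) in a short exact sequence 0 → X → Y → Z → 0 with X in P, Y
lies in P if and only if Z does; (iii) for some n ≥ 1, whenever X⁰ → X¹ → ⋯ → Xⁿ → 0 is exact (a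
cochain complex indexed by ℕ, exact in degrees 1, …, n, zero beyond degree n, with surjective last
differential) and X⁰, …, Xⁿ⁻¹ lie in P, then Xⁿ lies in P. Then every cochain complex of objects of
A admits a quasi-isomorphism into a cochain complex whose terms all lie in P. -/
theorem result {A : Type u} [Category.{v} A] [Abelian A]
    (P : ObjectProperty A)
    (h1 : ∀ X : A, ∃ (Y : A) (i : X ⟶ Y), P Y ∧ Mono i)
    (h2 : ∀ S : ShortComplex A, S.ShortExact → P S.X₁ → (P S.X₂ ↔ P S.X₃))
    (n : ℕ) (hn : 1 ≤ n)
    (h3 : ∀ K : CochainComplex A ℕ, (∀ i : ℕ, 1 ≤ i → i ≤ n → K.ExactAt i) → (∀ i : ℕ, n < i → IsZero (K.X i)) →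
      Epi (K.d (n - 1) n) → (∀ i : ℕ, i < n → P (K.X i)) → P (K.X n))
    (X : CochainComplex A ℤ) :
    ∃ (I : CochainComplex A ℤ) (f : X ⟶ I), QuasiIso f ∧ ∀ k : ℤ, P (I.X k) := by
  obtain ⟨n', rfl⟩ : ∃ n', n = n' + 1 := ⟨n - 1, by omega⟩
  have hP0 : P (0 : A) := by
    obtain ⟨Y, i, hY, _⟩ := h1 (0 : A)
    let S : ShortComplex A := ShortComplex.mk (𝟙 Y) (0 : Y ⟶ 0) (by simp)
    have hS : S.ShortExact := by
      refine ShortComplex.Splitting.shortExact (S := S) ?_
      exact
        { r := 𝟙 Y
          s := 0
          f_r := by simp [S]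
          s_g := (isZero_zero A).eq_of_src _ _
          id := by simp [S] }
    exact (h2 S hS hY).1 hY
  have hiso : ∀ X Y : A, (X ≅ Y) → P X → P Y := by
    intro X Y e hX
    let S : ShortComplex A := ShortComplex.mk (0 : (0 : A) ⟶ X) e.hom (by simp)
    have hS : S.ShortExact := by
      refine ShortComplex.Splitting.shortExact (S := S) ?_
      exact
        { r := 0
          s := e.inv
          f_r := (isZero_zero A).eq_of_src _ _
          s_g := by simp [S]
          id := by simp [S] }
    exact (h2 S hS hP0).1 hX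
  have hzero : ∀ X : A, IsZero X → P X := fun X hX => hiso _ _ hX.isoZero.symm hP0
  have hext : ∀ S : ShortComplex A, S.ShortExact → P S.X₁ → P S.X₃ → P S.X₂ :=
    fun S hS h1' h3' => (h2 S hS h1').2 h3'
  exact Groth.Agent.Lib.Helper17.Hull.exists_quasiIso_to_class (fun X => P X) h1 hzero hiso hext n'
    (fun K a b c d => h3 K a b (by simpa using c) d) X

end Groth.Agent.S11168
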