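import Groth.Statements.S1040
import Mathlib
import Groth.Agent.Lib.Helper1DCoprodH
import Groth.Agent.Lib.Helper23QCohAbelian
import Groth.Agent.Lib.Helper21ModTensor3
-- import your own Groth.Agent.* helpers here

set_option autoImplicit false
universe u
open CategoryTheory CategoryTheory.Limits AlgebraicGeometry
attribute [local instance] HasDerivedCategory.standard
open Perf

namespace Groth.Agent.S1040

/-- Let X be a scheme and Kᵢ a family of objects of D(O_X) with quasi-coherent cohomology sheaves,
indexed by a small type, whose direct sum exists in D(O_X). Then ∐ Kᵢ has quasi-coherent cohomology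
sheaves. -/
theorem result (X : Scheme.{u}) {ι : Type u} (K : ι → DCoh.D X) (hK : ∀ i, DCoh.IsQCohD (K i)) [HasCoproduct K] :
    DCoh.IsQCohD (∐ K) := by
  have : IsGrothendieckAbelian.{u} X.Modules :=
    Groth.Agent.Lib.Helper21.ModTensor3.isGrothendieckAbelian (O := X.sheaf)
  intro i
  exact @Groth.Agent.Lib.Helper1.DCoprodH.prop_homology_coproduct X.Modules _ _
    (HasDerivedCategory.standard _) ι _ _
    (SheafOfModules.isQuasicoherent X.ringCatSheaf)
    (inferInstanceAs ((SheafOfModules.isQuasicoherent X.ringCatSheaf).IsClosedUnderIsomorphisms))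
    (fun F hF => Groth.Agent.Lib.Helper23.QCohLocal.isQuasicoherent_colimit F hF)
    K _ i (fun j => hK j i)

end Groth.Agent.S1040
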