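import Groth.Statements.S1034
import Groth.Agent.Lib.Helper1Hocolim
import Mathlib.CategoryTheory.Triangulated.HomologicalFunctor
-- import your own Groth.Agent.* helpers here

set_option autoImplicit false
universe v v' u u'
open CategoryTheory CategoryTheory.Limits
open DerLim

namespace Groth.Agent.S1034

open CategoryTheory.Pretriangulated Groth.Agent.Lib.Helper1 in
/-- Let D be a pretriangulated category with countable direct sums, A an abelian category with exact
colimits of shape ℕ, and H : D ⥤ A a homological functor that preserves countable direct sums. If L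
(with maps iₙ : Kₙ ⟶ L) is a homotopy colimit of a system (Kₙ, fₙ), then H(L) is the colimit of the
H(Kₙ): there is an isomorphism colimₙ H(Kₙ) ≅ H(L) compatible with the maps H(iₙ). -/
theorem result {D : Type u} [Category.{v} D] [Preadditive D] [Limits.HasZeroObject D] [HasShift D ℤ]
    [∀ n : ℤ, (shiftFunctor D n).Additive] [Pretriangulated D] [IsTriangulated D] [HasColimitsOfShape (Discrete ℕ) D]
    {A : Type u'} [Category.{v'} A] [Abelian A] [HasColimitsOfShape ℕ A] [HasExactColimitsOfShape ℕ A]
    (H : D ⥤ A) [H.IsHomological] [PreservesColimitsOfShape (Discrete ℕ) H]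
    (K : ℕ → D) (f : ∀ n, K n ⟶ K (n + 1)) (L : D) (i : ∀ n, K n ⟶ L) (hL : DerLim.IsHocolim K f L i) :
    ∃ e : colimit (Functor.ofSequence (fun n => H.map (f n))) ≅ H.obj L,
      ∀ n : ℕ, colimit.ι (Functor.ofSequence (fun n => H.map (f n))) n ≫ e.hom = H.map (i n) := by
  obtain ⟨c, hT⟩ := hL
  set σ : ∐ K ⟶ ∐ K := 𝟙 (∐ K) - DerLim.shiftMap K f with hσ
  -- exactness
  have E2 := H.map_distinguished_exact _ (rot_of_distTriang _ hT)
  have E3 := H.map_distinguished_exact _ (rot_of_distTriang _ (rot_of_distTriang _ hT))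
  have E1 := H.map_distinguished_exact _ hT
  -- mono of H(σ[1])
  have hmono : Mono (H.map (σ⟦(1 : ℤ)⟧')) :=
    mono_map_one_sub_shiftMap (shiftFunctor D (1 : ℤ) ⋙ H) K f
  have hc : H.map c = 0 := by
    have z : H.map c ≫ H.map (-(σ⟦(1 : ℤ)⟧')) = 0 :=
      ((shortComplexOfDistTriangle _ (rot_of_distTriang _ (rot_of_distTriang _ hT))).map H).zero
    rw [Functor.map_neg, Preadditive.comp_neg, neg_eq_zero] at z
    rwa [← cancel_mono (H.map (σ⟦(1 : ℤ)⟧')), zero_comp]
  have hepi : Epi (H.map (Sigma.desc i)) := by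
    exact E2.epi_f hc
  have hcok : IsColimit (CokernelCofork.ofπ (H.map (Sigma.desc i))
      (show H.map σ ≫ H.map (Sigma.desc i) = 0 from
        ((shortComplexOfDistTriangle _ hT).map H).zero)) := by
    haveI : Epi ((shortComplexOfDistTriangle _ hT).map H).g := hepi
    exact E1.gIsCokernel
  obtain ⟨e, he⟩ := exists_iso_colimit_of_isColimit_cokernelCofork H K f (H.map (Sigma.desc i))
    (show H.map σ ≫ H.map (Sigma.desc i) = 0 from ((shortComplexOfDistTriangle _ hT).map H).zero) hcok
  refine ⟨e, fun n => ?_⟩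
  rw [he n, ← H.map_comp, Sigma.ι_desc]

end Groth.Agent.S1034
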