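import Groth.Statements.S0931
import Groth.Agent.Lib.Helper17Hyp6
import Mathlib.CategoryTheory.Sites.LocallyBijective

set_option autoImplicit false
universe u
open CategoryTheory
open CohSite

namespace Groth.Agent.S0931

open Groth.Agent.Lib.Helper17.Hyp Opposite in
/-- the canonical map of presheaves `(U ↦ H^q(U, K)) ⟶ H^q(K)`. -/
noncomputable def canon {C : Type u} [SmallCategory C] {J : GrothendieckTopology C}
    [HasDerivedCategory.{u} (Sheaf J AddCommGrpCat.{u})] (K : DerivedCategory (Sheaf J AddCommGrpCat.{u}))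
    (q : ℤ) : CohCx.HDUPresheaf K q ⟶ (CohCx.HD K q).obj where
  app U := AddCommGrpCat.ofHom (canonU K q U.unop)
  naturality U V f := by
    apply AddCommGrpCat.hom_ext
    ext ξ
    exact canonU_res K q f.unop ξ

/-- Let K be an object of the derived category of abelian sheaves on a site and q an integer. Then the
sheafification of the presheaf U ↦ H^q(U, K) is isomorphic to the q-th cohomology sheaf H^q(K). -/
theorem result {C : Type u} [SmallCategory C] {J : GrothendieckTopology C}
    [HasDerivedCategory.{u} (Sheaf J AddCommGrpCat.{u})] (K : DerivedCategory (Sheaf J AddCommGrpCat.{u}))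
    (q : ℤ) :
    Nonempty ((presheafToSheaf J AddCommGrpCat.{u}).obj (CohCx.HDUPresheaf K q) ≅ CohCx.HD K q) := by
  have hfr := Groth.Agent.Lib.Helper17.Hyp.locFr_frSh J
  haveI : Presheaf.IsLocallyInjective J (canon K q) := ⟨by
    intro U x y hxy
    obtain ⟨x', rfl⟩ : ∃ x' : CohCx.HDU K q U.unop, x' = x := ⟨x, rfl⟩
    obtain ⟨y', rfl⟩ : ∃ y' : CohCx.HDU K q U.unop, y' = y := ⟨y, rfl⟩
    have hxy' : Groth.Agent.Lib.Helper17.Hyp.canonU K q U.unop x' =
      Groth.Agent.Lib.Helper17.Hyp.canonU K q U.unop y' := hxy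
    have h0 : Groth.Agent.Lib.Helper17.Hyp.cm (P := CohCx.freeSheaf J U.unop) (K := K) (m := q)
        (x' - y') = 0 := by
      apply (CohFree.homEquivSect J U.unop _).injective
      rw [map_zero]
      have : Groth.Agent.Lib.Helper17.Hyp.canonU K q U.unop (x' - y') = 0 := by
        rw [map_sub, hxy', sub_self]
      exact this
    obtain ⟨T, hT, hT'⟩ := Groth.Agent.Lib.Helper17.Hyp.exists_cover_eq_zero_cm.{u, u}
      (fr := Groth.Agent.Lib.Helper17.Hyp.frSh J) hfr K q U.unop (x' - y') h0
    refine J.superset_covering ?_ hT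
    intro V f hf
    have h1 : CohCx.HDUres K q f (x' - y') = 0 := hT' f hf
    rw [map_sub, sub_eq_zero] at h1
    exact h1⟩
  haveI : Presheaf.IsLocallySurjective J (canon K q) := ⟨by
    intro U s
    obtain ⟨T, hT, hT'⟩ := Groth.Agent.Lib.Helper17.Hyp.exists_lift_cm
      (fr := Groth.Agent.Lib.Helper17.Hyp.frSh J) hfr K q U (CohFree.ofSect J U _ s)
    refine J.superset_covering ?_ hT
    intro V f hf
    obtain ⟨ξ, hξ⟩ := hT' f hf
    refine ⟨ξ, ?_⟩
    have h2 : Groth.Agent.Lib.Helper17.Hyp.canonU K q V ξ =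
        ((CohCx.HD K q).obj.map f.op).hom s := by
      rw [Groth.Agent.Lib.Helper17.Hyp.canonU_apply]
      have h3 : Groth.Agent.Lib.Helper17.Hyp.cm (P := CohCx.freeSheaf J V) ξ =
        CohCx.freeSheafMap J f ≫ CohFree.ofSect J U _ s := hξ
      rw [h3, CohFree.evalGen_freeSheafMap_comp, CohFree.evalGen_ofSect]
    exact h2⟩
  have hW : J.W (canon K q) := J.W_of_isLocallyBijective (canon K q)
  rw [GrothendieckTopology.W_iff] at hW
  haveI := hW
  exact ⟨asIso ((presheafToSheaf J AddCommGrpCat.{u}).map (canon K q)) ≪≫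
    asIso ((sheafificationAdjunction J AddCommGrpCat.{u}).counit.app (CohCx.HD K q))⟩

end Groth.Agent.S0931
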