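import Groth.Statements.S8355
-- import your own Groth.Agent.* helpers here

set_option autoImplicit false
universe v u
open CategoryTheory CategoryTheory.Limits
open SpSeq

namespace Groth.Agent.S8355

variable {C : Type u} [Category.{v} C] [Abelian C] {r₀ : ℤ}

/-- If the object at `pq` on page `k` is zero, so is the one on page `k + 1`. -/
theorem isZero_succ (E : CohomologicalSpectralSequence C r₀) (pq : ℤ × ℤ) (k : ℤ) (hk : r₀ ≤ k)
    (h : IsZero ((E.page k hk).X pq)) :
    IsZero ((E.page (k + 1) (hk.trans (Int.le_add_one le_rfl))).X pq) := by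
  refine IsZero.of_iso ?_ (E.iso k (k + 1) pq rfl hk).symm
  exact ShortComplex.isZero_homology_of_isZero_X₂ _ h

/-- If position `pq` has vanishing differentials on page `k`, pages `k` and `k+1` agree there. -/
theorem isZero_of_succ (E : CohomologicalSpectralSequence C r₀) (pq : ℤ × ℤ) (k : ℤ) (hk : r₀ ≤ k)
    (h1 : (E.page k hk).d (pq - (k, 1 - k)) pq = 0)
    (h2 : (E.page k hk).d pq (pq + (k, 1 - k)) = 0)
    (h : IsZero ((E.page (k + 1) (hk.trans (Int.le_add_one le_rfl))).X pq)) :
    IsZero ((E.page k hk).X pq) := by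
  have hprev : (ComplexShape.up' (⟨k, 1 - k⟩ : ℤ × ℤ)).prev pq = pq - (k, 1 - k) :=
    (ComplexShape.up' (⟨k, 1 - k⟩ : ℤ × ℤ)).prev_eq' (by
      change pq - (k, 1 - k) + (k, 1 - k) = pq
      simp)
  have hnext : (ComplexShape.up' (⟨k, 1 - k⟩ : ℤ × ℤ)).next pq = pq + (k, 1 - k) :=
    (ComplexShape.up' (⟨k, 1 - k⟩ : ℤ × ℤ)).next_eq' (by
      change pq + (k, 1 - k) = pq + (k, 1 - k)
      rfl)
  have hf : ((E.page k hk).sc pq).f = 0 := by
    change (E.page k hk).d ((ComplexShape.up' (⟨k, 1 - k⟩ : ℤ × ℤ)).prev pq) pq = 0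
    rw [hprev]; exact h1
  have hg : ((E.page k hk).sc pq).g = 0 := by
    change (E.page k hk).d pq ((ComplexShape.up' (⟨k, 1 - k⟩ : ℤ × ℤ)).next pq) = 0
    rw [hnext]; exact h2
  have e : (E.page k hk).homology pq ≅ (E.page k hk).X pq :=
    (ShortComplex.HomologyData.ofZeros ((E.page k hk).sc pq) hf hg).left.homologyIso
  exact IsZero.of_iso (IsZero.of_iso h (E.iso k (k + 1) pq rfl hk)) e.symm

/-- Let E be a spectral sequence in an abelian category and suppose E_r^{p,q} = 0. Then E_k^{p,q} = 0
for every k ≥ r, and E_∞^{p,q} = 0: for any abutment data (H^n) of E, the graded piece gr^p H^{p+q},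
identified by the abutment with the limit term at (p, q), is zero. -/
theorem result {C : Type u} [Category.{v} C] [Abelian C] {r₀ : ℤ}
    (E : CohomologicalSpectralSequence C r₀) (r : ℤ) (hr : r₀ ≤ r) (pq : ℤ × ℤ)
    (h : IsZero ((E.page r hr).X pq)) :
    (∀ (k : ℤ) (hk : r ≤ k), IsZero ((E.page k (hr.trans hk)).X pq)) ∧
      ∀ (H : ℤ → C) (a : SpSeq.Abutment E H),
        IsZero (SpSeq.grPiece (a.fil (pq.1 + pq.2)) (a.anti (pq.1 + pq.2)) pq.1) := by
  have part1 : ∀ (k : ℤ) (hk : r ≤ k), IsZero ((E.page k (hr.trans hk)).X pq) := by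
    intro k hk
    induction k, hk using Int.leInduction with
    | base => exact h
    | succ k hk ih => exact isZero_succ E pq k (hr.trans hk) ih
  refine ⟨part1, fun H a => ?_⟩
  refine IsZero.of_iso ?_ (a.β pq).symm
  have hst := a.stat pq
  by_cases hle : r ≤ a.rk pq
  · exact part1 _ hle
  · rw [not_le] at hle
    -- go down from r to rk
    have key : ∀ (k : ℤ) (hk : a.rk pq ≤ k), IsZero ((E.page k (hst.1.trans hk)).X pq) →
        IsZero ((E.page (a.rk pq) hst.1).X pq) := by
      intro k hk
      induction k, hk using Int.leInduction with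
      | base => exact id
      | succ k hk ih =>
        intro hz
        apply ih
        obtain ⟨h1, h2⟩ := hst.2 k (hst.1.trans hk) hk
        exact isZero_of_succ E pq k (hst.1.trans hk) h1 h2 hz
    exact key r hle.le h

end Groth.Agent.S8355
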