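import Groth.Statements.S8347
import Groth.Agent.S8355
import Mathlib.Tactic.Ring
import Mathlib.Tactic.Linarith
-- import your own Groth.Agent.* helpers here

set_option autoImplicit false
universe v u
open CategoryTheory CategoryTheory.Limits
open SpSeq

namespace Groth.Agent.S8347

variable {C : Type u} [Category.{v} C] [Abelian C] {r₀ : ℤ}

theorem eq_of_isZero_subquot {X : C} (Z B : Subobject X) (h : B ≤ Z)
    (hz : IsZero (SpSeq.subquot Z B h)) : Z = B := by
  haveI : Epi (B.ofLE Z h) := Preadditive.epi_of_isZero_cokernel _ hz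
  haveI : IsIso (B.ofLE Z h) := isIso_of_mono_of_epi _
  refine le_antisymm (Subobject.le_of_comm (inv (B.ofLE Z h)) ?_) h
  rw [IsIso.inv_comp_eq, Subobject.ofLE_arrow]

theorem nonempty_iso_subquot_top_bot {X : C} (Z B : Subobject X) (h : B ≤ Z) (hZ : Z = ⊤)
    (hB : B = ⊥) : Nonempty (SpSeq.subquot Z B h ≅ X) := by
  subst hZ hB
  have h0 : (⊥ : Subobject X).ofLE ⊤ h = 0 :=
    (Subobject.botCoeIsoZero (B := X)).isZero_iff.2 (isZero_zero C) |>.eq_of_src _ _
  unfold SpSeq.subquot
  exact ⟨cokernel.mapIso _ (0 : ((⊥ : Subobject X) : C) ⟶ ((⊤ : Subobject X) : C)) (Iso.refl _)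
    (Iso.refl _) (by simp [h0]) ≪≫ cokernelZeroIsoTarget ≪≫ asIso (⊤ : Subobject X).arrow⟩

/-- pages agree at a stationary position -/
theorem page_iso_of_stationary (E : CohomologicalSpectralSequence C r₀) (pq : ℤ × ℤ) (s : ℤ)
    (hs : SpSeq.StationaryAt E pq s) (k : ℤ) (hk : s ≤ k) :
    Nonempty ((E.page k (hs.1.trans hk)).X pq ≅ (E.page s hs.1).X pq) := by
  induction k, hk using Int.leInduction with
  | base => exact ⟨Iso.refl _⟩
  | succ k hk ih =>
    obtain ⟨e0⟩ := ih
    obtain ⟨h1, h2⟩ := hs.2 k (hs.1.trans hk) hk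
    have hprev : (ComplexShape.up' (⟨k, 1 - k⟩ : ℤ × ℤ)).prev pq = pq - (k, 1 - k) :=
      (ComplexShape.up' (⟨k, 1 - k⟩ : ℤ × ℤ)).prev_eq' (by
        change pq - (k, 1 - k) + (k, 1 - k) = pq
        simp)
    have hnext : (ComplexShape.up' (⟨k, 1 - k⟩ : ℤ × ℤ)).next pq = pq + (k, 1 - k) :=
      (ComplexShape.up' (⟨k, 1 - k⟩ : ℤ × ℤ)).next_eq' (by
        change pq + (k, 1 - k) = pq + (k, 1 - k)
        rfl)
    have hf : ((E.page k (hs.1.trans hk)).sc pq).f = 0 := by
      change (E.page k (hs.1.trans hk)).d ((ComplexShape.up' (⟨k, 1 - k⟩ : ℤ × ℤ)).prev pq) pq = 0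
      rw [hprev]; exact h1
    have hg : ((E.page k (hs.1.trans hk)).sc pq).g = 0 := by
      change (E.page k (hs.1.trans hk)).d pq ((ComplexShape.up' (⟨k, 1 - k⟩ : ℤ × ℤ)).next pq) = 0
      rw [hnext]; exact h2
    have e : (E.page k (hs.1.trans hk)).homology pq ≅ (E.page k (hs.1.trans hk)).X pq :=
      (ShortComplex.HomologyData.ofZeros ((E.page k (hs.1.trans hk)).sc pq) hf hg).left.homologyIso
    exact ⟨(E.iso k (k + 1) pq rfl (hs.1.trans hk)).symm ≪≫ e ≪≫ e0⟩

/-- Let E be a spectral sequence in an abelian category with abutment data (H^m), and suppose that for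
some page r and every total degree m there is an integer q(m) such that E_r^{m-q,q} = 0 for every q
other than q(m). Let n be a total degree such that the filtration of H^n is discrete (some step is
zero) and exhaustive (H^n is the supremum of the steps), and such that the position (n - q(n), q(n))
is stationary from page r on. Then H^n is isomorphic to E_r^{n-q(n), q(n)}. (The published statement
asserts this without any condition on the differentials at the surviving positions; that version
fails when a differential d_r links the surviving terms of two consecutive total degrees, for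
instance a spectral sequence whose only nonzero page-2 terms are E_2^{0,1} and E_2^{2,0} with d_2 an
isomorphism between them and zero abutment. The stationarity assumed here is automatic when q(m)
does not depend on m and r ≥ 2.) -/
theorem result {C : Type u} [Category.{v} C] [Abelian C] {r₀ : ℤ}
    (E : CohomologicalSpectralSequence C r₀) {H : ℤ → C} (a : SpSeq.Abutment E H)
    (r : ℤ) (hr : r₀ ≤ r) (q : ℤ → ℤ)
    (hdeg : ∀ m q' : ℤ, q' ≠ q m → IsZero ((E.page r hr).X (m - q', q')))
    (n : ℤ) (hdisc : (a.filObj n).IsDiscrete) (hexh : a.IsExhaustive n)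
    (hst : SpSeq.StationaryAt E (n - q n, q n) r) :
    Nonempty (H n ≅ (E.page r hr).X (n - q n, q n)) := by
  set p₀ : ℤ := n - q n with hp₀
  let F : ℤ → Subobject (H n) := a.fil n
  have hanti : Antitone F := a.anti n
  -- graded pieces vanish off `p₀`
  have hgr : ∀ p : ℤ, p ≠ p₀ → F p = F (p + 1) := by
    intro p hp
    have hz : IsZero ((E.page r hr).X (p, n - p)) := by
      have := hdeg n (n - p) (by intro h; apply hp; rw [hp₀, ← h]; ring)
      rwa [show n - (n - p) = p by ring] at this
    have h2 := (Groth.Agent.S8355.result E r hr (p, n - p) hz).2 H a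
    have e : p + (n - p) = n := by ring
    simp only at h2
    rw [e] at h2
    exact eq_of_isZero_subquot _ _ _ h2
  -- the filtration is `⊥` above `p₀`
  have hbot : F (p₀ + 1) = ⊥ := by
    obtain ⟨b, hb⟩ := hdisc
    have hb' : F b = ⊥ := hb
    by_cases hle : b ≤ p₀ + 1
    · exact le_bot_iff.1 (hb' ▸ hanti hle)
    · rw [not_le] at hle
      have key : ∀ k : ℤ, p₀ + 1 ≤ k → F k = F (p₀ + 1) := by
        intro k hk
        induction k, hk using Int.leInduction with
        | base => rfl
        | succ k hk ih => rw [← hgr k (by omega), ih]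
      rw [← key b hle.le, hb']
  -- and constant below
  have hconst : ∀ k : ℤ, k ≤ p₀ → F k = F p₀ := by
    intro k hk
    induction k, hk using Int.leInductionDown with
    | base => rfl
    | pred k hk ih => rw [hgr (k - 1) (by omega), sub_add_cancel, ih]
  have htop : F p₀ = ⊤ := by
    refine top_le_iff.1 (hexh.2 ?_)
    rintro _ ⟨p, rfl⟩
    show F p ≤ F p₀
    by_cases hp : p ≤ p₀
    · rw [hconst p hp]
    · exact hanti (not_le.1 hp).le
  obtain ⟨e1⟩ := nonempty_iso_subquot_top_bot (F p₀) (F (p₀ + 1)) (hanti (Int.le_add_one le_rfl))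
    htop hbot
  -- identify with the page
  have e2 := a.β (p₀, q n)
  have hsum : p₀ + q n = n := by rw [hp₀]; ring
  simp only at e2
  rw [hsum] at e2
  have e3 : Nonempty ((E.page (a.rk (p₀, q n)) (a.stat (p₀, q n)).1).X (p₀, q n) ≅
      (E.page r hr).X (p₀, q n)) := by
    by_cases hle : r ≤ a.rk (p₀, q n)
    · exact page_iso_of_stationary E _ r hst _ hle
    · obtain ⟨e⟩ := page_iso_of_stationary E _ _ (a.stat (p₀, q n)) r (not_le.1 hle).le
      exact ⟨e.symm⟩
  obtain ⟨e3⟩ := e3
  exact ⟨e1.symm ≪≫ e2.symm ≪≫ e3⟩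

end Groth.Agent.S8347
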