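import Groth.Statements.S1055
import Mathlib
import Groth.Agent.Lib.Helper1LDer7
import Groth.Agent.Lib.Helper1LBC
import Groth.Agent.Lib.Helper1KF8
import Groth.Agent.Lib.Helper1KF9
import Groth.Agent.Lib.Helper17DBrown3
import Groth.Agent.Lib.Helper20OmegaAff
import Groth.Agent.Lib.Helper1KBC5
import Groth.Agent.Lib.Helper1KBC6
import Groth.Agent.Lib.Helper1Sky11
-- import your own Groth.Agent.* helpers here

set_option autoImplicit false
universe u
open CategoryTheory CategoryTheory.Limits AlgebraicGeometry Opposite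
attribute [local instance] HasDerivedCategory.standard
open Perf

namespace Groth.Agent.S1055

open Groth.Agent.Lib.Helper1.Sky Groth.Agent.Lib.Helper1.KBC Groth.Agent.Lib.Helper1.LDer
  Groth.Agent.Lib.Helper1.KF Groth.Agent.Lib.Helper20.OmegaAff

section

variable {A B : Type u} [CommRing A] [CommRing B] (φ : A →+* B)

/-- `Spec B ⟶ Spec A` -/
noncomputable abbrev ff : Spec (CommRingCat.of B) ⟶ Spec (CommRingCat.of A) :=
  Spec.map (CommRingCat.ofHom φ)

/-- termwise tilde -/
noncomputable abbrev TC (R : CommRingCat.{u}) :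
    CochainComplex (ModuleCat.{u} R) ℤ ⥤ CochainComplex (Spec R).Modules ℤ :=
  (tilde.functor R).mapHomologicalComplex (ComplexShape.up ℤ)

/-- the pullback of `K~` is `(K ⊗_A B)~`, termwise -/
noncomputable def thetaC :
    TC (CommRingCat.of A) ⋙ pullC (ff φ) ≅ bcCx φ ⋙ TC (CommRingCat.of B) :=
  NatIso.ofComponents (fun K => HomologicalComplex.Hom.isoOfComponents
      (fun i => (pullbackTildeIso (CommRingCat.ofHom φ)).app (K.X i))
      (fun i j _ => by
        dsimp
        exact ((pullbackTildeIso (CommRingCat.ofHom φ)).hom.naturality (K.d i j)).symm))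
    (fun {K K'} ψ => by
      apply HomologicalComplex.hom_ext
      intro i
      dsimp
      exact ((pullbackTildeIso (CommRingCat.ofHom φ)).hom.naturality (ψ.f i)))

variable [PreservesFiniteLimits (tilde.functor (CommRingCat.of A))]
  [PreservesFiniteLimits (tilde.functor (CommRingCat.of B))]
  [DRing.HasLBaseChange φ] [DCoh.HasLpull (ff φ)]

/-- the functor to be derived: `K ↦ (K ⊗_A B)~` -/
noncomputable abbrev FF : CochainComplex (ModuleCat.{u} A) ℤ ⥤ DCoh.D (Spec (CommRingCat.of B)) :=
  bcCx φ ⋙ TC (CommRingCat.of B) ⋙ DerivedCategory.Q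

/-- first candidate -/
noncomputable abbrev G1 : Dual.D A ⥤ DCoh.D (Spec (CommRingCat.of B)) :=
  DRing.LBaseChange φ ⋙ DCoh.tildeD (CommRingCat.of B)

/-- second candidate -/
noncomputable abbrev G2 : Dual.D A ⥤ DCoh.D (Spec (CommRingCat.of B)) :=
  DCoh.tildeD (CommRingCat.of A) ⋙ DCoh.Lpull (ff φ)

/-- `Q ⋙ tildeD ≅ TC ⋙ Q` -/
noncomputable def facT (R : CommRingCat.{u}) [PreservesFiniteLimits (tilde.functor R)] :
    DerivedCategory.Q ⋙ DCoh.tildeD R ≅ TC R ⋙ DerivedCategory.Q :=
  (tilde.functor R).mapDerivedCategoryFactors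

/-- the counit of the first candidate -/
noncomputable def α1 : DerivedCategory.Q ⋙ G1 φ ⟶ FF φ :=
  (Functor.associator _ _ _).inv ≫
    Functor.whiskerRight (lbcCounit φ) (DCoh.tildeD (CommRingCat.of B)) ≫
    (Functor.associator _ _ _).hom ≫
    Functor.whiskerLeft (bcCx φ) (facT (CommRingCat.of B)).hom

/-- the counit of the second candidate -/
noncomputable def α2 : DerivedCategory.Q ⋙ G2 φ ⟶ FF φ :=
  (Functor.associator _ _ _).inv ≫
    Functor.whiskerRight (facT (CommRingCat.of A)).hom (DCoh.Lpull (ff φ)) ≫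
    (Functor.associator _ _ _).hom ≫
    Functor.whiskerLeft (TC (CommRingCat.of A)) (lpullNat (ff φ)) ≫
    (Functor.associator _ _ _).inv ≫
    Functor.whiskerRight (thetaC φ).hom DerivedCategory.Q ≫
    (Functor.associator _ _ _).hom

omit [PreservesFiniteLimits (tilde.functor (CommRingCat.of A))] [DCoh.HasLpull (ff φ)] in
lemma isIso_α1_app (P : CochainComplex (ModuleCat.{u} A) ℤ) [P.IsKProjective] :
    IsIso ((α1 φ).app P) := by
  dsimp only [α1]
  simp only [NatTrans.comp_app, Functor.whiskerRight_app, Functor.whiskerLeft_app,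
    Functor.associator_inv_app, Functor.associator_hom_app]
  infer_instance

lemma isIso_lpullNat_app_of_isKFlat {X Y : Scheme.{u}} (f : X ⟶ Y) [DCoh.HasLpull f]
    (K : CochainComplex Y.Modules ℤ) (hK : DCoh.IsKFlat K) : IsIso ((lpullNat f).app K) := by
  haveI := isIso_lpullCounit_app_of_isKFlat f K hK
  dsimp only [lpullNat]
  simp only [NatTrans.comp_app, Functor.whiskerRight_app, Functor.whiskerLeft_app]
  infer_instance

omit [PreservesFiniteLimits (tilde.functor (CommRingCat.of B))] [DRing.HasLBaseChange φ] in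
lemma isIso_α2_app (P : CochainComplex (ModuleCat.{u} A) ℤ) [P.IsKProjective] :
    IsIso ((α2 φ).app P) := by
  have h1 : KFlat P := kflat_of_isKProjective P
  have h2 : RKFlat P := fun M hM => h1 M hM
  have h3 : DCoh.IsKFlat ((TC (CommRingCat.of A)).obj P) := isKFlat_tilde (CommRingCat.of A) P h2
  haveI := isIso_lpullNat_app_of_isKFlat (ff φ) _ h3
  dsimp only [α2]
  simp only [NatTrans.comp_app, Functor.whiskerRight_app, Functor.whiskerLeft_app,
    Functor.associator_inv_app, Functor.associator_hom_app]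
  infer_instance

open Groth.Agent.Lib.Helper17.DBrown Groth.Agent.Lib.Helper1.LDerRes in
theorem main : Nonempty (G1 φ ≅ G2 φ) := by
  let W := HomologicalComplex.quasiIso (ModuleCat.{u} A) (ComplexShape.up ℤ)
  let P : ObjectProperty (CochainComplex (ModuleCat.{u} A) ℤ) := fun Y => Y.IsKProjective
  have hres : ∀ X : CochainComplex (ModuleCat.{u} A) ℤ,
      ∃ (Y : CochainComplex (ModuleCat.{u} A) ℤ) (r : Y ⟶ X), P Y ∧
        IsIso ((DerivedCategory.Q (C := ModuleCat.{u} A)).map r) := fun X => by
    obtain ⟨Y, π, hY, -, hπ, -⟩ := exists_kprojective_resolution X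
    refine ⟨Y, π, hY, ?_⟩
    rw [DerivedCategory.isIso_Q_map_iff_quasiIso]
    exact hπ
  have hsurj : ∀ Y, P Y → ∀ X, Function.Surjective
      ((DerivedCategory.Q (C := ModuleCat.{u} A)).map : (Y ⟶ X) → _) := fun Y hY X y => by
    haveI : Y.IsKProjective := hY
    exact exists_Q_map_eq_of_isKProjective y
  haveI h1 : (G1 φ).IsLeftDerivedFunctor (α1 φ) W :=
    isLeftDerivedFunctor_of_isIso_of_surjective DerivedCategory.Q W (FF φ) P hres hsurj
      (G1 φ) (α1 φ) (fun Y hY => by
        haveI : Y.IsKProjective := hY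
        exact isIso_α1_app φ Y)
  haveI h2 : (G2 φ).IsLeftDerivedFunctor (α2 φ) W :=
    isLeftDerivedFunctor_of_isIso_of_surjective DerivedCategory.Q W (FF φ) P hres hsurj
      (G2 φ) (α2 φ) (fun Y hY => by
        haveI : Y.IsKProjective := hY
        exact isIso_α2_app φ Y)
  exact ⟨Functor.leftDerivedUnique (G2 φ) (G1 φ) (α1 φ) (α2 φ) W⟩

end

/-- Let φ : A → B be a ring map and f : Spec B ⟶ Spec A the corresponding morphism. Assuming the derived
functors involved exist (and tilde is recorded as exact), derived base change - ⊗^L_A B : D(A) ⥤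
D(B) followed by M ↦ M~ is isomorphic to M ↦ M~ followed by Lf^*. -/
theorem result {A B : Type u} [CommRing A] [CommRing B] (φ : A →+* B)
    [PreservesFiniteLimits (tilde.functor (CommRingCat.of A))] [PreservesFiniteLimits (tilde.functor (CommRingCat.of B))]
    [DRing.HasLBaseChange φ] [DCoh.HasLpull (Spec.map (CommRingCat.ofHom φ))] :
    Nonempty (DRing.LBaseChange φ ⋙ DCoh.tildeD (CommRingCat.of B) ≅
      DCoh.tildeD (CommRingCat.of A) ⋙ DCoh.Lpull (Spec.map (CommRingCat.ofHom φ))) := by
  exact main φ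

end Groth.Agent.S1055
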