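import Groth.Statements.S0879
import Groth.Agent.Lib.Helper17Hyp31
-- import your own Groth.Agent.* helpers here

set_option autoImplicit false
universe u
open CategoryTheory
open CohSite

namespace Groth.Agent.S0879

open Opposite CategoryTheory.Limits in
/-- Let (F_n) be an inverse system of abelian sheaves on a site and B a class of objects such that every
object is covered by members of B, H^p(U, F_n) = 0 for p > 0 and U in B, and the system of sections
F_n(U) has vanishing R^1 lim for U in B. Then lim F_n (in degree zero) is a derived limit of (F_n)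
in the derived category and H^p(U, lim F_n) = 0 for p > 0 and U in B. -/
theorem result {C : Type u} [SmallCategory C]
    {J : GrothendieckTopology C} [HasDerivedCategory.{u} (Sheaf J AddCommGrpCat.{u})]
    (F : ℕ → Sheaf J AddCommGrpCat.{u}) (t : ∀ n, F (n + 1) ⟶ F n)
    [HasProduct fun n => (DerivedCategory.singleFunctor (Sheaf J AddCommGrpCat.{u}) 0).obj (F n)]
    (B : Set C)
    (hB : ∀ U : C, ∃ (ι : Type u) (Y : ι → C) (f : ∀ i, Y i ⟶ U), Sieve.ofArrows Y f ∈ J U ∧ ∀ i, Y i ∈ B)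
    (h1 : ∀ U ∈ B, ∀ (p n : ℕ), Subsingleton (CohSite.HU (F n) (p + 1) U))
    (h2 : ∀ U ∈ B, CohCx.LimOneIsZero (fun n => (F n).obj.obj (op U)) (fun n => ((t n).hom.app (op U)).hom)) :
    DCoh.IsRlim (fun n => (DerivedCategory.singleFunctor _ 0).obj (F n))
      (fun n => (DerivedCategory.singleFunctor _ 0).map (t n))
      ((DerivedCategory.singleFunctor _ 0).obj (limit (CohCx.opSequence F t))) ∧
    ∀ U ∈ B, ∀ p : ℕ, Subsingleton (CohSite.HU (limit (CohCx.opSequence F t)) (p + 1) U) := by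
  have hB₁ : ∀ U : C, ∃ R : Presieve U, Sieve.generate R ∈ J U ∧
      ∀ ⦃V : C⦄ (g : V ⟶ U), R g → V ∈ B := fun U => by
    obtain ⟨ι, Y₀, f, hcov, hYB⟩ := hB U
    refine ⟨Presieve.ofArrows Y₀ f, hcov, ?_⟩
    rintro V g ⟨i⟩
    exact hYB i
  obtain ⟨r1, r2⟩ := Groth.Agent.Lib.Helper17.Hyp.rlim_dsgl_of_acyclic F t B hB₁
    (fun U hU k n hk => by
      obtain ⟨k, rfl⟩ : ∃ k₀ : ℕ, k = k₀ + 1 := ⟨k - 1, by omega⟩
      exact @Equiv.subsingleton _ _ (Abelian.Ext.homEquiv (X := CohCx.freeSheaf J U)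
        (Y := F n) (n := k + 1)).symm (h1 U hU k n)) h2
  refine ⟨r1, fun U hU p => ?_⟩
  exact @Equiv.subsingleton _ _ (Abelian.Ext.homEquiv (X := CohCx.freeSheaf J U)
    (Y := Limits.limit (CohCx.opSequence F t)) (n := p + 1)) (r2 U hU (p + 1) (Nat.succ_pos p))

end Groth.Agent.S0879
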