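import Groth.Statements.S9428
import Mathlib

set_option autoImplicit false
universe u
open CAlg

namespace Groth.Agent.S9428

/-- If R → S is formally étale and J ⊆ S is an ideal with R → S/J surjective, I ⊆ R its kernel (the
preimage of J), then R/I^n → S/J^n is bijective for all n. (The published statement adds that the
associated graded rings are then isomorphic, which follows from these bijections.) -/
theorem result (R : Type u) [CommRing R] (S : Type u)
    [CommRing S] [Algebra R S] [Algebra.FormallyEtale R S] (J : Ideal S)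
    (hJ : Function.Surjective (algebraMap R (S ⧸ J))) (n : ℕ) :
    Function.Bijective (Ideal.quotientMap (J ^ n) (algebraMap R S)
      (le_of_le_of_eq (Ideal.le_comap_pow (algebraMap R S) n) rfl :
        (J.comap (algebraMap R S)) ^ n ≤ (J ^ n).comap (algebraMap R S))) := by
  classical
  set I : Ideal R := J.comap (algebraMap R S) with hI
  set φ := Ideal.quotientMap (J ^ n) (algebraMap R S)
      (le_of_le_of_eq (Ideal.le_comap_pow (algebraMap R S) n) rfl :
        (J.comap (algebraMap R S)) ^ n ≤ (J ^ n).comap (algebraMap R S)) with hφ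
  have hφmk : ∀ r : R, φ (Ideal.Quotient.mk (I ^ n) r) =
      Ideal.Quotient.mk (J ^ n) (algebraMap R S r) := fun r => Ideal.quotientMap_mk
  by_cases hn : n = 0
  · subst hn
    have h1 : Subsingleton (R ⧸ I ^ 0) := by
      rw [Ideal.Quotient.subsingleton_iff, pow_zero, Ideal.one_eq_top]
    have h2 : Subsingleton (S ⧸ J ^ 0) := by
      rw [Ideal.Quotient.subsingleton_iff, pow_zero, Ideal.one_eq_top]
    exact ⟨fun x y _ => Subsingleton.elim x y, fun y => ⟨0, Subsingleton.elim _ _⟩⟩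
  -- the surjection `g : R/I^n → S/J`
  let g : R ⧸ I ^ n →ₐ[R] S ⧸ J :=
    Ideal.Quotient.liftₐ (I ^ n) (Algebra.ofId R (S ⧸ J)) (fun r hr => by
      have hrI : r ∈ I := Ideal.pow_le_self hn hr
      show algebraMap R (S ⧸ J) r = 0
      rw [IsScalarTower.algebraMap_apply R S (S ⧸ J), Ideal.Quotient.algebraMap_eq,
        Ideal.Quotient.eq_zero_iff_mem]
      exact hrI)
  have hgmk : ∀ r : R, g (Ideal.Quotient.mk (I ^ n) r) = algebraMap R (S ⧸ J) r := fun r => rfl
  have hgsurj : Function.Surjective g := by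
    intro y
    obtain ⟨r, rfl⟩ := hJ y
    exact ⟨Ideal.Quotient.mk (I ^ n) r, hgmk r⟩
  have hker : RingHom.ker (g : R ⧸ I ^ n →+* S ⧸ J) ≤ I.map (Ideal.Quotient.mk (I ^ n)) := by
    intro x hx
    obtain ⟨r, rfl⟩ := Ideal.Quotient.mk_surjective x
    apply Ideal.mem_map_of_mem
    have : algebraMap R (S ⧸ J) r = 0 := hx
    rw [IsScalarTower.algebraMap_apply R S (S ⧸ J), Ideal.Quotient.algebraMap_eq,
      Ideal.Quotient.eq_zero_iff_mem] at this
    exact this
  have hkerpow : RingHom.ker (g : R ⧸ I ^ n →+* S ⧸ J) ^ n = ⊥ := by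
    rw [eq_bot_iff]
    calc RingHom.ker (g : R ⧸ I ^ n →+* S ⧸ J) ^ n
        ≤ (I.map (Ideal.Quotient.mk (I ^ n))) ^ n := Ideal.pow_right_mono hker n
      _ = (I ^ n).map (Ideal.Quotient.mk (I ^ n)) := (Ideal.map_pow _ _ _).symm
      _ = ⊥ := Ideal.map_quotient_self _
  have hnil : IsNilpotent (RingHom.ker (g : R ⧸ I ^ n →+* S ⧸ J)) := ⟨n, hkerpow⟩
  let ψ : S →ₐ[R] R ⧸ I ^ n :=
    Algebra.FormallySmooth.liftOfSurjective (Ideal.Quotient.mkₐ R J) g hgsurj hnil
  have hψ : ∀ s : S, g (ψ s) = Ideal.Quotient.mk J s := fun s =>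
    Algebra.FormallySmooth.liftOfSurjective_apply (Ideal.Quotient.mkₐ R J) g hgsurj hnil s
  have hψJ : ∀ s ∈ J ^ n, ψ s = 0 := by
    intro s hs
    have h1 : J.map (ψ : S →+* R ⧸ I ^ n) ≤ RingHom.ker (g : R ⧸ I ^ n →+* S ⧸ J) := by
      rw [Ideal.map_le_iff_le_comap]
      intro s hs
      show g (ψ s) = 0
      rw [hψ, Ideal.Quotient.eq_zero_iff_mem]
      exact hs
    have h2 : (J ^ n).map (ψ : S →+* R ⧸ I ^ n) ≤ ⊥ := by
      rw [Ideal.map_pow, ← hkerpow]
      exact Ideal.pow_right_mono h1 n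
    exact (Ideal.mem_bot).mp (h2 (Ideal.mem_map_of_mem _ hs))
  constructor
  · rw [injective_iff_map_eq_zero]
    intro x hx
    obtain ⟨r, rfl⟩ := Ideal.Quotient.mk_surjective x
    rw [hφmk, Ideal.Quotient.eq_zero_iff_mem] at hx
    have := hψJ _ hx
    rw [ψ.commutes] at this
    exact this
  · intro y
    obtain ⟨s, rfl⟩ := Ideal.Quotient.mk_surjective y
    refine ⟨ψ s, ?_⟩
    let φa : R ⧸ I ^ n →ₐ[R] S ⧸ J ^ n := { φ with commutes' := fun r => hφmk r }
    let π : S ⧸ J ^ n →+* S ⧸ J := Ideal.Quotient.factor (Ideal.pow_le_self hn)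
    have hπker : RingHom.ker π ^ n = ⊥ := by
      have hk : RingHom.ker π ≤ J.map (Ideal.Quotient.mk (J ^ n)) := by
        intro x hx
        obtain ⟨t, rfl⟩ := Ideal.Quotient.mk_surjective x
        apply Ideal.mem_map_of_mem
        have : π (Ideal.Quotient.mk (J ^ n) t) = 0 := hx
        rw [Ideal.Quotient.factor_mk, Ideal.Quotient.eq_zero_iff_mem] at this
        exact this
      rw [eq_bot_iff]
      calc RingHom.ker π ^ n ≤ (J.map (Ideal.Quotient.mk (J ^ n))) ^ n :=
            Ideal.pow_right_mono hk n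
        _ = (J ^ n).map (Ideal.Quotient.mk (J ^ n)) := (Ideal.map_pow _ _ _).symm
        _ = ⊥ := Ideal.map_quotient_self _
    have heq : φa.comp ψ = Ideal.Quotient.mkₐ R (J ^ n) := by
      apply Algebra.FormallyUnramified.ext' π ⟨n, hπker⟩
      intro t
      show π (φ (ψ t)) = π (Ideal.Quotient.mk (J ^ n) t)
      rw [Ideal.Quotient.factor_mk, ← hψ t]
      obtain ⟨r, hr⟩ := Ideal.Quotient.mk_surjective (ψ t)
      rw [← hr, hφmk, Ideal.Quotient.factor_mk, hgmk,
        IsScalarTower.algebraMap_apply R S (S ⧸ J), Ideal.Quotient.algebraMap_eq]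
    exact AlgHom.congr_fun heq s

end Groth.Agent.S9428
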