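import Groth.Statements.S12141
import Groth.Agent.Lib.Helper13ProjBC3
-- import your own Groth.Agent.* helpers here

set_option autoImplicit false
universe u
open CategoryTheory CategoryTheory.Limits AlgebraicGeometry TopologicalSpace Opposite
open scoped HomogeneousIdeal
noncomputable section
open EGA2

namespace Groth.Agent.S12141

open Groth.Agent.Helper13RelProj Groth.Agent.Helper13ProjBC

/-- Let ψ : Y' → Y be a morphism of schemes, 𝒮 a quasi-coherent positively graded O_Y-algebra and 𝒮' =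
ψ^*𝒮, presented as a quasi-coherent graded O_{Y'}-algebra with a graded ψ-morphism u : 𝒮 → ψ_*𝒮'
whose squares over affine opens U' ⊆ ψ⁻¹(U) are pushouts of rings; let P = Proj(𝒮), P' = Proj(𝒮')
with their charts. Then the morphism Proj(u) : P' → P is everywhere defined (its open of definition
G(u) is P' and it exists, pinned on the standard affine charts), and any such morphism identifies P'
with the fibre product P ×_Y Y'. -/
theorem result {Y Y' P P' : Scheme.{u}} (ψ : Y' ⟶ Y)
    (𝒮 : RelProj.QCGrAlg Y) (𝒮' : RelProj.QCGrAlg Y') (u : RelProj.QGrHom ψ 𝒮 𝒮')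
    (hu : RelSpec.IsQBaseChange u.toQHom)
    (p : P ⟶ Y) (chart : ∀ (U : Y.Opens) (hU : IsAffineOpen U), (((p ⁻¹ᵁ U : P.Opens) : Scheme.{u}) ≅ Proj (𝒮.deg U hU)))
    (hP : RelProj.IsRelProj 𝒮 p chart)
    (p' : P' ⟶ Y') (chart' : ∀ (U : Y'.Opens) (hU : IsAffineOpen U), (((p' ⁻¹ᵁ U : P'.Opens) : Scheme.{u}) ≅ Proj (𝒮'.deg U hU)))
    (hP' : RelProj.IsRelProj 𝒮' p' chart') :
    (∃ h : P' ⟶ P, RelProj.IsProjQMap u p chart p' chart' h) ∧
      ∀ h : P' ⟶ P, RelProj.IsProjQMap u p chart p' chart' h → IsPullback h p' p ψ := by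
  have hirr := fun (U : Y.Opens) (hU : IsAffineOpen U) (U' : Y'.Opens) (hU' : IsAffineOpen U')
    (hle : U' ≤ ψ ⁻¹ᵁ U) => hirr_of_isQBaseChange u hu U hU U' hU' hle
  have hG : RelProj.domQ u p' chart' = ⊤ :=
    domQ_eq_top_of_forall u fun U hU U' hU' hle =>
      domOpen_eq_top_of_irrelevant_le _ (hirr U hU U' hU' hle)
  refine ⟨?_, fun h hh => ?_⟩
  · obtain ⟨v, hv⟩ := exists_qmapOn u hP hP'
    have hvOn := isProjQMapOn_of_pieces u v hv
    have : IsIso (RelProj.domQ u p' chart').ι := by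
      rw [hG]
      exact (show IsIso (Scheme.topIso P').hom from inferInstance)
    refine ⟨inv (RelProj.domQ u p' chart').ι ≫ v, hG, ?_⟩
    intro U hU U' hU' hle d hd f hf
    have hW := RelProj.range_awayEmb_subset_domQ u p' chart' U hU U' hU' hle hd f hf
    have h1 := hvOn U hU U' hU' hle d hd f hf hW
    rw [← h1, ← Category.assoc]
    congr 1
    rw [← cancel_mono (RelProj.domQ u p' chart').ι, Category.assoc, IsIso.inv_hom_id,
      Category.comp_id, IsOpenImmersion.lift_fac]
  · exact isPullback_relProj ψ (fun U U' hle => u.appLE U U' hle)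
      (fun U hU U' hU' hle => u.gradedAt U hU U' hU' hle) (fun _ _ _ _ _ _ => rfl) hu hirr hP hP' h
      (fun U hU U' hU' hle => emb_comp_of_isProjQMap u hh U hU U' hU' hle _)

end Groth.Agent.S12141
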