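import Groth.Statements.S4846
-- import your own Groth.Agent.* helpers here
import Mathlib
import Groth.Agent.Lib.Helper26AmpleLim
import Groth.Agent.Lib.Helper26RelAmpleLoc
import Groth.Agent.Lib.Helper22LimBC
import Groth.Agent.Lib.Helper23PB3
import Groth.Agent.Lib.Helper23Restr2

set_option autoImplicit false
universe u
open CategoryTheory AlgebraicGeometry
open Lim8

namespace Groth.Agent.S4846

open Groth.Agent.Lib.Helper26.AmpleLim Groth.Agent.Lib.Helper26.RelAmpleLoc Groth.Agent.Lib.Helper22.LimBC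
  Groth.Agent.Lib.Helper23.PB Groth.Agent.Lib.Helper23.SecTw Groth.Agent.Lib.Helper23.AmpleIso
  Groth.Agent.Lib.Helper26.ModLim2 Limits TopologicalSpace

set_option linter.style.haveILetI false

/-- the stage claim over one affine open of `Y₀`. -/
theorem stage_claim {I : Type u} [SmallCategory I] [IsCofiltered I]
    (D : I ⥤ Scheme.{u}) (c : Limits.Cone D) (hc : Limits.IsLimit c)
    [∀ (i j : I) (f : i ⟶ j), IsAffineHom (D.map f)] (i₀ : I)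
    {X₀ Y₀ : Scheme.{u}} (f₀ : X₀ ⟶ Y₀) (g₀ : Y₀ ⟶ D.obj i₀)
    [QuasiCompact f₀] [QuasiSeparated f₀]
    (L₀ : X₀.Modules) (hL₀ : PicF.IsInvertible L₀)
    {X Y : Scheme.{u}} (f : X ⟶ Y) (g : Y ⟶ c.pt) (qY : Y ⟶ Y₀) (qX : X ⟶ X₀)
    (hY : IsPullback qY g g₀ (c.π.app i₀)) (hX : IsPullback qX f f₀ qY)
    (hamp : RelAmple.IsRelAmple f ((Scheme.Modules.pullback qX).obj L₀))
    (V₀ : Y₀.Opens) (hV₀ : IsAffineOpen V₀) :
    ∃ j : Over i₀, ∀ (k : Over i₀) (_ : k ⟶ j),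
      CohB1.IsAmple ((Scheme.Modules.pullback (dFst D i₀ ((f₀ ⁻¹ᵁ V₀).ι ≫ f₀ ≫ g₀) k)).obj
        (L₀.restrict (f₀ ⁻¹ᵁ V₀).ι)) := by
  haveI hD : ∀ {i j : I} (φ : i ⟶ j), IsAffineHom (D.map φ) := fun φ => inferInstance
  haveI : IsAffineHom (c.π.app i₀) := isAffineHom_π_app D c hc i₀
  haveI : IsAffineHom qY := MorphismProperty.of_isPullback (P := @IsAffineHom) hY.flip inferInstance
  haveI : IsAffineHom qX := MorphismProperty.of_isPullback (P := @IsAffineHom) hX.flip inferInstance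
  have hqc : IsCompact (f₀ ⁻¹ᵁ V₀).carrier := QuasiCompact.isCompact_preimage (f := f₀) _ V₀.2 hV₀.isCompact
  haveI : CompactSpace (↑(f₀ ⁻¹ᵁ V₀) : Scheme.{u}) := isCompact_iff_compactSpace.1 hqc
  haveI : QuasiSeparatedSpace (↑(f₀ ⁻¹ᵁ V₀) : Scheme.{u}) :=
    (isQuasiSeparated_iff_quasiSeparatedSpace _ (f₀ ⁻¹ᵁ V₀).2).1
      (Scheme.Hom.isQuasiSeparated_preimage f₀ hV₀.isQuasiSeparated)
  have hM₀ : PicF.IsInvertible (L₀.restrict (f₀ ⁻¹ᵁ V₀).ι) := isInvertible_restrict L₀ hL₀ _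
  -- the pullback square
  have hXY : IsPullback qX (f ≫ g) (f₀ ≫ g₀) (c.π.app i₀) := hX.paste_vert hY
  have hU : IsPullback (qX ∣_ (f₀ ⁻¹ᵁ V₀)) ((qX ⁻¹ᵁ (f₀ ⁻¹ᵁ V₀)).ι ≫ f ≫ g) ((f₀ ⁻¹ᵁ V₀).ι ≫ f₀ ≫ g₀) (c.π.app i₀) :=
    (isPullback_morphismRestrict qX (f₀ ⁻¹ᵁ V₀)).paste_vert hXY
  -- ampleness at the limit
  have hUeq : f ⁻¹ᵁ (qY ⁻¹ᵁ V₀) = qX ⁻¹ᵁ (f₀ ⁻¹ᵁ V₀) := by
    rw [← Scheme.Hom.comp_preimage, ← Scheme.Hom.comp_preimage, hX.w]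
  have h1 : CohB1.IsAmple (((Scheme.Modules.pullback qX).obj L₀).restrict (f ⁻¹ᵁ (qY ⁻¹ᵁ V₀)).ι) :=
    hamp.2 ⟨qY ⁻¹ᵁ V₀, hV₀.preimage qY⟩
  rw [hUeq] at h1
  have h2 : CohB1.IsAmple ((Scheme.Modules.pullback (qX ∣_ (f₀ ⁻¹ᵁ V₀))).obj (L₀.restrict (f₀ ⁻¹ᵁ V₀).ι)) :=
    isAmple_of_iso (pullbackRestrictIso qX L₀ (f₀ ⁻¹ᵁ V₀)) h1
  -- the system
  have hc' : IsLimit (bcCone i₀ hU) := isLimitBcCone i₀ hU hc
  let b : Over i₀ := Over.mk (𝟙 i₀)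
  have hN₀ : PicF.IsInvertible ((Scheme.Modules.pullback (dFst D i₀ ((f₀ ⁻¹ᵁ V₀).ι ≫ f₀ ≫ g₀) b)).obj
      (L₀.restrict (f₀ ⁻¹ᵁ V₀).ι)) := isInvertible_pullback _ _ hM₀
  have h3 : CohB1.IsAmple ((Scheme.Modules.pullback (bcπ i₀ hU b)).obj
      ((Scheme.Modules.pullback (dFst D i₀ ((f₀ ⁻¹ᵁ V₀).ι ≫ f₀ ≫ g₀) b)).obj (L₀.restrict (f₀ ⁻¹ᵁ V₀).ι))) :=
    isAmple_of_iso ((compIso (bcπ i₀ hU b) (dFst D i₀ _ b) _ (bcπ_fst i₀ hU b)).app _).symm h2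
  obtain ⟨j, φ, hj⟩ := exists_isAmple_stage (bcDiagram D i₀ ((f₀ ⁻¹ᵁ V₀).ι ≫ f₀ ≫ g₀)) (bcCone i₀ hU) hc' b _ hN₀ h3
  refine ⟨j, fun k a => ?_⟩
  have h4 := isAmple_pullback_of_isAffineHom ((bcDiagram D i₀ ((f₀ ⁻¹ᵁ V₀).ι ≫ f₀ ≫ g₀)).map a) _ hj
  have h5 := isAmple_of_iso ((compIso ((bcDiagram D i₀ ((f₀ ⁻¹ᵁ V₀).ι ≫ f₀ ≫ g₀)).map a)
    ((bcDiagram D i₀ ((f₀ ⁻¹ᵁ V₀).ι ≫ f₀ ≫ g₀)).map φ) _ rfl).app _) h4
  have e6 : ((bcDiagram D i₀ ((f₀ ⁻¹ᵁ V₀).ι ≫ f₀ ≫ g₀)).map a ≫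
      (bcDiagram D i₀ ((f₀ ⁻¹ᵁ V₀).ι ≫ f₀ ≫ g₀)).map φ) ≫ dFst D i₀ ((f₀ ⁻¹ᵁ V₀).ι ≫ f₀ ≫ g₀) b =
      dFst D i₀ ((f₀ ⁻¹ᵁ V₀).ι ≫ f₀ ≫ g₀) k := by
    rw [Category.assoc, map_dFst, map_dFst]
  exact isAmple_of_iso ((compIso _ _ _ e6).app _) h5

/-- Let S = lim S_i be a cofiltered limit of schemes with affine transition maps and S_{i₀} a
quasi-compact stage; let X₀ and Y₀ be schemes of finite presentation over S_{i₀}, f₀ : X₀ ⟶ Y₀ an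
S_{i₀}-morphism and L₀ an invertible O_{X₀}-module. Let f : X ⟶ Y be the base change of f₀ along S ⟶
S_{i₀} and L the pullback of L₀ to X (base changes are expressed by pullback squares). Then L is
ample relative to f if and only if, for some index j over i₀, the pullback L_j of L₀ to X_j is ample
relative to the base change f_j : X_j ⟶ Y_j of f₀ along S_j ⟶ S_{i₀}. This is the case of relative
ampleness (the very ample case is not stated here). -/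
theorem result {I : Type u} [SmallCategory I] [IsCofiltered I]
    (D : I ⥤ Scheme.{u}) (c : Limits.Cone D) (hc : Limits.IsLimit c)
    [∀ (i j : I) (f : i ⟶ j), IsAffineHom (D.map f)] (i₀ : I) [CompactSpace (D.obj i₀)]
    {X₀ Y₀ : Scheme.{u}} (f₀ : X₀ ⟶ Y₀) (g₀ : Y₀ ⟶ D.obj i₀)
    [LocallyOfFinitePresentation g₀] [QuasiCompact g₀] [QuasiSeparated g₀]
    [LocallyOfFinitePresentation (f₀ ≫ g₀)] [QuasiCompact (f₀ ≫ g₀)] [QuasiSeparated (f₀ ≫ g₀)]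
    (L₀ : X₀.Modules) (hL₀ : PicF.IsInvertible L₀)
    {X Y : Scheme.{u}} (f : X ⟶ Y) (g : Y ⟶ c.pt) (qY : Y ⟶ Y₀) (qX : X ⟶ X₀)
    (hY : IsPullback qY g g₀ (c.π.app i₀)) (hX : IsPullback qX f f₀ qY) :
    RelAmple.IsRelAmple f ((Scheme.Modules.pullback qX).obj L₀) ↔
      ∃ (j : I) (φ : j ⟶ i₀) (Xj Yj : Scheme.{u}) (fj : Xj ⟶ Yj) (gj : Yj ⟶ D.obj j) (pY : Yj ⟶ Y₀)
        (pX : Xj ⟶ X₀), IsPullback pY gj g₀ (D.map φ) ∧ IsPullback pX fj f₀ pY ∧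
          RelAmple.IsRelAmple fj ((Scheme.Modules.pullback pX).obj L₀) := by
  classical
  haveI hD : ∀ {i j : I} (φ : i ⟶ j), IsAffineHom (D.map φ) := fun φ => inferInstance
  haveI : QuasiCompact f₀ := QuasiCompact.of_comp f₀ g₀
  haveI : QuasiSeparated f₀ := QuasiSeparated.of_comp f₀ g₀
  haveI : CompactSpace Y₀ := QuasiCompact.compactSpace_of_compactSpace g₀
  constructor
  · intro hamp
    -- a finite affine cover of `Y₀`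
    have hcov : ∀ y : Y₀, ∃ V₀ : Y₀.Opens, IsAffineOpen V₀ ∧ y ∈ V₀ := fun y => by
      obtain ⟨V, hV, hyV, -⟩ := exists_isAffineOpen_mem_and_subset (x := y) (U := ⊤) trivial
      exact ⟨V, hV, hyV⟩
    choose V₀ hV₀ hyV₀ using hcov
    obtain ⟨t, ht⟩ := CompactSpace.elim_nhds_subcover (fun y => (V₀ y : Set Y₀))
      (fun y => (V₀ y).2.mem_nhds (hyV₀ y))
    have hst := fun y : Y₀ => stage_claim D c hc i₀ f₀ g₀ L₀ hL₀ f g qY qX hY hX hamp (V₀ y) (hV₀ y)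
    choose js hjs using hst
    obtain ⟨j, hj⟩ := IsCofiltered.inf_objs_exists (t.image js)
    obtain ⟨Yj, pY, gj, hYj⟩ : ∃ (Yj : Scheme.{u}) (pY : Yj ⟶ Y₀) (gj : Yj ⟶ D.obj j.left),
        IsPullback pY gj g₀ (D.map j.hom) := ⟨_, _, _, IsPullback.of_hasPullback _ _⟩
    obtain ⟨Xj, pX, fj, hXj⟩ : ∃ (Xj : Scheme.{u}) (pX : Xj ⟶ X₀) (fj : Xj ⟶ Yj),
        IsPullback pX fj f₀ pY := ⟨_, _, _, IsPullback.of_hasPullback _ _⟩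
    refine ⟨j.left, j.hom, Xj, Yj, fj, gj, pY, pX, hYj, hXj, ?_⟩
    haveI : IsAffineHom pY := MorphismProperty.of_isPullback (P := @IsAffineHom) hYj.flip inferInstance
    haveI : QuasiCompact fj := MorphismProperty.of_isPullback (P := @QuasiCompact) hXj inferInstance
    haveI : QuasiSeparated fj := MorphismProperty.of_isPullback (P := @QuasiSeparated) hXj inferInstance
    apply isRelAmple_of_affine_cover fj _ (isInvertible_pullback pX L₀ hL₀)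
    intro y'
    have h1 : pY y' ∈ ⋃ y ∈ t, (V₀ y : Set Y₀) := by rw [ht]; trivial
    obtain ⟨y, hyt, hxy⟩ := Set.mem_iUnion₂.1 h1
    refine ⟨pY ⁻¹ᵁ V₀ y, (hV₀ y).preimage pY, hxy, ?_⟩
    obtain ⟨a⟩ := hj (Finset.mem_image_of_mem js hyt)
    have hWeq : fj ⁻¹ᵁ (pY ⁻¹ᵁ V₀ y) = pX ⁻¹ᵁ (f₀ ⁻¹ᵁ V₀ y) := by
      rw [← Scheme.Hom.comp_preimage, ← Scheme.Hom.comp_preimage, hXj.w]
    rw [hWeq]
    refine isAmple_of_iso (pullbackRestrictIso pX L₀ (f₀ ⁻¹ᵁ V₀ y)).symm ?_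
    have hXYj : IsPullback pX (fj ≫ gj) (f₀ ≫ g₀) (D.map j.hom) := hXj.paste_vert hYj
    have hWpb : IsPullback (pX ∣_ (f₀ ⁻¹ᵁ V₀ y)) ((pX ⁻¹ᵁ (f₀ ⁻¹ᵁ V₀ y)).ι ≫ fj ≫ gj)
        ((f₀ ⁻¹ᵁ V₀ y).ι ≫ f₀ ≫ g₀) (D.map j.hom) :=
      (isPullback_morphismRestrict pX (f₀ ⁻¹ᵁ V₀ y)).paste_vert hXYj
    have h2 := hjs y j a
    have h3 := isAmple_pullback_of_isAffineHom hWpb.isoPullback.hom _ h2
    exact isAmple_of_iso ((compIso hWpb.isoPullback.hom (dFst D i₀ ((f₀ ⁻¹ᵁ V₀ y).ι ≫ f₀ ≫ g₀) j) _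
      hWpb.isoPullback_hom_fst).app _) h3
  · rintro ⟨j, φ, Xj, Yj, fj, gj, pY, pX, hYj, hXj, hampj⟩
    haveI : IsAffineHom (c.π.app j) := isAffineHom_π_app D c hc j
    have hwY : qY ≫ g₀ = (g ≫ c.π.app j) ≫ D.map φ := by rw [hY.w, Category.assoc, c.w]
    obtain ⟨rY, hrY1, hrY2⟩ : ∃ rY : Y ⟶ Yj, rY ≫ pY = qY ∧ rY ≫ gj = g ≫ c.π.app j :=
      ⟨hYj.lift _ _ hwY, hYj.lift_fst _ _ _, hYj.lift_snd _ _ _⟩
    have hsqY : IsPullback rY g gj (c.π.app j) := by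
      have big : IsPullback (rY ≫ pY) g g₀ (c.π.app j ≫ D.map φ) := by
        rw [hrY1, c.w]; exact hY
      exact IsPullback.of_right big hrY2 hYj
    haveI : IsAffineHom rY := MorphismProperty.of_isPullback (P := @IsAffineHom) hsqY.flip inferInstance
    have hwX : qX ≫ f₀ = (f ≫ rY) ≫ pY := by rw [hX.w, Category.assoc, hrY1]
    obtain ⟨rX, hrX1, hrX2⟩ : ∃ rX : X ⟶ Xj, rX ≫ pX = qX ∧ rX ≫ fj = f ≫ rY :=
      ⟨hXj.lift _ _ hwX, hXj.lift_fst _ _ _, hXj.lift_snd _ _ _⟩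
    have hsqX : IsPullback rX f fj rY := by
      have big : IsPullback (rX ≫ pX) f f₀ (rY ≫ pY) := by
        rw [hrX1, hrY1]; exact hX
      exact IsPullback.of_right big hrX2 hXj
    haveI : IsAffineHom rX := MorphismProperty.of_isPullback (P := @IsAffineHom) hsqX.flip inferInstance
    haveI : QuasiCompact f := MorphismProperty.of_isPullback (P := @QuasiCompact) hX inferInstance
    haveI : QuasiSeparated f := MorphismProperty.of_isPullback (P := @QuasiSeparated) hX inferInstance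
    apply isRelAmple_of_affine_cover f _ (isInvertible_pullback qX L₀ hL₀)
    intro y
    obtain ⟨Vj, hVj, hyVj, -⟩ := exists_isAffineOpen_mem_and_subset (x := rY y) (U := ⊤) trivial
    refine ⟨rY ⁻¹ᵁ Vj, hVj.preimage rY, hyVj, ?_⟩
    have hOeq : f ⁻¹ᵁ (rY ⁻¹ᵁ Vj) = rX ⁻¹ᵁ (fj ⁻¹ᵁ Vj) := by
      rw [← Scheme.Hom.comp_preimage, ← Scheme.Hom.comp_preimage, hrX2]
    rw [hOeq]
    have h1 : CohB1.IsAmple (((Scheme.Modules.pullback pX).obj L₀).restrict (fj ⁻¹ᵁ Vj).ι) := hampj.2 ⟨Vj, hVj⟩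
    haveI : IsAffineHom (rX ∣_ (fj ⁻¹ᵁ Vj)) :=
      MorphismProperty.of_isPullback (P := @IsAffineHom) (isPullback_morphismRestrict rX (fj ⁻¹ᵁ Vj)).flip
        inferInstance
    have h2 := isAmple_pullback_of_isAffineHom (rX ∣_ (fj ⁻¹ᵁ Vj)) _ h1
    have h3 := isAmple_of_iso (pullbackRestrictIso rX ((Scheme.Modules.pullback pX).obj L₀) (fj ⁻¹ᵁ Vj)).symm h2
    exact isAmple_of_iso ((Scheme.Modules.restrictFunctor _).mapIso ((compIso rX pX qX hrX1).app L₀)) h3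

end Groth.Agent.S4846
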