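import Groth.Statements.S16288
import Groth.Agent.S2380
import Mathlib

set_option autoImplicit false
universe u
open CategoryTheory
open FlatCx

namespace Groth.Agent.S16288

section Helpers
open CategoryTheory TensorProduct Topology Groth.Agent.S2380

/-- fibre dimension of the cokernel of a differential -/
noncomputable def cc {A : Type u} [CommRing A] (P : ChainComplex (ModuleCat.{u} A) ℤ) (i j : ℤ)
    (x : PrimeSpectrum A) : ℕ :=
  fd (P.X j ⧸ LinearMap.range (P.d i j).hom) x

theorem dRank_add' {A : Type u} [CommRing A] (P : ChainComplex (ModuleCat.{u} A) ℤ)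
    (hP : ∀ i, Module.Finite A (P.X i)) (p i j : ℤ) (hi : p + 1 = i) (hj : p - 1 = j)
    (x : PrimeSpectrum A) :
    CohIII.dRank P p x + fd (P.X j) x = cc P i p x + cc P p j x := by
  have hi' : (ComplexShape.down ℤ).prev p = i := by rw [ChainComplex.prev]; exact hi
  have hj' : (ComplexShape.down ℤ).next p = j := by rw [ChainComplex.next]; exact hj
  subst hi' hj'
  exact dRank_add P hP p x

theorem cc_eventually_le {A : Type u} [CommRing A] (P : ChainComplex (ModuleCat.{u} A) ℤ)
    (hP : ∀ i, Module.Finite A (P.X i)) (i j : ℤ) (x0 : PrimeSpectrum A) :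
    ∀ᶠ x in 𝓝 x0, cc P i j x ≤ cc P i j x0 := by
  have := hP j
  exact fd_eventually_le _ x0

end Helpers

/-- Let A be a Noetherian ring and P a chain complex of finitely generated flat A-modules, and for p and
a point x of Spec A let d_p(x) = dim_{k(x)} H_p(P ⊗_A k(x)). Fix p and a point z. If d_{p-1} and
d_{p+1} are constant on some neighbourhood of z, then d_p is constant on some neighbourhood of z.
(The published assertion concerns the function y ↦ dim H^p(X_y, F_y) for a coherent sheaf F flat
over a projective morphism of Noetherian schemes X → Y: if it is not constant near a point, then the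
functions for p - 1 and p + 1 are not both constant near that point. Stated here is the
corresponding property for any chain complex of finitely generated flat modules over a Noetherian
ring, from which the published form follows by applying it to a finite complex of such modules
computing the cohomology of the fibres.) -/
theorem result {A : Type u} [CommRing A] [IsNoetherianRing A]
    (P : ChainComplex (ModuleCat.{u} A) ℤ) (hP : ∀ i, Module.Finite A (P.X i) ∧ Module.Flat A (P.X i))
    (p : ℤ) (z : PrimeSpectrum A)
    (hlo : ∀ᶠ x in nhds z, CohIII.dRank P (p - 1) x = CohIII.dRank P (p - 1) z)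
    (hhi : ∀ᶠ x in nhds z, CohIII.dRank P (p + 1) x = CohIII.dRank P (p + 1) z) :
    ∀ᶠ x in nhds z, CohIII.dRank P p x = CohIII.dRank P p z := by
  have hfin : ∀ i, Module.Finite A (P.X i) := fun i => (hP i).1
  have hX : ∀ j, ∀ᶠ x in nhds z, Groth.Agent.S2380.fd (P.X j) x = Groth.Agent.S2380.fd (P.X j) z := by
    intro j
    have := (hP j).1
    have := (hP j).2
    exact Groth.Agent.S2380.fd_eventually_eq (P.X j) z
  filter_upwards [hlo, hhi, hX p, hX (p - 1), hX (p - 1 - 1),
    cc_eventually_le P hfin (p + 1 + 1) (p + 1) z, cc_eventually_le P hfin (p + 1) p z,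
    cc_eventually_le P hfin p (p - 1) z, cc_eventually_le P hfin (p - 1) (p - 1 - 1) z]
    with x h1 h2 h3 h4 h5 h6 h7 h8 h9
  have a1 := dRank_add' P hfin (p + 1) (p + 1 + 1) p rfl (by ring) x
  have a2 := dRank_add' P hfin (p + 1) (p + 1 + 1) p rfl (by ring) z
  have b1 := dRank_add' P hfin p (p + 1) (p - 1) rfl rfl x
  have b2 := dRank_add' P hfin p (p + 1) (p - 1) rfl rfl z
  have c1 := dRank_add' P hfin (p - 1) p (p - 1 - 1) (by ring) rfl x
  have c2 := dRank_add' P hfin (p - 1) p (p - 1 - 1) (by ring) rfl z
  omega

end Groth.Agent.S16288
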