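import Groth.Statements.S4490
import Groth.Agent.Lib.Helper3FlatCx
import Groth.Agent.S2375
import Groth.Agent.S2410
import Mathlib

set_option autoImplicit false
universe u
open FlatCx

namespace Groth.Agent.S4490

section Helpers
open CategoryTheory CategoryTheory.Limits MonoidalCategory Groth.Agent.Lib.Helper3

/-- the short exact sequence `0 → ker φ → M → N → 0` of a surjective linear map -/
noncomputable def kerSC {A : Type u} [CommRing A] {M N : Type u} [AddCommGroup M] [AddCommGroup N]
    [Module A M] [Module A N] (φ : M →ₗ[A] N) : ShortComplex (ModuleCat.{u} A) :=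
  ShortComplex.mk (ModuleCat.ofHom (LinearMap.ker φ).subtype) (ModuleCat.ofHom φ) (by
    ext x
    exact x.2)

theorem kerSC_shortExact {A : Type u} [CommRing A] {M N : Type u} [AddCommGroup M]
    [AddCommGroup N] [Module A M] [Module A N] (φ : M →ₗ[A] N) (hφ : Function.Surjective φ) :
    (kerSC φ).ShortExact := by
  have hmono : Mono (kerSC φ).f :=
    (ModuleCat.mono_iff_injective _).mpr (Submodule.injective_subtype _)
  have hepi : Epi (kerSC φ).g := (ModuleCat.epi_iff_surjective _).mpr hφ
  refine ShortComplex.ShortExact.mk' ?_ hmono hepi
  rw [ShortComplex.moduleCat_exact_iff]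
  intro x hx
  exact ⟨⟨x, hx⟩, rfl⟩

theorem phiN_surjective (A : Type u) [CommRing A] [IsLocalRing A] (n : ℕ) :
    Function.Surjective (phiN A n) :=
  Ideal.Quotient.factor_surjective (Ideal.pow_le_self (I := IsLocalRing.maximalIdeal A)
    (Nat.succ_ne_zero n))

end Helpers

open CategoryTheory CategoryTheory.Limits in

open CategoryTheory CategoryTheory.Limits in
/-- The case of the functor T_p(M) = H_p(P ⊗_A M) of a chain complex P of finitely generated flat
modules over a Noetherian local ring A with maximal ideal m and residue field k. Then T_p takes
surjections to surjections if and only if the map T_p(A) → T_p(k) induced by A → k is surjective;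
and also if and only if, for all sufficiently large n (there is n₀ such that for every n ≥ n₀), the
map T_p(A/m^(n+1)) → T_p(A/m) induced by the projection is surjective. (Surjectivity at one n gives
it at every smaller n, so this is the same as asking it for every n; at n = 0 alone the map is an
isomorphism and the condition would be empty.) -/
theorem result {A : Type u} [CommRing A] [IsNoetherianRing A]
    [IsLocalRing A] (P : ChainComplex (ModuleCat.{u} A) ℤ)
    (hP : ∀ i, Module.Finite A (P.X i) ∧ Module.Flat A (P.X i)) (p : ℤ) :
    ((CohIII.TFun P p).PreservesEpimorphisms ↔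
      Function.Surjective ((CohIII.TFun P p).map
        (ModuleCat.ofHom (Algebra.linearMap A (IsLocalRing.ResidueField A)))).hom) ∧
    ((CohIII.TFun P p).PreservesEpimorphisms ↔
      ∃ n₀ : ℕ, ∀ n : ℕ, n₀ ≤ n → Function.Surjective ((CohIII.TFun P p).map (ModuleCat.ofHom
        (Ideal.Quotient.factorₐ A (Ideal.pow_le_self (I := IsLocalRing.maximalIdeal A)
          (Nat.succ_ne_zero n))).toLinearMap :
        ModuleCat.of A (A ⧸ IsLocalRing.maximalIdeal A ^ (n + 1)) ⟶
          ModuleCat.of A (A ⧸ IsLocalRing.maximalIdeal A))).hom) := by
  open Groth.Agent.Lib.Helper3 in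
  have hflat : ∀ i, Module.Flat A (P.X i) := fun i => (hP i).2
  have hrel : (ComplexShape.down ℤ).Rel p (p - 1) := by
    show p - 1 + 1 = p
    ring
  have hiff := Groth.Agent.S2410.preservesEpi_iff_flat_opcycles P hflat p (p - 1) (by ring)
  have := (hP (p - 1)).1
  have hWfin := finite_opcycles P (p - 1)
  have hWfp : Module.FinitePresentation A (P.opcycles (p - 1)) :=
    Module.finitePresentation_of_finite A _
  constructor
  · constructor
    · intro he
      have hres : Epi (ModuleCat.ofHom (Algebra.linearMap A (IsLocalRing.ResidueField A))) :=
        (ModuleCat.epi_iff_surjective _).mpr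
          (show Function.Surjective (Algebra.linearMap A (IsLocalRing.ResidueField A)) from
            IsLocalRing.residue_surjective)
      exact (ModuleCat.epi_iff_surjective _).mp (he.preserves _)
    · intro hs
      have hfree := free_opcycles_of_surjective P hP p (p - 1) hrel hs
      exact hiff.mpr inferInstance
  · constructor
    · intro he
      refine ⟨0, fun n _ => ?_⟩
      have hepi : Epi (ModuleCat.ofHom (phiN A n)) :=
        (ModuleCat.epi_iff_surjective _).mpr (phiN_surjective A n)
      exact (ModuleCat.epi_iff_surjective _).mp (he.preserves (ModuleCat.ofHom (phiN A n)))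
    · rintro ⟨n₀, hn₀⟩
      have hinj : ∀ n, n₀ ≤ n → Function.Injective
          ((LinearMap.ker (phiN A n)).subtype.lTensor (P.opcycles (p - 1))) := by
        intro n hn
        have hepi : Epi ((CohIII.TFun P p).map (kerSC (phiN A n)).g) :=
          (ModuleCat.epi_iff_surjective _).mpr (hn₀ n hn)
        have hmono := mono_T_map_of_epi P hflat (kerSC (phiN A n))
          (kerSC_shortExact _ (phiN_surjective A n)) p (p - 1) hrel hepi
        have hm : Mono (kerSC (phiN A n)).f := (kerSC_shortExact _ (phiN_surjective A n)).mono_f
        have h2 := mono_whiskerLeft_opcycles P (p - 1) (hflat _) (kerSC (phiN A n)).f hmono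
        exact (ModuleCat.mono_iff_injective _).mp h2
      have hinj' := lTensor_maximalIdeal_injective_of_forall_large (P.opcycles (p - 1)) n₀ hinj
      have hfree : Module.Free A (P.opcycles (p - 1)) := by
        apply Module.free_of_maximalIdeal_rTensor_injective
        rw [← LinearMap.lTensor_inj_iff_rTensor_inj]
        exact hinj'
      exact hiff.mpr inferInstance

end Groth.Agent.S4490
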