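import Groth.Statements.S3572
import Groth.Agent.Lib.Helper13ProjUPb
-- import your own Groth.Agent.* helpers here

set_option autoImplicit false
universe u
open CategoryTheory CategoryTheory.Limits AlgebraicGeometry
open EGA2

namespace Groth.Agent.S3572

open Groth.Agent.Helper13ProjUP Groth.Agent.Helper13PullbackUnit Groth.Agent.Lib.Helper27GrTildeSect in
theorem unitSec_top {X Y : Scheme.{u}} (r : X ⟶ Y) (F : Y.Modules) (x : ProjUP.Γm F) :
    unitSec r F (le_top : (⊤ : X.Opens) ≤ r ⁻¹ᵁ ⊤) x = ProjUP.pullSec r F x := by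
  rw [unitSec_apply]
  exact Groth.Agent.Lib.Helper23.SecTw.res_self ((Scheme.Modules.pullback r).obj F) (ProjUP.pullSec r F x)

open Groth.Agent.Lib.Helper27GrTildeSect in
theorem gsec_congr {R A : Type u} [CommRing R] [CommRing A] [Algebra R A] (𝒜 : ℕ → Submodule R A)
    [GradedAlgebra 𝒜] {b b' : A} (hb : b ∈ 𝒜 1) (hb' : b' ∈ 𝒜 1) (h : b = b') :
    gsec 𝒜 1 ⊤ hb = gsec 𝒜 1 ⊤ hb' := by
  subst h
  rfl


/-- Existence part of the universal property of projective n-space over an affine base Spec R (the
published statement is for P(E) with E an arbitrary quasi-coherent module; here E is the free module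
of rank n+1, so that P(E) is projective n-space over R): let X be a scheme over R, L an invertible
O_X-module and s_0, …, s_n global sections of L generating L. Then there is an R-morphism r from X
to projective n-space over R and an isomorphism r^*O(1) ≅ L carrying the inverse image of the
coordinate T_i to s_i for every i. -/
theorem result {R : Type u} [CommRing R] (n : ℕ) {X : Scheme.{u}}
    (q : X ⟶ Spec (CommRingCat.of R)) (L : X.Modules) (hL : PicF.IsInvertible L)
    (s : Fin (n + 1) → ProjUP.Γm L) (hs : ProjUP.GeneratedBy L s) :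
    ∃ (r : X ⟶ CohB1.ProjSpace n R) (_ : r ≫ CohB1.ProjSpace.toSpec n R = q)
      (τ : (Scheme.Modules.pullback r).obj (Twist.twistProjSpace n R 1) ≅ L),
      ∀ i, τ.hom.app ⊤ (ProjUP.pullSec r (Twist.twistProjSpace n R 1) (ProjUP.coord n R i)) = s i := by
  classical
  let b : Module.Basis (Fin (n + 1)) R (Fin (n + 1) → R) := Pi.basisFun R (Fin (n + 1))
  let ι : (Fin (n + 1) → R) →ₗ[R] MvPolynomial (Fin (n + 1)) R :=
    Module.Basis.constr b R (MvPolynomial.X : Fin (n + 1) → MvPolynomial (Fin (n + 1)) R)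
  have hsym : IsSymmetricAlgebra ι := SymmetricAlgebra.IsSymmetricAlgebra.mvPolynomial (Fin (n + 1)) b
  have hιb : ∀ i, ι (Pi.single i 1) = MvPolynomial.X i := by
    intro i
    have := Module.Basis.constr_basis b R (MvPolynomial.X : Fin (n + 1) → MvPolynomial (Fin (n + 1)) R) i
    rwa [Pi.basisFun_apply] at this
  have hι : ∀ m, ι m ∈ CohB1.polyGrading n R 1 := by
    intro m
    have hm : m = ∑ i, m i • (Pi.single i (1 : R) : Fin (n + 1) → R) := by
      ext j
      simp [Finset.sum_apply, Pi.single_apply]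
    rw [hm, map_sum]
    refine Submodule.sum_mem _ (fun i _ => ?_)
    rw [map_smul, hιb]
    exact Submodule.smul_mem _ _ (MvPolynomial.isHomogeneous_X R i)
  let v : (Fin (n + 1) → R) →+ ProjUP.Γm L :=
    { toFun := fun m => ∑ i, ProjUP.toGlobal q (m i) • s i
      map_zero' := by simp
      map_add' := fun m m' => by
        simp only [Pi.add_apply, map_add, add_smul, Finset.sum_add_distrib] }
  have hv : ∀ (c : R) (m : Fin (n + 1) → R), v (c • m) = ProjUP.toGlobal q c • v m := by
    intro c m
    change ∑ i, ProjUP.toGlobal q ((c • m) i) • s i = ProjUP.toGlobal q c • ∑ i, ProjUP.toGlobal q (m i) • s i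
    rw [Finset.smul_sum]
    refine Finset.sum_congr rfl (fun i _ => ?_)
    rw [Pi.smul_apply, smul_eq_mul, map_mul, mul_smul]
  have hvb : ∀ i, v (Pi.single i 1) = s i := by
    intro i
    change ∑ j, ProjUP.toGlobal q ((Pi.single i (1 : R) : Fin (n + 1) → R) j) • s j = s i
    rw [Finset.sum_eq_single i]
    · rw [Pi.single_eq_same, map_one, one_smul]
    · intro j _ hj
      rw [Pi.single_eq_of_ne hj, map_zero, zero_smul]
    · intro h
      exact absurd (Finset.mem_univ i) h
  have hgen : ProjUP.GeneratedBy L v := by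
    intro x
    rw [eq_top_iff, ← hs x]
    apply Submodule.span_mono
    rintro _ ⟨i, rfl⟩
    exact ⟨Pi.single i 1, by simp only [hvb]⟩
  obtain ⟨r, hrq, τ, hτ⟩ := Groth.Agent.Helper13ProjUP.exists_mor_iso (CohB1.polyGrading n R) ι q L v hι hsym hL hv hgen
  refine ⟨r, hrq, τ, fun i => ?_⟩
  have h1 := hτ (Pi.single i 1)
  rw [unitSec_top, hvb] at h1
  rw [← h1]
  congr 2
  exact (gsec_congr (CohB1.polyGrading n R) (hι (Pi.single i 1)) (MvPolynomial.isHomogeneous_X R i) (hιb i)).symm

end Groth.Agent.S3572
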