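import Groth.Statements.S2327
import Mathlib
import Groth.Agent.Lib.Helper23SecTw6
-- import your own Groth.Agent.* helpers here

set_option autoImplicit false
universe u
open CategoryTheory CategoryTheory.Limits AlgebraicGeometry
open EGA2

namespace Groth.Agent.S2327


open TopologicalSpace Opposite
open Groth.Agent.Lib.Helper23.SecTw Groth.Agent.Lib.Helper23.GenLocus Groth.Agent.Lib.Helper6
open Groth.Agent.Lib.Helper23.TensorUnit Groth.Agent.Lib.Helper23.AmpleIso

/-- Let X be a quasi-compact separated scheme, L an invertible module and n > 0. Then L is ample if and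
only if L^{⊗n} is ample. -/
theorem result (X : Scheme.{u}) [CompactSpace X] [X.IsSeparated] (L : X.Modules) (hL : PicF.IsInvertible L) (n : ℕ) (hn : 0 < n) :
    CohB1.IsAmple L ↔ CohB1.IsAmple (CohB1.tensorPow L n) := by
  constructor
  · rintro ⟨-, hc, h⟩
    refine ⟨isInvertible_tensorPow hL n, hc, fun x => ?_⟩
    obtain ⟨k, s, hxs, haff⟩ := h x
    obtain ⟨Φ₁⟩ := nonempty_tensorPow_tensorPow_iso L hL (k + 1) n ((k + 1) * n) rfl
    obtain ⟨Φ₂⟩ := nonempty_tensorPow_tensorPow_iso L hL n (k + 1) ((k + 1) * n) (Nat.mul_comm _ _)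
    refine ⟨k, SecTwist.powHom s n ≫ (Φ₁ ≪≫ Φ₂.symm).hom, ?_⟩
    rw [genLocus_comp_iso, genLocus_powHom (isInvertible_tensorPow hL (k + 1)) s n hn]
    exact ⟨hxs, haff⟩
  · rintro ⟨-, hc, h⟩
    refine ⟨hL, hc, fun x => ?_⟩
    obtain ⟨k, σ, hxσ, haff⟩ := h x
    obtain ⟨k', hk'⟩ : ∃ k', n * (k + 1) = k' + 1 := ⟨n * (k + 1) - 1, by
      have : 0 < n * (k + 1) := Nat.mul_pos hn (Nat.succ_pos k)
      omega⟩
    obtain ⟨Φ⟩ := nonempty_tensorPow_tensorPow_iso L hL n (k + 1) (k' + 1) hk'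
    refine ⟨k', σ ≫ Φ.hom, ?_⟩
    rw [genLocus_comp_iso]
    exact ⟨hxσ, haff⟩

end Groth.Agent.S2327
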