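import Groth.Statements.S2328
import Mathlib
import Groth.Agent.Lib.Helper23SecTw6
import Groth.Agent.S2350
-- import your own Groth.Agent.* helpers here

set_option autoImplicit false
universe u
open CategoryTheory CategoryTheory.Limits AlgebraicGeometry
open EGA2

namespace Groth.Agent.S2328


open TopologicalSpace Opposite
open Groth.Agent.Lib.Helper23.SecTw Groth.Agent.Lib.Helper23.GenLocus Groth.Agent.Lib.Helper6
open Groth.Agent.Lib.Helper23.TensorUnit Groth.Agent.Lib.Helper23.AmpleIso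

theorem isAffineOpen_inf_genLocus {X : Scheme.{u}} (L : X.Modules) (hL : PicF.IsInvertible L)
    (s : Coh.structureModule X ⟶ L) (U : X.Opens) (hU : IsAffineOpen U) :
    IsAffineOpen (U ⊓ CohB1.genLocus L s) := by
  have h1 : IsAffineHom (CohB1.genLocus L s).ι := Groth.Agent.S2350.result X L hL s
  have h2 : IsAffineOpen ((CohB1.genLocus L s).ι ⁻¹ᵁ U) := hU.preimage (CohB1.genLocus L s).ι
  have h3 := h2.image_of_isOpenImmersion (CohB1.genLocus L s).ι
  rw [Scheme.Hom.image_preimage_eq_opensRange_inf, Scheme.Opens.opensRange_ι, inf_comm] at h3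
  exact h3

/-- Let X be a quasi-compact separated scheme, L an ample invertible module and L' an invertible module
such that every point of X lies in the generating locus X_{s'} of some global section s' of some
positive power of L'. Then L ⊗ L' is ample. -/
theorem result (X : Scheme.{u}) [CompactSpace X] [X.IsSeparated] (L L' : X.Modules) (hL : CohB1.IsAmple L) (hL' : PicF.IsInvertible L')
    (h : ∀ x : X, ∃ (n : ℕ) (s' : Coh.structureModule X ⟶ CohB1.tensorPow L' (n + 1)), x ∈ CohB1.genLocus _ s') :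
    CohB1.IsAmple (CohB1.tensorMod L L') := by
  obtain ⟨hinv, hc, hamp⟩ := hL
  refine ⟨isInvertible_tensorMod hinv hL', hc, fun x => ?_⟩
  obtain ⟨k, s, hxs, haff⟩ := hamp x
  obtain ⟨j, s', hxs'⟩ := h x
  obtain ⟨N', hN'⟩ : ∃ N', (k + 1) * (j + 1) = N' + 1 := ⟨(k + 1) * (j + 1) - 1, by
    have : 0 < (k + 1) * (j + 1) := Nat.mul_pos (Nat.succ_pos k) (Nat.succ_pos j)
    omega⟩
  obtain ⟨Φ₁⟩ := nonempty_tensorPow_tensorPow_iso L hinv (k + 1) (j + 1) (N' + 1) hN'
  obtain ⟨Φ₂⟩ := nonempty_tensorPow_tensorPow_iso L' hL' (j + 1) (k + 1) (N' + 1) ((Nat.mul_comm _ _).trans hN')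
  obtain ⟨Φ₃⟩ := nonempty_tensorPow_tensorMod_iso L L' hinv hL' (N' + 1)
  refine ⟨N', SecTwist.tmulHom (SecTwist.powHom s (j + 1) ≫ Φ₁.hom) (SecTwist.powHom s' (k + 1) ≫ Φ₂.hom) ≫ Φ₃.hom, ?_⟩
  rw [genLocus_comp_iso, genLocus_tmulHom (isInvertible_tensorPow hinv _) (isInvertible_tensorPow hL' _),
    genLocus_comp_iso, genLocus_comp_iso, genLocus_powHom (isInvertible_tensorPow hinv _) s _ (Nat.succ_pos j),
    genLocus_powHom (isInvertible_tensorPow hL' _) s' _ (Nat.succ_pos k)]
  exact ⟨⟨hxs, hxs'⟩, isAffineOpen_inf_genLocus _ (isInvertible_tensorPow hL' _) s' _ haff⟩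

end Groth.Agent.S2328
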