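import Groth.Statements.S2329
import Mathlib
import Groth.Agent.Lib.Helper23SecTw10
import Groth.Agent.S2327
import Groth.Agent.S2328
-- import your own Groth.Agent.* helpers here

set_option autoImplicit false
universe u
open CategoryTheory CategoryTheory.Limits AlgebraicGeometry
open EGA2

namespace Groth.Agent.S2329

open TopologicalSpace
open Groth.Agent.Lib.Helper23.SecTw Groth.Agent.Lib.Helper23.GenLocus Groth.Agent.Lib.Helper6 Groth.Agent.Lib.Helper23.AmpleIso
open Groth.Agent.Lib.Helper23.TensorUnit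

/-- uniform version of `exists_sections_eventually` for points -/
theorem exists_uniform_sections {X : Scheme.{u}} (L : X.Modules) (hL : CohB1.IsAmple L) (E : X.Modules)
    (hE : PicF.IsInvertible E) :
    ∃ N₁ : ℕ, ∀ N, N₁ ≤ N → ∀ x : X,
      ∃ s : Coh.structureModule X ⟶ CohB1.tensorMod E (CohB1.tensorPow L N), x ∈ CohB1.genLocus _ s := by
  haveI := hL.2.1
  have h := fun x : X => exists_sections_eventually L hL E hE {x} (Set.finite_singleton x)
  choose V N hxV hN using h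
  obtain ⟨T, hT⟩ : ∃ T : Finset X, (Set.univ : Set X) ⊆ ⋃ x ∈ T, (V x : Set X) :=
    isCompact_univ.elim_finite_subcover (fun x => (V x : Set X)) (fun x => (V x).2)
      (fun x _ => Set.mem_iUnion.2 ⟨x, hxV x rfl⟩)
  refine ⟨T.sup N, fun n hn x => ?_⟩
  obtain ⟨y, hy⟩ := Set.mem_iUnion.1 (hT (Set.mem_univ x))
  obtain ⟨hyT, hxy⟩ := Set.mem_iUnion.1 hy
  obtain ⟨s, hs⟩ := hN y n ((Finset.le_sup hyT).trans hn)
  exact ⟨s, hs hxy⟩

/-- Let X be a quasi-compact separated scheme, L an ample invertible module and L' an invertible module.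
Then there is n₀ > 0 such that L^{⊗n} ⊗ L' is ample and globally generated for every n ≥ n₀. -/
theorem result (X : Scheme.{u}) [CompactSpace X] [X.IsSeparated] (L L' : X.Modules) (hL : CohB1.IsAmple L) (hL' : PicF.IsInvertible L') :
    ∃ n₀ : ℕ, 0 < n₀ ∧ ∀ n, n₀ ≤ n →
      CohB1.IsAmple (CohB1.tensorMod (CohB1.tensorPow L n) L') ∧ Curv2.IsGloballyGenerated (CohB1.tensorMod (CohB1.tensorPow L n) L') := by
  obtain ⟨N₁, hN₁⟩ := exists_uniform_sections L hL L' hL'
  have hinv := hL.1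
  refine ⟨N₁ + 1, Nat.succ_pos _, fun n hn => ⟨?_, ?_⟩⟩
  · -- ampleness
    obtain ⟨m, hm⟩ : ∃ m, N₁ + (m + 1) = n := ⟨n - N₁ - 1, by omega⟩
    have hA : CohB1.IsAmple (CohB1.tensorPow L (m + 1)) :=
      (Groth.Agent.S2327.result X L hinv (m + 1) (Nat.succ_pos m)).1 hL
    have hG : PicF.IsInvertible (CohB1.tensorMod L' (CohB1.tensorPow L N₁)) :=
      isInvertible_tensorMod hL' (isInvertible_tensorPow hinv N₁)
    have hAG : CohB1.IsAmple (CohB1.tensorMod (CohB1.tensorPow L (m + 1)) (CohB1.tensorMod L' (CohB1.tensorPow L N₁))) := by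
      refine Groth.Agent.S2328.result X _ _ hA hG (fun x => ?_)
      obtain ⟨s, hs⟩ := hN₁ N₁ le_rfl x
      refine ⟨0, s ≫ (unitTensorIso _).inv, ?_⟩
      have := genLocus_comp_iso (unitTensorIso (CohB1.tensorMod L' (CohB1.tensorPow L N₁))).symm s
      rw [Iso.symm_hom] at this
      exact this ▸ hs
    obtain ⟨Φ₁⟩ := nonempty_tensorMod_comm_iso _ _ hA.1 hG
    obtain ⟨Φ₂⟩ := nonempty_tensorMod_tensorPow_add_iso L' L hL' hinv N₁ (m + 1) n hm
    obtain ⟨Φ₃⟩ := nonempty_tensorMod_comm_iso L' (CohB1.tensorPow L n) hL' (isInvertible_tensorPow hinv n)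
    exact isAmple_of_iso (Φ₁ ≪≫ Φ₂ ≪≫ Φ₃) hAG
  · -- global generation
    obtain ⟨Φ⟩ := nonempty_tensorMod_comm_iso L' (CohB1.tensorPow L n) hL' (isInvertible_tensorPow hinv n)
    refine isGloballyGenerated_of_forall_mem_genLocus _ (fun x => ?_)
    obtain ⟨s, hs⟩ := hN₁ n (Nat.le_of_succ_le hn) x
    exact ⟨s ≫ Φ.hom, by rw [genLocus_comp_iso]; exact hs⟩

end Groth.Agent.S2329
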