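import Groth.Statements.S12147
-- import your own Groth.Agent.* helpers here

set_option autoImplicit false
universe u
open CategoryTheory CategoryTheory.Limits AlgebraicGeometry TopologicalSpace Opposite
open scoped HomogeneousIdeal
noncomputable section
open EGA2

namespace Groth.Agent.S12147

theorem map_mem_irrelevant {A B σ τ : Type*} [CommRing A] [SetLike σ A] [AddSubgroupClass σ A]
    [CommRing B] [SetLike τ B] [AddSubgroupClass τ B]
    {𝒜 : ℕ → σ} {ℬ : ℕ → τ} [GradedRing 𝒜] [GradedRing ℬ] (f : 𝒜 →+*ᵍ ℬ) {a : A}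
    (ha : a ∈ (HomogeneousIdeal.irrelevant 𝒜).toIdeal) : f a ∈ (HomogeneousIdeal.irrelevant ℬ).toIdeal := by
  classical
  change f a ∈ HomogeneousIdeal.irrelevant ℬ
  have ha' : a ∈ HomogeneousIdeal.irrelevant 𝒜 := ha
  rw [HomogeneousIdeal.mem_irrelevant_iff, GradedRing.proj_apply] at ha' ⊢
  rw [← GradedRingHom.map_directSumDecompose, ha', map_zero]


/-- Let q : X → Y be a morphism, L an invertible O_X-module with 𝒮L = ⊕ L^{⊗n} (whose Proj, with its
charts, is X), v : 𝒯 → 𝒮 a graded homomorphism of quasi-coherent positively graded O_Y-algebras, ψ♭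
= u : 𝒮 → q_*𝒮L a graded q-morphism and ψ'♭ = u' its composite with v. Then the open of definition
G(ψ') of r_{L,ψ'} is contained in the open of definition G(ψ) of r_{L,ψ}; in particular, if r_{L,ψ'}
is everywhere defined then so is r_{L,ψ}. -/
theorem result {Y X P PL : Scheme.{u}} (q : X ⟶ Y)
    (L : X.Modules) (hL : PicF.IsInvertible L) (hLq : Coh.IsQCoh L)
    (𝒮 : RelProj.QCGrAlg Y) (𝒮L : RelProj.QCGrAlg X) (j : L ⟶ 𝒮L.toModule) (hj : RelProj.IsGrSymAlg L 𝒮L j)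
    (u : RelProj.QGrHom q 𝒮 𝒮L)
    (p : P ⟶ Y) (chart : ∀ (U : Y.Opens) (hU : IsAffineOpen U), (((p ⁻¹ᵁ U : P.Opens) : Scheme.{u}) ≅ Proj (𝒮.deg U hU)))
    (hP : RelProj.IsRelProj 𝒮 p chart)
    (pL : PL ⟶ X) (chartL : ∀ (U : X.Opens) (hU : IsAffineOpen U), (((pL ⁻¹ᵁ U : PL.Opens) : Scheme.{u}) ≅ Proj (𝒮L.deg U hU)))
    (hPL : RelProj.IsRelProj 𝒮L pL chartL)
    (𝒯 : RelProj.QCGrAlg Y) (v : 𝒯.toQCAlg ⟶ 𝒮.toQCAlg) (hv : RelProj.IsGradedHom v)
    (u' : RelProj.QGrHom q 𝒯 𝒮L) (hu' : ∀ U : Y.Opens, u'.app U = v.hom.app (op U) ≫ u.app U) :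
    RelProj.domQ u' pL chartL ≤ RelProj.domQ u pL chartL := by
  unfold RelProj.domQ
  refine iSup_le fun V => le_trans ?_ (le_iSup _ V)
  obtain ⟨⟨⟨U, hU⟩, ⟨U', hU'⟩⟩, hle⟩ := V
  replace hU : IsAffineOpen U := hU
  replace hU' : IsAffineOpen U' := hU'
  change (RelProj.emb pL chartL U' hU') ''ᵁ RelCone.domOpen (u'.gradedAt U hU U' hU' hle) ≤
    (RelProj.emb pL chartL U' hU') ''ᵁ RelCone.domOpen (u.gradedAt U hU U' hU' hle)
  refine Scheme.Hom.image_mono _ ?_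
  intro z hz
  rw [RelCone.mem_domOpen] at hz ⊢
  obtain ⟨f, hf, hfz⟩ := hz
  refine ⟨RelProj.gradedHomAt v hv U hU f, map_mem_irrelevant _ hf, ?_⟩
  have : u.gradedAt U hU U' hU' hle (RelProj.gradedHomAt v hv U hU f) = u'.gradedAt U hU U' hU' hle f := by
    change (𝒮L.presheaf.map (homOfLE hle).op).hom ((u.app U).hom ((v.hom.app (op U)).hom f)) =
      (𝒮L.presheaf.map (homOfLE hle).op).hom ((u'.app U).hom f)
    rw [hu']
    rfl
  rw [this]
  exact hfz

end Groth.Agent.S12147
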