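import Groth.Statements.S12153
import Groth.Agent.S12147
import Groth.Agent.Lib.Helper13RLi
-- import your own Groth.Agent.* helpers here

set_option autoImplicit false
universe u
open CategoryTheory CategoryTheory.Limits AlgebraicGeometry TopologicalSpace Opposite
open scoped HomogeneousIdeal
noncomputable section
open EGA2

namespace Groth.Agent.S12153

open Groth.Agent.Helper13RelProj Groth.Agent.Helper13RL in
theorem isIso_homOfLE {X : Scheme.{u}} {U V : X.Opens} (h : U = V) : IsIso (X.homOfLE h.le) := by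
  subst h
  rw [Scheme.homOfLE_rfl]
  infer_instance


/-- Let q : X → Y be a morphism, L an invertible O_X-module with 𝒮L = ⊕ L^{⊗n} (whose Proj, with its
charts, is X), v : 𝒯 → 𝒮 a graded homomorphism of quasi-coherent positively graded O_Y-algebras, ψ♭
= u : 𝒮 → q_*𝒮L a graded q-morphism and ψ'♭ = u' its composite with v; let r = r_{L,ψ} : G(ψ) →
Proj(𝒮) and r' = r_{L,ψ'} : G(ψ') → Proj(𝒯). If r' is everywhere defined and an immersion, then r is
everywhere defined and an immersion. -/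
theorem result {Y X P PL P' : Scheme.{u}} (q : X ⟶ Y)
    (L : X.Modules) (hL : PicF.IsInvertible L) (hLq : Coh.IsQCoh L)
    (𝒮 : RelProj.QCGrAlg Y) (𝒮L : RelProj.QCGrAlg X) (j : L ⟶ 𝒮L.toModule) (hj : RelProj.IsGrSymAlg L 𝒮L j)
    (u : RelProj.QGrHom q 𝒮 𝒮L)
    (p : P ⟶ Y) (chart : ∀ (U : Y.Opens) (hU : IsAffineOpen U), (((p ⁻¹ᵁ U : P.Opens) : Scheme.{u}) ≅ Proj (𝒮.deg U hU)))
    (hP : RelProj.IsRelProj 𝒮 p chart)
    (pL : PL ⟶ X) (chartL : ∀ (U : X.Opens) (hU : IsAffineOpen U), (((pL ⁻¹ᵁ U : PL.Opens) : Scheme.{u}) ≅ Proj (𝒮L.deg U hU)))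
    (hPL : RelProj.IsRelProj 𝒮L pL chartL)
    (r : ((RelProj.domQ u pL chartL : PL.Opens) : Scheme.{u}) ⟶ P)
    (hr : RelProj.IsProjQMapOn u p chart pL chartL (RelProj.domQ u pL chartL) r)
    (𝒯 : RelProj.QCGrAlg Y) (v : 𝒯.toQCAlg ⟶ 𝒮.toQCAlg) (hv : RelProj.IsGradedHom v)
    (u' : RelProj.QGrHom q 𝒯 𝒮L) (hu' : ∀ U : Y.Opens, u'.app U = v.hom.app (op U) ≫ u.app U)
    (p' : P' ⟶ Y) (chart' : ∀ (U : Y.Opens) (hU : IsAffineOpen U), (((p' ⁻¹ᵁ U : P'.Opens) : Scheme.{u}) ≅ Proj (𝒯.deg U hU)))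
    (hP' : RelProj.IsRelProj 𝒯 p' chart')
    (r' : ((RelProj.domQ u' pL chartL : PL.Opens) : Scheme.{u}) ⟶ P')
    (hr' : RelProj.IsProjQMapOn u' p' chart' pL chartL (RelProj.domQ u' pL chartL) r')
    (hdef : RelProj.domQ u' pL chartL = ⊤) (himm : IsImmersion r') :
    RelProj.domQ u pL chartL = ⊤ ∧ IsImmersion r := by
  have hle : RelProj.domQ u' pL chartL ≤ RelProj.domQ u pL chartL :=
    Groth.Agent.S12147.result q L hL hLq 𝒮 𝒮L j hj u p chart hP pL chartL hPL 𝒯 v hv u' hu'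
  have htop : RelProj.domQ u pL chartL = ⊤ := eq_top_iff.mpr (hdef ▸ hle)
  refine ⟨htop, ?_⟩
  obtain ⟨Φ, hΦp⟩ := Groth.Agent.Helper13RelProj.exists_qmapOn (RelProj.QGrHom.ofHom v hv)
    (p := p') (chart := chart') (p' := p) (chart' := chart) hP' hP
  have hΦ := Groth.Agent.Helper13RelProj.isProjQMapOn_of_pieces (RelProj.QGrHom.ofHom v hv) Φ hΦp
  obtain ⟨m, hm, hmΦ⟩ := Groth.Agent.Helper13RL.exists_comp_lift u v hv u' hu' hP hP' hPL hr hr' hΦ hle
  have h1 : IsImmersion (m ≫ Φ) := hmΦ ▸ himm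
  have h2 : IsImmersion m := IsImmersion.of_comp m Φ
  have h3 : IsImmersion (PL.homOfLE hle ≫ r) := by
    rw [← hm]; infer_instance
  have h4 : IsIso (PL.homOfLE hle) := isIso_homOfLE (hdef.trans htop.symm)
  exact (MorphismProperty.cancel_left_of_respectsIso @IsImmersion (PL.homOfLE hle) r).mp h3

end Groth.Agent.S12153
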