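import Groth.Statements.S0345
import Groth.Agent.Lib.Helper29Gorenstein
import Mathlib.RingTheory.LocalProperties.InjectiveDimension
import Mathlib.Algebra.Category.ModuleCat.InjectiveDimension

set_option autoImplicit false
universe u v
open Goren

namespace Groth.Agent.S0345

section aux
open CategoryTheory CategoryTheory.Abelian

variable {A : Type u} [CommRing A] [IsNoetherianRing A]

/-- the linear equivalence `(of A A).localizedModule S ≃ S⁻¹A` -/
noncomputable def locEquiv (S : Submonoid A) :
    ((ModuleCat.of A A).localizedModule S) ≃ₗ[Localization S] Localization S :=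
  haveI := ModuleCat.localizedModule_isLocalizedModule (ModuleCat.of A A) S
  LinearEquiv.extendScalarsOfIsLocalization S (Localization S)
    (IsLocalizedModule.linearEquiv S ((ModuleCat.of A A).localizedModuleMkLinearMap S)
      (Algebra.linearMap A (Localization S)))

theorem loc_iff (S : Submonoid A) (n : ℕ) :
    HasInjectiveDimensionLT ((ModuleCat.of A A).localizedModule S) (n + 1) ↔
      HasInjectiveDimensionLT (ModuleCat.of (Localization S) (Localization S)) (n + 1) :=
  ModuleCat.hasInjectiveDimensionLE_iff_of_linearEquiv
    (M := (ModuleCat.of A A).localizedModule S)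
    (N := ModuleCat.of (Localization S) (Localization S)) (locEquiv S) n

theorem exists_natCast_ringKrullDim (B : Type u) [CommRing B] [IsNoetherianRing B]
    [IsLocalRing B] : ∃ d : ℕ, ringKrullDim B = d := by
  have hne : ringKrullDim B ≠ ⊤ := ringKrullDim_ne_top
  have hbot : ringKrullDim B ≠ ⊥ := ringKrullDim_ne_bot
  obtain ⟨e, he⟩ := WithBot.ne_bot_iff_exists.mp hbot
  have hetop : e ≠ ⊤ := by
    rintro rfl
    exact hne he.symm
  obtain ⟨d, rfl⟩ := ENat.ne_top_iff_exists.mp hetop
  exact ⟨d, he.symm⟩

end aux

/-- For a Noetherian ring A, the A-module A has finite injective dimension exactly when every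
localization of A at a prime is Gorenstein and A has finite Krull dimension. -/
theorem result (A : Type u) [CommRing A] [IsNoetherianRing A] : (∃ n : ℕ, CategoryTheory.HasInjectiveDimensionLT (ModuleCat.of A A) n) ↔ (LocCoh.IsGorensteinRing A ∧ ringKrullDim A < ⊤) := by
  classical
  open CategoryTheory CategoryTheory.Abelian Groth.Agent.Lib.Helper29Gorenstein in
  constructor
  · rintro ⟨n, hn⟩
    have hn' : HasInjectiveDimensionLT (ModuleCat.of A A) (n + 1) :=
      hasInjectiveDimensionLT_of_ge _ n (n + 1) (Nat.le_succ n)
    have hloc : ∀ (p : Ideal A) [p.IsPrime], HasInjectiveDimensionLT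
        (ModuleCat.of (Localization.AtPrime p) (Localization.AtPrime p)) (n + 1) := by
      intro p _
      haveI : HasInjectiveDimensionLE (ModuleCat.of A A) n := hn'
      have := ModuleCat.localizedModule_hasInjectiveDimensionLE n p.primeCompl (ModuleCat.of A A)
      exact (loc_iff p.primeCompl n).mp this
    have hG : ∀ (p : Ideal A) [p.IsPrime],
        LocCoh.IsGorensteinLocalRing (Localization.AtPrime p) := by
      intro p _
      exact @LocCoh.IsGorensteinLocalRing.mk _ _ inferInstance inferInstance ⟨n + 1, hloc p⟩
    refine ⟨@LocCoh.IsGorensteinRing.mk A _ inferInstance hG, ?_⟩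
    refine lt_of_le_of_lt (b := ((n : ℕ∞) : WithBot ℕ∞)) ?_ (WithBot.coe_lt_coe.mpr (ENat.natCast_lt_top n))
    rw [ringKrullDim_le_iff_height_le]
    intro p hp
    haveI := hp
    haveI := hG p
    obtain ⟨d, hd⟩ := exists_natCast_ringKrullDim (Localization.AtPrime p)
    have hne := ext_residue_nontrivial (Localization.AtPrime p) d hd
    have hdn : d ≤ n := by
      by_contra hlt
      push_neg at hlt
      haveI := hloc p
      have := HasInjectiveDimensionLT.subsingleton
        (ModuleCat.of (Localization.AtPrime p) (Localization.AtPrime p)) (n + 1) d (by omega)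
        (ModuleCat.of (Localization.AtPrime p)
          (Localization.AtPrime p ⧸ IsLocalRing.maximalIdeal (Localization.AtPrime p)))
      exact not_subsingleton _ this
    have hht : ringKrullDim (Localization.AtPrime p) = p.height :=
      IsLocalization.AtPrime.ringKrullDim_eq_height p _
    rw [hd] at hht
    have : (p.height : WithBot ℕ∞) = ((d : ℕ∞) : WithBot ℕ∞) := hht.symm
    have h2 : p.height = (d : ℕ∞) := WithBot.coe_injective this
    rw [h2]
    exact_mod_cast hdn
  · rintro ⟨hG, hdim⟩
    obtain ⟨N, hN⟩ : ∃ N : ℕ, ringKrullDim A ≤ N := by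
      rcases h : ringKrullDim A with _ | d
      · exact ⟨0, bot_le⟩
      · rcases d with _ | d
        · exfalso
          rw [h] at hdim
          exact lt_irrefl _ hdim
        · exact ⟨d, le_rfl⟩
    refine ⟨N + 1, ?_⟩
    show HasInjectiveDimensionLE (ModuleCat.of A A) N
    rw [ModuleCat.hasInjectiveDimensionLE_iff_forall_primeSpectrum]
    intro p
    haveI := hG.isGorensteinLocalRing_localization p.asIdeal
    obtain ⟨d, hd⟩ := exists_natCast_ringKrullDim (Localization.AtPrime p.asIdeal)
    have h1 := (depth_eq_and_hasInjectiveDimensionLT (Localization.AtPrime p.asIdeal) d hd).2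
    have hdN : d ≤ N := by
      have hht : ringKrullDim (Localization.AtPrime p.asIdeal) = p.asIdeal.height :=
        IsLocalization.AtPrime.ringKrullDim_eq_height p.asIdeal _
      have h3 : (p.asIdeal.height : WithBot ℕ∞) ≤ ringKrullDim A :=
        Ideal.height_le_ringKrullDim_of_isPrime
      rw [← hht, hd] at h3
      have := h3.trans hN
      exact_mod_cast this
    have h2 : HasInjectiveDimensionLT
        (ModuleCat.of (Localization.AtPrime p.asIdeal) (Localization.AtPrime p.asIdeal)) (N + 1) :=
      hasInjectiveDimensionLT_of_ge _ (d + 1) (N + 1) (by omega)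
    exact (loc_iff p.asIdeal.primeCompl N).mpr h2

end Groth.Agent.S0345
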