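import Groth.Statements.S15586
import Mathlib
-- import your own Groth.Agent.* helpers here

set_option autoImplicit false
universe u v w
open scoped TensorProduct
open RInv

namespace Groth.Agent.S15586

/-- Let `R` be a commutative ring with an involution `lam` and fixed ring `S`, and let `S'` be a
commutative `S`-algebra. If `S'` is flat over `S`, or if `2` is invertible in `S`, then `S'` is the
fixed ring of the base-changed involution `id ⊗ lam` of `S' ⊗_S R`: the structure map `S' → S' ⊗_S
R` is injective with image the fixed elements. (In general the fixed ring does not commute with base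
change.) -/
theorem result (S : Type u) (R : Type v) (S' : Type w)
    [CommRing S] [CommRing R] [Algebra S R] [CommRing S'] [Algebra S S']
    (lam : R ≃ₐ[S] R) (hlam : Function.Involutive lam)
    (hS : RInv.IsFixedRing S R lam.toRingEquiv)
    (h : Module.Flat S S' ∨ IsUnit (2 : S)) :
    RInv.IsFixedRing S' (S' ⊗[S] R)
      (Algebra.TensorProduct.congr (AlgEquiv.refl : S' ≃ₐ[S] S') lam).toRingEquiv := by
  obtain ⟨hinj, hfix⟩ := hS
  -- the linear maps involved
  let ι : S →ₗ[S] R := Algebra.linearMap S R
  let L : R →ₗ[S] R := lam.toLinearMap
  have hιinj : Function.Injective ι := hinj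
  -- the base-changed involution is `lTensor`
  have hact : ∀ z : S' ⊗[S] R,
      (Algebra.TensorProduct.congr (AlgEquiv.refl : S' ≃ₐ[S] S') lam).toRingEquiv z
        = L.lTensor S' z := by
    intro z
    induction z using TensorProduct.induction_on with
    | zero => simp
    | tmul x y => simp [L]
    | add x y hx hy =>
      rw [map_add, map_add, hx, hy]
  -- range of `lTensor ι` equals the range of the structure map
  have hrange : ∀ z : S' ⊗[S] R, z ∈ Set.range (ι.lTensor S') ↔
      z ∈ Set.range (algebraMap S' (S' ⊗[S] R)) := by
    intro z
    constructor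
    · rintro ⟨y, rfl⟩
      induction y using TensorProduct.induction_on with
      | zero => exact ⟨0, by simp⟩
      | tmul x s =>
        refine ⟨s • x, ?_⟩
        simp only [Algebra.TensorProduct.algebraMap_apply, Algebra.algebraMap_self, RingHom.id_apply,
          LinearMap.lTensor_tmul, ι, Algebra.linearMap_apply]
        rw [Algebra.algebraMap_eq_smul_one, TensorProduct.tmul_smul, TensorProduct.smul_tmul']
      | add x y hx hy =>
        obtain ⟨a, ha⟩ := hx
        obtain ⟨b, hb⟩ := hy
        exact ⟨a + b, by rw [map_add, map_add, ha, hb]⟩
    · rintro ⟨x, rfl⟩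
      refine ⟨x ⊗ₜ[S] (1 : S), ?_⟩
      simp [ι]
  -- the two key facts
  have key : Function.Injective (ι.lTensor S') ∧
      ∀ z : S' ⊗[S] R, L.lTensor S' z = z → z ∈ Set.range (ι.lTensor S') := by
    rcases h with hflat | h2
    · refine ⟨Module.Flat.lTensor_preserves_injective_linearMap ι hιinj, ?_⟩
      have hex : Function.Exact ι (L - (LinearMap.id : R →ₗ[S] R)) := by
        intro r
        rw [LinearMap.sub_apply, LinearMap.id_apply, sub_eq_zero]
        exact hfix r
      have hex' := Module.Flat.lTensor_exact S' hex
      intro z hz
      apply (hex' z).mp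
      have h1 : (L - (LinearMap.id : R →ₗ[S] R)).lTensor S' z = L.lTensor S' z - z := by
        rw [LinearMap.lTensor_sub]
        simp
      rw [h1, hz, sub_self]
    · obtain ⟨t, ht⟩ := h2.exists_right_inv
      -- the averaging projector
      let P : R →ₗ[S] R := t • (LinearMap.id + L)
      have hPfix : ∀ r, lam (P r) = P r := by
        intro r
        simp only [P, L, LinearMap.smul_apply, LinearMap.add_apply, LinearMap.id_apply,
          AlgEquiv.toLinearMap_apply]
        rw [map_smul, map_add, hlam r, add_comm]
      have hPrange : ∀ r, P r ∈ LinearMap.range ι := by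
        intro r
        obtain ⟨s, hs⟩ := (hfix (P r)).mp (hPfix r)
        exact ⟨s, hs⟩
      let e : S ≃ₗ[S] LinearMap.range ι := LinearEquiv.ofInjective ι hιinj
      let π : R →ₗ[S] S := (e.symm : LinearMap.range ι →ₗ[S] S) ∘ₗ (P.codRestrict _ hPrange)
      have hιπ : ι ∘ₗ π = P := by
        ext r
        simp only [π, LinearMap.coe_comp, LinearEquiv.coe_coe, Function.comp_apply]
        have : ι (e.symm (P.codRestrict _ hPrange r)) = (e (e.symm (P.codRestrict _ hPrange r)) : R) := rfl
        rw [this, LinearEquiv.apply_symm_apply]
        rfl
      have hPι : ∀ s, P (ι s) = ι s := by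
        intro s
        have hl : lam (ι s) = ι s := (hfix (ι s)).mpr ⟨s, rfl⟩
        simp only [P, L, LinearMap.smul_apply, LinearMap.add_apply, LinearMap.id_apply,
          AlgEquiv.toLinearMap_apply, hl]
        rw [← two_smul S (ι s), smul_smul, mul_comm, ht, one_smul]
      have hπι : π ∘ₗ ι = LinearMap.id := by
        apply LinearMap.ext
        intro s
        apply hιinj
        have := DFunLike.congr_fun hιπ (ι s)
        simp only [LinearMap.coe_comp, Function.comp_apply] at this
        simp only [LinearMap.coe_comp, Function.comp_apply, LinearMap.id_apply]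
        rw [this, hPι]
      constructor
      · have : (π.lTensor S') ∘ₗ (ι.lTensor S') = LinearMap.id := by
          rw [← LinearMap.lTensor_comp, hπι, LinearMap.lTensor_id]
        intro a b hab
        have h1 := congrArg (π.lTensor S') hab
        have h2 := fun x => DFunLike.congr_fun this x
        simp only [LinearMap.coe_comp, Function.comp_apply, LinearMap.id_apply] at h2
        rw [h2, h2] at h1
        exact h1
      · intro z hz
        refine ⟨π.lTensor S' z, ?_⟩
        have h1 : ι.lTensor S' (π.lTensor S' z) = P.lTensor S' z := by
          rw [← LinearMap.comp_apply, ← LinearMap.lTensor_comp, hιπ]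
        rw [h1]
        simp only [P, LinearMap.lTensor_smul, LinearMap.lTensor_add, LinearMap.lTensor_id,
          LinearMap.smul_apply, LinearMap.add_apply, LinearMap.id_apply, hz]
        rw [← two_smul S z, smul_smul, mul_comm, ht, one_smul]
  obtain ⟨k1, k2⟩ := key
  constructor
  · -- injectivity of the structure map
    intro a b hab
    have h1 : ι.lTensor S' (a ⊗ₜ[S] (1 : S)) = ι.lTensor S' (b ⊗ₜ[S] (1 : S)) := by
      simpa [ι] using hab
    have h2 := k1 h1
    have h3 := congrArg (TensorProduct.rid S S') h2
    simpa using h3
  · intro z
    rw [hact, ← hrange]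
    constructor
    · exact k2 z
    · rintro ⟨y, rfl⟩
      rw [← LinearMap.comp_apply, ← LinearMap.lTensor_comp]
      congr 2
      apply LinearMap.ext
      intro s
      simp only [LinearMap.coe_comp, Function.comp_apply, L, ι, AlgEquiv.toLinearMap_apply,
        Algebra.linearMap_apply]
      exact (hfix _).mpr ⟨s, rfl⟩

end Groth.Agent.S15586
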