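import Groth.Statements.S15578
import Mathlib
import Groth.Agent.Lib.Helper15QuadEtale
import Groth.Agent.Lib.Helper16Herm
import Groth.Agent.Lib.Helper16HenselInv
-- import your own Groth.Agent.* helpers here

set_option autoImplicit false
set_option linter.style.haveILetI false
set_option linter.unusedSectionVars false
universe u v
open RInv

namespace Groth.Agent.S15578

open Groth.Agent.Lib.Helper16Herm Groth.Agent.Lib.Helper15.QuadEtale
open Groth.Agent.Lib.Helper16HenselInv Polynomial IsLocalRing

section

variable {S : Type u} {R : Type v} [CommRing S] [CommRing R]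
    [Algebra S R] (lam : R ≃+* R) (hlam : Function.Involutive lam) (hS : RInv.IsFixedRing S R lam)

include hlam hS in
theorem isIntegral_of_fixed : Algebra.IsIntegral S R := by
  refine ⟨fun r => ?_⟩
  obtain ⟨t, ht⟩ := exists_trace lam hlam hS r
  obtain ⟨nrm, hn⟩ := exists_norm lam hlam hS r
  refine ⟨X ^ 2 - C t * X + C nrm, by monicity!, ?_⟩
  simp only [eval₂_add, eval₂_sub, eval₂_pow, eval₂_X, eval₂_mul, eval₂_C, ht, hn]
  ring

include hlam hS in
/-- if no element has unit trace and non-unit norm, then `R` is local. -/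
theorem isLocalRing_of_forall [IsLocalRing S]
    (h : ∀ r : R, IsUnit (r + lam r) → IsUnit (r * lam r)) : IsLocalRing R := by
  haveI : Nontrivial R := hS.1.nontrivial
  have hJ : ∀ x : R, ¬ IsUnit x → x ∈ Ring.jacobson R := by
    intro x hx
    rw [← Ideal.jacobson_bot, Ideal.mem_jacobson_bot]
    intro z
    have hy : ¬ IsUnit (x * z) := fun hu => hx (isUnit_of_mul_isUnit_left hu)
    have hyn : ¬ IsUnit (x * z * lam (x * z)) := fun hu => hy (isUnit_of_mul_isUnit_left hu)
    have hyt : ¬ IsUnit (x * z + lam (x * z)) := fun hu => hyn (h _ hu)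
    obtain ⟨s, hs⟩ := exists_trace lam hlam hS (x * z)
    obtain ⟨s', hs'⟩ := exists_norm lam hlam hS (x * z)
    have hsm : s ∈ maximalIdeal S := by
      rw [mem_maximalIdeal, mem_nonunits_iff]
      intro hu
      exact hyt (hs ▸ hu.map (algebraMap S R))
    have hsm' : s' ∈ maximalIdeal S := by
      rw [mem_maximalIdeal, mem_nonunits_iff]
      intro hu
      exact hyn (hs' ▸ hu.map (algebraMap S R))
    have h1 := algebraMap_mem_jacobson lam hlam hS hsm
    have h2 := algebraMap_mem_jacobson lam hlam hS hsm'
    have h3 : IsUnit (1 + (algebraMap S R s + algebraMap S R s')) :=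
      isUnit_add_jac isUnit_one (add_mem h1 h2)
    have h4 : (x * z + 1) * (lam (x * z) + 1) = 1 + (algebraMap S R s + algebraMap S R s') := by
      rw [hs, hs']
      ring
    rw [← h4] at h3
    exact isUnit_of_mul_isUnit_left h3
  apply IsLocalRing.of_nonunits_add
  intro a b ha hb
  rw [mem_nonunits_iff] at ha hb ⊢
  exact not_isUnit_of_mem_jac (add_mem (hJ a ha) (hJ b hb))

include hlam hS in
/-- an element with unit trace and non-unit norm produces an idempotent swapped by `lam`. -/
theorem exists_idem [HenselianLocalRing S] (r : R) (hrt : IsUnit (r + lam r))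
    (hrn : ¬ IsUnit (r * lam r)) : ∃ e : R, e * e = e ∧ lam e = 1 - e := by
  obtain ⟨t, ht⟩ := exists_trace lam hlam hS r
  obtain ⟨nrm, hn⟩ := exists_norm lam hlam hS r
  have htu : IsUnit t := isUnit_of_isUnit_algebraMap lam hS t (ht ▸ hrt)
  have hnm : nrm ∈ maximalIdeal S := by
    rw [mem_maximalIdeal, mem_nonunits_iff]
    intro hu
    exact hrn (hn ▸ hu.map (algebraMap S R))
  have hmonic : (X ^ 2 - C t * X + C nrm : S[X]).Monic := by monicity!
  obtain ⟨a, ha, ha'⟩ := HenselianLocalRing.is_henselian (X ^ 2 - C t * X + C nrm : S[X]) hmonic 0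
    (by simpa using hnm) (by simpa using htu)
  rw [sub_zero] at ha'
  have hroot : a ^ 2 - t * a + nrm = 0 := by
    have := ha
    simpa [Polynomial.IsRoot.def] using this
  have huu : IsUnit (t - 2 * a) := by
    by_contra hnu
    have h1 : t - 2 * a ∈ maximalIdeal S := (mem_maximalIdeal _).mpr hnu
    have h2 : t ∈ maximalIdeal S := by
      have := add_mem h1 (Ideal.mul_mem_left _ 2 ha')
      rwa [sub_add_cancel] at this
    exact ((mem_maximalIdeal _).mp h2) htu
  obtain ⟨uinv, hu⟩ := huu.exists_right_inv
  have h1 : algebraMap S R t = r + lam r := ht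
  have h2 : algebraMap S R nrm = r * lam r := hn
  have h3 : algebraMap S R a ^ 2 - algebraMap S R t * algebraMap S R a + algebraMap S R nrm = 0 := by
    rw [← map_pow, ← map_mul, ← map_sub, ← map_add, hroot, map_zero]
  have h4 : (algebraMap S R t - 2 * algebraMap S R a) * algebraMap S R uinv = 1 := by
    have := congrArg (algebraMap S R) hu
    simpa [map_mul, map_sub, map_ofNat] using this
  refine ⟨(r - algebraMap S R a) * algebraMap S R uinv, ?_, ?_⟩
  · linear_combination (algebraMap S R uinv) ^ 2 * (-h3 + h2 - r * h1)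
      + (r - algebraMap S R a) * algebraMap S R uinv * h4
  · rw [map_mul, map_sub, lam_algebraMap lam hS, lam_algebraMap lam hS]
    linear_combination h4 - algebraMap S R uinv * h1

include hlam hS in
/-- with an idempotent swapped by `lam`, `S ≅ R/(e)` and `R ≅ R/(e) × R/(e)`. -/
theorem split_of_idem (e : R) (hee : e * e = e) (hle : lam e = 1 - e) :
    Function.Bijective ((Ideal.Quotient.mk (Ideal.span {e})).comp (algebraMap S R)) ∧
    Function.Bijective (RingHom.pi (fun b : Bool => cond b (Ideal.Quotient.mk (Ideal.span {e}))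
      ((Ideal.Quotient.mk (Ideal.span {e})).comp (lam : R →+* R)))) := by
  have hzero : ∀ x y : R, x * e = y * (1 - e) → x * e = 0 := by
    intro x y hxy
    have : x * e = (x * e) * e := by rw [mul_assoc, hee]
    rw [this, hxy]
    linear_combination (-y) * hee
  refine ⟨⟨?_, ?_⟩, ⟨?_, ?_⟩⟩
  · rw [injective_iff_map_eq_zero]
    intro s hs
    rw [RingHom.comp_apply, Ideal.Quotient.eq_zero_iff_mem, Ideal.mem_span_singleton'] at hs
    obtain ⟨x, hx⟩ := hs
    have h1 : lam x * (1 - e) = algebraMap S R s := by
      rw [← hle, ← map_mul, hx, lam_algebraMap lam hS]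
    have h2 := hzero x (lam x) (by rw [hx, h1])
    rw [hx] at h2
    exact hS.1 (by rw [h2, map_zero])
  · intro q
    obtain ⟨x, rfl⟩ := Ideal.Quotient.mk_surjective q
    have hfix : lam ((1 - e) * x + e * lam x) = (1 - e) * x + e * lam x := by
      rw [map_add, map_mul, map_mul, map_sub, map_one, hle, hlam x]
      ring
    obtain ⟨s, hs⟩ := (hS.2 _).mp hfix
    refine ⟨s, ?_⟩
    rw [RingHom.comp_apply, hs, Ideal.Quotient.eq, Ideal.mem_span_singleton']
    exact ⟨lam x - x, by ring⟩
  · rw [injective_iff_map_eq_zero]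
    intro x hx
    have h1 : Ideal.Quotient.mk (Ideal.span {e}) x = 0 := congrFun hx true
    have h2 : Ideal.Quotient.mk (Ideal.span {e}) (lam x) = 0 := congrFun hx false
    rw [Ideal.Quotient.eq_zero_iff_mem, Ideal.mem_span_singleton'] at h1 h2
    obtain ⟨a, ha⟩ := h1
    obtain ⟨b, hb⟩ := h2
    have hb' : lam b * (1 - e) = x := by
      have := congrArg lam hb
      rw [map_mul, hle] at this
      change _ = lam (lam x) at this
      rwa [hlam x] at this
    have := hzero a (lam b) (by rw [ha, hb'])
    rw [← ha, this]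
  · intro g
    obtain ⟨y, hy⟩ := Ideal.Quotient.mk_surjective (g true)
    obtain ⟨z, hz⟩ := Ideal.Quotient.mk_surjective (g false)
    refine ⟨(1 - e) * y + e * lam z, ?_⟩
    funext b
    cases b
    · change Ideal.Quotient.mk (Ideal.span {e}) (lam ((1 - e) * y + e * lam z)) = g false
      rw [← hz, Ideal.Quotient.eq, Ideal.mem_span_singleton']
      refine ⟨lam y - z, ?_⟩
      rw [map_add, map_mul, map_mul, map_sub, map_one, hle, hlam z]
      ring
    · change Ideal.Quotient.mk (Ideal.span {e}) ((1 - e) * y + e * lam z) = g true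
      rw [← hy, Ideal.Quotient.eq, Ideal.mem_span_singleton']
      exact ⟨lam z - y, by ring⟩

end


/-- Let `R` be a commutative ring with an involution `lam` whose fixed ring `S` is strictly henselian
(henselian local with separably closed residue field). Then `R` is isomorphic to a product of
finitely many strictly henselian local rings (existence of a ring isomorphism with such a product). -/
theorem result (S : Type u) (R : Type v) [CommRing S] [CommRing R]
    [Algebra S R] (lam : R ≃+* R) (hlam : Function.Involutive lam) (hS : RInv.IsFixedRing S R lam)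
    [HenselianLocalRing S] [IsSepClosed (IsLocalRing.ResidueField S)] :
    ∃ (ι : Type) (_ : Fintype ι) (T : ι → Type v) (_ : ∀ i, CommRing (T i))
      (_ : ∀ i, HenselianLocalRing (T i)),
      (∀ i, IsSepClosed (IsLocalRing.ResidueField (T i))) ∧ Nonempty (R ≃+* (∀ i, T i)) := by
  haveI : Nontrivial R := hS.1.nontrivial
  haveI hint : Algebra.IsIntegral S R := isIntegral_of_fixed lam hlam hS
  by_cases hcase : ∃ r : R, IsUnit (r + lam r) ∧ ¬ IsUnit (r * lam r)
  · obtain ⟨r, hrt, hrn⟩ := hcase
    obtain ⟨e, hee, hle⟩ := exists_idem lam hlam hS r hrt hrn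
    obtain ⟨hbij, hΦ⟩ := split_of_idem lam hlam hS e hee hle
    let eψ : S ≃+* (R ⧸ Ideal.span {e}) := RingEquiv.ofBijective _ hbij
    have hH : HenselianLocalRing (R ⧸ Ideal.span {e}) := henselian_of_ringEquiv eψ
    have hsep : IsSepClosed (ResidueField (R ⧸ Ideal.span {e})) :=
      isSepClosed_of_ringEquiv (ResidueField.mapEquiv eψ)
    exact ⟨Bool, inferInstance, fun _ => R ⧸ Ideal.span {e}, fun _ => inferInstance,
      fun _ => hH, fun _ => hsep, ⟨RingEquiv.ofBijective _ hΦ⟩⟩
  · push Not at hcase
    haveI : IsLocalRing R := isLocalRing_of_forall lam hlam hS hcase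
    haveI : IsLocalHom (algebraMap S R) :=
      ⟨fun s hs => isUnit_of_isUnit_algebraMap lam hS s hs⟩
    have hH : HenselianLocalRing R := henselian_of_isIntegral' S R
    have hsep : IsSepClosed (ResidueField R) := isSepClosed_residueField_of_isIntegral S R
    exact ⟨Unit, inferInstance, fun _ => R, fun _ => inferInstance, fun _ => hH, fun _ => hsep,
      ⟨(RingEquiv.piUnique (fun _ : Unit => R)).symm⟩⟩

end Groth.Agent.S15578
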