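import Groth.Statements.S3866
-- import your own Groth.Agent.* helpers here
import Mathlib.RingTheory.AdicCompletion.AsTensorProduct
import Mathlib.Tactic

set_option autoImplicit false
universe u
open AdicRing

namespace Groth.Agent.S3866

/-- Let A be a Noetherian ring that is complete and separated for the J-adic topology, where J is an
ideal of A. Then every finite A-module M is itself complete and separated for the J-adic topology.
(This is the algebraic fact behind the statement that the global sections of the sheaf M^Δ on the
formal spectrum of A recover M.) -/
theorem result (A : Type u) [CommRing A] [IsNoetherianRing A]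
    (J : Ideal A) [IsAdicComplete J A] (M : Type u) [AddCommGroup M] [Module A M] [Module.Finite A M] :
    IsAdicComplete J M := by
  rw [← AdicCompletion.of_bijective_iff]
  have hA : Function.Bijective (AdicCompletion.of J A) := AdicCompletion.of_bijective_iff.mpr inferInstance
  let e₁ : A ≃ₗ[A] AdicCompletion J A := LinearEquiv.ofBijective (AdicCompletion.of J A) hA
  let e₂ : M ≃ₗ[A] TensorProduct A A M := (TensorProduct.lid A M).symm
  let e₃ : TensorProduct A A M ≃ₗ[A] TensorProduct A (AdicCompletion J A) M := TensorProduct.congr e₁ (LinearEquiv.refl A M)
  have h4 := AdicCompletion.ofTensorProduct_bijective_of_finite_of_isNoetherian J M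
  have key : ∀ m : M, AdicCompletion.of J M m = AdicCompletion.ofTensorProduct J M (e₃ (e₂ m)) := by
    intro m
    simp only [e₂, e₃, TensorProduct.lid_symm_apply, TensorProduct.congr_tmul, LinearEquiv.refl_apply]
    rw [AdicCompletion.ofTensorProduct_tmul]
    simp only [e₁, LinearEquiv.ofBijective_apply]
    ext n
    simp only [AdicCompletion.of_apply, AdicCompletion.smul_eval]
    exact (one_smul _ _).symm
  have : (AdicCompletion.of J M : M → AdicCompletion J M) =
      (AdicCompletion.ofTensorProduct J M) ∘ e₃ ∘ e₂ := by
    funext m
    exact key m
  rw [this]
  exact h4.comp (e₃.bijective.comp e₂.bijective)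

end Groth.Agent.S3866
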