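import Groth.Statements.S5989
import Groth.Agent.Lib.Helper19CKCartier
import Groth.Agent.Lib.Helper19Normalization2
import Groth.Agent.Lib.Helper19PsDim
import Groth.Agent.Lib.Helper5IntDim
import Groth.Agent.Lib.Helper19PsFrob

set_option autoImplicit false
universe u
open scoped TensorProduct
open EGA418

namespace Groth.Agent.S5989

/-- Let k be a field of characteristic p > 0 such that k is finite over its subfield k^p of p-th powers
(the Frobenius endomorphism of k is a finite ring map), C a complete Noetherian local k-algebra
which is an integral domain whose residue field is a finite extension of k, n the dimension of C, L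
a fraction field of C and Υ the module of imperfection of L over k (the kernel of L ⊗_k Ω_k ⟶ Ω_L on
absolute differentials). Then dim_L Ω_{L/k} = n + dim_L Υ, and the module of differentials Ω_{C/k}
is a finitely generated C-module. -/
theorem result (p : ℕ) [Fact p.Prime]
    (k C L : Type u) [Field k] [CharP k p] (hk : (frobenius k p).Finite) [CommRing C] [IsDomain C]
    [IsNoetherianRing C] [IsLocalRing C] [Algebra k C] [IsAdicComplete (IsLocalRing.maximalIdeal C) C]
    [Module.Finite k (IsLocalRing.ResidueField C)] (n : ℕ) (hn : ringKrullDim C = n)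
    [Field L] [Algebra C L] [IsFractionRing C L] [Algebra k L] [IsScalarTower k C L] :
    Module.finrank L (Ω[L⁄k]) =
        n + Module.finrank L (LinearMap.ker (KaehlerDifferential.mapBaseChange ℤ k L)) ∧
      Module.Finite C (Ω[C⁄k]) := by
  obtain ⟨m, w, hwinj, hwloc, hwfin⟩ :=
    Groth.Agent.Lib.Helper19.Normalization.exists_powerSeries_subring_finite (k₀ := k) (A := C)
  letI : Algebra (MvPowerSeries (Fin m) k) C := w.toRingHom.toAlgebra
  haveI : IsScalarTower k (MvPowerSeries (Fin m) k) C :=
    IsScalarTower.of_algebraMap_eq (fun c => (w.commutes c).symm)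
  haveI : Module.Finite (MvPowerSeries (Fin m) k) C := RingHom.finite_algebraMap.1 hwfin
  have hmn : m = n := by
    have h1 := Groth.Agent.Lib.Helper5.ringKrullDim_eq_of_isIntegral_of_injective
      (MvPowerSeries (Fin m) k) C hwinj
    rw [hn, Groth.Agent.Lib.Helper19.ringKrullDim_mvPowerSeries] at h1
    exact_mod_cast h1.symm
  subst hmn
  letI : Algebra (MvPowerSeries (Fin m) k) L :=
    ((algebraMap C L).comp (algebraMap (MvPowerSeries (Fin m) k) C)).toAlgebra
  haveI : IsScalarTower (MvPowerSeries (Fin m) k) C L :=
    IsScalarTower.of_algebraMap_eq (fun _ => rfl)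
  haveI : IsScalarTower k (MvPowerSeries (Fin m) k) L :=
    IsScalarTower.of_algebraMap_eq (fun c => by
      rw [IsScalarTower.algebraMap_apply (MvPowerSeries (Fin m) k) C L,
        ← IsScalarTower.algebraMap_apply k (MvPowerSeries (Fin m) k) C,
        ← IsScalarTower.algebraMap_apply k C L])
  have hinjL : Function.Injective (algebraMap (MvPowerSeries (Fin m) k) L) :=
    (IsFractionRing.injective C L).comp hwinj
  haveI : Algebra.EssFiniteType (MvPowerSeries (Fin m) k) L := by
    haveI : Algebra.EssFiniteType C L :=
      Algebra.EssFiniteType.of_isLocalization L (nonZeroDivisors C)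
    exact Algebra.EssFiniteType.comp _ C L
  have hspan := Groth.Agent.Lib.Helper19.PsFrob.span_D_X_eq_top k m p hk
  obtain ⟨hfin, c, t, -, hc, ht, hrk⟩ :=
    Groth.Agent.Lib.Helper19.CKCartier.rank_kaehler_eq (k := k) m (L := L) hinjL
  have halg : Algebra.IsAlgebraic (MvPowerSeries (Fin m) k) L := by
    haveI : Algebra.IsAlgebraic C L := IsLocalization.isAlgebraic L (nonZeroDivisors C)
    exact Algebra.IsIntegral.trans_isAlgebraic (MvPowerSeries (Fin m) k) C L
  constructor
  · haveI := hfin
    have hΥ : Module.rank L (LinearMap.ker (KaehlerDifferential.mapBaseChange ℤ k L)) =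
        (Module.finrank L (LinearMap.ker (KaehlerDifferential.mapBaseChange ℤ k L)) : Cardinal) :=
      (Module.finrank_eq_rank L (EGA41.imperfection ℤ k L)).symm
    have hrk' : Module.rank L (Ω[L⁄k]) =
        ((m + Module.finrank L (LinearMap.ker (KaehlerDifferential.mapBaseChange ℤ k L)) : ℕ) :
          Cardinal) := by
      rw [hrk, hc hspan, ht halg, add_zero, Nat.cast_add, ← hΥ]
      rfl
    rw [Module.finrank, hrk', Cardinal.toNat_natCast]
  · haveI : Module.Finite (MvPowerSeries (Fin m) k) Ω[MvPowerSeries (Fin m) k⁄k] :=
      Groth.Agent.Lib.Helper19.PsFrob.finite_kaehler k m p hk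
    haveI : Module.Finite C (LinearMap.range (KaehlerDifferential.mapBaseChange k
        (MvPowerSeries (Fin m) k) C)) := Module.Finite.range _
    have hex := KaehlerDifferential.exact_mapBaseChange_map k (MvPowerSeries (Fin m) k) C
    have hsurjm : Function.Surjective (KaehlerDifferential.map k (MvPowerSeries (Fin m) k) C C) :=
      KaehlerDifferential.map_surjective k (MvPowerSeries (Fin m) k) C
    let eC : (Ω[C⁄k] ⧸ LinearMap.range (KaehlerDifferential.mapBaseChange k
        (MvPowerSeries (Fin m) k) C)) ≃ₗ[C] Ω[C⁄MvPowerSeries (Fin m) k] :=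
      (Submodule.quotEquivOfEq _ _ (LinearMap.exact_iff.1 hex).symm).trans
        ((KaehlerDifferential.map k (MvPowerSeries (Fin m) k) C C).quotKerEquivOfSurjective hsurjm)
    haveI : Module.Finite C (Ω[C⁄k] ⧸ LinearMap.range (KaehlerDifferential.mapBaseChange k
        (MvPowerSeries (Fin m) k) C)) := Module.Finite.equiv eC.symm
    exact Module.Finite.of_submodule_quotient (LinearMap.range
      (KaehlerDifferential.mapBaseChange k (MvPowerSeries (Fin m) k) C))

end Groth.Agent.S5989
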