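import Groth.Statements.S12286
import Mathlib
-- import your own Groth.Agent.* helpers here

set_option autoImplicit false
universe u w m
open scoped TensorProduct
open DefT

namespace Groth.Agent.S12286

/-- Let A → B be a ring homomorphism, P a presentation of B over A and M a B-module. The canonical
B-linear map from the A-derivations Der_A(B, M) = Hom_B(Ω_{B/A}, M) to T^0(B/A, M) (the kernel of
Hom_B(L₀, M) → Hom_B(L₁, M), L₀ = B ⊗_R Ω_{R/A}), sending a derivation D to b ⊗ dr ↦ b·D(r̄), is
bijective. -/
theorem result
    (A B : Type u) [CommRing A] [CommRing B] [Algebra A B] (ι σ : Type w) (P : Algebra.Presentation A B ι σ)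
    (M : Type m) [AddCommGroup M] [Module B M] [Module A M] [IsScalarTower A B M] :
    Function.Bijective (CotT.derToT0 P M) := by
  have hsurjR : Function.Surjective (algebraMap P.toExtension.Ring B) := P.algebraMap_surjective
  constructor
  · -- injective
    rw [injective_iff_map_eq_zero]
    intro D hD
    have h0 : CotT.derLift P M D = 0 := congrArg Subtype.val hD
    ext b
    obtain ⟨r, rfl⟩ := hsurjR b
    have := LinearMap.congr_fun h0 ((1 : B) ⊗ₜ KaehlerDifferential.D A P.toExtension.Ring r)
    rw [CotT.derLift_tmul_D, one_smul] at this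
    simpa using this
  · -- surjective
    rintro ⟨φ, hφ⟩
    rw [LinearMap.mem_ker, CotT.d1Star_apply] at hφ
    -- φ vanishes on 1 ⊗ dx for x in the kernel
    have hker : ∀ x : P.toExtension.Ring, algebraMap P.toExtension.Ring B x = 0 →
        φ ((1 : B) ⊗ₜ KaehlerDifferential.D A P.toExtension.Ring x) = 0 := by
      intro x hx
      have hx' : x ∈ LinearMap.range (CotT.jmap P) := by
        rw [CotT.range_jmap]
        exact hx
      obtain ⟨f, rfl⟩ := hx'
      have := LinearMap.congr_fun hφ ((1 : B) ⊗ₜ f)
      rw [LinearMap.comp_apply, CotT.d1_tmul, one_smul] at this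
      exact this
    have hle : LinearMap.ker (KaehlerDifferential.mapBaseChange A P.toExtension.Ring B) ≤
        LinearMap.ker φ := by
      intro y hy
      rw [LinearMap.mem_ker] at hy
      obtain ⟨c, rfl⟩ :=
        (KaehlerDifferential.exact_kerCotangentToTensor_mapBaseChange A P.toExtension.Ring B hsurjR y).mp hy
      obtain ⟨x, rfl⟩ := Ideal.toCotangent_surjective _ c
      rw [KaehlerDifferential.kerCotangentToTensor_toCotangent, LinearMap.mem_ker]
      exact hker x.1 x.2
    have hsurj : Function.Surjective (KaehlerDifferential.mapBaseChange A P.toExtension.Ring B) :=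
      KaehlerDifferential.mapBaseChange_surjective A P.toExtension.Ring B hsurjR
    let ψ : Ω[B⁄A] →ₗ[B] M :=
      (Submodule.liftQ _ φ hle) ∘ₗ
        ((KaehlerDifferential.mapBaseChange A P.toExtension.Ring B).quotKerEquivOfSurjective hsurj).symm.toLinearMap
    have hψ : ∀ y, ψ (KaehlerDifferential.mapBaseChange A P.toExtension.Ring B y) = φ y := by
      intro y
      have e : ((KaehlerDifferential.mapBaseChange A P.toExtension.Ring B).quotKerEquivOfSurjective hsurj).symm
          (KaehlerDifferential.mapBaseChange A P.toExtension.Ring B y) = Submodule.Quotient.mk y := by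
        rw [LinearEquiv.symm_apply_eq]
        rfl
      change Submodule.liftQ _ φ hle (((KaehlerDifferential.mapBaseChange A P.toExtension.Ring B).quotKerEquivOfSurjective hsurj).symm
          (KaehlerDifferential.mapBaseChange A P.toExtension.Ring B y)) = φ y
      rw [e, Submodule.liftQ_apply]
    refine ⟨KaehlerDifferential.linearMapEquivDerivation A B ψ, ?_⟩
    apply Subtype.ext
    change CotT.derLift P M (KaehlerDifferential.linearMapEquivDerivation A B ψ) = φ
    refine (P.cotangentSpaceBasis).ext fun i => ?_
    rw [CotT.derLift_basis]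
    change ψ (KaehlerDifferential.D A B (P.val i)) = _
    have e2 : KaehlerDifferential.D A B (P.val i) =
        KaehlerDifferential.mapBaseChange A P.toExtension.Ring B
          ((1 : B) ⊗ₜ KaehlerDifferential.D A P.toExtension.Ring (MvPolynomial.X i)) := by
      rw [KaehlerDifferential.mapBaseChange_tmul, one_smul, KaehlerDifferential.map_D,
        CotT.algebraMap_toExtension, MvPolynomial.aeval_X]
    rw [e2, hψ, Algebra.Generators.cotangentSpaceBasis_apply]
    rfl

end Groth.Agent.S12286
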