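import Groth.Statements.S12289
import Mathlib
-- import your own Groth.Agent.* helpers here

set_option autoImplicit false
universe u w m
open scoped TensorProduct
open DefT

namespace Groth.Agent.S12289

/-- Let k be a commutative ring and B a k-algebra presented as R/I with R = k[x_i] a polynomial ring
(any set of variables) and chosen generators of I, and let M be a B-module; T^0(B/k, M) and T^1(B/k,
M) are computed from this presentation. Then the sequence 0 → T^0(B/k, M) → Hom_B(Ω_{R/k} ⊗_R B, M)
→ Hom_B(I/I², M) → T^1(B/k, M) → 0 is exact, where the middle map is composition with the conormal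
map d : I/I² → Ω_{R/k} ⊗_R B and the last map sends φ to the class of φ ∘ (F/IF → I/I²): the
submodule T^0(B/k, M) of Hom_B(Ω_{R/k} ⊗ B, M) is the kernel of composition with d, the kernel of
Hom_B(I/I², M) → T^1(B/k, M) is the image of composition with d, and Hom_B(I/I², M) → T^1(B/k, M) is
surjective. (The published statement takes finitely many variables over a field and adds that the
same holds over any base ring; this row allows any base ring and any set of variables.) -/
theorem result
    (k B : Type u) [CommRing k] [CommRing B] [Algebra k B] (ι σ : Type w) (P : Algebra.Presentation k B ι σ)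
    (M : Type m) [AddCommGroup M] [Module B M] :
    LinearMap.ker (CotT.d1Star P M) = LinearMap.ker (LinearMap.lcomp B M P.toExtension.cotangentComplex) ∧
    LinearMap.ker (CotT.homToT1 P M) = LinearMap.range (LinearMap.lcomp B M P.toExtension.cotangentComplex) ∧
    Function.Surjective (CotT.homToT1 P M) := by
  have hsurjR : Function.Surjective (algebraMap P.toExtension.Ring B) := P.algebraMap_surjective
  -- toCot is surjective
  have htoCot : Function.Surjective (CotT.toCot P) := by
    intro c
    obtain ⟨x, rfl⟩ := Algebra.Extension.Cotangent.mk_surjective c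
    have hx : (x : P.toExtension.Ring) ∈ LinearMap.range (CotT.jmap P) := by
      rw [CotT.range_jmap]
      exact x.2
    obtain ⟨f, hf⟩ := hx
    refine ⟨(1 : B) ⊗ₜ f, ?_⟩
    rw [CotT.toCot_tmul, one_smul]
    congr 1
    exact Subtype.ext hf
  -- every element of L1 is of the form 1 ⊗ f
  have hL1 : ∀ t : CotT.L1 P, ∃ f : CotT.relMod P, t = (1 : B) ⊗ₜ f := by
    intro t
    induction t using TensorProduct.induction_on with
    | zero => exact ⟨0, by simp⟩
    | tmul b f =>
      obtain ⟨r, rfl⟩ := hsurjR b
      refine ⟨r • f, ?_⟩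
      rw [← TensorProduct.smul_tmul, Algebra.smul_def, mul_one]
    | add x y hx hy =>
      obtain ⟨f, rfl⟩ := hx
      obtain ⟨g, rfl⟩ := hy
      exact ⟨f + g, by rw [TensorProduct.tmul_add]⟩
  -- elements of I^2 are of the form j g with 1 ⊗ g = 0
  have hsq : ∀ x ∈ P.toExtension.ker ^ 2, ∃ g : CotT.relMod P, CotT.jmap P g = x ∧
      ((1 : B) ⊗ₜ[P.toExtension.Ring] g : CotT.L1 P) = 0 := by
    intro x hx
    rw [pow_two] at hx
    refine Submodule.mul_induction_on hx ?_ ?_
    · intro a ha b hb
      have ha' : a ∈ LinearMap.range (CotT.jmap P) := by rw [CotT.range_jmap]; exact ha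
      have hb' : b ∈ LinearMap.range (CotT.jmap P) := by rw [CotT.range_jmap]; exact hb
      obtain ⟨α, rfl⟩ := ha'
      obtain ⟨β, rfl⟩ := hb'
      refine ⟨CotT.jmap P α • β, by rw [map_smul, smul_eq_mul], ?_⟩
      rw [← TensorProduct.smul_tmul, Algebra.smul_def, CotT.algebraMap_jmap, zero_mul,
        TensorProduct.zero_tmul]
    · intro a b ⟨g, hg1, hg2⟩ ⟨g', hg1', hg2'⟩
      exact ⟨g + g', by rw [map_add, hg1, hg1'], by rw [TensorProduct.tmul_add, hg2, hg2', add_zero]⟩
  refine ⟨?_, ?_, ?_⟩
  · ext φ
    simp only [LinearMap.mem_ker, CotT.d1Star_apply, LinearMap.lcomp_apply']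
    constructor
    · intro h
      apply LinearMap.ext
      intro c
      obtain ⟨t, rfl⟩ := htoCot c
      exact LinearMap.congr_fun h t
    · intro h
      rw [CotT.d1, ← LinearMap.comp_assoc, h, LinearMap.zero_comp]
  · ext φ
    rw [LinearMap.mem_ker, LinearMap.mem_range]
    unfold CotT.homToT1
    rw [LinearMap.comp_apply, Submodule.mkQ_apply, Submodule.Quotient.mk_eq_zero,
      Submodule.mem_comap, LinearMap.mem_range]
    constructor
    · rintro ⟨χ, hχ⟩
      refine ⟨χ, ?_⟩
      apply LinearMap.ext
      intro c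
      obtain ⟨t, rfl⟩ := htoCot c
      exact LinearMap.congr_fun hχ t
    · rintro ⟨χ, rfl⟩
      exact ⟨χ, rfl⟩
  · intro τ
    obtain ⟨⟨ψ, hψ⟩, rfl⟩ := Submodule.Quotient.mk_surjective _ τ
    rw [LinearMap.mem_ker, CotT.d2Star_apply] at hψ
    have hker : LinearMap.ker (CotT.toCot P) ≤ LinearMap.ker ψ := by
      intro t ht
      rw [LinearMap.mem_ker] at ht ⊢
      obtain ⟨f, rfl⟩ := hL1 t
      rw [CotT.toCot_tmul, one_smul, Algebra.Extension.Cotangent.mk_eq_zero_iff] at ht
      obtain ⟨g, hg1, hg2⟩ := hsq _ ht
      have hq : f - g ∈ CotT.relKer P := by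
        change CotT.jmap P (f - g) = 0
        rw [map_sub, hg1]
        exact sub_self _
      have e : ((1 : B) ⊗ₜ[P.toExtension.Ring] f : CotT.L1 P) =
          CotT.d2 P (Submodule.Quotient.mk ((1 : B) ⊗ₜ (⟨f - g, hq⟩ : CotT.relKer P))) := by
        rw [CotT.d2_mk_tmul]
        change _ = (1 : B) ⊗ₜ[P.toExtension.Ring] (f - g)
        rw [TensorProduct.tmul_sub, hg2, sub_zero]
      rw [e]
      exact LinearMap.congr_fun hψ _
    let φ : P.toExtension.Cotangent →ₗ[B] M :=
      (Submodule.liftQ _ ψ hker) ∘ₗ
        ((CotT.toCot P).quotKerEquivOfSurjective htoCot).symm.toLinearMap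
    have hφ : ∀ t, φ (CotT.toCot P t) = ψ t := by
      intro t
      have e : ((CotT.toCot P).quotKerEquivOfSurjective htoCot).symm (CotT.toCot P t) =
          Submodule.Quotient.mk t := by
        rw [LinearEquiv.symm_apply_eq]
        rfl
      change Submodule.liftQ _ ψ hker (((CotT.toCot P).quotKerEquivOfSurjective htoCot).symm
        (CotT.toCot P t)) = ψ t
      rw [e, Submodule.liftQ_apply]
    refine ⟨φ, ?_⟩
    unfold CotT.homToT1
    rw [LinearMap.comp_apply, Submodule.mkQ_apply]
    congr 1
    apply Subtype.ext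
    apply LinearMap.ext
    intro t
    exact hφ t

end Groth.Agent.S12289
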