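import Groth.Statements.S4492
import Mathlib

set_option autoImplicit false
universe u
open FlatCx

namespace Groth.Agent.S4492

section Helpers
open CategoryTheory CategoryTheory.Limits

section Lin

variable {B : Type u} [Ring B] {X₁ X₂ X₃ : Type u} [AddCommGroup X₁] [AddCommGroup X₂]
  [AddCommGroup X₃] [Module B X₁] [Module B X₂] [Module B X₃] (f : X₁ →ₗ[B] X₂) (g : X₂ →ₗ[B] X₃)

theorem length_eq_ker_add_range :
    Module.length B X₁ = Module.length B (LinearMap.ker f) + Module.length B (LinearMap.range f) := by
  refine Module.length_eq_add_of_exact (LinearMap.ker f).subtype f.rangeRestrict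
    (Submodule.subtype_injective _) f.surjective_rangeRestrict ?_
  intro x
  rw [← LinearMap.mem_ker, LinearMap.ker_rangeRestrict]
  simp

theorem length_eq_range_add_quot :
    Module.length B X₃ =
      Module.length B (LinearMap.range g) + Module.length B (X₃ ⧸ LinearMap.range g) :=
  Module.length_eq_add_of_exact (LinearMap.range g).subtype (LinearMap.range g).mkQ
    (Submodule.subtype_injective _) (Submodule.mkQ_surjective _)
    (LinearMap.exact_subtype_mkQ _)

theorem length_mid (H : Function.Exact f g) :
    Module.length B X₂ = Module.length B (LinearMap.range f) + Module.length B (LinearMap.range g) := by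
  rw [length_eq_ker_add_range g, LinearMap.exact_iff.mp H]

theorem length_le_add (H : Function.Exact f g) :
    Module.length B X₂ ≤ Module.length B X₁ + Module.length B X₃ := by
  rw [length_mid f g H, length_eq_ker_add_range f, length_eq_range_add_quot g]
  calc Module.length B (LinearMap.range f) + Module.length B (LinearMap.range g)
      ≤ (Module.length B (LinearMap.ker f) + Module.length B (LinearMap.range f)) +
          Module.length B (LinearMap.range g) := by gcongr; exact le_add_self
    _ ≤ _ := by gcongr; exact le_self_add

theorem length_eq_add_iff (H : Function.Exact f g) (h1 : Module.length B X₁ ≠ ⊤)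
    (h3 : Module.length B X₃ ≠ ⊤) :
    Module.length B X₂ = Module.length B X₁ + Module.length B X₃ ↔
      Function.Injective f ∧ Function.Surjective g := by
  have e1 := length_eq_ker_add_range f
  have e3 := length_eq_range_add_quot g
  have e2 := length_mid f g H
  have ha : Module.length B (LinearMap.ker f) ≠ ⊤ := by
    intro h; rw [h, top_add] at e1; exact h1 e1
  have hb : Module.length B (LinearMap.range f) ≠ ⊤ := by
    intro h; rw [h, add_top] at e1; exact h1 e1
  have hc : Module.length B (LinearMap.range g) ≠ ⊤ := by
    intro h; rw [h, top_add] at e3; exact h3 e3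
  have hd : Module.length B (X₃ ⧸ LinearMap.range g) ≠ ⊤ := by
    intro h; rw [h, add_top] at e3; exact h3 e3
  have hinj : Function.Injective f ↔ Module.length B (LinearMap.ker f) = 0 := by
    rw [Module.length_eq_zero_iff, Submodule.subsingleton_iff_eq_bot, LinearMap.ker_eq_bot]
  have hsurj : Function.Surjective g ↔ Module.length B (X₃ ⧸ LinearMap.range g) = 0 := by
    rw [Module.length_eq_zero_iff, Submodule.Quotient.subsingleton_iff, LinearMap.range_eq_top]
  rw [hinj, hsurj, e1, e2, e3]
  generalize Module.length B (LinearMap.ker f) = a at *
  generalize Module.length B (LinearMap.range f) = b at *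
  generalize Module.length B (LinearMap.range g) = c at *
  generalize Module.length B (X₃ ⧸ LinearMap.range g) = d at *
  lift a to ℕ using ha
  lift b to ℕ using hb
  lift c to ℕ using hc
  lift d to ℕ using hd
  norm_cast
  omega

end Lin

variable {A B : Type u} [Ring A] [Ring B]

theorem exact_map (F : ModuleCat.{u} A ⥤ ModuleCat.{u} B) [F.Additive]
    (hF : ∀ S : ShortComplex (ModuleCat.{u} A), S.ShortExact → (S.map F).Exact)
    (S : ShortComplex (ModuleCat.{u} A)) (hS : S.ShortExact) :
    Function.Exact (F.map S.f).hom (F.map S.g).hom :=
  (ShortComplex.ShortExact.moduleCat_exact_iff_function_exact (S.map F)).mp (hF S hS)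

theorem finite_all (F : ModuleCat.{u} A ⥤ ModuleCat.{u} B) [F.Additive]
    (hF : ∀ S : ShortComplex (ModuleCat.{u} A), S.ShortExact → (S.map F).Exact)
    (hS : ∀ M : ModuleCat.{u} A, IsSimpleModule A M → Module.length B (F.obj M) ≠ ⊤)
    (M : Type u) [AddCommGroup M] [Module A M] (h : IsFiniteLength A M) :
    Module.length B (F.obj (ModuleCat.of A M)) ≠ ⊤ := by
  induction h with
  | of_subsingleton =>
    rename_i M _ _ _
    have hz : IsZero (ModuleCat.of A M) := ModuleCat.isZero_of_subsingleton _
    have hz' : IsZero (F.obj (ModuleCat.of A M)) := F.map_isZero hz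
    have : Subsingleton (F.obj (ModuleCat.of A M)) := ModuleCat.subsingleton_of_isZero hz'
    rw [Module.length_eq_zero]
    exact ENat.zero_ne_top
  | of_simple_quotient hN ih =>
    rename_i M _ _ N _
    let S : ShortComplex (ModuleCat.{u} A) :=
      ShortComplex.mk (ModuleCat.ofHom N.subtype) (ModuleCat.ofHom N.mkQ) (by
        ext x
        simp)
    have hSe : S.ShortExact := by
      have : Mono S.f := (ModuleCat.mono_iff_injective _).mpr (Submodule.subtype_injective N)
      have : Epi S.g := (ModuleCat.epi_iff_surjective _).mpr (Submodule.mkQ_surjective N)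
      refine ShortComplex.ShortExact.mk ?_
      rw [ShortComplex.ShortExact.moduleCat_exact_iff_function_exact]
      exact LinearMap.exact_subtype_mkQ N
    have hle := length_le_add _ _ (exact_map F hF S hSe)
    have h3 : Module.length B (F.obj (ModuleCat.of A (M ⧸ N))) ≠ ⊤ :=
      hS (ModuleCat.of A (M ⧸ N)) (inferInstanceAs (IsSimpleModule A (M ⧸ N)))
    intro htop
    have : Module.length B (F.obj S.X₂) = ⊤ := htop
    rw [this, top_le_iff, ENat.add_eq_top] at hle
    rcases hle with h | h
    · exact ih h
    · exact h3 h

end Helpers

open CategoryTheory CategoryTheory.Limits in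

open CategoryTheory CategoryTheory.Limits in
/-- (The published statement is for arbitrary abelian categories; this row is for functors between
module categories.) Let F be an additive functor from A-modules to B-modules which is half exact
(every short exact sequence 0 → E' → E → E'' → 0 goes to a sequence F(E') → F(E) → F(E'') exact at
the middle) and such that F(S) has finite length for every simple A-module S. Then F(E) has finite
length for every A-module E of finite length; and for every short exact sequence 0 → E' → E → E'' →
0 of A-modules with E of finite length one has length F(E) ≤ length F(E') + length F(E''), with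
equality if and only if 0 → F(E') → F(E) → F(E'') → 0 is (short) exact. Lengths are Mathlib's,
valued in ℕ∞. -/
theorem result {A B : Type u} [Ring A] [Ring B]
    (F : ModuleCat.{u} A ⥤ ModuleCat.{u} B) [F.Additive]
    (hF : ∀ S : ShortComplex (ModuleCat.{u} A), S.ShortExact → (S.map F).Exact)
    (hS : ∀ M : ModuleCat.{u} A, IsSimpleModule A M → Module.length B (F.obj M) ≠ ⊤) :
    (∀ E : ModuleCat.{u} A, Module.length A E ≠ ⊤ → Module.length B (F.obj E) ≠ ⊤) ∧
      ∀ S : ShortComplex (ModuleCat.{u} A), S.ShortExact → Module.length A S.X₂ ≠ ⊤ →
        Module.length B (F.obj S.X₂) ≤ Module.length B (F.obj S.X₁) + Module.length B (F.obj S.X₃) ∧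
          (Module.length B (F.obj S.X₂) = Module.length B (F.obj S.X₁) + Module.length B (F.obj S.X₃) ↔
            (S.map F).ShortExact) := by
  have hfin : ∀ E : ModuleCat.{u} A, Module.length A E ≠ ⊤ → Module.length B (F.obj E) ≠ ⊤ := by
    intro E hE
    exact finite_all F hF hS E (Module.length_ne_top_iff.mp hE)
  refine ⟨hfin, ?_⟩
  intro S hSe h2
  have hex := exact_map F hF S hSe
  have hinj : Function.Injective S.f.hom := (ModuleCat.mono_iff_injective _).mp hSe.mono_f
  have hsurj : Function.Surjective S.g.hom := (ModuleCat.epi_iff_surjective _).mp hSe.epi_g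
  have l1 : Module.length A S.X₁ ≠ ⊤ :=
    ne_top_of_le_ne_top h2 (Module.length_le_of_injective S.f.hom hinj)
  have l3 : Module.length A S.X₃ ≠ ⊤ :=
    ne_top_of_le_ne_top h2 (Module.length_le_of_surjective S.g.hom hsurj)
  refine ⟨length_le_add _ _ hex, ?_⟩
  rw [length_eq_add_iff _ _ hex (hfin _ l1) (hfin _ l3)]
  constructor
  · rintro ⟨hi, hs⟩
    have : Mono (S.map F).f := (ModuleCat.mono_iff_injective _).mpr hi
    have : Epi (S.map F).g := (ModuleCat.epi_iff_surjective _).mpr hs
    exact ShortComplex.ShortExact.mk (hF S hSe)
  · intro h
    exact ⟨(ModuleCat.mono_iff_injective _).mp h.mono_f, (ModuleCat.epi_iff_surjective _).mp h.epi_g⟩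

end Groth.Agent.S4492
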