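import Groth.Statements.S17360
-- import your own Groth.Agent.* helpers here
import Mathlib

set_option autoImplicit false
universe u
open scoped TensorProduct
open AzInv

namespace Groth.Agent.S17360

section General
open Module

variable {S : Type*} [CommRing S] {M : Type*} [AddCommGroup M] [Module S M]

/-- symmetric and skew linearly independent families are jointly independent -/
theorem linearIndependent_sum_sym_skew (h2 : IsUnit (2 : S)) (τ : M →ₗ[S] M)
    {α β : Type*} (u : α → M) (v : β → M)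
    (hu : LinearIndependent S u) (hv : LinearIndependent S v)
    (hus : ∀ a, τ (u a) = u a) (hvs : ∀ b, τ (v b) = - v b) :
    LinearIndependent S (Sum.elim u v) := by
  refine LinearIndependent.sum_type hu hv ?_
  have h1 : Submodule.span S (Set.range u) ≤ LinearMap.eqLocus τ LinearMap.id := by
    rw [Submodule.span_le]; rintro _ ⟨a, rfl⟩; exact hus a
  have h2' : Submodule.span S (Set.range v) ≤ LinearMap.eqLocus τ (-LinearMap.id) := by
    rw [Submodule.span_le]; rintro _ ⟨a, rfl⟩; exact hvs a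
  rw [Submodule.disjoint_def]
  intro x hx hy
  have e1 : τ x = x := h1 hx
  have e2 : τ x = -x := h2' hy
  have : (2 : S) • x = 0 := by
    rw [two_smul]; nth_rewrite 1 [← e1]; rw [e2]; simp
  exact (h2.smul_eq_zero).mp this

variable {ι : Type*} [Fintype ι] [LinearOrder ι]

/-- the `s`-eigenfamily attached to a signed permutation basis -/
theorem linearIndependent_eigen (h2 : IsUnit (2 : S)) (τ : M →ₗ[S] M) (b : Basis ι S M)
    (σ : ι → ι) (ε : ι → S) (hσ : ∀ i, σ (σ i) = i) (hε : ∀ i, ε i = 1 ∨ ε i = -1)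
    (hτ : ∀ i, τ (b i) = ε i • b (σ i)) (s : S) (hs : s = 1 ∨ s = -1) :
    LinearIndependent S (fun i : {i : ι // i < σ i ∨ (σ i = i ∧ ε i = s)} =>
      b i.1 + s • τ (b i.1)) := by
  classical
  have hss : s * s = 1 := by rcases hs with rfl | rfl <;> simp
  set I := {i : ι // i < σ i ∨ (σ i = i ∧ ε i = s)}
  let φ : M →ₗ[S] (I → S) :=
    { toFun := fun m i => b.repr m i.1
      map_add' := by intro x y; ext i; simp
      map_smul' := by intro c x; ext i; simp }
  refine LinearIndependent.of_comp φ ?_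
  let c : I → Sˣ := fun i => if h : σ i.1 = i.1 then h2.unit else 1
  have key : (φ ∘ fun i : I => b i.1 + s • τ (b i.1)) = fun i => (c i : S) • (Pi.basisFun S I i) := by
    funext i'
    ext i
    simp only [Function.comp_apply, φ, LinearMap.coe_mk, AddHom.coe_mk, hτ, map_add, map_smul,
      Basis.repr_self, Finsupp.coe_add, Finsupp.coe_smul, Pi.add_apply, Pi.smul_apply,
      Finsupp.single_apply, smul_eq_mul, Pi.basisFun_apply, Pi.single_apply, mul_ite, mul_one,
      mul_zero]
    by_cases hii : i = i'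
    · subst hii
      simp only [if_true]
      by_cases hfix : σ i.1 = i.1
      · have hεs : ε i.1 = s := by
          rcases i.2 with h | h
          · exact absurd hfix (ne_of_gt h)
          · exact h.2
        simp only [c, hfix, dif_pos, if_true, hεs, hss, IsUnit.unit_spec]
        norm_num
      · simp only [c, hfix, dif_neg, if_false, not_false_eq_true, Units.val_one, add_zero]
    · have h1 : ¬ (i'.1 = i.1) := fun h => hii (Subtype.ext h.symm)
      have h3 : ¬ (σ i'.1 = i.1) := by
        intro h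
        rcases i'.2 with h' | h'
        · rcases i.2 with h'' | h''
          · rw [← h, hσ] at h''
            exact lt_asymm h' h''
          · apply h1
            rw [← hσ i'.1, h, h''.1]
        · exact h1 (h'.1.symm.trans h)
      simp [h1, h3, hii]
  rw [key]
  exact (Pi.basisFun S I).linearIndependent.units_smul c

omit [Fintype ι] [LinearOrder ι] in
theorem eigen_apply (τ : M →ₗ[S] M) (hτ2 : ∀ x, τ (τ x) = x) (s : S) (hs : s = 1 ∨ s = -1)
    (x : M) : τ (x + s • τ x) = s • (x + s • τ x) := by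
  have hss : s * s = 1 := by rcases hs with rfl | rfl <;> simp
  rw [map_add, map_smul, hτ2, smul_add, smul_smul, hss, one_smul, add_comm]

theorem count_eigen [Nontrivial S] (h2 : IsUnit (2 : S))
    (σ : ι → ι) (ε : ι → S) (hσ : ∀ i, σ (σ i) = i) (hε : ∀ i, ε i = 1 ∨ ε i = -1)
    (s : S) (hs : s = 1 ∨ s = -1) :
    2 * Nat.card {i : ι // i < σ i ∨ (σ i = i ∧ ε i = s)} +
      Nat.card {i : ι // σ i = i ∧ ε i = -s} =
    Fintype.card ι + Nat.card {i : ι // σ i = i ∧ ε i = s} := by
  classical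
  simp only [Nat.card_eq_fintype_card]
  have hne : s ≠ -s := by
    intro h
    have : (2 : S) * s = 0 := by rw [two_mul]; nth_rewrite 2 [h]; simp
    have hs0 : s = 0 := (h2.mul_right_eq_zero).mp this
    rcases hs with rfl | rfl
    · exact one_ne_zero hs0
    · exact one_ne_zero (neg_eq_zero.mp hs0)
  have hεs : ∀ i, ε i = s ∨ ε i = -s := by
    intro i
    rcases hs with rfl | rfl
    · exact hε i
    · rw [neg_neg]; exact (hε i).symm
  simp only [Fintype.card_subtype]
  have hab : (Finset.univ.filter fun i : ι => i < σ i).card =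
      (Finset.univ.filter fun i : ι => σ i < i).card := by
    refine Finset.card_bij (fun i _ => σ i) ?_ ?_ ?_
    · intro i hi
      simp only [Finset.mem_filter, Finset.mem_univ, true_and] at hi ⊢
      rw [hσ]; exact hi
    · intro i _ j _ hij
      rw [← hσ i, ← hσ j, hij]
    · intro j hj
      simp only [Finset.mem_filter, Finset.mem_univ, true_and] at hj
      refine ⟨σ j, ?_, hσ j⟩
      simp only [Finset.mem_filter, Finset.mem_univ, true_and, hσ]
      exact hj
  have hI : (Finset.univ.filter fun i : ι => i < σ i ∨ (σ i = i ∧ ε i = s)).card =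
      (Finset.univ.filter fun i : ι => i < σ i).card +
        (Finset.univ.filter fun i : ι => σ i = i ∧ ε i = s).card := by
    simp only [Finset.card_filter]
    rw [← Finset.sum_add_distrib]
    refine Finset.sum_congr rfl fun i _ => ?_
    by_cases h1 : i < σ i
    · have : ¬ (σ i = i) := ne_of_gt h1
      simp [h1, this]
    · simp [h1]
  have hN : Fintype.card ι = (Finset.univ.filter fun i : ι => i < σ i).card +
      (Finset.univ.filter fun i : ι => σ i < i).card +
      (Finset.univ.filter fun i : ι => σ i = i ∧ ε i = s).card +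
      (Finset.univ.filter fun i : ι => σ i = i ∧ ε i = -s).card := by
    rw [← Finset.card_univ, Finset.card_eq_sum_ones]
    simp only [Finset.card_filter]
    simp only [← Finset.sum_add_distrib]
    refine Finset.sum_congr rfl fun i _ => ?_
    rcases lt_trichotomy i (σ i) with h | h | h
    · have h3 : ¬ (σ i < i) := lt_asymm h
      have h4 : ¬ (σ i = i) := ne_of_gt h
      simp [h, h3, h4]
    · have h3 : ¬ (i < σ i) := by rw [← h]; exact lt_irrefl _
      have h4 : ¬ (σ i < i) := by rw [← h]; exact lt_irrefl _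
      rcases hεs i with h5 | h5
      · simp [h3, h4, h.symm, h5, hne]
      · simp [h3, h4, h.symm, h5, hne.symm]
    · have h3 : ¬ (i < σ i) := lt_asymm h
      have h4 : ¬ (σ i = i) := ne_of_lt h
      simp [h, h3, h4]
  omega

end General

section Sig
open Module

theorem sig_le {S : Type*} [CommRing S] [Nontrivial S] {M : Type*} [AddCommGroup M] [Module S M]
    (h2 : IsUnit (2 : S)) (τ : M →ₗ[S] M) (hτ2 : ∀ x, τ (τ x) = x)
    {ι₁ ι₂ : Type*} [Fintype ι₁] [Fintype ι₂]
    (b₁ : Basis ι₁ S M) (σ₁ : ι₁ → ι₁) (ε₁ : ι₁ → S) (hσ₁ : ∀ i, σ₁ (σ₁ i) = i)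
    (hε₁ : ∀ i, ε₁ i = 1 ∨ ε₁ i = -1) (hτ₁ : ∀ i, τ (b₁ i) = ε₁ i • b₁ (σ₁ i))
    (b₂ : Basis ι₂ S M) (σ₂ : ι₂ → ι₂) (ε₂ : ι₂ → S) (hσ₂ : ∀ i, σ₂ (σ₂ i) = i)
    (hε₂ : ∀ i, ε₂ i = 1 ∨ ε₂ i = -1) (hτ₂ : ∀ i, τ (b₂ i) = ε₂ i • b₂ (σ₂ i)) :
    Nat.card {i // σ₁ i = i ∧ ε₁ i = 1} + Nat.card {j // σ₂ j = j ∧ ε₂ j = -1} ≤
      Nat.card {i // σ₁ i = i ∧ ε₁ i = -1} + Nat.card {j // σ₂ j = j ∧ ε₂ j = 1} := by
  classical
  letI : LinearOrder ι₁ := LinearOrder.lift' (Fintype.equivFin ι₁) (Equiv.injective _)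
  letI : LinearOrder ι₂ := LinearOrder.lift' (Fintype.equivFin ι₂) (Equiv.injective _)
  have hN : Fintype.card ι₁ = Fintype.card ι₂ := Fintype.card_congr (b₁.indexEquiv b₂)
  have hu := linearIndependent_eigen h2 τ b₁ σ₁ ε₁ hσ₁ hε₁ hτ₁ 1 (Or.inl rfl)
  have hv := linearIndependent_eigen h2 τ b₂ σ₂ ε₂ hσ₂ hε₂ hτ₂ (-1) (Or.inr rfl)
  have huv := linearIndependent_sum_sym_skew h2 τ _ _ hu hv
    (fun a => by have := eigen_apply τ hτ2 1 (Or.inl rfl) (b₁ a.1); simpa using this)
    (fun a => by
      have := eigen_apply τ hτ2 (-1) (Or.inr rfl) (b₂ a.1)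
      rw [this, neg_one_smul])
  have hcard := b₂.card_le_card_of_linearIndependent huv
  rw [Fintype.card_sum] at hcard
  have c1 := count_eigen h2 σ₁ ε₁ hσ₁ hε₁ 1 (Or.inl rfl)
  have c2 := count_eigen h2 σ₂ ε₂ hσ₂ hε₂ (-1) (Or.inr rfl)
  rw [neg_neg] at c2
  simp only [Nat.card_eq_fintype_card] at c1 c2 ⊢
  omega

end Sig


section Inst
open Module

variable (R : Type u) [CommRing R]

theorem nontrivial_of_ff [Nontrivial R] (S' : Type u) [CommRing S'] [Algebra R S']
    [Module.FaithfullyFlat R S'] : Nontrivial S' := by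
  haveI : Nontrivial (S' ⊗[R] R) := Module.FaithfullyFlat.lTensor_nontrivial R S' R
  exact (TensorProduct.rid R S').toEquiv.symm.nontrivial

/-- inverse of the symplectic unit -/
theorem J_inv (J : (Matrix (Fin 2) (Fin 2) R)ˣ)
    (hJ : (↑J : Matrix (Fin 2) (Fin 2) R) = Matrix.of ![![0, -1], ![1, 0]]) :
    (↑J⁻¹ : Matrix (Fin 2) (Fin 2) R) = Matrix.of ![![0, 1], ![-1, 0]] := by
  apply Units.inv_eq_of_mul_eq_one_right
  rw [hJ]
  ext i j
  fin_cases i <;> fin_cases j <;> simp [Matrix.mul_apply, Fin.sum_univ_two, Matrix.one_apply]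

/-- the permutation of matrix units induced by the symplectic involution of `M_2` -/
def sig2 : Fin 2 × Fin 2 → Fin 2 × Fin 2 := fun p => if p.1 = p.2 then (1 - p.1, 1 - p.2) else p

theorem sig2_sig2 (p : Fin 2 × Fin 2) : sig2 (sig2 p) = p := by
  rcases p with ⟨k, l⟩
  fin_cases k <;> fin_cases l <;> simp [sig2]

theorem symp_single (J : (Matrix (Fin 2) (Fin 2) R)ˣ)
    (hJ : (↑J : Matrix (Fin 2) (Fin 2) R) = Matrix.of ![![0, -1], ![1, 0]]) (k l : Fin 2) :
    (↑J : Matrix (Fin 2) (Fin 2) R) * (Matrix.single k l (1 : R)).transpose *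
        ((↑J⁻¹ : (Matrix (Fin 2) (Fin 2) R)ˣ) : Matrix (Fin 2) (Fin 2) R) =
      (if k = l then (1 : R) else -1) • Matrix.single (sig2 (k, l)).1 (sig2 (k, l)).2 (1 : R) := by
  rw [J_inv R J hJ, hJ]
  ext i j
  fin_cases k <;> fin_cases l <;> fin_cases i <;> fin_cases j <;>
    simp [Matrix.mul_apply, Fin.sum_univ_two, Matrix.single_apply, sig2, Matrix.vecMul,
      dotProduct, Matrix.transpose_apply]

omit [CommRing R] in
theorem stdBasis_eq' {R : Type*} [CommRing R] (p : Fin 2 × Fin 2) :
    Matrix.stdBasis R (Fin 2) (Fin 2) p = Matrix.single p.1 p.2 (1 : R) := by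
  rcases p with ⟨k, l⟩
  exact Matrix.stdBasis_eq_single R k l

theorem aux [Nontrivial R]
    (hlam : ∀ r : R, (AlgEquiv.refl : R ≃ₐ[R] R) ((AlgEquiv.refl : R ≃ₐ[R] R) r) = r)
    (h2 : IsUnit (2 : R))
    (J : (Matrix (Fin 2) (Fin 2) R)ˣ) (hJ : (↑J : Matrix (Fin 2) (Fin 2) R) = Matrix.of ![![0, -1], ![1, 0]])
    (hJt : AzInv.LamInv.transpose (AlgEquiv.refl : R ≃ₐ[R] R) (Fin 2) hlam (↑J : Matrix (Fin 2) (Fin 2) R) = (-1 : R) • (↑J : Matrix (Fin 2) (Fin 2) R))
    (hneg : (AlgEquiv.refl : R ≃ₐ[R] R) (-1) * (-1) = 1) :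
    ¬ AzInv.SameType R (AlgEquiv.refl : R ≃ₐ[R] R) (AzInv.LamInv.self (AlgEquiv.refl : R ≃ₐ[R] R) hlam) ((AzInv.LamInv.transpose (AlgEquiv.refl : R ≃ₐ[R] R) (Fin 2) hlam).conj J (-1) hJt hneg) := by
  classical
  rintro ⟨n, n', hn, hn', S', _, _, _, _, f, -, hf⟩
  haveI : Nontrivial S' := nontrivial_of_ff R S'
  have h2' : IsUnit (2 : S') := by
    have := h2.map (algebraMap R S')
    rwa [map_ofNat] at this
  set t1 := (AzInv.LamInv.self (AlgEquiv.refl : R ≃ₐ[R] R) hlam).matrix (Fin n) with ht1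
  set t2 := ((AzInv.LamInv.transpose (AlgEquiv.refl : R ≃ₐ[R] R) (Fin 2) hlam).conj J (-1) hJt hneg).matrix (Fin n') with ht2
  set τ := t2.bc R (AlgEquiv.refl : R ≃ₐ[R] R) S' with hτ
  have hτ2 : ∀ x, τ (τ x) = x := by
    intro x
    induction x using TensorProduct.induction_on with
    | zero => simp
    | add x y hx hy => rw [map_add, map_add, hx, hy]
    | tmul s a => rw [hτ, LamInv.bc_tmul, LamInv.bc_tmul, LamInv.invol]
  let b₁ : Basis (Fin n × Fin n) S' (S' ⊗[R] Matrix (Fin n') (Fin n') (Matrix (Fin 2) (Fin 2) R)) :=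
    ((Matrix.stdBasis R (Fin n) (Fin n)).baseChange S').map f.toLinearEquiv
  let b₂ : Basis (Fin n' × Fin n' × (Fin 2 × Fin 2)) S'
      (S' ⊗[R] Matrix (Fin n') (Fin n') (Matrix (Fin 2) (Fin 2) R)) :=
    ((Matrix.stdBasis R (Fin 2) (Fin 2)).matrix (Fin n') (Fin n')).baseChange S'
  have key := sig_le h2' τ hτ2 b₁ Prod.swap (fun _ => 1) (fun p => Prod.swap_swap p)
    (fun _ => Or.inl rfl) ?_ b₂ (fun q => (q.2.1, q.1, sig2 q.2.2))
    (fun q => if q.2.2.1 = q.2.2.2 then 1 else -1) ?_ ?_ ?_
  · -- conclusion from key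
    have hne : (1 : S') ≠ -1 := by
      intro h
      have h0 : (2 : S') = 0 := by
        have : (1 : S') + 1 = 0 := by nth_rewrite 2 [h]; simp
        rw [← this]; norm_num
      rw [h0] at h2'
      exact not_isUnit_zero h2'
    have e3 : Nat.card {i : Fin n × Fin n // Prod.swap i = i ∧ (fun _ => (1 : S')) i = -1} = 0 := by
      haveI : IsEmpty {i : Fin n × Fin n // Prod.swap i = i ∧ (fun _ => (1 : S')) i = -1} :=
        ⟨fun x => hne x.2.2⟩
      exact Nat.card_of_isEmpty
    have e4 : Nat.card {q : Fin n' × Fin n' × (Fin 2 × Fin 2) //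
        (fun q : Fin n' × Fin n' × (Fin 2 × Fin 2) => (q.2.1, q.1, sig2 q.2.2)) q = q ∧
        (fun q : Fin n' × Fin n' × (Fin 2 × Fin 2) =>
          if q.2.2.1 = q.2.2.2 then (1 : S') else -1) q = 1} = 0 := by
      haveI : IsEmpty {q : Fin n' × Fin n' × (Fin 2 × Fin 2) //
        (fun q : Fin n' × Fin n' × (Fin 2 × Fin 2) => (q.2.1, q.1, sig2 q.2.2)) q = q ∧
        (fun q : Fin n' × Fin n' × (Fin 2 × Fin 2) =>
          if q.2.2.1 = q.2.2.2 then (1 : S') else -1) q = 1} := by
        refine ⟨fun x => ?_⟩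
        obtain ⟨⟨i, j, k, l⟩, hx1, hx2⟩ := x
        simp only [Prod.mk.injEq] at hx1
        have hs : sig2 (k, l) = (k, l) := hx1.2.2
        by_cases hkl : k = l
        · subst hkl
          revert hs
          fin_cases k <;> simp [sig2]
        · simp only [hkl, if_false] at hx2
          exact hne hx2.symm
      exact Nat.card_of_isEmpty
    have e1 : 0 < Nat.card {i : Fin n × Fin n // Prod.swap i = i ∧ (fun _ => (1 : S')) i = 1} := by
      haveI : Nonempty {i : Fin n × Fin n // Prod.swap i = i ∧ (fun _ => (1 : S')) i = 1} :=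
        ⟨⟨(⟨0, hn⟩, ⟨0, hn⟩), rfl, rfl⟩⟩
      exact Nat.card_pos
    rw [e3, e4] at key
    beta_reduce at e1 key
    omega
  · -- hτ₁
    intro p
    rcases p with ⟨i, j⟩
    simp only [one_smul, b₁, Basis.map_apply, Basis.baseChange_apply, Matrix.stdBasis_eq_single,
      Prod.swap_prod_mk]
    change τ (f _) = f _
    rw [hτ, ← hf, LamInv.bc_tmul]
    congr 2
    ext a c
    simp only [ht1, LamInv.matrix_apply, LamInv.self_apply, AlgEquiv.coe_refl, id_eq,
      Matrix.single_apply]
    exact if_congr (by tauto) rfl rfl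
  · -- hσ₂
    intro q
    rcases q with ⟨i, j, p⟩
    simp [sig2_sig2]
  · -- hε₂
    intro q
    by_cases h : q.2.2.1 = q.2.2.2
    · left; simp [h]
    · right; simp [h]
  · -- hτ₂
    rintro ⟨i, j, k, l⟩
    have hb : b₂ (i, j, k, l) = (1 : S') ⊗ₜ[R] Matrix.single i j (Matrix.single k l (1 : R)) := by
      simp only [b₂, Basis.baseChange_apply, Basis.matrix_apply, Matrix.stdBasis_eq_single]
    have hb' : b₂ (j, i, sig2 (k, l)) = (1 : S') ⊗ₜ[R]
        Matrix.single j i (Matrix.single (sig2 (k, l)).1 (sig2 (k, l)).2 (1 : R)) := by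
      simp only [b₂, Basis.baseChange_apply, Basis.matrix_apply, stdBasis_eq']
    have htr : (LamInv.transpose (AlgEquiv.refl : R ≃ₐ[R] R) (Fin 2) hlam)
        (Matrix.single k l (1 : R)) = (Matrix.single k l (1 : R)).transpose := by
      ext a c
      rfl
    have ht : t2 (Matrix.single i j (Matrix.single k l (1 : R))) =
        (if k = l then (1 : R) else -1) •
          Matrix.single j i (Matrix.single (sig2 (k, l)).1 (sig2 (k, l)).2 (1 : R)) := by
      refine Matrix.ext fun a c => ?_
      simp only [ht2, LamInv.matrix_apply, LamInv.conj_apply, Matrix.smul_apply]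
      by_cases hac : j = a ∧ i = c
      · obtain ⟨rfl, rfl⟩ := hac
        rw [Matrix.single_apply_same, Matrix.single_apply_same, htr]
        exact symp_single R J hJ k l
      · have h1 : Matrix.single i j (Matrix.single k l (1 : R)) c a = 0 := by
          rw [Matrix.single_apply]; exact if_neg (by tauto)
        have h3 : Matrix.single j i (Matrix.single (sig2 (k, l)).1 (sig2 (k, l)).2 (1 : R)) a c
            = 0 := by
          rw [Matrix.single_apply]; exact if_neg hac
        rw [h1, h3, LamInv.map_zero, mul_zero, zero_mul, smul_zero]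
    change τ (b₂ (i, j, k, l)) = (if k = l then (1 : S') else -1) • b₂ (j, i, sig2 (k, l))
    rw [hb, hb', hτ, LamInv.bc_tmul, ht]
    by_cases hkl : k = l
    · simp [hkl]
    · simp only [hkl, if_false, neg_smul, one_smul, TensorProduct.tmul_neg]
      exact (neg_one_smul S' _).symm

end Inst

/-- Let `R` be a nontrivial commutative ring in which `2` is a unit, with the trivial involution. This
row states the second half of the count of types: the identity of `R` (the orthogonal type) and the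
standard symplectic involution `x ↦ J xᵀ J⁻¹` of the `2 × 2` matrix algebra, `J` the matrix with
rows `(0, -1)` and `(1, 0)`, do not have the same type, i.e. for no positive sizes do the matrix
algebras over `R` with the transpose and over `M_2(R)` with the involution induced by the symplectic
one become isomorphic as `R`-algebras with involution after an etale faithfully flat base change of
`R`. (The source states that the monoid of types is isomorphic to the group of global square roots
of `1`, for a locally ringed topos with trivial involution and `2` invertible; the row is the affine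
case.) -/
theorem result (R : Type u) [CommRing R] (hlam : ∀ r : R, (AlgEquiv.refl : R ≃ₐ[R] R) ((AlgEquiv.refl : R ≃ₐ[R] R) r) = r)
    [Nontrivial R] (h2 : IsUnit (2 : R))
    (J : (Matrix (Fin 2) (Fin 2) R)ˣ) (hJ : (↑J : Matrix (Fin 2) (Fin 2) R) = Matrix.of ![![0, -1], ![1, 0]])
    (hJt : AzInv.LamInv.transpose (AlgEquiv.refl : R ≃ₐ[R] R) (Fin 2) hlam (↑J : Matrix (Fin 2) (Fin 2) R) = (-1 : R) • (↑J : Matrix (Fin 2) (Fin 2) R))
    (hneg : (AlgEquiv.refl : R ≃ₐ[R] R) (-1) * (-1) = 1) :
    ¬ AzInv.SameType R (AlgEquiv.refl : R ≃ₐ[R] R) (AzInv.LamInv.self (AlgEquiv.refl : R ≃ₐ[R] R) hlam) ((AzInv.LamInv.transpose (AlgEquiv.refl : R ≃ₐ[R] R) (Fin 2) hlam).conj J (-1) hJt hneg) := by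
  exact aux R hlam h2 J hJ hJt hneg

end Groth.Agent.S17360
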