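import Groth.Statements.S0502
import Groth.Agent.Lib.Helper3HenselA
import Mathlib

set_option autoImplicit false
universe u
open Hensel

namespace Groth.Agent.S0502

/-- A local ring `R` is henselian as soon as every étale `R`-algebra having a prime over the maximal
ideal with trivial residue field extension admits an `R`-algebra retraction to `R`. -/
theorem result (R : Type u) [CommRing R] [IsLocalRing R]
    (h : ∀ (S : Type u) [CommRing S] [Algebra R S] [Algebra.Etale R S] (q : Ideal S) [q.IsPrime],
      q.LiesOver (IsLocalRing.maximalIdeal R) → Function.Surjective (algebraMap R q.ResidueField) →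
      Nonempty (S →ₐ[R] R)) :
    HenselianLocalRing R := by
  open Polynomial IsLocalRing Groth.Agent.Lib.Helper3.Hensel in
  refine ((HenselianLocalRing.TFAE R).out 0 1).mpr ?_
  intro f hf a₀ h0 h1
  have e0 : (f.map (residue R)).eval a₀ = 0 := by rw [eval_map]; exact h0
  have e1 : (f.map (residue R)).derivative.eval a₀ ≠ 0 := by
    rw [derivative_map, eval_map]; exact h1
  obtain ⟨g₀, hfg, hg₀, hcop⟩ := simple_root_factor _ a₀ e0 e1
  obtain ⟨g, hg⟩ := Polynomial.map_surjective (residue R) residue_surjective g₀
  let P : StandardEtalePair R := ⟨f, hf, derivative f * g, ⟨g, 0, 1, by ring⟩⟩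
  have hga : aeval a₀ g = g₀.eval a₀ := by
    rw [← hg, eval_map]; rfl
  have hmap : P.HasMap a₀ := by
    refine ⟨h0, ?_⟩
    change IsUnit (aeval a₀ (derivative f * g))
    rw [map_mul, hga]
    exact (IsUnit.mk0 _ h1).mul (IsUnit.mk0 _ hg₀)
  let φ : P.Ring →ₐ[R] ResidueField R := P.lift a₀ hmap
  have hφsurj : Function.Surjective φ := by
    intro y
    obtain ⟨r, rfl⟩ := residue_surjective y
    exact ⟨algebraMap R P.Ring r, by rw [AlgHom.commutes]; rfl⟩
  let q : Ideal P.Ring := RingHom.ker φ.toRingHom
  haveI hqmax : q.IsMaximal := RingHom.ker_isMaximal_of_surjective φ.toRingHom hφsurj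
  haveI : q.IsPrime := hqmax.isPrime
  have hlies : q.LiesOver (maximalIdeal R) := by
    constructor
    ext r
    rw [Ideal.under_def, Ideal.mem_comap, RingHom.mem_ker, ← residue_eq_zero_iff]
    change residue R r = 0 ↔ φ (algebraMap R P.Ring r) = 0
    rw [AlgHom.commutes]; rfl
  have hsurj : Function.Surjective (algebraMap R q.ResidueField) := by
    have hb := Ideal.bijective_algebraMap_quotient_residueField q
    intro y
    obtain ⟨z, rfl⟩ := hb.surjective y
    obtain ⟨z, rfl⟩ := Ideal.Quotient.mk_surjective z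
    obtain ⟨r, hr⟩ := residue_surjective (φ z)
    refine ⟨r, ?_⟩
    rw [IsScalarTower.algebraMap_apply R (P.Ring ⧸ q) q.ResidueField]
    congr 1
    rw [IsScalarTower.algebraMap_apply R P.Ring (P.Ring ⧸ q), Ideal.Quotient.algebraMap_eq,
      Ideal.Quotient.eq, RingHom.mem_ker, map_sub]
    change φ (algebraMap R P.Ring r) - φ z = 0
    rw [AlgHom.commutes, sub_eq_zero, ← hr]; rfl
  obtain ⟨σ⟩ := h P.Ring q hlies hsurj
  have hσ : P.HasMap (σ P.X) := P.hasMap_X.map σ
  set a := σ P.X with hadef
  have ha0 : f.eval a = 0 := by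
    have := hσ.1
    rwa [← coe_aeval_eq_eval]
  have hgu : IsUnit (g.eval a) := by
    have := hσ.2
    change IsUnit (aeval a (derivative f * g)) at this
    rw [map_mul] at this
    have := isUnit_of_mul_isUnit_right this
    rwa [← coe_aeval_eq_eval]
  have h2 : g₀.eval (residue R a) ≠ 0 := by
    rw [← hg, eval_residue]
    exact ((hgu.map (residue R))).ne_zero
  have h3 : (residue R a - a₀) * g₀.eval (residue R a) = 0 := by
    have := eval_residue f a
    rw [ha0, map_zero, hfg] at this
    simpa using this
  refine ⟨a, ha0, ?_⟩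
  rcases mul_eq_zero.mp h3 with h4 | h4
  · exact sub_eq_zero.mp h4
  · exact absurd h4 h2

end Groth.Agent.S0502
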