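import Groth.Statements.S17448
-- import your own Groth.Agent.* helpers here
import Groth.Agent.Lib.Helper26HenselLift
import Groth.Agent.Lib.Helper20FEtFaith

set_option autoImplicit false
universe u
open CategoryTheory CategoryTheory.Limits AlgebraicGeometry
open Hensel

namespace Groth.Agent.S17448

/-- A morphism from an affine scheme to `Spec R` is `Spec.map` of a ring map up to `isoSpec`. -/
theorem affine_factor {R : Type u} [CommRing R] {Y : Scheme.{u}} [IsAffine Y]
    (h : Y ⟶ Spec (CommRingCat.of R)) :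
    ∃ ρ : CommRingCat.of R ⟶ Γ(Y, ⊤), Y.isoSpec.hom ≫ Spec.map ρ = h := by
  refine ⟨(Scheme.ΓSpecIso (CommRingCat.of R)).inv ≫ h.appTop, ?_⟩
  have h1 := Scheme.isoSpec_hom_naturality h
  rw [Scheme.isoSpec_Spec_hom] at h1
  simp only [Spec.map_comp]
  rw [reassoc_of% h1, ← Spec.map_comp, Iso.inv_hom_id, Spec.map_id, Category.comp_id]

theorem exists_section (R : Type u) [CommRing R]
    [HenselianLocalRing R] {X : Scheme.{u}} (f : X ⟶ Spec (CommRingCat.of R)) [Etale f]
    (t : Spec (CommRingCat.of (IsLocalRing.ResidueField R)) ⟶ X)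
    (ht : t ≫ f = Spec.map (CommRingCat.ofHom (IsLocalRing.residue R))) :
    ∃ s : Spec (CommRingCat.of R) ⟶ X,
      s ≫ f = 𝟙 (Spec (CommRingCat.of R)) ∧
        Spec.map (CommRingCat.ofHom (IsLocalRing.residue R)) ≫ s = t := by
  let k := IsLocalRing.ResidueField R
  let y₀ : Spec (CommRingCat.of k) := (⊥ : PrimeSpectrum k)
  obtain ⟨_, ⟨V : X.Opens, hV, rfl⟩, hxV, -⟩ := X.isBasis_affineOpens.exists_subset_of_mem_open
    (Set.mem_univ (t y₀)) isOpen_univ
  have hrange : Set.range t ⊆ Set.range V.ι := by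
    rintro _ ⟨y, rfl⟩
    have : y = y₀ := Subsingleton.elim (α := PrimeSpectrum k) y y₀
    rw [this, Scheme.Opens.range_ι]
    exact hxV
  let t' : Spec (CommRingCat.of k) ⟶ V.toScheme := IsOpenImmersion.lift V.ι t hrange
  have ht' : t' ≫ V.ι = t := IsOpenImmersion.lift_fac _ _ _
  haveI : IsAffine V.toScheme := hV
  obtain ⟨ρ, hρ⟩ := affine_factor (V.ι ≫ f)
  have hρet : ρ.hom.Etale := by
    have h2 : Etale (Spec.map ρ) := by
      rw [show Spec.map ρ = V.toScheme.isoSpec.inv ≫ (V.ι ≫ f) by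
        rw [← hρ, Iso.inv_hom_id_assoc]]
      infer_instance
    exact (HasRingHomProperty.Spec_iff (P := @Etale)).mp h2
  letI : Algebra R Γ(V.toScheme, ⊤) := ρ.hom.toAlgebra
  haveI : Algebra.Etale R Γ(V.toScheme, ⊤) := RingHom.etale_algebraMap.mp hρet
  -- the point as a ring hom
  let θ : Spec (CommRingCat.of k) ⟶ Spec Γ(V.toScheme, ⊤) := t' ≫ V.toScheme.isoSpec.hom
  let σ' : Γ(V.toScheme, ⊤) ⟶ CommRingCat.of k := Spec.preimage θ
  have hσ' : Spec.map σ' = θ := Spec.map_preimage θ
  have hcomm : ρ ≫ σ' = CommRingCat.ofHom (IsLocalRing.residue R) := by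
    apply Spec.map_injective
    rw [Spec.map_comp, hσ']
    simp only [θ, Category.assoc]
    rw [hρ, ← Category.assoc, ht', ht]
  let σ₀ : Γ(V.toScheme, ⊤) →ₐ[R] R ⧸ IsLocalRing.maximalIdeal R :=
    { σ'.hom with
      commutes' := fun a => by
        have := congrArg (fun u => u.hom a) hcomm
        exact this }
  obtain ⟨τ, hτ⟩ := Groth.Agent.Lib.Helper26.HenselLift.exists_algHom_lift
    (IsLocalRing.maximalIdeal R) σ₀
  let τc : Γ(V.toScheme, ⊤) ⟶ CommRingCat.of R := CommRingCat.ofHom τ.toRingHom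
  have hτ1 : ρ ≫ τc = 𝟙 _ := by
    ext a
    exact τ.commutes a
  have hτ2 : τc ≫ CommRingCat.ofHom (IsLocalRing.residue R) = σ' := by
    ext e
    exact hτ e
  refine ⟨Spec.map τc ≫ V.toScheme.isoSpec.inv ≫ V.ι, ?_, ?_⟩
  · rw [Category.assoc, Category.assoc, ← hρ, Iso.inv_hom_id_assoc, ← Spec.map_comp, hτ1,
      Spec.map_id]
  · rw [← Category.assoc, ← Spec.map_comp, hτ2, hσ']
    simp only [θ, Category.assoc, Iso.hom_inv_id_assoc]
    exact ht'

/-- Sections over henselian rings: let R be a henselian local ring with residue field k and X → Spec R a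
quasi-finite (quasi-compact with discrete fibres), separated and étale morphism. Then the natural
map from sections X(R) to points X(k) of the special fibre is bijective: for every morphism t : Spec
k → X over Spec k → Spec R there is exactly one section s : Spec R → X of X → Spec R whose
restriction to Spec k is t. -/
theorem result (R : Type u) [CommRing R]
    [HenselianLocalRing R] {X : Scheme.{u}} (f : X ⟶ Spec (CommRingCat.of R))
    [LocallyQuasiFinite f] [QuasiCompact f] [IsSeparated f] [Etale f]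
    (t : Spec (CommRingCat.of (IsLocalRing.ResidueField R)) ⟶ X)
    (ht : t ≫ f = Spec.map (CommRingCat.ofHom (IsLocalRing.residue R))) :
    ∃! s : Spec (CommRingCat.of R) ⟶ X,
      s ≫ f = 𝟙 (Spec (CommRingCat.of R)) ∧ Spec.map (CommRingCat.ofHom (IsLocalRing.residue R)) ≫ s = t := by
  obtain ⟨s, hs1, hs2⟩ := exists_section R f t ht
  refine ⟨s, ⟨hs1, hs2⟩, ?_⟩
  rintro s' ⟨hs'1, hs'2⟩
  obtain ⟨C, hC, hC1, hC2⟩ := Groth.Agent.Lib.Helper20.FEtFaith.exists_isClopen_agree
    (𝟙 (Spec (CommRingCat.of R))) f s' s hs'1 hs1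
  apply hC2
  have hmem : (IsLocalRing.closedPoint R : PrimeSpectrum R) ∈ C := by
    have h1 := hC1 (Spec.map (CommRingCat.ofHom (IsLocalRing.residue R))) (hs'2.trans hs2.symm)
    apply h1
    refine ⟨(⊥ : PrimeSpectrum (IsLocalRing.ResidueField R)), ?_⟩
    change PrimeSpectrum.comap (IsLocalRing.residue R) ⊥ = _
    exact IsLocalRing.PrimeSpectrum.comap_residue R ⊥
  ext p
  simp only [Set.mem_univ, iff_true]
  exact (IsLocalRing.specializes_closedPoint (R := R) p).mem_open hC.2 hmem

end Groth.Agent.S17448
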