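import Groth.Statements.S5062
-- import your own Groth.Agent.* helpers here
import Groth.Agent.S17448
import Groth.Agent.S0502

set_option autoImplicit false
open CategoryTheory AlgebraicGeometry
universe u
open Hensel

namespace Groth.Agent.S5062

open IsLocalRing Polynomial

theorem isSepClosed_of_ringEquiv {K K' : Type*} [Field K] [Field K'] (e : K ≃+* K')
    [IsSepClosed K] : IsSepClosed K' := by
  refine IsSepClosed.of_exists_root K' fun p hp hirr hsep => ?_
  have hsep' : (p.map (e.symm : K' →+* K)).Separable := hsep.map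
  have hdeg : (p.map (e.symm : K' →+* K)).degree ≠ 0 := by
    rw [Polynomial.degree_map]
    exact (Polynomial.degree_pos_of_irreducible hirr).ne'
  obtain ⟨x, hx⟩ := IsSepClosed.exists_root _ hdeg hsep'
  refine ⟨e x, ?_⟩
  have hx' : (p.map (e.symm : K' →+* K)).eval x = 0 := hx
  have h1 : (p.map (e.symm : K' →+* K)).eval x = (p.map (e.symm : K' →+* K)).eval (e.symm (e x)) := by
    rw [RingEquiv.symm_apply_apply]
  rw [h1] at hx'
  change (p.map (e.symm : K' →+* K)).eval ((e.symm : K' →+* K) (e x)) = 0 at hx'
  rw [Polynomial.eval_map_apply] at hx'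
  exact (map_eq_zero_iff _ e.symm.injective).mp hx'

/-- Retractions through a prescribed prime, for étale algebras over a henselian local ring with
separably closed residue field. -/
theorem exists_retraction_through_prime (A : Type u) [CommRing A] [HenselianLocalRing A]
    [IsSepClosed (ResidueField A)] (B : Type u) [CommRing B] [Algebra A B] [Algebra.Etale A B]
    (q : Ideal B) [q.IsPrime] (hq : q.comap (algebraMap A B) = maximalIdeal A) :
    ∃ τ : B →ₐ[A] A, (maximalIdeal A).comap τ.toRingHom = q := by
  have : q.LiesOver (maximalIdeal A) := ⟨hq.symm⟩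
  have : Algebra.IsUnramifiedAt A q := Algebra.FormallyUnramified.comp A B _
  letI := Localization.AtPrime.algebraOfLiesOver (maximalIdeal A) q
  have : Algebra.IsSeparable (maximalIdeal A).ResidueField q.ResidueField := inferInstance
  let e0 : ResidueField A ≃+* (maximalIdeal A).ResidueField :=
    RingEquiv.ofBijective (algebraMap (A ⧸ maximalIdeal A) (maximalIdeal A).ResidueField)
      (Ideal.bijective_algebraMap_quotient_residueField _)
  have : IsSepClosed (maximalIdeal A).ResidueField := isSepClosed_of_ringEquiv e0
  have hsurj1 : Function.Surjective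
      (algebraMap (maximalIdeal A).ResidueField q.ResidueField) :=
    IsSepClosed.algebraMap_surjective _ _
  have hsurj : Function.Surjective (algebraMap A q.ResidueField) := by
    rw [IsScalarTower.algebraMap_eq A (maximalIdeal A).ResidueField q.ResidueField]
    exact hsurj1.comp (Ideal.algebraMap_residueField_surjective _)
  have hkill : ∀ a ∈ maximalIdeal A, algebraMap A q.ResidueField a = 0 := by
    intro a ha
    rw [IsScalarTower.algebraMap_apply A B q.ResidueField, ← RingHom.mem_ker,
      Ideal.ker_algebraMap_residueField]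
    rw [← hq] at ha
    exact ha
  let c : ResidueField A →+* q.ResidueField :=
    Ideal.Quotient.lift (maximalIdeal A) (algebraMap A q.ResidueField) hkill
  have hc : Function.Bijective c := by
    refine ⟨c.injective, ?_⟩
    intro z
    obtain ⟨a, rfl⟩ := hsurj z
    exact ⟨residue A a, rfl⟩
  let e := RingEquiv.ofBijective c hc
  let σ₀ : B →ₐ[A] A ⧸ maximalIdeal A :=
    { toRingHom := (e.symm : q.ResidueField →+* ResidueField A).comp (algebraMap B q.ResidueField)
      commutes' := fun a => by
        change e.symm (algebraMap B q.ResidueField (algebraMap A B a)) = residue A a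
        rw [RingEquiv.symm_apply_eq, ← IsScalarTower.algebraMap_apply]
        rfl }
  have hker : ∀ b, σ₀ b = 0 ↔ b ∈ q := by
    intro b
    change e.symm (algebraMap B q.ResidueField b) = 0 ↔ _
    rw [map_eq_zero_iff _ e.symm.injective, ← RingHom.mem_ker, Ideal.ker_algebraMap_residueField]
  obtain ⟨τ, hτ⟩ := Groth.Agent.Lib.Helper26.HenselLift.exists_algHom_lift
    (maximalIdeal A) σ₀
  refine ⟨τ, ?_⟩
  ext b
  rw [Ideal.mem_comap, ← hker, ← hτ, Ideal.Quotient.eq_zero_iff_mem]
  rfl

/-- a) iff c): a local ring A is henselian with separably closed residue field if and only if, for every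
étale morphism f : X ⟶ Spec A and every point x of X lying over the closed point s, there is a
section u of f with u s = x. -/
theorem result (A : Type u) [CommRing A] [IsLocalRing A] :
    (HenselianLocalRing A ∧ IsSepClosed (IsLocalRing.ResidueField A)) ↔
      ∀ (X : Scheme.{u}) (f : X ⟶ Spec (CommRingCat.of A)), Etale f →
        ∀ x : X, f.base x = IsLocalRing.closedPoint A →
          ∃ u : Spec (CommRingCat.of A) ⟶ X, u ≫ f = 𝟙 _ ∧ u.base (IsLocalRing.closedPoint A) = x := by
  constructor
  · rintro ⟨hH, hS⟩ X f hf x hx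
    obtain ⟨_, ⟨V : X.Opens, hV, rfl⟩, hxV, -⟩ := X.isBasis_affineOpens.exists_subset_of_mem_open
      (Set.mem_univ x) isOpen_univ
    haveI : IsAffine V.toScheme := hV
    obtain ⟨ρ, hρ⟩ := Groth.Agent.S17448.affine_factor (V.ι ≫ f)
    have hρet : ρ.hom.Etale := by
      have h2 : Etale (Spec.map ρ) := by
        rw [show Spec.map ρ = V.toScheme.isoSpec.inv ≫ (V.ι ≫ f) by
          rw [← hρ, Iso.inv_hom_id_assoc]]
        infer_instance
      exact (HasRingHomProperty.Spec_iff (P := @Etale)).mp h2
    letI : Algebra A Γ(V.toScheme, ⊤) := ρ.hom.toAlgebra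
    haveI : Algebra.Etale A Γ(V.toScheme, ⊤) := RingHom.etale_algebraMap.mp hρet
    let x' : V.toScheme := ⟨x, hxV⟩
    let z : Spec Γ(V.toScheme, ⊤) := V.toScheme.isoSpec.hom x'
    have hz : (Spec.map ρ) z = IsLocalRing.closedPoint A := by
      change (Spec.map ρ) (V.toScheme.isoSpec.hom x') = _
      rw [← Scheme.Hom.comp_apply, hρ, Scheme.Hom.comp_apply]
      exact hx
    have hq : z.asIdeal.comap (algebraMap A Γ(V.toScheme, ⊤)) = maximalIdeal A :=
      congrArg PrimeSpectrum.asIdeal hz
    haveI : z.asIdeal.IsPrime := PrimeSpectrum.isPrime z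
    obtain ⟨τ, hτ⟩ := exists_retraction_through_prime A Γ(V.toScheme, ⊤) z.asIdeal hq
    let τc : Γ(V.toScheme, ⊤) ⟶ CommRingCat.of A := CommRingCat.ofHom τ.toRingHom
    have hτ1 : ρ ≫ τc = 𝟙 _ := by
      ext a
      exact τ.commutes a
    refine ⟨Spec.map τc ≫ V.toScheme.isoSpec.inv ≫ V.ι, ?_, ?_⟩
    · rw [Category.assoc, Category.assoc, ← hρ, Iso.inv_hom_id_assoc, ← Spec.map_comp, hτ1,
        Spec.map_id]
    · let cp : Spec (CommRingCat.of A) := IsLocalRing.closedPoint A
      have h2 : (Spec.map τc) cp = z := PrimeSpectrum.ext hτ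
      change (Spec.map τc ≫ V.toScheme.isoSpec.inv ≫ V.ι) cp = x
      rw [Scheme.Hom.comp_apply, Scheme.Hom.comp_apply, h2]
      have h3 : V.toScheme.isoSpec.inv (V.toScheme.isoSpec.hom x') = x' := by
        rw [← Scheme.Hom.comp_apply, Iso.hom_inv_id]
        rfl
      change V.ι (V.toScheme.isoSpec.inv (V.toScheme.isoSpec.hom x')) = x
      rw [h3]
      rfl
  · intro h
    have hret : ∀ (S : Type u) [CommRing S] [Algebra A S] [Algebra.Etale A S] (q : Ideal S)
        [q.IsPrime], q.comap (algebraMap A S) = maximalIdeal A → Nonempty (S →ₐ[A] A) := by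
      intro S _ _ _ q _ hq
      let f : Spec (CommRingCat.of S) ⟶ Spec (CommRingCat.of A) :=
        Spec.map (CommRingCat.ofHom (algebraMap A S))
      have hf : Etale f := (HasRingHomProperty.Spec_iff (P := @Etale)).mpr
        (RingHom.etale_algebraMap.mpr inferInstance)
      let x : Spec (CommRingCat.of S) := (⟨q, inferInstance⟩ : PrimeSpectrum S)
      have hx : f.base x = IsLocalRing.closedPoint A := PrimeSpectrum.ext hq
      obtain ⟨u, hu, -⟩ := h _ f hf x hx
      let τ := Spec.preimage u
      have hτ : Spec.map τ = u := Spec.map_preimage u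
      have h1 : CommRingCat.ofHom (algebraMap A S) ≫ τ = 𝟙 _ := by
        apply Spec.map_injective
        rw [Spec.map_comp, hτ, Spec.map_id]
        exact hu
      exact ⟨{ toRingHom := τ.hom, commutes' := fun a => congrArg (fun g => g.hom a) h1 }⟩
    constructor
    · apply Groth.Agent.S0502.result
      intro S _ _ _ q _ hlies _
      exact hret S q hlies.over.symm
    · refine IsSepClosed.of_exists_root _ fun p hp hirr hsep => ?_
      obtain ⟨P, hP, -, hPmonic⟩ := Polynomial.lifts_and_degree_eq_and_monic
        ((Polynomial.mem_lifts p).mpr (Polynomial.map_surjective _ residue_surjective p)) hp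
      let Pr : StandardEtalePair A := ⟨P, hPmonic, derivative P, ⟨1, 0, 1, by simp⟩⟩
      haveI : Fact (Irreducible p) := ⟨hirr⟩
      let L := AdjoinRoot p
      letI : Algebra A L := ((algebraMap (ResidueField A) L).comp (residue A)).toAlgebra
      have halg : ∀ a : A, algebraMap A L a = algebraMap (ResidueField A) L (residue A a) :=
        fun _ => rfl
      have haeval : ∀ Q : A[X], aeval (AdjoinRoot.root p) Q =
          aeval (AdjoinRoot.root p) (Q.map (residue A)) := by
        intro Q
        rw [aeval_def, aeval_def, eval₂_map]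
        rfl
      have hmap : Pr.HasMap (AdjoinRoot.root p) := by
        refine ⟨?_, ?_⟩
        · change aeval (AdjoinRoot.root p) P = 0
          rw [haeval, hP, AdjoinRoot.aeval_eq, AdjoinRoot.mk_self]
        · change IsUnit (aeval (AdjoinRoot.root p) (derivative P))
          rw [haeval, ← derivative_map, hP]
          obtain ⟨a, b, hab⟩ := hsep
          have h2 := congrArg (aeval (AdjoinRoot.root p)) hab
          rw [map_add, map_mul, map_mul, map_one, AdjoinRoot.aeval_eq p, AdjoinRoot.mk_self,
            mul_zero, zero_add] at h2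
          exact IsUnit.of_mul_eq_one _ (by rw [mul_comm]; exact h2)
      let φ : Pr.Ring →ₐ[A] L := Pr.lift (AdjoinRoot.root p) hmap
      let q : Ideal Pr.Ring := RingHom.ker φ.toRingHom
      haveI : q.IsPrime := RingHom.ker_isPrime _
      have hq : q.comap (algebraMap A Pr.Ring) = maximalIdeal A := by
        ext a
        rw [Ideal.mem_comap, RingHom.mem_ker, ← residue_eq_zero_iff]
        change φ (algebraMap A Pr.Ring a) = 0 ↔ _
        rw [AlgHom.commutes, halg, map_eq_zero_iff _ (algebraMap (ResidueField A) L).injective]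
      obtain ⟨τ⟩ := hret Pr.Ring q hq
      have hτ : Pr.HasMap (τ Pr.X) := Pr.hasMap_X.map τ
      refine ⟨residue A (τ Pr.X), ?_⟩
      have h3 : aeval (τ Pr.X) P = 0 := hτ.1
      rw [coe_aeval_eq_eval] at h3
      rw [← hP, Polynomial.eval_map, Polynomial.eval₂_at_apply, h3, map_zero]

end Groth.Agent.S5062
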