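import Groth.Statements.S16597
import Mathlib

set_option autoImplicit false
universe u v
open LGRing

namespace Groth.Agent.S16597

open MvPolynomial TensorProduct

lemma of_fintype {R : Type u} [CommRing R] (hR : LGRing.IsLGRing R) {σ : Type} [Fintype σ]
    (f : MvPolynomial σ R)
    (h : ∀ (m : Ideal R) [m.IsMaximal], LGRing.RepresentsUnit f (R ⧸ m)) :
    LGRing.RepresentsUnit f R := by
  classical
  let e := Fintype.equivFin σ
  have h' : ∀ (m : Ideal R) [m.IsMaximal], LGRing.RepresentsUnit (rename e f) (R ⧸ m) := by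
    intro m hm
    obtain ⟨s, hs⟩ := h m
    refine ⟨s ∘ e.symm, ?_⟩
    rw [aeval_rename]
    have : (s ∘ e.symm) ∘ e = s := by ext; simp
    rwa [this]
  obtain ⟨s, hs⟩ := hR _ _ h'
  refine ⟨s ∘ e, ?_⟩
  rwa [aeval_rename] at hs

lemma field_step {k : Type*} [Field k] {V : Type*} [AddCommGroup V] [Module k V]
    [Module.Finite k V] {n d : ℕ}
    (hd : Module.finrank k V = d) (g : Fin n → V) (lam : Fin n → (V →ₗ[k] k))
    (hrec : ∀ v, v = ∑ l, lam l v • g l) :
    ∃ (x y : Fin d → Fin n → k),
      Matrix.det (Matrix.of fun a b => ∑ l, ∑ j, y a l * lam l (g j) * x b j) ≠ 0 := by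
  classical
  let w : Module.Basis (Fin d) k V := Module.finBasisOfFinrankEq k V hd
  refine ⟨fun b j => lam j (w b), fun a l => w.coord a (g l), ?_⟩
  have : (Matrix.of fun a b => ∑ l, ∑ j, w.coord a (g l) * lam l (g j) * lam j (w b)) =
      (1 : Matrix (Fin d) (Fin d) k) := by
    ext a b
    rw [Matrix.of_apply]
    have h1 : ∀ l, ∑ j, w.coord a (g l) * lam l (g j) * lam j (w b) =
        w.coord a (g l) * lam l (w b) := by
      intro l
      conv_rhs => rw [hrec (w b)]
      rw [map_sum, Finset.mul_sum]
      refine Finset.sum_congr rfl fun j _ => ?_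
      rw [map_smul, smul_eq_mul]; ring
    simp_rw [h1]
    have h2 : ∑ l, w.coord a (g l) * lam l (w b) = w.coord a (w b) := by
      conv_rhs => rw [hrec (w b)]
      rw [map_sum]
      refine Finset.sum_congr rfl fun l _ => ?_
      rw [map_smul, smul_eq_mul]; ring
    rw [h2, Module.Basis.coord_apply, Module.Basis.repr_self, Finsupp.single_apply, Matrix.one_apply]
    simp only [eq_comm]
  rw [this, Matrix.det_one]
  exact one_ne_zero


lemma res_step {R : Type u} [CommRing R] {M : Type v} [AddCommGroup M] [Module R M] {n d : ℕ}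
    [Module.Finite R M]
    (i : M →ₗ[R] (Fin n → R)) (g : Fin n → M) (hrec : ∀ m : M, m = ∑ l, i m l • g l)
    (S : Type u) [Field S] [Algebra R S]
    (hfr : Module.finrank S (S ⊗[R] M) = d) :
    ∃ (x y : Fin d → Fin n → S),
      Matrix.det (Matrix.of fun a b =>
        ∑ l, ∑ j, y a l * algebraMap R S (i (g j) l) * x b j) ≠ 0 := by
  classical
  let gS : Fin n → S ⊗[R] M := fun l => (1 : S) ⊗ₜ[R] g l
  let lam : Fin n → (S ⊗[R] M →ₗ[S] S) := fun l =>
    (TensorProduct.AlgebraTensorModule.rid R S S).toLinearMap ∘ₗ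
      (LinearMap.baseChange S ((LinearMap.proj l : (Fin n → R) →ₗ[R] R) ∘ₗ i))
  have hlam : ∀ l (s : S) (x : M), lam l (s ⊗ₜ[R] x) = (i x l) • s := by
    intro l s x
    show (TensorProduct.AlgebraTensorModule.rid R S S)
      ((LinearMap.baseChange S ((LinearMap.proj l : (Fin n → R) →ₗ[R] R) ∘ₗ i))
        (s ⊗ₜ[R] x)) = _
    rw [LinearMap.baseChange_tmul, TensorProduct.AlgebraTensorModule.rid_tmul]
    rfl
  have hrecS : ∀ v : S ⊗[R] M, v = ∑ l, lam l v • gS l := by
    intro v
    induction v using TensorProduct.induction_on with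
    | zero => simp
    | tmul s x =>
      simp_rw [hlam, gS, TensorProduct.smul_tmul', smul_eq_mul, mul_one]
      conv_lhs => rw [hrec x, TensorProduct.tmul_sum]
      refine Finset.sum_congr rfl fun l _ => ?_
      rw [TensorProduct.tmul_smul, TensorProduct.smul_tmul']
    | add a b ha hb =>
      conv_lhs => rw [ha, hb]
      rw [← Finset.sum_add_distrib]
      refine Finset.sum_congr rfl fun l _ => ?_
      rw [map_add, add_smul]
  obtain ⟨x, y, hxy⟩ := field_step hfr gS lam hrecS
  refine ⟨x, y, ?_⟩
  convert hxy using 9 with a b l _ k _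
  rw [hlam, Algebra.smul_def, mul_one]

/-- Let R be an LG-ring and M a finite locally free (finitely generated projective) R-module of constant
rank. Then M is free. In particular invertible R-modules are trivial: Pic(R) = 0. -/
theorem result {R : Type u} [CommRing R] (hR : LGRing.IsLGRing R)
    (M : Type v) [AddCommGroup M] [Module R M] [Module.Finite R M] [Module.Projective R M] (d : ℕ)
    (hd : ∀ p : PrimeSpectrum R, Module.rankAtStalk M p = d) : Module.Free R M := by
  classical
  obtain ⟨n, p, i, hp, hi, hpi⟩ := Module.Finite.exists_comp_eq_id_of_projective R M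
  let g : Fin n → M := fun k => p (Pi.single k 1)
  have hrec : ∀ m : M, m = ∑ l, i m l • g l := by
    intro m
    have h1 : p (i m) = m := by
      have := congrArg (fun f => f m) hpi
      simpa using this
    calc m = p (i m) := h1.symm
      _ = _ := LinearMap.pi_apply_eq_sum_univ p (i m)
      _ = ∑ l, i m l • g l := by
        refine Finset.sum_congr rfl fun l _ => ?_
        congr 2
        ext j
        simp [Pi.single_apply, eq_comm]
  let E : Fin n → Fin n → R := fun l k => i (g k) l
  let σ := (Fin d × Fin n) ⊕ (Fin d × Fin n)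
  let F : MvPolynomial σ R := Matrix.det (Matrix.of fun a b =>
    ∑ l, ∑ k, (X (Sum.inr (a, l)) : MvPolynomial σ R) * C (E l k) * X (Sum.inl (b, k)))
  have haeval : ∀ {S : Type u} [CommRing S] [Algebra R S] (s : σ → S), aeval s F =
      Matrix.det (Matrix.of fun a b =>
        ∑ l, ∑ k, s (Sum.inr (a, l)) * algebraMap R S (E l k) * s (Sum.inl (b, k))) := by
    intro S _ _ s
    simp only [F]
    rw [AlgHom.map_det]
    congr 1
    ext a b
    simp [AlgHom.mapMatrix_apply, Matrix.map_apply, Matrix.of_apply, map_sum, map_mul, aeval_X]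
  -- residue fields
  have hres : ∀ (m : Ideal R) [m.IsMaximal], LGRing.RepresentsUnit F (R ⧸ m) := by
    intro m hm
    let _ := Ideal.Quotient.field m
    have hfr : Module.finrank (R ⧸ m) ((R ⧸ m) ⊗[R] M) = d := by
      have h1 := Module.rankAtStalk_baseChange (R := R) (M := M) (S := R ⧸ m)
        (⊥ : PrimeSpectrum (R ⧸ m))
      rw [hd] at h1
      have h2 := congrFun (Module.rankAtStalk_eq_finrank_of_free (R := R ⧸ m)
        (M := (R ⧸ m) ⊗[R] M)) (⊥ : PrimeSpectrum (R ⧸ m))
      rw [h1] at h2
      exact h2.symm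
    obtain ⟨x, y, hxy⟩ := res_step i g hrec (R ⧸ m) hfr
    refine ⟨Sum.elim (fun bk => x bk.1 bk.2) (fun al => y al.1 al.2), ?_⟩
    rw [haeval]
    exact IsUnit.mk0 _ hxy
  obtain ⟨s, hs⟩ := of_fintype hR F hres
  rw [haeval] at hs
  set N : Matrix (Fin d) (Fin d) R := Matrix.of fun a b =>
    ∑ l, ∑ k, s (Sum.inr (a, l)) * algebraMap R R (E l k) * s (Sum.inl (b, k)) with hN
  let aM : (Fin d → R) →ₗ[R] M :=
    Fintype.linearCombination R (fun b => ∑ j, s (Sum.inl (b, j)) • g j)
  let bM : M →ₗ[R] (Fin d → R) := LinearMap.pi (fun a =>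
    ∑ l, s (Sum.inr (a, l)) • ((LinearMap.proj l : (Fin n → R) →ₗ[R] R) ∘ₗ i))
  have hba : ∀ c, bM (aM c) = N.mulVec c := by
    intro c
    ext a
    have h1 : bM (aM c) a = ∑ b, ∑ j, ∑ l,
        c b * (s (Sum.inl (b, j)) * (s (Sum.inr (a, l)) * E l j)) := by
      simp only [bM, aM, LinearMap.pi_apply, LinearMap.sum_apply, LinearMap.smul_apply,
        LinearMap.comp_apply, LinearMap.proj_apply, Fintype.linearCombination_apply, map_sum,
        map_smul, smul_eq_mul, Finset.mul_sum, E]
    have h2 : (N.mulVec c) a = ∑ b, ∑ l, ∑ j,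
        s (Sum.inr (a, l)) * (c b * (s (Sum.inl (b, j)) * E l j)) := by
      simp only [Matrix.mulVec, dotProduct, hN, Matrix.of_apply, Finset.sum_mul,
        Algebra.algebraMap_self, RingHom.id_apply]
      refine Finset.sum_congr rfl fun b _ => Finset.sum_congr rfl fun l _ =>
        Finset.sum_congr rfl fun j _ => ?_
      ring
    rw [h1, h2]
    refine Finset.sum_congr rfl fun b _ => ?_
    rw [Finset.sum_comm]
    refine Finset.sum_congr rfl fun l _ => Finset.sum_congr rfl fun j _ => ?_
    ring
  let cM : M →ₗ[R] (Fin d → R) := (N⁻¹).mulVecLin ∘ₗ bM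
  have hca : ∀ c, cM (aM c) = c := by
    intro c
    show (N⁻¹).mulVec (bM (aM c)) = c
    rw [hba, Matrix.mulVec_mulVec, Matrix.nonsing_inv_mul N hs, Matrix.one_mulVec]
  clear_value cM aM
  let K := LinearMap.ker cM
  let π : M →ₗ[R] K := (LinearMap.id - aM ∘ₗ cM).codRestrict K (by
    intro m
    rw [LinearMap.mem_ker, LinearMap.sub_apply, map_sub, LinearMap.comp_apply, hca]
    simp)
  have hπK : ∀ k : K, π k = k := by
    intro k
    apply Subtype.ext
    have hk : cM (k : M) = 0 := k.2
    simp [π, hk]
  have hπsurj : Function.Surjective π := fun k => ⟨k, hπK k⟩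
  have : Module.Finite R K := Module.Finite.of_surjective π hπsurj
  have : Module.Projective R K :=
    Module.Projective.of_split K.subtype π (LinearMap.ext fun k => hπK k)
  let e : M ≃ₗ[R] (Fin d → R) × K :=
    LinearEquiv.ofLinearMap (cM.prod π) (aM.coprod K.subtype)
      (by
        apply LinearMap.ext
        rintro ⟨c, k⟩
        have hk : cM (k : M) = 0 := k.2
        apply Prod.ext
        · simp [hca, hk]
        · apply Subtype.ext
          simp [π, hca, hk])
      (by
        apply LinearMap.ext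
        intro m
        simp [π])
  have hK0 : Module.rankAtStalk (R := R) K = 0 := by
    funext q
    have : Nontrivial R := q.nontrivial
    have h1 := congrFun (Module.rankAtStalk_eq_of_equiv e) q
    rw [Module.rankAtStalk_prod, Pi.add_apply, hd q, Module.rankAtStalk_eq_finrank_of_free,
      Pi.natCast_apply] at h1
    simp at h1
    simpa using h1
  have : Subsingleton K := Module.rankAtStalk_eq_zero_iff_subsingleton.mp hK0
  have hsurj : Function.Surjective aM := by
    intro m
    refine ⟨cM m, ?_⟩
    have h0 : π m = 0 := Subsingleton.elim _ _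
    have h1 : ((π m : K) : M) = m - aM (cM m) := by simp [π]
    rw [h0] at h1
    have h2 : m - aM (cM m) = 0 := h1.symm
    exact (sub_eq_zero.mp h2).symm
  have hinj : Function.Injective aM := by
    intro c c' h
    rw [← hca c, ← hca c', h]
  exact Module.Free.of_equiv (LinearEquiv.ofBijective aM ⟨hinj, hsurj⟩)

end Groth.Agent.S16597
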