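import Mathlib
import Groth.Statements.S11003
import Groth.Agent.Lib.Helper12SepGen

set_option autoImplicit false
set_option linter.style.haveILetI false
universe u v
open FunFld

namespace Groth.Agent.S11003

section aux

open TensorProduct KaehlerDifferential

variable (k : Type u) (K : Type v) [Field k] [Field K] [Algebra k K]

/-- geometric ⇒ geometrically reduced -/
theorem isGeometricallyReduced_of_isGeometric (hg : FunFld.IsGeometric k K) :
    Algebra.IsGeometricallyReduced k K := by
  rw [Algebra.isGeometricallyReduced_field_iff]
  have h1 : IsReduced (K ⊗[k] AlgebraicClosure k) := by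
    refine IsReduced.tensorProduct_of_flat_of_forall_fg (fun B' hB' => ?_)
    have hfield : IsField B' := Subalgebra.isField_of_algebraic B'
    let F := B'.toIntermediateField' hfield
    have hF : F.toSubalgebra = B' := toSubalgebra_toIntermediateField' B' hfield
    haveI : Algebra.FiniteType k B' := (Subalgebra.fg_iff_finiteType B').1 hB'
    haveI : Algebra.IsIntegral k B' :=
      Algebra.IsIntegral.of_injective B'.val Subtype.val_injective
    haveI : Module.Finite k B' := Algebra.IsIntegral.finite
    haveI : Module.Finite k F :=
      Module.Finite.equiv (Subalgebra.equivOfEq _ _ hF.symm).toLinearEquiv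
    have hfld : IsField (F ⊗[k] K) := hg F inferInstance
    letI : Field (F ⊗[k] K) := hfld.toField
    haveI : IsReduced (F ⊗[k] K) := inferInstance
    let e' : K ⊗[k] B' ≃ₐ[k] F ⊗[k] K :=
      (Algebra.TensorProduct.congr AlgEquiv.refl (Subalgebra.equivOfEq _ _ hF.symm)).trans
        (Algebra.TensorProduct.comm _ _ _)
    exact isReduced_of_injective e' e'.injective
  exact isReduced_of_injective (Algebra.TensorProduct.comm k (AlgebraicClosure k) K)
    (AlgEquiv.injective _)

variable {k K}

theorem essFiniteType_of_finite_adjoin (x : K)
    [FiniteDimensional (IntermediateField.adjoin k ({x} : Set K)) K] :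
    Algebra.EssFiniteType k K := by
  haveI : Algebra.EssFiniteType k (IntermediateField.adjoin k ({x} : Set K)) := by
    rw [IntermediateField.essFiniteType_iff]
    have := IntermediateField.fg_adjoin_finset (F := k) ({x} : Finset K)
    simpa using this
  exact Algebra.EssFiniteType.comp k (IntermediateField.adjoin k ({x} : Set K)) K

open scoped IntermediateField.algebraAdjoinAdjoin in
theorem isTranscendenceBasis_const {x : K} (hx : Transcendental k x)
    [FiniteDimensional (IntermediateField.adjoin k ({x} : Set K)) K] :
    IsTranscendenceBasis k (fun _ : Unit => x) := by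
  have hb : AlgebraicIndependent k (fun _ : Unit => x) :=
    algebraicIndependent_unique_type_iff.2 hx
  rw [hb.isTranscendenceBasis_iff_isAlgebraic]
  have hrange : Set.range (fun _ : Unit => x) = {x} := Set.range_const
  rw [hrange]
  haveI : Algebra.IsAlgebraic (IntermediateField.adjoin k ({x} : Set K)) K :=
    Algebra.IsAlgebraic.of_finite _ _
  exact Algebra.IsAlgebraic.trans (Algebra.adjoin k ({x} : Set K))
    (IntermediateField.adjoin k ({x} : Set K)) K

/-- if `K/k(t)` is separable algebraic then `Ω[K/k]` is spanned by `dt`. -/
theorem span_D_eq_top (t : K)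
    [Algebra.IsSeparable (IntermediateField.adjoin k ({t} : Set K)) K] :
    Submodule.span K {D k K t} = ⊤ := by
  set F := IntermediateField.adjoin k ({t} : Set K) with hFdef
  haveI : Algebra.FormallyUnramified F K := Algebra.FormallyUnramified.of_isSeparable F K
  haveI : Subsingleton (Ω[K⁄F]) := (Algebra.formallyUnramified_iff F K).1 inferInstance
  have hsurj : Function.Surjective (KaehlerDifferential.mapBaseChange k F K) := fun ω =>
    (KaehlerDifferential.exact_mapBaseChange_map k F K ω).mp (Subsingleton.elim _ _)
  have hF : ∀ y : K, y ∈ F → D k K y ∈ Submodule.span K {D k K t} := by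
    intro y hy
    induction hy using IntermediateField.adjoin_induction with
    | mem w hw => rw [Set.mem_singleton_iff.1 hw]; exact Submodule.subset_span rfl
    | algebraMap r => rw [Derivation.map_algebraMap]; exact zero_mem _
    | add a c _ _ ha hc => rw [map_add]; exact add_mem ha hc
    | inv a _ ha => rw [Derivation.leibniz_inv]; exact Submodule.smul_mem _ _ ha
    | mul a c _ _ ha hc =>
      rw [Derivation.leibniz]
      exact add_mem (Submodule.smul_mem _ _ hc) (Submodule.smul_mem _ _ ha)
  rw [eq_top_iff]
  rintro ω -
  obtain ⟨z, rfl⟩ := hsurj ω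
  induction z using TensorProduct.induction_on with
  | zero => rw [map_zero]; exact zero_mem _
  | add a b ha hb => rw [map_add]; exact add_mem ha hb
  | tmul a ω' =>
    rw [KaehlerDifferential.mapBaseChange_tmul]
    refine Submodule.smul_mem _ _ ?_
    have hω' : ω' ∈ Submodule.span F (Set.range (D k F)) := by
      rw [KaehlerDifferential.span_range_derivation]; trivial
    induction hω' using Submodule.span_induction with
    | mem w hw =>
      obtain ⟨f, rfl⟩ := hw
      rw [KaehlerDifferential.map_D]
      exact hF _ f.2
    | zero => rw [map_zero]; exact zero_mem _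
    | add a b _ _ ha hb => rw [map_add]; exact add_mem ha hb
    | smul c w _ hw =>
      rw [map_smul, ← algebraMap_smul K c]
      exact Submodule.smul_mem _ _ hw

end aux

/-- `dim_K Ω_{K/k} = 1` for a geometric function field of one variable `K/k`. -/
theorem result (k : Type u) (K : Type v) [Field k] [Field K] [Algebra k K]
    (hK : FunFld.IsFunctionField k K) (hg : FunFld.IsGeometric k K) :
    Module.finrank K (KaehlerDifferential k K) = 1 := by
  classical
  obtain ⟨⟨x, hx, hfin⟩, -⟩ := hK
  haveI := hfin
  haveI := essFiniteType_of_finite_adjoin (k := k) x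
  haveI := isGeometricallyReduced_of_isGeometric k K hg
  obtain ⟨s, hs, hsep⟩ :=
    Groth.Agent.Lib.Helper12.SepGen.exists_isTranscendenceBasis_and_isSeparable k K
  have hxb := isTranscendenceBasis_const (k := k) hx
  have hcard := hs.lift_cardinalMk_eq hxb
  have hcard1 : s.card = 1 := by
    simp only [Cardinal.mk_coe_finset, Cardinal.mk_fintype, Fintype.card_unique, Nat.cast_one,
      Cardinal.lift_one, Cardinal.lift_natCast] at hcard
    have h2 : Fintype.card ↥s = 1 := by exact_mod_cast hcard
    rwa [Fintype.card_coe] at h2
  obtain ⟨t, rfl⟩ := Finset.card_eq_one.1 hcard1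
  rw [Finset.coe_singleton] at hsep
  haveI := hsep
  have htop := span_D_eq_top (k := k) t
  have hle : Module.finrank K (KaehlerDifferential k K) ≤ 1 := by
    rw [← finrank_top K, ← htop]
    exact (finrank_span_le_card ({KaehlerDifferential.D k K t} : Set _)).trans (by simp)
  have hge : 1 ≤ Module.finrank K (KaehlerDifferential k K) := by
    by_contra hcon
    have h0 : Module.finrank K (KaehlerDifferential k K) = 0 := by omega
    haveI : Module.Finite K (KaehlerDifferential k K) := inferInstance
    haveI : Subsingleton (KaehlerDifferential k K) := Module.finrank_zero_iff.1 h0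
    haveI : Algebra.FormallyUnramified k K := (Algebra.formallyUnramified_iff k K).2 inferInstance
    haveI : Algebra.IsSeparable k K := Algebra.FormallyUnramified.isSeparable k K
    exact hx (Algebra.IsAlgebraic.isAlgebraic x)
  omega

end Groth.Agent.S11003
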