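import Groth.Statements.S15009
import Mathlib
-- import your own Groth.Agent.* helpers here

set_option autoImplicit false
set_option linter.style.haveILetI false
set_option linter.unusedSectionVars false
universe u
open TFCurv

namespace Groth.Agent.S15009

open IsLocalRing

theorem avoid {O : Type*} [CommRing O] [IsLocalRing O] [Infinite (ResidueField O)]
    {M : Type*} [AddCommGroup M] [Module O M] {ι : Type*} (s : Finset ι) (P : ι → Submodule O M)
    (hP : ∀ i ∈ s, (maximalIdeal O) • (⊤ : Submodule O M) ≤ P i)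
    (hne : ∀ i ∈ s, P i ≠ ⊤) : ∃ x : M, ∀ i ∈ s, x ∉ P i := by
  by_contra h
  push Not at h
  have hcov : ⋃ i ∈ s, (P i : Set M) = Set.univ := by
    ext x
    simp only [Set.mem_iUnion, SetLike.mem_coe, exists_prop, Set.mem_univ, iff_true]
    exact h x
  obtain ⟨i, hi, hfin⟩ := Submodule.exists_finiteIndex_of_cover hcov
  have hF : Finite (M ⧸ P i) := AddSubgroup.finite_quotient_of_finiteIndex
  obtain ⟨x, hx⟩ : ∃ x, x ∉ P i := by
    by_contra hall
    push Not at hall
    exact hne i hi (eq_top_iff.mpr fun y _ => hall y)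
  let f : O →ₗ[O] M ⧸ P i := (P i).mkQ ∘ₗ (LinearMap.toSpanSingleton O M x)
  have hfr : ∀ r : O, f r = (P i).mkQ (r • x) := fun r => rfl
  have hker : (maximalIdeal O : Submodule O O) = LinearMap.ker f := by
    have hle : (maximalIdeal O : Submodule O O) ≤ LinearMap.ker f := by
      intro r hr
      rw [LinearMap.mem_ker, hfr, Submodule.mkQ_apply, Submodule.Quotient.mk_eq_zero]
      exact hP i hi (Submodule.smul_mem_smul hr Submodule.mem_top)
    have hne1 : (LinearMap.ker f : Ideal O) ≠ ⊤ := by
      intro htop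
      have h1 : (1 : O) ∈ LinearMap.ker f := by rw [htop]; trivial
      rw [LinearMap.mem_ker, hfr, one_smul, Submodule.mkQ_apply,
        Submodule.Quotient.mk_eq_zero] at h1
      exact hx h1
    exact ((maximalIdeal.isMaximal O).eq_of_le hne1 hle)
  let g : (O ⧸ (maximalIdeal O : Submodule O O)) →ₗ[O] M ⧸ P i :=
    Submodule.liftQ _ f hker.le
  have hg : Function.Injective g := by
    rw [← LinearMap.ker_eq_bot]
    exact Submodule.ker_liftQ_eq_bot' _ f hker
  have hI : Infinite (O ⧸ (maximalIdeal O : Submodule O O)) :=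
    inferInstanceAs (Infinite (ResidueField O))
  have : Infinite (M ⧸ P i) := Infinite.of_injective g hg
  exact not_finite (M ⧸ P i)

section Core

variable {O T : Type*} [CommRing O] [IsLocalRing O] [Infinite (ResidueField O)] [CommRing T]
  [Algebra O T]

/-- reduction mod a maximal ideal, coordinatewise -/
noncomputable def red (n : ℕ) (I : Ideal T) : (Fin n → T) →ₗ[T] (Fin n → T ⧸ I) :=
  (Submodule.mkQ I).compLeft (Fin n)

theorem red_apply (n : ℕ) (I : Ideal T) (v : Fin n → T) (a : Fin n) :
    red n I v a = Ideal.Quotient.mk I (v a) := rfl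

theorem red_smul (n : ℕ) (I : Ideal T) (t : T) (v : Fin n → T) :
    red n I (t • v) = (Ideal.Quotient.mk I t) • red n I v := by
  ext a
  rw [red_apply, Pi.smul_apply, Pi.smul_apply, red_apply, smul_eq_mul, smul_eq_mul, map_mul]

theorem red_surjective (n : ℕ) (I : Ideal T) : Function.Surjective (red n I (T := T)) := by
  intro w
  choose v hv using fun a => Ideal.Quotient.mk_surjective (w a)
  exact ⟨v, funext fun a => by rw [red_apply, hv]⟩

theorem core_step [Finite (MaximalSpectrum T)]
    (hlie : ∀ 𝔫 : MaximalSpectrum T, ∀ r ∈ maximalIdeal O, algebraMap O T r ∈ 𝔫.asIdeal)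
    (n : ℕ) (M₀ : Submodule O (Fin n → T))
    (hspan : Submodule.span T (M₀ : Set (Fin n → T)) = ⊤) (j : ℕ) (hj : j < n)
    (x : Fin j → (Fin n → T)) (_hx : ∀ a, x a ∈ M₀)
    (hli : ∀ 𝔫 : MaximalSpectrum T,
      LinearIndependent (T ⧸ 𝔫.asIdeal) (fun a => red n 𝔫.asIdeal (x a))) :
    ∃ m ∈ M₀, ∀ 𝔫 : MaximalSpectrum T,
      LinearIndependent (T ⧸ 𝔫.asIdeal)
        (fun a => red n 𝔫.asIdeal ((Fin.snoc x m : Fin (j + 1) → (Fin n → T)) a)) := by
  classical
  haveI : Fintype (MaximalSpectrum T) := Fintype.ofFinite _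
  -- the bad submodules
  let U : ∀ 𝔫 : MaximalSpectrum T, Submodule (T ⧸ 𝔫.asIdeal) (Fin n → T ⧸ 𝔫.asIdeal) :=
    fun 𝔫 => Submodule.span (T ⧸ 𝔫.asIdeal) (Set.range (fun a => red n 𝔫.asIdeal (x a)))
  have hredO : ∀ (𝔫 : MaximalSpectrum T) (r : O) (v : Fin n → T),
      red n 𝔫.asIdeal (r • v) = (Ideal.Quotient.mk 𝔫.asIdeal (algebraMap O T r)) •
        red n 𝔫.asIdeal v := by
    intro 𝔫 r v
    rw [← red_smul, algebraMap_smul]
  let P : MaximalSpectrum T → Submodule O M₀ := fun 𝔫 =>
    { carrier := {m | red n 𝔫.asIdeal m.1 ∈ U 𝔫}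
      add_mem' := by
        intro a b ha hb
        simp only [Set.mem_ofPred_eq, Submodule.coe_add, map_add] at ha hb ⊢
        exact (U 𝔫).add_mem ha hb
      zero_mem' := by
        simp only [Set.mem_ofPred_eq, ZeroMemClass.coe_zero, map_zero]
        exact (U 𝔫).zero_mem
      smul_mem' := by
        intro r a ha
        simp only [Set.mem_ofPred_eq, Submodule.coe_smul] at ha ⊢
        rw [hredO]
        exact (U 𝔫).smul_mem _ ha }
  have hPmem : ∀ (𝔫 : MaximalSpectrum T) (m : M₀), m ∈ P 𝔫 ↔ red n 𝔫.asIdeal m.1 ∈ U 𝔫 :=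
    fun 𝔫 m => Iff.rfl
  have hP : ∀ 𝔫 ∈ (Finset.univ : Finset (MaximalSpectrum T)),
      (maximalIdeal O) • (⊤ : Submodule O M₀) ≤ P 𝔫 := by
    intro 𝔫 _
    rw [Submodule.smul_le]
    intro r hr m _
    rw [hPmem, Submodule.coe_smul, hredO, Ideal.Quotient.eq_zero_iff_mem.mpr (hlie 𝔫 r hr),
      zero_smul]
    exact (U 𝔫).zero_mem
  have hne : ∀ 𝔫 ∈ (Finset.univ : Finset (MaximalSpectrum T)), P 𝔫 ≠ ⊤ := by
    intro 𝔫 _ htop
    haveI := 𝔫.isMaximal
    letI : Field (T ⧸ 𝔫.asIdeal) := Ideal.Quotient.field 𝔫.asIdeal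
    -- all of `span T M₀ = ⊤` reduces into `U 𝔫`
    have hall : ∀ v : Fin n → T, red n 𝔫.asIdeal v ∈ U 𝔫 := by
      intro v
      have hv : v ∈ Submodule.span T (M₀ : Set (Fin n → T)) := by rw [hspan]; trivial
      refine Submodule.span_induction ?_ ?_ ?_ ?_ hv
      · intro m hm
        have : (⟨m, hm⟩ : M₀) ∈ P 𝔫 := by rw [htop]; trivial
        exact (hPmem 𝔫 ⟨m, hm⟩).mp this
      · rw [map_zero]; exact (U 𝔫).zero_mem
      · intro a b _ _ ha hb
        rw [map_add]; exact (U 𝔫).add_mem ha hb
      · intro t a _ ha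
        rw [red_smul]; exact (U 𝔫).smul_mem _ ha
    have hUtop : U 𝔫 = ⊤ := by
      rw [eq_top_iff]
      intro w _
      obtain ⟨v, rfl⟩ := red_surjective n 𝔫.asIdeal w
      exact hall v
    have h1 : Module.finrank (T ⧸ 𝔫.asIdeal) (U 𝔫) ≤ j := by
      have := finrank_range_le_card (R := T ⧸ 𝔫.asIdeal) (fun a => red n 𝔫.asIdeal (x a))
      rw [Fintype.card_fin] at this
      exact this
    rw [hUtop, finrank_top, Module.finrank_fin_fun] at h1
    omega
  obtain ⟨m, hm⟩ := avoid Finset.univ P hP hne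
  refine ⟨m.1, m.2, ?_⟩
  intro 𝔫
  haveI := 𝔫.isMaximal
  letI : Field (T ⧸ 𝔫.asIdeal) := Ideal.Quotient.field 𝔫.asIdeal
  have hcomp : (fun a => red n 𝔫.asIdeal ((Fin.snoc x m.1 : Fin (j + 1) → (Fin n → T)) a)) =
      (Fin.snoc (fun a => red n 𝔫.asIdeal (x a)) (red n 𝔫.asIdeal m.1) :
        Fin (j + 1) → (Fin n → T ⧸ 𝔫.asIdeal)) := by
    have := Fin.comp_snoc (red n 𝔫.asIdeal) x m.1
    exact this
  rw [hcomp]
  refine LinearIndependent.finSnoc (hli 𝔫) ?_
  intro hmem
  exact hm 𝔫 (Finset.mem_univ _) ((hPmem 𝔫 m).mpr hmem)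

theorem core [Finite (MaximalSpectrum T)]
    (hlie : ∀ 𝔫 : MaximalSpectrum T, ∀ r ∈ maximalIdeal O, algebraMap O T r ∈ 𝔫.asIdeal)
    (n : ℕ) (M₀ : Submodule O (Fin n → T))
    (hspan : Submodule.span T (M₀ : Set (Fin n → T)) = ⊤) :
    ∃ x : Fin n → (Fin n → T), (∀ j, x j ∈ M₀) ∧ IsUnit (Matrix.of x).det := by
  -- inductive construction
  have hind : ∀ j : ℕ, j ≤ n → ∃ x : Fin j → (Fin n → T), (∀ a, x a ∈ M₀) ∧
      ∀ 𝔫 : MaximalSpectrum T,
        LinearIndependent (T ⧸ 𝔫.asIdeal) (fun a => red n 𝔫.asIdeal (x a)) := by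
    intro j
    induction j with
    | zero =>
      intro _
      exact ⟨Fin.elim0, fun a => a.elim0, fun 𝔫 => linearIndependent_empty_type⟩
    | succ j ih =>
      intro hj
      obtain ⟨x, hx, hli⟩ := ih (by omega)
      obtain ⟨m, hm, hli'⟩ := core_step hlie n M₀ hspan j (by omega) x hx hli
      refine ⟨Fin.snoc x m, ?_, hli'⟩
      intro a
      refine Fin.lastCases ?_ (fun i => ?_) a
      · rw [Fin.snoc_last]; exact hm
      · rw [Fin.snoc_castSucc]; exact hx i
  obtain ⟨x, hx, hli⟩ := hind n le_rfl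
  refine ⟨x, hx, ?_⟩
  by_contra hnu
  obtain ⟨I, hI, hdet⟩ := exists_max_ideal_of_mem_nonunits (mem_nonunits_iff.mpr hnu)
  let 𝔫 : MaximalSpectrum T := ⟨I, hI⟩
  letI : Field (T ⧸ I) := Ideal.Quotient.field I
  have h1 := hli 𝔫
  have h2 : IsUnit ((Matrix.of x).map (Ideal.Quotient.mk I)) := by
    rw [← Matrix.linearIndependent_rows_iff_isUnit]
    exact h1
  rw [Matrix.isUnit_iff_isUnit_det] at h2
  have h3 : ((Matrix.of x).map (Ideal.Quotient.mk I)).det =
      Ideal.Quotient.mk I (Matrix.of x).det := by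
    rw [RingHom.map_det]
    rfl
  rw [h3, Ideal.Quotient.eq_zero_iff_mem.mpr hdet] at h2
  exact not_isUnit_zero h2

end Core

section Abstract

open TensorProduct

variable {O : Type u} [CommRing O] [IsDomain O] [IsLocalRing O] [Infinite (ResidueField O)]
    (K : Type u) [Field K] [Algebra O K] [IsFractionRing O K]
    (T : Type u) [CommRing T] [IsDomain T] [IsPrincipalIdealRing T] [Algebra O T] [Algebra T K]
    [IsScalarTower O T K] [IsFractionRing T K] [Finite (MaximalSpectrum T)]
    (M : Type u) [AddCommGroup M] [Module O M] [Module.Finite O M] [NoZeroSMulDivisors O M]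

/-- `M → K ⊗ M` is injective for torsion-free `M` -/
theorem mk_one_injective : Function.Injective (TensorProduct.mk O K M 1) := by
  haveI : IsLocalizedModule (nonZeroDivisors O) (TensorProduct.mk O K M 1) :=
    (isLocalizedModule_iff_isBaseChange (nonZeroDivisors O) K _).mpr
      (TensorProduct.isBaseChange O M K)
  intro a b hab
  rw [IsLocalizedModule.eq_iff_exists (nonZeroDivisors O)] at hab
  obtain ⟨c, hc⟩ := hab
  have hc0 : (c : O) ≠ 0 := nonZeroDivisors.ne_zero c.2
  exact smul_right_injective M hc0 hc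

/-- Step 1-4: coordinates in `T^n` -/
theorem exists_coords (n : ℕ) (hn : Module.finrank K (K ⊗[O] M) = n) :
    ∃ c : M →ₗ[O] (Fin n → T), Function.Injective c ∧
      Submodule.span T (LinearMap.range c : Set (Fin n → T)) = ⊤ := by
  classical
  let V := K ⊗[O] M
  let b : Module.Basis (Fin n) K V := Module.finBasisOfFinrankEq K V hn
  let ι : M →ₗ[O] V := TensorProduct.mk O K M 1
  have hι : Function.Injective ι := mk_one_injective K M
  let c₀ : M →ₗ[O] (Fin n → K) := (b.equivFun.restrictScalars O).toLinearMap ∘ₗ ι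
  have hc₀ : Function.Injective c₀ := by
    intro x y hxy
    apply hι
    exact (b.equivFun.restrictScalars O).injective hxy
  -- `K`-span of the image is everything
  have hspanK : Submodule.span K (Set.range c₀) = ⊤ := by
    have h1 : Submodule.span K (Set.range ι) = ⊤ := by
      rw [eq_top_iff]
      intro v hvtop
      clear hvtop
      induction v using TensorProduct.induction_on with
      | zero => exact Submodule.zero_mem _
      | tmul a m =>
        have : a ⊗ₜ[O] m = a • ι m := by
          show a ⊗ₜ[O] m = a • ((1 : K) ⊗ₜ[O] m)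
          rw [TensorProduct.smul_tmul', smul_eq_mul, mul_one]
        rw [this]
        exact Submodule.smul_mem _ _ (Submodule.subset_span ⟨m, rfl⟩)
      | add v w hv hw => exact Submodule.add_mem _ hv hw
    have h2 : Set.range c₀ = b.equivFun '' (Set.range ι) := by
      ext v
      constructor
      · rintro ⟨m, rfl⟩
        exact ⟨ι m, ⟨m, rfl⟩, rfl⟩
      · rintro ⟨_, ⟨m, rfl⟩, rfl⟩
        exact ⟨m, rfl⟩
    rw [h2, ← LinearEquiv.coe_coe, ← Submodule.map_span, h1, Submodule.map_top,
      LinearEquiv.range]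
  -- the `T`-lattice
  let N : Submodule T (Fin n → K) := Submodule.span T (Set.range c₀)
  haveI : Module.Finite T N := by
    obtain ⟨S, hS⟩ := (Module.Finite.fg_top : (⊤ : Submodule O M).FG)
    have hr : (LinearMap.range c₀ : Set (Fin n → K)) = Set.range c₀ := LinearMap.coe_range c₀
    have : N = Submodule.span T (c₀ '' (S : Set M)) := by
      show Submodule.span T (Set.range c₀) = _
      rw [← hr, LinearMap.range_eq_map, ← hS, Submodule.map_span,
        Submodule.span_span_of_tower]
    rw [this]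
    exact Module.Finite.span_of_finite T (S.finite_toSet.image c₀)
  haveI : Module.IsTorsionFree T N :=
    Function.Injective.moduleIsTorsionFree N.subtype N.injective_subtype (fun _ _ => rfl)
  obtain ⟨n', y⟩ := Module.basisOfFiniteTypeTorsionFree' (R := T) (M := N)
  -- `y` is a `K`-basis of `K^n`
  have hyli : LinearIndependent K (fun i => (y i : Fin n → K)) := by
    rw [← LinearIndependent.iff_fractionRing T K]
    exact y.linearIndependent.map' N.subtype (Submodule.ker_subtype N)
  have hysp : ⊤ ≤ Submodule.span K (Set.range (fun i => (y i : Fin n → K))) := by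
    rw [← hspanK, Submodule.span_le]
    rintro _ ⟨m, rfl⟩
    have hm : c₀ m ∈ N := Submodule.subset_span ⟨m, rfl⟩
    have hrep := y.sum_repr ⟨c₀ m, hm⟩
    have hrep' : c₀ m = ∑ i, (y.repr ⟨c₀ m, hm⟩ i) • (y i : Fin n → K) := by
      have := congrArg (fun w : N => (w : Fin n → K)) hrep
      simp only [Submodule.coe_sum, Submodule.coe_smul] at this
      exact this.symm
    rw [hrep']
    refine Submodule.sum_mem _ (fun i _ => ?_)
    rw [← algebraMap_smul K (y.repr ⟨c₀ m, hm⟩ i) (y i : Fin n → K)]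
    exact Submodule.smul_mem _ _ (Submodule.subset_span ⟨i, rfl⟩)
  have hcard : n' = n := by
    have h1 := Module.finrank_eq_card_basis (Module.Basis.mk hyli hysp)
    rw [Module.finrank_fin_fun, Fintype.card_fin] at h1
    exact h1.symm
  subst hcard
  let e : N ≃ₗ[T] (Fin n' → T) := y.equivFun
  let c₁ : M →ₗ[O] (Fin n' → T) :=
    (e.restrictScalars O).toLinearMap ∘ₗ
      (c₀.codRestrict (N.restrictScalars O) (fun m => Submodule.subset_span ⟨m, rfl⟩))
  refine ⟨c₁, ?_, ?_⟩
  · intro a a' haa
    apply hc₀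
    have := (e.restrictScalars O).injective haa
    exact congrArg Subtype.val this
  · -- span
    rw [eq_top_iff]
    intro w _
    obtain ⟨z, rfl⟩ := e.surjective w
    have hz : (z : Fin n' → K) ∈ Submodule.span T (Set.range c₀) := z.2
    -- induction on membership
    have key : ∀ v (hv : v ∈ Submodule.span T (Set.range c₀)),
        e ⟨v, hv⟩ ∈ Submodule.span T (LinearMap.range c₁ : Set (Fin n' → T)) := by
      intro v hv
      induction hv using Submodule.span_induction with
      | mem v hv =>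
        obtain ⟨m, rfl⟩ := hv
        exact Submodule.subset_span ⟨m, rfl⟩
      | zero =>
        have : e (⟨0, Submodule.zero_mem _⟩ : N) = 0 := map_zero e
        rw [this]
        exact Submodule.zero_mem _
      | add v v' hv hv' h1 h2 =>
        have : e (⟨v + v', Submodule.add_mem _ hv hv'⟩ : N) = e ⟨v, hv⟩ + e ⟨v', hv'⟩ := by
          rw [← map_add]; rfl
        rw [this]
        exact Submodule.add_mem _ h1 h2
      | smul t v hv h1 =>
        have : e (⟨t • v, Submodule.smul_mem _ t hv⟩ : N) = t • e ⟨v, hv⟩ := by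
          rw [← map_smul]; rfl
        rw [this]
        exact Submodule.smul_mem _ t h1
    exact key z.1 hz

theorem main_abstract
    (hlie : ∀ 𝔫 : MaximalSpectrum T, ∀ r ∈ maximalIdeal O, algebraMap O T r ∈ 𝔫.asIdeal)
    (n : ℕ) (hn : Module.finrank K (K ⊗[O] M) = n) :
    ∃ M' : Submodule O (Fin n → K),
      Submodule.pi Set.univ (fun _ : Fin n => (1 : Submodule O K)) ≤ M' ∧
      (∀ v ∈ M', ∀ a, v a ∈ Set.range (algebraMap T K)) ∧ Nonempty (M ≃ₗ[O] M') := by
  classical
  obtain ⟨c, hc, hspan⟩ := exists_coords K T M n hn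
  obtain ⟨x, hx, hdet⟩ := core hlie n (LinearMap.range c) hspan
  let X : Matrix (Fin n) (Fin n) T := Matrix.of x
  have hXdet : IsUnit X.det := hdet
  choose m hm using hx
  let c₂ : M →ₗ[O] (Fin n → T) := ((Matrix.vecMulLinear X⁻¹).restrictScalars O) ∘ₗ c
  have hc₂a : ∀ z, c₂ z = Matrix.vecMul (c z) X⁻¹ := fun z => rfl
  have hc₂ : Function.Injective c₂ := by
    intro a a' haa
    apply hc
    rw [hc₂a, hc₂a] at haa
    have := congrArg (fun w => Matrix.vecMul w X) haa
    simp only [Matrix.vecMul_vecMul, Matrix.nonsing_inv_mul X hXdet, Matrix.vecMul_one] at this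
    exact this
  have hc₂m : ∀ j, c₂ (m j) = Pi.single j 1 := by
    intro j
    rw [hc₂a, hm j]
    have h1 : x j = X j := rfl
    rw [h1, ← Matrix.mul_apply_eq_vecMul, Matrix.mul_nonsing_inv X hXdet]
    ext a
    rw [Matrix.one_apply, Pi.single_apply]
    simp only [eq_comm]
  let incl : (Fin n → T) →ₗ[O] (Fin n → K) :=
    ((Algebra.linearMap T K).restrictScalars O).compLeft (Fin n)
  have hincl : ∀ (w : Fin n → T) (a : Fin n), incl w a = algebraMap T K (w a) := fun w a => rfl
  have hincl_inj : Function.Injective incl := by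
    intro w w' hww
    ext a
    have := congrFun hww a
    rw [hincl, hincl] at this
    exact IsFractionRing.injective T K this
  let c₃ : M →ₗ[O] (Fin n → K) := incl ∘ₗ c₂
  have hc₃ : Function.Injective c₃ := hincl_inj.comp hc₂
  refine ⟨LinearMap.range c₃, ?_, ?_, ⟨LinearEquiv.ofInjective c₃ hc₃⟩⟩
  · intro v hv
    have hv' : ∀ a, v a ∈ (1 : Submodule O K) := fun a => hv a (Set.mem_univ a)
    simp only [Submodule.mem_one] at hv'
    choose r hr using hv'
    refine ⟨∑ a, r a • m a, ?_⟩
    rw [map_sum]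
    ext a'
    rw [Finset.sum_apply]
    have : ∀ a, (c₃ (r a • m a)) a' = if a = a' then algebraMap O K (r a) else 0 := by
      intro a
      rw [map_smul, Pi.smul_apply]
      show r a • incl (c₂ (m a)) a' = _
      rw [hc₂m, hincl, Pi.single_apply]
      by_cases h : a = a'
      · subst h
        rw [if_pos rfl, if_pos rfl, map_one, Algebra.smul_def, mul_one]
      · rw [if_neg (fun h' => h h'.symm), if_neg h, map_zero, smul_zero]
    rw [Finset.sum_congr rfl (fun a _ => this a), Finset.sum_ite_eq' Finset.univ a',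
      if_pos (Finset.mem_univ _), hr]
  · rintro _ ⟨z, rfl⟩ a
    exact ⟨c₂ z a, rfl⟩

end Abstract

section Normalization

variable (O : Type u) [CommRing O] [IsDomain O] [IsNoetherianRing O] [IsLocalRing O]
  (K : Type u) [Field K] [Algebra O K] [IsFractionRing O K]

theorem ot_lie (𝔫 : MaximalSpectrum (integralClosure O K)) (r : O) (hr : r ∈ maximalIdeal O) :
    algebraMap O (integralClosure O K) r ∈ 𝔫.asIdeal := by
  haveI := 𝔫.isMaximal
  have h1 : (𝔫.asIdeal.comap (algebraMap O (integralClosure O K))).IsMaximal :=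
    Ideal.isMaximal_comap_of_isIntegral_of_isMaximal 𝔫.asIdeal
  have h2 := IsLocalRing.eq_maximalIdeal h1
  rw [← h2] at hr
  exact hr

theorem ot_frac : IsFractionRing (integralClosure O K) K :=
  integralClosure.isFractionRing_of_finite_extension K K

theorem ot_finite_max (hfin : Module.Finite O ↥(integralClosure O K)) :
    Finite (MaximalSpectrum (integralClosure O K)) := by
  have hF := Algebra.QuasiFinite.finite_primesOver (R := O) (S := integralClosure O K)
    (maximalIdeal O)
  haveI : Finite ((maximalIdeal O).primesOver (integralClosure O K)) := hF.to_subtype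
  let f : MaximalSpectrum (integralClosure O K) →
      ((maximalIdeal O).primesOver (integralClosure O K)) := fun 𝔫 =>
    ⟨𝔫.asIdeal, 𝔫.isMaximal.isPrime, ⟨by
      haveI := 𝔫.isMaximal
      have h1 : (𝔫.asIdeal.comap (algebraMap O (integralClosure O K))).IsMaximal :=
        Ideal.isMaximal_comap_of_isIntegral_of_isMaximal 𝔫.asIdeal
      exact (IsLocalRing.eq_maximalIdeal h1).symm⟩⟩
  refine Finite.of_injective f ?_
  intro a b hab
  have := congrArg Subtype.val hab
  exact MaximalSpectrum.ext this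

theorem ot_pid (hdim : ringKrullDim O = 1) (hfin : Module.Finite O ↥(integralClosure O K)) :
    IsPrincipalIdealRing (integralClosure O K) := by
  haveI := ot_frac O K
  haveI : Ring.DimensionLEOne O := by
    haveI : Ring.KrullDimLE 1 O := Ring.krullDimLE_iff.mpr (by rw [hdim]; rfl)
    exact ⟨fun hp hprime => hprime.isMaximal_of_ne_bot hp⟩
  haveI : IsDedekindRing (integralClosure O K) := by
    rw [isDedekindRing_iff (integralClosure O K) K]
    refine ⟨IsNoetherianRing.of_finite O _, inferInstance, ?_⟩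
    intro x hx
    have hx' : IsIntegral O x := isIntegral_trans x hx
    exact ⟨⟨x, hx'⟩, rfl⟩
  haveI := ot_finite_max O K hfin
  refine IsPrincipalIdealRing.of_finite_maximals ?_
  refine (Set.finite_range (MaximalSpectrum.asIdeal (R := integralClosure O K))).subset ?_
  intro I hI
  exact ⟨⟨I, hI⟩, rfl⟩

end Normalization


/-- Let O be a one-dimensional Noetherian local domain with algebraically closed residue field whose
integral closure O~ in its fraction field K is a finite O-module. A finitely generated torsion-free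
O-module M of rank n (that is, K ⊗ M has K-dimension n) is isomorphic to an O-submodule M' of K^n
with O^n ⊆ M' ⊆ O~^n. -/
theorem result (O : Type u) [CommRing O] [IsDomain O] [IsNoetherianRing O] [IsLocalRing O] (hdim : ringKrullDim O = 1) [IsAlgClosed (IsLocalRing.ResidueField O)] (K : Type u) [Field K] [Algebra O K] [IsFractionRing O K] (hfin : Module.Finite O ↥(integralClosure O K)) (M : Type u) [AddCommGroup M] [Module O M] [Module.Finite O M] [NoZeroSMulDivisors O M] (n : ℕ) (hn : Module.finrank K (TensorProduct O K M) = n) : ∃ M' : Submodule O (Fin n → K), Submodule.pi Set.univ (fun _ : Fin n => (1 : Submodule O K)) ≤ M' ∧ M' ≤ Submodule.pi Set.univ (fun _ : Fin n => (Subalgebra.toSubmodule (integralClosure O K))) ∧ Nonempty (M ≃ₗ[O] ↥M') := by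
  haveI := ot_frac O K
  haveI := ot_pid O K hdim hfin
  haveI := ot_finite_max O K hfin
  obtain ⟨M', h1, h2, h3⟩ := main_abstract K (integralClosure O K) M
    (fun 𝔫 r hr => ot_lie O K 𝔫 r hr) n hn
  refine ⟨M', h1, ?_, h3⟩
  intro v hv a _
  obtain ⟨t, ht⟩ := h2 v hv a
  show v a ∈ Subalgebra.toSubmodule (integralClosure O K)
  rw [Subalgebra.mem_toSubmodule, ← ht]
  exact t.2

end Groth.Agent.S15009
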