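import Groth.Statements.S9161
import Mathlib.Tactic
-- import your own Groth.Agent.* helpers here

set_option autoImplicit false
universe u
open CAlg

namespace Groth.Agent.S9161

/-- If two two-term complexes of R-modules A₁ → A₀ and B₁ → B₀ are homotopy equivalent (maps of
complexes both ways whose composites are homotopic to the identity maps), then A₁ ⊕ B₀ and B₁ ⊕ A₀
are isomorphic R-modules. -/
theorem result (R : Type u) [CommRing R]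
    (A₁ A₀ B₁ B₀ : Type u) [AddCommGroup A₁] [Module R A₁] [AddCommGroup A₀] [Module R A₀]
    [AddCommGroup B₁] [Module R B₁] [AddCommGroup B₀] [Module R B₀]
    (dA : A₁ →ₗ[R] A₀) (dB : B₁ →ₗ[R] B₀) (φ₁ : A₁ →ₗ[R] B₁) (φ₀ : A₀ →ₗ[R] B₀)
    (ψ₁ : B₁ →ₗ[R] A₁) (ψ₀ : B₀ →ₗ[R] A₀) (hφ : dB ∘ₗ φ₁ = φ₀ ∘ₗ dA) (hψ : dA ∘ₗ ψ₁ = ψ₀ ∘ₗ dB)
    (h : A₀ →ₗ[R] A₁) (hh₁ : LinearMap.id - ψ₁ ∘ₗ φ₁ = h ∘ₗ dA) (hh₀ : LinearMap.id - ψ₀ ∘ₗ φ₀ = dA ∘ₗ h)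
    (h' : B₀ →ₗ[R] B₁) (hh'₁ : LinearMap.id - φ₁ ∘ₗ ψ₁ = h' ∘ₗ dB)
    (hh'₀ : LinearMap.id - φ₀ ∘ₗ ψ₀ = dB ∘ₗ h') :
    Nonempty ((A₁ × B₀) ≃ₗ[R] (B₁ × A₀)) := by
  have e1 : ∀ a, ψ₁ (φ₁ a) = a - h (dA a) := by
    intro a
    have := LinearMap.congr_fun hh₁ a
    simp only [LinearMap.sub_apply, LinearMap.id_apply, LinearMap.comp_apply] at this
    rw [← this]; abel
  have e0 : ∀ a, ψ₀ (φ₀ a) = a - dA (h a) := by
    intro a
    have := LinearMap.congr_fun hh₀ a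
    simp only [LinearMap.sub_apply, LinearMap.id_apply, LinearMap.comp_apply] at this
    rw [← this]; abel
  have e1' : ∀ b, φ₁ (ψ₁ b) = b - h' (dB b) := by
    intro b
    have := LinearMap.congr_fun hh'₁ b
    simp only [LinearMap.sub_apply, LinearMap.id_apply, LinearMap.comp_apply] at this
    rw [← this]; abel
  have e0' : ∀ b, φ₀ (ψ₀ b) = b - dB (h' b) := by
    intro b
    have := LinearMap.congr_fun hh'₀ b
    simp only [LinearMap.sub_apply, LinearMap.id_apply, LinearMap.comp_apply] at this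
    rw [← this]; abel
  have cφ : ∀ a, dB (φ₁ a) = φ₀ (dA a) := fun a => LinearMap.congr_fun hφ a
  have cψ : ∀ b, dA (ψ₁ b) = ψ₀ (dB b) := fun b => LinearMap.congr_fun hψ b
  let F : (A₁ × B₀) →ₗ[R] (B₁ × A₀) :=
    LinearMap.prod (φ₁ ∘ₗ LinearMap.fst R A₁ B₀ - h' ∘ₗ LinearMap.snd R A₁ B₀)
      (dA ∘ₗ LinearMap.fst R A₁ B₀ + ψ₀ ∘ₗ LinearMap.snd R A₁ B₀)
  let G : (B₁ × A₀) →ₗ[R] (A₁ × B₀) :=
    LinearMap.prod (ψ₁ ∘ₗ LinearMap.fst R B₁ A₀ + h ∘ₗ LinearMap.snd R B₁ A₀)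
      (φ₀ ∘ₗ LinearMap.snd R B₁ A₀ - dB ∘ₗ LinearMap.fst R B₁ A₀)
  have hF : ∀ a b, F (a, b) = (φ₁ a - h' b, dA a + ψ₀ b) := fun a b => rfl
  have hG : ∀ b a, G (b, a) = (ψ₁ b + h a, φ₀ a - dB b) := fun b a => rfl
  have hGF : ∀ a b, G (F (a, b)) = (a + (h (ψ₀ b) - ψ₁ (h' b)), b) := by
    intro a b
    rw [hF, hG]
    ext
    · simp only [map_sub, map_add, e1]
      abel
    · simp only [map_sub, map_add, e0', cφ]
      abel
  have hFG : ∀ b a, F (G (b, a)) = (b + (φ₁ (h a) - h' (φ₀ a)), a) := by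
    intro b a
    rw [hG, hF]
    ext
    · simp only [map_sub, map_add, e1']
      abel
    · simp only [map_sub, map_add, e0, cψ]
      abel
  refine ⟨LinearEquiv.ofBijective F ⟨?_, ?_⟩⟩
  · rw [← LinearMap.ker_eq_bot, LinearMap.ker_eq_bot']
    rintro ⟨a, b⟩ hab
    have h1 := hGF a b
    rw [hab, map_zero] at h1
    have hb : b = 0 := (congrArg Prod.snd h1).symm
    have ha := (congrArg Prod.fst h1).symm
    simp only [hb, map_zero, sub_zero, add_zero] at ha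
    show (a, b) = 0
    rw [ha, hb]
    rfl
  · rintro ⟨b, a⟩
    refine ⟨G (b - (φ₁ (h a) - h' (φ₀ a)), a), ?_⟩
    rw [hFG]
    ext
    · simp
    · rfl

end Groth.Agent.S9161
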