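import Groth.Statements.S9162
import Groth.Agent.S9161
import Mathlib.RingTheory.Extension.Cotangent.Basic
import Mathlib.RingTheory.Kaehler.Polynomial
import Mathlib.Tactic
-- import your own Groth.Agent.* helpers here

set_option autoImplicit false
universe u
open CAlg

namespace Groth.Agent.S9162
open Algebra Algebra.Extension

theorem cotangent_prod_equiv {R S : Type u} [CommRing R] [CommRing S] [Algebra R S]
    (P P' : Algebra.Extension.{u} R S) (f : P.Hom P') (g : P'.Hom P) :
    Nonempty ((P.Cotangent × P'.CotangentSpace) ≃ₗ[S] (P'.Cotangent × P.CotangentSpace)) := by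
  refine Groth.Agent.S9161.result S P.Cotangent P.CotangentSpace P'.Cotangent P'.CotangentSpace
    P.cotangentComplex P'.cotangentComplex (Cotangent.map f) (CotangentSpace.map f)
    (Cotangent.map g) (CotangentSpace.map g) ?_ ?_
    ((Hom.id P).sub (g.comp f)) ?_ ?_ ((Hom.id P').sub (f.comp g)) ?_ ?_
  · exact (CotangentSpace.map_comp_cotangentComplex f).symm
  · exact (CotangentSpace.map_comp_cotangentComplex g).symm
  · have := Cotangent.map_sub_map (Hom.id P) (g.comp f)
    rw [Cotangent.map_id, Cotangent.map_comp] at this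
    exact this
  · have := CotangentSpace.map_sub_map (Hom.id P) (g.comp f)
    rw [CotangentSpace.map_id, CotangentSpace.map_comp] at this
    exact this
  · have := Cotangent.map_sub_map (Hom.id P') (f.comp g)
    rw [Cotangent.map_id, Cotangent.map_comp] at this
    exact this
  · have := CotangentSpace.map_sub_map (Hom.id P') (f.comp g)
    rw [CotangentSpace.map_id, CotangentSpace.map_comp] at this
    exact this

/-- a hom between two polynomial presentations of the same algebra -/
noncomputable def homOfSurj {R S : Type u} [CommRing R] [CommRing S] [Algebra R S] (n m : ℕ)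
    (α : MvPolynomial (Fin n) R →ₐ[R] S) (hα : Function.Surjective α)
    (β : MvPolynomial (Fin m) R →ₐ[R] S) (hβ : Function.Surjective β) :
    (Algebra.Extension.ofSurjective α hα).Hom (Algebra.Extension.ofSurjective β hβ) where
  toRingHom := (MvPolynomial.aeval (fun i => (hβ (α (MvPolynomial.X i))).choose) :
    MvPolynomial (Fin n) R →ₐ[R] MvPolynomial (Fin m) R).toRingHom
  toRingHom_algebraMap x := by
    show (MvPolynomial.aeval (fun i => (hβ (α (MvPolynomial.X i))).choose) :
      MvPolynomial (Fin n) R →ₐ[R] MvPolynomial (Fin m) R) (algebraMap R _ x) = algebraMap R _ x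
    simp
  algebraMap_toRingHom x := by
    show β ((MvPolynomial.aeval (fun i => (hβ (α (MvPolynomial.X i))).choose) :
      MvPolynomial (Fin n) R →ₐ[R] MvPolynomial (Fin m) R) x) = α x
    have : β.comp (MvPolynomial.aeval (fun i => (hβ (α (MvPolynomial.X i))).choose) :
      MvPolynomial (Fin n) R →ₐ[R] MvPolynomial (Fin m) R) = α := by
      apply MvPolynomial.algHom_ext
      intro i
      simp only [AlgHom.comp_apply, MvPolynomial.aeval_X]
      exact (hβ (α (MvPolynomial.X i))).choose_spec
    exact DFunLike.congr_fun this x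

noncomputable def cotSpaceEquiv {R S : Type u} [CommRing R] [CommRing S] [Algebra R S] (n : ℕ)
    (α : MvPolynomial (Fin n) R →ₐ[R] S) (hα : Function.Surjective α) :
    (Algebra.Extension.ofSurjective α hα).CotangentSpace ≃ₗ[S] (Fin n → S) :=
  letI : Algebra (MvPolynomial (Fin n) R) S := α.toAlgebra
  (((KaehlerDifferential.mvPolynomialBasis R (Fin n)).baseChange S).equivFun :
    TensorProduct (MvPolynomial (Fin n) R) S (Ω[MvPolynomial (Fin n) R⁄R]) ≃ₗ[S] (Fin n → S))


/-- Let S be an R-algebra and α : R[x_1, …, x_n] → S, β : R[y_1, …, y_m] → S surjective R-algebra maps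
(presentations by polynomial rings in finitely many variables; the kernels I and J need not be
finitely generated). Then I/I² ⊕ S^m and J/J² ⊕ S^n are isomorphic S-modules. -/
theorem result (R S : Type u) [CommRing R] [CommRing S]
    [Algebra R S] (n m : ℕ) (α : MvPolynomial (Fin n) R →ₐ[R] S) (hα : Function.Surjective α)
    (β : MvPolynomial (Fin m) R →ₐ[R] S) (hβ : Function.Surjective β) :
    Nonempty (((Algebra.Extension.ofSurjective α hα).Cotangent × (Fin m → S)) ≃ₗ[S]
      ((Algebra.Extension.ofSurjective β hβ).Cotangent × (Fin n → S))) := by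
  obtain ⟨e⟩ := cotangent_prod_equiv (Algebra.Extension.ofSurjective α hα)
    (Algebra.Extension.ofSurjective β hβ) (homOfSurj n m α hα β hβ) (homOfSurj m n β hβ α hα)
  exact ⟨(LinearEquiv.prodCongr (LinearEquiv.refl S _) (cotSpaceEquiv m β hβ).symm) ≪≫ₗ e ≪≫ₗ
    (LinearEquiv.prodCongr (LinearEquiv.refl S _) (cotSpaceEquiv n α hα))⟩

end Groth.Agent.S9162
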