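import Groth.Statements.S3824
import Mathlib
-- import your own Groth.Agent.* helpers here

set_option autoImplicit false
universe u
open QReg16

namespace Groth.Agent.S3824.Aux

set_option autoImplicit false

namespace QI
open MvPolynomial

variable {n : ℕ}

/-- the linear forms attached to a matrix -/
noncomputable def lin {R : Type*} [CommRing R] (M : Matrix (Fin n) (Fin n) R) (i : Fin n) :
    MvPolynomial (Fin n) R :=
  ∑ j, C (M i j) * X j

lemma lin_hom {R : Type*} [CommRing R] (M : Matrix (Fin n) (Fin n) R) (i : Fin n) :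
    (lin M i).IsHomogeneous 1 := by
  apply IsHomogeneous.sum; intro j _
  exact (isHomogeneous_X _ j).C_mul _

lemma eval_lin {R : Type*} [CommRing R] (M : Matrix (Fin n) (Fin n) R) (f : Fin n → R) (i : Fin n) :
    eval f (lin M i) = ∑ j, M i j * f j := by
  simp [lin]

lemma map_lin {R S : Type*} [CommRing R] [CommRing S] (φ : R →+* S)
    (M : Matrix (Fin n) (Fin n) R) (i : Fin n) : map φ (lin M i) = lin (M.map φ) i := by
  simp [lin]

lemma bind_lin_lin {R : Type*} [CommRing R] (M N : Matrix (Fin n) (Fin n) R) (i : Fin n) :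
    bind₁ (lin N) (lin M i) = lin (M * N) i := by
  simp only [lin, map_sum, map_mul, bind₁_C_right, bind₁_X_right]
  simp only [Finset.mul_sum, Matrix.mul_apply, map_sum, Finset.sum_mul]
  rw [Finset.sum_comm]
  refine Finset.sum_congr rfl fun k _ => Finset.sum_congr rfl fun j _ => ?_
  rw [map_mul]; ring

lemma lin_one {R : Type*} [CommRing R] (i : Fin n) :
    lin (1 : Matrix (Fin n) (Fin n) R) i = X i := by
  classical
  simp only [lin, Matrix.one_apply]
  rw [Finset.sum_eq_single i]
  · simp
  · intro j _ hj; rw [if_neg (Ne.symm hj)]; simp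
  · simp

lemma coeff_lin {R : Type*} [CommRing R] (M : Matrix (Fin n) (Fin n) R) (i k : Fin n) :
    coeff (Finsupp.single k 1) (lin M i) = M i k := by
  classical
  simp only [lin, coeff_sum, coeff_C_mul, coeff_X]
  rw [Finset.sum_eq_single k]
  · simp
  · intro j _ hj
    rw [if_neg, mul_zero]
    intro h
    exact hj ((Finsupp.single_left_inj one_ne_zero).mp h)
  · simp

theorem main {A : Type u} [CommRing A] (f f' : Fin n → A) (hf : CAlgX.IsQuasiRegular f)
    (h : Ideal.span (Set.range f') = Ideal.span (Set.range f)) : CAlgX.IsQuasiRegular f' := by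
  classical
  have h1 : ∀ i, ∃ c : Fin n → A, ∑ j, c j * f j = f' i := fun i =>
    Ideal.mem_span_range_iff_exists_fun.mp
      (h ▸ Ideal.subset_span ⟨i, rfl⟩ : f' i ∈ Ideal.span (Set.range f))
  have h2 : ∀ i, ∃ c : Fin n → A, ∑ j, c j * f' j = f i := fun i =>
    Ideal.mem_span_range_iff_exists_fun.mp
      (h.symm ▸ Ideal.subset_span ⟨i, rfl⟩ : f i ∈ Ideal.span (Set.range f'))
  choose M hM using h1
  choose N hN using h2
  let MM : Matrix (Fin n) (Fin n) A := Matrix.of M
  let NN : Matrix (Fin n) (Fin n) A := Matrix.of N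
  have hrel : ∀ i, ∑ k, (NN * MM - 1) i k * f k = 0 := by
    intro i
    simp only [Matrix.sub_apply, Matrix.mul_apply, Matrix.one_apply, sub_mul,
      Finset.sum_sub_distrib]
    rw [sub_eq_zero]
    have : ∑ k, (∑ j, NN i j * MM j k) * f k = ∑ j, N i j * f' j := by
      simp only [Finset.sum_mul]
      rw [Finset.sum_comm]
      refine Finset.sum_congr rfl fun j _ => ?_
      rw [← hM j, Finset.mul_sum]
      refine Finset.sum_congr rfl fun k _ => ?_
      simp only [MM, NN, Matrix.of_apply]; ring
    rw [this, hN i]; simp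
  have hent : ∀ i k, (NN * MM - 1) i k ∈ Ideal.span (Set.range f) := by
    intro i k
    have := hf 1 (lin (NN * MM - 1) i) (lin_hom _ i)
      (by rw [eval_lin, hrel i]; exact Ideal.zero_mem _) (Finsupp.single k 1)
    rwa [coeff_lin] at this
  set mk := Ideal.Quotient.mk (Ideal.span (Set.range f)) with hmk
  have hNM : NN.map mk * MM.map mk = 1 := by
    rw [← Matrix.map_mul]
    ext i k
    have := hent i k
    rw [← Ideal.Quotient.eq_zero_iff_mem, ← hmk, Matrix.sub_apply, map_sub, sub_eq_zero] at this
    rw [Matrix.map_apply, this, Matrix.one_apply, Matrix.one_apply]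
    split_ifs <;> simp
  have hMN : MM.map mk * NN.map mk = 1 := mul_eq_one_comm.mp hNM
  intro d P hP hmem e
  rw [h] at hmem ⊢
  set Q := bind₁ (lin MM) P with hQ
  have hQhom : Q.IsHomogeneous d := by
    have := hP.aeval (lin MM) (lin_hom MM)
    rwa [one_mul] at this
  have hQev : eval f Q = eval f' P := by
    have h3 := eval₂Hom_bind₁ (RingHom.id A) f (lin MM) P
    have h4 : (fun i => eval₂Hom (RingHom.id A) f (lin MM i)) = f' := by
      funext i
      show eval f (lin MM i) = f' i
      rw [eval_lin, ← hM i]; rfl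
    rw [h4] at h3
    exact h3
  have hQco := hf d Q hQhom (by rw [hQev]; exact hmem)
  have hQ0 : map mk Q = 0 := by
    ext e'
    rw [coeff_map, coeff_zero, hmk, Ideal.Quotient.eq_zero_iff_mem]
    exact hQco e'
  have hQ1 : map mk Q = bind₁ (lin (MM.map mk)) (map mk P) := by
    rw [hQ, map_bind₁]
    have : (fun i => map mk (lin MM i)) = lin (MM.map mk) := funext (map_lin mk MM)
    rw [this]
  have hP0 : map mk P = 0 := by
    have h5 : bind₁ (lin (NN.map mk)) (bind₁ (lin (MM.map mk)) (map mk P)) = map mk P := by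
      rw [bind₁_bind₁]
      have : (fun i => bind₁ (lin (NN.map mk)) (lin (MM.map mk) i)) = X := by
        funext i
        rw [bind_lin_lin, hMN, lin_one]
      rw [this, bind₁_X_left]; rfl
    rw [← h5, ← hQ1, hQ0, map_zero]
  have := congrArg (coeff e) hP0
  rw [coeff_map, coeff_zero, hmk, Ideal.Quotient.eq_zero_iff_mem] at this
  exact this

end QI

end Groth.Agent.S3824.Aux

namespace Groth.Agent.S3824

/-- Let f_1, …, f_n be a quasi-regular sequence in a ring A and f'_1, …, f'_n another sequence of the
same length generating the same ideal. Then (f'_i) is quasi-regular. -/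
theorem result {A : Type u} [CommRing A] {n : ℕ} (f f' : Fin n → A)
    (hf : CAlgX.IsQuasiRegular f) (h : Ideal.span (Set.range f') = Ideal.span (Set.range f)) :
    CAlgX.IsQuasiRegular f' := by
  exact Aux.QI.main f f' hf h

end Groth.Agent.S3824
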