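import Groth.Statements.S17014
import Mathlib
-- import your own Groth.Agent.* helpers here

set_option autoImplicit false
universe u v
open QuadGrp

namespace Groth.Agent.S17014.Aux

set_option autoImplicit false

namespace HD

open MvPolynomial Matrix QuadGrp

variable {n : ℕ}

/-- upper triangular matrix of a coefficient table -/
def UM {S : Type*} [CommRing S] (a : Sym2 (Fin n) → S) : Matrix (Fin n) (Fin n) S :=
  Matrix.of fun k l => if k = l then a s(k, l) else if k < l then a s(k, l) else 0

/-- polar matrix of a coefficient table -/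
def PM {S : Type*} [CommRing S] (a : Sym2 (Fin n) → S) : Matrix (Fin n) (Fin n) S :=
  Matrix.of fun k l => if k = l then 2 * a s(k, l) else a s(k, l)

theorem PM_eq {S : Type*} [CommRing S] (a : Sym2 (Fin n) → S) : PM a = UM a + (UM a)ᵀ := by
  ext k l
  simp only [PM, UM, Matrix.of_apply, Matrix.add_apply, Matrix.transpose_apply]
  rcases lt_trichotomy k l with h | h | h
  · simp [h.ne, h.ne', h, h.not_gt]
  · subst h; simp [two_mul]
  · rw [if_neg h.ne', if_neg h.ne', if_neg h.not_gt, if_neg h.ne, if_pos h, zero_add, Sym2.eq_swap]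

theorem PM_symm {S : Type*} [CommRing S] (a : Sym2 (Fin n) → S) : (PM a)ᵀ = PM a := by
  rw [PM_eq, transpose_add, transpose_transpose, add_comm]

/-- the transformed table -/
def cc {S : Type*} [CommRing S] (a : Sym2 (Fin n) → S) (G : Matrix (Fin n) (Fin n) S) :
    Sym2 (Fin n) → S :=
  Sym2.lift ⟨fun i j => if i = j then (Gᵀ * UM a * G) i i else (Gᵀ * PM a * G) i j, by
    intro i j
    by_cases h : i = j
    · subst h; rfl
    · show (if i = j then _ else _) = (if j = i then _ else _)
      rw [if_neg h, if_neg (Ne.symm h)]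
      have : (Gᵀ * PM a * G)ᵀ = Gᵀ * PM a * G := by
        rw [transpose_mul, transpose_mul, transpose_transpose, PM_symm, Matrix.mul_assoc]
      conv_lhs => rw [← this]
      rfl⟩

theorem cc_mk {S : Type*} [CommRing S] (a : Sym2 (Fin n) → S) (G : Matrix (Fin n) (Fin n) S)
    (i j : Fin n) :
    cc a G s(i, j) = if i = j then (Gᵀ * UM a * G) i i else (Gᵀ * PM a * G) i j := rfl

theorem PM_cc {S : Type*} [CommRing S] (a : Sym2 (Fin n) → S) (G : Matrix (Fin n) (Fin n) S) :
    PM (cc a G) = Gᵀ * PM a * G := by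
  ext i j
  by_cases h : i = j
  · subst h
    have h1 : Gᵀ * PM a * G = Gᵀ * UM a * G + (Gᵀ * UM a * G)ᵀ := by
      rw [PM_eq, Matrix.mul_add, Matrix.add_mul]
      congr 1
      rw [transpose_mul, transpose_mul, transpose_transpose, Matrix.mul_assoc]
    rw [h1]
    simp only [PM, Matrix.of_apply, if_true, cc_mk, Matrix.add_apply, Matrix.transpose_apply,
      two_mul]
  · simp only [PM, Matrix.of_apply, if_neg h, cc_mk]

theorem UM_map {S T : Type*} [CommRing S] [CommRing T] (φ : S →+* T) (a : Sym2 (Fin n) → S) :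
    (UM a).map φ = UM (φ ∘ a) := by
  ext k l
  simp only [UM, Matrix.map_apply, Matrix.of_apply, Function.comp]
  split_ifs <;> simp

theorem PM_map {S T : Type*} [CommRing S] [CommRing T] (φ : S →+* T) (a : Sym2 (Fin n) → S) :
    (PM a).map φ = PM (φ ∘ a) := by
  ext k l
  simp only [PM, Matrix.map_apply, Matrix.of_apply, Function.comp]
  split_ifs
  · rw [map_mul, map_ofNat]
  · rfl

theorem cc_map {S T : Type*} [CommRing S] [CommRing T] (φ : S →+* T) (a : Sym2 (Fin n) → S)
    (G : Matrix (Fin n) (Fin n) S) : φ ∘ cc a G = cc (φ ∘ a) (G.map φ) := by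
  funext p
  induction p using Sym2.ind with
  | _ i j =>
    simp only [Function.comp, cc_mk]
    rw [← UM_map, ← PM_map, ← transpose_map, ← Matrix.map_mul, ← Matrix.map_mul,
      ← Matrix.map_mul, ← Matrix.map_mul]
    split_ifs <;> rfl

theorem eval_disc {S : Type*} [CommRing S] (a : Sym2 (Fin n) → S) :
    eval₂ (Int.castRingHom S) a (discUniv n) = (PM a).det := by
  have : PM a = (eval₂Hom (Int.castRingHom S) a).mapMatrix (univPolarMat n) := by
    ext i j
    simp only [PM, univPolarMat, RingHom.mapMatrix_apply, Matrix.map_apply, Matrix.of_apply]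
    split_ifs <;> simp
  rw [this, ← RingHom.map_det]; rfl

theorem det_skew_eq_zero {S : Type*} [CommRing S] [IsDomain S] [CharZero S] (hn : Odd n)
    (K : Matrix (Fin n) (Fin n) S) (hK : Kᵀ = -K) : K.det = 0 := by
  have h1 : K.det = - K.det := by
    conv_lhs => rw [← det_transpose, hK, det_neg, Fintype.card_fin, hn.neg_one_pow, neg_one_mul]
  have h2 : (2 : S) * K.det = 0 := by linear_combination h1
  rcases mul_eq_zero.mp h2 with h | h
  · exact absurd h two_ne_zero
  · exact h

/-- the skew matrix -/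
noncomputable def SK (n : ℕ) : Matrix (Fin n) (Fin n) (MvPolynomial (Sym2 (Fin n)) ℤ) :=
  Matrix.of fun i j => if i = j then 0 else if i < j then X s(i, j) else - X s(i, j)

theorem SK_transpose (n : ℕ) : (SK n)ᵀ = - SK n := by
  refine Matrix.ext fun i j => ?_
  simp only [SK, transpose_apply, of_apply, Matrix.neg_apply]
  rcases lt_trichotomy i j with h | h | h
  · rw [if_neg h.ne', if_neg h.not_gt, if_neg h.ne, if_pos h, Sym2.eq_swap]
  · subst h; simp
  · rw [if_neg h.ne', if_pos h, if_neg h.ne, if_neg h.not_gt, Sym2.eq_swap, neg_neg]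

theorem disc_coeff_even (m : ℕ) (s : Sym2 (Fin (2 * m + 1)) →₀ ℕ) :
    (2 : ℤ) ∣ coeff s (discUniv (2 * m + 1)) := by
  let φ := MvPolynomial.map (σ := Sym2 (Fin (2 * m + 1))) (Int.castRingHom (ZMod 2))
  have hdet : (SK (2 * m + 1)).det = 0 := det_skew_eq_zero ⟨m, rfl⟩ _ (SK_transpose _)
  have hmap : φ.mapMatrix (univPolarMat (2 * m + 1)) = φ.mapMatrix (SK (2 * m + 1)) := by
    refine Matrix.ext fun i j => ?_
    simp only [RingHom.mapMatrix_apply, Matrix.map_apply, univPolarMat, SK, of_apply]
    rcases lt_trichotomy i j with h | h | h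
    · rw [if_neg h.ne, if_neg h.ne, if_pos h]
    · subst h
      rw [if_pos rfl, if_pos rfl, map_mul, map_zero]
      have : φ 2 = 0 := by
        rw [map_ofNat]; exact CharTwo.two_eq_zero
      rw [this, zero_mul]
    · rw [if_neg h.ne', if_neg h.ne', if_neg h.not_gt, map_neg, CharTwo.neg_eq]
  have h0 : φ (discUniv (2 * m + 1)) = 0 := by
    rw [discUniv, RingHom.map_det, hmap, ← RingHom.map_det, hdet, map_zero]
  have hc := congrArg (coeff s) h0
  rw [coeff_map, coeff_zero] at hc
  exact (ZMod.intCast_zmod_eq_zero_iff_dvd _ 2).mp hc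

theorem disc_eq_two_mul (m : ℕ) : discUniv (2 * m + 1) = 2 * halfDiscUniv (2 * m + 1) := by
  ext s
  have h2 : (2 : MvPolynomial (Sym2 (Fin (2 * m + 1))) ℤ) * halfDiscUniv (2 * m + 1) =
      halfDiscUniv (2 * m + 1) + halfDiscUniv (2 * m + 1) := two_mul _
  rw [h2, coeff_add, coeff_halfDiscUniv]
  have := disc_coeff_even m s
  omega

theorem key {S : Type*} [CommRing S] [IsDomain S] [CharZero S] (m : ℕ)
    (a : Sym2 (Fin (2 * m + 1)) → S) (G : Matrix (Fin (2 * m + 1)) (Fin (2 * m + 1)) S) :
    eval₂ (Int.castRingHom S) (cc a G) (halfDiscUniv (2 * m + 1)) =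
      G.det ^ 2 * eval₂ (Int.castRingHom S) a (halfDiscUniv (2 * m + 1)) := by
  have h1 := eval_disc (cc a G)
  have h2 := eval_disc a
  rw [disc_eq_two_mul, eval₂_mul] at h1 h2
  have h3 : eval₂ (Int.castRingHom S) (cc a G) (2 : MvPolynomial _ ℤ) = 2 := by
    rw [← map_ofNat C 2, eval₂_C]; simp
  have h4 : eval₂ (Int.castRingHom S) a (2 : MvPolynomial _ ℤ) = 2 := by
    rw [← map_ofNat C 2, eval₂_C]; simp
  rw [h3] at h1
  rw [h4] at h2
  rw [PM_cc, det_mul, det_mul, det_transpose, ← h2] at h1
  have : (2 : S) * (eval₂ (Int.castRingHom S) (cc a G) (halfDiscUniv (2 * m + 1)) -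
      G.det ^ 2 * eval₂ (Int.castRingHom S) a (halfDiscUniv (2 * m + 1))) = 0 := by
    linear_combination h1
  rcases mul_eq_zero.mp this with h | h
  · exact absurd h two_ne_zero
  · exact sub_eq_zero.mp h

theorem key_gen {R : Type*} [CommRing R] (m : ℕ)
    (a : Sym2 (Fin (2 * m + 1)) → R) (G : Matrix (Fin (2 * m + 1)) (Fin (2 * m + 1)) R) :
    eval₂ (Int.castRingHom R) (cc a G) (halfDiscUniv (2 * m + 1)) =
      G.det ^ 2 * eval₂ (Int.castRingHom R) a (halfDiscUniv (2 * m + 1)) := by
  let ev : MvPolynomial R ℤ →+* R := eval₂Hom (Int.castRingHom R) id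
  let a' : Sym2 (Fin (2 * m + 1)) → MvPolynomial R ℤ := fun p => X (a p)
  let G' : Matrix (Fin (2 * m + 1)) (Fin (2 * m + 1)) (MvPolynomial R ℤ) := G.map X
  have ha : ev ∘ a' = a := by
    funext p; simp [ev, a']
  have hG : G'.map ev = G := by
    ext i j; simp [ev, G']
  have hcomp : ev.comp (Int.castRingHom (MvPolynomial R ℤ)) = Int.castRingHom R :=
    RingHom.ext_int _ _
  have h := congrArg ev (key m a' G')
  rw [map_mul, map_pow, RingHom.map_det, RingHom.mapMatrix_apply, hG, eval₂_comp_left,
    eval₂_comp_left, hcomp, ha, cc_map, ha, hG] at h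
  exact h

theorem coeffs_comp {R : Type*} [CommRing R] {M : Type*} [AddCommGroup M] [Module R M]
    (b : Module.Basis (Fin n) R M) (Q : QuadraticForm R M) (g : M →ₗ[R] M) :
    coeffs b (LinearEquiv.refl R R) (Q.comp g) =
      cc (coeffs b (LinearEquiv.refl R R) Q) (LinearMap.toMatrix b b g) := by
  have hU : UM (coeffs b (LinearEquiv.refl R R) Q) = LinearMap.BilinForm.toMatrix b (Q.toBilin b) := by
    ext k l
    rw [LinearMap.BilinForm.toMatrix_apply, QuadraticMap.toBilin_apply]
    simp only [UM, Matrix.of_apply, coeffs_mk, LinearEquiv.refl_apply]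
    split_ifs <;> rfl
  have hP : PM (coeffs b (LinearEquiv.refl R R) Q) =
      LinearMap.BilinForm.toMatrix b (QuadraticMap.polarBilin Q) := by
    ext k l
    rw [LinearMap.BilinForm.toMatrix_apply, QuadraticMap.polarBilin_apply_apply]
    simp only [PM, Matrix.of_apply, coeffs_mk, LinearEquiv.refl_apply]
    split_ifs with h
    · subst h; rw [QuadraticMap.polar_self, two_smul, two_mul]
    · rfl
  funext p
  induction p using Sym2.ind with
  | _ i j =>
    rw [coeffs_mk, cc_mk, hU, hP, ← LinearMap.BilinForm.toMatrix_comp,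
      ← LinearMap.BilinForm.toMatrix_comp, LinearMap.BilinForm.toMatrix_apply,
      LinearMap.BilinForm.toMatrix_apply]
    simp only [LinearEquiv.refl_apply, QuadraticMap.comp_apply, LinearMap.BilinForm.comp_apply,
      QuadraticMap.polarBilin_apply_apply]
    split_ifs with h
    · conv_lhs => rw [← QuadraticMap.toQuadraticMap_toBilin Q b]
      rfl
    · simp only [QuadraticMap.polar, QuadraticMap.comp_apply, map_add]

theorem main {R : Type*} [CommRing R] {M : Type*} [AddCommGroup M] [Module R M]
    (m : ℕ) (b : Module.Basis (Fin (2 * m + 1)) R M) (Q : QuadraticForm R M) (g : M →ₗ[R] M) :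
    QuadGrp.halfDisc b (LinearEquiv.refl R R) (Q.comp g) =
      LinearMap.det g ^ 2 * QuadGrp.halfDisc b (LinearEquiv.refl R R) Q := by
  rw [halfDisc, halfDisc, coeffs_comp, key_gen, LinearMap.det_toMatrix]

end HD

end Groth.Agent.S17014.Aux

namespace Groth.Agent.S17014

/-- For a quadratic form Q on a free module with a basis b indexed by Fin (2m+1) over a commutative ring
and any linear endomorphism g of the module, the half-discriminant of Q ∘ g relative to b is (det
g)² times that of Q. -/
theorem result {R : Type u} [CommRing R] {M : Type v} [AddCommGroup M] [Module R M]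
    (m : ℕ) (b : Module.Basis (Fin (2 * m + 1)) R M) (Q : QuadraticForm R M) (g : M →ₗ[R] M) :
    QuadGrp.halfDisc b (LinearEquiv.refl R R) (Q.comp g) =
      LinearMap.det g ^ 2 * QuadGrp.halfDisc b (LinearEquiv.refl R R) Q := by
  exact Aux.HD.main m b Q g

end Groth.Agent.S17014
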