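import Groth.Statements.S6593
import Mathlib
-- import your own Groth.Agent.* helpers here

set_option autoImplicit false
universe w v u
open CategoryTheory CategoryTheory.Limits
open CohDer

namespace Groth.Agent.S6593

open CategoryTheory.Pretriangulated in
/-- Let D be a pretriangulated category and (X_i → Y_i → Z_i → X_i⟦1⟧)_{i ∈ I} a family of distinguished
triangles. If the direct sums ⨁ X_i, ⨁ Y_i, ⨁ Z_i exist, then ⨁ X_i → ⨁ Y_i → ⨁ Z_i → (⨁ X_i)⟦1⟧ is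
a distinguished triangle (the last map is induced by the composites Z_i → X_i⟦1⟧ → (⨁ X_i)⟦1⟧). -/
theorem result {D : Type u} [Category.{v} D] [Preadditive D] [HasZeroObject D] [HasShift D ℤ]
    [∀ n : ℤ, (shiftFunctor D n).Additive] [Pretriangulated D]
    {J : Type w} (T : J → Triangle D) (hT : ∀ j, T j ∈ distinguishedTriangles)
    [HasCoproduct (fun j => (T j).obj₁)] [HasCoproduct (fun j => (T j).obj₂)] [HasCoproduct (fun j => (T j).obj₃)] :
    Triangle.mk (Limits.Sigma.map (fun j => (T j).mor₁)) (Limits.Sigma.map (fun j => (T j).mor₂))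
      (Sigma.desc (fun j => (T j).mor₃ ≫ (shiftFunctor D (1 : ℤ)).map (Sigma.ι (fun j => (T j).obj₁) j))) ∈ distinguishedTriangles := by
  classical
  -- notation
  let X : J → D := fun j => (T j).obj₁
  let Y : J → D := fun j => (T j).obj₂
  let Z : J → D := fun j => (T j).obj₃
  let f₁ : ∐ X ⟶ ∐ Y := Limits.Sigma.map (fun j => (T j).mor₁)
  let g₂ : ∐ Y ⟶ ∐ Z := Limits.Sigma.map (fun j => (T j).mor₂)
  let g₃ : ∐ Z ⟶ (shiftFunctor D (1 : ℤ)).obj (∐ X) :=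
    Sigma.desc (fun j => (T j).mor₃ ≫ (shiftFunctor D (1 : ℤ)).map (Sigma.ι X j))
  show Triangle.mk f₁ g₂ g₃ ∈ distinguishedTriangles
  have hι₁ : ∀ j, Sigma.ι X j ≫ f₁ = (T j).mor₁ ≫ Sigma.ι Y j :=
    fun j => Limits.Sigma.ι_map _ j
  have hι₂ : ∀ j, Sigma.ι Y j ≫ g₂ = (T j).mor₂ ≫ Sigma.ι Z j :=
    fun j => Limits.Sigma.ι_map _ j
  have hι₃ : ∀ j, Sigma.ι Z j ≫ g₃ = (T j).mor₃ ≫ (shiftFunctor D (1 : ℤ)).map (Sigma.ι X j) :=
    fun j => Limits.Sigma.ι_desc _ j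
  obtain ⟨W, f₂, f₃, hT'⟩ := distinguished_cocone_triangle f₁
  -- the shifted coproduct
  have hcol : IsColimit (Cofan.mk _ fun j : J => (shiftFunctor D (1 : ℤ)).map (Sigma.ι X j) :
      Cofan fun j => (shiftFunctor D (1 : ℤ)).obj (X j)) :=
    isColimitOfHasCoproductOfPreservesColimit (shiftFunctor D (1 : ℤ)) X
  have hcolY : IsColimit (Cofan.mk _ fun j : J => (shiftFunctor D (1 : ℤ)).map (Sigma.ι Y j) :
      Cofan fun j => (shiftFunctor D (1 : ℤ)).obj (Y j)) :=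
    isColimitOfHasCoproductOfPreservesColimit (shiftFunctor D (1 : ℤ)) Y
  -- morphisms T j ⟶ T'
  have hφ : ∀ j, ∃ c : Z j ⟶ W, (T j).mor₂ ≫ c = Sigma.ι Y j ≫ f₂ ∧
      (T j).mor₃ ≫ (shiftFunctor D (1 : ℤ)).map (Sigma.ι X j) = c ≫ f₃ := by
    intro j
    exact complete_distinguished_triangle_morphism (T j) (Triangle.mk f₁ f₂ f₃) (hT j) hT'
      (Sigma.ι X j) (Sigma.ι Y j) (hι₁ j).symm
  choose c hc₂ hc₃ using hφ
  let h₃ : ∐ Z ⟶ W := Sigma.desc c
  have hιh : ∀ j, Sigma.ι Z j ≫ h₃ = c j := fun j => Limits.Sigma.ι_desc _ j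
  have hcomm₂ : g₂ ≫ h₃ = f₂ := by
    apply Limits.Sigma.hom_ext
    intro j
    rw [← Category.assoc, hι₂, Category.assoc, hιh]
    exact hc₂ j
  have hcomm₃ : g₃ = h₃ ≫ f₃ := by
    apply Limits.Sigma.hom_ext
    intro j
    rw [hι₃, ← Category.assoc, hιh]
    exact hc₃ j
  have hg12 : f₁ ≫ g₂ = 0 := by
    apply Limits.Sigma.hom_ext
    intro j
    rw [← Category.assoc, hι₁, Category.assoc, hι₂, ← Category.assoc,
      comp_distTriang_mor_zero₁₂ _ (hT j), zero_comp, comp_zero]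
  suffices hiso : IsIso h₃ by
    refine isomorphic_distinguished _ hT' _ ?_
    refine Triangle.isoMk _ _ (Iso.refl _) (Iso.refl _) (@asIso _ _ _ _ h₃ hiso) ?_ ?_ ?_
    · show f₁ ≫ 𝟙 _ = 𝟙 _ ≫ f₁
      rw [Category.comp_id, Category.id_comp]
    · show g₂ ≫ h₃ = 𝟙 _ ≫ f₂
      rw [Category.id_comp, hcomm₂]
    · show g₃ ≫ (shiftFunctor D (1 : ℤ)).map (𝟙 _) = h₃ ≫ f₃
      rw [CategoryTheory.Functor.map_id, Category.comp_id, hcomm₃]
  refine isIso_of_coyoneda_map_bijective _ (fun A => ⟨?_, ?_⟩)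
  · -- injective
    suffices Epi h₃ by
      intro a₁ a₂ ha
      simpa only [← cancel_epi h₃] using ha
    rw [Preadditive.epi_iff_cancel_zero]
    intro A f hf
    have hf' : f₂ ≫ f = 0 := by rw [← hcomm₂, Category.assoc, hf, comp_zero]
    obtain ⟨g, hg⟩ : ∃ g : (shiftFunctor D (1 : ℤ)).obj (∐ X) ⟶ A, f = f₃ ≫ g :=
      Triangle.yoneda_exact₃ _ hT' f hf'
    have hg' : ∀ j, (T j).mor₃ ≫ ((shiftFunctor D (1 : ℤ)).map (Sigma.ι X j) ≫ g) = 0 := by
      intro j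
      rw [← Category.assoc, hc₃ j, Category.assoc, ← hg, ← hιh, Category.assoc, hf, comp_zero]
    have hα : ∀ j, ∃ α : (shiftFunctor D (1 : ℤ)).obj (Y j) ⟶ A,
        (shiftFunctor D (1 : ℤ)).map (Sigma.ι X j) ≫ g =
          (shiftFunctor D (1 : ℤ)).map (T j).mor₁ ≫ α := by
      intro j
      obtain ⟨β, hβ⟩ : ∃ β : (shiftFunctor D (1 : ℤ)).obj (Y j) ⟶ A,
          (shiftFunctor D (1 : ℤ)).map (Sigma.ι X j) ≫ g =
            (-(shiftFunctor D (1 : ℤ)).map (T j).mor₁) ≫ β :=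
        Triangle.yoneda_exact₃ _ (rot_of_distTriang _ (hT j))
          ((shiftFunctor D (1 : ℤ)).map (Sigma.ι X j) ≫ g) (hg' j)
      refine ⟨-β, ?_⟩
      rw [hβ, Preadditive.neg_comp, Preadditive.comp_neg]
    choose α hα' using hα
    let αt : (shiftFunctor D (1 : ℤ)).obj (∐ Y) ⟶ A := Cofan.IsColimit.desc hcolY α
    have hαt : ∀ j, (shiftFunctor D (1 : ℤ)).map (Sigma.ι Y j) ≫ αt = α j :=
      fun j => Cofan.IsColimit.fac hcolY α j
    have hgα : g = (shiftFunctor D (1 : ℤ)).map f₁ ≫ αt := by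
      apply Cofan.IsColimit.hom_ext hcol
      intro j
      show (shiftFunctor D (1 : ℤ)).map (Sigma.ι X j) ≫ g =
        (shiftFunctor D (1 : ℤ)).map (Sigma.ι X j) ≫ (shiftFunctor D (1 : ℤ)).map f₁ ≫ αt
      rw [hα' j, ← Category.assoc, ← Functor.map_comp, hι₁, Functor.map_comp, Category.assoc, hαt]
    have h31 : f₃ ≫ (shiftFunctor D (1 : ℤ)).map f₁ = 0 := comp_distTriang_mor_zero₃₁ _ hT'
    rw [hg, hgα, ← Category.assoc, h31, zero_comp]
  · -- surjective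
    intro a
    obtain ⟨a', ha'⟩ : ∃ a' : W ⟶ A, g₂ ≫ a = f₂ ≫ a' :=
      Triangle.yoneda_exact₂ _ hT' (g₂ ≫ a) (by
        show f₁ ≫ g₂ ≫ a = 0
        rw [← Category.assoc, hg12, zero_comp])
    have hc0 : g₂ ≫ (a - h₃ ≫ a') = 0 := by
      rw [Preadditive.comp_sub, ← Category.assoc, hcomm₂, ha', sub_self]
    have hb : ∀ j, ∃ b : (shiftFunctor D (1 : ℤ)).obj (X j) ⟶ A,
        Sigma.ι Z j ≫ (a - h₃ ≫ a') = (T j).mor₃ ≫ b := by
      intro j
      apply Triangle.yoneda_exact₃ _ (hT j)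
      rw [← Category.assoc, ← hι₂, Category.assoc, hc0, comp_zero]
    choose b hb' using hb
    let bt : (shiftFunctor D (1 : ℤ)).obj (∐ X) ⟶ A := Cofan.IsColimit.desc hcol b
    have hbt : ∀ j, (shiftFunctor D (1 : ℤ)).map (Sigma.ι X j) ≫ bt = b j :=
      fun j => Cofan.IsColimit.fac hcol b j
    have hcb : a - h₃ ≫ a' = g₃ ≫ bt := by
      apply Limits.Sigma.hom_ext
      intro j
      rw [hb' j, ← Category.assoc, hι₃, Category.assoc, hbt]
    refine ⟨a' + f₃ ≫ bt, ?_⟩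
    show h₃ ≫ (a' + f₃ ≫ bt) = a
    rw [Preadditive.comp_add, ← Category.assoc, ← hcomm₃, ← hcb]
    abel

end Groth.Agent.S6593
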