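import Groth.Statements.S5611
import Mathlib
import Groth.Agent.Lib.Helper1TorG
import Groth.Agent.S7019
-- import your own Groth.Agent.* helpers here

set_option autoImplicit false
universe u
open CategoryTheory CategoryTheory.Limits
attribute [local instance] HasDerivedCategory.standard
open DRing

namespace Groth.Agent.S5611

open Groth.Agent.Lib.Helper1.Tor DerivedCategory Pretriangulated Groth.Agent.S14388
open Groth.Agent.Lib.Helper1.Cone Groth.Agent.Lib.Helper1.ProjRes Groth.Agent.S7017
open Groth.Agent.Lib.Helper1.PC Groth.Agent.Lib.Helper1.PCTower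

variable {A : Type u} [CommRing A]

/-- variant of `finiteProjective_truncGE` -/
lemma finiteProjective_truncGE' (F : DRing.Cx A) (hFf : DRing.TermwiseFlat F) (a c : ℤ)
    (h : TorVan F a c)
    (hfin : ∀ i : ℤ, a ≤ i → Module.Finite A (F.X i) ∧ Module.Projective A (F.X i))
    (hfin' : Module.Finite A (F.X (a - 1))) : DRing.TermwiseFiniteProjective (F.truncGE a) := by
  intro i
  obtain hi | rfl | hi := lt_trichotomy i a
  · have := ModuleCat.subsingleton_of_isZero ((F.truncGE a).isZero_of_isStrictlyGE a i hi)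
    exact ⟨inferInstance, inferInstance⟩
  · have hsurj : Function.Surjective (F.pOpcycles i).hom :=
      (ModuleCat.epi_iff_surjective _).1 inferInstance
    have hexd := fexact_d_pOpcycles F i
    have hflat : Module.Flat A (F.opcycles i) :=
      flat_of_torVan F hFf i c h (F.pOpcycles i).hom hsurj hexd
    have := (hfin i le_rfl).1
    have := (hfin i le_rfl).2
    have : Module.FinitePresentation A (F.X i) := Module.finitePresentation_of_projective A _
    have hfp : Module.FinitePresentation A (F.opcycles i) := by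
      refine Module.finitePresentation_of_surjective (F.pOpcycles i).hom hsurj ?_
      rw [LinearMap.exact_iff.1 hexd, LinearMap.range_eq_map]
      exact Submodule.FG.map _ Module.Finite.fg_top
    have hproj : Module.Projective A (F.opcycles i) := Module.Flat.projective_of_finitePresentation
    have hfin : Module.Finite A (F.opcycles i) := Module.Finite.of_surjective _ hsurj
    exact ⟨Module.Finite.equiv (F.truncGEXIsoOpcycles i).toLinearEquiv.symm,
      Module.Projective.of_equiv (F.truncGEXIsoOpcycles i).toLinearEquiv.symm⟩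
  · have := (hfin i hi.le).1
    have := (hfin i hi.le).2
    exact ⟨Module.Finite.equiv (F.truncGEXIso a i hi).toLinearEquiv.symm,
      Module.Projective.of_equiv (F.truncGEXIso a i hi).toLinearEquiv.symm⟩

/-- `(m-1)`-pseudo-coherent with tor amplitude in `[m, n]` implies perfect -/
lemma isPerfect_of_pc_of_torAmp (K : Dual.D A) (m n : ℤ)
    (hpc : DRing.IsPseudoCoherent A (m - 1) K) (hTA : DRing.HasTorAmplitudeIn A m n K) :
    DRing.IsPerfect A K := by
  obtain ⟨P, α₀, ⟨E, ⟨bE, hbE⟩, _, hff, ⟨eE⟩⟩, hα₀⟩ := (isPC_iff (m - 1) K).1 hpc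
  obtain ⟨α, hα⟩ : ∃ α : Q.obj E ⟶ K, Conn (m - 1) α :=
    ⟨eE.hom ≫ α₀, (Conn.of_isIso (m - 1) eE.hom).comp hα₀⟩
  obtain ⟨C, v, w, hT⟩ := distinguished_cocone_triangle α
  have hC : C.IsLE (m - 1 - 1) := (conn_iff_of_distTriang _ hT (m - 1)).1 hα
  have hT' := inv_rot_of_distTriang _ hT
  have hC' : (C⟦(-1 : ℤ)⟧).IsLE (m - 1) := tt.isLE_shift C (m - 1 - 1) (-1) (m - 1) (by lia)
  obtain ⟨PC, hPCle, hPCproj, ⟨eC⟩⟩ := exists_iso_Q_proj (C⟦(-1 : ℤ)⟧) (m - 1)
  have hKP : PC.IsKProjective := CochainComplex.isKProjective_of_projective PC (m - 1)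
  obtain ⟨φ, hφ⟩ := exists_chain_map PC E (eC.hom ≫ (Triangle.mk α v w).invRotate.mor₁)
  have hTφ := DerivedCategory.mappingCone_triangle_distinguished φ
  have comm : (Q.mapTriangle.obj (CochainComplex.mappingCone.triangle φ)).mor₁ ≫
      (Iso.refl (Q.obj E)).hom = eC.hom ≫ (Triangle.mk α v w).invRotate.mor₁ := by
    show Q.map φ ≫ 𝟙 _ = _
    rw [Category.comp_id]
    exact hφ
  have e₃ : Q.obj (CochainComplex.mappingCone φ) ≅ K :=
    Triangle.π₃.mapIso (isoTriangleOfIso₁₂ _ _ hTφ hT' eC (Iso.refl _) comm)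
  set G := CochainComplex.mappingCone φ with hG
  have hPCb : DRing.VanishesAbove PC (m - 1) := fun i hi => PC.isZero_of_isStrictlyLE (m - 1) i hi
  have hPCf := termwiseFlat_of_projective PC hPCproj
  have hEf : DRing.TermwiseFlat E := fun i =>
    have := (hff i).2
    inferInstance
  have hGb : DRing.VanishesAbove G (max (m - 1) bE) := vanishesAbove_mappingCone φ _ _ hPCb hbE
  have hGf : DRing.TermwiseFlat G := termwiseFlat_mappingCone φ hPCf hEf
  obtain ⟨E', hE', hE'f, ⟨eE'⟩⟩ := hTA
  have htv : TorVan G m n := torVan_of_iso G E' _ hGb hGf m n hE' hE'f (eE' ≪≫ e₃.symm)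
  have hGX : ∀ i : ℤ, m - 1 ≤ i → Module.Finite A (G.X i) ∧ Module.Projective A (G.X i) := by
    intro i hi
    have := isIso_inr_f φ i (hPCb (i + 1) (by lia))
    have e := (asIso ((CochainComplex.mappingCone.inr φ).f i)).toLinearEquiv
    have := (hff i).1
    have := (hff i).2
    exact ⟨Module.Finite.equiv e, Module.Projective.of_equiv e⟩
  have hGge : CochainComplex.IsGE G m := by
    rw [CochainComplex.isGE_iff]
    exact fun i hi => htv.exactAt i (Or.inl hi)
  have hq : QuasiIso (G.πTruncGE m) := (G.quasiIso_πTruncGE_iff m).2 hGge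
  have hiso : IsIso (Q.map (G.πTruncGE m)) :=
    (DerivedCategory.isIso_Q_map_iff_quasiIso (φ := G.πTruncGE m)).2 hq
  have hG'fp : DRing.TermwiseFiniteProjective (G.truncGE m) :=
    finiteProjective_truncGE' G hGf m n htv (fun i hi => hGX i (by lia)) (hGX (m - 1) le_rfl).1
  refine ⟨G.truncGE m, m, max (max (m - 1) bE) m, ?_, hG'fp,
    ⟨(asIso (Q.map (G.πTruncGE m))).symm ≪≫ e₃⟩⟩
  intro i hi
  rcases hi with hi | hi
  · exact (G.truncGE m).isZero_of_isStrictlyGE m i hi
  · have hi1 : m < i := lt_of_le_of_lt (le_max_right _ _) hi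
    have hi2 : max (m - 1) bE < i := lt_of_le_of_lt (le_max_left _ _) hi
    exact (hGb i hi2).of_iso (G.truncGEXIso m i hi1)

/-- For the punctual topos ringed by a commutative ring A: let K ∈ D(A) and m ≤ n. Then K has perfect
amplitude in [m, n], that is K is isomorphic in D(A) to a complex of finite projective modules
vanishing outside [m, n], if and only if K is (m - 1)-pseudo-coherent and has tor amplitude in [m,
n] (isomorphic to a complex of flat modules vanishing outside [m, n]). -/
theorem result {A : Type u} [CommRing A]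
    (K : Dual.D A) (m n : ℤ) (hmn : m ≤ n) :
    (DRing.IsPseudoCoherent A (m - 1) K ∧ DRing.HasTorAmplitudeIn A m n K) ↔
      ∃ E : DRing.Cx A, DRing.VanishesOutside E m n ∧ DRing.TermwiseFiniteProjective E ∧
        Nonempty (DRing.toD E ≅ K) := by
  constructor
  · rintro ⟨hpc, hTA⟩
    have hperf := isPerfect_of_pc_of_torAmp K m n hpc hTA
    exact exists_finiteProjective_of_pc_of_torAmp K
      (Groth.Agent.S7019.isPC'_of_isPerfect K hperf) m n hTA
  · rintro ⟨E, hE, hP, ⟨e⟩⟩
    refine ⟨isPC_of_iso e (isPC_of_bdd_finProj E m n hE hP (m - 1)), E, hE, fun i => ?_, ⟨e⟩⟩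
    have := (hP i).2
    infer_instance

end Groth.Agent.S5611
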