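import Groth.Statements.S6590
import Mathlib
import Groth.Agent.Lib.Helper23IRes
-- import your own Groth.Agent.* helpers here

set_option autoImplicit false
universe v u
open CategoryTheory
open CohDer

namespace Groth.Agent.S6590
open Groth.Agent.Lib.Helper23IRes


/-- Let I be a class of objects in an abelian category containing a zero object and such that every
object is a subobject of an object in I. For a cochain complex K vanishing in degrees below a there
is a quasi-isomorphism K ⟶ L, a monomorphism in each degree, where L has all terms in I and also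
vanishes below degree a. -/
theorem result {A : Type u} [Category.{v} A] [Abelian A] (I : A → Prop)
    (hI0 : ∃ Z : A, Limits.IsZero Z ∧ I Z) (hI : ∀ X : A, ∃ (Y : A) (ι : X ⟶ Y), I Y ∧ Mono ι)
    (K : CochainComplex A ℤ) (a : ℤ) [K.IsStrictlyGE a] :
    ∃ (L : CochainComplex A ℤ) (α : K ⟶ L), L.IsStrictlyGE a ∧ (∀ n, I (L.X n)) ∧ (∀ n, Mono (α.f n)) ∧ QuasiIso α := by
  obtain ⟨Z, hZ, hIZ⟩ := hI0
  -- the isomorphism closure of `I`
  let I' : A → Prop := fun X => ∃ Y, I Y ∧ Nonempty (X ≅ Y)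
  have hI' : ∀ X : A, ∃ (Y : A) (ι : X ⟶ Y), I' Y ∧ Mono ι := by
    intro X
    obtain ⟨Y, ι, hY, hι⟩ := hI X
    exact ⟨Y, ι, ⟨Y, hY, ⟨Iso.refl _⟩⟩, hι⟩
  obtain ⟨L, α, hL, hLI, hm, hq⟩ := exists_int_isoClosed I' hI'
    (fun X Y e ⟨W, hW, ⟨e'⟩⟩ => ⟨W, hW, ⟨e.symm ≪≫ e'⟩⟩)
    (fun W hW => ⟨Z, hIZ, ⟨hW.iso hZ⟩⟩) K a
  choose Y hY eY using hLI
  let e : ∀ n, L.X n ≅ Y n := fun n => (eY n).some
  refine ⟨replace L Y e, α ≫ (replaceIso L Y e).hom,
    CochainComplex.isStrictlyGE_of_iso (replaceIso L Y e) a, hY, fun n => ?_, inferInstance⟩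
  rw [HomologicalComplex.comp_f, replaceIso_hom_f]
  have := hm n
  have h2 : IsIso (e n).hom := Iso.isIso_hom (e n)
  have h3 : Mono (e n).hom := inferInstance
  exact @mono_comp _ _ _ _ _ (α.f n) (hm n) (e n).hom h3

end Groth.Agent.S6590
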