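import Groth.Statements.S0970
import Mathlib
import Groth.Agent.S6590
import Groth.Agent.Lib.Helper23Dual
-- import your own Groth.Agent.* helpers here

set_option autoImplicit false
universe v u
open CategoryTheory
open CohDer

namespace Groth.Agent.S0970
open Opposite Groth.Agent.Lib.Helper23Dual


/-- Let P be a class of objects in an abelian category containing a zero object and such that every
object is a quotient of an object in P. For a cochain complex K vanishing in degrees above a there
is a quasi-isomorphism Q ⟶ K, surjective in each degree, where Q has all terms in P and also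
vanishes above degree a. -/
theorem result {A : Type u} [Category.{v} A] [Abelian A] (P : A → Prop)
    (hP0 : ∃ Z : A, Limits.IsZero Z ∧ P Z) (hP : ∀ X : A, ∃ (Y : A) (π : Y ⟶ X), P Y ∧ Epi π)
    (K : CochainComplex A ℤ) (a : ℤ) [K.IsStrictlyLE a] :
    ∃ (Q : CochainComplex A ℤ) (α : Q ⟶ K), Q.IsStrictlyLE a ∧ (∀ n, P (Q.X n)) ∧ (∀ n, Epi (α.f n)) ∧ QuasiIso α := by
  obtain ⟨Z, hZ, hPZ⟩ := hP0
  let I' : Aᵒᵖ → Prop := fun X => P (unop X)
  have := isStrictlyGE_dual K a
  obtain ⟨L₂, α₂, hL₂, hLI, hm, hq⟩ := Groth.Agent.S6590.result I' ⟨op Z, hZ.op, hPZ⟩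
    (fun X => by
      obtain ⟨Y, π, hY, hπ⟩ := hP (unop X)
      exact ⟨op Y, π.op, hY, inferInstance⟩) (dual K) (-a)
  refine ⟨dual' L₂, dualMap' α₂ ≫ (ddIso K).hom, isStrictlyLE_dual' L₂ a, fun n => hLI (-n),
    fun n => ?_, ?_⟩
  · rw [HomologicalComplex.comp_f, dualMap'_f, ddIso_hom_f]
    have h1 : Mono (α₂.f (-n)) := hm (-n)
    have h2 : Epi (α₂.f (-n)).unop := unop_epi_of_mono _
    have h3 : Epi (K.XIsoOfEq (neg_neg n)).hom := inferInstance
    exact @epi_comp _ _ _ _ _ (α₂.f (-n)).unop h2 _ h3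
  · have := (quasiIso_dualMap'_iff α₂).2 hq
    infer_instance

end Groth.Agent.S0970
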