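import Groth.Statements.S11130
import Mathlib
import Groth.Agent.Lib.Helper26FpqcMod
import Groth.Agent.Lib.Helper23QCohAbelian
import Groth.Agent.Lib.Helper23QCohLocal
import Groth.Agent.Lib.Helper2PullbackSec
import Groth.Agent.Lib.Helper23TensorQCoh
-- import your own Groth.Agent.* helpers here

set_option autoImplicit false
set_option linter.style.haveILetI false
set_option linter.unusedSectionVars false
universe u
open CategoryTheory AlgebraicGeometry
open Desc

namespace Groth.Agent.S11130

open Limits
open Groth.Agent.Lib.Helper23.QCohLocal Groth.Agent.Lib.Helper2.PullbackSec Groth.Agent.Lib.Helper23.TensorQCoh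

/-- the unit of the pullback–pushforward adjunction of a flat surjective morphism is a monomorphism -/
theorem mono_unit {X Y : Scheme.{u}} (f : X ⟶ Y) [Flat f] [Surjective f] (N : Y.Modules) :
    Mono ((Scheme.Modules.pullbackPushforwardAdjunction f).unit.app N) := by
  refine Groth.Agent.Lib.Helper26.FpqcMod.mono_of_family (fun _ : Unit => f)
    (fun y => ⟨(), f.surjective y⟩) _ (fun _ => ?_)
  exact (SplitMono.mk ((Scheme.Modules.pullbackPushforwardAdjunction f).counit.app _)
    ((Scheme.Modules.pullbackPushforwardAdjunction f).left_triangle_components N)).mono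

/-- the quasi-compact quasi-separated case -/
theorem qcqs_case {X Y : Scheme.{u}} (f : X ⟶ Y) [Flat f] [Surjective f] [QuasiCompact f]
    [QuasiSeparated f] (M : Y.Modules)
    (h : ((Scheme.Modules.pullback f).obj M).IsQuasicoherent) : M.IsQuasicoherent := by
  let adj := Scheme.Modules.pullbackPushforwardAdjunction f
  let Q₀ : Y.Modules := (Scheme.Modules.pushforward f).obj ((Scheme.Modules.pullback f).obj M)
  haveI hQ₀ : Q₀.IsQuasicoherent := isQuasicoherent_pushforward f _
  let u : M ⟶ Q₀ := adj.unit.app M
  haveI : Mono u := mono_unit f M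
  let C : Y.Modules := cokernel u
  haveI hfQ₀ : ((Scheme.Modules.pullback f).obj Q₀).IsQuasicoherent := isQuasicoherent_pullback f Q₀
  haveI hcok : (cokernel ((Scheme.Modules.pullback f).map u)).IsQuasicoherent :=
    isQuasicoherent_cokernel _
  haveI hfC : ((Scheme.Modules.pullback f).obj C).IsQuasicoherent :=
    isQuasicoherent_of_iso (PreservesCokernel.iso (Scheme.Modules.pullback f) u).symm
  let Q₁ : Y.Modules := (Scheme.Modules.pushforward f).obj ((Scheme.Modules.pullback f).obj C)
  haveI hQ₁ : Q₁.IsQuasicoherent := isQuasicoherent_pushforward f _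
  let u' : C ⟶ Q₁ := adj.unit.app C
  haveI : Mono u' := mono_unit f C
  haveI hker : (kernel (cokernel.π u ≫ u')).IsQuasicoherent := isQuasicoherent_kernel _
  have e : kernel (cokernel.π u ≫ u') ≅ M :=
    kernelCompMono (cokernel.π u) u' ≪≫ (asIso (Abelian.factorThruImage u)).symm
  exact isQuasicoherent_of_iso e

/-- the case of an affine target -/
theorem affine_case {X Y : Scheme.{u}} [IsAffine Y] (f : X ⟶ Y) [Flat f] [Surjective f]
    [QuasiCompact f] (M : Y.Modules)
    (h : ((Scheme.Modules.pullback f).obj M).IsQuasicoherent) : M.IsQuasicoherent := by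
  haveI : CompactSpace X := QuasiCompact.compactSpace_of_compactSpace f
  let 𝒰 : X.OpenCover := X.affineCover.finiteSubcover
  let p : ∐ 𝒰.X ⟶ X := Sigma.desc 𝒰.f
  haveI : Flat p := inferInstance
  haveI : Surjective p := inferInstance
  haveI : IsAffine (∐ 𝒰.X) := inferInstance
  haveI : ((Scheme.Modules.pullback (p ≫ f)).obj M).IsQuasicoherent := by
    have h1 := isQuasicoherent_pullback p ((Scheme.Modules.pullback f).obj M)
    exact isQuasicoherent_of_iso (hM := h1) ((Scheme.Modules.pullbackComp p f).app M)
  exact qcqs_case (p ≫ f) M inferInstance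

theorem general_case {X Y : Scheme.{u}} (f : X ⟶ Y) [Flat f] [Surjective f]
    [QuasiCompact f] (M : Y.Modules)
    (h : ((Scheme.Modules.pullback f).obj M).IsQuasicoherent) : M.IsQuasicoherent := by
  refine isQuasicoherent_of_forall_affine M (fun V hV => ?_)
  let j := hV.fromSpec
  haveI : ((Scheme.Modules.pullback (pullback.snd f j)).obj
      ((Scheme.Modules.pullback j).obj M)).IsQuasicoherent := by
    haveI h1 := isQuasicoherent_pullback (pullback.fst f j) ((Scheme.Modules.pullback f).obj M)
    haveI h2 : ((Scheme.Modules.pullback (pullback.fst f j ≫ f)).obj M).IsQuasicoherent :=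
      isQuasicoherent_of_iso (hM := h1) ((Scheme.Modules.pullbackComp (pullback.fst f j) f).app M)
    haveI h3 : ((Scheme.Modules.pullback (pullback.snd f j ≫ j)).obj M).IsQuasicoherent :=
      isQuasicoherent_of_iso ((Scheme.Modules.pullbackCongr pullback.condition).app M)
    exact isQuasicoherent_of_iso ((Scheme.Modules.pullbackComp (pullback.snd f j) j).app M).symm
  haveI h4 : ((Scheme.Modules.pullback j).obj M).IsQuasicoherent :=
    affine_case (pullback.snd f j) _ inferInstance
  exact isQuasicoherent_of_iso ((Scheme.Modules.restrictFunctorIsoPullback j).app M).symm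


/-- Let f : X → Y be a flat, surjective and quasi-compact morphism of schemes and M any O_Y-module. Then
M is quasi-coherent if and only if the pullback f^*M is quasi-coherent. -/
theorem result {X Y : Scheme.{u}} (f : X ⟶ Y)
    [Flat f] [Surjective f] [QuasiCompact f] (M : Y.Modules) :
    Coh.IsQCoh M ↔ Coh.IsQCoh ((Scheme.Modules.pullback f).obj M) := by
  constructor
  · intro h
    haveI : M.IsQuasicoherent := h
    exact isQuasicoherent_pullback f M
  · intro h
    exact general_case f M h

end Groth.Agent.S11130
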