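import Groth.Statements.S6961
import Mathlib
import Groth.Agent.Lib.Helper1TorI
import Groth.Agent.S7019
-- import your own Groth.Agent.* helpers here

set_option autoImplicit false
universe u
open CategoryTheory CategoryTheory.Limits
attribute [local instance] HasDerivedCategory.standard
open DRing

namespace Groth.Agent.S6961

open Groth.Agent.Lib.Helper1.Tor Groth.Agent.Lib.Helper1.Extend DerivedCategory

/-- Let R → R' be a faithfully flat homomorphism of commutative rings and K a cochain complex of
R-modules. If the termwise base change K ⊗_R R' is a perfect object of D(R'), then K is a perfect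
object of D(R). -/
theorem result {R R' : Type u} [CommRing R] [CommRing R'] [Algebra R R']
    [Module.FaithfullyFlat R R'] (K : DRing.Cx R)
    (hK : DRing.IsPerfect R' (DRing.toD (((ModuleCat.extendScalars (algebraMap R R')).mapHomologicalComplex
        (ComplexShape.up ℤ)).obj K))) :
    DRing.IsPerfect R (DRing.toD K) := by
  have hpc' : DRing.IsPseudoCoherent' R' ((extD R R').obj (Q.obj K)) := by
    obtain ⟨E, b, hE, hff, ⟨e⟩⟩ := Groth.Agent.S7019.isPC'_of_isPerfect _ hK
    exact ⟨E, b, hE, hff, ⟨e ≪≫ (mapQIso (ext R R') K).symm⟩⟩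
  have hpc : DRing.IsPseudoCoherent' R (Q.obj K) := isPC'_of_extD (Q.obj K) hpc'
  obtain ⟨E, a, b, hE, hP, ⟨e⟩⟩ := hK
  have hTA' : DRing.HasTorAmplitudeIn R' a b ((extD R R').obj (Q.obj K)) :=
    ⟨E, hE, fun i => by
      have := (hP i).2
      infer_instance, ⟨e ≪≫ (mapQIso (ext R R') K).symm⟩⟩
  have hTA := hasTorAmp_of_extD (Q.obj K) a b hTA'
  obtain ⟨E₀, hE₀, hE₀p, hiso⟩ := exists_finiteProjective_of_pc_of_torAmp (Q.obj K) hpc a b hTA
  exact ⟨E₀, a, b, hE₀, hE₀p, hiso⟩

end Groth.Agent.S6961
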