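import Groth.Statements.S2137
import Mathlib
import Groth.Agent.Lib.Helper1LBC2
import Groth.Agent.Lib.Helper1TorF
-- import your own Groth.Agent.* helpers here

set_option autoImplicit false
universe u
open CategoryTheory
attribute [local instance] HasDerivedCategory.standard
open CAlg

namespace Groth.Agent.S2137

open Groth.Agent.Lib.Helper1.LDer Groth.Agent.Lib.Helper1.PC Groth.Agent.Lib.Helper1.Tor
open Groth.Agent.Lib.Helper1.Cone Groth.Agent.Lib.Helper1.ProjRes DerivedCategory Limits

/-- Let `A → B` be a ring map and `K` an `m`-pseudo-coherent object of `D(A)`. Then `K ⊗^L_A B` is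
`m`-pseudo-coherent in `D(B)`. (Stated assuming the total left derived functor of base change exists
on `D(A)`, a fact not available as a library result here.) -/
theorem result {A B : Type u} [CommRing A] [CommRing B] (φ : A →+* B) [DRing.HasLBaseChange φ]
    (K : Dual.D A) (m : ℤ) (hK : DRing.IsPseudoCoherent A m K) :
    DRing.IsPseudoCoherent B m ((DRing.LBaseChange φ).obj K) := by
  obtain ⟨E, a, b, α, hE, hff, h1, h2⟩ := hK
  have hα : Conn m α := ⟨h1, h2⟩
  have hEb : DRing.VanishesAbove E b := fun i hi => hE i (Or.inr hi)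
  -- `K` is bounded above
  have hKle : K.IsLE (max m b) := by
    rw [DerivedCategory.isLE_iff]
    intro i hi
    have := h1 i (by have := le_max_left m b; lia)
    have hz : IsZero ((homologyFunctor (ModuleCat.{u} A) i).obj (Q.obj E)) :=
      (exactAt_iff_isZero_H E i).1
        (exactAt_of_isZero_X E i (hEb i (by have := le_max_right m b; lia)))
    exact hz.of_iso (asIso ((homologyFunctor (ModuleCat.{u} A) i).map α)).symm
  obtain ⟨P, hPle, hPproj, ⟨e⟩⟩ := exists_iso_Q_proj K (max m b)
  have hEK : E.IsKProjective :=
    isKProjective_of_vanishesAbove E b hEb (fun i =>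
      have := (hff i).2
      Module.Projective.of_free)
  have hPK : P.IsKProjective := CochainComplex.isKProjective_of_projective P (max m b)
  have hPb : DRing.VanishesAbove P (max m b) := fun i hi => P.isZero_of_isStrictlyLE _ i hi
  have hPf : DRing.TermwiseFlat P := termwiseFlat_of_projective P hPproj
  have hEf : DRing.TermwiseFlat E := fun i =>
    have := (hff i).2
    inferInstance
  obtain ⟨f, hf⟩ := exists_chain_map E P (α ≫ e.inv)
  have hfc : Conn m (Q.map f) := by
    rw [hf]
    exact hα.comp (Conn.of_isIso m e.inv)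
  have hbc := conn_bc φ f b (max m b) hEb hPb hEf hPf m hfc
  have hαf : α = Q.map f ≫ e.hom := by
    rw [hf, Category.assoc, Iso.inv_hom_id, Category.comp_id]
  have key : (lbcIso φ E).inv ≫ (DRing.LBaseChange φ).map α =
      Q.map ((bcCx φ).map f) ≫ (lbcIso φ P).inv ≫ (DRing.LBaseChange φ).map e.hom := by
    rw [hαf, Functor.map_comp, ← Category.assoc, ← Category.assoc]
    congr 1
    rw [Iso.inv_comp_eq, ← Category.assoc, Iso.eq_comp_inv]
    exact lbcIso_hom_naturality φ f
  have hc : Conn m ((lbcIso φ E).inv ≫ (DRing.LBaseChange φ).map α) := by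
    rw [key]
    exact hbc.comp (Conn.of_isIso m _)
  exact ⟨(bcCx φ).obj E, a, b, (lbcIso φ E).inv ≫ (DRing.LBaseChange φ).map α,
    vanishesOutside_bc φ E a b hE, termwiseFiniteFree_bc φ E hff, hc.1, hc.2⟩

end Groth.Agent.S2137
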