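import Groth.Statements.S6948
import Mathlib
import Groth.Agent.Lib.Helper1LBC2
import Groth.Agent.Lib.Helper1TorF
-- import your own Groth.Agent.* helpers here

set_option autoImplicit false
universe u
open CategoryTheory CategoryTheory.Limits
attribute [local instance] HasDerivedCategory.standard
open DRing

namespace Groth.Agent.S6948

open Groth.Agent.Lib.Helper1.LDer Groth.Agent.Lib.Helper1.PC Groth.Agent.Lib.Helper1.Tor
open Groth.Agent.Lib.Helper1.Cone Groth.Agent.Lib.Helper1.ProjRes DerivedCategory

/-- Let A → B be a homomorphism of commutative rings such that the derived base change D(A) → D(B)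
exists, and let K be an object of D(A) with tor amplitude in [a, b]. Then K ⊗^L_A B has tor
amplitude in [a, b] as an object of D(B). -/
theorem result {A B : Type u} [CommRing A] [CommRing B] (φ : A →+* B)
    [DRing.HasLBaseChange φ] (K : Dual.D A) (a b : ℤ) (hK : DRing.HasTorAmplitudeIn A a b K) :
    DRing.HasTorAmplitudeIn B a b ((DRing.LBaseChange φ).obj K) := by
  obtain ⟨E, hE, hEf, ⟨e⟩⟩ := hK
  have hEb : DRing.VanishesAbove E b := fun i hi => hE i (Or.inr hi)
  have hEle : E.IsStrictlyLE b := by
    rw [CochainComplex.isStrictlyLE_iff]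
    exact hEb
  obtain ⟨P, p, hp, hPproj, hPle⟩ := exists_proj_res E b
  have hPK : P.IsKProjective := CochainComplex.isKProjective_of_projective P b
  have hpi : IsIso (Q.map p) := (DerivedCategory.isIso_Q_map_iff_quasiIso (φ := p)).2 hp
  have hPb : DRing.VanishesAbove P b := fun i hi => P.isZero_of_isStrictlyLE b i hi
  have hPf : DRing.TermwiseFlat P := termwiseFlat_of_projective P hPproj
  have hbc : IsIso (Q.map ((bcCx φ).map p)) := isIso_Q_map_bc φ p b b hPb hEb hPf hEf hpi
  refine ⟨(bcCx φ).obj E, vanishesOutside_bc φ E a b hE, termwiseFlat_bc φ E hEf, ⟨?_⟩⟩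
  exact (asIso (Q.map ((bcCx φ).map p))).symm ≪≫ (lbcIso φ P).symm ≪≫
    (DRing.LBaseChange φ).mapIso (asIso (Q.map p) ≪≫ e)

end Groth.Agent.S6948
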