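import Groth.Statements.S6952
import Mathlib
import Groth.Agent.Lib.Helper1TorO
import Groth.Agent.S6948
-- import your own Groth.Agent.* helpers here

set_option autoImplicit false
universe u
open CategoryTheory CategoryTheory.Limits
attribute [local instance] HasDerivedCategory.standard
open DRing

namespace Groth.Agent.S6952

open DerivedCategory Groth.Agent.Lib.Helper1.KF Groth.Agent.Lib.Helper1.Tor
  Groth.Agent.Lib.Helper1.DT Groth.Agent.Lib.Helper1.LDer Groth.Agent.Lib.Helper1.TorM
  Groth.Agent.Lib.Helper1.TorN Groth.Agent.Lib.Helper1.TorO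

/-- Let R' → R be a surjective homomorphism of commutative rings whose kernel is a nilpotent ideal, such
that the derived base change D(R') → D(R) exists. Let K' be an object of D(R') and a, b integers.
Then K' ⊗^L R has tor amplitude in [a, b] over R if and only if K' has tor amplitude in [a, b] over
R'. -/
theorem result {R' R : Type u} [CommRing R']
    [CommRing R] (φ : R' →+* R) (hφ : Function.Surjective φ) (hnil : IsNilpotent (RingHom.ker φ))
    [DRing.HasLBaseChange φ] (K' : Dual.D R') (a b : ℤ) :
    DRing.HasTorAmplitudeIn R a b ((DRing.LBaseChange φ).obj K') ↔ DRing.HasTorAmplitudeIn R' a b K' := by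
  constructor
  · intro h
    obtain ⟨F, hF, hproj, ⟨e⟩⟩ := exists_kproj_iso K'
    have hFf : DRing.TermwiseFlat F := fun i =>
      have := hproj i
      have : Module.Projective R' (F.X i) := ModuleCat.projective_of_module_projective _
      inferInstance
    obtain ⟨E, hE, hEf, ⟨eE⟩⟩ := h
    have e2 : Q.obj E ≅ Q.obj ((DTen.extCx φ).obj F) :=
      eE ≪≫ (DRing.LBaseChange φ).mapIso e.symm ≪≫ lbcIso φ F
    have hGK : KFlat ((DTen.extCx φ).obj F) := kflat_of_isKProjective _
    have hv : TorVan ((DTen.extCx φ).obj F) a b := torVan_of_iso_kflat _ E hGK a b hE hEf e2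
    have hv' : TorVan F a b := torVan_of_torVan_extCx φ hφ hnil F hFf a b hv
    exact hasTorAmp_of_iso e (hasTorAmp_of_torVan_kflat F (kflat_of_isKProjective F) a b hv')
  · intro h
    exact Groth.Agent.S6948.result φ K' a b h

end Groth.Agent.S6952
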