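import Groth.Statements.S6984
import Mathlib
import Groth.Agent.Lib.Helper1RelPC3
-- import your own Groth.Agent.* helpers here

set_option autoImplicit false
universe u
open CategoryTheory CategoryTheory.Limits
attribute [local instance] HasDerivedCategory.standard
open DerCA

namespace Groth.Agent.S6984

open Groth.Agent.Lib.Helper1.RelPC Groth.Agent.Lib.Helper1.Restrict Groth.Agent.Lib.Helper1.PC
open DerivedCategory

/-- Let R be a commutative ring, A → B a finite homomorphism of finite type R-algebras, K an object of
D(B) and m an integer. Then K is m-pseudo-coherent relative to R over B if and only if K, with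
scalars restricted to A, is m-pseudo-coherent relative to R over A; and K is pseudo-coherent
relative to R over B if and only if its restriction to A is pseudo-coherent relative to R. -/
theorem result {R A B : Type u} [CommRing R] [CommRing A] [CommRing B]
    [Algebra R A] [Algebra A B] [Algebra R B] [IsScalarTower R A B] [Algebra.FiniteType R A]
    [Algebra.FiniteType R B] [Module.Finite A B] (K : Dual.D B) (m : ℤ) :
    (DerCA.IsRelPseudoCoherent R B m K ↔
      DerCA.IsRelPseudoCoherent R A m ((DRing.restrictD (algebraMap A B)).obj K)) ∧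
      (DerCA.IsRelPseudoCoherentAll R B K ↔
        DerCA.IsRelPseudoCoherentAll R A ((DRing.restrictD (algebraMap A B)).obj K)) := by
  obtain ⟨n, α, hα⟩ := exists_presentation R A
  obtain ⟨k, b, hb⟩ := Module.Finite.exists_fin (R := A) (M := B)
  let α' : MvPolynomial (Fin n) R →+* A := α
  have hα' : Function.Surjective α' := hα
  let φ : MvPolynomial (Fin n) R →+* B := (algebraMap A B).comp α'
  let γ : MvPolynomial (Fin k) (MvPolynomial (Fin n) R) →+* B := MvPolynomial.eval₂Hom φ b
  have hγ : ∀ r : R, γ (MvPolynomial.C (MvPolynomial.C r)) = algebraMap R B r := by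
    intro r
    simp only [γ, φ, α', MvPolynomial.coe_eval₂Hom, MvPolynomial.eval₂_C, RingHom.comp_apply]
    have h1 : (α : MvPolynomial (Fin n) R →+* A) (MvPolynomial.C r) = algebraMap R A r :=
      α.commutes r
    rw [h1, ← IsScalarTower.algebraMap_apply]
  have hsurj : Function.Surjective γ := by
    intro y
    have hy : y ∈ Submodule.span A (Set.range b) := by rw [hb]; trivial
    obtain ⟨c, hc⟩ := (Submodule.mem_span_range_iff_exists_fun A).1 hy
    choose q hq using fun j => hα' (c j)
    refine ⟨∑ j, MvPolynomial.C (q j) * MvPolynomial.X j, ?_⟩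
    rw [map_sum, ← hc]
    refine Finset.sum_congr rfl (fun j _ => ?_)
    simp only [γ, φ, map_mul, MvPolynomial.coe_eval₂Hom, MvPolynomial.eval₂_C, MvPolynomial.eval₂_X,
      RingHom.comp_apply, hq, Algebra.smul_def]
  have hint : ∀ j, φ.IsIntegralElem (b j) := by
    intro j
    obtain ⟨q, hq, hqb⟩ := Algebra.IsIntegral.isIntegral (R := A) (b j)
    obtain ⟨q', hq', -, hq'm⟩ := Polynomial.lifts_and_natDegree_eq_and_monic
      ((Polynomial.mem_lifts q).2 (Polynomial.map_surjective α' hα' q)) hq
    refine ⟨q', hq'm, ?_⟩
    rw [← hq', Polynomial.eval₂_map] at hqb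
    exact hqb
  have key : ∀ j : ℤ, DerCA.IsRelPseudoCoherent R B j K ↔
      DerCA.IsRelPseudoCoherent R A j ((DRing.restrictD (algebraMap A B)).obj K) := by
    intro j
    rw [rel_iff_pc_twoStep γ hγ hsurj, rel_iff_via α hα]
    unfold DerCA.IsRelPseudoCoherentVia
    rw [isPC_restrictD_comp_iff]
    exact isPC_eval₂_iff_of_integral k _ B φ b hint K j
  exact ⟨key m, forall_congr' key⟩

end Groth.Agent.S6984
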