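import Groth.Statements.S0031
import Mathlib
import Groth.Agent.Lib.Helper23PushBound
import Groth.Agent.Lib.Helper23RelBound
-- import your own Groth.Agent.* helpers here

set_option autoImplicit false
universe u
open Coherent

namespace Groth.Agent.S0031


open Groth.Agent.Lib.Helper23.AffVanish Groth.Agent.Lib.Helper23.PushBound TopologicalSpace in
open AlgebraicGeometry CategoryTheory in
/-- If f : X → S is quasi-compact and quasi-separated and S is quasi-compact, there is an integer n with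
R^p f_* F = 0 for all p ≥ n and all quasi-coherent F (higher direct images of the underlying abelian
sheaves). -/
theorem result {X S : Scheme.{u}} (f : X ⟶ S) [QuasiCompact f]
    [QuasiSeparated f] [CompactSpace S] :
    ∃ n : ℕ, ∀ (M : X.Modules), Coh.IsQCoh M → ∀ p : ℕ, n ≤ p →
      Limits.IsZero ((Coh.RpushAb f p).obj (Coh.toAb M)) := by
  have hloc : ∀ x : S, ∃ V : S.Opens, IsAffineOpen V ∧ x ∈ V := by
    intro x
    obtain ⟨V, hV, hxV, -⟩ := (Opens.isBasis_iff_nbhd.1 S.isBasis_affineOpens) (Opens.mem_top x)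
    exact ⟨V, hV, hxV⟩
  choose Vx hVa hxV using hloc
  obtain ⟨s, hs⟩ := isCompact_univ.elim_finite_subcover (fun x : S => (Vx x : Set S))
    (fun x => (Vx x).2) (fun y _ => Set.mem_iUnion.2 ⟨y, hxV y⟩)
  have hb : ∀ x : S, ∃ d : ℕ, ∀ V : S.Opens, IsAffineOpen V → V ≤ Vx x →
      ∀ (F : X.Modules) [F.IsQuasicoherent] (n : ℕ), d ≤ n → Subsingleton (HE (ab' F) n (f ⁻¹ᵁ V)) :=
    fun x => exists_bound_preimage f (hVa x)
  choose dx hdx using hb
  let d : ℕ := s.sup dx
  let B : Set S.Opens := {V | IsAffineOpen V ∧ ∃ x ∈ s, V ≤ Vx x}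
  have hB : Opens.IsBasis B := by
    rw [Opens.isBasis_iff_nbhd]
    intro U y hy
    obtain ⟨x, hx⟩ := Set.mem_iUnion.1 (hs (Set.mem_univ y))
    obtain ⟨hxs, hyx⟩ := Set.mem_iUnion.1 hx
    obtain ⟨V, hV, hyV, hVle⟩ := (Opens.isBasis_iff_nbhd.1 S.isBasis_affineOpens)
      (show y ∈ U ⊓ Vx x from ⟨hy, hyx⟩)
    exact ⟨V, ⟨hV, x, hxs, hVle.trans inf_le_right⟩, hyV, hVle.trans inf_le_left⟩
  refine ⟨d + 1, fun M hM p hp => ?_⟩
  haveI : M.IsQuasicoherent := hM
  obtain ⟨p', rfl⟩ : ∃ p', p = p' + 1 := ⟨p - 1, by omega⟩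
  refine isZero_Rpush_of_basis_bound f.base B hB (ab' M) d ?_ p' (by omega)
  rintro V ⟨hV, x, hxs, hVx⟩ i hi
  exact hdx x V hV hVx M (i + 1) (le_trans (Finset.le_sup (f := dx) hxs) (by omega))

end Groth.Agent.S0031
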