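import Groth.Statements.S7420
import Groth.Agent.Lib.Helper11SN

set_option autoImplicit false
universe u
open CategoryTheory AlgebraicGeometry
open HTop

namespace Groth.Agent.S7420

open Groth.Agent.Lib.Helper11 TopologicalSpace

theorem affine_of_local (X : Scheme.{u}) (Q : ∀ (A : Type u) [CommRing A], Prop)
    (hloc : ∀ (A : Type u) [CommRing A] (B : Type u) [CommRing B] [Algebra A B] (f : A)
      [IsLocalization.Away f B], Q A → Q B)
    (hglue : ∀ (A : Type u) [CommRing A] (s : Finset A), Ideal.span (s : Set A) = ⊤ →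
      ∀ (B : A → Type u) [∀ f, CommRing (B f)] [∀ f, Algebra A (B f)],
      (∀ f ∈ s, IsLocalization.Away f (B f)) → (∀ f ∈ s, Q (B f)) → Q A)
    (h : ∀ x : X, ∃ U : X.affineOpens, x ∈ (U : X.Opens) ∧ Q Γ(X, U)) (V : X.affineOpens) :
    Q Γ(X, V) := by
  choose U hxU hU using h
  refine of_affine_open_cover (P := fun W => Q Γ(X, W)) U ?_ V ?_ ?_ hU
  · rw [eq_top_iff]
    intro x _
    exact Opens.mem_iSup.mpr ⟨x, hxU x⟩
  · intro W f hW
    have := W.2.isLocalization_basicOpen f
    exact hloc Γ(X, W) Γ(X, X.basicOpen f) f hW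
  · intro W s hs hW
    exact hglue Γ(X, W) s hs (fun f => Γ(X, X.basicOpen f))
      (fun f _ => W.2.isLocalization_basicOpen f) (fun f hf => hW ⟨f, hf⟩)

theorem local_of_affine (X : Scheme.{u}) (Q : ∀ (A : Type u) [CommRing A], Prop)
    (h : ∀ V : X.affineOpens, Q Γ(X, V)) (x : X) :
    ∃ U : X.affineOpens, x ∈ (U : X.Opens) ∧ Q Γ(X, U) := by
  obtain ⟨_, ⟨V, hV, rfl⟩, hxV, -⟩ :=
    X.isBasis_affineOpens.exists_subset_of_mem_open (Set.mem_univ x) isOpen_univ
  exact ⟨⟨V, hV⟩, hxV, h ⟨V, hV⟩⟩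


/-- A scheme `X` is seminormal if and only if `O_X(U)` is seminormal for every affine open `U ⊆ X`; the
same holds with 'seminormal' replaced by 'absolutely weakly normal'. -/
theorem result (X : Scheme.{u}) :
    (HTop.IsSeminormal X ↔ ∀ U : X.affineOpens, HTop.IsSeminormalRing Γ(X, U)) ∧
    (HTop.IsAWN X ↔ ∀ U : X.affineOpens, HTop.IsAWNRing Γ(X, U)) := by
  refine ⟨⟨fun h V => ?_, fun h x => ?_⟩, ⟨fun h V => ?_, fun h x => ?_⟩⟩
  · exact affine_of_local X (fun A _ => IsSeminormalRing A)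
      (fun A _ B _ _ f _ hA => isSeminormalRing_away f hA)
      (fun A _ s hs B _ _ hB hQ => isSeminormalRing_of_span s hs B hB hQ) h V
  · exact local_of_affine X (fun A _ => IsSeminormalRing A) h x
  · exact affine_of_local X (fun A _ => IsAWNRing A)
      (fun A _ B _ _ f _ hA => isAWNRing_away f hA)
      (fun A _ s hs B _ _ hB hQ => isAWNRing_of_span s hs B hB hQ) h V
  · exact local_of_affine X (fun A _ => IsAWNRing A) h x

end Groth.Agent.S7420
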