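import Groth.Statements.S5863
import Mathlib.AlgebraicGeometry.Morphisms.UniversallyInjective
import Mathlib.AlgebraicGeometry.Morphisms.FlatDescent
import Mathlib.AlgebraicGeometry.Fiber
import Mathlib.RingTheory.RingHom.PurelyInseparable
-- import your own Groth.Agent.* helpers here

set_option autoImplicit false
universe u
open RadPt

namespace Groth.Agent.S5863

open CategoryTheory AlgebraicGeometry Limits

/-- ring-hom form of `IsPurelyInseparable.tower_top` -/
theorem pi_tower_top {F E K : Type*} [Field F] [Field E] [Field K] (a : F →+* E) (b : E →+* K)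
    (h : (b.comp a).IsPurelyInseparable) : b.IsPurelyInseparable := by
  algebraize [a, b, b.comp a]
  exact IsPurelyInseparable.tower_top F E K

/-- ring-hom form of `IsPurelyInseparable.tower_bot` -/
theorem pi_tower_bot {F E K : Type*} [Field F] [Field E] [Field K] (a : F →+* E) (b : E →+* K)
    (h : (b.comp a).IsPurelyInseparable) : a.IsPurelyInseparable := by
  algebraize [a, b, b.comp a]
  exact IsPurelyInseparable.tower_bot F E K

theorem pi_congr {X Y : Scheme.{u}} {a b : X ⟶ Y} (e : a = b) (z : X)
    (h : (a.residueFieldMap z).hom.IsPurelyInseparable) :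
    (b.residueFieldMap z).hom.IsPurelyInseparable := by
  subst e; exact h

theorem rfm_comp_hom {X Y Z : Scheme.{u}} (f : X ⟶ Y) (g : Y ⟶ Z) (x : X) :
    ((f ≫ g).residueFieldMap x).hom =
      (f.residueFieldMap x).hom.comp (g.residueFieldMap (f x)).hom := by
  rw [Scheme.residueFieldMap_comp]
  rfl

theorem isRadicialAt_of_universallyInjective {X Y : Scheme.{u}} (f : X ⟶ Y)
    [UniversallyInjective f] (y : Y) : RadPt.IsRadicialAt f y := by
  have := ((tfae_universallyInjective f).out 0 2).mp ‹UniversallyInjective f›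
  exact ⟨fun x x' hx hx' => this.1 (hx.trans hx'.symm), fun x _ => this.2 x⟩

theorem universallyInjective_of_isRadicialAt {X Y : Scheme.{u}} (f : X ⟶ Y)
    (h : ∀ y, RadPt.IsRadicialAt f y) : UniversallyInjective f := by
  have key := (tfae_universallyInjective f).out 0 2
  exact key.mpr ⟨fun x x' e => (h (f x')).1 x x' e rfl, fun x => (h (f x)).2 x rfl⟩

theorem isRadicialAt_iff_fiber {X Y : Scheme.{u}} (f : X ⟶ Y) (y : Y) :
    RadPt.IsRadicialAt f y ↔ UniversallyInjective (f.fiberToSpecResidueField y) := by
  have fac : f.fiberι y ≫ f = f.fiberToSpecResidueField y ≫ Y.fromSpecResidueField y :=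
    f.fiber_fac y
  have hι : ∀ z, ((f.fiberι y).residueFieldMap z).hom.IsPurelyInseparable := fun z =>
    (isRadicialAt_of_universallyInjective (f.fiberι y) _).2 z rfl
  have hj : ∀ z, ((Y.fromSpecResidueField y).residueFieldMap z).hom.IsPurelyInseparable :=
    fun z => (isRadicialAt_of_universallyInjective (Y.fromSpecResidueField y) _).2 z rfl
  have hmem : ∀ z : f.fiber y, f (f.fiberι y z) = y := fun z => by
    have : f.fiberι y z ∈ Set.range (f.fiberι y) := ⟨z, rfl⟩
    rw [f.range_fiberι y] at this
    exact this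
  constructor
  · intro hf
    apply universallyInjective_of_isRadicialAt
    intro p
    refine ⟨fun z z' _ _ => ?_, fun z _ => ?_⟩
    · exact (f.fiberι y).isEmbedding.injective (hf.1 _ _ (hmem z) (hmem z'))
    · have h1 : ((f.fiberι y ≫ f).residueFieldMap z).hom.IsPurelyInseparable := by
        rw [rfm_comp_hom]
        exact RingHom.IsPurelyInseparable.comp (hf.2 _ (hmem z)) (hι z)
      have h2 := pi_congr fac z h1
      rw [rfm_comp_hom] at h2
      exact pi_tower_top _ _ h2
  · intro hφ
    have hφ' := fun p => isRadicialAt_of_universallyInjective (f.fiberToSpecResidueField y) p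
    refine ⟨fun x x' hx hx' => ?_, fun x hx => ?_⟩
    · have e1 := f.fiberι_fiberHomeo_symm y ⟨x, hx⟩
      have e2 := f.fiberι_fiberHomeo_symm y ⟨x', hx'⟩
      have : (f.fiberHomeo y).symm ⟨x, hx⟩ = (f.fiberHomeo y).symm ⟨x', hx'⟩ :=
        (hφ' _).1 _ _ rfl (Subsingleton.elim (α := PrimeSpectrum _) _ _)
      rw [this] at e1
      exact e1.symm.trans e2
    · obtain ⟨z, rfl⟩ : ∃ z, f.fiberι y z = x := ⟨_, f.fiberι_fiberHomeo_symm y ⟨x, hx⟩⟩
      have h1 : ((f.fiberToSpecResidueField y ≫ Y.fromSpecResidueField y).residueFieldMap z).hom.IsPurelyInseparable := by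
        rw [rfm_comp_hom]
        exact RingHom.IsPurelyInseparable.comp (hj _) ((hφ' _).2 z rfl)
      have h2 := pi_congr fac.symm z h1
      rw [rfm_comp_hom] at h2
      exact pi_tower_bot _ _ h2

open CategoryTheory AlgebraicGeometry in
/-- Let f : X → Y and h : Y' → Y be morphisms of schemes, f' : X ×_Y Y' → Y' the base change of f (any
cartesian square), y' a point of Y' and y = h(y'). Then f is radicial at y if and only if f' is
radicial at y'. -/
theorem result {X Y X' Y' : Scheme.{u}} {f : X ⟶ Y} {h : Y' ⟶ Y} {f' : X' ⟶ Y'} {h' : X' ⟶ X}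
    (sq : IsPullback h' f' f h) (y' : Y') :
    RadPt.IsRadicialAt f (h y') ↔ RadPt.IsRadicialAt f' y' := by
  rw [isRadicialAt_iff_fiber, isRadicialAt_iff_fiber]
  have pb := isPullback_fiberToSpecResidueField_of_isPullback sq y'
  constructor
  · intro hf
    exact MorphismProperty.of_isPullback (P := @UniversallyInjective) pb hf
  · intro hf'
    have hc : (@Surjective ⊓ @Flat ⊓ @QuasiCompact : MorphismProperty Scheme.{u})
        (Spec.map (h.residueFieldMap y')) := by
      refine ⟨⟨?_, ?_⟩, ?_⟩
      · exact ⟨fun p => ⟨IsLocalRing.closedPoint _, Subsingleton.elim (α := PrimeSpectrum _) _ _⟩⟩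
      · rw [HasRingHomProperty.Spec_iff (P := @Flat)]
        algebraize [(h.residueFieldMap y').hom]
        change Module.Flat _ _
        infer_instance
      · infer_instance
    exact MorphismProperty.of_isPullback_of_descendsAlong (P := @UniversallyInjective)
      (Q := (@Surjective ⊓ @Flat ⊓ @QuasiCompact : MorphismProperty Scheme.{u})) pb.flip hc hf'

end Groth.Agent.S5863
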