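import Groth.Statements.S13597
import Groth.Agent.Lib.Helper20Quot
import Groth.Agent.Lib.Helper20ResFrac
import Mathlib.RingTheory.Invariant.Galois

set_option autoImplicit false
universe u
open CategoryTheory AlgebraicGeometry
open SGA1

namespace Groth.Agent.S13597

open scoped Pointwise

open Groth.Agent.Lib.Helper20

theorem evaluation_appLE {X Y : Scheme.{u}} (f : X ⟶ Y) (V : Y.Opens) (U : X.Opens)
    (e : U ≤ f ⁻¹ᵁ V) (x : X) (hx : x ∈ U) (s : Γ(Y, V)) :
    (X.evaluation U x hx).hom ((f.appLE V U e).hom s) =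
      (f.residueFieldMap x).hom ((Y.evaluation V (f.base x) (e hx)).hom s) := by
  have h1 := Scheme.evaluation_naturality_apply f x (e hx) s
  refine Eq.trans ?_ h1.symm
  simp only [Scheme.Hom.appLE, Scheme.evaluation, CommRingCat.hom_comp, RingHom.comp_apply]
  congr 1
  exact TopCat.Presheaf.germ_res_apply X.presheaf (homOfLE e) x hx _

/-- Let a finite group G act on a scheme X and let p : X ⟶ Y be a quotient of X by G (affine,
G-invariant, sections of O_Y = G-invariant sections of O_X). For a point x of X with image y, the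
residue field κ(x) is a normal algebraic extension of κ(y) through the map induced by p, and the
stabilizer of x in G maps onto the group of κ(y)-automorphisms of κ(x): every automorphism τ of κ(x)
over κ(y) is the map on residue fields induced by some g ∈ G with g·x = x (composed with the
identification of the residue fields at g·x and x). -/
theorem result {X Y : Scheme.{u}} {G : Type u}
    [Group G] [Finite G] (ρ : G →* Aut X) (p : X ⟶ Y) (hp : SGA1.IsQuot ρ p) (x : X) :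
    (letI := (p.residueFieldMap x).hom.toAlgebra
     Normal (Y.residueField (p.base x)) (X.residueField x)) ∧
    ∀ τ : X.residueField x ≅ X.residueField x,
      p.residueFieldMap x ≫ τ.hom = p.residueFieldMap x →
      ∃ (g : G) (e : (ρ g).hom.base x = x),
        τ.hom = (X.residueFieldCongr e).inv ≫ (ρ g).hom.residueFieldMap x := by
  have haff := hp.affine
  obtain ⟨V, hV, hyV⟩ : ∃ V : Y.Opens, IsAffineOpen V ∧ p.base x ∈ V := by
    obtain ⟨_, ⟨V, hV, rfl⟩, hy, -⟩ :=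
      (Y.isBasis_affineOpens).exists_subset_of_mem_open (Set.mem_univ (p.base x)) isOpen_univ
    exact ⟨V, hV, hy⟩
  have hU : IsAffineOpen (p ⁻¹ᵁ V) := hV.preimage p
  have hxU : x ∈ p ⁻¹ᵁ V := hyV
  letI algAB : Algebra Γ(Y, V) Γ(X, p ⁻¹ᵁ V) := (p.app V).hom.toAlgebra
  letI act : MulSemiringAction G Γ(X, p ⁻¹ᵁ V) := sectionAction ρ p hp.inv V
  have hinvar : Algebra.IsInvariant Γ(Y, V) Γ(X, p ⁻¹ᵁ V) G := isInvariant hp V
  have hcomm : SMulCommClass G Γ(Y, V) Γ(X, p ⁻¹ᵁ V) := smulCommClass hp V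
  letI algKL : Algebra (Y.residueField (p.base x)) (X.residueField x) :=
    (p.residueFieldMap x).hom.toAlgebra
  let P : Ideal Γ(Y, V) := evalKer V (p.base x) hyV
  let Q : Ideal Γ(X, p ⁻¹ᵁ V) := evalKer (p ⁻¹ᵁ V) x hxU
  letI algPK : Algebra (Γ(Y, V) ⧸ P) (Y.residueField (p.base x)) :=
    (evalKerLift V (p.base x) hyV).toAlgebra
  letI algQL : Algebra (Γ(X, p ⁻¹ᵁ V) ⧸ Q) (X.residueField x) :=
    (evalKerLift (p ⁻¹ᵁ V) x hxU).toAlgebra
  have hfracA : IsFractionRing (Γ(Y, V) ⧸ P) (Y.residueField (p.base x)) :=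
    isFractionRing_evalKer hV (p.base x) hyV
  have hfracB : IsFractionRing (Γ(X, p ⁻¹ᵁ V) ⧸ Q) (X.residueField x) :=
    isFractionRing_evalKer hU x hxU
  have hnat : ∀ a : Γ(Y, V), algebraMap (Y.residueField (p.base x)) (X.residueField x)
      ((Y.evaluation V (p.base x) hyV).hom a) =
      (X.evaluation (p ⁻¹ᵁ V) x hxU).hom (algebraMap Γ(Y, V) Γ(X, p ⁻¹ᵁ V) a) :=
    fun a => Scheme.evaluation_naturality_apply p x hyV a
  have hlies : Q.LiesOver P := by
    refine ⟨?_⟩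
    ext a
    rw [Ideal.under_def, Ideal.mem_comap]
    change (Y.evaluation V (p.base x) hyV).hom a = 0 ↔
      (X.evaluation (p ⁻¹ᵁ V) x hxU).hom (algebraMap Γ(Y, V) Γ(X, p ⁻¹ᵁ V) a) = 0
    rw [← hnat]
    exact (map_eq_zero (algebraMap (Y.residueField (p.base x)) (X.residueField x))).symm
  letI algPL : Algebra (Γ(Y, V) ⧸ P) (X.residueField x) :=
    ((algebraMap (Y.residueField (p.base x)) (X.residueField x)).comp
      (algebraMap (Γ(Y, V) ⧸ P) (Y.residueField (p.base x)))).toAlgebra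
  have htower1 : IsScalarTower (Γ(Y, V) ⧸ P) (Y.residueField (p.base x)) (X.residueField x) :=
    IsScalarTower.of_algebraMap_eq (fun _ => rfl)
  have htower2 : IsScalarTower (Γ(Y, V) ⧸ P) (Γ(X, p ⁻¹ᵁ V) ⧸ Q) (X.residueField x) := by
    refine IsScalarTower.of_algebraMap_eq ?_
    rintro ⟨a⟩
    exact hnat a
  refine ⟨Ideal.IsFractionRing.normal G P Q (Y.residueField (p.base x)) (X.residueField x), ?_⟩
  intro τ hτ
  let τ' : (X.residueField x) ≃ₐ[Y.residueField (p.base x)] (X.residueField x) :=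
    AlgEquiv.ofRingEquiv (f := τ.commRingCatIsoToRingEquiv) (fun k => by
      have := congrArg (fun f => f.hom k) hτ
      exact this)
  obtain ⟨σ, hσ⟩ := IsFractionRing.stabilizerHom_surjective G P Q
    (Y.residueField (p.base x)) (X.residueField x) τ'
  have hσQ : (σ : G) • Q = Q := σ.2
  have hz : (ρ (σ : G)⁻¹).hom.base x ∈ p ⁻¹ᵁ V :=
    preimage_le_of_inv ρ p hp.inv (σ : G)⁻¹ V hxU
  have hsmul : ∀ b : Γ(X, p ⁻¹ᵁ V), (σ : G) • b = actHom ρ p hp.inv (σ : G)⁻¹ V b := fun b => rfl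
  have key : ∀ b : Γ(X, p ⁻¹ᵁ V),
      x ∈ X.basicOpen b ↔ (ρ (σ : G)⁻¹).hom.base x ∈ X.basicOpen b := by
    intro b
    have h1 : (σ : G) • b ∈ Q ↔ b ∈ Q := by
      have h0 : ∀ g : G, g • Q = Q → (g • b ∈ Q ↔ b ∈ Q) := by
        intro g hg
        have := Ideal.smul_mem_pointwise_smul_iff (a := g) (S := Q) (x := b)
        rwa [hg] at this
      exact h0 _ hσQ
    rw [hsmul] at h1
    have h2 : x ∉ X.basicOpen (actHom ρ p hp.inv (σ : G)⁻¹ V b) ↔ x ∉ X.basicOpen b := by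
      rw [← mem_evalKer (hx := hxU), ← mem_evalKer (hx := hxU)]
      exact h1
    have h3 : X.basicOpen (actHom ρ p hp.inv (σ : G)⁻¹ V b) =
        p ⁻¹ᵁ V ⊓ (ρ (σ : G)⁻¹).hom ⁻¹ᵁ (X.basicOpen b) :=
      Scheme.basicOpen_appLE _ _ _ _ b
    rw [h3] at h2
    have h4 := not_iff_not.mp h2
    exact ⟨fun h => (h4.mpr h).2, fun h => h4.mp ⟨hxU, h⟩⟩
  have e : (ρ (σ : G)⁻¹).hom.base x = x := eq_of_forall_mem_basicOpen_iff hU hxU hz key
  refine ⟨(σ : G)⁻¹, e, ?_⟩
  apply CommRingCat.hom_ext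
  apply IsLocalization.ringHom_ext (nonZeroDivisors (Γ(X, p ⁻¹ᵁ V) ⧸ Q))
  apply Ideal.Quotient.ringHom_ext
  ext b
  change τ.hom.hom ((X.evaluation (p ⁻¹ᵁ V) x hxU).hom b) =
    ((ρ (σ : G)⁻¹).hom.residueFieldMap x).hom ((X.residueFieldCongr e).inv.hom
      ((X.evaluation (p ⁻¹ᵁ V) x hxU).hom b))
  have hL : τ.hom.hom ((X.evaluation (p ⁻¹ᵁ V) x hxU).hom b) =
      (X.evaluation (p ⁻¹ᵁ V) x hxU).hom (actHom ρ p hp.inv (σ : G)⁻¹ V b) := by
    have h1 := IsFractionRing.stabilizerHom_apply_apply_mk G P Q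
      (Y.residueField (p.base x)) (X.residueField x) σ b
    rw [hσ] at h1
    exact h1
  rw [hL]
  have hR : (X.residueFieldCongr e).inv.hom ((X.evaluation (p ⁻¹ᵁ V) x hxU).hom b) =
      (X.evaluation (p ⁻¹ᵁ V) ((ρ (σ : G)⁻¹).hom.base x) hz).hom b := by
    rw [Scheme.residueFieldCongr_inv]
    exact evaluation_congr e.symm hxU b
  rw [hR]
  exact evaluation_appLE (ρ (σ : G)⁻¹).hom (p ⁻¹ᵁ V) (p ⁻¹ᵁ V) _ x hxU b

end Groth.Agent.S13597
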