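import Groth.Statements.S14460
import Mathlib
import Groth.Agent.Lib.Helper20GalFiber
import Groth.Agent.Lib.Helper22FEtGraph

set_option autoImplicit false
universe u
open CategoryTheory CategoryTheory.Limits AlgebraicGeometry
open Pi1

namespace Groth.Agent.S14460
open CategoryTheory CategoryTheory.Limits AlgebraicGeometry
open Groth.Agent.Lib.Helper20 Groth.Agent.Lib.Helper20.GalCat

/-- a finite etale morphism that is bijective on geometric points is an isomorphism -/
theorem isIso_of_bijective_geomPoints {A B : Scheme.{u}} (φ : A ⟶ B) [Etale φ]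
    (h : ∀ (Ω : Type u) [Field Ω] [IsAlgClosed Ω] (t : Spec (CommRingCat.of Ω) ⟶ B),
      ∃! t' : Spec (CommRingCat.of Ω) ⟶ A, t' ≫ φ = t) : IsIso φ := by
  haveI : Surjective φ := by
    refine ⟨fun b => ?_⟩
    obtain ⟨Ω, _, _, ζ, hζ⟩ := Groth.Agent.Lib.Helper22.FEtGraph.exists_geometric_point b
    obtain ⟨t', ht', -⟩ := h Ω ζ
    refine ⟨t' default, ?_⟩
    rw [← Scheme.Hom.comp_apply, ht']
    have : ζ default ∈ Set.range ζ := ⟨_, rfl⟩
    rw [hζ] at this
    exact this
  haveI : Mono φ := by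
    rw [← pullback.isIso_diagonal_iff]
    have hΔsurj : Function.Surjective (pullback.diagonal φ) := by
      intro w
      obtain ⟨Ω, _, _, ζ, hζ⟩ := Groth.Agent.Lib.Helper22.FEtGraph.exists_geometric_point w
      have h2 : ζ ≫ pullback.fst φ φ = ζ ≫ pullback.snd φ φ := by
        obtain ⟨t', -, ht'⟩ := h Ω ((ζ ≫ pullback.fst φ φ) ≫ φ)
        rw [ht' (ζ ≫ pullback.fst φ φ) rfl,
          ht' (ζ ≫ pullback.snd φ φ) (by
            change (ζ ≫ pullback.snd φ φ) ≫ φ = (ζ ≫ pullback.fst φ φ) ≫ φ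
            rw [Category.assoc, Category.assoc, pullback.condition])]
      have h3 : ζ = (ζ ≫ pullback.fst φ φ) ≫ pullback.diagonal φ := by
        apply pullback.hom_ext
        · simp
        · simp [h2]
      refine ⟨(ζ ≫ pullback.fst φ φ) default, ?_⟩
      rw [← Scheme.Hom.comp_apply, ← h3]
      have : ζ default ∈ Set.range ζ := ⟨_, rfl⟩
      rw [hζ] at this
      exact this
    haveI : Epi (pullback.diagonal φ).base := (TopCat.epi_iff_surjective _).mpr hΔsurj
    exact IsOpenImmersion.isIso (pullback.diagonal φ)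
  haveI : IsOpenImmersion φ := IsOpenImmersion.of_flat_of_mono φ
  haveI : Epi φ.base := (TopCat.epi_iff_surjective _).mpr φ.surjective
  exact IsOpenImmersion.isIso φ

theorem exists_factor_sigma {ι : Type u} (f : ι → Scheme.{u}) {Ω : Type u} [Field Ω]
    (t : Spec (CommRingCat.of Ω) ⟶ ∐ f) :
    ∃ (i : ι) (a : Spec (CommRingCat.of Ω) ⟶ f i), t = a ≫ Sigma.ι f i := by
  obtain ⟨⟨i, y⟩, hy⟩ := (sigmaMk f).surjective (t default)
  rw [sigmaMk_mk] at hy
  have hr : Set.range t ⊆ Set.range (Sigma.ι f i) :=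
    GalFiber.range_subset_of_mem t default _ ⟨y, hy⟩
  exact ⟨i, IsOpenImmersion.lift (Sigma.ι f i) t hr, (IsOpenImmersion.lift_fac _ _ _).symm⟩

theorem factor_sigma_unique {ι : Type u} (f : ι → Scheme.{u}) {Ω : Type u} [Field Ω]
    {i j : ι} (a : Spec (CommRingCat.of Ω) ⟶ f i) (b : Spec (CommRingCat.of Ω) ⟶ f j)
    (h : a ≫ Sigma.ι f i = b ≫ Sigma.ι f j) : ∃ e : i = j, e ▸ a = b := by
  have h1 : Sigma.ι f i (a default) = Sigma.ι f j (b default) := by
    have := congrArg (fun t : Spec (CommRingCat.of Ω) ⟶ ∐ f => t default) h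
    simpa using this
  rw [sigmaι_eq_iff] at h1
  obtain rfl : i = j := congrArg Sigma.fst h1
  exact ⟨rfl, (cancel_mono (Sigma.ι f i)).mp h⟩

section main

variable {X : Scheme.{u}} (Y : FEt.Cat X) {G : Type u} [Group G] (ρ : G →* Aut Y)

/-- the action on the underlying scheme -/
abbrev r (g : G) : Y.left ⟶ Y.left := (ρ g).hom.left

theorem r_mul (g h : G) : r Y ρ (g * h) = r Y ρ h ≫ r Y ρ g := by
  change (ρ (g * h)).hom.left = _
  rw [map_mul]
  rfl

theorem r_over (g : G) : r Y ρ g ≫ Y.hom = Y.hom := MorphismProperty.Over.w (ρ g).hom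

theorem r_injective
    (hfree : ∀ g : G, g ≠ 1 → ∀ (K : Type u) [Field K] (y : Spec (CommRingCat.of K) ⟶ Y.left),
      y ≫ (ρ g).hom.left ≠ y)
    {Ω : Type u} [Field Ω] (a : Spec (CommRingCat.of Ω) ⟶ Y.left) :
    Function.Injective (fun g : G => a ≫ r Y ρ g) := by
  intro g h hgh
  by_contra hne
  have h1 : g * h⁻¹ ≠ 1 := fun h2 => hne (mul_inv_eq_one.mp h2)
  apply hfree (g * h⁻¹) h1 Ω (a ≫ r Y ρ h)
  change (a ≫ r Y ρ h) ≫ r Y ρ (g * h⁻¹) = a ≫ r Y ρ h
  rw [Category.assoc, ← r_mul, inv_mul_cancel_right]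
  exact hgh

end main


/-- Let Y → X be finite étale with Y nonempty and all geometric fibres of the same cardinality n, and
let a finite group G act on Y over X without fixed points (no point of Y with values in a field is
fixed by a non-identity element). Then G has at most n elements, and it has exactly n elements if
and only if the morphism from the disjoint union of copies of Y indexed by G to Y ×_X Y, given on
the copy indexed by g by the identity and g, is an isomorphism. (For Y empty the bound fails, since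
every finite group acts without fixed points on the empty cover, whose fibres have cardinality 0;
this row assumes Y nonempty.) -/
theorem result {X : Scheme.{u}} (Y : FEt.Cat X)
    [Nonempty ↥Y.left] (n : ℕ)
    (hn : ∀ (Ω : Type u) [Field Ω] [IsSepClosed Ω] (ξ : Spec (CommRingCat.of Ω) ⟶ X), Nat.card (FEt.fiberObj ξ Y) = n)
    (G : Type u) [Group G] [Finite G] (ρ : G →* Aut Y)
    (hfree : ∀ g : G, g ≠ 1 → ∀ (K : Type u) [Field K] (y : Spec (CommRingCat.of K) ⟶ Y.left),
      y ≫ (ρ g).hom.left ≠ y) :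
    Nat.card G ≤ n ∧
      (Nat.card G = n ↔ IsIso (Limits.Sigma.desc fun g : G =>
        pullback.lift (𝟙 Y.left) (ρ g).hom.left
          ((Category.id_comp Y.hom).trans (Over.w (ρ g).hom.hom).symm) : (∐ fun _ : G => Y.left) ⟶ pullback Y.hom Y.hom)) := by
  obtain ⟨y₀⟩ := ‹Nonempty ↥Y.left›
  obtain ⟨Ω₀, _, _, ζ₀, -⟩ := Groth.Agent.Lib.Helper22.FEtGraph.exists_geometric_point y₀
  -- the orbit map at a geometric point
  have key : ∀ (Ω : Type u) [Field Ω] [IsAlgClosed Ω] (a : Spec (CommRingCat.of Ω) ⟶ Y.left),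
      ∃ orb : G → FEt.fiberObj (a ≫ Y.hom) Y, Function.Injective orb ∧
        ∀ g, (orb g).1 = a ≫ r Y ρ g := by
    intro Ω _ _ a
    refine ⟨fun g => ⟨a ≫ r Y ρ g, by rw [Category.assoc, r_over]⟩, ?_, fun g => rfl⟩
    intro g h hgh
    exact r_injective Y ρ hfree a (congrArg Subtype.val hgh)
  have hle : Nat.card G ≤ n := by
    obtain ⟨orb, horb, -⟩ := key Ω₀ ζ₀
    haveI : Finite (FEt.fiberObj (ζ₀ ≫ Y.hom) Y) := Groth.Agent.S0294.result _ Y
    rw [← hn Ω₀ (ζ₀ ≫ Y.hom)]
    exact Nat.card_le_card_of_injective orb horb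
  refine ⟨hle, ?_⟩
  set Φ : (∐ fun _ : G => Y.left) ⟶ pullback Y.hom Y.hom := Limits.Sigma.desc fun g : G =>
        pullback.lift (𝟙 Y.left) (ρ g).hom.left
          ((Category.id_comp Y.hom).trans (Over.w (ρ g).hom.hom).symm) with hΦ
  have hΦι : ∀ g : G, Sigma.ι (fun _ : G => Y.left) g ≫ Φ =
      pullback.lift (𝟙 Y.left) (r Y ρ g) ((Category.id_comp Y.hom).trans (r_over Y ρ g).symm) := by
    intro g
    rw [hΦ, Sigma.ι_desc]
  have hΦfst : ∀ g : G, Sigma.ι (fun _ : G => Y.left) g ≫ Φ ≫ pullback.fst _ _ = 𝟙 _ := by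
    intro g
    rw [← Category.assoc, hΦι, pullback.lift_fst]
  have hΦsnd : ∀ g : G, Sigma.ι (fun _ : G => Y.left) g ≫ Φ ≫ pullback.snd _ _ = r Y ρ g := by
    intro g
    rw [← Category.assoc, hΦι, pullback.lift_snd]
  constructor
  · intro hG
    haveI : Etale Φ := by
      rw [IsZariskiLocalAtSource.iff_of_openCover (P := @Etale)
        (sigmaOpenCover (fun _ : G => Y.left))]
      intro g
      change Etale (Sigma.ι (fun _ : G => Y.left) g ≫ Φ)
      haveI : Etale ((Sigma.ι (fun _ : G => Y.left) g ≫ Φ) ≫ pullback.fst Y.hom Y.hom) := by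
        rw [Category.assoc, hΦfst]
        infer_instance
      exact MorphismProperty.of_postcomp (W := @Etale) (W' := @Etale) _
        (pullback.fst Y.hom Y.hom) inferInstance inferInstance
    apply isIso_of_bijective_geomPoints
    intro Ω _ _ t
    obtain ⟨orb, horb, horb'⟩ := key Ω (t ≫ pullback.fst _ _)
    haveI : Finite (FEt.fiberObj ((t ≫ pullback.fst Y.hom Y.hom) ≫ Y.hom) Y) :=
      Groth.Agent.S0294.result _ Y
    have hbij : Function.Bijective orb :=
      (Nat.bijective_iff_injective_and_card orb).mpr ⟨horb, by rw [hG, hn Ω]⟩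
    obtain ⟨g, hg⟩ := hbij.2 ⟨t ≫ pullback.snd _ _, by
      rw [Category.assoc, Category.assoc, pullback.condition]⟩
    have hg' : (t ≫ pullback.fst _ _) ≫ r Y ρ g = t ≫ pullback.snd _ _ := by
      rw [← horb' g, hg]
    refine ⟨(t ≫ pullback.fst _ _) ≫ Sigma.ι (fun _ : G => Y.left) g, ?_, ?_⟩
    · apply pullback.hom_ext
      · rw [Category.assoc, Category.assoc, hΦfst]
        exact Category.comp_id _
      · rw [Category.assoc, Category.assoc, hΦsnd, hg']
    · intro t' ht'
      obtain ⟨h, a', rfl⟩ := exists_factor_sigma _ t'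
      have h1 : a' = t ≫ pullback.fst _ _ := by
        rw [← ht', Category.assoc, Category.assoc, hΦfst]
        exact (Category.comp_id _).symm
      have h2 : a' ≫ r Y ρ h = t ≫ pullback.snd _ _ := by
        rw [← ht', Category.assoc, Category.assoc, hΦsnd]
      have h3 : h = g := by
        apply horb
        apply Subtype.ext
        rw [horb', horb', hg', ← h1, h2]
      rw [h3, h1]
  · intro hiso
    obtain ⟨orb, horb, horb'⟩ := key Ω₀ ζ₀
    haveI : Finite (FEt.fiberObj (ζ₀ ≫ Y.hom) Y) := Groth.Agent.S0294.result _ Y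
    have hsurj : Function.Surjective orb := by
      intro b
      let t : Spec (CommRingCat.of Ω₀) ⟶ pullback Y.hom Y.hom := pullback.lift ζ₀ b.1 (by rw [b.2])
      obtain ⟨h, a', ha'⟩ := exists_factor_sigma _ (t ≫ inv Φ)
      have h0 : t = a' ≫ Sigma.ι (fun _ : G => Y.left) h ≫ Φ := by
        rw [← Category.assoc, ← ha', Category.assoc, IsIso.inv_hom_id, Category.comp_id]
      have h1 : ζ₀ = a' := by
        have := congrArg (fun s => s ≫ pullback.fst Y.hom Y.hom) h0
        simp only [Category.assoc, hΦfst, Category.comp_id] at this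
        rw [← this]
        exact (pullback.lift_fst _ _ _).symm
      have h2 : b.1 = a' ≫ r Y ρ h := by
        have := congrArg (fun s => s ≫ pullback.snd Y.hom Y.hom) h0
        simp only [Category.assoc, hΦsnd] at this
        rw [← this]
        exact (pullback.lift_snd _ _ _).symm
      exact ⟨h, Subtype.ext ((horb' h).trans (by rw [h2, ← h1]))⟩
    have h5 := Nat.card_congr (Equiv.ofBijective orb ⟨horb, hsurj⟩)
    rw [h5, hn Ω₀]

end Groth.Agent.S14460
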