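import Groth.Statements.S9436
import Mathlib

set_option autoImplicit false
universe u
open CAlg

namespace Groth.Agent.S9436

open TensorProduct in
/-- Étale algebras lift along surjections: for an ideal I of R and an étale (R/I)-algebra S̄ there is an
étale R-algebra S with (R/I) ⊗_R S ≅ S̄ over R/I. -/
theorem result (R : Type u) [CommRing R] (I : Ideal R) (Sb : Type u)
    [CommRing Sb] [Algebra (R ⧸ I) Sb] [Algebra.Etale (R ⧸ I) Sb] :
    ∃ (S : Type u) (_ : CommRing S) (_ : Algebra R S), Algebra.Etale R S ∧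
      Nonempty (((R ⧸ I) ⊗[R] S) ≃ₐ[R ⧸ I] Sb) := by
  classical
  have hstd : Algebra.IsStandardSmoothOfRelativeDimension 0 (R ⧸ I) Sb :=
    Algebra.Etale.iff_isStandardSmoothOfRelativeDimension_zero.mp inferInstance
  obtain ⟨ι, σ, _, _, P, hP⟩ := hstd.out
  letI : Algebra R Sb := ((algebraMap (R ⧸ I) Sb).comp (algebraMap R (R ⧸ I))).toAlgebra
  haveI : IsScalarTower R (R ⧸ I) Sb := IsScalarTower.of_algebraMap_eq' rfl
  haveI : P.HasCoeffs R := ⟨fun x _ => by
    obtain ⟨y, rfl⟩ := Ideal.Quotient.mk_surjective x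
    exact ⟨y, rfl⟩⟩
  let P' : Algebra.PreSubmersivePresentation R (P.toPresentation.ModelOfHasCoeffs R) ι σ :=
    P.toPreSubmersivePresentation.ofHasCoeffs R
  let Δ : P.toPresentation.ModelOfHasCoeffs R := P'.jacobian
  let Q : Algebra.PreSubmersivePresentation (P.toPresentation.ModelOfHasCoeffs R)
      (Localization.Away Δ) Unit Unit :=
    Algebra.PreSubmersivePresentation.localizationAway (Localization.Away Δ) Δ
  let PT : Algebra.SubmersivePresentation R (Localization.Away Δ) (Unit ⊕ ι) (Unit ⊕ σ) :=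
    { toPreSubmersivePresentation := Q.comp P'
      jacobian_isUnit := by
        rw [Algebra.PreSubmersivePresentation.comp_jacobian_eq_jacobian_smul_jacobian,
          Algebra.smul_def, Algebra.PreSubmersivePresentation.localizationAway_jacobian]
        exact (IsLocalization.Away.algebraMap_isUnit Δ).mul
          (IsLocalization.Away.algebraMap_isUnit Δ) }
  have hdim : PT.dimension = 0 := by
    show (Q.comp P').dimension = 0
    rw [Algebra.PreSubmersivePresentation.dimension_comp_eq_dimension_add_dimension]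
    have h1 : Q.dimension = 0 := Algebra.Presentation.localizationAway_dimension_zero Δ
    have h2 : P'.dimension = P.dimension := rfl
    rw [h1, h2, hP]
  have hT : Algebra.Etale R (Localization.Away Δ) :=
    Algebra.Etale.iff_isStandardSmoothOfRelativeDimension_zero.mpr
      (PT.isStandardSmoothOfRelativeDimension hdim)
  refine ⟨Localization.Away Δ, inferInstance, inferInstance, hT, ⟨?_⟩⟩
  let e1 : (R ⧸ I) ⊗[R] (Localization.Away Δ) ≃ₐ[R ⧸ I]
      Localization.Away ((1 : R ⧸ I) ⊗ₜ[R] Δ) :=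
    IsLocalization.Away.tensorProductEquivTMulRight R (R ⧸ I) Δ (Localization.Away Δ)
  let e2 : (R ⧸ I) ⊗[R] (P.toPresentation.ModelOfHasCoeffs R) ≃ₐ[R ⧸ I] Sb :=
    P.toPresentation.tensorModelOfHasCoeffsEquiv R
  have he : e2 ((1 : R ⧸ I) ⊗ₜ[R] Δ) = P.jacobian := by
    letI : Fintype σ := Fintype.ofFinite σ
    have h1 : Δ = Ideal.Quotient.mk _ (P.jacobianOfHasCoeffs R) := by
      show P'.jacobian = _
      rw [Algebra.PreSubmersivePresentation.jacobian_eq_jacobiMatrix_det]
      unfold Algebra.SubmersivePresentation.jacobianOfHasCoeffs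
      congr!
    rw [h1]
    have h2 := P.toPresentation.tensorModelOfHasCoeffsEquiv_tmul R (1 : R ⧸ I)
      (P.jacobianOfHasCoeffs R)
    rw [map_one, one_mul, P.aeval_jacobianOfHasCoeffs R] at h2
    exact h2
  have hunit : IsUnit ((1 : R ⧸ I) ⊗ₜ[R] Δ :
      (R ⧸ I) ⊗[R] (P.toPresentation.ModelOfHasCoeffs R)) := by
    have h3 : IsUnit (e2 ((1 : R ⧸ I) ⊗ₜ[R] Δ)) := he ▸ P.jacobian_isUnit
    have h4 := h3.map e2.symm
    rwa [AlgEquiv.symm_apply_apply] at h4
  have hle : Submonoid.powers ((1 : R ⧸ I) ⊗ₜ[R] Δ :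
      (R ⧸ I) ⊗[R] (P.toPresentation.ModelOfHasCoeffs R)) ≤ IsUnit.submonoid _ := by
    rintro _ ⟨n, rfl⟩
    exact hunit.pow n
  let e3 : (R ⧸ I) ⊗[R] (P.toPresentation.ModelOfHasCoeffs R)
      ≃ₐ[(R ⧸ I) ⊗[R] (P.toPresentation.ModelOfHasCoeffs R)]
      Localization.Away ((1 : R ⧸ I) ⊗ₜ[R] Δ :
        (R ⧸ I) ⊗[R] (P.toPresentation.ModelOfHasCoeffs R)) :=
    IsLocalization.atUnits _ _ hle
  exact e1.trans ((e3.restrictScalars (R ⧸ I)).symm.trans e2)

end Groth.Agent.S9436
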