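import Groth.Statements.S13739
import Mathlib
import Groth.Agent.S8192

set_option autoImplicit false
universe u
open SGA1

namespace Groth.Agent.S13739
open CategoryTheory CategoryTheory.Limits AlgebraicGeometry

/-- The fold map `∐_G Y ⟶ Y` is finite for a finite index type. -/
theorem isFinite_fold' (Y : Scheme.{u}) (G : Type u) [Finite G] :
    IsFinite (Sigma.desc (fun _ : G => 𝟙 Y)) := by
  obtain ⟨n, ⟨e⟩⟩ := Finite.exists_equiv_fin G
  let hom : (∐ fun _ : Fin n => Y) ⟶ ∐ fun _ : G => Y :=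
    Sigma.desc (fun i : Fin n => Sigma.ι (fun _ : G => Y) (e.symm i))
  let inv : (∐ fun _ : G => Y) ⟶ ∐ fun _ : Fin n => Y :=
    Sigma.desc (fun g : G => Sigma.ι (fun _ : Fin n => Y) (e g))
  have h1 : inv ≫ hom = 𝟙 _ := by
    apply Sigma.hom_ext
    intro g
    simp only [inv, hom, ← Category.assoc, Sigma.ι_desc, Category.comp_id]
    simp
  have h0 : hom ≫ inv = 𝟙 _ := by
    apply Sigma.hom_ext
    intro i
    simp only [inv, hom, ← Category.assoc, Sigma.ι_desc, Category.comp_id]
    simp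
  have h3 : IsIso inv := ⟨hom, h1, h0⟩
  have h2 : inv ≫ Sigma.desc (fun _ : Fin n => 𝟙 Y) = Sigma.desc (fun _ : G => 𝟙 Y) := by
    apply Sigma.hom_ext
    intro g
    simp only [inv, ← Category.assoc, Sigma.ι_desc]
  rw [← h2]
  haveI := Groth.Agent.S8192.isFinite_fold Y n
  infer_instance


open CategoryTheory CategoryTheory.Limits AlgebraicGeometry in
/-- Let S be a separated Noetherian scheme, q : X → S finite surjective with X separated, G a finite
group acting on X by S-automorphisms and transitively on the geometric points of X over every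
geometric point of S, and r : Y → X a morphism with Y separated. If υ is the morphism from the
disjoint union of G copies of Y to Y ×_S X (Y over S through r ≫ q) whose σ-th component is (id_Y, r
≫ σ), then υ is finite and surjective. -/
theorem result {X S Y : Scheme.{u}} [IsNoetherian S] [S.IsSeparated] [X.IsSeparated] [Y.IsSeparated] (q : X ⟶ S) [IsFinite q] [Surjective q] {G : Type u} [Group G] [Finite G] (ρ : G →* Aut X) (hρ : ∀ g : G, (ρ g).hom ≫ q = q) (htrans : ∀ (Ω : Type u) [Field Ω] [IsAlgClosed Ω] (τ₁ τ₂ : Spec (CommRingCat.of Ω) ⟶ X), τ₁ ≫ q = τ₂ ≫ q → ∃ g : G, τ₁ ≫ (ρ g).hom = τ₂) (r : Y ⟶ X) (υ : (∐ fun _ : G => Y) ⟶ pullback (r ≫ q) q) (hυ₁ : ∀ σ : G, Sigma.ι (fun _ : G => Y) σ ≫ υ ≫ pullback.fst (r ≫ q) q = 𝟙 Y) (hυ₂ : ∀ σ : G, Sigma.ι (fun _ : G => Y) σ ≫ υ ≫ pullback.snd (r ≫ q) q = r ≫ (ρ σ).hom) : IsFinite υ ∧ Surjective υ := by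
  refine ⟨?_, ?_⟩
  · have hfold : υ ≫ pullback.fst (r ≫ q) q = Sigma.desc (fun _ : G => 𝟙 Y) := by
      apply Sigma.hom_ext
      intro σ
      rw [hυ₁ σ, Sigma.ι_desc]
    haveI : IsFinite (υ ≫ pullback.fst (r ≫ q) q) := by
      rw [hfold]
      exact isFinite_fold' Y G
    exact IsFinite.of_comp υ (pullback.fst (r ≫ q) q)
  · refine ⟨fun z => ?_⟩
    let P := pullback (r ≫ q) q
    let K := P.residueField z
    let Ω := AlgebraicClosure K
    let pt : Spec (CommRingCat.of Ω) ⟶ P :=
      Spec.map (CommRingCat.ofHom (algebraMap K Ω)) ≫ P.fromSpecResidueField z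
    have hpt : ∀ t, pt t = z := by
      intro t
      change (P.fromSpecResidueField z) _ = z
      exact Scheme.fromSpecResidueField_apply _ _
    let y := pt ≫ pullback.fst (r ≫ q) q
    let x := pt ≫ pullback.snd (r ≫ q) q
    have hc : (y ≫ r) ≫ q = x ≫ q := by
      simp only [y, x, Category.assoc]
      rw [pullback.condition]
    obtain ⟨g, hg⟩ := htrans Ω (y ≫ r) x hc
    have key : (y ≫ Sigma.ι (fun _ : G => Y) g) ≫ υ = pt := by
      apply pullback.hom_ext
      · rw [Category.assoc, Category.assoc, hυ₁ g, Category.comp_id]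
      · rw [Category.assoc, Category.assoc, hυ₂ g, ← Category.assoc, hg]
    let t : Spec (CommRingCat.of Ω) := IsLocalRing.closedPoint Ω
    refine ⟨(y ≫ Sigma.ι (fun _ : G => Y) g) t, ?_⟩
    rw [← Scheme.Hom.comp_apply, key, hpt]

end Groth.Agent.S13739
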