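import Groth.Statements.S4342
import Mathlib
import Groth.Agent.Lib.Helper23SubSh5
import Groth.Agent.Lib.Helper23LocNoethSp
-- import your own Groth.Agent.* helpers here

set_option autoImplicit false
universe u
open QCohSup

namespace Groth.Agent.S4342


open CategoryTheory Limits AlgebraicGeometry TopologicalSpace Opposite
open Groth.Agent.Lib.Helper23.LocNoethSp Groth.Agent.Lib.Helper23.SubSh Groth.Agent.Lib.Helper2.Push

open AlgebraicGeometry in
open CategoryTheory in
open Opposite in
/-- In the sectionwise form its proof gives. Let X be a scheme whose underlying space is locally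
Noetherian and F a quasi-coherent O_X-module. For every affine open U and every section s of F over
U there is a quasi-coherent sub-O_X-module of finite type of F having s among its sections over U;
hence F is the inductive limit of its quasi-coherent submodules of finite type. -/
theorem result
    {X : Scheme.{u}}
    (hX : ∀ x : X, ∃ U : X.Opens, x ∈ U ∧ TopologicalSpace.NoetherianSpace (U : Set X))
    (F : X.Modules) [Coh.IsQCoh F]
    (U : X.affineOpens) (s : F.val.obj (op (U : X.Opens))) :
    ∃ (G' : X.Modules) (i' : G' ⟶ F), Mono i' ∧ Coh.IsQCoh G' ∧ CohB1.IsFT G' ∧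
      ∃ g : G'.val.obj (op (U : X.Opens)), (i'.val.app (op (U : X.Opens))).hom g = s := by
  have hFq : F.IsQuasicoherent := ‹Coh.IsQCoh F›
  have hH : ∀ A : X.Opens, IsAffineOpen A → IsLocOn F A := fun A hA => IsLocOn.of_isQuasicoherent hA F
  obtain ⟨L, hlin, hwf, V, hV, hcov, hcpt⟩ := exists_wellOrdered_affine_cover hX
  let S₀ : SubSh F := genSub hH U.1 {s}
  have hgen₀ : LocGen S₀ U.1 := fun x hx =>
    ⟨U.1, U.2, hx, le_rfl, {s}, Set.finite_singleton s, genOn_genSub hH U.1 {s}⟩
  obtain ⟨S, hle, heq, hgen⟩ := exists_locGen_top' V U.1 S₀ hH (sat_genSub hH U.1 {s}) hgen₀ hV hcov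
    (fun l => hcpt l _ Set.inter_subset_left) (fun l => hcpt l _ Set.inter_subset_left)
  obtain ⟨hq, hft⟩ := exists_sub_of_locGen F S hgen
  have hs : s ∈ S.carrier U.1 := by
    rw [heq U.1 le_rfl, (genOn_genSub hH U.1 {s}).self_eq U.2]
    exact Submodule.subset_span rfl
  obtain ⟨t, ht⟩ := S.exists_of_mem hs
  exact ⟨S.toModules, S.ι, inferInstance, hq, hft, t, ht⟩

end Groth.Agent.S4342
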