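import Groth.Statements.S4351
import Mathlib
import Groth.Agent.Lib.Helper23AlgGen2
import Groth.Agent.S4342
-- import your own Groth.Agent.* helpers here

set_option autoImplicit false
universe u
open QCohSup

namespace Groth.Agent.S4351


open CategoryTheory Limits AlgebraicGeometry TopologicalSpace Opposite
open Groth.Agent.Lib.Helper23.AlgGen Groth.Agent.Lib.Helper2.Push Groth.Agent.Lib.Helper23.FinType

open AlgebraicGeometry in
open CategoryTheory in
open Opposite in
/-- Case a), in the sectionwise form its proof gives. Let X be a scheme whose underlying space is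
locally Noetherian and B a quasi-coherent O_X-algebra. Every section of B over an affine open U lies
in a quasi-coherent sub-O_X-algebra of B whose sections over every affine open form an algebra of
finite type over the functions (a condition equivalent to being of finite type near every point);
hence B is the inductive limit of its quasi-coherent sub-O_X-algebras of finite type. -/
theorem result
    {X : Scheme.{u}}
    (hX : ∀ x : X, ∃ U : X.Opens, x ∈ U ∧ TopologicalSpace.NoetherianSpace (U : Set X))
    (B : RelSpec.QCAlg X)
    (U : X.affineOpens) (b : B.presheaf.obj (op (U : X.Opens))) :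
    ∃ (B' : RelSpec.QCAlg X) (φ : B' ⟶ B),
      (∀ V : X.Opens, Function.Injective (φ.hom.app (op V)).hom) ∧
      (∀ V : X.affineOpens, (B'.str.app (op (V : X.Opens))).hom.FiniteType) ∧
      b ∈ Set.range (φ.hom.app (op (U : X.Opens))).hom := by
  haveI : B.toModule.IsQuasicoherent := Groth.Agent.Helper18QCAlg.isQuasicoherent_toModule B
  haveI : Coh.IsQCoh B.toModule := Groth.Agent.Helper18QCAlg.isQuasicoherent_toModule B
  obtain ⟨E, j, hj, hq, hf, g, hg⟩ := Groth.Agent.S4342.result hX B.toModule U b
  have hq' : E.IsQuasicoherent := hq
  have hf' : SheafOfModules.IsFiniteType (R := X.ringCatSheaf) E := hf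
  have hE : ∀ V : X.Opens, IsAffineOpen V → IsLocOn E V := fun V hV => IsLocOn.of_isQuasicoherent hV E
  refine ⟨subAlg B E j hE, subAlgι B E j hE, subAlgι_injective B E j hE, fun V => ?_, ?_⟩
  · exact subAlg_finiteType B E j hE V.2 (finite_of_isFiniteType E V.2)
  · have h1 := mem_range_subAlgι B E j hE U.1 g
    have h2 : jB B E j U.1 g = b := hg
    rw [h2] at h1
    exact h1

end Groth.Agent.S4351
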