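import Groth.Statements.S4683
import Mathlib
import Groth.Agent.Lib.Helper23Extend
import Groth.Agent.Lib.Helper23AssAffine
import Groth.Agent.Lib.Helper23FinType2
import Groth.Agent.Lib.Helper2Ass

set_option autoImplicit false
set_option linter.style.haveILetI false
open CategoryTheory AlgebraicGeometry
universe u
open AssSch

namespace Groth.Agent.S4683

open CategoryTheory.Limits Opposite TopologicalSpace
open Groth.Agent.Lib.Helper23.AssAffine Groth.Agent.Lib.Helper2.Ass Groth.Agent.Lib.Helper23.FinType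

/-- A jointly monomorphic family of morphisms of modules is jointly injective on sections. -/
theorem jointly_injective {X : Scheme.{u}} {ι : Type u} (M : X.Modules) (G : ι → X.Modules)
    (q : ∀ i, M ⟶ G i)
    (hm : ∀ (T : X.Modules) (a b : T ⟶ M), (∀ i, a ≫ q i = b ≫ q i) → a = b)
    (W : X.Opens) (s : Γ(M, W)) (hs : ∀ i, (q i).app W s = 0) : s = 0 := by
  haveI : Mono (Pi.lift q) := ⟨fun a b h => hm _ a b (fun i => by
    have := congrArg (· ≫ Pi.π G i) h
    simpa using this)⟩
  apply Groth.Agent.Lib.Helper23.Extend.injective_app_of_mono (Pi.lift q) W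
  rw [map_zero]
  let Fn : X.Modules ⥤ Ab.{u} := Scheme.Modules.toPresheaf X ⋙ (evaluation _ _).obj (op W)
  haveI : PreservesLimit (Discrete.functor G) Fn := by
    have h : PreservesLimitsOfShape (Discrete ι)
      ((evaluation (TopologicalSpace.Opens ↥X)ᵒᵖ Ab.{u}).obj (op W)) := inferInstance
    haveI := h.preservesLimit (K := Discrete.functor G ⋙ Scheme.Modules.toPresheaf X)
    exact comp_preservesLimit _ _
  have hlim : IsLimit (Fn.mapCone (limit.cone (Discrete.functor G))) :=
    isLimitOfPreserves Fn (limit.isLimit _)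
  apply Concrete.isLimit_ext _ hlim
  rintro ⟨i⟩
  have h1 : (Pi.lift q ≫ Pi.π G i).app W s = 0 := by
    rw [Pi.lift_π]; exact hs i
  have h2 : ((Pi.π G i).app W) 0 = 0 := map_zero _
  exact h1.trans h2.symm

/-- Associated points of a coherent module inside an affine open of a locally Noetherian scheme
are finite in number. -/
theorem finite_ass_inter {X : Scheme.{u}} [IsLocallyNoetherian X] (M : X.Modules)
    (hM : Coh.IsCoh M) {V : X.Opens} (hV : IsAffineOpen V) :
    {y : X | y ∈ AssSch.Ass M ∧ y ∈ V}.Finite := by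
  haveI : M.IsQuasicoherent := hM.1
  haveI : SheafOfModules.IsFiniteType (R := X.ringCatSheaf) M := hM.2
  haveI : IsNoetherianRing Γ(X, V) := IsLocallyNoetherian.component_noetherian ⟨V, hV⟩
  haveI : Module.Finite Γ(X, V) Γ(M, V) := finite_of_isFiniteType M hV
  have hfin : (associatedPrimes Γ(X, V) Γ(M, V)).Finite := associatedPrimes.finite _ _
  have hfin2 : {p : PrimeSpectrum Γ(X, V) | p.asIdeal ∈ associatedPrimes Γ(X, V) Γ(M, V)}.Finite :=
    hfin.preimage (fun p _ p' _ h => PrimeSpectrum.ext h)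
  refine (hfin2.image (fun p => (hV.fromSpec p : X))).subset ?_
  rintro y ⟨hyA, hyV⟩
  refine ⟨hV.primeIdealOf ⟨y, hyV⟩, ?_, ?_⟩
  · exact (isAssPoint_iff_mem_associatedPrimes hV M y hyV).1 hyA
  · exact hV.fromSpec_primeIdealOf ⟨y, hyV⟩



/-- naturality of a morphism of modules with respect to restriction of sections -/
theorem app_res {X : Scheme.{u}} {A B : X.Modules} (m : A ⟶ B) {W W' : X.Opens} (h : W' ≤ W)
    (s : Γ(A, W)) :
    m.app W' (A.presheaf.map (homOfLE h).op s) = B.presheaf.map (homOfLE h).op (m.app W s) :=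
  Groth.Agent.Lib.Helper23.Extend.app_map m (homOfLE h) s

/-- The key step: sections killed by `q x` are killed by `q' x`. -/
theorem key {X : Scheme.{u}} [IsLocallyNoetherian X] (M : X.Modules)
    (hM : Coh.IsCoh M) (hne : AssSch.NoEmbedded M)
    (G : ↥(AssSch.Ass M) → X.Modules) (q : ∀ x, M ⟶ G x)
    (hG : ∀ x, Coh.IsCoh (G x))
    (hA : ∀ x, AssSch.Ass (G x) = {x.1})
    (hm : ∀ (T : X.Modules) (a b : T ⟶ M), (∀ x, a ≫ q x = b ≫ q x) → a = b)
    (x : ↥(AssSch.Ass M)) (G' : X.Modules) (q' : M ⟶ G') (hG' : Coh.IsCoh G')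
    (hA' : AssSch.Ass G' = {x.1})
    (V : X.Opens) (s : Γ(M, V)) (hs : (q x).app V s = 0) : q'.app V s = 0 := by
  haveI : G'.IsQuasicoherent := hG'.1
  by_contra ht
  obtain ⟨y, hyV, hyA, hgy⟩ := exists_isWeakAssPoint_of_ne_zero_open G' V _ ht
  have hyx : y = x.1 := by
    have : y ∈ AssSch.Ass G' := (isAssPoint_iff_isWeakAssPoint G' y).2 hyA
    rw [hA'] at this
    exact this
  subst hyx
  -- an affine open neighbourhood of `x` inside `V`
  obtain ⟨_, ⟨V₀, hV₀ : IsAffineOpen V₀, rfl⟩, hxV₀, hV₀V⟩ :=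
    (X.isBasis_affineOpens).exists_subset_of_mem_open hyV V.2
  have hV₀V' : V₀ ≤ V := hV₀V
  have hfin := finite_ass_inter M hM hV₀
  set A : Set X := {y : X | y ∈ AssSch.Ass M ∧ y ∈ V₀} \ {x.1} with hAdef
  have hAfin : A.Finite := hfin.subset Set.sdiff_subset
  have hcl : IsClosed (⋃ y ∈ A, closure ({y} : Set X)) :=
    hAfin.isClosed_biUnion (fun _ _ => isClosed_closure)
  let W : X.Opens := V₀ ⊓ ⟨(⋃ y ∈ A, closure ({y} : Set X))ᶜ, hcl.isOpen_compl⟩
  have hxW : x.1 ∈ W := by
    refine ⟨hxV₀, ?_⟩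
    change x.1 ∉ ⋃ y ∈ A, closure ({y} : Set X)
    intro hx
    simp only [Set.mem_iUnion] at hx
    obtain ⟨y, hyA', hxy⟩ := hx
    have hsp : y ⤳ x.1 := specializes_iff_mem_closure.2 hxy
    have := hne x.1 x.2 y hyA'.1.1 hsp
    exact hyA'.2 this.symm
  have hWV₀ : W ≤ V₀ := inf_le_left
  have hWV : W ≤ V := hWV₀.trans hV₀V'
  set s' : Γ(M, W) := M.presheaf.map (homOfLE hWV).op s with hs'
  have hs'0 : s' = 0 := by
    apply jointly_injective M G q hm W s'
    intro z
    by_cases hzx : z = x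
    · subst hzx
      rw [hs', app_res, hs, map_zero]
    · by_contra hnz
      haveI : (G z).IsQuasicoherent := (hG z).1
      obtain ⟨w, hwW, hwA, -⟩ := exists_isWeakAssPoint_of_ne_zero_open (G z) W _ hnz
      have hwz : w = z.1 := by
        have : w ∈ AssSch.Ass (G z) := (isAssPoint_iff_isWeakAssPoint (G z) w).2 hwA
        rw [hA z] at this
        exact this
      subst hwz
      have hzA : z.1 ∈ A := ⟨⟨z.2, hwW.1⟩, fun h => hzx (Subtype.ext h)⟩
      have : z.1 ∉ ⋃ y ∈ A, closure ({y} : Set X) := hwW.2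
      apply this
      simp only [Set.mem_iUnion]
      exact ⟨z.1, hzA, subset_closure rfl⟩
  apply hgy
  have h1 : G'.presheaf.germ W x.1 hxW (G'.presheaf.map (homOfLE hWV).op (q'.app V s)) =
      G'.presheaf.germ V x.1 hyV (q'.app V s) :=
    TopCat.Presheaf.germ_res_apply G'.presheaf (homOfLE hWV) x.1 hxW _
  rw [← h1, ← app_res, ← hs', hs'0, map_zero, map_zero]

/-- Let X be a locally Noetherian scheme and M a coherent O_X-module without embedded associated points.
Then M has only one reduced irredundant decomposition: if (q_x : M → G_x) and (q'_x : M → G'_x) are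
two families of coherent quotients of M indexed by the associated points x of M, with Ass(G_x) =
Ass(G'_x) = {x} for every x and each family jointly monomorphic (M embeds in the product), then for
every x there is an isomorphism G_x ≅ G'_x under M (it is unique, q_x being an epimorphism). -/
theorem result {X : Scheme.{u}} [IsLocallyNoetherian X] (M : X.Modules)
    (hM : Coh.IsCoh M) (hne : AssSch.NoEmbedded M)
    (G G' : ↥(AssSch.Ass M) → X.Modules) (q : ∀ x, M ⟶ G x) (q' : ∀ x, M ⟶ G' x)
    (hq : ∀ x, Epi (q x)) (hq' : ∀ x, Epi (q' x)) (hG : ∀ x, Coh.IsCoh (G x)) (hG' : ∀ x, Coh.IsCoh (G' x))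
    (hA : ∀ x, AssSch.Ass (G x) = {x.1}) (hA' : ∀ x, AssSch.Ass (G' x) = {x.1})
    (hm : ∀ (T : X.Modules) (a b : T ⟶ M), (∀ x, a ≫ q x = b ≫ q x) → a = b)
    (hm' : ∀ (T : X.Modules) (a b : T ⟶ M), (∀ x, a ≫ q' x = b ≫ q' x) → a = b) (x : ↥(AssSch.Ass M)) :
    ∃ e : G x ≅ G' x, q x ≫ e.hom = q' x := by
  have h1 : kernel.ι (q x) ≫ q' x = 0 := by
    apply Scheme.Modules.hom_ext
    intro U
    ext k
    have hk : (q x).app U ((kernel.ι (q x)).app U k) = 0 := by
      have : (kernel.ι (q x) ≫ q x).app U k = 0 := by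
        rw [kernel.condition]; rfl
      exact this
    have := key M hM hne G q hG hA hm x (G' x) (q' x) (hG' x) (hA' x) U _ hk
    exact this
  have h2 : kernel.ι (q' x) ≫ q x = 0 := by
    apply Scheme.Modules.hom_ext
    intro U
    ext k
    have hk : (q' x).app U ((kernel.ι (q' x)).app U k) = 0 := by
      have : (kernel.ι (q' x) ≫ q' x).app U k = 0 := by
        rw [kernel.condition]; rfl
      exact this
    have := key M hM hne G' q' hG' hA' hm' x (G x) (q x) (hG x) (hA x) U _ hk
    exact this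
  haveI := hq x
  haveI := hq' x
  have hc : IsColimit (CokernelCofork.ofπ (q x) (kernel.condition (q x))) :=
    Abelian.epiIsCokernelOfKernel (Fork.ofι (kernel.ι (q x)) (by rw [kernel.condition, comp_zero]))
      (kernelIsKernel (q x))
  have hc' : IsColimit (CokernelCofork.ofπ (q' x) (kernel.condition (q' x))) :=
    Abelian.epiIsCokernelOfKernel (Fork.ofι (kernel.ι (q' x)) (by rw [kernel.condition, comp_zero]))
      (kernelIsKernel (q' x))
  let a : G x ⟶ G' x := hc.desc (CokernelCofork.ofπ (q' x) h1)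
  let b : G' x ⟶ G x := hc'.desc (CokernelCofork.ofπ (q x) h2)
  have ha : q x ≫ a = q' x := hc.fac (CokernelCofork.ofπ (q' x) h1) WalkingParallelPair.one
  have hb : q' x ≫ b = q x := hc'.fac (CokernelCofork.ofπ (q x) h2) WalkingParallelPair.one
  refine ⟨⟨a, b, ?_, ?_⟩, ha⟩
  · rw [← cancel_epi (q x), ← Category.assoc, ha, hb, Category.comp_id]
  · rw [← cancel_epi (q' x), ← Category.assoc, hb, ha, Category.comp_id]

end Groth.Agent.S4683
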