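import Groth.Statements.S5137
import Mathlib
import Groth.Agent.Lib.Helper20QuotBC

set_option autoImplicit false
open CategoryTheory CategoryTheory.Limits AlgebraicGeometry
universe u
open SGA1

namespace Groth.Agent.S5137
open CategoryTheory CategoryTheory.Limits AlgebraicGeometry TopologicalSpace
open SGA1 Groth.Agent.Lib.Helper20


/-- Quotients by finite groups commute with flat base change. Let p : X ⟶ Y be a quotient of X by the
finite group G acting through ρ, let q : Y ⟶ Z and let b : Z' ⟶ Z be flat; let Y' be the fibre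
product of Y and Z' over Z and X' that of X and Y' over Y, and let G act on X' compatibly with the
projection to X and trivially over Y'. Then X' ⟶ Y' is a quotient of X' by G. -/
theorem result {X Y Z Z' X' Y' : Scheme.{u}} {G : Type u} [Group G] [Finite G]
    (ρ : G →* Aut X) (p : X ⟶ Y) (hp : SGA1.IsQuot ρ p) (q : Y ⟶ Z) (b : Z' ⟶ Z) [Flat b]
    (qY : Y' ⟶ Y) (bY : Y' ⟶ Z') (hY : IsPullback qY bY q b)
    (pX : X' ⟶ X) (p' : X' ⟶ Y') (hX : IsPullback pX p' p qY)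
    (ρ' : G →* Aut X') (hρ₁ : ∀ g : G, (ρ' g).hom ≫ pX = pX ≫ (ρ g).hom) (hρ₂ : ∀ g : G, (ρ' g).hom ≫ p' = p') :
    SGA1.IsQuot ρ' p' := by
  haveI : Flat qY := MorphismProperty.of_isPullback (P := @Flat) hY.flip inferInstance
  have haff : IsAffineHom p' :=
    MorphismProperty.of_isPullback (P := @IsAffineHom) hX hp.affine
  haveI := hp.affine
  refine isQuot_of_quotAt ρ' haff hρ₂ ?_
  let B : Set Y'.Opens := {W' | IsAffineOpen W' ∧ ∃ U : Y.Opens, IsAffineOpen U ∧ W' ≤ qY ⁻¹ᵁ U}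
  have hB : Opens.IsBasis B := by
    rw [Opens.isBasis_iff_nbhd]
    intro O y' hy'
    obtain ⟨U, hU, hyU⟩ := exists_affine_nhd Y (qY y')
    obtain ⟨W', hW', hyW', hW'le⟩ := exists_isAffineOpen_mem_and_subset (x := y')
      (U := O ⊓ qY ⁻¹ᵁ U) ⟨hy', hyU⟩
    exact ⟨W', ⟨hW', U, hU, hW'le.trans inf_le_right⟩, hyW', hW'le.trans inf_le_left⟩
  refine quotAt_of_isBasis hρ₂ B hB ?_
  rintro W' ⟨hW', U, hU, hW'U⟩
  have hpU : IsAffineOpen (p ⁻¹ᵁ U) := hU.preimage p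
  have hUY : p' ⁻¹ᵁ W' = pX ⁻¹ᵁ (p ⁻¹ᵁ U) ⊓ p' ⁻¹ᵁ W' := by
    symm
    rw [inf_eq_right, ← Scheme.Hom.comp_preimage, hX.w, Scheme.Hom.comp_preimage]
    exact p'.preimage_mono hW'U
  have hiso := isIso_pushoutSection_of_isAffineOpen hX hW'U (le_refl (p ⁻¹ᵁ U)) hUY hU hW' hpU
  have hpush := (isIso_pushoutSection_iff hX hW'U (le_refl (p ⁻¹ᵁ U)) hUY).mp hiso
  have eσ : ∀ g : G, p ⁻¹ᵁ U ≤ (ρ g).hom ⁻¹ᵁ (p ⁻¹ᵁ U) := fun g =>
    preimage_le_of_inv ρ p hp.inv g U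
  have eσ' : ∀ g : G, p' ⁻¹ᵁ W' ≤ (ρ' g).hom ⁻¹ᵁ (p' ⁻¹ᵁ W') := fun g =>
    preimage_le_of_inv ρ' p' hρ₂ g W'
  have hflat : (qY.appLE U W' hW'U).hom.Flat := qY.flat_appLE hU hW' hW'U
  have key := quot_of_isPushout hpush hflat
    (fun g : G => ((ρ g).hom.appLE (p ⁻¹ᵁ U) (p ⁻¹ᵁ U) (eσ g)).hom)
    (fun g : G => ((ρ' g).hom.appLE (p' ⁻¹ᵁ W') (p' ⁻¹ᵁ W') (eσ' g)).hom)
    (fun g b => appLE_invariant (σ := fun g : G => (ρ g).hom) hp.inv U (p ⁻¹ᵁ U) le_rfl g (eσ g) b)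
    (fun g a => by
      have h1 : pX.appLE (p ⁻¹ᵁ U) (p' ⁻¹ᵁ W') (by rw [hUY]; exact inf_le_left) ≫
          (ρ' g).hom.appLE (p' ⁻¹ᵁ W') (p' ⁻¹ᵁ W') (eσ' g) =
          (ρ g).hom.appLE (p ⁻¹ᵁ U) (p ⁻¹ᵁ U) (eσ g) ≫
            pX.appLE (p ⁻¹ᵁ U) (p' ⁻¹ᵁ W') (by rw [hUY]; exact inf_le_left) := by
        rw [Scheme.Hom.appLE_comp_appLE, Scheme.Hom.appLE_comp_appLE]
        exact appLE_congr_hom (hρ₁ g) _ _ _
      exact congrArg (fun f => f.hom a) h1)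
    (fun g b => appLE_invariant (σ := fun g : G => (ρ' g).hom) hρ₂ W' (p' ⁻¹ᵁ W') le_rfl g
      (eσ' g) b)
    (by
      have := hp.injective U
      rwa [Scheme.Hom.app_eq_appLE] at this)
    (fun a ha => by
      have := (hp.range_iff U a).mpr ha
      rwa [Scheme.Hom.app_eq_appLE] at this)
  exact ⟨le_rfl, eσ', key.1, fun s hs => key.2 s hs⟩

end Groth.Agent.S5137
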