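import Groth.Statements.S15941
import Mathlib
-- import your own Groth.Agent.* helpers here

set_option autoImplicit false
universe u
open HTop

namespace Groth.Agent.S15941

/-- An integrally closed integral domain is a seminormal ring, that is, whenever x^3 = y^2 there is
exactly one element a with x = a^2 and y = a^3. (The published statement is for a normal Noetherian
scheme and reduces at once to this affine integral case; the Noetherian hypothesis plays no role.) -/
theorem result (A : Type u) [CommRing A] [IsDomain A]
    [IsIntegrallyClosed A] : HTop.IsSeminormalRing A := by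
  intro x y hxy
  by_cases hx : x = 0
  · subst hx
    have hy : y = 0 := by
      have : y ^ 2 = 0 := by rw [← hxy]; simp
      exact pow_eq_zero_iff (two_ne_zero) |>.mp this
    subst hy
    refine ⟨0, by simp, ?_⟩
    rintro a ⟨ha, -⟩
    exact (pow_eq_zero_iff (two_ne_zero)).mp ha.symm
  · -- a = y / x in the fraction field
    have hinj : Function.Injective (algebraMap A (FractionRing A)) := IsFractionRing.injective A _
    have hx' : algebraMap A (FractionRing A) x ≠ 0 := by
      rw [Ne, map_eq_zero_iff _ hinj]; exact hx
    set X := algebraMap A (FractionRing A) x with hX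
    set Y := algebraMap A (FractionRing A) y with hY
    have hXY : X ^ 3 = Y ^ 2 := by
      rw [hX, hY, ← map_pow, ← map_pow, hxy]
    have hsq : (Y / X) ^ 2 = X := by
      rw [div_pow, ← hXY]
      field_simp
    have hint : IsIntegral A (Y / X) := by
      refine ⟨Polynomial.X ^ 2 - Polynomial.C x, Polynomial.monic_X_pow_sub_C _ (by norm_num), ?_⟩
      simp only [Polynomial.eval₂_sub, Polynomial.eval₂_pow, Polynomial.eval₂_X, Polynomial.eval₂_C]
      rw [hsq, sub_self]
    obtain ⟨a, ha⟩ := IsIntegrallyClosed.isIntegral_iff.mp hint
    have ha2 : x = a ^ 2 := by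
      apply hinj
      rw [map_pow, ha, hsq]
    have ha3 : y = a ^ 3 := by
      apply hinj
      have h4 : X * (Y / X) = Y := by field_simp
      rw [map_pow, ha, pow_succ, hsq, h4]
    refine ⟨a, ⟨ha2, ha3⟩, ?_⟩
    rintro b ⟨hb2, hb3⟩
    -- b * x = y = a * x
    have hbx : b * x = a * x := by
      calc b * x = b * b ^ 2 := by rw [← hb2]
        _ = b ^ 3 := by ring
        _ = y := hb3.symm
        _ = a ^ 3 := ha3
        _ = a * a ^ 2 := by ring
        _ = a * x := by rw [← ha2]
    exact mul_right_cancel₀ hx hbx

end Groth.Agent.S15941
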