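import Groth.Statements.S9112
import Mathlib
import Groth.Agent.Lib.Helper21ModCoh
-- import your own Groth.Agent.* helpers here

set_option autoImplicit false
set_option linter.style.haveILetI false
set_option linter.unusedSectionVars false
universe u
open CategoryTheory
open ModSite

namespace Groth.Agent.S9112
open Groth.Agent.Lib.Helper21.FreeAb


/-- Part (1): on a small ringed site (C, O) with O commutative, for a point p of the site: the stalk
functor F ↦ F_p from O-modules to O_p-modules is exact. Stated on a short exact sequence 0 → F₁ → F₂
→ F₃ → 0 of O-modules: the induced O_p-linear map F₁,p → F₂,p is injective, F₂,p → F₃,p is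
surjective, and the range of the first is the kernel of the second. -/
theorem result {C : Type u} [SmallCategory C] {J : GrothendieckTopology C}
    (O : Sheaf J CommRingCat.{u}) (S : ShortComplex (ModSite.Mod O)) (hS : S.ShortExact)
    (p : GrothendieckTopology.Point.{u} J) :
    Function.Injective (ModSite.stalkMap p S.f).hom ∧ Function.Surjective (ModSite.stalkMap p S.g).hom ∧
      LinearMap.range (ModSite.stalkMap p S.f).hom = LinearMap.ker (ModSite.stalkMap p S.g).hom := by
  have h1 : (S.map (SheafOfModules.toSheaf (ModSite.ringSh O))).ShortExact :=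
    hS.map_of_exact _
  have h2 : ((S.map (SheafOfModules.toSheaf (ModSite.ringSh O))).map
      (p.sheafFiber (A := AddCommGrpCat.{u}))).ShortExact := h1.map_of_exact _
  have hmono := h2.mono_f
  have hepi := h2.epi_g
  have hex := h2.exact
  rw [AddCommGrpCat.mono_iff_injective] at hmono
  rw [AddCommGrpCat.epi_iff_surjective] at hepi
  rw [ShortComplex.ab_exact_iff] at hex
  refine ⟨hmono, hepi, ?_⟩
  ext x
  constructor
  · rintro ⟨y, rfl⟩
    rw [LinearMap.mem_ker]
    have := ConcreteCategory.congr_hom
      ((S.map (SheafOfModules.toSheaf (ModSite.ringSh O))).map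
        (p.sheafFiber (A := AddCommGrpCat.{u}))).zero y
    exact this
  · intro hx
    rw [LinearMap.mem_ker] at hx
    obtain ⟨y, hy⟩ := hex x hx
    exact ⟨y, hy⟩

end Groth.Agent.S9112
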