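import Groth.Statements.S3886
import Mathlib.Tactic
import Mathlib.AlgebraicTopology.SimplicialObject.ChainHomotopy
import Mathlib.AlgebraicTopology.AlternatingFaceMapComplex

set_option autoImplicit false
universe u
open CategoryTheory
open Hyper

namespace Groth.Agent.S3886

section General
universe v₁ u₁ v₂ u₂
open AlgebraicTopology Simplicial SimplexCategory


variable {𝓕 : Type u₁} [Category.{v₁} 𝓕] {A : Type u₂} [Category.{v₂} A] [Preadditive A]
  (E : 𝓕ᵒᵖ ⥤ A) {K L : SimplicialObject 𝓕}

/-- the cosimplicial map induced by a simplicial map -/
abbrev cosObj (M : SimplicialObject 𝓕) : CosimplicialObject A := M.rightOp ⋙ E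

/-- the cosimplicial map induced by a simplicial map -/
abbrev cosMap (a : L ⟶ K) : cosObj E K ⟶ cosObj E L :=
  ((Functor.whiskeringLeft _ _ _).map (NatTrans.rightOp a)).app E

variable {a b : L ⟶ K} (H : SimplicialObject.Homotopy a b)

/-- the chain homotopy in the opposite category -/
noncomputable abbrev Hc :=
  (H.whiskerRight E.rightOp).toChainHomotopy

theorem d_unop (M : SimplicialObject 𝓕) (n : ℕ) :
    (((alternatingFaceMapComplex Aᵒᵖ).obj
      (((SimplicialObject.whiskering 𝓕 Aᵒᵖ).obj E.rightOp).obj M)).d (n + 1) n).unop =
      ((alternatingCofaceMapComplex A).obj (cosObj E M)).d n (n + 1) := by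
  have h1 : ((alternatingCofaceMapComplex A).obj (cosObj E M)).d n (n + 1) =
      AlternatingCofaceMapComplex.objD (cosObj E M) n := by
    exact CochainComplex.of_d (fun n => (cosObj E M).obj ⦋n⦌)
      (AlternatingCofaceMapComplex.objD (cosObj E M)) n
  rw [h1]
  simp only [alternatingFaceMapComplex_obj_d, AlternatingFaceMapComplex.objD,
    AlternatingCofaceMapComplex.objD, unop_sum, unop_zsmul]
  rfl

/-- components of the cochain homotopy -/
noncomputable def homF (i j : ℕ) : ((alternatingCofaceMapComplex A).obj (cosObj E K)).X i ⟶
    ((alternatingCofaceMapComplex A).obj (cosObj E L)).X j :=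
  ((Hc E H).hom j i).unop

/-- The cochain homotopy induced by a simplicial homotopy, through a contravariant functor. -/
noncomputable def cochainHomotopy :
    _root_.Homotopy ((alternatingCofaceMapComplex A).map (cosMap E a))
      ((alternatingCofaceMapComplex A).map (cosMap E b)) where
  hom := homF E H
  zero i j hij := by
    have h0 : (Hc E H).hom j i = 0 := (Hc E H).zero j i (by simpa using hij)
    change ((Hc E H).hom j i).unop = 0
    rw [h0]
    rfl
  comm n := by
    cases n with
    | zero =>
      rw [Homotopy.prevD_zero_cochainComplex, Homotopy.dNext_cochainComplex]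
      have h1 := (Hc E H).comm 0
      rw [Homotopy.dNext_zero_chainComplex, Homotopy.prevD_chainComplex] at h1
      have h2 := congrArg Quiver.Hom.unop h1
      simp only [zero_add, unop_add, unop_comp] at h2
      rw [d_unop] at h2
      rw [add_zero]
      exact h2
    | succ n =>
      rw [Homotopy.prevD_succ_cochainComplex, Homotopy.dNext_cochainComplex]
      have h1 := (Hc E H).comm (n + 1)
      rw [Homotopy.dNext_succ_chainComplex, Homotopy.prevD_chainComplex] at h1
      have h2 := congrArg Quiver.Hom.unop h1
      simp only [unop_add, unop_comp] at h2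
      rw [d_unop, d_unop] at h2
      rw [add_comm (_ ≫ _) (_ ≫ _)]
      exact h2


end General

open Opposite CategoryTheory.Limits in
/-- Let a, b : L -> K be two morphisms of simplicial semi-representable objects over an object X of a
small category (simplicial objects in formal coproducts of objects over X), homotopic in the
combinatorial (simplicial) sense. Then for every presheaf of abelian groups P and every p, a and b
induce the same map from the p-th Cech cohomology group of P with respect to K to that with respect
to L. -/
theorem result {C : Type u} [SmallCategory C] (X : C)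
    {K L : SimplicialObject (FormalCoproduct.{u} (Over X))} (a b : L ⟶ K)
    (h : Nonempty (SimplicialObject.Homotopy a b)) (P : Cᵒᵖ ⥤ AddCommGrpCat.{u}) (p : ℕ) :
    Hyper.cechHMap X a P p = Hyper.cechHMap X b P p := by
  obtain ⟨H⟩ := h
  have hh : Homotopy (Hyper.cechMap X a P) (Hyper.cechMap X b P) :=
    cochainHomotopy ((FormalCoproduct.evalOp.{u} (Over X) AddCommGrpCat.{u}).obj
      ((Over.forget X).op ⋙ P)) H
  change (HomologicalComplex.homologyMap (Hyper.cechMap X a P) p).hom =
    (HomologicalComplex.homologyMap (Hyper.cechMap X b P) p).hom
  rw [hh.homologyMap_eq p]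

end Groth.Agent.S3886
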