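import Groth.Statements.S13581
import Mathlib
import Groth.Agent.S0485
import Groth.Agent.Lib.Helper21RestrExact
import Groth.Agent.Lib.Helper21DerAcyc
import Groth.Agent.Lib.Helper23ExtRD
import Groth.Agent.Lib.Helper23LocSS
import Groth.Agent.Lib.Helper21FreeConst
-- import your own Groth.Agent.* helpers here

set_option autoImplicit false
set_option linter.style.haveILetI false
set_option linter.unusedSectionVars false
universe w' w u
open CategoryTheory CategoryTheory.Limits
open ExtSupp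

namespace Groth.Agent.S13581
open Opposite Abelian

section general

universe v₁ u₁ u₂ w₁ w₂

/-- change of universe for `Ext`, as an additive equivalence. -/
noncomputable def extChgUniv {𝒜 : Type u₁} [Category.{v₁} 𝒜] [Abelian 𝒜] [HasExt.{w₁} 𝒜]
    [HasExt.{w₂} 𝒜] (X Y : 𝒜) (n : ℕ) : Ext.{w₁} X Y n ≃+ Ext.{w₂} X Y n :=
  letI : HasDerivedCategory.{max u₁ v₁} 𝒜 := HasDerivedCategory.standard _
  (Ext.homAddEquiv : Ext.{w₁} X Y n ≃+ _).trans (Ext.homAddEquiv : Ext.{w₂} X Y n ≃+ _).symm

open Groth.Agent.Lib.Helper21.DerAcyc Groth.Agent.Lib.Helper23ExtRD Groth.Agent.Lib.Helper23LocSS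
  Groth.Agent.Lib.Helper21.FreeAb in
/-- `Ext^n(L A, B) ≅ Ext^n(A, R B)` for an adjunction `L ⊣ R` with `R` exact and preserving
injectives. -/
theorem nonempty_ext_adj {𝒜 : Type u₁} {ℬ : Type u₂} [Category.{v₁} 𝒜] [Category.{v₁} ℬ]
    [Abelian 𝒜] [Abelian ℬ] [EnoughInjectives 𝒜] [EnoughInjectives ℬ]
    [HasExt.{v₁} 𝒜] [HasExt.{v₁} ℬ]
    {L : ℬ ⥤ 𝒜} {R : 𝒜 ⥤ ℬ} (adj : L ⊣ R) [R.Additive] [R.PreservesHomology]
    [R.PreservesInjectiveObjects] (A : ℬ) (B : 𝒜) (n : ℕ) :
    Nonempty (Ext.{v₁} (L.obj A) B n ≃+ Ext.{v₁} A (R.obj B) n) := by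
  haveI : L.Additive := adj.left_adjoint_additive
  let G : ℬ ⥤ AddCommGrpCat.{v₁} := preadditiveCoyoneda.obj (op A)
  let G' : 𝒜 ⥤ AddCommGrpCat.{v₁} := preadditiveCoyoneda.obj (op (L.obj A))
  have hE : ∀ I : 𝒜, Injective I → ∀ q : ℕ, 0 < q →
      IsZero ((G.rightDerived q).obj (R.obj I)) := by
    intro I hI q hq
    obtain ⟨q, rfl⟩ : ∃ k, q = k + 1 := ⟨q - 1, by lia⟩
    haveI : Injective (R.obj I) := R.injective_obj I
    exact Functor.isZero_rightDerived_obj_injective_succ G q (R.obj I)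
  let iso : R ⋙ G ≅ G' := adjCoyonedaIso adj A
  obtain ⟨e₁⟩ := nonempty_rightDerived_comp_iso R G hE B n
  let e₂ := (rightDerivedIso iso n).app B
  obtain ⟨e₃⟩ := rightDerived_coyoneda_iso A (R.obj B) n
  obtain ⟨e₄⟩ := rightDerived_coyoneda_iso (L.obj A) B n
  exact ⟨(e₃.symm ≪≫ e₁.symm ≪≫ e₂ ≪≫ e₄).addCommGroupIsoToAddEquiv.symm⟩

end general


/-- On a ringed site, for an object `U` and sheaves of modules `M`, `N`, the group `Ext^i(M_U, N)`,
where `M_U = j_!(M|_U)` is the extension by zero of the restriction, is isomorphic to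
`Ext^i_{O|_U}(M|_U, N|_U)` computed on the localised site over `U`; hence the long exact sequence
`Ext^i_Z(M, N) → Ext^i(M, N) → Ext^i(M_U, N) → Ext^{i+1}_Z(M, N)` for the closed complement `Z` of
`U` has the Ext groups of the restrictions as its third terms. Existence of an isomorphism of groups
in each degree only. (The published statements give the long exact sequence itself, on a ringed
space resp. a ringed topos; its exactness over these definitions is formal and is not part of this
row.) -/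
theorem result {C : Type u} [SmallCategory C]
    {J : GrothendieckTopology C} {O : Sheaf J CommRingCat.{u}} [HasExt.{w} (ModSite.Mod O)]
    (U : C) [HasExt.{w'} (ModSite.Mod (O.over U))] (M N : ModSite.Mod O) (i : ℕ) :
    Nonempty (Abelian.Ext.{w} (ExtSupp.openMod U M) N i ≃+
      Abelian.Ext.{w'} ((ModSite.restr O U).obj M) ((ModSite.restr O U).obj N) i) := by
  haveI : EnoughInjectives (ModSite.Mod O) := Groth.Agent.S0485.result J _
  haveI : EnoughInjectives (ModSite.Mod (O.over U)) := Groth.Agent.S0485.result (J.over U) _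
  haveI : HasExt.{u} (ModSite.Mod O) := hasExt_of_enoughInjectives.{u} _
  haveI : HasExt.{u} (ModSite.Mod (O.over U)) := hasExt_of_enoughInjectives.{u} _
  obtain ⟨e⟩ := nonempty_ext_adj (ModSite.extZeroAdj O U) ((ModSite.restr O U).obj M) N i
  exact ⟨(extChgUniv.{u, u+1, w, u} _ _ _).trans (e.trans (extChgUniv.{u, u+1, u, w'} _ _ _))⟩

end Groth.Agent.S13581
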