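import Groth.Statements.S0856
import Mathlib
-- import your own Groth.Agent.* helpers here

set_option autoImplicit false
universe u
open CategoryTheory
open CohSite

namespace Groth.Agent.S0856

open Opposite

section
variable {C : Type u} [SmallCategory C] {J : GrothendieckTopology C} (O : Sheaf J RingCat.{u})

/-- free sheaf of modules on a presheaf of sets -/
noncomputable def L : (Cᵒᵖ ⥤ Type u) ⥤ SheafOfModules.{u} O :=
  PresheafOfModules.free O.obj ⋙ PresheafOfModules.sheafification (𝟙 O.obj)

noncomputable def Rt : SheafOfModules.{u} O ⥤ (Cᵒᵖ ⥤ Type u) :=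
  (SheafOfModules.forget O ⋙ PresheafOfModules.restrictScalars (𝟙 O.obj)) ⋙
    (PresheafOfModules.toPresheaf O.obj ⋙ (Functor.whiskeringRight _ _ _).obj (forget Ab))

noncomputable def adj : L O ⊣ Rt O :=
  (PresheafOfModules.freeAdjunction O.obj).comp
    (PresheafOfModules.sheafificationAdjunction (𝟙 O.obj))


instance mono_free_map {F G : Cᵒᵖ ⥤ Type u} (φ : F ⟶ G) [Mono φ] :
    Mono ((PresheafOfModules.free O.obj).map φ) := by
  apply PresheafOfModules.mono_of_injective
  intro X
  have hinj : Function.Injective (φ.app X) := by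
    rw [← mono_iff_injective]
    infer_instance
  exact Finsupp.mapDomain_injective hinj

instance mono_L_map {F G : Cᵒᵖ ⥤ Type u} (φ : F ⟶ G) [Mono φ] :
    Mono ((L O).map φ) := by
  have := mono_free_map O φ
  dsimp [L]
  infer_instance

end

open Opposite in
/-- Let (C, O) be a ringed site, a : U' -> U a monomorphism of C and I an injective sheaf of O-modules.
Then the restriction map I(U) -> I(U') is surjective. -/
theorem result {C : Type u} [SmallCategory C]
    {J : GrothendieckTopology C} (O : Sheaf J RingCat.{u}) (I : SheafOfModules.{u} O) [Injective I]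
    {U U' : C} (a : U' ⟶ U) [Mono a] : Function.Surjective (I.val.map a.op) := by
  intro s
  -- s as a map yoneda U' ⟶ Rt I
  let s' : yoneda.obj U' ⟶ (Rt O).obj I := yonedaEquiv.symm s
  let g0 : (L O).obj (yoneda.obj U') ⟶ I := ((adj O).homEquiv _ _).symm s'
  have hm : Mono (yoneda.map a) := inferInstance
  let g : (L O).obj (yoneda.obj U) ⟶ I := Injective.factorThru g0 ((L O).map (yoneda.map a))
  have hg : (L O).map (yoneda.map a) ≫ g = g0 := Injective.comp_factorThru _ _
  let t' : yoneda.obj U ⟶ (Rt O).obj I := (adj O).homEquiv _ _ g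
  have ht' : yoneda.map a ≫ t' = s' := by
    rw [← (adj O).homEquiv_naturality_left, hg]
    exact Equiv.apply_symm_apply _ _
  refine ⟨yonedaEquiv t', ?_⟩
  have h1 := congrArg yonedaEquiv ht'
  rw [Equiv.apply_symm_apply] at h1
  rw [← h1, ← yonedaEquiv_naturality]
  rfl

end Groth.Agent.S0856
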