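import Groth.Statements.S16954
import Mathlib
import Groth.Agent.Lib.Helper23SectCmpLib
-- import your own Groth.Agent.* helpers here

set_option autoImplicit false
universe u
open CohCmp

namespace Groth.Agent.S16954


open AlgebraicGeometry CategoryTheory Scheme.Modules Opposite Limits TopologicalSpace

open Groth.Agent.Lib.Helper23.SectCmpLib

open AlgebraicGeometry CategoryTheory Scheme.Modules Opposite in
/-- The comparison map is locally surjective. Let f : X → Y be a morphism of schemes, F an O_X-module
and p a natural number; R^p f_* F is the p-th right derived functor of direct image on O-modules and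
ε_V : H^p(f⁻¹V, F|_{f⁻¹V}) → Γ(V, R^p f_* F) the pinned comparison maps (the structure SectCmp,
taken as a hypothesis). Then for every open V of Y, every section t of R^p f_* F over V and every
point y of V there are an open neighbourhood W ⊆ V of y and a class x ∈ H^p(f⁻¹W, F|_{f⁻¹W}) with
ε_W(x) equal to the restriction of t to W. -/
theorem result
    {X Y : Scheme.{u}} (f : X ⟶ Y) [HasInjectiveResolutions X.Modules]
    {Δ : RDer.DerivedLES (pushforward f)} (E : CohCmp.SectCmp f Δ) (F : X.Modules) (p : ℕ)
    (V : Y.Opens) (t : ((Coh.Rpush f p).obj F).presheaf.obj (op V)) (y : Y) (hy : y ∈ V) :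
    ∃ (W : Y.Opens) (hWV : W ≤ V), y ∈ W ∧
      ∃ x : Coh.HHon X F (f ⁻¹ᵁ W) p,
        E.ε W F p x = ((Coh.Rpush f p).obj F).presheaf.map (homOfLE hWV).op t := by
  have := Groth.Agent.S0484.result (Opens.grothendieckTopology X) X.ringCatSheaf
  have : EnoughInjectives X.Modules := inferInstanceAs (EnoughInjectives (SheafOfModules.{u} X.ringCatSheaf))
  induction p generalizing F V with
  | zero =>
    refine ⟨V, le_rfl, hy, ?_⟩
    let τ := (pushforward f).toRightDerivedZero.app F
    have : IsIso τ := inferInstance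
    let s : F.presheaf.obj (op (f ⁻¹ᵁ V)) := (inv τ).app V t
    refine ⟨CohPull.sectH0 F (f ⁻¹ᵁ V) s, ?_⟩
    rw [E.zero V F s]
    have h1 : τ.app V ((inv τ).app V t) = t :=
      congrArg (fun φ : (Coh.Rpush f 0).obj F ⟶ (Coh.Rpush f 0).obj F => φ.app V t) (IsIso.inv_hom_id τ)
    have h2 : ((Coh.Rpush f 0).obj F).presheaf.map (homOfLE (le_refl V)).op t = t := by
      have h3 : (homOfLE (le_refl V)).op = 𝟙 (op V) := rfl
      rw [h3, CategoryTheory.Functor.map_id]
      rfl
    exact h1.trans h2.symm
  | succ p ih =>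
    let S : ShortComplex X.Modules :=
      ShortComplex.mk (Injective.ι F) (cokernel.π (Injective.ι F)) (cokernel.condition _)
    have hS : S.ShortExact :=
      { exact := ShortComplex.exact_cokernel _
        mono_f := inferInstanceAs (Mono (Injective.ι F))
        epi_g := inferInstanceAs (Epi (cokernel.π (Injective.ι F))) }
    have hz : IsZero ((Coh.Rpush f (p + 1)).obj S.X₂) :=
      Functor.isZero_rightDerived_obj_injective_succ _ p _
    have hex := Δ.exact₁ S hS p (p + 1) rfl
    have hepi : Epi (Δ.δ S hS p (p + 1) rfl) := hex.epi_f (hz.eq_of_tgt _ _)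
    obtain ⟨W, hWV, hyW, t', ht'⟩ := exists_local_lift (Δ.δ S hS p (p + 1) rfl) V t y hy
    obtain ⟨W', hW'W, hyW', x', hx'⟩ := ih S.X₃ W t' hyW
    have hA := toAbOn_shortExact (f ⁻¹ᵁ W') S hS
    refine ⟨W', hW'W.trans hWV, hyW', extδ hA p x', ?_⟩
    rw [E.delta W' S hS hA p x', hx']
    have nat := ConcreteCategory.congr_hom
      ((Δ.δ S hS p (p + 1) rfl).mapPresheaf.naturality (homOfLE hW'W).op) t'
    refine nat.trans ?_
    change ((Coh.Rpush f (p + 1)).obj F).presheaf.map (homOfLE hW'W).op
      ((Δ.δ S hS p (p + 1) rfl).app W t') = _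
    rw [ht', ← ConcreteCategory.comp_apply, ← Functor.map_comp]
    rfl

end Groth.Agent.S16954
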