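import Groth.Statements.S1189
import Mathlib.CategoryTheory.Galois.Prorepresentability
import Mathlib.CategoryTheory.Galois.Decomposition
-- import your own Groth.Agent.* helpers here

set_option autoImplicit false
universe u v w
open CategoryTheory PreGaloisCategory
open Pi1

namespace Groth.Agent.S1189

open Limits

section
variable {C : Type u} [Category.{v} C] [GaloisCategory C] (F : C ⥤ FintypeCat.{w}) [FiberFunctor F]

/-- automorphisms of the fibre functor act trivially on a finite coproduct of terminal objects -/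
theorem app_coprod_terminal (σ : Aut F) (n : ℕ) :
    σ.hom.app (∐ fun _ : Fin n => ⊤_ C) = 𝟙 _ := by
  ext y
  let s : Cocone (Discrete.functor (fun _ : Fin n => ⊤_ C) ⋙ F) :=
    F.mapCocone (colimit.cocone (Discrete.functor (fun _ : Fin n => ⊤_ C)))
  let s' : IsColimit s := isColimitOfPreserves F (colimit.isColimit _)
  obtain ⟨⟨j⟩, z, h⟩ := Concrete.isColimit_exists_rep _ s' y
  have h' : F.map (Sigma.ι (fun _ : Fin n => ⊤_ C) j) z = y := h
  have hT : IsTerminal (F.obj (⊤_ C)) := IsTerminal.isTerminalObj F (⊤_ C) terminalIsTerminal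
  have hsub : Subsingleton (F.obj (⊤_ C)) := ⟨fun a b => by
    let fa : FintypeCat.of PUnit.{w + 1} ⟶ F.obj (⊤_ C) := FintypeCat.homMk (fun _ => a)
    let fb : FintypeCat.of PUnit.{w + 1} ⟶ F.obj (⊤_ C) := FintypeCat.homMk (fun _ => b)
    exact ConcreteCategory.congr_hom (hT.hom_ext fa fb) PUnit.unit⟩
  have hz : σ.hom.app (⊤_ C) z = z := Subsingleton.elim _ _
  rw [← h']
  have := ConcreteCategory.congr_hom (σ.hom.naturality (Sigma.ι (fun _ : Fin n => ⊤_ C) j)) z
  simp only [ConcreteCategory.comp_apply] at this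
  rw [hz] at this
  exact this

/-- a connected object on whose fibre `Aut F` acts trivially is terminal -/
theorem isIso_terminalFrom_of_trivial (Z : C) [IsConnected Z]
    (hZ : ∀ (σ : Aut F) (x : F.obj Z), σ.hom.app Z x = x) : IsIso (terminal.from Z) := by
  have hsubZ : Subsingleton (F.obj Z) := ⟨fun a b => by
    obtain ⟨σ, hσ⟩ := MulAction.exists_smul_eq (Aut F) a b
    rw [← hσ]
    exact (hZ σ a).symm⟩
  have hT : IsTerminal (F.obj (⊤_ C)) := IsTerminal.isTerminalObj F (⊤_ C) terminalIsTerminal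
  have hsub : Subsingleton (F.obj (⊤_ C)) := ⟨fun a b => by
    let fa : FintypeCat.of PUnit.{w + 1} ⟶ F.obj (⊤_ C) := FintypeCat.homMk (fun _ => a)
    let fb : FintypeCat.of PUnit.{w + 1} ⟶ F.obj (⊤_ C) := FintypeCat.homMk (fun _ => b)
    exact ConcreteCategory.congr_hom (hT.hom_ext fa fb) PUnit.unit⟩
  obtain ⟨z⟩ := nonempty_fiber_of_isConnected F Z
  have hbij : Function.Bijective (F.map (terminal.from Z)) := by
    refine ⟨fun a b _ => Subsingleton.elim _ _, fun t => ⟨z, Subsingleton.elim _ _⟩⟩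
  have : IsIso (F.map (terminal.from Z)) := (ConcreteCategory.isIso_iff_bijective (F.map (terminal.from Z))).mpr hbij
  exact isIso_of_reflects_iso _ F

theorem exists_iso_coprod_terminal_of_trivial (Y : C)
    (hY : ∀ (σ : Aut F) (x : F.obj Y), σ.hom.app Y x = x) :
    ∃ n : ℕ, Nonempty (Y ≅ ∐ fun _ : Fin n => ⊤_ C) := by
  obtain ⟨ι, f, g, hl, hc, hfin⟩ := has_decomp_connected_components Y
  have hiso : ∀ i, IsIso (terminal.from (f i)) := by
    intro i
    haveI := hc i
    haveI : Mono (g i) := MonoCoprod.mono_inj _ (Cofan.mk Y g) hl i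
    refine isIso_terminalFrom_of_trivial F (f i) (fun σ x => ?_)
    have hinj : Function.Injective (F.map (g i)) :=
      ConcreteCategory.injective_of_mono_of_preservesPullback (F.map (g i))
    apply hinj
    have hnat := ConcreteCategory.congr_hom (σ.hom.naturality (g i)) x
    simp only [ConcreteCategory.comp_apply] at hnat
    rw [← hnat]
    exact hY σ _
  haveI : Finite ι := hfin
  let n := Nat.card ι
  have e : ι ≃ Fin n := Finite.equivFin ι
  let e1 : Y ≅ ∐ f := (colimit.isoColimitCocone ⟨Cofan.mk Y g, hl⟩).symm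
  let e2 : ∐ f ≅ ∐ (fun _ : ι => ⊤_ C) :=
    Sigma.mapIso (fun i => haveI := hiso i; asIso (terminal.from (f i)))
  let e3 : ∐ (fun _ : ι => ⊤_ C) ≅ ∐ (fun _ : Fin n => ⊤_ C) :=
    Sigma.whiskerEquiv (f := fun _ : ι => ⊤_ C) (g := fun _ : Fin n => ⊤_ C) e
      (fun _ => Iso.refl _)
  exact ⟨n, ⟨e1 ≪≫ e2 ≪≫ e3⟩⟩

end

/-- Let H : C ⥤ C' and H' : C' ⥤ C'' be exact functors between Galois categories and F'' a fibre functor
on C'' such that F'' ∘ H' and F'' ∘ H' ∘ H are fibre functors; let h' : π_1(C'', F'') → π_1(C', F''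
∘ H') and h : π_1(C', F'' ∘ H') → π_1(C, F'' ∘ H' ∘ H) be the induced homomorphisms. Then h ∘ h' is
trivial if and only if for every object X of C the object H'(H(X)) is isomorphic to a finite
coproduct of copies of the final object. -/
theorem result {C C' C'' : Type u} [Category.{v} C] [Category.{v} C'] [Category.{v} C'']
    [GaloisCategory C] [GaloisCategory C'] [GaloisCategory C'']
    (H : C ⥤ C') [Limits.PreservesFiniteLimits H] [Limits.PreservesFiniteColimits H]
    (H' : C' ⥤ C'') [Limits.PreservesFiniteLimits H'] [Limits.PreservesFiniteColimits H']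
    (F'' : C'' ⥤ FintypeCat.{w}) [FiberFunctor F''] [FiberFunctor (H' ⋙ F'')] [FiberFunctor (H ⋙ (H' ⋙ F''))] :
    (∀ σ : Aut F'', Pi1X.autWhisker H (H' ⋙ F'') (Pi1X.autWhisker H' F'' σ) = 1) ↔
      ∀ X : C, ∃ n : ℕ, Nonempty (H'.obj (H.obj X) ≅ ∐ fun _ : Fin n => ⊤_ C'') := by
  have key : ∀ (σ : Aut F'') (X : C),
      (Pi1X.autWhisker H (H' ⋙ F'') (Pi1X.autWhisker H' F'' σ)).hom.app X =
        σ.hom.app (H'.obj (H.obj X)) := fun σ X => rfl
  constructor
  · intro h X
    refine exists_iso_coprod_terminal_of_trivial F'' _ (fun σ x => ?_)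
    have h1 := key σ X
    rw [h σ] at h1
    rw [← h1]
    rfl
  · intro h σ
    ext X : 3
    rw [key]
    obtain ⟨n, ⟨φ⟩⟩ := h X
    have hnat := σ.hom.naturality φ.hom
    rw [app_coprod_terminal F'' σ n, Category.comp_id] at hnat
    have h2 : σ.hom.app (H'.obj (H.obj X)) ≫ F''.map φ.hom = 𝟙 _ ≫ F''.map φ.hom := by
      rw [← hnat, Category.id_comp]
    haveI : IsIso (F''.map φ.hom) := inferInstance
    exact (cancel_mono (F''.map φ.hom)).1 h2

end Groth.Agent.S1189
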