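import Groth.Statements.S6026
import Mathlib
import Groth.Agent.Lib.Helper16Restr
-- import your own Groth.Agent.* helpers here

set_option autoImplicit false
universe u
open CategoryTheory CategoryTheory.Limits TopologicalSpace
open LocCohZ

namespace Groth.Agent.S6026
open Opposite Abelian
open Groth.Agent.Lib.Helper16.SectSupp Groth.Agent.Lib.Helper16.ClosedEmb Groth.Agent.Lib.Helper16.Restr
open Groth.Agent.Lib.Helper16.ExtCompare

variable {X : TopCat.{u}} {W V : Opens X} (h : W ≤ V)

/-- `W` as an open of `V` -/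
abbrev W' (W V : Opens X) : Opens (TopCat.of V) := (Opens.map (CohCx.incl V)).obj W

include h in
lemma img_W' : img V (W' W V) = W := by
  apply le_antisymm
  · rintro _ ⟨x, hx, rfl⟩
    exact hx
  · intro x hx
    exact ⟨⟨x, h hx⟩, hx, rfl⟩

lemma img_W'_le : img V (W' W V) ≤ W := by
  rintro _ ⟨x, hx, rfl⟩
  exact hx

/-- the canonical projection `ℤ_V ⟶ ℤ_V/ℤ_W`. -/
noncomputable abbrev πq : CohCx.freeSheaf (J X) V ⟶ zq h :=
  cokernel.π (CohCx.freeSheafMap (J X) (homOfLE h))

/-- the generating section of `(ℤ_V/ℤ_W)` over `V`. -/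
noncomputable def e₀ : (zq h).obj.obj (op V) := CohFree.evalGen (J X) V (zq h) (πq h)

lemma e₀_vanish : (zq h).obj.map (homOfLE h).op (e₀ h) = 0 := by
  unfold e₀
  rw [← CohFree.evalGen_freeSheafMap_comp, cokernel.condition, map_zero]

/-- the generating section of `(ℤ_V/ℤ_W)|_V` over `⊤`. -/
noncomputable def s₀ : ((CohTop.restrFunctor V).obj (zq h)).obj.obj (op ⊤) :=
  (zq h).obj.map (homOfLE (img_le V ⊤)).op (e₀ h)

lemma s₀_vanish : ((CohTop.restrFunctor V).obj (zq h)).obj.map (homOfLE (le_top : W' W V ≤ ⊤)).op (s₀ h) = 0 := by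
  change (zq h).obj.map ((V.isOpenEmbedding.isOpenMap.functor).map (homOfLE (le_top : W' W V ≤ ⊤))).op
    ((zq h).obj.map (homOfLE (img_le V ⊤)).op (e₀ h)) = 0
  rw [map_map_apply (zq h) (homOfLE (img_le V ⊤)) _ (homOfLE ((img_W'_le).trans h)),
    ← map_map_apply (zq h) (homOfLE h) (homOfLE img_W'_le) (homOfLE ((img_W'_le).trans h)), e₀_vanish, map_zero]

/-- the comparison map `ℤ_V'/ℤ_W' ⟶ (ℤ_V/ℤ_W)|_V` on the space `V`. -/
noncomputable def wq : zq (le_top : W' W V ≤ ⊤) ⟶ (CohTop.restrFunctor V).obj (zq h) :=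
  cokernel.desc _ (CohFree.ofSect (J (TopCat.of V)) ⊤ _ (s₀ h)) (by
    apply (CohFree.homEquivSect (J (TopCat.of V)) (W' W V) _).injective
    rw [CohFree.homEquivSect_apply, CohFree.evalGen_freeSheafMap_comp, CohFree.evalGen_ofSect, map_zero]
    exact s₀_vanish h)

/-- key formula: the section attached to `wq ≫ R φ`. -/
lemma evalGen_wq_comp {F : CohTop.Ab X} (φ : zq h ⟶ F) :
    CohFree.evalGen (J (TopCat.of V)) ⊤ _
      (πq (le_top : W' W V ≤ ⊤) ≫ wq h ≫ (CohTop.restrFunctor V).map φ) =
    F.obj.map (homOfLE (img_le V ⊤)).op (CohFree.evalGen (J X) V F (πq h ≫ φ)) := by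
  unfold wq
  rw [cokernel.π_desc_assoc, evalGen_comp, CohFree.evalGen_ofSect]
  change φ.hom.app (op (img V ⊤)) (s₀ h) = _
  unfold s₀ e₀
  rw [evalGen_comp]
  exact ConcreteCategory.congr_hom (φ.hom.naturality (homOfLE (img_le V ⊤)).op) _


lemma wq_bijective (F : CohTop.Ab X) :
    Function.Bijective (fun φ : zq h ⟶ F => wq h ≫ (CohTop.restrFunctor V).map φ) := by
  have hbij := map_bijective_of_eq F (homOfLE (img_le V ⊤)) (img_top V).symm
  have hbijW := map_bijective_of_eq F (homOfLE (img_W'_le (W := W) (V := V))) (img_W' h).symm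
  constructor
  · intro φ φ' hφ
    have h' : wq h ≫ (CohTop.restrFunctor V).map φ = wq h ≫ (CohTop.restrFunctor V).map φ' := hφ
    have h2 := evalGen_wq_comp h φ
    rw [h', evalGen_wq_comp h φ'] at h2
    have h3 := hbij.1 h2
    have h4 : πq h ≫ φ' = πq h ≫ φ := by
      apply (CohFree.homEquivSect (J X) V F).injective
      rw [CohFree.homEquivSect_apply, CohFree.homEquivSect_apply]
      exact h3
    exact (cancel_epi (πq h)).1 h4.symm
  · intro χ
    set t := CohFree.evalGen (J (TopCat.of V)) ⊤ _ (πq (le_top : W' W V ≤ ⊤) ≫ χ) with ht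
    have htW : ((CohTop.restrFunctor V).obj F).obj.map (homOfLE (le_top : W' W V ≤ ⊤)).op t = 0 := by
      rw [ht, ← CohFree.evalGen_freeSheafMap_comp, cokernel.condition_assoc, zero_comp, map_zero]
    obtain ⟨s, hs⟩ := hbij.2 t
    have hsW : F.obj.map (homOfLE h).op s = 0 := by
      apply hbijW.1
      rw [map_zero, map_map_apply F (homOfLE h) (homOfLE img_W'_le) (homOfLE ((img_W'_le).trans h)),
        ← map_map_apply F (homOfLE (img_le V ⊤))
          ((V.isOpenEmbedding.isOpenMap.functor).map (homOfLE (le_top : W' W V ≤ ⊤)))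
          (homOfLE ((img_W'_le).trans h)), hs]
      exact htW
    have hdesc : CohCx.freeSheafMap (J X) (homOfLE h) ≫ CohFree.ofSect (J X) V F s = 0 := by
      apply (CohFree.homEquivSect (J X) W F).injective
      rw [CohFree.homEquivSect_apply, CohFree.evalGen_freeSheafMap_comp, CohFree.evalGen_ofSect, hsW, map_zero]
    refine ⟨cokernel.desc _ (CohFree.ofSect (J X) V F s) hdesc, ?_⟩
    apply (cancel_epi (πq (le_top : W' W V ≤ ⊤))).1
    apply (CohFree.homEquivSect (J (TopCat.of V)) ⊤ _).injective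
    rw [CohFree.homEquivSect_apply, CohFree.homEquivSect_apply]
    refine (evalGen_wq_comp h _).trans ?_
    rw [cokernel.π_desc, CohFree.evalGen_ofSect, hs]


/-- Let X be a topological space, W ⊆ V opens of X and Z = V − W. For every i there is an isomorphism
H^i_Z(X, F) ≅ H^i_Z(V, F|_V), natural in the abelian sheaf F on X, between cohomology with supports
in Z computed on X and computed on the open subspace V. (Existence of a natural family of
isomorphisms; the published statement has the canonical maps of cohomological functors.) -/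
theorem result {X : TopCat.{u}} {W V : Opens X} (h : W ≤ V) (i : ℕ) :
    ∃ e : ∀ F : CohTop.Ab X,
        LocCohZ.HZ F i h ≃+ LocCohZ.HZc (CohTop.restr F V) i ((Opens.map (CohCx.incl V)).obj W),
      ∀ (F G : CohTop.Ab X) (φ : F ⟶ G) (x : LocCohZ.HZ F i h),
        e G (LocCohZ.map φ i h x) =
          LocCohZ.map ((CohTop.restrFunctor V).map φ) i
            (le_top : (Opens.map (CohCx.incl V)).obj W ≤ ⊤) (e F x) := by
  haveI := restr_preservesFiniteLimits V
  haveI := restr_preservesFiniteColimits V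
  have hb := cmp_bijective.{u, u} (CohTop.restrFunctor V) (wq h)
    (wq_bijective h) (fun I _ m => by
      haveI := Groth.Agent.Lib.Helper16.Flasque.injective_isFlasque I
      exact ⟨fun a b => (HZ_eq_zero ((CohTop.restrFunctor V).obj I) (le_top : W' W V ≤ ⊤) m a).trans
        (HZ_eq_zero ((CohTop.restrFunctor V).obj I) (le_top : W' W V ≤ ⊤) m b).symm⟩) i
  refine ⟨fun F => AddEquiv.ofBijective (cmp (CohTop.restrFunctor V) (wq h) F i) (hb F), ?_⟩
  intro F G φ x
  change cmp (CohTop.restrFunctor V) (wq h) G i (x.comp (Ext.mk₀ φ) (add_zero i)) =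
    (cmp (CohTop.restrFunctor V) (wq h) F i x).comp (Ext.mk₀ ((CohTop.restrFunctor V).map φ)) (add_zero i)
  rw [cmp_apply, cmp_apply, Ext.mapExactFunctor_comp, Ext.mapExactFunctor_mk₀]
  exact (Ext.comp_assoc _ _ _ _ _ (by omega)).symm

end Groth.Agent.S6026
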