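import Groth.Statements.S14305
import Mathlib

set_option autoImplicit false
universe u v
open PtDeg

namespace Groth.Agent.S14305

variable {A : Type u} {G : Type v} [AddCommGroup A] [AddCommGroup G]

def E (f : A → G) {ι : Type*} [DecidableEq ι] (S : Finset ι) (k : ℕ) (x : ι → A) : G :=
  ∑ I ∈ S.powerset, ((-1 : ℤ) ^ (k + I.card)) • f (∑ i ∈ I, x i)

lemma E_insert (f : A → G) {ι : Type*} [DecidableEq ι] (S : Finset ι) (j : ι) (hj : j ∉ S) (k : ℕ)
    (x : ι → A) :
    E f (insert j S) k x = E f S k x - E (fun t => f (x j + t)) S k x := by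
  unfold E
  rw [Finset.sum_powerset_insert hj, sub_eq_add_neg, ← Finset.sum_neg_distrib]
  congr 1
  refine Finset.sum_congr rfl fun K hK => ?_
  have hjK : j ∉ K := fun h => hj (Finset.mem_powerset.1 hK h)
  rw [Finset.card_insert_of_notMem hjK, Finset.sum_insert hjK, ← add_assoc, pow_succ]
  simp

lemma E_congr (f : A → G) {ι : Type*} [DecidableEq ι] (S : Finset ι) (k : ℕ) (x x' : ι → A)
    (h : ∀ i ∈ S, x i = x' i) : E f S k x = E f S k x' := by
  unfold E
  refine Finset.sum_congr rfl fun K hK => ?_
  rw [Finset.sum_congr rfl fun i hi => h i (Finset.mem_powerset.1 hK hi)]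

lemma E_map (f : A → G) {ι κ : Type*} [DecidableEq ι] [DecidableEq κ] (e : ι ↪ κ) (S : Finset ι)
    (k : ℕ) (x : κ → A) : E f (S.map e) k x = E f S k (x ∘ e) := by
  unfold E
  symm
  refine Finset.sum_bij (fun K _ => K.map e) ?_ ?_ ?_ ?_
  · intro K hK
    rw [Finset.mem_powerset] at hK ⊢
    exact Finset.map_subset_map.2 hK
  · intro K _ K' _ h
    exact Finset.map_injective e h
  · intro K hK
    rw [Finset.mem_powerset] at hK
    refine ⟨K.preimage e e.injective.injOn, ?_, ?_⟩
    · rw [Finset.mem_powerset]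
      intro i hi
      have := hK (Finset.mem_preimage.1 hi)
      simpa using this
    · ext i
      simp only [Finset.mem_map, Finset.mem_preimage]
      constructor
      · rintro ⟨a, ha, rfl⟩; exact ha
      · intro hi
        obtain ⟨a, _, rfl⟩ := Finset.mem_map.1 (hK hi)
        exact ⟨a, hi, rfl⟩
  · intro K _
    rw [Finset.card_map, Finset.sum_map]
    rfl

lemma E_succ (f : A → G) {ι : Type*} [DecidableEq ι] (S : Finset ι) (k : ℕ) (x : ι → A) :
    E f S (k + 1) x = - E f S k x := by
  unfold E
  rw [← Finset.sum_neg_distrib]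
  refine Finset.sum_congr rfl fun K _ => ?_
  rw [add_right_comm, pow_succ]
  simp

def Dev (f : A → G) (k : ℕ) (x : Fin k → A) : G :=
  ∑ I ∈ ((Finset.univ : Finset (Fin k)).powerset.erase ∅), ((-1 : ℤ) ^ (k + I.card)) • f (∑ i ∈ I, x i)

lemma Dev_eq (f : A → G) (k : ℕ) (x : Fin k → A) :
    Dev f k x = E f Finset.univ k x - ((-1 : ℤ) ^ k) • f 0 := by
  unfold Dev E
  rw [Finset.sum_erase_eq_sub (Finset.empty_mem_powerset _)]
  simp

lemma E_update (f : A → G) (n : ℕ) (j : Fin n) (y : Fin n → A) (c : A) :
    E f Finset.univ n (Function.update y j c) =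
      E f (Finset.univ.erase j) n y - E (fun t => f (c + t)) (Finset.univ.erase j) n y := by
  conv_lhs => rw [← Finset.insert_erase (Finset.mem_univ j)]
  rw [E_insert _ _ _ (Finset.notMem_erase _ _), Function.update_self]
  rw [E_congr f _ n (Function.update y j c) y, E_congr _ _ n (Function.update y j c) y]
  all_goals
    intro i hi
    exact Function.update_of_ne (Finset.ne_of_mem_erase hi) _ _

lemma main (f : A → G) (n : ℕ) (j : Fin n) (y : Fin n → A) (a b : A) :
    Dev f (n + 1) (Fin.cons b (Function.update y j a)) =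
      Dev f n (Function.update y j (a + b)) - Dev f n (Function.update y j a)
        - Dev f n (Function.update y j b) := by
  rw [Dev_eq, Dev_eq, Dev_eq, Dev_eq, E_update, E_update, E_update]
  set S := (Finset.univ : Finset (Fin n)).erase j with hS
  have hu : (Finset.univ : Finset (Fin (n + 1))) =
      insert 0 (insert j.succ (S.map (Fin.succEmb n))) := by
    ext i
    simp only [Finset.mem_univ, Finset.mem_insert, Finset.mem_map, true_iff]
    refine Fin.cases (Or.inl rfl) (fun i => ?_) i
    by_cases hij : i = j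
    · right; left; rw [hij]
    · right; right
      exact ⟨i, by simp [hS, hij], rfl⟩
  have h0 : (0 : Fin (n + 1)) ∉ insert j.succ (S.map (Fin.succEmb n)) := by
    simp [Fin.succ_ne_zero]
    intro h; exact absurd h.symm (Fin.succ_ne_zero _)
  have h1 : j.succ ∉ S.map (Fin.succEmb n) := by
    simp [hS]
  set x : Fin (n + 1) → A := Fin.cons b (Function.update y j a) with hx
  have hxe : ∀ g : A → G, E g (S.map (Fin.succEmb n)) (n + 1) x = - E g S n y := by
    intro g
    rw [E_map, E_succ]
    congr 1
    apply E_congr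
    intro i hi
    simp only [Function.comp, hx, Fin.coe_succEmb, Fin.cons_succ]
    exact Function.update_of_ne (Finset.ne_of_mem_erase hi) _ _
  rw [hu, E_insert _ _ _ h0, E_insert _ _ _ h1, E_insert _ _ _ h1, hxe, hxe, hxe, hxe]
  have hx0 : x 0 = b := by rw [hx, Fin.cons_zero]
  have hxj : x j.succ = a := by rw [hx, Fin.cons_succ, Function.update_self]
  simp only [hx0, hxj]
  have : (fun t => f (b + (a + t))) = (fun t => f (a + b + t)) := by
    funext t; rw [add_comm a b, add_assoc]
  rw [this, pow_succ]
  simp only [mul_neg, mul_one, neg_smul]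
  abel

/-- Let A and G be abelian groups, written additively, f : A → G a map and n ≥ 1. For k ≥ 0 the k-th
deviation of f is the map A^k → G, (y_1, …, y_k) ↦ Σ_{∅ ≠ I ⊆ {1,…,k}} (−1)^{k+|I|} f(Σ_{i ∈ I}
y_i). Then f is pointed of degree n, meaning that its (n+1)-st deviation vanishes identically, if
and only if its n-th deviation is additive in each variable separately (with the other variables
fixed). -/
theorem result {A : Type u} {G : Type v} [AddCommGroup A] [AddCommGroup G]
    (f : A → G) (n : ℕ) (hn : 1 ≤ n) :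
    (∀ x : Fin (n + 1) → A, ∑ I ∈ ((Finset.univ : Finset (Fin (n + 1))).powerset.erase ∅), ((-1 : ℤ) ^ (n + 1 + I.card)) • f (∑ i ∈ I, x i) = 0) ↔
      (∀ (j : Fin n) (y : Fin n → A) (a b : A),
        ∑ I ∈ ((Finset.univ : Finset (Fin n)).powerset.erase ∅), ((-1 : ℤ) ^ (n + I.card)) • f (∑ i ∈ I, (Function.update y j (a + b)) i) =
          ∑ I ∈ ((Finset.univ : Finset (Fin n)).powerset.erase ∅), ((-1 : ℤ) ^ (n + I.card)) • f (∑ i ∈ I, (Function.update y j a) i) + ∑ I ∈ ((Finset.univ : Finset (Fin n)).powerset.erase ∅), ((-1 : ℤ) ^ (n + I.card)) • f (∑ i ∈ I, (Function.update y j b) i)) := by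
  change (∀ x : Fin (n + 1) → A, Dev f (n + 1) x = 0) ↔
    (∀ (j : Fin n) (y : Fin n → A) (a b : A),
      Dev f n (Function.update y j (a + b)) =
        Dev f n (Function.update y j a) + Dev f n (Function.update y j b))
  constructor
  · intro H j y a b
    have := main f n j y a b
    rw [H] at this
    rw [eq_comm, sub_sub, sub_eq_zero] at this
    exact this
  · intro H x
    have := main f n ⟨0, hn⟩ (Fin.tail x) (Fin.tail x ⟨0, hn⟩) (x 0)
    rw [Function.update_eq_self, Fin.cons_self_tail] at this
    rw [this, H, Function.update_eq_self]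
    abel

end Groth.Agent.S14305
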