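import Groth.Statements.S6161
import Mathlib
import Groth.Agent.Lib.Helper16CechNerveSect
import Groth.Agent.Lib.Helper16RpushSh
-- import your own Groth.Agent.* helpers here

set_option autoImplicit false
set_option linter.unusedSectionVars false
universe u
open CategoryTheory
open CohSite

namespace Groth.Agent.S6161

section
open CategoryTheory.Limits Opposite Simplicial AlgebraicTopology
open Groth.Agent.Lib.Helper16.CechNerveSect Groth.Agent.Lib.Helper16.FreeContr
open Groth.Agent.Lib.Helper16

variable {C : Type u} [SmallCategory C] (J : GrothendieckTopology C) {K' K : Sheaf J (Type u)} (f : K' ⟶ K)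

/-- evaluation at `U` -/
abbrev Ψ (U : C) : Sheaf J (Type u) ⥤ Type u :=
  sheafToPresheaf J (Type u) ⋙ (evaluation Cᵒᵖ (Type u)).obj (op U)

/-- the free presheaf functor -/
noncomputable abbrev Zp : Sheaf J (Type u) ⥤ (Cᵒᵖ ⥤ AddCommGrpCat.{u}) :=
  sheafToPresheaf J (Type u) ⋙ (Functor.whiskeringRight _ _ _).obj AddCommGrpCat.free.{u}

/-- the simplicial presheaf of free abelian groups on the Čech nerve -/
noncomputable abbrev P : SimplicialObject (Cᵒᵖ ⥤ AddCommGrpCat.{u}) :=
  (Arrow.mk f).cechNerve ⋙ Zp J

instance (U : C) (n : ℕ) : PreservesLimit (WidePullbackShape.wideCospan (Arrow.mk f).right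
    (fun _ : Fin (n + 1) => (Arrow.mk f).left) (fun _ => (Arrow.mk f).hom)) (Ψ J U) := by
  infer_instance

theorem hom_sum_apply {M N : AddCommGrpCat.{u}} {κ : Type*} (s : Finset κ) (g : κ → (M ⟶ N))
    (x : M) : (∑ j ∈ s, g j).hom x = ∑ j ∈ s, (g j).hom x := by
  have : (∑ j ∈ s, g j).hom = ∑ j ∈ s, (g j).hom := map_sum AddCommGrpCat.homAddEquiv g s
  rw [this, AddMonoidHom.finsetSum_apply]

theorem objD_app_hom (n : ℕ) (U : Cᵒᵖ) :
    ((AlternatingFaceMapComplex.objD (P J f) n).app U).hom =
      bd (X := fun n => (Ψ J U.unop).obj ((Arrow.mk f).cechNerve.obj (op ⦋n⦌)))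
        (dl (Arrow.mk f) (Ψ J U.unop)) n := by
  unfold AlternatingFaceMapComplex.objD bd
  rw [NatTrans.app_sum]
  have : ∀ (g : Fin (n + 2) → (((P J f) _⦋n + 1⦌).obj U ⟶ ((P J f) _⦋n⦌).obj U)),
      (∑ j, g j).hom = ∑ j, (g j).hom := fun g => map_sum AddCommGrpCat.homAddEquiv g _
  rw [this]
  refine Finset.sum_congr rfl (fun i _ => ?_)
  rw [NatTrans.app_zsmul, AddCommGrpCat.hom_zsmul]
  rfl

/-- the short complex of presheaves in positive degree -/
noncomputable def S (n : ℕ) : ShortComplex (Cᵒᵖ ⥤ AddCommGrpCat.{u}) :=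
  ShortComplex.mk (AlternatingFaceMapComplex.objD (P J f) (n + 1))
    (AlternatingFaceMapComplex.objD (P J f) n) (AlternatingFaceMapComplex.d_squared _ n)

theorem S_exact (n : ℕ) : (S J f n).Exact := by
  apply RpushSh.exact_of_pointwise
  intro U x hx
  have hx' : bd (X := fun n => (Ψ J U.unop).obj ((Arrow.mk f).cechNerve.obj (op ⦋n⦌)))
      (dl (Arrow.mk f) (Ψ J U.unop)) n x = 0 := by
    rw [← objD_app_hom]; exact hx
  obtain ⟨y, hy⟩ := CechNerveSect.exact_succ (Arrow.mk f) (Ψ J U.unop) n x hx'
  refine ⟨y, ?_⟩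
  show ((AlternatingFaceMapComplex.objD (P J f) (n + 1)).app U).hom y = x
  rw [objD_app_hom]; exact hy

/-- the base maps -/
noncomputable def bsn (n : ℕ) : (Arrow.mk f).cechNerve.obj (op ⦋n⦌) ⟶ K :=
  WidePullback.base (fun _ : Fin (n + 1) => (Arrow.mk f).hom)

theorem δ_base (i : Fin 2) :
    (P J f).δ i ≫ (Zp J).map (bsn J f 0) = (Zp J).map (bsn J f 1) := by
  show (Zp J).map ((Arrow.mk f).cechNerve.δ i) ≫ (Zp J).map _ = _
  rw [← Functor.map_comp]
  congr 1
  exact WidePullback.lift_base _ _ _ _

/-- the short complex of presheaves in degree zero -/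
noncomputable def S0 : ShortComplex (Cᵒᵖ ⥤ AddCommGrpCat.{u}) :=
  ShortComplex.mk (AlternatingFaceMapComplex.objD (P J f) 0)
    ((Zp J).map (bsn J f 0)) (by
      rw [AlternatingFaceMapComplex.objD, Fin.sum_univ_two, Fin.val_zero, pow_zero, one_smul,
        Fin.val_one, pow_one, neg_smul, one_smul, Preadditive.add_comp, Preadditive.neg_comp,
        δ_base, δ_base]
      apply add_neg_cancel)

theorem S0_exact : (S0 J f).Exact := by
  apply RpushSh.exact_of_pointwise
  intro U x hx
  have hx' : FreeAbelianGroup.map (bs (Arrow.mk f) (Ψ J U.unop) 0) x = 0 := hx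
  obtain ⟨y, hy⟩ := CechNerveSect.exact_zero (Arrow.mk f) (Ψ J U.unop) x hx'
  refine ⟨y, ?_⟩
  show ((AlternatingFaceMapComplex.objD (P J f) 0).app U).hom y = x
  rw [objD_app_hom]; exact hy

/-- the augmented simplicial sheaf of free abelian groups -/
noncomputable abbrev Y : SimplicialObject.Augmented (Sheaf J AddCommGrpCat.{u}) :=
  ((SimplicialObject.Augmented.whiskering _ _).obj
    (Sheaf.composeAndSheafify J AddCommGrpCat.free.{u})).obj (Arrow.mk f).augmentedCechNerve

theorem Y_δ (n : ℕ) (i : Fin (n + 2)) :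
    (SimplicialObject.Augmented.drop.obj (Y J f)).δ i =
      (presheafToSheaf J AddCommGrpCat.{u}).map ((P J f).δ i) := rfl

theorem Y_objD (n : ℕ) :
    AlternatingFaceMapComplex.objD (SimplicialObject.Augmented.drop.obj (Y J f)) n =
      (presheafToSheaf J AddCommGrpCat.{u}).map (AlternatingFaceMapComplex.objD (P J f) n) := by
  unfold AlternatingFaceMapComplex.objD
  rw [Functor.map_sum]
  refine Finset.sum_congr rfl (fun i _ => ?_)
  rw [Functor.map_zsmul]
  rfl

instance epi_bsn0 [Epi f] : Epi (bsn J f 0) := by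
  have : WidePullback.lift (arrows := fun _ : Fin (0 + 1) => (Arrow.mk f).hom) f (fun _ => 𝟙 K')
      (fun _ => Category.id_comp _) ≫ bsn J f 0 = f := WidePullback.lift_base _ _ _ _
  exact epi_of_epi_fac this

theorem result' [Epi f] : QuasiIso ((AlternatingFaceMapComplex.ε
    (C := Sheaf J AddCommGrpCat.{u})).app (Y J f)) := by
  refine ⟨fun n => ?_⟩
  cases n with
  | zero =>
    rw [ChainComplex.quasiIsoAt₀_iff, ShortComplex.quasiIso_iff_of_zeros']
    · dsimp
      refine (ShortComplex.exact_and_epi_g_iff_of_iso ?_).2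
        ⟨(S0_exact J f).map (presheafToSheaf J AddCommGrpCat.{u}), ?_⟩
      · refine ShortComplex.isoMk (Iso.refl _) (Iso.refl _) (Iso.refl _) ?_ ?_
        · refine (Category.id_comp _).trans (Eq.trans ?_ (Category.comp_id _).symm)
          exact ((AlgebraicTopology.alternatingFaceMapComplex_obj_d _ 0).trans (Y_objD J f 0)).symm
        · refine (Category.id_comp _).trans (Eq.trans ?_ (Category.comp_id _).symm)
          exact (ChainComplex.toSingle₀Equiv_symm_apply_f_zero (C := ((alternatingFaceMapComplex
            (Sheaf J AddCommGrpCat.{u})).obj (Y J f).left)) (X := (Y J f).right)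
            ((Y J f).hom.app (op ⦋0⦌)) _).symm
      · show Epi ((Sheaf.composeAndSheafify J AddCommGrpCat.free.{u}).map (bsn J f 0))
        have := Functor.preservesEpimorphisms_of_adjunction (Sheaf.adjunction J AddCommGrpCat.adj.{u})
        infer_instance
    · exact HomologicalComplex.shape ((alternatingFaceMapComplex
        (Sheaf J AddCommGrpCat.{u})).obj (Y J f).left) 0 0
        (show ¬ (ComplexShape.down ℕ).Rel 0 0 by simp)
    · exact HomologicalComplex.single_obj_d (ComplexShape.down ℕ) 0 (Y J f).right 1 0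
    · exact HomologicalComplex.single_obj_d (ComplexShape.down ℕ) 0 (Y J f).right 0 0
  | succ n =>
    rw [quasiIsoAt_iff_exactAt']
    · rw [HomologicalComplex.exactAt_iff' _ (n + 2) (n + 1) n (by simp) (by simp)]
      refine ShortComplex.exact_of_iso ?_ ((S_exact J f n).map (presheafToSheaf J AddCommGrpCat.{u}))
      refine ShortComplex.isoMk (Iso.refl _) (Iso.refl _) (Iso.refl _) ?_ ?_
      · refine (Category.id_comp _).trans (Eq.trans ?_ (Category.comp_id _).symm)
        exact ((AlgebraicTopology.alternatingFaceMapComplex_obj_d _ (n + 1)).trans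
          (Y_objD J f (n + 1)))
      · refine (Category.id_comp _).trans (Eq.trans ?_ (Category.comp_id _).symm)
        exact ((AlgebraicTopology.alternatingFaceMapComplex_obj_d _ n).trans (Y_objD J f n))
    · apply ChainComplex.exactAt_succ_single_obj

end


open CategoryTheory.Limits in
/-- Case A = Z; topos of sheaves of sets on a small site: for an epimorphism K' -> K of sheaves of sets,
the chain complex of free abelian sheaves ... -> Z[K' x_K K'] -> Z[K'] (alternating sums of the face
maps of the Cech nerve), augmented to Z[K], is a resolution of Z[K]: the augmentation is a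
quasi-isomorphism to Z[K] placed in degree 0. (An epimorphic family (U_i -> X) is replaced here by
the single epimorphism from its coproduct, which gives the same complex.) -/
theorem result {C : Type u} [SmallCategory C] (J : GrothendieckTopology C)
    {K' K : Sheaf J (Type u)} (f : K' ⟶ K) [Epi f] :
    QuasiIso ((AlgebraicTopology.AlternatingFaceMapComplex.ε (C := Sheaf J AddCommGrpCat.{u})).app
      (((SimplicialObject.Augmented.whiskering _ _).obj (Sheaf.composeAndSheafify J AddCommGrpCat.free.{u})).obj
        (Arrow.mk f).augmentedCechNerve)) := by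
  exact result' J f

end Groth.Agent.S6161
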