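import Groth.Statements.S6151
import Mathlib
import Groth.Agent.S6161
import Groth.Agent.Lib.Helper16CoAcyc
-- import your own Groth.Agent.* helpers here

set_option autoImplicit false
set_option linter.unusedSectionVars false
universe u
open CategoryTheory
open CohSite

namespace Groth.Agent.S6151

section
open CategoryTheory.Limits Opposite Simplicial AlgebraicTopology
open Groth.Agent.Lib.Helper16.CoAcyc Groth.Agent.S6161

variable {C : Type u} [SmallCategory C] (J : GrothendieckTopology C) {K' K : Sheaf J (Type u)} (f : K' ⟶ K)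

/-- the augmented sequence of free abelian sheaves -/
noncomputable def A (n : ℕ) : Sheaf J AddCommGrpCat.{u} :=
  match n with
  | 0 => (presheafToSheaf J AddCommGrpCat.{u}).obj ((Zp J).obj K)
  | n + 1 => (presheafToSheaf J AddCommGrpCat.{u}).obj ((P J f) _⦋n⦌)

/-- its differentials -/
noncomputable def dA (n : ℕ) : A J f (n + 1) ⟶ A J f n :=
  match n with
  | 0 => (presheafToSheaf J AddCommGrpCat.{u}).map ((Zp J).map (bsn J f 0))
  | n + 1 => (presheafToSheaf J AddCommGrpCat.{u}).map (AlternatingFaceMapComplex.objD (P J f) n)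

theorem hdA (n : ℕ) : dA J f (n + 1) ≫ dA J f n = 0 :=
  match n with
  | 0 => ((S0 J f).map (presheafToSheaf J AddCommGrpCat.{u})).zero
  | n + 1 => ((S J f n).map (presheafToSheaf J AddCommGrpCat.{u})).zero

theorem hexA (n : ℕ) : (ShortComplex.mk (dA J f (n + 1)) (dA J f n) (hdA J f n)).Exact :=
  match n with
  | 0 => (S0_exact J f).map (presheafToSheaf J AddCommGrpCat.{u})
  | n + 1 => (S_exact J f n).map (presheafToSheaf J AddCommGrpCat.{u})

instance epi_dA0 [Epi f] : Epi (dA J f 0) := by
  show Epi ((Sheaf.composeAndSheafify J AddCommGrpCat.free.{u}).map (bsn J f 0))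
  have := Functor.preservesEpimorphisms_of_adjunction (Sheaf.adjunction J AddCommGrpCat.adj.{u})
  infer_instance

variable (F : Sheaf J AddCommGrpCat.{u})

theorem coAcyc_A (hF : CohCx.IsTotallyAcyclic F) (n : ℕ) : CoAcyc.{u} F (A J f n) :=
  match n with
  | 0 => fun p _ => @Subsingleton.elim _ (hF K p) _ _
  | n + 1 => fun p _ => @Subsingleton.elim _ (hF ((Arrow.mk f).cechNerve.obj (op ⦋n⦌)) p) _ _

theorem objD_apply (X : CosimplicialObject AddCommGrpCat.{u}) (n : ℕ) (x : X.obj ⦋n⦌) :
    (AlternatingCofaceMapComplex.objD X n).hom x =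
      ∑ i : Fin (n + 2), ((-1 : ℤ) ^ (i : ℕ)) • (X.δ i).hom x := by
  unfold AlternatingCofaceMapComplex.objD
  rw [hom_sum_apply]
  rfl

/-- the cosimplicial abelian group of the Čech nerve -/
noncomputable abbrev cosimp : CosimplicialObject AddCommGrpCat.{u} :=
  (Arrow.mk f).cechNerve.rightOp ⋙ CohCx.HK0Functor J F

theorem sum_comp_eq (n : ℕ) (φ : (presheafToSheaf J AddCommGrpCat.{u}).obj ((P J f) _⦋n⦌) ⟶ F) :
    ∑ i : Fin (n + 2), ((-1 : ℤ) ^ (i : ℕ)) •
        ((presheafToSheaf J AddCommGrpCat.{u}).map ((P J f).δ i) ≫ φ) =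
      (presheafToSheaf J AddCommGrpCat.{u}).map (AlternatingFaceMapComplex.objD (P J f) n) ≫ φ := by
  unfold AlternatingFaceMapComplex.objD
  rw [Functor.map_sum, Preadditive.sum_comp]
  refine Finset.sum_congr rfl (fun i _ => ?_)
  rw [Functor.map_zsmul, Preadditive.zsmul_comp]

theorem d_apply (n : ℕ) (φ : (CohCx.cechNerveCx F f).X n) :
    ((CohCx.cechNerveCx F f).d n (n + 1)).hom φ =
      (presheafToSheaf J AddCommGrpCat.{u}).map (AlternatingFaceMapComplex.objD (P J f) n) ≫ φ := by
  have h1 : (CohCx.cechNerveCx F f).d n (n + 1) =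
      AlternatingCofaceMapComplex.objD (cosimp J f F) n :=
    CochainComplex.of_d (fun n => (cosimp J f F).obj ⦋n⦌)
      (AlternatingCofaceMapComplex.objD (cosimp J f F)) n
  rw [h1]
  exact (objD_apply (cosimp J f F) n φ).trans (sum_comp_eq J f F n φ)

theorem result' [Epi f] (hF : CohCx.IsTotallyAcyclic F) (q : ℕ) :
    IsZero ((CohCx.cechNerveCx F f).homology (q + 1)) := by
  rw [← HomologicalComplex.exactAt_iff_isZero_homology,
    HomologicalComplex.exactAt_iff' _ q (q + 1) (q + 2) (by simp) (by simp),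
    ShortComplex.ab_exact_iff]
  intro φ hφ
  have h1 : (presheafToSheaf J AddCommGrpCat.{u}).map (AlternatingFaceMapComplex.objD (P J f) (q + 1)) ≫ φ
      = 0 := (d_apply J f F (q + 1) φ).symm.trans hφ
  obtain ⟨ψ, hψ⟩ := exists_factor (A J f) (dA J f) (hdA J f) (hexA J f) (coAcyc_A J f F hF) (q + 1) φ h1
  refine ⟨ψ, ?_⟩
  exact (d_apply J f F q ψ).trans hψ

end


open CategoryTheory.Limits in
/-- Abelian sheaves on the topos of sheaves of sets on a small site: if F is flasque (totally acyclic:
H^q(K, F) = 0 for all sheaves of sets K and q > 0), then for every epimorphism of sheaves of sets K'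
-> K the Cech cohomology groups H^q(K'/K, F), computed from the complex H^0(K', F) -> H^0(K' x_K K',
F) -> ..., vanish for all q > 0. (An epimorphic family (X_i -> X) is replaced here by the single
epimorphism from its coproduct, which has the same Cech complex.) -/
theorem result {C : Type u} [SmallCategory C] {J : GrothendieckTopology C}
    (F : Sheaf J AddCommGrpCat.{u}) (hF : CohCx.IsTotallyAcyclic F) {K' K : Sheaf J (Type u)} (f : K' ⟶ K) [Epi f]
    (q : ℕ) : IsZero ((CohCx.cechNerveCx F f).homology (q + 1)) := by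
  exact result' J f F hF q

end Groth.Agent.S6151
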