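import Groth.Statements.S12106
import Mathlib
import Groth.Agent.S6151
-- import your own Groth.Agent.* helpers here

set_option autoImplicit false
set_option linter.unusedSectionVars false
set_option linter.style.haveILetI false
universe u
open CategoryTheory
open CohSite

namespace Groth.Agent.S12106

section
open CategoryTheory.Limits Opposite Simplicial AlgebraicTopology Abelian
open Groth.Agent.Lib.Helper16.CoAcyc Groth.Agent.S6161 Groth.Agent.S6151

variable {C : Type u} [SmallCategory C] (J : GrothendieckTopology C)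

/-- the free abelian sheaf functor -/
noncomputable abbrev Φ : Sheaf J (Type u) ⥤ Sheaf J AddCommGrpCat.{u} :=
  Sheaf.composeAndSheafify J AddCommGrpCat.free.{u}

/-- the forgetful functor -/
noncomputable abbrev Uf : Sheaf J AddCommGrpCat.{u} ⥤ Sheaf J (Type u) :=
  sheafCompose J (forget AddCommGrpCat.{u})

/-- the free-forgetful adjunction -/
noncomputable abbrev adj : Φ J ⊣ Uf J := Sheaf.adjunction J AddCommGrpCat.adj.{u}

instance : (Uf J).PreservesEpimorphisms where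
  preserves f hf := by
    rw [← Sheaf.isLocallySurjective_iff_epi'] at hf
    rw [← Sheaf.isLocallySurjective_iff_epi]
    exact (Presheaf.isLocallySurjective_iff_whisker_forget _ f.hom).mp hf

/-- Čech acyclicity of `G` for `f`, in terms of the augmented sequence `A`. -/
def CechAcyc {K' K : Sheaf J (Type u)} (f : K' ⟶ K) (G : Sheaf J AddCommGrpCat.{u}) : Prop :=
  ∀ (n : ℕ) (φ : A J f (n + 2) ⟶ G), dA J f (n + 2) ≫ φ = 0 →
    ∃ ψ : A J f (n + 1) ⟶ G, dA J f (n + 1) ≫ ψ = φ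

/-- Čech acyclicity for all epimorphisms -/
def PP (G : Sheaf J AddCommGrpCat.{u}) : Prop :=
  ∀ (K' K : Sheaf J (Type u)) (f : K' ⟶ K), Epi f → CechAcyc J f G

theorem stepA1 {S : ShortComplex (Sheaf J AddCommGrpCat.{u})} (hS : S.ShortExact)
    {K' K : Sheaf J (Type u)} (f : K' ⟶ K) [Epi f]
    (hF : CechAcyc J f S.X₁) (s : A J f 0 ⟶ S.X₃) (t₀ : A J f 1 ⟶ S.X₂)
    (ht : t₀ ≫ S.g = dA J f 0 ≫ s) : ∃ r : A J f 0 ⟶ S.X₂, r ≫ S.g = s := by
  have hc : (dA J f 1 ≫ t₀) ≫ S.g = 0 := by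
    rw [Category.assoc, ht, ← Category.assoc, hdA, zero_comp]
  let c' : A J f 2 ⟶ S.X₁ := hS.fIsKernel.lift (KernelFork.ofι _ hc)
  have hc' : c' ≫ S.f = dA J f 1 ≫ t₀ := hS.fIsKernel.fac (KernelFork.ofι _ hc) WalkingParallelPair.zero
  have hcoc : dA J f 2 ≫ c' = 0 := by
    haveI := hS.mono_f
    rw [← cancel_mono S.f, Category.assoc, hc', ← Category.assoc, hdA, zero_comp, zero_comp]
  obtain ⟨u, hu⟩ := hF 0 c' hcoc
  have ht' : dA J f 1 ≫ (t₀ - u ≫ S.f) = 0 := by
    rw [Preadditive.comp_sub, ← Category.assoc, hu, hc', sub_self]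
  haveI : Epi (ShortComplex.mk (dA J f 1) (dA J f 0) (hdA J f 0)).g := epi_dA0 J f
  let r : A J f 0 ⟶ S.X₂ := (hexA J f 0).gIsCokernel.desc (CokernelCofork.ofπ _ ht')
  have hr : dA J f 0 ≫ r = t₀ - u ≫ S.f :=
    (hexA J f 0).gIsCokernel.fac (CokernelCofork.ofπ _ ht') WalkingParallelPair.one
  refine ⟨r, ?_⟩
  haveI := epi_dA0 J f
  rw [← cancel_epi (dA J f 0), ← Category.assoc, hr, Preadditive.sub_comp, Category.assoc, S.zero,
    comp_zero, sub_zero, ht]

theorem stepA {S : ShortComplex (Sheaf J AddCommGrpCat.{u})} (hS : S.ShortExact) (hF : PP J S.X₁)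
    (K : Sheaf J (Type u)) (s : (Φ J).obj K ⟶ S.X₃) : ∃ r : (Φ J).obj K ⟶ S.X₂, r ≫ S.g = s := by
  haveI : Epi S.g := hS.epi_g
  let fst : pullback s S.g ⟶ (Φ J).obj K := pullback.fst s S.g
  let snd : pullback s S.g ⟶ S.X₂ := pullback.snd s S.g
  haveI : Epi fst := Abelian.epi_pullback_of_epi_g s S.g
  let f₁ : (Uf J).obj (pullback s S.g) ⟶ (Uf J).obj ((Φ J).obj K) := (Uf J).map fst
  haveI : Epi f₁ := (Uf J).map_epi fst
  let s₁ : (Φ J).obj ((Uf J).obj ((Φ J).obj K)) ⟶ S.X₃ :=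
    (Φ J).map ((Uf J).map s) ≫ (adj J).counit.app S.X₃
  let t : (Φ J).obj ((Uf J).obj (pullback s S.g)) ⟶ S.X₂ :=
    (Φ J).map ((Uf J).map snd) ≫ (adj J).counit.app S.X₂
  have htg : t ≫ S.g = (Φ J).map f₁ ≫ s₁ := by
    have h1 : (adj J).counit.app S.X₂ ≫ S.g = (Φ J).map ((Uf J).map S.g) ≫ (adj J).counit.app S.X₃ :=
      ((adj J).counit.naturality S.g).symm
    have h2 : snd ≫ S.g = fst ≫ s := pullback.condition.symm
    calc t ≫ S.g = (Φ J).map ((Uf J).map snd) ≫ (adj J).counit.app S.X₂ ≫ S.g := Category.assoc _ _ _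
      _ = (Φ J).map ((Uf J).map (snd ≫ S.g)) ≫ (adj J).counit.app S.X₃ := by
        rw [h1, ← Category.assoc, ← Functor.map_comp, ← Functor.map_comp]
      _ = (Φ J).map f₁ ≫ s₁ := by
        rw [h2, Functor.map_comp, Functor.map_comp, Category.assoc]
  let π₀ : (Arrow.mk f₁).cechNerve.obj (op ⦋0⦌) ⟶ (Uf J).obj (pullback s S.g) :=
    WidePullback.π (fun _ : Fin (0 + 1) => (Arrow.mk f₁).hom) 0
  have hπ₀ : π₀ ≫ f₁ = bsn J f₁ 0 := WidePullback.π_arrow _ _
  let t₀ : A J f₁ 1 ⟶ S.X₂ := (Φ J).map π₀ ≫ t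
  have ht₀ : t₀ ≫ S.g = dA J f₁ 0 ≫ s₁ := by
    show ((Φ J).map π₀ ≫ t) ≫ S.g = (Φ J).map (bsn J f₁ 0) ≫ s₁
    rw [Category.assoc, htg, ← Category.assoc, ← Functor.map_comp, hπ₀]
  obtain ⟨r₁, hr₁⟩ : ∃ r₁ : (Φ J).obj ((Uf J).obj ((Φ J).obj K)) ⟶ S.X₂, r₁ ≫ S.g = s₁ :=
    stepA1 J hS f₁ (hF _ _ f₁ inferInstance) s₁ t₀ ht₀
  refine ⟨(Φ J).map ((adj J).unit.app K) ≫ r₁, ?_⟩
  rw [Category.assoc, hr₁]
  have h3 : (Φ J).map ((Uf J).map s) ≫ (adj J).counit.app S.X₃ =
      (adj J).counit.app ((Φ J).obj K) ≫ s := (adj J).counit.naturality s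
  show (Φ J).map ((adj J).unit.app K) ≫ (Φ J).map ((Uf J).map s) ≫ (adj J).counit.app S.X₃ = s
  rw [h3, ← Category.assoc]
  have h4 : (Φ J).map ((adj J).unit.app K) ≫ (adj J).counit.app ((Φ J).obj K) = 𝟙 _ :=
    (adj J).left_triangle_components K
  exact (congrArg (· ≫ s) h4).trans (Category.id_comp s)

theorem cechAcyc_of_injective {K' K : Sheaf J (Type u)} (f : K' ⟶ K) [Epi f]
    (I : Sheaf J AddCommGrpCat.{u}) [Injective I] : CechAcyc J f I := by
  intro n φ hφ
  exact exists_factor (A J f) (dA J f) (hdA J f) (hexA J f)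
    (fun _ _ x => Ext.eq_zero_of_injective x) (n + 1) φ hφ

theorem stepB {S : ShortComplex (Sheaf J AddCommGrpCat.{u})} (hS : S.ShortExact) [Injective S.X₂]
    (hF : PP J S.X₁) : PP J S.X₃ := by
  intro K' K f hf n γ hγ
  haveI := hf
  haveI := hS.mono_f
  obtain ⟨β, hβ⟩ : ∃ β : A J f (n + 2) ⟶ S.X₂, β ≫ S.g = γ :=
    stepA J hS hF ((Arrow.mk f).cechNerve.obj (op ⦋n + 1⦌)) γ
  have h1 : (dA J f (n + 2) ≫ β) ≫ S.g = 0 := by rw [Category.assoc, hβ, hγ]
  let α : A J f (n + 3) ⟶ S.X₁ := hS.fIsKernel.lift (KernelFork.ofι _ h1)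
  have hα : α ≫ S.f = dA J f (n + 2) ≫ β := hS.fIsKernel.fac (KernelFork.ofι _ h1) WalkingParallelPair.zero
  have hα0 : dA J f (n + 3) ≫ α = 0 := by
    rw [← cancel_mono S.f, Category.assoc, hα, ← Category.assoc, hdA, zero_comp, zero_comp]
  obtain ⟨α₁, hα₁⟩ := hF K' K f hf (n + 1) α hα0
  have h2 : dA J f (n + 2) ≫ (β - α₁ ≫ S.f) = 0 := by
    rw [Preadditive.comp_sub, ← Category.assoc, hα₁, hα, sub_self]
  obtain ⟨β'', hβ''⟩ := cechAcyc_of_injective J f S.X₂ n (β - α₁ ≫ S.f) h2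
  refine ⟨β'' ≫ S.g, ?_⟩
  rw [← Category.assoc, hβ'', Preadditive.sub_comp, Category.assoc, S.zero, comp_zero, sub_zero, hβ]

theorem stepC : ∀ (p : ℕ) (F : Sheaf J AddCommGrpCat.{u}), PP J F → ∀ (K : Sheaf J (Type u))
    (x : Ext.{u} ((Φ J).obj K) F (p + 1)), x = 0 := by
  intro p
  induction p with
  | zero =>
    intro F hF K x
    let S : ShortComplex (Sheaf J AddCommGrpCat.{u}) :=
      ShortComplex.mk (Injective.ι F) (cokernel.π (Injective.ι F)) (cokernel.condition _)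
    have hS : S.ShortExact := ShortComplex.ShortExact.mk (ShortComplex.exact_cokernel _)
    haveI : Injective S.X₂ := inferInstanceAs (Injective (Injective.under F))
    obtain ⟨x₃, hx₃⟩ := Ext.covariant_sequence_exact₁ _ hS x (Ext.eq_zero_of_injective _) (n₀ := 0) rfl
    obtain ⟨φ, rfl⟩ := (Ext.mk₀_bijective _ _).2 x₃
    obtain ⟨r, hr⟩ := stepA J hS hF K φ
    rw [← hx₃, ← hr, ← Ext.mk₀_comp_mk₀, Ext.comp_assoc_of_second_deg_zero, hS.comp_extClass,
      Ext.comp_zero]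
  | succ p ih =>
    intro F hF K x
    let S : ShortComplex (Sheaf J AddCommGrpCat.{u}) :=
      ShortComplex.mk (Injective.ι F) (cokernel.π (Injective.ι F)) (cokernel.condition _)
    have hS : S.ShortExact := ShortComplex.ShortExact.mk (ShortComplex.exact_cokernel _)
    haveI : Injective S.X₂ := inferInstanceAs (Injective (Injective.under F))
    obtain ⟨x₃, hx₃⟩ := Ext.covariant_sequence_exact₁ _ hS x (Ext.eq_zero_of_injective _)
      (n₀ := p + 1) rfl
    rw [← hx₃, ih S.X₃ (stepB J hS hF) K x₃, Ext.zero_comp]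

theorem PP_of_isZero (F : Sheaf J AddCommGrpCat.{u})
    (h : ∀ (K' K : Sheaf J (Type u)) (f : K' ⟶ K), Epi f →
      ∀ q : ℕ, IsZero ((CohCx.cechNerveCx F f).homology (q + 1))) : PP J F := by
  intro K' K f hf n φ hφ
  have h1 := h K' K f hf n
  rw [← HomologicalComplex.exactAt_iff_isZero_homology,
    HomologicalComplex.exactAt_iff' _ n (n + 1) (n + 2) (by simp) (by simp),
    ShortComplex.ab_exact_iff] at h1
  obtain ⟨ψ, hψ⟩ := h1 φ ((d_apply J f F (n + 1) φ).trans hφ)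
  exact ⟨ψ, (d_apply J f F n ψ).symm.trans hψ⟩

theorem result' (F : Sheaf J AddCommGrpCat.{u})
    (h : ∀ (K' K : Sheaf J (Type u)) (f : K' ⟶ K), Epi f →
      ∀ q : ℕ, IsZero ((CohCx.cechNerveCx F f).homology (q + 1))) :
    CohCx.IsTotallyAcyclic F := by
  intro K p
  exact ⟨fun x y => (stepC J p F (PP_of_isZero J F h) K x).trans
    (stepC J p F (PP_of_isZero J F h) K y).symm⟩

end


open CategoryTheory.Limits in
/-- In the topos of sheaves of sets on a small site, let F be an abelian sheaf such that for every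
epimorphism of sheaves of sets K' ⟶ K the Čech cohomology groups H^q(K'/K, F), computed from the
complex H^0(K', F) → H^0(K' ×_K K', F) → ⋯, vanish for all q > 0. Then F is flasque (totally
acyclic: H^q(K, F) = 0 for every sheaf of sets K and every q > 0). (An epimorphic family (X_i → X)
is replaced here by the single epimorphism from its coproduct, which has the same Čech complex; no
vanishing of H^q(U, F) on the objects of the site is assumed, it follows.) -/
theorem result {C : Type u} [SmallCategory C] {J : GrothendieckTopology C}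
    (F : Sheaf J AddCommGrpCat.{u})
    (h : ∀ (K' K : Sheaf J (Type u)) (f : K' ⟶ K), Epi f →
      ∀ q : ℕ, IsZero ((CohCx.cechNerveCx F f).homology (q + 1))) :
    CohCx.IsTotallyAcyclic F := by
  exact result' _ F h

end Groth.Agent.S12106
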