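import Groth.Statements.S7575
import Mathlib
-- import your own Groth.Agent.* helpers here

set_option autoImplicit false
set_option linter.style.haveILetI false
set_option linter.unusedSectionVars false
universe u
open CategoryTheory CategoryTheory.Limits TopologicalSpace Opposite
open ShSp

namespace Groth.Agent.S7575

variable {X : TopCat.{u}} {J : Type u} [Preorder J] [Nonempty J] [IsDirected J (· ≤ ·)]
  (F : J ⥤ X.Sheaf (Type u)) (c : Cocone F) (hc : IsColimit c)

/-- the presheaf-level diagram -/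
noncomputable abbrev P : J ⥤ (Opens X)ᵒᵖ ⥤ Type u := F ⋙ sheafToPresheaf (Opens.grothendieckTopology X) (Type u)

noncomputable abbrev E : Cocone (P F) := colimit.cocone (P F)

noncomputable abbrev c' : Cocone F := Sheaf.sheafifyCocone (E F)

noncomputable def hc' : IsColimit (c' F) := Sheaf.isColimitSheafifyCocone (E F) (colimit.isColimit _)

noncomputable def e : c.pt ≅ (c' F).pt := hc.coconePointUniqueUpToIso (hc' F)

omit [Nonempty J] [IsDirected J (· ≤ ·)] in
include hc in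
theorem e_comp (i : J) : c.ι.app i ≫ (e F c hc).hom = (c' F).ι.app i :=
  IsColimit.comp_coconePointUniqueUpToIso_hom hc (hc' F) i

omit [Nonempty J] [IsDirected J (· ≤ ·)] in
theorem e_comp_apply (i : J) (W : Opens X) (y : (F.obj i).obj.obj (op W)) :
    (e F c hc).hom.hom.app (op W) ((c.ι.app i).hom.app (op W) y) =
      (toSheafify (Opens.grothendieckTopology X) (E F).pt).app (op W) ((E F).ι.app i |>.app (op W) y) := by
  have h1 := e_comp F c hc i
  have h2 := Sheaf.sheafifyCocone_ι_app_val (E F) i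
  rw [← h1] at h2
  have h3 := congrArg (fun f => f.app (op W)) h2
  exact ConcreteCategory.congr_hom h3 y

omit [Nonempty J] [IsDirected J (· ≤ ·)] in
theorem e_inj (W : Opens X) : Function.Injective ((e F c hc).hom.hom.app (op W)) := by
  let i1 : c.pt.obj ≅ (c' F).pt.obj :=
    (sheafToPresheaf (Opens.grothendieckTopology X) (Type u)).mapIso (e F c hc)
  let i2 : c.pt.obj.obj (op W) ≅ (c' F).pt.obj.obj (op W) := i1.app (op W)
  have : IsIso ((e F c hc).hom.hom.app (op W)) := i2.isIso_hom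
  exact ((isIso_iff_bijective _).1 this).1

/-- evaluated presheaf colimit cocone is a colimit in types -/
noncomputable def hEW (W : Opens X) :
    IsColimit (((evaluation (Opens X)ᵒᵖ (Type u)).obj (op W)).mapCocone (E F)) :=
  isColimitOfPreserves _ (colimit.isColimit _)

omit [Nonempty J] [IsDirected J (· ≤ ·)] in
include hc in
theorem locSurj (V : Opens X) (s : c.pt.obj.obj (op V)) (x : X) (hx : x ∈ V) :
    ∃ (W : Opens X) (hW : W ≤ V), x ∈ W ∧ ∃ (i : J) (t : (F.obj i).obj.obj (op W)),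
      (c.ι.app i).hom.app (op W) t = c.pt.obj.map (homOfLE hW).op s := by
  let s' : ToType ((sheafify (Opens.grothendieckTopology X) (E F).pt).obj (op V)) :=
    (e F c hc).hom.hom.app (op V) s
  have hmem := Presheaf.IsLocallySurjective.imageSieve_mem (J := Opens.grothendieckTopology X)
    (f := toSheafify (Opens.grothendieckTopology X) (E F).pt) (U := V) s'
  obtain ⟨W, f, ⟨t, ht⟩, hxW⟩ := hmem x hx
  obtain ⟨i, y, hy⟩ := Types.jointly_surjective _ (hEW F W) t
  refine ⟨W, leOfHom f, hxW, i, y, ?_⟩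
  apply e_inj F c hc W
  rw [e_comp_apply]
  have hnat := ConcreteCategory.congr_hom ((e F c hc).hom.hom.naturality (homOfLE (leOfHom f)).op) s
  simp only [types_comp_apply] at hnat
  rw [hnat]
  change (toSheafify (Opens.grothendieckTopology X) (E F).pt).app (op W) (((E F).ι.app i).app (op W) y) = _
  have hy' : ((E F).ι.app i).app (op W) y = t := hy
  rw [hy']
  exact ht

omit [Nonempty J] in
include hc in
theorem locInj (V : Opens X) (i : J) (s t : (F.obj i).obj.obj (op V))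
    (h : (c.ι.app i).hom.app (op V) s = (c.ι.app i).hom.app (op V) t) (x : X) (hx : x ∈ V) :
    ∃ (W : Opens X) (hW : W ≤ V), x ∈ W ∧ ∃ (j : J) (hij : i ⟶ j),
      (F.map hij).hom.app (op W) ((F.obj i).obj.map (homOfLE hW).op s) =
        (F.map hij).hom.app (op W) ((F.obj i).obj.map (homOfLE hW).op t) := by
  have h' := congrArg ((e F c hc).hom.hom.app (op V)) h
  rw [e_comp_apply, e_comp_apply] at h'
  let a : ToType ((E F).pt.obj (op V)) := ((E F).ι.app i).app (op V) s
  let b : ToType ((E F).pt.obj (op V)) := ((E F).ι.app i).app (op V) t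
  have hmem := Presheaf.IsLocallyInjective.equalizerSieve_mem (J := Opens.grothendieckTopology X)
    (φ := toSheafify (Opens.grothendieckTopology X) (E F).pt) (X := op V) a b h'
  obtain ⟨W, f, hf, hxW⟩ := hmem x hx
  refine ⟨W, leOfHom f, hxW, ?_⟩
  have hf' : (E F).pt.map f.op a = (E F).pt.map f.op b := hf
  have hna := ConcreteCategory.congr_hom (((E F).ι.app i).naturality (homOfLE (leOfHom f)).op) s
  have hnb := ConcreteCategory.congr_hom (((E F).ι.app i).naturality (homOfLE (leOfHom f)).op) t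
  simp only [types_comp_apply] at hna hnb
  have h2 : ((E F).ι.app i).app (op W) ((F.obj i).obj.map (homOfLE (leOfHom f)).op s) =
      ((E F).ι.app i).app (op W) ((F.obj i).obj.map (homOfLE (leOfHom f)).op t) := by
    erw [hna, hnb]
    exact hf'
  obtain ⟨k, f1, g1, hk⟩ := (Types.FilteredColimit.isColimit_eq_iff _ (hEW F W)).1 h2
  have : f1 = g1 := Subsingleton.elim _ _
  subst this
  exact ⟨k, f1, hk⟩

omit [Nonempty J] in
include hc in
theorem inj_trans
    (htr : ∀ (i j : J) (h : i ⟶ j) (V : Opens X), Function.Injective ((F.map h).1.app (op V)))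
    (V : Opens X) (i : J) (s t : (F.obj i).obj.obj (op V))
    (h : (c.ι.app i).hom.app (op V) s = (c.ι.app i).hom.app (op V) t) : s = t := by
  choose W hW hxW j hij hj using locInj F c hc V i s t h
  refine TopCat.Sheaf.eq_of_locally_eq' (F.obj i) (fun x : V => W x.1 x.2) V
    (fun x => homOfLE (hW x.1 x.2)) ?_ s t ?_
  · intro x hx
    exact Opens.mem_iSup.2 ⟨⟨x, hx⟩, hxW x hx⟩
  · intro x
    exact htr _ _ (hij x.1 x.2) _ (hj x.1 x.2)

omit [Nonempty J] in
include hc in
theorem inj_compact (V : Opens X) (hV : IsCompact (V : Set X)) (i : J) (s t : (F.obj i).obj.obj (op V))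
    (h : (c.ι.app i).hom.app (op V) s = (c.ι.app i).hom.app (op V) t) :
    ∃ (j : J) (hij : i ⟶ j), (F.map hij).hom.app (op V) s = (F.map hij).hom.app (op V) t := by
  choose W hW hxW j hij hj using locInj F c hc V i s t h
  obtain ⟨T, hT⟩ := hV.elim_finite_subcover (fun x : V => ((W x.1 x.2 : Opens X) : Set X))
    (fun x => (W x.1 x.2).isOpen) (fun x hx => Set.mem_iUnion.2 ⟨⟨x, hx⟩, hxW x hx⟩)
  classical
  haveI : Nonempty J := ⟨i⟩
  obtain ⟨k, hk⟩ := (insert i (T.image (fun x : V => j x.1 x.2))).exists_le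
  have hik : i ≤ k := hk i (Finset.mem_insert_self _ _)
  have hjk : ∀ x ∈ T, j x.1 x.2 ≤ k := fun x hx =>
    hk _ (Finset.mem_insert_of_mem (Finset.mem_image_of_mem _ hx))
  refine ⟨k, homOfLE hik, ?_⟩
  refine TopCat.Sheaf.eq_of_locally_eq' (F.obj k) (fun x : T => W x.1.1 x.1.2) V
    (fun x => homOfLE (hW x.1.1 x.1.2)) ?_ _ _ ?_
  · intro x hx
    obtain ⟨y, hy⟩ := Set.mem_iUnion.1 (hT hx)
    obtain ⟨hyT, hxy⟩ := Set.mem_iUnion.1 hy
    exact Opens.mem_iSup.2 ⟨⟨y, hyT⟩, hxy⟩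
  · rintro ⟨x, hxT⟩
    have hfac : homOfLE hik = hij x.1 x.2 ≫ homOfLE (hjk x hxT) := Subsingleton.elim _ _
    have key : ∀ (r : (F.obj i).obj.obj (op V)),
        (F.obj k).obj.map (homOfLE (hW x.1 x.2)).op ((F.map (homOfLE hik)).hom.app (op V) r) =
        (F.map (homOfLE (hjk x hxT))).hom.app (op (W x.1 x.2))
          ((F.map (hij x.1 x.2)).hom.app (op (W x.1 x.2))
            ((F.obj i).obj.map (homOfLE (hW x.1 x.2)).op r)) := by
      intro r
      have h1 := ConcreteCategory.congr_hom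
        ((F.map (homOfLE hik)).hom.naturality (homOfLE (hW x.1 x.2)).op) r
      simp only [types_comp_apply] at h1
      rw [← h1, hfac, F.map_comp]
      rfl
    exact (key s).trans ((congrArg _ (hj x.1 x.2)).trans (key t).symm)

omit [Nonempty J] [IsDirected J (· ≤ ·)] in
theorem res_res (G : X.Sheaf (Type u)) {V V' V'' : Opens X} (f : V' ⟶ V) (g : V'' ⟶ V')
    (h : V'' ⟶ V) (r : G.obj.obj (op V)) :
    G.obj.map g.op (G.obj.map f.op r) = G.obj.map h.op r := by
  have : h = g ≫ f := Subsingleton.elim _ _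
  subst this
  rw [op_comp, Functor.map_comp]
  rfl

omit [Nonempty J] [IsDirected J (· ≤ ·)] in
theorem nat_apply {G G' : X.Sheaf (Type u)} (φ : G ⟶ G') {V V' : Opens X} (f : V' ⟶ V)
    (r : G.obj.obj (op V)) :
    G'.obj.map f.op (φ.hom.app (op V) r) = φ.hom.app (op V') (G.obj.map f.op r) := by
  have h1 := ConcreteCategory.congr_hom (φ.hom.naturality f.op) r
  simp only [types_comp_apply] at h1
  exact h1.symm

omit [Nonempty J] [IsDirected J (· ≤ ·)] in
theorem cw_apply {i k : J} (h : i ⟶ k) (W : Opens X) (r : (F.obj i).obj.obj (op W)) :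
    (c.ι.app k).hom.app (op W) ((F.map h).hom.app (op W) r) = (c.ι.app i).hom.app (op W) r := by
  rw [← c.w h]
  rfl

omit [Nonempty J] [IsDirected J (· ≤ ·)] in
theorem map_comp_apply' {i j k : J} (h1 : i ⟶ j) (h2 : j ⟶ k) (h3 : i ⟶ k) (W : Opens X)
    (r : (F.obj i).obj.obj (op W)) :
    (F.map h3).hom.app (op W) r = (F.map h2).hom.app (op W) ((F.map h1).hom.app (op W) r) := by
  have : h3 = h1 ≫ h2 := Subsingleton.elim _ _
  subst this
  rw [F.map_comp]
  rfl

omit [Nonempty J] [IsDirected J (· ≤ ·)] in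
theorem ι_nat_apply (i : J) {V V' : Opens X} (f : V' ⟶ V) (r : (F.obj i).obj.obj (op V)) :
    c.pt.obj.map f.op ((c.ι.app i).hom.app (op V) r) =
      (c.ι.app i).hom.app (op V') ((F.obj i).obj.map f.op r) :=
  nat_apply (c.ι.app i) f r

theorem surj_of_finite_cover {ι : Type*} [Finite ι] (U : Opens X) (W : ι → Opens X)
    (hW : ∀ a, W a ≤ U) (hcov : U ≤ ⨆ a, W a) (s : c.pt.obj.obj (op U))
    (hloc : ∀ a, ∃ (i : J) (t : (F.obj i).obj.obj (op (W a))),
      (c.ι.app i).hom.app (op (W a)) t = c.pt.obj.map (homOfLE (hW a)).op s)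
    (hinj : ∀ (a b : ι) (i : J) (t t' : (F.obj i).obj.obj (op (W a ⊓ W b))),
      (c.ι.app i).hom.app (op (W a ⊓ W b)) t = (c.ι.app i).hom.app (op (W a ⊓ W b)) t' →
        ∃ (j : J) (h : i ⟶ j), (F.map h).hom.app (op (W a ⊓ W b)) t =
          (F.map h).hom.app (op (W a ⊓ W b)) t') :
    ∃ (i : J) (t : (F.obj i).obj.obj (op U)), (c.ι.app i).hom.app (op U) t = s := by
  choose i0 t0 ht0 using hloc
  obtain ⟨i, hi⟩ := Finite.exists_le i0
  obtain ⟨t1, ht1⟩ : ∃ t1 : ∀ a, (F.obj i).obj.obj (op (W a)), ∀ a,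
      (c.ι.app i).hom.app (op (W a)) (t1 a) = c.pt.obj.map (homOfLE (hW a)).op s := by
    refine ⟨fun a => (F.map (homOfLE (hi a))).hom.app (op (W a)) (t0 a), fun a => ?_⟩
    rw [← ht0 a]
    exact cw_apply F c _ _ _
  have hab : ∀ a b, ∃ (j : J) (h : i ⟶ j),
      (F.map h).hom.app (op (W a ⊓ W b)) ((F.obj i).obj.map (Opens.infLELeft (W a) (W b)).op (t1 a)) =
      (F.map h).hom.app (op (W a ⊓ W b)) ((F.obj i).obj.map (Opens.infLERight (W a) (W b)).op (t1 b)) := by
    intro a b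
    apply hinj
    rw [← ι_nat_apply, ← ι_nat_apply, ht1, ht1,
      res_res c.pt _ _ (homOfLE (inf_le_left.trans (hW a))),
      res_res c.pt _ _ (homOfLE (inf_le_left.trans (hW a)))]
  choose j1 h1 hj1 using hab
  obtain ⟨k0, hk0⟩ := Finite.exists_le (fun p : ι × ι => j1 p.1 p.2)
  obtain ⟨k, hik, hk0k⟩ := exists_ge_ge i k0
  obtain ⟨t2, ht2, hcompat⟩ : ∃ t2 : ∀ a, (F.obj k).obj.obj (op (W a)),
      (∀ a, (c.ι.app k).hom.app (op (W a)) (t2 a) = c.pt.obj.map (homOfLE (hW a)).op s) ∧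
      TopCat.Presheaf.IsCompatible (F.obj k).obj W t2 := by
    refine ⟨fun a => (F.map (homOfLE hik)).hom.app (op (W a)) (t1 a), fun a => ?_, fun a b => ?_⟩
    · rw [← ht1 a]
      exact cw_apply F c _ _ _
    · have hjk : j1 a b ≤ k := (hk0 (a, b)).trans hk0k
      show (F.obj k).obj.map (Opens.infLELeft (W a) (W b)).op
          ((F.map (homOfLE hik)).hom.app (op (W a)) (t1 a)) =
        (F.obj k).obj.map (Opens.infLERight (W a) (W b)).op
          ((F.map (homOfLE hik)).hom.app (op (W b)) (t1 b))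
      rw [nat_apply (F.map (homOfLE hik)) (Opens.infLELeft (W a) (W b)) (t1 a),
        nat_apply (F.map (homOfLE hik)) (Opens.infLERight (W a) (W b)) (t1 b),
        map_comp_apply' F (h1 a b) (homOfLE hjk) (homOfLE hik),
        map_comp_apply' F (h1 a b) (homOfLE hjk) (homOfLE hik), hj1]
  obtain ⟨t, ht, -⟩ := TopCat.Sheaf.existsUnique_gluing' (F.obj k) W U (fun a => homOfLE (hW a))
    hcov t2 hcompat
  refine ⟨k, t, ?_⟩
  refine TopCat.Sheaf.eq_of_locally_eq' c.pt W U (fun a => homOfLE (hW a)) hcov _ _ ?_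
  intro a
  have hta : (F.obj k).obj.map (homOfLE (hW a)).op t = t2 a := ht a
  show c.pt.obj.map (homOfLE (hW a)).op ((c.ι.app k).hom.app (op U) t) =
    c.pt.obj.map (homOfLE (hW a)).op s
  rw [ι_nat_apply, hta, ht2]


noncomputable abbrev ev (U : Opens X) : X.Sheaf (Type u) ⥤ Type u :=
  TopCat.Sheaf.forget (Type u) X ⋙ (evaluation (Opens X)ᵒᵖ (Type u)).obj (op U)

noncomputable abbrev Ψ (U : Opens X) : colimit (F ⋙ ev U) → (ev U).obj c.pt :=
  colimit.desc (F ⋙ ev U) ((ev U).mapCocone c)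

omit [Nonempty J] [IsDirected J (· ≤ ·)] in
theorem Ψ_ι (U : Opens X) (i : J) (x : (F.obj i).obj.obj (op U)) :
    Ψ F c U (colimit.ι (F ⋙ ev U) i x) = (c.ι.app i).hom.app (op U) x := by
  have := ConcreteCategory.congr_hom (colimit.ι_desc ((ev U).mapCocone c) i) x
  exact this

omit [Nonempty J] in
theorem Ψ_inj_of (U : Opens X)
    (h : ∀ (i : J) (s t : (F.obj i).obj.obj (op U)),
      (c.ι.app i).hom.app (op U) s = (c.ι.app i).hom.app (op U) t →
        ∃ (j : J) (hij : i ⟶ j), (F.map hij).hom.app (op U) s = (F.map hij).hom.app (op U) t) :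
    Function.Injective (Ψ F c U) := by
  intro a b hab
  obtain ⟨i, x, rfl⟩ := Types.jointly_surjective' a
  obtain ⟨j, y, rfl⟩ := Types.jointly_surjective' b
  obtain ⟨k, hik, hjk⟩ := exists_ge_ge i j
  have hx : colimit.ι (F ⋙ ev U) i x = colimit.ι (F ⋙ ev U) k ((F.map (homOfLE hik)).hom.app (op U) x) := by
    have := ConcreteCategory.congr_hom (colimit.w (F ⋙ ev U) (homOfLE hik)) x
    exact this.symm
  have hy : colimit.ι (F ⋙ ev U) j y = colimit.ι (F ⋙ ev U) k ((F.map (homOfLE hjk)).hom.app (op U) y) := by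
    have := ConcreteCategory.congr_hom (colimit.w (F ⋙ ev U) (homOfLE hjk)) y
    exact this.symm
  rw [hx, hy] at hab ⊢
  rw [Ψ_ι, Ψ_ι] at hab
  obtain ⟨l, hkl, hl⟩ := h k _ _ hab
  have hx' := ConcreteCategory.congr_hom (colimit.w (F ⋙ ev U) hkl) ((F.map (homOfLE hik)).hom.app (op U) x)
  have hy' := ConcreteCategory.congr_hom (colimit.w (F ⋙ ev U) hkl) ((F.map (homOfLE hjk)).hom.app (op U) y)
  rw [← hx', ← hy']
  exact congrArg (colimit.ι (F ⋙ ev U) l) hl

omit [Nonempty J] [IsDirected J (· ≤ ·)] in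
theorem Ψ_surj_of (U : Opens X)
    (h : ∀ s : c.pt.obj.obj (op U), ∃ (i : J) (t : (F.obj i).obj.obj (op U)),
      (c.ι.app i).hom.app (op U) t = s) :
    Function.Surjective (Ψ F c U) := by
  intro s
  obtain ⟨i, t, ht⟩ := h s
  exact ⟨colimit.ι (F ⋙ ev U) i t, (Ψ_ι F c U i t).trans ht⟩


omit [Preorder J] [Nonempty J] [IsDirected J (· ≤ ·)] in
theorem compact_of_refine (U : Opens X)
    (href : ∀ 𝒱 : Set (Opens X), (⨆ V ∈ 𝒱, V) = U →
        ∃ (m : ℕ) (W : Fin m → Opens X), (∀ j, ∃ V ∈ 𝒱, W j ≤ V) ∧ (⨆ j, W j) = U ∧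
          ∀ j j', IsCompact ((W j ⊓ W j' : Opens X) : Set X)) : IsCompact (U : Set X) := by
  obtain ⟨m, W, -, hU, hcp⟩ := href {U} (by simp)
  have : (U : Set X) = ⋃ j, (W j : Set X) := by rw [← hU]; simp
  rw [this]
  exact isCompact_iUnion (fun j => by simpa using hcp j j)

include hc in
theorem surj3 (U : Opens X) (hU : IsCompact (U : Set X))
    (htr : ∀ (i j : J) (h : i ⟶ j) (V : Opens X), Function.Injective ((F.map h).1.app (op V)))
    (s : c.pt.obj.obj (op U)) :
    ∃ (i : J) (t : (F.obj i).obj.obj (op U)), (c.ι.app i).hom.app (op U) t = s := by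
  choose W hW hxW i0 t0 ht0 using locSurj F c hc U s
  obtain ⟨T, hT⟩ := hU.elim_finite_subcover (fun x : U => ((W x.1 x.2 : Opens X) : Set X))
    (fun x => (W x.1 x.2).isOpen) (fun x hx => Set.mem_iUnion.2 ⟨⟨x, hx⟩, hxW x hx⟩)
  refine surj_of_finite_cover F c U (fun x : T => W x.1.1 x.1.2) (fun x => hW x.1.1 x.1.2) ?_ s
    (fun x => ⟨i0 x.1.1 x.1.2, t0 x.1.1 x.1.2, ht0 x.1.1 x.1.2⟩) ?_
  · intro x hx
    obtain ⟨y, hy⟩ := Set.mem_iUnion.1 (hT hx)
    obtain ⟨hyT, hxy⟩ := Set.mem_iUnion.1 hy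
    exact Opens.mem_iSup.2 ⟨⟨y, hyT⟩, hxy⟩
  · intro a b i t t' htt'
    have := inj_trans F c hc htr _ i t t' htt'
    exact ⟨i, 𝟙 i, by rw [this]⟩

include hc in
theorem surj4 (U : Opens X)
    (href : ∀ 𝒱 : Set (Opens X), (⨆ V ∈ 𝒱, V) = U →
        ∃ (m : ℕ) (W : Fin m → Opens X), (∀ j, ∃ V ∈ 𝒱, W j ≤ V) ∧ (⨆ j, W j) = U ∧
          ∀ j j', IsCompact ((W j ⊓ W j' : Opens X) : Set X))
    (s : c.pt.obj.obj (op U)) :
    ∃ (i : J) (t : (F.obj i).obj.obj (op U)), (c.ι.app i).hom.app (op U) t = s := by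
  choose W hW hxW i0 t0 ht0 using locSurj F c hc U s
  obtain ⟨m, W', hW', hU', hcp⟩ := href (Set.range (fun x : U => W x.1 x.2)) (by
    apply le_antisymm
    · refine iSup₂_le ?_
      rintro V ⟨x, rfl⟩
      exact hW x.1 x.2
    · intro x hx
      refine Opens.mem_iSup.2 ⟨W x hx, ?_⟩
      exact Opens.mem_iSup.2 ⟨⟨⟨x, hx⟩, rfl⟩, hxW x hx⟩)
  have hW'U : ∀ j, W' j ≤ U := fun j => hU' ▸ le_iSup W' j
  refine surj_of_finite_cover F c U W' hW'U hU'.ge s ?_ ?_
  · intro j
    obtain ⟨V, ⟨x, rfl⟩, hle⟩ := hW' j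
    refine ⟨i0 x.1 x.2, (F.obj (i0 x.1 x.2)).obj.map (homOfLE hle).op (t0 x.1 x.2), ?_⟩
    rw [← ι_nat_apply, ht0]
    exact res_res c.pt _ _ _ s
  · intro a b i t t' htt'
    exact inj_compact F c hc _ (hcp a b) i t t' htt'


/-- Let X be a topological space, I a directed set, (F_i) a system of sheaves of sets on X over I with
colimit F (in sheaves), U ⊆ X open, and Ψ : colim_i F_i(U) → F(U) the canonical map. (1) If all
transition maps F_i → F_{i'} are injective (on all sections) then Ψ is injective. (2)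
Quasi-compactness of U alone already makes Ψ injective. (3) When U is quasi-compact and every
transition map is injective, Ψ is bijective. (4) If every open covering of U can be refined by a
finite open covering U = U_1 ∪ … ∪ U_m with all U_j ∩ U_{j'} quasi-compact, then Ψ is bijective. -/
theorem result {X : TopCat.{u}} {J : Type u} [Preorder J] [Nonempty J] [IsDirected J (· ≤ ·)]
    (F : J ⥤ X.Sheaf (Type u)) (c : Cocone F) (hc : IsColimit c) (U : Opens X) :
    let ev := TopCat.Sheaf.forget (Type u) X ⋙ (evaluation (Opens X)ᵒᵖ (Type u)).obj (op U)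
    let Ψ : colimit (F ⋙ ev) → ev.obj c.pt := colimit.desc (F ⋙ ev) (ev.mapCocone c)
    ((∀ (i j : J) (h : i ⟶ j) (V : Opens X), Function.Injective ((F.map h).1.app (op V))) → Function.Injective Ψ) ∧
    (IsCompact (U : Set X) → Function.Injective Ψ) ∧
    (IsCompact (U : Set X) → (∀ (i j : J) (h : i ⟶ j) (V : Opens X), Function.Injective ((F.map h).1.app (op V))) →
      Function.Bijective Ψ) ∧
    ((∀ 𝒱 : Set (Opens X), (⨆ V ∈ 𝒱, V) = U →
        ∃ (m : ℕ) (W : Fin m → Opens X), (∀ j, ∃ V ∈ 𝒱, W j ≤ V) ∧ (⨆ j, W j) = U ∧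
          ∀ j j', IsCompact ((W j ⊓ W j' : Opens X) : Set X)) →
      Function.Bijective Ψ) := by
  intro ev0 Ψ0
  have h1 : (∀ (i j : J) (h : i ⟶ j) (V : Opens X), Function.Injective ((F.map h).1.app (op V))) →
      Function.Injective (Ψ F c U) := fun htr =>
    Ψ_inj_of F c U (fun i s t hst => ⟨i, 𝟙 i, by rw [inj_trans F c hc htr U i s t hst]⟩)
  have h2 : IsCompact (U : Set X) → Function.Injective (Ψ F c U) := fun hU =>
    Ψ_inj_of F c U (fun i s t hst => inj_compact F c hc U hU i s t hst)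
  refine ⟨h1, h2, fun hU htr => ⟨h1 htr, Ψ_surj_of F c U (surj3 F c hc U hU htr)⟩, fun href => ?_⟩
  exact ⟨h2 (compact_of_refine U href), Ψ_surj_of F c U (surj4 F c hc U href)⟩

end Groth.Agent.S7575
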