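import Groth.Statements.S12119
import Groth.Agent.Lib.Helper3FlatCxArt
import Groth.Agent.S2444
import Mathlib

set_option autoImplicit false
universe u
open FlatCx

namespace Groth.Agent.S12119

open CategoryTheory CategoryTheory.Limits in

open CategoryTheory CategoryTheory.Limits in
/-- Let A be a commutative Artinian local ring with residue field k, P a chain complex of flat A-modules
(terms not necessarily finitely generated), T_i(M) = H_i(P ⊗_A M), and suppose T_p(k) has finite
length d. If length T_p(A) = d · length A (lengths in ℕ∞), then T_p(A) → T_p(k), induced by the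
projection A → k, is surjective and T_p(A) is a flat A-module. -/
theorem result {A : Type u} [CommRing A] [IsArtinianRing A]
    [IsLocalRing A] (P : ChainComplex (ModuleCat.{u} A) ℤ) (hP : ∀ i, Module.Flat A (P.X i)) (p : ℤ)
    (hd : Module.length A (CohIII.T P p (ModuleCat.of A (IsLocalRing.ResidueField A))) ≠ ⊤)
    (hj : Module.length A (CohIII.T P p (ModuleCat.of A A)) =
      Module.length A (CohIII.T P p (ModuleCat.of A (IsLocalRing.ResidueField A))) * Module.length A A) :
    Function.Surjective ((CohIII.TFun P p).map
        (ModuleCat.ofHom (Algebra.linearMap A (IsLocalRing.ResidueField A)))).hom ∧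
      Module.Flat A (CohIII.T P p (ModuleCat.of A A)) := by
  open Groth.Agent.Lib.Helper3 Groth.Agent.S4492 Groth.Agent.S2444 TensorProduct MonoidalCategory in
  have := hP (p - 1)
  have hrel : (ComplexShape.down ℤ).Rel p (p - 1) := by simp
  have eA : Module.length A (CohIII.T P p (ModuleCat.of A A)) = Module.length A (P.homology p) :=
    LinearEquiv.length_eq (TUnitIso P p).toLinearEquiv
  have hex := exact_T P hP p resSC resSC_shortExact
  have hle : Module.length A (CohIII.T P p (ModuleCat.of A A)) ≤
      Module.length A (CohIII.T P p (ModuleCat.of A (IsLocalRing.maximalIdeal A))) +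
        Module.length A (CohIII.T P p (ModuleCat.of A (IsLocalRing.ResidueField A))) :=
    length_le_add _ _ hex
  have hmlen : Module.length A (IsLocalRing.maximalIdeal A) ≠ ⊤ := Module.length_ne_top
  have hm := length_T_le P hP p (IsLocalRing.maximalIdeal A)
    (Module.length_ne_top_iff.mp hmlen)
  have hTm : Module.length A (CohIII.T P p (ModuleCat.of A (IsLocalRing.maximalIdeal A))) ≠ ⊤ :=
    ne_top_of_le_ne_top (WithTop.mul_ne_top hd hmlen) hm
  have eAm : Module.length A A = Module.length A (IsLocalRing.maximalIdeal A) + 1 := by
    rw [Module.length_eq_add_of_exact (IsLocalRing.maximalIdeal A).subtype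
      (IsLocalRing.maximalIdeal A).mkQ (Submodule.subtype_injective _)
      (Submodule.mkQ_surjective _) (LinearMap.exact_subtype_mkQ _)]
    congr 1
    have hs : IsSimpleModule A (A ⧸ IsLocalRing.maximalIdeal A) :=
      isSimpleModule_iff_quot_maximal.mpr ⟨_, inferInstance, ⟨LinearEquiv.refl _ _⟩⟩
    exact Module.length_eq_one _ _
  have heq : Module.length A (CohIII.T P p (ModuleCat.of A A)) =
      Module.length A (CohIII.T P p (ModuleCat.of A (IsLocalRing.maximalIdeal A))) +
        Module.length A (CohIII.T P p (ModuleCat.of A (IsLocalRing.ResidueField A))) := by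
    apply le_antisymm hle
    rw [hj, eAm, mul_add, mul_one]
    gcongr
  have hsurj := ((length_eq_add_iff _ _ hex hTm hd).mp heq).2
  refine ⟨hsurj, ?_⟩
  have hW : Module.Flat A (P.opcycles (p - 1)) :=
    flat_opcycles_of_surjective_artinian P hP p (p - 1) hrel hsurj
  have ek : Module.length A (CohIII.T P p (ModuleCat.of A (IsLocalRing.ResidueField A))) =
      Module.length A (IsLocalRing.ResidueField A ⊗[A] (P.homology p)) := by
    have e1 := ((thetaIso P p (p - 1) hrel).app
      (ModuleCat.of A (IsLocalRing.ResidueField A))).toLinearEquiv
    have e2 : ((tensorLeft (P.homology p)).obj (ModuleCat.of A (IsLocalRing.ResidueField A))) ≃ₗ[A]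
        (IsLocalRing.ResidueField A ⊗[A] (P.homology p)) :=
      TensorProduct.comm A (P.homology p) (IsLocalRing.ResidueField A)
    exact (LinearEquiv.length_eq e1).symm.trans (LinearEquiv.length_eq e2)
  have hAlen : Module.length A A ≠ ⊤ := Module.length_ne_top
  have hHlen : Module.length A (P.homology p) ≠ ⊤ := by
    rw [← eA, hj]
    exact WithTop.mul_ne_top hd hAlen
  have hfinH : Module.Finite A (P.homology p) := by
    have := (isFiniteLength_iff_isNoetherian_isArtinian.mp
      (Module.length_ne_top_iff.mp hHlen)).1
    infer_instance
  rw [eA, ek] at hj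
  have hfreeH : Module.Free A (P.homology p) := free_of_length_eq _ hj
  have hflatH : Module.Flat A (P.homology p) := Module.Flat.of_free
  exact (flat_T_unit_iff P p).mpr hflatH

end Groth.Agent.S12119
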