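import Groth.Statements.S4497
import Groth.Agent.Lib.Helper3FlatCxArt
import Groth.Agent.S2444
import Groth.Agent.S12119
import Groth.Agent.S2406
import Mathlib

set_option autoImplicit false
universe u
open FlatCx

namespace Groth.Agent.S4497

section Helpers
open CategoryTheory CategoryTheory.Limits MonoidalCategory TensorProduct Groth.Agent.Lib.Helper3
  Groth.Agent.S4492 Groth.Agent.S2444

variable {A : Type u} [CommRing A]

theorem length_T_eq [IsLocalRing A] {ι : Type} {c : ComplexShape ι}
    (P : HomologicalComplex (ModuleCat.{u} A) c) (hP : ∀ i, Module.Flat A (P.X i)) (p : ι)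
    (hm : (CohIII.TFun P p).PreservesMonomorphisms) (he : (CohIII.TFun P p).PreservesEpimorphisms)
    (M : Type u) [AddCommGroup M] [Module A M] (h : IsFiniteLength A M) :
    Module.length A (CohIII.T P p (ModuleCat.of A M)) =
      Module.length A (CohIII.T P p (ModuleCat.of A (IsLocalRing.ResidueField A))) *
        Module.length A M := by
  induction h with
  | of_subsingleton =>
    rename_i M _ _ _
    have : Subsingleton (CohIII.T P p (ModuleCat.of A M)) := subsingleton_T P p _
    rw [Module.length_eq_zero (M := CohIII.T P p (ModuleCat.of A M)),
      Module.length_eq_zero (M := M), mul_zero]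
  | of_simple_quotient hN ih =>
    rename_i M _ _ N hsimple
    have hSe := subSC_shortExact N
    have hex := exact_T P hP p (subSC N) hSe
    have hmono : Mono (subSC N).f := hSe.mono_f
    have hepi : Epi (subSC N).g := hSe.epi_g
    have hinj : Function.Injective ((CohIII.TFun P p).map (subSC N).f).hom :=
      (ModuleCat.mono_iff_injective _).mp (hm.preserves _)
    have hsurj : Function.Surjective ((CohIII.TFun P p).map (subSC N).g).hom :=
      (ModuleCat.epi_iff_surjective _).mp (he.preserves _)
    have hadd : Module.length A (CohIII.T P p (ModuleCat.of A M)) =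
        Module.length A (CohIII.T P p (ModuleCat.of A N)) +
          Module.length A (CohIII.T P p (ModuleCat.of A (M ⧸ N))) :=
      Module.length_eq_add_of_exact _ _ hinj hsurj hex
    obtain ⟨I, hI, ⟨e⟩⟩ := isSimpleModule_iff_quot_maximal.mp hsimple
    have hIm : I = IsLocalRing.maximalIdeal A := IsLocalRing.eq_maximalIdeal hI
    subst hIm
    have e3 : Module.length A (CohIII.T P p (ModuleCat.of A (M ⧸ N))) =
        Module.length A (CohIII.T P p (ModuleCat.of A (IsLocalRing.ResidueField A))) :=
      LinearEquiv.length_eq ((CohIII.TFun P p).mapIso e.toModuleIso).toLinearEquiv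
    have eM : Module.length A M = Module.length A N + 1 := by
      rw [Module.length_eq_add_of_exact N.subtype N.mkQ (Submodule.subtype_injective N)
        (Submodule.mkQ_surjective N) (LinearMap.exact_subtype_mkQ N),
        Module.length_eq_one A (M ⧸ N)]
    rw [hadd, ih, e3, eM, mul_add, mul_one]

end Helpers

open CategoryTheory CategoryTheory.Limits in

open CategoryTheory CategoryTheory.Limits in
/-- For the homological functor T_i(M) = H_i(P ⊗_A M) of a chain complex P of flat modules over a
commutative Artinian local ring A with residue field k; the terms of P need not be finitely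
generated. With p + 1 = q: T_p takes injections to injections and surjections to surjections if and
only if the maps T_p(A) → T_p(k) and T_q(A) → T_q(k) induced by A → k are both surjective. If
moreover T_p(k) has finite length d, these conditions are also equivalent to: length T_p(M) = d ·
length M for every A-module M of finite length (lengths valued in ℕ∞). -/
theorem result {A : Type u} [CommRing A] [IsArtinianRing A]
    [IsLocalRing A] (P : ChainComplex (ModuleCat.{u} A) ℤ) (hP : ∀ i, Module.Flat A (P.X i)) (p q : ℤ)
    (hpq : p + 1 = q) :
    (((CohIII.TFun P p).PreservesMonomorphisms ∧ (CohIII.TFun P p).PreservesEpimorphisms) ↔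
      (Function.Surjective ((CohIII.TFun P p).map
          (ModuleCat.ofHom (Algebra.linearMap A (IsLocalRing.ResidueField A)))).hom ∧
        Function.Surjective ((CohIII.TFun P q).map
          (ModuleCat.ofHom (Algebra.linearMap A (IsLocalRing.ResidueField A)))).hom)) ∧
    (Module.length A (CohIII.T P p (ModuleCat.of A (IsLocalRing.ResidueField A))) ≠ ⊤ →
      (((CohIII.TFun P p).PreservesMonomorphisms ∧ (CohIII.TFun P p).PreservesEpimorphisms) ↔
        ∀ M : ModuleCat.{u} A, Module.length A M ≠ ⊤ →
          Module.length A (CohIII.T P p M) =
            Module.length A (CohIII.T P p (ModuleCat.of A (IsLocalRing.ResidueField A))) * Module.length A M)) := by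
  open Groth.Agent.Lib.Helper3 in
  have hres : Epi (ModuleCat.ofHom (Algebra.linearMap A (IsLocalRing.ResidueField A))) :=
    (ModuleCat.epi_iff_surjective _).mpr
      (show Function.Surjective (Algebra.linearMap A (IsLocalRing.ResidueField A)) from
        IsLocalRing.residue_surjective)
  have hrel : (ComplexShape.down ℤ).Rel p (p - 1) := by simp
  have hrel' : (ComplexShape.down ℤ).Rel q p := by
    show p + 1 = q
    exact hpq
  have hepi_iff := Groth.Agent.S2410.preservesEpi_iff_flat_opcycles P hP p (p - 1) (by ring)
  have hmono_iff := Groth.Agent.S2375.result P hP p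
  constructor
  · constructor
    · rintro ⟨hm, he⟩
      constructor
      · exact (ModuleCat.epi_iff_surjective _).mp (he.preserves _)
      · have he' : (CohIII.TFun P q).PreservesEpimorphisms :=
          (Groth.Agent.S2406.result P hP q p hpq).mpr hm
        exact (ModuleCat.epi_iff_surjective _).mp (he'.preserves _)
    · rintro ⟨hp, hq⟩
      exact ⟨hmono_iff.mpr (flat_opcycles_of_surjective_artinian P hP q p hrel' hq),
        hepi_iff.mpr (flat_opcycles_of_surjective_artinian P hP p (p - 1) hrel hp)⟩
  · intro hd
    constructor
    · rintro ⟨hm, he⟩ M hM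
      exact length_T_eq P hP p hm he M (Module.length_ne_top_iff.mp hM)
    · intro hall
      have hAlen : Module.length A A ≠ ⊤ := Module.length_ne_top
      have hj := hall (ModuleCat.of A A) hAlen
      obtain ⟨hsurj, hflatT⟩ := Groth.Agent.S12119.result P hP p hd hj
      have hW : Module.Flat A (P.opcycles (p - 1)) :=
        flat_opcycles_of_surjective_artinian P hP p (p - 1) hrel hsurj
      have := hP (p - 1)
      have hflatH : Module.Flat A (P.homology p) := (flat_T_unit_iff P p).mp hflatT
      exact ⟨hmono_iff.mpr ((flat_opcycles_iff_flat_homology P p (p - 1) hrel).mpr hflatH),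
        hepi_iff.mpr hW⟩

end Groth.Agent.S4497
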