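import Groth.Statements.S11528
import Groth.Agent.Lib.Helper28TateBase
-- import your own Groth.Agent.* helpers here

set_option autoImplicit false
universe u
open AdicRing

namespace Groth.Agent.S11528

/-- Let R be a base ring of class (N) or (V) for the ideal I, A an R-algebra topologically of finite
type, M a finite A-module and N a submodule of M. Then for some n₀ and all m, the intersection of
I^(m+n₀) M with N lies in I^m N. (The published statement asserts only that the I-adic topology of M
induces that of N; this row states the uniform form: for some n₀ and all m, I^(m+n₀) M ∩ N lies in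
I^m N.) -/
theorem result
    (R : Type u) [CommRing R] (I : Ideal R) (hR : AdicRing.IsBase R I)
    (A : Type u) [CommRing A] [Algebra R A] (hA : AdicRing.TopFiniteType R I A)
    (M : Type u) [AddCommGroup M] [Module A M] [Module R M] [IsScalarTower R A M]
    [Module.Finite A M] (N : Submodule A M) :
    ∃ n₀ : ℕ, ∀ m : ℕ,
      (I ^ (m + n₀) • (⊤ : Submodule R M)) ⊓ N.restrictScalars R ≤ I ^ m • N.restrictScalars R := by
  obtain ⟨hc, h | h⟩ := hR
  · obtain ⟨hN, -⟩ := h
    have := Groth.Agent.Lib.Helper28.TateBase.isNoetherianRing_of_topFiniteType R I A hA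
    obtain ⟨k, hk⟩ := Ideal.exists_pow_inf_eq_pow_smul (I.map (algebraMap R A)) N
    refine ⟨k, fun m => ?_⟩
    have h1 : (I ^ (m + k) • (⊤ : Submodule R M)) =
        (((I.map (algebraMap R A)) ^ (m + k)) • (⊤ : Submodule A M)).restrictScalars R := by
      rw [← Ideal.map_pow, Submodule.restrictScalars_map_smul_eq, Submodule.restrictScalars_top]
    have h2 : I ^ m • N.restrictScalars R =
        (((I.map (algebraMap R A)) ^ m) • N).restrictScalars R := by
      rw [← Ideal.map_pow, Submodule.restrictScalars_map_smul_eq]
    rw [h1, h2]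
    intro x hx
    rw [Submodule.mem_inf, Submodule.restrictScalars_mem, Submodule.restrictScalars_mem] at hx
    rw [Submodule.restrictScalars_mem]
    have h3 : x ∈ (I.map (algebraMap R A)) ^ (m + k) • (⊤ : Submodule A M) ⊓ N :=
      Submodule.mem_inf.mpr hx
    rw [hk (m + k) (Nat.le_add_left k m), Nat.add_sub_cancel] at h3
    exact Submodule.smul_mono le_rfl inf_le_right h3
  · obtain ⟨hD, hV, hdim, t, ht, rfl⟩ := h
    have : ValuationRing R := {}
    have hH : IsHausdorff (Ideal.span {t}) R := hc.toIsHausdorff
    set τ := algebraMap R A t with hτ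
    have hsatfg : (Groth.Agent.Lib.Helper28.TateMod.sat τ N).FG := by
      refine Groth.Agent.Lib.Helper28.TateBase.fg_of_saturated R t ht A hA M _ ?_
      intro x hx
      obtain ⟨k, hk⟩ := hx
      refine ⟨k + 1, ?_⟩
      rw [pow_succ, mul_smul]
      exact hk
    obtain ⟨n₀, hn₀⟩ := Groth.Agent.Lib.Helper28.TateMod.exists_pow_smul_mem_of_fg_sat N hsatfg
    refine ⟨n₀, fun m => ?_⟩
    intro x hx
    rw [Submodule.mem_inf, Submodule.restrictScalars_mem] at hx
    obtain ⟨hx1, hx2⟩ := hx
    rw [Ideal.span_singleton_pow, Submodule.ideal_span_singleton_smul,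
      Submodule.mem_smul_pointwise_iff_exists] at hx1
    obtain ⟨y, -, rfl⟩ := hx1
    have hy : y ∈ Groth.Agent.Lib.Helper28.TateMod.sat τ N := by
      refine ⟨m + n₀, ?_⟩
      rw [hτ, ← map_pow, algebraMap_smul]
      exact hx2
    have h4 := hn₀ y hy
    rw [hτ, ← map_pow, algebraMap_smul] at h4
    rw [pow_add, mul_smul]
    exact Submodule.smul_mem_smul (Ideal.pow_mem_pow (Ideal.mem_span_singleton_self t) m) h4

end Groth.Agent.S11528
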