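import Groth.Statements.S11529
import Groth.Agent.Lib.Helper28TateCompl3
-- import your own Groth.Agent.* helpers here

set_option autoImplicit false
universe u
open AdicRing

namespace Groth.Agent.S11529

/-- Let R be a base ring of class (N) or (V) for the ideal I, A an R-algebra topologically of finite
type and M a finite A-module. Then M is complete and separated for the I-adic topology. -/
theorem result
    (R : Type u) [CommRing R] (I : Ideal R) (hR : AdicRing.IsBase R I)
    (A : Type u) [CommRing A] [Algebra R A] (hA : AdicRing.TopFiniteType R I A)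
    (M : Type u) [AddCommGroup M] [Module A M] [Module R M] [IsScalarTower R A M]
    [Module.Finite A M] :
    IsAdicComplete I M := by
  obtain ⟨hc, h | h⟩ := hR
  · obtain ⟨hN, -⟩ := h
    rw [isAdicComplete_iff]
    exact ⟨Groth.Agent.Lib.Helper28.TateCompl.isHausdorff_of_finite_N R I A hA M,
      Groth.Agent.Lib.Helper28.TateCompl.isPrecomplete_of_finite R I (IsNoetherian.noetherian I)
        A hA M⟩
  · obtain ⟨hD, hV, hdim, t, ht, rfl⟩ := h
    have : ValuationRing R := {}
    have hH : IsHausdorff (Ideal.span {t}) R := hc.toIsHausdorff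
    rw [isAdicComplete_iff]
    refine ⟨?_, Groth.Agent.Lib.Helper28.TateCompl.isPrecomplete_of_finite R _ ⟨{t}, by simp⟩
        A hA M⟩
    obtain ⟨n, φ, hφ⟩ := hA
    let algA : Algebra (Groth.Agent.Lib.Helper28.TateRPow.A R t n) A := φ.toRingHom.toAlgebra
    let modM : Module (Groth.Agent.Lib.Helper28.TateRPow.A R t n) M :=
      Module.compHom M φ.toRingHom
    have tower : IsScalarTower (Groth.Agent.Lib.Helper28.TateRPow.A R t n) A M := by
      refine ⟨fun a b x => ?_⟩
      change (φ a * b) • x = φ a • (b • x)
      rw [mul_smul]
    have tower' : IsScalarTower R (Groth.Agent.Lib.Helper28.TateRPow.A R t n) M := by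
      refine ⟨fun r a x => ?_⟩
      change φ (r • a) • x = r • (φ a • x)
      rw [map_smul, smul_assoc]
    have hfinA : Module.Finite (Groth.Agent.Lib.Helper28.TateRPow.A R t n) A :=
      Module.Finite.of_surjective (Algebra.linearMap _ A) hφ
    have hfinM : Module.Finite (Groth.Agent.Lib.Helper28.TateRPow.A R t n) M :=
      Module.Finite.trans A M
    exact Groth.Agent.Lib.Helper28.TateCompl.isHausdorff_of_finite_rPow R t ht n M

end Groth.Agent.S11529
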