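import Groth.Statements.S1299
import Groth.Agent.Lib.Helper11GenFlat
import Groth.Agent.Lib.Helper11RedCl
import Mathlib

set_option autoImplicit false
universe u
open FlatMor

namespace Groth.Agent.S1299

open AlgebraicGeometry CategoryTheory Limits TopologicalSpace in
-- generic flatness + going down: over a nonempty open of an irreducible scheme every point of the
-- source of a finite type morphism is a specialization of a point of the generic fibre
theorem exists_open_generalizing {X Y : Scheme.{u}} (f : X ⟶ Y) [IrreducibleSpace ↑Y]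
    [LocallyOfFiniteType f] [QuasiCompact f] :
    ∃ V : Y.Opens, (V : Set ↑Y).Nonempty ∧
      ∀ x : X, f x ∈ V → ∃ x₀ : X, x₀ ⤳ x ∧ f x₀ = genericPoint ↑Y := by
  -- the reduced subscheme
  let Zc : Closeds Y := ⊤
  let I := Scheme.IdealSheafData.vanishingIdeal Zc
  let Y' : Scheme.{u} := I.subscheme
  let r : Y' ⟶ Y := I.subschemeι
  haveI : IsClosedImmersion r := inferInstanceAs (IsClosedImmersion I.subschemeι)
  haveI : IsReduced Y' := inferInstanceAs (IsReduced I.subscheme)
  have hrange : Set.range r = Set.univ := by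
    change Set.range I.subschemeι = Set.univ
    rw [Groth.Agent.Lib.Helper11RedCl.range_subschemeι_vanishingIdeal]; rfl
  have hrsurj : Function.Surjective r := Set.range_eq_univ.mp hrange
  have hrinj : Function.Injective r := r.isClosedEmbedding.injective
  let e : Y' ≃ₜ Y := r.isClosedEmbedding.isEmbedding.toHomeomorphOfSurjective hrsurj
  have he : ∀ y', e y' = r y' := fun _ => rfl
  haveI : IrreducibleSpace Y' := e.irreducibleSpace_iff.mpr inferInstance
  haveI : IsIntegral Y' := isIntegral_of_irreducibleSpace_of_isReduced Y'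
  -- base change
  haveI : Surjective r := ⟨hrsurj⟩
  have hpsurj : Function.Surjective (pullback.fst f r) :=
    (inferInstance : Surjective (pullback.fst f r)).surj
  -- an affine open with domain sections
  obtain ⟨_, ⟨V', hV', rfl⟩, hgV', -⟩ := Y'.isBasis_affineOpens.exists_subset_of_mem_open
    (Set.mem_univ (genericPoint Y')) isOpen_univ
  haveI : Nonempty V' := ⟨⟨genericPoint Y', hgV'⟩⟩
  obtain ⟨A, hA0, hA⟩ :=
    Groth.Agent.Lib.Helper11GenFlat.exists_flat_stalkMap (pullback.snd f r) V' hV'
  -- the open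
  have hVopen : IsOpen (r '' (Y'.basicOpen A : Set Y')) := by
    have := e.isOpenMap _ (Y'.basicOpen A).isOpen
    exact this
  have hne : (Y'.basicOpen A : Set Y').Nonempty := by
    by_contra hne
    have hbot : Y'.basicOpen A = ⊥ := by
      ext z
      simp only [Opens.coe_bot, Set.mem_empty_iff_false, iff_false]
      exact fun hz => hne ⟨z, hz⟩
    exact hA0 ((AlgebraicGeometry.basicOpen_eq_bot_iff A).1 hbot)
  refine ⟨⟨_, hVopen⟩, hne.image _, fun x hx => ?_⟩
  obtain ⟨y', hy', hy'x⟩ := hx
  obtain ⟨x', rfl⟩ := hpsurj x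
  have hfx' : pullback.snd f r x' = y' := by
    apply hrinj
    rw [hy'x, ← Scheme.Hom.comp_apply, ← Scheme.Hom.comp_apply, pullback.condition]
  -- flatness over the basic open
  let W : (pullback f r).Opens := (pullback.snd f r) ⁻¹ᵁ Y'.basicOpen A
  have hflat : Flat (W.ι ≫ pullback.snd f r) := by
    rw [Flat.iff_flat_stalkMap]
    intro z
    rw [Scheme.Hom.stalkMap_comp]
    exact (RingHom.Flat.respectsIso.cancel_right_isIso _ (W.ι.stalkMap z)).mpr (hA _ z.2)
  have hx'W : x' ∈ W := by
    show pullback.snd f r x' ∈ Y'.basicOpen A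
    rw [hfx']; exact hy'
  have hspec : genericPoint Y' ⤳ (W.ι ≫ pullback.snd f r) ⟨x', hx'W⟩ :=
    genericPoint_specializes _
  obtain ⟨w', hw', hw'g⟩ := Flat.generalizingMap (W.ι ≫ pullback.snd f r) hspec
  refine ⟨pullback.fst f r (W.ι w'), ?_, ?_⟩
  · have h1 : W.ι w' ⤳ W.ι ⟨x', hx'W⟩ := hw'.map W.ι.continuous
    exact h1.map (pullback.fst f r).continuous
  · have h2 : ∀ t : ↥(pullback f r), f (pullback.fst f r t) = r (pullback.snd f r t) := by
      intro t
      rw [← Scheme.Hom.comp_apply, pullback.condition, Scheme.Hom.comp_apply]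
    rw [h2]
    have h3 : pullback.snd f r (W.ι w') = genericPoint Y' := by
      rw [← Scheme.Hom.comp_apply]; exact hw'g
    rw [h3]
    -- the image of the generic point under the homeomorphism is the generic point
    have hgen : IsGenericPoint (r (genericPoint Y')) (Set.univ : Set Y) := by
      have := (genericPoint_spec Y').image r.continuous
      rwa [Set.image_univ, hrange, closure_univ] at this
    exact hgen.eq (genericPoint_spec Y)

open AlgebraicGeometry CategoryTheory Limits in

open AlgebraicGeometry CategoryTheory Limits in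
/-- Let f : X → Y be a morphism of finite type (locally of finite type and quasi-compact) with Y
irreducible, and let Z_1, …, Z_n be finitely many closed subsets of the generic fibre of f which
together cover it. For each i let T_i ⊆ X be the closure in X of the image of Z_i. Then there is a
nonempty open subset V ⊆ Y such that for every y ∈ V the fibre X_y is covered by the preimages of
T_1, …, T_n. -/
theorem result {X Y : Scheme.{u}} (f : X ⟶ Y) [IrreducibleSpace ↑Y] [LocallyOfFiniteType f] [QuasiCompact f]
    {ι : Type} [Finite ι] (Z : ι → Set ↑(f.fiber (genericPoint ↑Y))) (hZ : ∀ i, IsClosed (Z i)) (hcov : ⋃ i, Z i = Set.univ) :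
    ∃ V : Y.Opens, (V : Set ↑Y).Nonempty ∧ ∀ y ∈ V, ⋃ i, (f.fiberι y) ⁻¹' closure ((f.fiberι (genericPoint ↑Y)) '' Z i) = Set.univ := by
  obtain ⟨V, hV, hgen⟩ := exists_open_generalizing f
  refine ⟨V, hV, fun y hy => ?_⟩
  rw [Set.eq_univ_iff_forall]
  intro a
  have hfa : f (f.fiberι y a) = y := by
    have : f.fiberι y a ∈ Set.range (f.fiberι y) := ⟨a, rfl⟩
    rw [Scheme.Hom.range_fiberι] at this
    exact this
  obtain ⟨x₀, hx₀, hfx₀⟩ := hgen (f.fiberι y a) (by rw [hfa]; exact hy)
  have hx₀r : x₀ ∈ Set.range (f.fiberι (genericPoint ↑Y)) := by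
    rw [Scheme.Hom.range_fiberι]; exact hfx₀
  obtain ⟨z, rfl⟩ := hx₀r
  have hz : z ∈ ⋃ i, Z i := by rw [hcov]; exact Set.mem_univ z
  obtain ⟨i, hi⟩ := Set.mem_iUnion.mp hz
  refine Set.mem_iUnion.mpr ⟨i, ?_⟩
  show f.fiberι y a ∈ closure ((f.fiberι (genericPoint ↑Y)) '' Z i)
  exact hx₀.mem_closed isClosed_closure (subset_closure ⟨z, hi, rfl⟩)

end Groth.Agent.S1299
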