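import Groth.Statements.S3402
import Groth.Agent.Lib.Helper5Cons
import Mathlib.AlgebraicGeometry.Morphisms.QuasiSeparated
import Mathlib.AlgebraicGeometry.Properties

set_option autoImplicit false
open CategoryTheory AlgebraicGeometry
universe u
open EGA41

namespace Groth.Agent.S3402

open Topology in
/-- every point of a scheme has an affine open neighbourhood inside a given open set -/
theorem exists_affine_nhd (X : Scheme.{u}) (x : X) (U : Set X) (hU : IsOpen U) (hx : x ∈ U) :
    ∃ W : X.Opens, IsAffineOpen W ∧ x ∈ W ∧ (W : Set X) ⊆ U := by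
  obtain ⟨W, hW, hxW, hWU⟩ :=
    TopologicalSpace.Opens.isBasis_iff_nbhd.mp X.isBasis_affineOpens
      (show x ∈ (⟨U, hU⟩ : X.Opens) from hx)
  exact ⟨W, hW, hxW, hWU⟩

/-- A subset E of a scheme X is locally constructible if and only if it is both ind-constructible and
pro-constructible. -/
theorem result (X : Scheme.{u}) (E : Set X) :
    Topology.IsLocallyConstructible E ↔ ProCons.IsIndConstructible E ∧ ProCons.IsProConstructible E := by
  constructor
  · intro hE
    have hloc : Topology.IsLocallyConstructible (Subtype.val ⁻¹' E : Set ↥(Set.univ : Set X)) :=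
      hE.preimage_of_isOpenEmbedding isOpen_univ.isOpenEmbedding_subtypeVal
    constructor
    · intro x
      refine ⟨Set.univ, isOpen_univ, trivial, {Subtype.val ⁻¹' E}, ?_, ?_⟩
      · intro T hT
        rw [Set.mem_singleton_iff] at hT
        rw [hT]; exact hloc
      · simp
    · intro x
      refine ⟨Set.univ, isOpen_univ, trivial, {Subtype.val ⁻¹' E}, ?_, ?_⟩
      · intro T hT
        rw [Set.mem_singleton_iff] at hT
        rw [hT]; exact hloc
      · simp
  · rintro ⟨hind, hpro⟩ x
    obtain ⟨U₁, hU₁, hxU₁, S₁, hS₁, h₁⟩ := hind x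
    obtain ⟨U₂, hU₂, hxU₂, S₂, hS₂, h₂⟩ := hpro x
    obtain ⟨W, hW, hxW, hWU⟩ := exists_affine_nhd X x (U₁ ∩ U₂) (hU₁.inter hU₂) ⟨hxU₁, hxU₂⟩
    have : IsAffine (W : Scheme.{u}) := hW
    have : CompactSpace ↥(W : Set X) := inferInstanceAs (CompactSpace (W : Scheme.{u}))
    have : QuasiSober ↥(W : Set X) := inferInstanceAs (QuasiSober (W : Scheme.{u}))
    have : PrespectralSpace ↥(W : Set X) := inferInstanceAs (PrespectralSpace (W : Scheme.{u}))
    have : QuasiSeparatedSpace ↥(W : Set X) :=
      inferInstanceAs (QuasiSeparatedSpace (W : Scheme.{u}))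
    refine ⟨(W : Set X), W.isOpen.mem_nhds hxW, W.isOpen, ?_⟩
    exact Groth.Agent.Lib.Helper5.isConstructible_of_sUnion_of_sInter E W.isOpen
      (hWU.trans Set.inter_subset_left) (hWU.trans Set.inter_subset_right) S₁ S₂ hS₁ hS₂ h₁ h₂

end Groth.Agent.S3402
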