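import Groth.Statements.S9218
-- import your own Groth.Agent.* helpers here
import Mathlib

set_option autoImplicit false
universe u
open CategoryTheory CategoryTheory.Limits AlgebraicGeometry
open Lim

namespace Groth.Agent.S9218

attribute [local instance] IsCofiltered.isConnected

set_option backward.isDefEq.respectTransparency false in

/-- Let S = lim S_i be a cofiltered limit of schemes with affine transition morphisms (the S_i are not
assumed quasi-compact or quasi-separated), i an index, and X_i → S_i, Y_i → S_i morphisms locally of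
finite presentation with X_i, Y_i quasi-compact and quasi-separated; let X, Y be their base changes
to S (pullback squares). Then every S-morphism f : X → Y comes from some stage: for some index j
over i there is an S_j-morphism f_j : X_i ×_{S_i} S_j → Y_i ×_{S_i} S_j whose base change to S is f,
in the sense that the canonical morphisms X → X_i ×_{S_i} S_j and Y → Y_i ×_{S_i} S_j intertwine f
and f_j. This is the fullness part of the equivalence between the colimit of the categories of
quasi-compact quasi-separated schemes locally of finite presentation over the S_i and the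
corresponding category over S. -/
theorem result {I : Type u} [SmallCategory I] [IsCofiltered I]
    (D : I ⥤ Scheme.{u}) (c : Limits.Cone D) (hc : Limits.IsLimit c)
    [∀ (i j : I) (f : i ⟶ j), IsAffineHom (D.map f)] (i : I)
    {Xi Yi : Scheme.{u}} (xi : Xi ⟶ D.obj i) (yi : Yi ⟶ D.obj i)
    [CompactSpace Xi] [QuasiSeparatedSpace Xi] [LocallyOfFinitePresentation xi]
    [CompactSpace Yi] [QuasiSeparatedSpace Yi] [LocallyOfFinitePresentation yi]
    {X Y : Scheme.{u}} (qX : X ⟶ Xi) (pX : X ⟶ c.pt) (hX : IsPullback qX pX xi (c.π.app i))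
    (qY : Y ⟶ Yi) (pY : Y ⟶ c.pt) (hY : IsPullback qY pY yi (c.π.app i))
    (f : X ⟶ Y) (hf : f ≫ pY = pX) :
    ∃ (j : I) (φ : j ⟶ i) (fj : pullback xi (D.map φ) ⟶ pullback yi (D.map φ))
      (sX : X ⟶ pullback xi (D.map φ)) (sY : Y ⟶ pullback yi (D.map φ)),
      fj ≫ pullback.snd yi (D.map φ) = pullback.snd xi (D.map φ) ∧
      sX ≫ pullback.fst xi (D.map φ) = qX ∧ sX ≫ pullback.snd xi (D.map φ) = pX ≫ c.π.app j ∧
      sY ≫ pullback.fst yi (D.map φ) = qY ∧ sY ≫ pullback.snd yi (D.map φ) = pY ≫ c.π.app j ∧
      sX ≫ fj = f ≫ sY := by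
  classical
  let D' : Over i ⥤ Scheme.{u} := Over.post D ⋙ Over.pullback xi ⋙ Over.forget _
  let c' : Cone D' := (Over.pullback xi ⋙ Over.forget _).mapCone ((Over.conePost _ _).obj c)
  have hc' : IsLimit c' :=
    isLimitOfPreserves (Over.pullback xi ⋙ Over.forget _) (Over.isLimitConePost _ hc)
  let d : ∀ j : Over i, D.obj j.left ⟶ D.obj i := fun j => D.map j.hom
  have hmapeq : ∀ {j k : Over i} (u : j ⟶ k), D'.map u =
      pullback.lift (pullback.fst (d j) xi ≫ D.map u.left) (pullback.snd (d j) xi)
        (by
          change (_ ≫ D.map u.left) ≫ D.map k.hom = _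
          rw [Category.assoc, ← D.map_comp, Over.w u]
          exact pullback.condition) := fun u => rfl
  let sn : ∀ j : Over i, D'.obj j ⟶ Xi := fun j => pullback.snd (d j) xi
  let fs : ∀ j : Over i, D'.obj j ⟶ D.obj j.left := fun j => pullback.fst (d j) xi
  have hmap_snd : ∀ {j k : Over i} (u : j ⟶ k), D'.map u ≫ sn k = sn j := by
    intro j k u
    rw [hmapeq]; exact pullback.lift_snd _ _ _
  have hmap_fst : ∀ {j k : Over i} (u : j ⟶ k), D'.map u ≫ fs k = fs j ≫ D.map u.left := by
    intro j k u
    rw [hmapeq]; exact pullback.lift_fst _ _ _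
  let t : D' ⟶ (Functor.const (Over i)).obj (D.obj i) :=
    { app := fun j => sn j ≫ xi
      naturality := by
        intro j k u
        simp only [Functor.const_obj_obj, Functor.const_obj_map, Category.comp_id]
        rw [← Category.assoc, hmap_snd] }
  have haffD : ∀ j : Over i, IsAffineHom (d j) := fun j =>
    ‹∀ (i j : I) (f : i ⟶ j), IsAffineHom (D.map f)› _ _ _
  have haffsnd : ∀ j : Over i, IsAffineHom (sn j) := fun j =>
    MorphismProperty.of_isPullback (IsPullback.of_hasPullback (d j) xi) (haffD j)
  have haff : ∀ {j k : Over i} (u : j ⟶ k), IsAffineHom (D'.map u) := by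
    intro j k u
    have := haffsnd k
    have h1 : IsAffineHom (D'.map u ≫ sn k) := by
      rw [hmap_snd]; exact haffsnd j
    exact IsAffineHom.of_comp (D'.map u) (sn k)
  have hcomp : ∀ j : Over i, CompactSpace (D'.obj j) := fun j =>
    have := haffsnd j
    QuasiCompact.compactSpace_of_compactSpace (sn j)
  have hqs : ∀ j : Over i, QuasiSeparatedSpace (D'.obj j) := fun j =>
    have := haffsnd j
    quasiSeparatedSpace_of_quasiSeparated (sn j)
  -- the cone legs
  have hπeq : ∀ j : Over i, c'.π.app j =
      pullback.lift (pullback.fst (c.π.app i) xi ≫ c.π.app j.left) (pullback.snd (c.π.app i) xi)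
        (by
          change (_ ≫ c.π.app j.left) ≫ D.map j.hom = _
          rw [Category.assoc, c.w]
          exact pullback.condition) := fun j => rfl
  have hπ_fst : ∀ j : Over i, c'.π.app j ≫ fs j =
      pullback.fst (c.π.app i) xi ≫ c.π.app j.left := by
    intro j
    rw [hπeq]; exact pullback.lift_fst _ _ _
  have hπ_snd : ∀ j : Over i, c'.π.app j ≫ sn j = pullback.snd (c.π.app i) xi := by
    intro j
    rw [hπeq]; exact pullback.lift_snd _ _ _
  let e : X ≅ pullback (c.π.app i) xi := hX.flip.isoPullback
  have he_fst : e.hom ≫ pullback.fst (c.π.app i) xi = pX := hX.flip.isoPullback_hom_fst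
  have he_snd : e.hom ≫ pullback.snd (c.π.app i) xi = qX := hX.flip.isoPullback_hom_snd
  let a : c'.pt ⟶ Yi := e.inv ≫ f ≫ qY
  have ha : c'.π ≫ t = (Functor.const _).map (a ≫ yi) := by
    ext j : 2
    change c'.π.app j ≫ sn j ≫ xi = a ≫ yi
    rw [← Category.assoc, hπ_snd]
    simp only [a, Category.assoc]
    rw [hY.w, reassoc_of% hf, ← hX.w]
    have h3 : e.inv ≫ qX = pullback.snd (c.π.app i) xi := by rw [Iso.inv_comp_eq, he_snd]
    exact (congrArg (· ≫ xi) h3).symm.trans (Category.assoc _ _ _)
  obtain ⟨j, g, hg1, hg2⟩ :=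
    Scheme.exists_π_app_comp_eq_of_locallyOfFinitePresentation D' t yi c' hc' a ha
  change g ≫ yi = sn j ≫ xi at hg2
  have hsymm_snd : (pullbackSymmetry xi (d j)).hom ≫ sn j = pullback.fst xi (d j) :=
    pullbackSymmetry_hom_comp_snd _ _
  have hsymm_fst : (pullbackSymmetry xi (d j)).hom ≫ fs j = pullback.snd xi (d j) :=
    pullbackSymmetry_hom_comp_fst _ _
  refine ⟨j.left, j.hom,
    pullback.lift ((pullbackSymmetry xi (d j)).hom ≫ g) (pullback.snd xi (d j)) (by
      rw [Category.assoc, hg2, reassoc_of% hsymm_snd]; exact pullback.condition),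
    pullback.lift qX (pX ≫ c.π.app j.left) (by
      rw [hX.w, Category.assoc]; congr 1; exact (c.w j.hom).symm),
    pullback.lift qY (pY ≫ c.π.app j.left) (by
      rw [hY.w, Category.assoc]; congr 1; exact (c.w j.hom).symm),
    pullback.lift_snd _ _ _, pullback.lift_fst _ _ _, pullback.lift_snd _ _ _,
    pullback.lift_fst _ _ _, pullback.lift_snd _ _ _, ?_⟩
  have hkey : pullback.lift qX (pX ≫ c.π.app j.left) (by
      rw [hX.w, Category.assoc]; congr 1; exact (c.w j.hom).symm) ≫
      (pullbackSymmetry xi (d j)).hom = e.hom ≫ c'.π.app j := by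
    apply pullback.hom_ext
    · change _ ≫ fs j = _ ≫ fs j
      rw [Category.assoc, hsymm_fst, pullback.lift_snd, Category.assoc, hπ_fst,
        reassoc_of% he_fst]
    · change _ ≫ sn j = _ ≫ sn j
      rw [Category.assoc, hsymm_snd, pullback.lift_fst, Category.assoc, hπ_snd, he_snd]
  apply pullback.hom_ext
  · rw [Category.assoc, pullback.lift_fst, reassoc_of% hkey, hg1, Category.assoc,
      pullback.lift_fst]
    simp only [a, Iso.hom_inv_id_assoc]
  · rw [Category.assoc, pullback.lift_snd, pullback.lift_snd, Category.assoc, pullback.lift_snd,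
      reassoc_of% hf]

end Groth.Agent.S9218
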