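import Groth.Statements.S4759
import Mathlib.AlgebraicGeometry.Morphisms.FinitePresentation
import Mathlib.AlgebraicGeometry.Morphisms.QuasiSeparated

set_option autoImplicit false
universe u
open CategoryTheory AlgebraicGeometry
open Lim8

namespace Groth.Agent.S4759

/-- Let S = lim S_i be a cofiltered limit of schemes with affine transition maps, some stage S_{i₀}
being quasi-compact and quasi-separated. Then every constructible subset Z of S is the preimage
under the projection S ⟶ S_i of a constructible subset of S_i, for some index i over i₀. -/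
theorem result {I : Type u} [SmallCategory I] [IsCofiltered I]
    (D : I ⥤ Scheme.{u}) (c : Limits.Cone D) (hc : Limits.IsLimit c)
    [∀ (i j : I) (f : i ⟶ j), IsAffineHom (D.map f)] (i₀ : I) [CompactSpace (D.obj i₀)]
    [QuasiSeparatedSpace (D.obj i₀)] (Z : Set c.pt) (hZ : Topology.IsConstructible Z) :
    ∃ (i : I) (_ : i ⟶ i₀) (Zi : Set (D.obj i)),
      Topology.IsConstructible Zi ∧ (⇑(c.π.app i) ⁻¹' Zi : Set c.pt) = Z := by
  have hπ : IsAffineHom (c.π.app i₀) := isAffineHom_π_app D c hc i₀
  have : CompactSpace c.pt := QuasiCompact.compactSpace_of_compactSpace (c.π.app i₀)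
  have : QuasiSeparatedSpace c.pt := quasiSeparatedSpace_of_quasiSeparated (c.π.app i₀)
  have hcomp : ∀ {i j : I} (a : i ⟶ j), ⇑(D.map a) ∘ ⇑(c.π.app i) = ⇑(c.π.app j) := by
    intro i j a
    ext x
    rw [← c.w a]
    rfl
  induction hZ using Topology.IsConstructible.empty_union_induction with
  | open_retrocompact U hUo hUc =>
    have hUcomp : IsCompact U := hUc.isCompact
    obtain ⟨i, V, hV, hVU⟩ := exists_preimage_eq D c hc ⟨U, hUo⟩ hUcomp
    have : CompactSpace (D.obj (IsCofiltered.min i i₀)) :=
      QuasiCompact.compactSpace_of_compactSpace (D.map (IsCofiltered.minToRight i i₀))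
    have : QuasiSeparatedSpace (D.obj (IsCofiltered.min i i₀)) :=
      quasiSeparatedSpace_of_quasiSeparated (D.map (IsCofiltered.minToRight i i₀))
    refine ⟨IsCofiltered.min i i₀, IsCofiltered.minToRight i i₀,
      ⇑(D.map (IsCofiltered.minToLeft i i₀)) ⁻¹' (V : Set (D.obj i)), ?_, ?_⟩
    · exact IsCompact.isConstructible
        (QuasiCompact.isCompact_preimage (f := D.map (IsCofiltered.minToLeft i i₀)) _ V.2 hV)
        (V.2.preimage (D.map (IsCofiltered.minToLeft i i₀)).continuous)
    · rw [← Set.preimage_comp, hcomp]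
      exact congrArg (fun W : c.pt.Opens => (W : Set c.pt)) hVU
  | union s hs t ht ihs iht =>
    obtain ⟨i, fi, Zi, hZi, rfl⟩ := ihs
    obtain ⟨j, fj, Zj, hZj, rfl⟩ := iht
    refine ⟨IsCofiltered.min i j, IsCofiltered.minToLeft i j ≫ fi,
      ⇑(D.map (IsCofiltered.minToLeft i j)) ⁻¹' Zi ∪ ⇑(D.map (IsCofiltered.minToRight i j)) ⁻¹' Zj,
      ((D.map (IsCofiltered.minToLeft i j)).isConstructible_preimage hZi).union
        ((D.map (IsCofiltered.minToRight i j)).isConstructible_preimage hZj), ?_⟩
    rw [Set.preimage_union, ← Set.preimage_comp, ← Set.preimage_comp, hcomp, hcomp]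
  | compl s hs ih =>
    obtain ⟨i, fi, Zi, hZi, rfl⟩ := ih
    exact ⟨i, fi, Ziᶜ, hZi.compl, rfl⟩

end Groth.Agent.S4759
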