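import Groth.Statements.S1630
import Mathlib

set_option autoImplicit false
universe u
open CategoryTheory CategoryTheory.Limits AlgebraicGeometry
open Variety

namespace Groth.Agent.S1630

section Dev
open CategoryTheory CategoryTheory.Limits AlgebraicGeometry
theorem irreducibleSpace_of_cover {Z : Type*} [TopologicalSpace Z] {ι : Type*} [Nonempty ι]
    (W : ι → Set Z) (hopen : ∀ i, IsOpen (W i)) (hcov : ∀ z, ∃ i, z ∈ W i)
    (hirr : ∀ i, IsIrreducible (W i)) (hmeet : ∀ i j, (W i ∩ W j).Nonempty) : IrreducibleSpace Z := by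
  have hne : Nonempty Z := by
    obtain ⟨i⟩ := ‹Nonempty ι›
    obtain ⟨z, _⟩ := (hirr i).nonempty
    exact ⟨z⟩
  refine { toPreirreducibleSpace := ⟨?_⟩, toNonempty := hne }
  intro V V' hV hV' ⟨x, _, hxV⟩ ⟨x', _, hxV'⟩
  obtain ⟨i, hi⟩ := hcov x
  obtain ⟨j, hj⟩ := hcov x'
  obtain ⟨z, hzi, hzV, hzj⟩ := (hirr i).isPreirreducible V (W j) hV (hopen j) ⟨x, hi, hxV⟩ (hmeet i j)
  obtain ⟨w, _, hwV, hwV'⟩ := (hirr j).isPreirreducible V V' hV hV' ⟨z, hzj, hzV⟩ ⟨x', hj, hxV'⟩
  exact ⟨w, Set.mem_univ _, hwV, hwV'⟩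

theorem main (k : Type u) [Field k] (X : Scheme.{u}) [X.Over (Spec (CommRingCat.of k))]
    (ι : Type u) (U : ι → X.Opens) (hne : Nonempty ι) (hcov : (⨆ i, U i) = ⊤)
    (hmeet : ∀ i j, ((U i : Set X) ∩ (U j : Set X)).Nonempty)
    (hU : ∀ i, GeometricallyIrreducible ((U i).ι ≫ (X ↘ (Spec (CommRingCat.of k))))) :
    GeometricallyIrreducible (X ↘ (Spec (CommRingCat.of k))) := by
  refine ⟨?_⟩
  intro K _ y Z fst snd hpb
  -- fst is surjective
  have hysurj : Surjective y := by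
    refine ⟨fun b => ?_⟩
    have : Nonempty (Spec (CommRingCat.of K)) := inferInstance
    obtain ⟨a⟩ := this
    exact ⟨a, Subsingleton.elim _ _⟩
  have hfstsurj : Surjective fst := MorphismProperty.of_isPullback hpb.flip hysurj
  apply irreducibleSpace_of_cover (fun i => ((fst ⁻¹ᵁ (U i) : Z.Opens) : Set Z))
  · intro i; exact (fst ⁻¹ᵁ (U i)).2
  · intro z
    have : fst z ∈ (⨆ i, U i : X.Opens) := by rw [hcov]; trivial
    obtain ⟨i, hi⟩ := TopologicalSpace.Opens.mem_iSup.mp this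
    exact ⟨i, hi⟩
  · intro i
    have h1 : IsPullback (fst ∣_ (U i)) (fst ⁻¹ᵁ (U i)).ι (U i).ι fst := isPullback_morphismRestrict fst (U i)
    have h2 : IsPullback (fst ∣_ (U i)) ((fst ⁻¹ᵁ (U i)).ι ≫ snd)
        ((U i).ι ≫ (X ↘ (Spec (CommRingCat.of k)))) y := h1.paste_vert hpb
    have h3 : IrreducibleSpace ↥(fst ⁻¹ᵁ (U i) : Z.Opens) :=
      (hU i).geometrically_irreducibleSpace y _ _ h2
    exact isIrreducible_iff_irreducibleSpace.mpr h3
  · intro i j
    obtain ⟨x, hxi, hxj⟩ := hmeet i j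
    obtain ⟨z, rfl⟩ := hfstsurj.surj x
    exact ⟨z, hxi, hxj⟩
end Dev

/-- Let X be a scheme over k. If X has a cover by a nonempty family of open subschemes, each
geometrically irreducible over k and any two of which meet, then X is geometrically irreducible over
k. -/
theorem result (k : Type u) [Field k] (X : Scheme.{u}) [X.Over (Spec (CommRingCat.of k))]
    (ι : Type u) (U : ι → X.Opens) (hne : Nonempty ι) (hcov : (⨆ i, U i) = ⊤)
    (hmeet : ∀ i j, ((U i : Set X) ∩ (U j : Set X)).Nonempty)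
    (hU : ∀ i, GeometricallyIrreducible ((U i).ι ≫ (X ↘ (Spec (CommRingCat.of k))))) : GeometricallyIrreducible (X ↘ (Spec (CommRingCat.of k))) := by
  exact main k X ι U hne hcov hmeet hU

end Groth.Agent.S1630
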