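import Groth.Statements.S1324
import Mathlib
import Groth.Agent.Lib.Helper12GeomConn

set_option autoImplicit false
universe u
open FlatMor

namespace Groth.Agent.S1324


open AlgebraicGeometry CategoryTheory Limits Groth.Agent.Lib.Helper12

/-- the easy inclusion: purely topological -/
lemma mem_of_mem {X Y X' Y' : Scheme.{u}} (f : X ⟶ Y) (s : Y ⟶ X)
    (f' : X' ⟶ Y') (g' : X' ⟶ X) (g : Y' ⟶ Y) (hw : g' ≫ f = f' ≫ g)
    (s' : Y' ⟶ X') (hs'g : s' ≫ g' = g ≫ s) (x' : X')
    (h : x' ∈ MoreMor.sectionComponents f' s') : g' x' ∈ MoreMor.sectionComponents f s := by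
  have hy : f (g' x') = g (f' x') := by
    rw [← Scheme.Hom.comp_apply, hw, Scheme.Hom.comp_apply]
  show g' x' ∈ connectedComponentIn (f ⁻¹' {f (g' x')}) (s (f (g' x')))
  rw [hy]
  have hs : g' (s' (f' x')) = s (g (f' x')) := by
    rw [← Scheme.Hom.comp_apply, hs'g, Scheme.Hom.comp_apply]
  set C' := connectedComponentIn (f' ⁻¹' {f' x'}) (s' (f' x')) with hC'
  have hx'C : x' ∈ C' := h
  have hne : s' (f' x') ∈ f' ⁻¹' {f' x'} := by
    by_contra hcon
    rw [hC', connectedComponentIn_eq_empty hcon] at hx'C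
    exact hx'C
  have hpre : _root_.IsPreconnected (g' '' C') :=
    (isPreconnected_connectedComponentIn).image _ g'.continuous.continuousOn
  have hsub : g' '' C' ⊆ f ⁻¹' {g (f' x')} := by
    rintro _ ⟨w, hw', rfl⟩
    have hw2 : w ∈ f' ⁻¹' {f' x'} := connectedComponentIn_subset _ _ hw'
    show f (g' w) = g (f' x')
    rw [← Scheme.Hom.comp_apply, hw, Scheme.Hom.comp_apply, hw2]
  have hmem : s (g (f' x')) ∈ g' '' C' := ⟨s' (f' x'), mem_connectedComponentIn hne, hs⟩
  exact hpre.subset_connectedComponentIn hmem hsub ⟨x', hx'C, rfl⟩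

/-- the hard inclusion -/
lemma mem_of_mem' {X Y X' Y' : Scheme.{u}} (f : X ⟶ Y) (s : Y ⟶ X) (hs : s ≫ f = 𝟙 Y)
    (f' : X' ⟶ Y') (g' : X' ⟶ X) (g : Y' ⟶ Y) (hc : IsPullback g' f' f g)
    (s' : Y' ⟶ X') (hs' : s' ≫ f' = 𝟙 Y') (hs'g : s' ≫ g' = g ≫ s) (x' : X')
    (h : g' x' ∈ MoreMor.sectionComponents f s) : x' ∈ MoreMor.sectionComponents f' s' := by
  have hy : f (g' x') = g (f' x') := by
    rw [← Scheme.Hom.comp_apply, hc.w, Scheme.Hom.comp_apply]
  have h1 : g' x' ∈ connectedComponentIn (f ⁻¹' {f (g' x')}) (s (f (g' x'))) := h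
  rw [hy] at h1
  set y' := f' x' with hy'
  set y := g y' with hyy
  set C := connectedComponentIn (f ⁻¹' {y}) (s y) with hC
  have hsy : s y ∈ f ⁻¹' {y} := by
    show f (s y) = y
    rw [← Scheme.Hom.comp_apply, hs]; rfl
  have hs'y : f' (s' y') = y' := by
    rw [← Scheme.Hom.comp_apply, hs']; rfl
  have hgs : g' (s' y') = s y := by
    rw [← Scheme.Hom.comp_apply, hs'g, Scheme.Hom.comp_apply]
  -- the fibre
  let ι := f.fiberι y
  let φ := f.fiberToSpecResidueField y
  let σ : Spec (Y.residueField y) ⟶ f.fiber y :=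
    pullback.lift (Y.fromSpecResidueField y ≫ s) (𝟙 _) (by rw [Category.assoc, hs]; simp)
  have hσ : σ ≫ φ = 𝟙 _ := pullback.lift_snd _ _ _
  have hσι : σ ≫ ι = Y.fromSpecResidueField y ≫ s := pullback.lift_fst _ _ _
  let D : Set (f.fiber y) := ι ⁻¹' C
  have hDeq : D = (f.fiberHomeo y) ⁻¹' (connectedComponent (⟨s y, hsy⟩ : f ⁻¹' {y})) := by
    ext v
    show ι v ∈ C ↔ _
    rw [hC, connectedComponentIn_eq_image hsy]
    constructor
    · rintro ⟨c, hc1, hc2⟩
      have : f.fiberHomeo y v = c := Subtype.ext (by rw [Scheme.Hom.fiberHomeo_apply]; exact hc2.symm)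
      simpa [this] using hc1
    · intro hv
      exact ⟨f.fiberHomeo y v, hv, rfl⟩
  have hDc : IsClosed D := by
    rw [hDeq]
    exact isClosed_connectedComponent.preimage (f.fiberHomeo y).continuous
  have hD : _root_.IsConnected D := by
    rw [hDeq, Homeomorph.isConnected_preimage]
    exact isConnected_connectedComponent
  have hσD : ∀ pt, σ pt ∈ D := by
    intro pt
    show (σ ≫ ι) pt ∈ C
    rw [hσι, Scheme.Hom.comp_apply]
    have : Y.fromSpecResidueField y pt = y := by
      have := Scheme.range_fromSpecResidueField y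
      have h2 : Y.fromSpecResidueField y pt ∈ Set.range (Y.fromSpecResidueField y) := ⟨pt, rfl⟩
      rw [this] at h2
      exact h2
    rw [this]
    exact mem_connectedComponentIn hsy
  have sqF := isPullback_fiberToSpecResidueField_of_isPullback hc y'
  set π := pullback.map f' (Y'.fromSpecResidueField y') f (Y.fromSpecResidueField (g y')) g'
    (Spec.map (g.residueFieldMap y')) g hc.w.symm (by simp) with hπ
  have hπι : π ≫ ι = f'.fiberι y' ≫ g' := pullback.lift_fst _ _ _
  have hconn := GeomConn.isConnected_preimage_of_isPullback sqF σ hσ D hDc hD hσD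
  -- the image in X'
  have hE : ∀ w' : X', f' w' = y' → g' w' ∈ C → w' ∈ (f'.fiberι y') '' (π ⁻¹' D) := by
    intro w' hw1 hw2
    have : w' ∈ Set.range (f'.fiberι y') := by
      rw [Scheme.Hom.range_fiberι]; exact hw1
    obtain ⟨v, rfl⟩ := this
    refine ⟨v, ?_, rfl⟩
    show (π ≫ ι) v ∈ C
    rw [hπι]
    exact hw2
  have hEsub : (f'.fiberι y') '' (π ⁻¹' D) ⊆ f' ⁻¹' {y'} := by
    rintro _ ⟨v, _, rfl⟩
    have : f'.fiberι y' v ∈ Set.range (f'.fiberι y') := ⟨v, rfl⟩
    rwa [Scheme.Hom.range_fiberι] at this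
  have hEpre : _root_.IsPreconnected ((f'.fiberι y') '' (π ⁻¹' D)) :=
    (hconn.image _ (f'.fiberι y').continuous.continuousOn).isPreconnected
  have hsE : s' y' ∈ (f'.fiberι y') '' (π ⁻¹' D) :=
    hE _ hs'y (by rw [hgs]; exact mem_connectedComponentIn hsy)
  exact hEpre.subset_connectedComponentIn hsE hEsub (hE x' rfl h1)



open AlgebraicGeometry CategoryTheory Limits in
/-- Let f have a section s and form, for every point of the target, the connected component of the fibre
containing the value of the section; call the union of these the section components of (f, s). For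
any base change of f with the induced section, the section components upstairs are exactly the
preimage of the section components downstairs. -/
theorem result {X Y X' Y' : Scheme.{u}} (f : X ⟶ Y) (s : Y ⟶ X) (hs : s ≫ f = 𝟙 Y)
    (f' : X' ⟶ Y') (g' : X' ⟶ X) (g : Y' ⟶ Y) (hc : IsPullback g' f' f g)
    (s' : Y' ⟶ X') (hs' : s' ≫ f' = 𝟙 Y') (hs'g : s' ≫ g' = g ≫ s) :
    MoreMor.sectionComponents f' s' = g' ⁻¹' MoreMor.sectionComponents f s := by
  ext x'
  exact ⟨mem_of_mem f s f' g' g hc.w s' hs'g x', mem_of_mem' f s hs f' g' g hc s' hs' hs'g x'⟩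

end Groth.Agent.S1324
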