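import Groth.Statements.S2152
import Mathlib

set_option autoImplicit false
universe u
open CategoryTheory AlgebraicGeometry
open Lim

namespace Groth.Agent.S2152

open CategoryTheory CategoryTheory.Limits AlgebraicGeometry TopologicalSpace


/-- abstract "prime of a filtered colimit" lemma. -/
theorem exists_prime_of_directed {A : Type*} [CommRing A] {ι : Type*} {B : ι → Type*}
    [∀ k, CommRing (B k)] (φ : ∀ k, B k →+* A) (T : ∀ k l, Set (B k →+* B l))
    (hcompat : ∀ k l, ∀ t ∈ T k l, (φ l).comp t = φ k)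
    (hdir : ∀ k l, ∃ m, (T k m).Nonempty ∧ (T l m).Nonempty)
    (hsurj : ∀ r : A, ∃ k a, φ k a = r)
    (hinj : ∀ k a, φ k a = 0 → ∃ l, ∃ t ∈ T k l, t a = 0)
    (hcomp : ∀ k l m, ∀ t ∈ T k l, ∀ t' ∈ T l m, t'.comp t ∈ T k m)
    (p : ∀ k, Ideal (B k)) (hp : ∀ k, (p k).IsPrime)
    (hpc : ∀ k l, ∀ t ∈ T k l, (p l).comap t = p k) :
    ∃ P : Ideal A, P.IsPrime ∧ ∀ k, P.comap (φ k) = p k := by
  classical
  -- transition membership
  have htr : ∀ k l, ∀ t ∈ T k l, ∀ a, t a ∈ p l ↔ a ∈ p k := by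
    intro k l t ht a
    rw [← hpc k l t ht, Ideal.mem_comap]
  have hφ : ∀ k l, ∀ t ∈ T k l, ∀ a, φ l (t a) = φ k a := by
    intro k l t ht a
    rw [← hcompat k l t ht, RingHom.comp_apply]
  -- key well-definedness
  have key : ∀ k l a b, φ k a = φ l b → b ∈ p l → a ∈ p k := by
    intro k l a b hab hb
    obtain ⟨m, ⟨t, ht⟩, ⟨t', ht'⟩⟩ := hdir k l
    have h0 : φ m (t a - t' b) = 0 := by
      rw [map_sub, hφ k m t ht, hφ l m t' ht', hab, sub_self]
    obtain ⟨n, u, hu, hu0⟩ := hinj m _ h0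
    rw [map_sub, sub_eq_zero] at hu0
    have h1 : u (t' b) ∈ p n := by
      have : (u.comp t') b ∈ p n := (htr l n _ (hcomp l m n t' ht' u hu) b).mpr hb
      simpa using this
    rw [← hu0] at h1
    have : (u.comp t) a ∈ p n := by simpa using h1
    exact (htr k n _ (hcomp k m n t ht u hu) a).mp this
  let P : Ideal A :=
    { carrier := {r | ∃ k a, φ k a = r ∧ a ∈ p k}
      zero_mem' := by
        obtain ⟨k, a, -⟩ := hsurj 0
        exact ⟨k, 0, map_zero _, (p k).zero_mem⟩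
      add_mem' := by
        rintro _ _ ⟨k, a, rfl, ha⟩ ⟨l, b, rfl, hb⟩
        obtain ⟨m, ⟨t, ht⟩, ⟨t', ht'⟩⟩ := hdir k l
        refine ⟨m, t a + t' b, ?_, ?_⟩
        · rw [map_add, hφ k m t ht, hφ l m t' ht']
        · exact (p m).add_mem ((htr k m t ht a).mpr ha) ((htr l m t' ht' b).mpr hb)
      smul_mem' := by
        rintro c _ ⟨k, a, rfl, ha⟩
        obtain ⟨l, b, rfl⟩ := hsurj c
        obtain ⟨m, ⟨t, ht⟩, ⟨t', ht'⟩⟩ := hdir k l
        refine ⟨m, t' b * t a, ?_, ?_⟩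
        · rw [map_mul, hφ k m t ht, hφ l m t' ht', smul_eq_mul]
        · exact (p m).mul_mem_left _ ((htr k m t ht a).mpr ha) }
  have hM : ∀ k a, φ k a ∈ P ↔ a ∈ p k := by
    intro k a
    constructor
    · rintro ⟨l, b, hba, hb⟩
      exact key k l a b hba.symm hb
    · intro ha
      exact ⟨k, a, rfl, ha⟩
  refine ⟨P, ⟨?_, ?_⟩, ?_⟩
  · intro htop
    obtain ⟨k, a, -⟩ := hsurj 0
    have h1 : (1 : A) ∈ P := htop ▸ Submodule.mem_top
    rw [← map_one (φ k), hM] at h1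
    exact (hp k).ne_top ((Ideal.eq_top_iff_one _).mpr h1)
  · intro r r' hrr'
    obtain ⟨k, a, rfl⟩ := hsurj r
    obtain ⟨l, b, rfl⟩ := hsurj r'
    obtain ⟨m, ⟨t, ht⟩, ⟨t', ht'⟩⟩ := hdir k l
    have h1 : φ m (t a * t' b) ∈ P := by
      rw [map_mul, hφ k m t ht, hφ l m t' ht']; exact hrr'
    rw [hM] at h1
    rcases (hp m).mem_or_mem h1 with h | h
    · left; rw [hM]; exact (htr k m t ht a).mp h
    · right; rw [hM]; exact (htr l m t' ht' b).mp h
  · intro k
    ext a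
    rw [Ideal.mem_comap, hM]

theorem appLE_top_top {X Y : Scheme.{u}} (f : X ⟶ Y) (h : (⊤ : X.Opens) ≤ f ⁻¹ᵁ ⊤) :
    f.appLE ⊤ ⊤ h = f.appTop := by
  rw [Scheme.Hom.appTop, Scheme.Hom.app_eq_appLE]
  rfl

theorem primeIdealOf_fromSpec {X : Scheme.{u}} {U : X.Opens} (hU : IsAffineOpen U)
    (y : Spec Γ(X, U)) (hy : hU.fromSpec y ∈ U) :
    hU.primeIdealOf ⟨hU.fromSpec y, hy⟩ = y := by
  apply hU.fromSpec.isOpenEmbedding.injective
  rw [hU.fromSpec_primeIdealOf]

theorem exists_point_of_isAffine {K : Type u} [Category.{u} K] [IsCofiltered K]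
    (D : K ⥤ Scheme.{u}) (c : Cone D) (hc : IsLimit c) [∀ k, IsAffine (D.obj k)]
    (x : ∀ k, D.obj k) (hx : ∀ {k l : K} (f : k ⟶ l), D.map f (x k) = x l) :
    ∃ s : c.pt, ∀ k, c.π.app k s = x k := by
  have hXaff : IsAffine c.pt := Scheme.isAffine_of_isLimit c hc
  have hX : IsAffineOpen (⊤ : c.pt.Opens) := isAffineOpen_top c.pt
  have hk : ∀ k, IsAffineOpen (⊤ : (D.obj k).Opens) := fun k => isAffineOpen_top _
  -- the primes
  let p : ∀ k, Ideal Γ(D.obj k, ⊤) := fun k => ((hk k).primeIdealOf ⟨x k, trivial⟩).asIdeal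
  have hpc : ∀ {k l : K} (f : l ⟶ k), (p l).comap (D.map f).appTop.hom = p k := by
    intro k l f
    have h1 := IsAffineOpen.comap_primeIdealOf_appLE (f := D.map f) (x := x l) ⊤ (hk k) ⊤ (hk l)
      (show (⊤ : (D.obj l).Opens) ≤ D.map f ⁻¹ᵁ ⊤ from fun _ _ => trivial) trivial
    have h2 : (hk k).primeIdealOf ⟨D.map f (x l), trivial⟩ =
        (hk k).primeIdealOf ⟨x k, trivial⟩ := by
      congr 1; exact Subtype.ext (hx f)
    rw [h2, appLE_top_top] at h1
    have h3 := congrArg PrimeSpectrum.asIdeal h1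
    exact h3
  obtain ⟨P, hP, hPc⟩ := exists_prime_of_directed (A := Γ(c.pt, ⊤)) (ι := K)
    (B := fun k => Γ(D.obj k, ⊤)) (fun k => (c.π.app k).appTop.hom)
    (fun k l => {t | ∃ f : l ⟶ k, t = (D.map f).appTop.hom})
    (by
      rintro k l _ ⟨f, rfl⟩
      rw [← CommRingCat.hom_comp, ← Scheme.Hom.comp_appTop, c.w])
    (by
      intro k l
      obtain ⟨m, f, g, -⟩ := IsCofilteredOrEmpty.cone_objs k l
      exact ⟨m, ⟨_, f, rfl⟩, ⟨_, g, rfl⟩⟩)
    (by
      intro r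
      obtain ⟨k, a, ha⟩ := exists_appTop_π_eq_of_isAffine_of_isLimit D c hc r
      exact ⟨k, a, ha⟩)
    (by
      intro k a ha
      obtain ⟨l, f, hf⟩ := exists_appTop_map_eq_zero_of_isAffine_of_isLimit D c hc k a ha
      exact ⟨l, _, ⟨f, rfl⟩, hf⟩)
    (by
      rintro k l m _ ⟨f, rfl⟩ _ ⟨g, rfl⟩
      refine ⟨g ≫ f, ?_⟩
      rw [← CommRingCat.hom_comp, ← Scheme.Hom.comp_appTop, D.map_comp])
    p (fun k => ((hk k).primeIdealOf ⟨x k, trivial⟩).isPrime)
    (by
      rintro k l _ ⟨f, rfl⟩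
      exact hpc f)
  refine ⟨hX.fromSpec ⟨P, hP⟩, fun k => ?_⟩
  have h1 := IsAffineOpen.comap_primeIdealOf_appLE (f := c.π.app k) (x := hX.fromSpec ⟨P, hP⟩) ⊤
    (hk k) ⊤ hX (show (⊤ : c.pt.Opens) ≤ c.π.app k ⁻¹ᵁ ⊤ from fun _ _ => trivial) trivial
  rw [primeIdealOf_fromSpec hX ⟨P, hP⟩ trivial, appLE_top_top] at h1
  have h2 : (hk k).primeIdealOf ⟨c.π.app k (hX.fromSpec ⟨P, hP⟩), trivial⟩ =
      (hk k).primeIdealOf ⟨x k, trivial⟩ := by
    rw [← h1]
    apply PrimeSpectrum.ext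
    exact hPc k
  have h3 := congrArg (hk k).fromSpec h2
  rw [(hk k).fromSpec_primeIdealOf, (hk k).fromSpec_primeIdealOf] at h3
  exact h3

theorem exists_point {I : Type u} [Category.{u} I] [IsCofiltered I] (D : I ⥤ Scheme.{u})
    (c : Cone D) (hc : IsLimit c) [∀ {i j} (f : i ⟶ j), IsAffineHom (D.map f)]
    (x : ∀ i, D.obj i) (hx : ∀ {i j : I} (f : i ⟶ j), D.map f (x i) = x j) :
    ∃ s : c.pt, ∀ i, c.π.app i s = x i := by
  obtain ⟨i₀⟩ := IsCofiltered.nonempty (C := I)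
  obtain ⟨_, ⟨V, hV : IsAffineOpen V, rfl⟩, hxV, -⟩ :=
    (D.obj i₀).isBasis_affineOpens.exists_subset_of_mem_open (Set.mem_univ (x i₀)) isOpen_univ
  have (j : Over i₀) : IsAffine ((opensDiagram D i₀ V).obj j) := hV.preimage (D.map _)
  let x' : ∀ j : Over i₀, (opensDiagram D i₀ V).obj j := fun j =>
    ⟨x j.left, by
      show D.map j.hom (x j.left) ∈ V
      rw [hx]; exact hxV⟩
  have hx' : ∀ {j k : Over i₀} (f : j ⟶ k), (opensDiagram D i₀ V).map f (x' j) = x' k := by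
    intro j k f
    apply Subtype.ext
    simp only [opensDiagram_map, x']
    exact (Scheme.Hom.coe_resLE_apply _ _ _).trans (hx f.left)
  obtain ⟨s', hs'⟩ := exists_point_of_isAffine (opensDiagram D i₀ V) (opensCone D c i₀ V)
    (isLimitOpensCone D c hc i₀ V) x' hx'
  refine ⟨s'.1, fun i => ?_⟩
  obtain ⟨l, f, g, -⟩ := IsCofilteredOrEmpty.cone_objs i i₀
  have h1 : c.π.app l s'.1 = x l := by
    have := congrArg Subtype.val (hs' (Over.mk g))
    simp only [opensCone_π_app, x'] at this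
    exact (Scheme.Hom.coe_resLE_apply _ _ _).symm.trans this
  rw [← c.w f, Scheme.Hom.comp_apply, h1, hx]

theorem point_ext {I : Type u} [Category.{u} I] [IsCofiltered I] (D : I ⥤ Scheme.{u})
    (c : Cone D) (hc : IsLimit c) [∀ {i j} (f : i ⟶ j), IsAffineHom (D.map f)]
    (x y : c.pt) (h : ∀ i, c.π.app i x = c.π.app i y) : x = y := by
  have hB := isBasis_preimage_isAffineOpen D c hc
  rw [Opens.isBasis_iff_nbhd] at hB
  have key : ∀ (x y : c.pt), (∀ i, c.π.app i x = c.π.app i y) → ∀ s : Set c.pt, IsOpen s →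
      x ∈ s → y ∈ s := by
    intro x y h s hs hxs
    obtain ⟨_, ⟨i, V, -, rfl⟩, hxV, hVs⟩ := hB (U := ⟨s, hs⟩) (x := x) hxs
    apply hVs
    show c.π.app i y ∈ V
    rw [← h i]
    exact hxV
  apply Inseparable.eq
  rw [inseparable_iff_forall_isOpen]
  intro s hs
  exact ⟨key x y h s hs, key y x (fun i => (h i).symm) s hs⟩

theorem str_eq {I : Type u} [Category.{u} I] [IsCofiltered I] (D : I ⥤ Scheme.{u})
    (c : Cone D) (hc : IsLimit c) [∀ {i j} (f : i ⟶ j), IsAffineHom (D.map f)] :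
    (Scheme.forgetToTop.mapCone c).pt.str =
      ⨅ j, ((D ⋙ Scheme.forgetToTop).obj j).str.induced ((Scheme.forgetToTop.mapCone c).π.app j) := by
  apply le_antisymm
  · refine le_iInf fun j => ?_
    exact continuous_iff_le_induced.mp ((Scheme.forgetToTop.mapCone c).π.app j).hom.continuous
  · intro U hU
    have hB := isBasis_preimage_isAffineOpen D c hc
    rw [Opens.isBasis_iff_nbhd] at hB
    rw [@isOpen_iff_forall_mem_open]
    intro x hx
    obtain ⟨_, ⟨i, V, -, rfl⟩, hxV, hVs⟩ := hB (U := ⟨U, hU⟩) (x := x) hx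
    refine ⟨((c.π.app i ⁻¹ᵁ V : c.pt.Opens) : Set c.pt), hVs, ?_, hxV⟩
    refine TopologicalSpace.le_def.mp (iInf_le _ i) _ ?_
    exact isOpen_induced_iff.mpr ⟨(V : Set (D.obj i)), V.isOpen, rfl⟩

/-- Let `c` be a limit cone of a diagram of schemes indexed by a small cofiltered category with affine
transition morphisms. Then the image of `c` under the forgetful functor to topological spaces is a
limit cone: the underlying space of the limit scheme is the limit of the underlying spaces. -/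
theorem result {I : Type u} [SmallCategory I] [IsCofiltered I] (D : I ⥤ Scheme.{u})
    [∀ (i j : I) (f : i ⟶ j), IsAffineHom (D.map f)] (c : Limits.Cone D) (hc : Limits.IsLimit c) :
    Nonempty (Limits.IsLimit (Scheme.forgetToTop.mapCone c)) := by
  have inst : ∀ {i j : I} (f : i ⟶ j), IsAffineHom (D.map f) := fun f => inferInstance
  have hset : Nonempty (IsLimit ((forget TopCat).mapCone (Scheme.forgetToTop.mapCone c))) := by
    rw [Types.isLimit_iff]
    intro s hs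
    obtain ⟨x, hx⟩ := exists_point D c hc (fun i => s i) (fun {i j} f => hs f)
    refine ⟨x, hx, ?_⟩
    intro y hy
    exact point_ext D c hc y x (fun i => (hy i).trans (hx i).symm)
  exact (TopCat.nonempty_isLimit_iff_eq_induced _ hset.some).mpr (str_eq D c hc)

end Groth.Agent.S2152
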