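import Groth.Statements.S4787
import Groth.Agent.S2152
import Groth.Agent.Lib.Helper10SpectralLim
import Groth.Agent.Lib.Helper5ProCons
import Mathlib

set_option autoImplicit false
universe u
open CategoryTheory AlgebraicGeometry
open Lim8

namespace Groth.Agent.S4787

open Topology Groth.Agent.Lib.Helper10.Spectral Groth.Agent.Lib.Helper10.SpectralLim in
/-- pro-constructible minus ind-constructible is closed in the constructible topology of an
affine scheme. -/
theorem isClosed_constr_diff {W : Scheme.{u}} [IsAffine W] (A B : Set W)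
    (hA : ProCons.IsProConstructible A) (hB : ProCons.IsIndConstructible B) :
    IsClosed[constructibleTopology W] (A \ B) := by
  obtain ⟨𝒟, h𝒟, rfl⟩ := Groth.Agent.Lib.Helper5.exists_eq_sInter_of_isProConstructible hA
  obtain ⟨𝒞, h𝒞, rfl⟩ := Groth.Agent.Lib.Helper5.exists_eq_sUnion_of_isIndConstructible hB
  rw [Set.sdiff_eq]
  refine isClosed_constr_inter ?_ ?_
  · exact @isClosed_sInter _ (constructibleTopology W) _ fun D hD =>
      isClosed_constr_of_isConstructible (h𝒟 D hD)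
  · rw [@isClosed_compl_iff _ (constructibleTopology W)]
    exact @isOpen_sUnion _ (constructibleTopology W) _ fun C hC =>
      isOpen_constr_of_isConstructible (h𝒞 C hC)

open Topology in

/-- Let S = lim S_i be a cofiltered limit of schemes with affine transition maps, some stage S_{i₀}
being quasi-compact. For every index let E_i be a pro-constructible and F_i an ind-constructible
subset of S_i such that, for every transition map S_i ⟶ S_j, E_i lies in the preimage of E_j and F_i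
contains the preimage of F_j. Put E = ⋂ (preimage of E_i in S) and F = ⋃ (preimage of F_i in S).
Then E ⊆ F if and only if there is an index i over i₀ such that E_j ⊆ F_j for every j over i. -/
theorem result {I : Type u} [SmallCategory I] [IsCofiltered I]
    (D : I ⥤ Scheme.{u}) (c : Limits.Cone D) (hc : Limits.IsLimit c)
    [∀ (i j : I) (f : i ⟶ j), IsAffineHom (D.map f)] (i₀ : I)
    [CompactSpace (D.obj i₀)] (E F : ∀ i : I, Set (D.obj i))
    (hE : ∀ i, ProCons.IsProConstructible (E i)) (hF : ∀ i, ProCons.IsIndConstructible (F i))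
    (hEm : ∀ (i j : I) (φ : i ⟶ j), E i ⊆ ⇑(D.map φ) ⁻¹' E j)
    (hFm : ∀ (i j : I) (φ : i ⟶ j), ⇑(D.map φ) ⁻¹' F j ⊆ F i) :
    (⋂ i, ⇑(c.π.app i) ⁻¹' E i : Set c.pt) ⊆ (⋃ i, ⇑(c.π.app i) ⁻¹' F i : Set c.pt) ↔
      ∃ (i : I) (_ : i ⟶ i₀), ∀ (j : I) (_ : j ⟶ i), E j ⊆ F j := by
  classical
  have inst : ∀ {i j : I} (f : i ⟶ j), IsAffineHom (D.map f) := fun f => inferInstance
  constructor
  swap
  · rintro ⟨i, a, h⟩ x hx
    rw [Set.mem_iInter] at hx
    exact Set.mem_iUnion.mpr ⟨i, h i (𝟙 i) (hx i)⟩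
  intro hsub
  by_contra hno
  push Not at hno
  -- G i := E i \ F i is a compatible system
  have hG : ∀ {i j : I} (φ : i ⟶ j) (w : D.obj i), w ∈ E i \ F i →
      D.map φ w ∈ E j \ F j := by
    intro i j φ w hw
    exact ⟨hEm i j φ hw.1, fun h => hw.2 (hFm i j φ h)⟩
  -- Step A: find an affine open `U` with all `G_j ∩ preimage U` nonempty
  have stepA : ∃ U : (D.obj i₀).Opens, IsAffineOpen U ∧
      ∀ j : Over i₀, ∃ w : D.obj j.left, w ∈ E j.left \ F j.left ∧ D.map j.hom w ∈ U := by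
    by_contra hcon
    push Not at hcon
    choose jU hjU using hcon
    obtain ⟨s, hs, hcover⟩ := (isCompact_iff_finite_and_eq_biUnion_affineOpens
      (X := D.obj i₀) (U := ⊤)).mp isCompact_univ
    let jU' : (D.obj i₀).affineOpens → Over i₀ := fun U => jU U.1 U.2
    obtain ⟨j, hj⟩ := IsCofiltered.inf_objs_exists (hs.toFinset.image jU')
    obtain ⟨k, b, hk⟩ := hno j.left j.hom
    obtain ⟨w, hwE, hwF⟩ := Set.not_subset.mp hk
    have hmem : D.map (b ≫ j.hom) w ∈ (⊤ : (D.obj i₀).Opens) := trivial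
    rw [hcover] at hmem
    simp only [TopologicalSpace.Opens.mem_iSup] at hmem
    obtain ⟨U, hUs, hwU⟩ := hmem
    obtain ⟨f⟩ := hj (Finset.mem_image.mpr ⟨U, hs.mem_toFinset.mpr hUs, rfl⟩)
    -- push `w` to `jU' U`
    have h1 := hG (b ≫ f.left) w ⟨hwE, hwF⟩
    refine hjU U.1 U.2 (D.map (b ≫ f.left) w) h1 ?_
    have : D.map (b ≫ f.left) ≫ D.map (jU' U).hom = D.map (b ≫ j.hom) := by
      rw [← D.map_comp, Category.assoc, Over.w f]
    rw [← Scheme.Hom.comp_apply, this]
    exact hwU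
  obtain ⟨U, hU, hne⟩ := stepA
  -- Step B: the restricted diagram
  let DU := opensDiagram D i₀ U
  let cU := opensCone D c i₀ U
  have hcU : Limits.IsLimit cU := isLimitOpensCone D c hc i₀ U
  have haff : ∀ j : Over i₀, IsAffine (DU.obj j) := fun j => hU.preimage (D.map j.hom)
  obtain ⟨hT⟩ := Groth.Agent.S2152.result DU cU hcU
  haveI hSp : ∀ j, SpectralSpace ((DU ⋙ Scheme.forgetToTop).obj j) := fun j => by
    show SpectralSpace (DU.obj j)
    exact { }
  have hSm : ∀ {i j : Over i₀} (a : i ⟶ j),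
      IsSpectralMap ((DU ⋙ Scheme.forgetToTop).map a :
        (DU ⋙ Scheme.forgetToTop).obj i → (DU ⋙ Scheme.forgetToTop).obj j) := fun a =>
    (DU.map a).isSpectralMap
  let Z : ∀ j : Over i₀, Set ((DU ⋙ Scheme.forgetToTop).obj j) := fun j =>
    ((D.map j.hom ⁻¹ᵁ U).ι ⁻¹' E j.left) \ ((D.map j.hom ⁻¹ᵁ U).ι ⁻¹' F j.left)
  have hZm : ∀ {i j : Over i₀} (a : i ⟶ j),
      Set.MapsTo ((DU ⋙ Scheme.forgetToTop).map a) (Z i) (Z j) := by
    intro i j a w hw
    have key : ((D.map j.hom ⁻¹ᵁ U).ι ((DU.map a) w)) =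
        D.map a.left ((D.map i.hom ⁻¹ᵁ U).ι w) := by
      show ((DU.map a ≫ (D.map j.hom ⁻¹ᵁ U).ι) w) = _
      have : DU.map a ≫ (D.map j.hom ⁻¹ᵁ U).ι = (D.map i.hom ⁻¹ᵁ U).ι ≫ D.map a.left :=
        Scheme.Hom.resLE_comp_ι _ _
      rw [this]
      rfl
    have := hG a.left ((D.map i.hom ⁻¹ᵁ U).ι w) hw
    rw [← key] at this
    exact this
  have hZ : ∀ j, IsClosed[constructibleTopology ((DU ⋙ Scheme.forgetToTop).obj j)] (Z j) := by
    intro j
    haveI := haff j
    exact isClosed_constr_diff (W := DU.obj j) _ _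
      (Groth.Agent.Lib.Helper5.isProConstructible_preimage _ _ (hE j.left))
      (Groth.Agent.Lib.Helper5.isIndConstructible_preimage _ _ (hF j.left))
  have hZne : ∀ j, (Z j).Nonempty := by
    intro j
    obtain ⟨w, hw, hwU⟩ := hne j
    exact ⟨⟨w, hwU⟩, hw⟩
  obtain ⟨x, hx⟩ := Groth.Agent.Lib.Helper10.SpectralLim.exists_forall_mem
    (Scheme.forgetToTop.mapCone cU) hT hSm Z hZm hZ hZne
  -- the point of the limit
  have hx' : ∀ j : Over i₀, c.π.app j.left ((c.π.app i₀ ⁻¹ᵁ U).ι x) ∈ E j.left \ F j.left := by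
    intro j
    have h1 := hx j
    have key : (D.map j.hom ⁻¹ᵁ U).ι (cU.π.app j x) =
        c.π.app j.left ((c.π.app i₀ ⁻¹ᵁ U).ι x) := by
      show ((cU.π.app j ≫ (D.map j.hom ⁻¹ᵁ U).ι) x) = _
      have : cU.π.app j ≫ (D.map j.hom ⁻¹ᵁ U).ι = (c.π.app i₀ ⁻¹ᵁ U).ι ≫ c.π.app j.left :=
        Scheme.Hom.resLE_comp_ι _ _
      rw [this]
      rfl
    rw [← key]
    exact h1
  set y : c.pt := (c.π.app i₀ ⁻¹ᵁ U).ι x with hy
  have hyE : y ∈ ⋂ i, ⇑(c.π.app i) ⁻¹' E i := by
    rw [Set.mem_iInter]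
    intro i
    let k := IsCofiltered.min i i₀
    have h1 := (hx' (Over.mk (IsCofiltered.minToRight i i₀))).1
    have h2 := hEm _ _ (IsCofiltered.minToLeft i i₀) h1
    rw [Set.mem_preimage, ← Scheme.Hom.comp_apply, c.w] at h2
    exact h2
  obtain ⟨i, hi⟩ := Set.mem_iUnion.mp (hsub hyE)
  have h1 := (hx' (Over.mk (IsCofiltered.minToRight i i₀))).2
  apply h1
  apply hFm _ _ (IsCofiltered.minToLeft i i₀)
  rw [Set.mem_preimage, ← Scheme.Hom.comp_apply, c.w]
  exact hi

end Groth.Agent.S4787
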