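import Groth.Statements.S9186
-- import your own Groth.Agent.* helpers here
import Mathlib
import Groth.Agent.S9200
import Groth.Agent.Lib.Helper22LimBC2

set_option autoImplicit false
universe u
open CategoryTheory AlgebraicGeometry
open Lim

namespace Groth.Agent.S9186

open Limits Groth.Agent.Lib.Helper22.LimBC

/-- The structure maps `X_j ⟶ Y₀`. -/
noncomputable def tY {I : Type u} [SmallCategory I] (D : I ⥤ Scheme.{u}) (i₀ : I)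
    {X₀ Y₀ : Scheme.{u}} (f₀ : X₀ ⟶ Y₀) (g₀ : Y₀ ⟶ D.obj i₀) :
    bcDiagram D i₀ (f₀ ≫ g₀) ⟶ (Functor.const (Over i₀)).obj Y₀ where
  app j := dFst D i₀ (f₀ ≫ g₀) j ≫ f₀
  naturality j k a := by
    show (bcDiagram D i₀ (f₀ ≫ g₀)).map a ≫ dFst D i₀ (f₀ ≫ g₀) k ≫ f₀ =
      (dFst D i₀ (f₀ ≫ g₀) j ≫ f₀) ≫ 𝟙 _
    rw [Category.comp_id, map_dFst_assoc]

/-- Let S = lim S_i be a cofiltered limit of schemes with affine transition morphisms, S_{i₀} a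
quasi-compact quasi-separated stage, f₀ : X₀ → Y₀ a morphism of quasi-compact quasi-separated
schemes over S_{i₀}, and f : X → Y its base change along S → S_{i₀} (base changes expressed by
pullback squares). If f is affine, then for some index i over i₀ the base change f_i : X_i → Y_i of
f₀ along S_i → S_{i₀} is affine. No finiteness hypothesis on f₀ is needed. -/
theorem result {I : Type u} [SmallCategory I] [IsCofiltered I]
    (D : I ⥤ Scheme.{u}) (c : Limits.Cone D) (hc : Limits.IsLimit c)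
    [∀ (i j : I) (f : i ⟶ j), IsAffineHom (D.map f)] (i₀ : I) [CompactSpace (D.obj i₀)]
    [QuasiSeparatedSpace (D.obj i₀)] {X₀ Y₀ : Scheme.{u}} (f₀ : X₀ ⟶ Y₀) (g₀ : Y₀ ⟶ D.obj i₀)
    [CompactSpace X₀] [QuasiSeparatedSpace X₀] [CompactSpace Y₀] [QuasiSeparatedSpace Y₀]
    {X Y : Scheme.{u}} (f : X ⟶ Y) (g : Y ⟶ c.pt) (qY : Y ⟶ Y₀) (qX : X ⟶ X₀)
    (hY : IsPullback qY g g₀ (c.π.app i₀)) (hX : IsPullback qX f f₀ qY) [IsAffineHom f] :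
    ∃ (i : I) (φ : i ⟶ i₀) (Xi Yi : Scheme.{u}) (fi : Xi ⟶ Yi) (gi : Yi ⟶ D.obj i) (pY : Yi ⟶ Y₀)
      (pX : Xi ⟶ X₀), IsPullback pY gi g₀ (D.map φ) ∧ IsPullback pX fi f₀ pY ∧ IsAffineHom fi := by
  have haffD : ∀ {i j : I} (f : i ⟶ j), IsAffineHom (D.map f) := fun f => inferInstance
  have hπ : IsAffineHom (c.π.app i₀) := isAffineHom_π_app D c hc i₀
  have hqY : IsAffineHom qY := MorphismProperty.of_isPullback (P := @IsAffineHom) hY.flip hπ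
  have h0 : IsAffineHom ((bcCone i₀ (hX.paste_vert hY)).π.app (Over.mk (𝟙 i₀)) ≫
      (tY D i₀ f₀ g₀).app (Over.mk (𝟙 i₀))) := by
    show IsAffineHom (bcπ i₀ (hX.paste_vert hY) (Over.mk (𝟙 i₀)) ≫
      dFst D i₀ (f₀ ≫ g₀) (Over.mk (𝟙 i₀)) ≫ f₀)
    rw [bcπ_fst_assoc, hX.w]
    infer_instance
  obtain ⟨j₁, hj₁⟩ := Groth.Agent.S9200.result Y₀ (bcDiagram D i₀ (f₀ ≫ g₀)) (tY D i₀ f₀ g₀)
    (bcCone i₀ (hX.paste_vert hY)) (isLimitBcCone i₀ _ hc) (Over.mk (𝟙 i₀))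
  have h1 : IsAffineHom (dFst D i₀ (f₀ ≫ g₀) j₁ ≫ f₀) := hj₁ j₁ (𝟙 _)
  refine ⟨j₁.left, j₁.hom, _, _, bcMor D i₀ f₀ g₀ j₁, dSnd D i₀ g₀ j₁, dFst D i₀ g₀ j₁,
    dFst D i₀ (f₀ ≫ g₀) j₁, isPullback_d D i₀ g₀ j₁, isPullback_bcMor D i₀ f₀ g₀ j₁, ?_⟩
  have : IsAffineHom (bcMor D i₀ f₀ g₀ j₁ ≫ dFst D i₀ g₀ j₁) := by
    rw [bcMor_fst]
    exact h1
  exact IsAffineHom.of_comp _ (dFst D i₀ g₀ j₁)

end Groth.Agent.S9186
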