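import Groth.Statements.S4630
import Groth.Agent.Lib.Helper6BcTrans
import Groth.Agent.Lib.Helper6BcRed4

set_option autoImplicit false
open CategoryTheory AlgebraicGeometry
universe u
open FBase

namespace Groth.Agent.S4630

/-- Let X be a scheme over a field k, k' an extension field of k, and x' a point of X' = X ⊗_k k' lying
over the point x of X. Then X is geometrically pointwise integral at x over k if and only if X' is
geometrically pointwise integral at x' over k'. -/
theorem result {k K : Type u} [Field k] [Field K] [Algebra k K]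
    {X : Scheme.{u}} (f : X ⟶ Spec (CommRingCat.of k)) (x' : ↥(FBase.bc f K)) :
    FBase.IsGeomPtIntegralAt f ((FBase.bcπ f K) x') ↔ FBase.IsGeomPtIntegralAt (FBase.bcStr f K) x' := by
  letI : X.Over (Spec (CommRingCat.of k)) := ⟨f⟩
  letI : (Curv2.bc k X K).Over (Spec (CommRingCat.of K)) := ⟨Curv2.bcSnd k X K⟩
  constructor
  · intro h
    exact Groth.Agent.Lib.Helper6.BcTrans.ascend_to_bc Groth.Agent.Lib.Helper6.BcRed4.domainProp
      k X K x' (fun L _ _ y hy => h L y hy)
  · intro h L _ _ y hy
    exact Groth.Agent.Lib.Helper6.BcTrans.descend_of_bc Groth.Agent.Lib.Helper6.BcRed4.domainProp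
      Groth.Agent.Lib.Helper6.BcRed4.domain_desc k X K x' h L y hy

end Groth.Agent.S4630
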