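import Groth.Statements.S4631
import Groth.Agent.Lib.Helper25GeomPtInt

set_option autoImplicit false
open CategoryTheory AlgebraicGeometry
universe u
open FBase

namespace Groth.Agent.S4631

/-- Let X be a scheme over an algebraically closed field k and x a point of X. Then X is geometrically
pointwise integral at x over k if and only if the local ring of X at x is a domain. -/
theorem result {k : Type u} [Field k] [IsAlgClosed k] {X : Scheme.{u}}
    (f : X ⟶ Spec (CommRingCat.of k)) (x : X) :
    FBase.IsGeomPtIntegralAt f x ↔ IsDomain ↑(X.presheaf.stalk x) := by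
  letI : X.Over (Spec (CommRingCat.of k)) := ⟨f⟩
  constructor
  · intro h
    have hflat : Flat (FBase.bcπ f k) := by
      have : Flat (Spec.map (CommRingCat.ofHom (algebraMap k k))) := inferInstance
      exact inferInstanceAs (Flat (Limits.pullback.fst f (Spec.map (CommRingCat.ofHom (algebraMap k k)))))
    have hsurj : Surjective (FBase.bcπ f k) := by
      have : Surjective (Spec.map (CommRingCat.ofHom (algebraMap k k))) := by
        constructor
        intro y
        obtain ⟨y'⟩ : Nonempty (Spec (CommRingCat.of k)) := inferInstance
        exact ⟨y', Subsingleton.elim (α := Spec (CommRingCat.of k)) _ _⟩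
      exact inferInstanceAs (Surjective (Limits.pullback.fst f (Spec.map (CommRingCat.ofHom (algebraMap k k)))))
    obtain ⟨x', rfl⟩ := hsurj.surj x
    have hd : IsDomain ((FBase.bc f k).presheaf.stalk x') := h k x' rfl
    exact Groth.Agent.Lib.Helper6.BcRed4.domain_desc _ _ ((FBase.bcπ f k).stalkMap x').hom
      (Flat.stalkMap (FBase.bcπ f k) x') hd
  · intro h K _ _ x' hx'
    exact Groth.Agent.Lib.Helper25.GeomPtInt.isDomain_stalk_bc_of_isDomain k X K x' x hx' h

end Groth.Agent.S4631
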