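import Groth.Statements.S5057
import Mathlib.AlgebraicGeometry.PullbackCarrier
import Mathlib.AlgebraicGeometry.IdealSheaf.Subscheme
import Mathlib.AlgebraicGeometry.Morphisms.Finite

set_option autoImplicit false
open CategoryTheory CategoryTheory.Limits AlgebraicGeometry
universe u
open Hensel

namespace Groth.Agent.S5057

/-- Let i : S₀ ⟶ S be a closed immersion such that for every finite morphism g : S' ⟶ S every
open-closed subset of S' ×_S S₀ is the inverse image under the first projection of exactly one
open-closed subset of S'. Then for every finite morphism g : S' ⟶ S, every open subset of S'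
containing the image of S' ×_S S₀ is all of S'. -/
theorem result {S S₀ : Scheme.{u}} (i : S₀ ⟶ S) [IsClosedImmersion i]
    (ha : ∀ (S' : Scheme.{u}) (g : S' ⟶ S), IsFinite g →
      ∀ V : Set ↥(pullback g i), IsClopen V → ∃! U : Set ↥S', IsClopen U ∧ (pullback.fst g i).base ⁻¹' U = V)
    {S' : Scheme.{u}} (g : S' ⟶ S) [IsFinite g] (U : Set ↥S') (hU : IsOpen U)
    (hU₀ : Set.range (pullback.fst g i).base ⊆ U) : U = Set.univ := by
  by_contra hne
  let Z : TopologicalSpace.Closeds ↥S' := ⟨Uᶜ, hU.isClosed_compl⟩
  have hrange : Set.range (Scheme.IdealSheafData.vanishingIdeal Z).subschemeι.base = Uᶜ := by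
    rw [Scheme.IdealSheafData.range_subschemeι, Scheme.IdealSheafData.coe_support_vanishingIdeal]
    rfl
  have hfin : IsFinite ((Scheme.IdealSheafData.vanishingIdeal Z).subschemeι ≫ g) := inferInstance
  have hempty : IsEmpty ↥(Limits.pullback ((Scheme.IdealSheafData.vanishingIdeal Z).subschemeι ≫ g) i) := by
    constructor
    intro z
    have h1 : (Scheme.IdealSheafData.vanishingIdeal Z).subschemeι.base
        ((Limits.pullback.fst ((Scheme.IdealSheafData.vanishingIdeal Z).subschemeι ≫ g) i).base z) ∈ Uᶜ :=
      hrange ▸ ⟨_, rfl⟩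
    apply h1
    apply hU₀
    obtain ⟨w, hw1, -⟩ := AlgebraicGeometry.Scheme.Pullback.exists_preimage_pullback
      (f := g) (g := i)
      ((Scheme.IdealSheafData.vanishingIdeal Z).subschemeι.base
        ((Limits.pullback.fst ((Scheme.IdealSheafData.vanishingIdeal Z).subschemeι ≫ g) i).base z))
      ((Limits.pullback.snd ((Scheme.IdealSheafData.vanishingIdeal Z).subschemeι ≫ g) i).base z)
      (by
        rw [← Scheme.Hom.comp_apply, ← Scheme.Hom.comp_apply, ← Scheme.Hom.comp_apply,
          ← Limits.pullback.condition])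
    exact ⟨w, hw1⟩
  obtain ⟨U', -, huniq⟩ := ha _ ((Scheme.IdealSheafData.vanishingIdeal Z).subschemeι ≫ g) hfin ∅
    isClopen_empty
  have h1 := huniq ∅ ⟨isClopen_empty, Set.preimage_empty⟩
  have h2 := huniq Set.univ ⟨isClopen_univ, Set.eq_empty_of_isEmpty _⟩
  have h3 : (Set.univ : Set ↥(Scheme.IdealSheafData.vanishingIdeal Z).subscheme) = ∅ :=
    h2.trans h1.symm
  have hemp : IsEmpty ↥(Scheme.IdealSheafData.vanishingIdeal Z).subscheme :=
    Set.univ_eq_empty_iff.mp h3
  apply hne
  rw [← Set.compl_empty_iff, ← hrange]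
  exact Set.range_eq_empty _

end Groth.Agent.S5057
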