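import Groth.Statements.S1340
import Mathlib.AlgebraicGeometry.Morphisms.Proper

set_option autoImplicit false
universe u
open FlatMor

namespace Groth.Agent.S1340

open AlgebraicGeometry CategoryTheory Limits TopologicalSpace in
lemma bijective_of_localizations {A B A' B' : Type*} [CommRing A] [CommRing B] [CommRing A']
    [CommRing B'] [Algebra A A'] [Algebra B B'] (e : A →+* B) (he : Function.Bijective e) (r : A)
    [IsLocalization.Away r A'] [IsLocalization.Away (e r) B'] (e' : A' →+* B')
    (comm : e'.comp (algebraMap A A') = (algebraMap B B').comp e) : Function.Bijective e' := by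
  have hM : (Submonoid.powers r).map e = Submonoid.powers (e r) := Submonoid.map_powers _ _
  have : IsLocalization ((Submonoid.powers r).map e) B' := by rw [hM]; infer_instance
  have : e' = IsLocalization.map B' e (Submonoid.powers r).le_comap_map := by
    apply IsLocalization.ringHom_ext (Submonoid.powers r)
    rw [comm, IsLocalization.map_comp]
  rw [this]
  exact ⟨IsLocalization.map_injective_of_injective _ _ _ he.1,
    IsLocalization.map_surjective_of_surjective _ _ _ he.2⟩

open AlgebraicGeometry CategoryTheory Limits TopologicalSpace in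
lemma isIso_app_basicOpen {X Y : Scheme.{u}} (g : X ⟶ Y) (W : Y.Opens) (hW : IsAffineOpen W)
    (hc : IsCompact (g ⁻¹ᵁ W).1) (hqs : IsQuasiSeparated (g ⁻¹ᵁ W).1)
    (hg : IsIso (g.app W)) (r : Γ(Y, W)) : IsIso (g.app (Y.basicOpen r)) := by
  have h1 : IsLocalization.Away r Γ(Y, Y.basicOpen r) := hW.isLocalization_basicOpen r
  have h2 : IsLocalization.Away (g.app W r) Γ(X, X.basicOpen (g.app W r)) :=
    isLocalization_basicOpen_of_qcqs hc hqs _
  have hpre : g ⁻¹ᵁ Y.basicOpen r = X.basicOpen (g.app W r) := g.preimage_basicOpen r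
  refine @IsIso.of_isIso_comp_right _ _ _ _ _ _ (X.presheaf.map (eqToHom hpre.symm).op) _ ?_
  rw [ConcreteCategory.isIso_iff_bijective]
  refine bijective_of_localizations (g.app W).hom
    ((ConcreteCategory.isIso_iff_bijective _).mp hg) r _ ?_
  ext x
  simp only [RingHom.algebraMap_toAlgebra, CommRingCat.hom_comp, RingHom.comp_apply]
  have := g.naturality (homOfLE (Y.basicOpen_le r)).op
  simp only [← CommRingCat.comp_apply]
  rw [this, Category.assoc, ← Functor.map_comp]
  rfl

open AlgebraicGeometry CategoryTheory Limits TopologicalSpace in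
lemma isIntegral_app_of_universallyClosed {X Y : Scheme.{u}} (f : X ⟶ Y) [UniversallyClosed f]
    (U : Y.Opens) (hU : IsAffineOpen U) : (f.app U).hom.IsIntegral := by
  have : IsAffine U.toScheme := hU
  have h := isIntegral_appTop_of_universallyClosed (f ∣_ U)
  rw [Scheme.Hom.appTop, morphismRestrict_app'] at h
  have h1 : U.ι ''ᵁ ⊤ = U := by simp
  have h2 : f ⁻¹ᵁ U = (f ⁻¹ᵁ U).ι ''ᵁ (f ∣_ U) ⁻¹ᵁ ⊤ := by simp
  have key : f.app U = Y.presheaf.map (eqToHom h1).op ≫
      f.appLE (U.ι ''ᵁ ⊤) ((f ⁻¹ᵁ U).ι ''ᵁ (f ∣_ U) ⁻¹ᵁ ⊤)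
        (image_morphismRestrict_preimage f U ⊤).le ≫
      X.presheaf.map (eqToHom h2).op := by
    simp only [Scheme.Hom.app_eq_appLE, Scheme.Hom.appLE_map, Scheme.Hom.map_appLE]
  rw [key]
  have hP := RingHom.toMorphismProperty_respectsIso_iff.mp RingHom.isIntegral_respectsIso.{u}
  change RingHom.toMorphismProperty RingHom.IsIntegral _
  rw [MorphismProperty.cancel_left_of_respectsIso (RingHom.toMorphismProperty RingHom.IsIntegral),
    MorphismProperty.cancel_right_of_respectsIso (RingHom.toMorphismProperty RingHom.IsIntegral)]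
  exact h

open AlgebraicGeometry CategoryTheory Limits in
/-- Stein factorization, universally closed case: let f : X ⟶ S be universally closed and
quasi-separated, and let X ⟶ X' ⟶ S be its factorization through the normalization X' of S in X.
Then the canonical morphism X ⟶ X' identifies the structure sheaf of X' with the pushforward of the
structure sheaf of X: for every open U of X' the induced map from O_{X'}(U) to the sections of O_X
over the inverse image of U is an isomorphism. (That X ⟶ X' is surjective and universally closed and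
that X' ⟶ S is integral are separate facts not restated here.) -/
theorem result {X S : Scheme.{u}} (f : X ⟶ S) [UniversallyClosed f] [QuasiSeparated f]
    (U : f.normalization.Opens) : IsIso (f.toNormalization.app U) := by
  have step1 : ∀ V : S.affineOpens,
      IsIso (f.toNormalization.app (f.fromNormalization ⁻¹ᵁ V.1)) := by
    intro V
    let _ := (f.app V.1).hom.toAlgebra
    have h1 := f.toNormalization_app_preimage V
    have h2 : integralClosure Γ(S, V.1) Γ(X, f ⁻¹ᵁ V.1) = ⊤ := by
      rw [integralClosure_eq_top_iff, ← algebraMap_isIntegral_iff, RingHom.algebraMap_toAlgebra]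
      exact isIntegral_app_of_universallyClosed f V.1 V.2
    rw [h1]
    refine @IsIso.comp_isIso _ _ _ _ _ _ _ inferInstance
      (@IsIso.comp_isIso _ _ _ _ _ _ _ ?_ inferInstance)
    rw [ConcreteCategory.isIso_iff_bijective]
    rw [h2]
    exact (Subalgebra.topEquiv (R := Γ(S, V.1)) (A := Γ(X, f ⁻¹ᵁ V.1))).bijective
  -- the basis
  let ι := Σ V : S.affineOpens, Γ(f.normalization, f.fromNormalization ⁻¹ᵁ V.1)
  let B : ι → f.normalization.Opens := fun i => f.normalization.basicOpen i.2
  have hB : TopologicalSpace.Opens.IsBasis (Set.range B) := by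
    rw [TopologicalSpace.Opens.isBasis_iff_nbhd]
    intro U x hx
    obtain ⟨_, ⟨V, hV, rfl⟩, hxV, -⟩ := S.isBasis_affineOpens.exists_subset_of_mem_open
      (Set.mem_univ (f.fromNormalization x)) isOpen_univ
    have hW : IsAffineOpen (f.fromNormalization ⁻¹ᵁ V) := hV.preimage f.fromNormalization
    obtain ⟨r, hr1, hr2⟩ := hW.exists_basicOpen_le (V := U) ⟨x, hx⟩ hxV
    exact ⟨_, ⟨⟨⟨V, hV⟩, r⟩, rfl⟩, hr2, hr1⟩
  have step2 : ∀ i : ι, IsIso (f.toNormalization.app (B i)) := by
    rintro ⟨V, r⟩
    have hpre : f.toNormalization ⁻¹ᵁ (f.fromNormalization ⁻¹ᵁ V.1) = f ⁻¹ᵁ V.1 := by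
      rw [← Scheme.Hom.comp_preimage, f.toNormalization_fromNormalization]
    refine isIso_app_basicOpen f.toNormalization (f.fromNormalization ⁻¹ᵁ V.1)
      (V.2.preimage f.fromNormalization) ?_ ?_ (step1 V) r
    · rw [hpre]; exact f.isCompact_preimage V.2.isCompact
    · rw [hpre]; exact f.isQuasiSeparated_preimage V.2.isQuasiSeparated
  -- the sheaf morphism
  let F : TopCat.Sheaf CommRingCat f.normalization := f.normalization.sheaf
  let G : TopCat.Sheaf CommRingCat f.normalization :=
    (TopCat.Sheaf.pushforward _ f.toNormalization.base).obj X.sheaf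
  let φ : F ⟶ G := ⟨f.toNormalization.c⟩
  have hφ : IsIso φ := TopCat.Sheaf.isIso_iff_isIso_basis hB step2
  have : IsIso ((TopCat.Sheaf.forget _ _).map φ) := inferInstance
  exact NatIso.isIso_app_of_isIso ((TopCat.Sheaf.forget _ _).map φ) (Opposite.op U)

end Groth.Agent.S1340
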