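import Groth.Statements.S0701
-- import your own Groth.Agent.* helpers here

set_option autoImplicit false
open CategoryTheory CategoryTheory.Limits AlgebraicGeometry Opposite Topology
universe u
open ProEtW

namespace Groth.Agent.S0701

/-- In a ring all of whose primes are maximal, an element of a prime `p` is killed, up to a power,
by an element outside `p`. -/
theorem exists_mul_pow_eq_zero {B : Type u} [CommRing B]
    (hB : ∀ I : Ideal B, I.IsPrime → I.IsMaximal)
    (p : Ideal B) [hp : p.IsPrime] (f : B) (hf : f ∈ p) :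
    ∃ g : B, g ∉ p ∧ ∃ n : ℕ, g * f ^ n = 0 := by
  by_contra hcon
  push Not at hcon
  let S : Submonoid B := p.primeCompl ⊔ Submonoid.powers f
  have h0 : (0 : B) ∉ S := by
    intro h0
    obtain ⟨a, ha, b, hb, hab⟩ := Submonoid.mem_sup.1 h0
    obtain ⟨n, rfl⟩ := hb
    exact hcon a ha n hab
  have hdisj : Disjoint ((⊥ : Ideal B) : Set B) S := by
    rw [Set.disjoint_left]
    intro x hx hxS
    rw [SetLike.mem_coe, Ideal.mem_bot] at hx
    exact h0 (hx ▸ hxS)
  obtain ⟨P, hP, -, hPS⟩ := Ideal.exists_le_prime_disjoint (⊥ : Ideal B) S hdisj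
  have hPp : P ≤ p := by
    intro x hx
    by_contra hxp
    exact Set.disjoint_left.1 hPS hx
      ((le_sup_left : p.primeCompl ≤ S) (show x ∈ p.primeCompl from hxp))
  have hPeq : P = p := (hB P hP).eq_of_le hp.ne_top hPp
  exact Set.disjoint_left.1 hPS (hPeq ▸ hf)
    ((le_sup_right : Submonoid.powers f ≤ S) (Submonoid.mem_powers f))

/-- The prime spectrum of a ring all of whose primes are maximal is Hausdorff. -/
theorem t2Space_of_forall_isMaximal {B : Type u} [CommRing B]
    (hB : ∀ I : Ideal B, I.IsPrime → I.IsMaximal) : T2Space (PrimeSpectrum B) := by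
  refine ⟨fun x y hxy => ?_⟩
  have hne : ¬ x.asIdeal ≤ y.asIdeal := by
    intro hle
    apply hxy
    exact PrimeSpectrum.ext ((hB x.asIdeal x.isPrime).eq_of_le y.isPrime.ne_top hle)
  obtain ⟨f, hfx, hfy⟩ := Set.not_subset.1 hne
  have := x.isPrime
  obtain ⟨g, hgx, n, hgf⟩ := exists_mul_pow_eq_zero hB x.asIdeal f hfx
  refine ⟨PrimeSpectrum.basicOpen g, PrimeSpectrum.basicOpen f,
    (PrimeSpectrum.basicOpen g).isOpen, (PrimeSpectrum.basicOpen f).isOpen, hgx, hfy, ?_⟩
  rw [Set.disjoint_left]
  intro z hzg hzf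
  have : g * f ^ n ∈ z.asIdeal := hgf ▸ z.asIdeal.zero_mem
  rcases z.isPrime.mem_or_mem this with h | h
  · exact hzg h
  · exact hzf (z.isPrime.mem_of_pow_mem n h)

/-- Let Spec A be profinite (quasi-compact, Hausdorff, totally disconnected) and A -> B a ring map such
that two distinct primes of B over the same prime of A are never comparable. Then Spec B is
profinite. -/
theorem result (A B : Type u) [CommRing A] [CommRing B]
    [Algebra A B] [T2Space (PrimeSpectrum A)] [TotallyDisconnectedSpace (PrimeSpectrum A)]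
    (h : ∀ q q' : PrimeSpectrum B, q.asIdeal.comap (algebraMap A B) = q'.asIdeal.comap (algebraMap A B) →
      q.asIdeal ≤ q'.asIdeal → q = q') :
    ProEtW.IsProfinite (PrimeSpectrum B) := by
  have hB : ∀ I : Ideal B, I.IsPrime → I.IsMaximal := by
    intro I hI
    obtain ⟨M, hM, hIM⟩ := Ideal.exists_le_maximal I hI.ne_top
    let q : PrimeSpectrum B := ⟨I, hI⟩
    let q' : PrimeSpectrum B := ⟨M, hM.isPrime⟩
    have hle : PrimeSpectrum.comap (algebraMap A B) q ≤ PrimeSpectrum.comap (algebraMap A B) q' :=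
      Ideal.comap_mono hIM
    have heq : PrimeSpectrum.comap (algebraMap A B) q = PrimeSpectrum.comap (algebraMap A B) q' :=
      ((PrimeSpectrum.le_iff_specializes _ _).1 hle).eq
    have : q = q' := h q q' (congrArg PrimeSpectrum.asIdeal heq) hIM
    have hIM' : I = M := congrArg PrimeSpectrum.asIdeal this
    exact hIM' ▸ hM
  have : T2Space (PrimeSpectrum B) := t2Space_of_forall_isMaximal hB
  exact ⟨inferInstance, inferInstance, inferInstance⟩

end Groth.Agent.S0701
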