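import Groth.Statements.S1364
import Groth.Agent.Lib.Helper22SteinEtG
import Groth.Agent.Lib.Helper22SteinEtH
import Groth.Agent.S7838

set_option autoImplicit false
universe u
open FlatMor

namespace Groth.Agent.S1364

open AlgebraicGeometry CategoryTheory Limits in
/-- For a flat proper morphism of finite presentation whose geometric fibres are reduced, the function
on the target counting the connected components of the geometric fibres is locally constant. -/
theorem result {X S : Scheme.{u}} (f : X ⟶ S) [IsProper f] [Flat f] [LocallyOfFinitePresentation f] [GeometricallyReduced f] :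
    IsLocallyConstant (fun s : ↑S => MoreMor.nGeomConnComp f s) := by
  have hred : Groth.Agent.Lib.Helper22.SteinEtF.GeomRed f := fun Ω _ _ σ =>
    GeometricallyReduced.geometrically_isReduced _ _ _ (IsPullback.of_hasPullback f σ)
  obtain ⟨hfin, het⟩ := Groth.Agent.Lib.Helper22.SteinEtG.finite_etale_fromNormalization f hred
  have heq : (fun s : ↑S => MoreMor.nGeomConnComp f s) =
      (fun n : ℕ => (n : ℕ∞)) ∘ (Scheme.Hom.finrank f.fromNormalization) := by
    funext s
    rw [(Groth.Agent.S7838.result f s).2,
      Groth.Agent.Lib.Helper22.SteinEtH.nGeomConnComp_eq_finrank f.fromNormalization s]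
    rfl
  rw [heq]
  exact (Scheme.Hom.isLocallyConstant_finrank f.fromNormalization).comp _

end Groth.Agent.S1364
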