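import Groth.Statements.S4938
import Groth.Agent.Lib.Helper6UniE

set_option autoImplicit false
open CategoryTheory AlgebraicGeometry
universe u v w
open EGA43
open Groth.Agent.Lib.Helper6.Uni

namespace Groth.Agent.S4938

/-- Let Y be a locally Noetherian scheme, f : X ⟶ Y a morphism locally of finite type, and y a
geometrically unibranch point of Y, lying on the unique irreducible component Y₀ of Y with generic
point η. The following are equivalent: a) f is universally open at every point of X_y; b) every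
point x of X_y lies on an irreducible component Z of X dominating Y₀ with dim_x(Z ∩ X_y) = dim(Z ∩
X_η); b'') for every open subset U of X, dim(U ∩ X_η) ≥ dim(U ∩ X_y); c) f is open at every point of
X_y. (The published statement assumes Y locally Noetherian only for c) and also lists b′), the
pointwise form of b″) (for every x in X_y and every open U ∋ x, dim(U ∩ X_η) ≥ dim_x(U ∩ X_y)); over
the spectrum of an infinite product of copies of a field, the inclusion of a non-open closed point
satisfies b) and b″) but not a), so this row takes Y locally Noetherian throughout, and b′) is not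
listed.) -/
theorem result {X Y : Scheme.{u}} [IsLocallyNoetherian Y] (f : X ⟶ Y)
    [LocallyOfFiniteType f] (y : Y) (hy : CAlg2.IsGeomUnibranch (Y.presheaf.stalk y)) :
    List.TFAE [∀ x : X, f.base x = y → EGA43.IsUnivOpenAt f x,
      ∀ x : X, f.base x = y → ∀ Y₀ ∈ irreducibleComponents (Y : Type u), y ∈ Y₀ →
        ∃ Z ∈ irreducibleComponents (X : Type u), ∃ hx : x ∈ Z, closure (f.base '' Z) = Y₀ ∧
          ∀ η : Y, closure ({η} : Set Y) = Y₀ →
            FlatMor.localDim ↥(Z ∩ f.base ⁻¹' {f.base x}) ⟨x, ⟨hx, rfl⟩⟩ = topologicalKrullDim ↥(Z ∩ f.base ⁻¹' {η}),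
      ∀ U : X.Opens, ∀ Y₀ ∈ irreducibleComponents (Y : Type u), y ∈ Y₀ → ∀ η : Y, closure ({η} : Set Y) = Y₀ →
        topologicalKrullDim ↥((U : Set X) ∩ f.base ⁻¹' {y}) ≤ topologicalKrullDim ↥((U : Set X) ∩ f.base ⁻¹' {η}),
      ∀ x : X, f.base x = y → EGA43.IsOpenAt f.base x] := by
  tfae_have 1 → 4 := fun h x hx =>
    Groth.Agent.Lib.Helper7.isOpenAt_of_isPullback (IsPullback.id_horiz f) x (h x hx) x rfl
  tfae_have 4 → 3 := by
    intro h U Y₀ hY₀ hyY₀ η hη
    have hηy : η ⤳ y := specializes_iff_mem_closure.mpr (hη ▸ hyY₀)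
    exact dim_inter_fibre_le_of_isOpenAt f y h U η hηy
  tfae_have 3 → 2 := by
    rintro h x rfl Y₀ hY₀ hxY₀
    obtain ⟨η, hη⟩ := QuasiSober.sober hY₀.1 (isClosed_of_mem_irreducibleComponents _ hY₀)
    have hηcl : closure ({η} : Set Y) = Y₀ := hη.def
    obtain ⟨Z, hZ, hx, hcl, hdim⟩ := exists_component_of_le_dim f x Y₀ hY₀ η hηcl
      (fun U hxU => (Groth.Agent.Lib.Helper6.OpenDim.le_topologicalKrullDim_inter_fibre f
        (U : Set X) U.2 x hxU).trans (h U Y₀ hY₀ hxY₀ η hηcl))
    exact ⟨Z, hZ, hx, hcl, fun η' hη' => (hdim η' hη').2⟩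
  tfae_have 2 → 1 := by
    rintro h x rfl
    have hY₀ := irreducibleComponent_mem_irreducibleComponents (f.base x)
    obtain ⟨Z, hZ, hx, hcl, hdim⟩ := h x rfl _ hY₀ mem_irreducibleComponent
    exact isUnivOpenAt_of_irreducible_closed f x hy _ hY₀ Z hZ.1
      (isClosed_of_mem_irreducibleComponents _ hZ) hx hcl hdim
  tfae_finish

end Groth.Agent.S4938
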