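import Groth.Statements.S5322
import Mathlib
import Groth.Agent.S1324

set_option autoImplicit false
universe u
open CategoryTheory CategoryTheory.Limits MonoidalCategory CartesianMonoidalCategory MonObj GrpObj AlgebraicGeometry
open SGA3

namespace Groth.Agent.S5322


lemma neutralSet_eq_sectionComponents {S : Scheme.{u}} (G : Over S) [GrpObj G] :
    SGA3x.neutralSet G = MoreMor.sectionComponents G.hom η[G].left := by
  ext x
  simp only [SGA3x.neutralSet, Set.mem_iUnion, MoreMor.sectionComponents, Set.mem_setOf_eq]
  constructor
  · rintro ⟨p, hp⟩
    have hx : x ∈ G.hom ⁻¹' {(𝟙_ (Over S)).hom p} := connectedComponentIn_subset _ _ hp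
    have hx' : G.hom x = p := hx
    rw [hx']
    exact hp
  · intro h
    exact ⟨G.hom x, h⟩



/-- Let G be an S-group scheme and f : S' → S a morphism. Then the subset of G ×_S S' formed by the
neutral components of its fibres over S' is the inverse image, under the first projection G ×_S S' →
G, of the subset of G formed by the neutral components of the fibres G_s: the formation of the
neutral component commutes with base change. -/
theorem result (S S' : Scheme.{u}) (f : S' ⟶ S) (G : Over S) [GrpObj G] :
    SGA3x.neutralSet (Red.bc f G) = (pullback.fst G.hom f).base ⁻¹' SGA3x.neutralSet G := by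
  rw [neutralSet_eq_sectionComponents, neutralSet_eq_sectionComponents]
  have hη : η[Red.bc f G].left ≫ pullback.fst G.hom f = f ≫ η[G].left := by
    have h1 : η[Red.bc f G] = Functor.LaxMonoidal.ε (Over.pullback f) ≫ (Over.pullback f).map η[G] := rfl
    rw [h1, Over.comp_left, Category.assoc]
    simp only [Over.pullback_map_left]
    rw [pullback.lift_fst]
    have h2 := Over.w (Functor.LaxMonoidal.ε (Over.pullback f))
    have h3 : (Functor.LaxMonoidal.ε (Over.pullback f)).left ≫
        pullback.fst (𝟙_ (Over S)).hom f = f := by
      have hc := pullback.condition (f := (𝟙_ (Over S)).hom) (g := f)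
      have h4 : pullback.fst (𝟙_ (Over S)).hom f = pullback.snd (𝟙_ (Over S)).hom f ≫ f := by
        rw [← hc]
        exact (Category.comp_id _).symm
      rw [h4, ← Category.assoc]
      have h5 : (Functor.LaxMonoidal.ε (Over.pullback f)).left ≫
          pullback.snd (𝟙_ (Over S)).hom f = 𝟙 _ := h2
      rw [h5, Category.id_comp]
    rw [← Category.assoc, h3]
  exact Groth.Agent.S1324.result G.hom η[G].left (Over.w η[G]) (pullback.snd G.hom f)
    (pullback.fst G.hom f) f (IsPullback.of_hasPullback G.hom f) η[Red.bc f G].left
    (Over.w η[Red.bc f G]) hη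

end Groth.Agent.S5322
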