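import Groth.Statements.S5328
import Groth.Agent.Lib.Helper3GrpNeutral
import Groth.Agent.Lib.Helper3GrpLocusC
import Groth.Agent.S5322
import Mathlib

set_option autoImplicit false
universe u
open CategoryTheory CategoryTheory.Limits MonoidalCategory CartesianMonoidalCategory MonObj GrpObj AlgebraicGeometry
open SGA3

namespace Groth.Agent.S5328

open Groth.Agent.Lib.Helper3.Isog Groth.Agent.Lib.Helper3.GrpFlat Groth.Agent.Lib.Helper3.GrpHomQF
  Groth.Agent.Lib.Helper3.GrpNeutral Groth.Agent.Lib.Helper25.IdComp Groth.Agent.Lib.Helper3.FibCritSch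
open scoped Obj

/-- variant of `exists_flat_point`: only the generisations of `y'` need to be in the image. -/
theorem exists_flat_point' {X Y S : Scheme.{u}} (f : X ⟶ Y) (g : Y ⟶ S)
    [LocallyOfFinitePresentation (f ≫ g)] [LocallyOfFiniteType g] [Flat (f ≫ g)]
    (s : S) [IsReduced (g.fiber s)] (y' : g.fiber s)
    (hgen : ∀ ξ : g.fiber s, ξ ⤳ y' → ξ ∈ Set.range (MoreMor.fiberMap f g s)) :
    ∃ x₀ : X, (f ≫ g) x₀ = s ∧ (f.stalkMap x₀).hom.Flat := by
  have hirr : IsIrreducible (irreducibleComponent y') := isIrreducible_irreducibleComponent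
  let ξ : g.fiber s := hirr.genericPoint
  have hcl : closure {ξ} = irreducibleComponent y' :=
    hirr.closure_genericPoint isClosed_irreducibleComponent
  have hfield : IsField ((g.fiber s).presheaf.stalk ξ) :=
    isField_stalk_of_closure_mem_irreducibleComponents _ ξ (by
      rw [hcl]
      exact irreducibleComponent_mem_irreducibleComponents y')
  let FM := MoreMor.fiberMap f g s
  have hξ : ξ ⤳ y' := by
    rw [specializes_iff_mem_closure, hcl]
    exact mem_irreducibleComponent
  obtain ⟨z₀, hz₀⟩ := hgen ξ hξ
  have hfib : (FM.stalkMap z₀).hom.Flat := by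
    apply RingHom.Flat.of_isField
    rw [hz₀]
    exact hfield
  refine ⟨(f ≫ g).fiberι s z₀, ?_, ?_⟩
  · have : (f ≫ g).fiberι s z₀ ∈ Set.range ((f ≫ g).fiberι s) := ⟨z₀, rfl⟩
    rw [Scheme.Hom.range_fiberι] at this
    exact this
  · exact flat_stalkMap_of_flat_of_fiberMap' f g s z₀ (Flat.stalkMap (f ≫ g) _) hfib

section
variable {S : Scheme.{u}} (G : Over S) [GrpObj G]

/-- neutral components and fibres. -/
theorem mem_neutralSet_iff (s : S) (z : (Red.bc (S.fromSpecResidueField s) G).left) :
    pullback.fst G.hom (S.fromSpecResidueField s) z ∈ SGA3x.neutralSet G ↔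
      z ∈ connectedComponent (ePt (k := S.residueField s) (Red.bc (S.fromSpecResidueField s) G)) := by
  have h1 := Groth.Agent.S5322.result S _ (S.fromSpecResidueField s) G
  have h2 := AutSch.neutralSet_eq_connectedComponent (Red.bc (S.fromSpecResidueField s) G)
  exact (Set.ext_iff.mp h1 z).symm.trans (Set.ext_iff.mp h2 z)

end

/-- Let u : G → H be a homomorphism between S-group schemes locally of finite presentation over S, and
let G⁰, H⁰ be the unions of the neutral components of the fibres. If u is flat then u(G⁰) = H⁰.
Conversely, if G is flat over S, the fibres H_s are reduced and u(G⁰) = H⁰, then u is flat. -/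
theorem result (S : Scheme.{u}) (G H : Over S) [GrpObj G] [GrpObj H]
    [LocallyOfFinitePresentation G.hom] [LocallyOfFinitePresentation H.hom] (u : G ⟶ H) [IsMonHom u] :
    (Flat u.left → u.left.base '' SGA3x.neutralSet G = SGA3x.neutralSet H) ∧
    (Flat G.hom → (∀ s : S, IsReduced (H.hom.fiber s)) → u.left.base '' SGA3x.neutralSet G = SGA3x.neutralSet H →
      Flat u.left) := by
  have hw : u.left ≫ H.hom = G.hom := Over.w u
  haveI : LocallyOfFinitePresentation u.left :=
    Groth.Agent.Lib.Helper6.locallyOfFinitePresentation_of_comp (g := H.hom) inferInstance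
      (by rw [hw]; infer_instance)
  -- fibre data
  have key : ∀ s : S, ∃ (us : (Over.pullback (S.fromSpecResidueField s)).obj G ⟶
      (Over.pullback (S.fromSpecResidueField s)).obj H), IsMonHom us ∧
      IsPullback (pullback.fst G.hom (S.fromSpecResidueField s)) us.left u.left
        (pullback.fst H.hom (S.fromSpecResidueField s)) := fun s =>
    ⟨(Over.pullback (S.fromSpecResidueField s)).map u,
      inferInstanceAs (IsMonHom ((Over.pullback (S.fromSpecResidueField s)).map u)),
      isPullback_overPullback_map G H u (S.fromSpecResidueField s)⟩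
  have hptG : ∀ x : G.left, ∃ z : ((Over.pullback (S.fromSpecResidueField (G.hom x))).obj G).left,
      pullback.fst G.hom (S.fromSpecResidueField (G.hom x)) z = x := by
    intro x
    have : x ∈ Set.range (G.hom.fiberι (G.hom x)) := by
      rw [Scheme.Hom.range_fiberι]
      rfl
    exact this
  have hptH : ∀ y : H.left, ∃ z : ((Over.pullback (S.fromSpecResidueField (H.hom y))).obj H).left,
      pullback.fst H.hom (S.fromSpecResidueField (H.hom y)) z = y := by
    intro y
    have : y ∈ Set.range (H.hom.fiberι (H.hom y)) := by
      rw [Scheme.Hom.range_fiberι]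
      rfl
    exact this
  have hG : ∀ x : G.left, H.hom (u.left x) = G.hom x := fun x => by
    rw [← Scheme.Hom.comp_apply, hw]
  constructor
  · intro hfl
    -- fibrewise equality
    have hfib : ∀ s : S, ∀ (us : (Over.pullback (S.fromSpecResidueField s)).obj G ⟶
        (Over.pullback (S.fromSpecResidueField s)).obj H), IsMonHom us →
        IsPullback (pullback.fst G.hom (S.fromSpecResidueField s)) us.left u.left
          (pullback.fst H.hom (S.fromSpecResidueField s)) →
        us.left '' connectedComponent (ePt (k := S.residueField s)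
          (Red.bc (S.fromSpecResidueField s) G)) = connectedComponent (ePt (k := S.residueField s)
          (Red.bc (S.fromSpecResidueField s) H)) := by
      intro s us hmon hpb
      haveI := hmon
      haveI : Flat us.left := MorphismProperty.of_isPullback (P := @Flat) hpb inferInstance
      haveI : LocallyOfFinitePresentation us.left :=
        MorphismProperty.of_isPullback (P := @LocallyOfFinitePresentation) hpb inferInstance
      haveI : LocallyOfFiniteType ((Over.pullback (S.fromSpecResidueField s)).obj G).hom :=
        inferInstanceAs (LocallyOfFiniteType (pullback.snd G.hom (S.fromSpecResidueField s)))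
      exact image_connectedComponent_ePt (k := S.residueField s)
        (Red.bc (S.fromSpecResidueField s) G) (Red.bc (S.fromSpecResidueField s) H) us
        us.left.isOpenMap
    apply Set.Subset.antisymm
    · rintro _ ⟨x, hx, rfl⟩
      obtain ⟨us, hmon, hpb⟩ := key (G.hom x)
      obtain ⟨z, hz⟩ := hptG x
      rw [← hz, mem_neutralSet_iff] at hx
      have h1 : us.left z ∈ connectedComponent (ePt (k := S.residueField (G.hom x))
          (Red.bc (S.fromSpecResidueField (G.hom x)) H)) := by
        rw [← hfib _ us hmon hpb]
        exact ⟨z, hx, rfl⟩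
      rw [← mem_neutralSet_iff] at h1
      have h2 : pullback.fst H.hom (S.fromSpecResidueField (G.hom x)) (us.left z) = u.left x := by
        rw [← Scheme.Hom.comp_apply, ← hpb.w, Scheme.Hom.comp_apply, hz]
      rw [h2] at h1
      exact h1
    · intro y hy
      obtain ⟨us, hmon, hpb⟩ := key (H.hom y)
      obtain ⟨w, hw'⟩ := hptH y
      rw [← hw', mem_neutralSet_iff, ← hfib _ us hmon hpb] at hy
      obtain ⟨z, hz, rfl⟩ := hy
      refine ⟨pullback.fst G.hom _ z, (mem_neutralSet_iff G _ z).mpr hz, ?_⟩
      have h5 : (pullback.fst G.hom _ ≫ u.left) z = (us.left ≫ pullback.fst H.hom _) z := by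
        rw [hpb.w]
      exact h5.trans hw'
  · intro hGfl hred himg
    haveI := hGfl
    haveI : LocallyOfFinitePresentation (u.left ≫ H.hom) := by rw [hw]; infer_instance
    haveI : Flat (u.left ≫ H.hom) := by rw [hw]; infer_instance
    have hfl : ∀ x : G.left, (u.left.stalkMap x).hom.Flat := by
      intro x
      let s := G.hom x
      obtain ⟨us, hmon, hpb⟩ := key s
      haveI := hred s
      let FM := MoreMor.fiberMap u.left H.hom s
      have hpbFM : IsPullback ((u.left ≫ H.hom).fiberι s) FM u.left (H.hom.fiberι s) :=
        Groth.Agent.Lib.Helper3.BaseMap.isPullback_baseMap u.left H.hom (S.fromSpecResidueField s)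
      have he : (hpbFM.isoIsPullback _ _ hpb).hom ≫ us.left = FM :=
        IsPullback.isoIsPullback_hom_snd _ _ hpbFM hpb
      let e : H.hom.fiber s := ePt (k := S.residueField s) (Red.bc (S.fromSpecResidueField s) H)
      have hgen : ∀ ξ : H.hom.fiber s, ξ ⤳ e → ξ ∈ Set.range FM := by
        intro ξ hξ
        have hξc : ξ ∈ connectedComponent e := by
          have hpre : _root_.IsPreconnected (closure ({ξ} : Set (H.hom.fiber s))) :=
            isPreconnected_singleton.closure
          have h1 : closure ({ξ} : Set (H.hom.fiber s)) ⊆ connectedComponent e :=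
            hpre.subset_connectedComponent (specializes_iff_mem_closure.mp hξ)
          exact h1 (subset_closure rfl)
        have h2 : pullback.fst H.hom (S.fromSpecResidueField s) ξ ∈ SGA3x.neutralSet H :=
          (mem_neutralSet_iff H s ξ).mpr hξc
        rw [← himg] at h2
        obtain ⟨x', hx', hux'⟩ := h2
        have hs' : G.hom x' = s := by
          rw [← hG, show u.left x' = _ from hux']
          have : pullback.fst H.hom (S.fromSpecResidueField s) ξ ∈
              Set.range (H.hom.fiberι s) := ⟨ξ, rfl⟩
          rw [Scheme.Hom.range_fiberι] at this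
          exact this
        have hx'r : x' ∈ Set.range (G.hom.fiberι s) := by
          rw [Scheme.Hom.range_fiberι]
          exact hs'
        obtain ⟨z, hz⟩ := hx'r
        have hz' : pullback.fst G.hom (S.fromSpecResidueField s) z = x' := hz
        have h3 : us.left z = ξ := by
          apply (H.hom.fiberι s).isEmbedding.injective
          show pullback.fst H.hom (S.fromSpecResidueField s) (us.left z) = _
          rw [← Scheme.Hom.comp_apply, ← hpb.w, Scheme.Hom.comp_apply, hz']
          exact hux'
        have he' : (hpbFM.isoIsPullback _ _ hpb).inv ≫ FM = us.left :=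
          (Iso.inv_comp_eq _).mpr he.symm
        refine ⟨(hpbFM.isoIsPullback _ _ hpb).inv z, ?_⟩
        show ((hpbFM.isoIsPullback _ _ hpb).inv ≫ FM) z = ξ
        rw [he']
        exact h3
      obtain ⟨x₀, hx₀, hfl₀⟩ := exists_flat_point' u.left H.hom s e hgen
      refine (flat_hom_iff_of_base_eq G H u x x₀ ?_).mpr hfl₀
      rw [← hG x₀, ← Scheme.Hom.comp_apply, hx₀]
    exact Flat.of_stalkMap _ hfl

end Groth.Agent.S5328
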