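import Groth.Statements.S0532
-- import your own Groth.Agent.* helpers here
import Groth.Agent.Lib.Helper26HenselFinPart
import Groth.Agent.S9436

set_option autoImplicit false
universe u
open Hensel

namespace Groth.Agent.S0532

section Helpers
open TensorProduct Groth.Agent.Lib.Helper26.HenselFinPart

/-- quotient by an idempotent-generated ideal inside `IS` does not change the reduction. -/
theorem quotient_equiv {A S : Type u} [CommRing A] [CommRing S] [Algebra A S] (I : Ideal A)
    (e : S) (he : 1 - e ∈ I.map (algebraMap A S)) :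
    Nonempty ((S ⧸ I.map (algebraMap A S)) ≃ₐ[A ⧸ I]
      ((S ⧸ Ideal.span {1 - e}) ⧸ I.map (algebraMap A (S ⧸ Ideal.span {1 - e})))) := by
  let J : Ideal S := Ideal.span {1 - e}
  let mkW : S →ₐ[A] S ⧸ J := Ideal.Quotient.mkₐ A J
  have hJ : J ≤ I.map (algebraMap A S) := by
    rw [Ideal.span_le, Set.singleton_subset_iff]; exact he
  have hmap : I.map (algebraMap A (S ⧸ J)) = (I.map (algebraMap A S)).map mkW.toRingHom := by
    rw [Ideal.map_map]
    congr 1
  have hle : I.map (algebraMap A S) ≤ (I.map (algebraMap A (S ⧸ J))).comap mkW := by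
    rw [hmap]
    exact Ideal.le_comap_map
  let f : (S ⧸ I.map (algebraMap A S)) →ₐ[A] ((S ⧸ J) ⧸ I.map (algebraMap A (S ⧸ J))) :=
    Ideal.quotientMapₐ _ mkW hle
  have hf : ∀ x : S, f (Ideal.Quotient.mk _ x) = Ideal.Quotient.mk _ (mkW x) := fun x => rfl
  have hinj : Function.Injective f := by
    rw [injective_iff_map_eq_zero]
    intro z hz
    obtain ⟨x, rfl⟩ := Ideal.Quotient.mk_surjective z
    rw [hf, Ideal.Quotient.eq_zero_iff_mem, hmap] at hz
    obtain ⟨y, hy, hyx⟩ := (Ideal.mem_map_iff_of_surjective mkW.toRingHom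
      Ideal.Quotient.mk_surjective).mp hz
    have h1 : y - x ∈ J := by
      rw [← Ideal.Quotient.eq]
      exact hyx
    rw [Ideal.Quotient.eq_zero_iff_mem]
    have : x = y - (y - x) := by ring
    rw [this]
    exact Ideal.sub_mem _ hy (hJ h1)
  have hsurj : Function.Surjective f := by
    intro z
    obtain ⟨w, rfl⟩ := Ideal.Quotient.mk_surjective z
    obtain ⟨x, rfl⟩ := Ideal.Quotient.mk_surjective w
    exact ⟨Ideal.Quotient.mk _ x, rfl⟩
  exact ⟨AlgEquiv.extendScalarsOfSurjective Ideal.Quotient.mk_surjective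
    (AlgEquiv.ofBijective f ⟨hinj, hsurj⟩)⟩

end Helpers

/-- If `A` is Henselian at `I`, every finite étale `A/I`-algebra is the base change of a finite étale
`A`-algebra. -/
theorem result (A : Type u) [CommRing A] (I : Ideal A) [HenselianRing A I]
    (C : Type u) [CommRing C] [Algebra (A ⧸ I) C] [Module.Finite (A ⧸ I) C] [Algebra.Etale (A ⧸ I) C] :
    ∃ (B : Type u) (_ : CommRing B) (_ : Algebra A B), Module.Finite A B ∧ Algebra.Etale A B ∧
      Nonempty (TensorProduct A (A ⧸ I) B ≃ₐ[A ⧸ I] C) := by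
  obtain ⟨S, _, _, hSet, ⟨eC⟩⟩ := Groth.Agent.S9436.result A I C
  let q₁ : (S ⧸ I.map (algebraMap A S)) ≃ₐ[A ⧸ I] TensorProduct A (A ⧸ I) S :=
    Algebra.TensorProduct.quotIdealMapEquivQuotTensor S I
  haveI h1 : Module.Finite (A ⧸ I) (S ⧸ I.map (algebraMap A S)) :=
    Module.Finite.equiv (q₁.trans eC).symm.toLinearEquiv
  haveI h2 : Module.Finite A (S ⧸ I.map (algebraMap A S)) := Module.Finite.trans (A ⧸ I) _
  obtain ⟨e, he, heI, hfin⟩ :=
    Groth.Agent.Lib.Helper26.HenselFinPart.exists_idem_finite_part (E := S) I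
  let W := S ⧸ Ideal.span {1 - e}
  haveI : IsLocalization.Away e W := IsLocalization.Away.quotient_of_isIdempotentElem he
  haveI : Algebra.Etale S W := Algebra.Etale.of_isLocalizationAway e
  haveI : Algebra.Etale A W := Algebra.Etale.comp A S W
  obtain ⟨e₁⟩ := quotient_equiv I e heI
  let q₂ : (W ⧸ I.map (algebraMap A W)) ≃ₐ[A ⧸ I] TensorProduct A (A ⧸ I) W :=
    Algebra.TensorProduct.quotIdealMapEquivQuotTensor W I
  exact ⟨W, inferInstance, inferInstance, hfin, inferInstance,
    ⟨q₂.symm.trans (e₁.symm.trans (q₁.trans eC))⟩⟩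

end Groth.Agent.S0532
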