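import Groth.Statements.S0239
-- import your own Groth.Agent.* helpers here
import Groth.Agent.Lib.Helper26FEtAffine
import Groth.Agent.Lib.Helper26HenselLift
import Groth.Agent.Lib.Helper20FEtFaith
import Groth.Agent.S0526
import Groth.Agent.S0532

set_option autoImplicit false
universe u
open Pi1

namespace Groth.Agent.S0239

section Helpers
open AlgebraicGeometry CategoryTheory CategoryTheory.Limits TensorProduct
open Groth.Agent.Lib.Helper26.FEtAffine

variable (A : Type u) [CommRing A] (I : Ideal A) [HenselianRing A I]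

theorem lifting (B C : Type u) [CommRing B] [Algebra A B] [Module.Finite A B]
    [Algebra.Etale A B] [CommRing C] [Algebra A C] [Module.Finite A C] [Algebra.Etale A C]
    (h : C →ₐ[A] (A ⧸ I) ⊗[A] B) : ∃ g : C →ₐ[A] B, ∀ c, (1 : A ⧸ I) ⊗ₜ[A] g c = h c := by
  let J := I.map (algebraMap A B)
  haveI : Algebra.IsIntegral A B := Algebra.IsIntegral.of_finite A B
  haveI : HenselianRing B J := Groth.Agent.S0526.result A I B
  let e : (B ⧸ J) ≃ₐ[A ⧸ I] (A ⧸ I) ⊗[A] B :=
    Algebra.TensorProduct.quotIdealMapEquivQuotTensor B I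
  let σ₀ : C →ₐ[A] B ⧸ J := ((e.symm.toAlgHom).restrictScalars A).comp h
  obtain ⟨g, hg⟩ := Groth.Agent.Lib.Helper26.HenselLift.exists_algHom_lift J σ₀
  refine ⟨g, fun c => ?_⟩
  have h1 : e (Ideal.Quotient.mk J (g c)) = (1 : A ⧸ I) ⊗ₜ[A] g c :=
    Algebra.TensorProduct.quotIdealMapEquivQuotTensor_mk B I (g c)
  rw [← h1, hg c]
  change e (e.symm (h c)) = h c
  exact e.apply_symm_apply _

theorem faithful :
    (FEt.restrict (Spec.map (CommRingCat.ofHom (Ideal.Quotient.mk I)))).Faithful := by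
  apply Groth.Agent.Lib.Helper20.FEtFaith.faithful_of_forall_clopen
  intro Y C hC hsub
  have hY : IsFinite Y.hom ∧ Etale Y.hom := Y.prop
  haveI := hY.1
  by_contra hne
  obtain ⟨y, hy⟩ : (Cᶜ).Nonempty := Set.nonempty_compl.mpr hne
  let f : Y.left ⟶ Spec (CommRingCat.of A) := Y.hom
  have hclosed : IsClosed (f '' Cᶜ) := f.isClosedMap _ hC.2.isClosed_compl
  let x : PrimeSpectrum A := f y
  obtain ⟨m, hm, hxm⟩ := Ideal.exists_le_maximal x.asIdeal x.2.ne_top
  let xm : PrimeSpectrum A := ⟨m, hm.isPrime⟩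
  have hxm_mem : xm ∈ f '' Cᶜ := by
    have h1 : xm ∈ closure {x} := (PrimeSpectrum.le_iff_mem_closure x xm).mp hxm
    exact (hclosed.closure_subset_iff.mpr (Set.singleton_subset_iff.mpr ⟨y, hy, rfl⟩)) h1
  obtain ⟨y', hy', hy'x⟩ := hxm_mem
  have hIm : I ≤ m := by
    have hj : I ≤ Ideal.jacobson ⊥ := HenselianRing.jac
    exact hj.trans (sInf_le ⟨bot_le, hm⟩)
  have hrange : xm ∈ Set.range (Spec.map (CommRingCat.ofHom (Ideal.Quotient.mk I))) := by
    have : Set.range (PrimeSpectrum.comap (Ideal.Quotient.mk I)) = PrimeSpectrum.zeroLocus I := by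
      rw [range_comap_of_surjective _ _ Ideal.Quotient.mk_surjective,
        Ideal.mk_ker]
    have h2 : xm ∈ Set.range (PrimeSpectrum.comap (Ideal.Quotient.mk I)) := by
      rw [this]
      exact hIm
    exact h2
  exact hy' (hsub (show y' ∈ f ⁻¹' Set.range _ from by
    rw [Set.mem_preimage, hy'x]; exact hrange))

theorem main : (FEt.restrict (Spec.map (CommRingCat.ofHom (Ideal.Quotient.mk I)))).IsEquivalence := by
  haveI := faithful A I
  haveI : (FEt.restrict (Spec.map (CommRingCat.ofHom (Ideal.Quotient.mk I)))).Full :=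
    full_of_lifting A (A ⧸ I) (fun B C _ _ _ _ _ _ _ _ h => lifting A I B C h)
  haveI : (FEt.restrict (Spec.map (CommRingCat.ofHom (Ideal.Quotient.mk I)))).EssSurj :=
    essSurj_of_lifting A (A ⧸ I) (fun C _ _ _ _ => by
      obtain ⟨B, i1, i2, i3, i4, ⟨ε⟩⟩ := Groth.Agent.S0532.result A I C
      exact ⟨B, i1, i2, i3, i4, ⟨ε⟩⟩)
  exact { }

end Helpers

open AlgebraicGeometry CategoryTheory CategoryTheory.Limits in
/-- For a henselian pair (A, I) in Mathlib's sense, restricting finite etale covers from Spec A to the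
closed subscheme Spec (A/I) is an equivalence of categories. -/
theorem result (A : Type u) [CommRing A] (I : Ideal A) [HenselianRing A I] :
    (FEt.restrict (Spec.map (CommRingCat.ofHom (Ideal.Quotient.mk I)))).IsEquivalence := by
  exact main A I

end Groth.Agent.S0239
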