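import Groth.Statements.S0268
import Mathlib
import Groth.Agent.Lib.Helper4FEtFull
import Groth.Agent.Lib.Helper20FEtFaith

set_option autoImplicit false
universe u
open Pi1

namespace Groth.Agent.S0268

set_option linter.style.haveILetI false

open AlgebraicGeometry CategoryTheory CategoryTheory.Limits

theorem discrete_of_lqf (k : Type u) [Field k] {Z : Scheme.{u}} (g : Z ⟶ Spec (CommRingCat.of k))
    [LocallyQuasiFinite g] : DiscreteTopology Z := by
  haveI : IsLocallyArtinian (Spec (CommRingCat.of k)) := by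
    rw [Scheme.isLocallyArtinianScheme_Spec]
    infer_instance
  haveI : IsLocallyArtinian Z := .of_locallyQuasiFinite g
  infer_instance

theorem surjective_to_field (k : Type u) [Field k] {X : Scheme.{u}} (f : X ⟶ Spec (CommRingCat.of k))
    [Nonempty X] : Surjective f := by
  refine ⟨fun y => ?_⟩
  obtain ⟨x⟩ := ‹Nonempty X›
  haveI : Subsingleton (Spec (CommRingCat.of k)) :=
    inferInstanceAs (Subsingleton (PrimeSpectrum k))
  exact ⟨x, Subsingleton.elim _ _⟩

theorem exists_geom_point (k : Type u) [Field k] {U : Scheme.{u}} (g : U ⟶ Spec (CommRingCat.of k))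
    [LocallyQuasiFinite g] [LocallyOfFiniteType g] (z : U) :
    ∃ ζ : Spec (CommRingCat.of (AlgebraicClosure k)) ⟶ U,
      ζ ≫ g = Spec.map (CommRingCat.ofHom (algebraMap k (AlgebraicClosure k))) ∧
      Set.range ζ = {z} := by
  let c : Spec (CommRingCat.of (AlgebraicClosure k)) ⟶ Spec (CommRingCat.of k) :=
    Spec.map (CommRingCat.ofHom (algebraMap k (AlgebraicClosure k)))
  haveI : Surjective c := surjective_to_field k c
  obtain ⟨w, hw⟩ := (pullback.fst g c).surjective z
  haveI : DiscreteTopology ↥(pullback g c) :=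
    discrete_of_lqf (AlgebraicClosure k) (pullback.snd g c)
  have hwc : IsClosed ({w} : Set ↥(pullback g c)) := isClosed_discrete _
  refine ⟨pointOfClosedPoint (pullback.snd g c) w hwc ≫ pullback.fst g c, ?_, ?_⟩
  · rw [Category.assoc, pullback.condition, pointOfClosedPoint_comp_assoc]
  · ext y
    simp only [Set.mem_range, Set.mem_singleton_iff]
    constructor
    · rintro ⟨a, rfl⟩
      rw [Scheme.Hom.comp_apply, pointOfClosedPoint_apply, hw]
    · rintro rfl
      exact ⟨default, by rw [Scheme.Hom.comp_apply, pointOfClosedPoint_apply, hw]⟩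

theorem isPreconnected_fibre (k : Type u) [Field k] {X U T : Scheme.{u}}
    (f : X ⟶ Spec (CommRingCat.of k)) (g : U ⟶ Spec (CommRingCat.of k)) [LocallyQuasiFinite g]
    [LocallyOfFiniteType g]
    [ConnectedSpace ↥(pullback f (Spec.map (CommRingCat.ofHom (algebraMap k (AlgebraicClosure k)))))]
    (π : T ⟶ U) (h : T ⟶ X) (H : IsPullback π h g f) (z : U) :
    _root_.IsPreconnected (π ⁻¹' {z}) := by
  obtain ⟨ζ, hζ, hζr⟩ := exists_geom_point k g z
  have H1 : IsPullback (pullback.fst π ζ ≫ h) (pullback.snd π ζ) f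
      (ζ ≫ g) := (IsPullback.of_hasPullback π ζ).paste_horiz H.flip
  rw [hζ] at H1
  have hr : π ⁻¹' {z} = Set.range (H1.isoPullback.inv ≫ pullback.fst π ζ) := by
    rw [← hζr, ← Scheme.Pullback.range_fst, Scheme.Hom.comp_base]
    simp [Set.range_comp]
  rw [hr]
  exact isPreconnected_range (H1.isoPullback.inv ≫ pullback.fst π ζ).continuous

theorem exists_extension (k : Type u) [Field k] {X : Scheme.{u}} (f : X ⟶ Spec (CommRingCat.of k))
    [CompactSpace X]
    [ConnectedSpace ↥(pullback f (Spec.map (CommRingCat.ofHom (algebraMap k (AlgebraicClosure k)))))]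
    {Y Y' : Scheme.{u}} (y : Y ⟶ Spec (CommRingCat.of k)) (y' : Y' ⟶ Spec (CommRingCat.of k))
    [IsFinite y] [Etale y] [IsFinite y'] [Etale y']
    (a : pullback y f ⟶ Y') (ha : a ≫ y' = pullback.fst y f ≫ y) :
    ∃ φ : Y ⟶ Y', φ ≫ y' = y ∧ pullback.fst y f ≫ φ = a := by
  let p₁ : pullback y f ⟶ Y := pullback.fst y f
  let p₂ : pullback y f ⟶ X := pullback.snd y f
  let q₁ : pullback y y' ⟶ Y := pullback.fst y y'
  let q₂ : pullback y y' ⟶ Y' := pullback.snd y y'
  let γ : pullback y f ⟶ pullback y y' := pullback.lift p₁ a ha.symm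
  have hγ1 : γ ≫ q₁ = p₁ := pullback.lift_fst _ _ _
  have hγ2 : γ ≫ q₂ = a := pullback.lift_snd _ _ _
  haveI : DiscreteTopology ↥(pullback y y') := discrete_of_lqf k (q₁ ≫ y)
  let U : (pullback y y').Opens := ⟨Set.range γ, isOpen_discrete _⟩
  let γ' : pullback y f ⟶ U := IsOpenImmersion.lift U.ι γ (by simp [U])
  have hγ' : γ' ≫ U.ι = γ := IsOpenImmersion.lift_fac _ _ _
  let r : (U : Scheme) ⟶ Y := U.ι ≫ q₁
  have hγr : γ' ≫ r = p₁ := by rw [← hγ1, ← hγ', Category.assoc]
  let π₁ : pullback r p₁ ⟶ U := pullback.fst r p₁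
  let π₂ : pullback r p₁ ⟶ pullback y f := pullback.snd r p₁
  let σ : pullback y f ⟶ pullback r p₁ := pullback.lift γ' (𝟙 _) (by rw [hγr, Category.id_comp])
  have hσ1 : σ ≫ π₁ = γ' := pullback.lift_fst _ _ _
  have hσ2 : σ ≫ π₂ = 𝟙 _ := pullback.lift_snd _ _ _
  obtain ⟨C, hC, hC1, hC2⟩ := Groth.Agent.Lib.Helper20.FEtFaith.exists_isClopen_agree π₂ π₂
    (𝟙 _) (π₂ ≫ σ) (Category.id_comp _) (by rw [Category.assoc, hσ2, Category.comp_id])
  have hσC : Set.range σ ⊆ C := hC1 σ (by rw [Category.comp_id, reassoc_of% hσ2])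
  have HT : IsPullback π₁ (π₂ ≫ p₂) (r ≫ y) f :=
    (IsPullback.of_hasPullback r p₁).paste_vert (IsPullback.of_hasPullback y f)
  have hCuniv : C = Set.univ := by
    rw [Set.eq_univ_iff_forall]
    intro t
    have hz : (U.ι (π₁ t)) ∈ Set.range γ := (π₁ t).2
    obtain ⟨w, hw⟩ := hz
    have hw' : γ' w = π₁ t := by
      apply U.ι.injective
      rw [← Scheme.Hom.comp_apply, hγ', hw]
    have hpre := isPreconnected_fibre k f (r ≫ y) π₁ (π₂ ≫ p₂) HT (π₁ t)
    have hsub := hpre.subset_isClopen hC ⟨σ w, by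
      simp only [Set.mem_preimage, Set.mem_singleton_iff]
      rw [← Scheme.Hom.comp_apply, hσ1, hw'], hσC ⟨w, rfl⟩⟩
    exact hsub rfl
  have hid : 𝟙 _ = π₂ ≫ σ := hC2 hCuniv
  haveI : IsIso π₂ := ⟨σ, hid.symm, hσ2⟩
  haveI : Nonempty X := by
    obtain ⟨x⟩ := (inferInstance : Nonempty ↥(pullback f
      (Spec.map (CommRingCat.ofHom (algebraMap k (AlgebraicClosure k))))))
    exact ⟨(pullback.fst f (Spec.map (CommRingCat.ofHom (algebraMap k (AlgebraicClosure k))))) x⟩
  haveI : Surjective f := surjective_to_field k f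
  haveI : Flat f := inferInstance
  haveI : QuasiCompact f := inferInstance
  haveI : IsIso r := MorphismProperty.of_pullback_snd_of_descendsAlong
    (P := MorphismProperty.isomorphisms Scheme) (Q := @Surjective ⊓ @Flat ⊓ @QuasiCompact)
    (f := r) (g := p₁) ⟨⟨inferInstance, inferInstance⟩, inferInstance⟩ ‹IsIso π₂›
  refine ⟨inv r ≫ U.ι ≫ q₂, ?_, ?_⟩
  · rw [Category.assoc, Category.assoc, ← pullback.condition, IsIso.inv_comp_eq]
    simp only [r, Category.assoc, q₁]
  · change p₁ ≫ _ = a
    rw [← hγr, Category.assoc, IsIso.hom_inv_id_assoc, reassoc_of% hγ', hγ2]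

open AlgebraicGeometry CategoryTheory CategoryTheory.Limits in
/-- Functor form of the surjectivity of pi_1(X) -> pi_1(Spec k): Let X be quasi-compact and
quasi-separated over a field k with X_{kbar} connected. Then the functor pulling back finite etale
k-schemes to X is full and faithful. -/
theorem result (k : Type u) [Field k] {X : Scheme.{u}} (f : X ⟶ Spec (CommRingCat.of k)) [CompactSpace X]
    [QuasiSeparatedSpace X]
    [ConnectedSpace ↥(pullback f (Spec.map (CommRingCat.ofHom (algebraMap k (AlgebraicClosure k)))))] :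
    (FEt.restrict f).Full ∧ (FEt.restrict f).Faithful := by
  haveI : Nonempty X := by
    obtain ⟨x⟩ := (inferInstance : Nonempty ↥(pullback f
      (Spec.map (CommRingCat.ofHom (algebraMap k (AlgebraicClosure k))))))
    exact ⟨(pullback.fst f (Spec.map (CommRingCat.ofHom (algebraMap k (AlgebraicClosure k))))) x⟩
  haveI : Surjective f := surjective_to_field k f
  refine ⟨?_, ?_⟩
  · apply Groth.Agent.Lib.Helper4.FEtFull.full_restrict_of_exists_extension
    intro Y Y' a ha
    have hY : IsFinite Y.hom ∧ Etale Y.hom := Y.prop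
    have hY' : IsFinite Y'.hom ∧ Etale Y'.hom := Y'.prop
    haveI := hY.1
    haveI := hY.2
    haveI := hY'.1
    haveI := hY'.2
    exact exists_extension k f Y.hom Y'.hom a ha
  · apply Groth.Agent.Lib.Helper20.FEtFaith.faithful_of_forall_clopen
    intro A C hC hsub
    rw [Set.range_eq_univ.mpr f.surjective, Set.preimage_univ] at hsub
    exact Set.univ_subset_iff.mp hsub

end Groth.Agent.S0268
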