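import Groth.Statements.S5117
import Mathlib
import Groth.Agent.Lib.Helper20HESQuot
import Groth.Agent.Lib.Helper20PurInsepSec

set_option autoImplicit false
universe u
open Pi1

namespace Groth.Agent.S5117
open AlgebraicGeometry CategoryTheory CategoryTheory.Limits

open Groth.Agent.Lib.Helper20.FieldLim Groth.Agent.Lib.Helper20.PurInsep
  Groth.Agent.Lib.Helper20.HES Groth.Agent.Lib.Helper20.GalSpecField

/-- the spectrum of a finite separable subextension as a finite étale cover of `Spec k` -/
theorem finite_etale_sp {k : Type u} [Field k] (E : FinSub k (ksep k)) :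
    IsFinite (sp (ksep k) E) ∧ Etale (sp (ksep k) E) := by
  haveI := E.2
  haveI : Algebra.IsSeparable k (ksep k) := separableClosure.isSeparable k (AlgebraicClosure k)
  haveI : Algebra.IsSeparable k E.1 := Algebra.isSeparable_tower_bot_of_isSeparable k E.1 (ksep k)
  constructor
  · rw [IsFinite.SpecMap_iff]
    exact RingHom.finite_algebraMap.mpr inferInstance
  · rw [HasRingHomProperty.Spec_iff (P := @Etale)]
    haveI : Algebra.FormallyEtale k E.1 := Algebra.FormallyEtale.of_isSeparable k E.1
    haveI : Algebra.FinitePresentation k E.1 :=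
      Algebra.FinitePresentation.of_finiteType.mp inferInstance
    haveI : Algebra.Etale k E.1 := ⟨inferInstance, inferInstance⟩
    exact RingHom.etale_algebraMap.mpr inferInstance


open AlgebraicGeometry CategoryTheory CategoryTheory.Limits in
/-- (ii bis) ⇒ (i), over a field. Let k be a field with algebraic closure k̄, X a quasi-compact and
quasi-separated k-scheme such that X ×_k k̄ is connected, and X' a connected finite etale cover of
X. If the induced cover X' ×_k k̄ → X ×_k k̄ admits a section, then X' is isomorphic over X to X ×_k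
S' for some finite etale k-scheme S'. (The published statement allows the spectrum of an Artinian
local ring with residue field k as base and asks only that X be quasi-compact; this row takes a
field and X quasi-compact and quasi-separated.) -/
theorem result (k : Type u) [Field k] {X : Scheme.{u}}
    (f : X ⟶ Spec (CommRingCat.of k)) [CompactSpace X] [QuasiSeparatedSpace X]
    [ConnectedSpace ↥(pullback f (Spec.map (CommRingCat.ofHom (algebraMap k (AlgebraicClosure k)))))]
    (X' : FEt.Cat X) [ConnectedSpace X'.left]
    (σ : pullback f (Spec.map (CommRingCat.ofHom (algebraMap k (AlgebraicClosure k)))) ⟶ X'.left)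
    (hσ : σ ≫ X'.hom = pullback.fst f (Spec.map (CommRingCat.ofHom (algebraMap k (AlgebraicClosure k))))) :
    ∃ S' : FEt.Cat (Spec (CommRingCat.of k)), Nonempty ((FEt.restrict f).obj S' ≅ X') := by
  have hX' : IsFinite X'.hom ∧ Etale X'.hom := X'.prop
  haveI := hX'.1
  haveI := hX'.2
  let g' : X'.left ⟶ X := X'.hom
  obtain ⟨a, ha, hta⟩ := exists_descend_sep k f g' σ hσ
  obtain ⟨E, aE, haE1, haE2⟩ := exists_factor (ksep k) f g' a ha
  let T : FEt.Cat (Spec (CommRingCat.of k)) :=
    MorphismProperty.Over.mk ⊤ (sp (ksep k) E) (finite_etale_sp E)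
  let a' : (FEt.restrict f).obj T ⟶ X' :=
    MorphismProperty.Over.homMk ((pullbackSymmetry (sp (ksep k) E) f).hom ≫ aE) (by
      change ((pullbackSymmetry (sp (ksep k) E) f).hom ≫ aE) ≫ g' = pullback.snd (sp (ksep k) E) f
      rw [Category.assoc, haE2, pullbackSymmetry_hom_comp_fst]) trivial
  refine exists_iso_restrict f T X' a' ?_
  have hop : IsOpen (Set.range a'.left) := a'.left.isOpenMap.isOpen_range
  have hcl : IsClosed (Set.range a'.left) := a'.left.isClosedMap.isClosed_range
  have hne : (Set.range a'.left).Nonempty := by
    obtain ⟨x₀⟩ : Nonempty ↥(pullback f (xi k)) := inferInstance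
    exact ⟨_, ⟨(pullbackSymmetry (sp (ksep k) E) f).inv (pr (ksep k) f E (toSep k f x₀)), rfl⟩⟩
  have := IsClopen.eq_univ ⟨hcl, hop⟩ hne
  exact Set.range_eq_univ.mp this

end Groth.Agent.S5117
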