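import Groth.Statements.S9207
import Mathlib
import Groth.Agent.Lib.Helper7Lim
import Groth.Agent.Lib.Helper7LimComp

set_option autoImplicit false
universe u
open CategoryTheory CategoryTheory.Limits AlgebraicGeometry
open Lim

namespace Groth.Agent.S9207

open CategoryTheory CategoryTheory.Limits AlgebraicGeometry TopologicalSpace

/-- Let S = lim S_i be a cofiltered limit of quasi-compact quasi-separated schemes with affine
transition morphisms, let i be an index and T → S_i a morphism of schemes with T quasi-compact. If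
the fibre product T ×_{S_i} S is empty, then T ×_{S_i} S_{i'} is empty for some index i' over i (and
then for every index over i'). -/
theorem result {I : Type u} [SmallCategory I] [IsCofiltered I]
    (D : I ⥤ Scheme.{u}) (c : Limits.Cone D) (hc : Limits.IsLimit c)
    [∀ (i j : I) (f : i ⟶ j), IsAffineHom (D.map f)] [∀ i, CompactSpace (D.obj i)]
    [∀ i, QuasiSeparatedSpace (D.obj i)] (i : I) {T : Scheme.{u}} (a : T ⟶ D.obj i) [CompactSpace T]
    (h : IsEmpty ↥(pullback a (c.π.app i))) :
    ∃ (i' : I) (φ : i' ⟶ i), IsEmpty ↥(pullback a (D.map φ)) := by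
  rw [Scheme.isEmpty_pullback_iff] at h
  by_contra H
  push_neg at H
  let 𝒰 := T.affineCover.finiteSubcover
  have hfin : Finite 𝒰.I₀ := inferInstance
  have (m : 𝒰.I₀) : IsAffine (𝒰.X m) := inferInstanceAs (IsAffine (Spec _))
  let Q : 𝒰.I₀ → Over i → Prop := fun m j =>
    Disjoint (Set.range (𝒰.f m ≫ a)) (Set.range (D.map j.hom))
  have hmono : ∀ m (j k : Over i) (_ : j ⟶ k), Q m k → Q m j := by
    intro m j k f hk
    refine hk.mono_right ?_
    rintro _ ⟨x, rfl⟩
    refine ⟨D.map f.left x, ?_⟩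
    rw [← Scheme.Hom.comp_apply, ← D.map_comp, Over.w f]
  -- some m with all stages meeting
  obtain ⟨m, hm⟩ : ∃ m, ∀ k : Over i, ¬ Q m k := by
    by_contra hcon
    push_neg at hcon
    obtain ⟨k, -, hk⟩ := Groth.Agent.Lib.Helper7.exists_forall_of_finite (I := Over i)
      (Set.univ : Set 𝒰.I₀) Set.finite_univ Q
      (fun p _ => by
        obtain ⟨k, hk⟩ := hcon p
        exact ⟨k, fun j f => hmono p j k f hk⟩) (Over.mk (𝟙 i))
    have hH := H k.left k.hom
    rw [← not_isEmpty_iff] at hH
    apply hH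
    rw [Scheme.isEmpty_pullback_iff, Set.disjoint_left]
    rintro _ ⟨t, rfl⟩ hy
    obtain ⟨t', ht'⟩ := 𝒰.covers t
    have := hk (𝒰.idx t) (Set.mem_univ _) k (𝟙 k)
    refine Set.disjoint_left.mp this ⟨t', ?_⟩ hy
    rw [Scheme.Hom.comp_apply, ht']
  obtain ⟨x, t', ht'⟩ := Groth.Agent.Lib.Helper7.exists_π_app_mem_range D c hc (𝒰.f m ≫ a) (by
    intro j φ
    have := hm (Over.mk φ)
    rw [← not_isEmpty_iff, Scheme.isEmpty_pullback_iff, disjoint_comm]
    exact this)
  refine Set.disjoint_left.mp h ⟨𝒰.f m t', ?_⟩ ⟨x, rfl⟩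
  rw [← ht', Scheme.Hom.comp_apply]

end Groth.Agent.S9207
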