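import Groth.Statements.S4817
import Mathlib
import Groth.Agent.Lib.Helper22LimOpenImm

set_option autoImplicit false
universe u
open CategoryTheory AlgebraicGeometry
open Lim8

namespace Groth.Agent.S4817

open CategoryTheory CategoryTheory.Limits AlgebraicGeometry TopologicalSpace
open Groth.Agent.Lib.Helper22.LimBC Groth.Agent.Lib.Helper22.LimOpenImm

/-- base change along a composite. -/
lemma isOpenImmersion_snd_comp {A B C Z : Scheme.{u}} (a : Z ⟶ C) (g : B ⟶ C) (h : A ⟶ B)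
    (H : IsOpenImmersion (pullback.snd a g)) : IsOpenImmersion (pullback.snd a (h ≫ g)) := by
  have hw : pullback.fst a (h ≫ g) ≫ a = (pullback.snd a (h ≫ g) ≫ h) ≫ g := by
    rw [Category.assoc]; exact pullback.condition
  let l : pullback a (h ≫ g) ⟶ pullback a g :=
    pullback.lift (pullback.fst a (h ≫ g)) (pullback.snd a (h ≫ g) ≫ h) hw
  have s : IsPullback (l ≫ pullback.fst a g) (pullback.snd a (h ≫ g)) a (h ≫ g) := by
    rw [pullback.lift_fst]
    exact IsPullback.of_hasPullback a (h ≫ g)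
  have hpb : IsPullback l (pullback.snd a (h ≫ g)) (pullback.snd a g) h :=
    IsPullback.of_right s (pullback.lift_snd _ _ _) (IsPullback.of_hasPullback a g)
  exact MorphismProperty.of_isPullback (P := @IsOpenImmersion) hpb H

/-- restriction of a base change = base change of restrictions. -/
lemma isOpenImmersion_snd_restrict_iff {X Y Z₀ : Scheme.{u}} (ι₀ : Z₀ ⟶ Y) (π : X ⟶ Y)
    (W : Y.Opens) :
    IsOpenImmersion (pullback.snd (ι₀ ∣_ W) (π ∣_ W)) ↔
      IsOpenImmersion ((pullback.snd ι₀ π) ∣_ (π ⁻¹ᵁ W)) := by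
  have s1 : IsPullback (pullback.fst (ι₀ ∣_ W) (π ∣_ W) ≫ (ι₀ ⁻¹ᵁ W).ι)
      (pullback.snd (ι₀ ∣_ W) (π ∣_ W)) ι₀ ((π ∣_ W) ≫ W.ι) :=
    ((IsPullback.of_hasPullback (ι₀ ∣_ W) (π ∣_ W)).flip.paste_vert
      (isPullback_morphismRestrict ι₀ W)).flip
  have s2 : IsPullback (((pullback.snd ι₀ π) ⁻¹ᵁ (π ⁻¹ᵁ W)).ι ≫ pullback.fst ι₀ π)
      ((pullback.snd ι₀ π) ∣_ (π ⁻¹ᵁ W)) ι₀ ((π ⁻¹ᵁ W).ι ≫ π) :=
    ((isPullback_morphismRestrict (pullback.snd ι₀ π) (π ⁻¹ᵁ W)).paste_vert
      (IsPullback.of_hasPullback ι₀ π).flip).flip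
  rw [morphismRestrict_ι] at s1
  have he : (s1.isoIsPullback _ _ s2).hom ≫ ((pullback.snd ι₀ π) ∣_ (π ⁻¹ᵁ W)) =
      pullback.snd (ι₀ ∣_ W) (π ∣_ W) := IsPullback.isoIsPullback_hom_snd _ _ s1 s2
  rw [← he]
  exact MorphismProperty.cancel_left_of_respectsIso @IsOpenImmersion _ _

set_option backward.isDefEq.respectTransparency.types false in
lemma loc {I : Type u} [SmallCategory I] [IsCofiltered I]
    (D : I ⥤ Scheme.{u}) (c : Limits.Cone D) (hc : Limits.IsLimit c)
    [∀ (i j : I) (f : i ⟶ j), IsAffineHom (D.map f)] (i₀ : I)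
    {Z₀ : Scheme.{u}} (ι₀ : Z₀ ⟶ D.obj i₀) [IsImmersion ι₀] [LocallyOfFinitePresentation ι₀]
    [QuasiCompact ι₀] (h : IsOpenImmersion (pullback.snd ι₀ (c.π.app i₀)))
    (W : (D.obj i₀).Opens) (hW : IsAffineOpen W) :
    ∃ k : Over i₀, ∀ (k' : Over i₀) (_ : k' ⟶ k),
      IsOpenImmersion ((pullback.snd ι₀ (D.map k'.hom)) ∣_ (D.map k'.hom ⁻¹ᵁ W)) := by
  have inst : ∀ {i j : I} (f : i ⟶ j), IsAffineHom (D.map f) := fun f => inferInstance
  have haff (k : Over i₀) : IsAffine ((opensDiagram D i₀ W).obj k) := hW.preimage (D.map k.hom)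
  have hcs (k : Over i₀) : CompactSpace ((opensDiagram D i₀ W).obj k) := inferInstance
  have hqs (k : Over i₀) : QuasiSeparatedSpace ((opensDiagram D i₀ W).obj k) := inferInstance
  let tW : opensDiagram D i₀ W ⟶ (Functor.const (Over i₀)).obj (W : Scheme.{u}) :=
    { app := fun k => (D.map k.hom) ∣_ W
      naturality := fun k l f => by
        show (D.map f.left).resLE _ _ _ ≫ ((D.map l.hom) ∣_ W) = ((D.map k.hom) ∣_ W) ≫ 𝟙 _
        rw [Category.comp_id, ← cancel_mono W.ι, Category.assoc, morphismRestrict_ι,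
          Scheme.Hom.resLE_comp_ι_assoc, morphismRestrict_ι, ← D.map_comp, Over.w f] }
  have hτ : ∀ k, ((opensCone D c i₀ W).π.app k ≫ tW.app k :
      ((opensCone D c i₀ W).pt ⟶ (W : Scheme.{u}))) = (c.π.app i₀) ∣_ W := by
    intro k
    show (c.π.app k.left).resLE _ _ _ ≫ ((D.map k.hom) ∣_ W) = (c.π.app i₀) ∣_ W
    rw [← cancel_mono W.ι, Category.assoc, morphismRestrict_ι,
      Scheme.Hom.resLE_comp_ι_assoc, morphismRestrict_ι, c.w]
  have h1 : IsOpenImmersion ((pullback.snd ι₀ (c.π.app i₀)) ∣_ (c.π.app i₀ ⁻¹ᵁ W)) :=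
    IsZariskiLocalAtTarget.restrict (P := @IsOpenImmersion) h _
  have h2 : IsOpenImmersion (pullback.snd (ι₀ ∣_ W) ((c.π.app i₀) ∣_ W)) :=
    (isOpenImmersion_snd_restrict_iff ι₀ (c.π.app i₀) W).mpr h1
  have i1 : IsImmersion (ι₀ ∣_ W) := IsZariskiLocalAtTarget.restrict (P := @IsImmersion) inferInstance W
  have i2 : LocallyOfFinitePresentation (ι₀ ∣_ W) :=
    IsZariskiLocalAtTarget.restrict (P := @LocallyOfFinitePresentation) inferInstance W
  have i3 : QuasiCompact (ι₀ ∣_ W) :=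
    IsZariskiLocalAtTarget.restrict (P := @QuasiCompact) inferInstance W
  obtain ⟨k, hk⟩ := exists_isOpenImmersion_aux (opensDiagram D i₀ W) tW (opensCone D c i₀ W)
    (isLimitOpensCone D c hc i₀ W) (ι₀ ∣_ W) ((c.π.app i₀) ∣_ W) hτ h2
  refine ⟨k, fun k' f => ?_⟩
  rw [← isOpenImmersion_snd_restrict_iff]
  have hnat : (opensDiagram D i₀ W).map f ≫ tW.app k = tW.app k' := by
    have := tW.naturality f
    rw [this]; exact Category.comp_id _
  have := isOpenImmersion_snd_comp (ι₀ ∣_ W) (tW.app k) ((opensDiagram D i₀ W).map f) hk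
  rw [hnat] at this
  exact this

set_option backward.isDefEq.respectTransparency.types false in

open CategoryTheory.Limits in
/-- Let S = lim S_i be a cofiltered limit of schemes with affine transition maps and S_{i₀} a
quasi-compact stage; let ι₀ : Z₀ ⟶ S_{i₀} be a subscheme of finite presentation (an immersion which
is locally of finite presentation and quasi-compact). Then the base change Z₀ ×_{S_{i₀}} S ⟶ S of ι₀
is an open immersion if and only if, for some index j over i₀, the base change Z₀ ×_{S_{i₀}} S_j ⟶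
S_j is an open immersion. This is the case of open subschemes. -/
theorem result {I : Type u} [SmallCategory I] [IsCofiltered I]
    (D : I ⥤ Scheme.{u}) (c : Limits.Cone D) (hc : Limits.IsLimit c)
    [∀ (i j : I) (f : i ⟶ j), IsAffineHom (D.map f)] (i₀ : I) [CompactSpace (D.obj i₀)]
    {Z₀ : Scheme.{u}} (ι₀ : Z₀ ⟶ D.obj i₀) [IsImmersion ι₀] [LocallyOfFinitePresentation ι₀] [QuasiCompact ι₀] :
    IsOpenImmersion (pullback.snd ι₀ (c.π.app i₀)) ↔
      ∃ (j : I) (φ : j ⟶ i₀), IsOpenImmersion (pullback.snd ι₀ (D.map φ)) := by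
  have inst : ∀ {i j : I} (f : i ⟶ j), IsAffineHom (D.map f) := fun f => inferInstance
  have hP := IsPullback.of_hasPullback ι₀ (c.π.app i₀)
  constructor
  · intro h
    have key : ∃ k : Over i₀, ∀ (k' : Over i₀) (_ : k' ⟶ k) (x : D.obj k'.left),
        D.map k'.hom x ∈ (Set.univ : Set (D.obj i₀)) → ∃ O : (D.obj k'.left).Opens, x ∈ O ∧
          IsOpenImmersion ((pullback.snd ι₀ (D.map k'.hom)) ∣_ O) := by
      refine isCompact_univ.induction_on (p := fun K => ∃ k : Over i₀,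
        ∀ (k' : Over i₀) (_ : k' ⟶ k) (x : D.obj k'.left), D.map k'.hom x ∈ K →
          ∃ O : (D.obj k'.left).Opens, x ∈ O ∧
            IsOpenImmersion ((pullback.snd ι₀ (D.map k'.hom)) ∣_ O)) ?_ ?_ ?_ ?_
      · exact ⟨Over.mk (𝟙 i₀), fun k' _ x hx => hx.elim⟩
      · rintro s s' hss' ⟨k, hk⟩
        exact ⟨k, fun k' g x hx => hk k' g x (hss' hx)⟩
      · rintro s s' ⟨k₁, h₁⟩ ⟨k₂, h₂⟩
        refine ⟨IsCofiltered.min k₁ k₂, fun k' g x hx => ?_⟩
        rcases hx with hx | hx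
        · exact h₁ k' (g ≫ IsCofiltered.minToLeft k₁ k₂) x hx
        · exact h₂ k' (g ≫ IsCofiltered.minToRight k₁ k₂) x hx
      · intro y _
        obtain ⟨_, ⟨W, hW : IsAffineOpen W, rfl⟩, hyW, -⟩ :=
          (D.obj i₀).isBasis_affineOpens.exists_subset_of_mem_open (Set.mem_univ y) isOpen_univ
        refine ⟨W, mem_nhdsWithin_of_mem_nhds (W.isOpen.mem_nhds hyW), ?_⟩
        obtain ⟨k, hk⟩ := loc D c hc i₀ ι₀ h W hW
        exact ⟨k, fun k' g x hx => ⟨D.map k'.hom ⁻¹ᵁ W, hx, hk k' g⟩⟩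
    obtain ⟨k, hk⟩ := key
    refine ⟨k.left, k.hom, ?_⟩
    exact IsZariskiLocalAtTarget.of_forall_exists_morphismRestrict (P := @IsOpenImmersion)
      (fun x => hk k (𝟙 k) x trivial)
  · rintro ⟨j, φ, h⟩
    exact MorphismProperty.of_isPullback (P := @IsOpenImmersion)
      (isPullback_bcπ i₀ hP (Over.mk φ)) h

end Groth.Agent.S4817
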