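import Groth.Statements.S9193
-- import your own Groth.Agent.* helpers here
import Mathlib
import Groth.Agent.Lib.Helper26LimDescend
import Groth.Agent.Lib.Helper22LimClosed

set_option autoImplicit false
universe u
open CategoryTheory AlgebraicGeometry
open Lim

namespace Groth.Agent.S9193

open Limits Groth.Agent.Lib.Helper26.LimDescend Groth.Agent.Lib.Helper22.LimBC

/-- Auxiliary step: once `f` factors as a closed immersion into the preimage of a compact open `Wk`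
of a stage `Y_k` through which `X_k ⟶ Y_k` factors, descend the closed immersion. -/
theorem exists_isImmersion_bcMor_aux {I : Type u} [SmallCategory I] [IsCofiltered I]
    (D : I ⥤ Scheme.{u}) (c : Cone D) (hc : IsLimit c)
    [∀ (i j : I) (f : i ⟶ j), IsAffineHom (D.map f)] (i₀ : I)
    {X₀ Y₀ : Scheme.{u}} (f₀ : X₀ ⟶ Y₀) (g₀ : Y₀ ⟶ D.obj i₀)
    [CompactSpace X₀] [QuasiSeparatedSpace X₀] [CompactSpace Y₀] [QuasiSeparatedSpace Y₀]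
    [LocallyOfFiniteType f₀]
    {X Y : Scheme.{u}} (f : X ⟶ Y) (g : Y ⟶ c.pt) (qY : Y ⟶ Y₀) (qX : X ⟶ X₀)
    (hY : IsPullback qY g g₀ (c.π.app i₀)) (hX : IsPullback qX f f₀ qY)
    (k : Over i₀) (Wk : ((bcDiagram D i₀ g₀).obj k).Opens)
    (hWkc : IsCompact (Wk : Set ((bcDiagram D i₀ g₀).obj k)))
    (h1 : bcMor D i₀ f₀ g₀ k ⁻¹ᵁ Wk = ⊤)
    (f' : X ⟶ (bcπ i₀ hY k ⁻¹ᵁ Wk : Y.Opens)) (hf' : f' ≫ (bcπ i₀ hY k ⁻¹ᵁ Wk).ι = f)
    [IsClosedImmersion f'] :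
    ∃ l : Over i₀, IsImmersion (bcMor D i₀ f₀ g₀ l) := by
  have inst : ∀ {i j : I} (f : i ⟶ j), IsAffineHom (D.map f) := fun f => inferInstance
  -- factor the stage morphism through `Wk`
  have hr1 : Set.range (bcMor D i₀ f₀ g₀ k) ⊆ Set.range Wk.ι := by
    rw [Scheme.Opens.range_ι]
    rintro _ ⟨x, rfl⟩
    have : x ∈ bcMor D i₀ f₀ g₀ k ⁻¹ᵁ Wk := h1 ▸ trivial
    exact this
  have hfac := IsOpenImmersion.lift_fac Wk.ι (bcMor D i₀ f₀ g₀ k) hr1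
  -- pullback squares
  have hY0 : IsPullback ((bcπ i₀ hY k) ∣_ Wk) (bcπ i₀ hY k ⁻¹ᵁ Wk).ι Wk.ι (bcπ i₀ hY k) :=
    isPullback_morphismRestrict (bcπ i₀ hY k) Wk
  have hY' : IsPullback ((bcπ i₀ hY k) ∣_ Wk) ((bcπ i₀ hY k ⁻¹ᵁ Wk).ι ≫ g)
      (Wk.ι ≫ dSnd D i₀ g₀ k) (c.π.app k.left) := hY0.paste_vert (isPullback_bcπ i₀ hY k)
  have hX' : IsPullback (bcπ i₀ (hX.paste_vert hY) k) f'
      (IsOpenImmersion.lift Wk.ι (bcMor D i₀ f₀ g₀ k) hr1) ((bcπ i₀ hY k) ∣_ Wk) := by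
    refine IsPullback.of_bot ?_ ?_ hY0
    · rw [hfac, hf']
      exact isPullback_bcπ_bcMor hY hX k
    · rw [← cancel_mono Wk.ι, Category.assoc, Category.assoc, hfac, morphismRestrict_ι,
        reassoc_of% hf', bcπ_bcMor hY hX k]
  have hWkcs : CompactSpace ((Wk : ((bcDiagram D i₀ g₀).obj k).Opens) : Scheme.{u}) :=
    isCompact_iff_compactSpace.mp hWkc
  have hWkqs : QuasiSeparatedSpace ((Wk : ((bcDiagram D i₀ g₀).obj k).Opens) : Scheme.{u}) :=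
    quasiSeparatedSpace_of_quasiSeparated Wk.ι
  have i1 : LocallyOfFiniteType (bcMor D i₀ f₀ g₀ k) :=
    MorphismProperty.of_isPullback (P := @LocallyOfFiniteType)
      (isPullback_bcMor D i₀ f₀ g₀ k) inferInstance
  have i1' : LocallyOfFiniteType
      (IsOpenImmersion.lift Wk.ι (bcMor D i₀ f₀ g₀ k) hr1 ≫ Wk.ι) := by rw [hfac]; exact i1
  have i1'' : LocallyOfFiniteType (IsOpenImmersion.lift Wk.ι (bcMor D i₀ f₀ g₀ k) hr1) :=
    locallyOfFiniteType_of_comp _ Wk.ι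
  obtain ⟨l, φ, Xl, Yl, fl, gl, pY, pX, hpY, hpX, hfl⟩ :=
    descend_of_affCase (P := @IsClosedImmersion) (fun f hf => by
      have : IsClosedImmersion f := hf
      infer_instance) (affCase_isClosedImmersion hc) hc k.left
      (IsOpenImmersion.lift Wk.ι (bcMor D i₀ f₀ g₀ k) hr1) (Wk.ι ≫ dSnd D i₀ g₀ k)
      f' ((bcπ i₀ hY k ⁻¹ᵁ Wk).ι ≫ g) ((bcπ i₀ hY k) ∣_ Wk) (bcπ i₀ (hX.paste_vert hY) k)
      hY' hX' inferInstance
  -- the new stage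
  refine ⟨Over.mk (φ ≫ k.hom), ?_⟩
  have hu : (Over.mk (φ ≫ k.hom)).hom = φ ≫ k.hom := rfl
  let u : Over.mk (φ ≫ k.hom) ⟶ k := Over.homMk φ rfl
  have hul : u.left = φ := rfl
  have hr2 : Set.range (bcMor D i₀ f₀ g₀ (Over.mk (φ ≫ k.hom))) ⊆
      Set.range ((bcDiagram D i₀ g₀).map u ⁻¹ᵁ Wk).ι := by
    rw [Scheme.Opens.range_ι]
    rintro _ ⟨x, rfl⟩
    have hx : (bcDiagram D i₀ (f₀ ≫ g₀)).map u x ∈ bcMor D i₀ f₀ g₀ k ⁻¹ᵁ Wk := h1 ▸ trivial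
    have : x ∈ ((bcDiagram D i₀ (f₀ ≫ g₀)).map u ≫ bcMor D i₀ f₀ g₀ k) ⁻¹ᵁ Wk := hx
    rw [map_bcMor] at this
    exact this
  have hfac2 := IsOpenImmersion.lift_fac ((bcDiagram D i₀ g₀).map u ⁻¹ᵁ Wk).ι
    (bcMor D i₀ f₀ g₀ (Over.mk (φ ≫ k.hom))) hr2
  have hT0 : IsPullback ((bcDiagram D i₀ g₀).map u ∣_ Wk)
      ((bcDiagram D i₀ g₀).map u ⁻¹ᵁ Wk).ι Wk.ι ((bcDiagram D i₀ g₀).map u) :=
    isPullback_morphismRestrict _ Wk
  have S2 : IsPullback ((bcDiagram D i₀ (f₀ ≫ g₀)).map u)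
      (IsOpenImmersion.lift ((bcDiagram D i₀ g₀).map u ⁻¹ᵁ Wk).ι
        (bcMor D i₀ f₀ g₀ (Over.mk (φ ≫ k.hom))) hr2)
      (IsOpenImmersion.lift Wk.ι (bcMor D i₀ f₀ g₀ k) hr1)
      ((bcDiagram D i₀ g₀).map u ∣_ Wk) := by
    refine IsPullback.of_bot ?_ ?_ hT0
    · rw [hfac, hfac2]
      exact isPullback_map_bcMor D i₀ f₀ g₀ u
    · rw [← cancel_mono Wk.ι, Category.assoc, Category.assoc, hfac, morphismRestrict_ι,
        reassoc_of% hfac2, map_bcMor]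
  have hw : ((bcDiagram D i₀ g₀).map u ∣_ Wk) ≫ Wk.ι ≫ dSnd D i₀ g₀ k =
      (((bcDiagram D i₀ g₀).map u ⁻¹ᵁ Wk).ι ≫ dSnd D i₀ g₀ (Over.mk (φ ≫ k.hom))) ≫ D.map φ := by
    rw [← Category.assoc, morphismRestrict_ι, Category.assoc, map_dSnd, hul, Category.assoc]
  have hcl : IsClosedImmersion (IsOpenImmersion.lift ((bcDiagram D i₀ g₀).map u ⁻¹ᵁ Wk).ι
        (bcMor D i₀ f₀ g₀ (Over.mk (φ ≫ k.hom))) hr2) :=
    of_two_pullbacks @IsClosedImmersion S2 hpX (hpY.lift _ _ hw) (hpY.lift_fst _ _ hw) hfl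
  rw [← hfac2]
  infer_instance

/-- Let S = lim S_i be a cofiltered limit of schemes with affine transition morphisms, S_{i₀} a
quasi-compact quasi-separated stage, f₀ : X₀ → Y₀ a morphism of quasi-compact quasi-separated
schemes over S_{i₀}, and f : X → Y its base change along S → S_{i₀} (base changes expressed by
pullback squares). If f₀ is locally of finite type and f is an immersion, then for some index i over
i₀ the base change f_i : X_i → Y_i of f₀ along S_i → S_{i₀} is an immersion. -/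
theorem result {I : Type u} [SmallCategory I] [IsCofiltered I]
    (D : I ⥤ Scheme.{u}) (c : Limits.Cone D) (hc : Limits.IsLimit c)
    [∀ (i j : I) (f : i ⟶ j), IsAffineHom (D.map f)] (i₀ : I) [CompactSpace (D.obj i₀)]
    [QuasiSeparatedSpace (D.obj i₀)] {X₀ Y₀ : Scheme.{u}} (f₀ : X₀ ⟶ Y₀) (g₀ : Y₀ ⟶ D.obj i₀)
    [CompactSpace X₀] [QuasiSeparatedSpace X₀] [CompactSpace Y₀] [QuasiSeparatedSpace Y₀]
    [LocallyOfFiniteType f₀]
    {X Y : Scheme.{u}} (f : X ⟶ Y) (g : Y ⟶ c.pt) (qY : Y ⟶ Y₀) (qX : X ⟶ X₀)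
    (hY : IsPullback qY g g₀ (c.π.app i₀)) (hX : IsPullback qX f f₀ qY) [IsImmersion f] :
    ∃ (i : I) (φ : i ⟶ i₀) (Xi Yi : Scheme.{u}) (fi : Xi ⟶ Yi) (gi : Yi ⟶ D.obj i) (pY : Yi ⟶ Y₀)
      (pX : Xi ⟶ X₀), IsPullback pY gi g₀ (D.map φ) ∧ IsPullback pX fi f₀ pY ∧ IsImmersion fi := by
  have inst : ∀ {i j : I} (f : i ⟶ j), IsAffineHom (D.map f) := fun f => inferInstance
  have hπ : IsAffineHom (c.π.app i₀) := isAffineHom_π_app D c hc i₀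
  have hqY : IsAffineHom qY := MorphismProperty.of_isPullback (P := @IsAffineHom) hY.flip hπ
  have hqX : IsAffineHom qX := MorphismProperty.of_isPullback (P := @IsAffineHom) hX.flip hqY
  have hXc : CompactSpace X := QuasiCompact.compactSpace_of_compactSpace qX
  have hcY := isLimitBcCone i₀ hY hc
  have hcX := isLimitBcCone i₀ (hX.paste_vert hY) hc
  have hK : IsCompact (Set.range f) := isCompact_range f.continuous
  obtain ⟨W, hWc, hfW, hWV⟩ := Groth.Agent.Lib.Helper22.LimClosed.exists_compact_open_between Y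
    (Set.range f) (coborder (Set.range f)) hK
    f.isLocallyClosed_range.isOpen_coborder subset_coborder
  obtain ⟨j, Wj, hWjc, hWj⟩ := exists_preimage_eq (bcDiagram D i₀ g₀) (bcCone i₀ hY) hcY W hWc
  have hTop : (bcCone i₀ (hX.paste_vert hY)).π.app j ⁻¹ᵁ ((bcMor D i₀ f₀ g₀ j) ⁻¹ᵁ Wj) = ⊤ := by
    show bcπ i₀ (hX.paste_vert hY) j ⁻¹ᵁ ((bcMor D i₀ f₀ g₀ j) ⁻¹ᵁ Wj) = ⊤
    rw [← Scheme.Hom.comp_preimage, bcπ_bcMor hY hX j, Scheme.Hom.comp_preimage]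
    have : bcπ i₀ hY j ⁻¹ᵁ Wj = W := hWj
    rw [this, eq_top_iff]
    intro x _
    exact hfW ⟨x, rfl⟩
  obtain ⟨k, a, hk⟩ := exists_map_eq_top (bcDiagram D i₀ (f₀ ≫ g₀))
    (bcCone i₀ (hX.paste_vert hY)) hcX ((bcMor D i₀ f₀ g₀ j) ⁻¹ᵁ Wj) hTop
  have h2 : bcπ i₀ hY k ⁻¹ᵁ ((bcDiagram D i₀ g₀).map a ⁻¹ᵁ Wj) = W := by
    rw [← Scheme.Hom.comp_preimage, bcπ_map]
    exact hWj
  subst h2
  have hr : Set.range f ⊆ Set.range (bcπ i₀ hY k ⁻¹ᵁ ((bcDiagram D i₀ g₀).map a ⁻¹ᵁ Wj)).ι := by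
    rw [Scheme.Opens.range_ι]
    exact hfW
  have hfac := IsOpenImmersion.lift_fac
    (bcπ i₀ hY k ⁻¹ᵁ ((bcDiagram D i₀ g₀).map a ⁻¹ᵁ Wj)).ι f hr
  have hle : bcπ i₀ hY k ⁻¹ᵁ ((bcDiagram D i₀ g₀).map a ⁻¹ᵁ Wj) ≤ f.coborderRange := hWV
  have hcl : IsClosedImmersion (IsOpenImmersion.lift
      (bcπ i₀ hY k ⁻¹ᵁ ((bcDiagram D i₀ g₀).map a ⁻¹ᵁ Wj)).ι f hr) := by
    have e : IsOpenImmersion.lift
        (bcπ i₀ hY k ⁻¹ᵁ ((bcDiagram D i₀ g₀).map a ⁻¹ᵁ Wj)).ι f hr ≫ Y.homOfLE hle =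
        f.liftCoborder := by
      rw [← cancel_mono f.coborderRange.ι, Category.assoc, Scheme.homOfLE_ι, hfac,
        Scheme.Hom.liftCoborder_ι]
    have : IsClosedImmersion (IsOpenImmersion.lift
        (bcπ i₀ hY k ⁻¹ᵁ ((bcDiagram D i₀ g₀).map a ⁻¹ᵁ Wj)).ι f hr ≫ Y.homOfLE hle) := by
      rw [e]; infer_instance
    exact IsClosedImmersion.of_comp _ (Y.homOfLE hle)
  obtain ⟨l, hl⟩ := exists_isImmersion_bcMor_aux D c hc i₀ f₀ g₀ f g qY qX hY hX k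
    ((bcDiagram D i₀ g₀).map a ⁻¹ᵁ Wj)
    (QuasiCompact.isCompact_preimage (f := (bcDiagram D i₀ g₀).map a) _ Wj.2 hWjc)
    (by rw [← Scheme.Hom.comp_preimage, ← map_bcMor, Scheme.Hom.comp_preimage]; exact hk)
    _ hfac
  exact ⟨l.left, l.hom, _, _, bcMor D i₀ f₀ g₀ l, dSnd D i₀ g₀ l, dFst D i₀ g₀ l,
    dFst D i₀ (f₀ ≫ g₀) l, isPullback_d D i₀ g₀ l, isPullback_bcMor D i₀ f₀ g₀ l, hl⟩

end Groth.Agent.S9193
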