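import Groth.Statements.S9219
import Mathlib
import Groth.Agent.Lib.Helper22LimBC

set_option autoImplicit false
universe u
open CategoryTheory CategoryTheory.Limits AlgebraicGeometry
open Lim

namespace Groth.Agent.S9219

open CategoryTheory CategoryTheory.Limits AlgebraicGeometry TopologicalSpace
open Groth.Agent.Lib.Helper22.LimBC

/-- Let S = lim S_i be a cofiltered limit of schemes with affine transition morphisms (the S_i are not
assumed quasi-compact or quasi-separated), i an index, and X_i → S_i, Y_i → S_i morphisms locally of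
finite presentation with X_i, Y_i quasi-compact and quasi-separated; let X be the base change of X_i
to S (a pullback square). If two S_i-morphisms f_i, g_i : X_i → Y_i have the same base change to S
(equivalently, the same composite with X → X_i), then for some index j over i their base changes to
S_j agree, i.e. they have the same composite with X_i ×_{S_i} S_j → X_i. This is the faithfulness
part of the equivalence between the colimit of the categories of quasi-compact quasi-separated
schemes locally of finite presentation over the S_i and the corresponding category over S. -/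
theorem result {I : Type u} [SmallCategory I] [IsCofiltered I]
    (D : I ⥤ Scheme.{u}) (c : Limits.Cone D) (hc : Limits.IsLimit c)
    [∀ (i j : I) (f : i ⟶ j), IsAffineHom (D.map f)] (i : I)
    {Xi Yi : Scheme.{u}} (xi : Xi ⟶ D.obj i) (yi : Yi ⟶ D.obj i)
    [CompactSpace Xi] [QuasiSeparatedSpace Xi] [LocallyOfFinitePresentation xi]
    [CompactSpace Yi] [QuasiSeparatedSpace Yi] [LocallyOfFinitePresentation yi]
    {X : Scheme.{u}} (qX : X ⟶ Xi) (pX : X ⟶ c.pt) (hX : IsPullback qX pX xi (c.π.app i))
    (fi gi : Xi ⟶ Yi) (hfi : fi ≫ yi = xi) (hgi : gi ≫ yi = xi) (h : qX ≫ fi = qX ≫ gi) :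
    ∃ (j : I) (φ : j ⟶ i), pullback.fst xi (D.map φ) ≫ fi = pullback.fst xi (D.map φ) ≫ gi := by
  have inst : ∀ {i j : I} (f : i ⟶ j), IsAffineHom (D.map f) := fun f => inferInstance
  let D' := bcDiagram D i xi
  let t : D' ⟶ (Functor.const (Over i)).obj (D.obj i) :=
    { app := fun j => dFst D i xi j ≫ xi
      naturality := fun j k f => by
        show D'.map f ≫ dFst D i xi k ≫ xi = (dFst D i xi j ≫ xi) ≫ 𝟙 _
        rw [map_dFst_assoc, Category.comp_id] }
  have hcpt : ∀ j, CompactSpace (D'.obj j) := fun j => inferInstance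
  let j₀ : Over i := Over.mk (𝟙 i)
  obtain ⟨k, hik, hk⟩ := Scheme.exists_hom_comp_eq_comp_of_locallyOfFiniteType D' t yi
    (bcCone i hX) (isLimitBcCone i hX hc) (i := j₀) (dFst D i xi j₀ ≫ fi) (dFst D i xi j₀ ≫ gi)
    (by show dFst D i xi j₀ ≫ xi = (dFst D i xi j₀ ≫ fi) ≫ yi; rw [Category.assoc, hfi])
    (by show dFst D i xi j₀ ≫ xi = (dFst D i xi j₀ ≫ gi) ≫ yi; rw [Category.assoc, hgi])
    (by
      show bcπ i hX j₀ ≫ dFst D i xi j₀ ≫ fi = bcπ i hX j₀ ≫ dFst D i xi j₀ ≫ gi
      rw [bcπ_fst_assoc, bcπ_fst_assoc, h])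
  refine ⟨k.left, k.hom, ?_⟩
  rw [map_dFst_assoc, map_dFst_assoc] at hk
  exact hk

end Groth.Agent.S9219
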