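import Groth.Statements.S12073
-- import your own Groth.Agent.* helpers here
import Mathlib
import Groth.Agent.Lib.Helper26LimCover3
import Groth.Agent.S9219

set_option autoImplicit false
universe u
open CategoryTheory CategoryTheory.Limits AlgebraicGeometry
open Pi1

namespace Groth.Agent.S12073

open Limits Groth.Agent.Lib.Helper26.LimCover

theorem faithful_aux {I : Type u} [SmallCategory I] [IsCofiltered I]
    (D : I ⥤ Scheme.{u}) (c : Limits.Cone D) (hc : Limits.IsLimit c)
    [∀ (i j : I) (f : i ⟶ j), IsAffineHom (D.map f)] [∀ i, CompactSpace (D.obj i)]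
    [∀ i, QuasiSeparatedSpace (D.obj i)] (i : I) {A B : Scheme.{u}} (v : A ⟶ D.obj i)
    (w : B ⟶ D.obj i) (hv : IsFinite v ∧ Etale v) (hw : IsFinite w ∧ Etale w) (p q : A ⟶ B)
    (hp : p ≫ w = v) (hq : q ≫ w = v)
    (h : pullback.fst v (c.π.app i) ≫ p = pullback.fst v (c.π.app i) ≫ q) :
    ∃ (j : I) (a : j ⟶ i), pullback.fst v (D.map a) ≫ p = pullback.fst v (D.map a) ≫ q := by
  have := hv.1
  have := hv.2
  have := hw.1
  have := hw.2
  have : CompactSpace A := QuasiCompact.compactSpace_of_compactSpace v
  have : QuasiSeparatedSpace A := quasiSeparatedSpace_of_quasiSeparated v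
  have : CompactSpace B := QuasiCompact.compactSpace_of_compactSpace w
  have : QuasiSeparatedSpace B := quasiSeparatedSpace_of_quasiSeparated w
  exact Groth.Agent.S9219.result D c hc i v w
    (pullback.fst v (c.π.app i)) (pullback.snd v (c.π.app i))
    (IsPullback.of_hasPullback _ _) p q hp hq h

/-- Let X = lim X_i be the limit of a cofiltered system of quasi-compact quasi-separated schemes with
affine transition morphisms, given by a limit cone. Then: (1) every finite étale cover of X is
isomorphic, over X, to the base change of a finite étale cover of some X_i; (2) if two morphisms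
between finite étale covers of some X_i have the same base change to X, then they have the same base
change to some X_j with j → i. (Fullness — every morphism over X between base changes comes from
some stage — is part of the published statement and is not stated here; nor is the consequence on
fundamental groups.) -/
theorem result {I : Type u} [SmallCategory I] [IsCofiltered I]
    (D : I ⥤ Scheme.{u}) (c : Limits.Cone D) (hc : Limits.IsLimit c)
    [∀ (i j : I) (f : i ⟶ j), IsAffineHom (D.map f)] [∀ i, CompactSpace (D.obj i)]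
    [∀ i, QuasiSeparatedSpace (D.obj i)] :
    (∀ V : FEt.Cat c.pt, ∃ (i : I) (Vi : FEt.Cat (D.obj i)), Nonempty ((FEt.restrict (c.π.app i)).obj Vi ≅ V)) ∧
    (∀ (i : I) (Vi Wi : FEt.Cat (D.obj i)) (φ ψ : Vi ⟶ Wi),
      (FEt.restrict (c.π.app i)).map φ = (FEt.restrict (c.π.app i)).map ψ →
      ∃ (j : I) (a : j ⟶ i), (FEt.restrict (D.map a)).map φ = (FEt.restrict (D.map a)).map ψ) := by
  constructor
  · intro V
    have hV : IsFinite V.hom ∧ Etale V.hom := V.prop
    have hV1 : IsFinite V.hom := hV.1
    have hV2 : Etale V.hom := hV.2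
    obtain ⟨i₁, hm₁⟩ := modelDescent_of_qcqsDescent Groth.Agent.S5941.qcqsDescent_etale D c hc
      V.hom hV2
    obtain ⟨i, Xi, fi, g, h1, h2, h3, ⟨h4, h5⟩, pb⟩ := hm₁.upgrade qcqsDescent_isFinite hc hV1
    refine ⟨i, MorphismProperty.Over.mk ⊤ fi ⟨h5, h4⟩, ⟨?_⟩⟩
    exact (MorphismProperty.Over.isoMk pb.isoPullback pb.isoPullback_hom_snd).symm
  · intro i Vi Wi φ ψ h
    have h' : pullback.fst Vi.hom (c.π.app i) ≫ φ.left =
        pullback.fst Vi.hom (c.π.app i) ≫ ψ.left := by
      have e := congr($(h).left ≫ pullback.fst Wi.hom (c.π.app i))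
      exact (pullback.lift_fst _ _ _).symm.trans (e.trans (pullback.lift_fst _ _ _))
    obtain ⟨j, a, hj⟩ := faithful_aux D c hc i Vi.hom Wi.hom Vi.prop Wi.prop φ.left ψ.left
      (MorphismProperty.Over.w φ) (MorphismProperty.Over.w ψ) h'
    refine ⟨j, a, ?_⟩
    ext
    apply pullback.hom_ext
    · exact (pullback.lift_fst _ _ _).trans (hj.trans (pullback.lift_fst _ _ _).symm)
    · exact (pullback.lift_snd _ _ _).trans (pullback.lift_snd _ _ _).symm

end Groth.Agent.S12073
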