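import Groth.Statements.S5031
-- import your own Groth.Agent.* helpers here
import Mathlib
import Groth.Agent.Lib.Helper26LimFP6
import Groth.Agent.S5941

set_option autoImplicit false
universe u
open CategoryTheory CategoryTheory.Limits AlgebraicGeometry TopologicalSpace
open Unram17

namespace Groth.Agent.S5031

open Groth.Agent.Lib.Helper26.FGZ Groth.Agent.Lib.Helper26.LimFP

/-- Let A be a commutative ring and f : X ⟶ Spec A an etale morphism that is quasi-compact and
quasi-separated (hence of finite presentation). Then there exist a finitely generated ℤ-subalgebra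
A₀ of A, a scheme X₀ with an etale morphism of finite type f₀ : X₀ ⟶ Spec A₀, and a morphism X ⟶ X₀
making X the base change of X₀ along Spec A ⟶ Spec A₀. This is the case of etale morphisms (the
converse is stability under base change). -/
theorem result (A : Type u) [CommRing A] {X : Scheme.{u}}
    (f : X ⟶ Spec (CommRingCat.of A)) [Etale f] [QuasiCompact f] [QuasiSeparated f] :
    ∃ A₀ : Subalgebra ℤ A, A₀.FG ∧
      ∃ (X₀ : Scheme.{u}) (f₀ : X₀ ⟶ Spec (CommRingCat.of ↥A₀)) (g : X ⟶ X₀),
        Etale f₀ ∧ QuasiCompact f₀ ∧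
          IsPullback g f f₀ (Spec.map (CommRingCat.ofHom (algebraMap (↥A₀) A))) := by
  have key : ∀ (f' : X ⟶ (specCone A).pt), Etale f' → QuasiCompact f' → QuasiSeparated f' →
      ∃ (i : (FGSub A)ᵒᵖ) (Xi : Scheme.{u}) (fi : Xi ⟶ (specDiagram A).obj i) (g : X ⟶ Xi),
        LocallyOfFinitePresentation fi ∧ QuasiCompact fi ∧ QuasiSeparated fi ∧ Etale fi ∧
          IsPullback g f' fi ((specCone A).π.app i) := fun f' _ _ _ =>
    exists_model_of_qcqsDescent (D := specDiagram A) (c := specCone A)
      Groth.Agent.S5941.qcqsDescent_etale (specIsLimit A) f' inferInstance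
  obtain ⟨⟨S⟩, Xi, fi, g, h1, h2, h3, hP, pb⟩ := key f ‹_› ‹_› ‹_›
  exact ⟨S.1, S.2, Xi, fi, g, hP, h2, pb⟩

end Groth.Agent.S5031
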