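import Groth.Statements.S0527
import Groth.Agent.Lib.Helper2HenselRad

set_option autoImplicit false
universe u
open Hensel

namespace Groth.Agent.S0527

/-- A ring is Henselian at any locally nilpotent ideal, i.e. an ideal all of whose elements are
nilpotent. -/
theorem result (A : Type u) [CommRing A] (I : Ideal A) (hI : ∀ x ∈ I, IsNilpotent x) :
    HenselianRing A I := by
  have hbot : HenselianRing A (⊥ : Ideal A) :=
    { jac := bot_le
      is_henselian := by
        intro f _ a₀ h₁ _
        exact ⟨a₀, (Ideal.mem_bot.mp h₁), by rw [sub_self]; exact Ideal.zero_mem _⟩ }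
  refine Groth.Agent.Lib.Helper2.henselianRing_of_le_radical ⊥ I hbot bot_le ?_
  intro x hx
  obtain ⟨n, hn⟩ := hI x hx
  exact ⟨n, by rw [hn]; exact Ideal.zero_mem _⟩

end Groth.Agent.S0527
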