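import Groth.Statements.S1458
import Mathlib

set_option autoImplicit false
universe u
open FlatMor

namespace Groth.Agent.S1458

open TensorProduct in
/-- generators surjectivity: every element of `B ⊗ A'` is `∑ b k ⊗ z k`. -/
theorem theta_surj {A B : Type u} [CommRing A] [CommRing B] [Algebra A B] {n : ℕ} (b : Fin n → B)
    (hb : Submodule.span A (Set.range b) = ⊤) (A' : Type u) [CommRing A'] [Algebra A A']
    (t : B ⊗[A] A') : ∃ z : Fin n → A', t = ∑ k, b k ⊗ₜ[A] z k := by
  induction t using TensorProduct.induction_on with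
  | zero => exact ⟨0, by simp⟩
  | tmul β a' =>
    have hβ : β ∈ Submodule.span A (Set.range b) := by rw [hb]; trivial
    obtain ⟨α, rfl⟩ := (Submodule.mem_span_range_iff_exists_fun A).1 hβ
    refine ⟨fun k => α k • a', ?_⟩
    rw [TensorProduct.sum_tmul]
    refine Finset.sum_congr rfl fun k _ => ?_
    rw [TensorProduct.smul_tmul]
  | add t₁ t₂ h₁ h₂ =>
    obtain ⟨z₁, rfl⟩ := h₁
    obtain ⟨z₂, rfl⟩ := h₂
    refine ⟨z₁ + z₂, ?_⟩
    rw [← Finset.sum_add_distrib]
    refine Finset.sum_congr rfl fun k _ => ?_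
    rw [Pi.add_apply, TensorProduct.tmul_add]

open TensorProduct in
/-- multiplication formula -/
theorem theta_mul {A B : Type u} [CommRing A] [CommRing B] [Algebra A B] {n : ℕ} (b : Fin n → B)
    (c : Fin n → Fin n → Fin n → A) (hc : ∀ i j, b i * b j = ∑ k, c i j k • b k)
    (A' : Type u) [CommRing A'] [Algebra A A'] (z z' : Fin n → A') :
    (∑ i, b i ⊗ₜ[A] z i) * (∑ j, b j ⊗ₜ[A] z' j) =
      ∑ k, b k ⊗ₜ[A] (∑ i, ∑ j, c i j k • (z i * z' j)) := by
  rw [Finset.sum_mul_sum]
  have h1 : ∀ i j, (b i ⊗ₜ[A] z i) * (b j ⊗ₜ[A] z' j) =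
      ∑ k, b k ⊗ₜ[A] (c i j k • (z i * z' j)) := by
    intro i j
    rw [Algebra.TensorProduct.tmul_mul_tmul, hc, TensorProduct.sum_tmul]
    refine Finset.sum_congr rfl fun k _ => ?_
    rw [TensorProduct.smul_tmul]
  simp_rw [h1, TensorProduct.tmul_sum]
  calc ∑ i, ∑ j, ∑ k, b k ⊗ₜ[A] (c i j k • (z i * z' j))
      = ∑ i, ∑ k, ∑ j, b k ⊗ₜ[A] (c i j k • (z i * z' j)) :=
        Finset.sum_congr rfl fun i _ => Finset.sum_comm
    _ = ∑ k, ∑ i, ∑ j, b k ⊗ₜ[A] (c i j k • (z i * z' j)) := Finset.sum_comm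

open TensorProduct in
/-- kernel description via right exactness of the tensor product -/
theorem theta_ker {A B : Type u} [CommRing A] [CommRing B] [Algebra A B] {n m : ℕ} (b : Fin n → B)
    (hb : Submodule.span A (Set.range b) = ⊤) (r : Fin m → Fin n → A)
    (hr : Submodule.span A (Set.range r) = LinearMap.ker (Fintype.linearCombination A b))
    (A' : Type u) [CommRing A'] [Algebra A A'] (z : Fin n → A')
    (hz : ∑ k, b k ⊗ₜ[A] z k = 0) : ∃ y : Fin m → A', ∀ k, z k = ∑ l, r l k • y l := by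
  classical
  set π : (Fin n → A) →ₗ[A] B := Fintype.linearCombination A b with hπdef
  have hπ : Function.Surjective π := by
    rw [← LinearMap.range_eq_top, hπdef, Fintype.range_linearCombination, hb]
  have hex := rTensor_exact A' (LinearMap.exact_subtype_ker_map π) hπ
  set ζ : (Fin n → A) ⊗[A] A' := ∑ k, (Pi.single k (1 : A) : Fin n → A) ⊗ₜ[A] z k with hζ
  have hπζ : (π.rTensor A') ζ = 0 := by
    rw [hζ, map_sum, ← hz]
    refine Finset.sum_congr rfl fun k _ => ?_
    rw [LinearMap.rTensor_tmul, hπdef, Fintype.linearCombination_apply_single, one_smul]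
  obtain ⟨κ, hκ⟩ := (hex ζ).1 hπζ
  have hclaim : ∀ κ : (LinearMap.ker π) ⊗[A] A', ∃ y : Fin m → A',
      ((LinearMap.ker π).subtype.rTensor A') κ = ∑ l, r l ⊗ₜ[A] y l := by
    intro κ
    induction κ using TensorProduct.induction_on with
    | zero => exact ⟨0, by simp⟩
    | tmul v a' =>
      have hv : (v : Fin n → A) ∈ Submodule.span A (Set.range r) := by rw [hr]; exact v.2
      obtain ⟨α, hα⟩ := (Submodule.mem_span_range_iff_exists_fun A).1 hv
      refine ⟨fun l => α l • a', ?_⟩
      rw [LinearMap.rTensor_tmul, Submodule.subtype_apply, ← hα, TensorProduct.sum_tmul]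
      refine Finset.sum_congr rfl fun l _ => ?_
      rw [TensorProduct.smul_tmul]
    | add t₁ t₂ h₁ h₂ =>
      obtain ⟨y₁, hy₁⟩ := h₁
      obtain ⟨y₂, hy₂⟩ := h₂
      refine ⟨y₁ + y₂, ?_⟩
      rw [map_add, hy₁, hy₂, ← Finset.sum_add_distrib]
      refine Finset.sum_congr rfl fun l _ => ?_
      rw [Pi.add_apply, TensorProduct.tmul_add]
  obtain ⟨y, hy⟩ := hclaim κ
  rw [hκ] at hy
  refine ⟨y, fun k => ?_⟩
  let ev : (Fin n → A) ⊗[A] A' →ₗ[A] A' :=
    TensorProduct.lift ((LinearMap.lsmul A A').comp (LinearMap.proj k))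
  have h1 : ev ζ = z k := by
    rw [hζ, map_sum]
    rw [Finset.sum_eq_single k]
    · simp [ev]
    · intro j _ hjk
      simp [ev, hjk.symm]
    · intro h; exact absurd (Finset.mem_univ k) h
  have h2 : ev (∑ l, r l ⊗ₜ[A] y l) = ∑ l, r l k • y l := by
    rw [map_sum]
    refine Finset.sum_congr rfl fun l _ => ?_
    simp [ev]
  rw [← h1, hy, h2]

open TensorProduct in
theorem main {A B : Type u} [CommRing A] [CommRing B] [Algebra A B] [Module.Finite A B]
    [Algebra.FinitePresentation A B] :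
    ∃ (Au : Type u) (_ : CommRing Au) (_ : Algebra A Au) (eu : B ⊗[A] Au),
      Algebra.FinitePresentation A Au ∧ IsIdempotentElem eu ∧
      ∀ (A' : Type u) [CommRing A'] [Algebra A A'] (e : B ⊗[A] A'), IsIdempotentElem e →
        ∃ φ : Au →ₐ[A] A', Algebra.TensorProduct.map (AlgHom.id A B) φ eu = e := by
  classical
  have hfp : Module.FinitePresentation A B :=
    Module.FinitePresentation.of_finite_of_finitePresentation A B
  obtain ⟨n, b, hb⟩ := Module.Finite.exists_fin (R := A) (M := B)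
  have hπ : Function.Surjective (Fintype.linearCombination A b) := by
    rw [← LinearMap.range_eq_top, Fintype.range_linearCombination, hb]
  have hK : (LinearMap.ker (Fintype.linearCombination A b)).FG :=
    Module.FinitePresentation.fg_ker _ hπ
  obtain ⟨m, r, hr⟩ := Submodule.fg_iff_exists_fin_generating_family.1 hK
  have hc' : ∀ i j, ∃ v : Fin n → A, Fintype.linearCombination A b v = b i * b j :=
    fun i j => hπ _
  choose c hc using hc'
  have hc2 : ∀ i j, b i * b j = ∑ k, c i j k • b k := by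
    intro i j
    rw [← hc i j, Fintype.linearCombination_apply]
  have hrb : ∀ l, ∑ k, r l k • b k = 0 := by
    intro l
    have : r l ∈ LinearMap.ker (Fintype.linearCombination A b) := by
      rw [← hr]; exact Submodule.subset_span ⟨l, rfl⟩
    rw [LinearMap.mem_ker, Fintype.linearCombination_apply] at this
    exact this
  let P := MvPolynomial (Fin n ⊕ Fin m) A
  let rel : Fin n → P := fun k =>
    (∑ i, ∑ j, c i j k • (MvPolynomial.X (Sum.inl i) * MvPolynomial.X (Sum.inl j))) -
      MvPolynomial.X (Sum.inl k) - ∑ l, r l k • MvPolynomial.X (Sum.inr l)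
  let J : Ideal P := Ideal.span (Set.range rel)
  have hJ : J.FG := ⟨(Set.finite_range rel).toFinset, by simp [J]⟩
  let x : Fin n → P ⧸ J := fun i => Ideal.Quotient.mk J (MvPolynomial.X (Sum.inl i))
  let y : Fin m → P ⧸ J := fun l => Ideal.Quotient.mk J (MvPolynomial.X (Sum.inr l))
  have hrel : ∀ k, (∑ i, ∑ j, c i j k • (x i * x j)) = x k + ∑ l, r l k • y l := by
    intro k
    have h0 : Ideal.Quotient.mk J (rel k) = 0 :=
      Ideal.Quotient.eq_zero_iff_mem.2 (Ideal.subset_span ⟨k, rfl⟩)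
    have h1 : Ideal.Quotient.mk J (rel k) =
        (∑ i, ∑ j, c i j k • (x i * x j)) - x k - ∑ l, r l k • y l := by
      have hsm : ∀ (a : A) (p : P), Ideal.Quotient.mk J (a • p) = a • Ideal.Quotient.mk J p :=
        fun a p => map_smul (Ideal.Quotient.mkₐ A J) a p
      simp only [rel, x, y, map_sub, map_sum, hsm, map_mul]
    rw [h1, sub_sub, sub_eq_zero] at h0
    exact h0
  refine ⟨P ⧸ J, inferInstance, inferInstance, ∑ k, b k ⊗ₜ[A] x k,
    Algebra.FinitePresentation.quotient hJ, ?_, ?_⟩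
  · -- idempotent
    show (∑ k, b k ⊗ₜ[A] x k) * (∑ k, b k ⊗ₜ[A] x k) = ∑ k, b k ⊗ₜ[A] x k
    rw [theta_mul b c hc2 (P ⧸ J) x x]
    simp_rw [hrel, TensorProduct.tmul_add, Finset.sum_add_distrib]
    rw [add_eq_left]
    simp_rw [TensorProduct.tmul_sum]
    rw [Finset.sum_comm]
    refine Finset.sum_eq_zero fun l _ => ?_
    have : ∀ k, b k ⊗ₜ[A] (r l k • y l) = (r l k • b k) ⊗ₜ[A] y l := by
      intro k
      rw [TensorProduct.smul_tmul]
    simp_rw [this]
    rw [← TensorProduct.sum_tmul, hrb, TensorProduct.zero_tmul]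
  · intro A' _ _ e he
    obtain ⟨z, rfl⟩ := theta_surj b hb A' e
    have hmul := theta_mul b c hc2 A' z z
    rw [he.eq] at hmul
    have hz0 : ∑ k, b k ⊗ₜ[A] ((∑ i, ∑ j, c i j k • (z i * z j)) - z k) = 0 := by
      simp_rw [TensorProduct.tmul_sub, Finset.sum_sub_distrib]
      rw [← hmul, sub_self]
    obtain ⟨y', hy'⟩ := theta_ker b hb r hr A' _ hz0
    let φ₀ : P →ₐ[A] A' := MvPolynomial.aeval (Sum.elim z y')
    have hφ₀ : ∀ a ∈ J, φ₀ a = 0 := by
      intro a ha
      have hJle : J ≤ RingHom.ker φ₀.toRingHom := by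
        rw [Ideal.span_le]
        rintro _ ⟨k, rfl⟩
        show φ₀ (rel k) = 0
        have hX1 : ∀ i, φ₀ (MvPolynomial.X (Sum.inl i)) = z i := fun i =>
          MvPolynomial.aeval_X (Sum.elim z y') (Sum.inl i)
        have hX2 : ∀ l, φ₀ (MvPolynomial.X (Sum.inr l)) = y' l := fun l =>
          MvPolynomial.aeval_X (Sum.elim z y') (Sum.inr l)
        simp only [rel, map_sub, map_sum, map_smul, map_mul, hX1, hX2]
        rw [sub_eq_zero]
        exact hy' k
      exact hJle ha
    refine ⟨Ideal.Quotient.liftₐ J φ₀ hφ₀, ?_⟩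
    rw [map_sum]
    refine Finset.sum_congr rfl fun k _ => ?_
    rw [Algebra.TensorProduct.map_tmul]
    have hX1 : φ₀ (MvPolynomial.X (Sum.inl k)) = z k :=
      MvPolynomial.aeval_X (Sum.elim z y') (Sum.inl k)
    simp only [x, AlgHom.id_apply]
    congr 1

open TensorProduct in
/-- Let A → B be a finite ring map of finite presentation. Then there are a finitely presented A-algebra
A_u and an idempotent e_u of B ⊗_A A_u such that for every A-algebra A' and every idempotent e of B
⊗_A A' there is an A-algebra map A_u → A' whose induced map B ⊗ A_u → B ⊗ A' sends e_u to e. -/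
theorem result {A B : Type u} [CommRing A] [CommRing B] [Algebra A B] [Module.Finite A B] [Algebra.FinitePresentation A B] :
    ∃ (Au : Type u) (_ : CommRing Au) (_ : Algebra A Au) (eu : B ⊗[A] Au), Algebra.FinitePresentation A Au ∧ IsIdempotentElem eu ∧
      ∀ (A' : Type u) [CommRing A'] [Algebra A A'] (e : B ⊗[A] A'), IsIdempotentElem e →
        ∃ φ : Au →ₐ[A] A', Algebra.TensorProduct.map (AlgHom.id A B) φ eu = e := by
  exact main

end Groth.Agent.S1458
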