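import Groth.Statements.S5926
import Groth.Agent.S2561
import Groth.Agent.S3458

set_option autoImplicit false
open CategoryTheory AlgebraicGeometry
universe u
open EGA43

namespace Groth.Agent.S5926

theorem isPreconnected_pair_of_specializes {α : Type*} [TopologicalSpace α] {a b : α} (h : a ⤳ b) :
    IsPreconnected ({a, b} : Set α) := by
  intro u v hu hv hsub hnu hnv
  have hau : b ∈ u → a ∈ u := fun hb => h.mem_open hu hb
  have hav : b ∈ v → a ∈ v := fun hb => h.mem_open hv hb
  have ha : a ∈ u ∩ v := by
    have hb : b ∈ u ∪ v := hsub (by simp)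
    have ha' : a ∈ u ∪ v := hsub (by simp)
    obtain ⟨p, hp, hpu⟩ := hnu
    obtain ⟨q, hq, hqv⟩ := hnv
    have hpu' : a ∈ u := by
      rcases hp with rfl | rfl
      · exact hpu
      · exact hau hpu
    have hqv' : a ∈ v := by
      rcases hq with rfl | rfl
      · exact hqv
      · exact hav hqv
    exact ⟨hpu', hqv'⟩
  exact ⟨a, by simp, ha⟩

/-- Let Y be a reduced locally Noetherian scheme, f : X ⟶ Y a morphism locally of finite type with a
section g : Y ⟶ X, X_y^0 the connected component of f⁻¹(y) containing g y, and suppose every X_y^0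
is geometrically irreducible over κ(y) (its preimage in the base change of X_y to any field
extension K of κ(y) is irreducible). Let x₀ be a point of X lying in X_{y₀}^0, y₀ = f x₀. If y ↦ dim
X_y^0 is constant on a neighbourhood of y₀ and the fibre f⁻¹(y₀) is geometrically reduced at x₀,
then f is flat at x₀. -/
theorem result {X Y : Scheme.{u}} [IsLocallyNoetherian Y]
    [IsReduced Y] (f : X ⟶ Y) [LocallyOfFiniteType f] (g : Y ⟶ X) (hg : g ≫ f = 𝟙 Y)
    (hirr : ∀ y : Y, (∀ (K : Type u) [Field K] [Algebra (IsLocalRing.ResidueField (Y.presheaf.stalk y)) K],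
        IsIrreducible ((FBase.bcπ (f.fiberToSpecResidueField y) K ≫ f.fiberι y).base ⁻¹' connectedComponentIn (f.base ⁻¹' {y}) (g.base y))))
    (x₀ : X) (hx₀ : x₀ ∈ MoreMor.sectionComponents f g)
    (hconst : (∃ V ∈ nhds (f.base x₀), ∀ z ∈ V, topologicalKrullDim ↥(connectedComponentIn (f.base ⁻¹' {z}) (g.base z)) = topologicalKrullDim ↥(connectedComponentIn (f.base ⁻¹' {(f.base x₀)}) (g.base (f.base x₀)))))
    (hred : FBase.IsGeomReducedAt (f.fiberToSpecResidueField (f.base x₀)) (f.asFiber x₀)) :
    (f.stalkMap x₀).hom.Flat := by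
  refine Groth.Agent.S2561.result f x₀ ?_ hred inferInstance
  intro z hz1 hz2
  have hUO := Groth.Agent.S3458.result f g hg (fun y K _ _ => hirr y K) (f.base x₀) hconst
  apply hUO
  have hx₀' : x₀ ∈ connectedComponentIn (f.base ⁻¹' {f.base x₀}) (g.base (f.base x₀)) := hx₀
  rw [connectedComponentIn_eq hx₀']
  have haF : (f.fiberι (f.base x₀)).base z ∈ f.base ⁻¹' {f.base x₀} := by
    have : (f.fiberι (f.base x₀)).base z ∈ Set.range (f.fiberι (f.base x₀)).base := ⟨z, rfl⟩
    rw [Scheme.Hom.range_fiberι] at this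
    exact this
  have hsp : (f.fiberι (f.base x₀)).base z ⤳ x₀ := by
    rw [← specializes_iff_mem_closure] at hz1
    have := hz1.map (f.fiberι (f.base x₀)).continuous
    rwa [Scheme.Hom.fiberι_asFiber] at this
  have hsub : ({(f.fiberι (f.base x₀)).base z, x₀} : Set X) ⊆ f.base ⁻¹' {f.base x₀} := by
    rintro p (rfl | rfl)
    · exact haF
    · rfl
  exact (isPreconnected_pair_of_specializes hsp).subset_connectedComponentIn (by simp) hsub
    (by simp)

end Groth.Agent.S5926
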