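import Groth.Statements.S9194
-- import your own Groth.Agent.* helpers here
import Mathlib
import Groth.Agent.S9192

set_option autoImplicit false
universe u
open CategoryTheory AlgebraicGeometry
open Lim

namespace Groth.Agent.S9194

open Limits Groth.Agent.Lib.Helper26.LimDescend Groth.Agent.Lib.Helper22.LimBC

theorem quasiFiniteAt_iff_of_eq {X S : Scheme.{u}} (f : X ⟶ S) [LocallyOfFiniteType f] (x : X) (y : S)
    (hxy : f x = y) :
    f.QuasiFiniteAt x ↔ IsOpen {(f.fiberHomeo y).symm ⟨x, hxy⟩} := by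
  subst hxy
  exact Scheme.Hom.quasiFiniteAt_iff_isOpen_singleton_asFiber

theorem exists_fiber_map {X' X S' S : Scheme.{u}} {g' : X' ⟶ X} {f' : X' ⟶ S'}
    {f : X ⟶ S} {g : S' ⟶ S} (h : IsPullback g' f' f g) (s' : S') :
    ∃ m : f'.fiber s' ⟶ f.fiber (g s'), UniversallyOpen m ∧
      m ≫ f.fiberι (g s') = f'.fiberι s' ≫ g' := by
  have hm := isPullback_fiberToSpecResidueField_of_isPullback h s'
  have : UniversallyOpen (Spec.map (g.residueFieldMap s')) := inferInstance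
  exact ⟨_, MorphismProperty.of_isPullback hm.flip inferInstance, pullback.lift_fst _ _ _⟩

theorem quasiFiniteAt_of_isPullback {X' X S' S : Scheme.{u}} {g' : X' ⟶ X} {f' : X' ⟶ S'}
    {f : X ⟶ S} {g : S' ⟶ S} (h : IsPullback g' f' f g) [LocallyOfFiniteType f] (x' : X')
    (hx' : f'.QuasiFiniteAt x') : f.QuasiFiniteAt (g' x') := by
  have : LocallyOfFiniteType f' := MorphismProperty.of_isPullback h inferInstance
  obtain ⟨m, hm, h3⟩ := exists_fiber_map h (f' x')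
  have hxy : f (g' x') = g (f' x') := by
    rw [← Scheme.Hom.comp_apply, ← Scheme.Hom.comp_apply, h.w]
  rw [quasiFiniteAt_iff_of_eq f (g' x') (g (f' x')) hxy]
  have h1 : IsOpen {f'.asFiber x'} := Scheme.Hom.quasiFiniteAt_iff_isOpen_singleton_asFiber.mp hx'
  have h2 := m.isOpenMap _ h1
  rw [Set.image_singleton] at h2
  convert h2 using 2
  apply (f.fiberHomeo (g (f' x'))).injective
  rw [Homeomorph.apply_symm_apply]
  apply Subtype.ext
  rw [Scheme.Hom.fiberHomeo_apply]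
  show g' x' = _
  have h4 : (m ≫ f.fiberι (g (f' x'))) (f'.asFiber x') = g' x' := by
    rw [h3, Scheme.Hom.comp_apply, Scheme.Hom.fiberι_asFiber]
  exact h4.symm

theorem locallyQuasiFinite_of_preimage_eq_top {X Y X₀ Y₀ : Scheme.{u}} {p : X ⟶ X₀} {f : X ⟶ Y}
    {f₀ : X₀ ⟶ Y₀} {q : Y ⟶ Y₀} (h : IsPullback p f f₀ q) [LocallyOfFiniteType f₀]
    (hU : p ⁻¹ᵁ f₀.quasiFiniteLocus = ⊤) : LocallyQuasiFinite f := by
  have h2 := (isPullback_morphismRestrict p f₀.quasiFiniteLocus).paste_vert h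
  have h3 : LocallyQuasiFinite ((p ⁻¹ᵁ f₀.quasiFiniteLocus).ι ≫ f) :=
    MorphismProperty.of_isPullback h2 inferInstance
  have : IsIso (p ⁻¹ᵁ f₀.quasiFiniteLocus).ι := by
    rw [hU]; exact inferInstanceAs (IsIso (Scheme.topIso X).hom)
  have e : f = inv (p ⁻¹ᵁ f₀.quasiFiniteLocus).ι ≫ ((p ⁻¹ᵁ f₀.quasiFiniteLocus).ι ≫ f) := by simp
  rw [e]
  infer_instance

/-- Let S = lim S_i be a cofiltered limit of schemes with affine transition morphisms, S_{i₀} a
quasi-compact quasi-separated stage, f₀ : X₀ → Y₀ a morphism of quasi-compact quasi-separated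
schemes over S_{i₀}, and f : X → Y its base change along S → S_{i₀} (base changes expressed by
pullback squares). If f₀ is locally of finite type and f is quasi-finite (f is locally of finite
type and quasi-compact, being a base change of f₀; the hypothesis is that its fibres are discrete),
then for some index i over i₀ the base change f_i : X_i → Y_i of f₀ along S_i → S_{i₀} is
quasi-finite: locally quasi-finite, and it is locally of finite type and quasi-compact as a base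
change of f₀. -/
theorem result {I : Type u} [SmallCategory I] [IsCofiltered I]
    (D : I ⥤ Scheme.{u}) (c : Limits.Cone D) (hc : Limits.IsLimit c)
    [∀ (i j : I) (f : i ⟶ j), IsAffineHom (D.map f)] (i₀ : I) [CompactSpace (D.obj i₀)]
    [QuasiSeparatedSpace (D.obj i₀)] {X₀ Y₀ : Scheme.{u}} (f₀ : X₀ ⟶ Y₀) (g₀ : Y₀ ⟶ D.obj i₀)
    [CompactSpace X₀] [QuasiSeparatedSpace X₀] [CompactSpace Y₀] [QuasiSeparatedSpace Y₀]
    [LocallyOfFiniteType f₀]
    {X Y : Scheme.{u}} (f : X ⟶ Y) (g : Y ⟶ c.pt) (qY : Y ⟶ Y₀) (qX : X ⟶ X₀)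
    (hY : IsPullback qY g g₀ (c.π.app i₀)) (hX : IsPullback qX f f₀ qY) [LocallyQuasiFinite f] :
    ∃ (i : I) (φ : i ⟶ i₀) (Xi Yi : Scheme.{u}) (fi : Xi ⟶ Yi) (gi : Yi ⟶ D.obj i) (pY : Yi ⟶ Y₀)
      (pX : Xi ⟶ X₀), IsPullback pY gi g₀ (D.map φ) ∧ IsPullback pX fi f₀ pY ∧ LocallyQuasiFinite fi := by
  have inst : ∀ {i j : I} (f : i ⟶ j), IsAffineHom (D.map f) := fun f => inferInstance
  have hU : qX ⁻¹ᵁ f₀.quasiFiniteLocus = ⊤ := by
    refine top_le_iff.mp fun x _ => ?_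
    exact quasiFiniteAt_of_isPullback hX x (f.quasiFiniteAt x)
  obtain ⟨j, fj, hj⟩ := exists_map_eq_top (bcDiagram D i₀ (f₀ ≫ g₀)) (bcCone i₀ (hX.paste_vert hY))
    (isLimitBcCone i₀ (hX.paste_vert hY) hc) (i := Over.mk (𝟙 i₀))
    (dFst D i₀ (f₀ ≫ g₀) (Over.mk (𝟙 i₀)) ⁻¹ᵁ f₀.quasiFiniteLocus) (by
      have e := Scheme.Hom.comp_preimage (bcπ i₀ (hX.paste_vert hY) (Over.mk (𝟙 i₀)))
        (dFst D i₀ (f₀ ≫ g₀) (Over.mk (𝟙 i₀))) f₀.quasiFiniteLocus
      rw [bcπ_fst, hU] at e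
      exact e.symm)
  rw [← Scheme.Hom.comp_preimage, map_dFst] at hj
  exact ⟨_, j.hom, _, _, bcMor D i₀ f₀ g₀ j, dSnd D i₀ g₀ j,
    dFst D i₀ g₀ j, dFst D i₀ (f₀ ≫ g₀) j, isPullback_d D i₀ g₀ j, isPullback_bcMor D i₀ f₀ g₀ j,
    locallyQuasiFinite_of_preimage_eq_top (isPullback_bcMor D i₀ f₀ g₀ j) hj⟩

end Groth.Agent.S9194
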