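import Groth.Statements.S0131
import Mathlib
import Groth.Agent.Lib.Helper23Constr
import Groth.Agent.Lib.Helper23StrataInf
import Groth.Agent.Lib.Helper23FlcSerre
-- import your own Groth.Agent.* helpers here

set_option autoImplicit false
set_option backward.isDefEq.respectTransparency.types false
universe u
open CategoryTheory CategoryTheory.Limits AlgebraicGeometry Opposite
open EtPBC

namespace Groth.Agent.S0131


open Groth.Agent.Lib.Helper23Constr Groth.Agent.Lib.Helper23Strata Groth.Agent.Lib.Helper23FlcSerre

theorem isConstructible_kernel {X : Scheme.{u}} {F G : EtCoh.Ab X} (φ : F ⟶ G)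
    (hF : EtPBC.IsConstructible F) (hG : EtPBC.IsConstructible G) :
    EtPBC.IsConstructible (kernel φ) := by
  rw [isConstructible_iff] at hF hG ⊢
  refine Constr.mono ?_ (Constr.inf hF hG)
  rintro T g ⟨h1, h2⟩
  have e1 : (EtCoh.pull g).obj (kernel φ) ≅ kernel ((EtCoh.pull g).map φ) := PreservesKernel.iso _ _
  exact isFiniteLocallyConstant_of_iso e1.symm (isFlc_kernel _ h1 h2)

theorem isConstructible_cokernel {X : Scheme.{u}} {F G : EtCoh.Ab X} (φ : F ⟶ G)
    (hF : EtPBC.IsConstructible F) (hG : EtPBC.IsConstructible G) :
    EtPBC.IsConstructible (cokernel φ) := by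
  rw [isConstructible_iff] at hF hG ⊢
  refine Constr.mono ?_ (Constr.inf hF hG)
  rintro T g ⟨h1, h2⟩
  have e1 : (EtCoh.pull g).obj (cokernel φ) ≅ cokernel ((EtCoh.pull g).map φ) :=
    PreservesCokernel.iso _ _
  exact isFiniteLocallyConstant_of_iso e1.symm (isFlc_cokernel _ h1 h2)

/-- Part (3): with Λ = Z/n: for a morphism of constructible abelian sheaves on X_et both killed by n > 0
(that is, a map of constructible sheaves of Z/n-modules), kernel and cokernel are constructible.
(The source writes the proof for modules over a Noetherian ring; the plain abelian case (2) is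
marked omitted there, hence the n-torsion hypotheses.) -/
theorem result {X : Scheme.{u}} {F G : EtCoh.Ab X} (φ : F ⟶ G)
    (n : ℕ) (hn : 0 < n) (hFn : EtCoh.KilledBy n F) (hGn : EtCoh.KilledBy n G)
    (hF : EtPBC.IsConstructible F) (hG : EtPBC.IsConstructible G) :
    EtPBC.IsConstructible (kernel φ) ∧ EtPBC.IsConstructible (cokernel φ) := by
  exact ⟨isConstructible_kernel φ hF hG, isConstructible_cokernel φ hF hG⟩

end Groth.Agent.S0131
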