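import Groth.Statements.S6627
import Mathlib
import Groth.Agent.Lib.Helper23SteinF
import Groth.Agent.Lib.Helper6SmQF
import Groth.Agent.Lib.Helper20EtSplitClopen
-- import your own Groth.Agent.* helpers here

set_option autoImplicit false
set_option backward.isDefEq.respectTransparency.types false
open CategoryTheory CategoryTheory.Limits AlgebraicGeometry Opposite
universe u
open EtCore

namespace Groth.Agent.S6627

open TopologicalSpace
open Groth.Agent.Lib.Helper20.ResFld

theorem pInsep_of_comp {X Y Z : Scheme.{u}} (G : X ⟶ Y) (p : Y ⟶ Z) (x : X)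
    (h : PInsep ((G ≫ p).residueFieldMap x).hom) : PInsep (G.residueFieldMap x).hom := by
  intro y
  obtain ⟨n, a, ha⟩ := h y
  haveI : ExpChar (Z.residueField (p (G x))) (ringExpChar (Z.residueField ((G ≫ p) x))) :=
    inferInstanceAs (ExpChar (Z.residueField ((G ≫ p) x)) (ringExpChar (Z.residueField ((G ≫ p) x))))
  have : ExpChar (Y.residueField (G x)) (ringExpChar (Z.residueField ((G ≫ p) x))) :=
    expChar_of_injective_ringHom (p.residueFieldMap (G x)).hom.injective _
  rw [ringExpChar.eq (Y.residueField (G x)) (ringExpChar (Z.residueField ((G ≫ p) x)))]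
  refine ⟨n, (p.residueFieldMap (G x)).hom a, ?_⟩
  rw [← ha, Scheme.residueFieldMap_comp]
  rfl

theorem pInsep_of_eq {X Z : Scheme.{u}} {f f' : X ⟶ Z} (e : f = f') (x : X)
    (h : PInsep (f.residueFieldMap x).hom) : PInsep (f'.residueFieldMap x).hom := by
  subst e; exact h

theorem pInsep_comp_of_isOpenImmersion {X' X Z : Scheme.{u}} (ι : X' ⟶ X) [IsOpenImmersion ι]
    (f : X ⟶ Z) (x' : X') (h : PInsep (f.residueFieldMap (ι x')).hom) :
    PInsep ((ι ≫ f).residueFieldMap x').hom := by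
  intro y
  obtain ⟨y₁, rfl⟩ := (bijective_residueFieldMap_of_isOpenImmersion ι x').2 y
  obtain ⟨n, a, ha⟩ := h y₁
  refine ⟨n, a, ?_⟩
  rw [Scheme.residueFieldMap_comp]
  change (ι.residueFieldMap x').hom ((f.residueFieldMap (ι x')).hom a) = _
  rw [ha, map_pow]
  rfl


/-- a finite étale morphism is an open immersion over a neighbourhood of the image of a point which is
alone in its fibre and has purely inseparable residue field extension. -/
theorem exists_isOpenImmersion_of_finite_etale {W' P : Scheme.{u}} (G : W' ⟶ P) [IsFinite G] [Etale G]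
    (w' : W') (hfib : ∀ z : W', G z = G w' → z = w')
    (hpi : (G.residueFieldMap w').hom.IsPurelyInseparable) :
    ∃ N : P.Opens, G w' ∈ N ∧ IsOpenImmersion ((G ⁻¹ᵁ N).ι ≫ G) := by
  haveI : FormallyUnramified G := inferInstance
  haveI : LocallyOfFiniteType G := inferInstance
  let D := pullback.diagonal G
  haveI : IsOpenImmersion D := inferInstance
  let π : pullback G G ⟶ P := pullback.fst G G ≫ G
  haveI : IsFinite π := inferInstance
  let R : Set ↥(pullback G G) := (Set.range D)ᶜ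
  have hRclosed : IsClosed R := D.isOpenEmbedding.isOpen_range.isClosed_compl
  have hπR : IsClosed (π '' R) := π.isClosedMap _ hRclosed
  let N : P.Opens := ⟨(π '' R)ᶜ, hπR.isOpen_compl⟩
  have hwN : G w' ∈ N := by
    rintro ⟨r, hr, hrw⟩
    apply hr
    have h1 : pullback.fst G G r = w' := hfib _ (by rw [← hrw]; simp [π])
    have h2 : pullback.snd G G r = w' := by
      apply hfib
      rw [← hrw]
      change (pullback.snd G G ≫ G) r = (pullback.fst G G ≫ G) r
      rw [pullback.condition]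
    exact Groth.Agent.Lib.Helper23.SteinF.mem_range_diagonal_of_isPurelyInseparable G w' hpi r h1 h2
  refine ⟨N, hwN, ?_⟩
  let O : W'.Opens := G ⁻¹ᵁ N
  let H : (O : Scheme.{u}) ⟶ P := O.ι ≫ G
  haveI : Mono H := by
    constructor
    intro T a b hab
    have hab' : (a ≫ O.ι) ≫ G = (b ≫ O.ι) ≫ G := by simpa [H] using hab
    let l : T ⟶ pullback G G := pullback.lift (a ≫ O.ι) (b ≫ O.ι) hab'
    have hl : Set.range l ⊆ Set.range D := by
      rintro _ ⟨t, rfl⟩
      by_contra hcon
      have h3 : π (l t) ∈ π '' R := ⟨l t, hcon, rfl⟩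
      have h4 : π (l t) = G (O.ι (a t)) := by
        change (l ≫ pullback.fst G G ≫ G) t = _
        rw [pullback.lift_fst_assoc]
        rfl
      have h5 : O.ι (a t) ∈ O := (a t).2
      exact h5 (h4 ▸ h3)
    let c : T ⟶ W' := IsOpenImmersion.lift D l hl
    have hc : c ≫ D = l := IsOpenImmersion.lift_fac D l hl
    have h6 : a ≫ O.ι = c := by
      have : l ≫ pullback.fst G G = c := by
        rw [← hc, Category.assoc, pullback.diagonal_fst, Category.comp_id]
      rw [← this, pullback.lift_fst]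
    have h7 : b ≫ O.ι = c := by
      have : l ≫ pullback.snd G G = c := by
        rw [← hc, Category.assoc, pullback.diagonal_snd, Category.comp_id]
      rw [← this, pullback.lift_snd]
    exact (cancel_mono O.ι).1 (h6.trans h7.symm)
  haveI : Etale H := inferInstance
  haveI : Flat H := inferInstance
  haveI : LocallyOfFinitePresentation H := inferInstance
  exact IsOpenImmersion.of_flat_of_mono H


/-- A separated morphism of schemes that is locally quasi-finite (locally of finite type with discrete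
fibres) satisfies condition (A): for every etale U ⟶ X and every point u of U there are an etale V ⟶
Y, an open and closed subscheme W of X ×_Y V and an X-morphism W ⟶ U whose image contains u.
(Locally of finite type is part of the meaning of locally quasi-finite here and is carried as a
separate hypothesis.) -/
theorem result {X Y : Scheme.{u}} (f : X ⟶ Y) [IsSeparated f]
    [LocallyQuasiFinite f] [LocallyOfFiniteType f] : BigSite.PropA f := by
  intro U g _ u
  obtain ⟨U₀, hU₀, huU₀⟩ : ∃ U₀ : U.Opens, IsAffineOpen U₀ ∧ u ∈ U₀ := by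
    obtain ⟨_, ⟨U₀, hU₀, rfl⟩, huU₀, -⟩ := U.isBasis_affineOpens.exists_subset_of_mem_open
      (Set.mem_univ u) isOpen_univ
    exact ⟨U₀, hU₀, huU₀⟩
  haveI : IsAffine (U₀ : Scheme.{u}) := hU₀
  let g₀ : (U₀ : Scheme.{u}) ⟶ X := U₀.ι ≫ g
  haveI : Etale g₀ := inferInstance
  haveI : IsSeparated g₀ := inferInstance
  haveI : LocallyQuasiFinite g₀ :=
    ((Groth.Agent.Lib.Helper6.SmQF.etale_iff_smooth_and_locallyQuasiFinite g₀).1 inferInstance).2
  let F : (U₀ : Scheme.{u}) ⟶ Y := g₀ ≫ f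
  haveI : IsSeparated F := inferInstance
  haveI : LocallyOfFiniteType F := inferInstance
  haveI : LocallyQuasiFinite F := inferInstance
  let u₀ : ↥(U₀ : Scheme.{u}) := ⟨u, huU₀⟩
  obtain ⟨V, v, pt, hv, hvpt, -, Vz, -, H⟩ :=
    Groth.Agent.Lib.Helper20.EtSections.exists_etale_split_clopen F (F u₀) {u₀}
      (Set.finite_singleton _) (by
        intro t ht
        rw [Set.mem_singleton_iff] at ht
        subst ht
        exact ⟨rfl, F.quasiFiniteAt _⟩)
  haveI := hv
  obtain ⟨w', hw'1, hw'2⟩ := Scheme.Pullback.exists_preimage_pullback (f := F) (g := v) u₀ pt hvpt.symm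
  obtain ⟨hw'mem, hclopen, hfin, huniq, hpins, -⟩ := H w' hw'2 (by rw [hw'1]; rfl)
  -- the finite clopen piece of `U₀ ×_Y V`
  let W' : (pullback F v).Opens := Vz w'
  haveI : IsFinite (W'.ι ≫ pullback.snd F v) := hfin
  let P := pullback f v
  let Gt : pullback F v ⟶ P :=
    (pullbackRightPullbackFstIso f v g₀).inv ≫ pullback.snd g₀ (pullback.fst f v)
  haveI : Etale Gt := inferInstance
  have hGt_snd : Gt ≫ pullback.snd f v = pullback.snd F v :=
    pullbackRightPullbackFstIso_inv_snd_snd f v g₀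
  have hGt_fst : Gt ≫ pullback.fst f v = pullback.fst F v ≫ g₀ :=
    pullbackRightPullbackFstIso_inv_snd_fst f v g₀
  let G : (W' : Scheme.{u}) ⟶ P := W'.ι ≫ Gt
  haveI : Etale G := inferInstance
  have hG_snd : G ≫ pullback.snd f v = W'.ι ≫ pullback.snd F v := by
    simp only [G, Category.assoc, hGt_snd]
  haveI : IsFinite (G ≫ pullback.snd f v) := by rw [hG_snd]; infer_instance
  haveI : IsFinite G := IsFinite.of_comp G (pullback.snd f v)
  let w'₀ : ↥(W' : Scheme.{u}) := ⟨w', hw'mem⟩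
  have hfib : ∀ z : ↥(W' : Scheme.{u}), G z = G w'₀ → z = w'₀ := by
    intro z hz
    have h1 : (G ≫ pullback.snd f v) z = (G ≫ pullback.snd f v) w'₀ :=
      congrArg (pullback.snd f v) hz
    rw [hG_snd] at h1
    have h2 : pullback.snd F v (W'.ι z) = pt := by
      have : (W'.ι ≫ pullback.snd F v) w'₀ = pt := hw'2
      rw [← this, ← h1]; rfl
    have h3 : W'.ι z = w' := huniq _ z.2 h2
    exact Subtype.ext h3
  have hpi : (G.residueFieldMap w'₀).hom.IsPurelyInseparable := by
    have h1 : PInsep ((W'.ι ≫ pullback.snd F v).residueFieldMap w'₀).hom :=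
      pInsep_comp_of_isOpenImmersion W'.ι (pullback.snd F v) w'₀ hpins
    have h2 : PInsep ((G ≫ pullback.snd f v).residueFieldMap w'₀).hom :=
      pInsep_of_eq hG_snd.symm _ h1
    exact (pInsep_iff _).1 (pInsep_of_comp G _ _ h2)
  obtain ⟨N, hwN, hopen⟩ := exists_isOpenImmersion_of_finite_etale G w'₀ hfib hpi
  let O : (W' : Scheme.{u}).Opens := G ⁻¹ᵁ N
  let Hm : (O : Scheme.{u}) ⟶ P := O.ι ≫ G
  haveI : IsOpenImmersion Hm := hopen
  have hZopen : IsOpen (Set.range G) := G.isOpenMap.isOpen_range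
  have hZclosed : IsClosed (Set.range G) := G.isClosedMap.isClosed_range
  let Z : P.Opens := ⟨Set.range G, hZopen⟩
  let T : Set V := (G ≫ pullback.snd f v) '' (G ⁻¹' ((N : Set P)ᶜ))
  have hT : IsClosed T :=
    (G ≫ pullback.snd f v).isClosedMap _ (N.isOpen.isClosed_compl.preimage G.continuous)
  have hptT : pt ∉ T := by
    rintro ⟨z, hz, hzpt⟩
    have hzw : z = w'₀ := by
      rw [hG_snd] at hzpt
      have h3 : W'.ι z = w' := huniq _ z.2 hzpt
      exact Subtype.ext h3
    subst hzw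
    exact hz hwN
  let V₀ : V.Opens := ⟨Tᶜ, hT.isOpen_compl⟩
  let vf : (V₀ : Scheme.{u}) ⟶ Y := V₀.ι ≫ v
  let ρ : pullback f vf ⟶ P :=
    (pullbackLeftPullbackSndIso f v V₀.ι).inv ≫ pullback.fst (pullback.snd f v) V₀.ι
  have hρ_fst : ρ ≫ pullback.fst f v = pullback.fst f vf := by
    simp only [ρ, Category.assoc]
    exact pullbackLeftPullbackSndIso_inv_fst f v V₀.ι
  have hρ_snd : ρ ≫ pullback.snd f v = pullback.snd f vf ≫ V₀.ι := by
    simp only [ρ, Category.assoc]
    exact pullbackLeftPullbackSndIso_inv_fst_snd f v V₀.ι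
  let Wf : (pullback f vf).Opens := ρ ⁻¹ᵁ Z
  have hWf_closed : IsClosed (Wf : Set ↥(pullback f vf)) := hZclosed.preimage ρ.continuous
  have hrange : Set.range (Wf.ι ≫ ρ) ⊆ Set.range Hm := by
    rintro _ ⟨z, rfl⟩
    have hz : ρ (Wf.ι z) ∈ Set.range G := z.2
    obtain ⟨t, ht⟩ := hz
    have htN : G t ∈ N := by
      by_contra hcon
      have h1 : (G ≫ pullback.snd f v) t ∈ T := ⟨t, hcon, rfl⟩
      have h2 : (G ≫ pullback.snd f v) t = V₀.ι (pullback.snd f vf (Wf.ι z)) := by
        rw [Scheme.Hom.comp_apply, ht, ← Scheme.Hom.comp_apply, hρ_snd]; rfl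
      have h3 : V₀.ι (pullback.snd f vf (Wf.ι z)) ∈ V₀ := (pullback.snd f vf (Wf.ι z)).2
      exact h3 (h2 ▸ h1)
    exact ⟨⟨t, htN⟩, ht⟩
  let l : (Wf : Scheme.{u}) ⟶ O := IsOpenImmersion.lift Hm (Wf.ι ≫ ρ) hrange
  have hl : l ≫ Hm = Wf.ι ≫ ρ := IsOpenImmersion.lift_fac _ _ _
  let h : (Wf : Scheme.{u}) ⟶ U := l ≫ O.ι ≫ W'.ι ≫ pullback.fst F v ≫ U₀.ι
  refine ⟨V₀, vf, inferInstance, Wf, hWf_closed, h, ?_, ?_⟩
  · calc h ≫ g = l ≫ O.ι ≫ W'.ι ≫ (pullback.fst F v ≫ g₀) := by simp [h, g₀]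
      _ = l ≫ O.ι ≫ W'.ι ≫ Gt ≫ pullback.fst f v := by rw [hGt_fst]
      _ = (l ≫ Hm) ≫ pullback.fst f v := by simp [Hm, G]
      _ = Wf.ι ≫ pullback.fst f vf := by rw [hl, Category.assoc, hρ_fst]
  · let ptV₀ : ↥(V₀ : Scheme.{u}) := ⟨pt, hptT⟩
    have hsndw : pullback.snd f v (G w'₀) = V₀.ι ptV₀ := by
      have : (G ≫ pullback.snd f v) w'₀ = pt := by rw [hG_snd]; exact hw'2
      exact this
    obtain ⟨z₁, hz₁1, hz₁2⟩ := Scheme.Pullback.exists_preimage_pullback
      (f := pullback.snd f v) (g := V₀.ι) (G w'₀) ptV₀ hsndw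
    let z₀ : ↥(pullback f vf) := (pullbackLeftPullbackSndIso f v V₀.ι).hom z₁
    have hρz₀ : ρ z₀ = G w'₀ := by
      have : ((pullbackLeftPullbackSndIso f v V₀.ι).hom ≫ ρ) z₁ = G w'₀ := by
        simp only [ρ, Iso.hom_inv_id_assoc]
        exact hz₁1
      exact this
    have hz₀W : z₀ ∈ Wf := by
      change ρ z₀ ∈ Set.range G
      rw [hρz₀]; exact ⟨_, rfl⟩
    let zz : ↥(Wf : Scheme.{u}) := ⟨z₀, hz₀W⟩
    have hlz : O.ι (l zz) = w'₀ := by
      apply hfib
      have : (l ≫ Hm) zz = G w'₀ := by rw [hl]; exact hρz₀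
      exact this
    refine ⟨zz, ?_⟩
    change U₀.ι (pullback.fst F v (W'.ι (O.ι (l zz)))) = u
    rw [hlz]
    change U₀.ι (pullback.fst F v w') = u
    rw [hw'1]
    rfl

end Groth.Agent.S6627
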