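import Groth.Statements.S0069
import Mathlib
import Groth.Agent.Lib.Helper16EtGlue
-- import your own Groth.Agent.* helpers here

set_option autoImplicit false
open CategoryTheory CategoryTheory.Limits AlgebraicGeometry Opposite
universe u
open EtBase

namespace Groth.Agent.S0069

open Groth.Agent.Lib.Helper16.SmallEtale Groth.Agent.Lib.Helper16.EtGlue

/-- shrink a neighbourhood of a point outside a closed subscheme so that it misses it -/
lemma exists_open_missing {Z X Vl T : Scheme.{u}} (i : Z ⟶ X) [IsClosedImmersion i] (v : Vl ⟶ X)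
    (xl : T ⟶ Vl) (h : Disjoint (Set.range (xl ≫ v).base) (Set.range i.base)) :
    ∃ (O : Vl.Opens) (l : T ⟶ (O : Scheme.{u})), l ≫ O.ι = xl ∧ IsEmpty ↥(pullback (O.ι ≫ v) i) := by
  let Oc : X.Opens := ⟨(Set.range i.base)ᶜ, i.isClosedEmbedding.isClosed_range.isOpen_compl⟩
  let O : Vl.Opens := v ⁻¹ᵁ Oc
  have hrange : Set.range xl.base ⊆ Set.range O.ι.base := by
    rintro _ ⟨a, rfl⟩
    rw [Scheme.Opens.range_ι]
    change v (xl a) ∈ (Set.range i.base)ᶜ
    intro h2
    exact (Set.disjoint_left.mp h) ⟨a, rfl⟩ h2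
  refine ⟨O, IsOpenImmersion.lift O.ι xl hrange, IsOpenImmersion.lift_fac _ _ _, ⟨fun t => ?_⟩⟩
  have e := congrArg (fun m => m t) (pullback.condition (f := O.ι ≫ v) (g := i))
  simp only [Scheme.Hom.comp_apply] at e
  have h1 : v (O.ι (pullback.fst (O.ι ≫ v) i t)) ∈ (Set.range i.base)ᶜ :=
    (pullback.fst (O.ι ≫ v) i t).2
  exact h1 ⟨_, e.symm⟩


set_option backward.isDefEq.respectTransparency.types false in
/-- Abelian case, first half — the pushforward along a closed immersion has zero stalk at geometric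
points outside the closed subscheme. -/
theorem result {Z X : Scheme.{u}} (i : Z ⟶ X) [IsClosedImmersion i] [EtCoh.BCCont i]
    (G : EtCoh.Ab Z) {Ω : Type u} [Field Ω] [IsSepClosed Ω] (ξ : Spec (CommRingCat.of Ω) ⟶ X)
    (hξ : Disjoint (Set.range ξ.base) (Set.range i.base)) :
    IsZero ((EtCoh.stalk ξ).obj ((EtCoh.push i).obj G)) := by
  have : PreservesFilteredColimitsOfSize.{u, u} (forget AddCommGrpCat.{u + 1}) :=
    preservesFilteredColimitsOfSize_shrink.{u, u + 1, u, u + 1} _
  let Φ := Scheme.pointSmallEtale ξ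
  let P : X.Etaleᵒᵖ ⥤ AddCommGrpCat.{u + 1} := ((EtCoh.push i).obj G).obj
  change IsZero (Φ.presheafFiber.obj P)
  have hGs : Presieve.IsSheaf Z.smallEtaleTopology (G.obj ⋙ forget AddCommGrpCat) :=
    (isSheaf_iff_isSheaf_of_type _ _).mp
      ((Presheaf.isSheaf_iff_isSheaf_forget _ _ (forget AddCommGrpCat)).mp G.property)
  have hsub : Subsingleton (Φ.presheafFiber.obj P : AddCommGrpCat.{u + 1}) := by
    suffices h : ∀ p : (Φ.presheafFiber.obj P : AddCommGrpCat.{u + 1}), p = 0 by
      exact ⟨fun a b => (h a).trans (h b).symm⟩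
    intro p
    obtain ⟨V, x, z, rfl⟩ := Φ.toPresheafFiber_jointly_surjective (P := P) p
    obtain ⟨xl, hxl, hxw⟩ : ∃ xl : Spec (CommRingCat.of Ω) ⟶ V.left,
        xl = x.left ∧ xl ≫ V.hom = ξ := ⟨x.left, rfl, Over.w x⟩
    obtain ⟨O, l, hl, hempty⟩ := exists_open_missing i V.hom xl (by rw [hxw]; exact hξ)
    let V' : X.Etale := Scheme.Etale.mk (O.ι ≫ V.hom)
    let k : V' ⟶ V := MorphismProperty.Over.homMk O.ι rfl
    have hlw : l ≫ O.ι ≫ V.hom = ξ :=
      (Category.assoc _ _ _).symm.trans ((congrArg (fun m => m ≫ V.hom) hl).trans hxw)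
    let x' : Φ.fiber.obj V' := Over.homMk l hlw
    have hx' : Φ.fiber.map k x' = x := by
      apply Over.OverMorphism.ext
      exact hl.trans hxl
    have hE : IsEmpty ((EtCoh.bc i).obj V').left := hempty
    have hss : Subsingleton ((G.obj ⋙ forget AddCommGrpCat).obj (op ((EtCoh.bc i).obj V'))) :=
      subsingleton_of_isEmpty _ hGs _
    have hz : P.map k.op z = 0 := hss.elim _ _
    rw [← hx', ← Φ.toPresheafFiber_w_apply, hz, map_zero]
  exact AddCommGrpCat.isZero_of_subsingleton _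

end Groth.Agent.S0069
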