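import Groth.Statements.S0622
import Mathlib
import Groth.Agent.Lib.Helper16EtStalk
-- import your own Groth.Agent.* helpers here

set_option autoImplicit false
open CategoryTheory CategoryTheory.Limits AlgebraicGeometry Opposite
universe u
open EtCore

namespace Groth.Agent.S0622

open Groth.Agent.Lib.Helper16.EtStalk

/-- Exactness of a three-term complex of abelian etale sheaves can be tested on stalks at all geometric
points; likewise a morphism of abelian etale sheaves is a monomorphism, respectively an epimorphism,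
exactly when every geometric stalk map is injective, respectively surjective. -/
theorem result {X : Scheme.{u}} (S : ShortComplex (EtCoh.Ab X)) {F G : EtCoh.Ab X} (a : F ⟶ G) :
    (S.Exact ↔ ∀ (Ω : Type u) [Field Ω] [IsSepClosed Ω] (ξ : Spec (CommRingCat.of Ω) ⟶ X),
      (S.map (EtCoh.stalk ξ)).Exact) ∧
    (Mono a ↔ ∀ (Ω : Type u) [Field Ω] [IsSepClosed Ω] (ξ : Spec (CommRingCat.of Ω) ⟶ X),
      Function.Injective ((EtCoh.stalk ξ).map a)) ∧
    (Epi a ↔ ∀ (Ω : Type u) [Field Ω] [IsSepClosed Ω] (ξ : Spec (CommRingCat.of Ω) ⟶ X),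
      Function.Surjective ((EtCoh.stalk ξ).map a)) := by
  refine ⟨⟨?_, ?_⟩, ⟨?_, ?_⟩, ⟨?_, ?_⟩⟩
  · intro hS Ω _ _ ξ
    exact hS.map (EtCoh.stalk ξ)
  · intro h
    rw [S.exact_iff_isZero_homology]
    apply isZero_of_stalks
    intro Ω _ _ ξ
    have h1 := (h Ω ξ)
    rw [ShortComplex.exact_iff_isZero_homology] at h1
    exact h1.of_iso (S.mapHomologyIso (EtCoh.stalk ξ)).symm
  · intro ha Ω _ _ ξ
    have : Mono ((EtCoh.stalk ξ).map a) := inferInstance
    exact (AddCommGrpCat.mono_iff_injective _).mp this
  · intro h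
    exact mono_of_stalks a h
  · intro ha Ω _ _ ξ
    have : Epi ((EtCoh.stalk ξ).map a) := inferInstance
    exact (AddCommGrpCat.epi_iff_surjective _).mp this
  · intro h
    exact epi_of_stalks a h

end Groth.Agent.S0622
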