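import Groth.Statements.S6628
import Mathlib
import Groth.Agent.S6627
-- import your own Groth.Agent.* helpers here

set_option autoImplicit false
set_option backward.isDefEq.respectTransparency.types false
open CategoryTheory CategoryTheory.Limits AlgebraicGeometry Opposite
universe u
open EtCore

namespace Groth.Agent.S6628

open TopologicalSpace TensorProduct

/-- pointwise form of condition (A) -/
def PropAAt {X Y U : Scheme.{u}} (f : X ⟶ Y) (g : U ⟶ X) (u : U) : Prop :=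
  ∃ (V : Scheme.{u}) (v : V ⟶ Y) (_ : Etale v) (W : (pullback f v).Opens)
    (_ : IsClosed (W : Set ↥(pullback f v))) (h : (W : Scheme.{u}) ⟶ U),
    h ≫ g = W.ι ≫ pullback.fst f v ∧ u ∈ Set.range h.base

theorem propA_iff {X Y : Scheme.{u}} (f : X ⟶ Y) :
    BigSite.PropA f ↔ ∀ (U : Scheme.{u}) (g : U ⟶ X) [Etale g] (u : U), PropAAt f g u := Iff.rfl

theorem exists_preimage_of_isPullback {P X Y S : Scheme.{u}} {fst : P ⟶ X} {snd : P ⟶ Y}
    {f : X ⟶ S} {g : Y ⟶ S} (h : IsPullback fst snd f g) (x : X) (y : Y) (hxy : f x = g y) :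
    ∃ p : P, fst p = x ∧ snd p = y := by
  obtain ⟨z, hz1, hz2⟩ := Scheme.Pullback.exists_preimage_pullback (f := f) (g := g) x y hxy
  refine ⟨h.isoPullback.inv z, ?_, ?_⟩
  · rw [← Scheme.Hom.comp_apply, IsPullback.isoPullback_inv_fst]; exact hz1
  · rw [← Scheme.Hom.comp_apply, IsPullback.isoPullback_inv_snd]; exact hz2

/-- transfer of condition (A) along an étale base change of the target. -/
theorem propAAt_of_baseChange {X Y U Y₁ U₁ : Scheme.{u}} (f : X ⟶ Y) (g : U ⟶ X) (u : U)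
    (j : Y₁ ⟶ Y) [Etale j] (g₁ : U₁ ⟶ pullback f j) (k : U₁ ⟶ U)
    (hk : k ≫ g = g₁ ≫ pullback.fst f j) (u₁ : U₁) (hu₁ : k u₁ = u)
    (H : PropAAt (pullback.snd f j) g₁ u₁) : PropAAt f g u := by
  obtain ⟨V, v, hv, W₁, hW₁, h₁, hh₁, w₁, hw₁⟩ := H
  let e := pullbackLeftPullbackSndIso f j v
  let W : (pullback f (v ≫ j)).Opens := e.inv ⁻¹ᵁ W₁
  refine ⟨V, v ≫ j, inferInstance, W, hW₁.preimage e.inv.continuous,
    (e.inv ∣_ W₁) ≫ h₁ ≫ k, ?_, ?_⟩
  · calc ((e.inv ∣_ W₁) ≫ h₁ ≫ k) ≫ g = (e.inv ∣_ W₁) ≫ (h₁ ≫ g₁) ≫ pullback.fst f j := by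
          simp only [Category.assoc, hk]
      _ = ((e.inv ∣_ W₁) ≫ W₁.ι) ≫ pullback.fst _ _ ≫ pullback.fst f j := by
          rw [hh₁]; simp only [Category.assoc]
      _ = W.ι ≫ pullback.fst f (v ≫ j) := by
          rw [morphismRestrict_ι, Category.assoc]
          congr 1
          exact pullbackLeftPullbackSndIso_inv_fst f j v
  · let w : ↥(pullback f (v ≫ j)) := e.hom (W₁.ι w₁)
    have hew : e.inv w = W₁.ι w₁ := by
      change (e.hom ≫ e.inv) (W₁.ι w₁) = _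
      rw [Iso.hom_inv_id]; rfl
    have hwW : w ∈ W := by
      change e.inv w ∈ W₁
      rw [hew]; exact w₁.2
    refine ⟨⟨w, hwW⟩, ?_⟩
    have h2 : (e.inv ∣_ W₁) ⟨w, hwW⟩ = w₁ := by
      apply W₁.ι.injective
      change ((e.inv ∣_ W₁) ≫ W₁.ι) ⟨w, hwW⟩ = _
      rw [morphismRestrict_ι]
      exact hew
    change k (h₁ ((e.inv ∣_ W₁) ⟨w, hwW⟩)) = u
    rw [h2, hw₁, hu₁]

/-- transfer of condition (A): if `f₁ = c ≫ f'` and `g₁` is the base change of `g'` along `c`. -/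
theorem propAAt_of_isPullback {X₁ X' Y₁ U₁ U' : Scheme.{u}} (f₁ : X₁ ⟶ Y₁) (g₁ : U₁ ⟶ X₁) (u₁ : U₁)
    (f' : X' ⟶ Y₁) (c : X₁ ⟶ X') (hc : c ≫ f' = f₁) (g' : U' ⟶ X') (b : U₁ ⟶ U')
    (hpb : IsPullback b g₁ g' c) (H : PropAAt f' g' (b u₁)) : PropAAt f₁ g₁ u₁ := by
  obtain ⟨V, v, hv, W', hW', h', hh', w'₁, hw'₁⟩ := H
  let θ : pullback f₁ v ⟶ pullback f' v :=
    pullback.map f₁ v f' v c (𝟙 V) (𝟙 Y₁) (by simp [hc]) (by simp)
  have hθ_fst : θ ≫ pullback.fst f' v = pullback.fst f₁ v ≫ c := pullback.lift_fst _ _ _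
  have hθ_snd : θ ≫ pullback.snd f' v = pullback.snd f₁ v :=
    (pullback.lift_snd _ _ _).trans (Category.comp_id _)
  let W : (pullback f₁ v).Opens := θ ⁻¹ᵁ W'
  have hcomm : ((θ ∣_ W') ≫ h') ≫ g' = (W.ι ≫ pullback.fst f₁ v) ≫ c := by
    rw [Category.assoc, hh', ← Category.assoc, morphismRestrict_ι, Category.assoc, hθ_fst,
      Category.assoc]
  let h : (W : Scheme.{u}) ⟶ U₁ := hpb.lift ((θ ∣_ W') ≫ h') (W.ι ≫ pullback.fst f₁ v) hcomm
  have hh_b : h ≫ b = (θ ∣_ W') ≫ h' := hpb.lift_fst _ _ _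
  have hh_g : h ≫ g₁ = W.ι ≫ pullback.fst f₁ v := hpb.lift_snd _ _ _
  refine ⟨V, v, hv, W, hW'.preimage θ.continuous, h, hh_g, ?_⟩
  -- the square `θ, fst; fst', c` is a pullback
  have S1 : IsPullback θ (pullback.fst f₁ v) (pullback.fst f' v) c := by
    refine IsPullback.of_right ?_ hθ_fst (IsPullback.of_hasPullback f' v).flip
    rw [hθ_snd, hc]
    exact (IsPullback.of_hasPullback f₁ v).flip
  have S2 : IsPullback (θ ∣_ W') W.ι W'.ι θ := isPullback_morphismRestrict θ W'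
  have S3 : IsPullback (θ ∣_ W') (W.ι ≫ pullback.fst f₁ v) (W'.ι ≫ pullback.fst f' v) c :=
    S2.paste_vert S1
  -- the left square
  have S4 : IsPullback h (θ ∣_ W') b h' := by
    refine IsPullback.of_right ?_ hh_b hpb.flip
    rw [hh_g, hh']
    exact S3.flip
  obtain ⟨w, hw1, hw2⟩ := exists_preimage_of_isPullback S4 u₁ w'₁ hw'₁.symm
  exact ⟨w, hw1⟩

/-- descent of an étale morphism to a finite level, scheme form -/
theorem exists_finite_model {X₁ Y₁ U₁ : Scheme.{u}} [IsAffine X₁] [IsAffine Y₁] [IsAffine U₁]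
    (f₁ : X₁ ⟶ Y₁) [IsIntegralHom f₁] (g₁ : U₁ ⟶ X₁) [Etale g₁] :
    ∃ (X' U' : Scheme.{u}) (f' : X' ⟶ Y₁) (c : X₁ ⟶ X') (g' : U' ⟶ X') (b : U₁ ⟶ U'),
      IsFinite f' ∧ Etale g' ∧ c ≫ f' = f₁ ∧ IsPullback b g₁ g' c := by
  let A := Γ(Y₁, ⊤)
  let B := Γ(X₁, ⊤)
  let C := Γ(U₁, ⊤)
  let φ : A ⟶ B := f₁.appTop
  let ψ : B ⟶ C := g₁.appTop
  have hφ : φ.hom.IsIntegral :=
    ((HasAffineProperty.iff_of_isAffine (P := @IsIntegralHom)).1 ‹IsIntegralHom f₁›).2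
  have hψ : ψ.hom.Etale := (HasRingHomProperty.iff_of_isAffine (P := @Etale)).1 ‹Etale g₁›
  algebraize [φ.hom, ψ.hom]
  obtain ⟨B₀, C₀, _, _, hB₀fg, hC₀et, ⟨e⟩⟩ := Algebra.Etale.exists_subalgebra_fg A B C
  haveI : Algebra.IsIntegral A B₀ :=
    Algebra.IsIntegral.of_injective B₀.val Subtype.val_injective
  haveI : Algebra.FiniteType A B₀ := (Subalgebra.fg_iff_finiteType B₀).mp hB₀fg
  haveI : Module.Finite A B₀ := Algebra.IsIntegral.finite
  let X' : Scheme.{u} := Spec (.of B₀)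
  let U' : Scheme.{u} := Spec (.of C₀)
  let g' : U' ⟶ X' := Spec.map (CommRingCat.ofHom (algebraMap B₀ C₀))
  have hg' : Etale g' := HasRingHomProperty.Spec_iff.mpr (RingHom.etale_algebraMap.mpr hC₀et)
  let f' : X' ⟶ Y₁ := Spec.map (CommRingCat.ofHom (algebraMap A B₀)) ≫ Y₁.isoSpec.inv
  haveI : IsFinite (Spec.map (CommRingCat.ofHom (algebraMap A B₀))) :=
    (IsFinite.SpecMap_iff _).mpr (RingHom.finite_algebraMap.mpr ‹_›)
  have hf' : IsFinite f' := inferInstance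
  let c : X₁ ⟶ X' := X₁.isoSpec.hom ≫ Spec.map (CommRingCat.ofHom (algebraMap B₀ B))
  have hc : c ≫ f' = f₁ := by
    have h1 : CommRingCat.ofHom (algebraMap A B₀) ≫ CommRingCat.ofHom (algebraMap B₀ B) = φ := by
      ext a
      rfl
    simp only [c, f', Category.assoc]
    rw [← Spec.map_comp_assoc, h1, Scheme.isoSpec_hom_naturality_assoc, Iso.hom_inv_id,
      Category.comp_id]
  let β : C₀ →+* C := (e.symm.toAlgHom.toRingHom).comp
    (Algebra.TensorProduct.includeRight (R := B₀) (A := B) (B := C₀)).toRingHom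
  let b : U₁ ⟶ U' := U₁.isoSpec.hom ≫ Spec.map (CommRingCat.ofHom β)
  refine ⟨X', U', f', c, g', b, hf', hg', hc, ?_⟩
  have hpo := CommRingCat.isPushout_tensorProduct B₀ B C₀
  have hpb0 := (isPullback_SpecMap_of_isPushout _ _ _ _ hpo).flip
  let eC : CommRingCat.of C ≅ CommRingCat.of (B ⊗[B₀] C₀) := e.toRingEquiv.toCommRingCatIso
  let e₁ : Spec (.of (B ⊗[B₀] C₀)) ≅ U₁ := Scheme.Spec.mapIso eC.op ≪≫ U₁.isoSpec.symm
  refine hpb0.of_iso e₁ (Iso.refl _) X₁.isoSpec.symm (Iso.refl _) ?_ ?_ ?_ ?_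
  · have h1 : CommRingCat.ofHom β ≫ eC.hom =
        CommRingCat.ofHom (Algebra.TensorProduct.includeRight (R := B₀) (A := B) (B := C₀)).toRingHom := by
      ext x
      change e (e.symm (Algebra.TensorProduct.includeRight x)) = _
      rw [AlgEquiv.apply_symm_apply]
      rfl
    simp only [Iso.refl_hom, Category.comp_id, e₁, b, Iso.trans_hom, Iso.symm_hom, Category.assoc,
      Iso.inv_hom_id_assoc, Functor.mapIso_hom, Iso.op_hom, Scheme.Spec_map, Quiver.Hom.unop_op]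
    rw [← Spec.map_comp, h1]
  · have h2 : ψ ≫ eC.hom =
        CommRingCat.ofHom (Algebra.TensorProduct.includeLeftRingHom (R := B₀) (A := B) (B := C₀)) := by
      ext x
      change e (algebraMap B C x) = _
      rw [e.commutes]
      rfl
    simp only [e₁, Iso.trans_hom, Iso.symm_hom, Category.assoc, Functor.mapIso_hom, Iso.op_hom,
      Scheme.Spec_map, Quiver.Hom.unop_op]
    rw [← Scheme.isoSpec_inv_naturality, ← Spec.map_comp_assoc, h2]
  · simp; rfl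
  · simp [c]


/-- An integral morphism of schemes satisfies condition (A): for every etale U ⟶ X and every point u of
U there are an etale V ⟶ Y, an open and closed subscheme W of X ×_Y V and an X-morphism W ⟶ U whose
image contains u. -/
theorem result {X Y : Scheme.{u}} (f : X ⟶ Y) [IsIntegralHom f] : BigSite.PropA f := by
  intro U g _ u
  change PropAAt f g u
  obtain ⟨Y₀, hY₀, hyY₀⟩ : ∃ Y₀ : Y.Opens, IsAffineOpen Y₀ ∧ f (g u) ∈ Y₀ := by
    obtain ⟨_, ⟨Y₀, hY₀, rfl⟩, hy, -⟩ := Y.isBasis_affineOpens.exists_subset_of_mem_open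
      (Set.mem_univ (f (g u))) isOpen_univ
    exact ⟨Y₀, hY₀, hy⟩
  haveI : IsAffine (Y₀ : Scheme.{u}) := hY₀
  let j : (Y₀ : Scheme.{u}) ⟶ Y := Y₀.ι
  let f₁ : pullback f j ⟶ (Y₀ : Scheme.{u}) := pullback.snd f j
  haveI : IsAffine (pullback f j) := isAffine_of_isAffineHom f₁
  let a : pullback f j ⟶ X := pullback.fst f j
  obtain ⟨x₁, hx₁a, -⟩ := Scheme.Pullback.exists_preimage_pullback (f := f) (g := j) (g u)
    ⟨f (g u), hyY₀⟩ rfl
  obtain ⟨ut, hut1, hut2⟩ := Scheme.Pullback.exists_preimage_pullback (f := g) (g := a) u x₁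
    hx₁a.symm
  obtain ⟨U₁, hU₁, hutU₁⟩ : ∃ U₁ : (pullback g a).Opens, IsAffineOpen U₁ ∧ ut ∈ U₁ := by
    obtain ⟨_, ⟨U₁, hU₁, rfl⟩, hy, -⟩ := (pullback g a).isBasis_affineOpens.exists_subset_of_mem_open
      (Set.mem_univ ut) isOpen_univ
    exact ⟨U₁, hU₁, hy⟩
  haveI : IsAffine (U₁ : Scheme.{u}) := hU₁
  let g₁ : (U₁ : Scheme.{u}) ⟶ pullback f j := U₁.ι ≫ pullback.snd g a
  let k : (U₁ : Scheme.{u}) ⟶ U := U₁.ι ≫ pullback.fst g a
  have hk : k ≫ g = g₁ ≫ pullback.fst f j := by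
    simp only [k, g₁, Category.assoc, pullback.condition]
    rfl
  let u₁ : ↥(U₁ : Scheme.{u}) := ⟨ut, hutU₁⟩
  have hu₁ : k u₁ = u := hut1
  refine propAAt_of_baseChange f g u j g₁ k hk u₁ hu₁ ?_
  haveI : Etale g₁ := inferInstance
  obtain ⟨X', U', f', c, g', b, hf', hg', hc, hpb⟩ := exists_finite_model f₁ g₁
  refine propAAt_of_isPullback f₁ g₁ u₁ f' c hc g' b hpb ?_
  exact Groth.Agent.S6627.result f' U' g' (b u₁)

end Groth.Agent.S6628
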