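import Groth.Statements.S0647
import Mathlib
import Groth.Agent.Lib.Helper16PointSum
-- import your own Groth.Agent.* helpers here

set_option autoImplicit false
set_option linter.unusedSectionVars false
open CategoryTheory CategoryTheory.Limits AlgebraicGeometry Opposite
universe u
open EtCore

namespace Groth.Agent.S0647


variable {U X : Scheme.{u}} (j : U ⟶ X) [AlgebraicGeometry.Etale j]
  {Ω : Type u} [Field Ω] [IsSepClosed Ω] (ξ : Spec (CommRingCat.of Ω) ⟶ X)

/-- index set: geometric points of `U` over `ξ` -/
abbrev Idx : Type u := {u : Spec (CommRingCat.of Ω) ⟶ U // u ≫ j = ξ}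

set_option backward.isDefEq.respectTransparency.types false in
/-- forward map -/
noncomputable def dFun (V : U.Etale) :
    (Σ u : Idx j ξ, (Scheme.pointSmallEtale u.1).fiber.obj V) →
      (Scheme.pointSmallEtale ξ).fiber.obj ((EtShriek.compEtale j).obj V) :=
  fun p => Over.homMk (p.2.left : Spec (CommRingCat.of Ω) ⟶ V.left) (by
    have h1 : (p.2.left : Spec (CommRingCat.of Ω) ⟶ V.left) ≫ V.hom = p.1.1 := Over.w p.2
    change (p.2.left : Spec (CommRingCat.of Ω) ⟶ V.left) ≫ V.hom ≫ j = ξ
    rw [← Category.assoc, h1, p.1.2])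

set_option backward.isDefEq.respectTransparency.types false in
/-- backward map -/
noncomputable def dInv (V : U.Etale) :
    (Scheme.pointSmallEtale ξ).fiber.obj ((EtShriek.compEtale j).obj V) →
      (Σ u : Idx j ξ, (Scheme.pointSmallEtale u.1).fiber.obj V) :=
  fun s => ⟨⟨(s.left : Spec (CommRingCat.of Ω) ⟶ V.left) ≫ V.hom, by
      have h1 : (s.left : Spec (CommRingCat.of Ω) ⟶ V.left) ≫ V.hom ≫ j = ξ := Over.w s
      rw [Category.assoc, h1]⟩,
    Over.homMk (s.left : Spec (CommRingCat.of Ω) ⟶ V.left) rfl⟩

set_option backward.isDefEq.respectTransparency.types false in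
lemma heq_of_left (V : U.Etale) (u u' : Idx j ξ) (h : u = u')
    (t : (Scheme.pointSmallEtale u.1).fiber.obj V) (t' : (Scheme.pointSmallEtale u'.1).fiber.obj V)
    (hl : (t.left : Spec (CommRingCat.of Ω) ⟶ V.left) = t'.left) : HEq t t' := by
  subst h
  exact heq_of_eq (Over.OverMorphism.ext hl)

set_option backward.isDefEq.respectTransparency.types false in
/-- the bijection -/
noncomputable def dEquiv (V : U.Etale) :
    (Σ u : Idx j ξ, (Scheme.pointSmallEtale u.1).fiber.obj V) ≃
      (Scheme.pointSmallEtale ξ).fiber.obj ((EtShriek.compEtale j).obj V) where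
  toFun := dFun j ξ V
  invFun := dInv j ξ V
  left_inv := by
    rintro ⟨u, t⟩
    have h1 : (t.left : Spec (CommRingCat.of Ω) ⟶ V.left) ≫ V.hom = u.1 := Over.w t
    refine Sigma.ext (Subtype.ext h1) ?_
    exact heq_of_left j ξ V _ _ (Subtype.ext h1) _ _ rfl
  right_inv := by
    intro s
    apply Over.OverMorphism.ext
    rfl

set_option backward.isDefEq.respectTransparency.types false in
lemma dEquiv_map {V V' : U.Etale} (g : V ⟶ V') (u : Idx j ξ)
    (t : (Scheme.pointSmallEtale u.1).fiber.obj V) :
    dEquiv j ξ V' ⟨u, (Scheme.pointSmallEtale u.1).fiber.map g t⟩ =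
      (Scheme.pointSmallEtale ξ).fiber.map ((EtShriek.compEtale j).map g) (dEquiv j ξ V ⟨u, t⟩) := by
  apply Over.OverMorphism.ext
  rfl


set_option backward.isDefEq.respectTransparency.types false in

/-- Stalks of the extension by zero: let j : U → X be an étale morphism of schemes, F an abelian sheaf
on the small étale site of U and ξ : Spec Ω → X a geometric point (Ω separably closed). Then the
stalk of the extension by zero j_!F at ξ is isomorphic to the direct sum, over the geometric points
u : Spec Ω → U with j ∘ u = ξ, of the stalks F_u. Only the existence of an isomorphism is asserted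
(the identification is in fact canonical). (Continuity of the composition functor of étale sites
along j is carried as an instance binder.) -/
theorem result {U X : Scheme.{u}} (j : U ⟶ X) [AlgebraicGeometry.Etale j] [EtShriek.JCont j]
    (F : EtCoh.Ab U) {Ω : Type u} [Field Ω] [IsSepClosed Ω] (ξ : Spec (CommRingCat.of Ω) ⟶ X) :
    Nonempty ((EtCoh.stalk ξ).obj ((EtShriek.extZero j).obj F) ≅
      ∐ fun u : {u : Spec (CommRingCat.of Ω) ⟶ U // u ≫ j = ξ} => (EtCoh.stalk u.1).obj F) := by
  exact Groth.Agent.Lib.Helper16.PointSum.nonempty_iso (EtShriek.compEtale j)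
    (Scheme.pointSmallEtale ξ) (fun u : Idx j ξ => Scheme.pointSmallEtale u.1)
    (dEquiv j ξ) (fun g u t => dEquiv_map j ξ g u t) F

end Groth.Agent.S0647
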