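import Groth.Statements.S0651
import Mathlib
-- import your own Groth.Agent.* helpers here

set_option autoImplicit false
open CategoryTheory CategoryTheory.Limits AlgebraicGeometry Opposite
universe u
open EtCore

namespace Groth.Agent.S0651


set_option backward.isDefEq.respectTransparency.types false in
/-- composition with an etale `j` is left adjoint to base change along `j` -/
noncomputable def compBcAdj {U X : Scheme.{u}} (j : U ⟶ X) [hj : AlgebraicGeometry.Etale j] :
    EtShriek.compEtale j ⊣ EtCoh.bc j :=
  MorphismProperty.Over.mapPullbackAdj EtCoh.etaleMP ⊤ j hj trivial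

/-- `j^{-1} ⊣ j_*` for etale `j`, with `j^{-1}` restriction -/
noncomputable def restrPushAdj {U X : Scheme.{u}} (j : U ⟶ X) [AlgebraicGeometry.Etale j]
    [EtShriek.JCont j] : EtShriek.restrAlong j ⊣ EtCoh.push j :=
  (compBcAdj j).sheafPushforwardContinuous (E := AddCommGrpCat.{u + 1})
    U.smallEtaleTopology X.smallEtaleTopology

set_option backward.isDefEq.respectTransparency.types false in
lemma isIso_counit {U X : Scheme.{u}} (j : U ⟶ X) [AlgebraicGeometry.Etale j] [Mono j]
    [EtShriek.JCont j] (F : EtCoh.Ab U) : IsIso ((restrPushAdj j).counit.app F) := by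
  have h1 : IsIso ((sheafToPresheaf _ _).map ((restrPushAdj j).counit.app F)) := by
    apply (config := { allowSynthFailures := true }) NatIso.isIso_of_isIso_app
    intro V
    have h0 : IsIso ((compBcAdj j).unit.app (unop V)) := inferInstance
    have h2 : IsIso (F.obj.map ((compBcAdj j).unit.app (unop V)).op) := inferInstance
    simp [restrPushAdj]
    exact h2
  exact isIso_of_reflects_iso _ (sheafToPresheaf _ _)

set_option backward.isDefEq.respectTransparency.types false in
lemma isIso_unit_extZero {U X : Scheme.{u}} (j : U ⟶ X) [AlgebraicGeometry.Etale j] [Mono j]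
    [EtShriek.JCont j] : IsIso (EtShriek.extZeroAdj j).unit := by
  let t : Adjunction.Triple (EtShriek.extZero j) (EtShriek.restrAlong j) (EtCoh.push j) :=
    ⟨EtShriek.extZeroAdj j, restrPushAdj j⟩
  rw [t.isIso_unit_iff_isIso_counit]
  have h : ∀ F, IsIso ((restrPushAdj j).counit.app F) := fun F => isIso_counit j F
  exact NatIso.isIso_of_isIso_app _

set_option backward.isDefEq.respectTransparency.types false in
lemma isIso_counit_pull {U X : Scheme.{u}} (j : U ⟶ X) [AlgebraicGeometry.Etale j] [Mono j]
    [EtShriek.JCont j] (F : EtCoh.Ab U) : IsIso ((EtCoh.pullPushAdj j).counit.app F) := by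
  have e := Adjunction.leftAdjointUniq_hom_app_counit (EtCoh.pullPushAdj j) (restrPushAdj j) F
  have := isIso_counit j F
  rw [← e]
  infer_instance


/-- For an open immersion j : U -> X and an abelian sheaf F on the small etale site of U, the counit
j^{-1} j_* F -> F of the pullback/direct image adjunction and the unit F -> j^{-1} j_! F of the
extension-by-zero/restriction adjunction are isomorphisms. (Continuity of the composition functor of
etale sites, which always holds, is carried as an instance hypothesis.) -/
theorem result {U X : Scheme.{u}} (j : U ⟶ X) [IsOpenImmersion j]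
    [AlgebraicGeometry.Etale j] [EtShriek.JCont j] (F : EtCoh.Ab U) :
    IsIso ((EtCoh.pullPushAdj j).counit.app F) ∧ IsIso ((EtShriek.extZeroAdj j).unit.app F) := by
  have := isIso_unit_extZero j
  exact ⟨isIso_counit_pull j F, inferInstance⟩

end Groth.Agent.S0651
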