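import Groth.Statements.S0652
import Mathlib
import Groth.Agent.S0100
import Groth.Agent.S0647
import Groth.Agent.S0651
import Groth.Agent.Lib.Helper16EtStalk
-- import your own Groth.Agent.* helpers here

set_option autoImplicit false
open CategoryTheory CategoryTheory.Limits AlgebraicGeometry Opposite
universe u
open EtCore

namespace Groth.Agent.S0652

open Groth.Agent.Lib.Helper16.EtStalk


set_option backward.isDefEq.respectTransparency.types false in
/-- stalks of the restriction along an etale map -/
noncomputable def stalkRestrIso {U X : Scheme.{u}} (j : U ⟶ X) [AlgebraicGeometry.Etale j]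
    [EtShriek.JCont j] {Ω : Type u} [Field Ω] [IsSepClosed Ω] (v : Spec (CommRingCat.of Ω) ⟶ U) :
    EtCoh.stalk (v ≫ j) ≅ EtShriek.restrAlong j ⋙ EtCoh.stalk v :=
  let adj₁ := (Groth.Agent.S0651.restrPushAdj j).comp
    ((Scheme.pointSmallEtale v).skyscraperSheafAdjunction (A := AddCommGrpCat.{u + 1}))
  let adj₂ := (Scheme.pointSmallEtale (v ≫ j)).skyscraperSheafAdjunction (A := AddCommGrpCat.{u + 1})
  (conjugateIsoEquiv adj₁ adj₂).symm (Groth.Agent.S0100.skySheafIso j v)

lemma range_spec_field {X : Scheme.{u}} {Ω : Type u} [Field Ω] (ξ : Spec (CommRingCat.of Ω) ⟶ X) :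
    Set.range ξ = {ξ default} := by
  ext y
  constructor
  · rintro ⟨a, rfl⟩
    rw [Subsingleton.elim a default]
    rfl
  · rintro rfl
    exact ⟨default, rfl⟩


set_option backward.isDefEq.respectTransparency.types false in

/-- For an open immersion j : U -> X and an abelian sheaf F on the small etale site of U, an abelian
sheaf G on X is isomorphic to j_! F as soon as G restricts to a sheaf isomorphic to F on U and has
vanishing stalks at every geometric point of X not in U. (Continuity of the composition functor of
etale sites, which always holds, is carried as an instance hypothesis.) -/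
theorem result {U X : Scheme.{u}} (j : U ⟶ X) [IsOpenImmersion j]
    [AlgebraicGeometry.Etale j] [EtShriek.JCont j] (F : EtCoh.Ab U) (G : EtCoh.Ab X)
    (hres : Nonempty ((EtShriek.restrAlong j).obj G ≅ F))
    (hzero : ∀ (Ω : Type u) [Field Ω] [IsSepClosed Ω] (ξ : Spec (CommRingCat.of Ω) ⟶ X),
      Set.range ξ.base ⊆ (Set.range j.base)ᶜ → IsZero ((EtCoh.stalk ξ).obj G)) :
    Nonempty (G ≅ (EtShriek.extZero j).obj F) := by
  obtain ⟨e⟩ := hres
  let c : (EtShriek.extZero j).obj ((EtShriek.restrAlong j).obj G) ⟶ G :=
    (EtShriek.extZeroAdj j).counit.app G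
  have hc : IsIso c := by
    have hbij : ∀ (Ω : Type u) [Field Ω] [IsSepClosed Ω] (ξ : Spec (CommRingCat.of Ω) ⟶ X),
        Function.Bijective ((EtCoh.stalk ξ).map c) := by
      intro Ω _ _ ξ
      by_cases hξ : ξ default ∈ Set.range j.base
      · obtain ⟨v, rfl⟩ : ∃ v : Spec (CommRingCat.of Ω) ⟶ U, v ≫ j = ξ := by
          refine ⟨IsOpenImmersion.lift j ξ ?_, IsOpenImmersion.lift_fac _ _ _⟩
          rw [range_spec_field]
          exact Set.singleton_subset_iff.mpr hξ
        have h1 : IsIso ((EtShriek.restrAlong j).map c) := by
          have tri := (EtShriek.extZeroAdj j).right_triangle_components G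
          have := Groth.Agent.S0651.isIso_unit_extZero j
          have h3 : IsIso ((EtShriek.extZeroAdj j).unit.app ((EtShriek.restrAlong j).obj G) ≫
              (EtShriek.restrAlong j).map c) := by
            rw [tri]; exact IsIso.id _
          exact IsIso.of_isIso_comp_left ((EtShriek.extZeroAdj j).unit.app _) _
        have h2 : IsIso ((EtCoh.stalk (v ≫ j)).map c) := by
          have nat := (stalkRestrIso j v).hom.naturality c
          have h4 : IsIso ((EtShriek.restrAlong j ⋙ EtCoh.stalk v).map c) := by
            rw [Functor.comp_map]; infer_instance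
          have h5 : IsIso ((EtCoh.stalk (v ≫ j)).map c ≫ (stalkRestrIso j v).hom.app G) := by
            exact nat ▸ inferInstance
          exact IsIso.of_isIso_comp_right _ ((stalkRestrIso j v).hom.app G)
        exact (ConcreteCategory.isIso_iff_bijective _).mp h2
      · have hz1 : IsZero ((EtCoh.stalk ξ).obj G) := by
          apply hzero Ω ξ
          rw [range_spec_field]
          exact Set.singleton_subset_iff.mpr hξ
        have hz2 : IsZero ((EtCoh.stalk ξ).obj
            ((EtShriek.extZero j).obj ((EtShriek.restrAlong j).obj G))) := by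
          obtain ⟨i⟩ := Groth.Agent.S0647.result j ((EtShriek.restrAlong j).obj G) ξ
          refine IsZero.of_iso ?_ i
          have hemp : IsEmpty {u : Spec (CommRingCat.of Ω) ⟶ U // u ≫ j = ξ} := by
            constructor
            rintro ⟨u, rfl⟩
            exact hξ ⟨u default, rfl⟩
          rw [IsZero.iff_id_eq_zero]
          apply Sigma.hom_ext
          intro b
          exact (hemp.false b).elim
        have s1 := AddCommGrpCat.isZero_iff_subsingleton.mp hz1
        have s2 := AddCommGrpCat.isZero_iff_subsingleton.mp hz2
        constructor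
        · intro a b _
          exact Subsingleton.elim a b
        · intro b
          exact ⟨0, Subsingleton.elim _ _⟩
    have hm : Mono c := mono_of_stalks c (fun Ω _ _ ξ => (hbij Ω ξ).1)
    have he : Epi c := epi_of_stalks c (fun Ω _ _ ξ => (hbij Ω ξ).2)
    exact isIso_of_mono_of_epi c
  exact ⟨(asIso c).symm ≪≫ (EtShriek.extZero j).mapIso e⟩

end Groth.Agent.S0652
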