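import Groth.Statements.S0631
import Mathlib
import Groth.Agent.Lib.Helper23IntStalkC
import Groth.Agent.S0652
-- import your own Groth.Agent.* helpers here

set_option autoImplicit false
set_option backward.isDefEq.respectTransparency.types false
open CategoryTheory CategoryTheory.Limits AlgebraicGeometry Opposite
universe u
open EtCore

namespace Groth.Agent.S0631

open Groth.Agent.Lib.Helper23.FinStalkA Groth.Agent.Lib.Helper23.FinStalkB
  Groth.Agent.Lib.Helper23.FinStalkC Groth.Agent.Lib.Helper23.FinStalkD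
  Groth.Agent.Lib.Helper23.FinStalkE Groth.Agent.Lib.Helper23.IntStalkA
  Groth.Agent.Lib.Helper23.IntStalkB Groth.Agent.Lib.Helper23.IntStalkC
  Groth.Agent.Lib.Helper16.EtGlue Groth.Agent.S0101

/-- For a morphism f : X -> Y that is integral and universally injective, the direct image f_* on
abelian etale sheaves is full and faithful, an abelian sheaf on Y lies in its essential image
exactly when its support is contained in the image of f, and the counit f^{-1} f_* F -> F is an
isomorphism for every F. -/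
theorem result {X Y : Scheme.{u}} (f : X ⟶ Y)
    [IsIntegralHom f] [UniversallyInjective f] :
    (EtCoh.push f).Full ∧ (EtCoh.push f).Faithful ∧
    (∀ G : EtCoh.Ab Y, (EtCoh.push f).essImage G ↔ EtPBC.supp G ⊆ Set.range f.base) ∧
    ∀ F : EtCoh.Ab X, IsIso ((EtCoh.pullPushAdj f).counit.app F) := by
  have hc : ∀ F : EtCoh.Ab X, IsIso ((EtCoh.pullPushAdj f).counit.app F) := isIso_counit_ui f
  haveI : IsIso (EtCoh.pullPushAdj f).counit := NatIso.isIso_of_isIso_app _
  have hff := (EtCoh.pullPushAdj f).fullyFaithfulROfIsIsoCounit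
  have hnolift : ∀ {Ω : Type u} [Field Ω] [IsAlgClosed Ω] (η : Spec (CommRingCat.of Ω) ⟶ Y),
      η (default : Spec (CommRingCat.of Ω)) ∉ Set.range f.base →
      IsEmpty {ξ : Spec (CommRingCat.of Ω) ⟶ X // ξ ≫ f = η} := by
    intro Ω _ _ η hη
    constructor
    rintro ⟨ζ, hζ⟩
    apply hη
    refine ⟨ζ default, ?_⟩
    rw [← hζ]
    rfl
  refine ⟨hff.full, hff.faithful, ?_, hc⟩
  intro G
  constructor
  · rintro ⟨F, ⟨e⟩⟩ x ⟨Ω, _, _, ξ, hξ, hnz⟩
    by_contra hx
    apply hnz
    refine IsZero.of_iso ?_ ((EtCoh.stalk ξ).mapIso e.symm)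
    apply isZero_stalk_of_algClosure
    rw [AddCommGrpCat.isZero_iff_subsingleton]
    apply subsingleton_stalk_push_of_isEmpty
    apply hnolift
    intro hmem
    apply hx
    have h1 : ξ ((Spec.map (CommRingCat.ofHom (algebraMap Ω (AlgebraicClosure Ω))))
        (default : Spec (CommRingCat.of (AlgebraicClosure Ω)))) ∈ Set.range ξ := ⟨_, rfl⟩
    rw [hξ] at h1
    rw [← Set.mem_singleton_iff.1 h1]
    exact hmem
  · intro hsupp
    suffices h : IsIso ((EtCoh.pullPushAdj f).unit.app G) from
      ⟨(EtCoh.pull f).obj G, ⟨(asIso ((EtCoh.pullPushAdj f).unit.app G)).symm⟩⟩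
    apply isIso_of_stalks_algClosed
    intro Ω _ _ η
    by_cases hη : η (default : Spec (CommRingCat.of Ω)) ∈ Set.range f.base
    · obtain ⟨c, hc'⟩ := hη
      obtain ⟨ξ, rfl, -⟩ := exists_geo_lift_integral f η c hc'
      have hcomp : ∀ a, thetaAb f ((EtCoh.pull f).obj G) (ξ ≫ f) ξ rfl
          ((EtCoh.stalk (ξ ≫ f)).map ((EtCoh.pullPushAdj f).unit.app G) a) =
          (stalkPullIso f ξ).hom.app G a := stalk_unit_thetaAb f G ξ
      have hθ := thetaAb_bijective_of_ui f ((EtCoh.pull f).obj G) (ξ ≫ f) ξ rfl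
      have h1 : Function.Bijective (fun a => thetaAb f ((EtCoh.pull f).obj G) (ξ ≫ f) ξ rfl
          ((EtCoh.stalk (ξ ≫ f)).map ((EtCoh.pullPushAdj f).unit.app G) a)) := by
        have : (fun a => thetaAb f ((EtCoh.pull f).obj G) (ξ ≫ f) ξ rfl
          ((EtCoh.stalk (ξ ≫ f)).map ((EtCoh.pullPushAdj f).unit.app G) a)) =
          (fun a => (stalkPullIso f ξ).hom.app G a) := funext hcomp
        rw [this]
        exact ConcreteCategory.bijective_of_isIso _
      exact (Function.Bijective.of_comp_iff' hθ _).1 h1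
    · haveI : Subsingleton ((EtCoh.stalk η).obj G) := by
        rw [← AddCommGrpCat.isZero_iff_subsingleton]
        by_contra hnz
        exact hη (hsupp ⟨Ω, inferInstance, inferInstance, η,
          Groth.Agent.S0652.range_spec_field η, hnz⟩)
      have h2 := subsingleton_stalk_push_of_isEmpty f ((EtCoh.pull f).obj G) η (hnolift η hη)
      exact ⟨fun a b _ => @Subsingleton.elim ((EtCoh.stalk η).obj G) _ _ _,
        fun b => ⟨0, @Subsingleton.elim _ h2 _ _⟩⟩

end Groth.Agent.S0631
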