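import Groth.Statements.S13505
import Mathlib
import Groth.Agent.Lib.Helper23ExtZeroFlc
import Groth.Agent.S0169
import Groth.Agent.S0128
-- import your own Groth.Agent.* helpers here

set_option autoImplicit false
set_option backward.isDefEq.respectTransparency.types false
universe u
open CategoryTheory CategoryTheory.Limits AlgebraicGeometry
open EtPBC

namespace Groth.Agent.S13505


open Groth.Agent.Lib.Helper23ExtZeroFlc Groth.Agent.Lib.Helper23Constr Groth.Agent.Lib.Helper23LCPull

attribute [local instance] Groth.Agent.Lib.Helper9.JContAll.jCont

/-- Let f : U → X be an étale morphism with U and X quasi-compact and quasi-separated, and F an abelian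
sheaf on the small étale site of U which is finite locally constant (on some étale covering of U it
becomes constant with finite value group). Then the extension by zero f_! F is constructible on X.
(Continuity of the functor V ↦ (V → U → X) between the small étale sites, which always holds, is
carried as an instance hypothesis.) -/
theorem result {U X : Scheme.{u}} [CompactSpace X]
    [QuasiSeparatedSpace X] [CompactSpace U] [QuasiSeparatedSpace U] (f : U ⟶ X) [Etale f]
    [EtShriek.JCont f] (F : EtCoh.Ab U) (hF : EtCoh.IsFiniteLocallyConstant F) :
    EtPBC.IsConstructible ((EtShriek.extZero f).obj F) := by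
  obtain ⟨n, T, g, h1, h2, h3, h4, h5⟩ := Groth.Agent.S0169.result f
  rw [Groth.Agent.S0128.result X]
  refine ⟨n, T, g, h1, fun i => ?_, h3, h4, fun i _ => ?_⟩
  · exact (h2 i).preimage_of_isOpenEmbedding (Homeomorph.Set.univ X).isOpenEmbedding
  · haveI := h5 i
    obtain ⟨e⟩ := Groth.Agent.S0649.result f (g i) (pullback.snd f (g i)) (pullback.fst f (g i))
      (IsPullback.of_hasPullback f (g i)).flip
    exact isFiniteLocallyConstant_of_iso (e.app F)
      (isFlc_extZero_finite_etale _ _ (isFiniteLocallyConstant_pull _ F hF))

end Groth.Agent.S13505
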