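import Groth.Statements.S0133
import Mathlib
import Groth.Agent.Lib.Helper23ExtZeroFlc
import Groth.Agent.S13505
-- import your own Groth.Agent.* helpers here

set_option autoImplicit false
set_option backward.isDefEq.respectTransparency.types false
universe u
open CategoryTheory CategoryTheory.Limits AlgebraicGeometry Opposite
open EtPBC

namespace Groth.Agent.S0133


open Groth.Agent.Lib.Helper23ExtZeroFlc Groth.Agent.Lib.Helper23Constr Groth.Agent.Lib.Helper23LCPull
  Groth.Agent.Lib.Helper23FlcSerre

attribute [local instance] Groth.Agent.Lib.Helper9.JContAll.jCont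

section

variable {X : Scheme.{u}} (U : X.Etale)

/-- restriction to the over site followed by `Psi` is restriction along `U → X` -/
noncomputable def overPsiIso :
    X.smallEtaleTopology.overPullback AddCommGrpCat.{u + 1} U ⋙ (Psi U AddCommGrpCat.{u + 1}).functor ≅
      EtShriek.restrAlong U.hom :=
  NatIso.ofComponents (fun F => psiRestr U AddCommGrpCat.{u + 1} F) (by
    intro F G φ
    apply (sheafToPresheaf _ _).map_injective
    rw [Functor.map_comp, Functor.map_comp]
    have h1 : ∀ H, (sheafToPresheaf _ _).map (psiRestr U AddCommGrpCat.{u + 1} H).hom = 𝟙 _ :=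
      fun H => (sheafToPresheaf _ _).map_preimage _
    refine (congrArg (fun t => _ ≫ t) (h1 G)).trans ?_
    refine Eq.trans ?_ (congrArg (fun t => t ≫ _) (h1 F)).symm
    exact (Category.comp_id _).trans (Category.id_comp _).symm)

/-- the two extension by zero functors agree -/
noncomputable def extZeroIso :
    EtPBC.extZero U ≅ (Psi U AddCommGrpCat.{u + 1}).functor ⋙ EtShriek.extZero U.hom :=
  Adjunction.leftAdjointUniq (EtPBC.extZeroAdj U)
    (((Psi U AddCommGrpCat.{u + 1}).toAdjunction.comp (EtShriek.extZeroAdj U.hom)).ofNatIsoRight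
      ((Functor.isoWhiskerRight (overPsiIso U).symm (Psi U AddCommGrpCat.{u + 1}).inverse) ≪≫
        Functor.associator _ _ _ ≪≫
        Functor.isoWhiskerLeft _ (Psi U AddCommGrpCat.{u + 1}).unitIso.symm ≪≫ Functor.rightUnitor _))

end

theorem isConstructible_of_iso {X : Scheme.{u}} {F F' : EtCoh.Ab X} (e : F ≅ F')
    (h : EtPBC.IsConstructible F) : EtPBC.IsConstructible F' := by
  rw [isConstructible_iff] at h ⊢
  have : QF F' = QF F := by
    ext T g
    exact ⟨fun h' => isFiniteLocallyConstant_of_iso ((EtCoh.pull g).mapIso e.symm) h',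
      fun h' => isFiniteLocallyConstant_of_iso ((EtCoh.pull g).mapIso e) h'⟩
  rw [this]
  exact h

/-- (2): for j : U -> X etale with U and X quasi-compact and quasi-separated and M a finite abelian
group, j_! M is a constructible abelian sheaf on X_et. -/
theorem result (X : Scheme.{u}) [CompactSpace X] [QuasiSeparatedSpace X]
    (U : X.Etale) [CompactSpace U.left] [QuasiSeparatedSpace U.left]
    (M : Type) [AddCommGroup M] [Finite M] :
    EtPBC.IsConstructible (EtPBC.extZeroConst U M) := by
  have e : EtPBC.extZeroConst U M ≅ (EtShriek.extZero U.hom).obj (EtCoh.const U.left M) :=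
    (extZeroIso U).app _ ≪≫ (EtShriek.extZero U.hom).mapIso (psiConst U AddCommGrpCat.{u + 1} _)
  let f : U.left ⟶ X := U.hom
  haveI : Etale f := U.prop
  have h := Groth.Agent.S13505.result f (EtCoh.const U.left M) (isFlc_const U.left M)
  exact isConstructible_of_iso e.symm h

end Groth.Agent.S0133
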