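import Groth.Statements.S0182
import Mathlib
import Groth.Agent.Lib.Helper23EtSupp
import Groth.Agent.S0131
import Groth.Agent.S0622
-- import your own Groth.Agent.* helpers here

set_option autoImplicit false
set_option backward.isDefEq.respectTransparency.types false
universe u
open CategoryTheory CategoryTheory.Limits AlgebraicGeometry Opposite
open EtPBC

namespace Groth.Agent.S0182


open Groth.Agent.Lib.Helper23EtSupp

theorem surjective_stalk_iff {X : Scheme.{u}} {F G : EtCoh.Ab X} (φ : F ⟶ G)
    {Ω : Type u} [Field Ω] [IsSepClosed Ω] (ξ : Spec (CommRingCat.of Ω) ⟶ X) :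
    Function.Surjective ((EtCoh.stalk ξ).map φ) ↔ IsZero ((EtCoh.stalk ξ).obj (cokernel φ)) := by
  let S : ShortComplex (EtCoh.Ab X) := ShortComplex.mk φ (cokernel.π φ) (cokernel.condition φ)
  have hS : S.Exact := ShortComplex.exact_cokernel φ
  have h1 := ((Groth.Agent.S0622.result S φ).1.1 hS) Ω ξ
  have h2 := ((Groth.Agent.S0622.result S (cokernel.π φ)).2.2.1 inferInstance) Ω ξ
  rw [ShortComplex.ab_exact_iff] at h1
  rw [AddCommGrpCat.isZero_iff_subsingleton]
  constructor
  · intro hs
    refine ⟨fun a b => ?_⟩
    have key : ∀ c : (EtCoh.stalk ξ).obj (cokernel φ), c = 0 := by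
      intro c
      obtain ⟨g, rfl⟩ := h2 c
      obtain ⟨f, rfl⟩ := hs g
      have := (S.map (EtCoh.stalk ξ)).zero
      have h3 := ConcreteCategory.congr_hom this f
      rw [ConcreteCategory.comp_apply] at h3
      exact h3
    rw [key a, key b]
  · intro hs g
    obtain ⟨f, hf⟩ := h1 g (@Subsingleton.elim _ hs _ _)
    exact ⟨f, hf⟩

/-- (1), surjectivity case, for abelian sheaves: X quasi-compact and quasi-separated, F -> G a map of
constructible abelian sheaves on X_et; the set of points x of X such that F -> G is surjective on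
stalks at (every) geometric point over x is constructible. The source states this for constructible
sheaves of sets; an abelian constructible sheaf is one, with the same stalks. -/
theorem result (X : Scheme.{u}) [CompactSpace X] [QuasiSeparatedSpace X]
    {F G : EtCoh.Ab X} (φ : F ⟶ G) (hF : EtPBC.IsConstructible F) (hG : EtPBC.IsConstructible G) :
    Topology.IsConstructible {x : X | ∀ (Ω : Type u) [Field Ω] [IsSepClosed Ω]
      (ξ : Spec (CommRingCat.of Ω) ⟶ X), Set.range ξ = {x} →
        Function.Surjective ((EtCoh.stalk ξ).map φ)} := by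
  have hC := Groth.Agent.S0131.isConstructible_cokernel φ hF hG
  have h1 := (isLocallyConstructible_supp _ hC).isConstructible
  have e : {x : X | ∀ (Ω : Type u) [Field Ω] [IsSepClosed Ω]
      (ξ : Spec (CommRingCat.of Ω) ⟶ X), Set.range ξ = {x} →
        Function.Surjective ((EtCoh.stalk ξ).map φ)} = (EtPBC.supp (cokernel φ))ᶜ := by
    ext x
    simp only [Set.mem_setOf_eq, Set.mem_compl_iff, EtPBC.supp]
    constructor
    · rintro h ⟨Ω, i1, i2, ξ, hξ, hnz⟩
      exact hnz ((surjective_stalk_iff φ ξ).1 (h Ω ξ hξ))
    · intro h Ω _ _ ξ hξ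
      rw [surjective_stalk_iff]
      by_contra hnz
      exact h ⟨Ω, inferInstance, inferInstance, ξ, hξ, hnz⟩
  rw [e]
  exact h1.compl

end Groth.Agent.S0182
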