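import Groth.Statements.S0138
import Mathlib
import Groth.Agent.Lib.Helper23ConstrGen4
-- import your own Groth.Agent.* helpers here

set_option autoImplicit false
set_option backward.isDefEq.respectTransparency.types false
universe u
open CategoryTheory CategoryTheory.Limits AlgebraicGeometry Opposite
open EtPBC

namespace Groth.Agent.S0138


open Groth.Agent.Lib.Helper23ConstrGen

theorem killedBy_kernel {X : Scheme.{u}} {P F : EtCoh.Ab X} (Φ : P ⟶ F) (n : ℕ)
    (hP : n • 𝟙 P = 0) : EtCoh.KilledBy n (kernel Φ) := by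
  rw [killedBy_iff, ← cancel_mono (kernel.ι Φ), zero_comp, Preadditive.nsmul_comp, Category.id_comp]
  have : kernel.ι Φ = kernel.ι Φ ≫ 𝟙 P := by simp
  rw [this, ← Preadditive.comp_nsmul, hP, comp_zero]

/-- reindexing a presentation over finite sets of generators to `Fin`-indexed families -/
theorem reindex {X : Scheme.{u}} {n : ℕ} {F K : EtCoh.Ab X} (S : Finset (Gen F)) (S' : Finset (Gen K))
    (ψ : PS S' n ⟶ PS S n) :
    ∃ (a b : ℕ) (V : Fin a → X.Etale) (U : Fin b → X.Etale) (_ : ∀ j, IsAffine (V j).left)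
      (_ : ∀ i, IsAffine (U i).left)
      (φ : (⨁ fun j => EtPBC.extZeroConst (V j) (ZMod n)) ⟶ ⨁ fun i => EtPBC.extZeroConst (U i) (ZMod n)),
      Nonempty (cokernel ψ ≅ cokernel φ) := by
  let eA : Fin S'.card ≃ ↥S' := S'.equivFin.symm
  let eB : Fin S.card ≃ ↥S := S.equivFin.symm
  let isoA : (⨁ fun j => EtPBC.extZeroConst (eA j).1.U (ZMod n)) ≅ PS S' n :=
    biproduct.whiskerEquiv (f := fun j => EtPBC.extZeroConst (eA j).1.U (ZMod n))
      (g := fun G : ↥S' => EtPBC.extZeroConst G.1.U (ZMod n)) eA (fun j => Iso.refl _)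
  let isoB : (⨁ fun j => EtPBC.extZeroConst (eB j).1.U (ZMod n)) ≅ PS S n :=
    biproduct.whiskerEquiv (f := fun j => EtPBC.extZeroConst (eB j).1.U (ZMod n))
      (g := fun G : ↥S => EtPBC.extZeroConst G.1.U (ZMod n)) eB (fun j => Iso.refl _)
  refine ⟨S'.card, S.card, fun j => (eA j).1.U, fun i => (eB i).1.U, fun j => (eA j).1.aff,
    fun i => (eB i).1.aff, isoA.hom ≫ ψ ≫ isoB.inv, ⟨?_⟩⟩
  exact (cokernel.mapIso _ _ isoA isoB (by simp)).symm

/-- For Lambda = Z/n: on a quasi-compact quasi-separated X, a constructible abelian sheaf killed by n >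
0 (that is, a constructible sheaf of Z/n-modules) is isomorphic to the cokernel of a map between
finite direct sums of sheaves j_{U!} Z/n with U affine and etale over X. (The source also proves the
converse; we state the presentation direction.) -/
theorem result (X : Scheme.{u}) [CompactSpace X] [QuasiSeparatedSpace X]
    (n : ℕ) (hn : 0 < n) (F : EtCoh.Ab X) (hF : EtPBC.IsConstructible F) (hFn : EtCoh.KilledBy n F) :
    ∃ (a b : ℕ) (V : Fin a → X.Etale) (U : Fin b → X.Etale) (_ : ∀ j, IsAffine (V j).left)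
      (_ : ∀ i, IsAffine (U i).left)
      (φ : (⨁ fun j => EtPBC.extZeroConst (V j) (ZMod n)) ⟶ ⨁ fun i => EtPBC.extZeroConst (U i) (ZMod n)),
      Nonempty (F ≅ cokernel φ) := by
  obtain ⟨S, hS⟩ := exists_epi hFn hn hF
  have hK : EtPBC.IsConstructible (kernel (ΦS hFn S)) :=
    Groth.Agent.S0131.isConstructible_kernel _ (isConstructible_PS hF hn S) hF
  have hKn : EtCoh.KilledBy n (kernel (ΦS hFn S)) := killedBy_kernel _ n (nsmul_id_PS S)
  obtain ⟨S', hS'⟩ := exists_epi hKn hn hK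
  obtain ⟨e0⟩ := nonempty_iso_cokernel (ΦS hFn S) (ΦS hKn S')
  obtain ⟨a, b, V, U, hV, hU, φ, ⟨e1⟩⟩ := reindex S S' (ΦS hKn S' ≫ kernel.ι (ΦS hFn S))
  exact ⟨a, b, V, U, hV, hU, φ, ⟨e0 ≪≫ e1⟩⟩

end Groth.Agent.S0138
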