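import Groth.Statements.S3508
import Mathlib
import Groth.Agent.Lib.Helper23ConstrTors
import Groth.Agent.S0138
-- import your own Groth.Agent.* helpers here

set_option autoImplicit false
set_option backward.isDefEq.respectTransparency.types false
universe u
open CategoryTheory CategoryTheory.Limits AlgebraicGeometry Opposite
open EtCd

namespace Groth.Agent.S3508


open Groth.Agent.Lib.Helper23ConstrGen Groth.Agent.Lib.Helper23ConstrTors

open ZeroObject in
theorem isConstructible_biproduct' {X : Scheme.{u}} [CompactSpace X] [QuasiSeparatedSpace X]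
    {ι : Type*} [Finite ι] (A : ι → EtCoh.Ab X) (hA : ∀ i, EtPBC.IsConstructible (A i)) :
    EtPBC.IsConstructible (⨁ A) :=
  isConstructible_biproduct (F := (0 : EtCoh.Ab X)) (isConstructible_of_isZero _ (isZero_zero _)) A hA

/-- Let X be a quasi-compact and quasi-separated scheme. An abelian sheaf F on the small etale site of X
is constructible if and only if it is isomorphic to the cokernel of a morphism ⨁_j j_{V_j !} Z/m_j →
⨁_i j_{U_i !} Z/n_i for finite families of affine etale X-schemes U_i, V_j (the source first states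
it with quasi-compact quasi-separated objects and then notes that U_i, V_j may even be taken affine)
and positive integers n_i, m_j (j_! the extension by zero of the constant sheaf). -/
theorem result (X : Scheme.{u}) [CompactSpace X] [QuasiSeparatedSpace X]
    (F : EtCoh.Ab X) :
    EtPBC.IsConstructible F ↔
      ∃ (a b : ℕ) (U : Fin a → X.Etale) (V : Fin b → X.Etale) (n : Fin a → ℕ) (m : Fin b → ℕ),
        (∀ i, 0 < n i ∧ IsAffine (U i).left) ∧ (∀ j, 0 < m j ∧ IsAffine (V j).left) ∧
        ∃ φ : (⨁ fun j => EtPBC.extZeroConst (V j) (ZMod (m j))) ⟶ (⨁ fun i => EtPBC.extZeroConst (U i) (ZMod (n i))),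
          Nonempty (F ≅ cokernel φ) := by
  constructor
  · intro hF
    obtain ⟨N, hN, hFN⟩ := exists_killedBy_of_isConstructible F hF
    obtain ⟨a, b, V, U, hV, hU, φ, hφ⟩ := Groth.Agent.S0138.result X N hN F hF hFN
    exact ⟨b, a, U, V, fun _ => N, fun _ => N, fun i => ⟨hN, hU i⟩, fun j => ⟨hN, hV j⟩, φ, hφ⟩
  · rintro ⟨a, b, U, V, n, m, hU, hV, φ, ⟨e⟩⟩
    have h1 : EtPBC.IsConstructible (⨁ fun j => EtPBC.extZeroConst (V j) (ZMod (m j))) := by
      refine isConstructible_biproduct' _ (fun j => ?_)
      haveI := (hV j).2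
      haveI : NeZero (m j) := ⟨(hV j).1.ne'⟩
      exact Groth.Agent.S0133.result X (V j) (ZMod (m j))
    have h2 : EtPBC.IsConstructible (⨁ fun i => EtPBC.extZeroConst (U i) (ZMod (n i))) := by
      refine isConstructible_biproduct' _ (fun i => ?_)
      haveI := (hU i).2
      haveI : NeZero (n i) := ⟨(hU i).1.ne'⟩
      exact Groth.Agent.S0133.result X (U i) (ZMod (n i))
    exact Groth.Agent.S0133.isConstructible_of_iso e.symm
      (Groth.Agent.S0131.isConstructible_cokernel φ h1 h2)

end Groth.Agent.S3508
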