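import Groth.Statements.S0173
import Mathlib
import Groth.Agent.Lib.Helper23ConstrShrink
-- import your own Groth.Agent.* helpers here

set_option autoImplicit false
set_option backward.isDefEq.respectTransparency.types false
universe u
open CategoryTheory CategoryTheory.Limits AlgebraicGeometry Opposite
open EtPBC

namespace Groth.Agent.S0173


open Groth.Agent.Lib.Helper23ConstrGen Groth.Agent.Lib.Helper23ConstrTors
  Groth.Agent.Lib.Helper23ConstrColim Groth.Agent.Lib.Helper23ConstrColimQ
  Groth.Agent.Lib.Helper23ConstrShrink Groth.Agent.Lib.Helper23EtSupp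
  Groth.Agent.Lib.Helper23Strata Groth.Agent.Lib.Helper23Constr

/-- a constructible set in a space with a generic point either contains an open neighbourhood of it
or is contained in a closed set missing it -/
theorem constructible_generic {Y : Type*} [TopologicalSpace Y] {η : Y} (hη : IsGenericPoint η ⊤)
    {E : Set Y} (hE : Topology.IsConstructible E) :
    (η ∉ E → ∃ Z : Set Y, IsClosed Z ∧ η ∉ Z ∧ E ⊆ Z) ∧
      (η ∈ E → ∃ U : Set Y, IsOpen U ∧ η ∈ U ∧ U ⊆ E) := by
  induction hE using Topology.IsConstructible.empty_union_induction with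
  | open_retrocompact U hUopen hUcomp =>
    refine ⟨fun h => ⟨∅, isClosed_empty, fun h' => h'.elim, ?_⟩, fun h => ⟨U, hUopen, h, le_rfl⟩⟩
    intro y hy
    exact absurd ((hη.mem_open_set_iff hUopen).2 ⟨y, trivial, hy⟩) h
  | union s hs t ht hs' ht' =>
    constructor
    · intro h
      rw [Set.mem_union, not_or] at h
      obtain ⟨Z₁, h1, h2, h3⟩ := hs'.1 h.1
      obtain ⟨Z₂, h4, h5, h6⟩ := ht'.1 h.2
      exact ⟨Z₁ ∪ Z₂, h1.union h4, fun h' => h'.elim h2 h5, Set.union_subset_union h3 h6⟩
    · rintro (h | h)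
      · obtain ⟨U, h1, h2, h3⟩ := hs'.2 h
        exact ⟨U, h1, h2, h3.trans Set.subset_union_left⟩
      · obtain ⟨U, h1, h2, h3⟩ := ht'.2 h
        exact ⟨U, h1, h2, h3.trans Set.subset_union_right⟩
  | compl s hs hs' =>
    constructor
    · intro h
      obtain ⟨U, h1, h2, h3⟩ := hs'.2 (not_not.1 h)
      exact ⟨Uᶜ, h1.isClosed_compl, fun h' => h' h2, Set.compl_subset_compl.2 h3⟩
    · intro h
      obtain ⟨Z, h1, h2, h3⟩ := hs'.1 h
      exact ⟨Zᶜ, h1.isOpen_compl, h2, Set.compl_subset_compl.2 h3⟩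

/-- (1), for X irreducible: X quasi-compact, quasi-separated and irreducible with generic point η, F a
torsion abelian sheaf on X_et whose stalk over η vanishes. Then F is a filtered colimit of
constructible abelian sheaves each supported in a closed subset not containing η. (The source allows
η to be the generic point of any irreducible component.) -/
theorem result (X : Scheme.{u}) [CompactSpace X] [QuasiSeparatedSpace X]
    [IrreducibleSpace X] (F : EtCoh.Ab X) (hF : EtCoh.IsTorsion F) (hη : genericPoint X ∉ EtPBC.supp F) :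
    ∃ (J : Type (u + 1)) (_ : SmallCategory J) (_ : IsFiltered J) (D : J ⥤ EtCoh.Ab X)
      (c : Cocone D) (_ : IsColimit c), Nonempty (c.pt ≅ F) ∧
      ∀ j, EtPBC.IsConstructible (D.obj j) ∧
        ∃ Z : Set X, IsClosed Z ∧ genericPoint X ∉ Z ∧ EtPBC.supp (D.obj j) ⊆ Z := by
  have hgen : IsGenericPoint (genericPoint X) ⊤ := genericPoint_spec X
  refine exists_colimit (Q := fun A => ∃ Z : Set X, IsClosed Z ∧ genericPoint X ∉ Z ∧
    EtPBC.supp A ⊆ Z) (qhyp_of_supp F (fun A => ∃ Z : Set X, IsClosed Z ∧ genericPoint X ∉ Z ∧ A ⊆ Z)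
    ?_ ?_ ?_ ?_) hF
  · rintro A B hBA ⟨Z, h1, h2, h3⟩
    exact ⟨Z, h1, h2, hBA.trans h3⟩
  · rintro A B ⟨Z₁, h1, h2, h3⟩ ⟨Z₂, h4, h5, h6⟩
    exact ⟨Z₁ ∪ Z₂, h1.union h4, fun h' => h'.elim h2 h5, Set.union_subset_union h3 h6⟩
  · exact ⟨∅, isClosed_empty, fun h => h.elim, le_rfl⟩
  · intro G hG
    obtain ⟨N, hN, hGN⟩ := exists_killedBy_of_isConstructible _ hG
    have hKN : EtCoh.KilledBy N (kernel G.hom) :=
      Groth.Agent.S0138.killedBy_kernel _ N ((killedBy_iff N _).1 hGN)
    obtain ⟨R, hR⟩ := exists_not_mem_supp_GR G hKN hG hη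
    have hcons := isConstructible_GR G hKN hG hN R
    have h1 := hcons
    rw [isConstructible_iff, constr_iff_str] at h1
    have h2 := isConstructible_supp_of_str _ h1
    exact ⟨GR G hKN R, πR G hKN R, inferInstance, hcons, (constructible_generic hgen h2).1 hR⟩

end Groth.Agent.S0173
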