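import Groth.Statements.S2331
import Mathlib
import Groth.Agent.Lib.Helper23AmpleComp
-- import your own Groth.Agent.* helpers here

set_option autoImplicit false
universe u
open CategoryTheory CategoryTheory.Limits AlgebraicGeometry
open EGA2

namespace Groth.Agent.S2331
open Groth.Agent.Lib.Helper23.AmpleIso Groth.Agent.Lib.Helper23.SecTw Groth.Agent.Lib.Helper23.AmpleComp Groth.Agent.Lib.Helper23.PB Groth.Agent.Lib.Helper23.RestrJ TopologicalSpace

open Groth.Agent.Lib.Helper23.AmpleIso Groth.Agent.Lib.Helper23.SecTw Groth.Agent.Lib.Helper23.AmpleComp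
open Groth.Agent.Lib.Helper23.PB Groth.Agent.Lib.Helper23.RestrJ
open TopologicalSpace

/-- the statement over an affine open `W` of `Z` -/
theorem local_case {X Y Z : Scheme.{u}} (f : X ⟶ Y) (g : Y ⟶ Z)
    [QuasiCompact f] [QuasiCompact g] (L : X.Modules) (K : Y.Modules)
    (hL : RelAmple.IsRelAmple f L) (hK : RelAmple.IsRelAmple g K) (W : Z.Opens) (hW : IsAffineOpen W) :
    ∃ n₀ : ℕ, ∀ n, n₀ ≤ n →
      CohB1.IsAmple ((CohB1.tensorMod L ((Scheme.Modules.pullback f).obj (CohB1.tensorPow K n))).restrict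
        (f ⁻¹ᵁ (g ⁻¹ᵁ W)).ι) := by
  have hLinv : PicF.IsInvertible L := isInvertible_of_isRelAmple f L hL
  have hKinv : PicF.IsInvertible K := isInvertible_of_isRelAmple g K hK
  obtain ⟨YW, hYW⟩ : ∃ YW : Y.Opens, YW = g ⁻¹ᵁ W := ⟨_, rfl⟩
  rw [← hYW]
  have hKW : CohB1.IsAmple (K.restrict YW.ι) := by rw [hYW]; exact hK.2 ⟨W, hW⟩
  have hLW : RelAmple.IsRelAmple (f ∣_ YW) (L.restrict (f ⁻¹ᵁ YW).ι) := by
    refine ⟨inferInstance, fun V => ?_⟩
    change CohB1.IsAmple ((L.restrict (f ⁻¹ᵁ YW).ι).restrict ((f ∣_ YW) ⁻¹ᵁ V.1).ι)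
    rw [Groth.Agent.Lib.Helper23.RestrJ.isAmple_restrict_restrict_iff, image_morphismRestrict_preimage]
    exact hL.2 ⟨YW.ι ''ᵁ V.1, V.2.image_of_isOpenImmersion YW.ι⟩
  obtain ⟨n₀, hn₀⟩ := isAmple_tensorMod_pullback_tensorPow (f ∣_ YW) (K.restrict YW.ι) hKW
    (L.restrict (f ⁻¹ᵁ YW).ι) hLW
  refine ⟨n₀, fun n hn => ?_⟩
  obtain ⟨Θ₁⟩ := Groth.Agent.Lib.Helper23.SecTw.nonempty_restrict_tensorMod_iso L
    ((Scheme.Modules.pullback f).obj (CohB1.tensorPow K n)) hLinv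
    (isInvertible_pullback f _ (isInvertible_tensorPow hKinv n)) (f ⁻¹ᵁ YW)
  obtain ⟨Θ₂⟩ := Groth.Agent.Lib.Helper23.SecTw.nonempty_restrict_tensorPow_iso K hKinv YW n
  refine isAmple_of_iso (Θ₁ ≪≫ tensorModIso (Iso.refl _) (pullbackRestrictIso f (CohB1.tensorPow K n) YW ≪≫
    (Scheme.Modules.pullback (f ∣_ YW)).mapIso Θ₂)).symm (hn₀ n hn)

/-- Let Z be quasi-compact, f : X → Y and g : Y → Z quasi-compact morphisms, L an O_X-module ample
relative to f and K an O_Y-module ample relative to g. Then there is n₀ > 0 such that L ⊗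
f^*(K^{⊗n}) is ample relative to g ∘ f for every n ≥ n₀. -/
theorem result {X Y Z : Scheme.{u}} [CompactSpace Z] (f : X ⟶ Y) (g : Y ⟶ Z)
    [QuasiCompact f] [QuasiCompact g] (L : X.Modules) (K : Y.Modules)
    (hL : RelAmple.IsRelAmple f L) (hK : RelAmple.IsRelAmple g K) :
    ∃ n₀ : ℕ, 0 < n₀ ∧ ∀ n, n₀ ≤ n →
      RelAmple.IsRelAmple (f ≫ g) (CohB1.tensorMod L ((Scheme.Modules.pullback f).obj (CohB1.tensorPow K n))) := by
  classical
  -- affine neighbourhoods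
  have hnb : ∀ z : Z, ∃ W : Z.Opens, IsAffineOpen W ∧ z ∈ W := by
    intro z
    obtain ⟨W, hW, hzW, -⟩ := exists_isAffineOpen_mem_and_subset (x := z) (U := ⊤) (by trivial)
    exact ⟨W, hW, hzW⟩
  choose W hWaff hzW using hnb
  obtain ⟨T, hT⟩ := CompactSpace.elim_nhds_subcover (fun z => ((W z : Z.Opens) : Set Z))
    (fun z => (W z).isOpen.mem_nhds (hzW z))
  have hloc : ∀ z : Z, ∃ n₀ : ℕ, ∀ n, n₀ ≤ n →
      CohB1.IsAmple ((CohB1.tensorMod L ((Scheme.Modules.pullback f).obj (CohB1.tensorPow K n))).restrict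
        (f ⁻¹ᵁ (g ⁻¹ᵁ (W z))).ι) := fun z => local_case f g L K hL hK (W z) (hWaff z)
  choose N hN using hloc
  refine ⟨T.sup N + 1, Nat.succ_pos _, fun n hn => ?_⟩
  haveI : QuasiCompact (f ≫ g) := inferInstance
  refine ⟨inferInstance, fun V => ?_⟩
  refine isAmple_restrict_preimage_of_basicOpen_cover (f ≫ g) _ V.1 V.2 (fun z hz => ?_)
  have hzT : z ∈ ⋃ l ∈ T, ((W l : Z.Opens) : Set Z) := by rw [hT]; trivial
  simp only [Set.mem_iUnion] at hzT
  obtain ⟨l, hlT, hzl⟩ := hzT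
  obtain ⟨h, hle, hzh⟩ := V.2.exists_basicOpen_le (V := W l) ⟨z, hzl⟩ hz
  refine ⟨h, hzh, ?_⟩
  have hle' : (f ≫ g) ⁻¹ᵁ (Z.basicOpen h) ≤ f ⁻¹ᵁ (g ⁻¹ᵁ (W l)) := by
    intro x hx
    exact hle hx
  have hcomp : IsCompact (((f ≫ g) ⁻¹ᵁ (Z.basicOpen h) : X.Opens) : Set X) :=
    QuasiCompact.isCompact_preimage (f := f ≫ g) _ (Z.basicOpen h).isOpen
      (V.2.basicOpen h).isCompact
  refine isAmple_restrict_of_le _ hle' hcomp (hN l n ?_)
  have : N l ≤ T.sup N := Finset.le_sup hlT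
  omega

end Groth.Agent.S2331
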