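import Groth.Statements.S2333
import Mathlib
import Groth.Agent.Lib.Helper23RestrJ
-- import your own Groth.Agent.* helpers here

set_option autoImplicit false
universe u
open CategoryTheory CategoryTheory.Limits AlgebraicGeometry
open EGA2

namespace Groth.Agent.S2333
open Groth.Agent.Lib.Helper23.RestrJ


/-- Let f : X → Y and g : Y → Z be morphisms of schemes with f quasi-compact, and L an O_X-module which
is ample relative to the composite g ∘ f. Then L is ample relative to f. (No separatedness
hypothesis on g is imposed.) -/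
theorem result {X Y Z : Scheme.{u}} (f : X ⟶ Y) (g : Y ⟶ Z) [QuasiCompact f]
    (L : X.Modules) (hL : RelAmple.IsRelAmple (f ≫ g) L) : RelAmple.IsRelAmple f L := by
  refine ⟨inferInstance, fun V => ?_⟩
  refine isAmple_restrict_preimage_of_basicOpen_cover f L V.1 V.2 (fun y hyV => ?_)
  obtain ⟨W, hW, hyW, -⟩ := exists_isAffineOpen_mem_and_subset (X := Z) (x := g y) (U := ⊤) trivial
  obtain ⟨h, hhle, hyh⟩ := V.2.exists_basicOpen_le (V := g ⁻¹ᵁ W) ⟨y, hyW⟩ hyV
  refine ⟨h, hyh, ?_⟩
  have h1 := hL.2 ⟨W, hW⟩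
  refine isAmple_restrict_of_le L (U := (f ≫ g) ⁻¹ᵁ W) ?_ ?_ h1
  · intro x hx
    exact hhle hx
  · exact QuasiCompact.isCompact_preimage (f := f) _ (Y.basicOpen h).isOpen (V.2.basicOpen h).isCompact

end Groth.Agent.S2333
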