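import Groth.Statements.S19996
import Mathlib

set_option autoImplicit false
universe u
open WildQuot

namespace Groth.Agent.S19996

open PowerSeries

section Aux
variable {k : Type u} [Field k]

lemma X_dvd_apply_X (τ : PowerSeries k ≃ₐ[k] PowerSeries k) : (X : PowerSeries k) ∣ τ X := by
  rw [X_dvd_iff]
  by_contra h
  have hu : IsUnit (τ X) := by
    rw [isUnit_iff_constantCoeff]; exact isUnit_iff_ne_zero.mpr h
  have h2 : IsUnit (X : PowerSeries k) := by
    have := hu.map τ.symm
    simpa using this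
  exact X_prime.not_isUnit h2

lemma constantCoeff_apply (τ : PowerSeries k ≃ₐ[k] PowerSeries k) (f : PowerSeries k) :
    constantCoeff (τ f) = constantCoeff f := by
  have h1 : (X : PowerSeries k) ∣ f - C (constantCoeff f) := by rw [X_dvd_iff]; simp
  obtain ⟨g, hg⟩ := h1
  obtain ⟨e, he⟩ := X_dvd_apply_X τ
  have h2 : τ f = C (constantCoeff f) + X * e * τ g := by
    have h3 := congrArg τ hg
    rw [map_sub, map_mul, he] at h3
    have h4 : τ (C (constantCoeff f)) = C (constantCoeff f) := τ.commutes _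
    rw [h4] at h3
    rw [← h3]; ring
  rw [h2]; simp [mul_assoc]

lemma order_le_order_apply (τ : PowerSeries k ≃ₐ[k] PowerSeries k) (f : PowerSeries k) :
    f.order ≤ (τ f).order := by
  by_cases hf : f = 0
  · simp [hf]
  have h1 := X_pow_order_mul_divXPowOrder (f := f)
  obtain ⟨e, he⟩ := X_dvd_apply_X τ
  have h2 : τ f = X ^ f.order.toNat * (e ^ f.order.toNat * τ (divXPowOrder f)) := by
    conv_lhs => rw [← h1]
    rw [map_mul, map_pow, he, mul_pow]; ring
  rw [h2]
  refine le_trans ?_ (le_order_mul _ _)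
  rw [order_X_pow, coe_toNat_order hf]
  exact le_self_add

lemma order_apply (τ : PowerSeries k ≃ₐ[k] PowerSeries k) (f : PowerSeries k) :
    (τ f).order = f.order :=
  le_antisymm (by simpa using order_le_order_apply τ.symm (τ f)) (order_le_order_apply τ f)

lemma dvd_of_order_le {f g : PowerSeries k} (hf : f ≠ 0) (h : f.order ≤ g.order) : f ∣ g := by
  by_cases hg : g = 0
  · simp [hg]
  have h1 := X_pow_order_mul_divXPowOrder (f := f)
  have h2 := X_pow_order_mul_divXPowOrder (f := g)
  have hu : IsUnit (divXPowOrder f) := by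
    rw [isUnit_iff_constantCoeff, isUnit_iff_ne_zero, Ne, constantCoeff_divXPowOrder_eq_zero_iff]
    exact hf
  have h3 : f.order.toNat ≤ g.order.toNat := by
    rw [← coe_toNat_order hf, ← coe_toNat_order hg] at h
    exact_mod_cast h
  obtain ⟨u, hu⟩ := hu
  have : f ∣ X ^ f.order.toNat := by
    refine ⟨↑u⁻¹, ?_⟩
    conv_rhs => rw [← h1, ← hu]
    rw [mul_assoc, Units.mul_inv, mul_one]
  refine this.trans ((pow_dvd_pow X h3).trans ?_)
  exact ⟨_, h2.symm⟩

/-- data: σ X = X * (1 + X^m * w₁) with w₁ a unit -/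
lemma exists_w (σ : PowerSeries k ≃ₐ[k] PowerSeries k) (m : ℕ)
    (hm : (σ X - X).order = ((m + 1 : ℕ) : ℕ∞)) :
    ∃ w₁ : PowerSeries k, constantCoeff w₁ ≠ 0 ∧ σ X = X * (1 + X ^ m * w₁) := by
  have hne : σ X - X ≠ 0 := by
    intro h; rw [h, order_zero] at hm; exact ENat.top_ne_natCast _ hm
  refine ⟨divXPowOrder (σ X - X), ?_, ?_⟩
  · rw [Ne, constantCoeff_divXPowOrder_eq_zero_iff]; exact hne
  · have h1 := X_pow_order_mul_divXPowOrder (f := σ X - X)
    rw [hm, ENat.toNat_natCast, pow_succ] at h1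
    calc σ X = X + (σ X - X) := by ring
      _ = X + X ^ m * X * divXPowOrder (σ X - X) := by rw [h1]
      _ = _ := by ring

/-- `X^(m+1)` divides `σ g - g` for all `g`. -/
lemma X_pow_dvd_sub (σ : PowerSeries k ≃ₐ[k] PowerSeries k) (m : ℕ) (w₁ : PowerSeries k)
    (hσ : σ X = X * (1 + X ^ m * w₁)) (g : PowerSeries k) :
    X ^ (m + 1) ∣ σ g - g := by
  have key : ∀ j : ℕ, j ≤ m + 1 → ∀ g : PowerSeries k, X ^ j ∣ σ g - g := by
    intro j
    induction j with
    | zero => intro _ g; simp
    | succ j ih =>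
      intro hj g
      obtain ⟨r, hr⟩ := ih (by omega) (mk fun p => coeff (p + 1) g)
      have h1 := eq_X_mul_shift_add_const g
      set g₁ := (mk fun p => coeff (p + 1) g) with hg₁
      have h4 : σ (C (constantCoeff g)) = C (constantCoeff g) := σ.commutes _
      have h2 : σ g - g = X ^ (m + 1) * w₁ * σ g₁ + X * (σ g₁ - g₁) := by
        conv_lhs => rw [h1]
        rw [map_add, map_mul, h4, hσ]; ring
      rw [h2, hr]
      obtain ⟨d, hd⟩ : ∃ d, m + 1 = j + 1 + d := ⟨m + 1 - (j + 1), by omega⟩
      rw [hd]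
      exact ⟨X ^ d * w₁ * σ g₁ + r, by ring⟩
  exact key (m + 1) le_rfl g

lemma order_sub_eq (σ : PowerSeries k ≃ₐ[k] PowerSeries k) (m : ℕ) (hm1 : 1 ≤ m) (w₁ : PowerSeries k)
    (hw₁ : constantCoeff w₁ ≠ 0)
    (hσ : σ X = X * (1 + X ^ m * w₁)) (f : PowerSeries k) (n : ℕ) (hn : f.order = n)
    (hnk : (n : k) ≠ 0) : (σ f - f).order = ((n + m : ℕ) : ℕ∞) := by
  have hf : f ≠ 0 := by
    intro h; rw [h, order_zero] at hn; exact ENat.top_ne_natCast _ hn
  have h1 := X_pow_order_mul_divXPowOrder (f := f)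
  rw [hn, ENat.toNat_natCast] at h1
  set g := divXPowOrder f with hg
  have hg0 : constantCoeff g ≠ 0 := by
    rw [Ne, constantCoeff_divXPowOrder_eq_zero_iff]; exact hf
  obtain ⟨r, hr⟩ := X_pow_dvd_sub σ m w₁ hσ g
  set v := 1 + X ^ m * w₁ with hv
  set S := ∑ i ∈ Finset.range n, v ^ i with hS
  have hgeom : v ^ n - 1 = S * (X ^ m * w₁) := by
    have := geom_sum_mul v n
    rw [← this, hS, hv]; ring
  have h2 : σ f - f = X ^ (n + m) * (S * w₁ * σ g + X * r) := by
    have h3 : σ f = X ^ n * v ^ n * σ g := by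
      conv_lhs => rw [← h1]
      rw [map_mul, map_pow, hσ, mul_pow]
    have h5 : σ g = g + X ^ (m + 1) * r := by rw [← hr]; ring
    have h6 : v ^ n = 1 + S * (X ^ m * w₁) := by rw [← hgeom]; ring
    rw [h3]
    conv_lhs => rw [← h1]
    rw [h6]
    conv_lhs => rw [h5]
    conv_rhs => rw [h5]
    ring
  have hcv : constantCoeff v = 1 := by
    rw [hv]
    obtain ⟨m', rfl⟩ : ∃ m', m = m' + 1 := ⟨m - 1, by omega⟩
    simp [pow_succ]
  have hcS : constantCoeff S = (n : k) := by
    rw [hS, map_sum]; simp [hcv]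
  have hunit : IsUnit (S * w₁ * σ g + X * r) := by
    rw [isUnit_iff_constantCoeff, isUnit_iff_ne_zero]
    simp only [map_add, map_mul, constantCoeff_X, zero_mul, add_zero, hcS, constantCoeff_apply]
    exact mul_ne_zero (mul_ne_zero hnk hw₁) hg0
  rw [h2, order_mul, order_X_pow, order_zero_of_unit hunit, add_zero]


lemma pow_apply_X (σ : PowerSeries k ≃ₐ[k] PowerSeries k) (v : PowerSeries k) (hσ : σ X = X * v)
    (i : ℕ) : (σ ^ i) X = X * ∏ j ∈ Finset.range i, (σ ^ j) v := by
  induction i with
  | zero => simp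
  | succ i ih =>
    rw [pow_succ, AlgEquiv.mul_apply, hσ, map_mul, ih, Finset.prod_range_succ]; ring

lemma one_le_m (p : ℕ) [Fact p.Prime] [CharP k p] (σ : PowerSeries k ≃ₐ[k] PowerSeries k)
    (hσp : σ ^ p = 1) (m : ℕ) (w₁ : PowerSeries k) (hw₁ : constantCoeff w₁ ≠ 0)
    (hσ : σ X = X * (1 + X ^ m * w₁)) : 1 ≤ m := by
  by_contra hm0
  have hm0 : m = 0 := by omega
  subst hm0
  rw [pow_zero, one_mul] at hσ
  have h1 := pow_apply_X σ _ hσ p
  rw [hσp, AlgEquiv.one_apply] at h1
  have h2 : ∏ j ∈ Finset.range p, (σ ^ j) (1 + w₁) = 1 := by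
    have : X * 1 = X * ∏ j ∈ Finset.range p, (σ ^ j) (1 + w₁) := by rw [mul_one]; exact h1
    exact (mul_left_cancel₀ X_ne_zero this).symm
  have h3 := congrArg constantCoeff h2
  rw [map_prod] at h3
  simp only [constantCoeff_apply, map_add, map_one, Finset.prod_const, Finset.card_range] at h3
  have h4 : (constantCoeff w₁) ^ p = 0 := by
    rw [add_pow_char, one_pow] at h3
    simpa using h3
  exact hw₁ ((pow_eq_zero_iff (Fact.out : p.Prime).ne_zero).mp h4)


end Aux


/-- Let `k` be a field of characteristic `p > 0`, `A = k[[u]]`, and `σ` a `k`-algebra automorphism of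
`A` of order exactly `p` with ramification break `m`, i.e. `σ u - u` has order `m + 1`. Then `p`
divides `m + 1` if and only if there are a uniformizer `s` of `A` (a power series of order `1`) and
a `σ`-invariant power series `a` with `σ s = s + a`. (The published statement has a third equivalent
condition, that `Spec A` is a torsor under the effective model of the action; this row omits it.) -/
theorem result
    (p : ℕ) [Fact p.Prime] (k : Type u) [Field k] [CharP k p]
    (σ : PowerSeries k ≃ₐ[k] PowerSeries k) (hσp : σ ^ p = 1) (hσ1 : σ ≠ 1)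
    (m : ℕ) (hm : (σ PowerSeries.X - PowerSeries.X).order = ((m + 1 : ℕ) : ℕ∞)) :
    p ∣ m + 1 ↔
      ∃ s a : PowerSeries k, s.order = 1 ∧ σ a = a ∧ σ s = s + a := by
  obtain ⟨w₁, hw₁, hσ⟩ := exists_w σ m hm
  have hm1 := one_le_m p σ hσp m w₁ hw₁ hσ
  have hp := (Fact.out : p.Prime)
  have hp2 : 2 ≤ p := hp.two_le
  constructor
  · rintro ⟨l, hl⟩
    set D : Module.End k (PowerSeries k) := σ.toLinearMap - 1 with hD
    have hDapp : ∀ f, D f = σ f - f := fun f => rfl
    have hpow : ∀ n x, (σ.toLinearMap ^ n : Module.End k (PowerSeries k)) x = (σ ^ n) x := by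
      intro n
      induction n with
      | zero => intro x; simp
      | succ n ih =>
        intro x
        rw [pow_succ, pow_succ, Module.End.mul_apply, AlgEquiv.mul_apply, ih]; rfl
    have hDp : D ^ p = 0 := by
      have : CharP (Module.End k (PowerSeries k)) p :=
        charP_of_injective_algebraMap (algebraMap k _).injective p
      rw [hD, sub_pow_char_of_commute p (Commute.one_right _), one_pow]
      ext x : 1
      rw [LinearMap.sub_apply, hpow, hσp]; simp
    have hord : ∀ j, j ≤ p - 2 →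
        ((D ^ j) (X ^ (p - 1))).order = ((p - 1 + j * m : ℕ) : ℕ∞) := by
      intro j
      induction j with
      | zero => intro _; simp [order_X_pow]
      | succ j ih =>
        intro hj
        rw [pow_succ', Module.End.mul_apply, hDapp]
        have hnk : ((p - 1 + j * m : ℕ) : k) ≠ 0 := by
          rw [Ne, CharP.cast_eq_zero_iff k p]
          intro hd
          have h2 : p ∣ (p - 1 + j * m) + (1 + j) := by
            refine ⟨1 + j * l, ?_⟩
            have e1 : j * m + j = j * (p * l) := by rw [← hl]; ring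
            have e2 : p - 1 + 1 = p := by omega
            have e3 : p * (1 + j * l) = p + j * (p * l) := by ring
            rw [e3, ← e1]; omega
          have h3 : p ∣ 1 + j := (Nat.dvd_add_right hd).mp h2
          have := Nat.le_of_dvd (by omega) h3
          omega
        rw [order_sub_eq σ m hm1 w₁ hw₁ hσ _ _ (ih (by omega)) hnk]
        congr 1; ring
    -- the invariant `t` of order `p`
    set t : PowerSeries k := ∏ i ∈ Finset.range p, (σ ^ i) X with ht
    have htord : t.order = (p : ℕ∞) := by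
      rw [ht, order_prod]
      rw [Finset.sum_congr rfl (fun i _ => (order_apply (σ ^ i) X).trans order_X)]
      simp
    have ht0 : t ≠ 0 := by
      intro h; rw [h, order_zero] at htord; exact ENat.top_ne_natCast _ htord
    have hσt : σ t = t := by
      have h1 : σ t = ∏ i ∈ Finset.range p, (σ ^ (i + 1)) X := by
        rw [ht, map_prod]
        refine Finset.prod_congr rfl fun i _ => ?_
        rw [pow_succ', AlgEquiv.mul_apply]
      have h2 := Finset.prod_range_succ' (fun i => (σ ^ i) X) p
      have h3 := Finset.prod_range_succ (fun i => (σ ^ i) X) p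
      rw [h3] at h2
      simp only [hσp, pow_zero, AlgEquiv.one_apply] at h2
      rw [h1]
      exact (mul_right_cancel₀ X_ne_zero h2).symm
    set N' := (p - 2) * l with hN'
    set s' := (D ^ (p - 2)) (X ^ (p - 1)) with hs'
    have hs'ord : s'.order = ((1 + p * N' : ℕ) : ℕ∞) := by
      rw [hs', hord (p - 2) le_rfl]
      congr 1
      have e1 : (p - 2) * m + (p - 2) = (p - 2) * (p * l) := by rw [← hl]; ring
      have e2 : p * ((p - 2) * l) = (p - 2) * (p * l) := by ring
      rw [hN', e2, ← e1]; omega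
    have hs'0 : s' ≠ 0 := by
      intro h; rw [h, order_zero] at hs'ord; exact ENat.top_ne_natCast _ hs'ord
    have htN : (t ^ N').order = ((p * N' : ℕ) : ℕ∞) := by
      rw [order_pow, htord]; push_cast; ring
    obtain ⟨s, hs⟩ : t ^ N' ∣ s' := by
      refine dvd_of_order_le (pow_ne_zero _ ht0) ?_
      rw [htN, hs'ord]
      exact_mod_cast Nat.le_add_left _ _
    have hs0 : s ≠ 0 := by
      rintro rfl; rw [mul_zero] at hs; exact hs'0 hs
    have hsord : s.order = 1 := by
      have h1 := hs'ord
      rw [hs, order_mul, htN, ← coe_toNat_order hs0] at h1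
      rw [← coe_toNat_order hs0]
      have h2 : p * N' + s.order.toNat = 1 + p * N' := by exact_mod_cast h1
      have h3 : s.order.toNat = 1 := by omega
      rw [h3]; rfl
    have hσtN : σ (t ^ N') = t ^ N' := by rw [map_pow, hσt]
    refine ⟨s, σ s - s, hsord, ?_, by ring⟩
    have h1 : D s' = t ^ N' * (σ s - s) := by
      rw [hDapp, hs, map_mul, hσtN]; ring
    have h2 : D (D s') = 0 := by
      have h3 : D * (D * D ^ (p - 2)) = D ^ p := by
        rw [← pow_succ', ← pow_succ']; congr 1; omega
      have h5 : D (D s') = (D * (D * D ^ (p - 2))) (X ^ (p - 1)) := rfl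
      rw [h5, h3, hDp]; rfl
    rw [h1, hDapp, map_mul, hσtN, ← mul_sub] at h2
    have h4 := (mul_eq_zero.mp h2).resolve_left (pow_ne_zero _ ht0)
    exact sub_eq_zero.mp h4
  · rintro ⟨s, a, hs, ha, hsa⟩
    have ha' : a = σ s - s := by rw [hsa]; ring
    have h1 : a.order = ((1 + m : ℕ) : ℕ∞) := by
      rw [ha']
      exact order_sub_eq σ m hm1 w₁ hw₁ hσ s 1 (by simpa using hs) (by simp)
    by_contra hnd
    have hnk : ((1 + m : ℕ) : k) ≠ 0 := by
      rw [Ne, CharP.cast_eq_zero_iff k p, add_comm]; exact hnd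
    have h2 := order_sub_eq σ m hm1 w₁ hw₁ hσ a _ h1 hnk
    rw [ha, sub_self, order_zero] at h2
    exact ENat.top_ne_natCast _ h2


end Groth.Agent.S19996
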