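import Groth.Statements.S14080
import Mathlib
import Groth.Agent.S19996

set_option autoImplicit false
universe u
open ArSing

namespace Groth.Agent.S14080

open PowerSeries

section Aux
variable {k : Type u} [Field k]

/-- Two `k`-algebra endomorphisms of `k[[X]]` which agree on `X` (mapped into the maximal ideal)
are equal. -/
lemma algHom_ext_X (τ₁ τ₂ : PowerSeries k →ₐ[k] PowerSeries k) (hX : τ₁ X = τ₂ X)
    (h0 : (X : PowerSeries k) ∣ τ₁ X) (f : PowerSeries k) : τ₁ f = τ₂ f := by
  have key : ∀ n : ℕ, ∀ g : PowerSeries k, X ^ n ∣ τ₁ g - τ₂ g := by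
    intro n
    induction n with
    | zero => intro g; simp
    | succ n ih =>
      intro g
      obtain ⟨r, hr⟩ := ih (mk fun p => coeff (p + 1) g)
      obtain ⟨e, he⟩ := h0
      have h1 := eq_X_mul_shift_add_const g
      set g₁ := (mk fun p => coeff (p + 1) g) with hg₁
      have h4 : ∀ τ : PowerSeries k →ₐ[k] PowerSeries k,
          τ (C (constantCoeff g)) = C (constantCoeff g) := fun τ => τ.commutes _
      have h2 : τ₁ g - τ₂ g = τ₁ X * (τ₁ g₁ - τ₂ g₁) := by
        conv_lhs => rw [h1]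
        rw [map_add, map_add, map_mul, map_mul, h4, h4, ← hX]; ring
      rw [h2, hr, he]
      exact ⟨e * r, by ring⟩
  have h3 : τ₁ f - τ₂ f = 0 := by
    ext n
    have := (X_pow_dvd_iff.mp (key (n + 1) f)) n (Nat.lt_succ_self n)
    rw [this, map_zero]
  exact sub_eq_zero.mp h3


open Groth.Agent.S19996 in
lemma coeff_one_apply (τ : PowerSeries k ≃ₐ[k] PowerSeries k) (f : PowerSeries k)
    (hf : constantCoeff f = 0) : coeff 1 (τ f) = coeff 1 (τ X) * coeff 1 f := by
  obtain ⟨e, he⟩ := X_dvd_apply_X τ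
  obtain ⟨g, rfl⟩ := X_dvd_iff.mpr hf
  rw [map_mul, he]
  have h1 : coeff 1 (X * e * τ g) = constantCoeff e * constantCoeff g := by
    rw [mul_assoc, show (1 : ℕ) = 0 + 1 from rfl, coeff_succ_X_mul]
    simp [constantCoeff_apply]
  have h2 : coeff 1 (X * e) = constantCoeff e := by
    rw [show (1 : ℕ) = 0 + 1 from rfl, coeff_succ_X_mul]; simp
  have h3 : coeff 1 (X * g) = constantCoeff g := by
    rw [show (1 : ℕ) = 0 + 1 from rfl, coeff_succ_X_mul]; simp
  rw [h1, h2, h3]

end Aux

open Groth.Agent.S19996 in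

/-- Let k be a field in which 2 is invertible and σ an involutive k-algebra automorphism of the power
series ring k[[t]], with ξ the coefficient of t in σ(t). Then ξ^2 = 1, the k-algebra endomorphism φ
with φ(t) = (t + ξ σ(t))/2 is an automorphism, and φ⁻¹ σ φ is the automorphism t ↦ ξ t. (The
published statement is over an algebraically closed field of characteristic prime to 2; only the
invertibility of 2 is used, so any field with 2 ≠ 0 is allowed here.) -/
theorem result (k : Type u) [Field k] (h2 : (2 : k) ≠ 0)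
    (σ : PowerSeries k ≃ₐ[k] PowerSeries k) (hσ : ∀ f, σ (σ f) = f) :
    (PowerSeries.coeff 1 (σ PowerSeries.X)) ^ 2 = 1 ∧
    ∃ φ : PowerSeries k ≃ₐ[k] PowerSeries k,
      φ PowerSeries.X = PowerSeries.C (2⁻¹ : k) *
        (PowerSeries.X + PowerSeries.C (PowerSeries.coeff 1 (σ PowerSeries.X)) * σ PowerSeries.X) ∧
      ∀ f, φ.symm (σ (φ f)) = PowerSeries.rescale (PowerSeries.coeff 1 (σ PowerSeries.X)) f := by
  set ξ := coeff 1 (σ X) with hξ
  have hσX0 : constantCoeff (σ X) = 0 := X_dvd_iff.mp (X_dvd_apply_X σ)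
  have hξ2 : ξ * ξ = 1 := by
    have := coeff_one_apply σ (σ X) hσX0
    rw [hσ, coeff_one_X] at this
    exact this.symm
  refine ⟨by rw [pow_two]; exact hξ2, ?_⟩
  set y : PowerSeries k := C (2⁻¹ : k) * (X + C ξ * σ X) with hy
  have hy0 : constantCoeff y = 0 := by
    rw [hy]; simp [hσX0]
  have hy1 : coeff 1 y = 1 := by
    rw [hy, coeff_C_mul, map_add, coeff_one_X, coeff_C_mul, ← hξ, hξ2]
    rw [one_add_one_eq_two, inv_mul_cancel₀ h2]
  have hy1' : IsUnit (coeff 1 y) := by rw [hy1]; exact isUnit_one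
  set z := y.substInvOfIsUnit hy1' with hz
  have hyS : HasSubst y := HasSubst.of_constantCoeff_zero' hy0
  have hzS : HasSubst z := HasSubst.substInvOfIsUnit y hy1'
  let φ₁ : PowerSeries k →ₐ[k] PowerSeries k := substAlgHom hyS
  let ψ₁ : PowerSeries k →ₐ[k] PowerSeries k := substAlgHom hzS
  have hφψ : φ₁.comp ψ₁ = AlgHom.id k _ := by
    ext1 f
    change substAlgHom hyS (substAlgHom hzS f) = f
    rw [coe_substAlgHom, coe_substAlgHom, subst_comp_subst_apply hzS hyS,
      subst_substInvOfIsUnit_left y hy0 hy1']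
    exact X_subst f
  have hψφ : ψ₁.comp φ₁ = AlgHom.id k _ := by
    ext1 f
    change substAlgHom hzS (substAlgHom hyS f) = f
    rw [coe_substAlgHom, coe_substAlgHom, subst_comp_subst_apply hyS hzS,
      subst_substInvOfIsUnit_right y hy0 hy1']
    exact X_subst f
  let φ : PowerSeries k ≃ₐ[k] PowerSeries k := AlgEquiv.ofAlgHom φ₁ ψ₁ hφψ hψφ
  have hφX : φ X = y := by
    change substAlgHom hyS X = y
    rw [coe_substAlgHom, subst_X hyS]
  refine ⟨φ, hφX, ?_⟩
  -- σ y = ξ y
  have hσy : σ y = C ξ * y := by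
    rw [hy, map_mul, map_add, map_mul, hσ]
    have hC : ∀ c : k, σ (C c) = C c := fun c => σ.commutes c
    rw [hC, hC]
    have : C ξ * C ξ = (1 : PowerSeries k) := by rw [← map_mul, hξ2, map_one]
    linear_combination (C (2⁻¹ : k) * σ X) * this.symm
  intro f
  have hr : ∀ g : PowerSeries k, rescaleAlgHom ξ g = rescale ξ g := fun g => by
    rw [← coe_rescaleAlgHom]; rfl
  let τ₁ : PowerSeries k →ₐ[k] PowerSeries k :=
    ((φ.symm : PowerSeries k →ₐ[k] PowerSeries k).comp (σ : PowerSeries k →ₐ[k] PowerSeries k)).comp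
      (φ : PowerSeries k →ₐ[k] PowerSeries k)
  have hτX : τ₁ X = rescaleAlgHom ξ X := by
    change φ.symm (σ (φ X)) = rescaleAlgHom ξ X
    rw [hφX, hσy, map_mul, ← hφX, AlgEquiv.symm_apply_apply]
    have hC : φ.symm (C ξ) = C ξ := φ.symm.commutes ξ
    rw [hC, hr, rescale_X]
  have h0 : (X : PowerSeries k) ∣ τ₁ X := by
    rw [hτX, hr, rescale_X]; exact Dvd.intro_left _ rfl
  have := algHom_ext_X τ₁ (rescaleAlgHom ξ) hτX h0 f
  rw [hr] at this
  exact this


end Groth.Agent.S14080
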