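import Groth.Statements.S19360
import Mathlib
import Groth.Agent.Lib.Helper15FanP
-- import your own Groth.Agent.* helpers here

set_option autoImplicit false
universe u
open CategoryTheory Opposite Instab
open Instab Instab.Fan

namespace Groth.Agent.S19360.Aux

set_option autoImplicit false

namespace FanPull


open CategoryTheory Opposite Instab Instab.Fan Limits Groth.Agent.Lib.Helper15.FanCone

theorem main {F F' G : Fan.{u}} (f : F ⟶ G) (g : F' ⟶ G)
    (x : Fan.P F) (x' : Fan.P F') (h : Fan.P.map f x = Fan.P.map g x') :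
    ∃ y : Fan.P (Limits.pullback f g),
      Fan.P.map (Limits.pullback.fst f g) y = x ∧ Fan.P.map (Limits.pullback.snd f g) y = x' := by
  obtain ⟨n, ξ, v, rfl⟩ := mk_surjective x
  obtain ⟨n', ξ', v', rfl⟩ := mk_surjective x'
  rw [map_mk, map_mk] at h
  obtain ⟨k, φ₁, φ₂, y, c₁, c₂, hh, hc₁, hc₂, h₁, h₂⟩ := exists_common_subcone _ _ _ _ h
  have e1 : G.map φ₁.op (f.app _ ξ) = f.app _ (F.map φ₁.op ξ) :=
    (NatTrans.naturality_apply f φ₁.op ξ).symm
  have e2 : G.map φ₂.op (g.app _ ξ') = g.app _ (F'.map φ₂.op ξ') :=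
    (NatTrans.naturality_apply g φ₂.op ξ').symm
  rw [e1, e2] at hh
  obtain ⟨ζ, hζ1, hζ2⟩ := exists_pullback_elt f g _ _ hh
  refine ⟨P.mk ζ y, ?_, ?_⟩
  · rw [map_mk, hζ1]
    exact mk_glue φ₁ ξ y v c₁ hc₁ h₁
  · rw [map_mk, hζ2]
    exact mk_glue φ₂ ξ' y v' c₂ hc₂ h₂

end FanPull

end Groth.Agent.S19360.Aux

namespace Groth.Agent.S19360

/-- For maps of formal fans f : F ⟶ G and g : F' ⟶ G, the canonical map from the projective realization
of the fibre product F ×_G F' to the fibre product of topological spaces P F ×_{P G} P F' is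
surjective: any x in P F and x' in P F' with the same image in P G come from a common point of P (F
×_G F'). -/
theorem result {F F' G : Fan.{u}} (f : F ⟶ G) (g : F' ⟶ G)
    (x : Fan.P F) (x' : Fan.P F') (h : Fan.P.map f x = Fan.P.map g x') :
    ∃ y : Fan.P (Limits.pullback f g),
      Fan.P.map (Limits.pullback.fst f g) y = x ∧ Fan.P.map (Limits.pullback.snd f g) y = x' := by
  exact Aux.FanPull.main f g x x' h

end Groth.Agent.S19360
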