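import Groth.Statements.S19373
import Mathlib
import Groth.Agent.Lib.Helper15FanY
import Groth.Agent.S19360
-- import your own Groth.Agent.* helpers here

set_option autoImplicit false
universe u
open CategoryTheory Opposite Instab
open Instab Instab.Fan

namespace Groth.Agent.S19373.Aux

set_option autoImplicit false

namespace FanPairs


open CategoryTheory Opposite Instab Instab.Fan Limits Groth.Agent.Lib.Helper15.FanCone

theorem main (G : Fan.{u}) (hG : G.IsQuasiSeparated)
    {n n' : ICone} (ξ : G.obj (op n)) (ξ' : G.obj (op n')) :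
    ∃ s : Finset (Σ k : ICone, (k ⟶ n) × (k ⟶ n')),
      (∀ e ∈ s, G.map e.2.1.op ξ = G.map e.2.2.op ξ') ∧
      ∀ (v : Fan.Orth n) (w : Fan.Orth n'), Fan.P.mk ξ v = Fan.P.mk ξ' w ↔
        ∃ e ∈ s, ∃ (y : Fan.Orth e.1) (c c' : ℝ), 0 < c ∧ 0 < c' ∧
          v.1 = c • e.2.1.realMap y.1 ∧ w.1 = c' • e.2.2.realMap y.1 := by
  classical
  obtain ⟨s₀, hs₀⟩ := hG n n' ξ ξ'
  let H := pullback (coneMap ξ) (coneMap ξ')
  let toPair : (Σ m : ICone, H.obj (op m)) → (Σ k : ICone, (k ⟶ n) × (k ⟶ n')) := fun e =>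
    ⟨e.1, ((pullback.fst (coneMap ξ) (coneMap ξ')).app _ e.2).down,
      ((pullback.snd (coneMap ξ) (coneMap ξ')).app _ e.2).down⟩
  have hcond : ∀ e : (Σ m : ICone, H.obj (op m)),
      G.map (toPair e).2.1.op ξ = G.map (toPair e).2.2.op ξ' := by
    intro e
    have h1 := congrArg (fun t => t.app (op e.1) e.2)
      (pullback.condition (f := coneMap ξ) (g := coneMap ξ'))
    exact h1
  refine ⟨s₀.image toPair, ?_, ?_⟩
  · intro e he
    obtain ⟨e₀, _, rfl⟩ := Finset.mem_image.mp he
    exact hcond e₀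
  · intro v w
    constructor
    · intro h
      let x : P (uliftYoneda.{u}.obj n) := P.mk (ULift.up (𝟙 n)) v
      let x' : P (uliftYoneda.{u}.obj n') := P.mk (ULift.up (𝟙 n')) w
      have hxx : P.map (coneMap ξ) x = P.map (coneMap ξ') x' := by
        show P.mk (G.map (𝟙 n).op ξ) v = P.mk (G.map (𝟙 n').op ξ') w
        simpa using h
      obtain ⟨z, hz1, hz2⟩ := Groth.Agent.S19360.result (coneMap ξ) (coneMap ξ') x x' hxx
      obtain ⟨e, he, y, rfl⟩ := hs₀ z
      refine ⟨toPair e, Finset.mem_image_of_mem _ he, y, ?_⟩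
      rw [map_mk] at hz1 hz2
      have h1 := (mk_yo_eq_iff (toPair e).2.1 (𝟙 n) y v).mp hz1
      have h2 := (mk_yo_eq_iff (toPair e).2.2 (𝟙 n') y w).mp hz2
      obtain ⟨c, hc, h1⟩ := h1
      obtain ⟨c', hc', h2⟩ := h2
      rw [realMap_id] at h1 h2
      exact ⟨c, c', hc, hc', h1, h2⟩
    · rintro ⟨e, he, y, c, c', hc, hc', h1, h2⟩
      obtain ⟨e₀, _, rfl⟩ := Finset.mem_image.mp he
      exact mk_eq_of_common ξ ξ' v w _ _ y c c' (hcond e₀) hc hc' h1 h2

end FanPairs

end Groth.Agent.S19373.Aux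

namespace Groth.Agent.S19373

/-- Let G be a quasi-separated formal fan, ξ an n-cone and ξ' an n'-cone of G. The pairs of points of
the rational simplices of ξ and ξ' with the same image in P G form a finite union of diagonally
embedded common rational sub-simplices: there is a finite set of pairs of cone morphisms φ : [k] ⟶
[n], φ' : [k] ⟶ [n'] with G(φ) ξ = G(φ') ξ' such that nonzero nonnegative vectors v of ℝ^n and w of
ℝ^n' give the same point of P G if and only if, for one of these pairs and some nonzero nonnegative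
y in ℝ^k, v is a positive multiple of φ y and w is a positive multiple of φ' y. (The assertion that
the image of finitely many rational simplices carries the quotient topology is not stated.) -/
theorem result (G : Fan.{u}) (hG : G.IsQuasiSeparated)
    {n n' : ICone} (ξ : G.obj (op n)) (ξ' : G.obj (op n')) :
    ∃ s : Finset (Σ k : ICone, (k ⟶ n) × (k ⟶ n')),
      (∀ e ∈ s, G.map e.2.1.op ξ = G.map e.2.2.op ξ') ∧
      ∀ (v : Fan.Orth n) (w : Fan.Orth n'), Fan.P.mk ξ v = Fan.P.mk ξ' w ↔
        ∃ e ∈ s, ∃ (y : Fan.Orth e.1) (c c' : ℝ), 0 < c ∧ 0 < c' ∧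
          v.1 = c • e.2.1.realMap y.1 ∧ w.1 = c' • e.2.2.realMap y.1 := by
  exact Aux.FanPairs.main G hG ξ ξ'

end Groth.Agent.S19373
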