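import Groth.Statements.S19366
import Mathlib
import Groth.Agent.Lib.Helper15FanB
import Groth.Agent.S19373
-- import your own Groth.Agent.* helpers here

set_option autoImplicit false
universe u
open CategoryTheory Opposite Instab
open Instab Instab.Fan

namespace Groth.Agent.S19366.Aux

set_option autoImplicit false

namespace FanCoh


open CategoryTheory Opposite Instab Instab.Fan Limits Groth.Agent.Lib.Helper15.FanCone

theorem continuous_pushOrth {k n : ICone} (φ : k ⟶ n) : Continuous (pushOrth φ) :=
  (isClosedEmbedding_pushOrth φ).continuous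

theorem closed_image (F : Fan.{u}) (hF : F.IsQuasiSeparated)
    (n : ICone) (ξ : F.obj (op n)) (S : Set (Fan.Orth n)) (hS : IsClosed S)
    (hsat : ∀ v w : Fan.Orth n, v ∈ S → ∀ c : ℝ, 0 < c → w.1 = c • v.1 → w ∈ S) :
    IsClosed (Fan.P.mk ξ '' S) := by
  rw [isClosed_iff]
  intro n' ξ'
  obtain ⟨s, -, hs⟩ := Groth.Agent.S19373.result F hF ξ ξ'
  have heq : {w : Orth n' | P.mk ξ' w ∈ P.mk ξ '' S} = ⋃ e ∈ s,
      {w : Orth n' | ∃ (y : Orth e.1) (c : ℝ), 0 < c ∧ w.1 = c • e.2.2.realMap y.1 ∧
        y ∈ pushOrth e.2.1 ⁻¹' S} := by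
    ext w
    simp only [Set.mem_setOf_eq, Set.mem_iUnion, Set.mem_image, Set.mem_preimage]
    constructor
    · rintro ⟨v, hv, hvw⟩
      obtain ⟨e, he, y, c, c', hc, hc', h1, h2⟩ := (hs v w).mp hvw
      refine ⟨e, he, y, c', hc', h2, ?_⟩
      apply hsat v _ hv (1 / c) (by positivity)
      rw [pushOrth_val, h1, smul_smul]
      field_simp
      rw [one_smul]
    · rintro ⟨e, he, y, c', hc', h2, hy⟩
      refine ⟨pushOrth e.2.1 y, hy, ?_⟩
      exact (hs _ w).mpr ⟨e, he, y, 1, c', one_pos, hc', by rw [one_smul]; rfl, h2⟩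
  rw [heq]
  apply Set.Finite.isClosed_biUnion s.finite_toSet
  intro e _
  apply isClosed_cone_image
  · exact hS.preimage (continuous_pushOrth _)
  · intro y w hy c hc hw
    show pushOrth e.2.1 w ∈ S
    apply hsat _ _ hy c hc
    rw [pushOrth_val, pushOrth_val, hw, realMap_smul]

theorem main (F : Fan.{u}) (hF : F.IsQuasiSeparated) :
    (∀ (n : ICone) (ξ : F.obj (op n)) (S : Set (Fan.Orth n)), IsClosed S →
      (∀ v w : Fan.Orth n, v ∈ S → ∀ c : ℝ, 0 < c → w.1 = c • v.1 → w ∈ S) →
        IsClosed (Fan.P.mk ξ '' S)) ∧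
    ∀ S : Set (Fan.P F), IsClosed S ↔ ∀ (n : ICone) (ξ : F.obj (op n)), IsClosed (S ∩ Fan.P.cell ξ) := by
  refine ⟨closed_image F hF, fun S => ⟨fun hS n ξ => ?_, fun h => ?_⟩⟩
  · apply hS.inter
    have := closed_image F hF n ξ Set.univ isClosed_univ (fun _ _ _ _ _ _ => Set.mem_univ _)
    rwa [Set.image_univ] at this
  · rw [isClosed_iff]
    intro n ξ
    have h1 := (h n ξ).preimage (continuous_mk ξ)
    convert h1 using 1
    ext v
    simp only [Set.mem_setOf_eq, Set.mem_preimage, Set.mem_inter_iff]
    exact ⟨fun hv => ⟨hv, ⟨v, rfl⟩⟩, fun hv => hv.1⟩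

end FanCoh

end Groth.Agent.S19366.Aux

namespace Groth.Agent.S19366

/-- Let F be a quasi-separated formal fan (the fibre product of any two cones over F is a fan covered by
finitely many rational simplices). Then (1) each rational simplex is a closed map into P F: for
every n-cone ξ and every closed set S of nonzero nonnegative vectors of ℝ^n that is closed under
positive rescaling, the image of S in P F is closed; and (2) the topology of P F is compactly
generated by the images of the rational simplices: a subset is closed exactly when it meets the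
image of each rational simplex in a closed set. (The published proposition also asserts that P F is
a Hausdorff space; that fails for suitable quasi-separated fans with uncountably many cones, the
colimit topology on a product of realizations being finer than the product topology, and it is not
stated here.) -/
theorem result (F : Fan.{u}) (hF : F.IsQuasiSeparated) :
    (∀ (n : ICone) (ξ : F.obj (op n)) (S : Set (Fan.Orth n)), IsClosed S →
      (∀ v w : Fan.Orth n, v ∈ S → ∀ c : ℝ, 0 < c → w.1 = c • v.1 → w ∈ S) →
        IsClosed (Fan.P.mk ξ '' S)) ∧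
    ∀ S : Set (Fan.P F), IsClosed S ↔ ∀ (n : ICone) (ξ : F.obj (op n)), IsClosed (S ∩ Fan.P.cell ξ) := by
  exact Aux.FanCoh.main F hF

end Groth.Agent.S19366
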