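import Groth.Statements.S19370
import Mathlib
-- import your own Groth.Agent.* helpers here

set_option autoImplicit false
universe u v
open CategoryTheory Opposite Instab
open Instab Instab.Fan

namespace Groth.Agent.S19370.Aux

set_option autoImplicit false

namespace FanCvx


open CategoryTheory Opposite Instab Instab.Fan Filter Topology

variable {F : Fan.{u}}

theorem continuous_mk {n : ICone} (ξ : F.obj (op n)) : Continuous (P.mk ξ : Orth n → P F) := by
  have h1 : Continuous (fun v : Orth n => (⟨⟨n, ξ⟩, v⟩ : Pt F)) :=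
    continuous_sigmaMk (σ := fun e : (Σ n : ICone, F.obj (op n)) => Orth e.1) (i := ⟨n, ξ⟩)
  exact continuous_quot_mk.comp h1

theorem inducing_val (n : ICone) : Topology.IsInducing (fun w : Orth n => w.1) :=
  Topology.IsInducing.subtypeVal

/-- the path `e₀ + |t| e₁` in the orthant of `[2]`. -/
noncomputable def pathPt (t : ℝ) : Orth two :=
  ⟨fun j => (Orth.basis two 0).1 j + |t| * (Orth.basis two 1).1 j, fun j => by
    have h0 := (Orth.basis two 0).2.1 j
    have h1 := (Orth.basis two 1).2.1 j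
    have := abs_nonneg t
    positivity, fun h => by
    have h1 := congr_fun h 0
    have h2 := (Orth.basis two 1).2.1 0
    have h3 : (Orth.basis two 0).1 0 = 1 := by simp [Orth.basis]
    have := abs_nonneg t
    simp only [Pi.zero_apply] at h1
    rw [h3] at h1
    nlinarith [mul_nonneg this h2]⟩

theorem pathPt_zero : pathPt 0 = Orth.basis two 0 := by
  apply Subtype.ext
  funext j
  simp [pathPt]

theorem continuous_pathPt : Continuous pathPt := by
  rw [(inducing_val two).continuous_iff]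
  apply continuous_pi
  intro j
  show Continuous fun t : ℝ => (Orth.basis two 0).1 j + |t| * (Orth.basis two 1).1 j
  fun_prop

theorem basis_not_mul : ¬ ∃ c : ℝ, (Orth.basis two 1).1 = c • (Orth.basis two 0).1 := by
  rintro ⟨c, hc⟩
  have h1 : (Orth.basis two 1).1 1 = c * (Orth.basis two 0).1 1 := by rw [hc]; rfl
  have h10 : (1 : Fin two.dim) ≠ 0 := by decide
  have h2 : (Orth.basis two 1).1 1 = 1 := by simp [Orth.basis]
  have h3 : (Orth.basis two 0).1 1 = 0 := by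
    show (if (1 : Fin two.dim) = 0 then (1 : ℝ) else 0) = 0
    rw [if_neg h10]
  rw [h2, h3] at h1
  simp at h1


/-- key path lemma: from a rational local maximum `x` towards another rational point `y`. -/
theorem exists_path_point (U : Set (P F)) (hU : IsConvex U) {Γ : Type v} [LinearOrder Γ]
    (Φ : U → Γ) (x y : U) (hx : (x : P F).IsRational) (hy : (y : P F).IsRational)
    (hxy : x ≠ y) (hloc : IsLocalMax Φ x) :
    ∃ (τ : F.obj (op two)) (v₁ : Orth two) (h₀ : P.mk τ (Orth.basis two 0) ∈ U)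
      (h₁ : P.mk τ v₁ ∈ U) (h₂ : P.mk τ (Orth.basis two 1) ∈ U),
      (⟨_, h₀⟩ : U) = x ∧ (⟨_, h₂⟩ : U) = y ∧
      (∃ a b : ℝ, 0 < a ∧ 0 < b ∧ v₁.1 = a • (Orth.basis two 0).1 + b • (Orth.basis two 1).1) ∧
      Φ ⟨_, h₁⟩ ≤ Φ x := by
  have hxy' : (x : P F) ≠ y := fun h => hxy (Subtype.ext h)
  obtain ⟨τ, hτU, hτ0, hτ1⟩ := hU.2.2 x y x.2 y.2 hx hy hxy'
  have hcell : ∀ w : Orth two, P.mk τ w ∈ U := fun w => hτU ⟨w, rfl⟩
  let γ : ℝ → U := fun t => ⟨P.mk τ (pathPt t), hcell _⟩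
  have hγc : Continuous γ :=
    Continuous.subtype_mk ((continuous_mk τ).comp continuous_pathPt) _
  have hγ0 : γ 0 = x := by
    apply Subtype.ext
    show P.mk τ (pathPt 0) = x
    rw [pathPt_zero, hτ0]
  have hev : ∀ᶠ t in 𝓝 (0 : ℝ), Φ (γ t) ≤ Φ x := by
    have : Tendsto γ (𝓝 0) (𝓝 x) := by
      rw [← hγ0]; exact hγc.continuousAt
    exact this.eventually hloc
  have hev' : ∀ᶠ t in 𝓝[>] (0 : ℝ), Φ (γ t) ≤ Φ x := hev.filter_mono nhdsWithin_le_nhds
  obtain ⟨t, ht1, ht0⟩ := (hev'.and self_mem_nhdsWithin).exists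
  have ht0' : (0 : ℝ) < t := ht0
  refine ⟨τ, pathPt t, hcell _, hcell _, hcell _, Subtype.ext hτ0, Subtype.ext hτ1,
    ⟨1, t, one_pos, ht0', ?_⟩, ht1⟩
  funext j
  show (Orth.basis two 0).1 j + |t| * (Orth.basis two 1).1 j
    = (1 : ℝ) * (Orth.basis two 0).1 j + t * (Orth.basis two 1).1 j
  rw [abs_of_pos ht0', one_mul]

theorem part1 (U : Set (P F)) (hU : IsConvex U) {Γ : Type v} [LinearOrder Γ]
    (Φ : U → Γ) (hΦ : IsQuasiConcaveOn U Φ) (x y : U) (hx : (x : P F).IsRational)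
    (hy : (y : P F).IsRational) (hloc : IsLocalMax Φ x) : Φ y ≤ Φ x := by
  by_cases hxy : x = y
  · rw [hxy]
  obtain ⟨τ, v₁, h₀, h₁, h₂, e₀, e₂, hab, hle⟩ := exists_path_point U hU Φ x y hx hy hxy hloc
  obtain ⟨hq1, hq2⟩ := hΦ two τ (Orth.basis two 0) v₁ (Orth.basis two 1) h₀ h₁ h₂ basis_not_mul hab
  rw [e₀, e₂] at hq1 hq2
  by_contra hlt
  push Not at hlt
  have hmin : min (Φ x) (Φ y) = Φ x := min_eq_left hlt.le
  rw [hmin] at hq1 hq2
  have := hq2 (le_antisymm hle hq1)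
  exact absurd this hlt.ne

theorem part2 (U : Set (P F)) (hU : IsConvex U) {Γ : Type v} [LinearOrder Γ]
    (Φ : U → Γ) (hΦ : IsQuasiConcaveOn U Φ) (hs : IsStrictQuasiConcaveOn U Φ)
    (x y : U) (hx : (x : P F).IsRational)
    (hy : (y : P F).IsRational) (hlocx : IsLocalMax Φ x) (hlocy : IsLocalMax Φ y) : x = y := by
  by_contra hxy
  have h1 := part1 U hU Φ hΦ x y hx hy hlocx
  have h2 := part1 U hU Φ hΦ y x hy hx hlocy
  have heq : Φ x = Φ y := le_antisymm h2 h1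
  obtain ⟨τ, v₁, h₀, h₁, h₂, e₀, e₂, hab, hle⟩ := exists_path_point U hU Φ x y hx hy hxy hlocx
  have hq := hs two τ (Orth.basis two 0) v₁ (Orth.basis two 1) h₀ h₁ h₂ basis_not_mul hab
  rw [e₀, e₂, ← heq, min_self] at hq
  exact absurd hle (not_le.mpr hq)


theorem fin_one_eq (i : Fin one.dim) : i = ⟨0, one.dim.pos⟩ := by
  apply Fin.ext
  have := i.2
  have h1 : (one.dim : ℕ) = 1 := rfl
  show i.val = 0
  omega

/-- the ray morphism `[1] ⟶ [n]` of a positive integer vector. -/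
def rayHom {n : ICone} (m : Fin n.dim → ℕ) (hm : ∀ j, 0 < m j) : one ⟶ n where
  toLin := (LinearMap.proj (⟨0, one.dim.pos⟩ : Fin one.dim)).smulRight (fun j => (m j : ℤ))
  injective := by
    intro a b hab
    have h1 := congr_fun hab ⟨0, n.dim.pos⟩
    simp only [LinearMap.smulRight_apply, LinearMap.proj_apply, Pi.smul_apply, smul_eq_mul] at h1
    have hm0 : ((m ⟨0, n.dim.pos⟩ : ℕ) : ℤ) ≠ 0 := by
      have := hm ⟨0, n.dim.pos⟩
      exact_mod_cast this.ne'
    have h2 := mul_right_cancel₀ hm0 h1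
    funext i
    rw [fin_one_eq i]
    exact h2
  nonneg := by
    intro v hv j
    simp only [LinearMap.smulRight_apply, LinearMap.proj_apply, Pi.smul_apply, smul_eq_mul]
    exact mul_nonneg (hv _) (by positivity)

theorem rayHom_realMap {n : ICone} (m : Fin n.dim → ℕ) (hm : ∀ j, 0 < m j) (j : Fin n.dim) :
    (rayHom m hm).realMap (Orth.ones one).1 j = (m j : ℝ) := by
  unfold ICone.Hom.realMap
  rw [Fintype.sum_eq_single (⟨0, one.dim.pos⟩ : Fin one.dim)]
  · show (((((Pi.single (⟨0, one.dim.pos⟩ : Fin one.dim) (1 : ℤ) : Fin one.dim → ℤ)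
        ⟨0, one.dim.pos⟩) • (fun j => (m j : ℤ))) j : ℤ) : ℝ) * 1 = (m j : ℝ)
    simp
  · intro i hi
    exact absurd (fin_one_eq i) hi

theorem rational_of_nat {n : ICone} (ξ : F.obj (op n)) (w : Orth n) (m : Fin n.dim → ℕ)
    (hm : ∀ j, 0 < m j) (c : ℝ) (hc : 0 < c) (hw : w.1 = c • (fun j => (m j : ℝ))) :
    (P.mk ξ w).IsRational := by
  refine ⟨F.map (rayHom m hm).op ξ, ?_⟩
  symm
  apply Quot.sound
  refine Rel.glue (rayHom m hm) ξ (Orth.ones one) w c hc ?_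
  rw [hw]
  congr 1
  funext j
  exact (rayHom_realMap m hm j).symm

/-- approximating sequence of positive-integer-direction vectors -/
noncomputable def approx {n : ICone} (v : Orth n) (k : ℕ) : Orth n :=
  ⟨fun j => (1 / ((k : ℝ) + 1)) * ((⌊((k : ℝ) + 1) * v.1 j⌋₊ + 1 : ℕ) : ℝ), fun j => by positivity,
    fun h => by
      have h1 := congr_fun h ⟨0, n.dim.pos⟩
      simp only [Pi.zero_apply] at h1
      have : 0 < (1 / ((k : ℝ) + 1)) * ((⌊((k : ℝ) + 1) * v.1 ⟨0, n.dim.pos⟩⌋₊ + 1 : ℕ) : ℝ) := by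
        positivity
      linarith⟩

theorem approx_lower {n : ICone} (v : Orth n) (k : ℕ) (j : Fin n.dim) :
    v.1 j ≤ (approx v k).1 j := by
  show v.1 j ≤ (1 / ((k : ℝ) + 1)) * ((⌊((k : ℝ) + 1) * v.1 j⌋₊ + 1 : ℕ) : ℝ)
  have hk : (0 : ℝ) < (k : ℝ) + 1 := by positivity
  have h1 : ((k : ℝ) + 1) * v.1 j < ⌊((k : ℝ) + 1) * v.1 j⌋₊ + 1 := Nat.lt_floor_add_one _
  rw [one_div, ← div_eq_inv_mul, le_div_iff₀ hk]
  push_cast
  linarith

theorem approx_upper {n : ICone} (v : Orth n) (k : ℕ) (j : Fin n.dim) :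
    (approx v k).1 j ≤ v.1 j + 1 / ((k : ℝ) + 1) := by
  show (1 / ((k : ℝ) + 1)) * ((⌊((k : ℝ) + 1) * v.1 j⌋₊ + 1 : ℕ) : ℝ) ≤ v.1 j + 1 / ((k : ℝ) + 1)
  have hk : (0 : ℝ) < (k : ℝ) + 1 := by positivity
  have h0 : 0 ≤ ((k : ℝ) + 1) * v.1 j := mul_nonneg hk.le (v.2.1 j)
  have h1 : (⌊((k : ℝ) + 1) * v.1 j⌋₊ : ℝ) ≤ ((k : ℝ) + 1) * v.1 j := Nat.floor_le h0
  rw [one_div, ← div_eq_inv_mul, div_le_iff₀ hk]
  push_cast
  have : (v.1 j + ((k : ℝ) + 1)⁻¹) * ((k : ℝ) + 1) = ((k : ℝ) + 1) * v.1 j + 1 := by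
    field_simp
  rw [this]
  linarith

theorem tendsto_approx {n : ICone} (v : Orth n) : Tendsto (approx v) atTop (𝓝 v) := by
  rw [(inducing_val n).tendsto_nhds_iff]
  rw [tendsto_pi_nhds]
  intro j
  have h1 : Tendsto (fun k : ℕ => v.1 j + 1 / ((k : ℝ) + 1)) atTop (𝓝 (v.1 j + 0)) :=
    tendsto_const_nhds.add tendsto_one_div_add_atTop_nhds_zero_nat
  rw [add_zero] at h1
  exact tendsto_of_tendsto_of_tendsto_of_le_of_le tendsto_const_nhds h1
    (fun k => approx_lower v k j) (fun k => approx_upper v k j)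

theorem approx_rational {n : ICone} (ξ : F.obj (op n)) (v : Orth n) (k : ℕ) :
    (P.mk ξ (approx v k)).IsRational := by
  refine rational_of_nat ξ (approx v k) (fun j => ⌊((k : ℝ) + 1) * v.1 j⌋₊ + 1)
    (fun j => Nat.succ_pos _) (1 / ((k : ℝ) + 1)) (by positivity) ?_
  funext j
  rfl

theorem all_le (U : Set (P F)) (hU : IsConvex U) {Γ : Type v} [LinearOrder Γ]
    (Φ : U → Γ) (hlsc : ∀ c : Γ, IsClosed {x : U | Φ x ≤ c}) (x : U)
    (hrat : ∀ y : U, (y : P F).IsRational → Φ y ≤ Φ x) (y : U) : Φ y ≤ Φ x := by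
  obtain ⟨S, hS⟩ := hU.2.1
  have hy : (y : P F) ∈ Set.range (P.map S.ι) := hS ▸ y.2
  obtain ⟨z, hz⟩ := hy
  obtain ⟨⟨⟨n, ξ'⟩, v⟩, rfl⟩ := Quot.exists_rep z
  have hcell : ∀ w : Orth n, P.mk (S.ι.app (op n) ξ') w ∈ U := by
    intro w
    rw [hS]
    exact ⟨P.mk ξ' w, rfl⟩
  have hyv : (y : P F) = P.mk (S.ι.app (op n) ξ') v := hz.symm
  let g : Orth n → U := fun w => ⟨P.mk (S.ι.app (op n) ξ') w, hcell w⟩
  have hg : Continuous g := Continuous.subtype_mk (continuous_mk _) _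
  have hclosed : IsClosed (g ⁻¹' {x' : U | Φ x' ≤ Φ x}) := (hlsc (Φ x)).preimage hg
  have hmem : ∀ k, approx v k ∈ g ⁻¹' {x' : U | Φ x' ≤ Φ x} := by
    intro k
    exact hrat (g (approx v k)) (approx_rational _ v k)
  have hv : v ∈ g ⁻¹' {x' : U | Φ x' ≤ Φ x} :=
    hclosed.mem_of_tendsto (tendsto_approx v) (Eventually.of_forall hmem)
  have hgv : g v = y := Subtype.ext hyv.symm
  rw [← hgv]
  exact hv

theorem main (F : Fan.{u}) (U : Set (Fan.P F))
    (hU : Fan.IsConvex U) {Γ : Type v} [LinearOrder Γ] (Φ : U → Γ) (hΦ : Fan.IsQuasiConcaveOn U Φ)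
    (hlsc : ∀ c : Γ, IsClosed {x : U | Φ x ≤ c}) :
    (∀ x : U, (x : Fan.P F).IsRational → IsLocalMax Φ x → ∀ y : U, Φ y ≤ Φ x) ∧
    (Fan.IsStrictQuasiConcaveOn U Φ → ∀ x y : U, (x : Fan.P F).IsRational → (y : Fan.P F).IsRational →
      IsLocalMax Φ x → IsLocalMax Φ y → x = y) := by
  refine ⟨fun x hx hloc y => all_le U hU Φ hlsc x (fun y hy => part1 U hU Φ hΦ x y hx hy hloc) y,
    fun hs x y hx hy hlx hly => part2 U hU Φ hΦ hs x y hx hy hlx hly⟩

end FanCvx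

end Groth.Agent.S19370.Aux

namespace Groth.Agent.S19370

/-- Let F be a formal fan, U ⊆ P F a convex subset, Γ a totally ordered set and Φ : U → Γ a
quasi-concave function that is lower semicontinuous in the sense that every sublevel set {Φ ≤ c} is
closed in U. Then every rational point of U at which Φ has a local maximum is a global maximum of Φ,
and if Φ is strictly quasi-concave there is at most one such rational point. -/
theorem result (F : Fan.{u}) (U : Set (Fan.P F))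
    (hU : Fan.IsConvex U) {Γ : Type v} [LinearOrder Γ] (Φ : U → Γ) (hΦ : Fan.IsQuasiConcaveOn U Φ)
    (hlsc : ∀ c : Γ, IsClosed {x : U | Φ x ≤ c}) :
    (∀ x : U, (x : Fan.P F).IsRational → IsLocalMax Φ x → ∀ y : U, Φ y ≤ Φ x) ∧
    (Fan.IsStrictQuasiConcaveOn U Φ → ∀ x y : U, (x : Fan.P F).IsRational → (y : Fan.P F).IsRational →
      IsLocalMax Φ x → IsLocalMax Φ y → x = y) := by
  exact Aux.FanCvx.main F U hU Φ hΦ hlsc

end Groth.Agent.S19370
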