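import Groth.Statements.S19367
import Mathlib
import Groth.Agent.Lib.Helper15FanB
import Groth.Agent.S19373
import Groth.Agent.S19370
-- import your own Groth.Agent.* helpers here

set_option autoImplicit false
universe u
open CategoryTheory Opposite Instab
open Instab Instab.Fan

namespace Groth.Agent.S19367.Aux

set_option autoImplicit false

namespace FanInjRat


open CategoryTheory Opposite Instab Instab.Fan Limits Groth.Agent.Lib.Helper15.FanCone
open Groth.Agent.S19370.Aux.FanCvx (approx tendsto_approx approx_rational)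

/-- nonzero nonnegative vectors are positively proportional iff all 2×2 minors vanish -/
theorem prop_iff {ι : Type*} (a b : ι → ℝ) (ha : ∀ i, 0 ≤ a i) (hb : ∀ i, 0 ≤ b i)
    (ha0 : a ≠ 0) (hb0 : b ≠ 0) :
    (∃ c : ℝ, 0 < c ∧ a = c • b) ↔ ∀ i j, a i * b j = a j * b i := by
  constructor
  · rintro ⟨c, _, rfl⟩ i j
    simp only [Pi.smul_apply, smul_eq_mul]; ring
  · intro h
    obtain ⟨j₀, hj₀⟩ : ∃ j, b j ≠ 0 := by
      by_contra hall; push Not at hall; exact hb0 (funext hall)
    have hbj : 0 < b j₀ := lt_of_le_of_ne (hb j₀) (Ne.symm hj₀)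
    have heq : ∀ i, a i = (a j₀ / b j₀) * b i := by
      intro i
      have := h i j₀
      field_simp
      linarith
    have hc0 : a j₀ / b j₀ ≠ 0 := by
      intro h0
      apply ha0
      funext i
      rw [heq i, h0, zero_mul]; rfl
    have hc : 0 < a j₀ / b j₀ := lt_of_le_of_ne (div_nonneg (ha j₀) hbj.le) (Ne.symm hc0)
    exact ⟨_, hc, funext heq⟩

theorem continuous_realMap_val {m k : ICone} (φ : m ⟶ k) (i : Fin k.dim) :
    Continuous (fun t : Orth m => φ.realMap t.1 i) :=
  (continuous_apply i).comp ((isClosedEmbedding_realMap φ).continuous.comp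
    (inducing_val m).continuous)

theorem isClosed_prop {m k : ICone} (φ φ' : m ⟶ k) :
    IsClosed {v : Orth k | ∃ (y : Orth m) (c c' : ℝ), 0 < c ∧ 0 < c' ∧
      v.1 = c • φ.realMap y.1 ∧ v.1 = c' • φ'.realMap y.1} := by
  have hE : IsClosed {t : Orth m | ∀ i j, φ.realMap t.1 i * φ'.realMap t.1 j
      = φ.realMap t.1 j * φ'.realMap t.1 i} := by
    have : {t : Orth m | ∀ i j, φ.realMap t.1 i * φ'.realMap t.1 j
      = φ.realMap t.1 j * φ'.realMap t.1 i} = ⋂ i, ⋂ j, {t : Orth m | φ.realMap t.1 i * φ'.realMap t.1 j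
      = φ.realMap t.1 j * φ'.realMap t.1 i} := by
      ext t; simp
    rw [this]
    refine isClosed_iInter (fun i => isClosed_iInter (fun j => ?_))
    exact isClosed_eq ((continuous_realMap_val φ i).mul (continuous_realMap_val φ' j))
      ((continuous_realMap_val φ j).mul (continuous_realMap_val φ' i))
  have hsat : ∀ y w : Orth m, y ∈ {t : Orth m | ∀ i j, φ.realMap t.1 i * φ'.realMap t.1 j
      = φ.realMap t.1 j * φ'.realMap t.1 i} → ∀ c : ℝ, 0 < c → w.1 = c • y.1 →
      w ∈ {t : Orth m | ∀ i j, φ.realMap t.1 i * φ'.realMap t.1 j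
      = φ.realMap t.1 j * φ'.realMap t.1 i} := by
    intro y w hy c _ hw i j
    rw [hw, realMap_smul, realMap_smul]
    simp only [Pi.smul_apply, smul_eq_mul]
    have := hy i j
    calc c * φ.realMap y.1 i * (c * φ'.realMap y.1 j)
        = c * c * (φ.realMap y.1 i * φ'.realMap y.1 j) := by ring
      _ = c * c * (φ.realMap y.1 j * φ'.realMap y.1 i) := by rw [this]
      _ = _ := by ring
  have := isClosed_cone_image φ _ hE hsat
  convert this using 1
  ext v
  simp only [Set.mem_setOf_eq]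
  constructor
  · rintro ⟨y, c, c', hc, hc', h1, h2⟩
    refine ⟨y, c, hc, h1, ?_⟩
    have : ∃ d : ℝ, 0 < d ∧ φ.realMap y.1 = d • φ'.realMap y.1 := by
      refine ⟨c' / c, div_pos hc' hc, ?_⟩
      have h3 : c • φ.realMap y.1 = c' • φ'.realMap y.1 := by rw [← h1, ← h2]
      have h4 : φ.realMap y.1 = (1 / c) • (c • φ.realMap y.1) := by
        rw [smul_smul]; field_simp; rw [one_smul]
      rw [h4, h3, smul_smul]
      congr 1
      field_simp
    exact (prop_iff _ _ (realMap_nonneg φ y.1 y.2.1) (realMap_nonneg φ' y.1 y.2.1)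
      (pushOrth φ y).2.2 (pushOrth φ' y).2.2).mp this
  · rintro ⟨y, c, hc, h1, hy⟩
    obtain ⟨d, hd, hd'⟩ := (prop_iff _ _ (realMap_nonneg φ y.1 y.2.1)
      (realMap_nonneg φ' y.1 y.2.1) (pushOrth φ y).2.2 (pushOrth φ' y).2.2).mpr hy
    refine ⟨y, c, c * d, hc, mul_pos hc hd, h1, ?_⟩
    rw [h1, hd', smul_smul]

theorem main {F G : Fan.{u}} (ψ : F ⟶ G)
    (hF : F.IsQuasiSeparated) :
    Function.Injective (Fan.P.map ψ) ↔
      ∀ x y : Fan.P F, x.IsRational → y.IsRational → Fan.P.map ψ x = Fan.P.map ψ y → x = y := by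
  constructor
  · intro h x y _ _ hxy
    exact h hxy
  · intro hrat x x' hxx
    obtain ⟨n, ξ, v, rfl⟩ := mk_surjective x
    obtain ⟨n', ξ', v', rfl⟩ := mk_surjective x'
    rw [map_mk, map_mk] at hxx
    obtain ⟨k, φ₁, φ₂, y₀, c₁, c₂, h, hc₁, hc₂, h₁, h₂⟩ := exists_common_subcone _ _ _ _ hxx
    have e1 : G.map φ₁.op (ψ.app _ ξ) = ψ.app _ (F.map φ₁.op ξ) :=
      (NatTrans.naturality_apply ψ φ₁.op ξ).symm
    have e2 : G.map φ₂.op (ψ.app _ ξ') = ψ.app _ (F.map φ₂.op ξ') :=
      (NatTrans.naturality_apply ψ φ₂.op ξ').symm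
    rw [e1, e2] at h
    rw [← mk_glue φ₁ ξ y₀ v c₁ hc₁ h₁, ← mk_glue φ₂ ξ' y₀ v' c₂ hc₂ h₂]
    set τ := F.map φ₁.op ξ
    set τ' := F.map φ₂.op ξ'
    obtain ⟨s, -, hs⟩ := Groth.Agent.S19373.result F hF τ τ'
    have hcl : IsClosed {y : Orth k | P.mk τ y = P.mk τ' y} := by
      have : {y : Orth k | P.mk τ y = P.mk τ' y} = ⋃ e ∈ s,
          {v : Orth k | ∃ (y : Orth e.1) (c c' : ℝ), 0 < c ∧ 0 < c' ∧
            v.1 = c • e.2.1.realMap y.1 ∧ v.1 = c' • e.2.2.realMap y.1} := by
        ext y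
        simp only [Set.mem_setOf_eq, Set.mem_iUnion]
        rw [hs y y]
        constructor
        · rintro ⟨e, he, h⟩; exact ⟨e, he, h⟩
        · rintro ⟨e, he, h⟩; exact ⟨e, he, h⟩
      rw [this]
      apply Set.Finite.isClosed_biUnion s.finite_toSet
      intro e _
      exact isClosed_prop e.2.1 e.2.2
    have hmem : ∀ j, approx y₀ j ∈ {y : Orth k | P.mk τ y = P.mk τ' y} := by
      intro j
      apply hrat _ _ (approx_rational τ y₀ j) (approx_rational τ' y₀ j)
      rw [map_mk, map_mk, h]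
    exact hcl.mem_of_tendsto (tendsto_approx y₀) (Filter.Eventually.of_forall hmem)

end FanInjRat

end Groth.Agent.S19367.Aux

namespace Groth.Agent.S19367

/-- Let ψ : F ⟶ G be a map of formal fans with F quasi-separated. Then injectivity of the induced map P
F → P G is equivalent to its injectivity on the rational points of P F. -/
theorem result {F G : Fan.{u}} (ψ : F ⟶ G)
    (hF : F.IsQuasiSeparated) :
    Function.Injective (Fan.P.map ψ) ↔
      ∀ x y : Fan.P F, x.IsRational → y.IsRational → Fan.P.map ψ x = Fan.P.map ψ y → x = y := by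
  exact Aux.FanInjRat.main ψ hF

end Groth.Agent.S19367
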