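import Groth.Statements.S19369
import Mathlib
import Groth.Agent.Lib.Helper15FanB
import Groth.Agent.S19366
import Groth.Agent.S19367
-- import your own Groth.Agent.* helpers here

set_option autoImplicit false
universe u
open CategoryTheory Opposite Instab
open Instab Instab.Fan

namespace Groth.Agent.S19369.Aux

set_option autoImplicit false

namespace FanSeq


open CategoryTheory Opposite Instab Instab.Fan Limits Groth.Agent.Lib.Helper15.FanCone
open Filter Topology
open Groth.Agent.S19367.Aux.FanInjRat (prop_iff)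

variable {F : Fan.{u}}

theorem continuous_coord {n : ICone} (i : Fin n.dim) : Continuous (fun w : Orth n => w.1 i) :=
  (continuous_apply i).comp (inducing_val n).continuous

theorem ray_closed {n : ICone} (v : Orth n) :
    IsClosed {w : Orth n | ∃ c : ℝ, 0 < c ∧ w.1 = c • v.1} := by
  have : {w : Orth n | ∃ c : ℝ, 0 < c ∧ w.1 = c • v.1}
      = ⋂ i, ⋂ j, {w : Orth n | w.1 i * v.1 j = w.1 j * v.1 i} := by
    ext w
    simp only [Set.mem_setOf_eq, Set.mem_iInter]
    exact prop_iff w.1 v.1 w.2.1 v.2.1 w.2.2 v.2.2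
  rw [this]
  refine isClosed_iInter (fun i => isClosed_iInter (fun j => ?_))
  exact isClosed_eq ((continuous_coord i).mul continuous_const)
    ((continuous_coord j).mul continuous_const)

theorem isClosed_singleton' (hF : F.IsQuasiSeparated) (p : P F) : IsClosed ({p} : Set (P F)) := by
  obtain ⟨n, ξ, v, rfl⟩ := mk_surjective p
  have h1 := (Groth.Agent.S19366.result F hF).1 n ξ _ (ray_closed v) (by
    rintro a b ⟨c, hc, ha⟩ d hd hb
    exact ⟨d * c, mul_pos hd hc, by rw [hb, ha, smul_smul]⟩)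
  convert h1 using 1
  ext q
  simp only [Set.mem_singleton_iff, Set.mem_image, Set.mem_setOf_eq]
  constructor
  · rintro rfl
    exact ⟨v, ⟨1, one_pos, by rw [one_smul]⟩, rfl⟩
  · rintro ⟨w, ⟨c, hc, hw⟩, rfl⟩
    exact (mk_smul ξ v w c hc hw).symm

theorem t1 (hF : F.IsQuasiSeparated) : T1Space (P F) := ⟨isClosed_singleton' hF⟩

theorem isClosed_cell (hF : F.IsQuasiSeparated) {n : ICone} (ξ : F.obj (op n)) :
    IsClosed (P.cell ξ) := by
  have := (Groth.Agent.S19366.result F hF).1 n ξ Set.univ isClosed_univ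
    (fun _ _ _ _ _ _ => Set.mem_univ _)
  rwa [Set.image_univ] at this

/-- Step A: some cell contains infinitely many terms. -/
theorem exists_cell_infinite (hF : F.IsQuasiSeparated) (x : ℕ → P F) (x₀ : P F)
    (hx : Tendsto x atTop (𝓝 x₀)) :
    ∃ (n : ICone) (ξ : F.obj (op n)), {i | x i ∈ P.cell ξ}.Infinite := by
  haveI := t1 hF
  by_contra hcon
  push Not at hcon
  have hfin : ∀ (n : ICone) (ξ : F.obj (op n)), {i | x i ∈ P.cell ξ}.Finite := by
    intro n ξ
    exact hcon n ξ
  by_cases hT : {i | x i ≠ x₀}.Finite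
  · obtain ⟨n₀, σ₀, v₀, rfl⟩ := mk_surjective x₀
    apply (hfin n₀ σ₀).not_infinite
    have : {i | x i ≠ P.mk σ₀ v₀}ᶜ ⊆ {i | x i ∈ P.cell σ₀} := by
      intro i hi
      simp only [Set.mem_compl_iff, Set.mem_setOf_eq, not_not] at hi
      show x i ∈ P.cell σ₀
      rw [hi]
      exact ⟨v₀, rfl⟩
    exact (hT.infinite_compl).mono this
  · have hTinf : {i | x i ≠ x₀}.Infinite := hT
    let A : Set (P F) := x '' {i | x i ≠ x₀}
    have hA : IsClosed A := by
      rw [(Groth.Agent.S19366.result F hF).2]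
      intro n ξ
      apply Set.Finite.isClosed
      apply Set.Finite.subset ((hfin n ξ).image x)
      rintro p ⟨⟨i, _, rfl⟩, hp⟩
      exact ⟨i, hp, rfl⟩
    have hx₀ : x₀ ∉ A := by
      rintro ⟨i, hi, hix⟩
      exact hi hix
    have hev : ∀ᶠ i in atTop, x i ∈ Aᶜ := hx.eventually (hA.isOpen_compl.mem_nhds hx₀)
    obtain ⟨N, hN⟩ := eventually_atTop.mp hev
    obtain ⟨i, hi, hiN⟩ := hTinf.exists_gt N
    exact hN i hiN.le ⟨i, hi, rfl⟩

/-- sum of coordinates is positive -/
theorem sum_pos {n : ICone} (w : Orth n) : 0 < ∑ i, w.1 i := by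
  obtain ⟨i, hi⟩ : ∃ i, w.1 i ≠ 0 := by
    by_contra hall; push Not at hall; exact w.2.2 (funext hall)
  have h1 : 0 < w.1 i := lt_of_le_of_ne (w.2.1 i) (Ne.symm hi)
  have h2 : w.1 i ≤ ∑ i, w.1 i :=
    Finset.single_le_sum (fun j _ => w.2.1 j) (Finset.mem_univ i)
  linarith

/-- normalisation to the standard simplex -/
noncomputable def nu {n : ICone} (w : Orth n) : Orth n :=
  ⟨(∑ i, w.1 i)⁻¹ • w.1, fun i => mul_nonneg (inv_nonneg.mpr (sum_pos w).le) (w.2.1 i), fun h => by
    apply w.2.2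
    have h1 : w.1 = (∑ i, w.1 i) • ((∑ i, w.1 i)⁻¹ • w.1) := by
      rw [smul_smul, mul_inv_cancel₀ (sum_pos w).ne', one_smul]
    rw [h1, h, smul_zero]⟩

theorem nu_val {n : ICone} (w : Orth n) : (nu w).1 = (∑ i, w.1 i)⁻¹ • w.1 := rfl

theorem continuous_nu {n : ICone} : Continuous (nu : Orth n → Orth n) := by
  rw [(inducing_val n).continuous_iff]
  show Continuous fun w : Orth n => (∑ i, w.1 i)⁻¹ • w.1
  have h1 : Continuous fun w : Orth n => ∑ i, w.1 i :=
    continuous_finset_sum _ (fun i _ => continuous_coord i)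
  exact (h1.inv₀ (fun w => (sum_pos w).ne')).smul (inducing_val n).continuous

theorem mk_nu {n : ICone} (ξ : F.obj (op n)) (w : Orth n) : P.mk ξ (nu w) = P.mk ξ w :=
  (mk_smul ξ w (nu w) _ (inv_pos.mpr (sum_pos w)) rfl).symm

theorem nu_smul {n : ICone} (w w' : Orth n) (c : ℝ) (hc : 0 < c) (h : w'.1 = c • w.1) :
    nu w' = nu w := by
  apply Subtype.ext
  rw [nu_val, nu_val, h]
  have : ∑ i, (c • w.1) i = c * ∑ i, w.1 i := by
    simp only [Pi.smul_apply, smul_eq_mul, Finset.mul_sum]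
  rw [this, smul_smul]
  congr 1
  have := (sum_pos w).ne'
  field_simp

/-- the standard simplex inside the orthant -/
def simplex (n : ICone) : Set (Orth n) := {w | ∑ i, w.1 i = 1}

theorem nu_mem {n : ICone} (w : Orth n) : nu w ∈ simplex n := by
  show ∑ i, (nu w).1 i = 1
  rw [nu_val]
  simp only [Pi.smul_apply, smul_eq_mul, ← Finset.mul_sum]
  exact inv_mul_cancel₀ (sum_pos w).ne'

theorem isCompact_simplex (n : ICone) : IsCompact (simplex n) := by
  rw [(inducing_val n).isCompact_iff]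
  have : (fun w : Orth n => w.1) '' simplex n = stdSimplex ℝ (Fin n.dim) := by
    ext v
    constructor
    · rintro ⟨w, hw, rfl⟩
      exact ⟨w.2.1, hw⟩
    · rintro ⟨h1, h2⟩
      have hv0 : v ≠ 0 := by
        rintro rfl
        simp at h2
      exact ⟨⟨v, h1, hv0⟩, h2, rfl⟩
  rw [this]
  exact isCompact_stdSimplex ℝ (Fin n.dim)

theorem t2_orth (n : ICone) : T2Space (Orth n) :=
  (embedding_val n).t2Space

theorem main (F : Fan.{u}) (hF : F.IsQuasiSeparated)
    (x : ℕ → Fan.P F) (x₀ : Fan.P F) (hx : Filter.Tendsto x Filter.atTop (nhds x₀)) :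
    ∃ (n : ICone) (σ : F.obj (op n)) (r : ℕ → ℕ) (v : ℕ → Fan.Orth n) (v₀ : Fan.Orth n),
      StrictMono r ∧ (∀ j, Fan.P.mk σ (v j) = x (r j)) ∧ Fan.P.mk σ v₀ = x₀ ∧
        Filter.Tendsto v Filter.atTop (nhds v₀) := by
  haveI := t1 hF
  obtain ⟨n, ξ, hinf⟩ := exists_cell_infinite hF x x₀ hx
  haveI := t2_orth n
  haveI : FirstCountableTopology (Orth n) := (inducing_val n).firstCountableTopology
  obtain ⟨r₀, hr₀, hr₀mem⟩ :=
    extraction_of_frequently_atTop (Nat.frequently_atTop_iff_infinite.mpr hinf)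
  choose u hu using hr₀mem
  obtain ⟨vs, -, r₁, hr₁, hlim⟩ :=
    (isCompact_simplex n).tendsto_subseq (x := fun j => nu (u j)) (fun j => nu_mem (u j))
  let r := r₀ ∘ r₁
  let v : ℕ → Orth n := fun j => nu (u (r₁ j))
  have hr : StrictMono r := hr₀.comp hr₁
  have hv : ∀ j, P.mk ξ (v j) = x (r j) := fun j => by
    show P.mk ξ (nu (u (r₁ j))) = x (r₀ (r₁ j))
    rw [mk_nu, hu]
  have hxr : Tendsto (x ∘ r) atTop (𝓝 x₀) := hx.comp hr.tendsto_atTop
  refine ⟨n, ξ, r, v, vs, hr, hv, ?_, hlim⟩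
  -- key claim
  by_contra hne
  -- for each J, x₀ is in the closed set Q_J
  have hJ : ∀ J : ℕ, ∃ j, J ≤ j ∧ P.mk ξ (v j) = x₀ := by
    intro J
    have hlimJ : Tendsto (fun j => v (j + J)) atTop (𝓝 vs) :=
      hlim.comp (tendsto_add_atTop_nat J)
    have hK : IsCompact (insert vs (Set.range fun j => v (j + J))) := hlimJ.isCompact_insert_range
    have hS : IsClosed (nu ⁻¹' (insert vs (Set.range fun j => v (j + J)))) :=
      hK.isClosed.preimage continuous_nu
    have hQ := (Groth.Agent.S19366.result F hF).1 n ξ _ hS (by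
      intro a b ha c hc hb
      show nu b ∈ insert vs (Set.range fun j => v (j + J))
      rw [nu_smul a b c hc hb]
      exact ha)
    have hmem : ∀ j, (x ∘ r) (j + J) ∈ P.mk ξ '' (nu ⁻¹' (insert vs (Set.range fun j => v (j + J)))) := by
      intro j
      refine ⟨v (j + J), ?_, hv (j + J)⟩
      show nu (v (j + J)) ∈ insert vs (Set.range fun j => v (j + J))
      have : nu (v (j + J)) = v (j + J) := by
        show nu (nu (u (r₁ (j + J)))) = nu (u (r₁ (j + J)))
        exact nu_smul _ _ _ (inv_pos.mpr (sum_pos _)) rfl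
      rw [this]
      exact Set.mem_insert_of_mem _ ⟨j, rfl⟩
    have hx₀ : x₀ ∈ P.mk ξ '' (nu ⁻¹' (insert vs (Set.range fun j => v (j + J)))) :=
      hQ.mem_of_tendsto (hxr.comp (tendsto_add_atTop_nat J)) (Eventually.of_forall hmem)
    obtain ⟨w, hw, hwx⟩ := hx₀
    rcases hw with hw | ⟨j, hj⟩
    · exfalso
      apply hne
      rw [← hwx, ← mk_nu ξ w]
      have : nu w = vs := hw
      rw [this]
    · refine ⟨j + J, Nat.le_add_left _ _, ?_⟩
      have hj' : v (j + J) = nu w := hj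
      rw [hj', mk_nu, hwx]
  have hfreq : ∃ᶠ j in atTop, P.mk ξ (v j) = x₀ := by
    rw [frequently_atTop]
    intro J
    obtain ⟨j, hj1, hj2⟩ := hJ J
    exact ⟨j, hj1, hj2⟩
  obtain ⟨r₂, hr₂, hr₂mem⟩ := extraction_of_frequently_atTop hfreq
  have hL : IsClosed {w : Orth n | P.mk ξ w = x₀} :=
    (isClosed_singleton' hF x₀).preimage (continuous_mk ξ)
  have : vs ∈ {w : Orth n | P.mk ξ w = x₀} :=
    hL.mem_of_tendsto (hlim.comp hr₂.tendsto_atTop) (Eventually.of_forall hr₂mem)
  exact hne this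

end FanSeq

end Groth.Agent.S19369.Aux

namespace Groth.Agent.S19369

/-- Let F be a quasi-separated formal fan and let (x i) be a sequence in P F converging to a point x.
Then there are an n-cone σ of F and a subsequence of (x i) whose terms lift to nonzero nonnegative
vectors of ℝ^n, mapping to them under the rational simplex of σ, such that the lifts converge to a
vector that lifts x. -/
theorem result (F : Fan.{u}) (hF : F.IsQuasiSeparated)
    (x : ℕ → Fan.P F) (x₀ : Fan.P F) (hx : Filter.Tendsto x Filter.atTop (nhds x₀)) :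
    ∃ (n : ICone) (σ : F.obj (op n)) (r : ℕ → ℕ) (v : ℕ → Fan.Orth n) (v₀ : Fan.Orth n),
      StrictMono r ∧ (∀ j, Fan.P.mk σ (v j) = x (r j)) ∧ Fan.P.mk σ v₀ = x₀ ∧
        Filter.Tendsto v Filter.atTop (nhds v₀) := by
  exact Aux.FanSeq.main F hF x x₀ hx

end Groth.Agent.S19369
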