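import Groth.Statements.S19602
import Groth.Agent.Lib.Helper25CoactAlg
import Groth.Agent.Lib.Helper25Points
import Groth.Agent.Lib.Helper25Coeff

set_option autoImplicit false
universe u
open GIT

namespace Groth.Agent.S19602

/-- Let k be an algebraically closed field, G = Spec A a linearly reductive affine algebraic group over
k, and U = Spec R an affine k-scheme of finite type on which G acts. Two k-points x₁, x₂ of U have
the same image in U//G = Spec R^G if and only if the closures of their orbits have a common k-point.
Stated in coaction form. The published statement allows any affine U and asks only that the two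
orbit closures meet; this row assumes U of finite type over k and asks for a common k-point, which
is then equivalent. -/
theorem result (k : Type u) [Field k] [IsAlgClosed k]
    (A : Type u) [CommRing A] [HopfAlgebra k A] [Algebra.FiniteType k A] (hG : HopfRep.IsLinearlyReductive k A)
    (R : Type u) [CommRing R] [Algebra k R] [Algebra.FiniteType k R] [HopfRep.Comod k A R] [GLin.IsCoactAlg k A R]
    (x₁ x₂ : R →ₐ[k] k) :
    x₁.comp (GLin.invariants k A R).val = x₂.comp (GLin.invariants k A R).val ↔
      ∃ z : R →ₐ[k] k, GLin.InOrbitClosure k A x₁ z ∧ GLin.InOrbitClosure k A x₂ z := by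
  open Groth.Agent.Lib.Helper25 in
  have horb : ∀ (x : R →ₐ[k] k) (f : R), GLin.orbitHom k A x f = coeffMap (A := A) x.toLinearMap f := by
    intro x f
    change (Algebra.TensorProduct.lid k A) ((Algebra.TensorProduct.map x (AlgHom.id k A))
      (HopfRep.Comod.coact (k := k) (A := A) f)) = lslice x.toLinearMap _
    generalize HopfRep.Comod.coact (k := k) (A := A) f = y
    induction y using TensorProduct.induction_on with
    | zero => simp
    | add a b ha hb => simp only [map_add, ha, hb]
    | tmul r a => simp
  have hinv : ∀ (x : R →ₐ[k] k) (f : R), f ∈ GLin.invariants k A R →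
      GLin.orbitHom k A x f = algebraMap k A (x f) := by
    intro x f hf
    have hf' : HopfRep.Comod.coact (k := k) (A := A) f = f ⊗ₜ[k] (1 : A) := hf
    rw [horb, coeffMap_apply, hf', lslice_tmul,
      Algebra.algebraMap_eq_smul_one]
    rfl
  have hker : ∀ (x : R →ₐ[k] k), HopfRep.IsSubcomod (k := k) (A := A)
      ((RingHom.ker (GLin.orbitHom k A x)).restrictScalars k) := by
    intro x
    have h1 := isSubcomod_ker (isComodHom_coeffMap (A := A) x.toLinearMap)
    convert h1 using 1
    ext f
    simp only [Submodule.restrictScalars_mem, RingHom.mem_ker, LinearMap.mem_ker, horb]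
  have hx0 : ∀ (x : R →ₐ[k] k) (f : R), f ∈ RingHom.ker (GLin.orbitHom k A x) → x f = 0 := by
    intro x f hf
    rw [RingHom.mem_ker, horb] at hf
    have := counit_coeffMap (A := A) x.toLinearMap f
    rw [hf, map_zero] at this
    exact this.symm
  constructor
  · intro h
    have hss : HopfRep.IsSemisimpleComod k A R := isSemisimpleComod_of_isLinearlyReductive hG R
    obtain ⟨E, hE, hEE, hEx⟩ := exists_reynolds hss
    have hEfix : ∀ x, E x ∈ HopfRep.fixedPts k A R :=
      fun x => (hEx _).mp (LinearMap.congr_fun hEE x)
    have hQ : RingHom.ker (GLin.orbitHom k A x₁) ⊔ RingHom.ker (GLin.orbitHom k A x₂) ≠ ⊤ := by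
      intro htop
      have h1 : (1 : R) ∈ RingHom.ker (GLin.orbitHom k A x₁) ⊔ RingHom.ker (GLin.orbitHom k A x₂) := by
        rw [htop]; exact Submodule.mem_top
      obtain ⟨a, ha, b, hb, hab⟩ := Submodule.mem_sup.mp h1
      have hEa : E a ∈ RingHom.ker (GLin.orbitHom k A x₁) :=
        reynolds_mem_of_isSubcomod hss hE hEE hEx (hker x₁) ha
      have hEb : E b ∈ RingHom.ker (GLin.orbitHom k A x₂) :=
        reynolds_mem_of_isSubcomod hss hE hEE hEx (hker x₂) hb
      have hE1 : E 1 = 1 := (hEx 1).mpr (GLin.invariants k A R).one_mem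
      have hsum : E a + E b = 1 := by rw [← map_add, hab, hE1]
      have h2 : x₁ (E b) = x₂ (E b) := by
        have := AlgHom.congr_fun h ⟨E b, hEfix b⟩
        exact this
      have h3 := congrArg x₁ hsum
      rw [map_add, hx0 x₁ _ hEa, h2, hx0 x₂ _ hEb, add_zero, map_one] at h3
      exact zero_ne_one h3
    obtain ⟨z, hz⟩ := exists_point_vanishing_on (k := k) _ hQ
    refine ⟨z, fun f hf => ?_, fun f hf => ?_⟩
    · exact hz f (Ideal.mem_sup_left hf)
    · exact hz f (Ideal.mem_sup_right hf)
  · rintro ⟨z, hz1, hz2⟩
    apply AlgHom.ext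
    rintro ⟨f, hf⟩
    change x₁ f = x₂ f
    have key : ∀ x : R →ₐ[k] k, GLin.InOrbitClosure k A x z → z f = x f := by
      intro x hxz
      have h1 : f - algebraMap k R (x f) ∈ RingHom.ker (GLin.orbitHom k A x) := by
        rw [RingHom.mem_ker, map_sub, hinv x f hf, AlgHom.commutes, sub_self]
      have h2 := hxz h1
      rw [RingHom.mem_ker, map_sub, AlgHom.commutes, sub_eq_zero] at h2
      exact h2
    rw [← key x₁ hz1, ← key x₂ hz2]

end Groth.Agent.S19602
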