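import Groth.Statements.S17972
-- import your own Groth.Agent.* helpers here
import Groth.Agent.Lib.Helper3HenselA
import Mathlib

set_option autoImplicit false
universe u
open Hensel

namespace Groth.Agent.S17972

section Helpers
open IsLocalRing

theorem etale_of_quotient_localization {R : Type u} [CommRing R] {n : ℕ}
    (v : Fin n → MvPolynomial (Fin n) R)
    {T : Type u} [CommRing T] [Algebra R T]
    [Algebra (MvPolynomial (Fin n) R ⧸ Ideal.span (Set.range v)) T]
    [IsScalarTower R (MvPolynomial (Fin n) R ⧸ Ideal.span (Set.range v)) T]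
    (x : MvPolynomial (Fin n) R ⧸ Ideal.span (Set.range v)) [IsLocalization.Away x T]
    (hΔ : IsUnit (algebraMap (MvPolynomial (Fin n) R ⧸ Ideal.span (Set.range v)) T
      (Ideal.Quotient.mk _ (Matrix.det (Matrix.of fun j k : Fin n =>
        MvPolynomial.pderiv k (v j)))))) :
    Algebra.Etale R T := by
  classical
  let Q : Algebra.PreSubmersivePresentation R
      (MvPolynomial (Fin n) R ⧸ Ideal.span (Set.range v)) (Fin n) (Fin n) :=
    Algebra.PreSubmersivePresentation.naive (v := v) id Function.injective_id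
  have hQ : Q.jacobian = Ideal.Quotient.mk _ (Matrix.det (Matrix.of fun j k : Fin n =>
        MvPolynomial.pderiv k (v j))) := by
    rw [Algebra.PreSubmersivePresentation.jacobian_eq_jacobiMatrix_det]
    rw [← Matrix.det_transpose]
    have : Q.jacobiMatrix.transpose = (Matrix.of fun j k : Fin n =>
        MvPolynomial.pderiv k (v j)) := by
      ext i j
      simp [Q, Algebra.PreSubmersivePresentation.jacobiMatrix_naive]
    rw [this]
    rfl
  let P : Algebra.SubmersivePresentation R T _ _ :=
    { toPreSubmersivePresentation := .comp (.localizationAway T x) Q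
      jacobian_isUnit := by
        rw [Algebra.PreSubmersivePresentation.comp_jacobian_eq_jacobian_smul_jacobian,
          Algebra.smul_def, IsUnit.mul_iff]
        refine ⟨hQ ▸ hΔ, ?_⟩
        rw [Algebra.PreSubmersivePresentation.localizationAway_jacobian]
        exact IsLocalization.Away.algebraMap_isUnit x }
  have hdim : P.dimension = 0 := by
    change Nat.card _ - Nat.card _ = 0
    simp
  have := P.isStandardSmoothOfRelativeDimension hdim
  exact Algebra.Etale.iff_isStandardSmoothOfRelativeDimension_zero.mpr this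

theorem aux
    (A : Type u) [CommRing A] [HenselianLocalRing A] (n : ℕ)
    (P : Fin n → MvPolynomial (Fin n) A) (a₀ : Fin n → A)
    (h₀ : ∀ i, MvPolynomial.eval a₀ (P i) ∈ IsLocalRing.maximalIdeal A)
    (hJ : IsUnit (Matrix.of (fun i j => MvPolynomial.eval a₀ (MvPolynomial.pderiv j (P i)))).det) :
    ∃ a : Fin n → A, (∀ i, MvPolynomial.eval a (P i) = 0) ∧
      ∀ j, a j - a₀ j ∈ IsLocalRing.maximalIdeal A := by
  classical
  let κ := ResidueField A
  let Q := MvPolynomial (Fin n) A ⧸ Ideal.span (Set.range P)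
  let Δ : MvPolynomial (Fin n) A := Matrix.det (Matrix.of fun j k : Fin n =>
    MvPolynomial.pderiv k (P j))
  let x : Q := Ideal.Quotient.mk _ Δ
  let T := Localization.Away x
  -- evaluation at a₀ modulo m
  let ev₀ : MvPolynomial (Fin n) A →ₐ[A] κ := MvPolynomial.aeval (fun j => residue A (a₀ j))
  have hev₀ : ∀ p, ev₀ p = residue A (MvPolynomial.eval a₀ p) := by
    intro p
    have : ev₀ = (IsScalarTower.toAlgHom A A κ).comp (MvPolynomial.aeval a₀) := by
      apply MvPolynomial.algHom_ext
      intro j
      simp [ev₀]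
      rfl
    rw [this, AlgHom.comp_apply, MvPolynomial.aeval_eq_eval]
    rfl
  have hker : ∀ p ∈ Ideal.span (Set.range P), ev₀ p = 0 := by
    intro p hp
    have : Ideal.span (Set.range P) ≤ RingHom.ker ev₀.toRingHom := by
      rw [Ideal.span_le]
      rintro _ ⟨i, rfl⟩
      change ev₀ (P i) = 0
      rw [hev₀, residue_eq_zero_iff]
      exact h₀ i
    exact this hp
  let ev₁ : Q →ₐ[A] κ := Ideal.Quotient.liftₐ _ ev₀ hker
  have hev₁ : ∀ p, ev₁ (Ideal.Quotient.mk _ p) = ev₀ p := fun p => rfl
  have hxu : IsUnit (ev₁ x) := by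
    rw [hev₁, hev₀]
    apply IsUnit.map
    have : MvPolynomial.eval a₀ Δ = (Matrix.of (fun i j =>
        MvPolynomial.eval a₀ (MvPolynomial.pderiv j (P i)))).det := by
      simp only [Δ]
      rw [RingHom.map_det]
      rfl
    rw [this]; exact hJ
  let ev₂ : T →ₐ[A] κ := IsLocalization.Away.liftAlgHom x hxu
  have hev₂ : ∀ y : Q, ev₂ (algebraMap Q T y) = ev₁ y := fun y =>
    IsLocalization.Away.lift_eq x hxu y
  let q : Ideal T := RingHom.ker ev₂.toRingHom
  haveI : q.IsPrime := RingHom.ker_isPrime _
  let τ : q.ResidueField →ₐ[A] κ := Ideal.ResidueField.liftₐ q ev₂ le_rfl (by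
    intro t ht
    change IsUnit (ev₂ t)
    exact IsUnit.mk0 _ ht)
  haveI : Algebra.Etale A T := etale_of_quotient_localization P x (by
    exact IsLocalization.Away.algebraMap_isUnit x)
  obtain ⟨f, hf, -⟩ := Groth.Agent.Lib.Helper3.Hensel.existsUnique_algHom_of_etale
    (R := A) (S := A) (A := T) q τ
  have hfres : ∀ t : T, residue A (f t) = ev₂ t := by
    intro t
    rw [hf t]
    exact Ideal.ResidueField.liftₐ_algebraMap _ _ _ _ _
  let a : Fin n → A := fun j => f (algebraMap Q T (Ideal.Quotient.mk _ (MvPolynomial.X j)))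
  have heval : ∀ p : MvPolynomial (Fin n) A,
      MvPolynomial.eval a p = f (algebraMap Q T (Ideal.Quotient.mk _ p)) := by
    intro p
    have : (MvPolynomial.aeval a : MvPolynomial (Fin n) A →ₐ[A] A) =
        (f.comp (IsScalarTower.toAlgHom A Q T)).comp (Ideal.Quotient.mkₐ A _) := by
      apply MvPolynomial.algHom_ext
      intro j
      simp [a]
      rfl
    rw [← MvPolynomial.aeval_eq_eval, this]
    rfl
  refine ⟨a, fun i => ?_, fun j => ?_⟩
  · rw [heval]
    have : Ideal.Quotient.mk (Ideal.span (Set.range P)) (P i) = 0 :=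
      Ideal.Quotient.eq_zero_iff_mem.mpr (Ideal.subset_span ⟨i, rfl⟩)
    rw [this, map_zero, map_zero]
  · rw [← residue_eq_zero_iff, map_sub, sub_eq_zero]
    change residue A (f _) = _
    rw [hfres, hev₂, hev₁]
    simp [ev₀]

end Helpers

/-- Let A be a henselian local ring with maximal ideal m, let P_1, …, P_n be polynomials over A in n
variables and a₀ ∈ A^n a point with P_i(a₀) ∈ m for all i whose Jacobian determinant
det(∂P_i/∂T_j)(a₀) is a unit of A, i.e. nonzero in the residue field. Then there is a ∈ A^n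
congruent to a₀ modulo m in each coordinate with P_i(a) = 0 for all i. -/
theorem result
    (A : Type u) [CommRing A] [HenselianLocalRing A] (n : ℕ)
    (P : Fin n → MvPolynomial (Fin n) A) (a₀ : Fin n → A)
    (h₀ : ∀ i, MvPolynomial.eval a₀ (P i) ∈ IsLocalRing.maximalIdeal A)
    (hJ : IsUnit (Matrix.of (fun i j => MvPolynomial.eval a₀ (MvPolynomial.pderiv j (P i)))).det) :
    ∃ a : Fin n → A, (∀ i, MvPolynomial.eval a (P i) = 0) ∧
      ∀ j, a j - a₀ j ∈ IsLocalRing.maximalIdeal A := by
  exact aux A n P a₀ h₀ hJ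

end Groth.Agent.S17972
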