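import Groth.Statements.S14280
import Mathlib

set_option autoImplicit false
universe u
open SpSeq

namespace Groth.Agent.S14280

/-- Let E^{p,q} (p, q ≥ 0) be finite-dimensional complex vector spaces each carrying an endomorphism Φ,
and suppose that for a natural number N and functions a, c ≥ 0 (real) and b, d (natural numbers) one
has E^{p,q} = 0 for q > N, |μ| ≤ a(q)c(p) for every eigenvalue μ of Φ on E^{p,q}, and dim E^{p,q} ≤
b(q)d(p). If Σ_p c(p)d(p) converges then the family of traces tr(Φ | E^{p,q}) is absolutely summable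
over all pairs (p, q). (The published statement takes a and b defined on {0, …, N} only; here they
are functions on all natural numbers, which changes nothing since E^{p,q} = 0 for q > N.) -/
theorem result
    (E : ℕ → ℕ → Type u) [∀ p q, AddCommGroup (E p q)] [∀ p q, Module ℂ (E p q)]
    [∀ p q, FiniteDimensional ℂ (E p q)] (Φ : ∀ p q, E p q →ₗ[ℂ] E p q)
    (N : ℕ) (a c : ℕ → ℝ) (b d : ℕ → ℕ) (ha : ∀ q, 0 ≤ a q) (hc : ∀ p, 0 ≤ c p)
    (h1 : ∀ p q, N < q → Subsingleton (E p q))
    (h2 : ∀ p q (μ : ℂ), Module.End.HasEigenvalue (Φ p q) μ → ‖μ‖ ≤ a q * c p)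
    (h3 : ∀ p q, Module.finrank ℂ (E p q) ≤ b q * d p)
    (hsum : Summable fun p : ℕ => c p * (d p : ℝ)) :
    Summable fun pq : ℕ × ℕ => ‖LinearMap.trace ℂ (E pq.1 pq.2) (Φ pq.1 pq.2)‖ := by
  classical
  have hbound : ∀ p q, ‖LinearMap.trace ℂ (E p q) (Φ p q)‖ ≤
      (c p * (d p : ℝ)) * (if q ≤ N then a q * (b q : ℝ) else 0) := by
    intro p q
    by_cases hq : q ≤ N
    · rw [if_pos hq]
      have hsplit : (Φ p q).charpoly.Splits := IsAlgClosed.splits _
      rw [Module.End.trace_eq_sum_roots_charpoly_of_splits hsplit]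
      have h4 : ∀ μ ∈ (Φ p q).charpoly.roots, ‖μ‖ ≤ a q * c p := by
        intro μ hμ
        apply h2 p q μ
        rw [Module.End.hasEigenvalue_iff_isRoot_charpoly]
        exact Polynomial.isRoot_of_mem_roots hμ
      have h5 : ‖(Φ p q).charpoly.roots.sum‖ ≤ ((Φ p q).charpoly.roots.map (fun μ => ‖μ‖)).sum :=
        norm_multiset_sum_le _
      have h6 : ((Φ p q).charpoly.roots.map (fun μ => ‖μ‖)).sum ≤
          Multiset.card ((Φ p q).charpoly.roots.map (fun μ => ‖μ‖)) • (a q * c p) := by
        refine Multiset.sum_le_card_nsmul _ _ ?_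
        intro x hx
        obtain ⟨μ, hμ, rfl⟩ := Multiset.mem_map.mp hx
        exact h4 μ hμ
      have h7 : Multiset.card (Φ p q).charpoly.roots = Module.finrank ℂ (E p q) := by
        rw [← hsplit.natDegree_eq_card_roots, LinearMap.charpoly_natDegree]
      rw [Multiset.card_map, h7, nsmul_eq_mul] at h6
      have h8 : (Module.finrank ℂ (E p q) : ℝ) ≤ (b q : ℝ) * (d p : ℝ) := by
        exact_mod_cast h3 p q
      calc ‖(Φ p q).charpoly.roots.sum‖ ≤ (Module.finrank ℂ (E p q) : ℝ) * (a q * c p) := h5.trans h6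
        _ ≤ ((b q : ℝ) * (d p : ℝ)) * (a q * c p) :=
          mul_le_mul_of_nonneg_right h8 (mul_nonneg (ha q) (hc p))
        _ = c p * (d p : ℝ) * (a q * (b q : ℝ)) := by ring
    · rw [if_neg hq, mul_zero]
      haveI := h1 p q (by omega)
      have h0 : Φ p q = 0 := LinearMap.ext fun x => Subsingleton.elim _ _
      rw [h0, map_zero, norm_zero]
  have hF : Summable (fun q : ℕ => if q ≤ N then a q * (b q : ℝ) else 0) := by
    apply summable_of_ne_finset_zero (s := Finset.range (N+1))
    intro q hq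
    rw [if_neg]
    intro hle
    exact hq (Finset.mem_range.mpr (by omega))
  have hprod := Summable.mul_of_nonneg hsum hF
    (fun p => mul_nonneg (hc p) (Nat.cast_nonneg _))
    (fun q => by
      show 0 ≤ (if q ≤ N then a q * (b q : ℝ) else 0)
      split_ifs
      · exact mul_nonneg (ha q) (Nat.cast_nonneg _)
      · exact le_refl _)
  exact Summable.of_nonneg_of_le (fun _ => norm_nonneg _) (fun pq => hbound pq.1 pq.2) hprod

end Groth.Agent.S14280
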