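import Groth.Statements.S16225
import Mathlib

set_option autoImplicit false
open scoped TensorProduct
universe u v
open CAlg

namespace Groth.Agent.S16225

/-- Let p be a prime, n a natural number and R → R' a faithfully flat homomorphism of commutative rings
in which p is nilpotent. Regard W_n(R') and W_n(R' ⊗_R R') as W_n(R)-algebras through the
componentwise maps induced by R → R' and R → R' ⊗_R R', and let ψ₁, ψ₂ : W_n(R') → W_n(R' ⊗_R R') be
the componentwise maps induced by the two inclusions of R' (these are W_n(R)-algebra maps). Then for
every flat W_n(R)-module M the sequence 0 → M → M ⊗_{W_n(R)} W_n(R') ⇉ M ⊗_{W_n(R)} W_n(R' ⊗_R R')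
is exact: m ↦ m ⊗ 1 is injective and its image is the equalizer of id ⊗ ψ₁ and id ⊗ ψ₂. (This is the
beginning, in degrees 0 and 1, of a complex continued by the higher tensor powers of R', which the
published proof asserts to be exact throughout; W_n(R) → W_n(R') is not flat in general, so this is
not faithfully flat descent.) -/
theorem result (p : ℕ) [Fact p.Prime] (n : ℕ)
    (R R' : Type u) [CommRing R] [CommRing R'] [Algebra R R'] [Module.FaithfullyFlat R R']
    (hp : IsNilpotent (p : R))
    [Algebra (TruncatedWittVector p n R) (TruncatedWittVector p n R')]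
    (h₁ : algebraMap (TruncatedWittVector p n R) (TruncatedWittVector p n R') = WittGrp.truncMap p n (algebraMap R R'))
    [Algebra (TruncatedWittVector p n R) (TruncatedWittVector p n (TensorProduct R R' R'))]
    (h₂ : algebraMap (TruncatedWittVector p n R) (TruncatedWittVector p n (TensorProduct R R' R')) =
      WittGrp.truncMap p n (algebraMap R (TensorProduct R R' R')))
    (ψ₁ ψ₂ : TruncatedWittVector p n R' →ₐ[TruncatedWittVector p n R] TruncatedWittVector p n (TensorProduct R R' R'))
    (hψ₁ : (ψ₁ : TruncatedWittVector p n R' →+* TruncatedWittVector p n (TensorProduct R R' R')) =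
      WittGrp.truncMap p n (Algebra.TensorProduct.includeLeftRingHom : R' →+* TensorProduct R R' R'))
    (hψ₂ : (ψ₂ : TruncatedWittVector p n R' →+* TruncatedWittVector p n (TensorProduct R R' R')) =
      WittGrp.truncMap p n ((Algebra.TensorProduct.includeRight : R' →ₐ[R] TensorProduct R R' R') : R' →+* TensorProduct R R' R'))
    (M : Type v) [AddCommGroup M] [Module (TruncatedWittVector p n R) M] [Module.Flat (TruncatedWittVector p n R) M] :
    Function.Injective (fun m : M => m ⊗ₜ[TruncatedWittVector p n R] (1 : TruncatedWittVector p n R')) ∧
      ∀ x : M ⊗[TruncatedWittVector p n R] TruncatedWittVector p n R',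
        LinearMap.lTensor M ψ₁.toLinearMap x = LinearMap.lTensor M ψ₂.toLinearMap x →
          x ∈ Set.range (fun m : M => m ⊗ₜ[TruncatedWittVector p n R] (1 : TruncatedWittVector p n R')) := by
  classical
  have _hp := hp
  have hinjR : Function.Injective (algebraMap R R') := FaithfulSMul.algebraMap_injective R R'
  -- the two linear maps
  let a : TruncatedWittVector p n R →ₗ[TruncatedWittVector p n R] TruncatedWittVector p n R' :=
    Algebra.linearMap _ _
  let b : TruncatedWittVector p n R' →ₗ[TruncatedWittVector p n R]
      TruncatedWittVector p n (TensorProduct R R' R') := ψ₁.toLinearMap - ψ₂.toLinearMap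
  have ha_apply : ∀ w, a w = WittGrp.truncMap p n (algebraMap R R') w := by
    intro w
    change algebraMap _ _ w = _
    rw [h₁]
  have hψ₁' : ∀ y, ψ₁ y = WittGrp.truncMap p n
      (Algebra.TensorProduct.includeLeftRingHom : R' →+* TensorProduct R R' R') y := by
    intro y
    have := congrArg (fun g : TruncatedWittVector p n R' →+*
      TruncatedWittVector p n (TensorProduct R R' R') => g y) hψ₁
    simpa using this
  have hψ₂' : ∀ y, ψ₂ y = WittGrp.truncMap p n
      ((Algebra.TensorProduct.includeRight : R' →ₐ[R] TensorProduct R R' R') :
        R' →+* TensorProduct R R' R') y := by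
    intro y
    have := congrArg (fun g : TruncatedWittVector p n R' →+*
      TruncatedWittVector p n (TensorProduct R R' R') => g y) hψ₂
    simpa using this
  have ha : Function.Injective a := by
    intro w w' hww
    rw [ha_apply, ha_apply] at hww
    refine TruncatedWittVector.ext fun i => hinjR ?_
    have := congrArg (fun z => TruncatedWittVector.coeff i z) hww
    simpa [WittGrp.coeff_truncMap] using this
  have heff := Algebra.IsEffective.of_faithfullyFlat R R'
  have hab : Function.Exact a b := by
    intro y
    constructor
    · intro hy
      have hy' : ψ₁ y = ψ₂ y := by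
        have : ψ₁ y - ψ₂ y = 0 := hy
        exact sub_eq_zero.mp this
      rw [hψ₁', hψ₂'] at hy'
      have hc : ∀ i : Fin n, ∃ r : R, algebraMap R R' r = y.coeff i := by
        intro i
        have h3 := congrArg (fun z => TruncatedWittVector.coeff i z) hy'
        simp only [WittGrp.coeff_truncMap] at h3
        have h4 : Algebra.TensorProduct.includeLeftSubRight R R' (y.coeff i) = 0 := by
          rw [Algebra.TensorProduct.includeLeftSubRight_apply, sub_eq_zero]
          exact h3
        obtain ⟨r, hr⟩ := (heff (y.coeff i)).mp h4
        exact ⟨r, hr⟩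
      choose z hz using hc
      refine ⟨TruncatedWittVector.mk p z, ?_⟩
      rw [ha_apply]
      refine TruncatedWittVector.ext fun i => ?_
      rw [WittGrp.coeff_truncMap, TruncatedWittVector.coeff_mk, hz]
    · rintro ⟨w, rfl⟩
      change ψ₁ (algebraMap _ _ w) - ψ₂ (algebraMap _ _ w) = 0
      rw [ψ₁.commutes, ψ₂.commutes, sub_self]
  have hinj : Function.Injective (a.lTensor M) :=
    Module.Flat.lTensor_preserves_injective_linearMap a ha
  have hex : Function.Exact (a.lTensor M) (b.lTensor M) := Module.Flat.lTensor_exact M hab
  have hfun : ∀ m : M, (a.lTensor M) ((TensorProduct.rid (TruncatedWittVector p n R) M).symm m)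
      = m ⊗ₜ[TruncatedWittVector p n R] (1 : TruncatedWittVector p n R') := by
    intro m
    simp [a]
  constructor
  · intro m m' hmm
    simp only at hmm
    rw [← hfun, ← hfun] at hmm
    exact (TensorProduct.rid (TruncatedWittVector p n R) M).symm.injective (hinj hmm)
  · intro x hx
    have hbx : (b.lTensor M) x = 0 := by
      simp only [b, LinearMap.lTensor_sub, LinearMap.sub_apply]
      rw [hx, sub_self]
    obtain ⟨y, rfl⟩ := (hex x).mp hbx
    refine ⟨TensorProduct.rid (TruncatedWittVector p n R) M y, ?_⟩
    simp only
    rw [← hfun, LinearEquiv.symm_apply_apply]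

end Groth.Agent.S16225
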