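import Groth.Statements.S2969
import Groth.Agent.Lib.Helper25SepSplit
import Groth.Agent.Lib.Helper25MultQuot

set_option autoImplicit false
universe u
open TensorProduct SGA3b
open SGA3b

namespace Groth.Agent.S2969

/-- Let k be a field and H = Spec A a k-group of multiplicative type and of finite type. Then H is
isotrivial: there is a finite separable extension k' of k over which H becomes diagonalisable (of
finite type). (Affine group schemes over an affine base are taken in Hopf-algebra form; base change
is the tensor product.) -/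
theorem result (k : Type u) [Field k] (A : Type u) [CommRing A] [HopfAlgebra k A]
    (hft : Algebra.FiniteType k A) (h : IsMultType k A) :
    ∃ (k' : Type u) (_ : Field k') (_ : Algebra k k'), Module.Finite k k' ∧ Algebra.IsSeparable k k' ∧ IsDiagFT k' (k' ⊗[k] A) := by
  open Groth.Agent.Lib.Helper25 Groth.Agent.Lib.Helper25.BCB Groth.Agent.Lib.Helper25.HopfSub
    Groth.Agent.Lib.Helper25.SepSplit in
  classical
  have := hft
  -- primitives vanish and `A` is cocommutative
  have hNP := MRB.noPrimMod_of_isMultType k A h
  have hP : ∀ x : A, CoalgebraStruct.comul (R := k) x = x ⊗ₜ[k] (1 : A) + (1 : A) ⊗ₜ[k] x →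
      x = 0 := by
    intro x hx
    have h1 := hNP (⊥ : Ideal k) x (by
      rw [MRB.primDefect_apply, hx, Submodule.bot_smul, Submodule.mem_bot]
      abel)
    rw [Submodule.bot_smul, Submodule.mem_bot] at h1
    exact h1
  have hcc : Coalgebra.IsCocomm k A := by
    obtain ⟨K, _, _, hD⟩ := exists_field_isDiag k A (isMultTypeConst_of_isMultType k A h)
    have : Coalgebra.IsCocomm K (K ⊗[k] A) :=
      isCocomm_of_isDiagonalizable (isDiagonalizable_of_isDiag hD)
    exact isCocomm_of_baseChange k K A
  -- diagonalizable over the algebraic closure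
  have hD : HopfRep.IsDiagonalizable (AlgebraicClosure k) (AlgebraicClosure k ⊗[k] A) :=
    (Groth.Agent.S7979.result k A).mpr ⟨hcc, hP⟩
  -- hence over a finite separable extension
  obtain ⟨F, hF1, hF2, hFD⟩ := exists_separable_isDiagonalizable (K := AlgebraicClosure k) hD
  refine ⟨F, inferInstance, inferInstance, hF1, hF2, ?_⟩
  obtain ⟨M, _, ⟨e⟩⟩ := isDiag_of_isDiagonalizable (K := F) (H := F ⊗[k] A) hFD
  refine ⟨M, inferInstance, ?_, ⟨e⟩⟩
  have hft' : Algebra.FiniteType F (MonoidAlgebra F M) :=
    Algebra.FiniteType.equiv (inferInstance : Algebra.FiniteType F (F ⊗[k] A))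
      (e : (F ⊗[k] A) ≃ₐ[F] MonoidAlgebra F M)
  exact MonoidAlgebra.finiteType_iff_group_fg.mp hft'

end Groth.Agent.S2969
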