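import Groth.Statements.S2987
import Groth.Agent.Lib.Helper25EtaleLiftE

set_option autoImplicit false
universe u
open TensorProduct SGA3b
open SGA3b

namespace Groth.Agent.S2987

/-- Let R be a ring, I a nilpotent ideal, and H = Spec A an affine R-group with A flat over R. If the
base change of H to R/I is a quasi-isotrivial group of multiplicative type, then so is H. (Affine
group schemes over an affine base are taken in Hopf-algebra form; base change is the tensor
product.) -/
theorem result (R : Type u) [CommRing R] (A : Type u) [CommRing A] [HopfAlgebra R A] [Module.Flat R A] (I : Ideal R) (hI : IsNilpotent I)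
    (h0 : IsQuasiIsotrivial (R ⧸ I) ((R ⧸ I) ⊗[R] A)) : IsQuasiIsotrivial R A := by
  open Groth.Agent.Lib.Helper25 Groth.Agent.Lib.Helper25.BCB
    Groth.Agent.Lib.Helper25.EtaleLift in
  classical
  obtain ⟨sbar, hsbar, hloc⟩ := h0
  refine ⟨(Ideal.Quotient.mk I) ⁻¹' sbar, span_preimage_eq_top I hI sbar hsbar, ?_⟩
  intro f hf
  obtain ⟨Rb', _, _, het, hff, hD⟩ := hloc (Ideal.Quotient.mk I f) hf
  letI : Algebra (Localization.Away f) (Localization.Away (Ideal.Quotient.mk I f)) :=
    (awayQuot I f).toAlgebra
  haveI : IsScalarTower R (Localization.Away f) (Localization.Away (Ideal.Quotient.mk I f)) := by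
    apply IsScalarTower.of_algebraMap_eq
    intro r
    change _ = awayQuot I f (algebraMap R (Localization.Away f) r)
    rw [awayQuot_algebraMap,
      IsScalarTower.algebraMap_apply R (R ⧸ I) (Localization.Away (Ideal.Quotient.mk I f))]
    rfl
  letI : Algebra R Rb' :=
    ((algebraMap (Localization.Away (Ideal.Quotient.mk I f)) Rb').comp
      (algebraMap R (Localization.Away (Ideal.Quotient.mk I f)))).toAlgebra
  haveI : IsScalarTower R (Localization.Away (Ideal.Quotient.mk I f)) Rb' :=
    IsScalarTower.of_algebraMap_eq (fun _ => rfl)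
  letI : Algebra (R ⧸ I) Rb' :=
    ((algebraMap (Localization.Away (Ideal.Quotient.mk I f)) Rb').comp
      (algebraMap (R ⧸ I) (Localization.Away (Ideal.Quotient.mk I f)))).toAlgebra
  haveI : IsScalarTower (R ⧸ I) (Localization.Away (Ideal.Quotient.mk I f)) Rb' :=
    IsScalarTower.of_algebraMap_eq (fun _ => rfl)
  haveI : IsScalarTower R (R ⧸ I) Rb' := by
    apply IsScalarTower.of_algebraMap_eq
    intro r
    change algebraMap (Localization.Away (Ideal.Quotient.mk I f)) Rb'
        (algebraMap R (Localization.Away (Ideal.Quotient.mk I f)) r) =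
      algebraMap (Localization.Away (Ideal.Quotient.mk I f)) Rb'
        (algebraMap (R ⧸ I) (Localization.Away (Ideal.Quotient.mk I f)) (algebraMap R (R ⧸ I) r))
    rw [← IsScalarTower.algebraMap_apply R (R ⧸ I) (Localization.Away (Ideal.Quotient.mk I f))]
  have hD1 : IsDiag Rb' (Rb' ⊗[R ⧸ I] ((R ⧸ I) ⊗[R] A)) :=
    isDiag_of_equiv
      (cancelBC (R ⧸ I) (Localization.Away (Ideal.Quotient.mk I f)) Rb' ((R ⧸ I) ⊗[R] A)).symm hD
  have hD2 : IsDiag Rb' (Rb' ⊗[R] A) :=
    isDiag_of_equiv (cancelBC R (R ⧸ I) Rb' A).symm hD1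
  haveI := het
  haveI := hff
  obtain ⟨B'', _, _, h1, h2, h3⟩ := exists_etale_diag_lift R A (Localization.Away f)
    (Localization.Away (Ideal.Quotient.mk I f)) (awayQuot_surjective I f)
    (isNilpotent_ker_awayQuot I f hI) Rb' hD2
  exact ⟨B'', inferInstance, inferInstance, h1, h2, h3⟩

end Groth.Agent.S2987
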