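import Groth.Statements.S11268
import Mathlib
-- import your own Groth.Agent.* helpers here

set_option autoImplicit false
open W4bk4grassmannian

namespace Groth.Agent.S11268

open W4bk4grassmannian in
theorem le_val (d n : ℕ) (a : Idx d n) : ∀ (m : ℕ) (hm : m < d), m ≤ (a.1 ⟨m, hm⟩).val := by
  intro m
  induction m with
  | zero => intro _; exact Nat.zero_le _
  | succ m ih =>
    intro hm
    have h1 := ih (by omega)
    have h2 : a.1 ⟨m, by omega⟩ < a.1 ⟨m + 1, hm⟩ := a.2 (by simp [Fin.lt_def])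
    rw [Fin.lt_def] at h2
    omega

open W4bk4grassmannian in
/-- Let τ < w in I(d,n), the strictly increasing maps Fin d → Fin n ordered entrywise. Then there is a
Schubert divisor φ of w, i.e. φ < w with Σ_t (φ_t - t) + 1 = Σ_t (w_t - t), such that τ ≤ φ: every
proper Schubert subvariety of X(w) lies in a Schubert divisor of X(w). -/
theorem result (d n : ℕ) (τ w : Idx d n) (h : τ < w) :
    ∃ φ ∈ divisors w, τ ≤ φ := by
  classical
  obtain ⟨hle, hnle⟩ := lt_iff_le_not_ge.mp h
  have hle' : ∀ t, τ.1 t ≤ w.1 t := hle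
  have hex : ∃ t, τ.1 t < w.1 t := by
    by_contra hcon
    push Not at hcon
    exact hnle hcon
  have hne : (Finset.univ.filter (fun t => τ.1 t < w.1 t)).Nonempty := by
    obtain ⟨t, ht⟩ := hex
    exact ⟨t, by simp [ht]⟩
  set t₀ := (Finset.univ.filter (fun t => τ.1 t < w.1 t)).min' hne with ht₀
  have ht₀lt : τ.1 t₀ < w.1 t₀ := by
    have := Finset.min'_mem _ hne
    simpa using this
  have hmin : ∀ s, s < t₀ → τ.1 s = w.1 s := by
    intro s hs
    by_contra hns
    have hlt : τ.1 s < w.1 s := lt_of_le_of_ne (hle' s) hns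
    have : t₀ ≤ s := Finset.min'_le _ s (by simp [hlt])
    exact absurd hs (not_lt.mpr this)
  have hpos : 0 < (w.1 t₀).val := by
    have := Fin.lt_def.mp ht₀lt
    omega
  let φf : Fin d → Fin n := fun t => if t = t₀ then ⟨(w.1 t₀).val - 1, by omega⟩ else w.1 t
  have hφt₀ : (φf t₀).val = (w.1 t₀).val - 1 := by simp [φf]
  have hφne : ∀ t, t ≠ t₀ → φf t = w.1 t := by
    intro t ht
    simp [φf, ht]
  have hφmono : StrictMono φf := by
    intro s t hst
    by_cases hs : s = t₀
    · have ht : t ≠ t₀ := by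
        rintro rfl
        rw [hs] at hst
        exact lt_irrefl _ hst
      rw [hφne t ht, Fin.lt_def, hs, hφt₀]
      have := Fin.lt_def.mp (w.2 (hs ▸ hst))
      omega
    · by_cases ht : t = t₀
      · rw [hφne s hs, Fin.lt_def, ht, hφt₀, ← hmin s (ht ▸ hst)]
        have h1 := Fin.lt_def.mp (τ.2 (ht ▸ hst))
        have h2 := Fin.lt_def.mp ht₀lt
        omega
      · rw [hφne s hs, hφne t ht]
        exact w.2 hst
  refine ⟨⟨φf, hφmono⟩, ⟨?_, ?_⟩, ?_⟩
  · -- φ < w
    rw [lt_iff_le_not_ge]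
    constructor
    · intro t
      change φf t ≤ w.1 t
      by_cases ht : t = t₀
      · rw [ht, Fin.le_def, hφt₀]
        omega
      · rw [hφne t ht]
    · intro hcon
      have := hcon t₀
      change w.1 t₀ ≤ φf t₀ at this
      rw [Fin.le_def, hφt₀] at this
      omega
  · -- codeg
    have hge := le_val d n τ t₀.val t₀.2
    have h2 := Fin.lt_def.mp ht₀lt
    unfold codeg
    rw [← Finset.add_sum_erase Finset.univ _ (Finset.mem_univ t₀),
      ← Finset.add_sum_erase Finset.univ (fun t => (w.1 t).val - t.val) (Finset.mem_univ t₀)]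
    have herase : ∑ x ∈ Finset.univ.erase t₀, ((φf x).val - x.val) =
        ∑ x ∈ Finset.univ.erase t₀, ((w.1 x).val - x.val) := by
      refine Finset.sum_congr rfl (fun x hx => ?_)
      rw [hφne x (Finset.ne_of_mem_erase hx)]
    change ((φf t₀).val - t₀.val) + ∑ x ∈ Finset.univ.erase t₀, ((φf x).val - x.val) + 1 = _
    rw [herase, hφt₀]
    have : (τ.1 ⟨t₀.val, t₀.2⟩).val = (τ.1 t₀).val := rfl
    omega
  · -- τ ≤ φ
    intro t
    change τ.1 t ≤ φf t
    by_cases ht : t = t₀
    · rw [ht, Fin.le_def, hφt₀]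
      have h2 := Fin.lt_def.mp ht₀lt
      omega
    · rw [hφne t ht]
      exact hle' t

end Groth.Agent.S11268
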