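import Groth.Statements.S11254
import Groth.Agent.Lib.Helper25GrassSMT
import Groth.Agent.S11268

set_option autoImplicit false
universe u
open W4bk4grassmannian

namespace Groth.Agent.S11254

open W4bk4grassmannian in
/-- Let K be an algebraically closed field, 0 < d < n, and I(d,n) the strictly increasing maps Fin d →
Fin n ordered entrywise; S = K[X_θ : θ ∈ I(d,n)] is the Plücker polynomial ring and, for τ ∈ I(d,n),
J(τ) ⊆ S is the ideal of polynomials vanishing at the d × d row-minors of every n × d matrix over K
whose minors on rows φ ≰ τ are zero (the homogeneous ideal of the Schubert variety X(τ) ⊆ G(d,n)).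
Let τ ∈ I(d,n) admit some φ < τ (X(τ) has positive dimension). Then J(τ) + (X_τ) = ⋂_φ J(φ), the
intersection over the Schubert divisors φ of τ, i.e. the φ < τ with Σ_t (φ_t - t) + 1 = Σ_t (τ_t -
t). (For the zero-dimensional Schubert variety there is no divisor and the left side is the
irrelevant ideal, so positive dimension is required at the level of ideals.) -/
theorem result (K : Type u) [Field K] [IsAlgClosed K]
    (d n : ℕ) (hd : 0 < d) (hdn : d < n) (τ : Idx d n) (hτ : ∃ φ : Idx d n, φ < τ) :
    schubertVanishing K d n τ ⊔ Ideal.span {MvPolynomial.X τ} =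
      ⨅ φ ∈ divisors τ, schubertVanishing K d n φ := by
  classical
  obtain ⟨φ₀, hφ₀⟩ := hτ
  obtain ⟨δ₀, hδ₀, _⟩ := Groth.Agent.S11268.result d n φ₀ τ hφ₀
  apply le_antisymm
  · apply sup_le
    · exact le_iInf₂ fun φ hφ =>
        Groth.Agent.Lib.Helper25.Grass.schubert_antitone K (le_of_lt hφ.1)
    · rw [Ideal.span_le]
      intro f hf
      rw [Set.mem_singleton_iff] at hf
      subst hf
      rw [SetLike.mem_coe, Ideal.mem_iInf]
      intro φ
      rw [Ideal.mem_iInf]
      intro hφ
      exact Groth.Agent.Lib.Helper25.Grass.X_mem_schubert K φ τ (not_le_of_gt hφ.1)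
  · intro F hF
    obtain ⟨s, a, hs, hFs⟩ := Groth.Agent.Lib.Helper25.Grass.straighten K (plIdeal K τ)
      (Groth.Agent.Lib.Helper25.Grass.plIdealTop_le_plIdeal K τ)
      (fun c => ∀ k, c.2.1 k ≤ τ) (by
        intro c hc
        push Not at hc
        obtain ⟨k, hk⟩ := hc
        apply Groth.Agent.Lib.Helper25.Grass.chainMon_mem_of_mem K _ c.2.1 k
        exact Ideal.subset_span (Or.inr ⟨c.2.1 k, hk, rfl⟩)) F
    have hFsJ : F - ∑ c ∈ s, a c • chainMon K c.2.1 ∈ schubertVanishing K d n τ :=
      Groth.Agent.Lib.Helper25.Grass.plIdeal_le_schubert K τ hFs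
    have hG : ∀ φ ∈ divisors τ, ∑ c ∈ s, a c • chainMon K c.2.1 ∈ schubertVanishing K d n φ := by
      intro φ hφ
      have h1 : F ∈ schubertVanishing K d n φ := by
        rw [Ideal.mem_iInf] at hF
        have := hF φ
        rw [Ideal.mem_iInf] at this
        exact this hφ
      have h2 : F - ∑ c ∈ s, a c • chainMon K c.2.1 ∈ schubertVanishing K d n φ :=
        Groth.Agent.Lib.Helper25.Grass.schubert_antitone K (le_of_lt hφ.1) hFsJ
      have := (schubertVanishing K d n φ).sub_mem h1 h2
      rwa [sub_sub_cancel] at this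
    have hz : ∀ φ ∈ divisors τ, ∀ c ∈ s, (∀ k, c.2.1 k ≤ φ) → a c = 0 := fun φ hφ =>
      Groth.Agent.Lib.Helper25.Grass.core_indep' K hd φ s a (hG φ hφ)
    have hGspan : ∑ c ∈ s, a c • chainMon K c.2.1 ∈ Ideal.span {(MvPolynomial.X τ : PlRing K d n)} := by
      refine Ideal.sum_mem _ (fun c hc => ?_)
      by_cases hac : a c = 0
      · rw [hac, zero_smul]; exact Ideal.zero_mem _
      · refine Submodule.smul_of_tower_mem _ _ ?_
        have hcτ := hs c hc
        rcases c with ⟨m, c, hanti⟩
        cases m with
        | zero =>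
          exfalso
          exact hac (hz δ₀ hδ₀ _ hc (fun k => k.elim0))
        | succ m =>
          have h0 : c 0 ≤ τ := hcτ 0
          have heq : c 0 = τ := by
            by_contra hne
            have hlt : c 0 < τ := lt_of_le_of_ne h0 hne
            obtain ⟨δ, hδ, hle⟩ := Groth.Agent.S11268.result d n (c 0) τ hlt
            exact hac (hz δ hδ _ hc (fun k => le_trans (hanti (Fin.zero_le k)) hle))
          rw [Ideal.mem_span_singleton]
          show MvPolynomial.X τ ∣ chainMon K c
          rw [← heq]
          unfold chainMon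
          exact Finset.dvd_prod_of_mem (fun k => (MvPolynomial.X (c k) : PlRing K d n)) (Finset.mem_univ 0)
    have : F = (F - ∑ c ∈ s, a c • chainMon K c.2.1) + ∑ c ∈ s, a c • chainMon K c.2.1 := by ring
    rw [this]
    exact Ideal.add_mem _ (Ideal.mem_sup_left hFsJ) (Ideal.mem_sup_right hGspan)

end Groth.Agent.S11254
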