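import Groth.Statements.S17526
import Groth.Agent.Lib.Helper25CoactAlg

set_option autoImplicit false
universe u
open GLin

namespace Groth.Agent.S17526

/-- Let `k` be a field, `H` a commutative Hopf algebra of finite type over `k` which is linearly
reductive (every finite-dimensional comodule is semisimple; `G = Spec H` is a linearly reductive
affine group), and `A` a Noetherian commutative `k`-algebra with a coaction of `H` that is an
algebra map (an action of `G` on `Spec A`). Then the ring of invariants `A^G` is Noetherian. (The
published corollary is stated over an algebraically closed field; it is the affine case of a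
statement about good moduli spaces valid over any field, and is stated here over any field.) -/
theorem result
    (k : Type u) [Field k] (H : Type u) [CommRing H] [HopfAlgebra k H] [Algebra.FiniteType k H]
    (hG : HopfRep.IsLinearlyReductive k H)
    (A : Type u) [CommRing A] [Algebra k A] [IsNoetherianRing A]
    [HopfRep.Comod k H A] [GLin.IsCoactAlg k H A] :
    IsNoetherianRing ↥(GLin.invariants k H A) := by
  open Groth.Agent.Lib.Helper25 in
  classical
  have hss := isSemisimpleComod_of_isLinearlyReductive hG A
  obtain ⟨E, hE, hEE, hEx⟩ := exists_reynolds hss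
  have hEfix : ∀ x, E x ∈ GLin.invariants k H A := fun x => (hEx _).mp (LinearMap.congr_fun hEE x)
  rw [isNoetherianRing_iff_ideal_fg]
  intro J
  set S : Set A := (Subtype.val '' (J : Set (GLin.invariants k H A))) with hS
  have hfg : (Submodule.span A S).FG := IsNoetherian.noetherian _
  obtain ⟨t, htS, hspan⟩ := (Submodule.fg_span_iff_fg_span_finset_subset S).mp hfg
  have htinv : ∀ g ∈ t, g ∈ GLin.invariants k H A := by
    intro g hg
    obtain ⟨g', -, rfl⟩ := htS hg
    exact g'.2
  have htJ : ∀ g (hg : g ∈ t), (⟨g, htinv g hg⟩ : GLin.invariants k H A) ∈ J := by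
    intro g hg
    obtain ⟨g', hg', hgg⟩ := htS hg
    have : g' = ⟨g, htinv g hg⟩ := Subtype.ext hgg
    rw [← this]
    exact hg'
  refine ⟨t.attach.image (fun g => (⟨g.1, htinv g.1 g.2⟩ : GLin.invariants k H A)), ?_⟩
  apply le_antisymm
  · apply Ideal.span_le.mpr
    intro f hf
    simp only [Finset.coe_image, Set.mem_image, Finset.mem_coe, Finset.mem_attach, true_and] at hf
    obtain ⟨g, rfl⟩ := hf
    exact htJ g.1 g.2
  · intro f hf
    have hfS : (f : A) ∈ Submodule.span A S := Submodule.subset_span ⟨f, hf, rfl⟩
    rw [hspan] at hfS
    obtain ⟨c, -, hc⟩ := Submodule.mem_span_finset.mp hfS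
    have h1 : E (f : A) = f := (hEx _).mpr f.2
    have h2 : (f : A) = ∑ g ∈ t, E (c g) * g := by
      conv_lhs => rw [← h1, ← hc, map_sum]
      apply Finset.sum_congr rfl
      intro g hg
      rw [smul_eq_mul, mul_comm, reynolds_mul_of_mem_fixedPts hss hE hEE hEx (htinv g hg), mul_comm]
    have h3 : f = ∑ g ∈ t.attach, (⟨E (c g.1), hEfix _⟩ : GLin.invariants k H A) *
        (⟨g.1, htinv g.1 g.2⟩ : GLin.invariants k H A) := by
      apply Subtype.ext
      rw [h2, AddSubmonoidClass.coe_finsetSum, ← Finset.sum_attach]
      rfl
    rw [h3]
    apply Ideal.sum_mem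
    intro g _
    apply Ideal.mul_mem_left
    apply Ideal.subset_span
    simp only [Finset.coe_image, Set.mem_image, Finset.mem_coe, Finset.mem_attach, true_and]
    exact ⟨g, rfl⟩

end Groth.Agent.S17526
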