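import Groth.Statements.S2974
import Groth.Agent.Lib.Helper25HensDiagI
import Groth.Agent.Lib.Helper25HensLocal

set_option autoImplicit false
universe u
open TensorProduct SGA3b
open SGA3b

namespace Groth.Agent.S2974

/-- Let R be a henselian local ring and H = Spec A an R-group of multiplicative type and of finite type.
Then H is isotrivial: split by a finite etale faithfully flat R-algebra. (Affine group schemes over
an affine base are taken in Hopf-algebra form; base change is the tensor product.) -/
theorem result (R : Type u) [CommRing R] (A : Type u) [CommRing A] [HopfAlgebra R A] [HenselianLocalRing R] (hft : Algebra.FiniteType R A) (h : IsMultType R A) :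
    IsIsotrivial R A := by
  open Groth.Agent.Lib.Helper25 in
  classical
  haveI : Algebra.FiniteType R A := hft
  have hmt' : IsMultType (R ⧸ IsLocalRing.maximalIdeal R)
      ((R ⧸ IsLocalRing.maximalIdeal R) ⊗[R] A) :=
    EtNil.isMultType_baseChange R A (R ⧸ IsLocalRing.maximalIdeal R) h
  have hft' : Algebra.FiniteType (R ⧸ IsLocalRing.maximalIdeal R)
      ((R ⧸ IsLocalRing.maximalIdeal R) ⊗[R] A) := inferInstance
  letI inst' : HopfAlgebra (IsLocalRing.ResidueField R)
      ((R ⧸ IsLocalRing.maximalIdeal R) ⊗[R] A) :=
    (inferInstance : HopfAlgebra (R ⧸ IsLocalRing.maximalIdeal R)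
      ((R ⧸ IsLocalRing.maximalIdeal R) ⊗[R] A))
  have h0 : IsIsotrivial (IsLocalRing.ResidueField R)
      ((R ⧸ IsLocalRing.maximalIdeal R) ⊗[R] A) :=
    HensFEt.isIsotrivial_of_field (IsLocalRing.ResidueField R) _ hft' hmt'
  exact HensDiag.isIsotrivial_of_hens (IsLocalRing.maximalIdeal R) A hft h h0

end Groth.Agent.S2974
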