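import Groth.Statements.S4848
import Groth.Agent.Lib.Helper3FlatDescE
import Mathlib

set_option autoImplicit false
universe u
open TensorProduct
open EGA43

namespace Groth.Agent.S4848

open Groth.Agent.Lib.Helper3.FlatOpen Groth.Agent.Lib.Helper3.FlatDesc

attribute [local instance] MvPolynomial.algebraMvPolynomial

/-- Let A₀ be a commutative ring, (A_i) a directed system of A₀-algebras with colimit A, B₀ a finitely
presented A₀-algebra and M₀ a finitely presented B₀-module. Then the A-module A ⊗_{A₀} M₀ is flat if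
and only if, for some index i, the A_i-module A_i ⊗_{A₀} M₀ is flat. -/
theorem result {A₀ : Type u} [CommRing A₀]
    {ι : Type u} [Preorder ι] (G : ι → Type u) [∀ i, CommRing (G i)] [∀ i, Algebra A₀ (G i)]
    (g : ∀ i j, i ≤ j → G i →ₐ[A₀] G j)
    (A : Type u) [CommRing A] [Algebra A₀ A] [∀ i, Algebra (G i) A] [∀ i, IsScalarTower A₀ (G i) A]
    (hcolim : FlatCA.IsDirectedColimitRing G (fun i j h => (g i j h).toRingHom) A)
    {B₀ : Type u} [CommRing B₀] [Algebra A₀ B₀] [Algebra.FinitePresentation A₀ B₀]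
    (M₀ : Type u) [AddCommGroup M₀] [Module B₀ M₀] [Module A₀ M₀] [IsScalarTower A₀ B₀ M₀]
    [Module.FinitePresentation B₀ M₀] :
    Module.Flat A (A ⊗[A₀] M₀) ↔ ∃ i : ι, Module.Flat (G i) (G i ⊗[A₀] M₀) := by
  obtain ⟨hdir, hne, hid, hcomp, hcompat, hsurj, hinj⟩ := hcolim
  constructor
  · intro hflat
    obtain ⟨n, k, m, Λ, hΛ, w, hT⟩ := exists_model_tensor A₀ B₀ M₀
    haveI : Algebra.FiniteType ℤ Λ := (Subalgebra.fg_iff_finiteType Λ).mp hΛ
    haveI : IsNoetherianRing Λ := Algebra.FiniteType.isNoetherianRing ℤ Λ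
    obtain ⟨eA⟩ := hT A
    have hflat' : Module.Flat A ((Fin k → MvPolynomial (Fin n) A) ⧸
        KT w (MvPolynomial (Fin n) A)) := Module.Flat.of_linearEquiv eA.symm
    obtain ⟨A'', hA''fg, -, hA''flat⟩ := exists_fg_subalgebra_flat_global w hflat' ∅
    haveI : Algebra.FiniteType Λ A'' := (Subalgebra.fg_iff_finiteType A'').mp hA''fg
    haveI : Algebra.FinitePresentation Λ A'' :=
      Algebra.FinitePresentation.of_finiteType.mp inferInstance
    haveI := hdir
    obtain ⟨i, ψ, -⟩ := exists_algHom_stage G (fun i j h => (g i j h).restrictScalars Λ) A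
      (fun i j k hij hjk x => RingHom.congr_fun (hcomp i j k hij hjk) x)
      (fun i j h x => RingHom.congr_fun (hcompat i j h) x) hsurj hinj A'' A''.val
    refine ⟨i, ?_⟩
    obtain ⟨eG⟩ := hT (G i)
    have := flat_model_of_algHom w ψ hA''flat
    exact Module.Flat.of_linearEquiv eG
  · rintro ⟨i, hi⟩
    exact Module.Flat.of_linearEquiv
      (AlgebraTensorModule.cancelBaseChange A₀ (G i) A A M₀).symm

end Groth.Agent.S4848
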