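import Groth.Statements.S5245
import Groth.Agent.Lib.Helper25LocRigidC

set_option autoImplicit false
universe u
open TensorProduct SGA3b
open SGA3b

namespace Groth.Agent.S5245

/-- Over a local base, where an open neighbourhood of the closed point is the whole base; affine target
group: Let R be a local ring with maximal ideal 𝔪, H = Spec A an R-group of multiplicative type and
of finite type, G = Spec C an affine R-group, with R Noetherian or C of finite presentation over R,
and u : H ⟶ G a homomorphism given by the bialgebra map φ : C → A. If the restriction of u to the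
closed fibre is the unit homomorphism (φ c − ε(c)·1 ∈ 𝔪A for every c), then u is the unit
homomorphism. (Affine group schemes over an affine base are taken in Hopf-algebra form; base change
is the tensor product; a homomorphism of groups Spec A ⟶ Spec C is a bialgebra map C → A.) -/
theorem result (R : Type u) [CommRing R] [IsLocalRing R]
    (A : Type u) [CommRing A] [HopfAlgebra R A] (hft : Algebra.FiniteType R A) (hH : IsMultType R A)
    (C : Type u) [CommRing C] [HopfAlgebra R C] (hC : IsNoetherianRing R ∨ Algebra.FinitePresentation R C)
    (φ : C →ₐc[R] A)
    (hs : ∀ c : C, φ c - algebraMap R A (Coalgebra.counit c) ∈ Ideal.map (algebraMap R A) (IsLocalRing.maximalIdeal R)) :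
    ∀ c : C, φ c = algebraMap R A (Coalgebra.counit c) := by
  open Groth.Agent.Lib.Helper25.LocRigid WithConv in
  classical
  set ψ : C →ₐc[R] A := (Bialgebra.unitBialgHom R A).comp (Bialgebra.counitBialgHom R C) with hψ
  have hψc : ∀ c : C, ψ c = algebraMap R A (Coalgebra.counit c) := fun c => rfl
  have hfg : (Ideal.span (Set.range fun c => φ c - ψ c)).FG := by
    rcases hC with hN | hfp
    · haveI := hN
      haveI := hft
      haveI : IsNoetherianRing A := Algebra.FiniteType.isNoetherianRing R A
      exact IsNoetherian.noetherian _
    · haveI := hfp
      exact fg_span_sub_of_finiteType Algebra.FiniteType.of_finitePresentation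
        (φ : C →ₐ[R] A) (ψ : C →ₐ[R] A)
  have key : φ = ψ := by
    refine eq_of_isMultType_of_isLocalRing R A C hH φ ψ (fun c => by rw [hψc]; exact hs c) hfg ?_
    intro S _ _ f
    have h1 : toConv (f ∘ₗ (ψ : C →ₗc[R] A).toLinearMap) =
        algebraMap S (WithConv (C →ₗ[R] S)) (f 1) := by
      ext c
      rw [LinearMap.convAlgebraMap_apply]
      show f (ψ c) = _
      rw [hψc, Algebra.algebraMap_eq_smul_one, map_smul, Algebra.smul_def, smul_eq_mul, mul_comm]
    rw [h1]
    exact Algebra.commute_algebraMap_right _ _
  intro c
  rw [key, hψc]

end Groth.Agent.S5245
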