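import Groth.Statements.S5366
-- import your own Groth.Agent.* helpers here
import Mathlib
import Groth.Agent.Lib.Helper11SepPts
import Groth.Agent.Lib.Helper8Grp

set_option autoImplicit false
universe u
open CategoryTheory CategoryTheory.Limits MonoidalCategory CartesianMonoidalCategory MonObj GrpObj AlgebraicGeometry
open SGA3

namespace Groth.Agent.S5366

section grp
variable {Γ Γ' : Type*} [Group Γ] [Group Γ']

/-- the derived series (`b = true`) or the lower central series (`b = false`) of a subgroup. -/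
def ser (b : Bool) (S : Subgroup Γ) : ℕ → Subgroup Γ
  | 0 => S
  | n + 1 => ⁅ser b S n, cond b (ser b S n) S⁆

lemma ser_mono (b : Bool) {S S' : Subgroup Γ} (h : S ≤ S') (n : ℕ) : ser b S n ≤ ser b S' n := by
  induction n with
  | zero => exact h
  | succ n ih =>
    refine Subgroup.commutator_mono ih ?_
    cases b
    · exact h
    · exact ih

lemma map_ser (b : Bool) (φ : Γ →* Γ') (S : Subgroup Γ) (n : ℕ) :
    (ser b S n).map φ = ser b (S.map φ) n := by
  induction n with
  | zero => rfl
  | succ n ih =>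
    show (⁅ser b S n, cond b (ser b S n) S⁆).map φ =
      ⁅ser b (S.map φ) n, cond b (ser b (S.map φ) n) (S.map φ)⁆
    rw [Subgroup.map_commutator, ih]
    cases b
    · rfl
    · show ⁅_, (ser true S n).map φ⁆ = _
      rw [ih]
      rfl

lemma ser_true_top (n : ℕ) : ser true (⊤ : Subgroup Γ) n = derivedSeries Γ n := by
  induction n with
  | zero => rfl
  | succ n ih => rw [derivedSeries_succ, ← ih]; rfl

lemma ser_false (S : Subgroup Γ) (n : ℕ) : ser false S n = S.lowerCentralSeries n := by
  induction n with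
  | zero => rfl
  | succ n ih => rw [Subgroup.lowerCentralSeries_succ, ← ih]; rfl

lemma exists_finset (b : Bool) (n : ℕ) (g : Γ) (hg : g ∈ ser b (⊤ : Subgroup Γ) n) :
    ∃ s : Finset Γ, g ∈ ser b (Subgroup.closure (s : Set Γ)) n := by
  classical
  induction n generalizing g with
  | zero => exact ⟨{g}, Subgroup.subset_closure (by simp)⟩
  | succ n ih =>
    change g ∈ ⁅ser b ⊤ n, cond b (ser b ⊤ n) ⊤⁆ at hg
    rw [Subgroup.commutator_def] at hg
    induction hg using Subgroup.closure_induction with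
    | mem x hx =>
      obtain ⟨a, ha, c, hc, rfl⟩ := hx
      obtain ⟨sa, hsa⟩ := ih a ha
      have hc' : ∃ sc : Finset Γ, ∀ s' : Finset Γ, sc ⊆ s' →
          c ∈ cond b (ser b (Subgroup.closure (s' : Set Γ)) n) (Subgroup.closure (s' : Set Γ)) := by
        cases b
        · exact ⟨{c}, fun s' h => Subgroup.subset_closure
            (by exact_mod_cast h (Finset.mem_singleton_self c))⟩
        · obtain ⟨sc, hsc⟩ := ih c hc
          exact ⟨sc, fun s' h =>
            ser_mono true (Subgroup.closure_mono (by exact_mod_cast h)) n hsc⟩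
      obtain ⟨sc, hsc⟩ := hc'
      refine ⟨sa ∪ sc, ?_⟩
      exact Subgroup.commutator_mem_commutator
        (ser_mono b (Subgroup.closure_mono (by exact_mod_cast Finset.subset_union_left)) n hsa)
        (hsc _ Finset.subset_union_right)
    | one => exact ⟨∅, Subgroup.one_mem _⟩
    | mul x y _ _ ihx ihy =>
      obtain ⟨sx, hx⟩ := ihx
      obtain ⟨sy, hy⟩ := ihy
      exact ⟨sx ∪ sy, Subgroup.mul_mem _
        (ser_mono b (Subgroup.closure_mono (by exact_mod_cast Finset.subset_union_left))
          (n + 1) hx)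
        (ser_mono b (Subgroup.closure_mono (by exact_mod_cast Finset.subset_union_right))
          (n + 1) hy)⟩
    | inv x _ ihx =>
      obtain ⟨sx, hx⟩ := ihx
      exact ⟨sx, Subgroup.inv_mem _ hx⟩

lemma mem_bot_of_range (b : Bool) (n : ℕ) {Δ : Type*} [Group Δ] (ρ : Δ →* Γ)
    (hΔ : ser b (⊤ : Subgroup Δ) n = ⊥) (s : Set Γ) (hs : s ⊆ Set.range ρ) (g : Γ)
    (hg : g ∈ ser b (Subgroup.closure s) n) : g = 1 := by
  have h1 : Subgroup.closure s ≤ (⊤ : Subgroup Δ).map ρ := by
    rw [Subgroup.closure_le]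
    intro x hx
    obtain ⟨y, rfl⟩ := hs hx
    exact Subgroup.mem_map_of_mem ρ (Subgroup.mem_top y)
  have h2 := ser_mono b h1 n hg
  rw [← map_ser, hΔ, Subgroup.map_bot] at h2
  exact Subgroup.mem_bot.mp h2

lemma ser_eq_bot_of_jointly_injective (b : Bool) (n : ℕ) {J : Type*} (φ : J → (Γ →* Γ'))
    (hinj : ∀ g : Γ, (∀ t, φ t g = 1) → g = 1) (h : ser b (⊤ : Subgroup Γ') n = ⊥) :
    ser b (⊤ : Subgroup Γ) n = ⊥ := by
  rw [eq_bot_iff]
  intro g hg
  refine Subgroup.mem_bot.mpr (hinj g fun t => ?_)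
  have h1 : φ t g ∈ (ser b ⊤ n).map (φ t) := Subgroup.mem_map_of_mem _ hg
  rw [map_ser] at h1
  have h2 := ser_mono b (le_top : (⊤ : Subgroup Γ).map (φ t) ≤ ⊤) n h1
  rw [h] at h2
  exact Subgroup.mem_bot.mp h2

end grp

section geom
variable {k : Type u} [Field k] {G : Over (Spec (CommRingCat.of k))} [GrpObj G]

/-- precomposition as a group homomorphism on points. -/
noncomputable def pre {T P : Over (Spec (CommRingCat.of k))} (X : T ⟶ P) : (P ⟶ G) →* (T ⟶ G) :=
  MonoidHom.mk' (fun y => X ≫ y) (fun a b => MonObj.comp_mul X a b)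

lemma exists_smooth_cover [Smooth G.hom] {T : Over (Spec (CommRingCat.of k))}
    (l : List (T ⟶ G)) :
    ∃ (P : Over (Spec (CommRingCat.of k))) (_ : Smooth P.hom) (X : T ⟶ P),
      ∀ a ∈ l, ∃ p : P ⟶ G, X ≫ p = a := by
  induction l with
  | nil =>
    refine ⟨𝟙_ _, ?_, toUnit T, by simp⟩
    show Smooth (𝟙 _)
    infer_instance
  | cons a l ih =>
    obtain ⟨P, hP, X, h⟩ := ih
    refine ⟨G ⊗ P, ?_, lift a X, ?_⟩
    · show Smooth (pullback.fst G.hom P.hom ≫ G.hom)
      infer_instance
    · intro a' ha'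
      rcases List.mem_cons.mp ha' with rfl | ha'
      · exact ⟨fst G P, lift_fst _ _⟩
      · obtain ⟨p, hp⟩ := h a' ha'
        exact ⟨snd G P ≫ p, by rw [lift_snd_assoc, hp]⟩

theorem key [Smooth G.hom] (Ω : Type u) [Field Ω] [Algebra k Ω] [IsAlgClosed Ω] (b : Bool) (n : ℕ)
    (hΩ : ser b (⊤ : Subgroup ((Over.mk (Spec.map (CommRingCat.ofHom (algebraMap k Ω))) :
      Over (Spec (CommRingCat.of k))) ⟶ G)) n = ⊥)
    (T : Over (Spec (CommRingCat.of k))) : ser b (⊤ : Subgroup (T ⟶ G)) n = ⊥ := by
  haveI : IsSeparated G.hom := Groth.Agent.Lib.Helper8.isSeparated_of_discrete G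
  have hsm : ∀ (P : Over (Spec (CommRingCat.of k))), Smooth P.hom →
      ser b (⊤ : Subgroup (P ⟶ G)) n = ⊥ := by
    intro P hP
    refine ser_eq_bot_of_jointly_injective b n
      (fun t : (Over.mk (Spec.map (CommRingCat.ofHom (algebraMap k Ω))) :
        Over (Spec (CommRingCat.of k))) ⟶ P => pre (G := G) t) ?_ hΩ
    intro g hg
    refine Groth.Agent.Lib.Helper11SepPts.ext_of_points k Ω g 1 ?_
    intro p
    have h1 : p ≫ g = 1 := hg p
    rw [MonObj.comp_one]
    exact h1
  rw [eq_bot_iff]
  intro g hg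
  obtain ⟨s, hs⟩ := exists_finset b n g hg
  obtain ⟨P, hP, X, hX⟩ := exists_smooth_cover (G := G) s.toList
  refine Subgroup.mem_bot.mpr
    (mem_bot_of_range b n (pre (G := G) X) (hsm P hP) (s : Set (T ⟶ G)) ?_ g hs)
  intro a ha
  obtain ⟨p, hp⟩ := hX a (Finset.mem_toList.mpr ha)
  exact ⟨p, hp⟩

end geom

/-- (i) ⟺ (iii): let G be a smooth group scheme of finite type over a field k, Ω an algebraically closed
extension field of k and n a natural number. Then G is solvable of class n (the n-th term of the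
derived series of the group G(T) is trivial for every k-scheme T) if and only if the n-th term of
the derived series of the group of Ω-points G(Ω) is trivial; and G is nilpotent of class n (the n-th
term of the lower central series of G(T) is trivial for every T) if and only if the n-th term of the
lower central series of G(Ω) is trivial. -/
theorem result (k : Type u) [Field k] (G : Over (Spec (CommRingCat.of k))) [GrpObj G]
    [Smooth G.hom] [QuasiCompact G.hom] (Ω : Type u) [Field Ω] [Algebra k Ω] [IsAlgClosed Ω] (n : ℕ) :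
    ((∀ T : Over (Spec (CommRingCat.of k)), derivedSeries (T ⟶ G) n = ⊥) ↔ derivedSeries ((Over.mk (Spec.map (CommRingCat.ofHom (algebraMap k Ω))) : Over (Spec (CommRingCat.of k))) ⟶ G) n = ⊥) ∧
    ((∀ T : Over (Spec (CommRingCat.of k)), Subgroup.lowerCentralSeries (⊤ : Subgroup (T ⟶ G)) n = ⊥) ↔ Subgroup.lowerCentralSeries (⊤ : Subgroup (((Over.mk (Spec.map (CommRingCat.ofHom (algebraMap k Ω))) : Over (Spec (CommRingCat.of k))) ⟶ G))) n = ⊥) := by
  refine ⟨⟨fun h => h _, fun h T => ?_⟩, ⟨fun h => h _, fun h T => ?_⟩⟩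
  · rw [← ser_true_top] at h ⊢
    exact key Ω true n h T
  · rw [← ser_false] at h ⊢
    exact key Ω false n h T

end Groth.Agent.S5366
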