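import Groth.Statements.S5336
import Mathlib
import Groth.Agent.Lib.Helper11Homog

set_option autoImplicit false
universe u
open CategoryTheory CategoryTheory.Limits MonoidalCategory CartesianMonoidalCategory MonObj GrpObj AlgebraicGeometry
open SGA3

namespace Groth.Agent.S5336

open Groth.Agent.Lib.Helper11Homog


/-- Let A be a local artinian ring, G an A-group scheme which is flat and locally of finite type over A,
and u : G → H a homomorphism of A-group schemes. If u is flat at some point x of G (the local ring
of G at x is flat over the local ring of H at u(x)), then u is flat. -/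
theorem result (A : Type u) [CommRing A] [IsArtinianRing A] [IsLocalRing A] (G H : Over (Spec (CommRingCat.of A))) [GrpObj G] [GrpObj H]
    [Flat G.hom] [LocallyOfFiniteType G.hom] (u : G ⟶ H) [IsMonHom u]
    (h : ∃ x : G.left, (u.left.stalkMap x).hom.Flat) : Flat u.left := by
  obtain ⟨ξ, hξ⟩ := h
  have ha : Flat ((fst G H ≫ u) * snd G H).left := by
    apply flat_of_shear ((fst G H ≫ u) * snd G H) ((fst G H ≫ u)⁻¹ * snd G H)
    · rw [MonObj.comp_mul, GrpObj.comp_inv, lift_fst_assoc, lift_snd]
      group
    · rw [MonObj.comp_mul, lift_fst_assoc, lift_snd]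
      group
  refine flat_of_stalkMap_flat (spec_subsingleton_of_artinian_local A) G H u
    ((fst G H ≫ u) * snd G H) ha ?_ ξ hξ
  rw [MonObj.comp_mul, whiskerLeft_fst_assoc, whiskerLeft_snd, MonObj.mul_eq_mul, MonObj.mul_comp]

end Groth.Agent.S5336
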