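import Groth.Statements.S19202
import Mathlib
import Groth.Agent.Lib.Helper11FlatClosure

set_option autoImplicit false
universe u
open CategoryTheory AlgebraicGeometry
open FlatMor

namespace Groth.Agent.S19202

open CategoryTheory.Limits Groth.Agent.Lib.Helper11FlatClosure


/-- Let R be a Dedekind domain, X and Y schemes over Spec R with X flat over Spec R, and f : X → Y a
morphism over Spec R. Then the scheme-theoretic image of f, i.e. the closed subscheme of Y cut out
by the kernel ideal sheaf of f, is flat over Spec R. (The published statement takes the base to be a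
non-singular curve and f proper; this row takes the spectrum of any Dedekind domain and any morphism
f over it.) -/
theorem result (R : Type u) [CommRing R] [IsDedekindDomain R]
    {X Y : Scheme.{u}} (p : X ⟶ Spec (CommRingCat.of R)) (q : Y ⟶ Spec (CommRingCat.of R))
    (f : X ⟶ Y) (w : f ≫ q = p) [Flat p] : Flat (f.imageι ≫ q) := by
  obtain ⟨η, hη⟩ : ∃ η : ↥(Spec (CommRingCat.of R)), η.asIdeal = ⊥ :=
    ⟨(⟨⊥, Ideal.isPrime_bot⟩ : PrimeSpectrum R), rfl⟩
  obtain ⟨g, hg⟩ : ∃ g, g = f.imageι ≫ q := ⟨_, rfl⟩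
  rw [← hg]
  have hpg : f.toImage ≫ g = p := by rw [hg, Scheme.Hom.toImage_imageι_assoc, w]
  have hflat : Flat ((g.fiberι η).imageι ≫ g) := flat_imageι_fiberι R g η hη
  obtain ⟨j, hj⟩ : ∃ j, j = (g.fiberι η).imageι := ⟨_, rfl⟩
  rw [← hj] at hflat
  have hjcl : IsClosedImmersion j := by rw [hj]; infer_instance
  have hXK : IsSchemeTheoreticallyDominant (p.fiberι η) := dominant_fiberι R p η hη
  let m : p.fiber η ⟶ g.fiber η :=
    pullback.map _ _ _ _ f.toImage (𝟙 _) (𝟙 _) (by simp [hpg]) (by simp)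
  have hm : m ≫ g.fiberι η = p.fiberι η ≫ f.toImage := pullback.lift_fst _ _ _
  have hcond : p.fiberι η ≫ f.toImage = (m ≫ (g.fiberι η).toImage) ≫ j := by
    rw [Category.assoc, hj, Scheme.Hom.toImage_imageι, hm]
  have hiso : IsIso (pullback.fst f.toImage j) :=
    isIso_of_factor (pullback.fst f.toImage j) (pullback.lift _ _ hcond) (p.fiberι η)
      (pullback.lift_fst _ _ _)
  obtain ⟨l, hl⟩ : ∃ l : X ⟶ _, l ≫ j = f.toImage := by
    refine ⟨inv (pullback.fst f.toImage j) ≫ pullback.snd f.toImage j, ?_⟩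
    rw [Category.assoc, ← pullback.condition, IsIso.inv_hom_id_assoc]
  have hker : (j ≫ f.imageι).ker ≤ f.imageι.ker := by
    have h1 : (j ≫ f.imageι).ker ≤ (l ≫ j ≫ f.imageι).ker := ker_le_ker_comp l _
    rw [← Category.assoc, hl, Scheme.Hom.toImage_imageι] at h1
    rwa [Scheme.Hom.imageι, Scheme.IdealSheafData.ker_subschemeι]
  have hjiso : IsIso j :=
    IsClosedImmersion.isIso_of_ker_eq (j ≫ f.imageι) f.imageι j rfl
      (le_antisymm hker (ker_le_ker_comp j f.imageι))
  have : g = inv j ≫ (j ≫ g) := by rw [IsIso.inv_hom_id_assoc]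
  rw [this]
  infer_instance

end Groth.Agent.S19202
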