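import Groth.Statements.S19964
-- import your own Groth.Agent.* helpers here
import Mathlib
import Groth.Agent.S19202
import Groth.Agent.S13044
import Groth.Agent.Lib.Helper11FlatClosure
import Groth.Agent.Lib.Helper11SubGrp
import Groth.Agent.Lib.Helper26SubGrpLim
import Groth.Agent.Lib.Helper3AbHom

set_option autoImplicit false
universe u
open CategoryTheory MonoidalCategory CartesianMonoidalCategory MonObj GrpObj AlgebraicGeometry CategoryTheory.Limits
open Neron

namespace Groth.Agent.S19964

open Groth.Agent.Lib.Helper26.SubGrpLim (Ψ ψ ψ_left Ψ_apply)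

/-- a morphism which factors through a closed subscheme after precomposition with a
scheme-theoretically dominant morphism factors through it. -/
lemma factor {W Z Hs Gl : Scheme.{u}} (jl : Hs ⟶ Gl) [IsClosedImmersion jl] (w : W ⟶ Z)
    [IsSchemeTheoreticallyDominant w] (g : Z ⟶ Gl) (r : W ⟶ Hs) (hr : r ≫ jl = w ≫ g) :
    ∃ z : Z ⟶ Hs, z ≫ jl = g := by
  haveI : IsIso (pullback.fst g jl) :=
    Groth.Agent.Lib.Helper11FlatClosure.isIso_of_factor (pullback.fst g jl)
      (pullback.lift w r hr.symm) w (pullback.lift_fst _ _ _)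
  exact ⟨inv (pullback.fst g jl) ≫ pullback.snd g jl,
    by rw [Category.assoc, ← pullback.condition, IsIso.inv_hom_id_assoc]⟩

lemma factorOver {S : Scheme.{u}} {H G : Over S} (j : H ⟶ G) [IsClosedImmersion j.left]
    {W Z : Over S} (w : W ⟶ Z) [IsSchemeTheoreticallyDominant w.left] (g : Z ⟶ G) (r : W ⟶ H)
    (hr : r ≫ j = w ≫ g) : ∃ z : Z ⟶ H, z ≫ j = g := by
  obtain ⟨z, hz⟩ := factor j.left w.left g.left r.left
    (by rw [← Over.comp_left, hr, Over.comp_left])
  refine ⟨Over.homMk z ?_, ?_⟩
  · rw [← Over.w j, ← Category.assoc, hz, Over.w g]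
  · ext1
    exact hz

/-- the fibre square of a product. -/
lemma isPullback_prod {X Z K S : Scheme.{u}} {a : X ⟶ K} {h : Z ⟶ S} {φ : X ⟶ Z} {t : K ⟶ S}
    (hφ : IsPullback φ a h t) (W : pullback a a ⟶ pullback h h)
    (hW1 : W ≫ pullback.fst h h = pullback.fst a a ≫ φ)
    (hW2 : W ≫ pullback.snd h h = pullback.snd a a ≫ φ) :
    IsPullback W (pullback.fst a a ≫ a) (pullback.fst h h ≫ h) t := by
  refine IsPullback.paste_vert ?_ hφ
  have key : ∀ s : PullbackCone (pullback.fst h h) φ,
      (s.fst ≫ pullback.snd h h) ≫ h = (s.snd ≫ a) ≫ t := by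
    intro s
    calc (s.fst ≫ pullback.snd h h) ≫ h = s.fst ≫ pullback.fst h h ≫ h := by
          rw [Category.assoc, pullback.condition]
      _ = (s.snd ≫ φ) ≫ h := by rw [← s.condition, Category.assoc]
      _ = (s.snd ≫ a) ≫ t := by rw [Category.assoc, hφ.w, Category.assoc]
  have key2 : ∀ s : PullbackCone (pullback.fst h h) φ,
      s.snd ≫ a = hφ.lift (s.fst ≫ pullback.snd h h) (s.snd ≫ a) (key s) ≫ a := by
    intro s
    rw [hφ.lift_snd]
  refine ⟨⟨hW1⟩, ⟨PullbackCone.IsLimit.mk _
    (fun s => pullback.lift s.snd (hφ.lift (s.fst ≫ pullback.snd h h) (s.snd ≫ a) (key s)) (key2 s))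
    ?_ ?_ ?_⟩⟩
  · intro s
    apply pullback.hom_ext
    · rw [Category.assoc, hW1, pullback.lift_fst_assoc, s.condition]
    · rw [Category.assoc, hW2, pullback.lift_snd_assoc, hφ.lift_fst]
  · intro s
    exact pullback.lift_fst _ _ _
  · intro s m hm1 hm2
    apply pullback.hom_ext
    · rw [pullback.lift_fst, hm2]
    · rw [pullback.lift_snd]
      apply hφ.hom_ext
      · rw [hφ.lift_fst, Category.assoc, ← hW2, ← Category.assoc, hm1]
      · rw [hφ.lift_snd, Category.assoc, ← pullback.condition, ← Category.assoc, hm2]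

section closure

variable {S₀ T' : Scheme.{u}} (t : T' ⟶ S₀) (G : Over S₀) [GrpObj G] (HK : Over T') [GrpObj HK]
  (i : HK ⟶ Red.bc t G) [IsMonHom i] (H : Over S₀) (j : H ⟶ G) (φ : HK.left ⟶ H.left)
  (hφj : φ ≫ j.left = i.left ≫ pullback.fst G.hom t) (hφH : φ ≫ H.hom = HK.hom ≫ t)

/-- transport of a point of `HK` to a point of `H`. -/
noncomputable def tl {X : Over T'} (x : X ⟶ HK) : (Over.map t).obj X ⟶ H :=
  Over.homMk (x.left ≫ φ) (by
    change (x.left ≫ φ) ≫ H.hom = X.hom ≫ t
    rw [Category.assoc, hφH, ← Category.assoc, Over.w x])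

include hφj in
lemma tl_comp {X : Over T'} (x : X ⟶ HK) :
    tl t HK H φ hφH x ≫ j = Ψ t G X (x ≫ i) := by
  ext1
  change (x.left ≫ φ) ≫ j.left = (x.left ≫ i.left) ≫ pullback.fst G.hom t
  rw [Category.assoc, hφj, Category.assoc]

include hφj in
theorem exists_grpObj [IsClosedImmersion j.left]
    (h1 : IsSchemeTheoreticallyDominant t) (h2 : IsSchemeTheoreticallyDominant φ)
    (h3 : IsSchemeTheoreticallyDominant
      (lift (tl t HK H φ hφH (fst HK HK)) (tl t HK H φ hφH (snd HK HK))).left) :
    ∃ (_ : GrpObj H), IsMonHom j := by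
  haveI : Mono j := by
    haveI : Mono ((Over.forget S₀).map j) := by
      change Mono j.left
      infer_instance
    exact (Over.forget S₀).mono_of_mono_map this
  have hone : ∃ z : 𝟙_ (Over S₀) ⟶ H, z ≫ j = 1 := by
    haveI : IsSchemeTheoreticallyDominant
        (toUnit ((Over.map t).obj (𝟙_ (Over T')))).left := by
      change IsSchemeTheoreticallyDominant (𝟙 T' ≫ t)
      infer_instance
    refine factorOver j (toUnit ((Over.map t).obj (𝟙_ (Over T')))) 1
      (tl t HK H φ hφH η[HK]) ?_
    rw [tl_comp t G HK i H j φ hφj hφH, MonObj.one_eq_one, MonObj.one_comp, map_one,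
      MonObj.comp_one]
  have hmul0 : ∃ z : H ⊗ H ⟶ H, z ≫ j = (fst H H ≫ j) * (snd H H ≫ j) := by
    haveI : IsSchemeTheoreticallyDominant
      (lift (tl t HK H φ hφH (fst HK HK)) (tl t HK H φ hφH (snd HK HK))).left := h3
    refine factorOver j (lift (tl t HK H φ hφH (fst HK HK)) (tl t HK H φ hφH (snd HK HK))) _
      (tl t HK H φ hφH (fst HK HK * snd HK HK)) ?_
    rw [tl_comp t G HK i H j φ hφj hφH, MonObj.mul_comp, map_mul,
      ← tl_comp t G HK i H j φ hφj hφH, ← tl_comp t G HK i H j φ hφj hφH, MonObj.comp_mul]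
    congr 1
    · rw [← Category.assoc, lift_fst]
    · rw [← Category.assoc, lift_snd]
  have hinv0 : ∃ z : H ⟶ H, z ≫ j = j⁻¹ := by
    haveI : IsSchemeTheoreticallyDominant (tl t HK H φ hφH (𝟙 HK)).left := by
      change IsSchemeTheoreticallyDominant (𝟙 _ ≫ φ)
      infer_instance
    refine factorOver j (tl t HK H φ hφH (𝟙 HK)) _ (tl t HK H φ hφH (𝟙 HK)⁻¹) ?_
    rw [tl_comp t G HK i H j φ hφj hφH, GrpObj.inv_comp, map_inv,
      ← tl_comp t G HK i H j φ hφj hφH, GrpObj.comp_inv]
  refine Groth.Agent.Lib.Helper11SubGrp.exists_grpObj_of_points j hone ?_ ?_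
  · intro T a b
    obtain ⟨z, hz⟩ := hmul0
    refine ⟨lift a b ≫ z, ?_⟩
    rw [Category.assoc, hz, MonObj.comp_mul, ← Category.assoc, lift_fst, ← Category.assoc,
      lift_snd]
  · intro T a
    obtain ⟨z, hz⟩ := hinv0
    exact ⟨a ≫ z, by rw [Category.assoc, hz, GrpObj.comp_inv]⟩

end closure

theorem main_aux (R : Type u) [CommRing R] [IsDedekindDomain R]
    (G : Over (Spec (CommRingCat.of R))) [GrpObj G]
    (HK : Over (Spec (CommRingCat.of (FractionRing R)))) [GrpObj HK]
    (i : HK ⟶ Red.bc (Neron.genPt R) G) [IsMonHom i] [IsClosedImmersion i.left]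
    (H : Over (Spec (CommRingCat.of R))) (j : H ⟶ G) [IsClosedImmersion j.left]
    (φ : HK.left ⟶ H.left) [IsSchemeTheoreticallyDominant φ] [QuasiCompact φ] [Flat H.hom]
    (hφj : φ ≫ j.left = i.left ≫ pullback.fst G.hom (Neron.genPt R)) :
    (∃ (_ : GrpObj H), IsMonHom j) ∧ IsPullback φ HK.hom H.hom (Neron.genPt R) := by
  haveI htflat : Flat (Neron.genPt R) := by
    rw [HasRingHomProperty.Spec_iff (P := @Flat)]
    rw [CommRingCat.hom_ofHom, RingHom.flat_algebraMap_iff]
    exact IsLocalization.flat (FractionRing R) (nonZeroDivisors R)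
  haveI htstd : IsSchemeTheoreticallyDominant (Neron.genPt R) :=
    Groth.Agent.S13044.isSchemeTheoreticallyDominant_specMap _
      (IsFractionRing.injective R (FractionRing R))
  haveI htmono : Mono (Neron.genPt R) := by
    haveI : IsPreimmersion (Neron.genPt R) :=
      IsPreimmersion.of_isLocalization (nonZeroDivisors R)
    infer_instance
  have hφH : φ ≫ H.hom = HK.hom ≫ Neron.genPt R := by
    rw [← Over.w j, ← Category.assoc, hφj, Category.assoc, pullback.condition, ← Category.assoc]
    congr 1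
    exact Over.w i
  -- the generic fibre
  have hpb : IsPullback φ HK.hom H.hom (Neron.genPt R) := by
    obtain ⟨c, hc⟩ : ∃ c : HK.left ⟶ pullback H.hom (Neron.genPt R),
      c = pullback.lift φ HK.hom hφH := ⟨_, rfl⟩
    have hc1 : c ≫ pullback.fst H.hom (Neron.genPt R) = φ := by rw [hc, pullback.lift_fst]
    have hc2 : c ≫ pullback.snd H.hom (Neron.genPt R) = HK.hom := by rw [hc, pullback.lift_snd]
    have hsq : IsPullback (𝟙 HK.left) c φ (pullback.fst H.hom (Neron.genPt R)) := by
      refine ⟨⟨by rw [Category.id_comp, hc1]⟩, ⟨PullbackCone.IsLimit.mk _ (fun s => s.fst)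
        (fun s => Category.comp_id _) (fun s => ?_)
        (fun s m hm _ => by rw [← hm, Category.comp_id])⟩⟩
      rw [← cancel_mono (pullback.fst H.hom (Neron.genPt R)), Category.assoc, hc1]
      exact s.condition
    haveI : IsSchemeTheoreticallyDominant c := IsSchemeTheoreticallyDominant.of_isPullback hsq
    obtain ⟨jK, hjK⟩ : ∃ jK : pullback H.hom (Neron.genPt R) ⟶ pullback G.hom (Neron.genPt R),
        jK = pullback.lift (pullback.fst H.hom (Neron.genPt R) ≫ j.left)
          (pullback.snd H.hom (Neron.genPt R))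
          (by rw [Category.assoc, Over.w j]; exact pullback.condition) := ⟨_, rfl⟩
    have hjK1 : jK ≫ pullback.fst G.hom (Neron.genPt R) =
        pullback.fst H.hom (Neron.genPt R) ≫ j.left := by rw [hjK, pullback.lift_fst]
    have hjK2 : jK ≫ pullback.snd G.hom (Neron.genPt R) =
        pullback.snd H.hom (Neron.genPt R) := by rw [hjK, pullback.lift_snd]
    haveI : Mono jK := by
      constructor
      intro Z a b hab
      apply pullback.hom_ext
      · rw [← cancel_mono j.left, Category.assoc, Category.assoc, ← hjK1, ← Category.assoc,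
          ← Category.assoc, hab]
      · rw [← hjK2, ← Category.assoc, ← Category.assoc, hab]
    have hcj : c ≫ jK = i.left := by
      apply pullback.hom_ext
      · rw [Category.assoc, hjK1, ← Category.assoc, hc1, hφj]
      · rw [Category.assoc, hjK2, hc2]
        exact (Over.w i).symm
    haveI : IsClosedImmersion (c ≫ jK) := by rw [hcj]; infer_instance
    haveI : IsClosedImmersion c := IsClosedImmersion.of_comp c jK
    haveI : IsIso c := IsClosedImmersion.isIso_iff_ker_eq_bot.mpr c.ker_eq_bot
    exact IsPullback.of_iso_pullback ⟨hφH⟩ (asIso c) hc1 hc2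
  refine ⟨?_, hpb⟩
  refine exists_grpObj (Neron.genPt R) G HK i H j φ hφj hφH htstd inferInstance ?_
  have hW1 : (lift (tl (Neron.genPt R) HK H φ hφH (fst HK HK))
      (tl (Neron.genPt R) HK H φ hφH (snd HK HK))).left ≫ pullback.fst H.hom H.hom =
      pullback.fst HK.hom HK.hom ≫ φ :=
    congrArg (fun m => m.left) (lift_fst (tl (Neron.genPt R) HK H φ hφH (fst HK HK))
      (tl (Neron.genPt R) HK H φ hφH (snd HK HK)))
  have hW2 : (lift (tl (Neron.genPt R) HK H φ hφH (fst HK HK))
      (tl (Neron.genPt R) HK H φ hφH (snd HK HK))).left ≫ pullback.snd H.hom H.hom =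
      pullback.snd HK.hom HK.hom ≫ φ :=
    congrArg (fun m => m.left) (lift_snd (tl (Neron.genPt R) HK H φ hφH (fst HK HK))
      (tl (Neron.genPt R) HK H φ hφH (snd HK HK)))
  have hW := isPullback_prod hpb _ hW1 hW2
  haveI : Flat (pullback.fst H.hom H.hom ≫ H.hom) := inferInstance
  exact IsSchemeTheoreticallyDominant.of_isPullback hW.flip

/-- Let R be a Dedekind domain with fraction field K, G a group scheme over Spec R and i : H_K → G_K a
closed subgroup scheme of the generic fibre G_K = G ×_R K (a homomorphism which is a closed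
immersion). Then there are a group scheme H over Spec R, flat over Spec R, and a homomorphism j : H
→ G which is a closed immersion, together with a morphism H_K → H presenting H_K as the generic
fibre H ×_R K compatibly with i and the embedding G_K → G, and with trivial kernel ideal sheaf (H_K
is schematically dense in H). In words: the schematic closure in G of a closed K-subgroup of the
generic fibre is a flat closed R-subgroup scheme of G. (The source states this for group algebraic
spaces over a connected Dedekind scheme; the case of schemes over an affine base is stated.) -/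
theorem result
    (R : Type u) [CommRing R] [IsDedekindDomain R]
    (G : Over (Spec (CommRingCat.of R))) [GrpObj G]
    (HK : Over (Spec (CommRingCat.of (FractionRing R)))) [GrpObj HK]
    (i : HK ⟶ Red.bc (Neron.genPt R) G) [IsMonHom i] [IsClosedImmersion i.left] :
    ∃ (H : Over (Spec (CommRingCat.of R))) (_ : GrpObj H) (j : H ⟶ G) (φ : HK.left ⟶ H.left),
      IsMonHom j ∧ IsClosedImmersion j.left ∧ Flat H.hom ∧
      IsPullback φ HK.hom H.hom (Neron.genPt R) ∧
      φ ≫ j.left = i.left ≫ pullback.fst G.hom (Neron.genPt R) ∧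
      φ.ker = ⊥ := by
  haveI htflat : Flat (Neron.genPt R) := by
    rw [HasRingHomProperty.Spec_iff (P := @Flat)]
    rw [CommRingCat.hom_ofHom, RingHom.flat_algebraMap_iff]
    exact IsLocalization.flat (FractionRing R) (nonZeroDivisors R)
  haveI hHKflat : Flat HK.hom :=
    Groth.Agent.Lib.Helper3.AbHom.flat_of_isField (K := CommRingCat.of (FractionRing R))
      (Field.toIsField _) HK.hom
  obtain ⟨f₀, hf₀⟩ : ∃ f₀ : HK.left ⟶ G.left,
    f₀ = i.left ≫ pullback.fst G.hom (Neron.genPt R) := ⟨_, rfl⟩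
  have hw : f₀ ≫ G.hom = HK.hom ≫ Neron.genPt R := by
    rw [hf₀, Category.assoc, pullback.condition, ← Category.assoc]
    congr 1
    exact Over.w i
  haveI : QuasiCompact f₀ := by rw [hf₀]; infer_instance
  have hHflat : Flat (f₀.imageι ≫ G.hom) :=
    Groth.Agent.S19202.result R (HK.hom ≫ Neron.genPt R) G.hom f₀ hw
  haveI hstd : IsSchemeTheoreticallyDominant f₀.toImage :=
    Groth.Agent.Lib.Helper11FlatClosure.toImage_dominant f₀
  haveI : IsClosedImmersion
      (Over.homMk f₀.imageι rfl : Over.mk (f₀.imageι ≫ G.hom) ⟶ G).left :=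
    (inferInstance : IsClosedImmersion f₀.imageι)
  haveI : Flat (Over.mk (f₀.imageι ≫ G.hom)).hom := hHflat
  haveI : QuasiCompact (f₀.toImage : HK.left ⟶ (Over.mk (f₀.imageι ≫ G.hom)).left) :=
    (inferInstance : QuasiCompact f₀.toImage)
  have hφj : (f₀.toImage : HK.left ⟶ (Over.mk (f₀.imageι ≫ G.hom)).left) ≫
      (Over.homMk f₀.imageι rfl : Over.mk (f₀.imageι ≫ G.hom) ⟶ G).left =
      i.left ≫ pullback.fst G.hom (Neron.genPt R) := by
    rw [← hf₀]
    exact f₀.toImage_imageι
  obtain ⟨⟨inst, hj⟩, hpb⟩ := main_aux R G HK i (Over.mk (f₀.imageι ≫ G.hom))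
    (Over.homMk f₀.imageι rfl) f₀.toImage hφj
  exact ⟨_, inst, _, _, hj, inferInstance, hHflat, hpb, hφj, hstd.ker_eq_bot⟩

end Groth.Agent.S19964
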