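import Groth.Statements.S18082
-- import your own Groth.Agent.* helpers here
import Mathlib
import Groth.Agent.S5366
import Groth.Agent.Lib.Helper26SubGrpLim
import Groth.Agent.S13044
import Groth.Agent.Lib.Helper20MagnetSTD2

set_option autoImplicit false
universe u
open CategoryTheory MonoidalCategory CartesianMonoidalCategory MonObj GrpObj AlgebraicGeometry CategoryTheory.Limits
open AlgGrp

namespace Groth.Agent.S18082

open Groth.Agent.S5366 (ser ser_mono map_ser ser_true_top ser_false exists_finset mem_bot_of_range
  ser_eq_bot_of_jointly_injective)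
open Groth.Agent.Lib.Helper26.SubGrpLim (Ψ)

section
variable {S : Scheme.{u}} {G : Over S} [GrpObj G]

/-- precomposition as a group homomorphism on points. -/
noncomputable def pre {T P : Over S} (X : T ⟶ P) : (P ⟶ G) →* (T ⟶ G) :=
  MonoidHom.mk' (fun y => X ≫ y) (fun a b => MonObj.comp_mul X a b)

lemma exists_flat_cover [Flat G.hom] {T : Over S} (l : List (T ⟶ G)) :
    ∃ (P : Over S) (_ : Flat P.hom) (X : T ⟶ P), ∀ a ∈ l, ∃ p : P ⟶ G, X ≫ p = a := by
  induction l with
  | nil =>
    refine ⟨𝟙_ _, ?_, toUnit T, by simp⟩
    show Flat (𝟙 _)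
    infer_instance
  | cons a l ih =>
    obtain ⟨P, hP, X, h⟩ := ih
    refine ⟨G ⊗ P, ?_, lift a X, ?_⟩
    · show Flat (pullback.fst G.hom P.hom ≫ G.hom)
      infer_instance
    · intro a' ha'
      rcases List.mem_cons.mp ha' with rfl | ha'
      · exact ⟨fst G P, lift_fst _ _⟩
      · obtain ⟨p, hp⟩ := h a' ha'
        exact ⟨snd G P ≫ p, by rw [lift_snd_assoc, hp]⟩

end

theorem key (A : Type u) [CommRing A] (K : Type u) [Field K] [Algebra A K]
    (hinj : Function.Injective (algebraMap A K))
    (G : Over (Spec (CommRingCat.of A))) [GrpObj G] [Flat G.hom] [IsSeparated G.hom]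
    (b : Bool) (n : ℕ)
    (hK : ∀ X : Over (Spec (CommRingCat.of K)),
      ser b (⊤ : Subgroup (X ⟶ Red.bc (Spec.map (CommRingCat.ofHom (algebraMap A K))) G)) n = ⊥)
    (T : Over (Spec (CommRingCat.of A))) : ser b (⊤ : Subgroup (T ⟶ G)) n = ⊥ := by
  have hdom : IsSchemeTheoreticallyDominant (Spec.map (CommRingCat.ofHom (algebraMap A K))) :=
    Groth.Agent.S13044.isSchemeTheoreticallyDominant_specMap _ hinj
  have hfl : ∀ (P : Over (Spec (CommRingCat.of A))), Flat P.hom →
      ser b (⊤ : Subgroup (P ⟶ G)) n = ⊥ := by
    intro P hP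
    let PK : Over (Spec (CommRingCat.of K)) :=
      Red.bc (Spec.map (CommRingCat.ofHom (algebraMap A K))) P
    let Y : Over (Spec (CommRingCat.of A)) :=
      (Over.map (Spec.map (CommRingCat.ofHom (algebraMap A K)))).obj PK
    let u : Y ⟶ P :=
      Over.homMk (pullback.fst P.hom (Spec.map (CommRingCat.ofHom (algebraMap A K))))
        pullback.condition
    haveI : IsSchemeTheoreticallyDominant u.left :=
      (inferInstance : IsSchemeTheoreticallyDominant
        (pullback.fst P.hom (Spec.map (CommRingCat.ofHom (algebraMap A K)))))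
    have h1 : ser b (⊤ : Subgroup (Y ⟶ G)) n = ⊥ := by
      refine ser_eq_bot_of_jointly_injective b n
        (fun _ : Unit => ((Ψ (Spec.map (CommRingCat.ofHom (algebraMap A K))) G PK).symm.toMonoidHom))
        ?_ (hK PK)
      intro g hg
      exact (MulEquiv.map_eq_one_iff _).mp (hg ())
    refine ser_eq_bot_of_jointly_injective b n (fun _ : Unit => pre (G := G) u) ?_ h1
    intro g hg
    have h2 : u ≫ g = 1 := hg ()
    apply Groth.Agent.Lib.Helper20MagnetSTD.over_ext_of_isSchemeTheoreticallyDominant u
    rw [h2, MonObj.comp_one]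
  rw [eq_bot_iff]
  intro g hg
  obtain ⟨s, hs⟩ := exists_finset b n g hg
  obtain ⟨P, hP, X, hX⟩ := exists_flat_cover (G := G) s.toList
  refine Subgroup.mem_bot.mpr
    (mem_bot_of_range b n (pre (G := G) X) (hfl P hP) (s : Set (T ⟶ G)) ?_ g hs)
  intro a ha
  obtain ⟨p, hp⟩ := hX a (Finset.mem_toList.mpr ha)
  exact ⟨p, hp⟩

theorem fibre (A : Type u) [CommRing A] (K k : Type u) [Field K] [Algebra A K] [Field k] [Algebra A k]
    (hinj : Function.Injective (algebraMap A K))
    (G : Over (Spec (CommRingCat.of A))) [GrpObj G] [Flat G.hom] [IsSeparated G.hom]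
    (b : Bool) (n : ℕ)
    (hK : ∀ X : Over (Spec (CommRingCat.of K)),
      ser b (⊤ : Subgroup (X ⟶ Red.bc (Spec.map (CommRingCat.ofHom (algebraMap A K))) G)) n = ⊥)
    (X : Over (Spec (CommRingCat.of k))) :
    ser b (⊤ : Subgroup (X ⟶ Red.bc (Spec.map (CommRingCat.ofHom (algebraMap A k))) G)) n = ⊥ := by
  have hT := key A K hinj G b n hK
    ((Over.map (Spec.map (CommRingCat.ofHom (algebraMap A k)))).obj X)
  refine ser_eq_bot_of_jointly_injective b n
    (fun _ : Unit => ((Ψ (Spec.map (CommRingCat.ofHom (algebraMap A k))) G X).toMonoidHom)) ?_ hT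
  intro g hg
  exact (MulEquiv.map_eq_one_iff _).mp (hg ())

/-- A is a discrete valuation ring, with K denoting its field of fractions and k its residue field, and
G is an A-group scheme that is flat, separated and of finite presentation. If the generic fibre G_K
is nilpotent then the special fibre G_k is nilpotent; if G_K is solvable then G_k is solvable. (The
published statement does not require G separated over A; gluing copies of Spec A indexed by a finite
non-nilpotent, resp. non-solvable, group along their common generic point gives a flat group scheme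
of finite presentation with trivial generic fibre and that constant group as special fibre, so G is
taken separated here, the case covered by the density argument of the published proof.) -/
theorem result (A : Type u) [CommRing A] [IsDomain A] [IsDiscreteValuationRing A]
    (K : Type u) [Field K] [Algebra A K] [IsFractionRing A K]
    (G : Over (Spec (CommRingCat.of A))) [GrpObj G] [Flat G.hom] [LocallyOfFinitePresentation G.hom] [QuasiCompact G.hom]
    [IsSeparated G.hom] :
    (AGF.IsNilpotentGrp (Red.bc (Spec.map (CommRingCat.ofHom (algebraMap A K))) G) → AGF.IsNilpotentGrp (Red.bc (Spec.map (CommRingCat.ofHom (algebraMap A (IsLocalRing.ResidueField A)))) G)) ∧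
    (Red.IsSolvableGrp (Red.bc (Spec.map (CommRingCat.ofHom (algebraMap A K))) G) → Red.IsSolvableGrp (Red.bc (Spec.map (CommRingCat.ofHom (algebraMap A (IsLocalRing.ResidueField A)))) G)) := by
  have hinj : Function.Injective (algebraMap A K) := IsFractionRing.injective A K
  constructor
  · rintro ⟨n, hn⟩
    refine ⟨n, fun X => ?_⟩
    rw [← Subgroup.lowerCentralSeries_eq_bot_iff_upperCentralSeries_eq_top, ← ser_false]
    refine fibre A K (IsLocalRing.ResidueField A) hinj G false n (fun X' => ?_) X
    rw [ser_false, Subgroup.lowerCentralSeries_eq_bot_iff_upperCentralSeries_eq_top]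
    exact hn X'
  · rintro ⟨n, hn⟩
    refine ⟨n, fun X => ?_⟩
    rw [← ser_true_top]
    refine fibre A K (IsLocalRing.ResidueField A) hinj G true n (fun X' => ?_) X
    rw [ser_true_top]
    exact hn X'

end Groth.Agent.S18082
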