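import Groth.Statements.S17981
-- import your own Groth.Agent.* helpers here
import Mathlib.RingTheory.Nakayama
import Mathlib.Tactic.Ring
import Mathlib.Tactic.LinearCombination

set_option autoImplicit false
universe u
open Hensel

namespace Groth.Agent.S17981

/-- Let A be a commutative ring, I an ideal contained in the Jacobson radical of A, and B a commutative
A-algebra which is finitely generated as an A-module. Then two idempotents of B with the same image
in B/IB are equal. -/
theorem result (A : Type u) [CommRing A] (I : Ideal A)
    (hI : I ≤ Ideal.jacobson ⊥) (B : Type u) [CommRing B] [Algebra A B] [Module.Finite A B] :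
    Set.InjOn (Ideal.Quotient.mk (Ideal.map (algebraMap A B) I)) {e : B | IsIdempotentElem e} := by
  intro e he e' he' hee'
  simp only [Set.mem_ofPred_eq] at he he'
  have hx : e - e' ∈ Ideal.map (algebraMap A B) I := Ideal.Quotient.eq.mp hee'
  set x := e - e' with hxdef
  have hx3 : x * x * x = x := by
    have h1 : e * e = e := he
    have h2 : e' * e' = e' := he'
    rw [hxdef]
    linear_combination (e + 1 - 3 * e') * h1 + (3 * e - e' - 1) * h2
  -- the `A`-submodule `xB`
  let N : Submodule A B := LinearMap.range (LinearMap.mulLeft A x)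
  have hNfg : N.FG := by
    have : N = Submodule.map (LinearMap.mulLeft A x) ⊤ := by
      rw [Submodule.map_top]
    rw [this]
    exact Submodule.FG.map _ Module.Finite.fg_top
  have hmul : ∀ (b : B) (n : B), n ∈ N → b * n ∈ N := by
    rintro b _ ⟨c, rfl⟩
    exact ⟨b * c, by simp only [LinearMap.mulLeft_apply]; ring⟩
  -- elements of `IB` multiply `N` into `I • N`
  have hIB : ∀ y ∈ Ideal.map (algebraMap A B) I, ∀ n ∈ N, y * n ∈ I • N := by
    intro y hy
    rw [Ideal.map] at hy
    induction hy using Submodule.span_induction with
    | mem y hy =>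
      obtain ⟨a, ha, rfl⟩ := hy
      intro n hn
      rw [← Algebra.smul_def]
      exact Submodule.smul_mem_smul ha hn
    | zero => intro n _; rw [zero_mul]; exact Submodule.zero_mem _
    | add y z _ _ hy hz =>
      intro n hn
      rw [add_mul]
      exact Submodule.add_mem _ (hy n hn) (hz n hn)
    | smul b y _ hy =>
      intro n hn
      rw [smul_eq_mul, mul_assoc, mul_comm y n, ← mul_assoc, mul_comm (b * n) y]
      exact hy _ (hmul b n hn)
  have hle : N ≤ I • N := by
    rintro _ ⟨c, rfl⟩
    have h1 : (LinearMap.mulLeft A x) c = (x * x) * (x * c) := by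
      simp only [LinearMap.mulLeft_apply]
      rw [← mul_assoc, hx3]
    rw [h1]
    exact hIB _ (Ideal.mul_mem_left _ _ hx) _ ⟨c, rfl⟩
  have hN : N = ⊥ := Submodule.eq_bot_of_le_smul_of_le_jacobson_bot I N hNfg hle hI
  have hxN : x ∈ N := ⟨1, by simp⟩
  rw [hN, Submodule.mem_bot] at hxN
  exact sub_eq_zero.mp hxN

end Groth.Agent.S17981
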