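import Groth.Statements.S6086
-- import your own Groth.Agent.* helpers here
import Mathlib
import Groth.Agent.Lib.Helper22LimBC
import Groth.Agent.Lib.LeadChowTower

set_option autoImplicit false
universe u
open CategoryTheory CategoryTheory.Limits MonoidalCategory CartesianMonoidalCategory MonObj GrpObj AlgebraicGeometry
open SGA3

namespace Groth.Agent.S6086

set_option linter.style.haveILetI false

open Groth.Agent.Lib.Helper22.LimBC

section formal

theorem isMonHom_of_mul_hom {C : Type*} [Category C] [CartesianMonoidalCategory C] {A B : C}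
    [GrpObj A] [GrpObj B] (h : A ⟶ B) (hmul : μ[A] ≫ h = (h ⊗ₘ h) ≫ μ[B]) : IsMonHom h where
  one_hom := by
    have h1 : (1 : 𝟙_ C ⟶ A) = η := by
      rw [Hom.one_def, toUnit_unique (toUnit _) (𝟙 _), Category.id_comp]
    have h1' : (1 : 𝟙_ C ⟶ B) = η := by
      rw [Hom.one_def, toUnit_unique (toUnit _) (𝟙 _), Category.id_comp]
    have hx : (η ≫ h) * (η ≫ h) = (η ≫ h) * 1 := by
      rw [_root_.mul_one, Hom.mul_def, ← lift_map_assoc, ← hmul, ← Category.assoc, ← Hom.mul_def,
        ← h1, _root_.mul_one]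
    rw [← h1']
    exact mul_left_cancel hx
  mul_hom := hmul

variable {S S' : Scheme.{u}} (g : S' ⟶ S) {G H : Over S} [GrpObj G] [GrpObj H]

theorem map_mul_of_isMonHom (w : G ⟶ H) (hw : IsMonHom ((Over.pullback g).map w)) :
    (Over.pullback g).map (μ[G] ≫ w) = (Over.pullback g).map ((w ⊗ₘ w) ≫ μ[H]) := by
  have h : μ[Red.bc g G] ≫ (Over.pullback g).map w =
      ((Over.pullback g).map w ⊗ₘ (Over.pullback g).map w) ≫ μ[Red.bc g H] := hw.mul_hom
  rw [Functor.obj.μ_def, Functor.obj.μ_def, Category.assoc,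
    Functor.LaxMonoidal.μ_natural_assoc, ← Functor.map_comp, ← Functor.map_comp] at h
  exact (cancel_epi _).mp h

theorem mul_hom_of_map_mul (w : G ⟶ H)
    (h : (Over.pullback g).map (μ[G] ≫ w) = (Over.pullback g).map ((w ⊗ₘ w) ≫ μ[H])) :
    μ[Red.bc g G] ≫ (Over.pullback g).map w =
      ((Over.pullback g).map w ⊗ₘ (Over.pullback g).map w) ≫ μ[Red.bc g H] := by
  rw [Functor.obj.μ_def, Functor.obj.μ_def, Category.assoc,
    Functor.LaxMonoidal.μ_natural_assoc, ← Functor.map_comp, ← Functor.map_comp, h]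

lemma alpha_eq {S S' S'' : Scheme.{u}} (f : S'' ⟶ S') (g : S' ⟶ S) {d : S'' ⟶ S} (h : f ≫ g = d)
    (X : Over S) :
    ((Over.pullbackComp f g).app X).symm ≪≫ eqToIso (congrArg (fun φ => Red.bc φ X) h) =
      ActBC.bcCompIso f g X h := by
  ext1
  exact Groth.Agent.Lib.LeadChowTower.pullbackComp_inv_eqToHom f g h X

end formal

section geom

variable {I : Type u} [SmallCategory I] (D : I ⥤ Scheme.{u}) (c : Cone D)

/-- the projection `X ×_{S_j} S ⟶ X ×_{S_j} S_i`. -/
noncomputable def proj {i j : I} (f : i ⟶ j) (X : Over (D.obj j)) :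
    pullback X.hom (c.π.app j) ⟶ pullback X.hom (D.map f) :=
  pullback.lift (pullback.fst _ _) (pullback.snd _ _ ≫ c.π.app i)
    (by rw [pullback.condition, Category.assoc, c.w])

@[reassoc] lemma proj_fst {i j : I} (f : i ⟶ j) (X : Over (D.obj j)) :
    proj D c f X ≫ pullback.fst X.hom (D.map f) = pullback.fst X.hom (c.π.app j) :=
  pullback.lift_fst _ _ _

@[reassoc] lemma proj_snd {i j : I} (f : i ⟶ j) (X : Over (D.obj j)) :
    proj D c f X ≫ pullback.snd X.hom (D.map f) = pullback.snd X.hom (c.π.app j) ≫ c.π.app i :=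
  pullback.lift_snd _ _ _

@[reassoc] lemma bcCompIso_proj {i j : I} (f : i ⟶ j) (X : Over (D.obj j)) :
    (ActBC.bcCompIso (c.π.app i) (D.map f) X (c.w f)).hom.left ≫ proj D c f X =
      pullback.fst (Red.bc (D.map f) X).hom (c.π.app i) := by
  apply pullback.hom_ext
  · rw [Category.assoc, proj_fst, ActBC.bcCompIso_hom_left_fst]
  · rw [Category.assoc, proj_snd, ActBC.bcCompIso_hom_left_snd_assoc]
    exact pullback.condition.symm

lemma compat_of_proj {i j : I} (f : i ⟶ j) (X Y : Over (D.obj j))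
    (u : Red.bc (c.π.app j) X ⟶ Red.bc (c.π.app j) Y)
    (w : Red.bc (D.map f) X ⟶ Red.bc (D.map f) Y)
    (hw : proj D c f X ≫ w.left ≫ pullback.fst Y.hom (D.map f) =
      u.left ≫ pullback.fst Y.hom (c.π.app j)) :
    (Over.pullback (c.π.app i)).map w =
      (ActBC.bcCompIso (c.π.app i) (D.map f) X (c.w f)).hom ≫ u ≫
        (ActBC.bcCompIso (c.π.app i) (D.map f) Y (c.w f)).inv := by
  rw [← Category.assoc, Iso.eq_comp_inv]
  ext
  apply pullback.hom_ext
  · rw [Over.comp_left, Over.comp_left, Category.assoc, Category.assoc,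
      ActBC.bcCompIso_hom_left_fst, ActBC.pullback_map_left_fst_assoc, ← hw, bcCompIso_proj_assoc]
  · exact (Over.w _).trans (Over.w _).symm

/-- transport of a morphism at stage `i` to a later stage `i'`. -/
noncomputable def transport {i' i j : I} (g : i' ⟶ i) (f : i ⟶ j) {X Y : Over (D.obj j)}
    (w : Red.bc (D.map f) X ⟶ Red.bc (D.map f) Y) :
    Red.bc (D.map (g ≫ f)) X ⟶ Red.bc (D.map (g ≫ f)) Y :=
  (ActBC.bcCompIso (D.map g) (D.map f) X (D.map_comp g f).symm).inv ≫
    (Over.pullback (D.map g)).map w ≫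
    (ActBC.bcCompIso (D.map g) (D.map f) Y (D.map_comp g f).symm).hom

lemma proj_transport {i' i j : I} (g : i' ⟶ i) (f : i ⟶ j) {X Y : Over (D.obj j)}
    (w : Red.bc (D.map f) X ⟶ Red.bc (D.map f) Y) :
    proj D c (g ≫ f) X ≫ (transport D g f w).left ≫ pullback.fst Y.hom (D.map (g ≫ f)) =
      proj D c f X ≫ w.left ≫ pullback.fst Y.hom (D.map f) := by
  have e1 : (ActBC.bcCompIso (D.map g) (D.map f) X (D.map_comp g f).symm).inv.left ≫
      (ActBC.bcCompIso (D.map g) (D.map f) X (D.map_comp g f).symm).hom.left = 𝟙 _ := by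
    rw [← Over.comp_left, Iso.inv_hom_id]; rfl
  have hm : proj D c (g ≫ f) X ≫
      (ActBC.bcCompIso (D.map g) (D.map f) X (D.map_comp g f).symm).inv.left ≫
      pullback.fst (Red.bc (D.map f) X).hom (D.map g) = proj D c f X := by
    apply pullback.hom_ext
    · rw [Category.assoc, Category.assoc,
        ← ActBC.bcCompIso_hom_left_fst (D.map g) (D.map f) X (D.map_comp g f).symm,
        reassoc_of% e1, proj_fst, proj_fst]
    · rw [Category.assoc, Category.assoc]
      have h2 : pullback.fst (Red.bc (D.map f) X).hom (D.map g) ≫ pullback.snd X.hom (D.map f) =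
          pullback.snd (Red.bc (D.map f) X).hom (D.map g) ≫ D.map g := pullback.condition
      rw [h2, ← ActBC.bcCompIso_hom_left_snd_assoc (D.map g) (D.map f) X (D.map_comp g f).symm,
        reassoc_of% e1, proj_snd_assoc, proj_snd, c.w]
  show proj D c (g ≫ f) X ≫
    ((ActBC.bcCompIso (D.map g) (D.map f) X (D.map_comp g f).symm).inv.left ≫
      ((Over.pullback (D.map g)).map w).left ≫
      (ActBC.bcCompIso (D.map g) (D.map f) Y (D.map_comp g f).symm).hom.left) ≫
      pullback.fst Y.hom (D.map (g ≫ f)) = _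
  rw [Category.assoc, Category.assoc, ActBC.bcCompIso_hom_left_fst,
    ActBC.pullback_map_left_fst_assoc, reassoc_of% hm]

variable [IsCofiltered I] (hc : IsLimit c) [∀ (i j : I) (a : i ⟶ j), IsAffineHom (D.map a)]

include hc in
theorem exists_descent (j : I) (X Y : Over (D.obj j)) [CompactSpace X.left]
    [QuasiSeparatedSpace X.left] [LocallyOfFinitePresentation Y.hom]
    (u : Red.bc (c.π.app j) X ⟶ Red.bc (c.π.app j) Y) :
    ∃ (i : I) (f : i ⟶ j) (w : Red.bc (D.map f) X ⟶ Red.bc (D.map f) Y),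
      proj D c f X ≫ w.left ≫ pullback.fst Y.hom (D.map f) =
        u.left ≫ pullback.fst Y.hom (c.π.app j) := by
  have inst : ∀ {i j : I} (a : i ⟶ j), IsAffineHom (D.map a) := fun a => inferInstance
  have hP := IsPullback.of_hasPullback X.hom (c.π.app j)
  let t' : bcDiagram D j X.hom ⟶ (Functor.const _).obj (D.obj j) :=
    { app := fun k => dFst D j X.hom k ≫ X.hom
      naturality := fun k l f => by
        show (bcDiagram D j X.hom).map f ≫ dFst D j X.hom l ≫ X.hom =
          (dFst D j X.hom k ≫ X.hom) ≫ 𝟙 _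
        rw [map_dFst_assoc, Category.comp_id] }
  let a : (bcCone j hP).pt ⟶ Y.left := u.left ≫ pullback.fst Y.hom (c.π.app j)
  have hu : u.left ≫ pullback.snd Y.hom (c.π.app j) = pullback.snd X.hom (c.π.app j) := Over.w u
  have ha : (bcCone j hP).π ≫ t' = (Functor.const _).map (a ≫ Y.hom) := by
    ext k
    change bcπ j hP k ≫ dFst D j X.hom k ≫ X.hom =
      (u.left ≫ pullback.fst Y.hom (c.π.app j)) ≫ Y.hom
    rw [bcπ_fst_assoc, Category.assoc, pullback.condition, pullback.condition, reassoc_of% hu]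
  obtain ⟨k, g, hg1, hg2⟩ := Scheme.exists_π_app_comp_eq_of_locallyOfFinitePresentation
    (bcDiagram D j X.hom) t' Y.hom (bcCone j hP) (isLimitBcCone j hP hc) a ha
  let g' : pullback X.hom (D.map k.hom) ⟶ Y.left := g
  have hg1' : proj D c k.hom X ≫ g' = u.left ≫ pullback.fst Y.hom (c.π.app j) := hg1
  have hg2' : g' ≫ Y.hom = pullback.fst X.hom (D.map k.hom) ≫ X.hom := hg2
  refine ⟨k.left, k.hom, Over.homMk (pullback.lift g' (pullback.snd _ _)
    (by rw [hg2', pullback.condition])) (pullback.lift_snd _ _ _), ?_⟩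
  show proj D c k.hom X ≫ pullback.lift g' (pullback.snd _ _) _ ≫
    pullback.fst Y.hom (D.map k.hom) = _
  rw [pullback.lift_fst]
  exact hg1'

include hc in
theorem inj_stage (i : I) (X Y : Over (D.obj i)) [CompactSpace X.left]
    [LocallyOfFiniteType Y.hom] (u₁ u₂ : X ⟶ Y)
    (h : (Over.pullback (c.π.app i)).map u₁ = (Over.pullback (c.π.app i)).map u₂) :
    ∃ (i' : I) (g : i' ⟶ i),
      (Over.pullback (D.map g)).map u₁ = (Over.pullback (D.map g)).map u₂ := by
  have inst : ∀ {i j : I} (a : i ⟶ j), IsAffineHom (D.map a) := fun a => inferInstance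
  have hP := IsPullback.of_hasPullback X.hom (c.π.app i)
  let t' : bcDiagram D i X.hom ⟶ (Functor.const _).obj (D.obj i) :=
    { app := fun k => dFst D i X.hom k ≫ X.hom
      naturality := fun k l f => by
        show (bcDiagram D i X.hom).map f ≫ dFst D i X.hom l ≫ X.hom =
          (dFst D i X.hom k ≫ X.hom) ≫ 𝟙 _
        rw [map_dFst_assoc, Category.comp_id] }
  let k₀ : Over i := Over.mk (𝟙 i)
  have h1 : pullback.fst X.hom (c.π.app i) ≫ u₁.left = pullback.fst X.hom (c.π.app i) ≫ u₂.left := by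
    rw [← ActBC.pullback_map_left_fst, ← ActBC.pullback_map_left_fst, h]
  obtain ⟨k, hk, heq⟩ := Scheme.exists_hom_comp_eq_comp_of_locallyOfFiniteType
    (bcDiagram D i X.hom) t' Y.hom (bcCone i hP) (isLimitBcCone i hP hc)
    (i := k₀) (dFst D i X.hom k₀ ≫ u₁.left) (dFst D i X.hom k₀ ≫ u₂.left)
    (by
      show dFst D i X.hom k₀ ≫ X.hom = (dFst D i X.hom k₀ ≫ u₁.left) ≫ Y.hom
      rw [Category.assoc, Over.w])
    (by
      show dFst D i X.hom k₀ ≫ X.hom = (dFst D i X.hom k₀ ≫ u₂.left) ≫ Y.hom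
      rw [Category.assoc, Over.w])
    (by
      show bcπ i hP k₀ ≫ dFst D i X.hom k₀ ≫ u₁.left = bcπ i hP k₀ ≫ dFst D i X.hom k₀ ≫ u₂.left
      rw [bcπ_fst_assoc, bcπ_fst_assoc, h1])
  rw [map_dFst_assoc, map_dFst_assoc] at heq
  have heq' : pullback.fst X.hom (D.map k.hom) ≫ u₁.left =
      pullback.fst X.hom (D.map k.hom) ≫ u₂.left := heq
  refine ⟨k.left, k.hom, ?_⟩
  ext
  apply pullback.hom_ext
  · rw [ActBC.pullback_map_left_fst, ActBC.pullback_map_left_fst, heq']
  · exact (Over.w _).trans (Over.w _).symm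

end geom

/-- Let S be the limit of a cofiltered system (S_i) of quasi-compact quasi-separated schemes with affine
transition morphisms, j an index and G_j, H_j two S_j-group schemes of finite presentation over S_j;
for i over j write G_i, H_i for the base changes to S_i and G, H for the base changes to S. Then the
canonical map colim_i Hom_{S_i-gr}(G_i, H_i) → Hom_{S-gr}(G, H) is bijective: (surjectivity) every
homomorphism u : G → H of S-group schemes is, up to the canonical identifications (G_i) ×_{S_i} S ≅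
G and (H_i) ×_{S_i} S ≅ H, the base change of a homomorphism u_i : G_i → H_i for some index i over
j; (injectivity) two homomorphisms G_i → H_i whose base changes to S coincide already coincide after
base change to S_{i'} for some index i' over i. (The published setting takes all S_i affine over a
fixed quasi-compact quasi-separated S_0; this row allows any cofiltered system of quasi-compact
quasi-separated schemes with affine transition morphisms.) -/
theorem result {I : Type u} [SmallCategory I] [IsCofiltered I]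
    (D : I ⥤ Scheme.{u}) (c : Limits.Cone D) (hc : Limits.IsLimit c)
    [∀ (i i' : I) (f : i ⟶ i'), IsAffineHom (D.map f)] [∀ i, CompactSpace (D.obj i)] [∀ i, QuasiSeparatedSpace (D.obj i)]
    (j : I) (Gj Hj : Over (D.obj j)) [GrpObj Gj] [GrpObj Hj]
    [LocallyOfFinitePresentation Gj.hom] [QuasiCompact Gj.hom] [QuasiSeparated Gj.hom]
    [LocallyOfFinitePresentation Hj.hom] [QuasiCompact Hj.hom] [QuasiSeparated Hj.hom] :
    (∀ (u : Red.bc (c.π.app j) Gj ⟶ Red.bc (c.π.app j) Hj), IsMonHom u →
      ∃ (i : I) (f : i ⟶ j) (ui : Red.bc (D.map f) Gj ⟶ Red.bc (D.map f) Hj), IsMonHom ui ∧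
        (Over.pullback (c.π.app i)).map ui = (((Over.pullbackComp (c.π.app i) (D.map f)).app Gj).symm ≪≫ eqToIso (congrArg (fun g => Red.bc g Gj) (c.w f))).hom ≫ u ≫ (((Over.pullbackComp (c.π.app i) (D.map f)).app Hj).symm ≪≫ eqToIso (congrArg (fun g => Red.bc g Hj) (c.w f))).inv) ∧
    (∀ (i : I) (f : i ⟶ j) (u₁ u₂ : Red.bc (D.map f) Gj ⟶ Red.bc (D.map f) Hj), IsMonHom u₁ → IsMonHom u₂ →
      (Over.pullback (c.π.app i)).map u₁ = (Over.pullback (c.π.app i)).map u₂ →
      ∃ (i' : I) (g : i' ⟶ i), (Over.pullback (D.map g)).map u₁ = (Over.pullback (D.map g)).map u₂) := by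
  haveI : CompactSpace Gj.left := QuasiCompact.compactSpace_of_compactSpace Gj.hom
  haveI : QuasiSeparatedSpace Gj.left := quasiSeparatedSpace_of_quasiSeparated Gj.hom
  have hqc : ∀ {i : I} (f : i ⟶ j), CompactSpace (Red.bc (D.map f) Gj).left := by
    intro i f
    haveI : QuasiCompact (Red.bc (D.map f) Gj).hom := by
      show QuasiCompact (pullback.snd Gj.hom (D.map f)); infer_instance
    exact QuasiCompact.compactSpace_of_compactSpace (Red.bc (D.map f) Gj).hom
  have hlft : ∀ {i : I} (f : i ⟶ j), LocallyOfFiniteType (Red.bc (D.map f) Hj).hom := by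
    intro i f
    show LocallyOfFiniteType (pullback.snd Hj.hom (D.map f)); infer_instance
  refine ⟨?_, ?_⟩
  · intro u hu
    obtain ⟨i, f, w, hw⟩ := exists_descent D c hc j Gj Hj u
    have hcompat := compat_of_proj D c f Gj Hj u w hw
    have hmon : IsMonHom ((Over.pullback (c.π.app i)).map w) := by
      rw [hcompat]; infer_instance
    have hmap := map_mul_of_isMonHom (c.π.app i) w hmon
    haveI := hqc f
    haveI := hlft f
    haveI : QuasiCompact (Red.bc (D.map f) Gj).hom := by
      show QuasiCompact (pullback.snd Gj.hom (D.map f)); infer_instance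
    haveI : CompactSpace (Red.bc (D.map f) Gj ⊗ Red.bc (D.map f) Gj).left := by
      show CompactSpace ↥(pullback (Red.bc (D.map f) Gj).hom (Red.bc (D.map f) Gj).hom)
      exact QuasiCompact.compactSpace_of_compactSpace
        (pullback.fst (Red.bc (D.map f) Gj).hom (Red.bc (D.map f) Gj).hom)
    obtain ⟨i', g, hg⟩ := inj_stage D c hc i _ _ _ _ hmap
    have hmul := mul_hom_of_map_mul (D.map g) w hg
    haveI hmon' : IsMonHom ((Over.pullback (D.map g)).map w) := isMonHom_of_mul_hom _ hmul
    have hw'mon : IsMonHom (transport D g f w) := by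
      unfold transport; infer_instance
    have hw' : proj D c (g ≫ f) Gj ≫ (transport D g f w).left ≫
        pullback.fst Hj.hom (D.map (g ≫ f)) = u.left ≫ pullback.fst Hj.hom (c.π.app j) :=
      (proj_transport D c g f w).trans hw
    refine ⟨i', g ≫ f, transport D g f w, hw'mon, ?_⟩
    rw [alpha_eq, alpha_eq]
    exact compat_of_proj D c (g ≫ f) Gj Hj u _ hw'
  · intro i f u₁ u₂ _ _ h
    haveI := hqc f
    haveI := hlft f
    exact inj_stage D c hc i _ _ u₁ u₂ h

end Groth.Agent.S6086
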