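import Groth.Statements.S1998
import Mathlib

set_option autoImplicit false
universe u
open EtAlg

namespace Groth.Agent.S1998

section Dev
open Polynomial
set_option linter.unusedSectionVars false
theorem eval_map_hom {X Y : Type*} [CommRing X] [CommRing Y] (h : X →+* Y) (g : X[X]) (x : X) :
    (g.map h).eval (h x) = h (g.eval x) := by
  rw [eval_map, eval₂_hom]

section DL
variable {ι : Type u} [Preorder ι] [IsDirected ι (· ≤ ·)] [Nonempty ι]
    (G : ι → Type u) [∀ i, CommRing (G i)] (f : ∀ i j, i ≤ j → G i →+* G j)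
    [DirectedSystem G fun i j h => f i j h] (I : ∀ i, Ideal (G i))
    (hI : ∀ i j (h : i ≤ j), (I i).map (f i j h) ≤ I j)

local notation "AA" => Ring.DirectLimit G fun i j h => f i j h
local notation "oof" => Ring.DirectLimit.of G (fun i j h => f i j h)

theorem ff_map_map {i j k : ι} (hij : i ≤ j) (hjk : j ≤ k) (x : G i) :
    f j k hjk (f i j hij x) = f i k (hij.trans hjk) x :=
  DirectedSystem.map_map (f := fun i j h => f i j h) hij hjk x

theorem eq_exact {i j : ι} (x : G i) (y : G j) (h : oof i x = oof j y) :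
    ∃ (m : ι) (hi : i ≤ m) (hj : j ≤ m), f i m hi x = f j m hj y := by
  obtain ⟨k, hik, hjk⟩ := exists_ge_ge i j
  have h0 : oof k (f i k hik x - f j k hjk y) = 0 := by
    rw [map_sub, Ring.DirectLimit.of_f, Ring.DirectLimit.of_f, h, sub_self]
  obtain ⟨m, hkm, hm⟩ := Ring.DirectLimit.of.zero_exact h0
  refine ⟨m, hik.trans hkm, hjk.trans hkm, ?_⟩
  rw [map_sub, sub_eq_zero, ff_map_map, ff_map_map] at hm
  exact hm

include hI in
theorem mem_of_le {i j : ι} (h : i ≤ j) (x : G i) (hx : x ∈ I i) : f i j h x ∈ I j :=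
  hI i j h (Ideal.mem_map_of_mem _ hx)

include hI in
theorem mem_I (x : AA) (hx : x ∈ ⨆ i, (I i).map (oof i)) :
    ∃ (j : ι) (y : G j), y ∈ I j ∧ oof j y = x := by
  have hadd : ∀ x y : AA, (∃ (j : ι) (y' : G j), y' ∈ I j ∧ oof j y' = x) →
      (∃ (j : ι) (y' : G j), y' ∈ I j ∧ oof j y' = y) →
      ∃ (j : ι) (y' : G j), y' ∈ I j ∧ oof j y' = x + y := by
    rintro _ _ ⟨j, y, hy, rfl⟩ ⟨j', y', hy', rfl⟩
    obtain ⟨m, hjm, hj'm⟩ := exists_ge_ge j j'
    refine ⟨m, f j m hjm y + f j' m hj'm y', Ideal.add_mem _ (mem_of_le G f I hI hjm y hy)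
      (mem_of_le G f I hI hj'm y' hy'), ?_⟩
    rw [map_add, Ring.DirectLimit.of_f, Ring.DirectLimit.of_f]
  have hzero : ∃ (j : ι) (y' : G j), y' ∈ I j ∧ oof j y' = (0 : AA) :=
    ⟨Classical.arbitrary ι, 0, Ideal.zero_mem _, map_zero _⟩
  refine Submodule.iSup_induction (fun i => (I i).map (oof i))
    (motive := fun x => ∃ (j : ι) (y : G j), y ∈ I j ∧ oof j y = x) hx ?_ hzero hadd
  intro i x hx
  refine Submodule.span_induction (p := fun x _ => ∃ (j : ι) (y : G j), y ∈ I j ∧ oof j y = x)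
    ?_ hzero (fun x y _ _ => hadd x y) ?_ hx
  · rintro _ ⟨y, hy, rfl⟩
    exact ⟨i, y, hy, rfl⟩
  · rintro a _ _ ⟨j, y, hy, rfl⟩
    obtain ⟨l, b, rfl⟩ := Ring.DirectLimit.exists_of a
    obtain ⟨m, hlm, hjm⟩ := exists_ge_ge l j
    refine ⟨m, f l m hlm b * f j m hjm y, Ideal.mul_mem_left _ _ (mem_of_le G f I hI hjm y hy), ?_⟩
    rw [map_mul, Ring.DirectLimit.of_f, Ring.DirectLimit.of_f, smul_eq_mul]

include hI in
theorem key {j : ι} (y : G j) (hy : oof j y ∈ ⨆ i, (I i).map (oof i)) :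
    ∃ (m : ι) (h : j ≤ m), f j m h y ∈ I m := by
  obtain ⟨l, z, hz, hzy⟩ := mem_I G f I hI _ hy
  obtain ⟨m, hl, hj, hm⟩ := eq_exact G f z y hzy
  exact ⟨m, hj, hm ▸ mem_of_le G f I hI hl z hz⟩

include hI in
theorem main (hh : ∀ i, HenselianRing (G i) (I i)) :
    HenselianRing (Ring.DirectLimit G fun i j h => f i j h)
      (⨆ i, (I i).map (Ring.DirectLimit.of G (fun i j h => f i j h) i)) := by
  refine ⟨?_, ?_⟩
  · intro x hx
    rw [Ideal.mem_jacobson_bot]
    intro y
    obtain ⟨j, x', hx', rfl⟩ := mem_I G f I hI x hx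
    obtain ⟨l, y', rfl⟩ := Ring.DirectLimit.exists_of y
    obtain ⟨m, hjm, hlm⟩ := exists_ge_ge j l
    have h1 : IsUnit (f j m hjm x' * f l m hlm y' + 1) :=
      Ideal.mem_jacobson_bot.mp ((hh m).jac (mem_of_le G f I hI hjm x' hx')) _
    have h2 := h1.map (oof m)
    rwa [map_add, map_mul, map_one, Ring.DirectLimit.of_f, Ring.DirectLimit.of_f] at h2
  · intro F hF a₀ h₁ h₂
    -- descend F to a monic polynomial
    obtain ⟨i₁, p₁, hp₁⟩ := Ring.DirectLimit.Polynomial.exists_of F
    set n := F.natDegree with hn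
    set q₁ : (G i₁)[X] := X ^ n + ∑ k ∈ Finset.range n, C (p₁.coeff k) * X ^ k with hq₁
    have hq₁monic : q₁.Monic := by
      apply monic_X_pow_add
      refine (degree_sum_le _ _).trans_lt ?_
      rw [Finset.sup_lt_iff (by exact WithBot.bot_lt_coe n)]
      intro k hk
      exact (degree_C_mul_X_pow_le k _).trans_lt (by exact_mod_cast Finset.mem_range.mp hk)
    have hq₁map : q₁.map (oof i₁) = F := by
      rw [hq₁, Polynomial.map_add, Polynomial.map_pow, map_X, Polynomial.map_sum]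
      conv_rhs => rw [hF.as_sum]
      congr 1
      apply Finset.sum_congr rfl
      intro k _
      rw [Polynomial.map_mul, map_C, Polynomial.map_pow, map_X, ← coeff_map, hp₁]
    obtain ⟨b, hb⟩ := h₂.exists_right_inv
    obtain ⟨b, rfl⟩ := Ideal.Quotient.mk_surjective b
    have hb' : F.derivative.eval a₀ * b - 1 ∈ ⨆ i, (I i).map (oof i) := by
      rw [← Ideal.Quotient.eq_zero_iff_mem, map_sub, map_mul, hb, map_one, sub_self]
    obtain ⟨i₂, a', rfl⟩ := Ring.DirectLimit.exists_of a₀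
    obtain ⟨i₃, b', rfl⟩ := Ring.DirectLimit.exists_of b
    obtain ⟨j', h1j', h2j'⟩ := exists_ge_ge i₁ i₂
    obtain ⟨j, hj'j, h3j⟩ := exists_ge_ge j' i₃
    have h1j := h1j'.trans hj'j
    have h2j := h2j'.trans hj'j
    set Fj := q₁.map (f i₁ j h1j) with hFj
    set aj := f i₂ j h2j a' with haj
    set bj := f i₃ j h3j b' with hbj
    have hcomp : ∀ {i m : ι} (h : i ≤ m), (oof m).comp (f i m h) = oof i := fun h =>
      RingHom.ext (fun x => Ring.DirectLimit.of_f h x)
    have hFjmap : Fj.map (oof j) = F := by rw [hFj, Polynomial.map_map, hcomp, hq₁map]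
    have haj' : oof j aj = oof i₂ a' := Ring.DirectLimit.of_f _ _
    have hbj' : oof j bj = oof i₃ b' := Ring.DirectLimit.of_f _ _
    have hB : oof j (Fj.eval aj) ∈ ⨆ i, (I i).map (oof i) := by
      rw [← eval_map_hom, hFjmap, haj']; exact h₁
    have hC : oof j (Fj.derivative.eval aj * bj - 1) ∈ ⨆ i, (I i).map (oof i) := by
      rw [map_sub, map_mul, map_one, ← eval_map_hom, ← derivative_map, hFjmap, haj', hbj']
      exact hb'
    obtain ⟨m₁, hm₁, hB'⟩ := key G f I hI _ hB
    obtain ⟨m₂, hm₂, hC'⟩ := key G f I hI _ hC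
    obtain ⟨m, h1m, h2m⟩ := exists_ge_ge m₁ m₂
    have hjm := hm₁.trans h1m
    set Fm := Fj.map (f j m hjm) with hFm
    set am := f j m hjm aj with ham
    set bm := f j m hjm bj with hbm
    have hBm : Fm.eval am ∈ I m := by
      rw [hFm, ham, eval_map_hom, ← ff_map_map G f hm₁ h1m]
      exact mem_of_le G f I hI h1m _ hB'
    have hCm : Fm.derivative.eval am * bm - 1 ∈ I m := by
      have : Fm.derivative.eval am * bm - 1 = f j m hjm (Fj.derivative.eval aj * bj - 1) := by
        rw [hFm, ham, hbm, derivative_map, eval_map_hom, map_sub, map_mul, map_one]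
      rw [this, ← ff_map_map G f hm₂ h2m]
      exact mem_of_le G f I hI h2m _ hC'
    have hunit : IsUnit (Ideal.Quotient.mk (I m) (Fm.derivative.eval am)) := by
      refine IsUnit.of_mul_eq_one (Ideal.Quotient.mk (I m) bm) ?_
      rw [← map_mul, ← sub_eq_zero, ← map_one (Ideal.Quotient.mk (I m)), ← map_sub,
        Ideal.Quotient.eq_zero_iff_mem]
      exact hCm
    obtain ⟨r, hr1, hr2⟩ := (hh m).is_henselian Fm (by rw [hFm, hFj]; exact (hq₁monic.map _).map _)
      am hBm hunit
    have hFmmap : Fm.map (oof m) = F := by rw [hFm, Polynomial.map_map, hcomp, hFjmap]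
    refine ⟨oof m r, ?_, ?_⟩
    · rw [IsRoot, ← hFmmap, eval_map_hom, hr1, map_zero]
    · have : oof m r - oof i₂ a' = oof m (r - am) := by
        rw [map_sub, ham, Ring.DirectLimit.of_f, haj']
      rw [this]
      exact (le_iSup (fun i => (I i).map (oof i)) m) (Ideal.mem_map_of_mem _ hr2)

end DL
end Dev

/-- Let (A_j, I_j) be a directed system of henselian pairs (ring maps A_j -> A_k for j ≤ k carrying I_j
into I_k). Then the direct limit A of the A_j together with the ideal generated by the images of the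
I_j is a henselian pair. -/
theorem result {ι : Type u} [Preorder ι] [IsDirected ι (· ≤ ·)] [Nonempty ι]
    (G : ι → Type u) [∀ i, CommRing (G i)] (f : ∀ i j, i ≤ j → G i →+* G j)
    [DirectedSystem G fun i j h => f i j h] (I : ∀ i, Ideal (G i))
    (hI : ∀ i j (h : i ≤ j), (I i).map (f i j h) ≤ I j) (hh : ∀ i, HenselianRing (G i) (I i)) :
    HenselianRing (Ring.DirectLimit G fun i j h => f i j h)
      (⨆ i, (I i).map (Ring.DirectLimit.of G (fun i j h => f i j h) i)) := by
  exact main G f I hI hh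

end Groth.Agent.S1998
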