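import Groth.Statements.S9191
-- import your own Groth.Agent.* helpers here
import Mathlib
import Groth.Agent.S2075
import Groth.Agent.Lib.Helper26LimIso

set_option autoImplicit false
universe u
open CategoryTheory AlgebraicGeometry
open Lim

namespace Groth.Agent.S9191

open Limits TensorProduct Groth.Agent.Lib.Helper26.LimDescend Groth.Agent.Lib.Helper22.LimBC
  Groth.Agent.Lib.Helper26.LimIso

set_option backward.isDefEq.respectTransparency.types false in
theorem isLocalSrc_smooth : IsZariskiLocalAtSource @Smooth.{u} := inferInstance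

set_option backward.isDefEq.respectTransparency.types false in
theorem isLocalTgt_smooth : IsZariskiLocalAtTarget @Smooth.{u} := inferInstance

set_option backward.isDefEq.respectTransparency.types false in
theorem respectsRight_smooth : MorphismProperty.RespectsRight @Smooth.{u} @IsOpenImmersion :=
  inferInstance

/-- A smooth morphism of affine schemes is, as an arrow, a base change of a smooth morphism
`Spec B₀ ⟶ Spec A₀` with `A₀` a finitely generated `ℤ`-subalgebra of `Γ(Y)`. -/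
theorem exists_noetherian_model {X Y : Scheme.{u}} [IsAffine X] [IsAffine Y] (f : X ⟶ Y)
    [Smooth f] :
    ∃ (A₀ : Subalgebra ℤ Γ(Y, ⊤)) (Z : Scheme.{u}) (ζ : Z ⟶ Spec (CommRingCat.of A₀))
      (xZ : X ⟶ Z), A₀.FG ∧ Smooth ζ ∧ IsAffine Z ∧
      IsPullback xZ f ζ (Y.toSpecΓ ≫ Spec.map (CommRingCat.ofHom A₀.val.toRingHom)) := by
  have hsm : RingHom.Smooth f.appTop.hom := HasRingHomProperty.appTop (P := @Smooth) f inferInstance
  algebraize [f.appTop.hom]
  obtain ⟨A₀, B₀, _, _, hfg, hB₀, ⟨e⟩⟩ := Algebra.Smooth.exists_subalgebra_fg ℤ Γ(Y, ⊤) Γ(X, ⊤)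
  let β : CommRingCat.of B₀ ⟶ Γ(X, ⊤) :=
    CommRingCat.ofHom (e.symm.toRingEquiv.toRingHom.comp
      (Algebra.TensorProduct.includeRight (R := A₀) (A := Γ(Y, ⊤)) (B := B₀)).toRingHom)
  have hpo : IsPushout (CommRingCat.ofHom (algebraMap A₀ Γ(Y, ⊤)))
      (CommRingCat.ofHom (algebraMap A₀ B₀)) f.appTop β := by
    refine (CommRingCat.isPushout_tensorProduct A₀ Γ(Y, ⊤) B₀).of_iso (Iso.refl _) (Iso.refl _)
      (Iso.refl _) e.symm.toRingEquiv.toCommRingCatIso (by simp) (by simp) ?_ ?_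
    · ext y
      show e.symm (y ⊗ₜ[A₀] (1 : B₀)) = f.appTop.hom y
      have := e.symm.commutes y
      rwa [Algebra.TensorProduct.algebraMap_apply] at this
    · ext y
      rfl
  have hpb := (isPullback_SpecMap_of_isPushout _ _ _ _ hpo).flip
  have hζ : Smooth (Spec.map (CommRingCat.ofHom (algebraMap A₀ B₀))) := by
    rw [HasRingHomProperty.Spec_iff (P := @Smooth), CommRingCat.hom_ofHom,
      RingHom.smooth_algebraMap]
    exact hB₀
  have hsq : IsPullback X.toSpecΓ f (Spec.map f.appTop) Y.toSpecΓ :=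
    IsPullback.of_horiz_isIso ⟨(Scheme.toSpecΓ_naturality f).symm⟩
  exact ⟨A₀, _, _, X.toSpecΓ ≫ Spec.map β, hfg, hζ, inferInstance, hsq.paste_horiz hpb⟩

theorem ulift_int_hom_ext {R : Type*} [Semiring R] (f g : ULift.{u} ℤ →+* R) : f = g := by
  have h : f.comp (ULift.ringEquiv.symm : ℤ ≃+* ULift.{u} ℤ).toRingHom =
      g.comp (ULift.ringEquiv.symm : ℤ ≃+* ULift.{u} ℤ).toRingHom := RingHom.ext_int _ _
  ext ⟨n⟩
  exact congr($h n)

theorem finitePresentation_ulift_int {A : Type u} [CommRing A] [Algebra.FiniteType ℤ A] :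
    ((Int.castRingHom A).comp (ULift.ringEquiv : ULift.{u} ℤ ≃+* ℤ).toRingHom).FinitePresentation := by
  have : Algebra.FinitePresentation ℤ A :=
    Algebra.FinitePresentation.of_finiteType.mp inferInstance
  have h1 : (Int.castRingHom A).FinitePresentation := by
    rw [← algebraMap_int_eq]
    exact RingHom.finitePresentation_algebraMap.mpr this
  refine h1.comp (RingHom.FinitePresentation.of_surjective _ (ULift.ringEquiv).surjective ?_)
  have : RingHom.ker (ULift.ringEquiv : ULift.{u} ℤ ≃+* ℤ).toRingHom = ⊥ :=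
    (RingHom.injective_iff_ker_eq_bot _).mp (ULift.ringEquiv).injective
  rw [this]
  exact Submodule.fg_bot

theorem affCase2_smooth {I : Type u} [SmallCategory I] [IsCofiltered I] (D : I ⥤ Scheme.{u})
    (c : Cone D) (hc : IsLimit c) [∀ {i j : I} (f : i ⟶ j), IsAffineHom (D.map f)] :
    AffCase2 D c @LocallyOfFinitePresentation @Smooth := by
  intro i₀ X₀ Y₀ _ _ f₀ g₀ hQ X Y f g qY qX hY hX hf
  have : LocallyOfFinitePresentation f₀ := hQ
  have : Smooth f := hf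
  have hπ : IsAffineHom (c.π.app i₀) := isAffineHom_π_app D c hc i₀
  have hqY : IsAffineHom qY := MorphismProperty.of_isPullback (P := @IsAffineHom) hY.flip hπ
  have hqX : IsAffineHom qX := MorphismProperty.of_isPullback (P := @IsAffineHom) hX.flip hqY
  have hYa : IsAffine Y := isAffine_of_isAffineHom qY
  have hXa : IsAffine X := isAffine_of_isAffineHom qX
  have h1 : ∀ j, IsAffine ((bcDiagram D i₀ (f₀ ≫ g₀)).obj j) := fun j => by
    show IsAffine (pullback (f₀ ≫ g₀) (D.map j.hom))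
    infer_instance
  have h2 : ∀ j, IsAffine ((bcDiagram D i₀ g₀).obj j) := fun j => by
    show IsAffine (pullback g₀ (D.map j.hom))
    infer_instance
  obtain ⟨A₀, Z, ζ, xZ, hfg, hζ, hZ, hpbX⟩ := exists_noetherian_model f
  obtain ⟨hcF⟩ := nonempty_isColimit_Γ_mapCocone (bcDiagram D i₀ g₀) (bcCone i₀ hY)
    (isLimitBcCone i₀ hY hc)
  let α : (Functor.const (Over i₀)ᵒᵖ).obj (CommRingCat.of (ULift.{u} ℤ)) ⟶
      (bcDiagram D i₀ g₀).op ⋙ Scheme.Γ :=
    { app := fun j => CommRingCat.ofHom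
        ((Int.castRingHom _).comp (ULift.ringEquiv : ULift.{u} ℤ ≃+* ℤ).toRingHom)
      naturality := fun j k a => CommRingCat.hom_ext (ulift_int_hom_ext _ _) }
  have : Algebra.FiniteType ℤ A₀ := (Subalgebra.fg_iff_finiteType A₀).mp hfg
  have hfp : (CommRingCat.ofHom
      ((Int.castRingHom A₀).comp (ULift.ringEquiv : ULift.{u} ℤ ≃+* ℤ).toRingHom)).hom.FinitePresentation := by
    rw [CommRingCat.hom_ofHom]
    exact finitePresentation_ulift_int
  obtain ⟨j₁, ψ, -, hψ⟩ := RingHom.EssFiniteType.exists_eq_comp_ι_app_of_isColimit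
    (CommRingCat.of (ULift.{u} ℤ)) ((bcDiagram D i₀ g₀).op ⋙ Scheme.Γ) α
    (CommRingCat.ofHom ((Int.castRingHom A₀).comp (ULift.ringEquiv : ULift.{u} ℤ ≃+* ℤ).toRingHom))
    (Scheme.Γ.mapCocone (bcCone i₀ hY).op) hcF hfp
    (CommRingCat.ofHom A₀.val.toRingHom) (fun i => CommRingCat.hom_ext (ulift_int_hom_ext _ _))
  obtain ⟨j, rfl⟩ : ∃ j : Over i₀, j₁ = Opposite.op j := ⟨j₁.unop, rfl⟩
  obtain ⟨ψ, hψ⟩ : ∃ ψ' : CommRingCat.of A₀ ⟶ Γ((bcDiagram D i₀ g₀).obj j, ⊤),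
      CommRingCat.ofHom A₀.val.toRingHom = ψ' ≫ (bcπ i₀ hY j).appTop := ⟨ψ, hψ⟩
  obtain ⟨w₁, hw₁⟩ : ∃ w₁ : (bcDiagram D i₀ g₀).obj j ⟶ Spec (CommRingCat.of A₀),
      bcπ i₀ hY j ≫ w₁ = Y.toSpecΓ ≫ Spec.map (CommRingCat.ofHom A₀.val.toRingHom) :=
    ⟨Scheme.toSpecΓ _ ≫ Spec.map ψ, by
      rw [hψ, Spec.map_comp, Scheme.toSpecΓ_naturality_assoc]⟩
  have hXb : IsPullback (pullback.lift xZ (f ≫ bcπ i₀ hY j)
      (by rw [Category.assoc, hw₁, hpbX.w])) f (pullback.snd ζ w₁) (bcπ i₀ hY j) := by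
    refine IsPullback.of_right ?_ (pullback.lift_snd _ _ _) (IsPullback.of_hasPullback ζ w₁)
    rw [pullback.lift_fst, hw₁]
    exact hpbX
  have hXa := isPullback_bcπ_bcMor hY hX j
  have ha1 : LocallyOfFinitePresentation (bcMor D i₀ f₀ g₀ j) :=
    MorphismProperty.of_isPullback (isPullback_bcMor D i₀ f₀ g₀ j) inferInstance
  have ha2 : IsAffineHom (bcMor D i₀ f₀ g₀ j) := isAffineHom_of_isAffine _
  have hζa : IsAffineHom ζ := isAffineHom_of_isAffine _
  obtain ⟨k, ek, hiso, hek, -⟩ := exists_iso_stage (bcDiagram D i₀ g₀)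
    (isLimitBcCone i₀ hY hc) j (bcMor D i₀ f₀ g₀ j) (pullback.snd ζ w₁) hXa hXb (𝟙 X)
    (Category.id_comp f)
  have h3 : Smooth (dSnd (bcDiagram D i₀ g₀) j (pullback.snd ζ w₁) k) :=
    MorphismProperty.of_isPullback (isPullback_d (bcDiagram D i₀ g₀) j (pullback.snd ζ w₁) k)
      (inferInstance : Smooth (pullback.snd ζ w₁))
  have h4 : Smooth (dSnd (bcDiagram D i₀ g₀) j (bcMor D i₀ f₀ g₀ j) k) := by
    rw [← hek]
    infer_instance
  exact ⟨k.left, of_two_pullbacks @Smooth (isPullback_map_bcMor D i₀ f₀ g₀ k.hom)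
    (isPullback_d (bcDiagram D i₀ g₀) j (bcMor D i₀ f₀ g₀ j) k) (𝟙 _) (Category.id_comp _) h4⟩

theorem descend_smooth {I : Type u} [SmallCategory I] [IsCofiltered I]
    (D : I ⥤ Scheme.{u}) (c : Limits.Cone D) (hc : Limits.IsLimit c)
    [∀ {i j : I} (f : i ⟶ j), IsAffineHom (D.map f)] (i₀ : I)
    {X₀ Y₀ : Scheme.{u}} (f₀ : X₀ ⟶ Y₀) (g₀ : Y₀ ⟶ D.obj i₀)
    [CompactSpace X₀] [LocallyOfFinitePresentation f₀]
    {X Y : Scheme.{u}} (f : X ⟶ Y) (g : Y ⟶ c.pt) (qY : Y ⟶ Y₀) (qX : X ⟶ X₀)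
    (hY : IsPullback qY g g₀ (c.π.app i₀)) (hX : IsPullback qX f f₀ qY) [Smooth f] :
    ∃ j : Over i₀, ∀ (k : Over i₀) (_ : k ⟶ j), Smooth (bcMor D i₀ f₀ g₀ k) := by
  have := Groth.Agent.S2075.isLocalSrc_lfp.{u}
  have := Groth.Agent.S2075.isLocalTgt_lfp.{u}
  have := isLocalSrc_smooth.{u}
  have := isLocalTgt_smooth.{u}
  have := respectsRight_smooth.{u}
  exact exists_forall_of_affCase2 (Q := @LocallyOfFinitePresentation) (P := @Smooth)
    (affCase2_smooth D c hc) i₀ f₀ g₀ inferInstance f g qY qX hY hX inferInstance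

/-- Let S = lim S_i be a cofiltered limit of schemes with affine transition morphisms, S_{i₀} a
quasi-compact quasi-separated stage, f₀ : X₀ → Y₀ a morphism of quasi-compact quasi-separated
schemes over S_{i₀}, and f : X → Y its base change along S → S_{i₀} (base changes expressed by
pullback squares). If f₀ is locally of finite presentation and f is smooth, then for some index i
over i₀ the base change f_i : X_i → Y_i of f₀ along S_i → S_{i₀} is smooth. -/
theorem result {I : Type u} [SmallCategory I] [IsCofiltered I]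
    (D : I ⥤ Scheme.{u}) (c : Limits.Cone D) (hc : Limits.IsLimit c)
    [∀ (i j : I) (f : i ⟶ j), IsAffineHom (D.map f)] (i₀ : I) [CompactSpace (D.obj i₀)]
    [QuasiSeparatedSpace (D.obj i₀)] {X₀ Y₀ : Scheme.{u}} (f₀ : X₀ ⟶ Y₀) (g₀ : Y₀ ⟶ D.obj i₀)
    [CompactSpace X₀] [QuasiSeparatedSpace X₀] [CompactSpace Y₀] [QuasiSeparatedSpace Y₀]
    [LocallyOfFinitePresentation f₀]
    {X Y : Scheme.{u}} (f : X ⟶ Y) (g : Y ⟶ c.pt) (qY : Y ⟶ Y₀) (qX : X ⟶ X₀)
    (hY : IsPullback qY g g₀ (c.π.app i₀)) (hX : IsPullback qX f f₀ qY) [Smooth f] :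
    ∃ (i : I) (φ : i ⟶ i₀) (Xi Yi : Scheme.{u}) (fi : Xi ⟶ Yi) (gi : Yi ⟶ D.obj i) (pY : Yi ⟶ Y₀)
      (pX : Xi ⟶ X₀), IsPullback pY gi g₀ (D.map φ) ∧ IsPullback pX fi f₀ pY ∧ Smooth fi := by
  have inst : ∀ {i j : I} (f : i ⟶ j), IsAffineHom (D.map f) := fun f => inferInstance
  obtain ⟨j, hj⟩ := descend_smooth D c hc i₀ f₀ g₀ f g qY qX hY hX
  exact ⟨j.left, j.hom, _, _, bcMor D i₀ f₀ g₀ j, dSnd D i₀ g₀ j, dFst D i₀ g₀ j,
    dFst D i₀ (f₀ ≫ g₀) j, isPullback_d D i₀ g₀ j, isPullback_bcMor D i₀ f₀ g₀ j, hj j (𝟙 j)⟩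

end Groth.Agent.S9191
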