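import Groth.Statements.S19891
-- import your own Groth.Agent.* helpers here
import Mathlib
import Groth.Agent.Lib.Helper12ClosureImage

set_option autoImplicit false
universe u
open CategoryTheory AlgebraicGeometry
open ValCrit

namespace Groth.Agent.S19891

open CategoryTheory.Limits IsLocalRing in
/-- Key lemma: for a morphism `g : Z ⟶ W` and a specialization `g z ⤳ w` there is a valuation
ring `A` of `κ(z)` and `ψ : Spec A ⟶ W` sending the closed point to `w` and restricting to
`Spec κ(z) ⟶ Z ⟶ W` on the generic point. -/
lemma exists_valuationRing_of_specializes_map {Z W : Scheme.{u}} (g : Z ⟶ W) (z : Z) (w : W)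
    (hz : g z ⤳ w) :
    ∃ (A : ValuationSubring (Z.residueField z)) (ψ : Spec (CommRingCat.of ↥A) ⟶ W),
      ψ (closedPoint ↥A) = w ∧
      Spec.map (CommRingCat.ofHom A.subtype) ≫ ψ = Z.fromSpecResidueField z ≫ g := by
  let t : W.presheaf.stalk w ⟶ Z.residueField z :=
    W.presheaf.stalkSpecializes hz ≫ g.stalkMap z ≫ Z.residue z
  obtain ⟨A, hA, hA_local⟩ := exists_factor_valuationRing t.hom
  let tA : W.presheaf.stalk w ⟶ CommRingCat.of ↥A :=
    CommRingCat.ofHom (t.hom.codRestrict _ hA)
  refine ⟨A, Spec.map tA ≫ W.fromSpecStalk w, ?_, ?_⟩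
  · have : Spec.map tA (closedPoint ↥A) = closedPoint (W.presheaf.stalk w) :=
      comap_closedPoint (S := A) (t.hom.codRestrict A.toSubring hA)
    change W.fromSpecStalk w (Spec.map tA (closedPoint ↥A)) = w
    rw [this, W.fromSpecStalk_closedPoint]
  · rw [← Spec.map_comp_assoc]
    have : tA ≫ CommRingCat.ofHom A.subtype = t := by ext a; rfl
    rw [this]
    rw [Scheme.fromSpecResidueField, Category.assoc, ← Scheme.SpecMap_stalkMap_fromSpecStalk,
      ← Scheme.SpecMap_stalkSpecializes_fromSpecStalk hz]
    simp_rw [← Spec.map_comp_assoc]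
    rfl

/-- Let h : Z → Y and f : Y → X be morphisms of quasi-compact quasi-separated schemes, with h dominant.
Then f is separated if and only if the following refined uniqueness criterion holds: for every point
z of Z, every valuation ring R of the residue field κ(z) and every morphism φ : Spec R → X whose
restriction to Spec κ(z) is the canonical morphism Spec κ(z) → Z → Y → X, any two morphisms Spec R →
Y lying over φ and restricting to Spec κ(z) → Z → Y on the generic point coincide. (The published
statement does not require h to be dominant; its proof uses that every point of Y generalises to a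
point of h(Z), and for Z empty the criterion holds whatever f is, so dominance of h is assumed
here.) -/
theorem result {X Y Z : Scheme.{u}} (h : Z ⟶ Y) (f : Y ⟶ X)
    [CompactSpace ↥Z] [QuasiSeparatedSpace ↥Z] [CompactSpace ↥Y] [QuasiSeparatedSpace ↥Y]
    [CompactSpace ↥X] [QuasiSeparatedSpace ↥X] (hd : DenseRange h.base) :
    IsSeparated f ↔
      ∀ (z : ↥Z) (R : ValuationSubring ↑(Z.residueField z)) (φ : Spec (CommRingCat.of ↥R) ⟶ X),
        Spec.map (CommRingCat.ofHom R.subtype) ≫ φ = Z.fromSpecResidueField z ≫ h ≫ f →
        ∀ φ₁ φ₂ : Spec (CommRingCat.of ↥R) ⟶ Y,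
          Spec.map (CommRingCat.ofHom R.subtype) ≫ φ₁ = Z.fromSpecResidueField z ≫ h → φ₁ ≫ f = φ →
          Spec.map (CommRingCat.ofHom R.subtype) ≫ φ₂ = Z.fromSpecResidueField z ≫ h → φ₂ ≫ f = φ →
          φ₁ = φ₂ := by
  constructor
  · intro hsep z R φ hφ φ₁ φ₂ h1 h1' h2 h2'
    have hU := IsSeparated.valuativeCriterion f
    have hc : CommSq (Z.fromSpecResidueField z ≫ h)
        (Spec.map (CommRingCat.ofHom (algebraMap ↥R (Z.residueField z)))) f φ :=
      ⟨by rw [Category.assoc]; exact hφ.symm⟩
    let S : ValuativeCommSq f :=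
      { R := ↥R, K := Z.residueField z, i₁ := Z.fromSpecResidueField z ≫ h, i₂ := φ, commSq := hc }
    have hS : Subsingleton S.commSq.LiftStruct := hU S
    let l₁ : S.commSq.LiftStruct := ⟨φ₁, h1, h1'⟩
    let l₂ : S.commSq.LiftStruct := ⟨φ₂, h2, h2'⟩
    exact congrArg CommSq.LiftStruct.l (Subsingleton.elim l₁ l₂)
  · intro H
    have hqs : QuasiSeparated f := inferInstance
    have hqsW : QuasiSeparatedSpace ↥(Limits.pullback f f) :=
      quasiSeparatedSpace_of_quasiSeparated (Limits.pullback.fst f f)
    have hqc : QuasiCompact (h ≫ Limits.pullback.diagonal f) := inferInstance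
    refine ⟨?_⟩
    apply IsClosedImmersion.of_isPreimmersion
    apply isClosed_of_closure_subset
    intro w hw
    have hw' : w ∈ closure (Set.range (h ≫ Limits.pullback.diagonal f).base) := by
      have hsub : Set.range (Limits.pullback.diagonal f).base ⊆
          closure (Set.range (h ≫ Limits.pullback.diagonal f).base) := by
        rintro _ ⟨y, rfl⟩
        have hy : y ∈ closure (Set.range h.base) := hd y
        have := image_closure_subset_closure_image (Limits.pullback.diagonal f).continuous
          (Set.mem_image_of_mem _ hy)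
        rwa [← Set.range_comp] at this
      exact closure_minimal hsub isClosed_closure hw
    obtain ⟨z, hz⟩ := Groth.Agent.Lib.Helper12.exists_specializes_of_mem_closure_range _ w hw'
    obtain ⟨A, ψ, hψw, hψ⟩ := exists_valuationRing_of_specializes_map _ z w hz
    have key : ψ ≫ Limits.pullback.fst f f = ψ ≫ Limits.pullback.snd f f := by
      refine H z A (ψ ≫ Limits.pullback.fst f f ≫ f) ?_ _ _ ?_ ?_ ?_ ?_
      · rw [reassoc_of% hψ]; simp
      · rw [reassoc_of% hψ]; simp
      · simp
      · rw [reassoc_of% hψ]; simp
      · simp [Limits.pullback.condition]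
    have hψΔ : ψ = (ψ ≫ Limits.pullback.fst f f) ≫ Limits.pullback.diagonal f := by
      apply Limits.pullback.hom_ext
      · simp
      · simp [key]
    refine ⟨(ψ ≫ Limits.pullback.fst f f) (IsLocalRing.closedPoint ↥A), ?_⟩
    rw [← hψw]
    conv_rhs => rw [hψΔ]
    rfl

end Groth.Agent.S19891
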