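import Groth.Statements.S19892
-- import your own Groth.Agent.* helpers here
import Mathlib
import Groth.Agent.S19891
import Groth.Agent.Lib.Helper12ClosureImage
import Groth.Agent.Lib.Helper10ValSq

set_option autoImplicit false
universe u
open CategoryTheory AlgebraicGeometry
open ValCrit

namespace Groth.Agent.S19892

open CategoryTheory.Limits IsLocalRing

lemma exists_residueField_hom {Y : Scheme.{u}} (K : Type u) [Field K]
    (i : Spec (CommRingCat.of K) ⟶ Y) (x : Y) (hx : i (closedPoint K) = x) :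
    ∃ ι : Y.residueField x ⟶ CommRingCat.of K, i = Spec.map ι ≫ Y.fromSpecResidueField x := by
  subst hx
  exact ⟨_, (Scheme.descResidueField_stalkClosedPointTo_fromSpecResidueField K Y i).symm⟩

lemma exists_common_field (k K₁ K₂ : Type u) [Field k] [Field K₁] [Field K₂]
    (ι₁ : k →+* K₁) (ι₂ : k →+* K₂) :
    ∃ (L : Type u) (_ : Field L) (j₁ : K₁ →+* L) (j₂ : K₂ →+* L), j₁.comp ι₁ = j₂.comp ι₂ := by
  letI := ι₁.toAlgebra
  letI := ι₂.toAlgebra
  have : Nontrivial (TensorProduct k K₁ K₂) := inferInstance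
  obtain ⟨m, hm⟩ := Ideal.exists_maximal (TensorProduct k K₁ K₂)
  letI := Ideal.Quotient.field m
  refine ⟨_ ⧸ m, inferInstance,
    (Ideal.Quotient.mk m).comp Algebra.TensorProduct.includeLeftRingHom,
    (Ideal.Quotient.mk m).comp
      (Algebra.TensorProduct.includeRight (R := k) (A := K₁) (B := K₂)).toRingHom, ?_⟩
  ext a
  simp only [RingHom.coe_comp, Function.comp_apply]
  congr 1
  change (algebraMap k K₁ a) ⊗ₜ[k] (1 : K₂) = (1 : K₁) ⊗ₜ[k] (algebraMap k K₂ a)
  rw [Algebra.algebraMap_eq_smul_one, Algebra.algebraMap_eq_smul_one, TensorProduct.smul_tmul]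

lemma exists_valuationSubring_dominating (A K L : Type u) [CommRing A] [IsDomain A]
    [ValuationRing A] [Field K] [Algebra A K] [IsFractionRing A K] [Field L] (j : K →+* L) :
    ∃ A' : ValuationSubring L, (∀ a : A, j (algebraMap A K a) ∈ A') ∧
      ∀ t : K, j t ∈ A' → ∃ a : A, algebraMap A K a = t := by
  obtain ⟨A', hA', hloc⟩ := exists_factor_valuationRing (j.comp (algebraMap A K))
  refine ⟨A', fun a => hA' a, fun t ht => ?_⟩
  by_cases ht0 : t = 0
  · exact ⟨0, by rw [map_zero, ht0]⟩
  obtain ⟨a, ha⟩ | ⟨a, ha⟩ := ValuationRing.isInteger_or_isInteger A t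
  · exact ⟨a, ha⟩
  · have hu : IsUnit a := by
      apply hloc.map_nonunit a
      refine IsUnit.of_mul_eq_one (⟨j t, ht⟩ : A') ?_
      ext
      change j (algebraMap A K a) * j t = 1
      rw [ha, ← map_mul, inv_mul_cancel₀ ht0, map_one]
    obtain ⟨b, hb⟩ := hu.exists_right_inv
    refine ⟨b, ?_⟩
    have h1 : algebraMap A K a * algebraMap A K b = 1 := by rw [← map_mul, hb, map_one]
    rw [ha] at h1
    field_simp at h1
    exact h1

/-- Composite of valuation rings. -/
def compositeVal {F L : Type*} [Field F] [Field L] (B : ValuationSubring F) (π : ↥B →+* L)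
    (hπ : ∀ b : ↥B, π b = 0 ↔ ¬ IsUnit b) (A' : ValuationSubring L) : ValuationSubring F where
  toSubring := (A'.toSubring.comap π).map B.subtype
  mem_or_inv_mem' := by
    have key : ∀ t : F, t ∈ B → t ∈ (A'.toSubring.comap π).map B.subtype ∨
        t⁻¹ ∈ (A'.toSubring.comap π).map B.subtype := by
      intro t ht
      by_cases h0 : π ⟨t, ht⟩ = 0
      · left
        refine ⟨⟨t, ht⟩, ?_, rfl⟩
        change π ⟨t, ht⟩ ∈ A'
        rw [h0]; exact zero_mem _
      · have hu : IsUnit (⟨t, ht⟩ : ↥B) := not_not.mp (fun hn => h0 ((hπ _).mpr hn))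
        obtain ⟨b', hb'⟩ := hu.exists_right_inv
        have hb'v : (b' : F) = t⁻¹ := by
          have := congrArg Subtype.val hb'
          simp only [MulMemClass.coe_mul, OneMemClass.coe_one] at this
          exact eq_inv_of_mul_eq_one_right this
        have hπb' : π b' = (π ⟨t, ht⟩)⁻¹ := by
          have : π ⟨t, ht⟩ * π b' = 1 := by rw [← map_mul, hb', map_one]
          exact eq_inv_of_mul_eq_one_right this
        rcases A'.mem_or_inv_mem (π ⟨t, ht⟩) with h1 | h1
        · left; exact ⟨⟨t, ht⟩, h1, rfl⟩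
        · right
          refine ⟨b', ?_, hb'v⟩
          change π b' ∈ A'
          rw [hπb']; exact h1
    intro t
    rcases B.mem_or_inv_mem t with ht | ht
    · exact key t ht
    · have := key t⁻¹ ht
      rw [inv_inv] at this
      exact this.symm

lemma mem_compositeVal {F L : Type*} [Field F] [Field L] (B : ValuationSubring F) (π : ↥B →+* L)
    (hπ : ∀ b : ↥B, π b = 0 ↔ ¬ IsUnit b) (A' : ValuationSubring L) (t : F) :
    t ∈ compositeVal B π hπ A' ↔ ∃ ht : t ∈ B, π ⟨t, ht⟩ ∈ A' := by
  constructor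
  · rintro ⟨b, hb, rfl⟩
    exact ⟨b.2, hb⟩
  · rintro ⟨ht, h⟩
    exact ⟨⟨t, ht⟩, h, rfl⟩


/-- Two morphisms from `Spec A` (`A` a domain with fraction field `K`) which both factor through
a monomorphism from an affine scheme and agree on `Spec K` are equal. -/
lemma eq_of_factor_mono {X : Scheme.{u}} {T : CommRingCat.{u}} (jm : Spec T ⟶ X) [Mono jm]
    (A K : Type u) [CommRing A] [Field K] [Algebra A K] [FaithfulSMul A K]
    (u v : Spec (CommRingCat.of A) ⟶ X)
    (θu θv : T ⟶ CommRingCat.of A) (hu : u = Spec.map θu ≫ jm) (hv : v = Spec.map θv ≫ jm)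
    (huv : Spec.map (CommRingCat.ofHom (algebraMap A K)) ≫ u =
      Spec.map (CommRingCat.ofHom (algebraMap A K)) ≫ v) : u = v := by
  rw [hu, hv] at huv ⊢
  rw [← Category.assoc, ← Category.assoc, cancel_mono, ← Spec.map_comp, ← Spec.map_comp] at huv
  have h2 := Spec.map_injective huv
  have : θu = θv := by
    ext a
    apply FaithfulSMul.algebraMap_injective A K
    exact congrArg (fun m => m.hom a) h2
  rw [this]

theorem exists_lift_of_refined {X Y Z : Scheme.{u}} (h : Z ⟶ Y) (f : Y ⟶ X) [QuasiCompact h]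
    (hd : DenseRange h.base)
    (H : ∀ (z : ↥Z) (R : ValuationSubring ↑(Z.residueField z)) (φ : Spec (CommRingCat.of ↥R) ⟶ X),
        Spec.map (CommRingCat.ofHom R.subtype) ≫ φ = Z.fromSpecResidueField z ≫ h ≫ f →
        ∃! φ' : Spec (CommRingCat.of ↥R) ⟶ Y,
          Spec.map (CommRingCat.ofHom R.subtype) ≫ φ' = Z.fromSpecResidueField z ≫ h ∧ φ' ≫ f = φ)
    (A K : Type u) [CommRing A] [IsDomain A] [ValuationRing A] [Field K] [Algebra A K]
    [IsFractionRing A K]
    (i₁ : Spec (CommRingCat.of K) ⟶ Y) (i₂ : Spec (CommRingCat.of A) ⟶ X)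
    (w : i₁ ≫ f = Spec.map (CommRingCat.ofHom (algebraMap A K)) ≫ i₂) :
    ∃ l : Spec (CommRingCat.of A) ⟶ Y,
      Spec.map (CommRingCat.ofHom (algebraMap A K)) ≫ l = i₁ ∧ l ≫ f = i₂ := by
  classical
  set x : Y := i₁ (closedPoint K) with hx
  obtain ⟨ιK, hιK⟩ := exists_residueField_hom K i₁ x rfl
  obtain ⟨z, hz⟩ := Groth.Agent.Lib.Helper12.exists_specializes_of_mem_closure_range h x (hd x)
  obtain ⟨B, ψ, hψx, hψ⟩ := Groth.Agent.S19891.exists_valuationRing_of_specializes_map h z x hz
  have hres_pt : (Spec.map (CommRingCat.ofHom (IsLocalRing.residue ↥B)) ≫ ψ)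
      (closedPoint (IsLocalRing.ResidueField ↥B)) = x := by
    have : Spec.map (CommRingCat.ofHom (IsLocalRing.residue ↥B))
        (closedPoint (IsLocalRing.ResidueField ↥B)) = closedPoint ↥B :=
      comap_closedPoint (IsLocalRing.residue ↥B)
    change ψ (Spec.map (CommRingCat.ofHom (IsLocalRing.residue ↥B))
        (closedPoint (IsLocalRing.ResidueField ↥B))) = x
    rw [this, hψx]
  obtain ⟨ιB, hιB⟩ := exists_residueField_hom (IsLocalRing.ResidueField ↥B) _ x hres_pt
  obtain ⟨L, _, j₁, j₂, hj⟩ := exists_common_field (Y.residueField x) K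
    (IsLocalRing.ResidueField ↥B) ιK.hom ιB.hom
  obtain ⟨A', hA'1, hA'2⟩ := exists_valuationSubring_dominating A K L j₁
  let π : ↥B →+* L := j₂.comp (IsLocalRing.residue ↥B)
  have hπ : ∀ b : ↥B, π b = 0 ↔ ¬ IsUnit b := by
    intro b
    change j₂ (IsLocalRing.residue ↥B b) = 0 ↔ _
    rw [map_eq_zero, IsLocalRing.residue_eq_zero_iff, IsLocalRing.mem_maximalIdeal, mem_nonunits_iff]
  set C : ValuationSubring (Z.residueField z) := compositeVal B π hπ A' with hC
  have hCB : C.toSubring ≤ B.toSubring := by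
    intro t ht
    exact ((mem_compositeVal B π hπ A' t).mp ht).1
  let inclCB : ↥C →+* ↥B := Subring.inclusion hCB
  have hinclπ : ∀ c : ↥C, π (inclCB c) ∈ A' := fun c =>
    ((mem_compositeVal B π hπ A' c.1).mp c.2).2
  -- the point `s` and the two stalk maps
  set s : X := i₂ (closedPoint A) with hs
  let α : X.presheaf.stalk s ⟶ CommRingCat.of A := Scheme.stalkClosedPointTo i₂
  have hα : Spec.map α ≫ X.fromSpecStalk s = i₂ := Scheme.Spec_stalkClosedPointTo_fromSpecStalk i₂
  have hfx : f x ⤳ s := by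
    have h1 : f x = i₂ (Spec.map (CommRingCat.ofHom (algebraMap A K)) (closedPoint K)) := by
      change (i₁ ≫ f) (closedPoint K) = (Spec.map (CommRingCat.ofHom (algebraMap A K)) ≫ i₂) _
      rw [w]
    rw [h1]
    exact (specializes_closedPoint (R := A) _).map i₂.continuous
  obtain ⟨β, hβ⟩ := Groth.Agent.Lib.Helper10.ValSq.exists_factor_fromSpecStalk
    (S := CommRingCat.of ↥B) (ψ ≫ f) s (by
      change f (ψ (closedPoint ↥B)) ⤳ s
      rw [hψx]; exact hfx)
  -- compatibility of `β` and `α` in `L`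
  have hcompat : β ≫ CommRingCat.ofHom π =
      α ≫ CommRingCat.ofHom (j₁.comp (algebraMap A K)) := by
    apply Spec.map_injective
    rw [← cancel_mono (X.fromSpecStalk s)]
    have e1 : Spec.map (β ≫ CommRingCat.ofHom π) ≫ X.fromSpecStalk s =
        Spec.map (CommRingCat.ofHom j₂) ≫ Spec.map ιB ≫ Y.fromSpecResidueField x ≫ f := by
      have : CommRingCat.ofHom π =
          CommRingCat.ofHom (IsLocalRing.residue ↥B) ≫ CommRingCat.ofHom j₂ := rfl
      rw [this, Spec.map_comp, Spec.map_comp, Category.assoc, Category.assoc, ← hβ,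
        ← Category.assoc (Spec.map (CommRingCat.ofHom (IsLocalRing.residue ↥B))), hιB]
      simp only [Category.assoc]
    have e2 : Spec.map (α ≫ CommRingCat.ofHom (j₁.comp (algebraMap A K))) ≫ X.fromSpecStalk s =
        Spec.map (CommRingCat.ofHom j₁) ≫ Spec.map ιK ≫ Y.fromSpecResidueField x ≫ f := by
      have : CommRingCat.ofHom (j₁.comp (algebraMap A K)) =
          CommRingCat.ofHom (algebraMap A K) ≫ CommRingCat.ofHom j₁ := rfl
      rw [this, Spec.map_comp, Spec.map_comp, Category.assoc, Category.assoc, hα, ← w, hιK]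
      simp only [Category.assoc]
    rw [e1, e2, ← Category.assoc, ← Category.assoc (Spec.map (CommRingCat.ofHom j₁)),
      ← Spec.map_comp, ← Spec.map_comp]
    congr 2
    ext a
    exact (congrArg (fun m => m a) hj).symm
  -- the map `γ : 𝒪_{X,s} → C`
  have hγmem : ∀ a : X.presheaf.stalk s, ((β.hom a : ↥B) : Z.residueField z) ∈ C := by
    intro a
    rw [hC, mem_compositeVal]
    refine ⟨(β.hom a).2, ?_⟩
    have := congrArg (fun m => m.hom a) hcompat
    change π (β.hom a) = j₁ (algebraMap A K (α.hom a)) at this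
    change π (β.hom a) ∈ A'
    rw [this]
    exact hA'1 _
  let γ : X.presheaf.stalk s ⟶ CommRingCat.of ↥C :=
    CommRingCat.ofHom ((B.subtype.comp β.hom).codRestrict C.toSubring hγmem)
  have hγβ : γ ≫ CommRingCat.ofHom inclCB = β := by
    ext a
    rfl
  have hsubCB : CommRingCat.ofHom C.subtype =
      CommRingCat.ofHom inclCB ≫ CommRingCat.ofHom B.subtype := rfl
  let φC : Spec (CommRingCat.of ↥C) ⟶ X := Spec.map γ ≫ X.fromSpecStalk s
  have hinclφC : Spec.map (CommRingCat.ofHom inclCB) ≫ φC = ψ ≫ f := by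
    rw [hβ, ← hγβ, Spec.map_comp, Category.assoc]
  have hφC : Spec.map (CommRingCat.ofHom C.subtype) ≫ φC =
      Z.fromSpecResidueField z ≫ h ≫ f := by
    rw [hsubCB, Spec.map_comp, Category.assoc, hinclφC, ← Category.assoc, hψ, Category.assoc]
  obtain ⟨φ', ⟨hφ'1, hφ'2⟩, -⟩ := H z C φC hφC
  -- Step 1: restriction of `φ'` to `Spec B` is `ψ`
  have hstep1 : Spec.map (CommRingCat.ofHom inclCB) ≫ φ' = ψ := by
    have hψf : Spec.map (CommRingCat.ofHom B.subtype) ≫ (ψ ≫ f) =
        Z.fromSpecResidueField z ≫ h ≫ f := by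
      rw [← Category.assoc, hψ, Category.assoc]
    obtain ⟨φ'', -, huniq⟩ := H z B (ψ ≫ f) hψf
    have h1 := huniq (Spec.map (CommRingCat.ofHom inclCB) ≫ φ') ⟨by
      rw [← Category.assoc, ← Spec.map_comp, ← hsubCB, hφ'1], by
      rw [Category.assoc, hφ'2, hinclφC]⟩
    have h2 := huniq ψ ⟨hψ, rfl⟩
    rw [h1, h2]
  -- the closed point of `C` and the stalk map of `φ'`
  set y₀ : Y := φ' (closedPoint ↥C) with hy₀
  let ε : Y.presheaf.stalk y₀ ⟶ CommRingCat.of ↥C := Scheme.stalkClosedPointTo φ'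
  have hε : Spec.map ε ≫ Y.fromSpecStalk y₀ = φ' := Scheme.Spec_stalkClosedPointTo_fromSpecStalk φ'
  have hxy : x ⤳ y₀ := by
    have h1 : x = φ' (Spec.map (CommRingCat.ofHom inclCB) (closedPoint ↥B)) := by
      rw [← hψx, ← hstep1]; rfl
    rw [h1]
    exact (specializes_closedPoint (R := ↥C) _).map φ'.continuous
  let ρ : Y.presheaf.stalk y₀ ⟶ CommRingCat.of K :=
    Y.presheaf.stalkSpecializes hxy ≫ Y.residue x ≫ ιK
  have hρfrom : Spec.map ρ ≫ Y.fromSpecStalk y₀ = Spec.map ιK ≫ Y.fromSpecResidueField x := by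
    simp only [ρ, Spec.map_comp, Category.assoc,
      Scheme.SpecMap_stalkSpecializes_fromSpecStalk, Scheme.fromSpecResidueField]
  have hρL : ρ ≫ CommRingCat.ofHom j₁ = ε ≫ CommRingCat.ofHom (π.comp inclCB) := by
    apply Spec.map_injective
    rw [← cancel_mono (Y.fromSpecStalk y₀)]
    have e1 : Spec.map (ρ ≫ CommRingCat.ofHom j₁) ≫ Y.fromSpecStalk y₀ =
        Spec.map (CommRingCat.ofHom j₁) ≫ Spec.map ιK ≫ Y.fromSpecResidueField x := by
      rw [Spec.map_comp, Category.assoc, hρfrom]
    have e2 : Spec.map (ε ≫ CommRingCat.ofHom (π.comp inclCB)) ≫ Y.fromSpecStalk y₀ =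
        Spec.map (CommRingCat.ofHom j₂) ≫ Spec.map ιB ≫ Y.fromSpecResidueField x := by
      have : CommRingCat.ofHom (π.comp inclCB) = CommRingCat.ofHom inclCB ≫
          CommRingCat.ofHom (IsLocalRing.residue ↥B) ≫ CommRingCat.ofHom j₂ := rfl
      rw [this, Spec.map_comp, Spec.map_comp, Spec.map_comp, Category.assoc, Category.assoc,
        Category.assoc, hε, hstep1, hιB]
    rw [e1, e2, ← Category.assoc, ← Category.assoc (Spec.map (CommRingCat.ofHom j₂)),
      ← Spec.map_comp, ← Spec.map_comp]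
    congr 2
    ext a
    exact congrArg (fun m => m a) hj
  have hρA : ∀ a : Y.presheaf.stalk y₀, ρ.hom a ∈ (algebraMap A K).range := by
    intro a
    obtain ⟨a', ha'⟩ := hA'2 (ρ.hom a) (by
      have := congrArg (fun m => m.hom a) hρL
      change j₁ (ρ.hom a) = π (inclCB (ε.hom a)) at this
      rw [this]
      exact hinclπ _)
    exact ⟨a', ha'⟩
  have hinj : Function.Injective (algebraMap A K) := FaithfulSMul.algebraMap_injective A K
  let e : A ≃+* (algebraMap A K).range :=
    RingEquiv.ofBijective (algebraMap A K).rangeRestrict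
      ⟨fun a b hab => hinj (congrArg Subtype.val hab), (algebraMap A K).rangeRestrict_surjective⟩
  let δ : Y.presheaf.stalk y₀ ⟶ CommRingCat.of A :=
    CommRingCat.ofHom (e.symm.toRingHom.comp (ρ.hom.codRestrict (algebraMap A K).range hρA))
  have hδ : δ ≫ CommRingCat.ofHom (algebraMap A K) = ρ := by
    ext a
    have := e.apply_symm_apply (ρ.hom.codRestrict (algebraMap A K).range hρA a)
    exact congrArg Subtype.val this
  let l : Spec (CommRingCat.of A) ⟶ Y := Spec.map δ ≫ Y.fromSpecStalk y₀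
  have hl1 : Spec.map (CommRingCat.ofHom (algebraMap A K)) ≫ l = i₁ := by
    rw [hιK, ← hρfrom, ← hδ, Spec.map_comp, Category.assoc]
  refine ⟨l, hl1, ?_⟩
  -- (ii)
  have hfy₀ : f y₀ ⤳ s := by
    have h1 : f y₀ = X.fromSpecStalk s (Spec.map γ (closedPoint ↥C)) := by
      change (φ' ≫ f) (closedPoint ↥C) = _
      rw [hφ'2]; rfl
    rw [h1]
    have : X.fromSpecStalk s (Spec.map γ (closedPoint ↥C)) ∈ Set.range (X.fromSpecStalk s) :=
      ⟨_, rfl⟩
    rw [Scheme.range_fromSpecStalk] at this
    exact this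
  have hspec : (l ≫ f) (closedPoint A) ⤳ s := by
    have h1 : l (closedPoint A) ⤳ y₀ := by
      have : l (closedPoint A) ∈ Set.range (Y.fromSpecStalk y₀) := ⟨Spec.map δ (closedPoint A), rfl⟩
      rw [Scheme.range_fromSpecStalk] at this
      exact this
    exact (h1.map f.continuous).trans hfy₀
  obtain ⟨θ, hθ⟩ := Groth.Agent.Lib.Helper10.ValSq.exists_factor_fromSpecStalk
    (S := CommRingCat.of A) (l ≫ f) s hspec
  refine eq_of_factor_mono (X.fromSpecStalk s) A K (l ≫ f) i₂ θ α hθ hα.symm ?_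
  rw [← Category.assoc, hl1, w]

/-- Let h : Z → Y and f : Y → X be morphisms of quasi-compact quasi-separated schemes, with h dominant
and f locally of finite type. Then f is proper if and only if the following refined valuative
criterion holds: for every point z of Z, every valuation ring R of the residue field κ(z) and every
morphism φ : Spec R → X whose restriction to Spec κ(z) is the canonical morphism Spec κ(z) → Z → Y →
X, there is exactly one morphism Spec R → Y lying over φ and restricting to Spec κ(z) → Z → Y on the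
generic point. (The published statement does not require h to be dominant; its proof uses that every
point of Y generalises to a point of h(Z), and for Z empty the criterion holds whatever f is, so
dominance of h is assumed here.) -/
theorem result {X Y Z : Scheme.{u}} (h : Z ⟶ Y) (f : Y ⟶ X)
    [CompactSpace ↥Z] [QuasiSeparatedSpace ↥Z] [CompactSpace ↥Y] [QuasiSeparatedSpace ↥Y]
    [CompactSpace ↥X] [QuasiSeparatedSpace ↥X] (hd : DenseRange h.base)
    [LocallyOfFiniteType f] :
    IsProper f ↔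
      ∀ (z : ↥Z) (R : ValuationSubring ↑(Z.residueField z)) (φ : Spec (CommRingCat.of ↥R) ⟶ X),
        Spec.map (CommRingCat.ofHom R.subtype) ≫ φ = Z.fromSpecResidueField z ≫ h ≫ f →
        ∃! φ' : Spec (CommRingCat.of ↥R) ⟶ Y,
          Spec.map (CommRingCat.ofHom R.subtype) ≫ φ' = Z.fromSpecResidueField z ≫ h ∧ φ' ≫ f = φ := by
  constructor
  · intro hprop z R φ hφ
    have hVC : ValuativeCriterion f := by
      have := IsProper.eq_valuativeCriterion ▸ hprop
      exact this.1.1.1
    have hc : CommSq (Z.fromSpecResidueField z ≫ h)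
        (Spec.map (CommRingCat.ofHom (algebraMap ↥R (Z.residueField z)))) f φ :=
      ⟨by rw [Category.assoc]; exact hφ.symm⟩
    let S : ValuativeCommSq f :=
      { R := ↥R, K := Z.residueField z, i₁ := Z.fromSpecResidueField z ≫ h, i₂ := φ, commSq := hc }
    obtain ⟨hS⟩ := hVC S
    refine ⟨hS.default.l, ⟨hS.default.fac_left, hS.default.fac_right⟩, ?_⟩
    rintro φ'' ⟨h1, h2⟩
    let l' : S.commSq.LiftStruct := ⟨φ'', h1, h2⟩
    exact congrArg CommSq.LiftStruct.l (hS.uniq l')
  · intro H
    have hsep : IsSeparated f := by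
      rw [Groth.Agent.S19891.result h f hd]
      intro z R φ hφ φ₁ φ₂ h1 h1' h2 h2'
      obtain ⟨φ'', -, huniq⟩ := H z R φ hφ
      rw [huniq φ₁ ⟨h1, h1'⟩, huniq φ₂ ⟨h2, h2'⟩]
    have hqc : QuasiCompact f := inferInstance
    have hqch : QuasiCompact h := inferInstance
    have hE : ValuativeCriterion.Existence f := by
      intro S
      obtain ⟨l, hl1, hl2⟩ := exists_lift_of_refined h f hd H S.R S.K S.i₁ S.i₂ S.commSq.w
      exact ⟨⟨⟨l, hl1, hl2⟩⟩⟩
    have hUC : UniversallyClosed f := UniversallyClosed.of_valuativeCriterion f hE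
    exact { }

end Groth.Agent.S19892
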