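import Groth.Statements.S10869
import Mathlib
import Groth.Agent.Lib.Helper23CounitEpi
import Groth.Agent.Lib.Helper23RestrTensor
import Groth.Agent.Lib.Helper23QCohLocal
import Groth.Agent.Lib.LeadPicFF4

set_option autoImplicit false
universe u
open Coh

namespace Groth.Agent.S10869

section aux
open CategoryTheory CategoryTheory.Limits AlgebraicGeometry TopologicalSpace Opposite

theorem gg_of_epi {X : Scheme.{u}} {M M' : X.Modules} (p : M ⟶ M') [Epi p]
    (h : Curv2.IsGloballyGenerated M) : Curv2.IsGloballyGenerated M' := by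
  obtain ⟨ι, q, hq⟩ := h
  exact ⟨ι, q ≫ p, @epi_comp _ _ _ _ _ q hq p ‹_›⟩

/-- a quasi-coherent module on `Spec R` is globally generated -/
theorem gg_tilde (R : CommRingCat.{u}) (N : ModuleCat.{u} R) :
    Curv2.IsGloballyGenerated (tilde N) := by
  let π : ModuleCat.of R (N →₀ R) ⟶ N := ModuleCat.ofHom (Finsupp.linearCombination R id)
  haveI : Epi π := (ModuleCat.epi_iff_surjective _).2 (fun y => by
    obtain ⟨x, hx⟩ := Finsupp.linearCombination_id_surjective R N y
    exact ⟨x, hx⟩)
  haveI : (tilde.functor R).PreservesEpimorphisms :=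
    CategoryTheory.Functor.preservesEpimorphisms_of_adjunction tilde.adjunction
  have hπ : Epi ((tilde.functor R).map π) := (tilde.functor R).map_epi π
  refine ⟨N, (tildeFinsupp N).inv ≫ (tilde.functor R).map π, ?_⟩
  exact @epi_comp _ _ _ _ _ (tildeFinsupp N).inv inferInstance _ hπ

theorem gg_spec (R : CommRingCat.{u}) (M : (Spec R).Modules) [M.IsQuasicoherent] :
    Curv2.IsGloballyGenerated M := by
  haveI : IsIso M.fromTildeΓ := inferInstance
  exact gg_of_epi M.fromTildeΓ (gg_tilde R _)

/-- the pushforward along an isomorphism is faithful, so the counit is an epimorphism -/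
theorem epi_counit_of_isIso {X Y : Scheme.{u}} (e : X ⟶ Y) [IsIso e] (F : X.Modules) :
    Epi ((Scheme.Modules.pullbackPushforwardAdjunction e).counit.app F) := by
  rw [Groth.Agent.Lib.Helper23.CounitEpi.epi_counit_iff]
  intro G φ ψ h
  apply Scheme.Modules.hom_ext
  intro W
  have h1 := h ((inv e) ⁻¹ᵁ W)
  have h2 : e ⁻¹ᵁ ((inv e) ⁻¹ᵁ W) = W := by
    rw [← Scheme.Hom.comp_preimage, IsIso.hom_inv_id, Scheme.Hom.id_preimage]
  rw [h2] at h1
  exact h1

/-- a quasi-coherent module on an affine scheme is globally generated -/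
theorem gg_of_isAffine {X : Scheme.{u}} [IsAffine X] (M : X.Modules) [M.IsQuasicoherent] :
    Curv2.IsGloballyGenerated M := by
  haveI : ((Scheme.Modules.pushforward X.isoSpec.hom).obj M).IsQuasicoherent :=
    Groth.Agent.Lib.Helper23.QCohLocal.isQuasicoherent_pushforward _ M
  have h1 := gg_spec _ ((Scheme.Modules.pushforward X.isoSpec.hom).obj M)
  have h2 := Groth.Agent.Lib.LeadPicFF.isGloballyGenerated_pullback X.isoSpec.hom _ h1
  haveI := epi_counit_of_isIso X.isoSpec.hom M
  exact gg_of_epi ((Scheme.Modules.pullbackPushforwardAdjunction X.isoSpec.hom).counit.app M) h2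

/-- restriction to `f⁻¹ U` of a pullback is the pullback of the restriction to `U` -/
noncomputable def restrictPullbackIso {X S : Scheme.{u}} (f : X ⟶ S) (U : S.Opens) (G : S.Modules) :
    ((Scheme.Modules.pullback f).obj G).restrict (f ⁻¹ᵁ U).ι ≅
      (Scheme.Modules.pullback (f ∣_ U)).obj (G.restrict U.ι) :=
  (Scheme.Modules.restrictFunctorIsoPullback (f ⁻¹ᵁ U).ι).app _ ≪≫
    (Scheme.Modules.pullbackComp (f ⁻¹ᵁ U).ι f).app G ≪≫
    (Scheme.Modules.pullbackCongr (morphismRestrict_ι f U).symm).app G ≪≫
    ((Scheme.Modules.pullbackComp (f ∣_ U) U.ι).app G).symm ≪≫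
    (Scheme.Modules.pullback (f ∣_ U)).mapIso ((Scheme.Modules.restrictFunctorIsoPullback U.ι).app G).symm

end aux

open CategoryTheory AlgebraicGeometry in
/-- For f : X → S quasi-compact and quasi-separated and F a quasi-coherent O_X-module, the counit
f^*f_*F → F is an epimorphism iff F is a quotient of f^*G for some quasi-coherent O_S-module G, iff
the restriction of F to the inverse image of every affine open of S is globally generated. -/
theorem result {X S : Scheme.{u}} (f : X ⟶ S) [QuasiCompact f] [QuasiSeparated f]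
    (F : X.Modules) (hF : Coh.IsQCoh F) :
    (Epi ((Scheme.Modules.pullbackPushforwardAdjunction f).counit.app F) ↔
      ∃ G : S.Modules, Coh.IsQCoh G ∧ ∃ φ : (Scheme.Modules.pullback f).obj G ⟶ F, Epi φ) ∧
    (Epi ((Scheme.Modules.pullbackPushforwardAdjunction f).counit.app F) ↔
      ∀ U : S.Opens, IsAffineOpen U → Curv2.IsGloballyGenerated (F.restrict (f ⁻¹ᵁ U).ι)) := by
  haveI : F.IsQuasicoherent := hF
  have hA : Epi ((Scheme.Modules.pullbackPushforwardAdjunction f).counit.app F) ↔
      ∃ G : S.Modules, Coh.IsQCoh G ∧ ∃ φ : (Scheme.Modules.pullback f).obj G ⟶ F, Epi φ := by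
    constructor
    · intro h
      exact ⟨(Scheme.Modules.pushforward f).obj F,
        Groth.Agent.Lib.Helper23.QCohLocal.isQuasicoherent_pushforward f F, _, h⟩
    · rintro ⟨G, hG, φ, hφ⟩
      have h1 : (Scheme.Modules.pullback f).map
          ((Scheme.Modules.pullbackPushforwardAdjunction f).homEquiv _ _ φ) ≫
          (Scheme.Modules.pullbackPushforwardAdjunction f).counit.app F = φ := by
        have h0 := (Scheme.Modules.pullbackPushforwardAdjunction f).homEquiv_counit
          (g := (Scheme.Modules.pullbackPushforwardAdjunction f).homEquiv _ _ φ)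
        rw [Equiv.symm_apply_apply] at h0
        exact h0.symm
      haveI : Epi ((Scheme.Modules.pullback f).map
          ((Scheme.Modules.pullbackPushforwardAdjunction f).homEquiv _ _ φ) ≫
          (Scheme.Modules.pullbackPushforwardAdjunction f).counit.app F) := by
        rw [h1]; exact hφ
      exact epi_of_epi ((Scheme.Modules.pullback f).map
          ((Scheme.Modules.pullbackPushforwardAdjunction f).homEquiv _ _ φ)) _
  refine ⟨hA, ?_⟩
  constructor
  · intro h U hU
    obtain ⟨G, hG, φ, hφ⟩ := hA.1 h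
    haveI : G.IsQuasicoherent := hG
    haveI : IsAffine (U : Scheme.{u}) := hU
    haveI : (G.restrict U.ι).IsQuasicoherent := inferInstance
    have h1 : Curv2.IsGloballyGenerated (G.restrict U.ι) := gg_of_isAffine _
    have h2 := Groth.Agent.Lib.LeadPicFF.isGloballyGenerated_pullback (f ∣_ U) _ h1
    have h3 := Groth.Agent.Lib.Helper23.RestrTensor.isGloballyGenerated_of_iso
      (restrictPullbackIso f U G).symm h2
    haveI : Epi φ := hφ
    haveI : Epi ((Scheme.Modules.restrictFunctor (f ⁻¹ᵁ U).ι).map φ) := inferInstance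
    exact gg_of_epi ((Scheme.Modules.restrictFunctor (f ⁻¹ᵁ U).ι).map φ) h3
  · intro h
    apply Groth.Agent.Lib.Helper23.CounitEpi.epi_counit_of_isGloballyGenerated
    intro x
    obtain ⟨U, hU, hxU, -⟩ := TopologicalSpace.Opens.isBasis_iff_nbhd.1 S.isBasis_affineOpens
      (TopologicalSpace.Opens.mem_top (f x))
    exact ⟨U, hxU, h U hU⟩

end Groth.Agent.S10869
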