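import Groth.Statements.S14405
import Mathlib.Algebra.Polynomial.Coeff
import Mathlib.Algebra.Polynomial.Eval.Degree
import Mathlib.Algebra.Polynomial.Degree.Lemmas
import Mathlib.Tactic.Ring
import Mathlib.Tactic.Linarith
import Mathlib.Tactic.FieldSimp

set_option autoImplicit false
open Polynomial
open HilbNum

namespace Groth.Agent.S14405

/-- coefficient of the difference of the top monomial -/
theorem coeff_delta_mono (d k : ℕ) (hk : d ≤ k) :
    ((X : ℚ[X]) ^ (d + 1) - (X + C (-1)) ^ (d + 1)).coeff k = if k = d then ((d : ℚ) + 1) else 0 := by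
  rw [coeff_sub, coeff_X_pow, coeff_X_add_C_pow]
  rcases Nat.lt_or_ge d k with h | h
  · have hkd : k ≠ d := by omega
    rw [if_neg hkd]
    rcases Nat.lt_or_ge (d + 1) k with h2 | h2
    · rw [if_neg (by omega), Nat.choose_eq_zero_of_lt h2]; simp
    · have : k = d + 1 := by omega
      subst this
      simp
  · have : k = d := by omega
    subst this
    rw [if_neg (by omega), if_pos rfl]
    have : k + 1 - k = 1 := by omega
    rw [this, Nat.choose_succ_self_right]
    push_cast
    ring

theorem exists_antidiff : ∀ (d : ℕ) (Q : ℚ[X]), Q ≠ 0 → Q.natDegree = d →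
    ∃ P : ℚ[X], P.natDegree = d + 1 ∧ P - P.comp (X + C (-1)) = Q := by
  intro d
  induction d using Nat.strong_induction_on with
  | _ d ih =>
    intro Q hQ hd
    set a := Q.leadingCoeff with ha
    have ha0 : a ≠ 0 := leadingCoeff_ne_zero.mpr hQ
    have hd1 : ((d : ℚ) + 1) ≠ 0 := by positivity
    set P₁ : ℚ[X] := C (a / (d + 1)) * X ^ (d + 1) with hP₁
    have hc : a / ((d : ℚ) + 1) ≠ 0 := div_ne_zero ha0 hd1
    have hP₁deg : P₁.natDegree = d + 1 := natDegree_C_mul_X_pow _ _ hc
    have hΔ : P₁ - P₁.comp (X + C (-1)) =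
        C (a / (d + 1)) * (X ^ (d + 1) - (X + C (-1)) ^ (d + 1)) := by
      rw [hP₁, mul_comp, C_comp, pow_comp, X_comp]; ring
    set R := Q - (P₁ - P₁.comp (X + C (-1))) with hR
    have hRcoeff : ∀ k, d ≤ k → R.coeff k = 0 := by
      intro k hk
      rw [hR, hΔ, coeff_sub, coeff_C_mul, coeff_delta_mono d k hk]
      by_cases hkd : k = d
      · subst hkd
        rw [if_pos rfl, ← hd, coeff_natDegree, ← ha]
        field_simp
        ring
      · rw [if_neg hkd, mul_zero, sub_zero]
        exact coeff_eq_zero_of_natDegree_lt (by omega)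
    by_cases hR0 : R = 0
    · refine ⟨P₁, hP₁deg, ?_⟩
      have : Q = P₁ - P₁.comp (X + C (-1)) := by
        have := hR0; rw [hR] at this; exact sub_eq_zero.mp this
      exact this.symm
    · have hdpos : 0 < d := by
        by_contra h0
        have : d = 0 := by omega
        apply hR0
        ext k
        rw [hRcoeff k (by omega), coeff_zero]
      have hRdeg : R.natDegree < d := by
        have : R.natDegree ≤ d - 1 := by
          rw [natDegree_le_iff_coeff_eq_zero]
          intro N hN
          exact hRcoeff N (by omega)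
        omega
      obtain ⟨P₂, hP₂deg, hP₂⟩ := ih R.natDegree hRdeg R hR0 rfl
      refine ⟨P₁ + P₂, ?_, ?_⟩
      · rw [natDegree_add_eq_left_of_natDegree_lt (by omega), hP₁deg]
      · rw [add_comp]
        have : P₁ + P₂ - (P₁.comp (X + C (-1)) + P₂.comp (X + C (-1))) =
            (P₁ - P₁.comp (X + C (-1))) + (P₂ - P₂.comp (X + C (-1))) := by ring
        rw [this, hP₂, hR]
        ring

/-- Let φ be a function from the integers to the rationals and Q a nonzero polynomial with rational
coefficients of degree d such that φ(m) - φ(m-1) = Q(m) for every integer m. Then there is a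
polynomial P with rational coefficients, of degree d + 1, such that φ(m) = P(m) for every integer m.
(The explicit form of P in the binomial basis is not part of this statement.) -/
theorem result (φ : ℤ → ℚ) (d : ℕ) (Q : ℚ[X]) (hQ : Q ≠ 0)
    (hd : Q.natDegree = d) (h : ∀ m : ℤ, φ m - φ (m - 1) = Q.eval (m : ℚ)) :
    ∃ P : ℚ[X], P.natDegree = d + 1 ∧ ∀ m : ℤ, φ m = P.eval (m : ℚ) := by
  obtain ⟨P, hPdeg, hP⟩ := exists_antidiff d Q hQ hd
  have hPeval : ∀ m : ℤ, P.eval (m : ℚ) - P.eval ((m : ℚ) - 1) = Q.eval (m : ℚ) := by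
    intro m
    have := congrArg (fun p => p.eval (m : ℚ)) hP
    simp only [eval_sub, eval_comp, eval_add, eval_X, eval_C] at this
    rw [← this]
    ring_nf
  set ψ : ℤ → ℚ := fun m => φ m - P.eval (m : ℚ) with hψ
  have hstep : ∀ m : ℤ, ψ m = ψ (m - 1) := by
    intro m
    have h1 := h m
    have h2 := hPeval m
    simp only [hψ]
    push_cast
    linarith
  have hconst : ∀ m : ℤ, ψ m = ψ 0 := by
    intro m
    induction m using Int.induction_on with
    | zero => rfl
    | succ i hi =>
      have := hstep ((i : ℤ) + 1)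
      rw [this]
      simpa using hi
    | pred i hi =>
      have := hstep (-(i : ℤ))
      rw [← this]
      exact hi
  refine ⟨P + C (ψ 0), ?_, ?_⟩
  · rw [natDegree_add_C, hPdeg]
  · intro m
    have := hconst m
    simp only [hψ] at this
    rw [eval_add, eval_C]
    simp only [hψ]
    linarith

end Groth.Agent.S14405
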