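import Groth.Statements.S0055
import Groth.Agent.Lib.Helper17SerreAmple3
-- import your own Groth.Agent.* helpers here

set_option autoImplicit false
universe u
open Coherent

namespace Groth.Agent.S0055

open AlgebraicGeometry CategoryTheory in
/-- Let S be Noetherian, f : X → S proper, F coherent on X and L invertible on X, ample on f⁻¹(W) for
every affine open W of S (relatively ample). Then there is n₀ with R^p f_*(F ⊗ L^{⊗n}) = 0 for all n
≥ n₀ and p > 0. -/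
theorem result {X S : Scheme.{u}} (f : X ⟶ S) [IsProper f]
    [IsNoetherian S] (L : X.Modules) (hL : PicF.IsInvertible L)
    (ha : ∀ W : S.Opens, IsAffineOpen W → CohB1.IsAmple (L.restrict (f ⁻¹ᵁ W).ι))
    (M : X.Modules) (hM : Coh.IsCoh M) :
    ∃ n₀ : ℕ, ∀ n : ℕ, n₀ ≤ n → ∀ p : ℕ, 0 < p →
      Limits.IsZero ((Coh.RpushAb f p).obj (Coh.toAb (CohB1.tensorMod M (CohB1.tensorPow L n)))) := by
  -- a finite affine open cover of the base
  have hcov : ∀ s : S, ∃ W : S.Opens, IsAffineOpen W ∧ s ∈ W := fun s => by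
    obtain ⟨W, hW, hsW, -⟩ := (TopologicalSpace.Opens.isBasis_iff_nbhd.mp S.isBasis_affineOpens)
      (show s ∈ (⊤ : S.Opens) from trivial)
    exact ⟨W, hW, hsW⟩
  choose W hWa hsW using hcov
  obtain ⟨T, hT⟩ : ∃ T : Finset S, (Set.univ : Set S) ⊆ ⋃ s ∈ T, (W s : Set S) :=
    isCompact_univ.elim_finite_subcover (fun s => (W s : Set S)) (fun s => (W s).2)
      (fun s _ => Set.mem_iUnion.2 ⟨s, hsW s⟩)
  -- Serre vanishing over each member of the cover
  have hser : ∀ s : S, ∃ n₀ : ℕ, ∀ n : ℕ, n₀ ≤ n → ∀ p : ℕ, 0 < p →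
      Subsingleton (Coh.HH (↑(f ⁻¹ᵁ W s))
        (CohB1.tensorMod (M.restrict (f ⁻¹ᵁ W s).ι)
          (CohB1.tensorPow (L.restrict (f ⁻¹ᵁ W s).ι) n)) p) := fun s => by
    haveI : IsAffine (↑(W s) : Scheme.{u}) := hWa s
    haveI : IsNoetherian (↑(W s) : Scheme.{u}) := { }
    exact Groth.Agent.Lib.Helper17.SerreAmple.serre_vanishing_ample (f ∣_ W s)
      (L.restrict (f ⁻¹ᵁ W s).ι)
      (Groth.Agent.Lib.Helper23.SecTw.isInvertible_restrict L hL _) (ha (W s) (hWa s))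
      (M.restrict (f ⁻¹ᵁ W s).ι)
      (Groth.Agent.Lib.Helper17.FinLoc.isCoh_restrict (f ⁻¹ᵁ W s).ι M hM)
  choose n₀ hn₀ using hser
  refine ⟨T.sup n₀, fun n hn p hp => ?_⟩
  haveI : Coh.IsQCoh (CohB1.tensorMod M (CohB1.tensorPow L n)) :=
    (Groth.Agent.Lib.Helper17.SerreAmple.isCoh_twist M L hM hL n).1
  refine Groth.Agent.Lib.Helper17.SerreAmple.isZero_RpushAb_of_cover f _ p
    (fun s : T => W s.1) (fun s => hWa s.1) (fun y => ?_) (fun s => ?_)
  · obtain ⟨s, hs⟩ := Set.mem_iUnion.1 (hT (Set.mem_univ y))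
    obtain ⟨hsT, hys⟩ := Set.mem_iUnion.1 hs
    exact ⟨⟨s, hsT⟩, hys⟩
  · obtain ⟨Θ⟩ := Groth.Agent.Lib.Helper23.RestrTensor.nonempty_restrict_twist_iso M L hL
      (f ⁻¹ᵁ W s.1) n
    have h1 := hn₀ s.1 n ((Finset.le_sup s.2).trans hn) p hp
    have h2 : Subsingleton (Coh.HHon X (CohB1.tensorMod M (CohB1.tensorPow L n))
        (f ⁻¹ᵁ W s.1) p) :=
      Groth.Agent.Lib.Helper27PnCohVanish.subsingleton_HH_of_iso Θ.symm p h1
    obtain ⟨a⟩ := Groth.Agent.Lib.Helper17.BCVan.nonempty_HE_equiv_HHon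
      (CohB1.tensorMod M (CohB1.tensorPow L n)) (f ⁻¹ᵁ W s.1) p
    exact a.toEquiv.subsingleton

end Groth.Agent.S0055
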