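import Groth.Statements.S16087
import Groth.Agent.Lib.Helper28WeilRef

set_option autoImplicit false
universe u
open CategoryTheory CategoryTheory.Limits AlgebraicGeometry TopologicalSpace
open SDiv

namespace Groth.Agent.S16087

/-- The class map takes values in Weil divisor classes and is surjective: suppose X is a normal scheme
that is integral and locally Noetherian, and denote its generic point by η. For a rank one coherent
reflexive O_X-module F and a nonzero rational section s ∈ F_η write ord_{x,F}(s) for the order of s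
with respect to a generator of the free rank one O_{X,x}-module F_x at a point x of codimension 1.
Then (1) the function sending a codimension-1 point x to ord_{x,F}(s) and every other point to 0 has
locally finite support, so it is a Weil divisor; and (2) every Weil divisor D on X (an
integer-valued function with locally finite support vanishing outside the codimension-1 points)
arises this way: D(x) = ord_{x,F}(s) at all codimension-1 points x for some rank one coherent
reflexive F and nonzero s ∈ F_η. -/
theorem result (X : Scheme.{u}) [IsIntegral X] [IsLocallyNoetherian X]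
    (hX : Pi1.IsNormalScheme X) :
    (∀ (F : X.Modules) (hF : RefHull.IsRef1 F) (s : Cyc.secFibre F (genericPoint ↥X)), s ≠ 0 →
        ∃ D : AlgebraicCycle X ℤ, (∀ x : ↥X, Order.coheight x ≠ 1 → D x = 0) ∧
          ∀ (x : ↥X), Order.coheight x = 1 →
            D x = Cyc.secOrdAt F (genericPoint ↥X) x ((genericPoint_spec ↥X).specializes (Set.mem_univ x)) s) ∧
      ∀ D : AlgebraicCycle X ℤ, (∀ x : ↥X, Order.coheight x ≠ 1 → D x = 0) →
        ∃ (F : X.Modules) (_ : RefHull.IsRef1 F) (s : Cyc.secFibre F (genericPoint ↥X)), s ≠ 0 ∧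
          ∀ (x : ↥X), Order.coheight x = 1 →
            D x = Cyc.secOrdAt F (genericPoint ↥X) x ((genericPoint_spec ↥X).specializes (Set.mem_univ x)) s := by
  open Groth.Agent.Lib.Helper28.RefGroup Groth.Agent.Lib.Helper28.RefOrd
    Groth.Agent.Lib.Helper28.GenOrd Groth.Agent.Lib.Helper28.WeilOrd Groth.Agent.Lib.Helper28.WeilSheaf
    Groth.Agent.Lib.Helper2.CycC1 in
  constructor
  · intro F hF s hs
    obtain ⟨s', rfl⟩ := Submodule.Quotient.mk_surjective _ s
    have hs' : s' ≠ 0 := fun h => hs (by rw [h]; rfl)
    have hbig := bigOpen_trivLocus hX F hF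
    have hmem : ∀ x : ↥X, Order.coheight x = 1 → x ∈ trivLocus F := by
      intro x hx
      have hdim : ringKrullDim (X.presheaf.stalk x) = 1 := by
        rw [ringKrullDim_stalk_eq_coheight, hx]; rfl
      by_contra hcon
      have := hbig x hcon
      rw [hdim] at this
      exact absurd this (by norm_num)
    -- local description of the orders
    have key : ∀ (W : X.Opens) (tF : Γ(F, W)) (_ : (W : Set ↥X).Nonempty)
        (_ : ∀ (y : ↥X) (hy : y ∈ W), Function.Bijective
          (fun c : X.presheaf.stalk y => c • F.presheaf.germ W y hy tF)),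
        ∃ a : ↑X.functionField, a ≠ 0 ∧ ∀ (y : ↥X), y ∈ W → Order.coheight y = 1 →
          Cyc.secOrdAt F (genericPoint ↥X) y ((genericPoint_spec ↥X).specializes (Set.mem_univ y))
            (Submodule.Quotient.mk s') = Scheme.ord a y := by
      intro W tF hne hgF
      obtain ⟨w, hw⟩ := hne
      have hηW : genericPoint ↥X ∈ W :=
        ((genericPoint_spec ↥X).specializes (Set.mem_univ w)).mem_open W.isOpen hw
      obtain ⟨a, ha⟩ := (hgF _ hηW).2 s'
      have ha' : a • F.presheaf.germ W (genericPoint ↥X) hηW tF = s' := ha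
      have ha0 : a ≠ 0 := by
        rintro rfl
        rw [zero_smul] at ha'
        exact hs' ha'.symm
      refine ⟨a, ha0, fun y hyW hy1 => ?_⟩
      have hsp : F.presheaf.stalkSpecializes ((genericPoint_spec ↥X).specializes (Set.mem_univ y))
          (F.presheaf.germ W y hyW tF) = F.presheaf.germ W (genericPoint ↥X) hηW tF :=
        ConcreteCategory.congr_hom (TopCat.Presheaf.germ_stalkSpecializes F.presheaf hyW _) tF
      rw [← ha', ← hsp, secOrdAt_mk F _ y _ _ (hgF y hyW) (by rw [hsp]; exact hgF _ hηW) a]
      exact ordAt_residue_eq_ord y hy1 a ha0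
    have hlf : LocallyFiniteSupport (fun x : ↥X => if Order.coheight x = 1 then
        Cyc.secOrdAt F (genericPoint ↥X) x ((genericPoint_spec ↥X).specializes (Set.mem_univ x))
          (Submodule.Quotient.mk s') else 0) := by
      intro z
      obtain ⟨U₀, hU₀', hzU₀, -⟩ := (Opens.isBasis_iff_nbhd.1 X.isBasis_affineOpens) (Opens.mem_top z)
      have hU₀ : IsAffineOpen U₀ := hU₀'
      refine ⟨U₀, U₀.2.mem_nhds hzU₀, ?_⟩
      haveI : IsNoetherianRing Γ(X, U₀) := IsLocallyNoetherian.component_noetherian ⟨U₀, hU₀⟩
      haveI : NoetherianSpace ↥U₀ := noetherianSpace_of_isAffineOpen U₀ hU₀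
      have hc : IsCompact {u : U₀ | u.1 ∈ trivLocus F} := NoetherianSpace.isCompact _
      have hcomp : IsCompact ((U₀ : Set ↥X) ∩ (trivLocus F : Set ↥X)) := by
        have h1 := hc.image continuous_subtype_val
        convert h1 using 1
        ext y
        constructor
        · rintro ⟨h1, h2⟩
          exact ⟨⟨y, h1⟩, h2, rfl⟩
        · rintro ⟨u, hu, rfl⟩
          exact ⟨u.2, hu⟩
      have hloc : ∀ x : {x : ↥X // x ∈ (U₀ : Set ↥X) ∩ (trivLocus F : Set ↥X)},
          ∃ (W : X.Opens) (a : ↑X.functionField), x.1 ∈ W ∧ a ≠ 0 ∧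
            ∀ (y : ↥X), y ∈ W → Order.coheight y = 1 →
              Cyc.secOrdAt F (genericPoint ↥X) y ((genericPoint_spec ↥X).specializes (Set.mem_univ y))
                (Submodule.Quotient.mk s') = Scheme.ord a y := by
        intro x
        obtain ⟨W, tF, hxW, hgF⟩ := exists_local_generator_of_mem_trivLocus F x.1 x.2.2
        obtain ⟨a, ha0, ha⟩ := key W tF ⟨x.1, hxW⟩ hgF
        exact ⟨W, a, hxW, ha0, ha⟩
      choose W a hxW ha0 ha using hloc
      obtain ⟨T, hT⟩ := hcomp.elim_finite_subcover (fun x => (W x : Set ↥X)) (fun x => (W x).2)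
        (fun y hy => Set.mem_iUnion.2 ⟨⟨y, hy⟩, hxW _⟩)
      refine Set.Finite.subset (Set.Finite.biUnion T.finite_toSet
        (fun x _ => finite_ord_ne_zero hU₀ (a x) (ha0 x))) ?_
      rintro y ⟨hyU₀, hysupp⟩
      have hysupp' : (if Order.coheight y = 1 then
        Cyc.secOrdAt F (genericPoint ↥X) y ((genericPoint_spec ↥X).specializes (Set.mem_univ y))
          (Submodule.Quotient.mk s') else 0) ≠ 0 := hysupp
      have hy1 : Order.coheight y = 1 := by
        by_contra hcon
        rw [if_neg hcon] at hysupp'
        exact hysupp' rfl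
      rw [if_pos hy1] at hysupp'
      obtain ⟨x, hxT, hyW⟩ := Set.mem_iUnion₂.1 (hT ⟨hyU₀, hmem y hy1⟩)
      refine Set.mem_iUnion₂.2 ⟨x, hxT, hyU₀, hy1, ?_⟩
      rw [← ha x y hyW hy1]
      exact hysupp'
    refine ⟨⟨fun x => if Order.coheight x = 1 then
        Cyc.secOrdAt F (genericPoint ↥X) x ((genericPoint_spec ↥X).specializes (Set.mem_univ x))
          (Submodule.Quotient.mk s') else 0, fun _ _ => Set.mem_univ _, fun z _ => hlf z⟩, ?_, ?_⟩
    · intro x hx
      exact if_neg hx
    · intro x hx
      exact if_pos hx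
  · intro D hD0
    have hD : LocallyFiniteSupport (D : ↥X → ℤ) := fun z => D.supportLocallyFiniteWithinDomain' z trivial
    obtain ⟨s, hs0, hs⟩ := exists_secOrdAt_eq hX hD
    exact ⟨weilSheaf hX D, isRef1_weilSheaf hX hD, s, hs0, hs⟩

end Groth.Agent.S16087
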