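import Groth.Statements.S16086
import Groth.Agent.Lib.Helper28RefOrd
import Groth.Agent.Lib.Helper28GenHom
import Groth.Agent.Lib.Helper28GenOrd

set_option autoImplicit false
universe u
open CategoryTheory CategoryTheory.Limits AlgebraicGeometry TopologicalSpace
open SDiv

namespace Groth.Agent.S16086

/-- The class map is well defined and injective: fix a scheme X that is integral, normal and locally
Noetherian, and write η for its generic point; suppose F and G are rank one coherent reflexive
O_X-modules and let s ∈ F_η and t ∈ G_η be nonzero rational sections. At a point x of codimension 1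
the stalks F_x, G_x are free of rank one over the discrete valuation ring O_{X,x}, so s and t have
orders ord_{x,F}(s), ord_{x,G}(t). Then F ≅ G if and only if the Weil divisors of s and t are
linearly equivalent: for some nonzero rational function f one has ord_{x,F}(s) = ord_{x,G}(t) +
ord_x(f) at every point x of codimension 1. -/
theorem result (X : Scheme.{u}) [IsIntegral X] [IsLocallyNoetherian X]
    (hX : Pi1.IsNormalScheme X) (F G : X.Modules) (hF : RefHull.IsRef1 F) (hG : RefHull.IsRef1 G)
    (s : Cyc.secFibre F (genericPoint ↥X)) (hs : s ≠ 0) (t : Cyc.secFibre G (genericPoint ↥X)) (ht : t ≠ 0) :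
    Nonempty (F ≅ G) ↔
      ∃ f : ↑X.functionField, f ≠ 0 ∧
        ∀ (x : ↥X), Order.coheight x = 1 →
          Cyc.secOrdAt F (genericPoint ↥X) x ((genericPoint_spec ↥X).specializes (Set.mem_univ x)) s =
            Cyc.secOrdAt G (genericPoint ↥X) x ((genericPoint_spec ↥X).specializes (Set.mem_univ x)) t +
              Scheme.ord f x := by
  open Groth.Agent.Lib.Helper28.RefGroup Groth.Agent.Lib.Helper28.RefOrd
    Groth.Agent.Lib.Helper28.GenHom Groth.Agent.Lib.Helper28.GenOrd
    Groth.Agent.Lib.Helper2.CycC1 Groth.Agent.Lib.Helper2.CycSecDiv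
    Groth.Agent.Lib.Helper28.HomShFun in
  obtain ⟨s', rfl⟩ := Submodule.Quotient.mk_surjective _ s
  obtain ⟨t', rfl⟩ := Submodule.Quotient.mk_surjective _ t
  have hfield : IsField (X.presheaf.stalk (genericPoint ↥X)) := Field.toIsField X.functionField
  have hmax : IsLocalRing.maximalIdeal (X.presheaf.stalk (genericPoint ↥X)) = ⊥ :=
    IsLocalRing.isField_iff_maximalIdeal_eq.1 hfield
  haveI : IsDomain (X.presheaf.stalk (genericPoint ↥X)) := hfield.isDomain
  have hres : ∀ a : X.presheaf.stalk (genericPoint ↥X), a ≠ 0 → X.residue (genericPoint ↥X) a ≠ 0 := by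
    intro a ha h0
    have h1 : a ∈ IsLocalRing.maximalIdeal (X.presheaf.stalk (genericPoint ↥X)) :=
      (IsLocalRing.residue_eq_zero_iff _).1 h0
    rw [hmax, Ideal.mem_bot] at h1
    exact ha h1
  have hunit : ∀ a : X.presheaf.stalk (genericPoint ↥X), a ≠ 0 → IsUnit a := by
    intro a ha
    obtain ⟨c, hc⟩ := hfield.mul_inv_cancel ha
    exact IsUnit.of_mul_eq_one c hc
  have hs' : s' ≠ 0 := fun h => hs (by rw [h]; rfl)
  have ht' : t' ≠ 0 := fun h => ht (by rw [h]; rfl)
  have hbigF := bigOpen_trivLocus hX F hF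
  have hbigG := bigOpen_trivLocus hX G hG
  have hmemF : ∀ x : ↥X, Order.coheight x = 1 → x ∈ trivLocus F := by
    intro x hx
    have hdim : ringKrullDim (X.presheaf.stalk x) = 1 := by
      rw [ringKrullDim_stalk_eq_coheight, hx]; rfl
    by_contra hcon
    have := hbigF x hcon
    rw [hdim] at this
    exact absurd this (by norm_num)
  have hmemG : ∀ x : ↥X, Order.coheight x = 1 → x ∈ trivLocus G := by
    intro x hx
    have hdim : ringKrullDim (X.presheaf.stalk x) = 1 := by
      rw [ringKrullDim_stalk_eq_coheight, hx]; rfl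
    by_contra hcon
    have := hbigG x hcon
    rw [hdim] at this
    exact absurd this (by norm_num)
  -- `s'` and `t'` generate the generic stalks
  have hgen : ∀ (L : X.Modules) (v : L.presheaf.stalk (genericPoint ↥X)), v ≠ 0 →
      genericPoint ↥X ∈ trivLocus L →
      Function.Bijective (fun c : X.presheaf.stalk (genericPoint ↥X) => c • v) := by
    intro L v hv hη
    obtain ⟨W, tL, hηW, hgL⟩ := exists_local_generator_of_mem_trivLocus L _ hη
    obtain ⟨a, ha⟩ := (hgL _ hηW).2 v
    have ha' : a • L.presheaf.germ W (genericPoint ↥X) hηW tL = v := ha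
    have ha0 : a ≠ 0 := by
      rintro rfl
      rw [zero_smul] at ha'
      exact hv ha'.symm
    rw [← ha']
    exact bijective_smul_unit _ (hgL _ hηW) a (hunit a ha0)
  have hbijs := hgen F s' hs' hbigF.nonempty
  have hbijt := hgen G t' ht' hbigG.nonempty
  -- local data at a point of the trivial locus of a module
  have key : ∀ (L : X.Modules) (v : L.presheaf.stalk (genericPoint ↥X)) (_ : v ≠ 0) (x : ↥X)
      (_ : x ∈ trivLocus L) (h : genericPoint ↥X ⤳ x) (W : X.Opens) (hxW : x ∈ W)
      (hηW : genericPoint ↥X ∈ W) (tL : Γ(L, W))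
      (_ : ∀ (y : ↥X) (hy : y ∈ W), Function.Bijective
        (fun c : X.presheaf.stalk y => c • L.presheaf.germ W y hy tL)),
      ∃ a : X.presheaf.stalk (genericPoint ↥X), a ≠ 0 ∧
        a • L.presheaf.germ W (genericPoint ↥X) hηW tL = v ∧
        Cyc.secOrdAt L (genericPoint ↥X) x h (Submodule.Quotient.mk v) =
          Cyc.ordAt x (genericPoint ↥X) h (X.residue (genericPoint ↥X) a) := by
    intro L v hv x _ h W hxW hηW tL hgL
    obtain ⟨a, ha⟩ := (hgL _ hηW).2 v
    have ha' : a • L.presheaf.germ W (genericPoint ↥X) hηW tL = v := ha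
    have hsp : L.presheaf.stalkSpecializes h (L.presheaf.germ W x hxW tL) =
        L.presheaf.germ W (genericPoint ↥X) hηW tL :=
      ConcreteCategory.congr_hom (TopCat.Presheaf.germ_stalkSpecializes L.presheaf hxW h) tL
    refine ⟨a, ?_, ha', ?_⟩
    · rintro rfl
      rw [zero_smul] at ha'
      exact hv ha'.symm
    · rw [← ha', ← hsp]
      exact secOrdAt_mk L _ x h _ (hgL x hxW) (by rw [hsp]; exact hgL _ hηW) a
  constructor
  · -- an isomorphism gives a rational function
    rintro ⟨e⟩
    have heinj : ∀ y : ↥X, Function.Bijective (RefHull.stalkMapₗ e.hom y) := by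
      intro y
      have h1 : (RefHull.stalkMapₗ e.inv y).comp (RefHull.stalkMapₗ e.hom y) = LinearMap.id := by
        rw [← stalkMapₗ_comp, e.hom_inv_id, stalkMapₗ_id]
      have h2 : (RefHull.stalkMapₗ e.hom y).comp (RefHull.stalkMapₗ e.inv y) = LinearMap.id := by
        rw [← stalkMapₗ_comp, e.inv_hom_id, stalkMapₗ_id]
      exact ⟨Function.LeftInverse.injective (g := RefHull.stalkMapₗ e.inv y)
          (fun v => LinearMap.congr_fun h1 v),
        Function.RightInverse.surjective (g := RefHull.stalkMapₗ e.inv y)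
          (fun v => LinearMap.congr_fun h2 v)⟩
    obtain ⟨f, hf⟩ := hbijt.2 (RefHull.stalkMapₗ e.hom (genericPoint ↥X) s')
    have hf' : f • t' = RefHull.stalkMapₗ e.hom (genericPoint ↥X) s' := hf
    have hf0 : f ≠ 0 := by
      rintro rfl
      rw [zero_smul] at hf'
      exact hs' ((heinj _).1 (by rw [map_zero]; exact hf'.symm))
    refine ⟨f, hf0, fun x hx => ?_⟩
    obtain ⟨W, tF, hxW, hgF⟩ := exists_local_generator_of_mem_trivLocus F x (hmemF x hx)
    have hηW : genericPoint ↥X ∈ W :=
      ((genericPoint_spec ↥X).specializes (Set.mem_univ x)).mem_open W.isOpen hxW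
    have hgG : ∀ (y : ↥X) (hy : y ∈ W), Function.Bijective
        (fun c : X.presheaf.stalk y => c • G.presheaf.germ W y hy (e.hom.app W tF)) := by
      intro y hy
      have : (fun c : X.presheaf.stalk y => c • G.presheaf.germ W y hy (e.hom.app W tF)) =
          (RefHull.stalkMapₗ e.hom y) ∘ (fun c : X.presheaf.stalk y => c • F.presheaf.germ W y hy tF) := by
        funext c
        rw [Function.comp_apply, map_smul, RefHull.stalkMapₗ_germ]
      rw [this]
      exact (heinj y).comp (hgF y hy)
    obtain ⟨a, ha0, ha, hordF⟩ := key F s' hs' x (hmemF x hx) _ W hxW hηW tF hgF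
    obtain ⟨b, hb0, hb, hordG⟩ := key G t' ht' x (hmemG x hx) _ W hxW hηW (e.hom.app W tF) hgG
    have hab : a = f * b := by
      apply (hgG _ hηW).1
      change a • G.presheaf.germ W _ hηW (e.hom.app W tF) =
        (f * b) • G.presheaf.germ W _ hηW (e.hom.app W tF)
      rw [mul_smul, hb, hf', ← ha, map_smul, RefHull.stalkMapₗ_germ]
    rw [hordF, hordG, hab, map_mul, ordAt_mul x _ _ _ _ (hres f hf0) (hres b hb0),
      ordAt_residue_eq_ord x hx f hf0, add_comm]
  · -- linear equivalence gives an isomorphism
    rintro ⟨f, hf0, hord⟩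
    have hbijft : Function.Bijective
        (fun c : X.presheaf.stalk (genericPoint ↥X) => c • (f • t')) :=
      bijective_smul_unit _ hbijt f (hunit f hf0)
    let εF : X.presheaf.stalk (genericPoint ↥X) ≃ₗ[X.presheaf.stalk (genericPoint ↥X)]
        F.presheaf.stalk (genericPoint ↥X) :=
      LinearEquiv.ofBijective (LinearMap.toSpanSingleton _ _ s') hbijs
    let εG : X.presheaf.stalk (genericPoint ↥X) ≃ₗ[X.presheaf.stalk (genericPoint ↥X)]
        G.presheaf.stalk (genericPoint ↥X) :=
      LinearEquiv.ofBijective (LinearMap.toSpanSingleton _ _ (f • t')) hbijft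
    let T : F.presheaf.stalk (genericPoint ↥X) ≃ₗ[X.presheaf.stalk (genericPoint ↥X)]
        G.presheaf.stalk (genericPoint ↥X) := εF.symm.trans εG
    have hTs : T s' = f • t' := by
      have h1 : εF.symm s' = 1 := by
        rw [LinearEquiv.symm_apply_eq]
        change s' = (1 : X.presheaf.stalk (genericPoint ↥X)) • s'
        rw [one_smul]
      change εG (εF.symm s') = f • t'
      rw [h1]
      change (1 : X.presheaf.stalk (genericPoint ↥X)) • (f • t') = f • t'
      rw [one_smul]
    have hloc : ∀ x : ↥X, Order.coheight x = 1 →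
        ∃ (W : X.Opens) (hxW : x ∈ W) (hηW : genericPoint ↥X ∈ W) (tF : Γ(F, W)) (tG : Γ(G, W))
          (w w' : X.presheaf.stalk x),
          (∀ (y : ↥X) (hy : y ∈ W), Function.Bijective
            (fun c : X.presheaf.stalk y => c • F.presheaf.germ W y hy tF)) ∧
          (∀ (y : ↥X) (hy : y ∈ W), Function.Bijective
            (fun c : X.presheaf.stalk y => c • G.presheaf.germ W y hy tG)) ∧
          w * w' = 1 ∧
          T (F.presheaf.germ W (genericPoint ↥X) hηW tF) =
            X.presheaf.stalkSpecializes ((genericPoint_spec ↥X).specializes (Set.mem_univ x)) w •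
              G.presheaf.germ W (genericPoint ↥X) hηW tG := by
      intro x hx
      have h : genericPoint ↥X ⤳ x := (genericPoint_spec ↥X).specializes (Set.mem_univ x)
      obtain ⟨W, tF, tG, hxW, hgF, hgG⟩ := exists_local_generators F G x ⟨hmemF x hx, hmemG x hx⟩
      have hηW : genericPoint ↥X ∈ W := h.mem_open W.isOpen hxW
      obtain ⟨a, ha0, ha, hordF⟩ := key F s' hs' x (hmemF x hx) h W hxW hηW tF hgF
      obtain ⟨b, hb0, hb, hordG⟩ := key G t' ht' x (hmemG x hx) h W hxW hηW tG hgG
      have h1 := hord x hx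
      rw [hordF, hordG, ordAt_residue_eq_ord x hx a ha0, ordAt_residue_eq_ord x hx b hb0] at h1
      haveI := Groth.Agent.Lib.Helper20.CDivOrd.isDiscreteValuationRing_stalk hX x hx
      have hfb0 : (f * b : X.functionField) ≠ 0 := mul_ne_zero hf0 hb0
      have hq0 : (f * b / a : X.functionField) ≠ 0 := div_ne_zero hfb0 ha0
      have hordq : Scheme.ord (f * b / a : X.functionField) x = 0 := by
        rw [Groth.Agent.Lib.Helper20.CDivOrd2.ord_div x _ _ hfb0 ha0, Scheme.ord_mul hf0 hb0]
        omega
      obtain ⟨w, hw⟩ := Groth.Agent.Lib.Helper20.CDivOrd.mem_range_of_ord_nonneg x hx _ hq0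
        (by rw [hordq])
      have hwu : IsUnit w := Groth.Agent.Lib.Helper20.CDivOrd2.isUnit_of_ord_eq_zero x hx w
        (by rw [hw]; exact hq0) (by rw [hw]; exact hordq)
      obtain ⟨w', hw'⟩ := hwu.exists_right_inv
      have hwa : (X.presheaf.stalkSpecializes h w : X.presheaf.stalk (genericPoint ↥X)) * a = f * b := by
        change algebraMap (X.presheaf.stalk x) X.functionField w * a = f * b
        rw [hw]
        exact div_mul_cancel₀ _ ha0
      refine ⟨W, hxW, hηW, tF, tG, w, w', hgF, hgG, hw', ?_⟩
      obtain ⟨a', ha'⟩ := hfield.mul_inv_cancel ha0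
      have h2 : a • T (F.presheaf.germ W (genericPoint ↥X) hηW tF) =
          a • (X.presheaf.stalkSpecializes h w • G.presheaf.germ W (genericPoint ↥X) hηW tG) := by
        rw [← map_smul, ha, hTs, ← hb, smul_smul, smul_smul, ← hwa, mul_comm]
      calc T (F.presheaf.germ W (genericPoint ↥X) hηW tF)
          = (a' * a) • T (F.presheaf.germ W (genericPoint ↥X) hηW tF) := by
            rw [mul_comm, ha', one_smul]
        _ = a' • (a • T (F.presheaf.germ W (genericPoint ↥X) hηW tF)) := mul_smul _ _ _
        _ = a' • (a • (X.presheaf.stalkSpecializes h w •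
              G.presheaf.germ W (genericPoint ↥X) hηW tG)) := by rw [h2]
        _ = X.presheaf.stalkSpecializes h w • G.presheaf.germ W (genericPoint ↥X) hηW tG := by
            rw [← mul_smul, mul_comm a', ha', one_smul]
    have hT : ∀ (y : ↥X), Order.coheight y = 1 → ∀ v : F.presheaf.stalk y,
        ∃ g : G.presheaf.stalk y,
          G.presheaf.stalkSpecializes ((genericPoint_spec ↥X).specializes (Set.mem_univ y)) g =
            T.toLinearMap
              (F.presheaf.stalkSpecializes ((genericPoint_spec ↥X).specializes (Set.mem_univ y)) v) := by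
      intro y hy v
      obtain ⟨W, hyW, hηW, tF, tG, w, w', hgF, hgG, hww', hTg⟩ := hloc y hy
      obtain ⟨c, hc⟩ := (hgF y hyW).2 v
      have hc' : c • F.presheaf.germ W y hyW tF = v := hc
      have hspF : F.presheaf.stalkSpecializes ((genericPoint_spec ↥X).specializes (Set.mem_univ y))
          (F.presheaf.germ W y hyW tF) = F.presheaf.germ W (genericPoint ↥X) hηW tF :=
        ConcreteCategory.congr_hom (TopCat.Presheaf.germ_stalkSpecializes F.presheaf hyW _) tF
      have hspG : G.presheaf.stalkSpecializes ((genericPoint_spec ↥X).specializes (Set.mem_univ y))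
          (G.presheaf.germ W y hyW tG) = G.presheaf.germ W (genericPoint ↥X) hηW tG :=
        ConcreteCategory.congr_hom (TopCat.Presheaf.germ_stalkSpecializes G.presheaf hyW _) tG
      refine ⟨(c * w) • G.presheaf.germ W y hyW tG, ?_⟩
      rw [← hc', stalkSpecializes_smul, stalkSpecializes_smul, hspF, hspG, LinearEquiv.coe_coe,
        map_smul, hTg, smul_smul, map_mul]
    have hT' : ∀ (y : ↥X), Order.coheight y = 1 → ∀ v : G.presheaf.stalk y,
        ∃ g : F.presheaf.stalk y,
          F.presheaf.stalkSpecializes ((genericPoint_spec ↥X).specializes (Set.mem_univ y)) g =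
            T.symm.toLinearMap
              (G.presheaf.stalkSpecializes ((genericPoint_spec ↥X).specializes (Set.mem_univ y)) v) := by
      intro y hy v
      obtain ⟨W, hyW, hηW, tF, tG, w, w', hgF, hgG, hww', hTg⟩ := hloc y hy
      obtain ⟨c, hc⟩ := (hgG y hyW).2 v
      have hc' : c • G.presheaf.germ W y hyW tG = v := hc
      have hspF : F.presheaf.stalkSpecializes ((genericPoint_spec ↥X).specializes (Set.mem_univ y))
          (F.presheaf.germ W y hyW tF) = F.presheaf.germ W (genericPoint ↥X) hηW tF :=
        ConcreteCategory.congr_hom (TopCat.Presheaf.germ_stalkSpecializes F.presheaf hyW _) tF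
      have hspG : G.presheaf.stalkSpecializes ((genericPoint_spec ↥X).specializes (Set.mem_univ y))
          (G.presheaf.germ W y hyW tG) = G.presheaf.germ W (genericPoint ↥X) hηW tG :=
        ConcreteCategory.congr_hom (TopCat.Presheaf.germ_stalkSpecializes G.presheaf hyW _) tG
      refine ⟨(c * w') • F.presheaf.germ W y hyW tF, ?_⟩
      rw [LinearEquiv.coe_coe, LinearEquiv.eq_symm_apply, ← hc', stalkSpecializes_smul,
        stalkSpecializes_smul, hspF, hspG, map_smul, hTg, smul_smul, ← map_mul, mul_assoc,
        mul_comm w' w, hww', mul_one]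
    obtain ⟨φ, hφ⟩ := exists_hom_of_generic hX F G hG.1 hG.2.1 T.toLinearMap hT
    obtain ⟨ψ, hψ⟩ := exists_hom_of_generic hX G F hF.1 hF.2.1 T.symm.toLinearMap hT'
    have htfF := Groth.Agent.Lib.Helper28.ReflNormal.isTorsionFree_of_isReflexive' F hF.1 hF.2.1
    have htfG := Groth.Agent.Lib.Helper28.ReflNormal.isTorsionFree_of_isReflexive' G hG.1 hG.2.1
    refine ⟨⟨φ, ψ, ?_, ?_⟩⟩
    · apply hom_ext_of_generic F F hF.1 htfF
      rw [stalkMapₗ_comp, stalkMapₗ_id, hφ, hψ]
      ext v
      simp
    · apply hom_ext_of_generic G G hG.1 htfG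
      rw [stalkMapₗ_comp, stalkMapₗ_id, hφ, hψ]
      ext v
      simp

end Groth.Agent.S16086
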