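import Groth.Statements.S5103
import Groth.Agent.S16086
import Groth.Agent.Lib.Helper28WeilOrd
import Groth.Agent.Lib.Helper23UnitStalk

set_option autoImplicit false
universe u
open CategoryTheory CategoryTheory.Limits AlgebraicGeometry TopologicalSpace
open Div21

namespace Groth.Agent.S5103

/-- For an integral scheme (the canonical homomorphism Pic(X) → Cl(X) to the group of codimension-1
cycle classes is injective): let X be a normal locally Noetherian integral scheme, L an invertible
O_X-module and s a nonzero rational section of L (a nonzero element of the fibre of L at the generic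
point). If the Weil divisor of s is principal — there is a nonzero rational function f whose order
of vanishing at every point of codimension 1 (coheight 1 in the specialization order) equals the
order of s there — then L is isomorphic to O_X. -/
theorem result (X : Scheme.{u}) [IsIntegral X] [IsLocallyNoetherian X]
    (hX : Pi1.IsNormalScheme X) (L : X.Modules) (hL : PicF.IsInvertible L)
    (s : Cyc.secFibre L (genericPoint ↥X)) (hs : s ≠ 0) (f : ↑X.functionField) (hf : f ≠ 0)
    (h : ∀ x : ↥X, Order.coheight x = 1 →
      Cyc.secOrdAt L (genericPoint ↥X) x (genericPoint_specializes x) s = Scheme.ord f x) :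
    Nonempty (L ≅ Coh.structureModule X) := by
  open Groth.Agent.Lib.Helper28.RefGroup Groth.Agent.Lib.Helper28.GenOrd
    Groth.Agent.Lib.Helper28.WeilOrd Groth.Agent.Lib.Helper23.UnitStalk
    Groth.Agent.Lib.Helper2.CycC1 in
  have hL1 : RefHull.IsRef1 L :=
    ⟨⟨Groth.Agent.Lib.Helper23.SecTw.isQuasicoherent_of_isInvertible L hL,
      Groth.Agent.Lib.Helper20.ZClosLib.isFiniteType_of_isInvertible L hL⟩,
      isReflexive_of_isInvertible L hL, ⊤, by simp,
      isInvertible_restrict_of_le_trivLocus L ⊤ (fun y _ => hL y)⟩
  have hO1 : RefHull.IsRef1 (Coh.structureModule X) := isRef1_structureModule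
  have hfield : IsField (X.presheaf.stalk (genericPoint ↥X)) := Field.toIsField X.functionField
  have hmax : IsLocalRing.maximalIdeal (X.presheaf.stalk (genericPoint ↥X)) = ⊥ :=
    IsLocalRing.isField_iff_maximalIdeal_eq.1 hfield
  have hbij : ∀ y : ↥X, Function.Bijective (fun c : X.presheaf.stalk y => c • one y) := fun y =>
    ⟨toUnitStalk_injective y, toUnitStalk_surjective y⟩
  have ht : (Submodule.Quotient.mk (one (genericPoint ↥X)) :
      Cyc.secFibre (Coh.structureModule X) (genericPoint ↥X)) ≠ 0 := by
    intro h0
    rw [Submodule.Quotient.mk_eq_zero, hmax, Submodule.bot_smul, Submodule.mem_bot] at h0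
    have h1 : (1 : X.presheaf.stalk (genericPoint ↥X)) = 0 := (hbij _).1 (by
      change (1 : X.presheaf.stalk (genericPoint ↥X)) • one (genericPoint ↥X) =
        (0 : X.presheaf.stalk (genericPoint ↥X)) • one (genericPoint ↥X)
      rw [one_smul, zero_smul]
      exact h0)
    exact one_ne_zero h1
  have hordt : ∀ x : ↥X, Order.coheight x = 1 →
      Cyc.secOrdAt (Coh.structureModule X) (genericPoint ↥X) x
        ((genericPoint_spec ↥X).specializes (Set.mem_univ x))
        (Submodule.Quotient.mk (one (genericPoint ↥X))) = 0 := by
    intro x hx
    have hsp : (Coh.structureModule X).presheaf.stalkSpecializes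
        ((genericPoint_spec ↥X).specializes (Set.mem_univ x)) (one x) = one (genericPoint ↥X) :=
      ConcreteCategory.congr_hom (TopCat.Presheaf.germ_stalkSpecializes
        (Coh.structureModule X).presheaf (by trivial) _) _
    have h1 := secOrdAt_mk (Coh.structureModule X) _ x
      ((genericPoint_spec ↥X).specializes (Set.mem_univ x)) (one x) (hbij x)
      (by rw [hsp]; exact hbij _) 1
    rw [hsp, one_smul] at h1
    rw [h1, ordAt_residue_eq_ord x hx 1 one_ne_zero]
    exact ord_one' x
  refine (Groth.Agent.S16086.result X hX L (Coh.structureModule X) hL1 hO1 s hs _ ht).2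
    ⟨f, hf, fun x hx => ?_⟩
  rw [hordt x hx, zero_add]
  exact h x hx

end Groth.Agent.S5103
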