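import Groth.Statements.S5105
import Groth.Agent.Lib.Helper28WeilUFD

set_option autoImplicit false
universe u
open CategoryTheory CategoryTheory.Limits AlgebraicGeometry TopologicalSpace
open Div21

namespace Groth.Agent.S5105

/-- For an integral scheme (X is locally factorial exactly when the canonical map Pic(X) → Cl(X) is a
bijection; in the presence of (i), being bijective means that each codimension-1 cycle arises as the
Weil divisor of some rational section of an invertible module): suppose X is an integral scheme that
is normal and locally Noetherian. Then these two conditions are equivalent: (1) whenever Z is a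
function from the points of X to the integers that is zero away from the points of codimension 1
(coheight 1) and whose support is locally finite, one can find an invertible O_X-module L together
with a nonzero rational section s of L (a nonzero element of the generic fibre of L) such that, at
each point of codimension 1, the order of s equals the value Z takes there; (2) each local ring of X
is a unique factorisation domain. -/
theorem result (X : Scheme.{u}) [IsIntegral X]
    [IsLocallyNoetherian X] (hX : Pi1.IsNormalScheme X) :
    (∀ Z : ↥X → ℤ, (∀ x : ↥X, Order.coheight x ≠ 1 → Z x = 0) →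
        (∀ x : ↥X, ∃ W : X.Opens, x ∈ W ∧ {z : ↥X | z ∈ W ∧ Z z ≠ 0}.Finite) →
        ∃ (L : X.Modules) (_ : PicF.IsInvertible L) (s : Cyc.secFibre L (genericPoint ↥X)), s ≠ 0 ∧
          ∀ x : ↥X, Order.coheight x = 1 →
            Cyc.secOrdAt L (genericPoint ↥X) x (genericPoint_specializes x) s = Z x) ↔
      ∀ x : ↥X, UniqueFactorizationMonoid ↑(X.presheaf.stalk x) := by
  open Groth.Agent.Lib.Helper28.WeilUFD Groth.Agent.Lib.Helper28.WeilSheaf
    Groth.Agent.Lib.Helper20.CDivOrd3 in
  constructor
  · intro h1
    rw [isLocallyFactorial_iff hX]
    intro x₀ hco₀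
    classical
    obtain ⟨L, hL, s, hs0, hs⟩ := h1 (fun x => if x = x₀ then 1 else 0)
      (fun x hx => if_neg fun (h : x = x₀) => hx (by rw [h]; exact hco₀))
      (fun x => ⟨⊤, trivial, (Set.finite_singleton x₀).subset fun z hz => by
        by_contra hne
        exact hz.2 (if_neg hne)⟩)
    obtain ⟨s', rfl⟩ := Submodule.Quotient.mk_surjective _ s
    have hs' : s' ≠ 0 := fun h => hs0 (by rw [h]; rfl)
    obtain ⟨D, hD⟩ := exists_divisor_of_invertible L hL s' hs'
    refine ⟨D, fun f hf => ?_, fun x hne hco f hf => ?_⟩
    · rw [hD x₀ hco₀ f hf]
      exact (hs x₀ hco₀).trans (if_pos rfl)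
    · rw [hD x hco f hf]
      exact (hs x hco).trans (if_neg hne)
  · intro hufd Z hZ0 hZfin
    have hD : LocallyFiniteSupport Z := fun z => by
      obtain ⟨W, hzW, hfin⟩ := hZfin z
      exact ⟨W, W.2.mem_nhds hzW, hfin.subset fun y hy => ⟨hy.1, hy.2⟩⟩
    obtain ⟨s, hs0, hs⟩ := exists_secOrdAt_eq hX hD
    exact ⟨weilSheaf hX Z, isInvertible_weilSheaf_of_ufd hX hufd Z hD, s, hs0,
      fun x hx => (hs x hx).symm⟩

end Groth.Agent.S5105
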