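import Groth.Statements.S11180
import Mathlib
import Groth.Agent.S0543

set_option autoImplicit false
universe u
open scoped TensorProduct
open CAlg

namespace Groth.Agent.S11180

/-- a flat local algebra whose maximal ideal contains the image of the annihilator of `m` detects `m` -/
lemma key (A : Type u) [CommRing A] (M : Type u) [AddCommGroup M] [Module A M] (m : M)
    (B : Type u) [CommRing B] [Algebra A B] [IsLocalRing B] [Module.Flat A B]
    (hJB : ∀ a : A, a • m = 0 → algebraMap A B a ∈ IsLocalRing.maximalIdeal B)
    (h0 : (1 : B) ⊗ₜ[A] m = 0) : False := by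
  let J : Ideal A := (Submodule.span A {m}).annihilator
  have hJm : ∀ a : A, a ∈ J ↔ a • m = 0 := by
    intro a
    simp only [J, Submodule.mem_annihilator_span_singleton]
  let f : (A ⧸ J) →ₗ[A] M := Submodule.liftQ J (LinearMap.toSpanSingleton A M m) (by
    intro a ha
    rw [LinearMap.mem_ker, LinearMap.toSpanSingleton_apply]
    exact (hJm a).1 ha)
  have hfa : ∀ a : A, f (Ideal.Quotient.mk J a) = a • m := fun a => rfl
  have hf : Function.Injective f := by
    rw [← LinearMap.ker_eq_bot, LinearMap.ker_eq_bot']
    intro x hx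
    obtain ⟨a, rfl⟩ := Ideal.Quotient.mk_surjective x
    rw [hfa] at hx
    exact Ideal.Quotient.eq_zero_iff_mem.2 ((hJm a).2 hx)
  have hinj : Function.Injective (f.lTensor B) :=
    Module.Flat.lTensor_preserves_injective_linearMap f hf
  have h1 : (1 : B) ⊗ₜ[A] (Ideal.Quotient.mk J (1 : A)) = 0 := by
    apply hinj
    rw [LinearMap.lTensor_tmul, map_zero, hfa, one_smul]
    exact h0
  have h2' : TensorProduct.tensorQuotEquivQuotSMul B J
      ((1 : B) ⊗ₜ[A] (Ideal.Quotient.mk J (1 : A))) = 0 := by
    rw [h1]; exact LinearEquiv.map_zero _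
  rw [TensorProduct.tensorQuotEquivQuotSMul_tmul_mk, one_smul, Submodule.Quotient.mk_eq_zero] at h2'
  have hle : (J • (⊤ : Submodule A B)) ≤ (IsLocalRing.maximalIdeal B).restrictScalars A := by
    rw [Submodule.smul_le]
    intro r hr n _
    rw [Submodule.restrictScalars_mem, Algebra.smul_def]
    exact Ideal.mul_mem_right _ _ (hJB r ((hJm r).1 hr))
  have h3 := hle h2'
  rw [Submodule.restrictScalars_mem] at h3
  exact (IsLocalRing.mem_maximalIdeal _).1 h3 isUnit_one


/-- Let A be a Noetherian ring and M an A-module. If an element m of M is such that 1 ⊗ m = 0 in B ⊗_A M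
for every A-algebra B which is a complete Noetherian local ring, flat over A, then m = 0.
(Equivalently the natural map from M to the limit of the modules B ⊗_A M over all such B is
injective.) -/
theorem result (A : Type u) [CommRing A] [IsNoetherianRing A] (M : Type u) [AddCommGroup M] [Module A M] (m : M) (h : ∀ (B : Type u) [CommRing B] [Algebra A B] [IsNoetherianRing B] [IsLocalRing B], IsAdicComplete (IsLocalRing.maximalIdeal B) B → Module.Flat A B → (1 : B) ⊗ₜ[A] m = 0) : m = 0 := by
  by_contra hm
  let J : Ideal A := (Submodule.span A {m}).annihilator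
  have hJm : ∀ a : A, a ∈ J ↔ a • m = 0 := by
    intro a
    simp only [J, Submodule.mem_annihilator_span_singleton]
  have hJ : J ≠ ⊤ := by
    intro htop
    have : (1 : A) ∈ J := htop ▸ Submodule.mem_top
    rw [hJm, one_smul] at this
    exact hm this
  obtain ⟨𝔪, h𝔪, hJ𝔪⟩ := Ideal.exists_le_maximal J hJ
  let A' := Localization.AtPrime 𝔪
  let B := AdicCompletion (IsLocalRing.maximalIdeal A') A'
  have hBN : IsNoetherianRing B := Groth.Agent.S0543.result A' _
  have hST : IsScalarTower A A' B := IsScalarTower.of_algebraMap_eq (fun x => rfl)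
  have hflat1 : Module.Flat A A' := IsLocalization.flat A' 𝔪.primeCompl
  have hflat2 : Module.Flat A' B := inferInstance
  have hflat : Module.Flat A B := Module.Flat.trans A A' B
  have hcomp : IsAdicComplete (IsLocalRing.maximalIdeal B) B := inferInstance
  have h0 := h B hcomp hflat
  refine key A M m B ?_ h0
  intro r hr
  have hr' : algebraMap A A' r ∈ IsLocalRing.maximalIdeal A' :=
    (IsLocalization.AtPrime.to_map_mem_maximal_iff A' 𝔪 r).2 (hJ𝔪 ((hJm r).2 hr))
  rw [IsScalarTower.algebraMap_apply A A' B]
  rw [IsLocalRing.mem_maximalIdeal] at hr' ⊢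
  exact map_nonunit (algebraMap A' B) _ hr'

end Groth.Agent.S11180
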