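import Groth.Statements.S10890
import Mathlib
-- import your own Groth.Agent.* helpers here

set_option autoImplicit false
universe u
open CAlgX

namespace Groth.Agent.S10890.Aux

namespace LocRank
open Matrix

variable {R : Type u} [CommRing R]

/-- weak Cauchy–Binet, column form. -/
theorem det_mul_cols {a b c r : ℕ} (X : Matrix (Fin a) (Fin b) R) (Y : Matrix (Fin b) (Fin c) R)
    (F : Fin r → Fin a) (G : Fin r → Fin c) :
    ((X * Y).submatrix F G).det =
      ∑ τ : Fin r → Fin b, (∏ t, Y (τ t) (G t)) * (X.submatrix F τ).det := by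
  rw [← Matrix.det_transpose]
  have h1 : ((X * Y).submatrix F G)ᵀ =
      Matrix.of (fun t : Fin r => ∑ j : Fin b, Y j (G t) • (fun s : Fin r => X (F s) j)) := by
    ext t s
    simp only [Matrix.transpose_apply, Matrix.submatrix_apply, Matrix.mul_apply,
      Matrix.of_apply, Finset.sum_apply, Pi.smul_apply, smul_eq_mul]
    exact Finset.sum_congr rfl (fun j _ => mul_comm _ _)
  rw [h1]
  have h2 := (Matrix.detRowAlternating (R := R) (n := Fin r)).toMultilinearMap.map_sum
    (fun (t : Fin r) (j : Fin b) => Y j (G t) • (fun s : Fin r => X (F s) j))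
  have e0 : ∀ M : Matrix (Fin r) (Fin r) R,
      M.det = (Matrix.detRowAlternating (R := R) (n := Fin r)).toMultilinearMap M := fun _ => rfl
  rw [e0]
  refine Eq.trans h2 ?_
  refine Finset.sum_congr rfl (fun τ _ => ?_)
  have h3 := (Matrix.detRowAlternating (R := R) (n := Fin r)).toMultilinearMap.map_smul_univ
    (fun t : Fin r => Y (τ t) (G t)) (fun (t : Fin r) => (fun s : Fin r => X (F s) (τ t)))
  refine Eq.trans h3 ?_
  rw [smul_eq_mul]
  congr 1
  change Matrix.det (Matrix.of (fun (t : Fin r) (s : Fin r) => X (F s) (τ t))) = _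
  rw [← Matrix.det_transpose]
  rfl

/-- weak Cauchy–Binet, row form. -/
theorem det_mul_rows {a b c r : ℕ} (X : Matrix (Fin a) (Fin b) R) (Y : Matrix (Fin b) (Fin c) R)
    (F : Fin r → Fin a) (G : Fin r → Fin c) :
    ((X * Y).submatrix F G).det =
      ∑ τ : Fin r → Fin b, (∏ t, X (F t) (τ t)) * (Y.submatrix τ G).det := by
  have h := det_mul_cols Yᵀ Xᵀ G F
  rw [← Matrix.det_transpose, Matrix.transpose_submatrix, Matrix.transpose_mul, h]
  refine Finset.sum_congr rfl (fun τ _ => ?_)
  congr 1
  rw [← Matrix.det_transpose, Matrix.transpose_submatrix, Matrix.transpose_transpose]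


theorem minorIdeal_mul_le_left {a b c : ℕ} (X : Matrix (Fin a) (Fin b) R)
    (Y : Matrix (Fin b) (Fin c) R) (r : ℕ) :
    CAlgX.minorIdeal (X * Y) r ≤ CAlgX.minorIdeal X r := by
  unfold CAlgX.minorIdeal
  rw [Ideal.span_le]
  rintro _ ⟨⟨F, G⟩, rfl⟩
  simp only
  rw [det_mul_cols]
  refine Ideal.sum_mem _ fun τ _ => Ideal.mul_mem_left _ _ ?_
  exact Ideal.subset_span ⟨(F, τ), rfl⟩

theorem minorIdeal_mul_le_right {a b c : ℕ} (X : Matrix (Fin a) (Fin b) R)
    (Y : Matrix (Fin b) (Fin c) R) (r : ℕ) :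
    CAlgX.minorIdeal (X * Y) r ≤ CAlgX.minorIdeal Y r := by
  unfold CAlgX.minorIdeal
  rw [Ideal.span_le]
  rintro _ ⟨⟨F, G⟩, rfl⟩
  simp only
  rw [det_mul_rows]
  refine Ideal.sum_mem _ fun τ _ => Ideal.mul_mem_left _ _ ?_
  exact Ideal.subset_span ⟨(τ, G), rfl⟩

/-- a matrix with fewer columns than `r` has no nonzero `r`-minors. -/
theorem minorIdeal_eq_bot_of_cols_lt {a b : ℕ} (X : Matrix (Fin a) (Fin b) R) (r : ℕ)
    (hr : b < r) : CAlgX.minorIdeal X r = ⊥ := by
  unfold CAlgX.minorIdeal
  rw [eq_bot_iff, Ideal.span_le]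
  rintro _ ⟨⟨F, G⟩, rfl⟩
  simp only
  obtain ⟨i, j, hij, hG⟩ := Fintype.exists_ne_map_eq_of_card_lt G (by simpa using hr)
  rw [SetLike.mem_coe, Ideal.mem_bot]
  exact Matrix.det_zero_of_column_eq hij (fun k => by simp [hG])

theorem minorIdeal_one_eq_top (r : ℕ) :
    CAlgX.minorIdeal (1 : Matrix (Fin r) (Fin r) R) r = ⊤ := by
  rw [Ideal.eq_top_iff_one]
  unfold CAlgX.minorIdeal
  refine Ideal.subset_span ⟨(id, id), ?_⟩
  simp

theorem forward [IsLocalRing R] (n m r : ℕ) (A : Matrix (Fin n) (Fin m) R)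
    (N' : Submodule R (Fin n → R)) (hc : IsCompl (LinearMap.range (Matrix.mulVecLin A)) N')
    (hrk : Module.finrank R (LinearMap.range (Matrix.mulVecLin A)) = r) :
    CAlgX.minorIdeal A (r + 1) = ⊥ ∧ CAlgX.minorIdeal A r = ⊤ := by
  classical
  set K := LinearMap.range (Matrix.mulVecLin A) with hK
  let proj := Submodule.projectionOnto K N' hc
  have hproj : proj ∘ₗ K.subtype = LinearMap.id := Submodule.projectionOnto_comp_subtype hc
  have : Module.Projective R K := Module.Projective.of_split K.subtype proj hproj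
  have : Module.Finite R K := inferInstance
  have : Module.Free R K := Module.free_of_flat_of_isLocalRing
  let bK : Module.Basis (Fin r) R K := Module.finBasisOfFinrankEq R K hrk
  -- the matrices
  let C : Matrix (Fin n) (Fin r) R := fun i s => (bK s : Fin n → R) i
  have hb : ∀ s, ∃ b : Fin m → R, A *ᵥ b = (bK s : Fin n → R) := by
    intro s
    obtain ⟨b, hb⟩ := (bK s).2
    exact ⟨b, hb⟩
  choose b hb using hb
  let B : Matrix (Fin m) (Fin r) R := fun j s => b s j
  have hCAB : C = A * B := by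
    ext i s
    have := congrFun (hb s) i
    simp only [C]
    rw [← this]
    rfl
  have hcol : ∀ j, A.col j ∈ K := by
    intro j
    refine ⟨Pi.single j 1, ?_⟩
    simp
  let E : Matrix (Fin r) (Fin m) R := fun s j => bK.repr ⟨A.col j, hcol j⟩ s
  have hACE : A = C * E := by
    ext i j
    have h1 := bK.sum_repr ⟨A.col j, hcol j⟩
    have h2 := congrArg (fun x : K => (x : Fin n → R) i) h1
    simp only [Submodule.coe_sum, Submodule.coe_smul, Finset.sum_apply, Pi.smul_apply,
      smul_eq_mul] at h2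
    rw [Matrix.mul_apply]
    simp only [C, E]
    rw [← Finset.sum_congr rfl (fun s _ => mul_comm _ _)]
    exact h2.symm
  -- the retraction
  let ρ : (Fin n → R) →ₗ[R] (Fin r → R) := bK.equivFun.toLinearMap ∘ₗ proj
  let P : Matrix (Fin r) (Fin n) R := LinearMap.toMatrix' ρ
  have hPC : P * C = 1 := by
    ext s' s
    have h1 : (P * C) s' s = (P *ᵥ (C.col s)) s' := by
      rw [Matrix.mul_apply]; rfl
    have h2 : C.col s = (bK s : Fin n → R) := rfl
    rw [h1, h2]
    have h3 : P *ᵥ (bK s : Fin n → R) = ρ (bK s : Fin n → R) := by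
      rw [← Matrix.toLin'_apply]
      simp only [P, Matrix.toLin'_toMatrix']
    rw [h3]
    have h4 : proj (bK s : Fin n → R) = bK s := Submodule.projectionOnto_apply_left hc (bK s)
    simp only [ρ, LinearMap.comp_apply, LinearEquiv.coe_coe, h4, Module.Basis.equivFun_self,
      Matrix.one_apply]
    by_cases h : s = s'
    · simp [h]
    · simp [h, Ne.symm h]
  constructor
  · rw [hACE]
    refine le_bot_iff.mp ((minorIdeal_mul_le_left C E (r + 1)).trans ?_)
    rw [minorIdeal_eq_bot_of_cols_lt C (r + 1) (Nat.lt_succ_self r)]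
  · rw [eq_top_iff, ← minorIdeal_one_eq_top (R := R) r, ← hPC]
    refine (minorIdeal_mul_le_right P C r).trans ?_
    rw [hCAB]
    exact minorIdeal_mul_le_left A B r


/-- in a local ring, if a set generates the unit ideal then it contains a unit. -/
theorem exists_unit_minor [IsLocalRing R] {n m : ℕ} (A : Matrix (Fin n) (Fin m) R) (r : ℕ)
    (h : CAlgX.minorIdeal A r = ⊤) :
    ∃ (F : Fin r → Fin n) (G : Fin r → Fin m), IsUnit (A.submatrix F G).det := by
  by_contra hno
  push Not at hno
  have hle : CAlgX.minorIdeal A r ≤ IsLocalRing.maximalIdeal R := by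
    unfold CAlgX.minorIdeal
    rw [Ideal.span_le]
    rintro _ ⟨⟨F, G⟩, rfl⟩
    exact (IsLocalRing.mem_maximalIdeal _).mpr (hno F G)
  rw [h, top_le_iff] at hle
  exact (IsLocalRing.maximalIdeal.isMaximal R).ne_top hle

/-- if the `(r+1)`-minors vanish and the minor on rows `F`, columns `G` is a unit, every column
is a combination of the columns `G`. -/
theorem col_mem_span {n m r : ℕ} (A : Matrix (Fin n) (Fin m) R)
    (h0 : CAlgX.minorIdeal A (r + 1) = ⊥) (F : Fin r → Fin n) (G : Fin r → Fin m)
    (hu : IsUnit (A.submatrix F G).det) (j : Fin m) :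
    A.col j ∈ Submodule.span R (Set.range (A.submatrix id G).col) := by
  obtain ⟨u, hu'⟩ := hu
  -- cofactors
  let c : Fin (r + 1) → R := fun k =>
    (A.submatrix F ((Fin.snoc G j : Fin (r + 1) → Fin m) ∘ k.succAbove)).det
  have hclast : c (Fin.last r) = (u : R) := by
    simp only [c]
    rw [hu']
    congr 2
    funext t
    simp [Fin.succAbove_last]
  have hexp : ∀ i : Fin n,
      ∑ k : Fin (r + 1), (-1 : R) ^ (r + (k : ℕ)) *
        A i ((Fin.snoc G j : Fin (r + 1) → Fin m) k) * c k = 0 := by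
    intro i
    have hdet : (A.submatrix (Fin.snoc F i : Fin (r + 1) → Fin n)
        (Fin.snoc G j : Fin (r + 1) → Fin m)).det = 0 := by
      have : (A.submatrix (Fin.snoc F i : Fin (r + 1) → Fin n)
          (Fin.snoc G j : Fin (r + 1) → Fin m)).det ∈ CAlgX.minorIdeal A (r + 1) :=
        Ideal.subset_span ⟨(Fin.snoc F i, Fin.snoc G j), rfl⟩
      rwa [h0, Ideal.mem_bot] at this
    rw [Matrix.det_succ_row _ (Fin.last r)] at hdet
    rw [← hdet]
    refine Finset.sum_congr rfl fun k _ => ?_
    have e1 : (A.submatrix (Fin.snoc F i : Fin (r + 1) → Fin n)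
        (Fin.snoc G j : Fin (r + 1) → Fin m)) (Fin.last r) k =
        A i ((Fin.snoc G j : Fin (r + 1) → Fin m) k) := by
      simp
    have e2 : (A.submatrix (Fin.snoc F i : Fin (r + 1) → Fin n)
        (Fin.snoc G j : Fin (r + 1) → Fin m)).submatrix (Fin.last r).succAbove k.succAbove =
        A.submatrix F ((Fin.snoc G j : Fin (r + 1) → Fin m) ∘ k.succAbove) := by
      ext a b
      simp [Fin.succAbove_last]
    rw [e1, e2]
    simp [c]
  -- solve for the column
  have hcol : A.col j = ∑ k : Fin r,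
      (-(↑u⁻¹ : R) * ((-1 : R) ^ (r + (k : ℕ)) * c k.castSucc)) • (A.submatrix id G).col k := by
    funext i
    have h1 := hexp i
    rw [Fin.sum_univ_castSucc] at h1
    simp only [Fin.snoc_castSucc, Fin.snoc_last, Fin.val_last, Fin.val_castSucc, hclast] at h1
    have h2 : (-1 : R) ^ (r + r) = 1 := by
      rw [← two_mul, pow_mul]; simp
    rw [h2, one_mul] at h1
    have h3 : A i j * (u : R) = -∑ k : Fin r, (-1 : R) ^ (r + (k : ℕ)) * A i (G k) * c k.castSucc :=
      eq_neg_of_add_eq_zero_right h1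
    have h4 : A i j = (A i j * (u : R)) * (↑u⁻¹ : R) := by
      rw [mul_assoc, Units.mul_inv, mul_one]
    simp only [Finset.sum_apply, Pi.smul_apply, smul_eq_mul, Matrix.col_apply,
      Matrix.submatrix_apply, id_eq]
    rw [h4, h3, neg_mul, Finset.sum_mul, ← Finset.sum_neg_distrib]
    refine Finset.sum_congr rfl fun k _ => ?_
    ring
  rw [hcol]
  exact Submodule.sum_mem _ fun k _ => Submodule.smul_mem _ _ (Submodule.subset_span ⟨k, rfl⟩)

theorem backward [IsLocalRing R] (n m r : ℕ) (A : Matrix (Fin n) (Fin m) R)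
    (h0 : CAlgX.minorIdeal A (r + 1) = ⊥) (h1 : CAlgX.minorIdeal A r = ⊤) :
    ∃ N' : Submodule R (Fin n → R), IsCompl (LinearMap.range (Matrix.mulVecLin A)) N' ∧
        Module.finrank R (LinearMap.range (Matrix.mulVecLin A)) = r := by
  classical
  obtain ⟨F, G, hu⟩ := exists_unit_minor A r h1
  set C : Matrix (Fin n) (Fin r) R := A.submatrix id G with hC
  set D : Matrix (Fin r) (Fin r) R := A.submatrix F G with hD
  have hDu : IsUnit D := (Matrix.isUnit_iff_isUnit_det D).mpr hu
  let _ : Invertible D := hDu.invertible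
  let φ : (Fin n → R) →ₗ[R] (Fin r → R) := LinearMap.funLeft R R F
  have hφC : ∀ a : Fin r → R, φ (C *ᵥ a) = D *ᵥ a := by
    intro a
    funext s
    simp only [φ, LinearMap.funLeft_apply, Matrix.mulVec, dotProduct, C, D, Matrix.submatrix_apply,
      id_eq]
  -- the range
  have hrange : LinearMap.range (Matrix.mulVecLin A) = LinearMap.range (Matrix.mulVecLin C) := by
    rw [Matrix.range_mulVecLin, Matrix.range_mulVecLin]
    apply le_antisymm
    · rw [Submodule.span_le]
      rintro _ ⟨j, rfl⟩
      exact col_mem_span A h0 F G hu j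
    · apply Submodule.span_mono
      rintro _ ⟨k, rfl⟩
      exact ⟨G k, rfl⟩
  have hinjC : Function.Injective (Matrix.mulVecLin C) := by
    rw [← LinearMap.ker_eq_bot, Matrix.ker_mulVecLin_eq_bot_iff]
    intro a ha
    have h2 : D *ᵥ a = 0 := by rw [← hφC, ha, map_zero]
    have h3 := congrArg (fun v => D⁻¹ *ᵥ v) h2
    simpa [Matrix.mulVec_mulVec] using h3
  refine ⟨LinearMap.ker φ, ?_, ?_⟩
  · rw [hrange]
    constructor
    · rw [Submodule.disjoint_def]
      rintro x ⟨a, rfl⟩ hx
      rw [LinearMap.mem_ker, Matrix.mulVecLin_apply, hφC] at hx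
      have h3 := congrArg (fun v => D⁻¹ *ᵥ v) hx
      have : a = 0 := by simpa [Matrix.mulVec_mulVec] using h3
      rw [this, map_zero]
    · rw [codisjoint_iff, eq_top_iff]
      intro x _
      have hx : x = C *ᵥ (D⁻¹ *ᵥ φ x) + (x - C *ᵥ (D⁻¹ *ᵥ φ x)) := by abel
      rw [hx]
      refine Submodule.add_mem_sup ⟨_, rfl⟩ ?_
      rw [LinearMap.mem_ker, map_sub, hφC, Matrix.mulVec_mulVec, Matrix.mul_inv_of_invertible,
        Matrix.one_mulVec, sub_self]
  · rw [hrange]
    have e := LinearEquiv.ofInjective (Matrix.mulVecLin C) hinjC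
    rw [← e.finrank_eq]
    simp


theorem main [IsLocalRing R] (n m r : ℕ) (A : Matrix (Fin n) (Fin m) R) :
    (∃ N' : Submodule R (Fin n → R), IsCompl (LinearMap.range (Matrix.mulVecLin A)) N' ∧
        Module.finrank R (LinearMap.range (Matrix.mulVecLin A)) = r) ↔
      (CAlgX.minorIdeal A (r + 1) = ⊥ ∧ CAlgX.minorIdeal A r = ⊤) := by
  constructor
  · rintro ⟨N', hc, hrk⟩
    exact forward n m r A N' hc hrk
  · rintro ⟨h0, h1⟩
    exact backward n m r A h0 h1

end LocRank

end Groth.Agent.S10890.Aux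

namespace Groth.Agent.S10890

/-- (i) ⇔ (ii): let R be a local ring, A an n × m matrix over R regarded as a linear map R^m → R^n, and
1 ≤ r ≤ n. Then the image of A is a direct summand of R^n of rank r if and only if every (r+1) ×
(r+1) minor of A is zero and the r × r minors of A generate the unit ideal. (The printed statement
is over an arbitrary ring with 'direct summand of rank r'; its proof localises at once, and this row
states the local case, where a direct summand of R^n is free and its rank is its finrank.) -/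
theorem result (R : Type u) [CommRing R] [IsLocalRing R] (n m r : ℕ)
    (hr : 1 ≤ r) (hrn : r ≤ n) (A : Matrix (Fin n) (Fin m) R) :
    (∃ N' : Submodule R (Fin n → R), IsCompl (LinearMap.range (Matrix.mulVecLin A)) N' ∧
        Module.finrank R (LinearMap.range (Matrix.mulVecLin A)) = r) ↔
      (CAlgX.minorIdeal A (r + 1) = ⊥ ∧ CAlgX.minorIdeal A r = ⊤) := by
  exact Aux.LocRank.main n m r A

end Groth.Agent.S10890
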