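import Groth.Statements.S5789
import Mathlib

set_option autoImplicit false
universe u
open CategoryTheory
open EGA41

namespace Groth.Agent.S5789

open CategoryTheory Abelian CategoryTheory.Limits

/-- transport of vanishing of `Ext M - n` along a linear equivalence in the second variable. -/
theorem subsingleton_ext_of_equiv {A : Type u} [CommRing A] (M : ModuleCat.{u} A)
    {X Y : Type u} [AddCommGroup X] [Module A X] [AddCommGroup Y] [Module A Y]
    (e : X ≃ₗ[A] Y) (n : ℕ) (h : Subsingleton (Ext M (ModuleCat.of A X) n)) :
    Subsingleton (Ext M (ModuleCat.of A Y) n) := by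
  refine ⟨fun a b => ?_⟩
  have key : ∀ z : Ext M (ModuleCat.of A Y) n, z = 0 := by
    intro z
    have h1 : z = (z.comp (Ext.mk₀ (ModuleCat.ofHom e.symm.toLinearMap)) (add_zero n)).comp
        (Ext.mk₀ (ModuleCat.ofHom e.toLinearMap)) (add_zero n) := by
      rw [Ext.comp_assoc_of_third_deg_zero, Ext.mk₀_comp_mk₀]
      have : ModuleCat.ofHom e.symm.toLinearMap ≫ ModuleCat.ofHom e.toLinearMap =
          𝟙 (ModuleCat.of A Y) := by
        ext y
        simp
      rw [this, Ext.comp_mk₀_id]
    rw [h1, Subsingleton.elim (z.comp (Ext.mk₀ (ModuleCat.ofHom e.symm.toLinearMap))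
      (add_zero n)) 0, Ext.zero_comp]
  rw [key a, key b]

theorem main {A : Type u} [CommRing A] (M : ModuleCat.{u} A) (m : ℕ)
    (h : ∀ I : Ideal A, Subsingleton (Ext M (ModuleCat.of A (A ⧸ I)) m)) :
    ∀ (k : ℕ) (L : Type u) [AddCommGroup L] [Module A L] (s : Fin k → L),
      Submodule.span A (Set.range s) = ⊤ → Subsingleton (Ext M (ModuleCat.of A L) m)
  | 0, L, _, _, s, hs => by
    have hL : Subsingleton L := by
      have h0 : Set.range s = ∅ := Set.range_eq_empty s
      rw [h0, Submodule.span_empty] at hs
      refine ⟨fun a b => ?_⟩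
      have ha : a ∈ (⊤ : Submodule A L) := trivial
      have hb : b ∈ (⊤ : Submodule A L) := trivial
      rw [← hs, Submodule.mem_bot] at ha hb
      rw [ha, hb]
    have hz : IsZero (ModuleCat.of A L) := ModuleCat.isZero_of_subsingleton _
    refine ⟨fun a b => ?_⟩
    have key : ∀ z : Ext M (ModuleCat.of A L) m, z = 0 := by
      intro z
      rw [← Ext.comp_mk₀_id z, hz.eq_of_src (𝟙 _) 0, Ext.mk₀_zero, Ext.comp_zero]
    rw [key a, key b]
  | k + 1, L, _, _, s, hs => by
    let L' : Submodule A L := Submodule.span A {s 0}
    let S : ShortComplex (ModuleCat.{u} A) :=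
      ShortComplex.mk (ModuleCat.ofHom L'.subtype) (ModuleCat.ofHom (Submodule.mkQ L')) (by
        ext y
        show Submodule.mkQ L' (L'.subtype y) = 0
        rw [Submodule.mkQ_apply, Submodule.Quotient.mk_eq_zero]
        exact y.2)
    have hS : S.ShortExact := by
      refine ModuleCat.shortComplex_shortExact S ?_ (Submodule.injective_subtype L')
        (Submodule.mkQ_surjective L')
      intro y
      show Submodule.mkQ L' y = 0 ↔ _
      rw [Submodule.mkQ_apply, Submodule.Quotient.mk_eq_zero]
      constructor
      · intro hy; exact ⟨⟨y, hy⟩, rfl⟩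
      · rintro ⟨z, rfl⟩; exact z.2
    have h1 : Subsingleton (Ext M S.X₁ m) :=
      subsingleton_ext_of_equiv M (Ideal.quotTorsionOfEquivSpanSingleton A L (s 0)) m (h _)
    have h3 : Subsingleton (Ext M S.X₃ m) := by
      refine main M m h k (L ⧸ L') (fun i => Submodule.mkQ L' (s i.succ)) ?_
      rw [eq_top_iff]
      intro y hyt
      clear hyt
      obtain ⟨y, rfl⟩ := Submodule.mkQ_surjective L' y
      have hy : y ∈ Submodule.span A (Set.range s) := by rw [hs]; trivial
      induction hy using Submodule.span_induction with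
      | mem x hx =>
        obtain ⟨i, rfl⟩ := hx
        refine Fin.cases ?_ (fun j => ?_) i
        · have : Submodule.mkQ L' (s 0) = 0 := by
            rw [Submodule.mkQ_apply, Submodule.Quotient.mk_eq_zero]
            exact Submodule.mem_span_singleton_self _
          rw [this]
          exact Submodule.zero_mem _
        · exact Submodule.subset_span ⟨j, rfl⟩
      | zero => rw [map_zero]; exact Submodule.zero_mem _
      | add x y _ _ hx hy => rw [map_add]; exact Submodule.add_mem _ hx hy
      | smul a x _ hx => rw [map_smul]; exact Submodule.smul_mem _ _ hx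
    refine ⟨fun a b => ?_⟩
    have key : ∀ z : Ext M S.X₂ m, z = 0 := by
      intro z
      obtain ⟨x₁, hx₁⟩ := Ext.covariant_sequence_exact₂ _ hS z (Subsingleton.elim _ _)
      rw [← hx₁, Subsingleton.elim x₁ 0, Ext.zero_comp]
    exact (key a).trans (key b).symm

/-- Let A be a Noetherian ring, M a finitely generated A-module and n ≥ 0. Then M has projective
dimension at most n if and only if Ext^(n+1)_A(M, N) = 0 for every monogenous A-module N, i.e. every
N = A/I with I an ideal. -/
theorem result (A : Type u) [CommRing A] [IsNoetherianRing A]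
    (M : Type u) [AddCommGroup M] [Module A M] [Module.Finite A M] (n : ℕ) :
    HasProjectiveDimensionLT (ModuleCat.of A M) (n + 1) ↔
      ∀ I : Ideal A, Subsingleton (Abelian.Ext (ModuleCat.of A M) (ModuleCat.of A (A ⧸ I)) (n + 1)) := by
  constructor
  · intro h I
    exact HasProjectiveDimensionLT.subsingleton (ModuleCat.of A M) (n + 1) (n + 1) le_rfl _
  · intro h
    refine ModuleCat.hasProjectiveDimensionLT_of_forall_finite (ModuleCat.of A M) (n + 1) ?_
    intro L hL
    obtain ⟨k, s, hs⟩ := Module.Finite.exists_fin (R := A) (M := L)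
    exact main (ModuleCat.of A M) (n + 1) h k L s hs

end Groth.Agent.S5789
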