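import Groth.Statements.S11537
import Groth.Agent.Lib.Helper28TateCLoc3
-- import your own Groth.Agent.* helpers here

set_option autoImplicit false
universe u
open AdicRing

namespace Groth.Agent.S11537

/-- Let R be a base ring of class (N) or (V) for the ideal I, A an R-algebra topologically of finite
type, B a finitely generated A-algebra and M a finite B-module. The canonical map from B̂ ⊗_B M to
M̂, the hats denoting IB-adic completions, is bijective. -/
theorem result
    (R : Type u) [CommRing R] (I : Ideal R) (hR : AdicRing.IsBase R I)
    (A : Type u) [CommRing A] [Algebra R A] (hA : AdicRing.TopFiniteType R I A)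
    (B : Type u) [CommRing B] [Algebra R B] [Algebra A B] [IsScalarTower R A B]
    [Algebra.FiniteType A B]
    (M : Type u) [AddCommGroup M] [Module B M] [Module.Finite B M] :
    Function.Bijective
      (AdicCompletion.ofTensorProduct (I.map (algebraMap R B)) M) := by
  have hI := Groth.Agent.Lib.Helper28.TateCLoc.isBase_fg R I hR
  have hJ : (I.map (algebraMap R B)).FG := hI.map _
  refine ⟨?_, AdicCompletion.ofTensorProduct_surjective_of_finite _ M⟩
  have hBc := Groth.Agent.Lib.Helper28.TateCLoc.topFiniteType_completion R I A B hI hA
  have hH : IsHausdorff (I.map (algebraMap R (AdicCompletion (I.map (algebraMap R B)) B)))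
      (TensorProduct B (AdicCompletion (I.map (algebraMap R B)) B) M) :=
    Groth.Agent.Lib.Helper28.TateFlat.isHausdorff_map R I hR _ hBc _
  rw [← Groth.Agent.Lib.Helper28.TateCLoc.map_completion_eq] at hH
  exact Groth.Agent.Lib.Helper28.TateCLoc.injective_ofTensorProduct_of_isHausdorff _ M hJ

end Groth.Agent.S11537
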