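import Groth.Statements.S1763
import Groth.Agent.Lib.Helper8LC3
import Groth.Agent.Lib.Helper8DT
import Groth.Agent.Lib.Helper8LCAdd
import Groth.Agent.Lib.Helper10TF
import Groth.Agent.S0323

set_option autoImplicit false
universe u
open LocCoh

namespace Groth.Agent.S1763

section aux
open CategoryTheory
open Groth.Agent.Lib.Helper8.LC Groth.Agent.Lib.Helper8.ExtLES

variable {A : Type u} [CommRing A] [IsNoetherianRing A] (I : Ideal A)

/-- `F I M`: the first local cohomology of `M` with support in `I` is a finite module. -/
def F (M : Type u) [AddCommGroup M] [Module A M] : Prop := Module.Finite A (LocCoh.H I 1 M)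

section LES

variable {M' M M'' : Type u} [AddCommGroup M'] [Module A M'] [AddCommGroup M] [Module A M]
  [AddCommGroup M''] [Module A M''] (f : M' →ₗ[A] M) (g : M →ₗ[A] M'')

include f g in
/-- (A): finiteness of `H¹` passes to extensions. -/
theorem F_of_exact (hf : Function.Injective f) (hg : Function.Surjective g)
    (hex : Function.Exact f g) (h1 : F I M') (h2 : F I M'') : F I M := by
  unfold F at h1 h2 ⊢
  have hS := Sfg_shortExact f g hf hg hex
  haveI : IsNoetherian A (LocCoh.H I 1 M') := isNoetherian_of_isNoetherianRing_of_finite A _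
  haveI : IsNoetherian A (LocCoh.H I 1 M'') := isNoetherian_of_isNoetherianRing_of_finite A _
  have : IsNoetherian A (LocCoh.H I 1 M) := by
    refine isNoetherian_of_range_eq_ker ((localCohomology I 1).map (Sfg f g hex).f).hom
      ((localCohomology I 1).map (Sfg f g hex).g).hom ?_
    apply le_antisymm
    · rintro _ ⟨x, rfl⟩
      exact H_map_g_map_f I 1 (Sfg f g hex) hS x
    · intro y hy
      obtain ⟨x, hx⟩ := H_exact₂ I 1 (Sfg f g hex) hS y hy
      exact ⟨x, hx⟩
  exact Module.IsNoetherian.finite A _

include f g in
/-- (B): finiteness of `H¹` passes to submodules when the quotient is finite. -/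
theorem F_of_injective' [Module.Finite A M''] (hf : Function.Injective f)
    (hg : Function.Surjective g) (hex : Function.Exact f g) (h : F I M) : F I M' := by
  unfold F at h ⊢
  have hS := Sfg_shortExact f g hf hg hex
  haveI : IsNoetherian A M'' := isNoetherian_of_isNoetherianRing_of_finite A _
  haveI : IsNoetherian A (LocCoh.H I 0 M'') :=
    isNoetherian_of_injective (Φ I (ModuleCat.of A M'')).hom (Φ_injective I (ModuleCat.of A M''))
  haveI : IsNoetherian A (LocCoh.H I 1 M) := isNoetherian_of_isNoetherianRing_of_finite A _
  have : IsNoetherian A (LocCoh.H I 1 M') := by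
    refine isNoetherian_of_range_eq_ker (Hδ I 0 (Sfg f g hex) hS).hom
      ((localCohomology I 1).map (Sfg f g hex).f).hom ?_
    apply le_antisymm
    · rintro _ ⟨z, rfl⟩
      exact H_map_f_Hδ I 0 (Sfg f g hex) hS z
    · intro x hx
      obtain ⟨z, hz⟩ := H_exact₁ I 0 (Sfg f g hex) hS x hx
      exact ⟨z, hz⟩
  exact Module.IsNoetherian.finite A _

end LES

/-- (B), with the cokernel taken implicitly. -/
theorem F_of_injective {M' M : Type u} [AddCommGroup M'] [Module A M'] [AddCommGroup M]
    [Module A M] [Module.Finite A M] (f : M' →ₗ[A] M) (hf : Function.Injective f)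
    (h : F I M) : F I M' := by
  haveI : Module.Finite A (M ⧸ LinearMap.range f) := Module.Finite.quotient A _
  exact F_of_injective' I f (LinearMap.range f).mkQ hf (Submodule.mkQ_surjective _)
    (LinearMap.exact_map_mkQ_range f) h

/-- (C): power-torsion modules have vanishing `H¹`. -/
theorem F_of_isPowerTorsion (N : Type u) [AddCommGroup N] [Module A N]
    (hN : LocCoh.IsPowerTorsion I N) : F I N := by
  unfold F
  haveI := (Groth.Agent.S0323.result A I N hN).2 1 one_pos
  infer_instance

/-- (D): finiteness of `H¹` passes to finite powers. -/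
theorem F_pi (D : Type u) [AddCommGroup D] [Module A D] (r : ℕ) (h : F I D) :
    F I (Fin r → D) := by
  unfold F at h ⊢
  let Ψ : LocCoh.H I 1 (Fin r → D) →ₗ[A] (Fin r → LocCoh.H I 1 D) :=
    LinearMap.pi (fun j => ((localCohomology I 1).map
      (ModuleCat.ofHom (LinearMap.proj (R := A) (φ := fun _ : Fin r => D) j))).hom)
  have hΨ : Function.Injective Ψ := by
    rw [injective_iff_map_eq_zero]
    intro x hx
    have hj : ∀ j : Fin r, (localCohomology I 1).map
        (ModuleCat.ofHom (LinearMap.proj (R := A) (φ := fun _ : Fin r => D) j)) x = 0 :=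
      fun j => congrFun hx j
    have hid : 𝟙 (ModuleCat.of A (Fin r → D)) =
        ∑ j ∈ (Finset.univ : Finset (Fin r)),
          (ModuleCat.ofHom (LinearMap.proj (R := A) (φ := fun _ : Fin r => D) j) ≫
            ModuleCat.ofHom (LinearMap.single A (fun _ : Fin r => D) j)) := by
      apply ModuleCat.hom_ext
      apply LinearMap.ext
      intro c
      rw [ModuleCat.hom_sum, LinearMap.sum_apply]
      funext l
      rw [Finset.sum_apply]
      simp [Pi.single_apply]
    have h1 : x = (localCohomology I 1).map (𝟙 (ModuleCat.of A (Fin r → D))) x := by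
      rw [CategoryTheory.Functor.map_id]
      rfl
    rw [h1, hid, H_map_sum]
    apply Finset.sum_eq_zero
    intro j _
    rw [Functor.map_comp]
    change (localCohomology I 1).map (ModuleCat.ofHom (LinearMap.single A (fun _ : Fin r => D) j))
      ((localCohomology I 1).map
        (ModuleCat.ofHom (LinearMap.proj (R := A) (φ := fun _ : Fin r => D) j)) x) = 0
    rw [hj j, map_zero]
  haveI : IsNoetherian A (Fin r → LocCoh.H I 1 D) := isNoetherian_of_isNoetherianRing_of_finite A _
  exact Module.Finite.of_injective Ψ hΨ

/-- Elements outside `p` act injectively on `N`. -/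
def Inj (p : Ideal A) (N : Type u) [AddCommGroup N] [Module A N] : Prop :=
  ∀ s : A, s ∉ p → ∀ x : N, s • x = 0 → x = 0

/-- The coprimary case. -/
theorem F_coprimary (p : Ideal A) [hp : p.IsPrime] (hFp : F I (A ⧸ p)) :
    ∀ (k : ℕ) (N : Type u) [AddCommGroup N] [Module A N] [Module.Finite A N],
      (∀ a ∈ p ^ k, ∀ x : N, a • x = 0) → Inj p N → F I N := by
  intro k
  induction k with
  | zero =>
    intro N _ _ _ hk _
    apply F_of_isPowerTorsion
    intro x
    refine ⟨0, fun a _ => ?_⟩
    have h1 : x = 0 := by
      have h0 : (1 : A) ∈ p ^ 0 := by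
        rw [pow_zero, Ideal.one_eq_top]
        exact Submodule.mem_top
      have := hk 1 h0 x
      rwa [one_smul] at this
    rw [h1, smul_zero]
  | succ k ih =>
    intro N _ _ _ hk hinj
    haveI : IsNoetherian A N := isNoetherian_of_isNoetherianRing_of_finite A N
    let T : Submodule A N := Submodule.torsionBySet A N (p : Set A)
    -- `F I T`
    have hT : F I T := by
      haveI : IsDomain (A ⧸ p) := Ideal.Quotient.isDomain p
      haveI : Module.Finite A T := Module.IsNoetherian.finite A T
      haveI : Module.Finite (A ⧸ p) T := Module.Finite.of_restrictScalars_finite A (A ⧸ p) T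
      haveI : Module.IsTorsionFree (A ⧸ p) T := by
        refine ⟨fun r hr => ?_⟩
        obtain ⟨s, rfl⟩ := Ideal.Quotient.mk_surjective r
        have hs : s ∉ p := by
          intro hsp
          have h0 : Ideal.Quotient.mk p s = 0 := Ideal.Quotient.eq_zero_iff_mem.mpr hsp
          exact hr.ne_zero h0
        intro x y hxy
        have h1 : (Ideal.Quotient.mk p s) • (x - y) = 0 := by
          rw [smul_sub]
          exact sub_eq_zero.mpr hxy
        rw [Submodule.torsionBySet.mk_smul] at h1
        have h2 : s • ((x - y : T) : N) = 0 := by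
          rw [← Submodule.coe_smul, h1, Submodule.coe_zero]
        have h3 := hinj s hs _ h2
        have h4 : x - y = 0 := Subtype.ext h3
        exact sub_eq_zero.mp h4
      obtain ⟨n, f, hf⟩ := Groth.Agent.Lib.Helper10.exists_injective_of_isTorsionFree (A ⧸ p) T
      exact F_of_injective I (f.restrictScalars A) hf (F_pi I (A ⧸ p) n hFp)
    -- `F I (N ⧸ T)`
    have hQ : F I (N ⧸ T) := by
      apply ih (N ⧸ T)
      · intro a ha x
        obtain ⟨x, rfl⟩ := Submodule.Quotient.mk_surjective T x
        rw [← Submodule.Quotient.mk_smul, Submodule.Quotient.mk_eq_zero,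
          Submodule.mem_torsionBySet_iff]
        rintro ⟨b, hb⟩
        change b • a • x = 0
        rw [← mul_smul]
        exact hk (b * a) (by rw [pow_succ']; exact Ideal.mul_mem_mul hb ha) x
      · intro s hs x hx
        obtain ⟨x, rfl⟩ := Submodule.Quotient.mk_surjective T x
        rw [← Submodule.Quotient.mk_smul, Submodule.Quotient.mk_eq_zero,
          Submodule.mem_torsionBySet_iff] at hx
        rw [Submodule.Quotient.mk_eq_zero, Submodule.mem_torsionBySet_iff]
        rintro ⟨b, hb⟩
        apply hinj s hs
        have := hx ⟨b, hb⟩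
        change b • s • x = 0 at this
        change s • b • x = 0
        rw [smul_comm]
        exact this
    exact F_of_exact I T.subtype T.mkQ T.injective_subtype (Submodule.mkQ_surjective T)
      (LinearMap.exact_subtype_mkQ T) hT hQ

section Ass

variable {M : Type u} [AddCommGroup M] [Module A M] [Module.Finite A M]

/-- For `p` maximal in `Ass M`, elements outside `p` act injectively on `Γ_p(M)`. -/
theorem inj_torsionSub (p : Ideal A) (hmax : ∀ q ∈ associatedPrimes A M, p ≤ q → q = p) :
    Inj p (DRing.torsionSub p M) := by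
  intro s hs x hsx
  by_contra hx
  have hx' : (x : M) ≠ 0 := fun h => hx (Subtype.ext h)
  obtain ⟨P, hP, hle⟩ := exists_le_isAssociatedPrime_of_isNoetherianRing A (x : M) hx'
  haveI := hP.isPrime
  obtain ⟨n, hn⟩ := x.2
  have hpP : p ≤ P := by
    apply Ideal.IsPrime.le_of_pow_le (n := n)
    intro a ha
    apply hle
    rw [Submodule.mem_colon_singleton, Submodule.mem_bot]
    exact hn a ha
  have hPp := hmax P hP hpP
  apply hs
  rw [← hPp]
  apply hle
  rw [Submodule.mem_colon_singleton, Submodule.mem_bot]
  have := congrArg Subtype.val hsx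
  simpa using this

/-- `Ass(M/Γ_J(M)) ⊆ Ass(M) ∖ V(J)`. -/
theorem ass_quot_torsionSub (J : Ideal A) (q : Ideal A)
    (hq : q ∈ associatedPrimes A (M ⧸ DRing.torsionSub J M)) :
    q ∈ associatedPrimes A M ∧ ¬ J ≤ q := by
  haveI : IsNoetherian A M := isNoetherian_of_isNoetherianRing_of_finite A M
  obtain ⟨hqp, xbar, hxq⟩ := isAssociatedPrime_iff.mp hq
  obtain ⟨x, rfl⟩ := Submodule.Quotient.mk_surjective _ xbar
  obtain ⟨N, hN⟩ := Groth.Agent.Lib.Helper8.DT.exists_pow_kills_of_fg (I := J)
    (DRing.torsionSub J M) (IsNoetherian.noetherian _) le_rfl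
  have hmem : ∀ a, a ∈ q ↔ a • x ∈ DRing.torsionSub J M := by
    intro a
    rw [hxq, Submodule.mem_colon_singleton, Submodule.mem_bot, ← Submodule.Quotient.mk_smul,
      Submodule.Quotient.mk_eq_zero]
  have hxn : x ∉ DRing.torsionSub J M := by
    intro hx
    apply hqp.ne_top
    rw [Ideal.eq_top_iff_one, hmem, one_smul]
    exact hx
  have hJq : ¬ J ≤ q := by
    intro hle
    apply hxn
    refine ⟨N + 1, fun a ha => ?_⟩
    rw [pow_succ] at ha
    refine Submodule.mul_induction_on ha ?_ ?_
    · intro b hb c hc
      rw [mul_smul]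
      exact hN b hb (c • x) ((hmem c).mp (hle hc))
    · intro y z hy hz
      rw [add_smul, hy, hz, add_zero]
  refine ⟨?_, hJq⟩
  have hJN : ¬ J ^ N ≤ q := fun h => hJq (hqp.le_of_pow_le h)
  obtain ⟨a, haJ, haq⟩ := Set.not_subset.mp hJN
  rw [AssociatedPrimes.mem_iff, isAssociatedPrime_iff]
  refine ⟨hqp, a • x, ?_⟩
  ext b
  rw [Submodule.mem_colon_singleton, Submodule.mem_bot]
  constructor
  · intro hb
    have := hN a haJ (b • x) ((hmem b).mp hb)
    rw [smul_comm]
    exact this
  · intro hb
    have h1 : (b * a) • x ∈ DRing.torsionSub J M := by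
      rw [mul_smul, hb]
      exact Submodule.zero_mem _
    have h2 := (hmem (b * a)).mpr h1
    exact (hqp.mem_or_mem h2).resolve_right haq

end Ass

/-- The main implication. -/
theorem F_of_ass : ∀ (n : ℕ) (M : Type u) [AddCommGroup M] [Module A M] [Module.Finite A M],
    (associatedPrimes.finite A M).toFinset.card = n →
    (∀ p ∈ associatedPrimes A M, ¬ I ≤ p → F I (A ⧸ p)) → F I M := by
  intro n
  induction n using Nat.strong_induction_on with
  | _ n ih =>
    intro M _ _ _ hcard hyp
    haveI : IsNoetherian A M := isNoetherian_of_isNoetherianRing_of_finite A M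
    rcases subsingleton_or_nontrivial M with hM | hM
    · apply F_of_isPowerTorsion
      intro x
      exact ⟨0, fun a _ => Subsingleton.elim _ _⟩
    · have hne : (associatedPrimes.finite A M).toFinset.Nonempty := by
        obtain ⟨p, hp⟩ := associatedPrimes.nonempty A M
        exact ⟨p, (Set.Finite.mem_toFinset _).mpr hp⟩
      obtain ⟨p, hpmem, hpmax⟩ := Finset.exists_maximal hne
      have hpA : p ∈ associatedPrimes A M := (Set.Finite.mem_toFinset _).mp hpmem
      haveI hpp : p.IsPrime := hpA.isPrime
      have hmax : ∀ q ∈ associatedPrimes A M, p ≤ q → q = p := by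
        intro q hq hpq
        exact le_antisymm (hpmax ((Set.Finite.mem_toFinset _).mpr hq) hpq) hpq
      let N : Submodule A M := DRing.torsionSub p M
      haveI : Module.Finite A N := Module.IsNoetherian.finite A N
      -- `F I N`
      have hFN : F I N := by
        by_cases hIp : I ≤ p
        · apply F_of_isPowerTorsion
          intro x
          obtain ⟨k, hk⟩ := x.2
          refine ⟨k, fun a ha => ?_⟩
          apply Subtype.ext
          rw [Submodule.coe_smul, Submodule.coe_zero]
          exact hk a (Ideal.pow_right_mono hIp k ha)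
        · obtain ⟨k, hk⟩ := Groth.Agent.Lib.Helper8.DT.exists_pow_kills_of_fg (I := p)
            N (IsNoetherian.noetherian _) le_rfl
          refine F_coprimary I p (hyp p hpA hIp) k N ?_ (inj_torsionSub p hmax)
          intro a ha x
          apply Subtype.ext
          rw [Submodule.coe_smul, Submodule.coe_zero]
          exact hk a ha x x.2
      -- `F I (M ⧸ N)`
      have hsub : ∀ q ∈ associatedPrimes A (M ⧸ N), q ∈ associatedPrimes A M ∧ q ≠ p := by
        intro q hq
        obtain ⟨h1, h2⟩ := ass_quot_torsionSub p q hq
        exact ⟨h1, fun h => h2 h.ge⟩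
      have hFQ : F I (M ⧸ N) := by
        refine ih (associatedPrimes.finite A (M ⧸ N)).toFinset.card ?_ (M ⧸ N) rfl ?_
        · rw [← hcard]
          apply Finset.card_lt_card
          rw [Finset.ssubset_iff_of_subset]
          · refine ⟨p, hpmem, ?_⟩
            intro hp'
            exact (hsub p ((Set.Finite.mem_toFinset _).mp hp')).2 rfl
          · intro q hq
            exact (Set.Finite.mem_toFinset _).mpr (hsub q ((Set.Finite.mem_toFinset _).mp hq)).1
        · intro q hq hIq
          exact hyp q (hsub q hq).1 hIq
      exact F_of_exact I N.subtype N.mkQ N.injective_subtype (Submodule.mkQ_surjective N)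
        (LinearMap.exact_subtype_mkQ N) hFN hFQ

end aux


/-- Fix a Noetherian ring A, an ideal I of A and a finitely generated A-module M. The local cohomology
module H¹_I(M) is finitely generated over A if and only if, for each associated prime p of M with I
⊄ p, the module H¹_I(A/p) is finitely generated over A. (Affine form, through finiteness of H¹_I, of
a statement about coherence of direct images along the inclusion of the open complement of V(I).) -/
theorem result (A : Type u) [CommRing A] [IsNoetherianRing A] (I : Ideal A) (M : Type u) [AddCommGroup M] [Module A M] [Module.Finite A M] : Module.Finite A (LocCoh.H I 1 M) ↔ ∀ p : Ideal A, p ∈ associatedPrimes A M → ¬ I ≤ p → Module.Finite A (LocCoh.H I 1 (A ⧸ p)) := by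
  constructor
  · intro h p hp hIp
    obtain ⟨hpp, f, hf⟩ := (isAssociatedPrime_iff_exists_injective_linearMap p M).mp hp
    exact F_of_injective I f hf h
  · intro h
    exact F_of_ass I _ M rfl h

end Groth.Agent.S1763
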