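import Groth.Statements.S18708
import Groth.Agent.Lib.Helper28Hull2
import Groth.Agent.Lib.Helper5LocalFlat2
-- import your own Groth.Agent.* helpers here

set_option autoImplicit false
universe u
open QGor

namespace Groth.Agent.S18708
open Groth.Agent.Lib.Helper28

/-- Affine-local form at a point of the equivalence (b) ⇔ (c) ⇔ (b″) and of the note after it. Let A → B
be a local homomorphism of Noetherian local rings, m the maximal ideal of A, J an ideal of B and 0 →
F → E⁰ → E¹ → G → 0 an exact sequence of finite B-modules with E⁰, E¹ flat over A, G_q flat over A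
for every prime q not containing J, depth_J (E⁰/mE⁰) ≥ 2 and depth_J (E¹/mE¹) ≥ 1. Then depth_J
(F/mF) ≥ 2 (the restriction map of the closed fibre of F off V(J) is bijective) if and only if G is
flat over A, if and only if depth_J (F/m^(n+1)F) ≥ 2 for all n; and when G is flat over A so is F. -/
theorem result (A B : Type u) [CommRing A] [CommRing B]
    [IsNoetherianRing A] [IsNoetherianRing B] [IsLocalRing A] [IsLocalRing B] [Algebra A B]
    [IsLocalHom (algebraMap A B)] (J : Ideal B)
    (F E0 E1 G : Type u) [AddCommGroup F] [Module B F] [Module A F] [IsScalarTower A B F] [Module.Finite B F]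
    [AddCommGroup E0] [Module B E0] [Module A E0] [IsScalarTower A B E0] [Module.Finite B E0] [Module.Flat A E0]
    [AddCommGroup E1] [Module B E1] [Module A E1] [IsScalarTower A B E1] [Module.Finite B E1] [Module.Flat A E1]
    [AddCommGroup G] [Module B G] [Module A G] [IsScalarTower A B G] [Module.Finite B G]
    (f : F →ₗ[B] E0) (u : E0 →ₗ[B] E1) (v : E1 →ₗ[B] G)
    (hf : Function.Injective f) (hfu : Function.Exact f u) (huv : Function.Exact u v) (hv : Function.Surjective v)
    (hGU : ∀ q : PrimeSpectrum B, ¬ J ≤ q.asIdeal → FlatCA.FlatAt A q.asIdeal G)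
    (h0 : 2 ≤ LocCoh.idealDepth J (EGA4.FibMod A B E0)) (h1 : 1 ≤ LocCoh.idealDepth J (EGA4.FibMod A B E1)) :
    (2 ≤ LocCoh.idealDepth J (EGA4.FibMod A B F) ↔ Module.Flat A G) ∧
    (Module.Flat A G ↔ ∀ n : ℕ, 2 ≤ LocCoh.idealDepth J (F ⧸ ((EGA4.mB A B) ^ (n + 1) • (⊤ : Submodule B F)))) ∧
    (Module.Flat A G → Module.Flat A F) := by
  -- the image `K` of `u`
  let K : Submodule B E1 := LinearMap.range u
  let u1 : E0 →ₗ[B] K := u.rangeRestrict
  let u2 : K →ₗ[B] E1 := K.subtype
  have hu1 : Function.Surjective u1 := u.surjective_rangeRestrict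
  have hu2 : Function.Injective u2 := K.injective_subtype
  have hex1 : Function.Exact f u1 := by
    intro y
    rw [← hfu y]
    constructor
    · intro h; exact congrArg Subtype.val h
    · intro h; exact Subtype.ext h
  have hex2 : Function.Exact u2 v := by
    intro y
    rw [huv y]
    constructor
    · rintro ⟨e, rfl⟩; exact ⟨⟨u e, e, rfl⟩, rfl⟩
    · rintro ⟨⟨_, e, rfl⟩, rfl⟩; exact ⟨e, rfl⟩
  -- flatness of `K` and `F` from flatness of `G`
  have hKflat : Module.Flat A G → Module.Flat A K := fun hG =>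
    flat_of_exact_of_flat_of_flat (u2.restrictScalars A) (v.restrictScalars A) hu2 hv hex2
  have hFflat : Module.Flat A G → Module.Flat A F := fun hG =>
    have := hKflat hG
    flat_of_exact_of_flat_of_flat (f.restrictScalars A) (u1.restrictScalars A) hf hu1 hex1
  -- depth consequences of the two intersection properties
  have hdepth : (∀ x : F, f x ∈ EGA4.mB A B • (⊤ : Submodule B E0) →
        x ∈ EGA4.mB A B • (⊤ : Submodule B F)) →
      (∀ y : K, u2 y ∈ EGA4.mB A B • (⊤ : Submodule B E1) →
        y ∈ EGA4.mB A B • (⊤ : Submodule B K)) →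
      2 ≤ LocCoh.idealDepth J (EGA4.FibMod A B F) := by
    intro hI hII
    have hK1 : 1 ≤ LocCoh.idealDepth J (EGA4.FibMod A B K) :=
      one_le_idealDepth_of_injective J (quotSMulTopMap (EGA4.mB A B) u2)
        (quotSMulTopMap_injective _ u2 hII) h1
    have := min_idealDepth_le_left J (quotSMulTopMap (EGA4.mB A B) f)
      (quotSMulTopMap (EGA4.mB A B) u1) (quotSMulTopMap_injective _ f hI)
      (quotSMulTopMap_surjective _ u1 hu1) (quotSMulTopMap_exact _ f u1 hu1 hex1)
    refine le_trans (le_min h0 ?_) this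
    have : (1 : ℕ∞) + 1 ≤ LocCoh.idealDepth J (EGA4.FibMod A B K) + 1 := by gcongr
    exact le_trans (by norm_num) this
  -- (a) ⟸
  have haR : Module.Flat A G → 2 ≤ LocCoh.idealDepth J (EGA4.FibMod A B F) := by
    intro hG
    have := hKflat hG
    exact hdepth (mem_mB_smul_top_of_flat f u1 hf hu1 hex1)
      (mem_mB_smul_top_of_flat u2 v hu2 hv hex2)
  -- (a) ⟹
  have haL : 2 ≤ LocCoh.idealDepth J (EGA4.FibMod A B F) → Module.Flat A G := by
    intro h2
    have hF1 : 1 ≤ LocCoh.idealDepth J (EGA4.FibMod A B F) := le_trans (by norm_num) h2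
    have hKU : ∀ q : PrimeSpectrum B, ¬ J ≤ q.asIdeal → FlatCA.FlatAt A q.asIdeal K := by
      intro q hq
      exact flat_localizedModule_of_exact q.asIdeal.primeCompl u2 v hu2 hv hex2
        (flatAt_of_flat q.asIdeal) (hGU q hq)
    have hI := mem_map_maximalIdeal_smul_top_of_exact_of_flat_off J f u1 hf hu1 hex1 hKU hF1
    have hK1 : 1 ≤ LocCoh.idealDepth J (EGA4.FibMod A B K) := by
      have := min_idealDepth_le_right J (quotSMulTopMap (EGA4.mB A B) f)
        (quotSMulTopMap (EGA4.mB A B) u1) (quotSMulTopMap_injective _ f hI)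
        (quotSMulTopMap_surjective _ u1 hu1) (quotSMulTopMap_exact _ f u1 hu1 hex1)
      refine le_trans (le_min (le_trans (by norm_num) h0) ?_) this
      have : (2 : ℕ∞) - 1 ≤ LocCoh.idealDepth J (EGA4.FibMod A B F) - 1 := by gcongr
      refine le_trans ?_ this
      have e : ((2 : ℕ) : ℕ∞) - ((1 : ℕ) : ℕ∞) = ((1 : ℕ) : ℕ∞) := by
        rw [← ENat.natCast_sub]
      exact_mod_cast e.ge
    have hII := mem_map_maximalIdeal_smul_top_of_exact_of_flat_off J u2 v hu2 hv hex2 hGU hK1
    have hres : Function.Injective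
        ((u2.restrictScalars A).lTensor (A ⧸ IsLocalRing.maximalIdeal A)) := by
      rw [Groth.Agent.Lib.Helper5.lTensor_quotient_injective_iff]
      intro n hn
      rw [← mem_map_smul_top_iff (S := B)] at hn ⊢
      exact hII n hn
    exact Groth.Agent.Lib.Helper5.flat_of_exact_of_lTensor_quotient_injective
      (u2.restrictScalars A) (v.restrictScalars A) hv hex2
      (fun I => Groth.Agent.Lib.Helper5.lTensor_quotient_injective_of_residue B
        (u2.restrictScalars A) hres I)
  refine ⟨⟨haL, haR⟩, ⟨fun hG n => ?_, fun h => ?_⟩, hFflat⟩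
  · have hF := hFflat hG
    have h2 := haR hG
    have hU : ∀ q : PrimeSpectrum B, ¬ J ≤ q.asIdeal → FlatCA.FlatAt A q.asIdeal F :=
      fun q _ => flatAt_of_flat q.asIdeal
    have h := two_le_idealDepth_quotient_of_pow_le (A := A) (M := F) J hU h2
      (n + 1) (IsLocalRing.maximalIdeal A ^ (n + 1)) (Ideal.pow_le_self (by omega)) le_rfl
    rw [Ideal.map_pow] at h
    exact h
  · apply haL
    have := h 0
    rw [zero_add, pow_one] at this
    exact this

end Groth.Agent.S18708
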