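import Groth.Statements.S0569
import Groth.Agent.Lib.Helper28Tate
import Groth.Agent.Lib.Helper4Japanese
-- import your own Groth.Agent.* helpers here

set_option autoImplicit false
universe u
open CAlg

namespace Groth.Agent.S0569

/-- Let `R` be an integrally closed Noetherian domain and `x` an element such that `R/xR` is a domain
which is N-2 and `R` is complete with respect to `xR`. Then `R` is N-2. -/
theorem result (R : Type u) [CommRing R] [IsDomain R]
    [IsNoetherianRing R] [IsIntegrallyClosed R] (x : R) [(Ideal.span ({x} : Set R)).IsPrime]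
    (h2 : CAlg.IsN2 (R ⧸ Ideal.span ({x} : Set R))) [IsAdicComplete (Ideal.span ({x} : Set R)) R] :
    CAlg.IsN2 R := by
  by_cases hx0 : x = 0
  · -- `R ≃ R ⧸ (0)`
    have hker : RingHom.ker (Ideal.Quotient.mk (Ideal.span ({x} : Set R))) = ⊥ := by
      rw [Ideal.mk_ker, hx0, Ideal.span_singleton_eq_bot]
    let e : R ≃+* R ⧸ Ideal.span ({x} : Set R) :=
      RingEquiv.ofBijective (Ideal.Quotient.mk _)
        ⟨(RingHom.injective_iff_ker_eq_bot _).mpr hker, Ideal.Quotient.mk_surjective⟩
    exact Groth.Agent.Lib.Helper14.isN2_of_ringEquiv e.symm h2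
  · obtain ⟨p, hp⟩ := ExpChar.exists R
    intro L _ _ _ _ hfd
    exact Groth.Agent.Lib.Helper4.Japanese.finite_integralClosure_of_purelyInseparable R
      (FractionRing R)
      (fun K' _ _ _ _ h1 h3 =>
        Groth.Agent.Lib.Helper28.Tate.finite_integralClosure_of_isPurelyInseparable x hx0 h2 p
          (FractionRing R) K') L

end Groth.Agent.S0569
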