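import Groth.Statements.S7146
import Mathlib
import Groth.Agent.Lib.Helper5MultBound

set_option autoImplicit false
universe u
open Filter
open CAlg

namespace Groth.Agent.S7146

/-- Let R be a Noetherian local ring of Krull dimension d and I the ideal generated by a system of
parameters g_1, ..., g_d (d elements of the maximal ideal generating an ideal with radical the
maximal ideal); let e_I be the multiplicity of I, i.e. d! times the top coefficient of the numerical
polynomial n ↦ length(R/I^(n+1)), equivalently the limit of d!·length(R/Iⁿ)/n^d. Then e_I ≤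
length(R/I). (Stated for a natural number e equal to that limit.) -/
theorem result (R : Type u) [CommRing R] [IsNoetherianRing R] [IsLocalRing R]
    (d : ℕ) (hd : ringKrullDim R = d) (g : Fin d → R) (hg : ∀ i, g i ∈ IsLocalRing.maximalIdeal R)
    (hsop : IsLocalRing.maximalIdeal R ≤ (Ideal.span (Set.range g)).radical) (e : ℕ)
    (he : Tendsto (fun n : ℕ => (d.factorial : ℝ) * ((Module.length R (R ⧸ Ideal.span (Set.range g) ^ n)).toNat : ℝ) / (n : ℝ) ^ d)
      atTop (nhds (e : ℝ))) :
    (e : ℕ∞) ≤ Module.length R (R ⧸ Ideal.span (Set.range g)) := by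
  obtain ⟨I, hI⟩ : ∃ I : Ideal R, I = Ideal.span (Set.range g) := ⟨_, rfl⟩
  rw [← hI] at he ⊢
  by_cases hL : Module.length R (R ⧸ I) = ⊤
  · rw [hL]; exact le_top
  obtain ⟨l, hl⟩ := ENat.ne_top_iff_exists.mp hL
  rw [← hl]
  have hb : ∀ n : ℕ, (Module.length R (R ⧸ I ^ n)).toNat ≤ l * (n + d - 1).choose d := by
    intro n
    have h1 := Groth.Agent.Lib.Helper5.MultBound.length_quotient_pow_le d R g n
    rw [← hI, ← hl] at h1
    have h2 : Module.length R (R ⧸ I ^ n) ≤ ((l * (n + d - 1).choose d : ℕ) : ℕ∞) := by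
      push_cast
      exact h1
    exact ENat.toNat_le_of_le_natCast h2
  have key : ∀ᶠ n : ℕ in Filter.atTop,
      (d.factorial : ℝ) * ((Module.length R (R ⧸ I ^ n)).toNat : ℝ) / (n : ℝ) ^ d ≤
        (l : ℝ) * (1 + (d : ℝ) / n) ^ d := by
    filter_upwards [Filter.eventually_ge_atTop 1] with n hn
    have hn0 : (0 : ℝ) < n := by exact_mod_cast hn
    have hnat : d.factorial * (Module.length R (R ⧸ I ^ n)).toNat ≤ l * (n + d) ^ d := by
      calc d.factorial * (Module.length R (R ⧸ I ^ n)).toNat
          ≤ d.factorial * (l * (n + d - 1).choose d) := Nat.mul_le_mul_left _ (hb n)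
        _ = l * (n + d - 1).descFactorial d := by
            rw [Nat.descFactorial_eq_factorial_mul_choose]; ring
        _ ≤ l * (n + d - 1) ^ d := Nat.mul_le_mul_left _ (Nat.descFactorial_le_pow _ _)
        _ ≤ l * (n + d) ^ d :=
            Nat.mul_le_mul_left _ (Nat.pow_le_pow_left (Nat.sub_le _ _) _)
    have hreal : (d.factorial : ℝ) * ((Module.length R (R ⧸ I ^ n)).toNat : ℝ) ≤
        (l : ℝ) * ((n : ℝ) + d) ^ d := by exact_mod_cast hnat
    have hrw : (1 + (d : ℝ) / n) ^ d = ((n : ℝ) + d) ^ d / (n : ℝ) ^ d := by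
      rw [← div_pow]
      congr 1
      field_simp
    rw [hrw, ← mul_div_assoc]
    exact div_le_div_of_nonneg_right hreal (pow_pos hn0 d).le
  have hlim : Filter.Tendsto (fun n : ℕ => (l : ℝ) * (1 + (d : ℝ) / n) ^ d) Filter.atTop
      (nhds (l : ℝ)) := by
    have h0 := tendsto_const_div_atTop_nhds_zero_nat (d : ℝ)
    have h1 : Filter.Tendsto (fun n : ℕ => 1 + (d : ℝ) / n) Filter.atTop (nhds (1 + 0)) :=
      tendsto_const_nhds.add h0
    have h2 := (h1.pow d).const_mul (l : ℝ)
    simpa using h2
  have hfinal := le_of_tendsto_of_tendsto he hlim key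
  exact_mod_cast hfinal

end Groth.Agent.S7146
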