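import Groth.Statements.S7117
import Mathlib
import Groth.Agent.Lib.Helper5Mult
import Groth.Agent.Lib.Helper5AssocFormula
import Groth.Agent.S7146

set_option autoImplicit false
universe u
open CAlg

namespace Groth.Agent.S7117

/-- Let R be a Noetherian local ring of Krull dimension d with maximal ideal m, and suppose g_1, ...,
g_d in m form a system of parameters (they generate an ideal with radical m). Then the number of
minimal prime ideals p of R with R/p of Krull dimension d is at most the length of R/(g_1, ...,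
g_d). -/
theorem result (R : Type u) [CommRing R] [IsNoetherianRing R] [IsLocalRing R]
    (d : ℕ) (hd : ringKrullDim R = d) (g : Fin d → R) (hg : ∀ i, g i ∈ IsLocalRing.maximalIdeal R)
    (hsop : IsLocalRing.maximalIdeal R ≤ (Ideal.span (Set.range g)).radical) :
    (Set.ncard {p : Ideal R | p ∈ minimalPrimes R ∧ ringKrullDim (R ⧸ p) = d} : ℕ∞) ≤
      Module.length R (R ⧸ Ideal.span (Set.range g)) := by
  classical
  obtain ⟨q, hqdef⟩ : ∃ q : Ideal R, q = Ideal.span (Set.range g) := ⟨_, rfl⟩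
  have hsop' : IsLocalRing.maximalIdeal R ≤ q.radical := by rw [hqdef]; exact hsop
  rw [← hqdef]
  have hqm : q ≤ IsLocalRing.maximalIdeal R := by
    rw [hqdef, Ideal.span_le]
    rintro _ ⟨i, rfl⟩
    exact hg i
  have hq' : ∃ N : ℕ, IsLocalRing.maximalIdeal R ^ N ≤ q :=
    Ideal.exists_pow_le_of_le_radical_of_fg hsop' (IsNoetherian.noetherian _)
  -- multiplicities of the `R ⧸ p`
  have hex : ∀ p : PrimeSpectrum R, ∃ c : ℤ, ringKrullDim (R ⧸ p.asIdeal) = d →
      (Filter.Tendsto (fun t : ℕ => (d.factorial : ℝ) *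
        ((Module.length R ((R ⧸ p.asIdeal) ⧸
          (q ^ t • (⊤ : Submodule R (R ⧸ p.asIdeal))))).toNat : ℝ) / (t : ℝ) ^ d)
        Filter.atTop (nhds (c : ℝ)) ∧ 1 ≤ c) := by
    intro p
    by_cases hp : ringKrullDim (R ⧸ p.asIdeal) = d
    · have hsd : Module.supportDim R (R ⧸ p.asIdeal) = d := by
        rw [Module.supportDim_quotient_eq_ringKrullDim, hp]
      obtain ⟨c, h1, _, h3⟩ := Groth.Agent.Lib.Helper5.Mult.exists_mult R q hqm hq'
        (R ⧸ p.asIdeal) d hsd.le
      exact ⟨c, fun _ => ⟨h1, h3 hsd⟩⟩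
    · exact ⟨0, fun h => absurd h hp⟩
  choose e he using hex
  have hsdR : Module.supportDim R R ≤ d := by
    rw [Module.supportDim_self_eq_ringKrullDim, hd]
  obtain ⟨cR, hcR, hcR0, -⟩ := Groth.Agent.Lib.Helper5.Mult.exists_mult R q hqm hq' R d hsdR
  obtain ⟨F1, F2, F3⟩ := Groth.Agent.Lib.Helper5.AssocFormula.good (A := R) (I := q) (d := d)
    (e := fun p => (e p : ℝ)) ⟨hqm, hq'⟩ (fun p hp => (he p hp).1) R hsdR
  have hEq := tendsto_nhds_unique hcR F3
  -- the bound by the colength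
  have h7146 : ((cR.toNat : ℕ) : ℕ∞) ≤ Module.length R (R ⧸ q) := by
    rw [hqdef]
    refine Groth.Agent.S7146.result R d hd g hg hsop cR.toNat ?_
    rw [← hqdef]
    have hcast : ((cR.toNat : ℕ) : ℝ) = (cR : ℝ) := by
      have h1 : ((cR.toNat : ℕ) : ℤ) = cR := Int.toNat_of_nonneg hcR0
      exact_mod_cast h1
    rw [hcast]
    refine hcR.congr (fun n => ?_)
    rw [Groth.Agent.Lib.Helper5.Reduction.length_quot_pow R q n]
  -- the primes of dimension `d`
  obtain ⟨T, hT⟩ : ∃ T : Set (PrimeSpectrum R), T = {p | ringKrullDim (R ⧸ p.asIdeal) = d} :=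
    ⟨_, rfl⟩
  have hsuppR : ∀ p : PrimeSpectrum R, p ∈ Module.support R R := by
    intro p
    rw [Module.mem_support_iff']
    refine ⟨1, fun r hr h0 => hr ?_⟩
    rw [smul_eq_mul, mul_one] at h0
    rw [h0]
    exact p.asIdeal.zero_mem
  have hTfin : T.Finite := by
    refine F1.subset (fun p hp => ⟨?_, hsuppR p⟩)
    rw [hT] at hp
    exact hp
  have hterm : ∀ p ∈ T, (1 : ℝ) ≤
      ((Groth.Agent.Lib.Helper5.AssocFormula.L R R p).toNat : ℝ) * (e p : ℝ) := by
    intro p hp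
    have hp' : ringKrullDim (R ⧸ p.asIdeal) = d := by
      rw [hT] at hp
      exact hp
    have h1 : 1 ≤ (Groth.Agent.Lib.Helper5.AssocFormula.L R R p).toNat := by
      have hne : Groth.Agent.Lib.Helper5.AssocFormula.L R R p ≠ 0 := by
        unfold Groth.Agent.Lib.Helper5.AssocFormula.L
        rw [Ne, Module.length_eq_zero_iff, not_subsingleton_iff_nontrivial]
        exact Module.mem_support_iff.1 (hsuppR p)
      have h2 := ENat.toNat_pos hne (F2 p hp')
      omega
    have h2 : (1 : ℝ) ≤ (e p : ℝ) := by exact_mod_cast (he p hp').2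
    have h1' : (1 : ℝ) ≤ ((Groth.Agent.Lib.Helper5.AssocFormula.L R R p).toNat : ℝ) := by
      exact_mod_cast h1
    nlinarith
  have hsumge : (T.ncard : ℝ) ≤ (cR : ℝ) := by
    rw [hEq]
    have h1 : (∑ᶠ (p : PrimeSpectrum R) (_ : ringKrullDim (R ⧸ p.asIdeal) = d),
        ((Groth.Agent.Lib.Helper5.AssocFormula.L R R p).toNat : ℝ) * (e p : ℝ)) =
        ∑ᶠ p ∈ T, ((Groth.Agent.Lib.Helper5.AssocFormula.L R R p).toNat : ℝ) * (e p : ℝ) := by
      rw [hT]
      rfl
    rw [h1, finsum_mem_eq_finite_toFinset_sum _ hTfin]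
    calc (T.ncard : ℝ) = ∑ p ∈ hTfin.toFinset, (1 : ℝ) := by
          rw [Finset.sum_const, nsmul_eq_mul, mul_one, Set.ncard_eq_toFinset_card T hTfin]
      _ ≤ _ := Finset.sum_le_sum (fun p hp => hterm p ((Set.Finite.mem_toFinset hTfin).1 hp))
  have hS : {p : Ideal R | p ∈ minimalPrimes R ∧ ringKrullDim (R ⧸ p) = d} ⊆
      PrimeSpectrum.asIdeal '' T := by
    rintro p ⟨hpmin, hpd⟩
    refine ⟨⟨p, hpmin.1.1⟩, ?_, rfl⟩
    rw [hT]
    exact hpd
  have hcard : Set.ncard {p : Ideal R | p ∈ minimalPrimes R ∧ ringKrullDim (R ⧸ p) = d} ≤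
      T.ncard := (Set.ncard_le_ncard hS (hTfin.image _)).trans (Set.ncard_image_le hTfin)
  have h3 : ((Set.ncard {p : Ideal R | p ∈ minimalPrimes R ∧ ringKrullDim (R ⧸ p) = d} : ℕ) : ℤ)
      ≤ cR := by
    have h4 : ((Set.ncard {p : Ideal R | p ∈ minimalPrimes R ∧ ringKrullDim (R ⧸ p) = d} : ℕ) : ℝ)
        ≤ (cR : ℝ) := le_trans (by exact_mod_cast hcard) hsumge
    exact_mod_cast h4
  have h4 : Set.ncard {p : Ideal R | p ∈ minimalPrimes R ∧ ringKrullDim (R ⧸ p) = d} ≤
      cR.toNat := by omega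
  exact le_trans (by exact_mod_cast h4) h7146

end Groth.Agent.S7117
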