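import Groth.Statements.S11526
import Groth.Agent.Lib.Helper28TateBase
-- import your own Groth.Agent.* helpers here

set_option autoImplicit false
universe u
open AdicRing

namespace Groth.Agent.S11526

open Groth.Agent.Lib.Helper28 in
theorem fp_ideal_V (R : Type u) [CommRing R] [IsDomain R] [ValuationRing R]
    [Ring.KrullDimLE 1 R] (t : R) (ht : t ≠ 0) [IsHausdorff (Ideal.span {t}) R]
    (A : Type u) [CommRing A] [Algebra R A] (n : ℕ)
    (φ : AdicRing.RPow R (Ideal.span {t}) n →ₐ[R] A) (hφ : Function.Surjective φ)
    (hker : (RingHom.ker φ.toRingHom).FG) (J : Ideal A) (hJ : J.FG) :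
    Module.FinitePresentation A J := by
  classical
  let P := AdicRing.RPow R (Ideal.span {t}) n
  let algA : Algebra P A := φ.toRingHom.toAlgebra
  have hfinA : Module.Finite P A := Module.Finite.of_surjective (Algebra.linearMap P A) hφ
  -- lifted ideal
  let Jh : Ideal P := J.comap φ.toRingHom
  have hkerle : RingHom.ker φ.toRingHom ≤ Jh := by
    intro x hx
    change φ.toRingHom x ∈ J
    rw [RingHom.mem_ker.mp hx]
    exact J.zero_mem
  have hJh : Jh.FG := by
    obtain ⟨s, hs⟩ := hJ
    have hlift : ∀ a : A, ∃ b : P, φ b = a := hφ
    choose lift hlift using hlift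
    have h1 : Jh = Ideal.span ((s.image lift : Finset P) : Set P) ⊔ RingHom.ker φ.toRingHom := by
      apply le_antisymm
      · intro x hx
        have hx' : φ x ∈ Ideal.span (s : Set A) := by rw [hs]; exact hx
        -- write φ x as a combination
        have key : ∀ a ∈ Ideal.span (s : Set A), ∃ y ∈ Ideal.span ((s.image lift : Finset P) : Set P),
            φ y = a := by
          intro a ha
          refine Submodule.span_induction ?_ ?_ ?_ ?_ ha
          · intro a ha
            exact ⟨lift a, Ideal.subset_span (by simpa using ⟨a, ha, rfl⟩), hlift a⟩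
          · exact ⟨0, Ideal.zero_mem _, map_zero _⟩
          · rintro a b _ _ ⟨y, hy, rfl⟩ ⟨z, hz, rfl⟩
            exact ⟨y + z, Ideal.add_mem _ hy hz, map_add _ _ _⟩
          · rintro a b _ ⟨y, hy, rfl⟩
            refine ⟨lift a * y, Ideal.mul_mem_left _ _ hy, ?_⟩
            rw [map_mul, hlift, smul_eq_mul]
        obtain ⟨y, hy, hyx⟩ := key _ hx'
        have : x = y + (x - y) := by ring
        rw [this]
        apply Submodule.add_mem_sup hy
        rw [RingHom.mem_ker]
        change φ (x - y) = 0
        rw [map_sub, hyx, sub_self]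
      · apply sup_le
        · rw [Ideal.span_le]
          intro y hy
          simp only [Finset.coe_image, Set.mem_image, Finset.mem_coe] at hy
          obtain ⟨a, ha, rfl⟩ := hy
          change φ (lift a) ∈ J
          rw [hlift, ← hs]
          exact Ideal.subset_span ha
        · exact hkerle
    rw [h1]
    exact Submodule.FG.sup ⟨_, rfl⟩ hker
  have hJhfin : Module.Finite P Jh := Module.Finite.iff_fg.mpr hJh
  have hJhTF : TateMod.TF (algebraMap R P t) Jh := by
    apply TateMod.TF.submodule
    intro x hx
    apply Groth.Agent.Lib.Helper17.Adic.torsionFree_rpow_aux R t ht n 1 x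
    rw [pow_one, Algebra.smul_def]
    exact hx
  have hJhfp : Module.FinitePresentation P Jh := TateMain.fp_of_tf ht n Jh hJhfin hJhTF
  -- the map Jh → J
  let μ : Jh →ₗ[P] J :=
    { toFun := fun x => ⟨φ x.1, x.2⟩
      map_add' := by
        intro x y
        apply Subtype.ext
        simp
      map_smul' := by
        intro a x
        apply Subtype.ext
        simp only [Submodule.coe_smul, smul_eq_mul, map_mul, RingHom.id_apply]
        rfl }
  have hμ : Function.Surjective μ := by
    rintro ⟨a, ha⟩
    obtain ⟨b, rfl⟩ := hφ a
    exact ⟨⟨b, ha⟩, rfl⟩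
  have hμker : (LinearMap.ker μ).FG := by
    have h2 : LinearMap.ker μ = LinearMap.range (Submodule.inclusion hkerle) := by
      ext x
      rw [LinearMap.mem_ker, LinearMap.mem_range]
      constructor
      · intro hx
        have hx' : φ x.1 = 0 := congrArg Subtype.val hx
        exact ⟨⟨x.1, RingHom.mem_ker.mpr hx'⟩, Subtype.ext rfl⟩
      · rintro ⟨y, rfl⟩
        apply Subtype.ext
        exact RingHom.mem_ker.mp y.2
    rw [h2, LinearMap.range_eq_map]
    have : Module.Finite P (RingHom.ker φ.toRingHom) := Module.Finite.iff_fg.mpr hker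
    exact (Module.Finite.fg_top).map _
  have hJfpP : Module.FinitePresentation P J := Module.finitePresentation_of_surjective μ hμ hμker
  exact TateWD.fp_of_fp_restrictScalars P A J

/-- Let R be a base ring of class (N) or (V) for the ideal I and A an R-algebra topologically of finite
presentation. Then A is a coherent ring: every finitely generated ideal of A is finitely presented
as an A-module. -/
theorem result
    (R : Type u) [CommRing R] (I : Ideal R) (hR : AdicRing.IsBase R I)
    (A : Type u) [CommRing A] [Algebra R A] (hA : AdicRing.TopFinitePresentation R I A)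
    (J : Ideal A) (hJ : J.FG) :
    Module.FinitePresentation A J := by
  obtain ⟨n, φ, hφ, hker⟩ := hA
  obtain ⟨hc, h | h⟩ := hR
  · obtain ⟨hN, -⟩ := h
    have := Groth.Agent.Lib.Helper28.TateBase.isNoetherianRing_of_topFiniteType R I A ⟨n, φ, hφ⟩
    have : Module.Finite A J := Module.Finite.iff_fg.mpr hJ
    exact Module.finitePresentation_of_finite A J
  · obtain ⟨hD, hV, hdim, t, ht, rfl⟩ := h
    have : ValuationRing R := {}
    have hH : IsHausdorff (Ideal.span {t}) R := hc.toIsHausdorff
    exact fp_ideal_V R t ht A n φ hφ hker J hJ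

end Groth.Agent.S11526
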