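import Groth.Statements.S11530
import Groth.Agent.Lib.Helper28TateTrunc
import Groth.Agent.S11526
-- import your own Groth.Agent.* helpers here

set_option autoImplicit false
universe u
open AdicRing

namespace Groth.Agent.S11530

theorem isBase_fg (R : Type u) [CommRing R] (I : Ideal R) (hR : AdicRing.IsBase R I) : I.FG := by
  obtain ⟨hc, h | h⟩ := hR
  · obtain ⟨hN, -⟩ := h
    exact IsNoetherian.noetherian I
  · obtain ⟨-, -, -, t, -, rfl⟩ := h
    exact ⟨{t}, by simp⟩

section sigma

variable (R : Type u) [CommRing R] (I : Ideal R) (A : Type u) [CommRing A] [Algebra R A]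
  {n : ℕ} (φ : AdicRing.RPow R I n →ₐ[R] A) (k : ℕ)

/-- the composite `RPow → A → A / I^k A` -/
noncomputable def sig : AdicRing.RPow R I n →+* A ⧸ (I ^ k).map (algebraMap R A) :=
  (Ideal.Quotient.mk _).comp φ.toRingHom

/-- its restriction to polynomials -/
noncomputable def bet : MvPolynomial (Fin n) R →+* A ⧸ (I ^ k).map (algebraMap R A) :=
  (sig R I A φ k).comp (algebraMap (MvPolynomial (Fin n) R) (AdicRing.RPow R I n))

theorem map_pow_le_ker_sig :
    ((I.map (MvPolynomial.C : R →+* MvPolynomial (Fin n) R)) ^ k).map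
      (algebraMap (MvPolynomial (Fin n) R) (AdicRing.RPow R I n)) ≤ RingHom.ker (sig R I A φ k) := by
  rw [← Ideal.map_pow, Ideal.map_map, Ideal.map_le_iff_le_comap]
  intro r hr
  rw [Ideal.mem_comap, RingHom.mem_ker]
  change Ideal.Quotient.mk _ (φ (algebraMap R (AdicRing.RPow R I n) r)) = 0
  rw [AlgHom.commutes, Ideal.Quotient.eq_zero_iff_mem]
  exact Ideal.mem_map_of_mem _ hr

theorem bet_surjective (hI : I.FG) (hφ : Function.Surjective φ) :
    Function.Surjective (bet R I A φ k) := by
  intro ybar
  obtain ⟨y, rfl⟩ := Ideal.Quotient.mk_surjective ybar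
  obtain ⟨x, rfl⟩ := hφ y
  obtain ⟨p, hp⟩ := Groth.Agent.Lib.Helper28.TateTrunc.exists_sub_mem_map_pow
    (I.map (MvPolynomial.C : R →+* MvPolynomial (Fin n) R)) (hI.map _) k x
  refine ⟨p, ?_⟩
  have h1 := map_pow_le_ker_sig R I A φ k hp
  rw [RingHom.mem_ker, map_sub, sub_eq_zero] at h1
  exact h1.symm

theorem bet_comp_C :
    (bet R I A φ k).comp (MvPolynomial.C : R →+* MvPolynomial (Fin n) R) =
      (Ideal.quotientMap ((I ^ k).map (algebraMap R A)) (algebraMap R A)
        Ideal.le_comap_map).comp (Ideal.Quotient.mk (I ^ k)) := by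
  ext r
  change Ideal.Quotient.mk _ (φ (algebraMap R (AdicRing.RPow R I n) r)) = _
  rw [AlgHom.commutes]
  rfl

theorem ker_sig_eq (hI : I.FG) :
    RingHom.ker (sig R I A φ k) =
      (RingHom.ker (bet R I A φ k)).map
        (algebraMap (MvPolynomial (Fin n) R) (AdicRing.RPow R I n)) ⊔
      ((I.map (MvPolynomial.C : R →+* MvPolynomial (Fin n) R)) ^ k).map
        (algebraMap (MvPolynomial (Fin n) R) (AdicRing.RPow R I n)) := by
  apply le_antisymm
  · intro x hx
    obtain ⟨p, hp⟩ := Groth.Agent.Lib.Helper28.TateTrunc.exists_sub_mem_map_pow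
      (I.map (MvPolynomial.C : R →+* MvPolynomial (Fin n) R)) (hI.map _) k x
    have h1 := map_pow_le_ker_sig R I A φ k hp
    rw [RingHom.mem_ker, map_sub, RingHom.mem_ker.mp hx, zero_sub, neg_eq_zero] at h1
    have h2 : p ∈ RingHom.ker (bet R I A φ k) := h1
    have : x = algebraMap _ _ p + (x - algebraMap _ _ p) := by ring
    rw [this]
    exact Submodule.add_mem_sup (Ideal.mem_map_of_mem _ h2) hp
  · apply sup_le
    · rw [Ideal.map_le_iff_le_comap]
      intro p hp
      exact hp
    · exact map_pow_le_ker_sig R I A φ k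

theorem ker_sig_fg (hI : I.FG) (hφ : Function.Surjective φ)
    (hker : (RingHom.ker φ.toRingHom).FG) : (RingHom.ker (sig R I A φ k)).FG := by
  have h1 : RingHom.ker (sig R I A φ k) =
      ((I ^ k).map (algebraMap R (AdicRing.RPow R I n))) ⊔ RingHom.ker φ.toRingHom := by
    unfold sig
    rw [← RingHom.comap_ker, Ideal.mk_ker]
    have h2 : (I ^ k).map (algebraMap R A) =
        ((I ^ k).map (algebraMap R (AdicRing.RPow R I n))).map φ.toRingHom := by
      rw [Ideal.map_map]
      congr 1
      ext r
      simp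
    rw [h2, Ideal.comap_map_of_surjective φ.toRingHom hφ, RingHom.ker_eq_comap_bot]
  rw [h1]
  exact Submodule.FG.sup ((hI.pow).map _) hker

theorem forward (hI : I.FG) (hφ : Function.Surjective φ)
    (hker : (RingHom.ker φ.toRingHom).FG) :
    (Ideal.quotientMap ((I ^ k).map (algebraMap R A)) (algebraMap R A)
      Ideal.le_comap_map).FinitePresentation := by
  have hkerσ := ker_sig_fg R I A φ k hI hφ hker
  have hkerβ : (RingHom.ker (bet R I A φ k)).FG := by
    unfold bet
    rw [← RingHom.comap_ker]
    exact Groth.Agent.Lib.Helper28.TateTrunc.fg_comap_of_fg _ (hI.map _) k _ hkerσ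
      (map_pow_le_ker_sig R I A φ k)
  have hβ : (bet R I A φ k).FinitePresentation :=
    RingHom.FinitePresentation.of_surjective _ (bet_surjective R I A φ k hI hφ) hkerβ
  have hC : (MvPolynomial.C : R →+* MvPolynomial (Fin n) R).FinitePresentation := by
    rw [← MvPolynomial.algebraMap_eq, RingHom.finitePresentation_algebraMap]
    infer_instance
  have h1 := hβ.comp hC
  rw [bet_comp_C] at h1
  exact RingHom.FinitePresentation.of_comp_finiteType (Ideal.Quotient.mk (I ^ k)) h1
    (RingHom.FiniteType.of_surjective _ Ideal.Quotient.mk_surjective)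

end sigma

theorem exists_gens (R : Type u) [CommRing R] (I : Ideal R) (A : Type u) [CommRing A]
    [Algebra R A]
    (h0 : (Ideal.quotientMap ((I ^ (0 + 1)).map (algebraMap R A)) (algebraMap R A)
      Ideal.le_comap_map).FinitePresentation) :
    ∃ (n : ℕ) (a : Fin n → A), ∀ x : A, ∃ p : MvPolynomial (Fin n) R,
      x - MvPolynomial.aeval a p ∈ I.map (algebraMap R A) := by
  set ρ0 := Ideal.quotientMap ((I ^ (0 + 1)).map (algebraMap R A)) (algebraMap R A)
      Ideal.le_comap_map with hρ0
  have ft : ρ0.FiniteType := RingHom.FiniteType.of_finitePresentation h0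
  let _ := ρ0.toAlgebra
  have ft' : Algebra.FiniteType (R ⧸ I ^ (0 + 1)) (A ⧸ (I ^ (0 + 1)).map (algebraMap R A)) := ft
  obtain ⟨n, f, hf⟩ := Algebra.FiniteType.iff_quotient_mvPolynomial''.mp ft'
  have hl : ∀ i : Fin n, ∃ a : A, Ideal.Quotient.mk _ a = f (MvPolynomial.X i) :=
    fun i => Ideal.Quotient.mk_surjective _
  choose a ha using hl
  refine ⟨n, a, fun x => ?_⟩
  obtain ⟨q, hq⟩ := hf (Ideal.Quotient.mk _ x)
  obtain ⟨p, rfl⟩ := MvPolynomial.map_surjective (Ideal.Quotient.mk (I ^ (0 + 1)))
    Ideal.Quotient.mk_surjective q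
  have key : (f.toRingHom.comp (MvPolynomial.map (Ideal.Quotient.mk (I ^ (0 + 1))))) =
      (Ideal.Quotient.mk ((I ^ (0 + 1)).map (algebraMap R A))).comp
        (MvPolynomial.aeval a : MvPolynomial (Fin n) R →ₐ[R] A).toRingHom := by
    apply MvPolynomial.ringHom_ext
    · intro r
      simp only [RingHom.comp_apply, MvPolynomial.map_C, AlgHom.toRingHom_eq_coe,
        RingHom.coe_coe, MvPolynomial.aeval_C]
      have h1 : f (MvPolynomial.C (Ideal.Quotient.mk (I ^ (0 + 1)) r)) =
          algebraMap (R ⧸ I ^ (0 + 1)) (A ⧸ (I ^ (0 + 1)).map (algebraMap R A))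
            (Ideal.Quotient.mk (I ^ (0 + 1)) r) := by
        rw [← MvPolynomial.algebraMap_eq, AlgHom.commutes]
      rw [h1]
      rfl
    · intro i
      simp only [RingHom.comp_apply, MvPolynomial.map_X, AlgHom.toRingHom_eq_coe,
        RingHom.coe_coe, MvPolynomial.aeval_X]
      exact (ha i).symm
  have h2 := congrArg (fun g => g p) key
  simp only [RingHom.comp_apply, AlgHom.toRingHom_eq_coe, RingHom.coe_coe] at h2
  rw [h2] at hq
  have h3 := (Ideal.Quotient.eq.mp hq.symm)
  rw [zero_add, pow_one] at h3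
  exact ⟨p, h3⟩

theorem topFinitePresentation_rPow (R : Type u) [CommRing R] (I : Ideal R) (n : ℕ) :
    AdicRing.TopFinitePresentation R I (AdicRing.RPow R I n) := by
  refine ⟨n, AlgHom.id R _, Function.surjective_id, ?_⟩
  have : RingHom.ker (AlgHom.id R (AdicRing.RPow R I n)).toRingHom = ⊥ := by
    ext x
    simp [RingHom.mem_ker]
  rw [this]
  exact Submodule.fg_bot

open Groth.Agent.Lib.Helper28 in
theorem ker_fg_V (R : Type u) [CommRing R] [IsDomain R] [ValuationRing R]
    [Ring.KrullDimLE 1 R] (t : R) (ht : t ≠ 0) [IsHausdorff (Ideal.span {t}) R]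
    (hR : AdicRing.IsBase R (Ideal.span {t}))
    (A : Type u) [CommRing A] [Algebra R A] (n : ℕ)
    (φ : AdicRing.RPow R (Ideal.span {t}) n →ₐ[R] A) (hφ : Function.Surjective φ)
    (hfp : ∀ m : ℕ, (Ideal.quotientMap (((Ideal.span {t}) ^ (m + 1)).map (algebraMap R A))
      (algebraMap R A) Ideal.le_comap_map).FinitePresentation) :
    (RingHom.ker φ.toRingHom).FG := by
  have hI : (Ideal.span {t} : Ideal R).FG := ⟨{t}, by simp⟩
  have hsat : ∀ (w : AdicRing.RPow R (Ideal.span {t}) n) (m : ℕ),
      (algebraMap R (AdicRing.RPow R (Ideal.span {t}) n) t) ^ m • w ∈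
        TateMod.sat (algebraMap R (AdicRing.RPow R (Ideal.span {t}) n) t)
          (RingHom.ker φ.toRingHom : Submodule (AdicRing.RPow R (Ideal.span {t}) n)
            (AdicRing.RPow R (Ideal.span {t}) n)) →
      w ∈ TateMod.sat (algebraMap R (AdicRing.RPow R (Ideal.span {t}) n) t)
          (RingHom.ker φ.toRingHom : Submodule (AdicRing.RPow R (Ideal.span {t}) n)
            (AdicRing.RPow R (Ideal.span {t}) n)) := by
    rintro w m ⟨j, hj⟩
    refine ⟨j + m, ?_⟩
    rw [pow_add, mul_smul]
    exact hj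
  have h𝔞'fg : (TateMod.sat (algebraMap R (AdicRing.RPow R (Ideal.span {t}) n) t)
          (RingHom.ker φ.toRingHom : Submodule (AdicRing.RPow R (Ideal.span {t}) n)
            (AdicRing.RPow R (Ideal.span {t}) n))).FG := by
    refine TateBase.fg_of_saturated R t ht (AdicRing.RPow R (Ideal.span {t}) n)
      (TateBase.topFiniteType_rPow R _ n) (AdicRing.RPow R (Ideal.span {t}) n) _ ?_
    intro w hw
    exact hsat w 1 (by rw [pow_one]; exact hw)
  obtain ⟨c, hc⟩ := TateMod.exists_pow_smul_mem_of_fg_sat
    (RingHom.ker φ.toRingHom : Submodule (AdicRing.RPow R (Ideal.span {t}) n)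
            (AdicRing.RPow R (Ideal.span {t}) n)) h𝔞'fg
  -- level k = c + 1
  have hβsurj := bet_surjective R (Ideal.span {t}) A φ (c + 1) hI hφ
  have hcomp : ((bet R (Ideal.span {t}) A φ (c + 1)).comp
      (MvPolynomial.C : R →+* MvPolynomial (Fin n) R)).FinitePresentation := by
    rw [bet_comp_C]
    refine (hfp c).comp (RingHom.FinitePresentation.of_surjective _
      Ideal.Quotient.mk_surjective ?_)
    rw [Ideal.mk_ker]
    exact hI.pow
  have halg : algebraMap R (A ⧸ ((Ideal.span {t} : Ideal R) ^ (c + 1)).map (algebraMap R A)) =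
      (bet R (Ideal.span {t}) A φ (c + 1)).comp
        (MvPolynomial.C : R →+* MvPolynomial (Fin n) R) := by
    rw [bet_comp_C]
    rfl
  have hfpA : Algebra.FinitePresentation R
      (A ⧸ ((Ideal.span {t} : Ideal R) ^ (c + 1)).map (algebraMap R A)) := by
    rw [← RingHom.finitePresentation_algebraMap, halg]
    exact hcomp
  let βa : MvPolynomial (Fin n) R →ₐ[R]
      (A ⧸ ((Ideal.span {t} : Ideal R) ^ (c + 1)).map (algebraMap R A)) :=
    { bet R (Ideal.span {t}) A φ (c + 1) with
      commutes' := by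
        intro r
        have := congrArg (fun g => g r) halg
        exact this.symm }
  have hkerβ : (RingHom.ker (bet R (Ideal.span {t}) A φ (c + 1))).FG :=
    Algebra.FinitePresentation.ker_fG_of_surjective βa hβsurj
  have hkerσ : (RingHom.ker (sig R (Ideal.span {t}) A φ (c + 1))).FG := by
    rw [ker_sig_eq R (Ideal.span {t}) A φ (c + 1) hI]
    exact Submodule.FG.sup (hkerβ.map _) (((hI.map _).pow).map _)
  -- 𝔞 = ker σ ⊓ 𝔞'
  have hinf : RingHom.ker φ.toRingHom = RingHom.ker (sig R (Ideal.span {t}) A φ (c + 1)) ⊓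
      TateMod.sat (algebraMap R (AdicRing.RPow R (Ideal.span {t}) n) t)
          (RingHom.ker φ.toRingHom : Submodule (AdicRing.RPow R (Ideal.span {t}) n)
            (AdicRing.RPow R (Ideal.span {t}) n)) := by
    apply le_antisymm
    · apply le_inf
      · intro x hx
        have hx0 : φ x = 0 := hx
        rw [RingHom.mem_ker]
        change Ideal.Quotient.mk _ (φ x) = 0
        rw [hx0, map_zero]
      · exact TateMod.le_sat (τ := algebraMap R (AdicRing.RPow R (Ideal.span {t}) n) t) _
    · rintro x ⟨hx1, hx2⟩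
      have hx1' : Ideal.Quotient.mk (((Ideal.span {t} : Ideal R) ^ (c + 1)).map
          (algebraMap R A)) (φ x) = 0 := hx1
      rw [Ideal.Quotient.eq_zero_iff_mem, Ideal.span_singleton_pow,
        Ideal.map_span (algebraMap R A) {t ^ (c + 1)},
        Set.image_singleton, Ideal.mem_span_singleton] at hx1'
      obtain ⟨y', hy'⟩ := hx1'
      obtain ⟨y, rfl⟩ := hφ y'
      have h1 : x - (algebraMap R (AdicRing.RPow R (Ideal.span {t}) n) t) ^ (c + 1) * y ∈
          RingHom.ker φ.toRingHom := by
        rw [RingHom.mem_ker]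
        change φ (x - _ ^ (c + 1) * y) = 0
        rw [map_sub, map_mul, map_pow, AlgHom.commutes, hy', map_pow, sub_self]
      have h2 : (algebraMap R (AdicRing.RPow R (Ideal.span {t}) n) t) ^ (c + 1) • y ∈
          TateMod.sat (algebraMap R (AdicRing.RPow R (Ideal.span {t}) n) t)
          (RingHom.ker φ.toRingHom : Submodule (AdicRing.RPow R (Ideal.span {t}) n)
            (AdicRing.RPow R (Ideal.span {t}) n)) := by
        have : (algebraMap R (AdicRing.RPow R (Ideal.span {t}) n) t) ^ (c + 1) • y =
            x - (x - (algebraMap R (AdicRing.RPow R (Ideal.span {t}) n) t) ^ (c + 1) * y) := by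
          rw [smul_eq_mul]; ring
        rw [this]
        exact Submodule.sub_mem _ hx2 (TateMod.le_sat (τ := algebraMap R (AdicRing.RPow R (Ideal.span {t}) n) t) _ h1)
      have h3 := hsat y (c + 1) h2
      have h4 := hc y h3
      have h5 : (algebraMap R (AdicRing.RPow R (Ideal.span {t}) n) t) ^ (c + 1) * y ∈
          RingHom.ker φ.toRingHom := by
        rw [pow_succ, mul_comm ((algebraMap R (AdicRing.RPow R (Ideal.span {t}) n) t) ^ c),
          mul_assoc]
        exact Ideal.mul_mem_left _ _ h4
      have : x = (x - (algebraMap R (AdicRing.RPow R (Ideal.span {t}) n) t) ^ (c + 1) * y) +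
          (algebraMap R (AdicRing.RPow R (Ideal.span {t}) n) t) ^ (c + 1) * y := by ring
      rw [this]
      exact Ideal.add_mem _ h1 h5
  rw [hinf]
  exact TateTrunc.fg_inf_of_fp
    (fun J hJ => Groth.Agent.S11526.result R (Ideal.span {t}) hR
      (AdicRing.RPow R (Ideal.span {t}) n)
      (topFinitePresentation_rPow R (Ideal.span {t}) n) J hJ) _ _ hkerσ h𝔞'fg

/-- Let R be a base ring of class (N) or (V) for the ideal I and A an R-algebra which is complete and
separated for the I-adic topology. Then A is topologically of finite presentation over R if and only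
if, for every n, the truncation A/I^(n+1)A is an algebra of finite presentation over R/I^(n+1). -/
theorem result
    (R : Type u) [CommRing R] (I : Ideal R) (hR : AdicRing.IsBase R I)
    (A : Type u) [CommRing A] [Algebra R A] [IsAdicComplete (I.map (algebraMap R A)) A] :
    AdicRing.TopFinitePresentation R I A ↔
      ∀ n : ℕ, (Ideal.quotientMap ((I ^ (n + 1)).map (algebraMap R A)) (algebraMap R A)
        Ideal.le_comap_map).FinitePresentation := by
  have hI : I.FG := isBase_fg R I hR
  constructor
  · rintro ⟨n, φ, hφ, hker⟩ m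
    exact forward R I A φ (m + 1) hI hφ hker
  · intro h
    obtain ⟨n, a, hgen⟩ := exists_gens R I A (h 0)
    have hsurj : Function.Surjective (Groth.Agent.Lib.Helper28.TateTrunc.liftRPow R I A a) :=
      Groth.Agent.Lib.Helper28.TateTrunc.liftRPow_surjective R I A hI a hgen
    refine ⟨n, Groth.Agent.Lib.Helper28.TateTrunc.liftRPow R I A a, hsurj, ?_⟩
    obtain ⟨hc, hN | hV⟩ := id hR
    · obtain ⟨hN, -⟩ := hN
      have : IsNoetherianRing (AdicRing.RPow R I n) :=
        Groth.Agent.Lib.Helper19.isNoetherianRing_adicCompletion _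
      exact IsNoetherian.noetherian _
    · obtain ⟨hdom, hpv, hdim, t, ht, rfl⟩ := hV
      have : ValuationRing R := {}
      have hH : IsHausdorff (Ideal.span {t}) R := hc.toIsHausdorff
      exact ker_fg_V R t ht hR A n _ hsurj h

end Groth.Agent.S11530
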