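import Groth.Statements.S1735
import Groth.Agent.Lib.Helper29Chevalley
import Groth.Agent.S7692

set_option autoImplicit false
universe u
open LocCoh

namespace Groth.Agent.S1735

section aux

open IsLocalRing

variable {A : Type u} [CommRing A] [IsDomain A] [IsLocalRing A] [IsNoetherianRing A]
  (p : Ideal A) [p.IsPrime]

/-- the symbolic power. -/
noncomputable def Q (m : ℕ) : Ideal A :=
  ((Ideal.map (algebraMap A (Localization.AtPrime p)) p) ^ m).comap
    (algebraMap A (Localization.AtPrime p))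

omit [IsLocalRing A] [IsNoetherianRing A] [IsDomain A] in
theorem Q_antitone : Antitone (Q p) := fun _ _ h =>
  Ideal.comap_mono (Ideal.pow_le_pow_right h)

omit [IsLocalRing A] [IsNoetherianRing A] in
theorem algebraMap_injective :
    Function.Injective (algebraMap A (Localization.AtPrime p)) :=
  IsLocalization.injective _ p.primeCompl_le_nonZeroDivisors

omit [IsLocalRing A] in
theorem iInf_Q : ⨅ m, Q p m = ⊥ := by
  rw [eq_bot_iff]
  intro x hx
  rw [Ideal.mem_iInf] at hx
  have h1 : algebraMap A (Localization.AtPrime p) x ∈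
      ⨅ i : ℕ, (Ideal.map (algebraMap A (Localization.AtPrime p)) p) ^ i := by
    rw [Ideal.mem_iInf]
    intro i
    exact hx i
  rw [Ideal.iInf_pow_eq_bot_of_isLocalRing _ (by
    rw [Localization.AtPrime.map_eq_maximalIdeal]
    exact Ideal.IsPrime.ne_top inferInstance)] at h1
  rw [Ideal.mem_bot] at h1 ⊢
  exact algebraMap_injective p (by rw [h1, map_zero])

omit [IsLocalRing A] [IsNoetherianRing A] in
/-- elements of the symbolic power are multiplied into the power by an element outside `p`. -/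
theorem exists_mul_mem (n : ℕ) (x : A) (hx : x ∈ Q p n) : ∃ s : A, s ∉ p ∧ s * x ∈ p ^ n := by
  have h1 : algebraMap A (Localization.AtPrime p) x ∈
      Ideal.map (algebraMap A (Localization.AtPrime p)) (p ^ n) := by
    rw [Ideal.map_pow]; exact hx
  rw [IsLocalization.mem_map_algebraMap_iff p.primeCompl] at h1
  obtain ⟨⟨a, s⟩, h⟩ := h1
  refine ⟨s.1, s.2, ?_⟩
  have h2 : algebraMap A (Localization.AtPrime p) (x * s.1) =
      algebraMap A (Localization.AtPrime p) a.1 := by
    rw [map_mul]; exact h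
  have h3 := algebraMap_injective p h2
  rw [mul_comm, h3]
  exact a.2

omit [IsLocalRing A] in
/-- a single element outside `p` multiplies the symbolic power into the power. -/
theorem exists_mul_Q_le (n : ℕ) : ∃ s : A, s ∉ p ∧ ∀ x ∈ Q p n, s * x ∈ p ^ n := by
  classical
  obtain ⟨G, hG⟩ := (IsNoetherian.noetherian (Q p n) : (Q p n).FG)
  have hmem : ∀ g ∈ G, g ∈ Q p n := fun g hg => by
    rw [← hG]; exact Submodule.subset_span hg
  have hex : ∀ g : A, ∃ s : A, g ∈ G → (s ∉ p ∧ s * g ∈ p ^ n) := by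
    intro g
    by_cases hg : g ∈ G
    · obtain ⟨s, hs1, hs2⟩ := exists_mul_mem p n g (hmem g hg)
      exact ⟨s, fun _ => ⟨hs1, hs2⟩⟩
    · exact ⟨1, fun h => absurd h hg⟩
  choose s hs using hex
  refine ⟨∏ g ∈ G, s g, ?_, ?_⟩
  · intro h
    obtain ⟨g, hg, hgp⟩ := (Ideal.IsPrime.prod_mem_iff (hp := inferInstance)).mp h
    exact (hs g hg).1 hgp
  · intro x hx
    rw [← hG] at hx
    refine Submodule.span_induction ?_ ?_ ?_ ?_ hx
    · intro g hg
      have hg' : g ∈ G := hg
      rw [← Finset.mul_prod_erase G s hg', mul_comm (s g), mul_assoc]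
      exact Ideal.mul_mem_left _ _ (hs g hg').2
    · rw [mul_zero]; exact zero_mem _
    · intro x y _ _ hx hy
      rw [mul_add]; exact add_mem hx hy
    · intro a x _ hx
      rw [smul_eq_mul, mul_left_comm]
      exact Ideal.mul_mem_left _ _ hx

omit [IsDomain A] [IsNoetherianRing A] in
/-- a prime strictly containing `p` is the maximal ideal when `dim A ⧸ p = 1`. -/
theorem eq_maximalIdeal_of_lt (hp : ringKrullDim (A ⧸ p) = 1) (q : Ideal A) [q.IsPrime]
    (hpq : p < q) : q = maximalIdeal A := by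
  have h1 := Groth.Agent.S7692.dim_quot_succ_le hpq
  rw [hp] at h1
  haveI : Nontrivial (A ⧸ q) := Ideal.Quotient.nontrivial_iff.mpr (Ideal.IsPrime.ne_top inferInstance)
  have h2 : ringKrullDim (A ⧸ q) ≤ 0 := by
    have hne : ringKrullDim (A ⧸ q) ≠ ⊥ := by
      intro h
      have := ringKrullDim_nonneg_of_nontrivial (R := A ⧸ q)
      rw [h] at this
      exact absurd this (by simp)
    obtain ⟨a, ha⟩ := WithBot.ne_bot_iff_exists.mp hne
    rw [← ha] at h1 ⊢
    have h1' : a + 1 ≤ 1 := by exact_mod_cast h1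
    have : a ≤ 0 := by
      by_contra hcon
      rw [not_le] at hcon
      have h3 : (1 : ℕ∞) ≤ a := Order.one_le_iff_pos.mpr hcon
      have h4 : (1 : ℕ∞) + 1 ≤ a + 1 := add_le_add h3 le_rfl
      have h5 : (1 : ℕ∞) + 1 ≤ 1 := h4.trans h1'
      exact absurd h5 (by decide)
    exact_mod_cast this
  haveI : Ring.KrullDimLE 0 (A ⧸ q) := Ring.krullDimLE_iff.mpr (by exact_mod_cast h2)
  haveI : IsDomain (A ⧸ q) := Ideal.Quotient.isDomain q
  have hfield : IsField (A ⧸ q) := Ring.KrullDimLE.isField_of_isDomain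
  have hmax : q.IsMaximal := Ideal.Quotient.maximal_of_isField q hfield
  exact IsLocalRing.eq_maximalIdeal hmax

/-- a power of the maximal ideal multiplies the symbolic power into the power. -/
theorem exists_pow_mul_Q_le (hp : ringKrullDim (A ⧸ p) = 1) (n : ℕ) (hn : 1 ≤ n) :
    ∃ k : ℕ, maximalIdeal A ^ k * Q p n ≤ p ^ n := by
  obtain ⟨s, hsp, hs⟩ := exists_mul_Q_le p n
  set 𝔠 : Ideal A := Ideal.span {s} ⊔ p ^ n with h𝔠
  have h𝔠Q : 𝔠 * Q p n ≤ p ^ n := by
    rw [h𝔠, Ideal.sup_mul]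
    refine sup_le ?_ (Ideal.mul_le_left)
    rw [Ideal.span_singleton_mul_le_iff]
    exact hs
  by_cases htop : 𝔠 = ⊤
  · refine ⟨0, ?_⟩
    rw [pow_zero, Ideal.one_eq_top, ← htop]
    exact h𝔠Q
  · have hle : 𝔠 ≤ maximalIdeal A := IsLocalRing.le_maximalIdeal htop
    have hmin : maximalIdeal A ∈ 𝔠.minimalPrimes := by
      refine ⟨⟨inferInstance, hle⟩, ?_⟩
      rintro q ⟨hq, h𝔠q⟩ _
      haveI := hq
      have hpq : p ≤ q := hq.le_of_pow_le ((le_sup_right).trans h𝔠q)
      have hsq : s ∈ q := h𝔠q (Ideal.mem_sup_left (Ideal.subset_span rfl))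
      have hlt : p < q := lt_of_le_of_ne hpq (fun h => hsp (h ▸ hsq))
      exact (eq_maximalIdeal_of_lt p hp q hlt).ge
    haveI : IsArtinianRing (A ⧸ 𝔠) :=
      IsLocalRing.quotient_artinian_of_mem_minimalPrimes_of_isLocalRing 𝔠 hmin
    obtain ⟨k, hk⟩ := IsLocalRing.exists_maximalIdeal_pow_le_of_isArtinianRing_quotient 𝔠
    exact ⟨k, (Ideal.mul_mono_left hk).trans h𝔠Q⟩

end aux

/-- Let A be a complete Noetherian local domain and p a prime ideal with dim(A/p) = 1. For every n ≥ 1
there is m ≥ n such that the m-th symbolic power of p (the contraction of p^m A_p to A) is contained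
in p^n. -/
theorem result (A : Type u) [CommRing A] [IsDomain A] [IsLocalRing A] [IsNoetherianRing A] [IsAdicComplete (IsLocalRing.maximalIdeal A) A] (p : Ideal A) [p.IsPrime] (hp : ringKrullDim (A ⧸ p) = 1) (n : ℕ) (hn : 1 ≤ n) : ∃ m : ℕ, n ≤ m ∧ ((Ideal.map (algebraMap A (Localization.AtPrime p)) p) ^ m).comap (algebraMap A (Localization.AtPrime p)) ≤ p ^ n := by
  obtain ⟨k, hk⟩ := exists_pow_mul_Q_le p hp n hn
  -- Artin–Rees
  obtain ⟨c, hc⟩ := Ideal.exists_pow_inf_eq_pow_smul (IsLocalRing.maximalIdeal A)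
    (Q p n : Submodule A A)
  have hAR : IsLocalRing.maximalIdeal A ^ (k + c) ⊓ Q p n ≤ p ^ n := by
    have h1 := hc (k + c) (by omega)
    rw [Nat.add_sub_cancel] at h1
    have h2 : (IsLocalRing.maximalIdeal A ^ (k + c) ⊓ Q p n : Ideal A) =
        (IsLocalRing.maximalIdeal A ^ (k + c) • (⊤ : Submodule A A) ⊓ (Q p n : Submodule A A)) := by
      rw [smul_eq_mul, Ideal.mul_top]
    rw [h2, h1]
    refine le_trans ?_ hk
    rw [smul_eq_mul]
    exact Ideal.mul_mono_right inf_le_right
  -- Chevalley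
  obtain ⟨m₀, hm₀⟩ := Groth.Agent.Lib.Helper29.Chevalley.chevalley (Q p) (Q_antitone p) (iInf_Q p)
    (k + c)
  refine ⟨max m₀ n, le_max_right _ _, ?_⟩
  change Q p (max m₀ n) ≤ p ^ n
  refine le_trans (le_inf ?_ ?_) hAR
  · exact (Q_antitone p (le_max_left _ _)).trans hm₀
  · exact Q_antitone p (le_max_right _ _)

end Groth.Agent.S1735
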