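import Groth.Statements.S0317
import Groth.Agent.S0316
import Groth.Agent.S0315
import Mathlib

set_option autoImplicit false
universe u v
open Matlis

namespace Groth.Agent.S0317

open IsLocalRing

section Helpers

variable {R : Type u} [CommRing R] [IsLocalRing R] [IsNoetherianRing R]
  [IsAdicComplete (maximalIdeal R) R]
  {E : Type u} [AddCommGroup E] [Module R E]

lemma decomp {f : ResidueField R →ₗ[R] E} (hf : InjHull.IsInjectiveHull f) {n : ℕ}
    (φ : (Fin n → E) →ₗ[R] E) :
    ∃ r : Fin n → R, φ = ∑ i, r i • LinearMap.proj (R := R) (φ := fun _ : Fin n => E) i := by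
  have hr : ∀ i : Fin n, ∃ r : R, ∀ e : E, φ (Pi.single i e) = r • e := fun i =>
    Groth.Agent.S0316.exists_smul_eq_of_complete hf (φ ∘ₗ LinearMap.single R (fun _ : Fin n => E) i)
  choose r hr using hr
  refine ⟨r, ?_⟩
  ext i e
  simp only [LinearMap.coe_comp, LinearMap.coe_single, Function.comp_apply, LinearMap.coe_sum,
    Finset.sum_apply, LinearMap.smul_apply, LinearMap.proj_apply]
  rw [hr i, Finset.sum_eq_single i]
  · simp
  · intro j _ hj
    simp [hj]
  · intro h
    exact absurd (Finset.mem_univ i) h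

lemma finite_dual_pow {f : ResidueField R →ₗ[R] E} (hf : InjHull.IsInjectiveHull f) (n : ℕ) :
    Module.Finite R ((Fin n → E) →ₗ[R] E) := by
  let T : (Fin n → R) →ₗ[R] ((Fin n → E) →ₗ[R] E) :=
    { toFun := fun r => ∑ i, r i • LinearMap.proj (R := R) (φ := fun _ : Fin n => E) i
      map_add' := by
        intro r r'
        simp [add_smul, Finset.sum_add_distrib]
      map_smul' := by
        intro c r
        simp [mul_smul, Finset.smul_sum] }
  refine Module.Finite.of_surjective T ?_
  intro φ
  obtain ⟨r, hr⟩ := decomp hf φ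
  exact ⟨r, hr.symm⟩

lemma eval_surjective_pow {f : ResidueField R →ₗ[R] E} (hf : InjHull.IsInjectiveHull f) (n : ℕ) :
    Function.Surjective
      (LinearMap.applyₗ : (Fin n → E) →ₗ[R] ((Fin n → E) →ₗ[R] E) →ₗ[R] E) := by
  intro Θ
  refine ⟨fun i => Θ (LinearMap.proj i), ?_⟩
  ext φ
  obtain ⟨r, hr⟩ := decomp hf φ
  rw [LinearMap.applyₗ_apply_apply]
  conv_rhs => rw [hr]
  rw [hr]
  simp only [LinearMap.coe_sum, Finset.sum_apply, LinearMap.smul_apply, LinearMap.proj_apply,
    map_sum, map_smul]

omit [IsAdicComplete (maximalIdeal R) R] in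
lemma exists_embedding {f : ResidueField R →ₗ[R] E} (hf : InjHull.IsInjectiveHull f)
    (M : Type u) [AddCommGroup M] [Module R M] [IsArtinian R M] :
    ∃ (n : ℕ) (g : M →ₗ[R] (Fin n → E)), Function.Injective g := by
  haveI := Groth.Agent.S0315.finite_socle_of_isArtinian (R := R) (M := M)
  obtain ⟨g, hg⟩ := Groth.Agent.S0310.result R E f hf M
    Groth.Agent.S0315.isPowerTorsion_of_isArtinian _ rfl
  exact ⟨_, g, hg⟩

end Helpers

/-- Over a complete Noetherian local ring with E an injective hull of the residue field, the E-dual of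
an Artinian module is a finite module and the evaluation map into the double E-dual is bijective. -/
theorem result (R : Type u) [CommRing R] [IsLocalRing R] [IsNoetherianRing R] [IsAdicComplete (IsLocalRing.maximalIdeal R) R] (E : Type u) [AddCommGroup E] [Module R E] (f : IsLocalRing.ResidueField R →ₗ[R] E) (hf : InjHull.IsInjectiveHull f) (M : Type u) [AddCommGroup M] [Module R M] [IsArtinian R M] : Module.Finite R (M →ₗ[R] E) ∧ Function.Bijective (LinearMap.applyₗ : M →ₗ[R] (M →ₗ[R] E) →ₗ[R] E) := by
  haveI := hf.isInjective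
  haveI : IsArtinian R E := Groth.Agent.S0314.result R E f hf
  -- embed `M` into `E^n`
  obtain ⟨n, g, hg⟩ := exists_embedding hf M
  -- embed the cokernel into `E^m`
  haveI : IsArtinian R ((Fin n → E) ⧸ LinearMap.range g) := inferInstance
  obtain ⟨m, h', hh'⟩ := exists_embedding hf ((Fin n → E) ⧸ LinearMap.range g)
  let h : (Fin n → E) →ₗ[R] (Fin m → E) := h' ∘ₗ (LinearMap.range g).mkQ
  have hker : ∀ x, h x = 0 → x ∈ LinearMap.range g := by
    intro x hx
    have : (LinearMap.range g).mkQ x = 0 := hh' (by rw [map_zero]; exact hx)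
    exact (Submodule.Quotient.mk_eq_zero _).1 this
  have hhg : ∀ y, h (g y) = 0 := by
    intro y
    have : (LinearMap.range g).mkQ (g y) = 0 := (Submodule.Quotient.mk_eq_zero _).2 ⟨y, rfl⟩
    show h' ((LinearMap.range g).mkQ (g y)) = 0
    rw [this, map_zero]
  -- `D(g)` is surjective
  have hDg : Function.Surjective (LinearMap.lcomp R E g) := by
    intro φ
    obtain ⟨φ', hφ'⟩ := Module.Injective.extension_property R E _ _ g hg φ
    exact ⟨φ', hφ'⟩
  haveI := finite_dual_pow hf n
  refine ⟨Module.Finite.of_surjective _ hDg, ?_, ?_⟩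
  · exact Groth.Agent.S6035.eval_injective (Groth.Agent.S6035.socGen_of_hull f hf) M
  · intro θ
    obtain ⟨x, hx⟩ := eval_surjective_pow hf n (θ ∘ₗ LinearMap.lcomp R E g)
    have hx' : ∀ φ : (Fin n → E) →ₗ[R] E, φ x = θ (φ ∘ₗ g) := by
      intro φ
      have := LinearMap.congr_fun hx φ
      rw [LinearMap.applyₗ_apply_apply, LinearMap.comp_apply] at this
      exact this
    have hhx : h x = 0 := by
      apply Groth.Agent.S6035.eval_injective (Groth.Agent.S6035.socGen_of_hull f hf) (Fin m → E)
      rw [map_zero]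
      ext φ
      rw [LinearMap.applyₗ_apply_apply, LinearMap.zero_apply]
      have h1 := hx' (φ ∘ₗ h)
      rw [LinearMap.comp_apply] at h1
      rw [h1]
      have h2 : (φ ∘ₗ h) ∘ₗ g = 0 := by
        ext y
        simp [hhg y]
      rw [h2, map_zero]
    obtain ⟨y, rfl⟩ := hker x hhx
    refine ⟨y, ?_⟩
    ext φ
    obtain ⟨φ', rfl⟩ := hDg φ
    rw [LinearMap.applyₗ_apply_apply]
    exact hx' φ'

end Groth.Agent.S0317
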