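import Groth.Statements.S17759
import Groth.Agent.Lib.Helper29TopLC
import Groth.Agent.S0332
import Groth.Agent.Lib.Helper8CanonCM

set_option autoImplicit false
universe u
open LocCoh

namespace Groth.Agent.S17759

set_option linter.style.haveILetI false
set_option linter.unusedSectionVars false
open IsLocalRing

section aux
open Groth.Agent.Lib.Helper29.HLVT Groth.Agent.Lib.Helper8.Cd Groth.Agent.Lib.Helper8.Acyc
  Groth.Agent.S11668 Groth.Agent.Lib.Helper29.Conn Groth.Agent.Lib.Helper8.LC
  Groth.Agent.Lib.Helper29.TopLC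

variable (R : Type u) [CommRing R] [IsNoetherianRing R] [IsLocalRing R]
  [IsAdicComplete (maximalIdeal R) R] (E : Type u) [AddCommGroup E] [Module R E] (I : Ideal R)

omit [IsAdicComplete (maximalIdeal R) R] in
theorem eq_of_le_of_dim_eq (p q : Ideal R) [p.IsPrime] [q.IsPrime] (hpq : p ≤ q) (n : ℕ)
    (hp : ringKrullDim (R ⧸ p) = n) (hq : ringKrullDim (R ⧸ q) = n) : p = q := by
  by_contra hne
  have hlt : p < q := lt_of_le_of_ne hpq hne
  obtain ⟨x, hxq, hxp⟩ := SetLike.exists_of_lt hlt
  have h1 := dim_drop p x (fun p' hp' => by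
    rw [Ideal.minimalPrimes_eq_subsingleton_self] at hp'
    rw [Set.mem_singleton_iff.mp hp']
    exact hxp)
  have h2 : ringKrullDim (R ⧸ q) ≤ ringKrullDim (R ⧸ (p ⊔ Ideal.span {x})) :=
    dim_quot_mono (sup_le hpq ((Ideal.span_singleton_le_iff_mem _).mpr hxq))
  have h4 : ringKrullDim (R ⧸ q) + 1 ≤ ringKrullDim (R ⧸ p) := (add_le_add_left h2 1).trans h1
  rw [hp, hq] at h4
  have h5 : n + 1 ≤ n := by exact_mod_cast h4
  omega

theorem dir2 (M : Type u) [AddCommGroup M] [Module R M] [Module.Finite R M] (n : ℕ)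
    (hn : Module.supportDim R M = n) (p : Ideal R)
    (hp : p ∈ associatedPrimes R (LocCoh.H I n M →ₗ[R] E)) :
    Module.annihilator R M ≤ p ∧ ringKrullDim (R ⧸ p) = n ∧
      (I ⊔ p).radical = maximalIdeal R := by
  classical
  haveI hpp : p.IsPrime := hp.1
  obtain ⟨-, φ, hφ⟩ := isAssociatedPrime_iff.mp hp
  have hmem : ∀ r : R, r ∈ p ↔ r • φ = 0 := by
    intro r
    rw [hφ, Submodule.mem_colon_singleton, Submodule.mem_bot]
  obtain ⟨k, a, ha⟩ := Submodule.fg_iff_exists_fin_generating_family.mp
    (IsNoetherian.noetherian p)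
  have ha' : Ideal.span (Set.range a) = p := ha
  set g : M →ₗ[R] (M ⧸ (p • ⊤ : Submodule R M)) := Submodule.mkQ _ with hgdef
  have hg : Function.Surjective g := Submodule.mkQ_surjective _
  have hker : LinearMap.ker g = Ideal.span (Set.range a) • (⊤ : Submodule R M) := by
    rw [hgdef, Submodule.ker_mkQ, ha']
  have key : ∀ h : LocCoh.H I n M,
      (localCohomology I n).map (ModuleCat.ofHom g) h = 0 → φ h = 0 := by
    intro h hh
    obtain ⟨y, rfl⟩ := exists_sum_of_map_eq_zero I n M hn.le k a g hg hker h hh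
    rw [map_sum]
    refine Finset.sum_eq_zero fun i _ => ?_
    have h0 : a i • φ = 0 := (hmem _).mp (ha' ▸ Ideal.subset_span ⟨i, rfl⟩)
    have h1 := LinearMap.congr_fun h0 (y i)
    rw [LinearMap.smul_apply, LinearMap.zero_apply, ← map_smul] at h1
    exact h1
  have hφ0 : φ ≠ 0 := by
    rintro rfl
    apply hpp.ne_top
    rw [Ideal.eq_top_iff_one, hmem, smul_zero]
  -- (i)
  have hAnn : Module.annihilator R M ≤ p := by
    intro b hb
    rw [hmem]
    apply LinearMap.ext
    intro h
    rw [LinearMap.smul_apply, LinearMap.zero_apply, ← map_smul,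
      smul_H_eq_zero_of_smul_eq_zero I n b M (fun m => Module.mem_annihilator.mp hb m) h,
      map_zero]
  -- `H^n_I(M/pM) ≠ 0`
  have hNne : ¬ Subsingleton (LocCoh.H I n (M ⧸ (p • ⊤ : Submodule R M))) := by
    intro hsub
    apply hφ0
    apply LinearMap.ext
    intro h
    rw [LinearMap.zero_apply]
    exact key h (Subsingleton.elim _ _)
  have hpN : p ≤ Module.annihilator R (M ⧸ (p • ⊤ : Submodule R M)) := by
    intro r hr
    rw [Module.mem_annihilator]
    intro m
    obtain ⟨m, rfl⟩ := Submodule.Quotient.mk_surjective _ m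
    rw [← Submodule.Quotient.mk_smul, Submodule.Quotient.mk_eq_zero]
    exact Submodule.smul_mem_smul hr Submodule.mem_top
  -- (ii)
  have hdim : ringKrullDim (R ⧸ p) = n := by
    apply le_antisymm
    · rw [← hn, Module.supportDim_eq_ringKrullDim_quotient_annihilator]
      exact dim_quot_mono hAnn
    · by_contra hlt
      rw [not_le] at hlt
      apply hNne
      have hlt' : Module.supportDim R (M ⧸ (p • ⊤ : Submodule R M)) < (n : WithBot ℕ∞) := by
        rw [Module.supportDim_eq_ringKrullDim_quotient_annihilator]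
        exact lt_of_le_of_lt (dim_quot_mono hpN) hlt
      exact ⟨fun x y => by
        rw [Groth.Agent.Lib.Helper8.GV.H_eq_zero_of_supportDim_lt I n _ hlt' x,
          Groth.Agent.Lib.Helper8.GV.H_eq_zero_of_supportDim_lt I n _ hlt' y]⟩
  refine ⟨hAnn, hdim, ?_⟩
  -- (iii)
  by_contra hrad
  apply hNne
  by_cases htop : I ⊔ p = ⊤
  · refine ⟨fun x y => ?_⟩
    have hz : ∀ z : LocCoh.H I n (M ⧸ (p • ⊤ : Submodule R M)), z = 0 := by
      intro z
      obtain ⟨j, hj⟩ := isPowerTorsion_H I n _ z
      have h1 : I ^ j ⊔ p = ⊤ := Ideal.pow_sup_eq_top htop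
      obtain ⟨u, hu, v, hv, huv⟩ := Submodule.mem_sup.mp ((Ideal.eq_top_iff_one _).mp h1)
      have hvz : v • z = 0 := smul_H_eq_zero_of_smul_eq_zero I n v _
        (fun m => Module.mem_annihilator.mp (hpN hv) m) z
      rw [← one_smul R z, ← huv, add_smul, hj u hu, hvz, add_zero]
    rw [hz x, hz y]
  · have hIm : I ⊔ p ≤ maximalIdeal R := IsLocalRing.le_maximalIdeal htop
    have hex : ∃ Q : Ideal R, Q.IsPrime ∧ I ⊔ p ≤ Q ∧ Q ≠ maximalIdeal R := by
      by_contra hcon
      push_neg at hcon
      apply hrad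
      rw [radical_eq_of_forall R (I ⊔ p) hIm hcon]
      exact Ideal.IsPrime.radical inferInstance
    have hpos := (pos_dim_iff (I ⊔ p)).mpr hex
    haveI : IsAdicComplete (maximalIdeal (R ⧸ p)) (R ⧸ p) :=
      (Groth.Agent.Lib.Helper18ComplProd.isAdicComplete_of_finite R (R ⧸ p)).2
    haveI : Module.Finite (R ⧸ p) (M ⧸ (p • ⊤ : Submodule R M)) :=
      Module.Finite.of_restrictScalars_finite R (R ⧸ p) _
    have hsub := Groth.Agent.S0332.H_fg (R ⧸ p) n hdim (I.map (Ideal.Quotient.mk p)) (by
      intro q hq _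
      rw [IsDomain.minimalPrimes_eq_singleton_bot, Set.mem_singleton_iff] at hq
      rw [hq, sup_bot_eq, dim_quot_map, sup_comm]
      have h01 : ((0 : ℕ) : WithBot ℕ∞) + 1 ≤ ringKrullDim (R ⧸ (I ⊔ p)) :=
        ENat.WithBot.add_one_le_iff.mpr (by exact_mod_cast hpos)
      simpa using h01) (M ⧸ (p • ⊤ : Submodule R M))
    obtain ⟨ψ, -⟩ := Groth.Agent.S11614.result R (R ⧸ p) I (M ⧸ (p • ⊤ : Submodule R M)) n
    exact ψ.symm.toEquiv.subsingleton

end aux

/-- Let R be a complete Noetherian local ring with maximal ideal m, E an injective hull of its residue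
field, I an ideal of R and M a finitely generated R-module whose support has dimension n. Then the
set of associated primes of the Matlis dual Hom_R(H^n_I(M), E) of the top local cohomology module
(the coassociated primes of H^n_I(M)) is the set of prime ideals p of R containing the annihilator
of M such that R ⧸ p has dimension n and the radical of I + p is m. -/
theorem result (R : Type u) [CommRing R] [IsNoetherianRing R] [IsLocalRing R] [IsAdicComplete (IsLocalRing.maximalIdeal R) R] (E : Type u) [AddCommGroup E] [Module R E] (f : IsLocalRing.ResidueField R →ₗ[R] E) (hf : InjHull.IsInjectiveHull f) (I : Ideal R) (M : Type u) [AddCommGroup M] [Module R M] [Module.Finite R M] (n : ℕ) (hn : Module.supportDim R M = n) : associatedPrimes R (LocCoh.H I n M →ₗ[R] E) = {p : Ideal R | p.IsPrime ∧ Module.annihilator R M ≤ p ∧ ringKrullDim (R ⧸ p) = n ∧ (I ⊔ p).radical = IsLocalRing.maximalIdeal R} := by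
  classical
  open Groth.Agent.Lib.Helper29.TopLC Groth.Agent.Lib.Helper8.Acyc Groth.Agent.Lib.Helper29.Conn in
  ext p
  constructor
  · intro hp
    obtain ⟨h1, h2, h3⟩ := dir2 R E I M n hn p hp
    exact ⟨hp.1, h1, h2, h3⟩
  · rintro ⟨hpp, hAnn, hdim, hrad⟩
    haveI := hpp
    set N := M ⧸ (p • ⊤ : Submodule R M) with hNdef
    set g : M →ₗ[R] N := Submodule.mkQ _ with hgdef
    have hg : Function.Surjective g := Submodule.mkQ_surjective _
    have hHg := H_map_surjective I n M hn.le M le_rfl g hg
    -- support dimension of `N`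
    have hsuppN : Module.supportDim R N = n := by
      have hsupp : Module.support R N = PrimeSpectrum.zeroLocus (p : Set R) := by
        change Module.support R (M ⧸ (p • ⊤ : Submodule R M)) = _
        rw [Module.support_quotient, Set.inter_eq_right, Module.support_eq_zeroLocus]
        exact PrimeSpectrum.zeroLocus_anti_mono hAnn
      unfold Module.supportDim
      rw [hsupp, ← ringKrullDim_quotient]
      exact hdim
    have hpN : p ≤ Module.annihilator R N := by
      intro r hr
      rw [Module.mem_annihilator]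
      intro m
      obtain ⟨m, rfl⟩ := Submodule.Quotient.mk_surjective _ m
      rw [← Submodule.Quotient.mk_smul, Submodule.Quotient.mk_eq_zero]
      exact Submodule.smul_mem_smul hr Submodule.mem_top
    -- `H^n_I(N) ≠ 0`
    haveI hNnt : Nontrivial (LocCoh.H I n N) := by
      by_contra hcon
      rw [not_nontrivial_iff_subsingleton] at hcon
      obtain ⟨ψ, -⟩ := Groth.Agent.S11614.result R (R ⧸ p) I N n
      haveI h1 : Subsingleton (LocCoh.H (I.map (Ideal.Quotient.mk p)) n N) :=
        ψ.toEquiv.subsingleton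
      have hmap : (I ⊔ p).map (algebraMap R (R ⧸ p)) = I.map (algebraMap R (R ⧸ p)) := by
        change (I ⊔ p).map (Ideal.Quotient.mk p) = I.map (Ideal.Quotient.mk p)
        rw [Ideal.map_sup, Ideal.map_quotient_self, sup_bot_eq]
      obtain ⟨ψ', -⟩ := Groth.Agent.S11614.result R (R ⧸ p) (I ⊔ p) N n
      rw [hmap] at ψ'
      haveI h2 : Subsingleton (LocCoh.H (I ⊔ p) n N) := ψ'.symm.toEquiv.subsingleton
      have h3 : Subsingleton (LocCoh.H (IsLocalRing.maximalIdeal R) n N) :=
        subsingleton_of_radical_eq (by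
          rw [hrad, Ideal.IsPrime.radical inferInstance]) n N h2
      have h4 := Groth.Agent.Lib.Helper8.NV.nonvanishing R N n hsuppN
      exact not_subsingleton _ h3
    haveI hD' : Nontrivial (LocCoh.H I n N →ₗ[R] E) :=
      Groth.Agent.Lib.Helper8.CanonCM.nontrivial_hom E f hf (LocCoh.H I n N)
    obtain ⟨q, hq⟩ := associatedPrimes.nonempty R (LocCoh.H I n N →ₗ[R] E)
    obtain ⟨hq1, hq2, -⟩ := dir2 R E I N n hsuppN q hq
    haveI : q.IsPrime := hq.1
    have hpq : p = q := eq_of_le_of_dim_eq R p q (hpN.trans hq1) n hdim hq2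
    subst hpq
    -- transfer along the injection `Hom(H(N), E) → Hom(H(M), E)`
    let ψ : (LocCoh.H I n N →ₗ[R] E) →ₗ[R] (LocCoh.H I n M →ₗ[R] E) :=
      LinearMap.lcomp R E ((localCohomology I n).map (ModuleCat.ofHom g)).hom
    have hψ : Function.Injective ψ := by
      intro a b hab
      apply LinearMap.ext
      intro z
      obtain ⟨y, rfl⟩ := hHg z
      exact LinearMap.congr_fun hab y
    exact associatedPrimes.subset_of_injective hψ hq

end Groth.Agent.S17759
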