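import Groth.Statements.S0329
import Groth.Agent.Lib.Helper8Fal

set_option autoImplicit false
universe u v
open LocCoh

namespace Groth.Agent.S0329

/-- Part (1): ⇔(2) with T = V(I) (Faltings): for a finite module M over a Noetherian ring, the local
cohomology modules H^i_I(M) for i ≤ n are all finitely generated exactly when some ideal J with I
contained in the radical of J kills all of them. -/
theorem result (R : Type u) [CommRing R] [IsNoetherianRing R] (I : Ideal R) (M : Type u) [AddCommGroup M] [Module R M] [Module.Finite R M] (n : ℕ) : (∀ i : ℕ, i ≤ n → Module.Finite R (LocCoh.H I i M)) ↔ ∃ J : Ideal R, I ≤ J.radical ∧ ∀ i : ℕ, i ≤ n → ∀ a ∈ J, ∀ x : LocCoh.H I i M, a • x = 0 := by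
  constructor
  · intro h
    obtain ⟨k, hk⟩ := Groth.Agent.Lib.Helper8.Fal.exists_kills_of_finite_le I n M h
    refine ⟨I ^ (k + 1), ?_, fun i hi a ha x => ?_⟩
    · rw [Ideal.radical_pow I (Nat.succ_ne_zero k)]
      exact Ideal.le_radical
    · exact hk i hi a (Ideal.pow_le_pow_right (Nat.le_succ k) ha) x
  · rintro ⟨J, hJ, hkill⟩
    obtain ⟨k, hk⟩ := Ideal.exists_pow_le_of_le_radical_of_fg hJ (IsNoetherian.noetherian I)
    exact Groth.Agent.Lib.Helper8.Fal.finite_of_kills I n M
      ⟨k, fun i hi a ha x => hkill i hi a (hk ha) x⟩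

end Groth.Agent.S0329
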