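import Groth.Statements.S2930
import Groth.Agent.S11653
import Groth.Agent.S11660
import Groth.Agent.S11651
import Groth.Agent.S11648
import Groth.Agent.S0329
import Groth.Agent.Lib.Helper28Catenary

set_option autoImplicit false
universe u
open LocCoh

namespace Groth.Agent.S2930

section aux

variable {A : Type u} [CommRing A] [IsNoetherianRing A]

/-- Finiteness of `H^i_I(M)` for `i ≤ n` in terms of the `I`-finiteness dimension relative to `I`. -/
theorem finite_iff_lt_finDimRel (I : Ideal A) (M : Type u) [AddCommGroup M] [Module A M]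
    [Module.Finite A M] (n : ℕ) :
    (∀ i : ℕ, i ≤ n → Module.Finite A (LocCoh.H I i M)) ↔ (n : ℕ∞) < LocCoh.finDimRel I I M := by
  rw [Groth.Agent.S0329.result A I M n, ← ENat.add_one_le_iff (ENat.natCast_ne_top n)]
  unfold LocCoh.finDimRel
  rw [le_iInf₂_iff]
  constructor
  · rintro ⟨J, hIJ, hJ⟩ i hi
    by_contra hlt
    have hin : i ≤ n := by
      have : (i : ℕ∞) < (n : ℕ∞) + 1 := not_le.mp hlt
      have h2 : (i : ℕ∞) < ((n + 1 : ℕ) : ℕ∞) := by exact_mod_cast this
      have h3 : i < n + 1 := by exact_mod_cast h2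
      omega
    apply hi
    refine hIJ.trans (Ideal.radical_mono ?_)
    intro a ha
    rw [Module.mem_annihilator]
    exact hJ i hin a ha
  · intro h
    have hle : ∀ i : ℕ, i ≤ n → I ≤ (Module.annihilator A (LocCoh.H I i M)).radical := by
      intro i hi
      by_contra hne
      have h1 := h i hne
      have h2 : ((n + 1 : ℕ) : ℕ∞) ≤ (i : ℕ∞) := by exact_mod_cast h1
      have h3 : n + 1 ≤ i := by exact_mod_cast h2
      omega
    have hk : ∀ i : ℕ, ∃ k : ℕ, i ≤ n → I ^ k ≤ Module.annihilator A (LocCoh.H I i M) := by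
      intro i
      by_cases hi : i ≤ n
      · obtain ⟨k, hk⟩ := Ideal.exists_pow_le_of_le_radical_of_fg (hle i hi)
          (IsNoetherian.noetherian I)
        exact ⟨k, fun _ => hk⟩
      · exact ⟨0, fun h => absurd h hi⟩
    choose k hk using hk
    refine ⟨I ^ ((∑ i ∈ Finset.range (n + 1), k i) + 1), ?_, ?_⟩
    · rw [Ideal.radical_pow I (Nat.succ_ne_zero _)]
      exact Ideal.le_radical
    · intro i hi a ha x
      have h1 : I ^ ((∑ i ∈ Finset.range (n + 1), k i) + 1) ≤ I ^ (k i) := by
        apply Ideal.pow_le_pow_right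
        have : k i ≤ ∑ j ∈ Finset.range (n + 1), k j :=
          Finset.single_le_sum (f := k) (fun j _ => Nat.zero_le _)
            (Finset.mem_range.mpr (Nat.lt_succ_of_le hi))
        omega
      exact Module.mem_annihilator.mp (hk i hi (h1 ha)) x

end aux

/-- (ii)⇔(iii): Let A be a Noetherian ring which is a quotient of a regular ring, I an ideal, M a finite
A-module and n ≥ 0. Then H^i_I(M) is a finite A-module for every i ≤ n if and only if depth M_p ≥ n
for every prime p not containing I for which V(p) ∩ V(I) has codimension 1 in V(p), i.e. for which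
there is a prime q ⊇ I covering p. -/
theorem result (R : Type u) [CommRing R] [IsRegularRing R] (A : Type u) [CommRing A] [IsNoetherianRing A] (π : R →+* A) (hπ : Function.Surjective π) (I : Ideal A) (M : Type u) [AddCommGroup M] [Module A M] [Module.Finite A M] (n : ℕ) : (∀ i : ℕ, i ≤ n → Module.Finite A (LocCoh.H I i M)) ↔ ∀ p q : PrimeSpectrum A, ¬ I ≤ p.asIdeal → I ≤ q.asIdeal → p ⋖ q → (n : ℕ∞) ≤ LocCoh.depth (Localization.AtPrime p.asIdeal) (LocalizedModule p.asIdeal.primeCompl M) := by
  classical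
  have hF : LocCoh.finDimRel I I M = LocCoh.minAdjDepth I I M :=
    le_antisymm (Groth.Agent.S11653.result A I I M) (Groth.Agent.S11660.result R A π hπ I I M)
  rw [finite_iff_lt_finDimRel, hF, ← ENat.add_one_le_iff (ENat.natCast_ne_top n)]
  unfold LocCoh.minAdjDepth
  rw [le_iInf₂_iff]
  constructor
  · intro H p q hp hq hcov
    have h1 := H p hp
    have hle : ((I ⊔ p.asIdeal).map (Ideal.Quotient.mk p.asIdeal)).height ≤ 1 := by
      rw [← Groth.Agent.Lib.Helper28.height_map_mk_eq_one_of_covBy hcov]
      exact Ideal.height_mono (Ideal.map_mono (sup_le hq (le_of_lt hcov.1)))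
    unfold LocCoh.adjDepth at h1
    exact (ENat.add_le_add_iff_right ENat.one_ne_top).mp (h1.trans (add_le_add le_rfl hle))
  · intro H p hp
    rw [ENat.add_one_le_iff (ENat.natCast_ne_top n)]
    by_cases htop : ((I ⊔ p.asIdeal).map (Ideal.Quotient.mk p.asIdeal)).height = ⊤
    · unfold LocCoh.adjDepth
      rw [htop, add_top]
      exact ENat.natCast_lt_top n
    obtain ⟨q, hq, hqh⟩ := Groth.Agent.S11648.exists_minimalPrime_height_eq I p.asIdeal htop
    haveI hqprime : q.IsPrime := hq.1.1
    have hpq : p.asIdeal ≤ q := le_trans le_sup_right hq.1.2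
    have hIq : I ≤ q := le_trans le_sup_left hq.1.2
    have hpne : p.asIdeal ≠ q := by
      rintro h
      exact hp (h ▸ hIq)
    have hplt : p.asIdeal < q := lt_of_le_of_ne hpq hpne
    obtain ⟨s, ⟨hsprime, hps, hsq⟩, hmax⟩ := (wellFounded_gt (α := Ideal A)).has_min
      {J : Ideal A | J.IsPrime ∧ p.asIdeal ≤ J ∧ J < q} ⟨p.asIdeal, p.2, le_rfl, hplt⟩
    haveI := hsprime
    let s' : PrimeSpectrum A := ⟨s, hsprime⟩
    let q' : PrimeSpectrum A := ⟨q, hqprime⟩
    have hcov : s' ⋖ q' := by
      refine ⟨hsq, fun t hst htq => ?_⟩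
      exact hmax t.asIdeal ⟨t.2, le_trans hps (le_of_lt hst), htq⟩ hst
    have hIs : ¬ I ≤ s := by
      intro hle
      have := hq.2 ⟨hsprime, sup_le hle hps⟩ (le_of_lt hsq)
      exact absurd (lt_of_lt_of_le hsq this) (lt_irrefl _)
    have hs1 : ((I ⊔ s).map (Ideal.Quotient.mk s)).height = 1 := by
      apply le_antisymm
      · rw [← Groth.Agent.Lib.Helper28.height_map_mk_eq_one_of_covBy hcov]
        exact Ideal.height_mono (Ideal.map_mono (sup_le hIq (le_of_lt hsq)))
      · rw [ENat.one_le_iff_ne_zero]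
        haveI : IsDomain (A ⧸ s) := Ideal.Quotient.isDomain s
        rw [Ne, Ideal.height_eq_zero_iff_eq_bot, Ideal.map_eq_bot_iff_le_ker, Ideal.mk_ker]
        intro hle
        exact hIs (le_trans le_sup_left hle)
    have hdepth := H s' q' hIs hIq hcov
    have hadj : LocCoh.adjDepth I M s' ≤ LocCoh.adjDepth I M p :=
      Groth.Agent.S11651.result A I M p q' hq hqh s' hps (le_of_lt hsq)
    refine lt_of_lt_of_le ?_ hadj
    unfold LocCoh.adjDepth
    change (n : ℕ∞) < LocCoh.depth (Localization.AtPrime s) (LocalizedModule s.primeCompl M) +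
      ((I ⊔ s).map (Ideal.Quotient.mk s)).height
    rw [hs1]
    by_cases htop' : LocCoh.depth (Localization.AtPrime s)
        (LocalizedModule s.primeCompl M) = ⊤
    · rw [htop', top_add]
      exact ENat.natCast_lt_top n
    · exact (ENat.lt_add_one_iff htop').mpr hdepth

end Groth.Agent.S2930
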