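import Groth.Statements.S5172
import Groth.Agent.S11651
import Groth.Agent.S11648
import Groth.Agent.Lib.Helper28Catenary

set_option autoImplicit false
universe u
open LocCoh

namespace Groth.Agent.S5172

section aux

variable {A : Type u} [CommRing A]

/-- `Spec (A/p)` is order isomorphic to the primes above `p`. -/
noncomputable def iciIso (p : PrimeSpectrum A) : PrimeSpectrum (A ⧸ p.asIdeal) ≃o Set.Ici p :=
  (Ideal.primeSpectrumQuotientOrderIsoZeroLocus p.asIdeal).trans
    (OrderIso.setCongr _ _ (by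
      ext q
      simp only [PrimeSpectrum.mem_zeroLocus, SetLike.coe_subset_coe, Set.mem_Ici]
      rfl))

theorem iciIso_apply (p : PrimeSpectrum A) (J : PrimeSpectrum (A ⧸ p.asIdeal)) :
    ((iciIso p J : Set.Ici p) : PrimeSpectrum A).asIdeal =
      J.asIdeal.comap (Ideal.Quotient.mk p.asIdeal) := rfl

theorem relCodim_eq_height (I : Ideal A) (p : PrimeSpectrum A) :
    SGA2.relCodim I p = ((I ⊔ p.asIdeal).map (Ideal.Quotient.mk p.asIdeal)).height := by
  have hsurj : Function.Surjective (Ideal.Quotient.mk p.asIdeal) := Ideal.Quotient.mk_surjective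
  unfold SGA2.relCodim
  apply le_antisymm
  · rw [Ideal.height_eq_inf_minimalPrimes]
    refine le_iInf₂ fun J hJ => ?_
    haveI := hJ.1.1
    let J' : PrimeSpectrum (A ⧸ p.asIdeal) := ⟨J, hJ.1.1⟩
    have hq : p ≤ ((iciIso p J' : Set.Ici p) : PrimeSpectrum A) ∧
        I ≤ ((iciIso p J' : Set.Ici p) : PrimeSpectrum A).asIdeal := by
      refine ⟨(iciIso p J').2, ?_⟩
      rw [iciIso_apply]
      intro x hx
      rw [Ideal.mem_comap]
      exact hJ.1.2 (Ideal.mem_map_of_mem _ (Ideal.mem_sup_left hx))
    refine (iInf_le _ (⟨((iciIso p J' : Set.Ici p) : PrimeSpectrum A), hq⟩ :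
      {q : PrimeSpectrum A // p ≤ q ∧ I ≤ q.asIdeal})).trans ?_
    have h1 : Order.height (iciIso p J') = Order.height J' := Order.height_orderIso _ _
    have h2 : J.height = Order.height J' := PrimeSpectrum.height_eq_orderHeight J'
    rw [h2, ← h1]
  · refine le_iInf fun q => ?_
    let q' : Set.Ici p := ⟨q.1, q.2.1⟩
    let J' : PrimeSpectrum (A ⧸ p.asIdeal) := (iciIso p).symm q'
    have hJq : iciIso p J' = q' := (iciIso p).apply_symm_apply q'
    have h1 : Order.height q' = Order.height J' := by
      rw [← hJq]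
      exact Order.height_orderIso _ _
    have h2 : J'.asIdeal.height = Order.height J' := PrimeSpectrum.height_eq_orderHeight J'
    show _ ≤ Order.height q'
    rw [h1, ← h2]
    apply Ideal.height_mono
    rw [Ideal.map_le_iff_le_comap, ← iciIso_apply, hJq]
    exact sup_le q.2.2 q.2.1

end aux

/-- Let A be a Noetherian ring which is a quotient of a regular ring, I an ideal, M a finite A-module
and n ≥ 0; c(p) = codim(V(p) ∩ V(I), V(p)). Then depth M_p > n − c(p) for all primes p ⊉ I if and
only if depth M_p ≥ n for all primes p ⊉ I with c(p) = 1. -/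
theorem result (R : Type u) [CommRing R] [IsRegularRing R] (A : Type u) [CommRing A] [IsNoetherianRing A] (π : R →+* A) (hπ : Function.Surjective π) (I : Ideal A) (M : Type u) [AddCommGroup M] [Module A M] [Module.Finite A M] (n : ℕ) : (∀ p : PrimeSpectrum A, ¬ I ≤ p.asIdeal → (n : ℕ∞) < LocCoh.depth (Localization.AtPrime p.asIdeal) (LocalizedModule p.asIdeal.primeCompl M) + SGA2.relCodim I p) ↔ (∀ p : PrimeSpectrum A, ¬ I ≤ p.asIdeal → SGA2.relCodim I p = 1 → (n : ℕ∞) ≤ LocCoh.depth (Localization.AtPrime p.asIdeal) (LocalizedModule p.asIdeal.primeCompl M)) := by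
  classical
  constructor
  · intro H p hp h1
    have h := H p hp
    rw [h1] at h
    by_cases htop : LocCoh.depth (Localization.AtPrime p.asIdeal)
        (LocalizedModule p.asIdeal.primeCompl M) = ⊤
    · rw [htop]; exact le_top
    · exact (ENat.lt_add_one_iff htop).mp h
  · intro H p hp
    rw [relCodim_eq_height]
    by_cases htop : ((I ⊔ p.asIdeal).map (Ideal.Quotient.mk p.asIdeal)).height = ⊤
    · rw [htop, add_top]
      exact ENat.coe_lt_top n
    obtain ⟨q, hq, hqh⟩ := Groth.Agent.S11648.exists_minimalPrime_height_eq I p.asIdeal htop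
    haveI hqprime : q.IsPrime := hq.1.1
    have hpq : p.asIdeal ≤ q := le_trans le_sup_right hq.1.2
    have hIq : I ≤ q := le_trans le_sup_left hq.1.2
    have hpne : p.asIdeal ≠ q := by
      rintro h
      exact hp (h ▸ hIq)
    have hplt : p.asIdeal < q := lt_of_le_of_ne hpq hpne
    -- a prime `s` with `p ≤ s ⋖ q`
    obtain ⟨s, ⟨hsprime, hps, hsq⟩, hmax⟩ := (wellFounded_gt (α := Ideal A)).has_min
      {J : Ideal A | J.IsPrime ∧ p.asIdeal ≤ J ∧ J < q} ⟨p.asIdeal, p.2, le_rfl, hplt⟩
    haveI := hsprime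
    let s' : PrimeSpectrum A := ⟨s, hsprime⟩
    let q' : PrimeSpectrum A := ⟨q, hqprime⟩
    have hcov : s' ⋖ q' := by
      refine ⟨hsq, fun t hst htq => ?_⟩
      exact hmax t.asIdeal ⟨t.2, le_trans hps (le_of_lt hst), htq⟩ hst
    have hIs : ¬ I ≤ s := by
      intro hle
      have := hq.2 ⟨hsprime, sup_le hle hps⟩ (le_of_lt hsq)
      exact absurd (lt_of_lt_of_le hsq this) (lt_irrefl _)
    have hs1 : SGA2.relCodim I s' = 1 := by
      rw [relCodim_eq_height]
      apply le_antisymm
      · rw [← Groth.Agent.Lib.Helper28.height_map_mk_eq_one_of_covBy hcov]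
        exact Ideal.height_mono (Ideal.map_mono (sup_le hIq (le_of_lt hsq)))
      · rw [ENat.one_le_iff_ne_zero]
        haveI : IsDomain (A ⧸ s) := Ideal.Quotient.isDomain s
        rw [Ne, Ideal.height_eq_zero_iff_eq_bot, Ideal.map_eq_bot_iff_le_ker, Ideal.mk_ker]
        intro hle
        exact hIs (le_trans le_sup_left hle)
    have hdepth := H s' hIs hs1
    have hadj : LocCoh.adjDepth I M s' ≤ LocCoh.adjDepth I M p :=
      Groth.Agent.S11651.result A I M p q' hq hqh s' hps (le_of_lt hsq)
    unfold LocCoh.adjDepth at hadj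
    refine lt_of_lt_of_le ?_ hadj
    rw [← relCodim_eq_height, hs1]
    by_cases htop' : LocCoh.depth (Localization.AtPrime s'.asIdeal)
        (LocalizedModule s'.asIdeal.primeCompl M) = ⊤
    · rw [htop', top_add]
      exact ENat.coe_lt_top n
    · exact (ENat.lt_add_one_iff htop').mpr hdepth

end Groth.Agent.S5172
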