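import Groth.Statements.S2931
import Groth.Agent.S2930
import Groth.Agent.S5172
import Groth.Agent.Lib.Helper29AdjDepthSurj
import Groth.Agent.Lib.Helper29FaltingsReg

set_option autoImplicit false
universe u
open LocCoh

namespace Groth.Agent.S2931
open Groth.Agent.Lib.Helper28

section aux
open Groth.Agent.Lib.Helper28

/-- In a Cohen–Macaulay ring, `ht Q = ht (Q/P) + ht P` for primes `P ≤ Q`. -/
theorem height_eq_add_of_cm {R : Type u} [CommRing R] [hR : LocCoh.IsCohenMacaulayRing R]
    (P Q : Ideal R) [hP : P.IsPrime] [hQ : Q.IsPrime] (hPQ : P ≤ Q) :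
    Q.height = (Q.map (Ideal.Quotient.mk P)).height + P.height := by
  obtain ⟨hp', hcomap⟩ := isPrime_map_and_comap_map_of_le Q hPQ
  haveI : Nontrivial R := ⟨⟨0, 1, fun h => hQ.ne_top (by rw [Ideal.eq_top_iff_one, ← h]; exact Q.zero_mem)⟩⟩
  have hM : LocCoh.IsCohenMacaulayModule (Localization.AtPrime Q)
      (LocalizedModule Q.primeCompl R) := by
    have h := (hR.isCohenMacaulayLocalRing_localization Q).supportDim_eq_depth
    unfold LocCoh.IsCohenMacaulayModule
    rw [Module.supportDim_eq_of_equiv (localizedModuleSelfEquiv Q), depth_localizedModule_self]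
    exact h
  have K := ringKrullDim_eq_quotient_add_height_of_isCohenMacaulayModule
    (R := Localization.AtPrime Q) (M := LocalizedModule Q.primeCompl R)
    hM (support_localizedModule_eq_univ support_self_eq_univ Q)
    (P.map (algebraMap R (Localization.AtPrime Q)))
  rw [IsLocalization.AtPrime.ringKrullDim_eq_height Q (Localization.AtPrime Q),
    ringKrullDim_localization_quotient_eq_height P Q hPQ,
    ← IsLocalization.height_under Q.primeCompl
      (P.map (algebraMap R (Localization.AtPrime Q))), Ideal.under_def,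
    hcomap] at K
  exact_mod_cast K

/-- Catenary-type additivity in a Cohen–Macaulay ring. -/
theorem height_quot_add_of_cm {R : Type u} [CommRing R] [hR : LocCoh.IsCohenMacaulayRing R]
    (P₀ P Q : Ideal R) [P₀.IsPrime] [P.IsPrime] [Q.IsPrime] (h₀ : P₀ ≤ P) (h₁ : P ≤ Q) :
    (Q.map (Ideal.Quotient.mk P₀)).height =
      (Q.map (Ideal.Quotient.mk P)).height + (P.map (Ideal.Quotient.mk P₀)).height := by
  have e1 := height_eq_add_of_cm P₀ Q (h₀.trans h₁)
  have e2 := height_eq_add_of_cm P Q h₁
  have e3 := height_eq_add_of_cm P₀ P h₀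
  have hfin : P₀.height ≠ ⊤ := Ideal.height_ne_top_of_isPrime
  rw [e3, ← add_assoc, e1] at e2
  exact (ENat.add_left_injective_of_ne_top hfin) e2

/-- Catenary-type additivity in a quotient of a Cohen–Macaulay ring. -/
theorem height_quot_add_of_surjective {R A : Type u} [CommRing R] [LocCoh.IsCohenMacaulayRing R]
    [CommRing A] (π : R →+* A) (hπ : Function.Surjective π) (p₀ p q : Ideal A)
    [p₀.IsPrime] [p.IsPrime] [q.IsPrime] (h₀ : p₀ ≤ p) (h₁ : p ≤ q) :
    (q.map (Ideal.Quotient.mk p₀)).height =
      (q.map (Ideal.Quotient.mk p)).height + (p.map (Ideal.Quotient.mk p₀)).height := by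
  letI : Algebra R A := π.toAlgebra
  have hπ' : Function.Surjective (algebraMap R A) := hπ
  have t1 := Groth.Agent.Lib.Helper29AdjDepthSurj.height_quot_eq_of_surjective hπ'
    (p₀.comap (algebraMap R A)) p₀ rfl q
  rw [sup_of_le_left (Ideal.comap_mono (h₀.trans h₁)), sup_of_le_left (h₀.trans h₁)] at t1
  have t2 := Groth.Agent.Lib.Helper29AdjDepthSurj.height_quot_eq_of_surjective hπ'
    (p.comap (algebraMap R A)) p rfl q
  rw [sup_of_le_left (Ideal.comap_mono h₁), sup_of_le_left h₁] at t2
  have t3 := Groth.Agent.Lib.Helper29AdjDepthSurj.height_quot_eq_of_surjective hπ'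
    (p₀.comap (algebraMap R A)) p₀ rfl p
  rw [sup_of_le_left (Ideal.comap_mono h₀), sup_of_le_left h₀] at t3
  rw [← t1, ← t2, ← t3]
  exact height_quot_add_of_cm _ _ _ (Ideal.comap_mono h₀) (Ideal.comap_mono h₁)

end aux


/-- Affine form (coherence of R^p i_*(F) for p < n being finiteness of H^i_I for i ≤ n). Let A be a
Noetherian ring which is a quotient of a regular ring, I an ideal and M a finite A-module such that
M_p is zero or Cohen–Macaulay for every prime p not containing I. Then H^i_I(M) is a finite A-module
for every i ≤ n if and only if for every prime p not containing I which is minimal in the support of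
M, the codimension of V(p) ∩ V(I) in V(p) is greater than n. -/
theorem result (R : Type u) [CommRing R] [IsRegularRing R] (A : Type u) [CommRing A] [IsNoetherianRing A] (π : R →+* A) (hπ : Function.Surjective π) (I : Ideal A) (M : Type u) [AddCommGroup M] [Module A M] [Module.Finite A M] (hCM : ∀ p : PrimeSpectrum A, ¬ I ≤ p.asIdeal → Subsingleton (LocalizedModule p.asIdeal.primeCompl M) ∨ LocCoh.IsCohenMacaulayModule (Localization.AtPrime p.asIdeal) (LocalizedModule p.asIdeal.primeCompl M)) (n : ℕ) : (∀ i : ℕ, i ≤ n → Module.Finite A (LocCoh.H I i M)) ↔ ∀ p : PrimeSpectrum A, ¬ I ≤ p.asIdeal → p.asIdeal ∈ (Module.annihilator A M).minimalPrimes → (n : ℕ∞) < SGA2.relCodim I p := by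
  classical
  haveI : LocCoh.IsCohenMacaulayRing R :=
    Groth.Agent.Lib.Helper29FaltingsReg.isCohenMacaulayRing_of_isRegularRing R
  have hF : LocCoh.finDimRel I I M = LocCoh.minAdjDepth I I M :=
    le_antisymm (Groth.Agent.S11653.result A I I M) (Groth.Agent.S11660.result R A π hπ I I M)
  rw [Groth.Agent.S2930.finite_iff_lt_finDimRel, hF, ← ENat.add_one_le_iff (ENat.natCast_ne_top n)]
  unfold LocCoh.minAdjDepth
  rw [le_iInf₂_iff]
  constructor
  · intro H p hp hmin
    have h1 := H p hp
    unfold LocCoh.adjDepth at h1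
    rw [Groth.Agent.S5172.relCodim_eq_height]
    have hpM : p ∈ Module.support A M := by
      rw [Module.support_eq_zeroLocus]
      exact hmin.1.2
    haveI hnt : Nontrivial (LocalizedModule p.asIdeal.primeCompl M) :=
      Module.mem_support_iff.mp hpM
    have hd : LocCoh.depth (Localization.AtPrime p.asIdeal)
        (LocalizedModule p.asIdeal.primeCompl M) = 0 := by
      have h2 := depth_le_supportDim (R := Localization.AtPrime p.asIdeal)
        (M := LocalizedModule p.asIdeal.primeCompl M)
      rw [supportDim_localization_eq_height p.asIdeal M hpM] at h2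
      have hmin' : IsMin (⟨⟨p.asIdeal, p.2⟩, hpM⟩ : Module.support A M) := by
        rintro ⟨b, hb2⟩ hb
        have hb' : b.asIdeal ≤ p.asIdeal := hb
        have hbann : Module.annihilator A M ≤ b.asIdeal := by
          have hb3 : b ∈ PrimeSpectrum.zeroLocus (Module.annihilator A M : Set A) := by
            rw [← Module.support_eq_zeroLocus]
            exact hb2
          exact hb3
        exact hmin.2 ⟨b.2, hbann⟩ hb'
      rw [Order.height_eq_zero.mpr hmin'] at h2
      have h3 : LocCoh.depth (Localization.AtPrime p.asIdeal)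
          (LocalizedModule p.asIdeal.primeCompl M) ≤ 0 := by exact_mod_cast h2
      exact le_antisymm h3 zero_le
    rw [hd, zero_add] at h1
    exact (ENat.add_one_le_iff (ENat.natCast_ne_top n)).mp h1
  · intro H p hp
    by_cases hpM : p ∈ Module.support A M
    swap
    · rw [Module.notMem_support_iff] at hpM
      unfold LocCoh.adjDepth
      haveI := hpM
      rw [depth_eq_top_of_subsingleton (R := Localization.AtPrime p.asIdeal), top_add]
      exact le_top
    haveI hnt : Nontrivial (LocalizedModule p.asIdeal.primeCompl M) :=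
      Module.mem_support_iff.mp hpM
    have hcm : LocCoh.IsCohenMacaulayModule (Localization.AtPrime p.asIdeal)
        (LocalizedModule p.asIdeal.primeCompl M) :=
      (hCM p hp).resolve_left (not_subsingleton_iff_nontrivial.mpr hnt)
    have hann : Module.annihilator A M ≤ p.asIdeal := by
      have := hpM
      rw [Module.support_eq_zeroLocus] at this
      exact this
    obtain ⟨p₀, hp₀min, hp₀p⟩ := Ideal.exists_minimalPrimes_le hann
    haveI hp₀prime : p₀.IsPrime := hp₀min.1.1
    have hIp₀ : ¬ I ≤ p₀ := fun h => hp (h.trans hp₀p)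
    have h1 := H ⟨p₀, hp₀prime⟩ hIp₀ hp₀min
    rw [Groth.Agent.S5172.relCodim_eq_height] at h1
    unfold LocCoh.adjDepth
    by_cases htop : ((I ⊔ p.asIdeal).map (Ideal.Quotient.mk p.asIdeal)).height = ⊤
    · rw [htop, add_top]
      exact le_top
    obtain ⟨q, hq, hqh⟩ := Groth.Agent.S11648.exists_minimalPrime_height_eq I p.asIdeal htop
    haveI hqprime : q.IsPrime := hq.1.1
    have hpq : p.asIdeal ≤ q := le_trans le_sup_right hq.1.2
    have hIq : I ≤ q := le_trans le_sup_left hq.1.2
    rw [← hqh]
    have hcat := height_quot_add_of_surjective π hπ p₀ p.asIdeal q hp₀p hpq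
    have h2 : ((I ⊔ p₀).map (Ideal.Quotient.mk p₀)).height ≤
        (q.map (Ideal.Quotient.mk p₀)).height :=
      Ideal.height_mono (Ideal.map_mono (sup_le hIq (hp₀p.trans hpq)))
    have h3 : (p.asIdeal.map (Ideal.Quotient.mk p₀)).height ≤
        LocCoh.depth (Localization.AtPrime p.asIdeal)
          (LocalizedModule p.asIdeal.primeCompl M) := by
      obtain ⟨hp', hcomap⟩ := isPrime_map_and_comap_map_of_le p.asIdeal hp₀p
      have hmem : (⟨p₀.map (algebraMap A (Localization.AtPrime p.asIdeal)), hp'⟩ :
          PrimeSpectrum (Localization.AtPrime p.asIdeal)) ∈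
          Module.support (Localization.AtPrime p.asIdeal)
            (LocalizedModule p.asIdeal.primeCompl M) := by
        rw [mem_support_isLocalizedModule_iff p.asIdeal.primeCompl
          (Localization.AtPrime p.asIdeal) (LocalizedModule.mkLinearMap p.asIdeal.primeCompl M)]
        have : PrimeSpectrum.comap (algebraMap A (Localization.AtPrime p.asIdeal))
            ⟨p₀.map (algebraMap A (Localization.AtPrime p.asIdeal)), hp'⟩ = ⟨p₀, hp₀prime⟩ := by
          apply PrimeSpectrum.ext
          exact hcomap
        rw [this, Module.support_eq_zeroLocus]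
        exact hp₀min.1.2
      have h4 := ringKrullDim_quotient_le_supportDim hmem
      change ringKrullDim (Localization.AtPrime p.asIdeal ⧸
        p₀.map (algebraMap A (Localization.AtPrime p.asIdeal))) ≤ _ at h4
      rw [ringKrullDim_localization_quotient_eq_height p₀ p.asIdeal hp₀p, hcm] at h4
      exact_mod_cast h4
    calc (n : ℕ∞) + 1 ≤ ((I ⊔ p₀).map (Ideal.Quotient.mk p₀)).height :=
          (ENat.add_one_le_iff (ENat.natCast_ne_top n)).mpr h1
      _ ≤ (q.map (Ideal.Quotient.mk p₀)).height := h2
      _ = (q.map (Ideal.Quotient.mk p.asIdeal)).height +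
            (p.asIdeal.map (Ideal.Quotient.mk p₀)).height := hcat
      _ ≤ (q.map (Ideal.Quotient.mk p.asIdeal)).height +
            LocCoh.depth (Localization.AtPrime p.asIdeal)
              (LocalizedModule p.asIdeal.primeCompl M) := add_le_add le_rfl h3
      _ = _ := add_comm _ _

end Groth.Agent.S2931
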