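import Groth.Statements.S11175
import Groth.Agent.Lib.Helper29GorHull
import Groth.Agent.Lib.Helper29GorQuot
import Groth.Agent.Lib.Helper8LCDepth
import Groth.Agent.S0343
import Groth.Agent.S0327
import Groth.Agent.S11614

set_option autoImplicit false
universe u
open CategoryTheory
open Goren

namespace Groth.Agent.S11175

section aux

open CategoryTheory CategoryTheory.Abelian IsLocalRing
open scoped Pointwise
open Groth.Agent.Lib.Helper8.LC Groth.Agent.Lib.Helper8.ExtLES Groth.Agent.Lib.Helper28
  Groth.Agent.Lib.Helper8.LocDual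

variable (A : Type u) [CommRing A] [IsLocalRing A] [IsNoetherianRing A]

theorem forward (hG : LocCoh.IsGorensteinLocalRing A) :
    ∃ d : ℕ, (∀ i : ℕ, i ≠ d → Subsingleton (LocCoh.H (maximalIdeal A) i A)) ∧
      Module.Injective A (LocCoh.H (maximalIdeal A) d A) := by
  obtain ⟨n, hn⟩ := Groth.Agent.Lib.Helper5.exists_nat_ringKrullDim_eq A
  have h := Groth.Agent.Lib.Helper29.GorHull.hyp_gorenstein A n hn
  refine ⟨n, fun i hi => ?_, h.inj⟩
  rcases lt_or_gt_of_ne hi with h' | h'
  · exact ⟨fun x y => by rw [h.vanish i h' x, h.vanish i h' y]⟩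
  · exact h.cd A i h'

theorem exists_regular (d : ℕ)
    (hv : ∀ i : ℕ, i ≠ d + 1 → Subsingleton (LocCoh.H (maximalIdeal A) i A)) :
    ∃ f ∈ maximalIdeal A, IsSMulRegular A f := by
  have hIM : maximalIdeal A • (⊤ : Submodule A A) ≠ ⊤ := by
    rw [smul_eq_mul, Ideal.mul_top]
    exact (maximalIdeal.isMaximal A).ne_top
  apply (one_le_idealDepth_iff hIM).mp
  by_contra hlt
  have h0 : LocCoh.idealDepth (maximalIdeal A) A = ((0 : ℕ) : ℕ∞) := by
    rw [not_le, ENat.lt_one_iff_eq_zero] at hlt
    rw [hlt]; rfl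
  obtain ⟨y, hy⟩ := H_ne_zero_of_depth_eq (maximalIdeal A) 0 A hIM h0
  have := hv 0 (by omega)
  exact hy (Subsingleton.elim _ _)

theorem smul_top_eq_span (f : A) : (f • (⊤ : Submodule A A)) = Ideal.span {f} := by
  ext x
  rw [Submodule.mem_smul_pointwise_iff_exists, Ideal.mem_span_singleton']
  constructor
  · rintro ⟨a, -, rfl⟩
    exact ⟨a, by rw [smul_eq_mul, mul_comm]⟩
  · rintro ⟨a, rfl⟩
    exact ⟨a, trivial, by rw [smul_eq_mul, mul_comm]⟩

omit [IsLocalRing A] [IsNoetherianRing A] in
theorem map_zero_H (I : Ideal A) (i : ℕ) {M N : ModuleCat.{u} A} (x : (localCohomology I i).obj M) :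
    (localCohomology I i).map (0 : M ⟶ N) x = 0 := by
  have h : (0 : M ⟶ N) = (0 : A) • (0 : M ⟶ N) := by rw [zero_smul]
  rw [h, H_map_smul, zero_smul]

theorem step (d : ℕ)
    (hv : ∀ i : ℕ, i ≠ d + 1 → Subsingleton (LocCoh.H (maximalIdeal A) i A))
    (hinj : Module.Injective A (LocCoh.H (maximalIdeal A) (d + 1) A)) (f : A)
    (hf : f ∈ maximalIdeal A) (hreg : IsSMulRegular A f) [IsLocalRing (A ⧸ Ideal.span {f})] :
    (∀ i : ℕ, i ≠ d → Subsingleton
        (LocCoh.H (maximalIdeal (A ⧸ Ideal.span {f})) i (A ⧸ Ideal.span {f}))) ∧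
      Module.Injective (A ⧸ Ideal.span {f})
        (LocCoh.H (maximalIdeal (A ⧸ Ideal.span {f})) d (A ⧸ Ideal.span {f})) := by
  classical
  have hfi : Function.Injective (LinearMap.lsmul A A f) := hreg
  have hg : Function.Surjective (f • (⊤ : Submodule A A)).mkQ := Submodule.mkQ_surjective _
  have hex := LinearMap.exact_lsmul_mkQ_smul_top A f
  have hS := Sfg_shortExact _ _ hfi hg hex
  -- vanishing for `X₃`
  have hvan3 : ∀ i, i ≠ d → ∀ z : (localCohomology (maximalIdeal A) i).obj
      (Sfg (LinearMap.lsmul A A f) _ hex).X₃, z = 0 := by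
    intro i hi z
    by_cases hi1 : i = d + 1
    · subst hi1
      have hδ : Hδ (maximalIdeal A) (d + 1) _ hS z = 0 := (hv (d + 1 + 1) (by omega)).elim _ _
      obtain ⟨y, rfl⟩ := H_exact₃ (maximalIdeal A) (d + 1) _ hS z hδ
      obtain ⟨y', hy'⟩ := Groth.Agent.Lib.Helper29GorQuot.divisible_of_injective f hreg
        (LocCoh.H (maximalIdeal A) (d + 1) A) y
      have hy2 : y = (localCohomology (maximalIdeal A) (d + 1)).map
          (Sfg (LinearMap.lsmul A A f) _ hex).f y' := by
        rw [← hy']
        exact (H_map_lsmul (maximalIdeal A) (d + 1) A f y').symm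
      rw [hy2, ← H_map_comp, (Sfg (LinearMap.lsmul A A f) _ hex).zero, map_zero_H]
    · have hδ : Hδ (maximalIdeal A) i _ hS z = 0 := (hv (i + 1) (by omega)).elim _ _
      obtain ⟨y, rfl⟩ := H_exact₃ (maximalIdeal A) i _ hS z hδ
      have := hv i hi1
      rw [Subsingleton.elim y 0, map_zero]
  -- the identification `A/fA ≃ A/(f)`
  let e : QuotSMulTop f A ≃ₗ[A] (A ⧸ Ideal.span {f}) :=
    Submodule.quotEquivOfEq _ _ (smul_top_eq_span A f)
  have iso3 : ∀ i, (localCohomology (maximalIdeal A) i).obj
      (Sfg (LinearMap.lsmul A A f) _ hex).X₃ ≃ₗ[A]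
      (localCohomology (maximalIdeal A) i).obj (ModuleCat.of A (A ⧸ Ideal.span {f})) :=
    fun i => ((localCohomology (maximalIdeal A) i).mapIso e.toModuleIso).toLinearEquiv
  have hmap : Ideal.map (algebraMap A (A ⧸ Ideal.span {f})) (maximalIdeal A) =
      maximalIdeal (A ⧸ Ideal.span {f}) := by
    have hle : Ideal.span {f} ≤ maximalIdeal A := (Ideal.span_singleton_le_iff_mem _).mpr hf
    have hsurj : Function.Surjective (algebraMap A (A ⧸ Ideal.span {f})) :=
      Ideal.Quotient.mk_surjective
    rcases Ideal.map_eq_top_or_isMaximal_of_surjective _ hsurj (maximalIdeal.isMaximal A) with h | h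
    · exfalso
      have h1 : (1 : A ⧸ Ideal.span {f}) ∈
          Ideal.map (algebraMap A (A ⧸ Ideal.span {f})) (maximalIdeal A) := by
        rw [h]; trivial
      obtain ⟨x, hx, hx1⟩ := (Ideal.mem_map_iff_of_surjective _ hsurj).mp h1
      have h2 : x - 1 ∈ Ideal.span {f} := by
        rw [← Ideal.Quotient.eq]
        exact hx1
      have h3 : (1 : A) ∈ maximalIdeal A := by
        have := (maximalIdeal A).sub_mem hx (hle h2)
        simpa using this
      exact (maximalIdeal.isMaximal A).ne_top ((Ideal.eq_top_iff_one _).mpr h3)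
    · exact IsLocalRing.eq_maximalIdeal h
  constructor
  · intro i hi
    have h614 := Groth.Agent.S11614.result A (A ⧸ Ideal.span {f}) (maximalIdeal A)
      (A ⧸ Ideal.span {f}) i
    rw [hmap] at h614
    obtain ⟨φ, -⟩ := h614
    refine ⟨fun x y => ?_⟩
    apply φ.injective
    apply (iso3 i).symm.injective
    rw [hvan3 i hi ((iso3 i).symm (φ x)), hvan3 i hi ((iso3 i).symm (φ y))]
  · have h614 := Groth.Agent.S11614.result A (A ⧸ Ideal.span {f}) (maximalIdeal A)
      (A ⧸ Ideal.span {f}) d
    rw [hmap] at h614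
    obtain ⟨φ, hφ⟩ := h614
    -- the connecting map identifies `H^d(X₃)` with the `f`-torsion of `H^{d+1}(A)`
    have hδinj : ∀ z : (localCohomology (maximalIdeal A) d).obj
        (Sfg (LinearMap.lsmul A A f) _ hex).X₃, Hδ (maximalIdeal A) d _ hS z = 0 → z = 0 := by
      intro z hz
      obtain ⟨y, rfl⟩ := H_exact₃ (maximalIdeal A) d _ hS z hz
      have := hv d (by omega)
      rw [Subsingleton.elim y 0, map_zero]
    have hδmem : ∀ z : (localCohomology (maximalIdeal A) d).obj
        (Sfg (LinearMap.lsmul A A f) _ hex).X₃,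
        (Hδ (maximalIdeal A) d _ hS).hom z ∈
          Submodule.torsionBy A (LocCoh.H (maximalIdeal A) (d + 1) A) f := by
      intro z
      rw [Submodule.mem_torsionBy_iff]
      have h1 := H_map_f_Hδ (maximalIdeal A) d _ hS z
      have h2 := H_map_lsmul (maximalIdeal A) (d + 1) A f (Hδ (maximalIdeal A) d _ hS z)
      rw [← h2]
      exact h1
    let ψ₁ : (localCohomology (maximalIdeal A) d).obj (Sfg (LinearMap.lsmul A A f) _ hex).X₃ →ₗ[A]
        Submodule.torsionBy A (LocCoh.H (maximalIdeal A) (d + 1) A) f :=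
      (Hδ (maximalIdeal A) d _ hS).hom.codRestrict _ hδmem
    have hψ₁ : Function.Bijective ψ₁ := by
      constructor
      · rw [injective_iff_map_eq_zero]
        intro z hz
        exact hδinj z (congrArg Subtype.val hz)
      · rintro ⟨t, ht⟩
        rw [Submodule.mem_torsionBy_iff] at ht
        have h2 := H_map_lsmul (maximalIdeal A) (d + 1) A f t
        rw [ht] at h2
        obtain ⟨z, hz⟩ := H_exact₁ (maximalIdeal A) d _ hS t h2
        exact ⟨z, Subtype.ext hz⟩
    let Ψ₀ : (localCohomology (maximalIdeal A) d).obj (ModuleCat.of A (A ⧸ Ideal.span {f})) ≃ₗ[A]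
        Submodule.torsionBy A (LocCoh.H (maximalIdeal A) (d + 1) A) f :=
      (iso3 d).symm.trans (LinearEquiv.ofBijective ψ₁ hψ₁)
    let Ψ : LocCoh.H (maximalIdeal (A ⧸ Ideal.span {f})) d (A ⧸ Ideal.span {f})
        ≃ₗ[A ⧸ Ideal.span {f}] Submodule.torsionBy A (LocCoh.H (maximalIdeal A) (d + 1) A) f :=
      { toFun := fun x => Ψ₀ (φ x)
        invFun := fun t => φ.symm (Ψ₀.symm t)
        left_inv := fun x => by simp
        right_inv := fun t => by simp
        map_add' := fun x y => by rw [map_add, map_add]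
        map_smul' := fun a x => by
          obtain ⟨r, rfl⟩ := Ideal.Quotient.mk_surjective a
          change Ψ₀ (φ (algebraMap A (A ⧸ Ideal.span {f}) r • x)) = _
          rw [hφ r x, map_smul]
          rfl }
    have hT := Groth.Agent.Lib.Helper29GorQuot.torsionBy_injective f
      (LocCoh.H (maximalIdeal A) (d + 1) A)
    exact (Module.Baer.of_equiv Ψ.symm (Module.Baer.of_injective hT)).injective

theorem dim_eq (d : ℕ)
    (hv : ∀ i : ℕ, i ≠ d → Subsingleton (LocCoh.H (maximalIdeal A) i A)) :
    ringKrullDim A = d := by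
  obtain ⟨n, hn⟩ := Groth.Agent.Lib.Helper5.exists_nat_ringKrullDim_eq A
  have hnt := Groth.Agent.S0327.result A n hn
  by_cases h : n = d
  · rw [hn, h]
  · have := hv n h
    exact absurd hnt (not_nontrivial _)

theorem reverse : ∀ (d : ℕ) (A : Type u) [CommRing A] [IsLocalRing A] [IsNoetherianRing A],
    (∀ i : ℕ, i ≠ d → Subsingleton (LocCoh.H (maximalIdeal A) i A)) →
    Module.Injective A (LocCoh.H (maximalIdeal A) d A) → LocCoh.IsGorensteinLocalRing A := by
  intro d
  induction d with
  | zero =>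
    intro A _ _ _ hv hinj
    have hdim := dim_eq A 0 hv
    have hK : Ring.KrullDimLE 0 A := Ring.krullDimLE_iff.mpr (le_of_eq hdim)
    have hart : IsArtinianRing A := isArtinianRing_iff_krullDimLE_zero.mpr hK
    obtain ⟨k, hk⟩ := (isArtinianRing_iff_isNilpotent_maximalIdeal A).mp hart
    have htors : DRing.torsionSub (maximalIdeal A) (ModuleCat.of A A) = ⊤ := by
      rw [eq_top_iff]
      intro x _
      refine ⟨k, fun a ha => ?_⟩
      rw [hk] at ha
      have ha0 : a = 0 := ha
      rw [ha0, zero_smul]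
    have e : LocCoh.H (maximalIdeal A) 0 A ≃ₗ[A] A :=
      (ΦEquiv (maximalIdeal A) (ModuleCat.of A A)).trans
        ((LinearEquiv.ofEq _ _ htors).trans Submodule.topEquiv)
    have hAinj : Module.Injective A A :=
      (Module.Baer.of_equiv e (Module.Baer.of_injective hinj)).injective
    have : Injective (ModuleCat.of A A) := Module.injective_object_of_injective_module A A
    exact { exists_hasInjectiveDimensionLT := ⟨1, inferInstance⟩ }
  | succ d ih =>
    intro A _ _ _ hv hinj
    obtain ⟨f, hf, hreg⟩ := exists_regular A d hv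
    have hne : Ideal.span {f} ≠ ⊤ := by
      intro h
      rw [Ideal.span_singleton_eq_top] at h
      exact (IsLocalRing.mem_maximalIdeal f).mp hf h
    haveI : Nontrivial (A ⧸ Ideal.span {f}) := Ideal.Quotient.nontrivial_iff.mpr hne
    haveI : IsLocalRing (A ⧸ Ideal.span {f}) :=
      IsLocalRing.of_surjective' (Ideal.Quotient.mk _) Ideal.Quotient.mk_surjective
    obtain ⟨h1, h2⟩ := step A d hv hinj f hf hreg
    have hG := ih (A ⧸ Ideal.span {f}) h1 h2
    exact (Groth.Agent.S0343.result A f hf hreg).mpr hG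

end aux

/-- A Noetherian local ring A with maximal ideal m is Gorenstein (A has finite injective dimension as a
module over itself) if and only if there is a natural number d such that the local cohomology
modules H^i_m(A) (direct limits of Ext^i(A/m^n, A)) vanish for all i ≠ d and H^d_m(A) is an
injective A-module. -/
theorem result (A : Type u) [CommRing A] [IsLocalRing A] [IsNoetherianRing A] : LocCoh.IsGorensteinLocalRing A ↔ ∃ d : ℕ, (∀ i : ℕ, i ≠ d → Subsingleton (LocCoh.H (IsLocalRing.maximalIdeal A) i A)) ∧ Module.Injective A (LocCoh.H (IsLocalRing.maximalIdeal A) d A) := by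
  exact ⟨fun h => forward A h, fun ⟨d, hv, hinj⟩ => reverse d A hv hinj⟩

end Groth.Agent.S11175
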