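import Groth.Statements.S0303
import Mathlib

set_option autoImplicit false
universe u v
open InjHull

namespace Groth.Agent.S0303

section Helpers

variable {R : Type u} [CommRing R] {M E I : Type u} [AddCommGroup M] [Module R M]
  [AddCommGroup E] [Module R E] [AddCommGroup I] [Module R I]

/-- a map out of an essential extension which is injective on the base is injective -/
lemma injective_of_essential {f : M →ₗ[R] E} (hf : InjHull.IsEssentialInj f) (α : E →ₗ[R] I)
    (hα : Function.Injective (α ∘ₗ f)) : Function.Injective α := by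
  rw [← LinearMap.ker_eq_bot]
  by_contra hne
  obtain ⟨y, ⟨hy1, ⟨m, hm⟩⟩, hy0⟩ := Submodule.exists_mem_ne_zero_of_ne_bot (hf.essential _ hne)
  apply hy0
  have h1 : (α ∘ₗ f) m = 0 := by
    rw [LinearMap.comp_apply, hm]; exact hy1
  have h2 : m = 0 := hα (by rw [h1, map_zero])
  rw [← hm, h2, map_zero]

/-- the comparison map from an injective hull into any injective extension -/
lemma exists_split {f : M →ₗ[R] E} (hf : InjHull.IsInjectiveHull f) (i : M →ₗ[R] I)
    (hi : Function.Injective i) (hI : Module.Injective R I) :
    ∃ (α : E →ₗ[R] I) (ρ : I →ₗ[R] E), Function.Injective α ∧ α ∘ₗ f = i ∧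
      ρ ∘ₗ α = LinearMap.id := by
  haveI := hI
  haveI := hf.isInjective
  obtain ⟨α, hα⟩ := Module.Injective.extension_property R I M E f hf.injective i
  have hαinj : Function.Injective α :=
    injective_of_essential hf.toIsEssentialInj α (by rw [hα]; exact hi)
  obtain ⟨ρ, hρ⟩ := Module.Injective.extension_property R E E I α hαinj LinearMap.id
  exact ⟨α, ρ, hαinj, hα, hρ⟩

end Helpers

/-- If M → E is an injective hull and M → I is any embedding into an injective module, then E embeds
into I compatibly with M and its image is a direct summand of I. -/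
theorem result (R : Type u) [CommRing R] (M : Type u) [AddCommGroup M] [Module R M] (E : Type u) [AddCommGroup E] [Module R E] (I : Type u) [AddCommGroup I] [Module R I] (f : M →ₗ[R] E) (hf : InjHull.IsInjectiveHull f) (i : M →ₗ[R] I) (hi : Function.Injective i) (hI : Module.Injective R I) : ∃ α : E →ₗ[R] I, Function.Injective α ∧ α ∘ₗ f = i ∧ ∃ I' : Submodule R I, IsCompl (LinearMap.range α) I' := by
  obtain ⟨α, ρ, hαinj, hα, hρ⟩ := exists_split hf i hi hI
  refine ⟨α, hαinj, hα, LinearMap.ker (α.rangeRestrict ∘ₗ ρ), ?_⟩
  apply LinearMap.isCompl_of_proj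
  rintro ⟨x, ⟨e, rfl⟩⟩
  apply Subtype.ext
  have := LinearMap.congr_fun hρ e
  simp only [LinearMap.coe_comp, Function.comp_apply, LinearMap.id_coe, id_eq] at this
  simp [this]

end Groth.Agent.S0303
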