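import Groth.Statements.S0302
import Groth.Agent.S0303
import Mathlib

set_option autoImplicit false
universe u v
open InjHull

namespace Groth.Agent.S0302

/-- Two injective hulls of the same module are isomorphic by an isomorphism compatible with the two
embeddings. -/
theorem result (R : Type u) [CommRing R] (M : Type u) [AddCommGroup M] [Module R M] (E : Type u) [AddCommGroup E] [Module R E] (E' : Type u) [AddCommGroup E'] [Module R E'] (f : M →ₗ[R] E) (hf : InjHull.IsInjectiveHull f) (g : M →ₗ[R] E') (hg : InjHull.IsInjectiveHull g) : ∃ e : E ≃ₗ[R] E', e.toLinearMap ∘ₗ f = g := by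
  obtain ⟨α, ρ, hαinj, hα, hρ⟩ := Groth.Agent.S0303.exists_split hf g hg.injective hg.isInjective
  -- `ρ` is injective since `ker ρ` meets `range g` trivially
  have hρinj : Function.Injective ρ := by
    apply Groth.Agent.S0303.injective_of_essential hg.toIsEssentialInj ρ
    have : ρ ∘ₗ g = f := by
      rw [← hα, ← LinearMap.comp_assoc, hρ, LinearMap.id_comp]
    rw [this]
    exact hf.injective
  have hαsurj : Function.Surjective α := by
    intro y
    refine ⟨ρ y, hρinj ?_⟩
    have := LinearMap.congr_fun hρ (ρ y)
    simpa using this
  exact ⟨LinearEquiv.ofBijective α ⟨hαinj, hαsurj⟩, by ext x; simpa using LinearMap.congr_fun hα x⟩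

end Groth.Agent.S0302
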