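import Groth.Statements.S4400
import Mathlib
import Groth.Agent.Lib.Helper27GrTildeMul2

set_option autoImplicit false
universe u
open CategoryTheory CategoryTheory.Limits AlgebraicGeometry
open EGA2

namespace Groth.Agent.S4400

/-- Let S be a ring graded in nonnegative degrees whose irrelevant ideal S_+ is generated by the
degree-one elements, X = Proj S, and M a graded S-module (graded in nonnegative degrees here). Then
for every integer n the O_X-module attached to the shifted module M(n) is isomorphic to the twist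
M~(n) = M~ ⊗ O_X(n). (Existence of an isomorphism only; the published isomorphism is the canonical
one.) -/
theorem result {R A : Type u} [CommRing R] [CommRing A] [Algebra R A] (𝒜 : ℕ → Submodule R A) [GradedAlgebra 𝒜]
    (hgen : (HomogeneousIdeal.irrelevant 𝒜).toIdeal = Ideal.span (𝒜 1 : Set A))
    {M : Type u} [AddCommGroup M] [Module R M] [Module A M] [IsScalarTower R A M] (ℳ : ℕ → Submodule R M) [DirectSum.Decomposition ℳ] [SetLike.GradedSMul 𝒜 ℳ] (n : ℤ) :
    Nonempty (GrTilde.tilde 𝒜 ℳ n ≅ Twist.twistBy 𝒜 (GrTilde.tilde 𝒜 ℳ 0) n) := by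
  classical
  have h0 : (0 : ℤ) + n = n := zero_add n
  have hcov : ∀ y : Proj 𝒜, ∃ f ∈ 𝒜 1,
      f ∉ (show ProjectiveSpectrum 𝒜 from y).asHomogeneousIdeal := by
    intro y
    by_contra hcon
    push Not at hcon
    apply (show ProjectiveSpectrum 𝒜 from y).not_irrelevant_le
    have h1 : (HomogeneousIdeal.irrelevant 𝒜).toIdeal ≤
        (show ProjectiveSpectrum 𝒜 from y).asHomogeneousIdeal.toIdeal := by
      rw [hgen, Ideal.span_le]
      intro f hf
      exact hcon f hf
    exact h1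
  have hiso : IsIso (Groth.Agent.Lib.Helper27GrTildeSect.mulHom 𝒜 ℳ h0) := by
    rw [Scheme.Modules.Hom.isIso_iff_isIso_app]
    intro V
    rw [ConcreteCategory.isIso_iff_bijective]
    apply Groth.Agent.Lib.Helper23.SecTw.bijective_app_of_cover
    intro x _
    obtain ⟨f, hf1, hfx⟩ := hcov x
    have hfW : ∀ (k : ℕ) (z : (Proj.basicOpen 𝒜 f : (Proj 𝒜).Opens)),
        f ^ k ∉ z.1.asHomogeneousIdeal := by
      intro k z hz
      exact (ProjectiveSpectrum.mem_basicOpen 𝒜 f z.1).mp z.2 (z.1.isPrime.mem_of_pow_mem _ hz)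
    have h1W : ∀ z : (Proj.basicOpen 𝒜 f : (Proj 𝒜).Opens),
        (1 : A) ∉ z.1.asHomogeneousIdeal := by
      intro z hz
      exact z.1.isPrime.ne_top ((Ideal.eq_top_iff_one _).mpr hz)
    have hpow : ∀ k : ℕ, f ^ k ∈ 𝒜 k := by
      intro k
      have := SetLike.pow_mem_graded k hf1
      simpa using this
    refine ⟨Proj.basicOpen 𝒜 f, (ProjectiveSpectrum.mem_basicOpen 𝒜 f x).mpr hfx, ?_⟩
    rcases le_total 0 n with hn | hn
    · have hij : ((n.toNat : ℕ) : ℤ) = (0 : ℕ) + n := by
        rw [Int.toNat_of_nonneg hn]; simp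
      exact Groth.Agent.Lib.Helper27GrTildeSect.isoOn_mulHom 𝒜 ℳ h0 (Proj.basicOpen 𝒜 f)
        (hpow n.toNat) SetLike.GradedOne.one_mem hij h1W (hfW n.toNat)
    · have hij : ((0 : ℕ) : ℤ) = ((-n).toNat : ℕ) + n := by
        rw [Int.toNat_of_nonneg (by omega)]; simp
      exact Groth.Agent.Lib.Helper27GrTildeSect.isoOn_mulHom 𝒜 ℳ h0 (Proj.basicOpen 𝒜 f)
        SetLike.GradedOne.one_mem (hpow (-n).toNat) hij (hfW (-n).toNat) h1W
  exact ⟨(asIso (Groth.Agent.Lib.Helper27GrTildeSect.mulHom 𝒜 ℳ h0)).symm⟩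

end Groth.Agent.S4400
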