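import Groth.Statements.S0042
import Groth.Agent.Lib.Helper2FibDimA
import Groth.Agent.S4467
import Groth.Agent.S11319

set_option autoImplicit false
universe u
open Coherent

namespace Groth.Agent.S0042

open AlgebraicGeometry CategoryTheory in
/-- Let Y be a locally Noetherian scheme, f : X → Y a proper morphism, and y a point of Y whose fibre
X_y has dimension at most d. Then for every coherent 𝒪_X-module F and every p > d, the stalk of R^p
f_* F at y is zero. -/
theorem result {X Y : Scheme.{u}} (f : X ⟶ Y)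
    [IsProper f] [IsLocallyNoetherian Y] (y : Y) (d : ℕ) (hd : topologicalKrullDim ↥(f.fiber y) ≤ d)
    (M : X.Modules) (hM : Coh.IsCoh M) (p : ℕ) (hp : d < p) :
    Limits.IsZero (TopCat.Presheaf.stalk ((Coh.RpushAb f p).obj (Coh.toAb M)).obj y) := by
  open Groth.Agent.Lib.Helper2.FibDimA Groth.Agent.Lib.Helper27FibreStalk CategoryTheory.Limits in
  letI : ∀ Z : Scheme.{u}, EnoughInjectives Z.Modules :=
    fun Z => Groth.Agent.Lib.Helper17.QCPush.enoughInjectives Z
  letI := overLocal f y
  have hsq₁ : IsPullback (pullback.fst f (Y.fromSpecStalk y))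
      ((pullback f (Y.fromSpecStalk y)) ↘ Spec (CommRingCat.of (Y.presheaf.stalk y))) f
      (Y.fromSpecStalk y) := IsPullback.of_hasPullback f (Y.fromSpecStalk y)
  obtain ⟨hfin, ⟨e⟩⟩ := Groth.Agent.S4467.result f M hM y p (pullback f (Y.fromSpecStalk y))
    (pullback.fst f (Y.fromSpecStalk y)) hsq₁
  haveI h0 : Subsingleton (Formal.HHlim (IsLocalRing.maximalIdeal (Y.presheaf.stalk y))
      ((Scheme.Modules.pullback (pullback.fst f (Y.fromSpecStalk y))).obj M) p) := by
    refine ⟨fun a b => Subtype.ext (funext fun n => ?_)⟩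
    haveI := subsingleton_HH_of_killedBy f y d hd
      (Formal.modPow (IsLocalRing.maximalIdeal (Y.presheaf.stalk y)) (n + 1)
        ((Scheme.Modules.pullback (pullback.fst f (Y.fromSpecStalk y))).obj M)) (n + 1)
      (fun a ha => Groth.Agent.Lib.Helper17.FFun.smulMod_modPow _ _ (n + 1) a ha) p hp
    exact Subsingleton.elim _ _
  haveI h1 : Subsingleton (AdicCompletion (IsLocalRing.maximalIdeal (Y.presheaf.stalk y))
      (((Coh.Rpush f p).obj M).presheaf.stalk y)) := e.injective.subsingleton
  haveI : IsNoetherianRing (Y.presheaf.stalk y) := inferInstance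
  haveI := hfin
  haveI h2 : Subsingleton (((Coh.Rpush f p).obj M).presheaf.stalk y) :=
    (AdicCompletion.of_injective (I := IsLocalRing.maximalIdeal (Y.presheaf.stalk y))
      (M := ((Coh.Rpush f p).obj M).presheaf.stalk y)).subsingleton
  obtain ⟨θ⟩ := Groth.Agent.S11319.result f M p
  have hz : IsZero (TopCat.Presheaf.stalk (C := AddCommGrpCat.{u})
      (Coh.toAb ((Coh.Rpush f p).obj M)).obj y) := by
    haveI : Subsingleton ↑(TopCat.Presheaf.stalk (C := AddCommGrpCat.{u})
      (Coh.toAb ((Coh.Rpush f p).obj M)).obj y) := h2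
    exact AddCommGrpCat.isZero_of_subsingleton _
  exact hz.of_iso ((TopCat.Presheaf.stalkFunctor AddCommGrpCat.{u} y).mapIso
    ((sheafToPresheaf _ _).mapIso θ)).symm

end Groth.Agent.S0042
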