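import Groth.Statements.S7384
import Mathlib
import Groth.Agent.Lib.Helper22NA10

set_option autoImplicit false
universe u
open CategoryTheory AlgebraicGeometry
open Lim

namespace Groth.Agent.S7384

open Groth.Agent.Lib.Helper22 Opposite

/-- Let `f : X → S` be a morphism of quasi-compact quasi-separated schemes. Then `f` is a limit of
morphisms `f_i : X_i → S_i` indexed by a nonempty directed set: there are inverse systems `X_i`,
`S_i` of quasi-compact schemes locally of finite type over `ℤ` with affine transition morphisms, a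
compatible family of morphisms `f_i`, and limit cones identified with `X` and `S` compatibly with
`f`. -/
theorem result {X S : Scheme.{u}} (f : X ⟶ S) [CompactSpace X]
    [QuasiSeparatedSpace X] [CompactSpace S] [QuasiSeparatedSpace S] :
    ∃ (I : Type u) (_ : Preorder I) (_ : IsDirected I (fun a b => a ≤ b)) (_ : Nonempty I)
      (DX DS : Iᵒᵖ ⥤ Scheme.{u}) (φ : DX ⟶ DS)
      (cX : Limits.Cone DX) (cS : Limits.Cone DS) (_ : Limits.IsLimit cX) (_ : Limits.IsLimit cS)
      (eX : cX.pt ≅ X) (eS : cS.pt ≅ S),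
      (∀ (i j : Iᵒᵖ) (a : i ⟶ j), IsAffineHom (DX.map a) ∧ IsAffineHom (DS.map a)) ∧
      (∀ i, CompactSpace (DX.obj i) ∧ CompactSpace (DS.obj i) ∧
        LocallyOfFiniteType (Limits.IsTerminal.from specULiftZIsTerminal (DX.obj i)) ∧
        LocallyOfFiniteType (Limits.IsTerminal.from specULiftZIsTerminal (DS.obj i))) ∧
      (∀ i, cX.π.app i ≫ φ.app i = eX.hom ≫ f ≫ eS.inv ≫ cS.π.app i) := by
  obtain ⟨A, pA, DA, cA, hcA, eA, hA⟩ := NA10.exists_goodSys X
  obtain ⟨B, pB, DB, cB, hcB, eB, hB⟩ := NA10.exists_goodSys S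
  let F : cA.pt ⟶ cB.pt := eA.hom ≫ f ≫ eB.inv
  have hdir := NA10.isDirected_idx (F := F) hA hB hcA
  have hne := NA10.nonempty_idx (F := F) hA hB hcA
  refine ⟨NA10.Idx DA DB cA cB F, inferInstance, hdir, hne,
    (NA10.αA DA DB cA cB F).monotone.functor.op ⋙ DA,
    (NA10.αB DA DB cA cB F).monotone.functor.op ⋙ DB, NA10.φ DA DB cA cB F,
    cA.whisker (NA10.αA DA DB cA cB F).monotone.functor.op,
    cB.whisker (NA10.αB DA DB cA cB F).monotone.functor.op,
    NA1.isLimitWhiskerOfCofinal _ (NA10.αA_cofinal hA hB hcA) DA cA hcA,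
    NA1.isLimitWhiskerOfCofinal _ (NA10.αB_cofinal hA hB hcA) DB cB hcB, eA, eB, ?_, ?_, ?_⟩
  · intro i j a
    exact ⟨hA.aff _, hB.aff _⟩
  · intro i
    exact ⟨hA.cpt _, hB.cpt _, hA.lft _, hB.lft _⟩
  · intro i
    have := i.unop.comm
    simp only [F, Category.assoc] at this
    exact this

end Groth.Agent.S7384
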