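import Groth.Statements.S7448
import Groth.Agent.Lib.Helper17BCVan2
import Groth.Agent.Lib.Helper23PushBound
-- import your own Groth.Agent.* helpers here

set_option autoImplicit false
universe u
open Lim

namespace Groth.Agent.S7448

open AlgebraicGeometry CategoryTheory in
/-- Let `f : X → Y` be a morphism with `X`, `Y` quasi-compact and quasi-separated, and `d ≥ 0` such that
`R^i f_* F = 0` for all `i > d` and all quasi-coherent `F`. Then for every cartesian square with
base change `f' : X' → Y'` of `f`, `R^i f'_* F' = 0` for all `i > d` and all quasi-coherent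
`O_{X'}`-modules `F'`. -/
theorem result {X Y X' Y' : Scheme.{u}} (f : X ⟶ Y) [CompactSpace X]
    [QuasiSeparatedSpace X] [CompactSpace Y] [QuasiSeparatedSpace Y] (d : ℕ)
    (hvan : ∀ (M : X.Modules) (i : ℕ), Coh.IsQCoh M → d < i → Limits.IsZero ((Coh.RpushAb f i).obj (Coh.toAb M)))
    (g : Y' ⟶ Y) (f' : X' ⟶ Y') (g' : X' ⟶ X) (sq : IsPullback g' f' f g) (M' : X'.Modules) [Coh.IsQCoh M']
    (i : ℕ) (hi : d < i) : Limits.IsZero ((Coh.RpushAb f' i).obj (Coh.toAb M')) := by
  haveI : QuasiCompact f := inferInstance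
  haveI : QuasiSeparated f :=
    (quasiSeparated_iff_quasiSeparatedSpace f).2 inferInstance
  obtain ⟨n, rfl⟩ : ∃ k, i = k + 1 := ⟨i - 1, by omega⟩
  let B : Set Y'.Opens := {V' | IsAffineOpen V' ∧ ∃ V : Y.Opens, IsAffineOpen V ∧ V' ≤ g ⁻¹ᵁ V}
  have hB : TopologicalSpace.Opens.IsBasis B := by
    rw [TopologicalSpace.Opens.isBasis_iff_nbhd]
    intro U y hy
    obtain ⟨V, hV, hyV, -⟩ := (TopologicalSpace.Opens.isBasis_iff_nbhd.1 Y.isBasis_affineOpens)
      (TopologicalSpace.Opens.mem_top (g.base y))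
    obtain ⟨V', hV', hyV', hle⟩ := (TopologicalSpace.Opens.isBasis_iff_nbhd.1 Y'.isBasis_affineOpens)
      (show y ∈ U ⊓ g ⁻¹ᵁ V from ⟨hy, hyV⟩)
    exact ⟨V', ⟨hV', V, hV, hle.trans inf_le_right⟩, hyV', hle.trans inf_le_left⟩
  refine Groth.Agent.Lib.Helper23.PushBound.isZero_Rpush_of_basis_bound f'.base B hB
    (Groth.Agent.Lib.Helper23.AffVanish.ab' M') d ?_ n (by omega)
  rintro V' ⟨hV', V, hV, hVV'⟩ k hk
  exact Groth.Agent.Lib.Helper17.BCVan.subsingleton_HE_preimage_baseChange f (k + 1)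
    (fun M hM => hvan M (k + 1) hM (by omega)) g f' g' sq M' hV hV' hVV'

end Groth.Agent.S7448
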