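import Groth.Statements.S1355
import Mathlib
import Groth.Agent.Lib.Helper6FinLevel
import Groth.Agent.Lib.Helper20EtResExtSch

set_option autoImplicit false
universe u
open FlatMor

namespace Groth.Agent.S1355

open CategoryTheory CategoryTheory.Limits AlgebraicGeometry

open AlgebraicGeometry CategoryTheory Limits in
/-- Let f : X → S and s a point of S. The fibre of f over s is geometrically connected if and only if
for every étale morphism U → S and every point u over s, the fibre over u of the base change of f to
U is connected. -/
theorem result {X S : Scheme.{u}} (f : X ⟶ S) (s : S) :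
    GeometricallyConnected (f.fiberToSpecResidueField s) ↔
      ∀ (U : Scheme.{u}) (g : U ⟶ S) (u : U), Etale g → g u = s → ConnectedSpace ↑((pullback.snd f g).fiber u) := by
  constructor
  · intro h U g u _ hu
    subst hu
    have hpb := isPullback_fiberToSpecResidueField_of_isPullback
      (IsPullback.of_hasPullback f g) u
    exact h.geometrically_connectedSpace _ _ _ hpb
  · intro h
    letI : (f.fiber s).Over (Spec (CommRingCat.of (S.residueField s))) :=
      ⟨f.fiberToSpecResidueField s⟩
    refine Groth.Agent.Lib.Helper6.FinLevel.geometricallyConnected_of_forall_finite_separable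
      (S.residueField s) (f.fiber s) ?_
    intro k' _ _ _ _
    obtain ⟨U, g, u, hu, hg, e, he⟩ :=
      Groth.Agent.Lib.Helper20.EtResExt.exists_etale_nbhd_residueField_equiv S s k'
    haveI := h U g u hg hu
    subst hu
    have hpb := isPullback_fiberToSpecResidueField_of_isPullback
      (IsPullback.of_hasPullback f g) u
    -- the iso `Spec κ(u) ≅ Spec k'`
    let ε : CommRingCat.of k' ≅ U.residueField u := (e.symm.toCommRingCatIso)
    let e₃ : Spec (U.residueField u) ≅ Spec (CommRingCat.of k') := Scheme.Spec.mapIso ε.op
    let A : S.residueField (g u) ⟶ CommRingCat.of k' :=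
      CommRingCat.ofHom (algebraMap (S.residueField (g u)) k')
    have hcomm : g.residueFieldMap u = A ≫ ε.hom := by
      ext x
      have h1 := congrArg (fun φ => φ x) he
      simp only [RingHom.comp_apply] at h1
      show (g.residueFieldMap u).hom x = e.symm (algebraMap _ k' x)
      rw [← h1]
      simp
    have hcomm' : Spec.map (g.residueFieldMap u) = e₃.hom ≫ Spec.map A := by
      rw [hcomm, Spec.map_comp]
      rfl
    have hpb' : IsPullback
        (pullback.map _ _ _ _ (pullback.fst f g) (Spec.map (g.residueFieldMap u)) g
          (IsPullback.of_hasPullback f g).w.symm (by simp))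
        ((pullback.snd f g).fiberToSpecResidueField u ≫ e₃.hom)
        (f.fiberToSpecResidueField (g u))
        (Spec.map A) := by
      refine hpb.of_iso (Iso.refl _) (Iso.refl _) e₃ (Iso.refl _) ?_ ?_ ?_ ?_
      · exact (Category.comp_id _).trans (Category.id_comp _).symm
      · exact (Category.id_comp _).symm
      · exact (Category.comp_id _).trans (Category.id_comp _).symm
      · exact (Category.comp_id _).trans hcomm'
    have hiso := hpb'.isoPullback
    haveI hconn : ConnectedSpace ↥((pullback.snd f g).fiber u) := inferInstance
    exact (hiso.hom.homeomorph.connectedSpace_iff).mp hconn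

end Groth.Agent.S1355
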