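import Groth.Statements.S7655
import Groth.Agent.Lib.Helper4Branches
import Groth.Agent.Lib.Helper4TotalFrac
set_option linter.style.haveILetI false

set_option autoImplicit false
universe u
open CategoryTheory CategoryTheory.Limits AlgebraicGeometry
open Variety

namespace Groth.Agent.S7655

/-- Let (A, m) be a reduced Nagata local ring of dimension one. Then the δ-invariant of A is at least
the number of geometric branches of A minus one. -/
theorem result (A : Type u) [CommRing A] [IsLocalRing A]
    [IsReduced A] (hN : CAlg.IsNagata A) (hdim : ringKrullDim A = 1) :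
    Brnch.numGeomBranches A ≤ Curv2.deltaInv A + 1 := by
  haveI : IsNoetherianRing A := hN.1
  haveI hfinA : Module.Finite A (integralClosure A (FractionRing A)) :=
    Groth.Agent.Lib.Helper4.TotalFrac.finite_normalization hN
  have hmin : (minimalPrimes A).Finite := minimalPrimes.finite_of_isNoetherianRing A
  -- the isomorphism `A ≃ A / nil`
  have hbij : Function.Bijective (Ideal.Quotient.mk (nilradical A)) := by
    refine ⟨?_, Ideal.Quotient.mk_surjective⟩
    rw [injective_iff_map_eq_zero]
    intro a ha
    rw [Ideal.Quotient.eq_zero_iff_mem, nilradical_eq_zero] at ha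
    exact ha
  let ρ : A ≃+* CAlg2.red A := RingEquiv.ofBijective (Ideal.Quotient.mk (nilradical A)) hbij
  letI algAB : Algebra A (CAlg2.normRed A) :=
    ((algebraMap (CAlg2.red A) (CAlg2.normRed A)).comp (Ideal.Quotient.mk (nilradical A))).toAlgebra
  obtain ⟨hfinB, hlen⟩ := Groth.Agent.Lib.Helper4.Branches.finite_and_length_eq ρ
    (show algebraMap A (CAlg2.normRed A) = _ from rfl)
  unfold Brnch.numGeomBranches
  rw [if_pos hmin]
  have key := Groth.Agent.Lib.Helper4.Branches.card_sigma_emb_le (A := A) (B := CAlg2.normRed A)
    (Ω := AlgebraicClosure (IsLocalRing.ResidueField A))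
  rw [hlen] at key
  exact key

end Groth.Agent.S7655
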