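import Groth.Statements.S12218
import Groth.Agent.Lib.Helper3MultiB
import Groth.Agent.Lib.Helper3WedgeC
import Groth.Agent.Lib.Helper3BrEq2
import Groth.Agent.Lib.Helper4Branches
import Groth.Agent.Lib.Helper4TotalFrac
import Groth.Agent.Lib.Helper4TotalFracFin
import Groth.Agent.S7655
import Mathlib

set_option autoImplicit false
set_option linter.style.haveILetI false
universe u
open Curves

namespace Groth.Agent.S12218

theorem isSepClosed_of_ringEquiv {K K' : Type*} [Field K] [Field K'] [IsSepClosed K]
    (e : K ≃+* K') : IsSepClosed K' := by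
  refine ⟨fun p hp => ?_⟩
  have h1 : (p.map (e.symm : K' →+* K)).Separable := hp.map
  have h2 := IsSepClosed.splits_of_separable _ h1
  have h3 := h2.map (e : K →+* K')
  rw [Polynomial.map_map] at h3
  have h4 : (e : K →+* K').comp (e.symm : K' →+* K) = RingHom.id K' := by
    ext x; simp
  rwa [h4, Polynomial.map_id] at h3

/-- Let k be a separably closed field and A a one-dimensional reduced Nagata local k-algebra with
residue field k, having n branches (n a natural number). If the δ-invariant of A equals n − 1, then
the completion of A with respect to its maximal ideal is the multicross ring with n branches: there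
is an injective ring map from the completion to (k[[t]])^n, compatible with the structure maps from
k, whose range is the subring of n-tuples of power series with a common constant term. (The
inequality δ ≥ n − 1 itself is the companion statement on geometric branches.) -/
theorem result (k : Type u) [Field k] [IsSepClosed k]
    (A : Type u) [CommRing A] [IsLocalRing A] [Algebra k A] [IsReduced A]
    (hdim : ringKrullDim A = 1) (hN : CAlg.IsNagata A)
    (hres : Function.Bijective (algebraMap k (IsLocalRing.ResidueField A)))
    (n : ℕ) (hn : Brnch.numBranches A = n) (hδ : Curv2.deltaInv A + 1 = n) :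
    ∃ φ : AdicCompletion (IsLocalRing.maximalIdeal A) A →+* (Fin n → PowerSeries k),
      Function.Injective φ ∧
      (∀ c : k, φ (algebraMap A (AdicCompletion (IsLocalRing.maximalIdeal A) A) (algebraMap k A c)) =
        fun _ => algebraMap k (PowerSeries k) c) ∧
      Set.range φ = {f : Fin n → PowerSeries k | ∀ i j : Fin n, PowerSeries.constantCoeff (f i) = PowerSeries.constantCoeff (f j)} := by
  classical
  haveI : IsNoetherianRing A := hN.1
  haveI hfinA : Module.Finite A (integralClosure A (FractionRing A)) :=
    Groth.Agent.Lib.Helper4.TotalFrac.finite_normalization hN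
  have hmin : (minimalPrimes A).Finite := minimalPrimes.finite_of_isNoetherianRing A
  -- the residue field is separably closed
  haveI : IsSepClosed (IsLocalRing.ResidueField A) :=
    isSepClosed_of_ringEquiv (RingEquiv.ofBijective _ hres)
  -- numBranches ≤ numGeomBranches
  have hle : Brnch.numBranches A ≤ Brnch.numGeomBranches A := by
    unfold Brnch.numBranches Brnch.numGeomBranches
    rw [if_pos hmin, if_pos hmin]
    exact ENat.card_le_card_of_injective
      (f := fun m' => (⟨m', (Groth.Agent.Lib.Helper3.BrEq.nonempty_emb A m').some⟩ :
        Σ m' : MaximalSpectrum (CAlg2.normRed A), Brnch.Emb A m'))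
      (fun m₁ m₂ h => congrArg Sigma.fst h)
  have hge := Groth.Agent.S7655.result A hN hdim
  have heq : Curv2.deltaInv A + 1 = Brnch.numGeomBranches A := by
    apply le_antisymm
    · rw [hδ, ← hn]; exact hle
    · exact hge
  obtain ⟨hdvr, hW1, hW2⟩ := Groth.Agent.Lib.Helper3.WedgeC.wedge_dvr A hN hdim heq
  -- the number of maximal ideals of the normalization
  have hbij : Function.Bijective (Ideal.Quotient.mk (nilradical A)) := by
    refine ⟨?_, Ideal.Quotient.mk_surjective⟩
    rw [injective_iff_map_eq_zero]
    intro a ha
    rw [Ideal.Quotient.eq_zero_iff_mem, nilradical_eq_zero] at ha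
    exact ha
  let ρ : A ≃+* CAlg2.red A := RingEquiv.ofBijective (Ideal.Quotient.mk (nilradical A)) hbij
  have hcard : ENat.card (MaximalSpectrum (integralClosure A (FractionRing A))) = n := by
    unfold Brnch.numBranches at hn
    rw [if_pos hmin] at hn
    rw [← hn]
    exact ENat.card_congr (Groth.Agent.Lib.Helper4.TotalFracFin.maxSpecEquiv
      (Groth.Agent.Lib.Helper4.Branches.normalizationEquiv ρ))
  haveI hfinite : Finite (MaximalSpectrum (integralClosure A (FractionRing A))) := by
    rw [← ENat.card_lt_top, hcard]
    exact ENat.coe_lt_top n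
  have hnat : Nat.card (MaximalSpectrum (integralClosure A (FractionRing A))) = n := by
    have := ENat.card_eq_coe_natCard (MaximalSpectrum (integralClosure A (FractionRing A)))
    rw [hcard] at this
    exact_mod_cast this.symm
  obtain ⟨ν⟩ : Nonempty (Fin n ≃ MaximalSpectrum (integralClosure A (FractionRing A))) := by
    haveI := Fintype.ofFinite (MaximalSpectrum (integralClosure A (FractionRing A)))
    rw [Nat.card_eq_fintype_card] at hnat
    exact ⟨(Fintype.equivFinOfCardEq hnat).symm⟩
  -- injectivity of `A → B`
  have hinj : Function.Injective (algebraMap A (integralClosure A (FractionRing A))) := by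
    intro x y hxy
    have h1 := congrArg Subtype.val hxy
    exact IsFractionRing.injective A (FractionRing A) h1
  -- nonemptiness
  haveI : Nontrivial (integralClosure A (FractionRing A)) := hinj.nontrivial
  haveI hne : Nonempty (Fin n) := by
    obtain ⟨M, hM⟩ := Ideal.exists_maximal (integralClosure A (FractionRing A))
    exact ⟨ν.symm ⟨M, hM⟩⟩
  -- residues in `k`
  have hkres : ∀ a : A, ∃ c : k, a - algebraMap k A c ∈ IsLocalRing.maximalIdeal A := by
    intro a
    obtain ⟨c, hc⟩ := hres.2 (IsLocalRing.residue A a)
    refine ⟨c, ?_⟩
    rw [← Ideal.Quotient.eq_zero_iff_mem, map_sub, sub_eq_zero]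
    change IsLocalRing.residue A a = IsLocalRing.residue A (algebraMap k A c)
    rw [← hc, IsScalarTower.algebraMap_apply k A (IsLocalRing.ResidueField A),
      IsLocalRing.ResidueField.algebraMap_eq]
  have hcomap : ∀ i, ((ν i).asIdeal).comap (algebraMap A (integralClosure A (FractionRing A))) =
      IsLocalRing.maximalIdeal A := by
    intro i
    haveI := (ν i).isMaximal
    exact Groth.Agent.Lib.Helper4.Branches.comap_eq_maximalIdeal (ν i).asIdeal
  -- the branch expansions
  have hΦ : ∀ i : Fin n, ∃ Φ : (integralClosure A (FractionRing A)) →ₐ[k] PowerSeries k,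
      (∀ (b : integralClosure A (FractionRing A)) (j : ℕ),
        Φ b ∈ Ideal.span {(PowerSeries.X : PowerSeries k) ^ j} ↔ b ∈ (ν i).asIdeal ^ j) ∧
      (∀ (g : PowerSeries k) (j : ℕ), ∃ b : integralClosure A (FractionRing A),
        Φ b - g ∈ Ideal.span {(PowerSeries.X : PowerSeries k) ^ j}) := by
    intro i
    haveI := (ν i).isMaximal
    obtain ⟨⟨hD, hV⟩, -⟩ := hdvr (ν i)
    haveI := hD
    haveI := hV
    apply Groth.Agent.Lib.Helper3.Multi.exists_branch_expansion (ν i).asIdeal
    intro b
    obtain ⟨a, ha⟩ := hW1 (ν i) b
    obtain ⟨c, hc⟩ := hkres a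
    refine ⟨c, ?_⟩
    have h1 : b - algebraMap k (integralClosure A (FractionRing A)) c =
        (b - algebraMap A _ a) + algebraMap A _ (a - algebraMap k A c) := by
      rw [map_sub, ← IsScalarTower.algebraMap_apply k A]
      ring
    rw [h1]
    refine Ideal.add_mem _ ha ?_
    have : a - algebraMap k A c ∈
        ((ν i).asIdeal).comap (algebraMap A (integralClosure A (FractionRing A))) := by
      rw [hcomap]; exact hc
    exact this
  choose Φ hΦ1 hΦ2 using hΦ
  exact Groth.Agent.Lib.Helper3.Multi.exists_multicross hres hinj (fun i => (ν i).asIdeal)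
    (fun i => (ν i).isMaximal)
    (fun i i' h => ν.injective (MaximalSpectrum.ext h))
    hcomap
    (fun b hb => hW2 b ⟨0, fun m' => by
      rw [map_zero, sub_zero]
      have := hb (ν.symm m')
      rwa [Equiv.apply_symm_apply] at this⟩)
    Φ hΦ1 hΦ2

end Groth.Agent.S12218
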