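import Groth.Statements.S7654
import Groth.Agent.Lib.Helper3DeltaG
import Mathlib

set_option autoImplicit false
universe u
open CategoryTheory CategoryTheory.Limits AlgebraicGeometry
open Variety

namespace Groth.Agent.S7654

/-- For a reduced local Nagata ring A of Krull dimension one, the δ-invariant does not change on passing
to a henselization of A, to a strict henselization of A, or to the completion of A. -/
theorem result (A : Type u) [CommRing A] [IsLocalRing A]
    [IsReduced A] (hN : CAlg.IsNagata A) (hdim : ringKrullDim A = 1) :
    (∀ (B : Type u) [CommRing B] [IsLocalRing B] [Algebra A B] [IsLocalHom (algebraMap A B)],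
        Hensel.IsHenselization A B → Curv2.deltaInv B = Curv2.deltaInv A) ∧
      (∀ (B : Type u) [CommRing B] [IsLocalRing B] [Algebra A B] [IsLocalHom (algebraMap A B)],
        Hensel.IsStrictHenselization A B → Curv2.deltaInv B = Curv2.deltaInv A) ∧
      Curv2.deltaInv (Curv2.cpl A) = Curv2.deltaInv A := by
  refine ⟨fun B _ _ _ _ h => ?_, fun B _ _ _ _ h => ?_, ?_⟩
  · exact Groth.Agent.Lib.Helper3.Delta.length_eq_of_isHenselization A hN hdim B h
  · exact Groth.Agent.Lib.Helper3.Delta.length_eq_of_isStrictHenselization A hN hdim B h
  · exact Groth.Agent.Lib.Helper3.Delta.length_eq_of_completion A hN hdim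

end Groth.Agent.S7654
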