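import Groth.Statements.S9243
import Groth.Agent.Lib.Helper3Branch
import Groth.Agent.Lib.Helper19ComplNoeth
import Groth.Agent.S9237
import Mathlib

set_option autoImplicit false
universe u
open Brnch

namespace Groth.Agent.S9243

open IsLocalRing Groth.Agent.Lib.Helper3

/-- Let A be a Noetherian local ring with henselization S and completion A^, and ψ : S → A^ the ring map
compatible with the structure maps from A. Then A and A^ have the same number of branches if and
only if, for every minimal prime q of S, the radical of the extension of q along ψ is a prime ideal
of A^. -/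
theorem result (A S : Type u) [CommRing A] [IsLocalRing A]
    [IsNoetherianRing A] [CommRing S] [IsLocalRing S] [Algebra A S] [IsLocalHom (algebraMap A S)]
    [Hensel.IsHenselization A S] (ψ : S →+* AdicCompletion (IsLocalRing.maximalIdeal A) A)
    (hψ : ψ.comp (algebraMap A S) = algebraMap A (AdicCompletion (IsLocalRing.maximalIdeal A) A)) :
    Brnch.numBranches A = Brnch.numBranches (AdicCompletion (IsLocalRing.maximalIdeal A) A) ↔
      ∀ q ∈ minimalPrimes S, (Ideal.map ψ q).radical.IsPrime := by
  haveI hC : HenselianLocalRing (AdicCompletion (maximalIdeal A) A) :=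
    Branch.henselianLocalRing_of_isAdicComplete _
  haveI := Branch.isHenselization_self (AdicCompletion (maximalIdeal A) A)
  haveI : IsNoetherianRing (AdicCompletion (maximalIdeal A) A) :=
    Groth.Agent.Lib.Helper19.isNoetherianRing_adicCompletion (maximalIdeal A)
  rw [← Groth.Agent.S9237.result A S,
    ← Groth.Agent.S9237.result (AdicCompletion (maximalIdeal A) A)
      (AdicCompletion (maximalIdeal A) A)]
  letI := ψ.toAlgebra
  haveI := Branch.faithfullyFlat_psi A S ψ hψ
  exact Branch.card_minimalPrimes_eq_iff S (AdicCompletion (maximalIdeal A) A)
    (minimalPrimes.finite_of_isNoetherianRing _)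

end Groth.Agent.S9243
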