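import Groth.Statements.S9241
import Groth.Agent.Lib.Helper3UniMinC
import Groth.Agent.Lib.Helper3Branch
import Groth.Agent.Lib.Helper3ShTensor
import Groth.Agent.Lib.Helper19ComplDim
import Groth.Agent.Lib.Helper19ComplDim2
import Groth.Agent.S9237
import Groth.Agent.S9238
import Groth.Agent.S9243
import Mathlib

set_option autoImplicit false
set_option linter.style.haveILetI false
universe u
open Brnch

namespace Groth.Agent.S9241

open IsLocalRing Groth.Agent.Lib.Helper3

/-- For a Noetherian local ring A of dimension 1, A and its completion A^ have the same number of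
branches and the same number of geometric branches. -/
theorem result (A : Type u) [CommRing A] [IsLocalRing A]
    [IsNoetherianRing A] (hA : ringKrullDim A = 1) :
    Brnch.numBranches (AdicCompletion (IsLocalRing.maximalIdeal A) A) = Brnch.numBranches A ∧
      Brnch.numGeomBranches (AdicCompletion (IsLocalRing.maximalIdeal A) A) =
        Brnch.numGeomBranches A := by
  haveI hC : HenselianLocalRing (AdicCompletion (maximalIdeal A) A) :=
    Branch.henselianLocalRing_of_isAdicComplete _
  haveI : IsNoetherianRing (AdicCompletion (maximalIdeal A) A) :=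
    Groth.Agent.Lib.Helper19.isNoetherianRing_adicCompletion (maximalIdeal A)
  have hdimC : ringKrullDim (AdicCompletion (maximalIdeal A) A) = 1 := by
    rw [Groth.Agent.Lib.Helper19.ringKrullDim_adicCompletion_maximalIdeal, hA]
  have hmA : (maximalIdeal A).map (algebraMap A (AdicCompletion (maximalIdeal A) A)) =
      maximalIdeal (AdicCompletion (maximalIdeal A) A) :=
    AdicCompletion.maximalIdeal_eq_map.symm
  have hresA : ∀ s : AdicCompletion (maximalIdeal A) A, ∃ a : A,
      s - algebraMap A (AdicCompletion (maximalIdeal A) A) a ∈
        maximalIdeal (AdicCompletion (maximalIdeal A) A) := by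
    intro s
    obtain ⟨a, ha⟩ := Groth.Agent.Lib.Helper19.exists_sub_algebraMap_mem_map A (maximalIdeal A) s
    exact ⟨a, hmA ▸ ha⟩
  constructor
  · -- branches
    obtain ⟨ψ, hψ, -⟩ := Hensel.IsHenselization.universal (R := A) (S := Hz.Rh A)
      (AdicCompletion (maximalIdeal A) A) (algebraMap A (AdicCompletion (maximalIdeal A) A))
      inferInstance
    symm
    refine (Groth.Agent.S9243.result A (Hz.Rh A) ψ hψ).mpr ?_
    intro q hq
    letI := ψ.toAlgebra
    haveI := Branch.faithfullyFlat_psi A (Hz.Rh A) ψ hψ
    haveI : IsScalarTower A (Hz.Rh A) (AdicCompletion (maximalIdeal A) A) :=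
      IsScalarTower.of_algebraMap_eq (fun a => (RingHom.congr_fun hψ a).symm)
    haveI := hq.1.1
    haveI : HenselianLocalRing (Hz.Rh A) := Hensel.IsHenselization.henselian (R := A)
    haveI : IsNoetherianRing (Hz.Rh A) := HzP.hz_isNoetherianRing A (Hz.Rh A)
    haveI : Ring.KrullDimLE 1 (Hz.Rh A) := by
      rw [Ring.krullDimLE_iff, HzP.hz_ringKrullDim_eq A (Hz.Rh A), hA]
      exact_mod_cast le_rfl
    haveI : Ring.KrullDimLE 1 (AdicCompletion (maximalIdeal A) A) := by
      rw [Ring.krullDimLE_iff, hdimC]
      exact_mod_cast le_rfl
    have hm : (maximalIdeal (Hz.Rh A)).map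
        (algebraMap (Hz.Rh A) (AdicCompletion (maximalIdeal A) A)) =
        maximalIdeal (AdicCompletion (maximalIdeal A) A) := by
      rw [← HzP.hz_map_maximalIdeal A (Hz.Rh A), Ideal.map_map, ← IsScalarTower.algebraMap_eq,
        hmA]
    have hres : ∀ t : AdicCompletion (maximalIdeal A) A, ∃ s : Hz.Rh A,
        t - algebraMap (Hz.Rh A) (AdicCompletion (maximalIdeal A) A) s ∈
          maximalIdeal (AdicCompletion (maximalIdeal A) A) := by
      intro t
      obtain ⟨a, ha⟩ := hresA t
      refine ⟨algebraMap A (Hz.Rh A) a, ?_⟩
      rw [← IsScalarTower.algebraMap_apply]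
      exact ha
    exact UniMin.radical_map_isPrime_of_henselian (Hz.Rh A)
      (AdicCompletion (maximalIdeal A) A) hm hres q
  · -- geometric branches
    obtain ⟨Ash, _, _, _, _, _⟩ := Branch.exists_isStrictHenselization A
    obtain ⟨Csh, _, _, _, _, _⟩ :=
      Branch.exists_isStrictHenselization (AdicCompletion (maximalIdeal A) A)
    rw [← Groth.Agent.S9238.result A Ash,
      ← Groth.Agent.S9238.result (AdicCompletion (maximalIdeal A) A) Csh]
    letI : Algebra A Csh := ((algebraMap (AdicCompletion (maximalIdeal A) A) Csh).comp
      (algebraMap A (AdicCompletion (maximalIdeal A) A))).toAlgebra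
    haveI : IsScalarTower A (AdicCompletion (maximalIdeal A) A) Csh :=
      IsScalarTower.of_algebraMap_eq (fun _ => rfl)
    obtain ⟨g, hg⟩ := ShTensor.exists_map (A := A) (B := AdicCompletion (maximalIdeal A) A)
      (S := Ash) (T := Csh)
    letI : Algebra Ash Csh := g.toRingHom.toAlgebra
    haveI : IsScalarTower A Ash Csh :=
      IsScalarTower.of_algebraMap_eq (fun a => (g.commutes a).symm)
    haveI : Module.FaithfullyFlat (AdicCompletion (maximalIdeal A) A) Csh :=
      HzP.sh_faithfullyFlat _ _
    haveI : Module.Flat A Csh := Module.Flat.trans A (AdicCompletion (maximalIdeal A) A) Csh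
    haveI : Module.Flat Ash Csh :=
      (IndEt.flat_iff_of_isIndEtale (IndEt.isIndEtale_of_isStrictHenselization A Ash) Csh).mp
        inferInstance
    haveI : IsLocalHom (algebraMap Ash Csh) := hg
    haveI : Module.FaithfullyFlat Ash Csh := Module.FaithfullyFlat.of_flat_of_isLocalHom
    haveI : HenselianLocalRing Ash := Hensel.IsStrictHenselization.henselian (R := A)
    haveI : IsNoetherianRing Ash := HzP.sh_isNoetherianRing A Ash
    haveI : IsNoetherianRing Csh := HzP.sh_isNoetherianRing (AdicCompletion (maximalIdeal A) A) Csh
    haveI : Ring.KrullDimLE 1 Ash := by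
      rw [Ring.krullDimLE_iff, HzP.sh_ringKrullDim_eq A Ash, hA]
      exact_mod_cast le_rfl
    haveI : Ring.KrullDimLE 1 Csh := by
      rw [Ring.krullDimLE_iff, HzP.sh_ringKrullDim_eq (AdicCompletion (maximalIdeal A) A) Csh,
        hdimC]
      exact_mod_cast le_rfl
    have hm : (maximalIdeal Ash).map (algebraMap Ash Csh) = maximalIdeal Csh := by
      rw [← HzP.sh_map_maximalIdeal A Ash, Ideal.map_map, ← IsScalarTower.algebraMap_eq,
        ← HzP.sh_map_maximalIdeal (AdicCompletion (maximalIdeal A) A) Csh, ← hmA, Ideal.map_map,
        ← IsScalarTower.algebraMap_eq]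
    -- residue fields
    have hres : ∀ t : Csh, ∃ s : Ash, t - algebraMap Ash Csh s ∈ maximalIdeal Csh := by
      haveI : IsLocalHom (algebraMap A Csh) := by
        rw [IsScalarTower.algebraMap_eq A (AdicCompletion (maximalIdeal A) A) Csh]
        exact RingHom.isLocalHom_comp _ _
      haveI : IsScalarTower (ResidueField A) (ResidueField (AdicCompletion (maximalIdeal A) A))
          (ResidueField Csh) := IsScalarTower.of_algebraMap_eq (fun x => by
        obtain ⟨a, rfl⟩ := residue_surjective x
        rfl)
      haveI : IsScalarTower (ResidueField A) (ResidueField Ash) (ResidueField Csh) :=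
        IsScalarTower.of_algebraMap_eq (fun x => by
          obtain ⟨a, rfl⟩ := residue_surjective x
          show residue Csh (algebraMap A Csh a) =
            residue Csh (algebraMap Ash Csh (algebraMap A Ash a))
          rw [← IsScalarTower.algebraMap_apply])
      haveI h1 : Algebra.IsSeparable (ResidueField (AdicCompletion (maximalIdeal A) A))
          (ResidueField Csh) :=
        (Hensel.IsStrictHenselization.isSepClosure
          (R := AdicCompletion (maximalIdeal A) A) (S := Csh)).separable
      haveI h2 : Algebra.IsSeparable (ResidueField A)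
          (ResidueField (AdicCompletion (maximalIdeal A) A)) := by
        refine ⟨fun x => ?_⟩
        obtain ⟨c, rfl⟩ := residue_surjective x
        obtain ⟨a, ha⟩ := hresA c
        have : residue _ c = algebraMap (ResidueField A)
            (ResidueField (AdicCompletion (maximalIdeal A) A)) (residue A a) := by
          show residue _ c = residue _ (algebraMap A _ a)
          rw [← sub_eq_zero, ← map_sub, residue_eq_zero_iff]
          exact ha
        rw [this]
        exact isSeparable_algebraMap _
      haveI h3 : Algebra.IsSeparable (ResidueField A) (ResidueField Csh) :=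
        Algebra.IsSeparable.trans (ResidueField A)
          (ResidueField (AdicCompletion (maximalIdeal A) A)) (ResidueField Csh)
      haveI h4 : Algebra.IsSeparable (ResidueField Ash) (ResidueField Csh) :=
        Algebra.isSeparable_tower_top_of_isSeparable (ResidueField A) (ResidueField Ash)
          (ResidueField Csh)
      haveI h5 : IsSepClosed (ResidueField Ash) :=
        (Hensel.IsStrictHenselization.isSepClosure (R := A) (S := Ash)).sep_closed
      have hsurj := IsSepClosed.algebraMap_surjective (ResidueField Ash) (ResidueField Csh)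
      intro t
      obtain ⟨y, hy⟩ := hsurj (residue Csh t)
      obtain ⟨s, rfl⟩ := residue_surjective y
      refine ⟨s, ?_⟩
      rw [← residue_eq_zero_iff, map_sub, sub_eq_zero, ← hy]
      rfl
    symm
    refine (Branch.card_minimalPrimes_eq_iff Ash Csh
      (minimalPrimes.finite_of_isNoetherianRing _)).mpr ?_
    intro q hq
    haveI := hq.1.1
    exact UniMin.radical_map_isPrime_of_henselian Ash Csh hm hres q

end Groth.Agent.S9241
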