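import Groth.Statements.S1586
import Groth.Agent.Lib.Helper3NodeSemi
import Groth.Agent.Lib.Helper6GalAct
import Mathlib

set_option autoImplicit false
set_option linter.style.haveILetI false
universe u
open CategoryTheory CategoryTheory.Limits AlgebraicGeometry
open Curves

namespace Groth.Agent.S1586

open Groth.Agent.Lib.Helper6.GalAct

-- the Galois action is an isomorphism
theorem isIso_galAct (k : Type u) [Field k] (X : Scheme.{u}) [X.Over (Spec (CommRingCat.of k))]
    (K : Type u) [Field K] [Algebra k K] (σ : K ≃ₐ[k] K) : IsIso (Curv2.galAct k X K σ) :=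
  ⟨⟨Curv2.galAct k X K σ.symm, galAct_comp_symm k X K σ, galAct_symm_comp k X K σ⟩⟩

-- the stalk maps of the Galois action are semilinear
theorem stalkMap_galAct (k : Type u) [Field k] (X : Scheme.{u}) [X.Over (Spec (CommRingCat.of k))]
    (K : Type u) [Field K] [Algebra k K] (σ : K ≃ₐ[k] K) (w : Curv2.bc k X K) (c : K) :
    ((Curv2.galAct k X K σ).stalkMap w).hom
      (@Curv2.stalkMap K _ (Curv2.bc k X K) ⟨Curv2.bcSnd k X K⟩ (Curv2.galAct k X K σ w) c) =
      @Curv2.stalkMap K _ (Curv2.bc k X K) ⟨Curv2.bcSnd k X K⟩ w (σ c) := by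
  letI : (Curv2.bc k X K).Over (Spec (CommRingCat.of K)) := ⟨Curv2.bcSnd k X K⟩
  have hs : ((Curv2.bc k X K) ↘ Spec (CommRingCat.of K)) = Curv2.bcSnd k X K := rfl
  unfold Curv2.stalkMap Coh.toGlobal
  rw [hs]
  simp only [RingHom.coe_comp, Function.comp_apply]
  have h1 := Scheme.Hom.germ_stalkMap_apply (Curv2.galAct k X K σ) ⊤ w trivial
    ((Curv2.bcSnd k X K).appTop.hom ((Scheme.ΓSpecIso (CommRingCat.of K)).inv.hom c))
  refine h1.trans ?_
  congr 1
  have h2 : (Curv2.bcSnd k X K).appTop ≫ (Curv2.galAct k X K σ).appTop =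
      (Spec.map (CommRingCat.ofHom (σ : K →ₐ[k] K).toRingHom)).appTop ≫
        (Curv2.bcSnd k X K).appTop := by
    rw [← Scheme.Hom.comp_appTop, ← Scheme.Hom.comp_appTop, galAct_snd]
  have h3 := Scheme.ΓSpecIso_inv_naturality (CommRingCat.ofHom (σ : K →ₐ[k] K).toRingHom)
  have h4 : (Curv2.galAct k X K σ).appTop.hom ((Curv2.bcSnd k X K).appTop.hom
      ((Scheme.ΓSpecIso (CommRingCat.of K)).inv.hom c)) =
      (Curv2.bcSnd k X K).appTop.hom
        ((Spec.map (CommRingCat.ofHom (σ : K →ₐ[k] K).toRingHom)).appTop.hom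
          ((Scheme.ΓSpecIso (CommRingCat.of K)).inv.hom c)) :=
    congr($h2 ((Scheme.ΓSpecIso (CommRingCat.of K)).inv.hom c))
  have h5 : (Spec.map (CommRingCat.ofHom (σ : K →ₐ[k] K).toRingHom)).appTop.hom
      ((Scheme.ΓSpecIso (CommRingCat.of K)).inv.hom c) =
      (Scheme.ΓSpecIso (CommRingCat.of K)).inv.hom (σ c) :=
    (congr($h3 c)).symm
  exact h4.trans (congrArg _ h5)

/-- Let X be of finite type over k of dimension one and x a node of X. Then every point of the base
change of X to an algebraic closure of k lying over x is an ordinary double point (its complete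
local ring is the quotient of the power series ring in two variables by their product). -/
theorem result (k : Type u) [Field k] (X : Scheme.{u}) [X.Over (Spec (CommRingCat.of k))]
    [LocallyOfFiniteType (X ↘ (Spec (CommRingCat.of k)))] [QuasiCompact (X ↘ (Spec (CommRingCat.of k)))] (hdim : topologicalKrullDim X = 1)
    (x : X) (hx : Curv2.IsNode k X x) (xb : Curv2.bc k X (AlgebraicClosure k)) (hxb : Curv2.bcFst k X (AlgebraicClosure k) xb = x) :
    @Curv2.IsOrdDoublePt (AlgebraicClosure k) _ ((Curv2.bc k X (AlgebraicClosure k)).presheaf.stalk xb) _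
      (@Curv2.stalkAlgebra (AlgebraicClosure k) _ (Curv2.bc k X (AlgebraicClosure k)) ⟨Curv2.bcSnd k X (AlgebraicClosure k)⟩ xb) _ := by
  obtain ⟨-, xb₀, hxb₀, hodp⟩ := hx
  obtain ⟨σ, hσ⟩ := exists_galAct_eq k X (AlgebraicClosure k) xb₀ xb (hxb₀.trans hxb.symm)
  subst hσ
  letI : (Curv2.bc k X (AlgebraicClosure k)).Over (Spec (CommRingCat.of (AlgebraicClosure k))) :=
    ⟨Curv2.bcSnd k X (AlgebraicClosure k)⟩
  letI a₀ := Curv2.stalkAlgebra (AlgebraicClosure k) (Curv2.bc k X (AlgebraicClosure k)) xb₀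
  letI a₁ := Curv2.stalkAlgebra (AlgebraicClosure k) (Curv2.bc k X (AlgebraicClosure k))
    (Curv2.galAct k X (AlgebraicClosure k) σ xb₀)
  haveI := isIso_galAct k X (AlgebraicClosure k) σ
  haveI : IsIso ((Curv2.galAct k X (AlgebraicClosure k) σ).stalkMap xb₀) := inferInstance
  let ψ : (Curv2.bc k X (AlgebraicClosure k)).presheaf.stalk
        (Curv2.galAct k X (AlgebraicClosure k) σ xb₀) ≃+*
      (Curv2.bc k X (AlgebraicClosure k)).presheaf.stalk xb₀ :=
    (asIso ((Curv2.galAct k X (AlgebraicClosure k) σ).stalkMap xb₀)).commRingCatIsoToRingEquiv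
  exact Groth.Agent.Lib.Helper3.NodeSemi.isOrdDoublePt_of_semilinear ψ (σ : AlgebraicClosure k ≃+* AlgebraicClosure k)
    (fun c => stalkMap_galAct k X (AlgebraicClosure k) σ xb₀ c) hodp

end Groth.Agent.S1586
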