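import Groth.Statements.S6320
import Mathlib

set_option autoImplicit false
universe u
open CAlg

namespace Groth.Agent.S6320


section
variable {B : Type u} [CommRing B]

/-- localization length is additive -/
theorem loc_length_add (n : Ideal B) [n.IsPrime] {M : Type u} [AddCommGroup M] [Module B M]
    (S : Submodule B M) :
    Module.length (Localization.AtPrime n) (LocalizedModule n.primeCompl M) =
      Module.length (Localization.AtPrime n) (LocalizedModule n.primeCompl S) +
      Module.length (Localization.AtPrime n) (LocalizedModule n.primeCompl (M ⧸ S)) := by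
  refine Module.length_eq_add_of_exact (LocalizedModule.map n.primeCompl S.subtype)
    (LocalizedModule.map n.primeCompl S.mkQ) ?_ ?_ ?_
  · exact LocalizedModule.map_injective _ _ S.injective_subtype
  · exact LocalizedModule.map_surjective _ _ S.mkQ_surjective
  · exact LocalizedModule.map_exact _ _ _ (LinearMap.exact_subtype_mkQ S)

/-- localization does not increase length -/
theorem loc_length_le (n : Ideal B) [n.IsPrime] (M : Type u) [AddCommGroup M] [Module B M] :
    Module.length (Localization.AtPrime n) (LocalizedModule n.primeCompl M) ≤ Module.length B M := by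
  have gi := Submodule.localized'gi (Localization.AtPrime n) n.primeCompl
    (LocalizedModule.mkLinearMap n.primeCompl M)
  have hmono : StrictMono (fun P : Submodule (Localization.AtPrime n) (LocalizedModule n.primeCompl M) =>
      Submodule.comap (LocalizedModule.mkLinearMap n.primeCompl M) (P.restrictScalars B)) :=
    gi.gc.monotone_u.strictMono_of_injective gi.u_injective
  have := Order.krullDim_le_of_strictMono _ hmono
  rw [← Module.coe_length, ← Module.coe_length] at this
  exact WithBot.coe_le_coe.mp this

end

section
variable {A B : Type u} [CommRing A] [IsLocalRing A] [CommRing B] [Algebra A B]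
  [Finite (MaximalSpectrum B)]

/-- the right hand side -/
noncomputable def rhs (A B : Type u) [CommRing A] [CommRing B] [Algebra A B]
    (M : Type u) [AddCommGroup M] [Module B M] : ℕ∞ :=
  ∑ᶠ n : MaximalSpectrum B, (Module.finrank (A ⧸ n.asIdeal.comap (algebraMap A B)) (B ⧸ n.asIdeal) : ℕ∞) *
    Module.length (Localization.AtPrime n.asIdeal) (LocalizedModule n.asIdeal.primeCompl M)

theorem rhs_add {M : Type u} [AddCommGroup M] [Module B M] (S : Submodule B M) :
    rhs A B M = rhs A B S + rhs A B (M ⧸ S) := by
  classical
  haveI := Fintype.ofFinite (MaximalSpectrum B)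
  unfold rhs
  rw [finsum_eq_sum_of_fintype, finsum_eq_sum_of_fintype, finsum_eq_sum_of_fintype,
    ← Finset.sum_add_distrib]
  refine Finset.sum_congr rfl fun n _ => ?_
  rw [loc_length_add n.asIdeal S, mul_add]

theorem rhs_zero {M : Type u} [AddCommGroup M] [Module B M] [Subsingleton M] : rhs A B M = 0 := by
  unfold rhs
  have : ∀ n : MaximalSpectrum B,
      Module.length (Localization.AtPrime n.asIdeal) (LocalizedModule n.asIdeal.primeCompl M) = 0 := by
    intro n
    rw [Module.length_eq_zero_iff, LocalizedModule.subsingleton_iff]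
    intro m
    exact ⟨1, Submonoid.one_mem _, by rw [one_smul]; exact Subsingleton.elim _ _⟩
  simp [this]

theorem simple_case (hover : ∀ n : MaximalSpectrum B, n.asIdeal.comap (algebraMap A B) = IsLocalRing.maximalIdeal A)
    (hfin : ∀ n : MaximalSpectrum B, Module.Finite (A ⧸ n.asIdeal.comap (algebraMap A B)) (B ⧸ n.asIdeal))
    (S : Type u) [AddCommGroup S] [Module B S] [Module A S] [IsScalarTower A B S]
    [hS : IsSimpleModule B S] : Module.length A S = rhs A B S := by
  obtain ⟨n₀, hn₀, ⟨e⟩⟩ := isSimpleModule_iff_quot_maximal.mp hS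
  -- LHS
  have hmax : (n₀.comap (algebraMap A B)).IsMaximal := by
    rw [hover ⟨n₀, hn₀⟩]; infer_instance
  letI : Field (A ⧸ n₀.comap (algebraMap A B)) := Ideal.Quotient.field _
  haveI := hfin ⟨n₀, hn₀⟩
  have hL : Module.length A S = (Module.finrank (A ⧸ n₀.comap (algebraMap A B)) (B ⧸ n₀) : ℕ∞) := by
    rw [(e.restrictScalars A).length_eq,
      Module.length_eq_of_surjective (S := A) (R := A ⧸ n₀.comap (algebraMap A B)) (M := B ⧸ n₀)
        Ideal.Quotient.mk_surjective,
      Module.length_eq_finrank]
  -- kills
  have hkill : ∀ s ∈ n₀, ∀ x : S, s • x = 0 := by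
    intro s hs x
    apply e.injective
    rw [map_smul, map_zero]
    obtain ⟨b, hb⟩ := Ideal.Quotient.mk_surjective (e x)
    rw [← hb, ← Ideal.Quotient.mk_eq_mk, ← Submodule.Quotient.mk_smul, smul_eq_mul]
    exact (Submodule.Quotient.mk_eq_zero _).mpr (Ideal.mul_mem_right _ _ hs)
  unfold rhs
  rw [finsum_eq_single _ (⟨n₀, hn₀⟩ : MaximalSpectrum B)]
  · have h1 : Module.length (Localization.AtPrime n₀) (LocalizedModule n₀.primeCompl S) = 1 := by
      apply le_antisymm
      · calc _ ≤ Module.length B S := loc_length_le n₀ S
          _ = 1 := Module.length_eq_one B S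
      · rw [Order.one_le_iff_ne_zero, Ne, Module.length_eq_zero_iff]
        intro hnt
        rw [LocalizedModule.subsingleton_iff] at hnt
        haveI := IsSimpleModule.nontrivial B S
        obtain ⟨x, hx⟩ := exists_ne (0 : S)
        obtain ⟨r, hr, hrx⟩ := hnt x
        obtain ⟨b, hb⟩ := Ideal.Quotient.mk_surjective (e x)
        have hbn : b ∉ n₀ := by
          intro hbn
          apply hx
          apply e.injective
          rw [map_zero, ← hb]
          exact Ideal.Quotient.eq_zero_iff_mem.mpr hbn
        have : Ideal.Quotient.mk n₀ (r * b) = 0 := by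
          have h0 : r • e x = 0 := by rw [← map_smul, hrx, map_zero]
          rw [Algebra.smul_def, Ideal.Quotient.algebraMap_eq] at h0
          rw [map_mul, hb]
          exact h0
        rw [Ideal.Quotient.eq_zero_iff_mem] at this
        rcases hn₀.isPrime.mem_or_mem this with h | h
        · exact hr h
        · exact hbn h
    rw [h1, mul_one, hL]
  · intro n hn
    have hne : n.asIdeal ≠ n₀ := fun h => hn (MaximalSpectrum.ext h)
    have hnle : ¬ n₀ ≤ n.asIdeal := fun hle => hne (hn₀.eq_of_le n.isMaximal.ne_top hle).symm
    obtain ⟨s, hs, hsn⟩ := Set.not_subset.mp hnle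
    have : Subsingleton (LocalizedModule n.asIdeal.primeCompl S) := by
      rw [LocalizedModule.subsingleton_iff]
      intro x
      exact ⟨s, hsn, hkill s hs x⟩
    rw [Module.length_eq_zero, mul_zero]

theorem main (hover : ∀ n : MaximalSpectrum B, n.asIdeal.comap (algebraMap A B) = IsLocalRing.maximalIdeal A)
    (hfin : ∀ n : MaximalSpectrum B, Module.Finite (A ⧸ n.asIdeal.comap (algebraMap A B)) (B ⧸ n.asIdeal)) :
    ∀ (k : ℕ) (M : Type u) [AddCommGroup M] [Module B M] [Module A M] [IsScalarTower A B M],
      Module.length B M = k → Module.length A M = rhs A B M := by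
  intro k
  induction k with
  | zero =>
    intro M _ _ _ _ h
    have : Subsingleton M := Module.length_eq_zero_iff.mp (by simpa using h)
    rw [Module.length_eq_zero, rhs_zero]
  | succ k ih =>
    intro M _ _ _ _ h
    have hfl : IsFiniteLength B M :=
      Module.length_ne_top_iff.mp (by rw [h]; exact ENat.coe_ne_top _)
    have hnt : Nontrivial M := Module.length_pos_iff.mp (by rw [h]; simp)
    obtain ⟨hN, hA⟩ := isFiniteLength_iff_isNoetherian_isArtinian.mp hfl
    obtain ⟨S, hS⟩ := IsAtomic.exists_atom (Submodule B M)
    have hsimple : IsSimpleModule B S := isSimpleModule_iff_isAtom.mpr hS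
    have e1 := Module.length_eq_add_of_exact S.subtype S.mkQ S.injective_subtype
      S.mkQ_surjective (LinearMap.exact_subtype_mkQ S)
    rw [h, Module.length_eq_one] at e1
    have e2 : Module.length B (M ⧸ S) = k := by
      have hx : Module.length B (M ⧸ S) ≠ ⊤ := by
        intro hx
        rw [hx] at e1
        simp at e1
      obtain ⟨m, hm⟩ := ENat.ne_top_iff_exists.mp hx
      rw [← hm] at e1 ⊢
      norm_cast at e1 ⊢
      omega
    have e3 := ih (M ⧸ S) e2
    have e4 := Module.length_eq_add_of_exact (S.subtype.restrictScalars A)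
      (S.mkQ.restrictScalars A) S.injective_subtype S.mkQ_surjective
      (LinearMap.exact_subtype_mkQ S)
    rw [e4, e3, simple_case hover hfin S, ← rhs_add]

end

/-- Let A be a local ring with maximal ideal m, B a semi-local ring with maximal ideals m₁, …, mₙ and A
→ B a ring map such that each mᵢ lies over m with [κ(mᵢ) : κ(m)] finite. Then for every B-module M
of finite length, length_A(M) = Σᵢ [κ(mᵢ) : κ(m)] · length_{B_{mᵢ}}(M_{mᵢ}); in particular
length_A(M) is finite. -/
theorem result {A B : Type u} [CommRing A] [IsLocalRing A] [CommRing B] [Algebra A B] [Finite (MaximalSpectrum B)] (hover : ∀ n : MaximalSpectrum B, n.asIdeal.comap (algebraMap A B) = IsLocalRing.maximalIdeal A) (hfin : ∀ n : MaximalSpectrum B, Module.Finite (A ⧸ n.asIdeal.comap (algebraMap A B)) (B ⧸ n.asIdeal)) (M : Type u) [AddCommGroup M] [Module B M] [Module A M] [IsScalarTower A B M] (hM : IsFiniteLength B M) : Module.length A M = ∑ᶠ n : MaximalSpectrum B, (Module.finrank (A ⧸ n.asIdeal.comap (algebraMap A B)) (B ⧸ n.asIdeal) : ℕ∞) * Module.length (Localization.AtPrime n.asIdeal) (LocalizedModule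 n.asIdeal.primeCompl M) := by
  obtain ⟨k, hk⟩ := ENat.ne_top_iff_exists.mp (Module.length_ne_top_iff.mpr hM)
  exact main hover hfin k M hk.symm

end Groth.Agent.S6320
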