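import Groth.Statements.S0023
import Mathlib
import Groth.Agent.Lib.Helper27PnCohVanish
import Groth.Agent.Lib.Helper27TwistGen2

set_option autoImplicit false
universe u
open Coherent

namespace Groth.Agent.S0023

open AlgebraicGeometry in
/-- Special case of the twist d = 0 in positive degree: H^q(P^n_R, O) = 0 for all q > 0 and any ring R.
(The full statement computes all H^q(P^n_R, O(d)); only the untwisted part is stated here.) -/
theorem result (n : ℕ) (R : Type u) [CommRing R]
    (q : ℕ) (hq : 0 < q) :
    Subsingleton (Coh.HH (CohB1.ProjSpace n R) (Coh.structureModule (CohB1.ProjSpace n R)) q) := by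
  have hcov : ∀ y : Proj (CohB1.polyGrading n R), ∃ f : CohB1.polyGrading n R 1,
      y ∈ Proj.basicOpen (CohB1.polyGrading n R) (f : MvPolynomial (Fin (n + 1)) R) := by
    intro y
    obtain ⟨i, hi⟩ := Groth.Agent.Lib.Helper27PnSections.exists_X_not_mem n R y
    exact ⟨⟨MvPolynomial.X i, MvPolynomial.isHomogeneous_X R i⟩,
      (Groth.Agent.Lib.Helper27PnLau.mem_basicOpen_iff n R _ y).mpr hi⟩
  obtain ⟨e⟩ := Groth.Agent.Lib.Helper27GrTildeSect.nonempty_pow_iso (CohB1.polyGrading n R) hcov 0
  have h := Groth.Agent.Lib.Helper27PnCohVanish.subsingleton_HH n R (((0 : ℕ) : ℤ)) q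
    (fun h => by omega) (fun h => by have := h.2; push_cast at this; omega)
  have e' : Twist.twistProjSpace n R (((0 : ℕ) : ℤ)) ≅
      Coh.structureModule (CohB1.ProjSpace n R) := e
  exact Groth.Agent.Lib.Helper27PnCohVanish.subsingleton_HH_of_iso e' q h

end Groth.Agent.S0023
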