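import Groth.Statements.S19145
import Groth.Agent.Lib.Helper3TwcC
import Mathlib

set_option autoImplicit false
set_option linter.style.haveILetI false
open CategoryTheory MonoidalCategory CartesianMonoidalCategory MonObj GrpObj AlgebraicGeometry
universe u
open TwC

namespace Groth.Agent.S19145

open Groth.Agent.Lib.Helper3.TwcA Groth.Agent.Lib.Helper3.TwcB Groth.Agent.Lib.Helper3.TwcC
  Groth.Agent.Lib.Helper3.IrrTop

section aux

variable {X S : Scheme.{u}} (p : X ⟶ S) [IrreducibleSpace S]
  (hS : ∀ s : S, CAlg2.IsGeomUnibranch (S.presheaf.stalk s))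

include hS

-- the component of a point of the generic fibre, as an open subscheme
theorem exists_component [Etale p] (l : X) (hl : p l = genericPoint S) :
    ∃ U : X.Opens, (U : Set X) = closure ({l} : Set X) ∧ IsClosed (U : Set X) := by
  have hyp := hyp_of_etale p hS
  refine ⟨⟨closure {l}, hyp.isOpen_component (hyp.closure_mem hl)⟩, rfl, isClosed_closure⟩

-- a component with trivial residue field extension gives a section
theorem exists_section_of_bijective [Etale p] (hp : TC p) (l : X) (hl : p l = genericPoint S)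
    (hbij : Function.Bijective (p.residueFieldMap l).hom) :
    ∃ (U : X.Opens) (_ : IsIso (U.ι ≫ p)), (U : Set X) = closure ({l} : Set X) := by
  obtain ⟨U, hU, -⟩ := exists_component p hS l hl
  exact ⟨U, isIso_component p hS hp l hl U hU hbij, hU⟩

-- sections are determined by their value at the generic point
theorem section_ext [Etale p] (hp : TC p) (σ₁ σ₂ : S ⟶ X) (h₁ : σ₁ ≫ p = 𝟙 S)
    (h₂ : σ₂ ≫ p = 𝟙 S) (h : σ₁ (genericPoint S) = σ₂ (genericPoint S)) : σ₁ = σ₂ := by
  have hl : p (σ₁ (genericPoint S)) = genericPoint S := by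
    rw [← Scheme.Hom.comp_apply, h₁]; rfl
  obtain ⟨U, hiso, hU⟩ := exists_section_of_bijective p hS hp _ hl
    (residueFieldMap_bijective_of_section p σ₁ h₁ _)
  have hr : ∀ σ : S ⟶ X, σ (genericPoint S) = σ₁ (genericPoint S) →
      Set.range σ ⊆ Set.range U.ι := by
    intro σ hσ
    rw [Scheme.Opens.range_ι, hU]
    rintro _ ⟨s, rfl⟩
    have h1 : genericPoint S ⤳ s := (genericPoint_spec S).specializes (Set.mem_univ _)
    have h2 := h1.map σ.continuous
    rw [hσ] at h2
    exact specializes_iff_mem_closure.mp h2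
  have hr₁ := hr σ₁ rfl
  have hr₂ := hr σ₂ h.symm
  have e₁ : IsOpenImmersion.lift U.ι σ₁ hr₁ ≫ (U.ι ≫ p) = 𝟙 S := by
    rw [← Category.assoc, IsOpenImmersion.lift_fac, h₁]
  have e₂ : IsOpenImmersion.lift U.ι σ₂ hr₂ ≫ (U.ι ≫ p) = 𝟙 S := by
    rw [← Category.assoc, IsOpenImmersion.lift_fac, h₂]
  have e : IsOpenImmersion.lift U.ι σ₁ hr₁ = IsOpenImmersion.lift U.ι σ₂ hr₂ := by
    rw [← cancel_mono (U.ι ≫ p), e₁, e₂]
  rw [← IsOpenImmersion.lift_fac U.ι σ₁ hr₁, ← IsOpenImmersion.lift_fac U.ι σ₂ hr₂, e]

end aux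

/-- Let S be an irreducible scheme whose local rings are all geometrically unibranch, η its generic
point, and X a quasi-isotrivial twisted constant S-scheme (etale-locally on S isomorphic to a
constant scheme). Then X is the disjoint union, over the points λ of the generic fibre X_η, of the
closures X(λ) of λ: every point of X lies in the closure of exactly one such λ, each X(λ) is open
and closed in X and, as an open subscheme, is a finite etale cover of S (finite, etale and
surjective); and restricting a section of X ⟶ S to the generic point is a bijection from the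
sections of X over S onto the sections of X_η over η. -/
theorem result {S : Scheme.{u}} [IrreducibleSpace S]
    (hS : ∀ s : S, CAlg2.IsGeomUnibranch (S.presheaf.stalk s))
    (X : Over S) (hX : TwC.IsTwConst TwC.Topology.etale X) :
    (∀ x : X.left, ∃! l : X.left, X.hom.base l = genericPoint S ∧ x ∈ closure ({l} : Set X.left)) ∧
    (∀ l : X.left, X.hom.base l = genericPoint S →
      ∃ U : X.left.Opens, (U : Set X.left) = closure ({l} : Set X.left) ∧ IsClosed (U : Set X.left) ∧
        IsFinite (U.ι ≫ X.hom) ∧ Etale (U.ι ≫ X.hom) ∧ Surjective (U.ι ≫ X.hom)) ∧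
    (∀ σ₁ σ₂ : S ⟶ X.left, σ₁ ≫ X.hom = 𝟙 S → σ₂ ≫ X.hom = 𝟙 S →
      S.fromSpecResidueField (genericPoint S) ≫ σ₁ = S.fromSpecResidueField (genericPoint S) ≫ σ₂ → σ₁ = σ₂) ∧
    (∀ τ : Spec (S.residueField (genericPoint S)) ⟶ X.left, τ ≫ X.hom = S.fromSpecResidueField (genericPoint S) →
      ∃ σ : S ⟶ X.left, σ ≫ X.hom = 𝟙 S ∧ S.fromSpecResidueField (genericPoint S) ≫ σ = τ) := by
  have hp : TC X.hom := tc_of_isTwConst X hX
  haveI : Etale X.hom := hp.etale
  have hyp := hyp_of_etale X.hom hS
  refine ⟨?_, ?_, ?_, ?_⟩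
  · intro x
    obtain ⟨ξ, hξ, hs⟩ := hyp.ex x
    refine ⟨ξ, ⟨hξ, specializes_iff_mem_closure.mp hs⟩, ?_⟩
    rintro ξ' ⟨hξ', hx⟩
    exact hyp.uniq x ξ' hξ' ξ hξ (specializes_iff_mem_closure.mpr hx) hs
  · intro l hl
    obtain ⟨U, hU, hUcl⟩ := exists_component X.hom hS l hl
    have hfin := isFinite_component X.hom hS hp l hl U hU
    refine ⟨U, hU, hUcl, hfin, inferInstance, ⟨?_⟩⟩
    have hcl : IsClosed (Set.range (U.ι ≫ X.hom)) := (U.ι ≫ X.hom).isClosedMap.isClosed_range
    have hlU : l ∈ U := by
      change l ∈ (U : Set X.left)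
      rw [hU]; exact subset_closure rfl
    have hη : genericPoint S ∈ Set.range (U.ι ≫ X.hom) := by
      refine ⟨⟨l, hlU⟩, ?_⟩
      rw [Scheme.Hom.comp_apply]
      exact hl
    intro s
    have h1 : closure {genericPoint S} ⊆ Set.range (U.ι ≫ X.hom) :=
      hcl.closure_subset_iff.mpr (Set.singleton_subset_iff.mpr hη)
    rw [(genericPoint_spec S).def] at h1
    exact h1 (Set.mem_univ s)
  · intro σ₁ σ₂ h₁ h₂ h
    apply section_ext X.hom hS hp σ₁ σ₂ h₁ h₂
    have h1 := congrArg (fun φ : Spec (S.residueField (genericPoint S)) ⟶ X.left =>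
      φ (default : Spec (S.residueField (genericPoint S)))) h
    simp only [Scheme.Hom.comp_apply, Scheme.fromSpecResidueField_apply] at h1
    exact h1
  · intro τ hτ
    obtain ⟨l, hldef⟩ : ∃ l : X.left,
        l = τ (IsLocalRing.closedPoint (S.residueField (genericPoint S))) := ⟨_, rfl⟩
    have hl : X.hom l = genericPoint S := by
      rw [hldef, ← Scheme.Hom.comp_apply, hτ, Scheme.fromSpecResidueField_apply]
    have hbij : Function.Bijective (X.hom.residueFieldMap l).hom := by
      rw [hldef]
      refine residueFieldMap_bijective_of_point (K := S.residueField (genericPoint S)) τ X.hom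
        (genericPoint S) (𝟙 _) Function.bijective_id ?_
      rw [hτ, Spec.map_id]
      exact (Category.id_comp _).symm
    obtain ⟨U, hiso, hU⟩ := exists_section_of_bijective X.hom hS hp l hl hbij
    have hrτ : Set.range τ ⊆ Set.range U.ι := by
      rw [Scheme.Opens.range_ι, hU]
      rintro _ ⟨pt, rfl⟩
      have : pt = IsLocalRing.closedPoint (S.residueField (genericPoint S)) :=
        Subsingleton.elim _ _
      rw [this, ← hldef]
      exact subset_closure rfl
    refine ⟨inv (U.ι ≫ X.hom) ≫ U.ι, ?_, ?_⟩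
    · rw [Category.assoc, IsIso.inv_hom_id]
    · have e1 : IsOpenImmersion.lift U.ι τ hrτ ≫ (U.ι ≫ X.hom) =
          S.fromSpecResidueField (genericPoint S) := by
        rw [← Category.assoc, IsOpenImmersion.lift_fac, hτ]
      have e2 : IsOpenImmersion.lift U.ι τ hrτ =
          S.fromSpecResidueField (genericPoint S) ≫ inv (U.ι ≫ X.hom) := by
        rw [← e1, Category.assoc, IsIso.hom_inv_id, Category.comp_id]
      rw [← Category.assoc, ← e2, IsOpenImmersion.lift_fac]

end Groth.Agent.S19145
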