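import Groth.Statements.S9812
import Mathlib
-- import your own Groth.Agent.* helpers here

set_option autoImplicit false
universe u
open CAlg2

namespace Groth.Agent.S9812

/-- At the level of the local ring: an integrally closed local domain is geometrically unibranch.
Consequently a normal scheme is geometrically unibranch. -/
theorem result (A : Type u) [CommRing A] [IsLocalRing A]
    [IsDomain A] [IsIntegrallyClosed A] : CAlg2.IsGeomUnibranch A := by
  classical
  have hnil : nilradical A = ⊥ := nilradical_eq_zero A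
  let e : A ≃+* CAlg2.red A := (RingEquiv.quotientBot A).symm.trans (Ideal.quotEquivOfEq hnil.symm)
  haveI hdom : IsDomain (CAlg2.red A) := e.symm.toMulEquiv.isDomain A
  haveI : IsIntegrallyClosed (CAlg2.red A) := IsIntegrallyClosed.of_equiv e
  have hbot : integralClosure (CAlg2.red A) (FractionRing (CAlg2.red A)) = ⊥ :=
    IsIntegrallyClosed.integralClosure_eq_bot (R := CAlg2.red A) (K := FractionRing (CAlg2.red A))
  have hsurj : Function.Surjective (algebraMap (CAlg2.red A) (CAlg2.normRed A)) := by
    rintro ⟨x, hx⟩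
    have hx' : x ∈ (⊥ : Subalgebra (CAlg2.red A) (FractionRing (CAlg2.red A))) := hbot ▸ hx
    obtain ⟨y, hy⟩ := (Algebra.mem_bot (R := CAlg2.red A) (A := FractionRing (CAlg2.red A))).mp hx'
    exact ⟨y, Subtype.ext hy⟩
  have hinj : Function.Injective (algebraMap (CAlg2.red A) (CAlg2.normRed A)) := by
    intro a b hab
    have := congrArg (fun z : CAlg2.normRed A => (z : FractionRing (CAlg2.red A))) hab
    exact IsFractionRing.injective (CAlg2.red A) (FractionRing (CAlg2.red A)) this
  let e' : A ≃+* CAlg2.normRed A := e.trans (RingEquiv.ofBijective _ ⟨hinj, hsurj⟩)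
  have hloc : IsLocalRing (CAlg2.normRed A) := e'.isLocalRing
  refine ⟨⟨hdom, hloc⟩, ?_⟩
  intro m' _ x
  refine ⟨0, ?_⟩
  rw [pow_zero, pow_one]
  obtain ⟨y, rfl⟩ := Ideal.Quotient.mk_surjective x
  obtain ⟨z, rfl⟩ := hsurj y
  obtain ⟨a, rfl⟩ := Ideal.Quotient.mk_surjective z
  exact ⟨a, rfl⟩

end Groth.Agent.S9812
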