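import Groth.Statements.S7616
import Groth.Agent.Lib.Helper4NormFinite
import Groth.Agent.Lib.Helper4FieldJapanese

set_option autoImplicit false
set_option linter.style.haveILetI false
universe u
open CategoryTheory CategoryTheory.Limits AlgebraicGeometry
open Variety

namespace Groth.Agent.S7616

/-- Coordinate rings of affine opens of a scheme locally of finite type over a field are Nagata. -/
theorem isNagata_sections_of_locallyOfFiniteType_field (k : Type u) [Field k] (X : Scheme.{u})
    [X.Over (Spec (CommRingCat.of k))] [LocallyOfFiniteType (X ↘ (Spec (CommRingCat.of k)))]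
    (U : X.Opens) (hU : IsAffineOpen U) : CAlg.IsNagata Γ(X, U) := by
  have h1 : ((X ↘ (Spec (CommRingCat.of k))).appLE ⊤ U le_top).hom.FiniteType :=
    HasRingHomProperty.appLE (P := @LocallyOfFiniteType) _ ‹_›
      ⟨⊤, isAffineOpen_top (Spec (CommRingCat.of k))⟩ ⟨U, hU⟩ le_top
  have h2 : ((Scheme.ΓSpecIso (CommRingCat.of k)).inv ≫
      (X ↘ (Spec (CommRingCat.of k))).appLE ⊤ U le_top).hom.FiniteType := by
    rw [CommRingCat.hom_comp]
    refine RingHom.FiniteType.comp h1 (RingHom.FiniteType.of_surjective _ ?_)
    exact (ConcreteCategory.bijective_of_isIso (Scheme.ΓSpecIso (CommRingCat.of k)).inv).surjective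
  letI : Algebra k Γ(X, U) := ((Scheme.ΓSpecIso (CommRingCat.of k)).inv ≫
      (X ↘ (Spec (CommRingCat.of k))).appLE ⊤ U le_top).hom.toAlgebra
  haveI : Algebra.FiniteType k Γ(X, U) := h2
  exact Groth.Agent.Lib.Helper4.FieldJapanese.isNagata_of_finiteType_field k Γ(X, U)

/-- Let f : Y → X be a quasi-compact morphism of schemes locally of finite type over a field k, with Y
reduced; f is automatically quasi-separated. Then the normalization of X in Y is finite over X. -/
theorem result (k : Type u) [Field k] (X : Scheme.{u}) [X.Over (Spec (CommRingCat.of k))] [LocallyOfFiniteType (X ↘ (Spec (CommRingCat.of k)))]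
    (Y : Scheme.{u}) [Y.Over (Spec (CommRingCat.of k))] [LocallyOfFiniteType (Y ↘ (Spec (CommRingCat.of k)))] [IsReduced Y]
    (f : Y ⟶ X) [f.IsOver (Spec (CommRingCat.of k))] [QuasiCompact f] [QuasiSeparated f] :
    IsFinite f.fromNormalization := by
  haveI : LocallyOfFiniteType (f ≫ (X ↘ (Spec (CommRingCat.of k)))) := by
    rw [CategoryTheory.comp_over f (Spec (CommRingCat.of k))]
    infer_instance
  haveI : LocallyOfFiniteType f := locallyOfFiniteType_of_comp f (X ↘ (Spec (CommRingCat.of k)))
  exact Groth.Agent.Lib.Helper4.NormFinite.isFinite_fromNormalization_of_finite f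
    (fun U hU => Groth.Agent.Lib.Helper4.NormFinite.finite_integralClosure_sections f U hU
      (isNagata_sections_of_locallyOfFiniteType_field k X U hU))

end Groth.Agent.S7616
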