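import Groth.Statements.S9753
import Groth.Agent.Lib.Helper3EtNbhdA
import Groth.Agent.Lib.Helper3EtNbhdB
import Groth.Agent.Lib.Helper3EtNbhdC
import Groth.Agent.Lib.Helper3EtNbhdD
import Groth.Agent.Lib.Helper3IndEtHz
import Mathlib

set_option autoImplicit false
universe u
open Brnch

namespace Groth.Agent.S9753

open AlgebraicGeometry in
-- irreducible components through a point correspond to minimal primes of the local ring
theorem encard_components_eq (U : Scheme.{u}) (u : U) :
    {Z : Set U | Z ∈ irreducibleComponents U ∧ u ∈ Z}.encard =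
      (minimalPrimes (U.presheaf.stalk u)).encard := by
  have hb := Groth.Agent.Lib.Helper14.bijOn_irreducibleComponents_specStalk U u
  rw [← hb.image_eq, hb.injOn.encard_image]
  have hz : ∀ z : Spec (U.presheaf.stalk u),
      closure ({z} : Set (Spec (U.presheaf.stalk u))) ∈
        irreducibleComponents (Spec (U.presheaf.stalk u) : Type u) ↔
      z.asIdeal ∈ minimalPrimes (U.presheaf.stalk u) := by
    intro z
    rw [← PrimeSpectrum.vanishingIdeal_singleton z]
    exact (PrimeSpectrum.vanishingIdeal_mem_minimalPrimes (s := {z})).symm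
  have himg : (fun z : Spec (U.presheaf.stalk u) => z.asIdeal) ''
      {z | closure ({z} : Set (Spec (U.presheaf.stalk u))) ∈
        irreducibleComponents (Spec (U.presheaf.stalk u) : Type u)} =
      minimalPrimes (U.presheaf.stalk u) := by
    ext P
    constructor
    · rintro ⟨z, hzm, rfl⟩
      exact (hz z).mp hzm
    · intro hP
      exact ⟨⟨P, hP.1.1⟩, (hz _).mpr hP, rfl⟩
  rw [← himg]
  refine (Set.InjOn.encard_image ?_).symm
  intro z1 _ z2 _ h12
  exact PrimeSpectrum.ext h12

open AlgebraicGeometry CategoryTheory Limits IsLocalRing Groth.Agent.Lib.Helper3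
  Groth.Agent.Lib.Helper3.IndEt Groth.Agent.Lib.Helper3.PuncConn Groth.Agent.Lib.Helper3.EtNbhd in
theorem le_iSup_etale (X : Scheme.{u}) (x : X) :
    Brnch.numGeomBranchesAt X x ≤ ⨆ (U : Scheme.{u}) (g : U ⟶ X) (u : U) (_ : Etale g ∧ g u = x),
      {Z : Set ↑U | Z ∈ irreducibleComponents ↑U ∧ u ∈ Z}.encard := by
  obtain ⟨V, hV, hxV, -⟩ := TopologicalSpace.Opens.isBasis_iff_nbhd.mp X.isBasis_affineOpens
    (TopologicalSpace.Opens.mem_top x)
  have hV' : IsAffineOpen V := hV
  letI : Algebra Γ(X, V) (X.presheaf.stalk x) :=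
    TopCat.Presheaf.algebra_section_stalk X.presheaf ⟨x, hxV⟩
  haveI hloc : IsLocalization.AtPrime (X.presheaf.stalk x) (hV'.primeIdealOf ⟨x, hxV⟩).asIdeal :=
    hV'.isLocalization_stalk ⟨x, hxV⟩
  obtain ⟨S, _, _, _, _, _⟩ := Branch.exists_isStrictHenselization (X.presheaf.stalk x)
  show Brnch.numGeomBranches (X.presheaf.stalk x) ≤ _
  rw [← Groth.Agent.S9238.result (X.presheaf.stalk x) S]
  letI : Algebra Γ(X, V) S :=
    ((algebraMap (X.presheaf.stalk x) S).comp (algebraMap Γ(X, V) (X.presheaf.stalk x))).toAlgebra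
  haveI : IsScalarTower Γ(X, V) (X.presheaf.stalk x) S :=
    IsScalarTower.of_algebraMap_eq (fun _ => rfl)
  have hA : EtPBC.IsIndEtale Γ(X, V) (X.presheaf.stalk x) :=
    isIndEtale_of_factor (factor_of_isLocalization Γ(X, V)
      (hV'.primeIdealOf ⟨x, hxV⟩).asIdeal.primeCompl (X.presheaf.stalk x))
  have hS : EtPBC.IsIndEtale Γ(X, V) S :=
    isIndEtale_comp Γ(X, V) (X.presheaf.stalk x) S hA
      (isIndEtale_of_isStrictHenselization (X.presheaf.stalk x) S)
  have HF : Obj.Factor Γ(X, V) S := factor_of_isIndEtale hS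
  have hcomap : (maximalIdeal S).comap (algebraMap Γ(X, V) S) =
      (hV'.primeIdealOf ⟨x, hxV⟩).asIdeal := by
    rw [IsScalarTower.algebraMap_eq Γ(X, V) (X.presheaf.stalk x) S, ← Ideal.comap_comap,
      ((local_hom_TFAE (algebraMap (X.presheaf.stalk x) S)).out 0 4 rfl rfl).mp inferInstance]
    exact IsLocalization.AtPrime.under_maximalIdeal (X.presheaf.stalk x) _
  rw [← ENat.forall_natCast_le_iff_le]
  intro n hn
  obtain ⟨t, hts, htn⟩ := Set.exists_subset_encard_eq (s := minimalPrimes S) (k := (n : ℕ∞)) hn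
  have htfin : t.Finite := Set.finite_of_encard_eq_coe htn
  have hcard : (htfin.toFinset.card : ℕ∞) = n := by
    rw [← htfin.encard_eq_coe_toFinset_card, htn]
  obtain ⟨E, _, _, _, g, hle⟩ := exists_etale_card_le Γ(X, V) S HF htfin.toFinset
    (fun P hP => hts (htfin.mem_toFinset.mp hP)) (maximalIdeal S)
    (fun P hP => le_maximalIdeal (hts (htfin.mem_toFinset.mp hP)).1.1.ne_top)
  rw [hcard] at hle
  haveI : ((maximalIdeal S).comap g.toRingHom).IsPrime := Ideal.comap_isPrime _ _
  let gU : Spec (CommRingCat.of E) ⟶ X :=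
    Spec.map (CommRingCat.ofHom (algebraMap Γ(X, V) E)) ≫ hV'.fromSpec
  have hgU : Etale gU := by
    haveI : Etale (Spec.map (CommRingCat.ofHom (algebraMap Γ(X, V) E))) := by
      rw [HasRingHomProperty.Spec_iff (P := @Etale)]
      exact RingHom.etale_algebraMap.mpr inferInstance
    infer_instance
  let u : Spec (CommRingCat.of E) := ⟨(maximalIdeal S).comap g.toRingHom, inferInstance⟩
  have hu : gU u = x := by
    have h1 : (Spec.map (CommRingCat.ofHom (algebraMap Γ(X, V) E))) u =
        hV'.primeIdealOf ⟨x, hxV⟩ := by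
      apply PrimeSpectrum.ext
      rw [← hcomap]
      show ((maximalIdeal S).comap g.toRingHom).comap (algebraMap Γ(X, V) E) = _
      rw [Ideal.comap_comap]
      congr 1
      ext r
      exact g.commutes r
    show hV'.fromSpec ((Spec.map (CommRingCat.ofHom (algebraMap Γ(X, V) E))) u) = x
    rw [h1]
    exact hV'.fromSpec_primeIdealOf ⟨x, hxV⟩
  refine hle.trans ((encard_minimalPrimes_le_encard_components E u).trans ?_)
  exact le_iSup_of_le (Spec (CommRingCat.of E)) (le_iSup_of_le gU (le_iSup_of_le u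
    (le_iSup_of_le ⟨hgU, hu⟩ le_rfl)))

open AlgebraicGeometry CategoryTheory Limits in
/-- Let X be a scheme and x ∈ X. Over all étale neighbourhoods (U, u) of (X, x) (g : U ⟶ X étale with g
u = x), take the count (in ℕ∞) of irreducible components of U containing u; the supremum of these
counts is the geometric branch number of X at x. -/
theorem result (X : Scheme.{u}) (x : X) :
    Brnch.numGeomBranchesAt X x = ⨆ (U : Scheme.{u}) (g : U ⟶ X) (u : U) (_ : Etale g ∧ g u = x),
      {Z : Set ↑U | Z ∈ irreducibleComponents ↑U ∧ u ∈ Z}.encard := by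
  apply le_antisymm (le_iSup_etale X x)
  refine iSup_le fun U => iSup_le fun g => iSup_le fun u => iSup_le fun h => ?_
  obtain ⟨hg, hgu⟩ := h
  subst hgu
  rw [encard_components_eq]
  letI := (g.stalkMap u).hom.toAlgebra
  exact Groth.Agent.Lib.Helper3.EtNbhd.card_minimalPrimes_le_numGeomBranches
    (X.presheaf.stalk (g u)) (U.presheaf.stalk u)
    (Groth.Agent.Lib.Helper3.EtNbhd.isEssentiallyEtale_stalkMap g u)

end Groth.Agent.S9753
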