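import Groth.Statements.S7446
import Groth.Agent.Lib.Helper2BddFib

set_option autoImplicit false
set_option linter.style.haveILetI false
universe u
open CategoryTheory AlgebraicGeometry
open BddFib

namespace Groth.Agent.S7446


open Groth.Agent.Lib.Helper2.BddFib

/-- algebra: `Σ_p [B/p : K] ≤ [B : K]` for a finite algebra over a field. -/
theorem sum_finrank_quot_le (K : Type*) [Field K] (B : Type*) [CommRing B] [Algebra K B]
    [Module.Finite K B] [Fintype (PrimeSpectrum B)] :
    ∑ p : PrimeSpectrum B, Module.finrank K (B ⧸ p.asIdeal) ≤ Module.finrank K B := by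
  have hart : IsArtinianRing B := IsArtinianRing.of_finite K B
  let I : PrimeSpectrum B → Ideal B := fun p => p.asIdeal
  have hcop : Pairwise (fun p q : PrimeSpectrum B => IsCoprime (I p) (I q)) := by
    intro p q hpq
    have hp : (I p).IsMaximal := IsArtinianRing.isMaximal_of_isPrime (I p)
    have hq : (I q).IsMaximal := IsArtinianRing.isMaximal_of_isPrime (I q)
    rw [Ideal.isCoprime_iff_sup_eq]
    exact Ideal.IsMaximal.coprime_of_ne hp hq (fun h => hpq (PrimeSpectrum.ext h))
  let φ : B →ₗ[K] (∀ p : PrimeSpectrum B, B ⧸ I p) :=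
    LinearMap.pi fun p => (Ideal.Quotient.mkₐ K (I p)).toLinearMap
  have hφ : Function.Surjective φ := by
    intro y
    obtain ⟨x, hx⟩ := Ideal.quotientInfToPiQuotient_surj hcop y
    obtain ⟨b, rfl⟩ := Ideal.Quotient.mk_surjective x
    refine ⟨b, ?_⟩
    rw [← hx]
    rfl
  have h1 := LinearMap.finrank_le_finrank_of_surjective hφ
  rw [Module.finrank_pi_fintype] at h1
  exact h1

section aff
variable {T : Scheme.{u}}

theorem Γevaluation_eq_zero_iff (x : T) (a : Γ(T, ⊤)) :
    T.Γevaluation x a = 0 ↔ x ∉ T.basicOpen a := by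
  rw [Scheme.mem_basicOpen _ _ _ (show x ∈ (⊤ : T.Opens) from trivial), ← not_iff_not, not_not]
  exact IsLocalRing.residue_ne_zero_iff_isUnit _

/-- the prime of `Γ(T)` attached to a point. -/
noncomputable def kerPt (x : T) : PrimeSpectrum Γ(T, ⊤) :=
  ⟨RingHom.ker (T.Γevaluation x).hom, RingHom.ker_isPrime _⟩

theorem kerPt_injective [IsAffine T] : Function.Injective (kerPt (T := T)) := by
  intro x y h
  have h' : ∀ a : Γ(T, ⊤), x ∈ T.basicOpen a ↔ y ∈ T.basicOpen a := by
    intro a
    rw [← not_iff_not, ← Γevaluation_eq_zero_iff, ← Γevaluation_eq_zero_iff]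
    have h2 : a ∈ (kerPt x).asIdeal ↔ a ∈ (kerPt y).asIdeal := by rw [h]
    exact h2
  have hins : Inseparable x y := by
    rw [(isBasis_basicOpen T).inseparable_iff]
    rintro _ ⟨_, ⟨a, rfl⟩, rfl⟩
    exact h' a
  exact hins.eq


theorem Γevaluation_surjective [IsAffine T] [IsArtinianRing Γ(T, ⊤)] (x : T) :
    Function.Surjective (T.Γevaluation x) := by
  intro z
  obtain ⟨s, rfl⟩ := T.residue_surjective x z
  letI := T.presheaf.algebra_section_stalk (U := ⊤) ⟨x, trivial⟩
  haveI := (isAffineOpen_top T).isLocalization_stalk ⟨x, trivial⟩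
  obtain ⟨⟨a, t⟩, hat⟩ := IsLocalization.surj
    ((isAffineOpen_top T).primeIdealOf ⟨x, trivial⟩).asIdeal.primeCompl s
  have hat' : s * T.presheaf.germ ⊤ x trivial t.1 = T.presheaf.germ ⊤ x trivial a := hat
  have hunit : IsUnit (T.presheaf.germ ⊤ x trivial t.1) :=
    IsLocalization.map_units (M := ((isAffineOpen_top T).primeIdealOf ⟨x, trivial⟩).asIdeal.primeCompl)
      (T.presheaf.stalk x) t
  have hne : T.Γevaluation x t.1 ≠ 0 := by
    intro h0
    rw [Γevaluation_eq_zero_iff, Scheme.mem_basicOpen _ _ _ (show x ∈ (⊤ : T.Opens) from trivial)] at h0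
    exact h0 hunit
  have hmax : (kerPt x).asIdeal.IsMaximal := IsArtinianRing.isMaximal_of_isPrime _
  have hnotin : t.1 ∉ (kerPt x).asIdeal := fun h => hne h
  obtain ⟨t', i, hi, ht'⟩ := hmax.exists_inv hnotin
  have h1 : T.Γevaluation x (t.1 * t') = 1 := by
    have h2 := congrArg (T.Γevaluation x) ht'
    have hi0 : T.Γevaluation x i = 0 := hi
    rw [map_add, hi0, add_zero, map_one, mul_comm] at h2
    exact h2
  refine ⟨a * t', ?_⟩
  have h3 : T.Γevaluation x a = T.residue x s * T.Γevaluation x t.1 := by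
    have := congrArg (T.residue x) hat'
    rw [map_mul] at this
    exact this.symm
  rw [map_mul, h3, mul_assoc, ← map_mul, h1, mul_one]

end aff


theorem main (K : Type u) [Field K] {T : Scheme.{u}} (p : T ⟶ Spec (CommRingCat.of K)) (n : ℕ)
    (h : FiniteOfDegLE (CommRingCat.of K) p n) :
    Finite T ∧ ∑ᶠ x : T, p.residueDegree x ≤ n := by
  classical
  have hfin := (finite_discrete_of_fdl K p n h).1
  refine ⟨hfin, ?_⟩
  rw [fdl_iff] at h
  letI : Algebra K Γ(T, ⊤) := (sm K p).toAlgebra
  obtain ⟨haff, hfinm, hrk⟩ := h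
  haveI : IsArtinianRing Γ(T, ⊤) := IsArtinianRing.of_finite K _
  haveI := Fintype.ofFinite T
  haveI : Fintype (PrimeSpectrum Γ(T, ⊤)) := Fintype.ofFinite _
  rw [finsum_eq_sum_of_fintype]
  have key : ∀ x : T, p.residueDegree x =
      Module.finrank K (Γ(T, ⊤) ⧸ (kerPt x).asIdeal) := by
    intro x
    letI := (p.residueFieldMap x).hom.toAlgebra
    change Module.finrank ((Spec (CommRingCat.of K)).residueField (p x)) (T.residueField x) = _
    symm
    haveI : IsArtinianRing Γ(Spec (CommRingCat.of K), ⊤) :=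
      (Scheme.ΓSpecIso (CommRingCat.of K)).commRingCatIsoToRingEquiv.symm.isArtinianRing
    let i0 : K →+* (Spec (CommRingCat.of K)).residueField (p x) :=
      ((Scheme.ΓSpecIso (CommRingCat.of K)).inv ≫
        (Spec (CommRingCat.of K)).Γevaluation (p x)).hom
    have hi0 : Function.Bijective i0 := by
      refine ⟨i0.injective, ?_⟩
      intro z
      obtain ⟨b, rfl⟩ := Γevaluation_surjective (T := Spec (CommRingCat.of K)) (p x) z
      refine ⟨(Scheme.ΓSpecIso (CommRingCat.of K)).hom b, ?_⟩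
      change (Spec (CommRingCat.of K)).Γevaluation (p x)
        ((Scheme.ΓSpecIso (CommRingCat.of K)).inv ((Scheme.ΓSpecIso (CommRingCat.of K)).hom b)) = _
      rw [Iso.hom_inv_id_apply]
    let i := RingEquiv.ofBijective i0 hi0
    have hsx : Function.Surjective (T.Γevaluation x).hom := Γevaluation_surjective x
    let j : (Γ(T, ⊤) ⧸ RingHom.ker (T.Γevaluation x).hom) ≃+* T.residueField x :=
      RingHom.quotientKerEquivOfSurjective hsx
    refine Algebra.finrank_eq_of_equiv_equiv i j ?_
    ext c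
    change p.residueFieldMap x ((Spec (CommRingCat.of K)).Γevaluation (p x)
      ((Scheme.ΓSpecIso (CommRingCat.of K)).inv c)) = T.Γevaluation x (sm K p c)
    exact Scheme.Γevaluation_naturality_apply p x _
  have h1 : ∑ x, p.residueDegree x
      = ∑ x, Module.finrank K (Γ(T, ⊤) ⧸ (kerPt x).asIdeal) :=
        Finset.sum_congr rfl (fun x _ => key x)
  have h4 : ∑ q : PrimeSpectrum Γ(T, ⊤), Module.finrank K (Γ(T, ⊤) ⧸ q.asIdeal) ≤ Module.finrank K Γ(T, ⊤) := sum_finrank_quot_le K Γ(T, ⊤)
  let F : PrimeSpectrum Γ(T, ⊤) → ℕ := fun q => Module.finrank K (Γ(T, ⊤) ⧸ q.asIdeal)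
  have h2 : ∑ x : T, F (kerPt x) = ∑ q ∈ Finset.univ.image (kerPt (T := T)), F q :=
    (Finset.sum_image (f := F) (s := Finset.univ) (g := kerPt (T := T))
      (fun _ _ _ _ hxy => kerPt_injective hxy)).symm
  have h3 : ∑ q ∈ Finset.univ.image (kerPt (T := T)), F q ≤ ∑ q, F q :=
    Finset.sum_le_sum_of_subset (Finset.subset_univ _)
  calc ∑ x, p.residueDegree x = ∑ x : T, F (kerPt x) := h1
    _ ≤ ∑ q, F q := h2.le.trans h3
    _ ≤ Module.finrank K Γ(T, ⊤) := h4
    _ ≤ n := hrk


/-- When every fibre of `f : X → Y` has degree at most `n`, then for every field `k` and every `Spec k →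
Y`, writing `X_k = {x_1, …, x_t}`, one has `Σ_i [κ(x_i) : k] ≤ n`. (Residue degrees are taken along
`X_k → Spec k`; `X_k` is finite, so the sum is a finite sum.) -/
theorem result {X Y : Scheme.{u}} (f : X ⟶ Y) (n : ℕ) (hf : BddFib.FibreDegLE f n)
    (k : Type u) [Field k] (g : Spec (CommRingCat.of k) ⟶ Y) :
    Finite ↥(Limits.pullback f g) ∧
      ∑ᶠ x : ↥(Limits.pullback f g), (Limits.pullback.snd f g).residueDegree x ≤ n :=
  main k (Limits.pullback.snd f g) n (DegLE_of_fibreDegLE f n hf k g)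

end Groth.Agent.S7446
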