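import Groth.Statements.S3444
import Groth.Agent.Lib.Helper3FibreConstr
import Groth.Agent.Lib.Helper3DiagBC
import Groth.Agent.Lib.Helper6LfpComp
import Mathlib

set_option autoImplicit false
open CategoryTheory AlgebraicGeometry
universe u
open EGA43

namespace Groth.Agent.S3444

open CategoryTheory.Limits in

open CategoryTheory.Limits in
/-- Let g : Y ⟶ S and f : X ⟶ Y be such that X and Y are of finite presentation over S (locally of
finite presentation, quasi-compact and quasi-separated). For each point s of S let f_s be the
induced morphism from the fibre of f ≫ g over s to the fibre of g over s. Then the set of s for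
which f_s is radicial (universally injective) is locally constructible in S. -/
theorem result {X Y S : Scheme.{u}} (f : X ⟶ Y) (g : Y ⟶ S)
    [LocallyOfFinitePresentation g] [QuasiCompact g] [QuasiSeparated g]
    [LocallyOfFinitePresentation (f ≫ g)] [QuasiCompact (f ≫ g)] [QuasiSeparated (f ≫ g)] :
    Topology.IsLocallyConstructible {s : S |
      UniversallyInjective (pullback.lift (pullback.fst (f ≫ g) (S.fromSpecResidueField s) ≫ f) (pullback.snd (f ≫ g) (S.fromSpecResidueField s))
          ((Category.assoc _ _ _).trans pullback.condition) :
        pullback (f ≫ g) (S.fromSpecResidueField s) ⟶ pullback g (S.fromSpecResidueField s))} := by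
  haveI : LocallyOfFiniteType g := inferInstance
  haveI : LocallyOfFinitePresentation f :=
    Groth.Agent.Lib.Helper6.locallyOfFinitePresentation_of_comp (g := g) inferInstance inferInstance
  haveI : QuasiCompact f := QuasiCompact.of_comp f g
  haveI : QuasiSeparated f := QuasiSeparated.of_comp f g
  haveI : LocallyOfFinitePresentation (pullback.diagonal f) :=
    Groth.Agent.Lib.Helper6.locallyOfFinitePresentation_diagonal f
  haveI : QuasiCompact (pullback.diagonal f) := inferInstance
  convert Groth.Agent.Lib.Helper3.FibreConstr.isLocallyConstructible_compl_image_compl_range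
    (pullback.diagonal f) (pullback.fst f f ≫ f ≫ g) using 1
  ext s
  have hXs := Groth.Agent.Lib.Helper3.FibreConstr.isPullback_fibreMap f g s
  have hYs := IsPullback.of_hasPullback g (S.fromSpecResidueField s)
  have key := Groth.Agent.Lib.Helper3.FibreConstr.surjective_iff_of_fibre
    (Groth.Agent.Lib.Helper3.DiagBC.isPullback_dmap_base hYs hXs)
    (Groth.Agent.Lib.Helper3.DiagBC.isPullback_diagonal hXs)
  change UniversallyInjective _ ↔ _ ∉ _
  rw [UniversallyInjective.iff_diagonal, ← key]
  exact ⟨fun h => h.1, fun h => ⟨h⟩⟩

end Groth.Agent.S3444
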