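import Groth.Statements.S5865
import Groth.Agent.Lib.Helper3RadUniD
import Groth.Agent.Lib.Helper6StalkIso
import Groth.Agent.S5863
import Groth.Agent.S5864
import Mathlib

set_option autoImplicit false
set_option linter.style.haveILetI false
universe u
open RadPt

namespace Groth.Agent.S5865

open CategoryTheory CategoryTheory.Limits AlgebraicGeometry Groth.Agent.Lib.Helper4.Unibranch

-- the affine model of the base change to the local ring
theorem exists_affine_model {X Y : Scheme.{u}} (f : X ⟶ Y) [IsIntegralHom f] (y : Y) :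
    ∃ (C : CommRingCat.{u}) (φ : Y.presheaf.stalk y ⟶ C) (G : Spec C ⟶ X),
      IsPullback G (Spec.map φ) f (Y.fromSpecStalk y) := by
  haveI : IsAffine (pullback f (Y.fromSpecStalk y)) :=
    isAffine_of_isAffineHom (pullback.snd f (Y.fromSpecStalk y))
  let e := (pullback f (Y.fromSpecStalk y)).isoSpec
  let φ : Y.presheaf.stalk y ⟶ Γ(pullback f (Y.fromSpecStalk y), ⊤) :=
    (Scheme.ΓSpecIso (Y.presheaf.stalk y)).inv ≫ (pullback.snd f (Y.fromSpecStalk y)).appTop
  have hfac : e.inv ≫ pullback.snd f (Y.fromSpecStalk y) = Spec.map φ := by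
    rw [Iso.inv_comp_eq]
    have h1 : pullback.snd f (Y.fromSpecStalk y) =
        (pullback f (Y.fromSpecStalk y)).toSpecΓ ≫
          Spec.map (pullback.snd f (Y.fromSpecStalk y)).appTop ≫
          Spec.map (Scheme.ΓSpecIso (Y.presheaf.stalk y)).inv := by
      rw [← Scheme.toSpecΓ_naturality_assoc, ← SpecMap_ΓSpecIso_hom, ← Spec.map_comp,
        Iso.inv_hom_id, Spec.map_id, Category.comp_id]
    conv_lhs => rw [h1]
    rw [Spec.map_comp]
    rfl
  refine ⟨_, φ, e.inv ≫ pullback.fst f (Y.fromSpecStalk y), ?_⟩
  rw [← hfac]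
  exact IsPullback.of_iso (IsPullback.of_hasPullback f (Y.fromSpecStalk y)) e (Iso.refl _)
    (Iso.refl _) (Iso.refl _) (by simp) (by simp) (by simp) (by simp)

open CategoryTheory AlgebraicGeometry in
/-- Let f : X → Y be a morphism of schemes which is integral and whose induced morphism of reduced
schemes is birational (hence f is surjective), and let y be a point of Y. Then Y is geometrically
unibranch at y (the local ring O_{Y,y} is geometrically unibranch) if and only if f is radicial at y
and X is geometrically unibranch at the point of X over y. -/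
theorem result {X Y : Scheme.{u}} (f : X ⟶ Y) [IsIntegralHom f] (hf : RadPt.IsBirational f) (y : Y) :
    CAlg2.IsGeomUnibranch (Y.presheaf.stalk y) ↔
      (RadPt.IsRadicialAt f y ∧ ∀ x : X, f x = y → CAlg2.IsGeomUnibranch (X.presheaf.stalk x)) := by
  obtain ⟨C, φ, G, sq⟩ := exists_affine_model f y
  haveI : Flat (Y.fromSpecStalk y) := Groth.Agent.Lib.Helper6.flat_fromSpecStalk Y y
  have hbir : RadPt.IsBirational (Spec.map φ) := Groth.Agent.S5864.result sq hf
  have hintS : IsIntegralHom (Spec.map φ) :=
    MorphismProperty.of_isPullback (P := @IsIntegralHom) sq inferInstance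
  have hint : φ.hom.IsIntegral := IsIntegralHom.SpecMap_iff.mp hintS
  have hmain := Groth.Agent.Lib.Helper3.RadUniD.main_spec φ hint hbir
  have hcp : (Y.fromSpecStalk y) (IsLocalRing.closedPoint (Y.presheaf.stalk y)) = y :=
    Scheme.fromSpecStalk_closedPoint
  have hrad := Groth.Agent.S5863.result sq (IsLocalRing.closedPoint (Y.presheaf.stalk y))
  rw [hcp] at hrad
  haveI hGflat : Flat G := MorphismProperty.of_isPullback (P := @Flat) sq.flip inferInstance
  haveI hGpre : IsPreimmersion G :=
    MorphismProperty.of_isPullback (P := @IsPreimmersion) sq.flip inferInstance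
  have hstalk : ∀ t : Spec C, CAlg2.IsGeomUnibranch (X.presheaf.stalk (G t)) ↔
      CAlg2.IsGeomUnibranch ((Spec C).presheaf.stalk t) := by
    intro t
    haveI := Groth.Agent.Lib.Helper6.isIso_stalkMap_of_flat_of_isPreimmersion G t
    let ψ : X.presheaf.stalk (G t) ≃+* (Spec C).presheaf.stalk t :=
      (asIso (G.stalkMap t)).commRingCatIsoToRingEquiv
    exact ⟨fun h => isGeomUnibranch_of_ringEquiv ψ h, fun h => isGeomUnibranch_of_ringEquiv ψ.symm h⟩
  have hpts : (∀ x : X, f x = y → CAlg2.IsGeomUnibranch (X.presheaf.stalk x)) ↔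
      ∀ t : Spec C, (Spec.map φ) t = IsLocalRing.closedPoint (Y.presheaf.stalk y) →
        CAlg2.IsGeomUnibranch ((Spec C).presheaf.stalk t) := by
    constructor
    · intro h t ht
      rw [← hstalk]
      apply h
      rw [← Scheme.Hom.comp_apply, sq.w, Scheme.Hom.comp_apply, ht, hcp]
    · intro h x hx
      obtain ⟨z, hz1, hz2⟩ := Scheme.Pullback.exists_preimage_pullback (f := f)
        (g := Y.fromSpecStalk y) x (IsLocalRing.closedPoint (Y.presheaf.stalk y)) (hx.trans hcp.symm)
      have e1 : G (sq.isoPullback.inv z) = x := by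
        rw [← Scheme.Hom.comp_apply, sq.isoPullback_inv_fst]
        exact hz1
      have e2 : (Spec.map φ) (sq.isoPullback.inv z) =
          IsLocalRing.closedPoint (Y.presheaf.stalk y) := by
        rw [← Scheme.Hom.comp_apply, sq.isoPullback_inv_snd]
        exact hz2
      have := h _ e2
      rw [← hstalk, e1] at this
      exact this
  rw [hmain, hrad, hpts]

end Groth.Agent.S5865
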