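import Groth.Statements.S0540
import Groth.Agent.Lib.Helper3ShN
import Mathlib

set_option autoImplicit false
universe u
open Hensel

namespace Groth.Agent.S0540

/-- A local ring is Noetherian exactly when its strict henselization is Noetherian. -/
theorem result (R : Type u) [CommRing R] [IsLocalRing R] (S : Type u) [CommRing S] [IsLocalRing S]
    [Algebra R S] [IsLocalHom (algebraMap R S)] [Hensel.IsStrictHenselization R S] :
    IsNoetherianRing R ↔ IsNoetherianRing S := by
  let Ω := SeparableClosure (IsLocalRing.ResidueField R)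
  letI : Algebra R Ω :=
    ((algebraMap (IsLocalRing.ResidueField R) Ω).comp (IsLocalRing.residue R)).toAlgebra
  haveI : IsScalarTower R (IsLocalRing.ResidueField R) Ω :=
    IsScalarTower.of_algebraMap_eq (fun _ => rfl)
  obtain ⟨e⟩ := Groth.Agent.Lib.Helper3.Sh.nonempty_algEquiv (R := R) (Ω := Ω) S
  constructor
  · intro h
    exact isNoetherianRing_of_ringEquiv (Groth.Agent.Lib.Helper3.Sh.Rsh R Ω) e.symm.toRingEquiv
  · intro h
    haveI : Module.FaithfullyFlat R S :=
      Module.FaithfullyFlat.of_linearEquiv R (Groth.Agent.Lib.Helper3.Sh.Rsh R Ω) e.toLinearEquiv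
    exact Groth.Agent.Lib.Helper3.NoethColim.isNoetherianRing_of_faithfullyFlat R S

end Groth.Agent.S0540
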