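import Groth.Statements.S9759
import Groth.Agent.Lib.Helper3FlatModel
import Mathlib

set_option autoImplicit false
universe u
open FlatMor

namespace Groth.Agent.S9759

open AlgebraicGeometry CategoryTheory Limits TensorProduct

open AlgebraicGeometry CategoryTheory Limits in
/-- Let f : X ⟶ S be a flat morphism of finite presentation between affine schemes. Then f is the base
change of a morphism of finite type f₀ : X₀ ⟶ S₀ between affine schemes with S₀ of finite type over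
ℤ and f₀ flat. -/
theorem result {X S : Scheme.{u}} (f : X ⟶ S) [IsAffine X] [IsAffine S] [LocallyOfFinitePresentation f] [Flat f] :
    ∃ (X₀ S₀ : Scheme.{u}) (f₀ : X₀ ⟶ S₀) (g : S ⟶ S₀) (g' : X ⟶ X₀), IsAffine X₀ ∧ IsAffine S₀ ∧ IsPullback g' f f₀ g ∧
      Algebra.FiniteType ℤ Γ(S₀, ⊤) ∧ LocallyOfFiniteType f₀ ∧ Flat f₀ := by
  letI := f.appTop.hom.toAlgebra
  haveI : Algebra.FinitePresentation Γ(S, ⊤) Γ(X, ⊤) :=
    (HasRingHomProperty.iff_of_isAffine (P := @LocallyOfFinitePresentation)).mp inferInstance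
  haveI : Module.Flat Γ(S, ⊤) Γ(X, ⊤) :=
    (HasRingHomProperty.iff_of_isAffine (P := @Flat)).mp inferInstance
  obtain ⟨R₀, B₀, _, _, _, _, hft, hfp, hflat, ⟨e⟩⟩ :=
    Groth.Agent.Lib.Helper3.FlatOpen.exists_flat_model Γ(S, ⊤) Γ(X, ⊤)
  let ψ : B₀ →+* Γ(X, ⊤) := e.toAlgHom.toRingHom.comp
    (Algebra.TensorProduct.includeRight (R := R₀) (A := Γ(S, ⊤)) (B := B₀)).toRingHom
  have hpo : IsPushout (CommRingCat.ofHom (algebraMap R₀ Γ(S, ⊤)))
      (CommRingCat.ofHom (algebraMap R₀ B₀)) f.appTop (CommRingCat.ofHom ψ) := by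
    refine (CommRingCat.isPushout_tensorProduct R₀ Γ(S, ⊤) B₀).of_iso (Iso.refl _) (Iso.refl _)
      (Iso.refl _) e.toRingEquiv.toCommRingCatIso (by simp) (by simp) ?_ ?_
    · ext r
      change e (r ⊗ₜ 1) = f.appTop.hom r
      have : (r ⊗ₜ[R₀] (1 : B₀) : Γ(S, ⊤) ⊗[R₀] B₀) = algebraMap Γ(S, ⊤) _ r := by
        rw [Algebra.TensorProduct.algebraMap_apply]; rfl
      rw [this, e.commutes]
      rfl
    · ext b
      rfl
  have hpb := (isPullback_SpecMap_of_isPushout _ _ _ _ hpo).flip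
  refine ⟨Spec (CommRingCat.of B₀), Spec (CommRingCat.of R₀),
    Spec.map (CommRingCat.ofHom (algebraMap R₀ B₀)),
    S.isoSpec.hom ≫ Spec.map (CommRingCat.ofHom (algebraMap R₀ Γ(S, ⊤))),
    X.isoSpec.hom ≫ Spec.map (CommRingCat.ofHom ψ), inferInstance, inferInstance, ?_, ?_, ?_, ?_⟩
  · refine hpb.of_iso X.isoSpec.symm (Iso.refl _) S.isoSpec.symm (Iso.refl _) ?_ ?_ ?_ ?_
    · simp
    · rw [Iso.symm_hom, Iso.symm_hom, Iso.comp_inv_eq, Category.assoc, Iso.eq_inv_comp]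
      exact Scheme.isoSpec_hom_naturality f
    · simp
    · simp
  · exact Algebra.FiniteType.equiv hft
      (Scheme.ΓSpecIso (CommRingCat.of R₀)).commRingCatIsoToRingEquiv.symm.toIntAlgEquiv
  · rw [HasRingHomProperty.Spec_iff (P := @LocallyOfFiniteType)]
    exact RingHom.finiteType_algebraMap.mpr inferInstance
  · rw [Flat.SpecMap_iff]
    exact RingHom.flat_algebraMap_iff.mpr hflat

end Groth.Agent.S9759
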