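import Groth.Statements.S1454
import Groth.Agent.S2593
import Groth.Agent.Lib.Helper4DimFormulaAN
import Groth.Agent.Lib.Helper7TopDim
import Mathlib

set_option autoImplicit false
set_option linter.style.haveILetI false
universe u
open FlatMor

namespace Groth.Agent.S1454

open AlgebraicGeometry CategoryTheory Limits in
/-- Consider a locally quasi-finite f : X → Y whose target is locally Noetherian with geometrically
unibranch local rings, and assume every irreducible component of X dominates an irreducible
component of Y (its generic point maps to a generic point of an irreducible component of Y). Then f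
is universally open. -/
theorem result {X Y : Scheme.{u}} (f : X ⟶ Y) [LocallyQuasiFinite f] [LocallyOfFiniteType f] [IsLocallyNoetherian Y]
    (hY : ∀ y : Y, CAlg2.IsGeomUnibranch (Y.presheaf.stalk y))
    (hdom : ∀ Z ∈ irreducibleComponents ↑X, ∀ x : X, IsGenericPoint x Z → ∃ W ∈ irreducibleComponents ↑Y, IsGenericPoint (f x) W) :
    UniversallyOpen f := by
  apply Groth.Agent.S2593.result hY f
  intro x
  haveI : IsLocallyNoetherian X := LocallyOfFiniteType.isLocallyNoetherian f
  rw [Groth.Agent.Lib.Helper4.DimFormula.isEquidimAt_iff_irreducibleComponents_criterion f x]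
  refine ⟨0, ?_⟩
  intro Xj hXj hx
  obtain ⟨ξ, hξ⟩ := QuasiSober.sober hXj.1 (isClosed_of_mem_irreducibleComponents _ hXj)
  obtain ⟨W, hW, hWgen⟩ := hdom Xj hXj ξ hξ
  have hcl : closure (f.base '' Xj) = W := by
    rw [← hξ.def, closure_image_closure f.continuous, Set.image_singleton]
    exact hWgen.def
  have hdisc : ∀ η : Y, DiscreteTopology ↥(Xj ∩ f.base ⁻¹' {η}) := fun η =>
    ((f.isDiscrete_preimage_singleton η).mono Set.inter_subset_right).to_subtype
  refine ⟨hcl ▸ hW, ?_, ?_⟩
  · intro η hη
    have hηgen : IsGenericPoint η W := by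
      rw [isGenericPoint_def, hη, hcl]
    have hηeq : η = f.base ξ := hηgen.eq hWgen
    haveI := hdisc η
    haveI : Nonempty ↥(Xj ∩ f.base ⁻¹' {η}) :=
      ⟨⟨ξ, by rw [← hξ.def]; exact subset_closure rfl, hηeq.symm⟩⟩
    exact le_antisymm (topologicalKrullDim_zero_of_discreteTopology _)
      Groth.Agent.Lib.Helper7.TopDim.topologicalKrullDim_nonneg
  · haveI := hdisc (f.base x)
    exact le_antisymm ((Groth.Agent.Lib.Helper7.TopDim.localDim_le_dim _).trans
      (topologicalKrullDim_zero_of_discreteTopology _))
      (Groth.Agent.Lib.Helper7.TopDim.localDim_nonneg _)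

end Groth.Agent.S1454
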