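import Groth.Statements.S8357
import Mathlib
import Groth.Agent.Lib.Helper11LieAdd

set_option autoImplicit false
universe u
open CategoryTheory MonObj AlgebraicGeometry
open LieS

namespace Groth.Agent.S8357


/-- For a group scheme G over a scheme S and an affine S-scheme T = Spec B, the map induced on
Lie(G/S)(T) by the n-th power map of G is multiplication by n; that is, for v in Lie(G/S)(T) and an
integer n, the n-th power of v in the group law inherited from G is the rescaling of v by the image
of n in B. -/
theorem result (S : Scheme.{u}) (G : Over S) [GrpObj G] (B : Type u) [CommRing B]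
    (f : Spec (CommRingCat.of B) ⟶ S) (v : LieS.Lie G B f) (n : ℤ) :
    v ^ n = ((n : B) • v : LieS.Lie G B f) := by
  have hw : zeroSec B f ≫ v.1 = 1 := v.2
  have h0 : scale B f 0 ≫ v.1 = 1 := by
    rw [Groth.Agent.Lib.Helper11.LieAdd.scale_zero, Category.assoc, hw, MonObj.comp_one]
  have hnat : ∀ k : ℕ, v.1 ^ k = scale B f (k : B) ≫ v.1 := by
    intro k
    induction k with
    | zero => rw [pow_zero, Nat.cast_zero, h0]
    | succ k ih =>
      rw [pow_succ, ih, Nat.cast_succ, Groth.Agent.Lib.Helper11.LieAdd.scale_add_comp f v.1 hw,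
        Groth.Agent.Lib.Helper11.LieAdd.scale_one, Category.id_comp]
  have hneg : ∀ a : B, scale B f (-a) ≫ v.1 = (scale B f a ≫ v.1)⁻¹ := by
    intro a
    have h1 := Groth.Agent.Lib.Helper11.LieAdd.scale_add_comp f v.1 hw a (-a)
    rw [add_neg_cancel, h0] at h1
    exact eq_inv_of_mul_eq_one_right h1.symm
  apply Subtype.ext
  rw [Subgroup.coe_zpow, LieS.smul_val]
  cases n with
  | ofNat k => rw [Int.ofNat_eq_natCast, zpow_natCast, Int.cast_natCast, hnat]
  | negSucc k =>
    rw [zpow_negSucc, Int.cast_negSucc, hneg, hnat]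

end Groth.Agent.S8357
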