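import Groth.Statements.S5338
import Mathlib.RingTheory.Flat.Equalizer
import Mathlib.LinearAlgebra.TensorProduct.Quotient
import Mathlib.RingTheory.FinitePresentation

set_option autoImplicit false
universe u
open CategoryTheory CategoryTheory.Limits MonoidalCategory CartesianMonoidalCategory MonObj GrpObj AlgebraicGeometry
open SGA3

namespace Groth.Agent.S5338

open TensorProduct

/-- Nilpotent Nakayama, relative form. -/
theorem le_of_le_sup_smul {R M : Type*} [CommRing R] [AddCommGroup M] [Module R M]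
    (J : Ideal R) (hJ : IsNilpotent J) (N I : Submodule R M) (h : I ≤ N ⊔ J • I) : I ≤ N := by
  obtain ⟨k, hk⟩ := hJ
  have key : ∀ i : ℕ, I ≤ N ⊔ (J ^ i) • I := by
    intro i
    induction i with
    | zero => simp
    | succ i ih =>
      calc I ≤ N ⊔ J • I := h
        _ ≤ N ⊔ J • (N ⊔ (J ^ i) • I) := by gcongr
        _ = N ⊔ (J • N ⊔ J • (J ^ i) • I) := by rw [Submodule.smul_sup]
        _ ≤ N ⊔ (J ^ (i + 1)) • I := by
          rw [← Submodule.mul_smul, ← pow_succ']
          refine sup_le le_sup_left (sup_le ?_ le_sup_right)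
          exact Submodule.smul_le_right.trans le_sup_left
  have := key k
  rw [hk] at this
  simpa using this

/-- If `P/I` is flat then `I ∩ nP ⊆ nI`. -/
theorem inf_smul_top_le_of_flat {A P C : Type*} [CommRing A] [AddCommGroup P] [Module A P]
    [AddCommGroup C] [Module A C] [Module.Flat A C] (f : P →ₗ[A] C) (hf : Function.Surjective f)
    (n : Ideal A) : LinearMap.ker f ⊓ n • (⊤ : Submodule A P) ≤ n • LinearMap.ker f := by
  intro x ⟨hxI, hxn⟩
  set I := LinearMap.ker f
  have inj := LinearMap.lTensor_injective_of_exact_of_flat f hf I.subtype I.subtype_injective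
    (LinearMap.exact_subtype_ker_map f) (A ⧸ n)
  have h0 : ((1 : A ⧸ n) ⊗ₜ[A] x : (A ⧸ n) ⊗[A] P) = 0 := by
    refine Submodule.smul_induction_on (p := fun x => ((1 : A ⧸ n) ⊗ₜ[A] x : (A ⧸ n) ⊗[A] P) = 0)
      hxn ?_ ?_
    · intro a ha p _
      rw [TensorProduct.tmul_smul, TensorProduct.smul_tmul']
      have : a • (1 : A ⧸ n) = 0 := by
        rw [Algebra.smul_def, _root_.mul_one]
        exact Ideal.Quotient.eq_zero_iff_mem.mpr ha
      rw [this, TensorProduct.zero_tmul]
    · intro y z hy hz
      rw [TensorProduct.tmul_add, hy, hz, add_zero]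
  have h1 : ((1 : A ⧸ n) ⊗ₜ[A] (⟨x, hxI⟩ : I) : (A ⧸ n) ⊗[A] I) = 0 := by
    apply inj
    rw [map_zero, LinearMap.lTensor_tmul]
    exact h0
  have h2 := congrArg (TensorProduct.quotTensorEquivQuotSMul I n) h1
  rw [map_zero, ← map_one (Ideal.Quotient.mk n), TensorProduct.quotTensorEquivQuotSMul_mk_tmul,
    one_smul, Submodule.Quotient.mk_eq_zero] at h2
  have h3 : x ∈ (n • (⊤ : Submodule A I)).map I.subtype := ⟨⟨x, hxI⟩, h2, rfl⟩
  rwa [Submodule.map_smul'', Submodule.map_top, Submodule.range_subtype] at h3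

theorem finiteType_of_quotient_nilpotent (B C : Type u) [CommRing B] [CommRing C] [Algebra B C]
    (J : Ideal B) (hJ : IsNilpotent J)
    (h : Algebra.FiniteType (B ⧸ J) (C ⧸ J.map (algebraMap B C))) : Algebra.FiniteType B C := by
  classical
  set K := J.map (algebraMap B C) with hK
  obtain ⟨s, hs⟩ := h.out
  let lift : C ⧸ K → C := Function.surjInv Ideal.Quotient.mk_surjective
  have hlift : ∀ y, Ideal.Quotient.mk K (lift y) = y := Function.surjInv_eq _
  let t : Finset C := s.image lift
  let C' := Algebra.adjoin B (t : Set C)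
  have hmem : ∀ y ∈ Algebra.adjoin (B ⧸ J) (s : Set (C ⧸ K)), ∃ c' ∈ C', Ideal.Quotient.mk K c' = y := by
    intro y hy
    induction hy using Algebra.adjoin_induction with
    | mem y hy =>
      exact ⟨lift y, Algebra.subset_adjoin (Finset.mem_coe.mpr (Finset.mem_image_of_mem _ hy)), hlift y⟩
    | algebraMap r =>
      obtain ⟨b, rfl⟩ := Ideal.Quotient.mk_surjective r
      exact ⟨algebraMap B C b, Subalgebra.algebraMap_mem _ b, rfl⟩
    | add x y _ _ hx hy =>
      obtain ⟨x', hx', rfl⟩ := hx
      obtain ⟨y', hy', rfl⟩ := hy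
      exact ⟨x' + y', C'.add_mem hx' hy', map_add _ _ _⟩
    | mul x y _ _ hx hy =>
      obtain ⟨x', hx', rfl⟩ := hx
      obtain ⟨y', hy', rfl⟩ := hy
      exact ⟨x' * y', C'.mul_mem hx' hy', map_mul _ _ _⟩
  have htop : (⊤ : Submodule B C) ≤ Subalgebra.toSubmodule C' ⊔ J • (⊤ : Submodule B C) := by
    intro c _
    obtain ⟨c', hc', hcc'⟩ := hmem (Ideal.Quotient.mk K c) (by rw [hs]; trivial)
    have hsub : c - c' ∈ K := by
      rw [← Ideal.Quotient.eq_zero_iff_mem, map_sub, hcc', sub_self]
    have hsub' : c - c' ∈ J • (⊤ : Submodule B C) := by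
      rw [Ideal.smul_top_eq_map]; exact hsub
    have : c = c' + (c - c') := by ring
    rw [this]
    exact Submodule.add_mem_sup hc' hsub'
  have := le_of_le_sup_smul J hJ _ _ htop
  refine ⟨t, ?_⟩
  rw [eq_top_iff]
  intro c _
  exact this (Submodule.mem_top : c ∈ (⊤ : Submodule B C))

theorem finitePresentation_of_quotient_nilpotent (A B C : Type u) [CommRing A] [CommRing B] [CommRing C]
    [Algebra A B] [Algebra B C] [Algebra A C] [IsScalarTower A B C] (n : Ideal A) (hn : IsNilpotent n)
    (hflat : Module.Flat A C)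
    (hfp : Algebra.FinitePresentation (B ⧸ n.map (algebraMap A B))
      (C ⧸ (n.map (algebraMap A B)).map (algebraMap B C))) :
    Algebra.FinitePresentation B C := by
  classical
  set J := n.map (algebraMap A B) with hJdef
  set K := J.map (algebraMap B C) with hKdef
  have hJ : IsNilpotent J := by
    obtain ⟨k, hk⟩ := hn
    refine ⟨k, ?_⟩
    rw [hJdef, ← Ideal.map_pow, hk]
    exact Ideal.map_bot
  have : Algebra.FiniteType B C := finiteType_of_quotient_nilpotent B C J hJ inferInstance
  obtain ⟨r, φ, hφ⟩ := Algebra.FiniteType.iff_quotient_mvPolynomial''.mp this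
  let P := MvPolynomial (Fin r) B
  let P' := MvPolynomial (Fin r) (B ⧸ J)
  let I : Ideal P := RingHom.ker φ.toRingHom
  refine ⟨r, φ, hφ, ?_⟩
  change I.FG
  let ψ' : P' →ₐ[B ⧸ J] C ⧸ K := MvPolynomial.aeval (fun i => Ideal.Quotient.mk K (φ (MvPolynomial.X i)))
  let π : P →+* P' := MvPolynomial.map (Ideal.Quotient.mk J)
  have hπsurj : Function.Surjective π := MvPolynomial.map_surjective _ Ideal.Quotient.mk_surjective
  have hcomp' : ψ'.toRingHom.comp π = (Ideal.Quotient.mk K).comp φ.toRingHom := by
    apply MvPolynomial.ringHom_ext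
    · intro b
      have h1 : π (MvPolynomial.C b) = MvPolynomial.C (Ideal.Quotient.mk J b) :=
        MvPolynomial.map_C _ _
      have h2 : φ (MvPolynomial.C b) = algebraMap B C b := by
        rw [← MvPolynomial.algebraMap_eq]; exact φ.commutes b
      have h3 : ψ' (MvPolynomial.C (Ideal.Quotient.mk J b)) =
          algebraMap (B ⧸ J) (C ⧸ K) (Ideal.Quotient.mk J b) := MvPolynomial.aeval_C _ _
      change ψ' (π (MvPolynomial.C b)) = Ideal.Quotient.mk K (φ (MvPolynomial.C b))
      rw [h1, h2, h3]; rfl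
    · intro i
      change ψ' (π (MvPolynomial.X i)) = Ideal.Quotient.mk K (φ (MvPolynomial.X i))
      rw [show π (MvPolynomial.X i) = MvPolynomial.X i from MvPolynomial.map_X _ _]
      exact MvPolynomial.aeval_X _ _
  have hcomp : ∀ p : P, ψ' (π p) = Ideal.Quotient.mk K (φ p) := fun p => congrArg (fun f => f p) hcomp'
  have hψsurj : Function.Surjective ψ' := by
    intro y
    obtain ⟨c, rfl⟩ := Ideal.Quotient.mk_surjective y
    obtain ⟨p, rfl⟩ := hφ c
    exact ⟨π p, hcomp p⟩
  have hker : (RingHom.ker ψ'.toRingHom).FG := Algebra.FinitePresentation.ker_fG_of_surjective ψ' hψsurj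
  obtain ⟨s', hs'⟩ := hker
  -- the ideal JP
  let JP : Ideal P := J.map (algebraMap B P)
  have hkerπ : RingHom.ker π = JP := by
    change RingHom.ker (MvPolynomial.map (Ideal.Quotient.mk J)) = Ideal.map (algebraMap B P) J
    rw [MvPolynomial.ker_map, Ideal.mk_ker, MvPolynomial.algebraMap_eq]
  have hKmap : K = JP.map (φ : P →+* C) := by
    change Ideal.map (algebraMap B C) J = Ideal.map (φ : P →+* C) (Ideal.map (algebraMap B P) J)
    rw [Ideal.map_map (algebraMap B P) (φ : P →+* C), φ.comp_algebraMap]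
  have hJPn : (n • (⊤ : Submodule A P)) = JP.restrictScalars A := by
    rw [Ideal.smul_top_eq_map]
    congr 1
    change Ideal.map (algebraMap A P) n = Ideal.map (algebraMap B P) (Ideal.map (algebraMap A B) n)
    rw [Ideal.map_map, ← IsScalarTower.algebraMap_eq]
  -- lifting generators
  have hlift : ∀ g' ∈ s', ∃ g ∈ I, π g = g' := by
    intro g' hg'
    obtain ⟨g₀, rfl⟩ := hπsurj g'
    have h0 : ψ' (π g₀) = 0 := by
      have : π g₀ ∈ RingHom.ker ψ'.toRingHom := by rw [← hs']; exact Ideal.subset_span hg'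
      exact this
    rw [hcomp, Ideal.Quotient.eq_zero_iff_mem, hKmap] at h0
    obtain ⟨h, hh, hhφ⟩ := (Ideal.mem_map_iff_of_surjective (φ : P →+* C) hφ).mp h0
    refine ⟨g₀ - h, ?_, ?_⟩
    · change φ (g₀ - h) = 0
      have hhφ' : φ h = φ g₀ := hhφ
      rw [map_sub, hhφ', sub_self]
    · have : π h = 0 := by rw [← hkerπ] at hh; exact hh
      rw [map_sub, this, sub_zero]
  choose! lift hliftI hliftπ using hlift
  let t : Finset P := s'.image lift
  let N : Ideal P := Ideal.span (t : Set P)
  have hNI : N ≤ I := by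
    rw [Ideal.span_le]
    intro g hg
    obtain ⟨g', hg', rfl⟩ := Finset.mem_image.mp (Finset.mem_coe.mp hg)
    exact hliftI g' hg'
  have hspan : ∀ y ∈ Ideal.span (s' : Set P'), ∃ z ∈ N, π z = y := by
    intro y hy
    induction hy using Submodule.span_induction with
    | mem y hy =>
      exact ⟨lift y, Ideal.subset_span (Finset.mem_coe.mpr (Finset.mem_image_of_mem _ hy)), hliftπ y hy⟩
    | zero => exact ⟨0, N.zero_mem, map_zero _⟩
    | add x y _ _ hx hy =>
      obtain ⟨x', hx', rfl⟩ := hx
      obtain ⟨y', hy', rfl⟩ := hy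
      exact ⟨x' + y', N.add_mem hx' hy', map_add _ _ _⟩
    | smul q y _ hy =>
      obtain ⟨y', hy', rfl⟩ := hy
      obtain ⟨q', rfl⟩ := hπsurj q
      exact ⟨q' * y', N.mul_mem_left _ hy', by rw [map_mul, smul_eq_mul]⟩
  let f : P →ₗ[A] C := φ.toLinearMap.restrictScalars A
  have hfker : LinearMap.ker f = I.restrictScalars A := by
    ext x
    simp [f, I, RingHom.mem_ker]
  have hle : I.restrictScalars A ≤ N.restrictScalars A ⊔ n • I.restrictScalars A := by
    intro x hx
    have hx' : x ∈ I := hx
    have hπx : π x ∈ Ideal.span (s' : Set P') := by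
      rw [hs']
      change ψ' (π x) = 0
      rw [hcomp]
      have : φ x = 0 := hx'
      rw [this, map_zero]
    obtain ⟨z, hz, hzπ⟩ := hspan _ hπx
    have h1 : x - z ∈ I := I.sub_mem hx' (hNI hz)
    have h2 : x - z ∈ JP := by
      rw [← hkerπ, RingHom.mem_ker, map_sub, hzπ, sub_self]
    have h3 : x - z ∈ LinearMap.ker f ⊓ n • (⊤ : Submodule A P) := by
      refine ⟨?_, ?_⟩
      · rw [hfker]; exact h1
      · rw [hJPn]; exact h2
    have h4 := inf_smul_top_le_of_flat f hφ n h3
    rw [hfker] at h4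
    have : x = z + (x - z) := by ring
    rw [this]
    exact Submodule.add_mem_sup hz h4
  have hIN : I ≤ N := le_of_le_sup_smul n hn _ _ hle
  have : I = N := le_antisymm hIN hNI
  rw [this]
  exact ⟨t, rfl⟩


/-- Let A → B → C be homomorphisms of commutative rings and n a nilpotent ideal of A; write nB and nC
for the extended ideals. (i) If C/nC is a (B/nB)-algebra of finite type, then C is a B-algebra of
finite type. (ii) If moreover C is flat over A and C/nC is a (B/nB)-algebra of finite presentation,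
then C is a B-algebra of finite presentation. -/
theorem result (A B C : Type u) [CommRing A] [CommRing B] [CommRing C]
    [Algebra A B] [Algebra B C] [Algebra A C] [IsScalarTower A B C] (n : Ideal A) (hn : IsNilpotent n) :
    (Algebra.FiniteType (B ⧸ n.map (algebraMap A B)) (C ⧸ (n.map (algebraMap A B)).map (algebraMap B C)) →
      Algebra.FiniteType B C) ∧
    (Module.Flat A C →
      Algebra.FinitePresentation (B ⧸ n.map (algebraMap A B)) (C ⧸ (n.map (algebraMap A B)).map (algebraMap B C)) →
      Algebra.FinitePresentation B C) := by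
  refine ⟨fun h => ?_, fun hflat hfp => ?_⟩
  · refine finiteType_of_quotient_nilpotent B C _ ?_ h
    obtain ⟨k, hk⟩ := hn
    refine ⟨k, ?_⟩
    rw [← Ideal.map_pow, hk]
    exact Ideal.map_bot
  · exact finitePresentation_of_quotient_nilpotent A B C n hn hflat hfp

end Groth.Agent.S5338
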