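import Groth.Statements.S5072
import Groth.Agent.Lib.Helper3ShTensor
import Groth.Agent.Lib.Helper3HenselLF
import Mathlib

set_option autoImplicit false
open scoped TensorProduct
universe u
open Hensel

namespace Groth.Agent.S5072

open IsLocalRing Algebra.TensorProduct Groth.Agent.Lib.Helper3

/-- `B ⊗[A] S` is finite over `S` (right algebra structure) when `B` is finite over `A`. -/
theorem finite_right (A B S : Type*) [CommRing A] [CommRing B] [CommRing S] [Algebra A B]
    [Algebra A S] [Module.Finite A B] :
    letI : Algebra S (B ⊗[A] S) := Algebra.TensorProduct.rightAlgebra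
    Module.Finite S (B ⊗[A] S) := by
  letI : Algebra S (B ⊗[A] S) := Algebra.TensorProduct.rightAlgebra
  let f : S ⊗[A] B →ₗ[S] B ⊗[A] S :=
    { toFun := Algebra.TensorProduct.comm A S B
      map_add' := map_add _
      map_smul' := fun s x => by
        induction x with
        | zero => simp
        | tmul s' b =>
          simp only [TensorProduct.smul_tmul', smul_eq_mul, Algebra.TensorProduct.comm_tmul,
            RingHom.id_apply]
          rw [Algebra.smul_def]
          show b ⊗ₜ[A] (s * s') = (1 ⊗ₜ[A] s) * (b ⊗ₜ[A] s')
          rw [Algebra.TensorProduct.tmul_mul_tmul, one_mul]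
        | add x y hx hy =>
          simp only [smul_add, map_add, RingHom.id_apply] at hx hy ⊢
          rw [hx, hy] }
  exact Module.Finite.of_surjective f (Algebra.TensorProduct.comm A S B).surjective

/-- Case of a local ring A and a local finite A-algebra B: let S be a strict henselization of A and T a
strict henselization of B. Then there is a maximal ideal q of B ⊗_A S such that T is isomorphic, as
a B-algebra, to the local ring (B ⊗_A S)_q. -/
theorem result (A B S T : Type u) [CommRing A] [IsLocalRing A]
    [CommRing B] [IsLocalRing B] [Algebra A B] [Module.Finite A B]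
    [CommRing S] [IsLocalRing S] [Algebra A S] [IsLocalHom (algebraMap A S)] [Hensel.IsStrictHenselization A S]
    [CommRing T] [IsLocalRing T] [Algebra B T] [IsLocalHom (algebraMap B T)] [Hensel.IsStrictHenselization B T] :
    ∃ (q : Ideal (B ⊗[A] S)) (_ : q.IsMaximal), Nonempty (Localization.AtPrime q ≃ₐ[B] T) := by
  haveI : Algebra.IsIntegral A B := Algebra.IsIntegral.of_finite A B
  haveI : IsLocalHom (algebraMap A B) := Groth.Agent.S1964.isLocalHom_of_isIntegral_of_isLocalRing
  letI : Algebra A T := ((algebraMap B T).comp (algebraMap A B)).toAlgebra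
  haveI : IsScalarTower A B T := IsScalarTower.of_algebraMap_eq (fun _ => rfl)
  obtain ⟨g, hg⟩ := ShTensor.exists_map (A := A) (B := B) (S := S) (T := T)
  haveI := hg
  haveI hqmax : (ShTensor.Q B g).IsMaximal := ShTensor.Q_isMaximal B g
  refine ⟨ShTensor.Q B g, hqmax, ?_⟩
  letI : Algebra S (B ⊗[A] S) := Algebra.TensorProduct.rightAlgebra
  haveI : Module.Finite S (B ⊗[A] S) := finite_right A B S
  haveI hS : HenselianLocalRing S := Hensel.IsStrictHenselization.henselian (R := A)
  haveI : (ShTensor.Q B g).LiesOver (maximalIdeal S) := by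
    constructor
    have hmax : ((ShTensor.Q B g).comap (algebraMap S (B ⊗[A] S))).IsMaximal :=
      Ideal.isMaximal_comap_of_isIntegral_of_isMaximal _
    exact (IsLocalRing.eq_maximalIdeal hmax).symm
  haveI : Module.Finite S (Localization.AtPrime (ShTensor.Q B g)) :=
    Hensel.finite_localization_of_quasiFiniteAt (R := S) (ShTensor.Q B g)
  haveI : Algebra.IsIntegral S (Localization.AtPrime (ShTensor.Q B g)) :=
    Algebra.IsIntegral.of_finite S _
  have hint : ((algebraMap (B ⊗[A] S) (Localization.AtPrime (ShTensor.Q B g))).comp
      (includeRight : S →ₐ[A] B ⊗[A] S).toRingHom).IsIntegral := by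
    have := algebraMap_isIntegral_iff.mpr
      ‹Algebra.IsIntegral S (Localization.AtPrime (ShTensor.Q B g))›
    rwa [IsScalarTower.algebraMap_eq S (B ⊗[A] S)] at this
  obtain ⟨e, -⟩ := ShTensor.exists_algEquiv B g (Localization.AtPrime (ShTensor.Q B g)) hint
  exact ⟨e⟩

end Groth.Agent.S5072
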