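import Groth.Statements.S0422
import Groth.Agent.S4848
import Groth.Agent.S0400
import Mathlib

set_option autoImplicit false
universe u
open FlatMor

namespace Groth.Agent.S0422

open TensorProduct in

open TensorProduct in
/-- Fibrewise criterion of flatness modulo a locally nilpotent ideal: let R → S be of finite type, S' an
S-algebra which is of finite presentation over R, I an ideal of R all of whose elements are
nilpotent, and M a finitely presented S'-module which is flat over R and such that M/IM is flat over
S/IS. Then M is flat over S. (The published statement also asserts flatness over R of suitable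
localizations of S; that part is not stated here.) -/
theorem result {R S S' M : Type u} [CommRing R] [CommRing S] [CommRing S'] [Algebra R S] [Algebra S S'] [Algebra R S'] [IsScalarTower R S S']
    [Algebra.FiniteType R S] [Algebra.FinitePresentation R S'] (I : Ideal R) (hI : ∀ a ∈ I, IsNilpotent a)
    [AddCommGroup M] [Module S' M] [Module S M] [Module R M] [IsScalarTower S S' M] [IsScalarTower R S M]
    [Module.FinitePresentation S' M] [Module.Flat R M]
    (h : Module.Flat (S ⧸ I.map (algebraMap R S)) ((S ⧸ I.map (algebraMap R S)) ⊗[S] M)) : Module.Flat S M := by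
  classical
  haveI : Algebra.FinitePresentation S S' :=
    Algebra.FinitePresentation.of_restrict_scalars_finitePresentation R S S'
  let ι := {J : Ideal R // J.FG ∧ J ≤ I}
  let G : ι → Type u := fun J => S ⧸ J.1.map (algebraMap R S)
  let g : ∀ i j : ι, i ≤ j → G i →ₐ[S] G j :=
    fun i j h => Ideal.Quotient.factorₐ S (Ideal.map_mono h)
  letI algGA : ∀ i : ι, Algebra (G i) (S ⧸ I.map (algebraMap R S)) :=
    fun i => (Ideal.Quotient.factor (Ideal.map_mono i.2.2)).toAlgebra
  haveI : ∀ i : ι, IsScalarTower S (G i) (S ⧸ I.map (algebraMap R S)) :=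
    fun i => IsScalarTower.of_algebraMap_eq (fun x => rfl)
  have hcolim : FlatCA.IsDirectedColimitRing G (fun i j h => (g i j h).toRingHom)
      (S ⧸ I.map (algebraMap R S)) := by
    refine ⟨⟨fun i j => ⟨⟨i.1 ⊔ j.1, Submodule.FG.sup i.2.1 j.2.1, sup_le i.2.2 j.2.2⟩,
      (show i.1 ≤ i.1 ⊔ j.1 from le_sup_left), (show j.1 ≤ i.1 ⊔ j.1 from le_sup_right)⟩⟩, ⟨⟨⊥, Submodule.fg_bot, bot_le⟩⟩, ?_, ?_, ?_, ?_, ?_⟩
    · intro i
      ext x
      rfl
    · intro i j k hij hjk
      ext x
      rfl
    · intro i j hij
      ext x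
      rfl
    · intro a
      obtain ⟨a, rfl⟩ := Ideal.Quotient.mk_surjective a
      exact ⟨⟨⊥, Submodule.fg_bot, bot_le⟩, Ideal.Quotient.mk _ a, rfl⟩
    · intro i x hx
      obtain ⟨x, rfl⟩ := Ideal.Quotient.mk_surjective x
      have hx' : x ∈ I.map (algebraMap R S) := by
        rw [← Ideal.Quotient.eq_zero_iff_mem]
        exact hx
      rw [Ideal.map, Ideal.span] at hx'
      obtain ⟨T, hT, hxT⟩ := Submodule.mem_span_finite_of_mem_span hx'
      obtain ⟨T', hT', rfl⟩ := Finset.subset_set_image_iff.mp hT
      let J : Ideal R := Ideal.span (T' : Set R)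
      have hJI : J ≤ I := Ideal.span_le.mpr hT'
      refine ⟨⟨i.1 ⊔ J, Submodule.FG.sup i.2.1 ⟨T', rfl⟩, sup_le i.2.2 hJI⟩,
        (show i.1 ≤ i.1 ⊔ J from le_sup_left), ?_⟩
      change Ideal.Quotient.mk _ x = 0
      rw [Ideal.Quotient.eq_zero_iff_mem]
      have h1 : J.map (algebraMap R S) ≤ (i.1 ⊔ J).map (algebraMap R S) :=
        Ideal.map_mono le_sup_right
      apply h1
      rw [Ideal.map_span]
      rw [Finset.coe_image] at hxT
      exact hxT
  obtain ⟨i, hi⟩ := (Groth.Agent.S4848.result G g (S ⧸ I.map (algebraMap R S)) hcolim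
    (B₀ := S') M).mp h
  have hnil : IsNilpotent i.1 := by
    rw [i.2.1.isNilpotent_iff_le_nilradical]
    intro a ha
    exact hI a (i.2.2 ha)
  exact Groth.Agent.S0400.result i.1 hnil hi

end Groth.Agent.S0422
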