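import Groth.Statements.S1381
import Groth.Agent.Lib.Helper3ThickFlat
import Groth.Agent.Lib.Helper2StalkFlat
import Mathlib

set_option autoImplicit false
universe u
open FlatMor

namespace Groth.Agent.S1381

open AlgebraicGeometry CategoryTheory Limits

/-- the ring-level input at one point. -/
theorem flat_stalkMap_of_thickening {X X' Y Y' S S' : Scheme.{u}} (iX : X ⟶ X') (iY : Y ⟶ Y')
    (iS : S ⟶ S') (f : X ⟶ Y) (f' : X' ⟶ Y') (g : Y ⟶ S) (g' : Y' ⟶ S')
    (hS : MoreMor.IsThickening iS) (hcX : IsPullback iX (f ≫ g) (f' ≫ g') iS)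
    (hcY : IsPullback iY g g' iS)
    (w : iX ≫ f' = f ≫ iY) [Flat (f' ≫ g')] [LocallyOfFinitePresentation (f' ≫ g')]
    [LocallyOfFiniteType g'] [Flat f] (x' : X') : (f'.stalkMap x').hom.Flat := by
  haveI : IsClosedImmersion iS := hS.1
  haveI : Surjective iS := hS.2
  -- affine opens
  obtain ⟨W', hW', hsW', -⟩ := exists_isAffineOpen_mem_and_subset
    (x := g' (f' x')) (U := ⊤) trivial
  obtain ⟨V', hV', hyV', hV'W'⟩ := exists_isAffineOpen_mem_and_subset
    (x := f' x') (U := g' ⁻¹ᵁ W') hsW'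
  obtain ⟨U', hU', hxU', hU'V'⟩ := exists_isAffineOpen_mem_and_subset
    (x := x') (U := f' ⁻¹ᵁ V') hyV'
  have eV : V' ≤ g' ⁻¹ᵁ W' := hV'W'
  have eU : U' ≤ f' ⁻¹ᵁ V' := hU'V'
  have eUW : U' ≤ (f' ≫ g') ⁻¹ᵁ W' := fun z hz => eV (eU hz)
  refine Groth.Agent.Lib.Helper2.StalkFlat.flat_stalkMap_of_flat_appLE f' hU' hV' eU ?_ x' hxU'
  let W : S.Opens := iS ⁻¹ᵁ W'
  have hW : IsAffineOpen W := hW'.preimage iS
  have hWW' : W ≤ iS ⁻¹ᵁ W' := le_rfl
  let VY : Y.Opens := iY ⁻¹ᵁ V' ⊓ g ⁻¹ᵁ W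
  let UX : X.Opens := iX ⁻¹ᵁ U' ⊓ (f ≫ g) ⁻¹ᵁ W
  have hpoB := (isIso_pushoutSection_iff hcY hWW' eV (rfl : VY = _)).mp
    (isIso_pushoutSection_of_isAffineOpen hcY hWW' eV rfl hW' hW hV')
  have hpoC := (isIso_pushoutSection_iff hcX hWW' eUW (rfl : UX = _)).mp
    (isIso_pushoutSection_of_isAffineOpen hcX hWW' eUW rfl hW' hW hU')
  have hVY : IsAffineOpen VY := by
    have : IsAffine _ := hW'
    have : IsAffine _ := hW
    have : IsAffine _ := hV'
    exact .of_isIso (Scheme.Hom.isPullback_resLE hcY hWW' eV rfl).isoPullback.hom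
  have hUX : IsAffineOpen UX := by
    have : IsAffine _ := hW'
    have : IsAffine _ := hW
    have : IsAffine _ := hU'
    exact .of_isIso (Scheme.Hom.isPullback_resLE hcX hWW' eUW rfl).isoPullback.hom
  have eXY : UX ≤ f ⁻¹ᵁ VY := by
    intro z hz
    refine ⟨?_, hz.2⟩
    change iY (f z) ∈ V'
    have : iY (f z) = f' (iX z) := (congr($(w) z)).symm
    rw [this]
    exact eU hz.1
  have hγ : (f.appLE VY UX eXY).hom.Flat := Flat.flat_appLE f hVY hUX eXY
  refine Groth.Agent.Lib.Helper3.ThickFlat.flat_of_isPushout_nil (γ := f.appLE VY UX eXY)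
    (δ' := (f' ≫ g').appLE W' U' eUW) ?_ hpoB hpoC ?_ ?_ ?_ ?_ ?_ ?_ hγ
  · rw [Scheme.Hom.appLE_comp_appLE]
  · simp only [Scheme.Hom.appLE_comp_appLE, w]
  · have := iS.app_surjective W' hW'
    rwa [Scheme.Hom.app_eq_appLE] at this
  · intro x hx
    refine Groth.Agent.Lib.Helper2.Thick.nil_ker iS W' hW' x ?_
    rw [Scheme.Hom.app_eq_appLE]
    exact hx
  · exact g'.finiteType_appLE hW' hV' eV
  · exact (f' ≫ g').finitePresentation_appLE hW' hU' eUW
  · exact Flat.flat_appLE (f' ≫ g') hW' hU' eUW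

open AlgebraicGeometry CategoryTheory Limits in
/-- Let S ⟶ S' be an arbitrary thickening, let X' ⟶ Y' be a morphism of schemes over S' with X' flat and
locally of finite presentation over S' and Y' locally of finite type over S', and let X ⟶ Y be its
base change to S. Then X ⟶ Y is flat if and only if X' ⟶ Y' is. -/
theorem result {X X' Y Y' S S' : Scheme.{u}} (iX : X ⟶ X') (iY : Y ⟶ Y') (iS : S ⟶ S')
    (f : X ⟶ Y) (f' : X' ⟶ Y') (g : Y ⟶ S) (g' : Y' ⟶ S')
    (hS : MoreMor.IsThickening iS) (hcX : IsPullback iX (f ≫ g) (f' ≫ g') iS) (hcY : IsPullback iY g g' iS)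
    (w : iX ≫ f' = f ≫ iY) [Flat (f' ≫ g')] [LocallyOfFinitePresentation (f' ≫ g')] [LocallyOfFiniteType g'] :
    Flat f ↔ Flat f' := by
  have hleft : IsPullback iX f f' iY := IsPullback.of_bot hcX w hcY
  constructor
  · intro hf
    rw [Flat.iff_flat_stalkMap]
    intro x'
    exact flat_stalkMap_of_thickening iX iY iS f f' g g' hS hcX hcY w x'
  · intro hf'
    exact MorphismProperty.of_isPullback (P := @Flat) hleft hf'

end Groth.Agent.S1381
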