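import Groth.Statements.S9672
import Groth.Agent.Lib.Helper12ClosureImage
import Groth.Agent.Lib.Helper14IrrComp

set_option autoImplicit false
universe u
open CategoryTheory CategoryTheory.Limits AlgebraicGeometry
open Mor

namespace Groth.Agent.S9672

/-- Let f : Y ⟶ X be quasi-compact and quasi-separated, and write X' for the normalization of X relative
to Y. If x' ∈ X' is the generic point of some irreducible component of X', then there is a point y ∈
Y that is generic in an irreducible component of Y and is sent to x' by the canonical morphism Y ⟶
X'. -/
theorem result {X Y : Scheme.{u}} (f : Y ⟶ X)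
    [QuasiCompact f] [QuasiSeparated f] (x' : ↥f.normalization)
    (hx' : closure {x'} ∈ irreducibleComponents ↥f.normalization) :
    ∃ y : Y, closure {y} ∈ irreducibleComponents ↥Y ∧ f.toNormalization.base y = x' := by
  set τ := f.toNormalization with hτ
  have hdense : x' ∈ closure (Set.range τ.base) := by
    rw [(IsDominant.denseRange (f := τ)).closure_range]; trivial
  obtain ⟨y, hy⟩ := Groth.Agent.Lib.Helper12.exists_specializes_of_mem_closure_range
    τ x' hdense
  have hmax := (Groth.Agent.Lib.Helper14.closure_mem_irreducibleComponents_iff x').mp hx'
  have hyx : τ.base y = x' := hmax _ hy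
  -- replace `y` by a generic point of a component through `y`
  obtain ⟨y₀, hy₀⟩ := Groth.Agent.Lib.Helper14.exists_closure_eq_of_mem_irreducibleComponents
    (irreducibleComponent_mem_irreducibleComponents y)
  have hsp : y₀ ⤳ y := by
    rw [specializes_iff_mem_closure, hy₀]; exact mem_irreducibleComponent
  refine ⟨y₀, hy₀ ▸ irreducibleComponent_mem_irreducibleComponents y, ?_⟩
  have h1 : τ.base y₀ ⤳ τ.base y := hsp.map τ.continuous
  rw [hyx] at h1
  exact hmax _ h1

end Groth.Agent.S9672
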