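import Groth.Statements.S1585
import Groth.Agent.Lib.Helper4NormCurve

set_option autoImplicit false
universe u
open CategoryTheory CategoryTheory.Limits AlgebraicGeometry
open Variety

namespace Groth.Agent.S1585

/-- Part (1): and (4), for an integral scheme locally of finite type over a field: the normalization
morphism ν (normalization of X in its function field) is finite, dominant and an isomorphism over a
nonempty open, and the normalization is an integral scheme all of whose local rings are integrally
closed domains. (The quasi-compactness/quasi-separatedness binders on Spec K(X) → X always hold;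
they are needed only to form Mathlib's relative normalization.) -/
theorem result (k : Type u) [Field k] (X : Scheme.{u}) [X.Over (Spec (CommRingCat.of k))] [IsIntegral X] [LocallyOfFiniteType (X ↘ (Spec (CommRingCat.of k)))]
    [QuasiCompact (X.fromSpecStalk (genericPoint X))] [QuasiSeparated (X.fromSpecStalk (genericPoint X))] :
    IsFinite (Curv2.normalizationι X) ∧ IsDominant (Curv2.normalizationι X) ∧
      (∃ V : X.Opens, (V : Set X).Nonempty ∧ IsIso (Curv2.normalizationι X ∣_ V)) ∧
      IsIntegral (Curv2.normalization X) ∧ Pi1.IsNormalScheme (Curv2.normalization X) := by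
  have hg := Groth.Agent.Lib.Helper4.NormCurve.fromSpecStalk_eq_gen (X := X)
  have hN2 : ∀ (U : X.Opens), IsAffineOpen U → ∀ (hne : Nonempty ↥U),
      @CAlg.IsN2 Γ(X, U) _ (@IsIntegral.component_integral X _ U hne) := fun U hU hne =>
    Groth.Agent.Lib.Helper4.NormCurve.isN2_sections_of_locallyOfFiniteType_field k X U hU
      (hne := hne)
  refine ⟨?_, ?_, ?_, ?_, ?_⟩
  · exact Groth.Agent.Lib.Helper4.NormCurve.isFinite_fromNormalization_of_eq X.functionField
      (RingHom.id _) _ hg (RingHom.Finite.id _) hN2
  · exact Groth.Agent.Lib.Helper4.NormCurve.isDominant_fromNormalization_of_eq X.functionField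
      (RingHom.id _) _ hg
  · exact Groth.Agent.Lib.Helper4.NormCurve.exists_isIso_morphismRestrict_of_eq _ hg
      (fun U hU hne => @Groth.Agent.Lib.Helper14.IsN2.isN1 _ _
        (@IsIntegral.component_integral X _ U hne) (hN2 U hU hne))
  · change IsIntegral (X.fromSpecStalk (genericPoint X)).normalization
    infer_instance
  · exact Groth.Agent.Lib.Helper4.NormCurve.isNormalScheme_normalization_of_eq X.functionField
      (RingHom.id _) _ hg

end Groth.Agent.S1585
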