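import Groth.Statements.S19352
import Groth.Agent.Lib.Helper12PosG
import Groth.Agent.Lib.Helper27ProjDim
import Groth.Agent.Lib.Helper27ProjSpaceFibres
import Groth.Agent.S10962
import Groth.Agent.S9815
import Groth.Agent.Lib.Helper4CurveDegSec

set_option autoImplicit false
universe u
open CategoryTheory CategoryTheory.Limits AlgebraicGeometry
open Surf

namespace Groth.Agent.S19352

/-- Let k be an algebraically closed field and X a nonsingular projective surface over k, namely an
integral scheme, smooth over k, of dimension two, given with a closed immersion ι into a projective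
space P^n_k over k, and let H = ι^* O(1) be the invertible module of a hyperplane section. If L is
an invertible O_X-module (the module of a divisor D) with dim_k H^0(X, L) > 1, then (L·H) > 0. Here
(A·B) denotes the intersection number of two invertible modules, the alternating sum χ(O_X) − χ(A) −
χ(B) + χ(A ⊗ B) of Euler characteristics (cohomology in degrees at most two); for two invertible
modules this agrees with the same sum formed from their inverses. -/
theorem result (k : Type u) [Field k] [IsAlgClosed k]
    (X : Scheme.{u}) [X.Over (Spec (CommRingCat.of k))] [AlgebraicGeometry.IsIntegral X]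
    [Smooth (X ↘ Spec (CommRingCat.of k))] (hdim : topologicalKrullDim X = 2)
    (n : ℕ) (ι : X ⟶ CohB1.ProjSpace n k) [IsClosedImmersion ι]
    (hι : ι ≫ CohB1.ProjSpace.toSpec n k = X ↘ Spec (CommRingCat.of k))
    (L : X.Modules) (hL : PicF.IsInvertible L)
    (hsec : 1 < Module.finrank k (Coh.HH X L 0)) :
    0 < FGA.intNum k X 2 ![L, (Scheme.Modules.pullback ι).obj (Twist.twistProjSpace n k 1)] (Coh.structureModule X) := by
  haveI : IsProper (X ↘ Spec (CommRingCat.of k)) := by
    rw [← hι]
    haveI := Groth.Agent.Lib.Helper27ProjSpaceFibres.isProper_projSpace_toSpec n k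
    infer_instance
  haveI : IsNoetherian X := Groth.Agent.Lib.Helper4.CurveRR.isNoetherian_of_proper k X
  haveI : IsLocallyNoetherian X := inferInstance
  have hdim2 : topologicalKrullDim X = ((1 + 1 : ℕ) : WithBot ℕ∞) := by
    rw [hdim]
    norm_num
  have hd : topologicalKrullDim X ≤ ((2 : ℕ) : WithBot ℕ∞) := hdim2.le
  have hn : 1 ≤ n := by
    by_contra hn0
    have hn0' : n = 0 := by omega
    have h1 : topologicalKrullDim X ≤ topologicalKrullDim (CohB1.ProjSpace n k) :=
      ι.isClosedEmbedding.isEmbedding.isInducing.topologicalKrullDim_le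
    have h3 : topologicalKrullDim (CohB1.ProjSpace n k) = (n : WithBot ℕ∞) :=
      Groth.Agent.Lib.Helper27ProjDim.main k n
    rw [h3, hn0', hdim] at h1
    norm_num at h1
  have hH : CohB1.IsAmple ((Scheme.Modules.pullback ι).obj (Twist.twistProjSpace n k 1)) :=
    Groth.Agent.S9815.result ι ι.isClosedEmbedding.isEmbedding _
      ((Groth.Agent.S10962.result k n hn 1).2 one_pos)
  rw [Groth.Agent.Lib.Helper12.Snap.intNum_eq_dchi k X 2 hd]
  have hlist : List.ofFn (![L, (Scheme.Modules.pullback ι).obj (Twist.twistProjSpace n k 1)] :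
      Fin 2 → X.Modules) = [L, (Scheme.Modules.pullback ι).obj (Twist.twistProjSpace n k 1)] := by
    simp [List.ofFn_succ]
  rw [hlist]
  have hfr : 0 < Module.finrank k (Coh.HH X L 0) := by omega
  obtain ⟨s, hs⟩ := Groth.Agent.Lib.Helper4.CurveRR.exists_hom_ne_zero k X _ hfr
  by_cases htop : CohB1.genLocus _ s = ⊤
  · exfalso
    haveI := Groth.Agent.Lib.Helper6.DegZero.isIso_of_genLocus_eq_top _ s htop
    have h1 := Groth.Agent.Lib.Helper4.CurveDegSec.finrank_hh0_eq_one_of_isAlgClosed k X
    have h2 : Module.finrank k (Coh.HH X L 0) = Module.finrank k (Coh.HH X (Coh.structureModule X) 0) :=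
      (Groth.Agent.Lib.Helper4.CurveChi.HHequiv k (asIso s).symm 0).finrank_eq
    omega
  · have h1 := Groth.Agent.Lib.Helper12.Pos.dchi_cons_structure_pos k X 1 hdim2 _ hL s hs htop
      [(Scheme.Modules.pullback ι).obj (Twist.twistProjSpace n k 1)]
      (fun M hM => by rw [List.mem_singleton] at hM; exact hM ▸ hH) rfl
    have h2 : (-1 : ℤ) ^ (1 + 1) = 1 := by norm_num
    rw [h2, one_mul] at h1
    exact h1

end Groth.Agent.S19352
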