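import Groth.Statements.S19434
import Mathlib
import Groth.Agent.Lib.Helper27HypSES

set_option autoImplicit false
universe u
open Coherent

namespace Groth.Agent.S19434

open CategoryTheory CategoryTheory.Limits AlgebraicGeometry in
/-- Let F be a field, d ≥ 1, k ≥ 1, P = P^{d+1}_F, and X ⊆ P a hypersurface of degree k: a closed
subscheme (ideal sheaf I) whose ideal sheaf is isomorphic, as an O_P-module, to O_P(-k) —
equivalently X is cut out by one nonzero form q of degree k, with homogeneous coordinate ring A =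
F[x_0, …, x_{d+1}]/(q), whose degree-m piece has dimension a(m) = C(m+d+1, d+1) - C(m-k+d+1, d+1) (a
binomial coefficient with a negative upper entry read as 0). For an integer n let O_X(n) denote the
O_P-module O_X ⊗ O_P(n). Then H^p(P, O_X(n)) vanishes for every p different from 0 and d, H^0(P,
O_X(n)) is a finite-dimensional F-vector space of dimension a(n), and H^d(P, O_X(n)) is
finite-dimensional of dimension a(k-2-d-n). Only the vanishing, the finiteness and the dimensions
are stated here; the identifications of H^0(P, O_X(n)) with A_n and of H^d(P, O_X(n)) with the dual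
of A_{k-2-d-n} are not. -/
theorem result (F : Type u) [Field F] (d k : ℕ)
    (hd : 1 ≤ d) (hk : 1 ≤ k) (I : (CohB1.ProjSpace (d + 1) F).IdealSheafData)
    (hI : Nonempty (ClSub.idealMod I ≅ Twist.twistProjSpace (d + 1) F (-(k : ℤ)))) (n : ℤ) :
    (∀ p : ℕ, p ≠ 0 → p ≠ d →
      Subsingleton (Coh.HH (CohB1.ProjSpace (d + 1) F)
        (CohB1.tensorMod (ClSub.quotMod I) (Twist.twistProjSpace (d + 1) F n)) p)) ∧
    (Module.Finite F (Coh.HH (CohB1.ProjSpace (d + 1) F)
        (CohB1.tensorMod (ClSub.quotMod I) (Twist.twistProjSpace (d + 1) F n)) 0) ∧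
      Module.finrank F (Coh.HH (CohB1.ProjSpace (d + 1) F)
        (CohB1.tensorMod (ClSub.quotMod I) (Twist.twistProjSpace (d + 1) F n)) 0) =
        (Nat.choose (n + ((d : ℤ) + 1)).toNat (d + 1) - Nat.choose (n - (k : ℤ) + ((d : ℤ) + 1)).toNat (d + 1))) ∧
    (Module.Finite F (Coh.HH (CohB1.ProjSpace (d + 1) F)
        (CohB1.tensorMod (ClSub.quotMod I) (Twist.twistProjSpace (d + 1) F n)) d) ∧
      Module.finrank F (Coh.HH (CohB1.ProjSpace (d + 1) F)
        (CohB1.tensorMod (ClSub.quotMod I) (Twist.twistProjSpace (d + 1) F n)) d) =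
        (Nat.choose (((k : ℤ) - 2 - (d : ℤ) - n) + ((d : ℤ) + 1)).toNat (d + 1) - Nat.choose (((k : ℤ) - 2 - (d : ℤ) - n) - (k : ℤ) + ((d : ℤ) + 1)).toNat (d + 1))) := by
  open Groth.Agent.Lib.Helper27HypSES Groth.Agent.Lib.Helper27LesDim in
  obtain ⟨e⟩ := hI
  have hN : 1 ≤ d + 1 := by omega
  have hS := tS_shortExact F (d + 1) I n
  obtain ⟨⟨f10, r10⟩, ⟨f1N, r1N⟩⟩ := finite_finrank_X₁ F (d + 1) I k e hN n
  obtain ⟨⟨f20, r20⟩, ⟨f2N, r2N⟩⟩ := finite_finrank_X₂ F (d + 1) I hN n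
  refine ⟨fun p hp0 hpd => hyp_vanish F (d + 1) I k e n p hp0 (by omega), ?_, ?_⟩
  · -- `H^0`
    have s11 : Subsingleton (Coh.HH (CohB1.ProjSpace (d + 1) F) (tS F (d + 1) I n).X₁ (0 + 1)) :=
      subsingleton_X₁ F (d + 1) I k e n (0 + 1) (by omega) (by omega)
    have s21 : Subsingleton (Coh.HH (CohB1.ProjSpace (d + 1) F) (tS F (d + 1) I n).X₂ (0 + 1)) :=
      subsingleton_X₂ F (d + 1) I n (0 + 1) (by omega) (by omega)
    obtain ⟨hfin, hrk⟩ := finrank_X₃ F (tS F (d + 1) I n) hS 0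
      (injective_HHlin_f_zero F _ hS)
      (fun y => ⟨0, Subsingleton.elim _ _⟩) f20 inferInstance
    refine ⟨hfin, ?_⟩
    rw [tS_X₃] at hrk
    rw [hrk, r20, r10, Module.finrank_zero_of_subsingleton, Nat.zero_sub, Nat.add_zero]
    push_cast
    rfl
  · -- `H^d`
    have s1d : Subsingleton (Coh.HH (CohB1.ProjSpace (d + 1) F) (tS F (d + 1) I n).X₁ d) :=
      subsingleton_X₁ F (d + 1) I k e n d (by omega) (by omega)
    have s2d : Subsingleton (Coh.HH (CohB1.ProjSpace (d + 1) F) (tS F (d + 1) I n).X₂ d) :=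
      subsingleton_X₂ F (d + 1) I n d (by omega) (by omega)
    obtain ⟨hfin, hrk⟩ := finrank_X₃ F (tS F (d + 1) I n) hS d
      (fun x y _ => Subsingleton.elim x y)
      (surjective_f_top F (d + 1) I k e n) inferInstance f1N
    refine ⟨hfin, ?_⟩
    rw [tS_X₃] at hrk
    rw [hrk, r1N, r2N, Module.finrank_zero_of_subsingleton, Nat.zero_sub, Nat.zero_add]
    have h1 : ((k : ℤ) - 2 - (d : ℤ) - n) + ((d : ℤ) + 1) = -(n - (k : ℤ)) - 1 := by ring
    have h2 : ((k : ℤ) - 2 - (d : ℤ) - n) - (k : ℤ) + ((d : ℤ) + 1) = -n - 1 := by ring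
    rw [h1, h2]

end Groth.Agent.S19434
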