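import Groth.Statements.S10865
import Groth.Agent.Lib.Helper4DevM

set_option autoImplicit false
set_option linter.style.haveILetI false
universe u
open Coherent

namespace Groth.Agent.S10865

attribute [local instance] CategoryTheory.Abelian.hasFiniteBiproducts

open CategoryTheory CategoryTheory.Limits AlgebraicGeometry in
/-- Let X be a nonempty Noetherian scheme and K an isomorphism-closed class of O_X-modules such that (a)
in a short exact sequence of coherent modules, if the middle and right terms lie in K so does the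
left one, and if the two outer terms lie in K so does the middle one; (b) if a coherent F has some
d-fold direct sum (d ≥ 1) in K then F lies in K. If for every integral closed subscheme i : Z → X
there is a coherent O_Z-module with nonzero stalk at the generic point whose direct image under i
lies in K, then every coherent O_X-module lies in K. (For the empty scheme the hypotheses hold for
the empty class, so X is taken nonempty here.) -/
theorem result (X : Scheme.{u}) [IsNoetherian X] [Nonempty X]
    (K : ObjectProperty X.Modules) [K.IsClosedUnderIsomorphisms]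
    (ha : ∀ S : ShortComplex X.Modules, S.ShortExact → Coh.IsCoh S.X₁ → Coh.IsCoh S.X₂ → Coh.IsCoh S.X₃ →
      (K S.X₂ → K S.X₃ → K S.X₁) ∧ (K S.X₁ → K S.X₃ → K S.X₂))
    (hb : ∀ (F : X.Modules) (d : ℕ), 1 ≤ d → Coh.IsCoh F → K (∐ fun _ : Fin d => F) → K F)
    (hgen : ∀ (Z : Scheme.{u}) (i : Z ⟶ X) [IsClosedImmersion i] [IsIntegral Z],
      ∃ H : Z.Modules, Coh.IsCoh H ∧ Nontrivial (H.presheaf.stalk (genericPoint Z)) ∧
        K ((Scheme.Modules.pushforward i).obj H))
    (F : X.Modules) (hF : Coh.IsCoh F) : K F := by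
  haveI : IsLocallyNoetherian X := inferInstance
  have hiso : ∀ M N : X.Modules, Nonempty (M ≅ N) → K M → K N := fun M N ⟨e⟩ h => K.prop_of_iso e h
  have hker : ∀ S : CategoryTheory.ShortComplex X.Modules, S.ShortExact → Coh.IsCoh S.X₁ →
      Coh.IsCoh S.X₂ → Coh.IsCoh S.X₃ → K S.X₂ → K S.X₃ → K S.X₁ :=
    fun S hS c1 c2 c3 => (ha S hS c1 c2 c3).1
  have hext : ∀ S : CategoryTheory.ShortComplex X.Modules, S.ShortExact → Coh.IsCoh S.X₁ →
      Coh.IsCoh S.X₂ → Coh.IsCoh S.X₃ → K S.X₁ → K S.X₃ → K S.X₂ :=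
    fun S hS c1 c2 c3 => (ha S hS c1 c2 c3).2
  have hpow : ∀ (Q : X.Modules) (r : ℕ), 0 < r → Coh.IsCoh Q →
      K (CategoryTheory.Limits.biproduct fun _ : Fin r => Q) → K Q := by
    intro Q r hr hQ h
    exact hb Q r hr hQ (K.prop_of_iso (CategoryTheory.Limits.biproduct.isoCoproduct _) h)
  have hzero : ∀ M₀ : X.Modules, CategoryTheory.Limits.IsZero M₀ → K M₀ := by
    intro M₀ hM₀
    obtain ⟨x⟩ := ‹Nonempty X›
    obtain ⟨Z, i, hi, hZ, -, -⟩ := Groth.Agent.Lib.Helper4.Dev.exists_integral_closed x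
    obtain ⟨H, hH, -, hKG⟩ := hgen Z i
    have hG := Groth.Agent.Lib.Helper4.Dev.isCoh_push_closed i H hH
    have hS := Groth.Agent.Lib.Helper4.Dev.shortExact_zero_id M₀
      ((AlgebraicGeometry.Scheme.Modules.pushforward i).obj H) hM₀
    exact hker _ hS (Groth.Agent.Lib.Helper4.Dev.isCoh_of_isZero hM₀ hG) hG hG hKG hKG
  refine Groth.Agent.Lib.Helper4.Dev.noetherian_induction_coh (fun M => K M) Set.univ hiso hzero
    (fun S hS c1 c2 c3 _ => hext S hS c1 c2 c3) ?_ F hF (Set.subset_univ _)
  intro y _ IH E hE hsE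
  refine Groth.Agent.Lib.Helper4.Dev.ideal_step' (fun M => K M) Set.univ hiso
    (fun S hS c1 c2 c3 _ => hext S hS c1 c2 c3) y (Set.subset_univ _) IH ?_ E hE hsE
  intro Z i _ _ hrange hgenpt hkeri I ι hι _ hInz hIc
  subst hgenpt
  obtain ⟨H, hH, hnt, hKG⟩ := hgen Z i
  exact Groth.Agent.Lib.Helper4.Dev.K_ideal_of_gen (fun M => K M) hker hext hpow i IH hrange hkeri
    H hH hnt hKG I ι hι hInz hIc

end Groth.Agent.S10865
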