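import Groth.Statements.S1349
import Groth.Agent.Lib.Helper5SliceListMain
import Groth.Agent.Lib.Helper5CMAffSp
import Groth.Agent.Lib.Helper5OpenImmSm
import Groth.Agent.Lib.Helper5FibMorLoci

set_option autoImplicit false
universe u
open FlatMor

namespace Groth.Agent.S1349

open AlgebraicGeometry CategoryTheory Limits in
theorem fiberMap_injective {Y X S : Scheme.{u}} (g : Y ⟶ X) (f : X ⟶ S) (s : S)
    (hg : Function.Injective g) : Function.Injective (MoreMor.fiberMap g f s) := by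
  intro w w' h
  have hw := (Groth.Agent.Lib.Helper5.FibMorLoci.isPullback_fiberMap g f s).w
  have h1 : g ((g ≫ f).fiberι s w) = g ((g ≫ f).fiberι s w') := by
    rw [← Scheme.Hom.comp_apply, ← Scheme.Hom.comp_apply, hw, Scheme.Hom.comp_apply,
      Scheme.Hom.comp_apply, h]
  exact ((g ≫ f).fiberι s).isEmbedding.injective (hg h1)

open AlgebraicGeometry CategoryTheory Limits in
/-- Let f be locally of finite presentation and Cohen–Macaulay at a point x which is closed in its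
fibre. Then there are an open neighbourhood V of x and a regular closed immersion i into V whose
image contains x, such that the composite Z ⟶ V ⟶ X ⟶ S is flat, locally of finite presentation and
locally quasi-finite, and x is the only point of (the image of) Z lying over the image of x. -/
theorem result {X S : Scheme.{u}} (f : X ⟶ S) [LocallyOfFinitePresentation f] (x : X)
    (hcm : MoreMor.IsCMAt f x) (hcl : IsClosed ({f.asFiber x} : Set ↑(f.fiber (f x)))) :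
    ∃ (V : X.Opens) (Z : Scheme.{u}) (i : Z ⟶ (V : Scheme.{u})), Mor2.IsRegularClosedImmersion i ∧ x ∈ Set.range ⇑(i ≫ V.ι) ∧
      Flat (i ≫ V.ι ≫ f) ∧ LocallyOfFinitePresentation (i ≫ V.ι ≫ f) ∧ LocallyQuasiFinite (i ≫ V.ι ≫ f) ∧
      ∀ z : Z, f (V.ι (i z)) = f x → V.ι (i z) = x := by
  classical
  obtain ⟨hflat, hCM⟩ := hcm
  obtain ⟨U₁, hU₁, rs₁, y₁, hy₁, hflat₁, hlfp₁, hCM₁, hdim₁, Hshrink⟩ :=
    Groth.Agent.Lib.Helper5.SliceListMain.exists_cm_slice f x hflat hCM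
  subst hy₁
  clear hflat hCM
  have hinj₁ : Function.Injective (Groth.Agent.Lib.Helper5.SliceListGeo.sliceι hU₁
      (Ideal.ofList rs₁)) := Groth.Agent.Lib.Helper5.SliceListGeo.sliceι_injective hU₁ _
  set i₁ := Groth.Agent.Lib.Helper5.SliceListGeo.sliceι hU₁ (Ideal.ofList rs₁) with hi₁
  haveI : Flat (i₁ ≫ f) := hflat₁
  haveI : LocallyOfFinitePresentation (i₁ ≫ f) := hlfp₁
  haveI : LocallyOfFiniteType (i₁ ≫ f) := inferInstance
  -- the point is isolated in its fibre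
  have hcl₁ : IsClosed ({(i₁ ≫ f).asFiber y₁} : Set ((i₁ ≫ f).fiber ((i₁ ≫ f) y₁))) := by
    have hinj := fiberMap_injective i₁ f (f (i₁ y₁)) hinj₁
    have h1 : ({(i₁ ≫ f).asFiber y₁} : Set ((i₁ ≫ f).fiber ((i₁ ≫ f) y₁))) =
        (MoreMor.fiberMap i₁ f (f (i₁ y₁))) ⁻¹' {f.asFiber (i₁ y₁)} := by
      ext w
      simp only [Set.mem_singleton_iff, Set.mem_preimage]
      constructor
      · rintro rfl
        exact Groth.Agent.Lib.Helper5.OpenImmSm.fiberMap_asFiber i₁ f y₁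
      · intro h
        exact hinj (h.trans (Groth.Agent.Lib.Helper5.OpenImmSm.fiberMap_asFiber i₁ f y₁).symm)
    rw [h1]
    exact hcl.preimage (MoreMor.fiberMap i₁ f (f (i₁ y₁))).continuous
  haveI := Groth.Agent.Lib.Helper5.CMAffSp.isLocallyNoetherian_fiber (i₁ ≫ f) ((i₁ ≫ f) y₁)
  have hopen_pt : IsOpen ({(i₁ ≫ f).asFiber y₁} : Set ((i₁ ≫ f).fiber ((i₁ ≫ f) y₁))) :=
    Groth.Agent.Lib.Helper5.SliceListCM.isOpen_singleton_of_isClosed_of_dim_zero _ _ hcl₁ hdim₁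
  have hqf₁ : (i₁ ≫ f).QuasiFiniteAt y₁ :=
    Scheme.Hom.quasiFiniteAt_iff_isOpen_singleton_asFiber.mpr hopen_pt
  have hqf_open : IsOpen {y | (i₁ ≫ f).QuasiFiniteAt y} := (i₁ ≫ f).isOpen_quasiFiniteAt
  obtain ⟨O, hO, hOeq⟩ :=
    ((i₁ ≫ f).fiberι ((i₁ ≫ f) y₁)).isEmbedding.isInducing.isOpen_iff.mp hopen_pt
  have hy₁O : y₁ ∈ O := by
    have h1 : (i₁ ≫ f).asFiber y₁ ∈ ((i₁ ≫ f).fiberι ((i₁ ≫ f) y₁)) ⁻¹' O := by
      rw [hOeq]
      exact Set.mem_singleton _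
    have h2 : (i₁ ≫ f).fiberι ((i₁ ≫ f) y₁) ((i₁ ≫ f).asFiber y₁) ∈ O := h1
    rwa [(i₁ ≫ f).fiberι_asFiber y₁] at h2
  have hOuniq : ∀ z, z ∈ O → (i₁ ≫ f) z = (i₁ ≫ f) y₁ → z = y₁ := by
    intro z hzO hz
    have hzr : z ∈ Set.range ((i₁ ≫ f).fiberι ((i₁ ≫ f) y₁)) := by
      rw [Scheme.Hom.range_fiberι]
      exact hz
    obtain ⟨w, rfl⟩ := hzr
    have hw : w ∈ ((i₁ ≫ f).fiberι ((i₁ ≫ f) y₁)) ⁻¹' O := hzO
    rw [hOeq, Set.mem_singleton_iff] at hw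
    rw [hw]
    exact (i₁ ≫ f).fiberι_asFiber y₁
  obtain ⟨U, hU, rs, ι, hι, hyι, hιG, hcomp, hreg⟩ :=
    Hshrink ({y | (i₁ ≫ f).QuasiFiniteAt y} ∩ O) (hqf_open.inter hO) ⟨hqf₁, hy₁O⟩
  obtain ⟨y, hy⟩ := hyι
  have hj : (Spec.map (CommRingCat.ofHom (Ideal.Quotient.mk (Ideal.ofList rs))) ≫
      hU.isoSpec.inv) ≫ U.ι = ι ≫ i₁ := by
    rw [hcomp, Category.assoc]
    rfl
  have hq : (Spec.map (CommRingCat.ofHom (Ideal.Quotient.mk (Ideal.ofList rs))) ≫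
      hU.isoSpec.inv) ≫ U.ι ≫ f = ι ≫ i₁ ≫ f := by
    rw [← Category.assoc, hj, Category.assoc]
  refine ⟨U, _, Spec.map (CommRingCat.ofHom (Ideal.Quotient.mk (Ideal.ofList rs))) ≫
    hU.isoSpec.inv, hreg, ⟨y, ?_⟩, ?_, ?_, ?_, ?_⟩
  · rw [hj, Scheme.Hom.comp_apply, hy]
  · rw [hq]
    infer_instance
  · rw [hq]
    infer_instance
  · rw [hq]
    haveI : LocallyOfFiniteType (ι ≫ i₁ ≫ f) := inferInstance
    rw [← Scheme.Hom.quasiFiniteLocus_eq_top_iff, eq_top_iff]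
    intro y' _
    show (ι ≫ i₁ ≫ f).QuasiFiniteAt y'
    rw [Scheme.Hom.quasiFiniteAt_comp_iff_of_isOpenImmersion]
    exact (hιG ⟨y', rfl⟩).1
  · intro z hz
    have h1 : U.ι ((Spec.map (CommRingCat.ofHom (Ideal.Quotient.mk (Ideal.ofList rs))) ≫
        hU.isoSpec.inv) z) = i₁ (ι z) := by
      rw [← Scheme.Hom.comp_apply, hj, Scheme.Hom.comp_apply]
    rw [h1] at hz ⊢
    have h2 := hOuniq (ι z) (hιG ⟨z, rfl⟩).2 hz
    rw [h2]

end Groth.Agent.S1349
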