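import Groth.Statements.S2353
import Groth.Agent.Lib.Helper4DVRRef2

set_option autoImplicit false
universe u
open CategoryTheory CategoryTheory.Limits AlgebraicGeometry
open EGA2

namespace Groth.Agent.S2353

/-- Let Y be an integral separated locally Noetherian scheme, X an integral separated scheme and f : X →
Y dominant and of finite type, with generic point ξ of X. Suppose that for every discrete valuation
subring R of the function field K(X) and every point y of Y such that R dominates the local ring
O_{Y,y} (through O_{Y,y} → O_{Y,f(ξ)} → K(X): the image lies in R and the maximal ideal maps into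
the maximal ideal of R), there is a point x of X whose local ring is dominated by R (through O_{X,x}
→ K(X)). Then f is proper. -/
theorem result {X Y : Scheme.{u}} [IsIntegral X] [IsIntegral Y] [X.IsSeparated] [Y.IsSeparated]
    [IsLocallyNoetherian Y] (f : X ⟶ Y) [IsDominant f] [LocallyOfFiniteType f] [QuasiCompact f]
    (h : ∀ (R : ValuationSubring X.functionField), IsDiscreteValuationRing R →
      ∀ (y : Y) (hy : f.base (genericPoint X) ⤳ y), ((∀ a : (Y.presheaf.stalk y), (Y.presheaf.stalkSpecializes hy ≫ f.stalkMap (genericPoint X)).hom a ∈ R) ∧ ∀ a ∈ IsLocalRing.maximalIdeal (Y.presheaf.stalk y), R.valuation ((Y.presheaf.stalkSpecializes hy ≫ f.stalkMap (genericPoint X)).hom a) < 1) →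
        ∃ x : X, ((∀ a : (X.presheaf.stalk x), algebraMap (X.presheaf.stalk x) X.functionField a ∈ R) ∧ ∀ a ∈ IsLocalRing.maximalIdeal (X.presheaf.stalk x), R.valuation (algebraMap (X.presheaf.stalk x) X.functionField a) < 1)) :
    IsProper f := by
  have hsep : IsSeparated f := inferInstance
  have huc : UniversallyClosed f := by
    refine UniversallyClosed.of_valuativeCriterion f
      (Groth.Agent.Lib.Helper4.DVRRef.existence_of_dvr_refined f fun x => ?_)
    have hbij : Function.Bijective (X.residue (genericPoint X)).hom :=
      ⟨RingHom.injective (R := X.functionField) _, X.residue_surjective _⟩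
    let e : X.functionField ≃+* X.residueField (genericPoint X) :=
      RingEquiv.ofBijective (X.residue (genericPoint X)).hom hbij
    let φ : X.residueField (genericPoint X) ⟶ CommRingCat.of X.functionField :=
      CommRingCat.ofHom (e.symm : X.residueField (genericPoint X) →+* X.functionField)
    have hφres : X.residue (genericPoint X) ≫ φ = 𝟙 _ := by
      ext a; exact e.symm_apply_apply a
    have hφ : Spec.map φ ≫ X.fromSpecResidueField (genericPoint X) =
        X.fromSpecStalk (genericPoint X) := by
      rw [Scheme.fromSpecResidueField, ← Spec.map_comp_assoc, hφres, Spec.map_id]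
      exact Category.id_comp _
    refine ⟨genericPoint X, genericPoint_specializes x, X.functionField, inferInstance, φ,
      (RingHom.FiniteType.of_surjective _ e.symm.surjective).essFiniteType, ?_⟩
    intro V hV y hy
    have := hV
    rw [← Category.assoc, hφ] at hy
    rw [hφ]
    -- the centre on `Y`
    let y₀ : Y := y (IsLocalRing.closedPoint (CommRingCat.of V))
    have hy₀ : f.base (genericPoint X) ⤳ y₀ := by
      have h1 : f.base (genericPoint X) = y (Spec.map (CommRingCat.ofHom V.subtype)
          (IsLocalRing.closedPoint (CommRingCat.of X.functionField))) := by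
        rw [← Scheme.Hom.comp_apply, hy, Scheme.Hom.comp_apply, Scheme.fromSpecStalk_closedPoint]
      rw [h1]
      exact (IsLocalRing.specializes_closedPoint (R := V) _).map y.continuous
    have hkey : Scheme.stalkClosedPointTo y ≫ CommRingCat.ofHom V.subtype =
        Y.presheaf.stalkSpecializes hy₀ ≫ f.stalkMap (genericPoint X) := by
      have hmono : Mono (Y.fromSpecStalk y₀) := inferInstance
      apply Spec.map_injective
      rw [← cancel_mono (Y.fromSpecStalk y₀)]
      rw [Spec.map_comp, Category.assoc, Scheme.Spec_stalkClosedPointTo_fromSpecStalk, hy,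
        Spec.map_comp, Category.assoc, Scheme.SpecMap_stalkSpecializes_fromSpecStalk,
        Scheme.SpecMap_stalkMap_fromSpecStalk]
    obtain ⟨x₁, hx1, hx2⟩ := h V hV y₀ hy₀ ⟨fun a => by
        rw [← hkey]; exact ((Scheme.stalkClosedPointTo y).hom a).2,
      fun a ha => by
        rw [← hkey, ← ValuationSubring.mem_nonunits_iff,
          ValuationSubring.mem_nonunits_iff_exists_mem_maximalIdeal]
        refine ⟨((Scheme.stalkClosedPointTo y).hom a).2, ?_⟩
        have hloc : IsLocalHom (Scheme.stalkClosedPointTo y).hom := inferInstance
        have hna : ¬ IsUnit ((Scheme.stalkClosedPointTo y).hom a) := fun hu =>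
          (IsLocalRing.mem_maximalIdeal a).mp ha (hloc.map_nonunit a hu)
        exact (IsLocalRing.mem_maximalIdeal _).mpr hna⟩
    -- the lift
    let ψ : X.presheaf.stalk x₁ ⟶ CommRingCat.of V :=
      CommRingCat.ofHom ((algebraMap (X.presheaf.stalk x₁) X.functionField).codRestrict
        V.toSubring hx1)
    have hψ : ψ ≫ CommRingCat.ofHom V.subtype =
        X.presheaf.stalkSpecializes (genericPoint_specializes x₁) := rfl
    let l : Spec (CommRingCat.of V) ⟶ X := Spec.map ψ ≫ X.fromSpecStalk x₁
    have hl2 : Spec.map (CommRingCat.ofHom V.subtype) ≫ l = X.fromSpecStalk (genericPoint X) := by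
      rw [← Category.assoc, ← Spec.map_comp, hψ, Scheme.SpecMap_stalkSpecializes_fromSpecStalk]
    refine ⟨l, ?_, hl2⟩
    have hdom : IsDominant (Spec.map (CommRingCat.ofHom V.subtype)) := by
      constructor
      change DenseRange (PrimeSpectrum.comap V.subtype)
      rw [PrimeSpectrum.denseRange_comap_iff_ker_le_nilRadical]
      intro a ha
      have : a = 0 := Subtype.val_injective (by simpa using ha)
      rw [this]; exact zero_mem _
    exact ext_of_isDominant (Spec.map (CommRingCat.ofHom V.subtype))
      (by rw [← Category.assoc, hl2, hy])
  exact { }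

end Groth.Agent.S2353
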