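import Groth.Statements.S4721
import Groth.Agent.Lib.Helper28Hartshorne
-- import your own Groth.Agent.* helpers here

set_option autoImplicit false
universe u
open EGA4

namespace Groth.Agent.S4721
open Groth.Agent.Lib.Helper28

/-- Extract a chain from the reflexive-transitive closure. -/
theorem exists_chain_of_reflTransGen {α : Type*} (S : α → Prop) (R : α → α → Prop) (a : α)
    (ha : S a) (hR : ∀ x y, R x y → S y) (b : α) (h : Relation.ReflTransGen R a b) :
    ∃ (n : ℕ) (c : Fin (n + 1) → α), c 0 = a ∧ c (Fin.last n) = b ∧ (∀ i, S (c i)) ∧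
      ∀ i : Fin n, R (c i.castSucc) (c i.succ) := by
  induction h with
  | refl => exact ⟨0, fun _ => a, rfl, rfl, fun _ => ha, fun i => i.elim0⟩
  | tail hab hbc ih =>
    rename_i b c'
    obtain ⟨n, c, h0, hl, hS, hstep⟩ := ih
    refine ⟨n + 1, Fin.snoc (α := fun _ => α) c c', ?_, ?_, ?_, ?_⟩
    · have : (0 : Fin (n + 2)) = Fin.castSucc (0 : Fin (n + 1)) := rfl
      rw [this, Fin.snoc_castSucc]
      exact h0
    · exact Fin.snoc_last (α := fun _ => α) _ _
    · intro i
      refine Fin.lastCases ?_ (fun j => ?_) i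
      · rw [Fin.snoc_last]
        exact hR _ _ hbc
      · rw [Fin.snoc_castSucc]
        exact hS j
    · intro i
      refine Fin.lastCases ?_ (fun j => ?_) i
      · rw [Fin.snoc_castSucc, Fin.succ_last, Fin.snoc_last, hl]
        exact hbc
      · rw [Fin.snoc_castSucc, ← Fin.castSucc_succ, Fin.snoc_castSucc]
        exact hstep j

/-- Let A be a Noetherian ring whose spectrum is connected and d a natural number such that for every
prime p of height at least d the local ring A_p has depth at least 2. Then for any two distinct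
minimal primes p', p'' of A there is a finite chain of minimal primes starting at p' and ending at
p'' such that any two consecutive members are both contained in a prime ideal of height at most d −
1 (the spectrum is connected in codimension at most d − 1). -/
theorem result (A : Type u) [CommRing A] [IsNoetherianRing A]
    [ConnectedSpace (PrimeSpectrum A)] (d : ℕ)
    (h : ∀ (p : Ideal A) [p.IsPrime], (d : ℕ∞) ≤ p.height →
      (2 : ℕ∞) ≤ LocCoh.depth (Localization.AtPrime p) (Localization.AtPrime p))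
    (p' p'' : Ideal A) (hp' : p' ∈ minimalPrimes A) (hp'' : p'' ∈ minimalPrimes A) (hne : p' ≠ p'') :
    ∃ (n : ℕ) (c : Fin (n + 1) → Ideal A), c 0 = p' ∧ c (Fin.last n) = p'' ∧ (∀ i, c i ∈ minimalPrimes A) ∧
      ∀ i : Fin n, ∃ (q : Ideal A) (_ : q.IsPrime),
        c i.castSucc ≤ q ∧ c i.succ ≤ q ∧ q.height + 1 ≤ (d : ℕ∞) := by
  classical
  set R : Ideal A → Ideal A → Prop := fun a b => a ∈ minimalPrimes A ∧ b ∈ minimalPrimes A ∧
    ∃ (q : Ideal A) (_ : q.IsPrime), a ≤ q ∧ b ≤ q ∧ q.height + 1 ≤ (d : ℕ∞) with hR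
  have hfin : (minimalPrimes A).Finite := minimalPrimes.finite_of_isNoetherianRing A
  set F : Finset (Ideal A) := hfin.toFinset with hF
  have hFmem : ∀ P, P ∈ F ↔ P ∈ minimalPrimes A := fun P => hfin.mem_toFinset
  set F1 : Finset (Ideal A) := F.filter (fun P => Relation.ReflTransGen R p' P) with hF1
  set F2 : Finset (Ideal A) := F.filter (fun P => ¬ Relation.ReflTransGen R p' P) with hF2
  have key : Relation.ReflTransGen R p' p'' := by
    by_contra hcon
    have hp''F2 : p'' ∈ F2 := Finset.mem_filter.mpr ⟨(hFmem p'').mpr hp'', hcon⟩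
    have hp'F1 : p' ∈ F1 := Finset.mem_filter.mpr ⟨(hFmem p').mpr hp', Relation.ReflTransGen.refl⟩
    set I : Ideal A := F1.inf id with hI
    set J : Ideal A := F2.inf id with hJ
    have hIp' : I ≤ p' := Finset.inf_le (f := id) hp'F1
    have hJp'' : J ≤ p'' := Finset.inf_le (f := id) hp''F2
    have hF12 : ∀ P, P ∈ minimalPrimes A → P ∈ F1 ∨ P ∈ F2 := by
      intro P hP
      by_cases hPc : Relation.ReflTransGen R p' P
      · exact Or.inl (Finset.mem_filter.mpr ⟨(hFmem P).mpr hP, hPc⟩)
      · exact Or.inr (Finset.mem_filter.mpr ⟨(hFmem P).mpr hP, hPc⟩)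
    have hF1min : ∀ P ∈ F1, P ∈ minimalPrimes A := fun P hP =>
      (hFmem P).mp (Finset.mem_filter.mp hP).1
    have hF2min : ∀ P ∈ F2, P ∈ minimalPrimes A := fun P hP =>
      (hFmem P).mp (Finset.mem_filter.mp hP).1
    have hdisj : ∀ P, P ∈ F1 → P ∈ F2 → False := fun P h1 h2 =>
      (Finset.mem_filter.mp h2).2 (Finset.mem_filter.mp h1).2
    -- connectedness: `V(I) ∩ V(J)` is nonempty
    have hcover : (Set.univ : Set (PrimeSpectrum A)) ⊆
        PrimeSpectrum.zeroLocus (I : Set A) ∪ PrimeSpectrum.zeroLocus (J : Set A) := by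
      intro x _
      obtain ⟨P, hPmin, hPx⟩ := Ideal.exists_minimalPrimes_le (I := ⊥) (J := x.asIdeal) bot_le
      rcases hF12 P hPmin with h1 | h2
      · left
        rw [PrimeSpectrum.mem_zeroLocus]
        exact (Finset.inf_le (f := id) h1 : I ≤ P).trans hPx
      · right
        rw [PrimeSpectrum.mem_zeroLocus]
        exact (Finset.inf_le (f := id) h2 : J ≤ P).trans hPx
    have hconn := (isPreconnected_closed_iff.mp
      (PreconnectedSpace.isPreconnected_univ (α := PrimeSpectrum A)))
      _ _ (PrimeSpectrum.isClosed_zeroLocus (I : Set A)) (PrimeSpectrum.isClosed_zeroLocus (J : Set A))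
      hcover
      ⟨⟨p', hp'.1.1⟩, trivial, (PrimeSpectrum.mem_zeroLocus _ _).mpr hIp'⟩
      ⟨⟨p'', hp''.1.1⟩, trivial, (PrimeSpectrum.mem_zeroLocus _ _).mpr hJp''⟩
    obtain ⟨x, -, hxI, hxJ⟩ := hconn
    rw [PrimeSpectrum.mem_zeroLocus] at hxI hxJ
    have hIJx : I ⊔ J ≤ x.asIdeal := sup_le hxI hxJ
    obtain ⟨q, hqmin, -⟩ := Ideal.exists_minimalPrimes_le hIJx
    have hqprime : q.IsPrime := hqmin.1.1
    have hIq : I ≤ q := le_sup_left.trans hqmin.1.2
    have hJq : J ≤ q := le_sup_right.trans hqmin.1.2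
    obtain ⟨p1, hp1F1, hp1q⟩ := (Ideal.IsPrime.inf_le' hqprime).mp hIq
    obtain ⟨p2, hp2F2, hp2q⟩ := (Ideal.IsPrime.inf_le' hqprime).mp hJq
    have hdq : (d : ℕ∞) ≤ q.height := by
      by_contra hlt
      rw [not_le] at hlt
      have hle : q.height + 1 ≤ (d : ℕ∞) := Order.add_one_le_of_lt hlt
      have hR12 : R p1 p2 := ⟨hF1min p1 hp1F1, hF2min p2 hp2F2, q, hqprime, hp1q, hp2q, hle⟩
      exact (Finset.mem_filter.mp hp2F2).2
        (Relation.ReflTransGen.tail (Finset.mem_filter.mp hp1F1).2 hR12)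
    exact not_two_le_depth_of_mem_minimalPrimes_sup_inf F1 F2 hF12 hF1min hF2min hdisj q hqmin
      (h q hdq)
  obtain ⟨n, c, h0, hl, hS, hstep⟩ := exists_chain_of_reflTransGen (fun P => P ∈ minimalPrimes A)
    R p' hp' (fun x y hxy => hxy.2.1) p'' key
  exact ⟨n, c, h0, hl, hS, fun i => (hstep i).2.2⟩

end Groth.Agent.S4721
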