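import Groth.Statements.S0377
import Groth.Agent.Lib.Helper5PolyB
import Groth.Agent.Lib.Helper17DRingAdj1
import Groth.Agent.S1772

set_option autoImplicit false
universe u v
open CategoryTheory
attribute [local instance] HasDerivedCategory.standard
open Dual

namespace Groth.Agent.S0377

open scoped Polynomial in
private lemma exists_of_surjective {R R' : Type u} [CommRing R] [CommRing R'] (f : R →+* R')
    (hf : Function.Surjective f) (h : ∃ ω : Dual.D R, Dual.IsDualizing R ω) :
    ∃ ω' : Dual.D R', Dual.IsDualizing R' ω' := by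
  obtain ⟨ω, hω⟩ := h
  haveI := hω.isNoetherianRing
  letI := f.toAlgebra
  haveI : IsNoetherianRing R' := isNoetherianRing_of_surjective R R' f hf
  haveI : Module.Finite R R' := Module.Finite.of_surjective (Algebra.linearMap R R') hf
  obtain ⟨RG, ⟨adj⟩⟩ :=
    Groth.Agent.Lib.Helper17.DRingAdj.exists_rightAdjoint_restrictD (algebraMap R R')
  exact ⟨RG.obj ω, Groth.Agent.S1772.result R R' RG adj ω hω⟩

open scoped Polynomial in
private lemma exists_poly {R : Type u} [CommRing R] (h : ∃ ω : Dual.D R, Dual.IsDualizing R ω) :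
    ∃ ω' : Dual.D R[X], Dual.IsDualizing R[X] ω' := by
  obtain ⟨ω, hω⟩ := h
  haveI := hω.isNoetherianRing
  exact ⟨_, Groth.Agent.Lib.Helper5.Poly.isDualizing_extD_poly ω hω⟩

private lemma exists_mvPoly {R : Type u} [CommRing R]
    (h : ∃ ω : Dual.D R, Dual.IsDualizing R ω) :
    ∀ n : ℕ, ∃ ω' : Dual.D (MvPolynomial (Fin n) R), Dual.IsDualizing (MvPolynomial (Fin n) R) ω'
  | 0 => exists_of_surjective
      ((MvPolynomial.isEmptyAlgEquiv R (Fin 0)).symm : R →+* MvPolynomial (Fin 0) R)
      (MvPolynomial.isEmptyAlgEquiv R (Fin 0)).symm.surjective h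
  | n + 1 => exists_of_surjective
      ((MvPolynomial.finSuccEquiv R n).symm :
        Polynomial (MvPolynomial (Fin n) R) →+* MvPolynomial (Fin (n + 1)) R)
      (MvPolynomial.finSuccEquiv R n).symm.surjective (exists_poly (exists_mvPoly h n))

/-- If a Noetherian ring A has a dualizing complex then so does every A-algebra essentially of finite
type. -/
theorem result (A : Type u) [CommRing A] [IsNoetherianRing A] (ω : Dual.D A) (hω : Dual.IsDualizing A ω) (B : Type u) [CommRing B] [Algebra A B] [Algebra.EssFiniteType A B] : ∃ ω' : Dual.D B, Dual.IsDualizing B ω' := by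
  haveI := hω.isNoetherianRing
  obtain ⟨n, f, hf⟩ := Algebra.FiniteType.iff_quotient_mvPolynomial''.1
    (inferInstance : Algebra.FiniteType A (Algebra.EssFiniteType.subalgebra A B))
  obtain ⟨ω1, hω1⟩ := exists_of_surjective f.toRingHom hf (exists_mvPoly ⟨ω, hω⟩ n)
  haveI := hω1.isNoetherianRing
  haveI : Module.Flat (Algebra.EssFiniteType.subalgebra A B) B :=
    IsLocalization.flat B (Algebra.EssFiniteType.submonoid A B)
  exact ⟨_, Groth.Agent.Lib.Helper5.LocD.isDualizing_extD
    (Algebra.EssFiniteType.submonoid A B) B ω1 hω1⟩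

end Groth.Agent.S0377
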