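import Groth.Statements.S0608
import Mathlib
import Groth.Agent.S5802
-- import your own Groth.Agent.* helpers here

set_option autoImplicit false
universe u
open RRAlg

namespace Groth.Agent.S0608.Aux

set_option autoImplicit false

namespace LT


open MvPolynomial RingTheory.Sequence
open scoped Pointwise

attribute [local instance] MvPolynomial.gradedAlgebra

section basics

variable {A : Type u} [CommRing A] {n : ℕ}

/-- generators -/
def gens (a : Fin n → A) : Set (MvPolynomial (Fin n) A) :=
  {q | ∃ i j : Fin n, q = C (a i) * X j - C (a j) * X i}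

/-- the ideal of linear relations -/
noncomputable def aa (a : Fin n → A) : Ideal (MvPolynomial (Fin n) A) := Ideal.span (gens a)

lemma gens_homog (a : Fin n → A) : ∀ q ∈ gens a, q.IsHomogeneous 1 := by
  rintro q ⟨i, j, rfl⟩
  exact (isHomogeneous_C_mul_X _ _).sub (isHomogeneous_C_mul_X _ _)

lemma aa_homog (a : Fin n → A) : (aa a).IsHomogeneous (homogeneousSubmodule (Fin n) A) := by
  apply Ideal.homogeneous_span
  intro q hq
  exact ⟨1, gens_homog a q hq⟩

lemma eval_aa (a : Fin n → A) {q : MvPolynomial (Fin n) A} (hq : q ∈ aa a) : eval a q = 0 := by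
  have : aa a ≤ RingHom.ker (eval a) := by
    apply Ideal.span_le.mpr
    rintro q ⟨i, j, rfl⟩
    simp only [SetLike.mem_coe, RingHom.mem_ker, map_sub, map_mul, eval_C, eval_X]
    ring
  exact this hq

lemma comp_mem_span_singleton (g : MvPolynomial (Fin n) A) {k : ℕ} (hg : g.IsHomogeneous k)
    {p : MvPolynomial (Fin n) A} (hp : p ∈ Ideal.span {g}) (d : ℕ) :
    homogeneousComponent d p ∈ Ideal.span {g} := by
  apply homogeneousComponent_mem_of_mem _ hp
  apply Ideal.homogeneous_span
  intro q hq
  rw [Set.mem_singleton_iff] at hq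
  subst hq
  exact ⟨k, hg⟩

lemma homog_of_X_mul (i : Fin n) (Q : MvPolynomial (Fin n) A) (d : ℕ)
    (h : (X i * Q).IsHomogeneous (d + 1)) : Q.IsHomogeneous d := by
  intro m hm
  have h1 : coeff (Finsupp.single i 1 + m) (X i * Q) ≠ 0 := by rwa [coeff_X_mul]
  have h2 := h h1
  have key : ∀ m : Fin n →₀ ℕ, Finsupp.weight (1 : Fin n → ℕ) m = m.degree := fun m => by
    rw [Finsupp.degree_eq_weight_one]; rfl
  rw [key] at h2 ⊢
  rw [map_add, Finsupp.degree_single] at h2
  omega

/-- conversion of `a 0 * T` -/
lemma lemmaM (a : Fin (n + 1) → A) (d : ℕ) (W : MvPolynomial (Fin (n + 1)) A)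
    (hW : W.IsHomogeneous (d + 1)) :
    ∃ G ∈ aa a, ∃ Q : MvPolynomial (Fin (n + 1)) A, Q.IsHomogeneous d ∧
      C (a 0) * W = G + X 0 * Q := by
  classical
  rw [← support_sum_monomial_coeff W, Finset.mul_sum]
  refine Finset.sum_induction _ (fun T => ∃ G ∈ aa a, ∃ Q : MvPolynomial (Fin (n + 1)) A,
    Q.IsHomogeneous d ∧ T = G + X 0 * Q) ?_ ?_ ?_
  · rintro T1 T2 ⟨G1, hG1, Q1, hQ1, rfl⟩ ⟨G2, hG2, Q2, hQ2, rfl⟩
    exact ⟨G1 + G2, (aa a).add_mem hG1 hG2, Q1 + Q2, hQ1.add hQ2, by ring⟩
  · exact ⟨0, (aa a).zero_mem, 0, isHomogeneous_zero _ _ _, by simp⟩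
  · intro m hm
    have hdeg : m.degree = d + 1 := by
      rw [Finsupp.degree_eq_weight_one]; exact hW (mem_support_iff.mp hm)
    obtain ⟨i, hi⟩ : ∃ i, m i ≠ 0 := by
      by_contra hcon
      push Not at hcon
      have : m = 0 := Finsupp.ext hcon
      rw [this] at hdeg
      simp at hdeg
    set m' : Fin (n + 1) →₀ ℕ := m - Finsupp.single i 1 with hm'
    have hmm : m = Finsupp.single i 1 + m' := by
      ext j
      by_cases hj : j = i
      · subst hj
        simp only [hm', Finsupp.coe_add, Finsupp.coe_tsub, Pi.add_apply, Pi.sub_apply,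
          Finsupp.single_eq_same]
        omega
      · simp [hm', Finsupp.single_eq_of_ne hj, Finsupp.single_eq_of_ne (Ne.symm hj)]
    have hd' : m'.degree = d := by
      have := congrArg Finsupp.degree hmm
      rw [map_add, Finsupp.degree_single, hdeg] at this
      omega
    set M : MvPolynomial (Fin (n + 1)) A := monomial m' (coeff m W) with hM
    have hMh : M.IsHomogeneous d := isHomogeneous_monomial _ hd'
    have hmon : monomial m (coeff m W) = X i * M := by
      rw [hM]
      have : monomial m (coeff m W) = monomial (Finsupp.single i 1 + m') (coeff m W) := by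
        rw [← hmm]
      rw [this, monomial_single_add, pow_one]
    rw [hmon]
    by_cases hi0 : i = 0
    · subst hi0
      exact ⟨0, (aa a).zero_mem, C (a 0) * M, hMh.C_mul _, by ring⟩
    · refine ⟨(C (a 0) * X i - C (a i) * X 0) * M, ?_, C (a i) * M, hMh.C_mul _, by ring⟩
      exact Ideal.mul_mem_right _ _ (Ideal.subset_span ⟨0, i, rfl⟩)

end basics

section main

lemma isWeaklyRegular_cons_iff_quot {A : Type u} [CommRing A] (r : A) (rs : List A) :
    IsWeaklyRegular A (r :: rs) ↔ IsSMulRegular A r ∧
      IsWeaklyRegular (A ⧸ Ideal.span {r}) (rs.map (Ideal.Quotient.mk (Ideal.span {r}))) := by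
  rw [isWeaklyRegular_cons_iff]
  refine and_congr_right' ?_
  have h : r • (⊤ : Submodule A A) = Ideal.span {r} := by
    rw [← Submodule.ideal_span_singleton_smul]; simp
  refine AddEquiv.isWeaklyRegular_congr (e := (Submodule.quotEquivOfEq _ _ h).toAddEquiv) ?_
  refine List.forall₂_map_right_iff.mpr <| List.forall₂_same.mpr fun a _ z => ?_
  obtain ⟨z, rfl⟩ := Submodule.Quotient.mk_surjective _ z
  rfl

variable {A : Type u} [CommRing A] {n : ℕ} (a : Fin (n + 1) → A)

/-- kill `X 0` and reduce modulo `a 0` -/
noncomputable def theta :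
    MvPolynomial (Fin (n + 1)) A →+* MvPolynomial (Fin n) (A ⧸ Ideal.span {a 0}) :=
  eval₂Hom (C.comp (Ideal.Quotient.mk (Ideal.span {a 0}))) (Fin.cons 0 X)

lemma theta_C (c : A) : theta a (C c) = C (Ideal.Quotient.mk (Ideal.span {a 0}) c) := by
  simp [theta]

lemma theta_X0 : theta a (X 0) = 0 := by simp [theta]

lemma theta_Xs (j : Fin n) : theta a (X j.succ) = X j := by simp [theta]

/-- the reduced tail -/
def abar : Fin n → A ⧸ Ideal.span {a 0} := fun j => Ideal.Quotient.mk _ (a j.succ)

lemma mk_a0 : Ideal.Quotient.mk (Ideal.span {a 0}) (a 0) = 0 :=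
  Ideal.Quotient.eq_zero_iff_mem.mpr (Ideal.mem_span_singleton_self _)

lemma eval_theta (P : MvPolynomial (Fin (n + 1)) A) :
    eval (abar a) (theta a P) = Ideal.Quotient.mk (Ideal.span {a 0}) (eval a P) := by
  have : (eval (abar a)).comp (theta a) = (Ideal.Quotient.mk (Ideal.span {a 0})).comp (eval a) := by
    apply ringHom_ext
    · intro c; simp [theta_C]
    · intro i
      refine Fin.cases ?_ (fun j => ?_) i
      · simp [theta_X0, mk_a0]
      · simp [theta_Xs, abar]
  exact RingHom.congr_fun this P

lemma theta_homog (P : MvPolynomial (Fin (n + 1)) A) (d : ℕ) (hP : P.IsHomogeneous d) :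
    (theta a P).IsHomogeneous d := by
  have := hP.eval₂ (C.comp (Ideal.Quotient.mk (Ideal.span {a 0})))
    (Fin.cons 0 X : Fin (n + 1) → MvPolynomial (Fin n) (A ⧸ Ideal.span {a 0}))
    (fun r => isHomogeneous_C _ _) (n := 1) (fun i => by
      refine Fin.cases ?_ (fun j => ?_) i
      · simpa using isHomogeneous_zero _ _ _
      · simpa using isHomogeneous_X _ j)
  rw [one_mul] at this
  exact this

lemma theta_surj : Function.Surjective (theta a) := by
  intro y
  induction y using MvPolynomial.induction_on with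
  | C c =>
    obtain ⟨c, rfl⟩ := Ideal.Quotient.mk_surjective c
    exact ⟨C c, theta_C a c⟩
  | add p q hp hq =>
    obtain ⟨p', rfl⟩ := hp
    obtain ⟨q', rfl⟩ := hq
    exact ⟨p' + q', map_add _ _ _⟩
  | mul_X p j hp =>
    obtain ⟨p', rfl⟩ := hp
    exact ⟨p' * X j.succ, by rw [map_mul, theta_Xs]⟩

lemma ker_theta_le : RingHom.ker (theta a) ≤ Ideal.span {X 0, C (a 0)} := by
  set K : Ideal (MvPolynomial (Fin (n + 1)) A) := Ideal.span {X 0, C (a 0)} with hK
  have hC : ∀ x ∈ Ideal.span {a 0}, ((Ideal.Quotient.mk K).comp C) x = 0 := by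
    intro x hx
    obtain ⟨y, rfl⟩ := Ideal.mem_span_singleton'.mp hx
    rw [RingHom.comp_apply, Ideal.Quotient.eq_zero_iff_mem, map_mul]
    exact Ideal.mul_mem_left _ _ (Ideal.subset_span (by simp))
  let ψ : MvPolynomial (Fin n) (A ⧸ Ideal.span {a 0}) →+* (MvPolynomial (Fin (n + 1)) A ⧸ K) :=
    eval₂Hom (Ideal.Quotient.lift (Ideal.span {a 0}) ((Ideal.Quotient.mk K).comp C) hC)
      (fun j => Ideal.Quotient.mk K (X j.succ))
  have hψ : ψ.comp (theta a) = Ideal.Quotient.mk K := by
    apply ringHom_ext
    · intro c; simp [ψ, theta_C]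
    · intro i
      refine Fin.cases ?_ (fun j => ?_) i
      · rw [RingHom.comp_apply, theta_X0, map_zero]
        symm
        rw [Ideal.Quotient.eq_zero_iff_mem]
        exact Ideal.subset_span (by simp)
      · simp [ψ, theta_Xs]
  intro Q hQ
  rw [RingHom.mem_ker] at hQ
  have := RingHom.congr_fun hψ Q
  rw [RingHom.comp_apply, hQ, map_zero] at this
  exact Ideal.Quotient.eq_zero_iff_mem.mp this.symm

lemma aa_le_map : aa (abar a) ≤ Ideal.map (theta a) (aa a) := by
  apply Ideal.span_le.mpr
  rintro q ⟨i, j, rfl⟩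
  have : C (abar a i) * X j - C (abar a j) * X i =
      theta a (C (a i.succ) * X j.succ - C (a j.succ) * X i.succ) := by
    simp [theta_C, theta_Xs, abar]
  rw [this]
  exact Ideal.mem_map_of_mem _ (Ideal.subset_span ⟨i.succ, j.succ, rfl⟩)

end main

theorem claim : ∀ (n : ℕ) (A : Type u) [CommRing A] (a : Fin n → A),
    IsWeaklyRegular A (List.ofFn a) →
    ∀ (d : ℕ) (P : MvPolynomial (Fin n) A), P.IsHomogeneous d → eval a P = 0 → P ∈ aa a := by
  intro n
  induction n with
  | zero =>
    intro A _ a _ d P _ h0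
    have hPC := MvPolynomial.eq_C_of_isEmpty P
    rw [hPC] at h0 ⊢
    rw [eval_C] at h0
    rw [h0, map_zero]
    exact Ideal.zero_mem _
  | succ n ih =>
    intro A _ a hreg d
    rw [List.ofFn_succ, isWeaklyRegular_cons_iff_quot, List.map_ofFn] at hreg
    obtain ⟨hreg0, hregt⟩ := hreg
    induction d with
    | zero =>
      intro P hP h0
      have h1 : P.totalDegree = 0 := (totalDegree_zero_iff_isHomogeneous _).mpr hP
      rw [totalDegree_eq_zero_iff_eq_C] at h1
      rw [h1] at h0 ⊢
      rw [eval_C] at h0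
      rw [h0, map_zero]
      exact Ideal.zero_mem _
    | succ d ihd =>
      intro P hP h0
      -- step 1: reduce
      have h1 : theta a P ∈ aa (abar a) := by
        apply ih (A ⧸ Ideal.span {a 0}) (abar a) hregt (d + 1) _ (theta_homog a P _ hP)
        rw [eval_theta, h0, map_zero]
      obtain ⟨G, hG, hGP⟩ := (Ideal.mem_map_iff_of_surjective _ (theta_surj a)).mp (aa_le_map a h1)
      have h2 : P - G ∈ Ideal.span {X 0, C (a 0)} := by
        apply ker_theta_le a
        rw [RingHom.mem_ker, map_sub, hGP, sub_self]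
      rw [Ideal.span_insert, Submodule.mem_sup] at h2
      obtain ⟨u1, hu1, u2, hu2, hu⟩ := h2
      -- homogeneous components
      have hPc : homogeneousComponent (d + 1) P = P := homogeneousComponent_eq_self hP
      have hdec : P = homogeneousComponent (d + 1) G + homogeneousComponent (d + 1) u1 +
          homogeneousComponent (d + 1) u2 := by
        have : P = G + u1 + u2 := by rw [add_assoc, hu]; ring
        conv_lhs => rw [← hPc, this]
        rw [map_add, map_add]
      have hGc : homogeneousComponent (d + 1) G ∈ aa a :=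
        homogeneousComponent_mem_of_mem (aa_homog a) hG _
      have hu1c := comp_mem_span_singleton (X 0 : MvPolynomial (Fin (n + 1)) A)
        (isHomogeneous_X _ _) hu1 (d + 1)
      have hu2c := comp_mem_span_singleton (C (a 0) : MvPolynomial (Fin (n + 1)) A)
        (isHomogeneous_C _ _) hu2 (d + 1)
      obtain ⟨Q1, hQ1⟩ := Ideal.mem_span_singleton'.mp hu1c
      obtain ⟨W, hW⟩ := Ideal.mem_span_singleton'.mp hu2c
      have hQ1h : Q1.IsHomogeneous d := by
        apply homog_of_X_mul 0 Q1 d
        rw [mul_comm, hQ1]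
        exact homogeneousComponent_isHomogeneous _ _
      have hW' : homogeneousComponent (d + 1) u2 =
          C (a 0) * homogeneousComponent (d + 1) W := by
        have := homogeneousComponent_eq_self (homogeneousComponent_isHomogeneous (d + 1) u2)
        rw [← this, ← hW, mul_comm, homogeneousComponent_C_mul]
      obtain ⟨G2, hG2, Q2, hQ2h, hQ2⟩ := lemmaM a d _ (homogeneousComponent_isHomogeneous (d + 1) W)
      have hP' : P = (homogeneousComponent (d + 1) G + G2) + X 0 * (Q1 + Q2) := by
        rw [hdec, hW', hQ2, ← hQ1]; ring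
      have hQ0 : eval a (Q1 + Q2) = 0 := by
        have h3 := congrArg (eval a) hP'
        rw [h0, map_add, eval_aa a ((aa a).add_mem hGc hG2), zero_add, map_mul, eval_X] at h3
        exact (hreg0.right_eq_zero_of_smul (show a 0 • eval a (Q1 + Q2) = 0 from h3.symm))
      rw [hP']
      exact (aa a).add_mem ((aa a).add_mem hGc hG2)
        (Ideal.mul_mem_left _ _ (ihd (Q1 + Q2) (hQ1h.add hQ2h) hQ0))

theorem main {A : Type u} [CommRing A] {n : ℕ} (a : Fin n → A)
    (ha : IsWeaklyRegular A (List.ofFn a)) :
    RingHom.ker (MvPolynomial.aeval (R := A)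
      (fun i : Fin n => Polynomial.C (a i) * (Polynomial.X : Polynomial A))) =
      Ideal.span {q : MvPolynomial (Fin n) A | ∃ i j : Fin n,
        q = MvPolynomial.C (a i) * MvPolynomial.X j - MvPolynomial.C (a j) * MvPolynomial.X i} := by
  classical
  set φ := aeval (R := A) (fun i : Fin n => Polynomial.C (a i) * (Polynomial.X : Polynomial A)) with hφ
  change RingHom.ker φ = aa a
  have hform : ∀ (d : ℕ) (Q : MvPolynomial (Fin n) A), Q.IsHomogeneous d →
      φ Q = Polynomial.C (eval a Q) * Polynomial.X ^ d := by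
    intro d Q hQ
    have h1 := Groth.Agent.S5802.Aux.QR.hom_scale (S := Polynomial A) Q hQ Polynomial.X
      (fun i => Polynomial.C (a i))
    have h2 : aeval (fun i => Polynomial.C (a i)) Q = Polynomial.C (eval a Q) := by
      have := aeval_algebraMap_apply (B := Polynomial A) a Q
      simpa [Polynomial.algebraMap_eq, Function.comp_def, aeval_eq_eval] using this
    have h3 : (fun i : Fin n => Polynomial.C (a i) * (Polynomial.X : Polynomial A)) =
        fun i => Polynomial.X * Polynomial.C (a i) := funext fun i => mul_comm _ _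
    rw [hφ, h3, h1, h2, mul_comm]
  apply le_antisymm
  · intro P hP
    rw [RingHom.mem_ker] at hP
    rw [← sum_homogeneousComponent P]
    refine Ideal.sum_mem _ fun k _ => ?_
    apply claim n A a ha k _ (homogeneousComponent_isHomogeneous k P)
    have h1 : φ P = ∑ i ∈ Finset.range (P.totalDegree + 1),
        Polynomial.C (eval a (homogeneousComponent i P)) * Polynomial.X ^ i := by
      conv_lhs => rw [← sum_homogeneousComponent P, map_sum]
      exact Finset.sum_congr rfl fun i _ => hform i _ (homogeneousComponent_isHomogeneous i P)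
    have h2 := congrArg (fun p => Polynomial.coeff p k) h1
    simp only [hP, Polynomial.coeff_zero, Polynomial.finset_sum_coeff,
      Polynomial.coeff_C_mul_X_pow, Finset.sum_ite_eq] at h2
    by_cases hk : k ∈ Finset.range (P.totalDegree + 1)
    · rw [if_pos hk] at h2
      exact h2.symm
    · rw [homogeneousComponent_eq_zero, map_zero]
      rw [Finset.mem_range] at hk
      omega
  · apply Ideal.span_le.mpr
    rintro q ⟨i, j, rfl⟩
    rw [SetLike.mem_coe, RingHom.mem_ker, hφ]
    simp only [map_sub, map_mul, aeval_C, aeval_X, Polynomial.algebraMap_eq]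
    ring

end LT

end Groth.Agent.S0608.Aux

namespace Groth.Agent.S0608

/-- Let a_1, …, a_n be a weakly regular sequence in a commutative ring A (each a_i is a non-zero-divisor
modulo (a_1, …, a_(i−1)); the a_i are allowed to generate the unit ideal). Then the kernel of the
A-algebra map A[X_1, …, X_n] → A[T] sending X_i to a_i·T, whose image is the Rees algebra of the
ideal (a_1, …, a_n), is the ideal generated by the elements a_i X_j − a_j X_i. (The published
statement assumes a regular sequence; only weak regularity is assumed here.) -/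
theorem result {A : Type u} [CommRing A] {n : ℕ} (a : Fin n → A)
    (ha : RingTheory.Sequence.IsWeaklyRegular A (List.ofFn a)) :
    RingHom.ker (MvPolynomial.aeval (R := A)
      (fun i : Fin n => Polynomial.C (a i) * (Polynomial.X : Polynomial A))) =
      Ideal.span {q : MvPolynomial (Fin n) A | ∃ i j : Fin n,
        q = MvPolynomial.C (a i) * MvPolynomial.X j - MvPolynomial.C (a j) * MvPolynomial.X i} := by
  exact Aux.LT.main a ha

end Groth.Agent.S0608
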