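import Groth.Statements.S5803
import Mathlib
import Groth.Agent.S0608
import Groth.Agent.S2104
-- import your own Groth.Agent.* helpers here

set_option autoImplicit false
universe u
open EGA41

namespace Groth.Agent.S5803.Aux

set_option autoImplicit false

namespace QW
open MvPolynomial RingTheory.Sequence

section
variable {A : Type u} [CommRing A]

lemma qr_zero {c : ℕ} (f : Fin c → A) (P : MvPolynomial (Fin c) A) (hP : P.IsHomogeneous 0)
    (hmem : eval f P ∈ Ideal.span (Set.range f) ^ (0 + 1)) (d : Fin c →₀ ℕ) :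
    P.coeff d ∈ Ideal.span (Set.range f) := by
  classical
  have h1 : P.totalDegree = 0 := (totalDegree_zero_iff_isHomogeneous _).mpr hP
  rw [totalDegree_eq_zero_iff_eq_C] at h1
  rw [h1] at hmem ⊢
  rw [eval_C, zero_add, pow_one] at hmem
  rw [coeff_C]
  split_ifs
  · exact hmem
  · exact Ideal.zero_mem _

lemma colon {c : ℕ} (f : Fin (c + 1) → A) (hq : CAlgX.IsQuasiRegular f) (ω : A) :
    ∀ i ν : ℕ, i + 1 ≤ ν → f 0 * ω ∈ Ideal.span (Set.range f) ^ ν →
      ω ∈ Ideal.span (Set.range f) ^ i := by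
  intro i
  induction i with
  | zero => intro ν _ _; simp
  | succ i ih =>
    intro ν hν hmem
    have h1 := ih ν (by omega) hmem
    obtain ⟨H, hH, hHω⟩ := (Ideal.mem_span_pow_iff_exists_isHomogeneous f ω).mp h1
    have hXH : (X 0 * H).IsHomogeneous (i + 1) := by
      have h := (isHomogeneous_X A (0 : Fin (c + 1))).mul hH
      rwa [add_comm 1 i] at h
    have hev : eval f (X 0 * H) ∈ Ideal.span (Set.range f) ^ (i + 1 + 1) := by
      rw [map_mul, eval_X, hHω]
      exact Ideal.pow_le_pow_right hν hmem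
    have hco := hq (i + 1) (X 0 * H) hXH hev
    have hcoH : ∀ m, coeff m H ∈ Ideal.span (Set.range f) := by
      intro m
      have := hco (Finsupp.single 0 1 + m)
      rwa [coeff_X_mul] at this
    have := Groth.Agent.S2104.Aux.APP.EV f (Ideal.span (Set.range f)) i H hH hcoH
    rw [hHω] at this
    rw [pow_succ']; exact this

theorem quot_qr {c : ℕ} (f : Fin (c + 1) → A) (hq : CAlgX.IsQuasiRegular f) :
    CAlgX.IsQuasiRegular (fun i : Fin c => Ideal.Quotient.mk (Ideal.span {f 0}) (f i.succ)) := by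
  classical
  intro n Pb hPb hmem d
  rcases n with _ | n
  · exact qr_zero _ Pb hPb hmem d
  set J := Ideal.span (Set.range f) with hJ
  set f' : Fin c → A := fun i => f i.succ with hf'
  set J₁ := Ideal.span (Set.range f') with hJ₁
  have hJ₁J : J₁ ≤ J := Ideal.span_mono (by rintro _ ⟨i, rfl⟩; exact ⟨i.succ, rfl⟩)
  have hJ' : Ideal.span (Set.range fun i : Fin c => Ideal.Quotient.mk (Ideal.span {f 0}) (f i.succ))
      = J₁.map (Ideal.Quotient.mk (Ideal.span {f 0})) := by
    rw [Ideal.map_span, ← Set.range_comp]; rfl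
  have hJmap : J.map (Ideal.Quotient.mk (Ideal.span {f 0})) =
      J₁.map (Ideal.Quotient.mk (Ideal.span {f 0})) := by
    have : J = Ideal.span {f 0} ⊔ J₁ := by
      rw [hJ, hJ₁, ← Ideal.span_union]; congr 1
      ext x; constructor
      · rintro ⟨i, rfl⟩
        refine Fin.cases ?_ (fun j => ?_) i
        · left; rfl
        · right; exact ⟨j, rfl⟩
      · rintro (h | ⟨j, rfl⟩)
        · exact ⟨0, h.symm⟩
        · exact ⟨j.succ, rfl⟩
    rw [this, Ideal.map_sup, Ideal.map_span, Set.image_singleton]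
    have : Ideal.Quotient.mk (Ideal.span {f 0}) (f 0) = 0 :=
      Ideal.Quotient.eq_zero_iff_mem.mpr (Ideal.mem_span_singleton_self _)
    rw [this]; simp
  rw [hJ'] at hmem ⊢
  -- lift Pb
  let s : A ⧸ Ideal.span {f 0} → A := Function.surjInv Ideal.Quotient.mk_surjective
  have hs : ∀ b, Ideal.Quotient.mk (Ideal.span {f 0}) (s b) = b :=
    Function.surjInv_eq Ideal.Quotient.mk_surjective
  set G₀ : MvPolynomial (Fin c) A := ∑ e ∈ Pb.support, monomial e (s (coeff e Pb)) with hG₀
  have hG₀hom : G₀.IsHomogeneous (n + 1) := by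
    apply IsHomogeneous.sum
    intro e he
    apply isHomogeneous_monomial
    rw [Finsupp.degree_eq_weight_one]
    exact hPb (mem_support_iff.mp he)
  have hG₀map : map (Ideal.Quotient.mk (Ideal.span {f 0})) G₀ = Pb := by
    rw [hG₀, map_sum]
    simp only [map_monomial, hs]
    exact support_sum_monomial_coeff Pb
  have hcoeff : ∀ e, Ideal.Quotient.mk (Ideal.span {f 0}) (coeff e G₀) = coeff e Pb := by
    intro e; rw [← coeff_map, hG₀map]
  have hevmk : eval (fun i : Fin c => Ideal.Quotient.mk (Ideal.span {f 0}) (f i.succ)) Pb =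
      Ideal.Quotient.mk (Ideal.span {f 0}) (eval f' G₀) := by
    rw [← hG₀map, eval_map, ← eval₂_id (g := f'), eval₂_comp_left]
    rfl
  rw [hevmk, ← Ideal.map_pow] at hmem
  obtain ⟨h, hh, hhe⟩ := (Ideal.mem_map_iff_of_surjective _ Ideal.Quotient.mk_surjective).mp hmem
  have hdiff : eval f' G₀ - h ∈ Ideal.span {f 0} := by
    rw [← Ideal.Quotient.eq_zero_iff_mem, map_sub, hhe, sub_self]
  obtain ⟨ω, hω⟩ := Ideal.mem_span_singleton'.mp hdiff
  have hG₀ev : eval f' G₀ ∈ J₁ ^ (n + 1) :=
    (Ideal.mem_span_pow_iff_exists_isHomogeneous f' _).mpr ⟨G₀, hG₀hom, rfl⟩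
  have hfω : f 0 * ω ∈ J ^ (n + 1) := by
    rw [mul_comm, hω]
    refine Ideal.sub_mem _ (Ideal.pow_right_mono hJ₁J _ hG₀ev) ?_
    exact Ideal.pow_right_mono hJ₁J _ (Ideal.pow_le_pow_right (Nat.le_succ _) hh)
  have hωn := colon f hq ω n (n + 1) le_rfl hfω
  obtain ⟨W, hW, hWω⟩ := (Ideal.mem_span_pow_iff_exists_isHomogeneous f ω).mp hωn
  set Q : MvPolynomial (Fin (c + 1)) A := rename Fin.succ G₀ - X 0 * W with hQ
  have hQhom : Q.IsHomogeneous (n + 1) := by
    have h1 : (rename Fin.succ G₀).IsHomogeneous (n + 1) := hG₀hom.rename_isHomogeneous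
    have h2 : (X 0 * W).IsHomogeneous (n + 1) := by
      have h := (isHomogeneous_X A (0 : Fin (c + 1))).mul hW
      rwa [add_comm 1 n] at h
    exact (homogeneousSubmodule (Fin (c + 1)) A (n + 1)).sub_mem h1 h2
  have hQev : eval f Q ∈ J ^ (n + 1 + 1) := by
    have : eval f Q = h := by
      rw [hQ, map_sub, eval_rename, map_mul, eval_X, hWω]
      have : eval (f ∘ Fin.succ) G₀ = eval f' G₀ := rfl
      rw [this]
      linear_combination -hω
    rw [this]
    exact Ideal.pow_right_mono hJ₁J _ hh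
  have hQco := hq (n + 1) Q hQhom hQev (d.mapDomain Fin.succ)
  have hQd : coeff (d.mapDomain Fin.succ) Q = coeff d G₀ := by
    rw [hQ, coeff_sub, coeff_rename_mapDomain _ (Fin.succ_injective _), coeff_X_mul']
    rw [if_neg, sub_zero]
    rw [Finsupp.mem_support_iff, not_not]
    apply Finsupp.mapDomain_of_notMem_range
    rintro ⟨j, hj⟩
    exact Fin.succ_ne_zero j hj
  rw [hQd] at hQco
  rw [← hcoeff d, ← hJmap]
  exact Ideal.mem_map_of_mem _ hQco

end

theorem main : ∀ (c : ℕ) (A : Type u) [CommRing A] [IsNoetherianRing A] (f : Fin c → A),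
    (∀ i, f i ∈ Ideal.jacobson (⊥ : Ideal A)) → CAlgX.IsQuasiRegular f →
      IsWeaklyRegular A (List.ofFn f) := by
  intro c
  induction c with
  | zero =>
    intro A _ _ f _ _
    rw [List.ofFn_zero]
    exact IsWeaklyRegular.nil A A
  | succ c ih =>
    intro A _ _ f hf hq
    rw [List.ofFn_succ, Groth.Agent.S0608.Aux.LT.isWeaklyRegular_cons_iff_quot, List.map_ofFn]
    refine ⟨?_, ?_⟩
    · rw [isSMulRegular_iff_right_eq_zero_of_smul]
      intro x hx
      have hall : ∀ i, x ∈ Ideal.span (Set.range f) ^ i := fun i =>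
        colon f hq x i (i + 1) le_rfl (by rw [← smul_eq_mul, hx]; exact Ideal.zero_mem _)
      have hJjac : Ideal.span (Set.range f) ≤ Ideal.jacobson ⊥ :=
        Ideal.span_le.mpr (by rintro _ ⟨i, rfl⟩; exact hf i)
      have hK := Ideal.iInf_pow_smul_eq_bot_of_le_jacobson (M := A) _ hJjac
      have : x ∈ (⨅ i : ℕ, Ideal.span (Set.range f) ^ i • ⊤ : Submodule A A) := by
        rw [Submodule.mem_iInf]; intro i; simpa using hall i
      rw [hK] at this; simpa using this
    · apply ih (A ⧸ Ideal.span {f 0})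
      · intro i
        rw [Ideal.mem_jacobson_bot]
        intro y
        obtain ⟨y, rfl⟩ := Ideal.Quotient.mk_surjective y
        have := (Ideal.mem_jacobson_bot.mp (hf i.succ)) y
        have h2 := this.map (Ideal.Quotient.mk (Ideal.span {f 0}))
        simpa using h2
      · exact quot_qr f hq

end QW

end Groth.Agent.S5803.Aux

namespace Groth.Agent.S5803

/-- Case M = A: let A be a Noetherian ring and (f_i)_{1 ≤ i ≤ c} a finite sequence of elements of the
Jacobson radical of A. Then (f_i) is a regular sequence if it is quasi-regular (and conversely every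
regular sequence is quasi-regular). -/
theorem result (A : Type u) [CommRing A] [IsNoetherianRing A]
    (c : ℕ) (f : Fin c → A) (hf : ∀ i, f i ∈ Ring.jacobson A) (hq : CAlgX.IsQuasiRegular f) :
    RingTheory.Sequence.IsWeaklyRegular A (List.ofFn f) := by
  exact Aux.QW.main c A f (fun i => by rw [Ideal.jacobson_bot]; exact hf i) hq

end Groth.Agent.S5803
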