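import Groth.Statements.S1801
import Groth.Agent.Lib.Helper5RelDualG

set_option autoImplicit false
universe u
open CategoryTheory
open scoped TensorProduct
attribute [local instance] HasDerivedCategory.standard
open Dual2

namespace Groth.Agent.S1801

/-- Flat case (part (2) with (1)(a)–(c) and (2)(b)). Let R → A be a ring map between Noetherian rings
which is flat and of finite type, where φ^!(K) is formed from a presentation ψ : R[x_1, …, x_n] → A
as RHom_P(A, K ⊗^L_R P)[n], assuming the derived base change to P exists and taking for RHom_P(A, −)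
a right adjoint of restriction of scalars along ψ; put ω = φ^!(R). Then: (a) ω has finitely many
nonzero cohomology modules, all finite over A; (b) after restriction of scalars to R, ω is
isomorphic to a bounded complex of flat R-modules (finite tor dimension over R); (c) a ↦ a·id is a
bijection A → End(ω) and ω has no self-maps of nonzero degree; (d) for every ring map R → k to a
field, assuming the derived base change D(A) → D(k ⊗_R A) exists, the base change of ω is a
dualizing complex for k ⊗_R A. -/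
theorem result (R A : Type u) [CommRing R] [CommRing A] [IsNoetherianRing R] [IsNoetherianRing A] [Algebra R A] [Module.Flat R A] (n : ℕ) (ψ : MvPolynomial (Fin n) R →ₐ[R] A) (hψ : Function.Surjective ψ) [DRing.HasLBaseChange (algebraMap R (MvPolynomial (Fin n) R))] (Rψ : Dual.D (MvPolynomial (Fin n) R) ⥤ Dual.D A) (adj : DRing.restrictD ψ.toRingHom ⊣ Rψ) : (∃ a b : ℤ, ∀ i : ℤ, (i < a ∨ b < i) → Subsingleton (Dual.HD A (Dual2.shriekVia n Rψ (Dual.inD R R)) i)) ∧ (∀ i : ℤ, Module.Finite A (Dual.HD A (Dual2.shriekVia n Rψ (Dual.inD R R)) i)) ∧ DRing.HasFiniteTorDimCx R ((DRing.restrictD (algebraMap R A)).obj (Dual2.shriekVia n Rψ (Dual.inD R R))) ∧ (Function.Bijective (fun a : A => a • CategoryTheory.CategoryStruct.id (Dual2.shriekVia n Rψ (Dual.inD R R))) ∧ ∀ i : ℤ, i ≠ 0 → Subsingleton (Dual2.shriekVia n Rψ (Dual.inD R R) ⟶ (Dual2.shriekVia n Rψ (Dual.inD R R))⟦i⟧)) ∧ ∀ (k : Type u) [Field k] [Algebra R k] [DRing.HasLBaseChange (Algebra.TensorProduct.includeRight : A →ₐ[R] k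 ⊗[R] A).toRingHom], Dual.IsDualizing (k ⊗[R] A) ((DRing.LBaseChange (Algebra.TensorProduct.includeRight : A →ₐ[R] k ⊗[R] A).toRingHom).obj (Dual2.shriekVia n Rψ (Dual.inD R R))) := by
  classical
  letI : Algebra (MvPolynomial (Fin n) R) A := ψ.toRingHom.toAlgebra
  haveI : IsScalarTower R (MvPolynomial (Fin n) R) A :=
    IsScalarTower.of_algebraMap_eq (fun a => (ψ.commutes a).symm)
  have hsurj : Function.Surjective (algebraMap (MvPolynomial (Fin n) R) A) := hψ
  obtain ⟨T⟩ := Groth.Agent.Lib.Helper5.RelDual.nonempty_perfRes_of_flat R A n ψ hψ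
  obtain ⟨e0⟩ := Groth.Agent.Lib.Helper5.LocD.lbc_iso_extD (MvPolynomial (Fin n) R)
    (Dual.inD R R)
  let eY : (DRing.LBaseChange (algebraMap R (MvPolynomial (Fin n) R))).obj (Dual.inD R R) ≅
      Dual.inD (MvPolynomial (Fin n) R) (MvPolynomial (Fin n) R) :=
    e0 ≪≫ Groth.Agent.Lib.Helper1.Extend.extDInDIso (A := R) (B := MvPolynomial (Fin n) R) R ≪≫
      Groth.Agent.Lib.Helper5.NormDual.inDIso
        (TensorProduct.AlgebraTensorModule.rid R (MvPolynomial (Fin n) R)
          (MvPolynomial (Fin n) R))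
  obtain ⟨hab, hfin⟩ := Groth.Agent.Lib.Helper5.RelDual.shriek_bounded_finite Rψ adj T _ eY (n : ℤ)
  refine ⟨hab, hfin,
    Groth.Agent.Lib.Helper5.RelDual.shriek_finiteTorDim Rψ adj T _ eY (n : ℤ) R,
    Groth.Agent.Lib.Helper5.RelDual.shriek_selfRefl Rψ adj T _ eY (n : ℤ) hsurj, ?_⟩
  intro k _ _ _
  letI : Algebra (k ⊗[R] MvPolynomial (Fin n) R) (k ⊗[R] A) :=
    (Groth.Agent.Lib.Helper5.RelDual.psiK R k (MvPolynomial (Fin n) R) A).toAlgebra
  have hsurj' : Function.Surjective
      (algebraMap (k ⊗[R] MvPolynomial (Fin n) R) (k ⊗[R] A)) :=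
    Algebra.TensorProduct.map_surjective (f := AlgHom.id k k)
      (g := IsScalarTower.toAlgHom R (MvPolynomial (Fin n) R) A) Function.surjective_id hsurj
  haveI : IsNoetherianRing (k ⊗[R] MvPolynomial (Fin n) R) :=
    Algebra.FiniteType.isNoetherianRing k _
  haveI : IsNoetherianRing (k ⊗[R] A) :=
    isNoetherianRing_of_surjective (k ⊗[R] MvPolynomial (Fin n) R) (k ⊗[R] A)
      (algebraMap _ _) hsurj'
  obtain ⟨e⟩ := Groth.Agent.Lib.Helper5.RelDual.nonempty_restrict_shriek_iso Rψ adj T _ eY (n : ℤ)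
  obtain ⟨a, b, hb⟩ := hab
  obtain ⟨θ⟩ := Groth.Agent.Lib.Helper5.RelDual.nonempty_restrict_lbc_shriek_iso R k T _
    ⟨b, fun i hi => hb i (Or.inr hi)⟩ hfin (n : ℤ) e
  exact Groth.Agent.Lib.Helper5.RelDual.isDualizing_of_restrict_iso hsurj'
    (Groth.Agent.Lib.Helper5.RelDual.isDualizing_inD_tensor_mvPolynomial R k n)
    (Groth.Agent.Lib.Helper5.RelDual.bcPerfRes R k T) _ (n : ℤ) θ

end Groth.Agent.S1801
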