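import Groth.Statements.S3627
import Groth.Agent.Lib.Helper5FiberMor

set_option autoImplicit false
universe u
open CategoryTheory CategoryTheory.Limits AlgebraicGeometry
attribute [local instance] HasDerivedCategory.standard
open Dual3

namespace Groth.Agent.S3627

/-- Let f : X → Y and g : Y → Z be morphisms such that the fibres of f, g and g ∘ f are locally
Noetherian, and let x be a point of X. (1) The composite g ∘ f is Gorenstein at x provided f is so
at x and g is so at f(x). (3) Conversely, if f is flat at x and the composite is Gorenstein there,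
then both factors are Gorenstein: f at x, and g at f(x). -/
theorem result (X Y Z : Scheme.{u}) (f : X ⟶ Y) (g : Y ⟶ Z) (hfibf : ∀ y, IsLocallyNoetherian (f.fiber y)) (hfibg : ∀ y, IsLocallyNoetherian (g.fiber y)) (hfibfg : ∀ z, IsLocallyNoetherian ((f ≫ g).fiber z)) (x : X) : (Dual3.IsGorensteinAt f x → Dual3.IsGorensteinAt g (f x) → Dual3.IsGorensteinAt (f ≫ g) x) ∧ (Dual3.IsGorensteinAt (f ≫ g) x → (f.stalkMap x).hom.Flat → Dual3.IsGorensteinAt f x ∧ Dual3.IsGorensteinAt g (f x)) := by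
  constructor
  · rintro ⟨hf1, hf2⟩ ⟨hg1, hg2⟩
    refine ⟨Groth.Agent.Lib.Helper5.FiberMor.flat_comp f g x hf1 hg1, ?_⟩
    haveI := hfibfg ((f ≫ g) x)
    haveI : IsNoetherianRing ((g.fiber (g (f x))).presheaf.stalk (g.asFiber (f x))) :=
      hg2.toIsNoetherian
    haveI : IsNoetherianRing (((f ≫ g).fiber ((f ≫ g) x)).presheaf.stalk ((f ≫ g).asFiber x)) :=
      inferInstance
    exact (Groth.Agent.Lib.Helper5.FiberMor.comp_iff' f g x
      Groth.Agent.Lib.Helper5.FiberRing.flatLocalIff_gor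
      Groth.Agent.Lib.Helper5.FiberMor.isoInv_gor hf1).mpr ⟨hg2, hf2⟩
  · rintro ⟨h1, h2⟩ hfl
    haveI := hfibg (g (f x))
    haveI : IsNoetherianRing ((g.fiber (g (f x))).presheaf.stalk (g.asFiber (f x))) :=
      inferInstance
    haveI : IsNoetherianRing (((f ≫ g).fiber ((f ≫ g) x)).presheaf.stalk ((f ≫ g).asFiber x)) :=
      h2.toIsNoetherian
    obtain ⟨k1, k2⟩ := (Groth.Agent.Lib.Helper5.FiberMor.comp_iff' f g x
      Groth.Agent.Lib.Helper5.FiberRing.flatLocalIff_gor
      Groth.Agent.Lib.Helper5.FiberMor.isoInv_gor hfl).mp h2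
    exact ⟨⟨hfl, k2⟩, ⟨Groth.Agent.Lib.Helper5.FiberMor.flat_of_comp f g x h1 hfl, k1⟩⟩

end Groth.Agent.S3627
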