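import Groth.Statements.S0404
import Groth.Agent.Lib.Helper3FlatFibDim
import Mathlib

set_option autoImplicit false
universe u
open FlatMor

namespace Groth.Agent.S0404

open AlgebraicGeometry CategoryTheory Limits in
/-- For a flat morphism of finite presentation (here: flat, quasi-compact, quasi-separated and locally
of finite presentation) the dimension of the fibre is a lower semicontinuous function on the target. -/
theorem result {X S : Scheme.{u}} (f : X ⟶ S) [Flat f] [LocallyOfFinitePresentation f] [QuasiCompact f] [QuasiSeparated f] (c : WithBot ℕ∞) :
    IsOpen {s : S | c < topologicalKrullDim (f.fiber s)} := by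
  induction c using WithBot.recBotCoe with
  | bot =>
    convert Groth.Agent.Lib.Helper3.FlatFibDim.isOpen_setOf_le_fibre_dim f 0 using 1
    ext s
    simp only [Set.mem_ofPred_eq]
    constructor
    · intro h
      induction hv : topologicalKrullDim ↥(f.fiber s) using WithBot.recBotCoe with
      | bot => rw [hv] at h; exact absurd h (lt_irrefl _)
      | coe w =>
        have h0 : (0 : ℕ∞) ≤ w := bot_le
        exact_mod_cast WithBot.coe_le_coe.mpr h0
    · intro h
      exact lt_of_lt_of_le (WithBot.bot_lt_coe _) h
  | coe w =>
    by_cases hw : w = ⊤
    · subst hw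
      convert isOpen_empty
      ext s
      simp only [Set.mem_ofPred_eq, Set.mem_empty_iff_false, iff_false, not_lt]
      exact le_top
    · obtain ⟨n, rfl⟩ := ENat.ne_top_iff_exists.mp hw
      convert Groth.Agent.Lib.Helper3.FlatFibDim.isOpen_setOf_le_fibre_dim f (n + 1) using 1
      ext s
      simp only [Set.mem_ofPred_eq]
      rw [Groth.Agent.Lib.Helper3.DimCons.succ_le_iff_not_le, not_le]
      rfl

end Groth.Agent.S0404
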