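import Groth.Statements.S9334
import Mathlib.AlgebraicGeometry.Noetherian
import Mathlib.RingTheory.Spectrum.Prime.Jacobson

set_option autoImplicit false
universe u
open QFin

namespace Groth.Agent.S9334

open AlgebraicGeometry CategoryTheory

/-- In the spectrum of a Noetherian ring a closed point without proper generizations is
isolated. -/
theorem isOpen_singleton_of_isNoetherianRing {R : Type*} [CommRing R] [IsNoetherianRing R]
    (x : PrimeSpectrum R) (h₁ : IsClosed {x}) (h₂ : StableUnderGeneralization {x}) :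
    IsOpen {x} := by
  rw [PrimeSpectrum.isClosed_singleton_iff_isMaximal, ← PrimeSpectrum.isMax_iff] at h₁
  suffices {x} = (⋃ p ∈ { p : PrimeSpectrum R | IsMin p ∧ p ≠ x }, closure {p})ᶜ by
    rw [this, isOpen_compl_iff]
    refine Set.Finite.isClosed_biUnion ?_ (fun _ _ ↦ isClosed_closure)
    exact (PrimeSpectrum.finite_setOfPred_isMin R).subset fun x h ↦ h.1
  ext p
  simp only [Set.mem_singleton_iff, ne_eq, Set.mem_ofPred_eq, Set.compl_iUnion, Set.mem_iInter,
    Set.mem_compl_iff, and_imp, ← specializes_iff_mem_closure, ← PrimeSpectrum.le_iff_specializes,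
    not_imp_not]
  constructor
  · rintro rfl _ _
    rw [PrimeSpectrum.stableUnderGeneralization_singleton, ← PrimeSpectrum.isMin_iff] at h₂
    exact h₂.eq_of_le
  · intro hp
    apply h₁.eq_of_ge
    obtain ⟨q, hq, hq'⟩ := Ideal.exists_minimalPrimes_le (J := p.asIdeal) bot_le
    exact (hp ⟨q, hq.1.1⟩ (PrimeSpectrum.isMin_iff.mpr hq) hq').ge.trans hq'

/-- In a locally Noetherian scheme a closed point without proper generizations is isolated. -/
theorem isOpen_singleton_of_isLocallyNoetherian (F : Scheme.{u}) [IsLocallyNoetherian F] (a : F)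
    (hc : IsClosed ({a} : Set F)) (hg : ∀ x' : F, x' ⤳ a → x' = a) : IsOpen ({a} : Set F) := by
  obtain ⟨_, ⟨U, hU', rfl⟩, haU, -⟩ := F.isBasis_affineOpens.exists_subset_of_mem_open
    (Set.mem_univ a) isOpen_univ
  have hU : IsAffineOpen U := hU'
  have : IsNoetherianRing Γ(F, U) := IsLocallyNoetherian.component_noetherian ⟨U, hU⟩
  let p : ↥(Spec Γ(F, U)) := hU.primeIdealOf ⟨a, haU⟩
  have hpa : hU.fromSpec.base p = a := hU.fromSpec_primeIdealOf ⟨a, haU⟩
  have h1 : IsClosed ({p} : Set ↥(Spec Γ(F, U))) :=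
    (PrimeSpectrum.isClosed_singleton_iff_isMaximal _).mpr
      (hU.primeIdealOf_isMaximal_of_isClosed ⟨a, haU⟩ hc)
  have h2 : StableUnderGeneralization ({p} : Set ↥(Spec Γ(F, U))) := by
    intro q q' hq hq'
    rw [Set.mem_singleton_iff] at hq' ⊢
    rw [hq'] at hq
    have h3 : hU.fromSpec.base q' ⤳ hU.fromSpec.base p := hq.map hU.fromSpec.continuous
    rw [hpa] at h3
    have h4 := hg _ h3
    rw [← hpa] at h4
    exact hU.fromSpec.isOpenEmbedding.injective h4
  have h3 : IsOpen ({p} : Set ↥(Spec Γ(F, U))) :=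
    isOpen_singleton_of_isNoetherianRing (R := Γ(F, U)) p h1 h2
  have h5 := hU.fromSpec.isOpenEmbedding.isOpenMap _ h3
  rwa [Set.image_singleton, hpa] at h5

instance isLocallyNoetherian_fiber {X S : Scheme.{u}} (f : X ⟶ S) [LocallyOfFiniteType f] (s : S) :
    IsLocallyNoetherian (f.fiber s) :=
  inferInstanceAs (IsLocallyNoetherian (Limits.pullback f (S.fromSpecResidueField s)))

open AlgebraicGeometry CategoryTheory in
/-- Let f : X → S be locally of finite type, x ∈ X, and write s = f x. The morphism f is quasi-finite at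
x exactly when x is a closed point of the fibre X_s and no point x' ≠ x of X_s specializes to x. -/
theorem result {X S : Scheme.{u}} (f : X ⟶ S) [LocallyOfFiniteType f] (x : X) :
    f.QuasiFiniteAt x ↔
      (IsClosed ({f.asFiber x} : Set ↑(f.fiber (f.base x))) ∧
        ∀ x' : ↑(f.fiber (f.base x)), x' ⤳ f.asFiber x → x' = f.asFiber x) := by
  constructor
  · intro hx
    have hco := hx.isClopen_singleton_asFiber
    refine ⟨hco.isClosed, fun x' hx' => ?_⟩
    exact hx'.mem_open hco.isOpen (Set.mem_singleton _)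
  · rintro ⟨hc, hg⟩
    rw [Scheme.Hom.quasiFiniteAt_iff_isOpen_singleton_asFiber]
    exact isOpen_singleton_of_isLocallyNoetherian _ _ hc hg

end Groth.Agent.S9334
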