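import Groth.Statements.S9335
import Groth.Agent.S9334

set_option autoImplicit false
universe u
open QFin

namespace Groth.Agent.S9335

open AlgebraicGeometry CategoryTheory

/-- A Noetherian space has finitely many isolated points. -/
theorem finite_isolated {T : Type*} [TopologicalSpace T] [TopologicalSpace.NoetherianSpace T] :
    {a : T | IsOpen ({a} : Set T)}.Finite := by
  set I : Set T := {a : T | IsOpen ({a} : Set T)} with hI
  have hc : IsCompact I := TopologicalSpace.NoetherianSpace.isCompact I
  obtain ⟨t, ht⟩ := hc.elim_finite_subcover (fun a : I => ({(a : T)} : Set T)) (fun a => a.2)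
    (fun a ha => Set.mem_iUnion.mpr ⟨⟨a, ha⟩, rfl⟩)
  refine (t.finite_toSet.image (fun a : I => (a : T))).subset ?_
  intro a ha
  obtain ⟨b, hb⟩ := Set.mem_iUnion.mp (ht ha)
  obtain ⟨hbt, hab⟩ := Set.mem_iUnion.mp hb
  rw [Set.mem_singleton_iff] at hab
  exact ⟨b, hbt, hab.symm⟩

open AlgebraicGeometry CategoryTheory in
/-- If f : X → S is of finite type and s ∈ S, then f is quasi-finite at only finitely many points of the
fibre over s. -/
theorem result {X S : Scheme.{u}} (f : X ⟶ S) [LocallyOfFiniteType f] [QuasiCompact f] (s : S) :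
    {x : ↑X | f.base x = s ∧ f.QuasiFiniteAt x}.Finite := by
  have : IsNoetherian (f.fiber s) := { }
  have hfin : {a : ↑(f.fiber s) | IsOpen ({a} : Set ↑(f.fiber s))}.Finite := finite_isolated
  refine (hfin.image (f.fiberι s).base).subset ?_
  rintro x ⟨hs, hx⟩
  subst hs
  rw [Scheme.Hom.quasiFiniteAt_iff_isOpen_singleton_asFiber] at hx
  exact ⟨f.asFiber x, hx, f.fiberι_asFiber x⟩

end Groth.Agent.S9335
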