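import Groth.Statements.S9205
-- import your own Groth.Agent.* helpers here
import Mathlib
import Groth.Agent.Lib.Helper26UnivClosed

set_option autoImplicit false
universe u
open CategoryTheory CategoryTheory.Limits AlgebraicGeometry
open Lim

namespace Groth.Agent.S9205

open Groth.Agent.Lib.Helper26.UnivClosed

theorem universallyClosed_of_forall_snd {X S : Scheme.{u}} (f : X ⟶ S)
    (h : ∀ (T : Scheme.{u}) (g : T ⟶ S), IsClosedMap (pullback.snd f g).base) :
    UniversallyClosed f := by
  refine ⟨?_⟩
  intro X' Y' i₁ i₂ f' sq
  exact cm_of_isPullback (IsPullback.of_hasPullback f i₂) sq.flip (h _ i₂)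

theorem universallyClosed_of_affineSpace {X S : Scheme.{u}} (f : X ⟶ S) [QuasiCompact f]
    (H : ∀ n : ℕ, IsClosedMap (pullback.snd f (𝔸(ULift.{u} (Fin n); S) ↘ S)).base) :
    UniversallyClosed f :=
  universallyClosed_of_forall_snd f fun _ g => isClosedMap_snd_of_affineSpace f H g

/-- Let f : X → S be a quasi-compact morphism of schemes. Then: f is universally closed if and only if,
whenever g : S' → S is a morphism locally of finite presentation, the projection X ×_S S' → S' is a
closed map; and f is universally closed if and only if for every natural number n the base change X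
×_S A^n_S → A^n_S to affine n-space over S is closed. -/
theorem result {X S : Scheme.{u}} (f : X ⟶ S) [QuasiCompact f] :
    (UniversallyClosed f ↔ ∀ (S' : Scheme.{u}) (g : S' ⟶ S), LocallyOfFinitePresentation g →
        IsClosedMap (pullback.snd f g).base) ∧
      (UniversallyClosed f ↔ ∀ n : ℕ, IsClosedMap (pullback.snd f (𝔸(ULift.{u} (Fin n); S) ↘ S)).base) := by
  have h1 : UniversallyClosed f → ∀ (S' : Scheme.{u}) (g : S' ⟶ S),
      IsClosedMap (pullback.snd f g).base := fun hf S' g =>
    (pullback.snd f g).isClosedMap
  refine ⟨⟨fun hf S' g _ => h1 hf S' g, fun h => ?_⟩,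
    ⟨fun hf n => h1 hf _ _, universallyClosed_of_affineSpace f⟩⟩
  exact universallyClosed_of_affineSpace f fun n => h _ _ inferInstance

end Groth.Agent.S9205
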