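import Groth.Statements.S3445
import Groth.Agent.Lib.Helper3LocusConstrC
import Groth.Agent.Lib.Helper6LfpComp
import Groth.Agent.S9389
import Mathlib

set_option autoImplicit false
open CategoryTheory AlgebraicGeometry
universe u
open EGA43

namespace Groth.Agent.S3445

/-- an open subset of the spectrum of an algebra of finite presentation over a Noetherian ring
is constructible. -/
theorem isConstructible_of_isOpen_spec {A B : CommRingCat.{u}} (φ : A ⟶ B) (hA : IsNoetherianRing A)
    (hφ : φ.hom.FinitePresentation) {T : Set (Spec B)} (hT : IsOpen T) :
    Topology.IsConstructible T := by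
  algebraize [φ.hom]
  haveI : Algebra.FinitePresentation A B := hφ
  haveI : IsNoetherianRing B := Algebra.FiniteType.isNoetherianRing A B
  haveI : TopologicalSpace.NoetherianSpace (Spec B) :=
    inferInstanceAs (TopologicalSpace.NoetherianSpace (PrimeSpectrum B))
  exact IsRetrocompact.isConstructible hT
    (fun U _ _ => TopologicalSpace.NoetherianSpace.isCompact _)

/-- **The quasi-finite locus of a morphism locally of finite presentation is locally
constructible** (it is in fact open; this is the form used for fibrewise statements). -/
theorem isLocallyConstructible_fibre_quasiFiniteLocus {X Y S : Scheme.{u}} (f : X ⟶ Y) (g : Y ⟶ S)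
    [LocallyOfFinitePresentation f]
    [LocallyOfFinitePresentation (f ≫ g)] [QuasiCompact (f ≫ g)] :
    Topology.IsLocallyConstructible {s : S |
      {x | (Limits.pullback.lift (Limits.pullback.fst (f ≫ g) (S.fromSpecResidueField s) ≫ f)
        (Limits.pullback.snd (f ≫ g) (S.fromSpecResidueField s))
        ((Category.assoc _ _ _).trans Limits.pullback.condition) :
        Limits.pullback (f ≫ g) (S.fromSpecResidueField s) ⟶
          Limits.pullback g (S.fromSpecResidueField s)).QuasiFiniteAt x} = Set.univ} := by
  refine Groth.Agent.Lib.Helper3.LocusConstr.isLocallyConstructible_fibre_locus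
    (fun {X Y} f => {x : X | f.QuasiFiniteAt x}) ?_ ?_ ?_ f g
  · intro X Y X' Y' f g g' f' hf hsq
    haveI := hf
    exact Groth.Agent.S9389.result f g g' f' hsq
  · intro X Y U f j hj hf
    ext x
    exact Scheme.Hom.quasiFiniteAt_comp_iff_of_isOpenImmersion
  · intro A B φ hA hφ
    haveI : LocallyOfFinitePresentation (Spec.map φ) := by
      rwa [LocallyOfFinitePresentation.SpecMap_iff]
    exact isConstructible_of_isOpen_spec φ hA hφ (Spec.map φ).isOpen_quasiFiniteAt

open CategoryTheory.Limits in

open CategoryTheory.Limits in
/-- Let g : Y ⟶ S and f : X ⟶ Y be such that X and Y are of finite presentation over S (locally of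
finite presentation, quasi-compact and quasi-separated). For each point s of S let f_s be the
induced morphism from the fibre of f ≫ g over s to the fibre of g over s. Then the set of s for
which f_s is quasi-finite is locally constructible in S. -/
theorem result {X Y S : Scheme.{u}} (f : X ⟶ Y) (g : Y ⟶ S)
    [LocallyOfFinitePresentation g] [QuasiCompact g] [QuasiSeparated g]
    [LocallyOfFinitePresentation (f ≫ g)] [QuasiCompact (f ≫ g)] [QuasiSeparated (f ≫ g)] :
    Topology.IsLocallyConstructible {s : S |
      LocallyQuasiFinite (pullback.lift (pullback.fst (f ≫ g) (S.fromSpecResidueField s) ≫ f) (pullback.snd (f ≫ g) (S.fromSpecResidueField s))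
          ((Category.assoc _ _ _).trans pullback.condition) :
        pullback (f ≫ g) (S.fromSpecResidueField s) ⟶ pullback g (S.fromSpecResidueField s))} := by
  haveI : LocallyOfFiniteType g := inferInstance
  haveI : LocallyOfFinitePresentation f :=
    Groth.Agent.Lib.Helper6.locallyOfFinitePresentation_of_comp (g := g) inferInstance inferInstance
  convert isLocallyConstructible_fibre_quasiFiniteLocus f g using 1
  ext s
  haveI : LocallyOfFiniteType (pullback.lift (pullback.fst (f ≫ g) (S.fromSpecResidueField s) ≫ f)
      (pullback.snd (f ≫ g) (S.fromSpecResidueField s))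
      ((Category.assoc _ _ _).trans pullback.condition) :
      pullback (f ≫ g) (S.fromSpecResidueField s) ⟶ pullback g (S.fromSpecResidueField s)) :=
    MorphismProperty.of_isPullback
      (Groth.Agent.Lib.Helper3.FibreConstr.isPullback_fibreMap f g s) inferInstance
  rw [Set.mem_ofPred_eq, Set.mem_ofPred_eq, ← Scheme.Hom.quasiFiniteLocus_eq_top_iff]
  rw [← SetLike.coe_set_eq]
  rfl

end Groth.Agent.S3445
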