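import Groth.Statements.S3426
import Groth.Agent.Lib.Helper3LocusConstrC
import Groth.Agent.Lib.Helper6LfpComp
import Groth.Agent.S9697
import Groth.Agent.S3444
import Groth.Agent.S3445
import Mathlib

set_option autoImplicit false
open CategoryTheory AlgebraicGeometry
universe u
open EGA43

namespace Groth.Agent.S3426

/-- the unramified locus: points having an open neighbourhood on which `f` is formally
unramified. -/
def unrLocus {X Y : Scheme.{u}} (f : X ⟶ Y) : Set X :=
  {x | ∃ U : X.Opens, x ∈ U ∧ FormallyUnramified (U.ι ≫ f)}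

theorem isOpen_unrLocus {X Y : Scheme.{u}} (f : X ⟶ Y) : IsOpen (unrLocus f) := by
  rw [isOpen_iff_forall_mem_open]
  rintro x ⟨U, hxU, hU⟩
  exact ⟨U, fun y hy => ⟨U, hy, hU⟩, U.2, hxU⟩

theorem unrLocus_eq_univ_iff {X Y : Scheme.{u}} (f : X ⟶ Y) :
    unrLocus f = Set.univ ↔ FormallyUnramified f := by
  constructor
  · intro h
    have h' : ∀ x : X, ∃ U : X.Opens, x ∈ U ∧ FormallyUnramified (U.ι ≫ f) := fun x => by
      have : x ∈ unrLocus f := h ▸ Set.mem_univ x
      exact this
    choose U hxU hU using h'
    refine IsZariskiLocalAtSource.of_iSup_eq_top (P := @FormallyUnramified) U ?_ hU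
    rw [eq_top_iff]
    intro x _
    exact TopologicalSpace.Opens.mem_iSup.mpr ⟨x, hxU x⟩
  · intro h
    rw [Set.eq_univ_iff_forall]
    intro x
    exact ⟨⊤, trivial, IsZariskiLocalAtSource.comp (P := @FormallyUnramified) h _⟩

theorem unrLocus_comp_of_isOpenImmersion {X Y U : Scheme.{u}} (f : X ⟶ Y) (j : U ⟶ X)
    [IsOpenImmersion j] : unrLocus (j ≫ f) = j ⁻¹' unrLocus f := by
  ext x'
  constructor
  · rintro ⟨W', hx', hW'⟩
    refine ⟨j ''ᵁ W', ⟨x', hx', rfl⟩, ?_⟩
    rw [← MorphismProperty.cancel_left_of_respectsIso (P := @FormallyUnramified)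
      (j.isoImage W').hom, Scheme.Hom.isoImage_hom_ι_assoc]
    exact hW'
  · rintro ⟨W, hx, hW⟩
    refine ⟨j ⁻¹ᵁ W, hx, ?_⟩
    rw [← Category.assoc, ← morphismRestrict_ι, Category.assoc]
    exact IsZariskiLocalAtSource.comp (P := @FormallyUnramified) hW _

theorem unrLocus_baseChange {X Y X' Y' : Scheme.{u}} (f : X ⟶ Y) (g : Y' ⟶ Y) (g' : X' ⟶ X)
    (f' : X' ⟶ Y') (hf : LocallyOfFinitePresentation f) (h : IsPullback g' f' f g) :
    unrLocus f' = g' ⁻¹' unrLocus f := by
  refine Groth.Agent.Lib.Helper3.LocusConstr.bc_of_canonical (fun {X Y} f => unrLocus f)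
    (fun f j hj => unrLocus_comp_of_isOpenImmersion f j) ?_ f g g' f' hf h
  intro X Y Y' f g hf
  ext x'
  exact Groth.Agent.S9697.result f g x'

/-- the set of `s` with `f_s` formally unramified is locally constructible. -/
theorem isLocallyConstructible_fibre_formallyUnramified {X Y S : Scheme.{u}} (f : X ⟶ Y)
    (g : Y ⟶ S) [LocallyOfFinitePresentation f]
    [LocallyOfFinitePresentation (f ≫ g)] [QuasiCompact (f ≫ g)] :
    Topology.IsLocallyConstructible {s : S |
      FormallyUnramified
        (Limits.pullback.lift (Limits.pullback.fst (f ≫ g) (S.fromSpecResidueField s) ≫ f)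
        (Limits.pullback.snd (f ≫ g) (S.fromSpecResidueField s))
        ((Category.assoc _ _ _).trans Limits.pullback.condition) :
        Limits.pullback (f ≫ g) (S.fromSpecResidueField s) ⟶
          Limits.pullback g (S.fromSpecResidueField s))} := by
  have key := Groth.Agent.Lib.Helper3.LocusConstr.isLocallyConstructible_fibre_locus
    (fun {X Y} f => unrLocus f) unrLocus_baseChange
    (fun f j hj _ => unrLocus_comp_of_isOpenImmersion f j)
    (fun φ hA hφ => Groth.Agent.S3445.isConstructible_of_isOpen_spec φ hA hφ
      (isOpen_unrLocus (Spec.map φ))) f g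
  convert key using 1
  ext s
  exact (unrLocus_eq_univ_iff _).symm

theorem mono_iff_universallyInjective_and_formallyUnramified {X Y : Scheme.{u}} (f : X ⟶ Y)
    [LocallyOfFiniteType f] : Mono f ↔ UniversallyInjective f ∧ FormallyUnramified f := by
  constructor
  · intro h
    haveI : IsIso (Limits.pullback.diagonal f) := inferInstance
    refine ⟨?_, inferInstance⟩
    rw [UniversallyInjective.iff_diagonal]
    infer_instance
  · rintro ⟨h1, h2⟩
    rw [UniversallyInjective.iff_diagonal] at h1
    haveI : IsIso (Limits.pullback.diagonal f) := by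
      rw [isIso_iff_isOpenImmersion_and_surjective]
      exact ⟨inferInstance, h1⟩
    exact (Limits.pullback.isIso_diagonal_iff f).mp inferInstance

open CategoryTheory.Limits in

open CategoryTheory.Limits in
/-- Let g : Y ⟶ S and f : X ⟶ Y be such that X and Y are of finite presentation over S (locally of
finite presentation, quasi-compact and quasi-separated). For each point s of S let f_s be the
induced morphism from the fibre of f ≫ g over s to the fibre of g over s. Then the set of s for
which f_s is a monomorphism is locally constructible in S. -/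
theorem result {X Y S : Scheme.{u}} (f : X ⟶ Y) (g : Y ⟶ S)
    [LocallyOfFinitePresentation g] [QuasiCompact g] [QuasiSeparated g]
    [LocallyOfFinitePresentation (f ≫ g)] [QuasiCompact (f ≫ g)] [QuasiSeparated (f ≫ g)] :
    Topology.IsLocallyConstructible {s : S |
      Mono (pullback.lift (pullback.fst (f ≫ g) (S.fromSpecResidueField s) ≫ f) (pullback.snd (f ≫ g) (S.fromSpecResidueField s))
          ((Category.assoc _ _ _).trans pullback.condition) :
        pullback (f ≫ g) (S.fromSpecResidueField s) ⟶ pullback g (S.fromSpecResidueField s))} := by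
  haveI : LocallyOfFiniteType g := inferInstance
  haveI : LocallyOfFinitePresentation f :=
    Groth.Agent.Lib.Helper6.locallyOfFinitePresentation_of_comp (g := g) inferInstance inferInstance
  convert (Groth.Agent.S3444.result f g).inter
    (isLocallyConstructible_fibre_formallyUnramified f g) using 1
  ext s
  haveI : LocallyOfFiniteType (pullback.lift (pullback.fst (f ≫ g) (S.fromSpecResidueField s) ≫ f)
      (pullback.snd (f ≫ g) (S.fromSpecResidueField s))
      ((Category.assoc _ _ _).trans pullback.condition) :
      pullback (f ≫ g) (S.fromSpecResidueField s) ⟶ pullback g (S.fromSpecResidueField s)) :=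
    MorphismProperty.of_isPullback
      (Groth.Agent.Lib.Helper3.FibreConstr.isPullback_fibreMap f g s) inferInstance
  exact mono_iff_universallyInjective_and_formallyUnramified _

end Groth.Agent.S3426
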