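import Groth.Statements.S9702
import Groth.Agent.Lib.Helper4GenFinite4

set_option autoImplicit false
set_option linter.style.haveILetI false
universe u
open CategoryTheory CategoryTheory.Limits AlgebraicGeometry
open Mor

namespace Groth.Agent.S9702

/-- Let X, Y be integral and f : X ⟶ Y dominant and locally of finite type, with ξ the generic point of
X (so f ξ is the generic point of Y). Then the following are equivalent: the residue field of ξ is
finite over that of f ξ; some nonempty affine opens U ⊆ X and V ⊆ Y with f(U) ⊆ V have U ⟶ V finite;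
every point of X that f sends to the generic point of Y equals ξ. Under the extra assumption that f
is quasi-compact or separated, these are also equivalent to: f⁻¹(V) ⟶ V is finite for some nonempty
affine open V ⊆ Y. (The published statement also lists transcendence degree 0 of the function field
extension, which for this finitely generated extension is equivalent to finiteness; this row omits
it.) -/
theorem result {X Y : Scheme.{u}} [IsIntegral X] [IsIntegral Y] (f : X ⟶ Y)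
    [IsDominant f] [LocallyOfFiniteType f] :
    let ξ := genericPoint ↥X
    let A := letI := (f.residueFieldMap ξ).hom.toAlgebra
      Module.Finite (Y.residueField (f.base ξ)) (X.residueField ξ)
    let B := ∃ (U : X.Opens) (V : Y.Opens) (hUV : U ≤ f ⁻¹ᵁ V), IsAffineOpen U ∧ IsAffineOpen V ∧
      Nonempty ↥U ∧ IsFinite (f.resLE V U hUV)
    let C := ∀ x : X, f.base x = genericPoint ↥Y → x = ξ
    let D := ∃ V : Y.Opens, IsAffineOpen V ∧ Nonempty ↥V ∧ IsFinite (f ∣_ V)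
    (A ↔ B) ∧ (A ↔ C) ∧ (IsSeparated f ∨ QuasiCompact f → (A ↔ D)) := by
  open Groth.Agent.Lib.Helper4.GenFinite in
  intro ξ A B C D
  have hξη : f.base ξ = genericPoint Y := map_genericPoint_of_isDominant f
  have hηmax : closure {genericPoint Y} ∈ irreducibleComponents (Y : Type u) := by
    rw [(genericPoint_spec Y).def, irreducibleComponents_eq_singleton]
    rfl
  have hXf : IsField (X.presheaf.stalk ξ) := Field.toIsField X.functionField
  have hYf : IsField (Y.presheaf.stalk (f.base ξ)) := by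
    rw [hξη]; exact Field.toIsField Y.functionField
  have hξopen : ∀ U : X.Opens, (U : Set X).Nonempty → ξ ∈ U := fun U hU =>
    ((genericPoint_spec X).mem_open_set_iff U.isOpen).mpr (by simpa using hU)
  have hAQ : A ↔ f.QuasiFiniteAt ξ := (quasiFiniteAt_iff_finite_residueFieldMap f ξ hXf hYf).symm
  have hQC : f.QuasiFiniteAt ξ ↔ C := by
    rw [quasiFiniteAt_genericPoint_iff]
    change (∀ x : X, f.base x = f.base ξ → x = ξ) ↔ _
    rw [hξη]
  -- an affine neighbourhood of `η` and of `ξ`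
  obtain ⟨_, ⟨V₀, hV₀, rfl⟩, hηV₀, -⟩ :=
    Y.isBasis_affineOpens.exists_subset_of_mem_open (Set.mem_univ (genericPoint Y)) isOpen_univ
  have hξV₀ : ξ ∈ f ⁻¹ᵁ V₀ := by
    change f.base ξ ∈ V₀
    rw [hξη]; exact hηV₀
  obtain ⟨_, ⟨U₀, hU₀, rfl⟩, hξU₀, hU₀V₀⟩ :=
    X.isBasis_affineOpens.exists_subset_of_mem_open hξV₀ (f ⁻¹ᵁ V₀).2
  have hFfin : C → ∀ U : X.Opens, ((U : Set X) ∩ f.base ⁻¹' {genericPoint Y}).Finite := by
    intro hC U
    refine (Set.finite_singleton ξ).subset ?_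
    rintro x ⟨-, hx⟩
    exact hC x hx
  have hCB : C → B := by
    intro hC
    obtain ⟨r₀, hηr₀, hfin⟩ := exists_isFinite_resLE_basicOpen f hV₀ hU₀ hU₀V₀ (genericPoint Y)
      hηV₀ hηmax (hFfin hC U₀)
    have hP := basicOpen_appLE_eq f V₀ U₀ hU₀V₀ (r₀ * 1)
    have hle : X.basicOpen (f.appLE V₀ U₀ hU₀V₀ (r₀ * 1)) ≤ f ⁻¹ᵁ (Y.basicOpen (r₀ * 1)) := by
      rw [hP]; exact inf_le_right
    refine ⟨X.basicOpen (f.appLE V₀ U₀ hU₀V₀ (r₀ * 1)), Y.basicOpen (r₀ * 1), hle,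
      hU₀.basicOpen _, hV₀.basicOpen _, ⟨⟨ξ, ?_⟩⟩, hfin 1 hle⟩
    rw [hP]
    refine ⟨hξU₀, ?_⟩
    change f.base ξ ∈ Y.basicOpen (r₀ * 1)
    rw [hξη, mul_one]
    exact hηr₀
  have hBQ : B → f.QuasiFiniteAt ξ := by
    rintro ⟨U, V, hUV, hU, hV, ⟨u⟩, hfin⟩
    have hξU : ξ ∈ U := hξopen U ⟨u.1, u.2⟩
    haveI : LocallyQuasiFinite (U.ι ≫ f) := by
      rw [← Scheme.Hom.resLE_comp_ι f hUV]
      infer_instance
    have h1 := (U.ι ≫ f).quasiFiniteAt ⟨ξ, hξU⟩
    have h2 : f.QuasiFiniteAt (U.ι.base ⟨ξ, hξU⟩) :=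
      Scheme.Hom.quasiFiniteAt_comp_iff_of_isOpenImmersion.mp h1
    have h3 : U.ι.base ⟨ξ, hξU⟩ = ξ := rfl
    rw [h3] at h2
    exact h2
  have hDB : D → B := by
    rintro ⟨V, hV, ⟨v⟩, hfin⟩
    obtain ⟨x, hx⟩ := f.denseRange.exists_mem_open V.2 ⟨v.1, v.2⟩
    refine ⟨f ⁻¹ᵁ V, V, le_rfl, ((isFinite_morphismRestrict_iff f hV).mp hfin).1, hV, ⟨⟨x, hx⟩⟩, ?_⟩
    rw [Scheme.Hom.resLE_eq_morphismRestrict]
    exact hfin
  have hqcD : QuasiCompact f → C → D := by
    intro hqc hC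
    obtain ⟨r, hηr, hfin⟩ := exists_isFinite_morphismRestrict_basicOpen f hV₀ (genericPoint Y)
      hηV₀ hηmax (ι := PUnit.{u + 1}) (fun _ => U₀) (fun _ => hU₀) (fun _ => hU₀V₀)
      (fun _ => hFfin hC U₀)
      (fun x hx => by
        rw [SetLike.mem_coe, TopologicalSpace.Opens.mem_iSup]
        refine ⟨PUnit.unit, ?_⟩
        rw [hC x hx]
        exact hξU₀)
      (fun i j hij => (hij (Subsingleton.elim i j)).elim)
    exact ⟨Y.basicOpen r, hV₀.basicOpen r, ⟨⟨genericPoint Y, hηr⟩⟩, hfin⟩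
  have hsepD : IsSeparated f → B → D := by
    rintro hsep ⟨U, V, hUV, hU, hV, ⟨u⟩, hfin⟩
    have hUeq := eq_preimage_of_isFinite_resLE f V U hUV ⟨u.1, u.2⟩ hfin
    subst hUeq
    refine ⟨V, hV, ⟨⟨f.base u.1, u.2⟩⟩, ?_⟩
    rw [← Scheme.Hom.resLE_eq_morphismRestrict]
    exact hfin
  refine ⟨⟨fun a => hCB (hQC.mp (hAQ.mp a)), fun b => hAQ.mpr (hBQ b)⟩, hAQ.trans hQC, ?_⟩
  rintro (hs | hq)
  · exact ⟨fun a => hsepD hs (hCB (hQC.mp (hAQ.mp a))), fun d => hAQ.mpr (hBQ (hDB d))⟩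
  · exact ⟨fun a => hqcD hq (hQC.mp (hAQ.mp a)), fun d => hAQ.mpr (hBQ (hDB d))⟩

end Groth.Agent.S9702
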