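import Groth.Statements.S4650
import Mathlib.AlgebraicGeometry.Properties

set_option autoImplicit false
open CategoryTheory AlgebraicGeometry
universe u
open FDesc

namespace Groth.Agent.S4650

/-- Let f : X → Y be a morphism of schemes along which generizations lift (this holds for flat,
quasi-flat or open morphisms). Then every irreducible component of X dominates an irreducible
component of Y: the closure of its image is an irreducible component of Y. -/
theorem result {X Y : Scheme.{u}} (f : X ⟶ Y)
    (hf : GeneralizingMap ⇑f) (T : Set ↥X) (hT : T ∈ irreducibleComponents ↥X) :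
    closure (⇑f '' T) ∈ irreducibleComponents ↥Y := by
  have hTirr : IsIrreducible T := hT.1
  have hTcl : IsClosed T := isClosed_of_mem_irreducibleComponents T hT
  obtain ⟨ξ, hξ⟩ := QuasiSober.sober hTirr hTcl
  have hξT : ξ ∈ T := hξ.mem
  -- the component of `Y` containing `f ξ`
  let Z := irreducibleComponent (f ξ)
  have hZ : Z ∈ irreducibleComponents ↥Y := irreducibleComponent_mem_irreducibleComponents _
  have hZcl : IsClosed Z := isClosed_irreducibleComponent
  obtain ⟨η, hη⟩ := QuasiSober.sober hZ.1 hZcl
  have hsp : η ⤳ f ξ := hη.specializes mem_irreducibleComponent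
  obtain ⟨ξ', hξ'ξ, hξ'⟩ := hf hsp
  -- ξ' lies in T by maximality
  have hξ'T : ξ' ∈ T := by
    have h1 : T ⊆ closure {ξ'} := by
      rw [← hξ.def]
      exact closure_minimal (Set.singleton_subset_iff.mpr (specializes_iff_mem_closure.mp hξ'ξ))
        isClosed_closure
    have h2 : IsIrreducible (closure {ξ'}) := isIrreducible_singleton.closure
    have h3 : closure {ξ'} ⊆ T := hT.2 h2 h1
    exact h3 (subset_closure rfl)
  have hηmem : η ∈ f '' T := ⟨ξ', hξ'T, hξ'⟩
  have h4 : Z ⊆ closure (f '' T) := by
    rw [← hη.def]
    exact closure_mono (Set.singleton_subset_iff.mpr hηmem)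
  have h5 : closure (f '' T) ⊆ Z := by
    apply closure_minimal _ hZcl
    rintro _ ⟨t, ht, rfl⟩
    have ht' : ξ ⤳ t := hξ.specializes ht
    have : f ξ ⤳ f t := ht'.map f.continuous
    exact this.mem_closed hZcl mem_irreducibleComponent
  rw [Set.Subset.antisymm h5 h4]
  exact hZ

end Groth.Agent.S4650
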