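import Groth.Statements.S1859
import Mathlib

set_option autoImplicit false
universe u
open CategoryTheory AlgebraicGeometry
open Cyc

namespace Groth.Agent.S1859

open Set Topology TopologicalSpace in
/-- Composition of pushforwards of functions with locally finite support. -/
lemma locallyFinsupp_map_map {X Y Z R : Type*} [TopologicalSpace X] [TopologicalSpace Y]
    [TopologicalSpace Z] [PrespectralSpace Y] [PrespectralSpace Z] [CommSemiring R]
    {f : X → Y} {g : Y → Z} (hf : IsSpectralMap f) (hg : IsSpectralMap g)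
    (hgf : IsSpectralMap (g ∘ f))
    (w1 : X → R) (w2 : Y → R) (w3 : X → R) (c : Function.locallyFinsupp X R)
    (hw : ∀ x, c x ≠ 0 → w1 x * w2 (f x) = w3 x) :
    Function.locallyFinsupp.map g w2 hg (Function.locallyFinsupp.map f w1 hf c) =
      Function.locallyFinsupp.map (g ∘ f) w3 hgf c := by
  classical
  ext z
  rw [Function.locallyFinsupp.map_apply, Function.locallyFinsupp.map_apply]
  -- finiteness of the relevant set
  obtain ⟨U, hU⟩ := (PrespectralSpace.isTopologicalBasis (X := Z)).exists_subset_of_mem_open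
      (by simp : z ∈ (⊤ : Set Z)) (by simp)
  have hcomp : IsCompact ((g ∘ f) ⁻¹' U) := hgf.2 hU.1.1 hU.1.2
  have hfinU : (((g ∘ f) ⁻¹' U) ∩ Function.support c).Finite :=
    c.locallyFiniteSupport.finite_inter_support_of_isCompact hcomp
  have hfin : (((g ∘ f) ⁻¹' {z}) ∩ Function.support c).Finite := by
    refine hfinU.subset ?_
    rintro x ⟨hx1, hx2⟩
    refine ⟨?_, hx2⟩
    have : (g ∘ f) x = z := hx1
    show (g ∘ f) x ∈ U
    rw [this]
    exact hU.2.1
  set S : Finset X := hfin.toFinset with hS
  have hSmem : ∀ x, x ∈ S ↔ g (f x) = z ∧ c x ≠ 0 := by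
    intro x
    simp [hS]
  -- RHS as a finite sum
  have hR : ∑ᶠ x ∈ (g ∘ f) ⁻¹' {z}, c x * w3 x = ∑ x ∈ S, c x * w3 x := by
    apply finsum_mem_eq_sum_of_inter_support_eq
    ext x
    simp only [mem_inter_iff, mem_preimage, Function.comp_apply, mem_singleton_iff,
      Function.mem_support, ne_eq, Finset.mem_coe, hSmem]
    constructor
    · rintro ⟨h1, h2⟩
      refine ⟨⟨h1, ?_⟩, h2⟩
      intro h0
      apply h2
      rw [h0, zero_mul]
    · rintro ⟨⟨h1, _⟩, h2⟩
      exact ⟨h1, h2⟩
  -- inner sums
  have hinner : ∀ y, g y = z →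
      (Function.locallyFinsupp.map f w1 hf c) y = ∑ x ∈ S with f x = y, c x * w1 x := by
    intro y hy
    rw [Function.locallyFinsupp.map_apply]
    apply finsum_mem_eq_sum_of_inter_support_eq
    ext x
    simp only [mem_inter_iff, mem_preimage, mem_singleton_iff,
      Function.mem_support, ne_eq, Finset.coe_filter, hSmem, Set.mem_ofPred_eq]
    constructor
    · rintro ⟨h1, h2⟩
      refine ⟨⟨⟨by rw [h1, hy], ?_⟩, h1⟩, h2⟩
      intro h0
      apply h2
      rw [h0, zero_mul]
    · rintro ⟨⟨_, h1⟩, h2⟩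
      exact ⟨h1, h2⟩
  have hL : ∑ᶠ y ∈ g ⁻¹' {z}, (Function.locallyFinsupp.map f w1 hf c) y * w2 y
      = ∑ y ∈ S.image f, (Function.locallyFinsupp.map f w1 hf c) y * w2 y := by
    apply finsum_mem_eq_sum_of_inter_support_eq
    ext y
    simp only [mem_inter_iff, mem_preimage, mem_singleton_iff,
      Function.mem_support, ne_eq, Finset.coe_image, mem_image, Finset.mem_coe, hSmem]
    constructor
    · rintro ⟨h1, h2⟩
      refine ⟨?_, h2⟩
      have h3 : (Function.locallyFinsupp.map f w1 hf c) y ≠ 0 := by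
        intro h0
        apply h2
        rw [h0, zero_mul]
      rw [hinner y h1] at h3
      obtain ⟨x, hx, hx'⟩ := Finset.exists_ne_zero_of_sum_ne_zero h3
      rw [Finset.mem_filter, hSmem] at hx
      exact ⟨x, hx.1, hx.2⟩
    · rintro ⟨⟨x, ⟨hx1, _⟩, rfl⟩, h2⟩
      exact ⟨hx1, h2⟩
  rw [hR, hL]
  refine Finset.sum_image' (fun x => c x * w3 x) ?_
  intro x hx
  have hgx : g (f x) = z := ((hSmem x).mp hx).1
  rw [hinner (f x) hgx, Finset.sum_mul]
  apply Finset.sum_congr rfl
  intro x' hx'
  rw [Finset.mem_filter, hSmem] at hx'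
  rw [← hw x' hx'.1.2, hx'.2]
  ring

/-- For proper morphisms f : X → Y and g : Y → Z and a k-cycle α on X, g_*(f_*α) = (g ∘ f)_*α. Here a
pair (X, δ) with Cyc.IsSetup plays the role of a scheme locally of finite type over a fixed base
with a dimension function (X locally Noetherian with universally catenary local rings, δ a dimension
function), and Cyc.DeltaCompat records that the dimension function upstairs is the induced one. -/
theorem result (X Y Z : Scheme.{u}) (δX : X → ℤ) (δY : Y → ℤ) (δZ : Z → ℤ) (hX : Cyc.IsSetup X δX) (hY : Cyc.IsSetup Y δY) (hZ : Cyc.IsSetup Z δZ) (f : X ⟶ Y) (g : Y ⟶ Z) [IsProper f] [IsProper g] (hf : Cyc.DeltaCompat f δX δY) (hg : Cyc.DeltaCompat g δY δZ) (k : ℤ) (α : AlgebraicCycle X ℤ) (hα : α ∈ Cyc.Zk X δX k) : AlgebraicCycle.map g δY δZ (AlgebraicCycle.map f δX δY α) = AlgebraicCycle.map (f ≫ g) δX δZ α := by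
  classical
  -- weight identity
  have hw : ∀ x : X, ((AlgebraicCycle.mapCoeff f δX δY x : ℕ) : ℤ) *
      ((AlgebraicCycle.mapCoeff g δY δZ (f x) : ℕ) : ℤ) =
      ((AlgebraicCycle.mapCoeff (f ≫ g) δX δZ x : ℕ) : ℤ) := by
    intro x
    obtain ⟨n, -, hn⟩ := hf x
    obtain ⟨n', -, hn'⟩ := hg (f x)
    have hbase : (f ≫ g) x = g (f x) := rfl
    unfold AlgebraicCycle.mapCoeff
    by_cases h : δX x = δZ (g (f x))
    · have h1 : δX x = δY (f x) := by omega
      have h2 : δY (f x) = δZ (g (f x)) := by omega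
      rw [if_pos h1, if_pos h2, if_pos (by rw [hbase]; exact h)]
      unfold Scheme.Hom.residueDegree
      let _ : Algebra (Y.residueField (f x)) (X.residueField x) :=
        (f.residueFieldMap x).hom.toAlgebra
      let _ : Algebra (Z.residueField (g (f x))) (Y.residueField (f x)) :=
        (g.residueFieldMap (f x)).hom.toAlgebra
      let _ : Algebra (Z.residueField (g (f x))) (X.residueField x) :=
        ((f ≫ g).residueFieldMap x).hom.toAlgebra
      have : IsScalarTower (Z.residueField (g (f x))) (Y.residueField (f x))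
          (X.residueField x) := by
        apply IsScalarTower.of_algebraMap_eq
        intro r
        show ((f ≫ g).residueFieldMap x).hom r = _
        rw [Scheme.residueFieldMap_comp]
        rfl
      have key := Module.finrank_mul_finrank (Z.residueField (g (f x))) (Y.residueField (f x))
          (X.residueField x)
      rw [mul_comm]
      exact_mod_cast key
    · have h3 : ¬ δX x = δZ ((f ≫ g) x) := by rw [hbase]; exact h
      rw [if_neg h3]
      by_cases h1 : δX x = δY (f x)
      · have h2 : ¬ δY (f x) = δZ (g (f x)) := by omega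
        rw [if_neg h2]
        simp
      · rw [if_neg h1]
        simp
  unfold AlgebraicCycle.map
  have := locallyFinsupp_map_map (R := ℤ) f.isSpectralMap g.isSpectralMap
    (f ≫ g).isSpectralMap
    (fun x => ((AlgebraicCycle.mapCoeff f δX δY x : ℕ) : ℤ))
    (fun y => ((AlgebraicCycle.mapCoeff g δY δZ y : ℕ) : ℤ))
    (fun x => ((AlgebraicCycle.mapCoeff (f ≫ g) δX δZ x : ℕ) : ℤ)) α (fun x _ => hw x)
  exact this

end Groth.Agent.S1859
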