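import Groth.Statements.S0571
import Groth.Agent.Lib.Helper4NormalLocus

set_option autoImplicit false
universe u
open CAlg

namespace Groth.Agent.S0571

/-- A Noetherian domain `R` is N-1 exactly when (a) `R_f` is integrally closed for some nonzero `f`, and
(b) the localization of `R` at every maximal ideal is N-1. -/
theorem result (R : Type u) [CommRing R] [IsDomain R]
    [IsNoetherianRing R] :
    CAlg.IsN1 R ↔ ((∃ f : R, f ≠ 0 ∧ IsIntegrallyClosed (Localization.Away f)) ∧
      ∀ (m : Ideal R) [m.IsMaximal], CAlg.IsN1 (Localization.AtPrime m)) := by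
  constructor
  · intro h
    refine ⟨Lib.Helper4.NormalLocus.exists_isIntegrallyClosed_away (K := FractionRing R) h, ?_⟩
    intro m hm
    exact Lib.Helper14.isN1_of_isLocalization R m.primeCompl (Localization.AtPrime m) h
  · rintro ⟨⟨f, hf, hn⟩, hloc⟩
    refine Lib.Helper4.NormalLocus.finite_integralClosure_of_local_bounds (K := FractionRing R) f hf
      (fun x hx => Lib.Helper4.NormalLocus.exists_pow_mem_den f hf hn x hx) ?_
    intro m hm
    haveI := hm
    have hM : m.primeCompl ≤ nonZeroDivisors R := m.primeCompl_le_nonZeroDivisors
    letI : Algebra (Localization.AtPrime m) (FractionRing R) :=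
      (IsLocalization.lift (M := m.primeCompl) (S := Localization.AtPrime m)
        (g := algebraMap R (FractionRing R))
        (fun y => IsLocalization.map_units (FractionRing R)
          (⟨y, hM y.2⟩ : nonZeroDivisors R))).toAlgebra
    haveI : IsScalarTower R (Localization.AtPrime m) (FractionRing R) :=
      IsScalarTower.of_algebraMap_eq fun r => (IsLocalization.lift_eq _ r).symm
    haveI : IsFractionRing (Localization.AtPrime m) (FractionRing R) :=
      IsFractionRing.isFractionRing_of_isDomain_of_isLocalization m.primeCompl _ _
    have hfin := (Lib.Helper14.isN1_iff_of_isFractionRing (Localization.AtPrime m)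
      (FractionRing R)).mp (hloc m)
    obtain ⟨n, hn'⟩ := Lib.Helper4.NormalLocus.exists_uniform_pow m.primeCompl
      (Localization.AtPrime m) hfin f
      (fun x hx => Lib.Helper4.NormalLocus.exists_pow_mem_den f hf hn x hx)
    exact ⟨n, fun x hx => by
      obtain ⟨s, hs, h⟩ := hn' x hx
      exact ⟨s, hs, h⟩⟩

end Groth.Agent.S0571
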