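import Groth.Statements.S9295
import Mathlib
import Groth.Agent.Lib.Helper28GeomFibre4
import Groth.Agent.Lib.Helper28FibreTrans
import Groth.Agent.Lib.Helper28RegDescent
-- import your own Groth.Agent.* helpers here

set_option autoImplicit false
universe u
open CAlg

namespace Groth.Agent.S9295

open Groth.Agent.Lib.Helper28 TensorProduct

theorem isNoetherianRing_fiber_of_faithfullyFlat (A B C : Type u) [CommRing A] [CommRing B]
    [CommRing C] [Algebra A B] [Algebra B C] [Algebra A C] [IsScalarTower A B C]
    [Module.FaithfullyFlat B C] (p : Ideal A) [p.IsPrime] [IsNoetherianRing (p.Fiber C)] :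
    IsNoetherianRing (p.Fiber B) := by
  let e : (B ⊗[A] p.ResidueField) ⊗[B] C ≃+* p.Fiber C :=
    ((Algebra.TensorProduct.comm B (B ⊗[A] p.ResidueField) C).toRingEquiv.trans
      ((Algebra.TensorProduct.cancelBaseChange A B C C p.ResidueField).toRingEquiv.trans
        (Algebra.TensorProduct.comm A C p.ResidueField).toRingEquiv))
  have h1 : IsNoetherianRing ((B ⊗[A] p.ResidueField) ⊗[B] C) :=
    isNoetherianRing_of_ringEquiv _ e.symm
  have h2 : IsNoetherianRing (B ⊗[A] p.ResidueField) :=
    isNoetherianRing_of_faithfullyFlat (R := B ⊗[A] p.ResidueField)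
      (S := (B ⊗[A] p.ResidueField) ⊗[B] C)
  exact isNoetherianRing_of_ringEquiv _ (Algebra.TensorProduct.comm A B p.ResidueField).toRingEquiv

/-- For ring maps A → B → C, if the composite A → C is a regular map and C is flat over B with every
prime of B lying under a prime of C (that is, B → C is faithfully flat), then A → B is a regular
map. -/
theorem result (A B C : Type u) [CommRing A] [CommRing B] [CommRing C]
    [Algebra A B] [Algebra B C] [Algebra A C] [IsScalarTower A B C]
    (hAC : CAlg.IsRegularHom A C) [Module.Flat B C]
    (hsurj : Function.Surjective (PrimeSpectrum.comap (algebraMap B C))) :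
    CAlg.IsRegularHom A B := by
  have hff : Module.FaithfullyFlat B C := Module.FaithfullyFlat.of_comap_surjective hsurj
  have hflat := hAC.1
  refine ⟨flat_of_faithfullyFlat_of_flat_comp A B C, fun p _ => ?_⟩
  have hNC : IsNoetherianRing (p.Fiber C) := (hAC.2 p).1
  have hNB : IsNoetherianRing (p.Fiber B) := isNoetherianRing_fiber_of_faithfullyFlat A B C p
  refine ⟨hNB, ?_⟩
  intro k' _ _ hfin
  exact tensor_fiber_descent_of_property A B C p k' (fun R _ => IsRegularRing R)
    (fun R S _ _ e h => by
      have := h
      exact IsRegularRing.of_ringEquiv e)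
    (fun R' T _ _ _ _ _ _ h => by
      have := h
      exact isRegularRing_of_faithfullyFlat (R := R') (S := T))
    ((hAC.2 p).2 k' hfin)

end Groth.Agent.S9295
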