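import Groth.Statements.S18934
import Mathlib

set_option autoImplicit false
universe u
open Synt

namespace Groth.Agent.S18934

open Polynomial TensorProduct

theorem gci_of_simple {κ S' : Type u} [Field κ] [CommRing S'] [Algebra κ S'] [Module.Finite κ S']
    (g : κ[X]) (hg : g.Monic) (hd : 0 < g.natDegree) (hrank : Module.finrank κ S' = g.natDegree)
    (ρ : S') (hρ : aeval ρ g = 0) (hgen : Algebra.adjoin κ {ρ} = ⊤) : Synt.IsGlobalCI κ S' := by
  right
  let φ : MvPolynomial (Fin 1) κ →ₐ[κ] S' := MvPolynomial.aeval (fun _ : Fin 1 => ρ)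
  let θ : κ[X] →ₐ[κ] MvPolynomial (Fin 1) κ := aeval (MvPolynomial.X 0)
  have hφθ : ∀ h : κ[X], φ (θ h) = aeval ρ h := by
    intro h
    have := aeval_algHom_apply φ (MvPolynomial.X 0 : MvPolynomial (Fin 1) κ) h
    rw [← this]
    simp [φ]
  have hθ : Function.Surjective θ := by
    rw [← AlgHom.range_eq_top, eq_top_iff, ← MvPolynomial.adjoin_range_X, Algebra.adjoin_le_iff]
    rintro _ ⟨i, rfl⟩
    have : i = 0 := Subsingleton.elim _ _
    subst this
    exact ⟨X, by simp [θ]⟩
  have hsurjρ : Function.Surjective (aeval ρ : κ[X] →ₐ[κ] S') := by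
    rw [← AlgHom.range_eq_top, eq_top_iff, ← hgen, Algebra.adjoin_le_iff]
    rintro _ rfl
    exact ⟨X, by simp⟩
  have hφ : Function.Surjective φ := by
    intro s
    obtain ⟨h, rfl⟩ := hsurjρ s
    exact ⟨θ h, hφθ h⟩
  -- kernel of aeval ρ
  have hker : ∀ h : κ[X], aeval ρ h = 0 → g ∣ h := by
    intro h hh
    have hgker : ∀ a ∈ Ideal.span ({g} : Set κ[X]), (aeval ρ : κ[X] →ₐ[κ] S') a = 0 := by
      intro a ha
      obtain ⟨q, rfl⟩ := Ideal.mem_span_singleton.mp ha
      rw [map_mul, hρ, zero_mul]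
    let ψ : (κ[X] ⧸ Ideal.span ({g} : Set κ[X])) →ₐ[κ] S' :=
      Ideal.Quotient.liftₐ (Ideal.span {g}) (aeval ρ) hgker
    have hψsurj : Function.Surjective ψ := by
      intro s
      obtain ⟨h, rfl⟩ := hsurjρ s
      exact ⟨Ideal.Quotient.mk _ h, rfl⟩
    have : Module.Finite κ (κ[X] ⧸ Ideal.span ({g} : Set κ[X])) := hg.finite_quotient
    have hfr : Module.finrank κ (κ[X] ⧸ Ideal.span ({g} : Set κ[X])) = Module.finrank κ S' := by
      rw [hrank, finrank_quotient_span_eq_natDegree]
    have hψinj : Function.Injective ψ :=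
      (LinearMap.injective_iff_surjective_of_finrank_eq_finrank (f := ψ.toLinearMap) hfr).mpr hψsurj
    have : ψ (Ideal.Quotient.mk _ h) = 0 := hh
    rw [← map_zero ψ] at this
    have := hψinj this
    rw [Ideal.Quotient.eq_zero_iff_mem] at this
    exact Ideal.mem_span_singleton.mp this
  refine ⟨1, 1, le_refl _, φ, fun _ => θ g, hφ, ?_, ?_⟩
  · ext y
    rw [RingHom.mem_ker]
    have hrange : Set.range (fun _ : Fin 1 => θ g) = {θ g} := by
      ext z; simp
    rw [hrange, Ideal.mem_span_singleton]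
    constructor
    · intro hy
      obtain ⟨h, rfl⟩ := hθ y
      have : aeval ρ h = 0 := by rw [← hφθ]; exact hy
      obtain ⟨q, rfl⟩ := hker h this
      exact ⟨θ q, map_mul θ g q⟩
    · rintro ⟨q, rfl⟩
      change φ (θ g * q) = 0
      rw [map_mul, hφθ, hρ, zero_mul]
  · have : Nontrivial S' := Module.nontrivial_of_finrank_pos (R := κ) (by omega)
    have : IsArtinianRing S' := IsArtinianRing.of_finite κ S'
    have : Ring.KrullDimLE 0 S' := inferInstance
    simpa using (ringKrullDimZero_iff_ringKrullDim_eq_zero (R := S')).mp this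


theorem gci_of_algEquiv {κ S S' : Type u} [Field κ] [CommRing S] [CommRing S'] [Algebra κ S]
    [Algebra κ S'] (e : S ≃ₐ[κ] S') (h : Synt.IsGlobalCI κ S) : Synt.IsGlobalCI κ S' := by
  rcases h with h | ⟨n, c, hcn, φ, r, hφ, hker, hdim⟩
  · left
    exact e.symm.injective.subsingleton
  · right
    refine ⟨n, c, hcn, (e : S →ₐ[κ] S').comp φ, r, ?_, ?_, ?_⟩
    · exact e.surjective.comp hφ
    · rw [← hker]
      ext y
      simp only [RingHom.mem_ker]
      change e (φ y) = 0 ↔ φ y = 0
      exact map_eq_zero_iff e e.injective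
    · rw [← hdim]
      exact (ringKrullDim_eq_of_ringEquiv e.toRingEquiv).symm

theorem fibre_gci (p : ℕ) [Fact p.Prime] (A : Type u) [CommRing A] (a : A)
    (κ : Type u) [Field κ] [Algebra A κ] :
    Synt.IsGlobalCI κ (κ ⊗[A] AdjoinRoot (X ^ p - C a : A[X])) := by
  have hp : p.Prime := Fact.out
  have hf : (X ^ p - C a : A[X]).Monic := monic_X_pow_sub_C a hp.ne_zero
  have : Nontrivial A := (algebraMap A κ).domain_nontrivial
  have hfd : (X ^ p - C a : A[X]).natDegree = p := natDegree_X_pow_sub_C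
  have : Module.Finite A (AdjoinRoot (X ^ p - C a : A[X])) := hf.finite_adjoinRoot
  have : Module.Free A (AdjoinRoot (X ^ p - C a : A[X])) := hf.free_adjoinRoot
  let ρ : κ ⊗[A] AdjoinRoot (X ^ p - C a : A[X]) := 1 ⊗ₜ AdjoinRoot.root _
  have hincl : ∀ h : A[X], (1 : κ) ⊗ₜ[A] (aeval (AdjoinRoot.root (X ^ p - C a : A[X])) h) =
      aeval ρ (h.map (algebraMap A κ)) := by
    intro h
    rw [aeval_map_algebraMap]
    have := aeval_algHom_apply (Algebra.TensorProduct.includeRight :
      AdjoinRoot (X ^ p - C a : A[X]) →ₐ[A] κ ⊗[A] AdjoinRoot (X ^ p - C a : A[X]))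
      (AdjoinRoot.root _) h
    exact this.symm
  apply gci_of_simple ((X ^ p - C a : A[X]).map (algebraMap A κ)) (hf.map _)
  · rw [hf.natDegree_map, hfd]; exact hp.pos
  · rw [Module.finrank_baseChange, hf.natDegree_map, hfd,
      (AdjoinRoot.powerBasis' hf).finrank, AdjoinRoot.powerBasis'_dim, hfd]
  · show aeval ρ _ = 0
    rw [← hincl, AdjoinRoot.aeval_eq, AdjoinRoot.mk_self, TensorProduct.tmul_zero]
  · show Algebra.adjoin κ {ρ} = ⊤
    rw [eq_top_iff]
    rintro t -
    induction t using TensorProduct.induction_on with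
    | zero => exact Subalgebra.zero_mem _
    | tmul c m =>
      obtain ⟨h, rfl⟩ := AdjoinRoot.mk_surjective m
      have e1 : c ⊗ₜ[A] (AdjoinRoot.mk (X ^ p - C a : A[X]) h) =
          c • ((1 : κ) ⊗ₜ[A] (AdjoinRoot.mk (X ^ p - C a : A[X]) h)) := by
        rw [TensorProduct.smul_tmul', smul_eq_mul, mul_one]
      rw [e1, ← AdjoinRoot.aeval_eq, hincl]
      exact Subalgebra.smul_mem _ (aeval_mem_adjoin_singleton _ _) c
    | add x y hx hy => exact Subalgebra.add_mem _ hx hy



open Polynomial in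
/-- Let p be a prime, A a commutative ring and a an element of A. Then the A-algebra A[T]/(T^p − a) is
syntomic and faithfully flat over A. This is the step of the source's proof showing that adjoining a
p-th root of any element is a covering for the syntomic topology. -/
theorem result (p : ℕ) [Fact p.Prime]
    (A : Type u) [CommRing A] (a : A) :
    Synt.IsSyntomic A (AdjoinRoot (X ^ p - C a)) ∧ Module.FaithfullyFlat A (AdjoinRoot (X ^ p - C a)) := by
  have hp : p.Prime := Fact.out
  have hf : (X ^ p - C a : A[X]).Monic := monic_X_pow_sub_C a hp.ne_zero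
  have hfin : Module.Finite A (AdjoinRoot (X ^ p - C a : A[X])) := hf.finite_adjoinRoot
  have hfree : Module.Free A (AdjoinRoot (X ^ p - C a : A[X])) := hf.free_adjoinRoot
  have hfp : Algebra.FinitePresentation A (AdjoinRoot (X ^ p - C a : A[X])) := by
    change Algebra.FinitePresentation A (A[X] ⧸ Ideal.span {(X ^ p - C a : A[X])})
    exact Algebra.FinitePresentation.quotient ⟨{X ^ p - C a}, by simp⟩
  refine ⟨⟨inferInstance, hfp, fun 𝔭 => ⟨inferInstance, fun q => ⟨1, ?_, ?_⟩⟩⟩, ?_⟩
  · exact (Ideal.ne_top_iff_one _).mp q.isPrime.ne_top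
  · refine gci_of_algEquiv ?_ (fibre_gci p A a 𝔭.asIdeal.ResidueField)
    exact (IsLocalization.atOne (𝔭.asIdeal.Fiber (AdjoinRoot (X ^ p - C a : A[X])))
      (Localization.Away (1 : 𝔭.asIdeal.Fiber (AdjoinRoot (X ^ p - C a : A[X]))))).restrictScalars
        𝔭.asIdeal.ResidueField
  · rcases subsingleton_or_nontrivial A with h | h
    · have : Subsingleton (AdjoinRoot (X ^ p - C a : A[X])) := Module.subsingleton A _
      refine ⟨fun {m} hm => ?_⟩
      exact absurd (Subsingleton.elim m ⊤) hm.ne_top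
    · have hfd : (X ^ p - C a : A[X]).natDegree = p := natDegree_X_pow_sub_C
      have : Nontrivial (AdjoinRoot (X ^ p - C a : A[X])) := by
        apply Module.nontrivial_of_finrank_pos (R := A)
        rw [(AdjoinRoot.powerBasis' hf).finrank, AdjoinRoot.powerBasis'_dim, hfd]
        exact hp.pos
      infer_instance

end Groth.Agent.S18934
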