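import Groth.Statements.S18933
import Mathlib
import Groth.Agent.Lib.Helper11QF
import Groth.Agent.S18934

set_option autoImplicit false
universe u
open Synt

namespace Groth.Agent.S18933

open Polynomial TensorProduct Groth.Agent.Helper11QF

theorem gci_of_multi {κ S' : Type u} [Field κ] [CommRing S'] [Algebra κ S'] [Module.Finite κ S']
    {m : ℕ} (G : Fin m → κ[X]) (hG : ∀ i, (G i).Monic)
    (hrank : Module.finrank κ S' = Finset.univ.prod fun i => (G i).natDegree)
    (hpos : 0 < Module.finrank κ S')
    (ρ : Fin m → S') (hρ : ∀ i, aeval (ρ i) (G i) = 0)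
    (hgen : Algebra.adjoin κ (Set.range ρ) = ⊤) : Synt.IsGlobalCI κ S' := by
  right
  obtain ⟨h1, h2, h3⟩ := structure_thm G hG
  let f : Q G →ₐ[κ] S' := lift G ρ hρ
  have hfsurj : Function.Surjective f := by
    rw [← AlgHom.range_eq_top, eq_top_iff, ← hgen, Algebra.adjoin_le_iff]
    rintro _ ⟨i, rfl⟩
    exact ⟨gen G i, lift_gen G ρ hρ i⟩
  have hfr : Module.finrank κ (Q G) = Module.finrank κ S' := by rw [hrank, h3]
  have hfinj : Function.Injective f :=
    (LinearMap.injective_iff_surjective_of_finrank_eq_finrank (f := f.toLinearMap) hfr).mpr hfsurj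
  refine ⟨m, m, le_refl _, f.comp (Ideal.Quotient.mkₐ κ (relIdeal G)),
    fun i => Polynomial.aeval (MvPolynomial.X i : MvPolynomial (Fin m) κ) (G i), ?_, ?_, ?_⟩
  · exact hfsurj.comp (Ideal.Quotient.mkₐ_surjective κ _)
  · ext y
    rw [RingHom.mem_ker]
    change f (Ideal.Quotient.mk _ y) = 0 ↔ y ∈ relIdeal G
    rw [← Ideal.Quotient.eq_zero_iff_mem, map_eq_zero_iff f hfinj]
  · have : Nontrivial S' := Module.nontrivial_of_finrank_pos (R := κ) hpos
    have : IsArtinianRing S' := IsArtinianRing.of_finite κ S'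
    have : Ring.KrullDimLE 0 S' := inferInstance
    simpa using (ringKrullDimZero_iff_ringKrullDim_eq_zero (R := S')).mp this

theorem adjoin_gen_top {R S : Type u} [CommRing R] [CommRing S] [Algebra R S] {m : ℕ}
    (F : Fin m → R[X]) (e : Q F ≃ₐ[R] S) :
    Algebra.adjoin R (Set.range fun i => e (gen F i)) = ⊤ := by
  rw [Algebra.adjoin_range_eq_range_aeval]
  have : (MvPolynomial.aeval fun i => e (gen F i)) =
      (e : Q F →ₐ[R] S).comp (Ideal.Quotient.mkₐ R (relIdeal F)) := by
    apply MvPolynomial.algHom_ext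
    intro i
    simp [gen]
  rw [this, AlgHom.range_eq_top]
  exact e.surjective.comp (Ideal.Quotient.mkₐ_surjective R _)

theorem fibre_gci_multi {R S : Type u} [CommRing R] [CommRing S] [Algebra R S] {m : ℕ}
    (F : Fin m → R[X]) (hF : ∀ i, (F i).Monic) (hpos : ∀ i, 0 < (F i).natDegree)
    (e : Q F ≃ₐ[R] S) (κ : Type u) [Field κ] [Algebra R κ] :
    Synt.IsGlobalCI κ (κ ⊗[R] S) := by
  have : Nontrivial R := (algebraMap R κ).domain_nontrivial
  obtain ⟨h1, h2, h3⟩ := structure_thm F hF
  have hfree : Module.Free R S := Module.Free.of_equiv e.toLinearEquiv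
  have hfin : Module.Finite R S := Module.Finite.equiv e.toLinearEquiv
  have hrk : Module.finrank R S = Finset.univ.prod fun i => (F i).natDegree := by
    rw [← LinearEquiv.finrank_eq e.toLinearEquiv, h3]
  let ρ : Fin m → κ ⊗[R] S := fun i => 1 ⊗ₜ e (gen F i)
  have hincl : ∀ (s : S) (h : R[X]), (1 : κ) ⊗ₜ[R] (aeval s h) =
      aeval ((1 : κ) ⊗ₜ[R] s) (h.map (algebraMap R κ)) := by
    intro s h
    rw [aeval_map_algebraMap]
    have := aeval_algHom_apply (Algebra.TensorProduct.includeRight : S →ₐ[R] κ ⊗[R] S) s h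
    exact this.symm
  apply gci_of_multi (fun i => (F i).map (algebraMap R κ)) (fun i => (hF i).map _) ?_ ?_ ρ
  · intro i
    show aeval ((1 : κ) ⊗ₜ[R] e (gen F i)) _ = 0
    rw [← hincl]
    have : aeval (e (gen F i)) (F i) = 0 := by
      have := aeval_algHom_apply (e : Q F →ₐ[R] S) (gen F i) (F i)
      rw [AlgEquiv.coe_toAlgHom] at this
      rw [this, aeval_gen, map_zero]
    rw [this, TensorProduct.tmul_zero]
  · -- generation
    rw [eq_top_iff]
    rintro t -
    have key : ∀ s : S, (1 : κ) ⊗ₜ[R] s ∈ Algebra.adjoin κ (Set.range ρ) := by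
      intro s
      have hs : s ∈ Algebra.adjoin R (Set.range fun i => e (gen F i)) := by
        rw [adjoin_gen_top F e]; trivial
      induction hs using Algebra.adjoin_induction with
      | mem x hx =>
        obtain ⟨i, rfl⟩ := hx
        exact Algebra.subset_adjoin ⟨i, rfl⟩
      | algebraMap r =>
        have : (1 : κ) ⊗ₜ[R] (algebraMap R S r) = algebraMap κ (κ ⊗[R] S) (algebraMap R κ r) := by
          rw [Algebra.TensorProduct.algebraMap_apply, Algebra.algebraMap_self, RingHom.id_apply,
            Algebra.algebraMap_eq_smul_one r (A := S), TensorProduct.tmul_smul,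
            TensorProduct.smul_tmul', Algebra.smul_def, mul_one]
        rw [this]
        exact Subalgebra.algebraMap_mem _ _
      | add x y _ _ hx hy =>
        rw [TensorProduct.tmul_add]
        exact Subalgebra.add_mem _ hx hy
      | mul x y _ _ hx hy =>
        have : (1 : κ) ⊗ₜ[R] (x * y) = ((1 : κ) ⊗ₜ[R] x) * ((1 : κ) ⊗ₜ[R] y) := by
          rw [Algebra.TensorProduct.tmul_mul_tmul, one_mul]
        rw [this]
        exact Subalgebra.mul_mem _ hx hy
    induction t using TensorProduct.induction_on with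
    | zero => exact Subalgebra.zero_mem _
    | tmul c s =>
      have e1 : c ⊗ₜ[R] s = c • ((1 : κ) ⊗ₜ[R] s) := by
        rw [TensorProduct.smul_tmul', smul_eq_mul, mul_one]
      rw [e1]
      exact Subalgebra.smul_mem _ (key s) c
    | add x y hx hy => exact Subalgebra.add_mem _ hx hy
  · rw [Module.finrank_baseChange, hrk]
    apply Finset.prod_congr rfl
    intro i _
    rw [(hF i).natDegree_map]
  · rw [Module.finrank_baseChange, hrk]
    exact Finset.prod_pos fun i _ => hpos i

theorem synt_of_equiv {R S : Type u} [CommRing R] [CommRing S] [Algebra R S] {m : ℕ}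
    (F : Fin m → R[X]) (hF : ∀ i, (F i).Monic) (hpos' : Nontrivial R → ∀ i, 0 < (F i).natDegree)
    (e : Q F ≃ₐ[R] S) : Synt.IsSyntomic R S ∧ Module.FaithfullyFlat R S := by
  have hfpQ : Algebra.FinitePresentation R (Q F) := by
    apply Algebra.FinitePresentation.quotient
    rw [relIdeal]
    exact Submodule.fg_span (Set.finite_range _)
  have hfp : Algebra.FinitePresentation R S := Algebra.FinitePresentation.equiv e
  rcases subsingleton_or_nontrivial R with h | h
  · have hS : Subsingleton S := Module.subsingleton R S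
    have hflat : Module.Flat R S := inferInstance
    refine ⟨⟨hflat, hfp, fun 𝔭 => ?_⟩, ?_⟩
    · exact absurd (Subsingleton.elim 𝔭.asIdeal ⊤) 𝔭.isPrime.ne_top
    · refine ⟨fun {m} hm => ?_⟩
      exact absurd (Subsingleton.elim m ⊤) hm.ne_top
  · obtain ⟨h1, h2, h3⟩ := structure_thm F hF
    have hpos := hpos' h
    have hfree : Module.Free R S := Module.Free.of_equiv e.toLinearEquiv
    have hfin : Module.Finite R S := Module.Finite.equiv e.toLinearEquiv
    have hrk : Module.finrank R S = Finset.univ.prod fun i => (F i).natDegree := by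
      rw [← LinearEquiv.finrank_eq e.toLinearEquiv, h3]
    have hnt : Nontrivial S := by
      apply Module.nontrivial_of_finrank_pos (R := R)
      rw [hrk]
      exact Finset.prod_pos fun i _ => hpos i
    refine ⟨⟨inferInstance, hfp, fun 𝔭 => ⟨inferInstance, fun q => ⟨1, ?_, ?_⟩⟩⟩, inferInstance⟩
    · exact (Ideal.ne_top_iff_one _).mp q.isPrime.ne_top
    · refine Groth.Agent.S18934.gci_of_algEquiv ?_
        (fibre_gci_multi F hF hpos e 𝔭.asIdeal.ResidueField)
      exact (IsLocalization.atOne (𝔭.asIdeal.Fiber S)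
        (Localization.Away (1 : 𝔭.asIdeal.Fiber S))).restrictScalars 𝔭.asIdeal.ResidueField

theorem equivOfFrob (A : Type u) [CommRing A] (m p : ℕ) (S : Type u) [CommRing S]
    [Algebra (MvPolynomial (Fin m) A) S] (ψ : MvPolynomial (Fin m) A ≃+* S)
    (hC : ∀ a : A, algebraMap (MvPolynomial (Fin m) A) S (MvPolynomial.C a) = ψ (MvPolynomial.C a))
    (hX : ∀ i : Fin m, algebraMap (MvPolynomial (Fin m) A) S (MvPolynomial.X i) =
      ψ (MvPolynomial.X i) ^ p) :
    Nonempty (Q (fun i : Fin m =>
      (X ^ p - C (MvPolynomial.X i : MvPolynomial (Fin m) A) : (MvPolynomial (Fin m) A)[X]))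
        ≃ₐ[MvPolynomial (Fin m) A] S) := by
  obtain ⟨F, hFdef⟩ : ∃ F : Fin m → (MvPolynomial (Fin m) A)[X], F = fun i : Fin m =>
      (X ^ p - C (MvPolynomial.X i : MvPolynomial (Fin m) A) : (MvPolynomial (Fin m) A)[X]) :=
    ⟨_, rfl⟩
  rw [← hFdef]
  have hFi : ∀ i, F i = X ^ p - C (MvPolynomial.X i : MvPolynomial (Fin m) A) := by
    intro i; rw [hFdef]
  have hb : ∀ i, Polynomial.aeval (ψ (MvPolynomial.X i)) (F i) = 0 := by
    intro i
    rw [hFi, map_sub, map_pow, aeval_X, aeval_C, hX, sub_self]
  let f : Q F →ₐ[MvPolynomial (Fin m) A] S := lift F (fun i => ψ (MvPolynomial.X i)) hb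
  let g0 : MvPolynomial (Fin m) A →+* Q F :=
    MvPolynomial.eval₂Hom ((algebraMap (MvPolynomial (Fin m) A) (Q F)).comp MvPolynomial.C) (gen F)
  have hg0C : ∀ a : A, g0 (MvPolynomial.C a) =
      algebraMap (MvPolynomial (Fin m) A) (Q F) (MvPolynomial.C a) := by
    intro a; simp [g0]
  have hg0X : ∀ i, g0 (MvPolynomial.X i) = gen F i := by
    intro i; simp [g0]
  have hgenp : ∀ i, gen F i ^ p = algebraMap (MvPolynomial (Fin m) A) (Q F) (MvPolynomial.X i) := by
    intro i
    have := aeval_gen F i
    rw [hFi, map_sub, map_pow, aeval_X, aeval_C, sub_eq_zero] at this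
    exact this
  have key1 : (g0.comp (ψ.symm.toRingHom.comp (algebraMap (MvPolynomial (Fin m) A) S))) =
      algebraMap (MvPolynomial (Fin m) A) (Q F) := by
    apply MvPolynomial.ringHom_ext
    · intro a
      simp only [RingHom.comp_apply, hC]
      simp [hg0C]
    · intro i
      simp only [RingHom.comp_apply, hX]
      rw [← map_pow]
      simp [hg0X, hgenp]
  let g : S →ₐ[MvPolynomial (Fin m) A] Q F :=
    { toRingHom := g0.comp ψ.symm.toRingHom
      commutes' := fun r => by
        have := congrArg (fun h => h r) key1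
        exact this }
  have hg : ∀ q : MvPolynomial (Fin m) A, g (ψ q) = g0 q := by
    intro q
    change g0 (ψ.symm.toRingHom (ψ q)) = g0 q
    simp
  have hgf : g.comp f = AlgHom.id _ _ := by
    apply Groth.Agent.Helper11QF.algHom_ext
    intro i
    simp only [AlgHom.comp_apply, AlgHom.id_apply, f, lift_gen]
    rw [hg, hg0X]
  have key2 : (f.toRingHom.comp g0) = ψ.toRingHom := by
    apply MvPolynomial.ringHom_ext
    · intro a
      simp only [RingHom.comp_apply, hg0C]
      change f (algebraMap _ _ _) = ψ _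
      rw [f.commutes, hC]
    · intro i
      simp only [RingHom.comp_apply, hg0X]
      change f (gen F i) = ψ _
      simp [f]
  have hfg : f.comp g = AlgHom.id _ _ := by
    ext s
    obtain ⟨q, rfl⟩ := ψ.surjective s
    simp only [AlgHom.comp_apply, AlgHom.id_apply, hg]
    have := congrArg (fun h => h q) key2
    exact this
  exact ⟨AlgEquiv.ofAlgHom f g hfg hgf⟩



/-- Let p be a prime, A a Noetherian commutative ring and m a natural number, and let φ be the A-algebra
endomorphism of the polynomial ring A[T_1, …, T_m] with φ(T_i) = T_i^p. Then φ is syntomic and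
faithfully flat (so Spec φ is a covering for the syntomic topology). -/
theorem result (p : ℕ) [Fact p.Prime]
    (A : Type u) [CommRing A] [IsNoetherianRing A] (m : ℕ)
    (φ : MvPolynomial (Fin m) A →ₐ[A] MvPolynomial (Fin m) A)
    (hφ : ∀ i : Fin m, φ (MvPolynomial.X i) = MvPolynomial.X i ^ p) :
    @Synt.IsSyntomic (MvPolynomial (Fin m) A) _ (MvPolynomial (Fin m) A) _ φ.toRingHom.toAlgebra ∧
      φ.toRingHom.FaithfullyFlat := by
  have hp : p.Prime := Fact.out
  obtain ⟨e⟩ := @equivOfFrob A _ m p (MvPolynomial (Fin m) A) _ φ.toRingHom.toAlgebra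
    (RingEquiv.refl _)
    (fun a => by
      change φ (MvPolynomial.C a) = MvPolynomial.C a
      rw [← MvPolynomial.algebraMap_eq, φ.commutes])
    (fun i => by
      change φ (MvPolynomial.X i) = MvPolynomial.X i ^ p
      exact hφ i)
  have := @synt_of_equiv (MvPolynomial (Fin m) A) (MvPolynomial (Fin m) A) _ _
    φ.toRingHom.toAlgebra m _
    (fun i => monic_X_pow_sub_C _ hp.ne_zero)
    (fun _ i => by rw [natDegree_X_pow_sub_C]; exact hp.pos) e
  exact this

end Groth.Agent.S18933
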