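import Groth.Statements.S8908
import Mathlib
import Groth.Agent.S2520
import Groth.Agent.Lib.Helper23AssStalk
import Groth.Agent.Lib.Helper4DevE

set_option autoImplicit false
set_option linter.style.haveILetI false
universe u
open CategoryTheory CategoryTheory.Limits AlgebraicGeometry TopologicalSpace
open SDiv

namespace Groth.Agent.S8908

open CategoryTheory.Limits Opposite TopologicalSpace
open Groth.Agent.Lib.Helper4.NormDelta Groth.Agent.Lib.Helper23.StalkLin
  Groth.Agent.Lib.Helper23.Extend Groth.Agent.Lib.Helper2.Ass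
  Groth.Agent.Lib.Helper23.AssAffine Groth.Agent.Lib.Helper2.QCoh
  Groth.Agent.S2541 Groth.Agent.S2520 Groth.Agent.Lib.Helper23.QCohLocal
  Groth.Agent.Lib.Helper23.FinType Groth.Agent.Lib.Helper4.Dev Groth.Agent.Lib.Helper23.AssStalk

section Emb

variable {X : Scheme.{u}} [IsLocallyNoetherian X] (F : X.Modules)

/-- the embedded associated points of `F` -/
def Emb : Set X := {x | x ∈ AssSch.Ass F ∧ ∃ y ∈ AssSch.Ass F, y ⤳ x ∧ y ≠ x}

/-- the union of the closures of the embedded associated points -/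
def ZE : Set X := ⋃ x ∈ Emb F, closure ({x} : Set X)

theorem isClosed_ZE (hF : Coh.IsCoh F) : IsClosed (ZE F) := by
  have h1 : ZE F = ⋃ x : Emb F, closure ({x.1} : Set X) := by
    unfold ZE
    ext z
    simp only [Set.mem_iUnion, Subtype.exists, exists_prop]
  rw [h1]
  apply LocallyFinite.isClosed_iUnion
  · intro p
    obtain ⟨_, ⟨V, hV : IsAffineOpen V, rfl⟩, hpV, -⟩ :=
      (X.isBasis_affineOpens).exists_subset_of_mem_open (Set.mem_univ p) isOpen_univ
    refine ⟨(V : Set X), V.2.mem_nhds hpV, ?_⟩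
    have hfin := Groth.Agent.S4683.finite_ass_inter F hF hV
    have hinj : Set.InjOn (fun i : Emb F => i.1)
        {i : Emb F | (closure ({i.1} : Set X) ∩ (V : Set X)).Nonempty} :=
      fun a _ b _ h => Subtype.ext h
    refine Set.Finite.of_finite_image (hfin.subset ?_) hinj
    rintro _ ⟨i, ⟨z, hz, hzV⟩, rfl⟩
    have hsp : i.1 ⤳ z := specializes_iff_mem_closure.2 hz
    exact ⟨i.2.1, hsp.mem_open V.2 hzV⟩
  · intro i
    exact isClosed_closure

/-- the complement of the closures of the embedded points -/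
def U₀ (hF : Coh.IsCoh F) : X.Opens := ⟨(ZE F)ᶜ, (isClosed_ZE F hF).isOpen_compl⟩

theorem mem_U₀_of_not_emb (hF : Coh.IsCoh F) {ξ : X} (hξ : ξ ∈ AssSch.Ass F) (hne : ξ ∉ Emb F) :
    ξ ∈ U₀ F hF := by
  change ξ ∉ ZE F
  intro h
  simp only [ZE, Set.mem_iUnion] at h
  obtain ⟨x, hxE, hξx⟩ := h
  have hsp : x ⤳ ξ := specializes_iff_mem_closure.2 hξx
  by_cases hx : x = ξ
  · exact hne (hx ▸ hxE)
  · exact hne ⟨hξ, x, hxE.1, hsp, hx⟩

theorem not_emb_of_mem_U₀ (hF : Coh.IsCoh F) {ξ : X} (hξU : ξ ∈ U₀ F hF) : ξ ∉ Emb F := by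
  intro h
  apply hξU
  simp only [ZE, Set.mem_iUnion]
  exact ⟨ξ, h, subset_closure rfl⟩

/-- every point of the support is a specialization of a non-embedded associated point -/
theorem exists_not_emb_specializes (hF : Coh.IsCoh F) {z : X} (hz : z ∈ CohB1.support F) :
    ∃ ξ ∈ AssSch.Ass F, ξ ∉ Emb F ∧ ξ ⤳ z := by
  haveI : F.IsQuasicoherent := hF.1
  have hnt : Nontrivial ↑(F.presheaf.stalk z) := not_subsingleton_iff_nontrivial.1 hz
  obtain ⟨y, hyA, hyz⟩ := exists_isWeakAssPoint_specializes F z hnt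
  have hyA' : y ∈ AssSch.Ass F := (isAssPoint_iff_isWeakAssPoint F y).2 hyA
  obtain ⟨_, ⟨V, hV : IsAffineOpen V, rfl⟩, hzV, -⟩ :=
    (X.isBasis_affineOpens).exists_subset_of_mem_open (Set.mem_univ z) isOpen_univ
  have hfin := Groth.Agent.S4683.finite_ass_inter F hF hV
  let S : Set X := {y' | y' ∈ AssSch.Ass F ∧ y' ⤳ z}
  have hSfin : S.Finite := hfin.subset (fun y' hy' => ⟨hy'.1, hy'.2.mem_open V.2 hzV⟩)
  have hSne : S.Nonempty := ⟨y, hyA', hyz⟩
  letI : Preorder X := specializationPreorder X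
  obtain ⟨ξ, hξ⟩ := hSfin.exists_maximal hSne
  refine ⟨ξ, hξ.1.1, ?_, hξ.1.2⟩
  rintro ⟨-, y', hy'A, hy'ξ, hne⟩
  have h1 : ξ ≤ y' := hy'ξ
  have h2 : y' ≤ ξ := hξ.2 ⟨hy'A, hy'ξ.trans hξ.1.2⟩ h1
  have h3 : ξ ⤳ y' := h2
  exact hne (hy'ξ.antisymm h3).eq

end Emb

section Props

variable {X : Scheme.{u}} [IsLocallyNoetherian X] (F : X.Modules) (hF : Coh.IsCoh F)

/-- sections of a quasi-coherent module without associated points in an open vanish there -/
theorem eq_zero_of_ass_disjoint (G : X.Modules) [G.IsQuasicoherent] (W : X.Opens)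
    (h : ∀ y ∈ W, y ∉ AssSch.Ass G) (s : Γ(G, W)) : s = 0 := by
  by_contra hs
  obtain ⟨y, hyW, hyA, -⟩ := exists_isWeakAssPoint_of_ne_zero_open G W s hs
  exact h y hyW ((isAssPoint_iff_isWeakAssPoint G y).2 hyA)

theorem kernel_sections_eq_zero (W : X.Opens) (hW : W ≤ U₀ F hF)
    (t : Γ(kernel (unitMap (U₀ F hF) F), W)) : t = 0 := by
  apply injective_app_of_mono (kernel.ι (unitMap (U₀ F hF) F)) W
  rw [map_zero]
  apply (unitMap_app_bijective (U₀ F hF) F W hW).1
  rw [map_zero]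
  have h0 : (kernel.ι (unitMap (U₀ F hF) F) ≫ unitMap (U₀ F hF) F).app W t = 0 := by
    rw [kernel.condition]; rfl
  exact h0

include hF in
theorem P2 (U : X.Opens)
    (hU : (U : Set X) ∩ CohB1.support F ⊆ CohB1.support (kernel (unitMap (U₀ F hF) F))) :
    (U : Set X) ∩ CohB1.support F = ∅ := by
  by_contra hne
  obtain ⟨z, hzU, hzS⟩ := Set.nonempty_iff_ne_empty.2 hne
  obtain ⟨ξ, hξA, hξE, hξz⟩ := exists_not_emb_specializes F hF hzS
  have hξU : ξ ∈ U := hξz.mem_open U.2 hzU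
  have hξS : ξ ∈ CohB1.support F := by
    have := nontrivial_stalk_of_isAssPoint F ξ hξA
    exact not_subsingleton_iff_nontrivial.2 this
  have h1 := hU ⟨hξU, hξS⟩
  apply h1
  exact ⟨fun a b => (kernel_unitMap_stalk_eq_zero (U₀ F hF) F ξ (mem_U₀_of_not_emb F hF hξA hξE) a).trans
    (kernel_unitMap_stalk_eq_zero (U₀ F hF) F ξ (mem_U₀_of_not_emb F hF hξA hξE) b).symm⟩

include hF in
theorem P3 {K' : X.Modules} (κ : K' ⟶ F) [Mono κ] (hK' : Coh.IsCoh K')
    (hnd : ∀ U : X.Opens, (U : Set X) ∩ CohB1.support F ⊆ CohB1.support K' →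
      (U : Set X) ∩ CohB1.support F = ∅) :
    κ ≫ unitMap (U₀ F hF) F = 0 := by
  haveI : F.IsQuasicoherent := hF.1
  haveI : K'.IsQuasicoherent := hK'.1
  -- `K'` has no associated points in `U₀`
  have hass : ∀ y ∈ U₀ F hF, y ∉ AssSch.Ass K' := by
    intro y hyU hyK
    have hyF : y ∈ AssSch.Ass F := ass_subset_of_mono κ hyK
    have hyE : y ∉ Emb F := not_emb_of_mem_U₀ F hF hyU
    obtain ⟨_, ⟨V, hV : IsAffineOpen V, rfl⟩, hyV, -⟩ :=
      (X.isBasis_affineOpens).exists_subset_of_mem_open (Set.mem_univ y) isOpen_univ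
    have hfin := Groth.Agent.S4683.finite_ass_inter F hF hV
    set B : Set X := {y' | (y' ∈ AssSch.Ass F ∧ y' ∈ V) ∧ ¬ y ⤳ y'} with hB
    have hBfin : B.Finite := hfin.subset (fun y' hy' => hy'.1)
    have hcl : IsClosed (⋃ y' ∈ B, closure ({y'} : Set X)) :=
      hBfin.isClosed_biUnion (fun _ _ => isClosed_closure)
    let U : X.Opens := V ⊓ ⟨(⋃ y' ∈ B, closure ({y'} : Set X))ᶜ, hcl.isOpen_compl⟩
    have hyUU : y ∈ U := by
      refine ⟨hyV, ?_⟩
      change y ∉ ⋃ y' ∈ B, closure ({y'} : Set X)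
      intro h
      simp only [Set.mem_iUnion] at h
      obtain ⟨y', hy'B, hyy'⟩ := h
      have hsp : y' ⤳ y := specializes_iff_mem_closure.2 hyy'
      by_cases hyy : y' = y
      · exact hy'B.2 (hyy ▸ specializes_rfl)
      · exact hyE ⟨hyF, y', hy'B.1.1, hsp, hyy⟩
    have hyS : y ∈ CohB1.support K' := by
      have := nontrivial_stalk_of_isAssPoint K' y hyK
      exact not_subsingleton_iff_nontrivial.2 this
    have hyS' : y ∈ CohB1.support F := support_subset_of_mono κ hyS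
    have hsub : (U : Set X) ∩ CohB1.support F ⊆ CohB1.support K' := by
      rintro z ⟨hzU, hzS⟩
      have hnt : Nontrivial ↑(F.presheaf.stalk z) := not_subsingleton_iff_nontrivial.1 hzS
      obtain ⟨y', hy'A, hy'z⟩ := exists_isWeakAssPoint_specializes F z hnt
      have hy'A' : y' ∈ AssSch.Ass F := (isAssPoint_iff_isWeakAssPoint F y').2 hy'A
      have hy'V : y' ∈ V := hy'z.mem_open V.2 hzU.1
      have hyy' : y ⤳ y' := by
        by_contra hnot
        have : z ∈ ⋃ y' ∈ B, closure ({y'} : Set X) := by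
          simp only [Set.mem_iUnion]
          exact ⟨y', ⟨⟨hy'A', hy'V⟩, hnot⟩, specializes_iff_mem_closure.1 hy'z⟩
        exact hzU.2 this
      exact (hyy'.trans hy'z).mem_closed (isClosed_support K' hK') hyS
    have := hnd U hsub
    exact Set.notMem_empty y (this ▸ ⟨hyUU, hyS'⟩)
  apply Scheme.Modules.hom_ext
  intro W
  ext s
  have hle : (U₀ F hF).ι ''ᵁ ((U₀ F hF).ι ⁻¹ᵁ W) ≤ U₀ F hF := by
    rw [Scheme.Hom.image_preimage_eq_opensRange_inf, Scheme.Opens.opensRange_ι]
    exact inf_le_left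
  have h3 : K'.presheaf.map (homOfLE ((U₀ F hF).ι.image_preimage_le W)).op s = 0 :=
    eq_zero_of_ass_disjoint K' _ (fun y hy => hass y (hle hy)) _
  change F.presheaf.map (homOfLE ((U₀ F hF).ι.image_preimage_le W)).op (κ.app W s) = 0
  rw [← Groth.Agent.S4683.app_res κ ((U₀ F hF).ι.image_preimage_le W) s, h3, map_zero]

include hF in
theorem P4 : CohB1.support (cokernel (kernel.ι (unitMap (U₀ F hF) F))) = CohB1.support F := by
  haveI : F.IsQuasicoherent := hF.1
  set η := unitMap (U₀ F hF) F with hη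
  haveI : (F.restrict (U₀ F hF).ι).IsQuasicoherent :=
    Groth.Agent.Lib.Helper26.Glue.isQuasicoherent_restrict (U₀ F hF).ι F
  haveI : ((Scheme.Modules.pushforward (U₀ F hF).ι).obj (F.restrict (U₀ F hF).ι)).IsQuasicoherent :=
    isQuasicoherent_pushforward (U₀ F hF).ι _
  haveI hKq : (kernel η).IsQuasicoherent := isQuasicoherent_kernel η
  have hKcoh : Coh.IsCoh (kernel η) := ⟨hKq, isFiniteType_of_mono (hM := hF.2) (kernel.ι η)⟩
  have hQcoh : Coh.IsCoh (cokernel (kernel.ι η)) := isCoh_cokernel (kernel.ι η) hKcoh hF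
  apply Set.Subset.antisymm
  · exact support_subset_of_epi (cokernel.π (kernel.ι η))
  · intro z hz
    obtain ⟨ξ, hξA, hξE, hξz⟩ := exists_not_emb_specializes F hF hz
    have hξU := mem_U₀_of_not_emb F hF hξA hξE
    refine hξz.mem_closed (isClosed_support _ hQcoh) ?_
    have hnt := nontrivial_stalk_of_isAssPoint F ξ hξA
    obtain ⟨m, hm⟩ := exists_ne (0 : F.presheaf.stalk ξ)
    intro hsub
    apply hm
    have h0 : stalkLin (cokernel.π (kernel.ι η)) ξ m = 0 := Subsingleton.elim _ _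
    obtain ⟨k, hk⟩ := (stalkLin_exact (sesOfMono (kernel.ι η))
      (sesOfMono_shortExact (kernel.ι η)) ξ m).1 h0
    rw [← hk]
    change stalkLin (kernel.ι η) ξ k = 0
    rw [kernel_unitMap_stalk_eq_zero (U₀ F hF) F ξ hξU k, map_zero]

include hF in
theorem P5 (x : X) (hx : x ∈ AssSch.Ass (cokernel (kernel.ι (unitMap (U₀ F hF) F))))
    (y : X) (hy : y ∈ AssSch.Ass (cokernel (kernel.ι (unitMap (U₀ F hF) F)))) (hyx : y ⤳ x) :
    y = x := by
  haveI : F.IsQuasicoherent := hF.1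
  set η := unitMap (U₀ F hF) F with hη
  have h1 : AssSch.Ass (Abelian.coimage η) ⊆ AssSch.Ass _ :=
    ass_subset_of_mono (Abelian.factorThruCoimage η)
  have hx' := ass_push_restrict_subset (U₀ F hF) F (h1 hx)
  have hy' := ass_push_restrict_subset (U₀ F hF) F (h1 hy)
  have hxE : x ∉ Emb F := not_emb_of_mem_U₀ F hF hx'.2
  by_contra hne
  exact hxE ⟨hx'.1, y, hy'.1, hyx, hne⟩

include hF in
theorem P6 : Dense ((U₀ F hF : X.Opens) : Set X) ∧
    CohB1.support F ⊆ closure (((U₀ F hF : X.Opens) : Set X) ∩ CohB1.support F) ∧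
    IsIso ((Scheme.Modules.restrictFunctor (U₀ F hF).ι).map
      (cokernel.π (kernel.ι (unitMap (U₀ F hF) F)))) := by
  haveI : F.IsQuasicoherent := hF.1
  set η := unitMap (U₀ F hF) F with hη
  haveI : (F.restrict (U₀ F hF).ι).IsQuasicoherent :=
    Groth.Agent.Lib.Helper26.Glue.isQuasicoherent_restrict (U₀ F hF).ι F
  haveI : ((Scheme.Modules.pushforward (U₀ F hF).ι).obj (F.restrict (U₀ F hF).ι)).IsQuasicoherent :=
    isQuasicoherent_pushforward (U₀ F hF).ι _
  haveI hKq : (kernel η).IsQuasicoherent := isQuasicoherent_kernel η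
  haveI hQq : (cokernel (kernel.ι η)).IsQuasicoherent := isQuasicoherent_cokernel (kernel.ι η)
  have hZS : ZE F ⊆ CohB1.support F := by
    intro z hz
    simp only [ZE, Set.mem_iUnion] at hz
    obtain ⟨x, hxE, hzx⟩ := hz
    have hsp : x ⤳ z := specializes_iff_mem_closure.2 hzx
    have hxS : x ∈ CohB1.support F :=
      not_subsingleton_iff_nontrivial.2 (nontrivial_stalk_of_isAssPoint F x hxE.1)
    exact hsp.mem_closed (isClosed_support F hF) hxS
  refine ⟨?_, ?_, ?_⟩
  · rw [dense_iff_inter_open]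
    intro W hWo hWne
    by_contra hemp
    obtain ⟨p, hpW⟩ := hWne
    have hpZ : p ∈ ZE F := by
      by_contra hp
      exact hemp ⟨p, hpW, hp⟩
    obtain ⟨ξ, hξA, hξE, hξp⟩ := exists_not_emb_specializes F hF (hZS hpZ)
    exact hemp ⟨ξ, hξp.mem_open hWo hpW, mem_U₀_of_not_emb F hF hξA hξE⟩
  · intro z hz
    obtain ⟨ξ, hξA, hξE, hξz⟩ := exists_not_emb_specializes F hF hz
    have hξS : ξ ∈ CohB1.support F :=
      not_subsingleton_iff_nontrivial.2 (nontrivial_stalk_of_isAssPoint F ξ hξA)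
    have h1 : z ∈ closure ({ξ} : Set X) := specializes_iff_mem_closure.1 hξz
    have h2 : ({ξ} : Set X) ⊆ ((U₀ F hF : X.Opens) : Set X) ∩ CohB1.support F :=
      Set.singleton_subset_iff.2 ⟨mem_U₀_of_not_emb F hF hξA hξE, hξS⟩
    exact closure_mono h2 h1
  · refine isIso_restrict_of_bijective_app (cokernel.π (kernel.ι η)) (U₀ F hF)
      (fun k : {V : X.affineOpens // (V : X.Opens) ≤ U₀ F hF} => (k.1 : X.Opens))
      (fun k => k.1.2) (fun k => k.2) ?_ ?_
    · intro p hp
      obtain ⟨_, ⟨V, hV : IsAffineOpen V, rfl⟩, hpV, hVU⟩ :=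
        (X.isBasis_affineOpens).exists_subset_of_mem_open hp (U₀ F hF).2
      exact Opens.mem_iSup.2 ⟨⟨⟨V, hV⟩, hVU⟩, hpV⟩
    · intro k
      constructor
      · rw [injective_iff_map_eq_zero]
        intro s hs
        obtain ⟨t, ht⟩ := Groth.Agent.Lib.Helper2.ModExact.exists_app_eq_of_shortExact
          (sesOfMono (kernel.ι η)) (sesOfMono_shortExact (kernel.ι η)) (k.1 : X.Opens) s hs
        rw [← ht]
        change (kernel.ι η).app _ t = 0
        rw [kernel_sections_eq_zero F hF _ k.2 t, map_zero]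
      · exact Groth.Agent.Lib.Helper23.FinType.surjective_app_of_epi (cokernel.π (kernel.ι η)) k.1.2

end Props

/-- Let X be a locally Noetherian scheme and F a coherent O_X-module. The coherent subsheaves K ⊆ F
whose support is nowhere dense in Supp(F) have a largest element K. Setting F' = F/K: (1) Supp(F') =
Supp(F); (2) F' has no embedded associated points; (3) there is a dense open U ⊆ X with U ∩ Supp(F)
dense in Supp(F) over which the quotient map F → F' restricts to an isomorphism. -/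
theorem result (X : Scheme.{u}) [IsLocallyNoetherian X] (F : X.Modules)
    (hF : Coh.IsCoh F) :
    ∃ K : Subobject F, Coh.IsCoh (K : X.Modules) ∧
      (∀ U : X.Opens, (U : Set ↥X) ∩ CohB1.support F ⊆ CohB1.support (K : X.Modules) → (U : Set ↥X) ∩ CohB1.support F = ∅) ∧
      (∀ K' : Subobject F, Coh.IsCoh (K' : X.Modules) →
        (∀ U : X.Opens, (U : Set ↥X) ∩ CohB1.support F ⊆ CohB1.support (K' : X.Modules) → (U : Set ↥X) ∩ CohB1.support F = ∅) →
        K' ≤ K) ∧
      CohB1.support (cokernel K.arrow) = CohB1.support F ∧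
      (∀ x : ↥X, Curv2.IsAssPoint (cokernel K.arrow) x → ∀ y : ↥X, Curv2.IsAssPoint (cokernel K.arrow) y → y ⤳ x → y = x) ∧
      ∃ U : X.Opens, Dense (U : Set ↥X) ∧ CohB1.support F ⊆ closure ((U : Set ↥X) ∩ CohB1.support F) ∧
        IsIso ((Scheme.Modules.restrictFunctor U.ι).map (cokernel.π K.arrow)) := by
  haveI : F.IsQuasicoherent := hF.1
  set η := unitMap (U₀ F hF) F with hη
  haveI : (F.restrict (U₀ F hF).ι).IsQuasicoherent :=
    Groth.Agent.Lib.Helper26.Glue.isQuasicoherent_restrict (U₀ F hF).ι F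
  haveI : ((Scheme.Modules.pushforward (U₀ F hF).ι).obj (F.restrict (U₀ F hF).ι)).IsQuasicoherent :=
    isQuasicoherent_pushforward (U₀ F hF).ι _
  haveI hKq : (kernel η).IsQuasicoherent := isQuasicoherent_kernel η
  have hKcoh : Coh.IsCoh (kernel η) := ⟨hKq, isFiniteType_of_mono (hM := hF.2) (kernel.ι η)⟩
  let K : Subobject F := Subobject.mk (kernel.ι η)
  let e₁ : (K : X.Modules) ≅ kernel η := Subobject.underlyingIso (kernel.ι η)
  have he₁ : e₁.hom ≫ kernel.ι η = K.arrow := Subobject.underlyingIso_hom_comp_eq_mk (kernel.ι η)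
  let e₂ : cokernel K.arrow ≅ cokernel (kernel.ι η) :=
    cokernel.mapIso K.arrow (kernel.ι η) e₁ (Iso.refl F) (by simp [he₁])
  have he₂ : cokernel.π K.arrow ≫ e₂.hom = cokernel.π (kernel.ι η) := by simp [e₂]
  refine ⟨K, isCoh_of_iso e₁.symm hKcoh, ?_, ?_, ?_, ?_, U₀ F hF, ?_⟩
  · intro U hU
    apply P2 F hF U
    rwa [← support_eq_of_iso e₁]
  · intro K' hK' hnd
    have h0 := P3 F hF K'.arrow hK' hnd
    exact Subobject.le_mk_of_comm (kernel.lift η K'.arrow h0) (kernel.lift_ι _ _ _)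
  · rw [support_eq_of_iso e₂]
    exact P4 F hF
  · intro x hx y hy hyx
    have h := ass_eq_of_iso e₂
    have hx' : x ∈ AssSch.Ass (cokernel (kernel.ι η)) := h ▸ (show x ∈ AssSch.Ass (cokernel K.arrow) from hx)
    have hy' : y ∈ AssSch.Ass (cokernel (kernel.ι η)) := h ▸ (show y ∈ AssSch.Ass (cokernel K.arrow) from hy)
    exact P5 F hF x hx' y hy' hyx
  · obtain ⟨h1, h2, h3⟩ := P6 F hF
    refine ⟨h1, h2, ?_⟩
    have h4 : cokernel.π K.arrow = cokernel.π (kernel.ι η) ≫ e₂.inv := by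
      rw [← he₂, Category.assoc, Iso.hom_inv_id, Category.comp_id]
    rw [h4, Functor.map_comp]
    infer_instance

end Groth.Agent.S8908
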