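import Groth.Statements.S4754
import Mathlib
import Groth.Agent.Lib.Helper28GeomFibre6
-- import your own Groth.Agent.* helpers here

set_option autoImplicit false
universe u
open EGA4

namespace Groth.Agent.S4754
open Groth.Agent.Lib.Helper28 IsLocalRing TensorProduct

/-- For the property 'geometrically normal', case of a local ring: if the formal fibres of a Noetherian
local ring A are geometrically normal, then so are the formal fibres of A/I for every proper ideal I
of A. -/
theorem result (A : Type u) [CommRing A] [IsNoetherianRing A] [IsLocalRing A]
    (hA : EGA4.HasGeomNormalFormalFibres A) (I : Ideal A) [Nontrivial (A ⧸ I)] :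
    EGA4.HasGeomNormalFormalFibres (A ⧸ I) := by
  obtain ⟨e⟩ := nonempty_algEquiv_tensor_adicCompletion_quotient A I
  intro P' _ k'' _ _ hfin
  exact tensor_fiber_of_property_of_algEquiv e
    (fun T _ => EGA4.IsNormalRing T) (fun T T' _ _ e h => isNormalRing_of_ringEquiv e h)
    (fun p _ k' _ _ hk' => hA p k' hk') P' k''

end Groth.Agent.S4754
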