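import Groth.Statements.S0304
import Groth.Agent.Lib.Helper3InjHull
import Mathlib

set_option autoImplicit false
universe u v
open InjHull

namespace Groth.Agent.S0304

open Groth.Agent.Lib.Helper3.InjHull

section Helpers

variable {R : Type u} [CommRing R] {E : Type u} [AddCommGroup E] [Module R E]

/-- an injective submodule is a direct summand -/
lemma exists_isCompl_of_injective (F : Submodule R E) (hF : Module.Injective R F) :
    ∃ C : Submodule R E, IsCompl F C := by
  obtain ⟨ρ, hρ⟩ := Module.Injective.extension_property R F F E F.subtype F.injective_subtype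
    LinearMap.id
  refine ⟨LinearMap.ker ρ, LinearMap.isCompl_of_proj (fun x => ?_)⟩
  exact LinearMap.congr_fun hρ x

/-- a direct summand of an injective module is injective -/
lemma injective_of_isCompl (hE : Module.Injective R E) {F C : Submodule R E} (h : IsCompl F C) :
    Module.Injective R F := by
  refine ⟨fun X Y _ _ _ _ f hf g => ?_⟩
  obtain ⟨k, hk⟩ := hE.out f hf (F.subtype ∘ₗ g)
  refine ⟨(Submodule.projectionOnto F C h) ∘ₗ k, fun x => ?_⟩
  rw [LinearMap.comp_apply, hk]
  exact Submodule.projectionOnto_apply_left h (g x)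

/-- in an indecomposable injective module every nonzero submodule is essential -/
lemma essIn_top_of_indecomposable (hE : InjHull.IsIndecomposable R E) (hinj : Module.Injective R E)
    (N : Submodule R E) (hN : N ≠ ⊥) : EssIn N ⊤ := by
  haveI := hinj
  obtain ⟨F, hNF, hess, hFinj⟩ := exists_injective_essential N
  obtain ⟨C, hC⟩ := exists_isCompl_of_injective F hFinj
  rcases hE.2 F C hC with h | h
  · exfalso
    apply hN
    rw [eq_bot_iff, ← h]
    exact hNF
  · have : F = ⊤ := by
      have := hC.sup_eq_top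
      rwa [h, sup_bot_eq] at this
    rwa [this] at hess

end Helpers

/-- Let R be a commutative ring and E an indecomposable injective R-module. Then any two nonzero
submodules of E have nonzero intersection, and the set of elements r ∈ R such that r·x = 0 for some
nonzero x ∈ E is a prime ideal of R. -/
theorem result (R : Type u) [CommRing R] (E : Type u) [AddCommGroup E] [Module R E] (hE : InjHull.IsIndecomposable R E) (hinj : Module.Injective R E) : (∀ N N' : Submodule R E, N ≠ ⊥ → N' ≠ ⊥ → N ⊓ N' ≠ ⊥) ∧ ∃ p : Ideal R, p.IsPrime ∧ (p : Set R) = {r : R | ∃ x : E, x ≠ 0 ∧ r • x = 0} := by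
  have h1 : ∀ N N' : Submodule R E, N ≠ ⊥ → N' ≠ ⊥ → N ⊓ N' ≠ ⊥ := by
    intro N N' hN hN'
    rw [inf_comm]
    exact (essIn_top_of_indecomposable hE hinj N hN).inf_ne_bot le_top hN'
  refine ⟨h1, ?_⟩
  haveI := hE.1
  let p : Ideal R :=
    { carrier := {r : R | ∃ x : E, x ≠ 0 ∧ r • x = 0}
      zero_mem' := by
        obtain ⟨x, hx⟩ := exists_ne (0 : E)
        exact ⟨x, hx, zero_smul R x⟩
      add_mem' := by
        rintro r s ⟨x, hx, hrx⟩ ⟨y, hy, hsy⟩
        have hxs : Submodule.span R {x} ≠ ⊥ := fun h => hx (Submodule.span_singleton_eq_bot.1 h)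
        have hys : Submodule.span R {y} ≠ ⊥ := fun h => hy (Submodule.span_singleton_eq_bot.1 h)
        obtain ⟨z, hz, hz0⟩ := Submodule.exists_mem_ne_zero_of_ne_bot (h1 _ _ hxs hys)
        obtain ⟨a, rfl⟩ := Submodule.mem_span_singleton.1 hz.1
        obtain ⟨b, hb⟩ := Submodule.mem_span_singleton.1 hz.2
        refine ⟨a • x, hz0, ?_⟩
        rw [add_smul, smul_comm r a x, hrx, smul_zero, zero_add, ← hb, smul_comm s b y, hsy,
          smul_zero]
      smul_mem' := by
        rintro a r ⟨x, hx, hrx⟩
        exact ⟨x, hx, by rw [smul_eq_mul, mul_smul, hrx, smul_zero]⟩ }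
  refine ⟨p, ?_, rfl⟩
  refine ⟨?_, ?_⟩
  · rw [Ne, Ideal.eq_top_iff_one]
    rintro ⟨x, hx, h1x⟩
    rw [one_smul] at h1x
    exact hx h1x
  · rintro a b ⟨x, hx, habx⟩
    by_cases hbx : b • x = 0
    · exact Or.inr ⟨x, hx, hbx⟩
    · exact Or.inl ⟨b • x, hbx, by rw [← mul_smul]; exact habx⟩

end Groth.Agent.S0304
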