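import Groth.Statements.S0305
import Groth.Agent.S0303
import Mathlib

set_option autoImplicit false
universe u v
open InjHull

namespace Groth.Agent.S0305

section Helpers

variable {R : Type u} [CommRing R] (p : Ideal R) [p.IsPrime]

/-- the inclusion `R/p → κ(p)` as an `R`-linear map -/
noncomputable def incl : (R ⧸ p) →ₗ[R] p.ResidueField :=
  (Algebra.linearMap (R ⧸ p) p.ResidueField).restrictScalars R

lemma incl_apply (a : R ⧸ p) : incl p a = algebraMap (R ⧸ p) p.ResidueField a := rfl

lemma incl_essential : InjHull.IsEssentialInj (incl p) := by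
  refine ⟨Ideal.injective_algebraMap_quotient_residueField p, ?_⟩
  intro N hN
  obtain ⟨x, hxN, hx0⟩ := Submodule.exists_mem_ne_zero_of_ne_bot hN
  obtain ⟨⟨a, b⟩, hab⟩ := IsLocalization.surj (nonZeroDivisors (R ⧸ p)) x
  obtain ⟨r, hr⟩ := Ideal.Quotient.mk_surjective (b : R ⧸ p)
  have hb0 : algebraMap (R ⧸ p) p.ResidueField (b : R ⧸ p) ≠ 0 := by
    intro h
    have := Ideal.injective_algebraMap_quotient_residueField p
      (h.trans (map_zero _).symm)
    exact nonZeroDivisors.coe_ne_zero b this
  have h1 : r • x = incl p a := by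
    rw [incl_apply, ← hab, mul_comm, ← hr]
    rw [Algebra.smul_def]
    congr 1
  intro hbot
  have hmem : r • x ∈ N ⊓ LinearMap.range (incl p) := ⟨N.smul_mem r hxN, ⟨a, h1.symm⟩⟩
  rw [hbot, Submodule.mem_bot] at hmem
  rw [h1, incl_apply, ← hab] at hmem
  exact (mul_ne_zero hx0 hb0) hmem

end Helpers

/-- Let R be a commutative ring, p a prime ideal, and E an injective hull of R/p. Then E is
indecomposable, and E is also an injective hull of the residue field κ(p). -/
theorem result (R : Type u) [CommRing R] (p : Ideal R) [p.IsPrime] (E : Type u) [AddCommGroup E] [Module R E] (f : (R ⧸ p) →ₗ[R] E) (hf : InjHull.IsInjectiveHull f) : InjHull.IsIndecomposable R E ∧ ∃ g : p.ResidueField →ₗ[R] E, InjHull.IsInjectiveHull g := by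
  constructor
  · refine ⟨hf.injective.nontrivial, ?_⟩
    intro N N' hNN'
    by_contra hcon
    rw [not_or] at hcon
    obtain ⟨y, ⟨hyN, ⟨a, rfl⟩⟩, hy0⟩ :=
      Submodule.exists_mem_ne_zero_of_ne_bot (hf.essential N hcon.1)
    obtain ⟨y', ⟨hyN', ⟨a', rfl⟩⟩, hy0'⟩ :=
      Submodule.exists_mem_ne_zero_of_ne_bot (hf.essential N' hcon.2)
    have ha : a ≠ 0 := fun h => hy0 (by rw [h, map_zero])
    have ha' : a' ≠ 0 := fun h => hy0' (by rw [h, map_zero])
    obtain ⟨r, rfl⟩ := Ideal.Quotient.mk_surjective a
    obtain ⟨r', rfl⟩ := Ideal.Quotient.mk_surjective a'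
    have h1 : f (Ideal.Quotient.mk p r * Ideal.Quotient.mk p r') ∈ N ⊓ N' := by
      constructor
      · have : Ideal.Quotient.mk p r * Ideal.Quotient.mk p r' = r' • Ideal.Quotient.mk p r := by
          rw [mul_comm, Algebra.smul_def]; rfl
        rw [this, map_smul]
        exact N.smul_mem r' hyN
      · have : Ideal.Quotient.mk p r * Ideal.Quotient.mk p r' = r • Ideal.Quotient.mk p r' := by
          rw [Algebra.smul_def]; rfl
        rw [this, map_smul]
        exact N'.smul_mem r hyN'
    rw [hNN'.inf_eq_bot, Submodule.mem_bot] at h1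
    have h2 := hf.injective (h1.trans (map_zero f).symm)
    exact (mul_ne_zero ha ha') h2
  · haveI := hf.isInjective
    obtain ⟨g, hg⟩ := Module.Injective.extension_property R E _ _ (incl p)
      (incl_essential p).injective f
    refine ⟨g, ⟨⟨?_, ?_⟩, hf.isInjective⟩⟩
    · apply Groth.Agent.S0303.injective_of_essential (incl_essential p) g
      rw [hg]
      exact hf.injective
    · intro N hN
      have h1 := hf.essential N hN
      have h2 : LinearMap.range f ≤ LinearMap.range g := by
        rw [← hg]
        exact LinearMap.range_comp_le_range _ _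
      intro hbot
      apply h1
      rw [eq_bot_iff, ← hbot]
      exact inf_le_inf_left N h2

end Groth.Agent.S0305
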