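import Groth.Statements.S0306
import Groth.Agent.S0304
import Groth.Agent.S0305
import Mathlib

set_option autoImplicit false
universe u v
open InjHull

namespace Groth.Agent.S0306

section Helpers

variable {R : Type u} [CommRing R] [IsNoetherianRing R]

/-- a nonzero module over a Noetherian ring contains a copy of `R/p` for some prime `p` -/
lemma exists_prime_embedding (C : Type u) [AddCommGroup C] [Module R C] [Nontrivial C] :
    ∃ (p : Ideal R) (_ : p.IsPrime) (f : (R ⧸ p) →ₗ[R] C), Function.Injective f := by
  obtain ⟨p, hp⟩ := associatedPrimes.nonempty R C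
  rw [AssociatedPrimes.mem_iff, isAssociatedPrime_iff] at hp
  obtain ⟨hprime, y, hy⟩ := hp
  have hker : LinearMap.ker (LinearMap.toSpanSingleton R C y) = p := by
    ext r
    rw [hy, LinearMap.mem_ker, LinearMap.toSpanSingleton_apply, Submodule.mem_colon_singleton,
      Submodule.mem_bot]
  refine ⟨p, hprime, Submodule.liftQ p (LinearMap.toSpanSingleton R C y) hker.ge, ?_⟩
  rw [← LinearMap.ker_eq_bot]
  exact Submodule.ker_liftQ_eq_bot _ _ _ hker.le

end Helpers

/-- Over a Noetherian ring every indecomposable injective module is an injective hull of the residue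
field of some prime. -/
theorem result (R : Type u) [CommRing R] [IsNoetherianRing R] (E : Type u) [AddCommGroup E] [Module R E] (hE : InjHull.IsIndecomposable R E) (hinj : Module.Injective R E) : ∃ (p : Ideal R) (_ : p.IsPrime) (g : p.ResidueField →ₗ[R] E), InjHull.IsInjectiveHull g := by
  haveI := hE.1
  obtain ⟨p, hp, f, hf⟩ := exists_prime_embedding (R := R) E
  haveI := hp
  have hrange : LinearMap.range f ≠ ⊥ := by
    intro h
    rw [LinearMap.range_eq_bot] at h
    have : f 1 = f 0 := by rw [h]; rfl
    exact one_ne_zero (hf this)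
  have hull : InjHull.IsInjectiveHull f :=
    ⟨⟨hf, fun N hN => (Groth.Agent.S0304.result R E hE hinj).1 N _ hN hrange⟩, hinj⟩
  obtain ⟨g, hg⟩ := (Groth.Agent.S0305.result R p E f hull).2
  exact ⟨p, hp, g, hg⟩

end Groth.Agent.S0306
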