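import Groth.Statements.S0307
import Groth.Agent.Lib.Helper3InjHull
import Groth.Agent.S0299
import Groth.Agent.S0300
import Groth.Agent.S0304
import Groth.Agent.S0305
import Groth.Agent.S0306
import Mathlib

set_option autoImplicit false
universe u v
open InjHull

namespace Groth.Agent.S0307

open Groth.Agent.Lib.Helper3.InjHull

section Helpers

lemma sSupIndep_insert {α : Type*} [CompleteLattice α] [IsModularLattice α] {s : Set α}
    (hs : sSupIndep s) {a : α} (ha : Disjoint a (sSup s)) : sSupIndep (insert a s) := by
  have key : Disjoint a (sSup (insert a s \ {a})) := by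
    apply ha.mono_right
    apply sSup_le_sSup
    rintro y ⟨hy1, hy2⟩
    rcases hy1 with rfl | hy1
    · exact absurd rfl hy2
    · exact hy1
  intro x hx
  by_cases hxa : x = a
  · rw [hxa]; exact key
  · have hxs : x ∈ s := hx.resolve_left hxa
    have h1 : insert a s \ {x} = insert a (s \ {x}) := by
      rw [Set.insert_sdiff_of_notMem]
      rw [Set.mem_singleton_iff]
      exact fun h => hxa h.symm
    rw [h1, sSup_insert, sup_comm]
    apply (hs hxs).disjoint_sup_right_of_disjoint_sup_left
    have h2 : x ⊔ sSup (s \ {x}) = sSup s := by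
      rw [← sSup_insert, Set.insert_sdiff_singleton, Set.insert_eq_of_mem hxs]
    rw [h2]
    exact ha.symm

variable {R : Type u} [CommRing R]

lemma isIndecomposable_of_equiv {M N : Type u} [AddCommGroup M] [Module R M] [AddCommGroup N]
    [Module R N] (e : M ≃ₗ[R] N) (h : InjHull.IsIndecomposable R M) :
    InjHull.IsIndecomposable R N := by
  haveI := h.1
  refine ⟨e.symm.toEquiv.nontrivial, ?_⟩
  intro A B hAB
  have h1 := (Submodule.orderIsoMapComap e).symm.isCompl hAB
  rcases h.2 _ _ h1 with h2 | h2
  · left
    exact (map_eq_bot_iff (Submodule.orderIsoMapComap e).symm).1 h2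
  · right
    exact (map_eq_bot_iff (Submodule.orderIsoMapComap e).symm).1 h2

end Helpers

open Classical in

open Classical in
/-- Over a Noetherian ring every injective module is an internal direct sum of indecomposable injective
submodules. -/
theorem result (R : Type u) [CommRing R] [IsNoetherianRing R] (I : Type u) [AddCommGroup I] [Module R I] (hI : Module.Injective R I) : ∃ (ι : Type u) (E : ι → Submodule R I), DirectSum.IsInternal E ∧ ∀ i, InjHull.IsIndecomposable R ↥(E i) ∧ Module.Injective R ↥(E i) := by
  have zorn := zorn_subset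
    (S := {s : Set (Submodule R I) | sSupIndep s ∧
      ∀ a ∈ s, InjHull.IsIndecomposable R a ∧ Module.Injective R a})
    fun c hc1 hc2 =>
      ⟨⋃₀ c,
        ⟨iSupIndep_sUnion_of_directed hc2.directedOn fun s hs => (hc1 hs).1,
          fun a ⟨s, sc, as⟩ => (hc1 sc).2 a as⟩,
        fun _ => Set.subset_sUnion_of_mem⟩
  simp_rw [maximal_subset_iff] at zorn
  obtain ⟨s, ⟨s_ind, s_P⟩, s_max⟩ := zorn
  have hind : iSupIndep (fun i : s => (i : Submodule R I)) := (sSupIndep_iff s).1 s_ind
  refine ⟨s, fun i => (i : Submodule R I), ?_, fun i => s_P i.1 i.2⟩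
  apply @DirectSum.isInternal_submodule_of_iSupIndep_of_iSup_eq_top R _ s
    (fun a b => Classical.propDecidable (a = b)) I _ _ _ hind
  -- the sum is injective
  let L : (DirectSum s fun i => ↥(i : Submodule R I)) →ₗ[R] I :=
    DFinsupp.lsum ℕ fun i : s => (i : Submodule R I).subtype
  have hL : Function.Injective L := hind.dfinsupp_lsum_injective
  have hrange : (⨆ i : s, (i : Submodule R I)) = LinearMap.range L :=
    Submodule.iSup_eq_range_dfinsupp_lsum _
  have hDS : Module.Injective R (DirectSum s fun i => ↥(i : Submodule R I)) :=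
    Groth.Agent.S0300.result R (fun i : s => ↥(i : Submodule R I)) (fun i => (s_P i.1 i.2).2)
  have hF : Module.Injective R (LinearMap.range L) :=
    (Module.Baer.of_equiv (LinearEquiv.ofInjective L hL) (Module.Baer.of_injective hDS)).injective
  rw [hrange]
  obtain ⟨C, hC⟩ := Groth.Agent.S0304.exists_isCompl_of_injective _ hF
  have hCinj : Module.Injective R C := Groth.Agent.S0304.injective_of_isCompl hI hC.symm
  by_contra hne
  have hCne : C ≠ ⊥ := by
    intro hCb
    apply hne
    have := hC.sup_eq_top
    rwa [hCb, sup_bot_eq] at this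
  haveI : Nontrivial C := (Submodule.nontrivial_iff_ne_bot).2 hCne
  obtain ⟨p, hp, f, hf⟩ := Groth.Agent.S0306.exists_prime_embedding (R := R) C
  haveI := hp
  haveI := hCinj
  obtain ⟨E', hME, hess, hE'inj⟩ := exists_injective_essential (LinearMap.range f)
  have hull := Groth.Agent.S0299.isInjectiveHull_codRestrict f hf E' hME hess hE'inj
  have hE'ind := (Groth.Agent.S0305.result R p E' _ hull).1
  let E'' : Submodule R I := E'.map C.subtype
  let e : E' ≃ₗ[R] E'' := Submodule.equivMapOfInjective C.subtype C.injective_subtype E'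
  have hE''P : InjHull.IsIndecomposable R E'' ∧ Module.Injective R E'' :=
    ⟨isIndecomposable_of_equiv e hE'ind,
      (Module.Baer.of_equiv e (Module.Baer.of_injective hE'inj)).injective⟩
  have hE''C : E'' ≤ C := Submodule.map_subtype_le C E'
  have hsSup : sSup s = LinearMap.range L := by
    rw [← hrange, sSup_eq_iSup']
  have hdisj : Disjoint E'' (sSup s) := by
    rw [hsSup]
    exact hC.disjoint.symm.mono_left hE''C
  have hmem : E'' ∈ s := by
    have := s_max (t := insert E'' s) ⟨sSupIndep_insert s_ind hdisj, fun a ha => by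
      rcases ha with rfl | ha
      · exact hE''P
      · exact s_P a ha⟩ (Set.subset_insert _ _)
    rw [this]
    exact Set.mem_insert _ _
  have hle : E'' ≤ sSup s := le_sSup hmem
  have hbot : E'' = ⊥ := by
    rw [eq_bot_iff]
    exact hdisj le_rfl hle
  haveI := hE''P.1.1
  exact (Submodule.nontrivial_iff_ne_bot.1 inferInstance) hbot

end Groth.Agent.S0307
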