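import Groth.Statements.S18646
import Mathlib.Tactic
import Mathlib.LinearAlgebra.DirectSum.TensorProduct
import Mathlib.RingTheory.FiniteType
import Mathlib.RingTheory.FiniteStability
import Mathlib.RingTheory.GradedAlgebra.Basic

set_option autoImplicit false
universe u
open scoped TensorProduct
open GrSegre

namespace Groth.Agent.S18646

section helpers
open DirectSum

variable {k : Type u} [Field k] {R : Type u} [CommRing R] [Algebra k R] (𝒜 : ℤ → Submodule k R)
  [GradedAlgebra 𝒜] {S : Type u} [CommRing S] [Algebra k S] (ℬ : ℤ → Submodule k S)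
  [GradedAlgebra ℬ]

/-- The projection of `R ⊗ S` onto its diagonal part `⊕ R_n ⊗ S_n`. -/
noncomputable def rho : R ⊗[k] S →ₗ[k] R ⊗[k] S :=
  (DirectSum.toModule k ℤ (R ⊗[k] S)
      (fun i => TensorProduct.map (𝒜 i).subtype (GradedAlgebra.proj ℬ i))) ∘ₗ
    (TensorProduct.directSumLeft k k (fun i => 𝒜 i) S).toLinearMap ∘ₗ
    (TensorProduct.map (DirectSum.decomposeLinearEquiv 𝒜).toLinearMap LinearMap.id)

theorem rho_tmul_of_mem {i : ℤ} {r : R} (hr : r ∈ 𝒜 i) (s : S) :
    rho 𝒜 ℬ (r ⊗ₜ[k] s) = r ⊗ₜ[k] (GradedAlgebra.proj ℬ i s) := by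
  unfold rho
  simp only [LinearMap.coe_comp, LinearEquiv.coe_coe, Function.comp_apply, TensorProduct.map_tmul,
    LinearMap.id_coe, id_eq, DirectSum.decomposeLinearEquiv_apply]
  rw [DirectSum.decompose_of_mem 𝒜 hr, ← DirectSum.lof_eq_of k,
    TensorProduct.directSumLeft_tmul_lof, DirectSum.toModule_lof]
  simp

theorem rho_tmul_of_mem_of_mem {i : ℤ} {r : R} (hr : r ∈ 𝒜 i) {s : S} (hs : s ∈ ℬ i) :
    rho 𝒜 ℬ (r ⊗ₜ[k] s) = r ⊗ₜ[k] s := by
  rw [rho_tmul_of_mem 𝒜 ℬ hr, GradedAlgebra.proj_apply, DirectSum.decompose_of_mem_same ℬ hs]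

end helpers

/-- Let R and S be graded rings defined over a field k. Then their Segre product T = R # S is a
Noetherian ring (hence again a graded ring defined over k). Here a graded ring defined over k is a
commutative k-algebra of finite type, graded in nonnegative degrees by k-subspaces with degree-zero
part k·1; the Segre product T = R # S = ⊕_n R_n ⊗_k S_n (graded by T_n = R_n ⊗_k S_n) is presented
abstractly as a graded k-algebra T with an injective k-algebra homomorphism ψ : T → R ⊗_k S carrying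
T_n onto the k-span of the elementary tensors a ⊗ b with a ∈ R_n, b ∈ S_n, for every n. -/
theorem result (k : Type u) [Field k] (R : Type u) [CommRing R] [Algebra k R] (𝒜 : ℤ → Submodule k R) [GradedAlgebra 𝒜] (hposR : ∀ n : ℤ, n < 0 → 𝒜 n = ⊥) (h0R : 𝒜 0 = Submodule.span k {(1 : R)}) [Algebra.FiniteType k R] (S : Type u) [CommRing S] [Algebra k S] (ℬ : ℤ → Submodule k S) [GradedAlgebra ℬ] (hposS : ∀ n : ℤ, n < 0 → ℬ n = ⊥) (h0S : ℬ 0 = Submodule.span k {(1 : S)}) [Algebra.FiniteType k S] (T : Type u) [CommRing T] [Algebra k T] (𝒯 : ℤ → Submodule k T) [GradedAlgebra 𝒯] (ψ : T →ₐ[k] TensorProduct k R S) (hψ : Function.Injective ψ) (hdegT : ∀ n : ℤ, (𝒯 n).map ψ.toLinearMap = Submodule.span k {x : TensorProduct k R S | ∃ a ∈ 𝒜 n, ∃ b ∈ ℬ n, x = a ⊗ₜ[k] b}) : IsNoetherianRing T := by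
  classical
  -- the pieces
  have hpiece : ∀ (n : ℤ) (t : T), t ∈ 𝒯 n → ψ t ∈
      Submodule.span k {x : R ⊗[k] S | ∃ a ∈ 𝒜 n, ∃ b ∈ ℬ n, x = a ⊗ₜ[k] b} := by
    intro n t ht
    rw [← hdegT n]
    exact Submodule.mem_map_of_mem (f := ψ.toLinearMap) ht
  -- (a) rho lands in the range of ψ
  have hPrange : ∀ n, Submodule.span k {x : R ⊗[k] S | ∃ a ∈ 𝒜 n, ∃ b ∈ ℬ n, x = a ⊗ₜ[k] b} ≤
      LinearMap.range ψ.toLinearMap := by
    intro n
    rw [← hdegT n]
    exact LinearMap.map_le_range
  have ha : ∀ x : R ⊗[k] S, rho 𝒜 ℬ x ∈ LinearMap.range ψ.toLinearMap := by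
    intro x
    induction x using TensorProduct.induction_on with
    | zero => simp
    | add x y hx hy => rw [map_add]; exact add_mem hx hy
    | tmul r s =>
      induction r using DirectSum.Decomposition.inductionOn 𝒜 with
      | zero => simp
      | add r r' hr hr' => rw [TensorProduct.add_tmul, map_add]; exact add_mem hr hr'
      | homogeneous r =>
        rename_i i
        rw [rho_tmul_of_mem 𝒜 ℬ r.2]
        apply hPrange i
        apply Submodule.subset_span
        exact ⟨r, r.2, _, (by rw [GradedAlgebra.proj_apply]; exact SetLike.coe_mem _), rfl⟩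
  -- (b) rho is the identity on the range of ψ
  have hb0 : ∀ (n : ℤ) (y : R ⊗[k] S),
      y ∈ Submodule.span k {x : R ⊗[k] S | ∃ a ∈ 𝒜 n, ∃ b ∈ ℬ n, x = a ⊗ₜ[k] b} →
      rho 𝒜 ℬ y = y := by
    intro n y h
    induction h using Submodule.span_induction with
    | mem x hx =>
      obtain ⟨a, ha', b, hb', rfl⟩ := hx
      exact rho_tmul_of_mem_of_mem 𝒜 ℬ ha' hb'
    | zero => simp
    | add x y _ _ hx hy => rw [map_add, hx, hy]
    | smul c x _ hx => rw [map_smul, hx]
  have hb : ∀ t : T, rho 𝒜 ℬ (ψ t) = ψ t := by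
    intro t
    induction t using DirectSum.Decomposition.inductionOn 𝒯 with
    | zero => simp
    | add t t' ht ht' => rw [map_add, map_add, ht, ht']
    | homogeneous t =>
      rename_i n
      exact hb0 n _ (hpiece n t t.2)
  -- (c) rho is linear over the range of ψ
  have hc0 : ∀ (n : ℤ) (y : R ⊗[k] S),
      y ∈ Submodule.span k {x : R ⊗[k] S | ∃ a ∈ 𝒜 n, ∃ b ∈ ℬ n, x = a ⊗ₜ[k] b} →
      ∀ x : R ⊗[k] S, rho 𝒜 ℬ (y * x) = y * rho 𝒜 ℬ x := by
    intro n y h
    induction h using Submodule.span_induction with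
    | mem y hy =>
      obtain ⟨a, ha', b, hb', rfl⟩ := hy
      intro x
      induction x using TensorProduct.induction_on with
      | zero => simp
      | add x y hx hy => rw [mul_add, map_add, hx, hy, map_add, mul_add]
      | tmul r s =>
        induction r using DirectSum.Decomposition.inductionOn 𝒜 with
        | zero => simp
        | add r r' hr hr' =>
          rw [TensorProduct.add_tmul, mul_add, map_add, hr, hr', map_add, mul_add]
        | homogeneous r =>
          rename_i i
          rw [Algebra.TensorProduct.tmul_mul_tmul,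
            rho_tmul_of_mem 𝒜 ℬ (SetLike.GradedMul.mul_mem ha' r.2), rho_tmul_of_mem 𝒜 ℬ r.2,
            Algebra.TensorProduct.tmul_mul_tmul, GradedAlgebra.proj_apply,
            GradedAlgebra.proj_apply, DirectSum.coe_decompose_mul_add_of_left_mem ℬ hb']
    | zero => intro x; simp
    | add y y' _ _ hy hy' => intro x; rw [add_mul, map_add, hy, hy', add_mul]
    | smul c y _ hy => intro x; rw [smul_mul_assoc, map_smul, hy, smul_mul_assoc]
  have hc : ∀ (t : T) (x : R ⊗[k] S), rho 𝒜 ℬ (ψ t * x) = ψ t * rho 𝒜 ℬ x := by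
    intro t
    induction t using DirectSum.Decomposition.inductionOn 𝒯 with
    | zero => intro x; simp
    | add t t' ht ht' => intro x; rw [map_add, add_mul, map_add, ht, ht', add_mul]
    | homogeneous t =>
      rename_i n
      exact hc0 n _ (hpiece n t t.2)
  -- (d) contraction of extension
  have hd : ∀ J : Ideal T, Ideal.comap ψ (Ideal.map ψ J) = J := by
    intro J
    apply le_antisymm _ Ideal.le_comap_map
    have key : ∀ y ∈ Ideal.map ψ J, ∀ a : R ⊗[k] S, ∃ j ∈ J, rho 𝒜 ℬ (a * y) = ψ j := by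
      intro y hy
      unfold Ideal.map at hy
      induction hy using Submodule.span_induction with
      | mem y hy =>
        obtain ⟨j₀, hj₀, rfl⟩ := hy
        intro a
        obtain ⟨ta, hta⟩ := ha a
        refine ⟨j₀ * ta, J.mul_mem_right _ hj₀, ?_⟩
        rw [mul_comm, hc, map_mul]
        congr 1
        exact hta.symm
      | zero => intro a; exact ⟨0, J.zero_mem, by simp⟩
      | add y y' _ _ hy hy' =>
        intro a
        obtain ⟨j, hj, e⟩ := hy a
        obtain ⟨j', hj', e'⟩ := hy' a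
        exact ⟨j + j', J.add_mem hj hj', by rw [mul_add, map_add, e, e', map_add]⟩
      | smul b y _ hy =>
        intro a
        obtain ⟨j, hj, e⟩ := hy (a * b)
        exact ⟨j, hj, by rw [smul_eq_mul, ← mul_assoc, e]⟩
    intro t ht
    rw [Ideal.mem_comap] at ht
    obtain ⟨j, hj, e⟩ := key _ ht 1
    rw [one_mul, hb] at e
    rw [hψ e]
    exact hj
  -- Noetherianity
  have h1 : Algebra.FiniteType R (R ⊗[k] S) := inferInstance
  have h2 : Algebra.FiniteType k (R ⊗[k] S) := Algebra.FiniteType.trans (S := R) inferInstance h1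
  have hN : IsNoetherianRing (R ⊗[k] S) := Algebra.FiniteType.isNoetherianRing k _
  have hW : WellFoundedGT (Ideal (R ⊗[k] S)) := isNoetherian_iff'.mp hN
  have hmono : StrictMono (fun J : Ideal T => Ideal.map ψ J) := by
    intro J J' hJ
    refine lt_of_le_of_ne (Ideal.map_mono hJ.le) ?_
    intro e
    have : J = J' := by rw [← hd J, ← hd J']; exact congrArg _ e
    exact hJ.ne this
  have hW' : WellFoundedGT (Ideal T) := hmono.wellFoundedGT
  exact isNoetherian_iff'.mpr hW'


end Groth.Agent.S18646
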