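import Groth.Statements.S17771
import Groth.Agent.Lib.Helper29GrDimHt
import Groth.Agent.Lib.Helper29GrMumford
import Groth.Agent.Lib.Helper29GrFree
import Groth.Agent.Lib.Helper29GrCMEnd

set_option autoImplicit false
universe u
open GrLC

namespace Groth.Agent.S17771

/-- Let R = ⊕_{n ≥ 0} R_n be a positively ℤ-graded ring which is standard graded (irrelevant ideal
generated by R_1), with R_0 Artinian, *local with unique homogeneous maximal ideal m, and
Cohen–Macaulay of Krull dimension d. Then the a-invariant of R is at least −d: the end (largest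
nonzero degree) of the graded local cohomology module H^d_m(R), computed from any *injective
resolution of R in the graded category, is ≥ −d. (Equality holds exactly for polynomial rings
R_0[T_1, …, T_d]; that characterisation is not part of this statement.) -/
theorem result (R : Type u) [CommRing R] [LocCoh.IsCohenMacaulayRing R] (𝒜 : ℤ → AddSubgroup R) [GradedRing 𝒜] (hpos : ∀ n : ℤ, n < 0 → 𝒜 n = ⊥) (hstd : Ideal.span (⋃ n ∈ Set.Ioi (0 : ℤ), (𝒜 n : Set R)) = Ideal.span ((𝒜 1 : AddSubgroup R) : Set R)) [IsArtinianRing (GrLC.deg0 𝒜)] (m : HomogeneousIdeal 𝒜) (hm : GrLC.IsStarLocal 𝒜 m) (d : ℕ) (hd : ringKrullDim R = d) (I : GrLC.StarInjRes 𝒜 𝒜) : (((-(d : ℤ) : ℤ) : WithTop ℤ) : WithBot (WithTop ℤ)) ≤ GrLC.endDeg (I.Hgr m d) := by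
  classical
  haveI hmax : m.toIdeal.IsMaximal :=
    Groth.Agent.Lib.Helper29.GrHmod.isMaximal_of_isStarLocal 𝒜 hpos m hm
  have hht := Groth.Agent.Lib.Helper29GrDimHt.height_eq 𝒜 hpos m hm d hd
  let a : HomogeneousIdeal 𝒜 :=
    ⟨Groth.Agent.Lib.Helper29.GrHmod.Rp 𝒜, Groth.Agent.Lib.Helper29.GrHmod.Rp_isHomogeneous 𝒜⟩
  have ha : a.toIdeal = Ideal.span (⋃ n ∈ Set.Ioi (0 : ℤ), (𝒜 n : Set R)) := rfl
  have hle := Groth.Agent.Lib.Helper29.GrHmod.Rp_le 𝒜 hpos m hm
  have key : I.Hcomp m d (-(d : ℤ)) ≠ ⊥ := by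
    intro hbot
    have hvan_m : ∀ j : ℕ, I.Hcomp m j (-(j : ℤ)) = ⊥ := by
      intro j
      rcases lt_trichotomy j d with hlt | rfl | hgt
      · exact Groth.Agent.Lib.Helper29GrCMEnd.Hcomp_eq_bot_of_H_eq_zero m I j
          (Groth.Agent.Lib.Helper29MaxVanish.H_self_eq_zero_of_lt_height m.toIdeal inferInstance j
            (by rw [hht]; exact_mod_cast hlt)) _
      · exact hbot
      · exact Groth.Agent.Lib.Helper29GrCMEnd.Hcomp_eq_bot_of_H_eq_zero m I j
          (Groth.Agent.Lib.Helper29MaxVanish.H_self_eq_zero_of_height_lt m.toIdeal j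
            (by rw [hht]; exact_mod_cast hgt)) _
    obtain ⟨N, hN⟩ := Groth.Agent.Lib.Helper29GrStarLocalArt.exists_pow_le_Rp 𝒜 hpos m hm
    have hgam : ∀ j, GrLC.gam m.toIdeal (I.X j).carrier = GrLC.gam a.toIdeal (I.X j).carrier :=
      fun j => Groth.Agent.Lib.Helper29GrStarLocalArt.gam_eq_of_pow_le hle N hN _
    have hvan_a : ∀ j : ℕ, I.Hcomp a j (-(j : ℤ)) = ⊥ := by
      intro j
      have hl := Groth.Agent.Lib.Helper29GrStarLocalArt.length_Hcomp_eq_of_gam_eq I m a hgam j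
        (-(j : ℤ))
      haveI : Subsingleton ↥(I.Hcomp m j (-(j : ℤ))) :=
        Submodule.subsingleton_iff_eq_bot.mpr (hvan_m j)
      rw [Module.length_eq_zero] at hl
      exact Submodule.subsingleton_iff_eq_bot.mp (Module.length_eq_zero_iff.mp hl.symm)
    obtain ⟨xs, hxs, hxa⟩ := Groth.Agent.Lib.Helper29GrMumford.exists_list_gens (a := a)
      (by rw [ha, hstd])
    have h1 := Groth.Agent.Lib.Helper29GrMumford.piece_le_smul_top (a := a)
      (Groth.Agent.Lib.Helper29GrFree.ringGMod 𝒜) xs hxs hxa 0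
      (fun j => (Groth.Agent.Lib.Helper29GrHV.HV_iff a
        (Groth.Agent.Lib.Helper29GrFree.ringGMod 𝒜) I j _).mpr
        (by rw [zero_sub]; exact hvan_a j)) (1 : R) (SetLike.one_mem_graded 𝒜)
    have h2 : (1 : R) ∈ a.toIdeal := by
      have h3 : a.toIdeal • (⊤ : Submodule R R) = a.toIdeal := by
        rw [smul_eq_mul, Ideal.mul_top]
      rw [← h3]
      exact h1
    exact hmax.ne_top ((Ideal.eq_top_iff_one _).mpr (hle h2))
  unfold GrLC.endDeg
  refine le_iSup₂_of_le (-(d : ℤ)) ?_ le_rfl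
  rw [Ne, Groth.Agent.Lib.Helper29GrQuotEnd.Hgr_eq_bot_iff]
  exact key

end Groth.Agent.S17771
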