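import Groth.Statements.S18656
import Groth.Agent.Lib.Helper29EndDeg
import Groth.Agent.Lib.Helper29GrHmod
import Groth.Agent.Lib.Helper29GrStd
import Groth.Agent.Lib.Helper29TopLC

set_option autoImplicit false
universe u
open GrLC

namespace Groth.Agent.S18656

/-- Let R be a graded ring defined over a field k = R_0, generated over k by R_1, of dimension r ≥ 1,
and let a(R) be its a-invariant. Then the homogeneous piece H^r_m(R)_n is nonzero for every n ≤
a(R). Here 'graded ring defined over a field' means R = ⊕_{n ≥ 0} R_n is Noetherian with R_0 a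
field, and m = R_+ is its unique graded maximal ideal. The a-invariant a(R) is the largest degree in
which the graded local cohomology H^n_m(R) (n = dim R, m = R_+), computed from a *injective
resolution of R in the graded category, is nonzero. -/
theorem result (R : Type u) [CommRing R] [IsNoetherianRing R] (𝒜 : ℤ → AddSubgroup R) [GradedRing 𝒜] (hpos : ∀ n : ℤ, n < 0 → 𝒜 n = ⊥) (h0 : IsField (GrLC.deg0 𝒜)) (m : HomogeneousIdeal 𝒜) (hm : GrLC.IsStarLocal 𝒜 m) (hmsp : m.toIdeal = Ideal.span (⋃ n ∈ Set.Ioi (0 : ℤ), (𝒜 n : Set R))) (hstd : Ideal.span (⋃ n ∈ Set.Ioi (0 : ℤ), (𝒜 n : Set R)) = Ideal.span ((𝒜 1 : AddSubgroup R) : Set R)) (r : ℕ) (hr : ringKrullDim R = r) (h1 : 1 ≤ r) (I : GrLC.StarInjRes 𝒜 𝒜) (a : ℤ) (ha : GrLC.endDeg (I.Hgr m r) = ((a : WithTop ℤ) : WithBot (WithTop ℤ))) (n : ℤ) (hn : n ≤ a) : I.Hcomp m r n ≠ ⊥ := by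
  classical
  intro hbot
  haveI hmax := Groth.Agent.Lib.Helper29.GrHmod.isMaximal_of_isStarLocal 𝒜 hpos m hm
  letI := (Groth.Agent.S13225.result R 𝒜 m R 𝒜 I r).chooseDecomposition
  letI := Groth.Agent.Lib.Helper29.GrHmod.H_gradedSMul I m r
  have hm1 : m.toIdeal = Ideal.span ((𝒜 1 : AddSubgroup R) : Set R) := hmsp.trans hstd
  -- `m H = H`
  have htop : m.toIdeal • (⊤ : Submodule R (I.H m r)) = ⊤ := by
    rw [eq_top_iff]
    intro y _
    obtain ⟨e⟩ := Groth.Agent.S13224.result R 𝒜 m R 𝒜 I r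
    obtain ⟨k, a, ha⟩ := Submodule.fg_iff_exists_fin_generating_family.mp
      (IsNoetherian.noetherian m.toIdeal)
    have hn : Module.supportDim R R ≤ ((r : ℕ) : WithBot ℕ∞) := by
      rw [Module.supportDim_self_eq_ringKrullDim, hr]
    let g : R →ₗ[R] (R ⧸ m.toIdeal) := Submodule.mkQ m.toIdeal
    have hg : Function.Surjective g := Submodule.mkQ_surjective _
    have hker : LinearMap.ker g = Ideal.span (Set.range a) • (⊤ : Submodule R R) := by
      rw [Submodule.ker_mkQ]
      have : Ideal.span (Set.range a) = m.toIdeal := ha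
      rw [this]
      simp
    have hfield : IsField (R ⧸ m.toIdeal) := (Ideal.Quotient.maximal_ideal_iff_isField_quotient _).mp hmax
    have hdim : Module.supportDim R (R ⧸ m.toIdeal) < ((r : ℕ) : WithBot ℕ∞) := by
      rw [Module.supportDim_quotient_eq_ringKrullDim]
      letI := hfield.toField
      rw [ringKrullDim_eq_zero_of_field]
      exact_mod_cast h1
    have hh : (localCohomology m.toIdeal r).map (ModuleCat.ofHom g) (e y) = 0 :=
      Groth.Agent.Lib.Helper8.GV.H_eq_zero_of_supportDim_lt m.toIdeal r (R ⧸ m.toIdeal) hdim _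
    obtain ⟨ys, hys⟩ := Groth.Agent.Lib.Helper29.TopLC.exists_sum_of_map_eq_zero m.toIdeal r R hn k a
      g hg hker (e y) hh
    have hy : y = ∑ i, a i • e.symm (ys i) := by
      apply e.injective
      rw [hys, map_sum]
      refine Finset.sum_congr rfl fun i _ => ?_
      rw [map_smul, LinearEquiv.apply_symm_apply]
    rw [hy]
    refine Submodule.sum_mem _ fun i _ => Submodule.smul_mem_smul ?_ Submodule.mem_top
    rw [← ha]
    exact Submodule.subset_span ⟨i, rfl⟩
  have hstep : ∀ k, n ≤ k → I.Hgr m r k = ⊥ := by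
    intro k hk
    refine Int.leInduction (m := n) (motive := fun k _ => I.Hgr m r k = ⊥) ?_ ?_ k hk
    · rw [eq_bot_iff]
      intro x hx
      have hx' : x ∈ I.Hcomp m r n := hx
      rw [hbot] at hx'
      exact AddSubgroup.mem_bot.mpr ((Submodule.mem_bot _).mp hx')
    · intro k _ hk
      refine Groth.Agent.Lib.Helper29GrStd.piece_eq_bot_of_smul_top_eq_top 𝒜 (I.Hgr m r) m.toIdeal hm1
        htop (k + 1) ?_
      rwa [add_sub_cancel_right]
  exact Groth.Agent.Lib.Helper29EndDeg.ne_bot_of_endDeg_eq (I.Hgr m r) a ha (hstep a hn)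

end Groth.Agent.S18656
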