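import Groth.Statements.S17756
import Groth.Agent.S5170
import Mathlib

set_option autoImplicit false
universe u
open Matlis

namespace Groth.Agent.S17756

open IsLocalRing

section Helpers

variable {R : Type u} [CommRing R] [IsLocalRing R] {M : Type u} [AddCommGroup M] [Module R M]

/-- minimal number of generators as a length -/
lemma spanFinrank_top_eq_length [Module.Finite R M] :
    ((⊤ : Submodule R M).spanFinrank : ℕ∞) =
      Module.length R (M ⧸ (maximalIdeal R • ⊤ : Submodule R M)) := by
  have h1 := IsLocalRing.spanFinrank_eq_finrank_quotient (⊤ : Submodule R M) Module.Finite.fg_top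
  letI : Field (R ⧸ maximalIdeal R) := Ideal.Quotient.field (maximalIdeal R)
  haveI : Module.Finite (R ⧸ maximalIdeal R)
      (↥(⊤ : Submodule R M) ⧸ (maximalIdeal R • ⊤ : Submodule R ↥(⊤ : Submodule R M))) :=
    Module.Finite.of_restrictScalars_finite R _ _
  have h2 := Module.length_eq_finrank (R ⧸ maximalIdeal R)
      (↥(⊤ : Submodule R M) ⧸ (maximalIdeal R • ⊤ : Submodule R ↥(⊤ : Submodule R M)))
  have h3 := Module.length_eq_of_surjective (S := R) (R := R ⧸ maximalIdeal R)
      (M := ↥(⊤ : Submodule R M) ⧸ (maximalIdeal R • ⊤ : Submodule R ↥(⊤ : Submodule R M)))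
      Ideal.Quotient.mk_surjective
  have hmap : Submodule.map (Submodule.topEquiv (R := R) (M := M)).toLinearMap
      (maximalIdeal R • ⊤ : Submodule R ↥(⊤ : Submodule R M)) =
      (maximalIdeal R • ⊤ : Submodule R M) := by
    rw [Submodule.map_smul'', Submodule.map_top, LinearMap.range_eq_top.2
      (Submodule.topEquiv (R := R) (M := M)).surjective]
  have h4 := (Submodule.Quotient.equiv _ _ (Submodule.topEquiv (R := R) (M := M)) hmap).length_eq
  rw [h1, ← h4, h3, h2]

variable {E : Type u} [AddCommGroup E] [Module R E]

/-- the socle of the dual is the dual of `M/mM` -/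
lemma length_socle_eq :
    Module.length R (LocCoh.torsionBy (maximalIdeal R) (M →ₗ[R] E)) =
      Module.length R ((M ⧸ (maximalIdeal R • ⊤ : Submodule R M)) →ₗ[R] E) := by
  let mM : Submodule R M := maximalIdeal R • ⊤
  let Ψ : ((M ⧸ mM) →ₗ[R] E) →ₗ[R] LocCoh.torsionBy (maximalIdeal R) (M →ₗ[R] E) :=
    LinearMap.codRestrict _ (LinearMap.lcomp R E mM.mkQ) (fun φ => by
      rw [Submodule.mem_torsionBySet_iff]
      rintro ⟨a, ha⟩
      ext x
      show a • φ (mM.mkQ x) = 0
      rw [← map_smul, ← map_smul]
      have : mM.mkQ (a • x) = 0 := by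
        rw [Submodule.mkQ_apply, Submodule.Quotient.mk_eq_zero]
        exact Submodule.smul_mem_smul ha trivial
      rw [this, map_zero])
  have hΨ : Function.Bijective Ψ := by
    constructor
    · intro φ φ' h
      have h1 : φ ∘ₗ mM.mkQ = φ' ∘ₗ mM.mkQ := congrArg Subtype.val h
      apply LinearMap.ext
      intro q
      obtain ⟨x, rfl⟩ := mM.mkQ_surjective q
      exact LinearMap.congr_fun h1 x
    · rintro ⟨ψ, hψ⟩
      rw [Submodule.mem_torsionBySet_iff] at hψ
      have hle : mM ≤ LinearMap.ker ψ := by
        rw [Submodule.smul_le]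
        intro a ha x _
        rw [LinearMap.mem_ker, map_smul]
        exact LinearMap.congr_fun (hψ ⟨a, ha⟩) x
      refine ⟨mM.liftQ ψ hle, ?_⟩
      apply Subtype.ext
      apply LinearMap.ext
      intro x
      rfl
  exact (LinearEquiv.ofBijective Ψ hΨ).length_eq.symm

end Helpers

/-- Let R be a Noetherian local ring with maximal ideal m and residue field k, E an injective hull of k,
and M a finitely generated R-module with Matlis dual M^v = Hom_R(M, E). Then the minimal number of
generators of M equals the k-dimension of the socle of M^v, the submodule of elements of M^v killed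
by m (stated as its length as an R-module). -/
theorem result (R : Type u) [CommRing R] [IsNoetherianRing R] [IsLocalRing R] (E : Type u) [AddCommGroup E] [Module R E] (f : IsLocalRing.ResidueField R →ₗ[R] E) (hf : InjHull.IsInjectiveHull f) (M : Type u) [AddCommGroup M] [Module R M] [Module.Finite R M] : ((⊤ : Submodule R M).spanFinrank : ℕ∞) = Module.length R (LocCoh.torsionBy (IsLocalRing.maximalIdeal R) (M →ₗ[R] E)) := by
  have hA := spanFinrank_top_eq_length (R := R) (M := M)
  have hfin : IsFiniteLength R (M ⧸ (maximalIdeal R • ⊤ : Submodule R M)) := by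
    rw [← Module.length_ne_top_iff, ← hA]
    exact ENat.natCast_ne_top _
  rw [length_socle_eq, Groth.Agent.S5170.length_hom_eq hf _ hfin, hA]

end Groth.Agent.S17756
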