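import Groth.Statements.S18638
import Groth.Agent.Lib.Helper8GrCanonLoc
import Groth.Agent.Lib.Helper8GrInjDim
import Groth.Agent.Lib.Helper8GrGor
import Groth.Agent.Lib.Helper8GrCanonUniq
import Groth.Agent.Lib.Helper8BassGlue
import Groth.Agent.Lib.Helper29GrBaer
import Groth.Agent.S7701
import Groth.Agent.S0345

set_option autoImplicit false
universe u
open GrLC

namespace Groth.Agent.S18638

/-- Let R be a graded ring defined over a field which is Cohen–Macaulay, and K_R its canonical module.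
Then R is Gorenstein exactly when K_R is isomorphic to a degree shift R(a) of R for some integer a,
that is, there is a bijective R-linear map R → K_R homogeneous of some fixed degree. Here 'graded
ring defined over a field' means R = ⊕_{n ≥ 0} R_n is Noetherian with R_0 a field (so R is finitely
generated over R_0), m = R_+ is its unique graded maximal ideal and n = dim R; the canonical module
K_R (the graded dual of H^n_m(R)) is represented by a finitely generated graded module C together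
with a homogeneous isomorphism from Hom_R(C, E) onto H^n_m(R), where E is a *injective envelope of
R/m and H^n_m(R) is computed from a *injective resolution of R in the graded category; by graded
Matlis duality this says exactly that C ≅ K_R as graded modules. -/
theorem result (R : Type u) [CommRing R] [LocCoh.IsCohenMacaulayRing R] (𝒜 : ℤ → AddSubgroup R) [GradedRing 𝒜] (hpos : ∀ n : ℤ, n < 0 → 𝒜 n = ⊥) (h0 : IsField (GrLC.deg0 𝒜)) (m : HomogeneousIdeal 𝒜) (hm : GrLC.IsStarLocal 𝒜 m) (hmsp : m.toIdeal = Ideal.span (⋃ n ∈ Set.Ioi (0 : ℤ), (𝒜 n : Set R))) (n : ℕ) (hn : ringKrullDim R = n) (I : GrLC.StarInjRes 𝒜 𝒜) (E' : Type u) [AddCommGroup E'] [Module R E'] (𝓔 : ℤ → AddSubgroup E') [DirectSum.Decomposition 𝓔] [SetLike.GradedSMul 𝒜 𝓔] (e : (R ⧸ m.toIdeal) →ₗ[R] E') (he : GrLC.IsStarInjHull 𝒜 (GrLC.quotGr 𝒜 m) 𝓔 e) (C : Type u) [AddCommGroup C] [Module R C] (𝒞 : ℤ → AddSubgroup C) [DirectSum.Decomposition 𝒞] [SetLike.GradedSMul 𝒜 𝒞] (hC : GrLC.IsStarCanonical 𝒜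 𝒞 𝓔 m n I) : LocCoh.IsGorensteinRing R ↔ ∃ (a : ℤ) (f : R →ₗ[R] C), Function.Bijective f ∧ GrLC.IsGrHomDeg 𝒜 𝒞 f a := by
  classical
  have hp : m.toIdeal.IsPrime := Groth.Agent.Lib.Helper29GrStarLocal.isPrime 𝒜 m hm
  obtain ⟨hdim, hfin, E₀, i1, i2, f, hf, ⟨eK⟩⟩ :=
    Groth.Agent.Lib.Helper8.GrCanonLoc.exists_local_data R 𝒜 hpos h0 m hm hmsp n hn I E' 𝓔 e he
      C 𝒞 hC
  have := hfin
  have hfinC : Module.Finite R C := hC.1
  have hCM : LocCoh.IsCohenMacaulayLocalRing (Localization.AtPrime m.toIdeal) :=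
    LocCoh.IsCohenMacaulayRing.isCohenMacaulayLocalRing_localization m.toIdeal
  have h7701 := Groth.Agent.S7701.result (Localization.AtPrime m.toIdeal) n hdim E₀ f hf
    (LocalizedModule m.toIdeal.primeCompl C) eK
  constructor
  · intro hG
    have hGl : LocCoh.IsGorensteinLocalRing (Localization.AtPrime m.toIdeal) :=
      LocCoh.IsGorensteinRing.isGorensteinLocalRing_localization m.toIdeal
    obtain ⟨κ⟩ := h7701.mp hGl
    let θ : LocalizedModule m.toIdeal.primeCompl R ≃ₗ[Localization.AtPrime m.toIdeal]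
        LocalizedModule m.toIdeal.primeCompl C :=
      (Groth.Agent.Lib.Helper8.BassGlue.selfEquiv R m.toIdeal).trans κ.symm
    have hEnd := Groth.Agent.Lib.Helper8.GrGor.bijective_smul_id_of_equiv
      (Groth.Agent.Lib.Helper8.BassGlue.selfEquiv R m.toIdeal)
    obtain ⟨ψ, s, hψ⟩ := Groth.Agent.Lib.Helper8.GrCanonUniq.exists_lift m.toIdeal θ
    obtain ⟨D, hD⟩ := Groth.Agent.Lib.Helper29GrBaer.exists_sum_part 𝒜 𝒜 𝒞 ψ
    rw [← hD] at hψ
    obtain ⟨d, _, hbij⟩ := Groth.Agent.Lib.Helper8.GrCanonUniq.exists_bijective_summand m.toIdeal θ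
      hEnd D (fun d => Groth.Agent.Lib.Helper29GrBaer.part 𝒜 𝒜 𝒞 ψ d) s hψ
    have hφ := Groth.Agent.Lib.Helper29GrBaer.part_isGrHomDeg 𝒜 𝒜 𝒞 ψ d
    have hb := Groth.Agent.Lib.Helper8.GrCanonUniq.bijective_of_localized 𝒜 𝒜 𝒞 m hm
      (Groth.Agent.Lib.Helper29GrBaer.part 𝒜 𝒜 𝒞 ψ d) d hφ hbij
    exact ⟨d, Groth.Agent.Lib.Helper29GrBaer.part 𝒜 𝒜 𝒞 ψ d, hb, hφ⟩
  · rintro ⟨a, φ, hφbij, -⟩
    let eφ : R ≃ₗ[R] C := LinearEquiv.ofBijective φ hφbij
    let eloc : LocalizedModule m.toIdeal.primeCompl R ≃ₗ[Localization.AtPrime m.toIdeal]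
        LocalizedModule m.toIdeal.primeCompl C :=
      IsLocalizedModule.mapEquiv m.toIdeal.primeCompl
        (LocalizedModule.mkLinearMap m.toIdeal.primeCompl R)
        (LocalizedModule.mkLinearMap m.toIdeal.primeCompl C) (Localization.AtPrime m.toIdeal) eφ
    have hGl : LocCoh.IsGorensteinLocalRing (Localization.AtPrime m.toIdeal) :=
      h7701.mpr ⟨eloc.symm.trans (Groth.Agent.Lib.Helper8.BassGlue.selfEquiv R m.toIdeal)⟩
    obtain ⟨N, hN⟩ := hGl.exists_hasInjectiveDimensionLT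
    have := hN
    have h1 : CategoryTheory.HasInjectiveDimensionLT
        (ModuleCat.of (Localization.AtPrime m.toIdeal)
          (LocalizedModule m.toIdeal.primeCompl R)) N :=
      CategoryTheory.hasInjectiveDimensionLT_of_iso
        (Groth.Agent.Lib.Helper8.BassGlue.selfEquiv R m.toIdeal).symm.toModuleIso N
    have h2 : CategoryTheory.HasInjectiveDimensionLT
        (ModuleCat.of (Localization.AtPrime m.toIdeal)
          (LocalizedModule m.toIdeal.primeCompl R)) (N + 1) :=
      CategoryTheory.hasInjectiveDimensionLT_of_ge _ N (N + 1) (Nat.le_succ N)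
    have h3 := Groth.Agent.Lib.Helper8.GrInjDim.hasInjectiveDimensionLT_of_localization 𝒜 m hm
      R 𝒜 N h2
    exact ((Groth.Agent.S0345.result R).mp ⟨N + 2, h3⟩).1

end Groth.Agent.S18638
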