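import Groth.Statements.S5495
import Groth.Agent.Lib.Helper8Root2

set_option autoImplicit false
open RootD

namespace Groth.Agent.S5495

/-- If α is an indivisible root and kα is a root for a rational k, then k is an integer. -/
theorem result {ι M N : Type*} [AddCommGroup M] [AddCommGroup N]
    (P : RootPairing ι ℤ M N) [Finite ι] (i j : ι) (hind : RootD.IsIndiv P i) (a b : ℤ) (hb : b ≠ 0)
    (h : b • P.root j = a • P.root i) : b ∣ a := by
  open Groth.Agent.Lib.Helper8 in
  have htf := isAddTorsionFree P
  set p := P.pairing j i with hp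
  set q := P.pairing i j with hq
  have h1 : b * p = a * 2 := by
    have := congrArg (fun x => P.toLinearMap x (P.coroot i)) h
    simpa [RootPairing.root_coroot_eq_pairing] using this
  have h2 : b * 2 = a * q := by
    have := congrArg (fun x => P.toLinearMap x (P.coroot j)) h
    simpa [RootPairing.root_coroot_eq_pairing] using this
  have ha : a ≠ 0 := by
    rintro rfl
    rw [zero_smul] at h
    have h' : b • P.root j = b • (0 : M) := by rw [h, smul_zero]
    exact P.ne_zero j (smul_right_injective M hb h')
  have hpq : p * q = 4 := by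
    have : (a * b) * (p * q) = (a * b) * 4 := by
      calc (a * b) * (p * q) = (b * p) * (a * q) := by ring
        _ = (a * 2) * (b * 2) := by rw [h1, h2]
        _ = (a * b) * 4 := by ring
    exact mul_left_cancel₀ (mul_ne_zero ha hb) this
  have hq4 : q ∣ 4 := ⟨p, by rw [← hpq]; ring⟩
  have hqabs : q.natAbs ∣ 4 := by
    have := Int.natAbs_dvd_natAbs.mpr hq4
    simpa using this
  have hqle : q.natAbs ≤ 4 := Nat.le_of_dvd (by norm_num) hqabs
  have hcases : q = 1 ∨ q = -1 ∨ q = 2 ∨ q = -2 ∨ q = 4 ∨ q = -4 := by
    have h0 : q.natAbs ≠ 0 := by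
      intro h0
      rw [Int.natAbs_eq_zero] at h0
      rw [h0] at hpq
      simp at hpq
    have h3 : q.natAbs ≠ 3 := by
      intro h3
      rw [h3] at hqabs
      omega
    omega
  rcases hcases with hq1 | hq1 | hq1 | hq1 | hq1 | hq1
  · rw [hq1] at h2
    exact ⟨2, by linarith⟩
  · rw [hq1] at h2
    exact ⟨-2, by linarith⟩
  · rw [hq1] at h2
    exact ⟨1, by linarith⟩
  · rw [hq1] at h2
    exact ⟨-1, by linarith⟩
  · exfalso
    rw [hq1] at hpq
    have hp1 : p = 1 := by linarith
    rw [hp1] at h1
    have hb2 : b = a * 2 := by linarith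
    rw [hb2, mul_smul] at h
    have := smul_right_injective M ha h
    exact hind j this
  · exfalso
    rw [hq1] at hpq
    have hp1 : p = -1 := by linarith
    rw [hp1] at h1
    have hb2 : b = a * (-2) := by linarith
    rw [hb2, mul_smul] at h
    have h3 := smul_right_injective M ha h
    apply hind (P.reflectionPerm j j)
    rw [root_neg, ← h3]
    simp

end Groth.Agent.S5495
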