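import Groth.Statements.S5446
import Groth.Agent.Lib.Helper8Root9
import Groth.Agent.S5495

set_option autoImplicit false
open RootD

namespace Groth.Agent.S5446

/-- If the roots indexed by Δ are indivisible and linearly independent and every root is, up to sign, a
non-negative rational combination of them (some positive multiple is a non-negative integer
combination), then Δ is a system of simple roots: every root is, up to sign, a non-negative integer
combination of Δ. -/
theorem result {ι M N : Type*} [AddCommGroup M] [AddCommGroup N]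
    (P : RootPairing ι ℤ M N) [Finite ι] (Δ : Set ι)
    (hind : ∀ i ∈ Δ, RootD.IsIndiv P i) (hli : LinearIndepOn ℤ P.root Δ)
    (hcone : ∀ k : ι, ∃ n : ℕ, 0 < n ∧
      (n • P.root k ∈ RootD.natSpan P Δ ∨ n • (-P.root k) ∈ RootD.natSpan P Δ)) :
    RootD.IsSimpleSys P Δ := by
  open Groth.Agent.Lib.Helper8 in
  classical
  have htf := isAddTorsionFree P
  obtain ⟨ht, hht⟩ := exists_height P hli
  have hhtpos : ∀ i ∈ Δ, 0 < ht (P.root i) := fun i hi => by rw [hht i hi]; exact one_pos
  have hpointed : ∀ x : M, x ∈ natSpan P Δ → -x ∈ natSpan P Δ → x = 0 := by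
    intro x hx hx'
    rcases eq_zero_or_pos_of_mem_natSpan P ht hhtpos hx with h | h
    · exact h
    · rcases eq_zero_or_pos_of_mem_natSpan P ht hhtpos hx' with h' | h'
      · simpa using h'
      · rw [map_neg] at h'
        linarith
  set S : Set ι := {k | ∃ n : ℕ, 0 < n ∧ n • P.root k ∈ natSpan P Δ} with hS
  have hW : WeakPos P S := by
    refine ⟨?_, ?_, ?_⟩
    · rintro k ⟨n, hn, h1⟩ ⟨m, hm, h2⟩
      rw [root_neg] at h2
      have e1 : (n * m) • P.root k ∈ natSpan P Δ := by
        rw [mul_comm, mul_smul]; exact AddSubmonoid.nsmul_mem _ h1 m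
      have e2 : -((n * m) • P.root k) ∈ natSpan P Δ := by
        rw [← smul_neg, mul_smul]; exact AddSubmonoid.nsmul_mem _ h2 n
      exact nsmul_root_ne_zero P k (Nat.mul_pos hn hm) (hpointed _ e1 e2)
    · intro k
      obtain ⟨n, hn, h | h⟩ := hcone k
      · exact Or.inl ⟨n, hn, h⟩
      · right
        refine ⟨n, hn, ?_⟩
        rw [root_neg]; exact h
    · rintro i j k ⟨n, hn, h1⟩ ⟨m, hm, h2⟩ hk
      refine ⟨n * m, Nat.mul_pos hn hm, ?_⟩
      rw [hk, smul_add]
      refine AddSubmonoid.add_mem _ ?_ ?_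
      · rw [mul_comm, mul_smul]; exact AddSubmonoid.nsmul_mem _ h1 m
      · rw [mul_smul]; exact AddSubmonoid.nsmul_mem _ h2 n
  have hΔ' := weakPos_isSimpleSys hW
  have hΔS : Δ ⊆ S := fun i hi => ⟨1, one_pos, by rw [one_smul]; exact root_mem_natSpan P hi⟩
  -- non-negativity of functionals on `S`
  have hnn : ∀ (φ : M →+ ℚ), (∀ l ∈ Δ, 0 ≤ φ (P.root l)) → ∀ k ∈ S, 0 ≤ φ (P.root k) := by
    rintro φ hφ k ⟨n, hn, h⟩
    have h1 := nonneg_of_mem_natSpan P φ hφ h
    rw [map_nsmul, nsmul_eq_mul] at h1
    have hn' : (0 : ℚ) < n := by exact_mod_cast hn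
    by_contra hneg
    rw [not_le] at hneg
    have := mul_neg_of_pos_of_neg hn' hneg
    linarith
  -- step 4: `Δ ⊆ Δ'`
  have h4 : Δ ⊆ simpleOf P S := by
    intro α hα
    refine ⟨hΔS hα, fun i hi j hj hsum => ?_⟩
    obtain ⟨c, hc1, hc2⟩ := exists_coord P hli hα
    obtain ⟨ψ, hψ⟩ := exists_functional P hli fun l => if l = α then 0 else 1
    have hψα : ψ (P.root α) = 0 := by simpa using hψ α hα
    have hψnn : ∀ l ∈ Δ, 0 ≤ ψ (P.root l) := by
      intro l hl; rw [hψ l hl]; split_ifs <;> norm_num
    have hcnn : ∀ l ∈ Δ, 0 ≤ c (P.root l) := by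
      intro l hl
      by_cases hlα : l = α
      · rw [hlα, hc1]; norm_num
      · rw [hc2 l hl hlα]
    -- each summand has `c`-coordinate at least one
    have key : ∀ i ∈ S, ψ (P.root i) = 0 → 1 ≤ c (P.root i) := by
      rintro i ⟨n, hn, hmem⟩ hψi
      obtain ⟨t, y, hy, hdec⟩ := exists_decomp P α hmem
      have hy0 : y = 0 := by
        by_contra hy0
        have hpos : 0 < ψ y := by
          refine (eq_zero_or_pos_of_mem_natSpan P ψ (fun l hl => ?_) hy).resolve_left hy0
          have hne : l ≠ α := hl.2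
          rw [hψ l hl.1, if_neg hne]; exact one_pos
        have := congrArg ψ hdec
        rw [map_nsmul, hψi, map_add, map_nsmul, hψα] at this
        simp at this
        linarith
      rw [hy0, add_zero] at hdec
      have hn0 : (n : ℤ) ≠ 0 := by exact_mod_cast hn.ne'
      have hdvd := Groth.Agent.S5495.result P α i (hind α hα) t n hn0
        (by rw [natCast_zsmul, natCast_zsmul]; exact hdec)
      obtain ⟨s, hs⟩ := hdvd
      have hc := congrArg c hdec
      rw [map_nsmul, map_nsmul, hc1] at hc
      have ht0 : t ≠ 0 := by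
        rintro rfl
        rw [zero_smul] at hdec
        exact nsmul_root_ne_zero P i hn hdec
      have hs1 : 1 ≤ s := by
        by_contra hlt
        rw [not_le] at hlt
        have hn' : (0 : ℤ) < n := by exact_mod_cast hn
        have ht' : (0 : ℤ) < t := by exact_mod_cast Nat.pos_of_ne_zero ht0
        have : (n : ℤ) * s ≤ 0 := mul_nonpos_of_nonneg_of_nonpos hn'.le (by omega)
        omega
      have hcq : c (P.root i) = s := by
        have hn' : (n : ℚ) ≠ 0 := by exact_mod_cast hn.ne'
        have h1 : (n : ℚ) * c (P.root i) = (n : ℚ) * s := by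
          have : ((t : ℤ) : ℚ) = ((n : ℤ) : ℚ) * s := by rw [hs]; push_cast; ring
          simp only [nsmul_eq_mul, mul_one] at hc
          rw [hc]
          exact_mod_cast this
        exact mul_left_cancel₀ hn' h1
      rw [hcq]
      exact_mod_cast hs1
    have hψsum := congrArg ψ hsum
    rw [hψα, map_add] at hψsum
    have hψi := hnn ψ hψnn i hi
    have hψj := hnn ψ hψnn j hj
    have h1 := key i hi (by linarith)
    have h2 := key j hj (by linarith)
    have hcsum := congrArg c hsum
    rw [hc1, map_add] at hcsum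
    linarith
  -- step 5: `Δ' ⊆ Δ`
  have h5 : simpleOf P S ⊆ Δ := by
    intro δ hδ
    by_contra hδΔ
    obtain ⟨c', hc1, hc2⟩ := exists_coord P hΔ'.linInd hδ
    obtain ⟨n, hn, hmem⟩ := hδ.1
    have h0 : c' (n • P.root δ) = 0 := by
      refine eq_zero_of_mem_natSpan P c' (fun l hl => hc2 l (h4 hl) ?_) hmem
      rintro rfl
      exact hδΔ hl
    rw [map_nsmul, hc1] at h0
    simp at h0
    omega
  have : Δ = simpleOf P S := Set.Subset.antisymm h4 h5
  rw [this]
  exact hΔ'

end Groth.Agent.S5446
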