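import Groth.Statements.S1110
import Mathlib
import Groth.Agent.Lib.Helper23RelRes
-- import your own Groth.Agent.* helpers here

set_option autoImplicit false
universe u
open CategoryTheory AlgebraicGeometry
open Perf

namespace Groth.Agent.S1110

open TopologicalSpace Opposite
set_option backward.isDefEq.respectTransparency.types false
open Groth.Agent.Lib.Helper23.SecTw Groth.Agent.Lib.Helper23.GenLocus Groth.Agent.Lib.Helper23.TensorUnit
  Groth.Agent.Lib.Helper23.AmpleIso

/-- the generating locus of an isomorphism is everything -/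
theorem genLocus_eq_top_of_isIso {Z : Scheme.{u}} (L : Z.Modules) (s : Coh.structureModule Z ⟶ L) [IsIso s] :
    CohB1.genLocus L s = ⊤ := by
  rw [eq_top_iff]
  intro x _
  unfold CohB1.genLocus
  rw [Opens.mem_sSup]
  refine ⟨⊤, ?_, trivial⟩
  change IsIso _
  infer_instance

/-- on an affine scheme the structure sheaf is ample -/
theorem isAmple_structureModule_of_isAffine (Z : Scheme.{u}) [IsAffine Z] : CohB1.IsAmple (Coh.structureModule Z) := by
  refine ⟨isInvertible_structureModule Z, inferInstance, fun x => ?_⟩
  refine ⟨0, (unitTensorIso (Coh.structureModule Z)).inv, ?_, ?_⟩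
  · rw [genLocus_eq_top_of_isIso]; trivial
  · rw [genLocus_eq_top_of_isIso]; exact isAffineOpen_top Z

/-- For an affine morphism f : X ⟶ Y over a quasi-compact, quasi-separated Y, the resolution property
passes from Y up to X. (The source also treats quasi-affine f.) -/
theorem result {X Y : Scheme.{u}} (f : X ⟶ Y) [IsAffineHom f] [CompactSpace ↥Y] [QuasiSeparatedSpace ↥Y]
    (hY : PerfAux.HasResolutionProperty Y) : PerfAux.HasResolutionProperty X := by
  refine Groth.Agent.Lib.Helper23.RelRes.hasResolutionProperty_of_isRelAmple f hY (Coh.structureModule X) ⟨inferInstance, fun V => ?_⟩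
  haveI : IsAffine (↑(f ⁻¹ᵁ V.1) : Scheme.{u}) := V.2.preimage f
  exact isAmple_of_iso (Scheme.Modules.restrictUnitIso (f ⁻¹ᵁ V.1).ι).symm (isAmple_structureModule_of_isAffine _)

end Groth.Agent.S1110
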