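import Groth.Statements.S9701
-- import your own Groth.Agent.* helpers here
import Mathlib

set_option autoImplicit false
universe u
open CategoryTheory CategoryTheory.Limits AlgebraicGeometry
open Mor

namespace Groth.Agent.S9701

/-- The two-element open cover of `U ⊔ V` by `U` and `V`. -/
noncomputable def coverSup {X : Scheme.{u}} (U V : X.Opens) : (U ⊔ V).toScheme.OpenCover where
  I₀ := Bool
  X b := (cond b U V).toScheme
  f b := X.homOfLE (by cases b <;> simp)
  mem₀ := by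
    rw [Scheme.presieve₀_mem_precoverage_iff]
    refine ⟨fun x ↦ ?_, fun b => by infer_instance⟩
    rcases x.2 with h | h
    · exact ⟨true, ⟨x.1, h⟩, Subtype.ext (by simp)⟩
    · exact ⟨false, ⟨x.1, h⟩, Subtype.ext (by simp)⟩

lemma fst_comp_eq_snd_comp {X Y : Scheme.{u}} {A B W : X.Opens} (hA : A ≤ W) (hB : B ≤ W)
    (a : A.toScheme ⟶ Y) (b : B.toScheme ⟶ Y)
    (h : X.homOfLE (inf_le_left : A ⊓ B ≤ A) ≫ a = X.homOfLE (inf_le_right : A ⊓ B ≤ B) ≫ b) :
    pullback.fst (X.homOfLE hA) (X.homOfLE hB) ≫ a = pullback.snd _ _ ≫ b := by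
  refine (cancel_epi (isPullback_opens_inf_le hA hB).isoPullback.hom).mp ?_
  rw [IsPullback.isoPullback_hom_fst_assoc, IsPullback.isoPullback_hom_snd_assoc]
  exact h

set_option backward.isDefEq.respectTransparency false in
/-- Glue two morphisms defined on opens `U`, `V` agreeing on `U ⊓ V`. -/
lemma exists_glue_two {X Y : Scheme.{u}} (U V : X.Opens) (f : U.toScheme ⟶ Y) (g : V.toScheme ⟶ Y)
    (h : X.homOfLE (inf_le_left : U ⊓ V ≤ U) ≫ f = X.homOfLE (inf_le_right : U ⊓ V ≤ V) ≫ g) :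
    ∃ k : (U ⊔ V).toScheme ⟶ Y, X.homOfLE (le_sup_left : U ≤ U ⊔ V) ≫ k = f ∧
      X.homOfLE (le_sup_right : V ≤ U ⊔ V) ≫ k = g := by
  have h' : ∀ (T : X.Opens) (hTU : T ≤ U) (hTV : T ≤ V),
      X.homOfLE hTU ≫ f = X.homOfLE hTV ≫ g := by
    intro T hTU hTV
    rw [← X.homOfLE_homOfLE (le_inf hTU hTV) inf_le_left,
      ← X.homOfLE_homOfLE (le_inf hTU hTV) inf_le_right, Category.assoc, Category.assoc, h]
  let F : ∀ b : Bool, (coverSup U V).X b ⟶ Y := fun b =>
    match b with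
    | true => f
    | false => g
  have hF : ∀ x y, pullback.fst ((coverSup U V).f x) ((coverSup U V).f y) ≫ F x =
      pullback.snd _ _ ≫ F y := by
    intro x y
    match x, y with
    | true, true => exact fst_comp_eq_snd_comp le_sup_left le_sup_left f f rfl
    | true, false => exact fst_comp_eq_snd_comp le_sup_left le_sup_right f g (h' _ _ _)
    | false, true => exact fst_comp_eq_snd_comp le_sup_right le_sup_left g f (h' _ _ _).symm
    | false, false => exact fst_comp_eq_snd_comp le_sup_right le_sup_right g g rfl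
  refine ⟨(coverSup U V).glueMorphisms F hF, ?_, ?_⟩
  · exact (coverSup U V).ι_glueMorphisms F hF true
  · exact (coverSup U V).ι_glueMorphisms F hF false

lemma isGermInjectiveAt_of_isReduced_of_finite (X : Scheme.{u}) [IsReduced X]
    (hfin : (irreducibleComponents ↥X).Finite) (x : X) : X.IsGermInjectiveAt x := by
  classical
  let Zs : Set (Set X) := {Z | Z ∈ irreducibleComponents ↥X ∧ x ∉ Z}
  have hZsfin : Zs.Finite := hfin.subset fun Z hZ => hZ.1
  have hclosed : IsClosed (⋃₀ Zs) := by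
    rw [Set.sUnion_eq_biUnion]
    exact hZsfin.isClosed_biUnion fun Z hZ => isClosed_of_mem_irreducibleComponents Z hZ.1
  have hxW : x ∈ (⋃₀ Zs)ᶜ := by
    rintro ⟨Z, hZ, hxZ⟩
    exact hZ.2 hxZ
  obtain ⟨_, ⟨V, hV : IsAffineOpen V, rfl⟩, hxV, hVW⟩ :=
    X.isBasis_affineOpens.exists_subset_of_mem_open hxW hclosed.isOpen_compl
  refine ⟨⟨V, hxV, hV, ?_⟩⟩
  rw [injective_iff_map_eq_zero]
  intro s hs
  obtain ⟨V', hxV', iU, iV, e⟩ := X.presheaf.germ_eq x hxV hxV s 0 (by rw [hs, map_zero])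
  rw [map_zero] at e
  rw [← basicOpen_eq_bot_iff]
  rw [eq_bot_iff]
  intro z hz
  exfalso
  have hzV : z ∈ V := X.basicOpen_le s hz
  have hZmem : irreducibleComponent z ∈ irreducibleComponents ↥X :=
    irreducibleComponent_mem_irreducibleComponents z
  have hxZ : x ∈ irreducibleComponent z := by
    by_contra hxn
    exact hVW hzV ⟨irreducibleComponent z, ⟨hZmem, hxn⟩, mem_irreducibleComponent⟩
  have hirr : IsIrreducible (irreducibleComponent z) := isIrreducible_irreducibleComponent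
  obtain ⟨z', hz'Z, hz'V', hz's⟩ := hirr.2 V' (X.basicOpen s) V'.2 (X.basicOpen s).2
    ⟨x, hxZ, hxV'⟩ ⟨z, mem_irreducibleComponent, hz⟩
  have h1 : z' ∈ X.basicOpen (X.presheaf.map iU.op s) := by
    rw [Scheme.basicOpen_res]
    exact ⟨hz'V', hz's⟩
  rw [e] at h1
  simp at h1

theorem exists_extension_of_isGermInjectiveAt {X Y S : Scheme.{u}} (p : X ⟶ S) (q : Y ⟶ S)
    [IsProper q] (x : X) [hgi : X.IsGermInjectiveAt x]
    (U : X.Opens) (f : (U : Scheme.{u}) ⟶ Y) (hf : f ≫ q = U.ι ≫ p)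
    (hx : x ∈ closure (U : Set ↥X))
    (hdom : IsDomain (X.presheaf.stalk x)) (hval : @ValuationRing (X.presheaf.stalk x) _ hdom) :
    ∃ (U' : X.Opens) (hUU' : U ≤ U'), x ∈ U' ∧
      ∃ f' : (U' : Scheme.{u}) ⟶ Y, f' ≫ q = U'.ι ≫ p ∧ X.homOfLE hUU' ≫ f' = f := by
  classical
  haveI := hdom
  haveI := hval
  obtain ⟨V₀, hxV₀, hV₀aff, hinj⟩ := X.exists_germ_injective x
  haveI : IsDomain Γ(X, V₀) := Function.Injective.isDomain (X.presheaf.germ V₀ x hxV₀).hom hinj
  haveI : IsAffine V₀.toScheme := hV₀aff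
  haveI : Nonempty V₀.toScheme := ⟨⟨x, hxV₀⟩⟩
  haveI : IsDomain Γ(V₀.toScheme, ⊤) := Function.Injective.isDomain (V₀.topIso).hom.hom
    (ConcreteCategory.bijective_of_isIso (V₀.topIso).hom).1
  haveI : IsIntegral V₀.toScheme := isIntegral_of_isAffine_of_isDomain _
  -- the generic point of Spec 𝒪_{X,x}
  let K : Type u := FractionRing (X.presheaf.stalk x)
  let jK : Spec (CommRingCat.of K) ⟶ X :=
    Spec.map (CommRingCat.ofHom (algebraMap (X.presheaf.stalk x) K)) ≫ X.fromSpecStalk x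
  have hpt : ∀ pt : Spec (CommRingCat.of K), pt = IsLocalRing.closedPoint K :=
    fun pt => Subsingleton.elim _ _
  set ξ : X := jK (IsLocalRing.closedPoint K) with hξ
  -- ξ specializes to every generization of x
  have hG : ∀ η : X, η ⤳ x → ξ ⤳ η := by
    intro η hη
    have : η ∈ Set.range (X.fromSpecStalk x) := by rw [Scheme.range_fromSpecStalk]; exact hη
    obtain ⟨𝔭, rfl⟩ := this
    change X.fromSpecStalk x (Spec.map (CommRingCat.ofHom (algebraMap (X.presheaf.stalk x) K))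
      (IsLocalRing.closedPoint K)) ⤳ _
    apply Specializes.map _ (X.fromSpecStalk x).continuous
    refine (PrimeSpectrum.le_iff_specializes _ _).mp ?_
    intro a ha
    change algebraMap (X.presheaf.stalk x) K a ∈ IsLocalRing.maximalIdeal K at ha
    rw [IsLocalRing.maximalIdeal_eq_bot, Ideal.mem_bot] at ha
    have : a = 0 := (IsFractionRing.injective (X.presheaf.stalk x) K) (by rw [ha, map_zero])
    rw [this]; exact zero_mem _
  have hξx : ξ ⤳ x := hG x specializes_rfl
  -- ξ specializes to every point of V₀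
  have hF0 : ∀ v : X, v ∈ V₀ → ξ ⤳ v := by
    intro v hv
    have h1 : (genericPoint V₀.toScheme) ⤳ (⟨x, hxV₀⟩ : V₀.toScheme) := genericPoint_specializes _
    have h2 : (genericPoint V₀.toScheme) ⤳ (⟨v, hv⟩ : V₀.toScheme) := genericPoint_specializes _
    have h1' := h1.map V₀.ι.continuous
    have h2' := h2.map V₀.ι.continuous
    exact (hG _ h1').trans h2'
  -- ξ ∈ U
  have hξU : ξ ∈ U := by
    obtain ⟨v, hvV₀, hvU⟩ := mem_closure_iff.mp hx V₀ V₀.2 hxV₀
    exact (hF0 v hvV₀).mem_open U.2 hvU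
  have hjKU : Set.range jK ⊆ Set.range U.ι := by
    rintro _ ⟨pt, rfl⟩
    rw [hpt pt, Scheme.Opens.range_ι]
    exact hξU
  let jU : Spec (CommRingCat.of K) ⟶ U.toScheme := IsOpenImmersion.lift U.ι jK hjKU
  have hjU : jU ≫ U.ι = jK := IsOpenImmersion.lift_fac _ _ _
  -- the valuative square
  have hc : CommSq (jU ≫ f) (Spec.map (CommRingCat.ofHom (algebraMap (X.presheaf.stalk x) K))) q
      (X.fromSpecStalk x ≫ p) := ⟨by
    rw [Category.assoc, hf, ← Category.assoc, hjU, Category.assoc]⟩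
  let sq : ValuativeCommSq q :=
    { R := X.presheaf.stalk x, domain := hdom, valuationRing := hval, K := K, i₁ := jU ≫ f, i₂ := X.fromSpecStalk x ≫ p, commSq := hc }
  have hE : ValuativeCriterion.Existence q := by
    have h1 : UniversallyClosed q := inferInstance
    rw [UniversallyClosed.eq_valuativeCriterion] at h1
    exact h1.1
  obtain ⟨⟨l, hl1, hl2⟩⟩ := (hE sq).exists_lift
  change Spec.map (CommRingCat.ofHom (algebraMap (X.presheaf.stalk x) K)) ≫ l = jU ≫ f at hl1
  change l ≫ q = X.fromSpecStalk x ≫ p at hl2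
  obtain ⟨V₁, hxV₁, f₁, hlf₁, hf₁⟩ := spread_out_of_isGermInjective' p q l hl2
  -- the open V₂ and T
  set V₂ : X.Opens := V₁ ⊓ V₀ with hV₂
  have hxV₂ : x ∈ V₂ := ⟨hxV₁, hxV₀⟩
  set T : X.Opens := U ⊓ V₂ with hT
  have hTU : T ≤ U := inf_le_left
  have hTV₂ : T ≤ V₂ := inf_le_right
  have hTV₁ : T ≤ V₁ := hTV₂.trans inf_le_left
  have hTV₀ : T ≤ V₀ := hTV₂.trans inf_le_right
  have hξT : ξ ∈ T := ⟨hξU, hξx.mem_open V₁.2 hxV₁, hξx.mem_open V₀.2 hxV₀⟩
  have hjKT : Set.range jK ⊆ Set.range T.ι := by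
    rintro _ ⟨pt, rfl⟩
    rw [hpt pt, Scheme.Opens.range_ι]
    exact hξT
  let jT : Spec (CommRingCat.of K) ⟶ T.toScheme := IsOpenImmersion.lift T.ι jK hjKT
  have hjT : jT ≫ T.ι = jK := IsOpenImmersion.lift_fac _ _ _
  haveI : IsReduced T.toScheme := isReduced_of_isOpenImmersion (X.homOfLE hTV₀)
  haveI : IsDominant jT := by
    constructor
    intro t
    have h1 : jT (IsLocalRing.closedPoint K) ⤳ t := by
      rw [← T.ι.isOpenEmbedding.isInducing.specializes_iff]
      have : T.ι (jT (IsLocalRing.closedPoint K)) = ξ := by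
        change (jT ≫ T.ι) (IsLocalRing.closedPoint K) = ξ
        rw [hjT]
      rw [this]
      exact hF0 _ (hTV₀ t.2)
    exact closure_mono (Set.singleton_subset_iff.mpr (Set.mem_range_self (IsLocalRing.closedPoint K)))
      (specializes_iff_mem_closure.mp h1)
  have hab : X.homOfLE hTU ≫ f = X.homOfLE hTV₁ ≫ f₁ := by
    apply ext_of_isDominant_of_isSeparated q _ jT
    · have e1 : jT ≫ X.homOfLE hTU = jU := by
        rw [← cancel_mono U.ι, Category.assoc, Scheme.homOfLE_ι, hjT, hjU]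
      have e2 : jT ≫ X.homOfLE hTV₁ =
          Spec.map (CommRingCat.ofHom (algebraMap (X.presheaf.stalk x) K)) ≫ V₁.fromSpecStalkOfMem x hxV₁ := by
        rw [← cancel_mono V₁.ι, Category.assoc, Scheme.homOfLE_ι, hjT, Category.assoc,
          Scheme.Opens.fromSpecStalkOfMem_ι]
      rw [← Category.assoc, e1, ← Category.assoc, e2, Category.assoc, ← hlf₁, hl1]
    · rw [Category.assoc, hf, Category.assoc, hf₁, ← Category.assoc, ← Category.assoc,
        Scheme.homOfLE_ι, Scheme.homOfLE_ι]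
  -- glue
  obtain ⟨k, hk1, hk2⟩ := exists_glue_two U V₂ f (X.homOfLE (inf_le_left : V₂ ≤ V₁) ≫ f₁) (by
    rw [← Category.assoc, Scheme.homOfLE_homOfLE]
    exact hab)
  refine ⟨U ⊔ V₂, le_sup_left, Or.inr hxV₂, k, ?_, hk1⟩
  apply (coverSup U V₂).hom_ext
  intro b
  match b with
  | true =>
    change X.homOfLE (le_sup_left : U ≤ U ⊔ V₂) ≫ k ≫ q =
      X.homOfLE (le_sup_left : U ≤ U ⊔ V₂) ≫ (U ⊔ V₂).ι ≫ p
    rw [← Category.assoc, hk1, hf, ← Category.assoc, Scheme.homOfLE_ι]
  | false =>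
    change X.homOfLE (le_sup_right : V₂ ≤ U ⊔ V₂) ≫ k ≫ q =
      X.homOfLE (le_sup_right : V₂ ≤ U ⊔ V₂) ≫ (U ⊔ V₂).ι ≫ p
    rw [← Category.assoc, hk2, Category.assoc, hf₁, ← Category.assoc, ← Category.assoc,
      Scheme.homOfLE_ι, Scheme.homOfLE_ι]

/-- Let p : X ⟶ S and q : Y ⟶ S with q proper, let x be a point of X whose local ring is a valuation
ring, U ⊆ X an open with x in the closure of U, and f : U ⟶ Y a morphism over S. Assume that X is
Noetherian, or else that X is reduced and has only finitely many irreducible components. Then there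
are an open U' of X containing U and x and a morphism f' : U' ⟶ Y over S extending f. -/
theorem result {X Y S : Scheme.{u}} (p : X ⟶ S) (q : Y ⟶ S)
    [IsProper q] (x : X) (U : X.Opens) (f : (U : Scheme.{u}) ⟶ Y) (hf : f ≫ q = U.ι ≫ p)
    (hx : x ∈ closure (U : Set ↥X))
    (hX : (IsReduced X ∧ (irreducibleComponents ↥X).Finite) ∨ IsNoetherian X)
    (hdom : IsDomain (X.presheaf.stalk x)) (hval : @ValuationRing (X.presheaf.stalk x) _ hdom) :
    ∃ (U' : X.Opens) (hUU' : U ≤ U'), x ∈ U' ∧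
      ∃ f' : (U' : Scheme.{u}) ⟶ Y, f' ≫ q = U'.ι ≫ p ∧ X.homOfLE hUU' ≫ f' = f := by
  have hgi : X.IsGermInjectiveAt x := by
    rcases hX with ⟨hred, hfin⟩ | hN
    · exact isGermInjectiveAt_of_isReduced_of_finite X hfin x
    · infer_instance
  exact exists_extension_of_isGermInjectiveAt p q x U f hf hx hdom hval

end Groth.Agent.S9701
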