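import Groth.Statements.S10192
import Mathlib
import Groth.Agent.S9876
import Groth.Agent.S10176
import Groth.Agent.S10177
import Groth.Agent.Lib.Helper12ClosedSub
import Groth.Agent.Lib.Helper12Reduced
import Groth.Agent.Lib.Helper11RedCl

set_option autoImplicit false
universe u
open CategoryTheory CategoryTheory.Limits AlgebraicGeometry Topology TopologicalSpace
open AlgSp

namespace Groth.Agent.S10192





/-- For an algebraic space X over a scheme S and a closed subset T of |X| there is a reduced closed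
subspace Z of X with |Z| = T, that is, an algebraic space Z with a morphism Z ⟶ X representable by
closed immersions whose image in |X| is T and such that Z is reduced. (Only existence is asserted;
uniqueness is not part of this row.) -/
theorem result {S : Scheme.{u}} (X : AlgSp.Space S) (T : Set (AlgSp.Points X.obj))
    (hT : IsClosed T) :
    ∃ (Z : AlgSp.Space S) (i : Z ⟶ X), AlgSp.IsRedInduced T i.hom := by
  obtain ⟨V, p, hpe, hps⟩ := X.property.atlas
  -- the reduced induced structure on the preimage of `T`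
  let TV : TopologicalSpace.Closeds ↥V.left :=
    ⟨AlgSp.Points.ofPt p ⁻¹' T, hT.preimage (AlgSp.Points.continuous_ofPt p)⟩
  obtain ⟨J, hJ⟩ : ∃ J : V.left.IdealSheafData, J = Scheme.IdealSheafData.vanishingIdeal TV :=
    ⟨_, rfl⟩
  haveI : IsReduced J.subscheme := by
    rw [hJ]; exact Groth.Agent.Lib.Helper11RedCl.isReduced_subscheme_vanishingIdeal TV
  have hrange : Set.range J.subschemeι = AlgSp.Points.ofPt p ⁻¹' T := by
    rw [hJ]; exact Groth.Agent.Lib.Helper11RedCl.range_subschemeι_vanishingIdeal TV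
  have hlift : ∀ {C : Scheme.{u}} [IsReduced C] (x : C ⟶ V.left),
      Set.range x ⊆ (TV : Set ↥V.left) → ∃ l : C ⟶ J.subscheme, l ≫ J.subschemeι = x := by
    subst hJ
    intro C _ x hx
    exact Groth.Agent.Lib.Helper11RedCl.exists_lift_of_range_subset x TV hx
  obtain ⟨z, hz⟩ : ∃ z : Over.mk (J.subschemeι ≫ V.hom) ⟶ V, z = Over.homMk J.subschemeι rfl :=
    ⟨_, rfl⟩
  have hzl : z.left = J.subschemeι := by rw [hz]; rfl
  haveI : IsClosedImmersion z.left := by rw [hzl]; infer_instance
  -- invariance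
  have hinv : ∀ (A : Over S) (a : A ⟶ Over.mk (J.subschemeι ≫ V.hom)) (b : A ⟶ V),
      (AlgSp.yon S).map (a ≫ z) ≫ p = (AlgSp.yon S).map b ≫ p →
      ∃ b' : A ⟶ Over.mk (J.subschemeι ≫ V.hom), b' ≫ z = b := by
    intro A a b hab
    obtain ⟨R, t, s', sqR⟩ := hpe.1 p
    obtain ⟨s, rfl⟩ := (AlgSp.yon S).map_surjective s'
    haveI : Etale s.left := hpe.2 _ _ s sqR.flip
    obtain ⟨ρ, hρ⟩ := (AlgSp.yon S).map_surjective (sqR.lift _ _ hab)
    have hρ1 : ρ ≫ s = a ≫ z := by
      apply (AlgSp.yon S).map_injective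
      rw [Functor.map_comp, hρ, sqR.lift_fst]
    have hρ2 : ρ ≫ t = b := by
      apply (AlgSp.yon S).map_injective
      rw [Functor.map_comp, hρ, sqR.lift_snd]
    -- `C = ZV ×_{V,s} R` is reduced
    haveI : Etale (pullback.snd s.left J.subschemeι) := inferInstance
    haveI : IsReduced (pullback s.left J.subschemeι) :=
      Groth.Agent.Lib.Helper12.Reduced.isReduced_of_smooth (pullback.snd s.left J.subschemeι)
    have hsub : Set.range (pullback.fst s.left J.subschemeι ≫ t.left) ⊆ (TV : Set ↥V.left) := by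
      rintro _ ⟨c, rfl⟩
      show AlgSp.Points.ofPt p ((pullback.fst s.left J.subschemeι ≫ t.left) c) ∈ T
      rw [Scheme.Hom.comp_apply, ← Groth.Agent.S10176.ofPt_map_comp t p, ← sqR.w,
        Groth.Agent.S10176.ofPt_map_comp s p, ← Scheme.Hom.comp_apply, pullback.condition,
        Scheme.Hom.comp_apply]
      have : J.subschemeι (pullback.snd s.left J.subschemeι c) ∈ Set.range J.subschemeι := ⟨_, rfl⟩
      rw [hrange] at this
      exact this
    obtain ⟨l, hl⟩ := hlift (pullback.fst s.left J.subschemeι ≫ t.left) hsub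
    have hγ : ρ.left ≫ s.left = a.left ≫ J.subschemeι := by
      rw [← Over.comp_left, hρ1, Over.comp_left, hzl]
    have hb'l : (pullback.lift ρ.left a.left hγ ≫ l) ≫ J.subschemeι = b.left := by
      rw [Category.assoc, hl, ← Category.assoc, pullback.lift_fst, ← Over.comp_left, hρ2]
    refine ⟨Over.homMk (pullback.lift ρ.left a.left hγ ≫ l) ?_, ?_⟩
    · show (pullback.lift ρ.left a.left hγ ≫ l) ≫ (J.subschemeι ≫ V.hom) = A.hom
      rw [← Category.assoc, hb'l, Over.w b]
    · apply Over.OverMorphism.ext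
      rw [Over.comp_left, hzl]
      exact hb'l
  obtain ⟨Z, i, q, sqZ, hi⟩ :=
    Groth.Agent.Lib.Helper12.ClosedSub.exists_closed_subspace p hpe hps z hinv
  have hqe : AlgSp.RepWith @Etale q :=
    MorphismProperty.of_isPullback (P := AlgSp.RepWith @Etale) sqZ.flip hpe
  have hqs : AlgSp.RepWith @Surjective q :=
    MorphismProperty.of_isPullback (P := AlgSp.RepWith @Surjective) sqZ.flip hps
  have hZ : AlgSp.IsAlgSpace Z := by
    rw [← AlgSp.isAlgSpaceP_obj_iff]
    refine Groth.Agent.S9876.result S X Z.obj i.hom ?_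
    intro U ξ
    obtain ⟨b, snd, fst, sq⟩ := hi.1 (ObjectProperty.homMk ξ : (AlgSp.yon S).obj U ⟶ X.obj)
    exact ⟨b, snd, fst.hom, sq.map (sheafToPresheaf _ _)⟩
  refine ⟨⟨Z, hZ⟩, ObjectProperty.homMk i, hi, ?_, ⟨_, q, hqe, hqs, ‹IsReduced J.subscheme›⟩⟩
  show Set.range (AlgSp.Points.map i) = T
  ext x
  constructor
  · rintro ⟨y, rfl⟩
    obtain ⟨w, rfl⟩ := Groth.Agent.S10177.surjective_ofPt q hqs y
    rw [AlgSp.Points.map_ofPt, sqZ.w, Groth.Agent.S10176.ofPt_map_comp]
    have : z.left w ∈ Set.range J.subschemeι := by rw [hzl]; exact ⟨_, rfl⟩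
    rw [hrange] at this
    exact this
  · intro hx
    obtain ⟨v, rfl⟩ := Groth.Agent.S10177.surjective_ofPt p hps x
    have hv : v ∈ Set.range J.subschemeι := by rw [hrange]; exact hx
    obtain ⟨w, rfl⟩ := hv
    refine ⟨AlgSp.Points.ofPt q w, ?_⟩
    rw [AlgSp.Points.map_ofPt, sqZ.w, Groth.Agent.S10176.ofPt_map_comp, hzl]

end Groth.Agent.S10192
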