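import Groth.Statements.S0648
import Mathlib
import Groth.Agent.S0647
import Groth.Agent.Lib.Helper16PointSum2
import Groth.Agent.Lib.Helper16EtStalk
-- import your own Groth.Agent.* helpers here

set_option autoImplicit false
open CategoryTheory CategoryTheory.Limits AlgebraicGeometry Opposite
universe u
open EtCore

namespace Groth.Agent.S0648

open Groth.Agent.Lib.Helper16.EtStalk Groth.Agent.Lib.Helper16.PointSum


attribute [local instance] Abelian.hasFiniteBiproducts in
instance ab4 : AB4OfSize.{u} AddCommGrpCat.{u + 1} := AB4.of_AB5 _

set_option backward.isDefEq.respectTransparency.types false in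
lemma mono_extZero_map {U X : Scheme.{u}} (j : U ⟶ X) [AlgebraicGeometry.Etale j] [EtShriek.JCont j]
    {F F' : EtCoh.Ab U} (f : F ⟶ F') [Mono f] : Mono ((EtShriek.extZero j).map f) := by
  apply mono_of_stalks
  intro Ω _ _ ξ
  let e := natIso (A := AddCommGrpCat.{u + 1}) (EtShriek.compEtale j)
    (Scheme.pointSmallEtale ξ) (fun u : Groth.Agent.S0647.Idx j ξ => Scheme.pointSmallEtale u.1)
    (Groth.Agent.S0647.dEquiv j ξ) (fun g u t => Groth.Agent.S0647.dEquiv_map j ξ g u t)
  have h1 : Mono ((sumFiber (A := AddCommGrpCat.{u + 1})
      (fun u : Groth.Agent.S0647.Idx j ξ => Scheme.pointSmallEtale u.1)).map f) := by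
    have : ∀ u : Groth.Agent.S0647.Idx j ξ, Mono ((Scheme.pointSmallEtale u.1).sheafFiber.map f) :=
      fun u => inferInstance
    exact sigmaMap_mono (fun u : Groth.Agent.S0647.Idx j ξ =>
      (Scheme.pointSmallEtale u.1).sheafFiber.map f)
  have h2 : Mono ((EtShriek.extZero j ⋙ EtCoh.stalk ξ).map f) := by
    have nat := e.hom.naturality f
    have h3 : Mono ((EtShriek.extZero j ⋙ EtCoh.stalk ξ).map f ≫ e.hom.app F') := by
      rw [nat]; infer_instance
    exact mono_of_mono _ (e.hom.app F')
  exact (AddCommGrpCat.mono_iff_injective _).mp h2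

instance restr_additive {U X : Scheme.{u}} (j : U ⟶ X) [AlgebraicGeometry.Etale j] [EtShriek.JCont j] :
    (EtShriek.restrAlong j).Additive where


/-- For an etale morphism j : U -> X the extension by zero functor j_! on abelian sheaves preserves
finite limits (it is a left adjoint, so it is then exact). (Continuity of the composition functor of
etale sites, which always holds, is carried as an instance hypothesis.) -/
theorem result {U X : Scheme.{u}} (j : U ⟶ X) [AlgebraicGeometry.Etale j] [EtShriek.JCont j] :
    PreservesFiniteLimits (EtShriek.extZero j) := by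
  have hadd : (EtShriek.extZero j).Additive := (EtShriek.extZeroAdj j).left_adjoint_additive
  have hcolim : PreservesFiniteColimits (EtShriek.extZero j) := by
    have := (EtShriek.extZeroAdj j).leftAdjoint_preservesColimits
    infer_instance
  rw [Functor.preservesFiniteLimits_iff_forall_exact_map_and_mono]
  intro S hS
  have h1 := (Functor.preservesFiniteColimits_iff_forall_exact_map_and_epi _).mp hcolim S hS
  have : Mono S.f := hS.mono_f
  exact ⟨h1.1, mono_extZero_map j S.f⟩

end Groth.Agent.S0648
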