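import Groth.Statements.S10496
import Mathlib
import Groth.Agent.S10192
import Groth.Agent.S9922
import Groth.Agent.S9938
import Groth.Agent.S10412
import Groth.Agent.S10177
import Groth.Agent.Lib.Helper12ZarGlue2

set_option autoImplicit false
universe u
open CategoryTheory CategoryTheory.Limits AlgebraicGeometry Topology TopologicalSpace
open AlgSp

namespace Groth.Agent.S10496


variable {S : Scheme.{u}}

/-- a monomorphism of algebraic spaces is injective on points. -/
lemma injective_map_of_mono {Z X : AlgSp.Space S} (i : Z ⟶ X) [Mono i.hom] :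
    Function.Injective (AlgSp.Points.map i.hom) := by
  have h1 := ((Groth.Agent.S9938.result i).1.1 (fun K _ str a a' h => by
    exact (cancel_mono i.hom).1 h))
  exact h1 X.property (𝟙 _) (𝟙 _) i.hom (IsPullback.of_horiz_isIso ⟨by simp⟩)

/-- a closed immersion of algebraic spaces is closed on points. -/
lemma isClosedMap_map_of_closedImmersion {Z X : AlgSp.Space S} (i : Z ⟶ X)
    (hi : AlgSp.RepWith @IsClosedImmersion i.hom) : IsClosedMap (AlgSp.Points.map i.hom) := by
  have h0 : AlgSp.RepWith @UniversallyClosed i.hom :=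
    (AlgSp.repWith_iff _ _).2 ⟨hi.1, fun U V g fst snd sq => by
      haveI : IsClosedImmersion snd.left := hi.2 g fst snd sq
      exact (inferInstance : UniversallyClosed snd.left)⟩
  have h1 := (Groth.Agent.S9922.result i hi.1).1 h0
  exact h1 X.property (𝟙 _) (𝟙 _) i.hom (IsPullback.of_horiz_isIso ⟨by simp⟩)

/-- a closed subspace of a decent space is decent. -/
lemma isDecent_of_closedImmersion {Z X : AlgSp.Sp S} (hX : AlgSp.IsDecent X) (i : Z ⟶ X) [Mono i]
    (hi : AlgSp.RepWith @IsClosedImmersion i) (hinj : Function.Injective (AlgSp.Points.map i)) :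
    AlgSp.IsDecent Z := by
  intro x
  obtain ⟨q, hq, hqm, hqc⟩ := hX (AlgSp.Points.map i x)
  obtain ⟨W, w, fst', sqW⟩ := hi.1 q.toHom
  haveI : IsClosedImmersion w.left := hi.2 _ _ w sqW
  have hcp : ∀ r : AlgSp.FieldPt X, AlgSp.Points.ofPt r.toHom (IsLocalRing.closedPoint r.K) =
      AlgSp.Points.mk r := fun r => Groth.Agent.S10177.ofPt_closedPoint r
  have hmem : IsLocalRing.closedPoint q.K ∈ Set.range w.left := by
    refine Groth.Agent.Lib.Helper12.ZarGlue.mem_range_of_mem_range_map i q.toHom fst' w sqW _ ?_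
    rw [hcp q, hq]
    exact ⟨x, rfl⟩
  haveI : Subsingleton ↥q.pt.left := (inferInstance : Subsingleton (PrimeSpectrum q.K))
  haveI : Surjective w.left := ⟨fun y => by
    obtain ⟨w₀, hw₀⟩ := hmem
    exact ⟨w₀, hw₀.trans (Subsingleton.elim _ _)⟩⟩
  haveI : IsReduced q.pt.left := (inferInstance : IsReduced (Spec (CommRingCat.of q.K)))
  haveI : IsIso w.left := isIso_of_isClosedImmersion_of_surjective w.left
  haveI : IsIso ((Over.forget S).map w) := ‹IsIso w.left›
  haveI : IsIso w := isIso_of_reflects_iso w (Over.forget S)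
  obtain ⟨q', hq'⟩ : ∃ q' : (AlgSp.yon S).obj q.pt ⟶ Z, q' ≫ i = q.toHom :=
    ⟨(AlgSp.yon S).map (inv w) ≫ fst', by
      rw [Category.assoc, sqW.w, ← Category.assoc, ← Functor.map_comp, IsIso.inv_hom_id,
        (AlgSp.yon S).map_id, Category.id_comp]⟩
  let p₀ : AlgSp.FieldPt Z := ⟨q.K, q.str, (AlgSp.J S).uliftYonedaEquiv q'⟩
  have hp₀ : p₀.toHom = q' := Equiv.symm_apply_apply _ _
  refine ⟨p₀, ?_, ?_, ?_⟩
  · apply hinj
    rw [AlgSp.Points.map_mk, ← hq, ← hcp (p₀.map i), ← hcp q]
    have : (p₀.map i).toHom = q.toHom := by rw [AlgSp.FieldPt.toHom_map, hp₀, hq']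
    exact congrArg (fun a => AlgSp.Points.ofPt a (IsLocalRing.closedPoint q.K)) this
  · rw [hp₀]
    haveI : Mono (q' ≫ i) := by rw [hq']; exact hqm
    exact mono_of_mono q' i
  · rw [hp₀]
    exact Groth.Agent.S10412.repWith_of_comp_mono _ q' i (by rw [hq']; exact hqc)



/-- Let X be a decent algebraic space over a scheme S. For every irreducible closed subset T of |X|
there is an integral closed subspace Z of X with |Z| = T. -/
theorem result {S : Scheme.{u}} (X : AlgSp.Space S)
    (hX : AlgSp.IsDecent X.obj) (T : Set (AlgSp.Points X.obj)) (hT : IsClosed T) (hTi : IsIrreducible T) :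
    ∃ (Z : AlgSp.Space S) (i : Z ⟶ X), AlgSp.RepWith @IsClosedImmersion i.hom ∧ AlgSp.IsIntegralSp Z.obj ∧
      Set.range (AlgSp.Points.map i.hom) = T := by
  obtain ⟨Z, i, hi, hrange, hred⟩ := Groth.Agent.S10192.result X T hT
  haveI : Mono i.hom := Groth.Agent.S9928.mono_of_repWith @IsClosedImmersion
    (fun X Y g hg => by haveI : IsClosedImmersion g := hg; infer_instance) i.hom hi
  have hinj := injective_map_of_mono i
  have hclosed := isClosedMap_map_of_closedImmersion i hi
  refine ⟨Z, i, hi, ⟨hred, isDecent_of_closedImmersion hX i.hom hi hinj, ?_⟩, hrange⟩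
  have hemb : Topology.IsEmbedding (AlgSp.Points.map i.hom) :=
    (Topology.IsClosedEmbedding.of_continuous_injective_isClosedMap
      (AlgSp.Points.continuous_map i.hom) hinj hclosed).isEmbedding
  haveI : IrreducibleSpace ↥(Set.range (AlgSp.Points.map i.hom)) := by
    rw [hrange]; exact Subtype.irreducibleSpace hTi
  exact (hemb.toHomeomorph.irreducibleSpace_iff).2 inferInstance

end Groth.Agent.S10496
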