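import Groth.Statements.S9964
import Mathlib
import Groth.Agent.S9876
import Groth.Agent.S9874
import Groth.Agent.Lib.Helper12ClosedSub
import Groth.Agent.Lib.Helper12SchImage

set_option autoImplicit false
universe u
open CategoryTheory CategoryTheory.Limits AlgebraicGeometry
open AlgSp

namespace Groth.Agent.S9964





/-- Every morphism of algebraic spaces has a scheme theoretic image, a smallest closed subspace of the
target through which it factors. -/
theorem result {S : Scheme.{u}} {X Y : AlgSp.Space S} (f : X ⟶ Y) :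
    ∃ (Z : AlgSp.Space S) (i : Z ⟶ Y), AlgSp.IsSchImage f.hom i.hom := by
  obtain ⟨V, p, hpe, hps⟩ := Y.property.atlas
  haveI : Epi p := Groth.Agent.S9927.epi_of_repWith p hpe hps
  -- a chart of `X ×_Y V`
  have hXV : AlgSp.IsAlgSpace (pullback f.hom p) :=
    Groth.Agent.S9874.isAlgSpace_of_isPullback Y.property.diag X.property
      (AlgSp.IsAlgSpace.yon_obj V) (IsPullback.of_hasPullback f.hom p)
  obtain ⟨U, w, hwe, hws⟩ := hXV.atlas
  haveI : Epi w := Groth.Agent.S9927.epi_of_repWith w hwe hws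
  haveI : Epi (pullback.fst f.hom p) :=
    Groth.Agent.Lib.Helper9.ToposLike.epi_of_isPullback (IsPullback.of_hasPullback f.hom p)
      inferInstance
  obtain ⟨e, he⟩ := (AlgSp.yon S).map_surjective (w ≫ pullback.snd f.hom p)
  have hae : (w ≫ pullback.fst f.hom p) ≫ f.hom = (AlgSp.yon S).map e ≫ p := by
    rw [he, Category.assoc, Category.assoc, pullback.condition]
  -- the relation
  obtain ⟨R, t, s', sqR⟩ := hpe.1 p
  obtain ⟨s, rfl⟩ := (AlgSp.yon S).map_surjective s'
  -- the largest invariant ideal contained in the kernel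
  obtain ⟨J, hJdef⟩ : ∃ J : V.left.IdealSheafData,
      J = sSup {J : V.left.IdealSheafData | J.comap s.left = J.comap t.left ∧ J ≤ e.left.ker} :=
    ⟨_, rfl⟩
  have hJ : J.comap s.left = J.comap t.left := by
    rw [hJdef, (Scheme.IdealSheafData.map_gc s.left).l_sSup,
      (Scheme.IdealSheafData.map_gc t.left).l_sSup]
    refine iSup_congr fun I => iSup_congr fun hI => hI.1
  have hJle : J ≤ e.left.ker := by
    rw [hJdef]
    exact sSup_le fun I hI => hI.2
  have hJmax : ∀ I : V.left.IdealSheafData, I.comap s.left = I.comap t.left → I ≤ e.left.ker →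
      I ≤ J := fun I h1 h2 => by rw [hJdef]; exact le_sSup ⟨h1, h2⟩
  obtain ⟨z, hz⟩ : ∃ z : Over.mk (J.subschemeι ≫ V.hom) ⟶ V, z = Over.homMk J.subschemeι rfl :=
    ⟨_, rfl⟩
  have hzl : z.left = J.subschemeι := by rw [hz]; rfl
  haveI : IsClosedImmersion z.left := by rw [hzl]; infer_instance
  have hinv : ∀ (A : Over S) (a : A ⟶ Over.mk (J.subschemeι ≫ V.hom)) (b : A ⟶ V),
      (AlgSp.yon S).map (a ≫ z) ≫ p = (AlgSp.yon S).map b ≫ p →
      ∃ b' : A ⟶ Over.mk (J.subschemeι ≫ V.hom), b' ≫ z = b := by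
    intro A a b hab
    obtain ⟨ρ, hρ⟩ := (AlgSp.yon S).map_surjective (sqR.lift _ _ hab)
    have hρ1 : ρ ≫ s = a ≫ z := by
      apply (AlgSp.yon S).map_injective
      rw [Functor.map_comp, hρ, sqR.lift_fst]
    have hρ2 : ρ ≫ t = b := by
      apply (AlgSp.yon S).map_injective
      rw [Functor.map_comp, hρ, sqR.lift_snd]
    have ha : ρ.left ≫ s.left = a.left ≫ J.subschemeι := by
      rw [← Over.comp_left, hρ1, Over.comp_left, hzl]
    obtain ⟨b', hb'⟩ := Groth.Agent.Lib.Helper12.SchImage.exists_lift_of_comap_eq J s.left t.left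
      hJ ρ.left a.left ha
    have hb'l : b' ≫ J.subschemeι = b.left := by rw [hb', ← Over.comp_left, hρ2]
    refine ⟨Over.homMk b' ?_, ?_⟩
    · show b' ≫ (J.subschemeι ≫ V.hom) = A.hom
      rw [← Category.assoc, hb'l, Over.w b]
    · apply Over.OverMorphism.ext
      rw [Over.comp_left, hzl]
      exact hb'l
  obtain ⟨Z, i, q, sqZ, hi⟩ :=
    Groth.Agent.Lib.Helper12.ClosedSub.exists_closed_subspace p hpe hps z hinv
  have hqe : AlgSp.RepWith @Etale q :=
    MorphismProperty.of_isPullback (P := AlgSp.RepWith @Etale) sqZ.flip hpe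
  have hqs : AlgSp.RepWith @Surjective q :=
    MorphismProperty.of_isPullback (P := AlgSp.RepWith @Surjective) sqZ.flip hps
  haveI : Epi q := Groth.Agent.S9927.epi_of_repWith q hqe hqs
  haveI : Mono i := Groth.Agent.S9928.mono_of_repWith @IsClosedImmersion
    (fun X Y g hg => by haveI : IsClosedImmersion g := hg; infer_instance) i hi
  have hZ : AlgSp.IsAlgSpace Z := by
    rw [← AlgSp.isAlgSpaceP_obj_iff]
    refine Groth.Agent.S9876.result S Y Z.obj i.hom ?_
    intro T ξ
    obtain ⟨b, snd, fst, sq⟩ := hi.1 (ObjectProperty.homMk ξ : (AlgSp.yon S).obj T ⟶ Y.obj)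
    exact ⟨b, snd, fst.hom, sq.map (sheafToPresheaf _ _)⟩
  refine ⟨⟨Z, hZ⟩, ObjectProperty.homMk i, hi, ?_, ?_⟩
  · -- `f` factors through `Z`
    obtain ⟨e', he'⟩ := (Groth.Agent.Lib.Helper12.SchImage.exists_lift_iff J e.left).2 hJle
    obtain ⟨eO, heO⟩ : ∃ eO : U ⟶ Over.mk (J.subschemeι ≫ V.hom), eO = Over.homMk e' (by
        show e' ≫ J.subschemeι ≫ V.hom = U.hom
        rw [← Category.assoc, he', Over.w e]) := ⟨_, rfl⟩
    have heOz : eO ≫ z = e := by
      apply Over.OverMorphism.ext
      rw [Over.comp_left, hzl, heO]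
      exact he'
    obtain ⟨f', hf', -⟩ := Groth.Agent.Lib.Helper12.ClosedDescent.exists_factor_of_epi
      (w ≫ pullback.fst f.hom p) ((AlgSp.yon S).map eO ≫ q) f.hom i (by
        rw [hae, Category.assoc, sqZ.w, ← Category.assoc, ← Functor.map_comp, heOz])
    exact ⟨f', hf'⟩
  · -- minimality
    intro Z' i' hZ' hi' hf''
    obtain ⟨f'', hf''⟩ := hf''
    obtain ⟨ZV', z', fst', sq'⟩ := hi'.1 p
    haveI : IsClosedImmersion z'.left := hi'.2 _ _ z' sq'
    haveI : Mono i' := Groth.Agent.S9928.mono_of_repWith @IsClosedImmersion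
      (fun X Y g hg => by haveI : IsClosedImmersion g := hg; infer_instance) i' hi'
    have h1 : z'.left.ker.comap s.left = z'.left.ker.comap t.left := by
      rw [← Scheme.IdealSheafData.ker_fst_of_isClosedImmersion z'.left s.left,
        ← Scheme.IdealSheafData.ker_fst_of_isClosedImmersion z'.left t.left]
      exact Groth.Agent.Lib.Helper12.SchImage.ker_fst_eq_of_isPullback i' p z' fst' sq' s t sqR.w
    have h2 : z'.left.ker ≤ e.left.ker := by
      obtain ⟨l, hl⟩ := (AlgSp.yon S).map_surjective (sq'.lift ((w ≫ pullback.fst f.hom p) ≫ f'')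
        ((AlgSp.yon S).map e) (by rw [Category.assoc, hf'', hae]))
      have hle : l ≫ z' = e := by
        apply (AlgSp.yon S).map_injective
        rw [Functor.map_comp, hl, sq'.lift_snd]
      rw [← hle, Over.comp_left]
      exact Scheme.Hom.le_ker_comp _ _
    have h3 : z'.left.ker ≤ J := hJmax _ h1 h2
    -- `Z_V ⟶ Z'_V`
    have h4 : z'.left.ker ≤ z.left.ker := by rw [hzl, J.ker_subschemeι]; exact h3
    obtain ⟨lO, hlO⟩ : ∃ lO : Over.mk (J.subschemeι ≫ V.hom) ⟶ ZV', lO ≫ z' = z := by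
      refine ⟨Over.homMk (IsClosedImmersion.lift z'.left z.left h4) ?_, ?_⟩
      · rw [← Over.w z', ← Category.assoc, IsClosedImmersion.lift_fac, Over.w z]
      · apply Over.OverMorphism.ext
        rw [Over.comp_left]
        exact IsClosedImmersion.lift_fac _ _ _
    obtain ⟨k, hk, -⟩ := Groth.Agent.Lib.Helper12.ClosedDescent.exists_factor_of_epi q
      ((AlgSp.yon S).map lO ≫ fst') i i' (by
        rw [sqZ.w, Category.assoc, sq'.w, ← Category.assoc, ← Functor.map_comp, hlO])
    exact ⟨k, hk⟩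

end Groth.Agent.S9964
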