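import Groth.Statements.S10215
import Mathlib
import Groth.Agent.S13210

set_option autoImplicit false
universe u
open CategoryTheory CategoryTheory.Limits AlgebraicGeometry Topology TopologicalSpace
open AlgSp

namespace Groth.Agent.S10215





/-- Let X be an algebraic space over a scheme S and p : Spec K ⟶ X, q : Spec L ⟶ X morphisms from
spectra of fields over S which determine the same point of |X|, with p a monomorphism. Then q
factors uniquely through p. -/
theorem result {S : Scheme.{u}} (X : AlgSp.Space S) (p q : AlgSp.FieldPt X.obj)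
    (h : AlgSp.Points.mk p = AlgSp.Points.mk q) [Mono p.toHom] :
    ∃! c : q.pt ⟶ p.pt, (AlgSp.yon S).map c ≫ p.toHom = q.toHom := by
  have hX := X.property
  obtain ⟨W, w, pr', sq⟩ := hX.representable_from_yon p.toHom q.toHom
  obtain ⟨v, rfl⟩ := (AlgSp.yon S).map_surjective pr'
  obtain ⟨Ω, _, w0, a, b, hab⟩ := AlgSp.Points.mk_eq_mk_iff.1 h
  -- a point of W
  have hab' : (AlgSp.yon S).map a ≫ p.toHom = (AlgSp.yon S).map b ≫ q.toHom := by
    apply (AlgSp.J S).uliftYonedaEquiv.injective
    rw [GrothendieckTopology.uliftYonedaEquiv_comp, GrothendieckTopology.uliftYonedaEquiv_comp,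
      GrothendieckTopology.uliftYonedaEquiv_uliftYoneda_map,
      GrothendieckTopology.uliftYonedaEquiv_uliftYoneda_map]
    erw [AlgSp.FieldPt.toHom_app, AlgSp.FieldPt.toHom_app]
    exact hab
  obtain ⟨l', hl1, hl2⟩ := sq.exists_lift _ _ hab'
  obtain ⟨l, rfl⟩ := (AlgSp.yon S).map_surjective l'
  haveI : Mono ((AlgSp.yon S).map w) := sq.mono_snd_of_mono
  haveI : Mono w := (AlgSp.yon S).mono_of_mono_map inferInstance
  haveI : Mono w.left := inferInstance
  have x0 : ↥(Spec (CommRingCat.of Ω)) := (⊥ : PrimeSpectrum Ω)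
  have hsub : Subsingleton ↥q.pt.left := (inferInstance : Subsingleton (PrimeSpectrum q.K))
  haveI : Surjective w.left := ⟨fun y => ⟨l.left x0, Subsingleton.elim _ _⟩⟩
  haveI : Subsingleton ↥W.left := w.left.injective.subsingleton
  haveI : QuasiCompact w.left := ⟨fun U _ _ => (Set.subsingleton_of_subsingleton).isCompact⟩ 
  haveI : IsIntegral q.pt.left := (inferInstance : IsIntegral (Spec (CommRingCat.of q.K)))
  haveI : Flat w.left := inferInstance
  haveI : IsIso w.left := Flat.isIso_of_surjective_of_mono w.left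
  haveI : IsIso ((Over.forget S).map w) := (inferInstance : IsIso w.left)
  haveI : IsIso w := isIso_of_reflects_iso w (Over.forget S)
  refine ⟨inv w ≫ v, ?_, fun c hc => ?_⟩
  · show (AlgSp.yon S).map (inv w ≫ v) ≫ p.toHom = q.toHom
    rw [Functor.map_comp, Category.assoc, sq.w, ← Functor.map_comp_assoc, IsIso.inv_hom_id,
      CategoryTheory.Functor.map_id, Category.id_comp]
  · apply (AlgSp.yon S).map_injective
    rw [← cancel_mono p.toHom, hc]
    rw [Functor.map_comp, Category.assoc, sq.w, ← Functor.map_comp_assoc, IsIso.inv_hom_id,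
      CategoryTheory.Functor.map_id, Category.id_comp]

end Groth.Agent.S10215
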