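import Groth.Statements.S10292
import Mathlib
import Groth.Agent.S10288
import Groth.Agent.S9874
import Groth.Agent.S10176
import Groth.Agent.S10177

set_option autoImplicit false
universe u
open CategoryTheory CategoryTheory.Limits AlgebraicGeometry
open AlgSp

namespace Groth.Agent.S10292


open IsLocalRing

variable {S : Scheme.{u}}

/-- scheme-level: valuation rings lift along flat morphisms hitting the closed point. -/
lemma exists_valuation_lift {A : Type u} [CommRing A] [IsDomain A] [ValuationRing A]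
    {T : Scheme.{u}} (g : T ⟶ Spec (.of A)) [Flat g] (t : T)
    (ht : g t = IsLocalRing.closedPoint A) :
    ∃ (A' : Type u) (_ : CommRing A') (_ : IsDomain A') (_ : ValuationRing A') (φ : A →+* A')
      (i : Spec (.of A') ⟶ T), Function.Injective φ ∧ IsLocalHom φ ∧
      i ≫ g = Spec.map (CommRingCat.ofHom φ) := by
  let η : ↥(Spec (CommRingCat.of A)) := (⊥ : PrimeSpectrum A)
  have hη : η ⤳ g t := by rw [ht]; exact IsLocalRing.specializes_closedPoint η
  obtain ⟨t', ht't, hgt'⟩ := Flat.generalizingMap g hη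
  obtain ⟨R, i₂, hw, hcl⟩ := Groth.Agent.S10288.exists_valuation_square (𝟙 T) t' t ht't
  obtain ⟨φ, hφ⟩ := Spec.map_surjective (i₂ ≫ g)
  refine ⟨R, inferInstance, inferInstance, inferInstance, φ.hom, i₂, ?_, ?_, ?_⟩
  · have h4 : (Spec.map (CommRingCat.ofHom (algebraMap R (T.residueField t'))))
        (⊥ : PrimeSpectrum (T.residueField t')) = (⊥ : PrimeSpectrum R) := by
      apply PrimeSpectrum.ext
      exact Ideal.comap_bot_of_injective _ (FaithfulSMul.algebraMap_injective R (T.residueField t'))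
    have h3 : i₂ (⊥ : PrimeSpectrum R) = t' := by
      rw [← h4, ← Scheme.Hom.comp_apply, ← hw, Category.comp_id]
      exact Scheme.fromSpecResidueField_apply t' _
    have h2 : (Spec.map φ) (⊥ : PrimeSpectrum R) = η := by
      rw [hφ, Scheme.Hom.comp_apply, h3, hgt']
    rw [RingHom.injective_iff_ker_eq_bot, RingHom.ker_eq_comap_bot]
    exact congrArg PrimeSpectrum.asIdeal h2
  · refine (IsLocalRing.isLocalHom_iff_comap_closedPoint φ.hom).2 ?_
    have h1 : (Spec.map φ) (closedPoint R) = closedPoint A := by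
      rw [hφ, Scheme.Hom.comp_apply, hcl, ht]
    exact h1
  · rw [CommRingCat.ofHom_hom, hφ]



/-- Along a flat morphism of algebraic spaces, a morphism from the spectrum of a valuation ring to the
target whose closed point is hit lifts to the source after an extension of valuation rings
(injective and local). -/
theorem result {S : Scheme.{u}} {X Y : AlgSp.Space S} (f : X ⟶ Y)
    (hf : AlgSp.LocP @Flat f.hom) (A : Type u) [CommRing A] [IsDomain A] [ValuationRing A]
    (str : Spec (.of A) ⟶ S) (b : (AlgSp.yon S).obj (Over.mk str) ⟶ Y.obj)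
    (hb : AlgSp.Points.ofPt b (IsLocalRing.closedPoint A) ∈ Set.range (AlgSp.Points.map f.hom)) :
    ∃ (A' : Type u) (_ : CommRing A') (_ : IsDomain A') (_ : ValuationRing A') (φ : A →+* A'),
      Function.Injective φ ∧ IsLocalHom φ ∧
      ∃ l : (AlgSp.yon S).obj (Over.mk (Spec.map (CommRingCat.ofHom φ) ≫ str)) ⟶ X.obj,
        l ≫ f.hom = (AlgSp.yon S).map (Over.homMk (Spec.map (CommRingCat.ofHom φ)) rfl :
          Over.mk (Spec.map (CommRingCat.ofHom φ) ≫ str) ⟶ Over.mk str) ≫ b := by
  obtain ⟨x, hx⟩ := hb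
  obtain ⟨V, p, hpe, hps⟩ := Y.property.atlas
  have hXV : AlgSp.IsAlgSpace (pullback f.hom p) :=
    Groth.Agent.S9874.isAlgSpace_of_isPullback Y.property.diag X.property
      (AlgSp.IsAlgSpace.yon_obj V) (IsPullback.of_hasPullback f.hom p)
  obtain ⟨U, q, hqe, hqs⟩ := hXV.atlas
  have hfstE : AlgSp.RepWith @Etale (pullback.fst f.hom p) :=
    MorphismProperty.of_isPullback (P := AlgSp.RepWith @Etale)
      (IsPullback.of_hasPullback f.hom p).flip hpe
  have hfstS : AlgSp.RepWith @Surjective (pullback.fst f.hom p) :=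
    MorphismProperty.of_isPullback (P := AlgSp.RepWith @Surjective)
      (IsPullback.of_hasPullback f.hom p).flip hps
  have hae : AlgSp.RepWith @Etale (q ≫ pullback.fst f.hom p) :=
    (AlgSp.RepWith @Etale).comp_mem _ _ hqe hfstE
  have has : AlgSp.RepWith @Surjective (q ≫ pullback.fst f.hom p) :=
    (AlgSp.RepWith @Surjective).comp_mem _ _ hqs hfstS
  obtain ⟨h, hh⟩ := (AlgSp.yon S).map_surjective (q ≫ pullback.snd f.hom p)
  have hcomm : (q ≫ pullback.fst f.hom p) ≫ f.hom = (AlgSp.yon S).map h ≫ p := by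
    rw [hh, Category.assoc, Category.assoc, pullback.condition]
  haveI hflat : Flat h.left := hf (q ≫ pullback.fst f.hom p) p h hae hpe hcomm
  obtain ⟨u, hu⟩ := Groth.Agent.S10177.surjective_ofPt (q ≫ pullback.fst f.hom p) has x
  obtain ⟨T, w, pr', sqT⟩ := hpe.1 b
  obtain ⟨prV, rfl⟩ := (AlgSp.yon S).map_surjective pr'
  haveI : Etale w.left := hpe.2 _ _ w sqT
  have e1 : AlgSp.Points.ofPt p (h.left u) = AlgSp.Points.ofPt b (IsLocalRing.closedPoint A) := by
    rw [← Groth.Agent.S10176.ofPt_map_comp h p u, ← hcomm, ← AlgSp.Points.map_ofPt, hu, hx]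
  obtain ⟨t, ht1, ht2⟩ := Groth.Agent.S10176.exists_point_of_isPullback_yon sqT (h.left u)
    (IsLocalRing.closedPoint A) e1
  -- the scheme T ×_V U
  have sq2 : IsPullback ((AlgSp.yon S).map (pullback.fst prV h))
      ((AlgSp.yon S).map (pullback.snd prV h)) ((AlgSp.yon S).map prV) ((AlgSp.yon S).map h) :=
    (IsPullback.of_hasPullback prV h).map (AlgSp.yon S)
  have e2 : AlgSp.Points.ofPt ((AlgSp.yon S).map prV) t = AlgSp.Points.ofPt ((AlgSp.yon S).map h) u := by
    rw [Groth.Agent.S10288.ofPt_yon_map, Groth.Agent.S10288.ofPt_yon_map, ht1]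
  obtain ⟨t2, ht21, ht22⟩ := Groth.Agent.S10176.exists_point_of_isPullback_yon sq2 t u e2
  have hsq : IsPullback (pullback.fst prV h).left (pullback.snd prV h).left prV.left h.left :=
    (IsPullback.of_hasPullback prV h).map (Over.forget S)
  haveI : Flat (pullback.fst prV h).left :=
    MorphismProperty.of_isPullback (P := @Flat) hsq.flip hflat
  haveI : Flat ((pullback.fst prV h).left ≫ w.left) := inferInstance
  have hcl : ((pullback.fst prV h).left ≫ w.left) t2 = IsLocalRing.closedPoint A := by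
    rw [Scheme.Hom.comp_apply, ht21, ht2]
  obtain ⟨A', iA1, iA2, iA3, φ, i, hφi, hφl, hi⟩ :=
    exists_valuation_lift ((pullback.fst prV h).left ≫ w.left) t2 hcl
  refine ⟨A', iA1, iA2, iA3, φ, hφi, hφl, ?_⟩
  have hι : i ≫ (pullback prV h).hom = Spec.map (CommRingCat.ofHom φ) ≫ str := by
    rw [← hi, Category.assoc, Category.assoc]
    congr 1
    have h1 := Over.w (pullback.fst prV h ≫ w)
    rw [Over.comp_left, Category.assoc] at h1
    exact h1.symm
  let ι : Over.mk (Spec.map (CommRingCat.ofHom φ) ≫ str) ⟶ pullback prV h := Over.homMk i hι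
  have hιw : ι ≫ pullback.fst prV h ≫ w =
      (Over.homMk (Spec.map (CommRingCat.ofHom φ)) rfl :
        Over.mk (Spec.map (CommRingCat.ofHom φ) ≫ str) ⟶ Over.mk str) := by
    apply Over.OverMorphism.ext
    show i ≫ (pullback.fst prV h ≫ w).left = Spec.map (CommRingCat.ofHom φ)
    rw [Over.comp_left]
    exact hi
  refine ⟨(AlgSp.yon S).map (ι ≫ pullback.snd prV h) ≫ q ≫ pullback.fst f.hom p, ?_⟩
  rw [← hιw]
  simp only [Category.assoc, Functor.map_comp]
  rw [← Category.assoc q, hcomm, ← sqT.w]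
  simp only [← Category.assoc, ← Functor.map_comp]
  simp only [Category.assoc]
  rw [pullback.condition]

end Groth.Agent.S10292
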