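import Groth.Statements.S1363
import Groth.Agent.Lib.Helper22LscC

set_option autoImplicit false
universe u
open FlatMor

namespace Groth.Agent.S1363

open AlgebraicGeometry CategoryTheory Limits in
/-- For a flat proper morphism of finite presentation, the function on the target counting the connected
components of the geometric fibres is lower semicontinuous. -/
theorem result {X S : Scheme.{u}} (f : X ⟶ S) [IsProper f] [Flat f] [LocallyOfFinitePresentation f] :
    LowerSemicontinuous (fun s : ↑S => MoreMor.nGeomConnComp f s) := by
  intro y a ha
  have huo : ∀ x : X, f.base x = y → EGA43.IsUnivOpenAt f x := by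
    intro x _ Y' k x' _
    exact Groth.Agent.Lib.Helper22.LscA.isOpenAt_of_isOpenMap _ (pullback.snd f k).isOpenMap x'
  obtain ⟨V, hV, hle⟩ := Groth.Agent.Lib.Helper22.LscC.exists_nhds_le f y huo
  exact Filter.mem_of_superset hV (fun z hz => lt_of_lt_of_le ha (hle z hz))

end Groth.Agent.S1363
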