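import Groth.Statements.S10278
import Mathlib
import Groth.Agent.Lib.Helper12Proper

set_option autoImplicit false
universe u
open CategoryTheory CategoryTheory.Limits AlgebraicGeometry
open AlgSp

namespace Groth.Agent.S10278


open Groth.Agent.Lib.Helper12.Proper



/-- Over a separated Y -> B, a morphism X -> Y from a space universally closed (resp. proper) over B is
universally closed with closed image (resp. proper). -/
theorem result {S : Scheme.{u}} {X Y B : AlgSp.Space S} (f : X ⟶ Y) (p : X ⟶ B)
    (q : Y ⟶ B) (comm : f ≫ q = p) (hq : AlgSp.IsSeparatedMor q.hom) :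
    (AlgSp.IsUnivClosedMor p.hom →
      AlgSp.IsUnivClosedMor f.hom ∧ IsClosed (Set.range (AlgSp.Points.map f.hom))) ∧
    (AlgSp.IsProperMor p.hom → AlgSp.IsProperMor f.hom) := by
  have hW : AlgSp.IsAlgSpace (pullback (f.hom ≫ q.hom) q.hom) :=
    Groth.Agent.S9874.isAlgSpace_of_isPullback B.property.diag X.property Y.property
      (IsPullback.of_hasPullback _ _)
  have sqΓ := pullback_lift_diagonal_isPullback f.hom q.hom
  have hΓ : AlgSp.RepWith @IsClosedImmersion
      (pullback.lift (𝟙 X.obj) f.hom (by simp) : X.obj ⟶ pullback (f.hom ≫ q.hom) q.hom) :=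
    MorphismProperty.of_isPullback (P := AlgSp.RepWith @IsClosedImmersion) sqΓ hq
  have e1 : f.hom = (pullback.lift (𝟙 X.obj) f.hom (by simp) :
      X.obj ⟶ pullback (f.hom ≫ q.hom) q.hom) ≫ pullback.snd (f.hom ≫ q.hom) q.hom := by
    rw [pullback.lift_snd]
  constructor
  · intro hp
    have hp' : AlgSp.IsUnivClosedMor (f.hom ≫ q.hom) := by
      rw [← comm] at hp
      exact hp
    have hf : AlgSp.IsUnivClosedMor f.hom := by
      rw [e1]
      exact isUnivClosedMor_comp hW Y.property _ _ (isUnivClosedMor_of_isClosedImmersion _ hΓ)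
        (isUnivClosedMor_baseChange (IsPullback.of_hasPullback _ _) hp')
    refine ⟨hf, ?_⟩
    have hcl : IsClosedMap (AlgSp.Points.map f.hom) :=
      hf Y.property (𝟙 Y.obj) (𝟙 X.obj) f.hom IsPullback.of_id_fst
    rw [← Set.image_univ]
    exact hcl _ isClosed_univ
  · intro hp
    have hp' : AlgSp.IsProperMor (f.hom ≫ q.hom) := by
      rw [← comm] at hp
      exact hp
    rw [e1]
    exact isProperMor_comp hW Y.property _ _ (isProperMor_of_isClosedImmersion hW _ hΓ)
      (isProperMor_baseChange X.property B.property Y.property (IsPullback.of_hasPullback _ _) hp')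

end Groth.Agent.S10278
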