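import Groth.Statements.S10279
import Mathlib
import Groth.Agent.S10175

set_option autoImplicit false
universe u
open CategoryTheory CategoryTheory.Limits AlgebraicGeometry
open AlgSp

namespace Groth.Agent.S10279


open CategoryTheory.Limits Opposite MorphismProperty Groth.Agent.S13210

variable {S : Scheme.{u}}

lemma isClosedMap_of_comp_surjective {E Z' Z : AlgSp.Sp S} (ρ : E ⟶ Z') (snd : Z' ⟶ Z)
    (hρ : Function.Surjective (AlgSp.Points.map ρ))
    (h : IsClosedMap (AlgSp.Points.map (ρ ≫ snd))) : IsClosedMap (AlgSp.Points.map snd) := by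
  intro A hA
  have : AlgSp.Points.map snd '' A =
      AlgSp.Points.map (ρ ≫ snd) '' (AlgSp.Points.map ρ ⁻¹' A) := by
    ext z
    constructor
    · rintro ⟨a, ha, rfl⟩
      obtain ⟨e, rfl⟩ := hρ a
      exact ⟨e, ha, AlgSp.Points.map_comp ρ snd e⟩
    · rintro ⟨e, he, rfl⟩
      exact ⟨_, he, (AlgSp.Points.map_comp ρ snd e).symm⟩
  rw [this]
  exact h _ (hA.preimage (AlgSp.Points.continuous_map ρ))

/-- the target of a surjective morphism from a universally closed space is universally closed. -/
lemma isUnivClosedMor_of_surjective_triangle {X Y B : AlgSp.Sp S} (f : X ⟶ Y) (q : Y ⟶ B)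
    (hp : AlgSp.IsUnivClosedMor (f ≫ q)) (hf : Function.Surjective (AlgSp.Points.map f)) :
    AlgSp.IsUnivClosedMor q := by
  intro Z Z' hZ c fst snd sq
  have sq2 := IsPullback.of_hasPullback f fst
  have big : IsPullback (pullback.fst f fst) (pullback.snd f fst ≫ snd) (f ≫ q) c :=
    sq2.paste_vert sq
  have hsurj : Function.Surjective (AlgSp.Points.map (pullback.snd f fst)) := by
    intro w'
    obtain ⟨x, hx⟩ := hf (AlgSp.Points.map fst w')
    obtain ⟨p, hp1, hp2⟩ := Groth.Agent.S10175.exists_point_of_isPullback sq2.flip w' x hx.symm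
    exact ⟨p, hp1⟩
  exact isClosedMap_of_comp_surjective _ snd hsurj (hp hZ c _ _ big)



/-- The target of a surjective morphism over B from a space universally closed over B is universally
closed over B (hence proper over B as soon as it is also separated and of finite type over B, by
definition). -/
theorem result {S : Scheme.{u}} {X Y B : AlgSp.Space S} (f : X ⟶ Y) (p : X ⟶ B)
    (q : Y ⟶ B) (comm : f ≫ q = p) (hp : AlgSp.IsUnivClosedMor p.hom) (hf : AlgSp.IsSurjectiveMor f.hom) :
    AlgSp.IsUnivClosedMor q.hom := by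
  refine isUnivClosedMor_of_surjective_triangle f.hom q.hom ?_ hf
  have : f.hom ≫ q.hom = p.hom := by rw [← comm]; rfl
  rw [this]
  exact hp

end Groth.Agent.S10279
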