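import Groth.Statements.S9915
import Mathlib
import Groth.Agent.S9917

set_option autoImplicit false
universe u
open CategoryTheory CategoryTheory.Limits AlgebraicGeometry
open AlgSp

namespace Groth.Agent.S9915


open CategoryTheory.Limits Opposite MorphismProperty Groth.Agent.S13210

variable {S : Scheme.{u}}

lemma isQuasiCompactMor_of_surjective_triangle {X Y Z : AlgSp.Sp S} (hY : AlgSp.IsAlgSpace Y)
    (hZ : AlgSp.IsAlgSpace Z) (f : X ⟶ Y) (q : Y ⟶ Z)
    (hf : Function.Surjective (AlgSp.Points.map f)) (hp : AlgSp.IsQuasiCompactMor (f ≫ q)) :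
    AlgSp.IsQuasiCompactMor q := by
  intro W W' hW hWc g fst snd sq
  have hW' : AlgSp.IsAlgSpace W' := Groth.Agent.S9874.isAlgSpace_of_isPullback hZ.diag hY hW sq
  rw [Groth.Agent.S10174.isQuasiCompactSp_iff hW']
  have sq2 := IsPullback.of_hasPullback f fst
  have big : IsPullback (pullback.fst f fst) (pullback.snd f fst ≫ snd) (f ≫ q) g :=
    sq2.paste_vert sq
  haveI : CompactSpace (AlgSp.Points (pullback f fst)) :=
    Groth.Agent.S9917.compactSpace_points_of_isQuasiCompactSp (hp hW hWc g _ _ big)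
  have hsurj : Function.Surjective (AlgSp.Points.map (pullback.snd f fst)) := by
    intro w'
    obtain ⟨x, hx⟩ := hf (AlgSp.Points.map fst w')
    obtain ⟨p, hp1, hp2⟩ := Groth.Agent.S10175.exists_point_of_isPullback sq2.flip w' x hx.symm
    exact ⟨p, hp1⟩
  exact hsurj.compactSpace (AlgSp.Points.continuous_map _)



/-- In a commutative triangle of algebraic spaces with f : X -> Y surjective, if X -> Z is quasi-compact
then Y -> Z is quasi-compact. -/
theorem result {S : Scheme.{u}} {X Y Z : AlgSp.Space S} (f : X ⟶ Y)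
    (p : X ⟶ Z) (q : Y ⟶ Z) (comm : f ≫ q = p) (hf : AlgSp.IsSurjectiveMor f.hom)
    (hp : AlgSp.IsQuasiCompactMor p.hom) : AlgSp.IsQuasiCompactMor q.hom := by
  refine isQuasiCompactMor_of_surjective_triangle Y.property Z.property f.hom q.hom hf ?_
  have : f.hom ≫ q.hom = p.hom := by rw [← comm]; rfl
  rw [this]
  exact hp

end Groth.Agent.S9915
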