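import Groth.Statements.S9926
import Mathlib
import Groth.Agent.Lib.Helper12Proper
import Groth.Agent.S9874
import Groth.Agent.S9900
import Groth.Agent.S9912
import Groth.Agent.S9915
import Groth.Agent.S9925
import Groth.Agent.S10175
import Groth.Agent.S10280

set_option autoImplicit false
universe u
open CategoryTheory CategoryTheory.Limits AlgebraicGeometry
open AlgSp

namespace Groth.Agent.S9926


open Groth.Agent.Lib.Helper12.Proper

variable {S : Scheme.{u}}

lemma isQuasiCompactMor_of_isUnivClosedMor {X Y : AlgSp.Sp S} (hX : AlgSp.IsAlgSpace X)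
    (hY : AlgSp.IsAlgSpace Y) (f : X ⟶ Y) (hf : AlgSp.IsUnivClosedMor f) :
    AlgSp.IsQuasiCompactMor f :=
  Groth.Agent.S9925.result (X := ⟨X, hX⟩) (Y := ⟨Y, hY⟩) (ObjectProperty.homMk f) hf

/-- universal closedness can be cancelled on the left by a surjective morphism. -/
lemma isUnivClosedMor_of_surjective_comp {X Y W : AlgSp.Sp S} (hY : AlgSp.IsAlgSpace Y)
    (hW : AlgSp.IsAlgSpace W) (f : X ⟶ Y) (g : Y ⟶ W)
    (hf : Function.Surjective (AlgSp.Points.map f))
    (h : AlgSp.IsUnivClosedMor (f ≫ g)) : AlgSp.IsUnivClosedMor g := by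
  intro Z Z' hZ c fst snd sq
  have sq2 := IsPullback.of_hasPullback f fst
  have hcl : IsClosedMap (AlgSp.Points.map (pullback.snd f fst ≫ snd)) :=
    h hZ c (pullback.fst f fst) (pullback.snd f fst ≫ snd) (sq2.paste_vert sq)
  have hsurj : Function.Surjective (AlgSp.Points.map (pullback.snd f fst)) := by
    intro y'
    obtain ⟨x, hx⟩ := hf (AlgSp.Points.map fst y')
    obtain ⟨w, hw1, -⟩ := Groth.Agent.S10175.exists_point_of_isPullback sq2.flip y' x hx.symm
    exact ⟨w, hw1⟩
  have hcompeq : AlgSp.Points.map (pullback.snd f fst ≫ snd) =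
      AlgSp.Points.map snd ∘ AlgSp.Points.map (pullback.snd f fst) :=
    funext (AlgSp.Points.map_comp _ _)
  rw [hcompeq] at hcl
  exact IsClosedMap.of_comp_surjective hsurj (AlgSp.Points.continuous_map _) hcl



/-- Let B be an algebraic space and f : X -> Y a morphism over B that is surjective and universally
closed. Quasi-separatedness of X over B forces quasi-separatedness of Y over B, and likewise for
separatedness. (The published lemma also has absolute versions; this row states the versions over
B.) -/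
theorem result {S : Scheme.{u}} {X Y B : AlgSp.Space S} (f : X ⟶ Y) (p : X ⟶ B)
    (q : Y ⟶ B) (comm : f ≫ q = p) (hs : AlgSp.IsSurjectiveMor f.hom) (hc : AlgSp.IsUnivClosedMor f.hom) :
    (AlgSp.IsQuasiSeparatedMor p.hom → AlgSp.IsQuasiSeparatedMor q.hom) ∧
    (AlgSp.IsSeparatedMor p.hom → AlgSp.IsSeparatedMor q.hom) := by
  have hcomm : f.hom ≫ q.hom = p.hom := by rw [← comm]; rfl
  have hXX : AlgSp.IsAlgSpace (pullback p.hom p.hom) :=
    Groth.Agent.S9874.isAlgSpace_of_isPullback B.property.diag X.property X.property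
      (IsPullback.of_hasPullback _ _)
  have hYX : AlgSp.IsAlgSpace (pullback q.hom p.hom) :=
    Groth.Agent.S9874.isAlgSpace_of_isPullback B.property.diag Y.property X.property
      (IsPullback.of_hasPullback _ _)
  have hYY : AlgSp.IsAlgSpace (pullback q.hom q.hom) :=
    Groth.Agent.S9874.isAlgSpace_of_isPullback B.property.diag Y.property Y.property
      (IsPullback.of_hasPullback _ _)
  have wa : (pullback.fst p.hom p.hom ≫ f.hom) ≫ q.hom = pullback.snd p.hom p.hom ≫ p.hom := by
    rw [Category.assoc, hcomm, pullback.condition]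
  have wb : pullback.fst q.hom p.hom ≫ q.hom = (pullback.snd q.hom p.hom ≫ f.hom) ≫ q.hom := by
    rw [Category.assoc, hcomm, pullback.condition]
  obtain ⟨a, ha1, ha2⟩ : ∃ a : pullback p.hom p.hom ⟶ pullback q.hom p.hom,
      a ≫ pullback.fst q.hom p.hom = pullback.fst p.hom p.hom ≫ f.hom ∧
      a ≫ pullback.snd q.hom p.hom = pullback.snd p.hom p.hom :=
    ⟨pullback.lift _ _ wa, pullback.lift_fst _ _ _, pullback.lift_snd _ _ _⟩
  obtain ⟨b, hb1, hb2⟩ : ∃ b : pullback q.hom p.hom ⟶ pullback q.hom q.hom,
      b ≫ pullback.fst q.hom q.hom = pullback.fst q.hom p.hom ∧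
      b ≫ pullback.snd q.hom q.hom = pullback.snd q.hom p.hom ≫ f.hom :=
    ⟨pullback.lift _ _ wb, pullback.lift_fst _ _ _, pullback.lift_snd _ _ _⟩
  have sq1 : IsPullback a (pullback.fst p.hom p.hom) (pullback.fst q.hom p.hom) f.hom := by
    refine IsPullback.of_right ?_ ha1 (IsPullback.of_hasPullback q.hom p.hom).flip
    rw [ha2, hcomm]
    exact (IsPullback.of_hasPullback p.hom p.hom).flip
  have sq2 : IsPullback b (pullback.snd q.hom p.hom) (pullback.snd q.hom q.hom) f.hom := by
    refine IsPullback.of_right ?_ hb2 (IsPullback.of_hasPullback q.hom q.hom)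
    rw [hb1, hcomm]
    exact IsPullback.of_hasPullback q.hom p.hom
  have hua : AlgSp.IsUnivClosedMor a := isUnivClosedMor_baseChange sq1.flip hc
  have hub : AlgSp.IsUnivClosedMor b := isUnivClosedMor_baseChange sq2.flip hc
  have hab : AlgSp.IsUnivClosedMor (a ≫ b) := isUnivClosedMor_comp hYX hYY a b hua hub
  have hΔ : f.hom ≫ pullback.diagonal q.hom = pullback.diagonal p.hom ≫ a ≫ b := by
    apply pullback.hom_ext
    · rw [Category.assoc, pullback.diagonal_fst, Category.comp_id, Category.assoc, Category.assoc,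
        hb1, ha1, ← Category.assoc, pullback.diagonal_fst, Category.id_comp]
    · rw [Category.assoc, pullback.diagonal_snd, Category.comp_id, Category.assoc, Category.assoc,
        hb2, ← Category.assoc a, ha2, ← Category.assoc, pullback.diagonal_snd, Category.id_comp]
  constructor
  · intro hqs
    have hΔp : AlgSp.IsQuasiCompactMor (pullback.diagonal p.hom) :=
      Groth.Agent.S9912.isQuasiCompactMor_of_repWith X.property hXX.diag _ hqs
    have habq : AlgSp.IsQuasiCompactMor (a ≫ b) := isQuasiCompactMor_of_isUnivClosedMor hXX hYY _ hab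
    have hcomp : AlgSp.IsQuasiCompactMor (pullback.diagonal p.hom ≫ a ≫ b) :=
      isQuasiCompactMor_comp hXX hYY _ _ hΔp habq
    rw [← hΔ] at hcomp
    have hΔq : AlgSp.IsQuasiCompactMor (pullback.diagonal q.hom) :=
      Groth.Agent.S9915.isQuasiCompactMor_of_surjective_triangle Y.property hYY f.hom _ hs hcomp
    obtain ⟨hrep, -⟩ := Groth.Agent.S9900.result q
    exact Groth.Agent.S9912.repWith_quasiCompact_of_isQuasiCompactMor _ hrep hΔq
  · intro hsep
    have hΔp : AlgSp.IsUnivClosedMor (pullback.diagonal p.hom) :=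
      isUnivClosedMor_of_isClosedImmersion _ hsep
    have hcomp : AlgSp.IsUnivClosedMor (pullback.diagonal p.hom ≫ a ≫ b) :=
      isUnivClosedMor_comp hXX hYY _ _ hΔp hab
    rw [← hΔ] at hcomp
    have hΔq : AlgSp.IsUnivClosedMor (pullback.diagonal q.hom) :=
      isUnivClosedMor_of_surjective_comp Y.property hYY f.hom _ hs hcomp
    exact Groth.Agent.S10280.isSeparatedMor_of_isUnivClosedMor_diagonal q hΔq

end Groth.Agent.S9926
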