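import Groth.Statements.S10264
import Mathlib
import Groth.Agent.S10262

set_option autoImplicit false
universe u
open CategoryTheory CategoryTheory.Limits AlgebraicGeometry
open AlgSp

namespace Groth.Agent.S10264


open CategoryTheory.Limits Opposite MorphismProperty Groth.Agent.S13210 Groth.Agent.S9900

variable {S : Scheme.{u}}



/-- An immersion of algebraic spaces is unramified. -/
theorem result {S : Scheme.{u}} {X Y : AlgSp.Space S} (i : X ⟶ Y)
    (hi : AlgSp.RepWith @IsImmersion i.hom) :
    AlgSp.LocP (@LocallyOfFiniteType ⊓ @FormallyUnramified) i.hom := by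
  intro U V a b h ha hb hcomm
  obtain ⟨XV, ι, b'', sqXV⟩ := hi.1 b
  haveI : IsImmersion ι.left := hi.2 _ _ ι sqXV
  have hb'' : AlgSp.RepWith @Etale b'' :=
    MorphismProperty.of_isPullback (P := AlgSp.RepWith @Etale) sqXV.flip hb
  obtain ⟨σ, hσ⟩ := (AlgSp.yon S).map_surjective (sqXV.lift a ((AlgSp.yon S).map h) hcomm)
  have hσ1 : (AlgSp.yon S).map σ ≫ b'' = a := by rw [hσ, sqXV.lift_fst]
  have hσ2 : σ ≫ ι = h := by
    apply (AlgSp.yon S).map_injective
    rw [Functor.map_comp, hσ, sqXV.lift_snd]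
  obtain ⟨UV, w, α', sqUV⟩ := ha.1 b''
  obtain ⟨α, rfl⟩ := (AlgSp.yon S).map_surjective α'
  haveI : Etale w.left := ha.2 _ _ w sqUV
  haveI : Etale α.left := hb''.2 _ _ α sqUV.flip
  obtain ⟨s, hs⟩ := (AlgSp.yon S).map_surjective
    (sqUV.lift (𝟙 _) ((AlgSp.yon S).map σ) (by rw [Category.id_comp, hσ1]))
  have hs1 : s ≫ α = 𝟙 U := by
    apply (AlgSp.yon S).map_injective
    rw [Functor.map_comp, hs, sqUV.lift_fst, CategoryTheory.Functor.map_id]
  have hs2 : s ≫ w = σ := by
    apply (AlgSp.yon S).map_injective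
    rw [Functor.map_comp, hs, sqUV.lift_snd]
  haveI : Etale (s.left ≫ α.left) := by
    rw [← Over.comp_left, hs1]
    exact inferInstanceAs (Etale (𝟙 U.left))
  haveI : Etale s.left := Etale.of_comp s.left α.left
  haveI : Etale σ.left := by
    rw [← hs2, Over.comp_left]
    infer_instance
  have e1 : h.left = σ.left ≫ ι.left := by rw [← Over.comp_left, hσ2]
  rw [e1]
  exact ⟨inferInstance, MorphismProperty.comp_mem (W := @FormallyUnramified) σ.left ι.left inferInstance inferInstance⟩

end Groth.Agent.S10264
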