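import Groth.Statements.S10290
import Mathlib

set_option autoImplicit false
universe u
open CategoryTheory CategoryTheory.Limits AlgebraicGeometry
open AlgSp

namespace Groth.Agent.S10290





/-- A separated morphism of algebraic spaces satisfies the uniqueness part of the valuative criterion. -/
theorem result {S : Scheme.{u}} {X Y : AlgSp.Space S} (f : X ⟶ Y)
    (hf : AlgSp.IsSeparatedMor f.hom) : AlgSp.UniqVC f.hom := by
  intro sq l l' h1 h2 h1' h2'
  have hc : l ≫ f.hom = l' ≫ f.hom := h2.trans h2'.symm
  obtain ⟨W, w, pr, psq⟩ := hf.1 (pullback.lift l l' hc)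
  haveI : IsClosedImmersion w.left := hf.2 _ _ w psq
  have e1 : pr = (AlgSp.yon S).map w ≫ l := by
    have := psq.w =≫ pullback.fst f.hom f.hom
    rwa [Category.assoc, pullback.diagonal_fst, Category.comp_id, Category.assoc,
      pullback.lift_fst] at this
  have e2 : pr = (AlgSp.yon S).map w ≫ l' := by
    have := psq.w =≫ pullback.snd f.hom f.hom
    rwa [Category.assoc, pullback.diagonal_snd, Category.comp_id, Category.assoc,
      pullback.lift_snd] at this
  have hk : sq.top ≫ pullback.diagonal f.hom =
      (AlgSp.yon S).map sq.j ≫ pullback.lift l l' hc := by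
    apply pullback.hom_ext
    · rw [Category.assoc, pullback.diagonal_fst, Category.comp_id, Category.assoc,
        pullback.lift_fst, h1]
    · rw [Category.assoc, pullback.diagonal_snd, Category.comp_id, Category.assoc,
        pullback.lift_snd, h1']
  obtain ⟨k, hk1⟩ := (AlgSp.yon S).map_surjective (psq.lift _ _ hk)
  have hk2 : k ≫ w = sq.j := by
    apply (AlgSp.yon S).map_injective
    rw [Functor.map_comp, hk1, psq.lift_snd]
  have hex : ValuativeCriterion.Existence w.left := by
    have : (ValuativeCriterion.Existence ⊓ @QuasiCompact : MorphismProperty Scheme) w.left := by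
      rw [← UniversallyClosed.eq_valuativeCriterion]; infer_instance
    exact this.1
  have hkl : k.left ≫ w.left = Spec.map (CommRingCat.ofHom (algebraMap sq.A sq.K)) ≫ 𝟙 _ := by
    rw [Category.comp_id, ← Over.comp_left, hk2]; rfl
  obtain ⟨⟨s, hs1, hs2⟩⟩ := hex { R := sq.A, K := sq.K, i₁ := k.left, i₂ := 𝟙 _, commSq := ⟨hkl⟩ }
  haveI : IsSplitEpi w.left := IsSplitEpi.mk' ⟨s, hs2⟩
  haveI : IsIso w.left := isIso_of_mono_of_isSplitEpi w.left
  haveI : IsIso ((Over.forget S).map w) := by
    show IsIso w.left
    infer_instance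
  haveI : IsIso w := isIso_of_reflects_iso w (Over.forget S)
  rw [← cancel_epi ((AlgSp.yon S).map w), ← e1, ← e2]

end Groth.Agent.S10290
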