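import Groth.Statements.S9951
import Mathlib
import Groth.Agent.S10262

set_option autoImplicit false
universe u
open CategoryTheory CategoryTheory.Limits AlgebraicGeometry
open AlgSp

namespace Groth.Agent.S9951


open CategoryTheory.Limits Opposite MorphismProperty

variable {S : Scheme.{u}}



/-- The source of a morphism locally of finite type with locally Noetherian target is locally
Noetherian. -/
theorem result {S : Scheme.{u}} {X Y : AlgSp.Space S} (f : X ⟶ Y)
    (hf : AlgSp.LocP @LocallyOfFiniteType f.hom) (hY : AlgSp.IsLocNoethSp Y.obj) : AlgSp.IsLocNoethSp X.obj := by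
  obtain ⟨V, q, hq, hqs, hV⟩ := hY
  obtain ⟨U0, p0, hp0, hp0s⟩ := X.property.atlas
  obtain ⟨U, u1, ψ', sq⟩ := hq.1 (p0 ≫ f.hom)
  obtain ⟨ψ, rfl⟩ := (AlgSp.yon S).map_surjective ψ'
  haveI : Etale u1.left := hq.2 _ _ u1 sq
  haveI : Surjective u1.left := hqs.2 _ _ u1 sq
  have ha : AlgSp.RepWith @Etale ((AlgSp.yon S).map u1 ≫ p0) :=
    (AlgSp.RepWith @Etale).comp_mem _ _ ((AlgSp.repWith_yon_map_iff _ _).2 inferInstance) hp0
  have has : AlgSp.RepWith @Surjective ((AlgSp.yon S).map u1 ≫ p0) :=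
    (AlgSp.RepWith @Surjective).comp_mem _ _ ((AlgSp.repWith_yon_map_iff _ _).2 inferInstance) hp0s
  have hw : ((AlgSp.yon S).map u1 ≫ p0) ≫ f.hom = (AlgSp.yon S).map ψ ≫ q := by
    rw [Category.assoc, sq.w]
  haveI : LocallyOfFiniteType ψ.left := hf _ _ ψ ha hq hw
  haveI : IsLocallyNoetherian V.left := hV
  exact ⟨U, _, ha, has, LocallyOfFiniteType.isLocallyNoetherian ψ.left⟩

end Groth.Agent.S9951
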