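import Groth.Statements.S1240
import Groth.Agent.Lib.Helper3FlatFibDim
import Groth.Agent.Lib.Helper4FibDimF
import Groth.Agent.Lib.Helper10Spectral
import Mathlib

set_option autoImplicit false
universe u
open FlatMor

namespace Groth.Agent.S1240

open AlgebraicGeometry CategoryTheory Groth.Agent.Lib.Helper3.FlatFibDim
  Groth.Agent.Lib.Helper3.DimCons Groth.Agent.Lib.Helper4.FibDim in
theorem aux {X S : Scheme.{u}} (f : X ⟶ S) [Flat f] [LocallyOfFiniteType f]
    (U : S.Opens) (hU : Dense (U : Set S)) (e : ℕ)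
    (hle : ∀ x : X, f.base x ∈ U → FlatMor.fibreDimAt f x ≤ e)
    (h : LocallyOfFinitePresentation f ∨ IsRetrocompact (U : Set S)) (x : X) :
    FlatMor.fibreDimAt f x ≤ e := by
  by_contra hcon
  rw [← succ_le_iff_not_le] at hcon
  -- affine charts
  obtain ⟨_, ⟨S', hS', rfl⟩, hsS', -⟩ := S.isBasis_affineOpens.exists_subset_of_mem_open
    (Set.mem_univ (f x)) isOpen_univ
  replace hS' : IsAffineOpen S' := hS'
  obtain ⟨_, ⟨X', hX', rfl⟩, hxX', hXS⟩ := X.isBasis_affineOpens.exists_subset_of_mem_open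
    (show x ∈ ((f ⁻¹ᵁ S' : X.Opens) : Set X) from hsS') (f ⁻¹ᵁ S').isOpen
  replace hX' : IsAffineOpen X' := hX'
  replace hXS : X' ≤ f ⁻¹ᵁ S' := hXS
  let φ := Spec.map (f.appLE S' X' hXS)
  have hsq : φ ≫ hS'.fromSpec = hX'.fromSpec ≫ f := hS'.SpecMap_appLE_fromSpec f hX' hXS
  haveI : Flat φ := (HasRingHomProperty.Spec_iff (P := @Flat)).mpr
    (HasRingHomProperty.appLE (P := @Flat) f inferInstance ⟨S', hS'⟩ ⟨X', hX'⟩ hXS)
  haveI : LocallyOfFiniteType φ := (HasRingHomProperty.Spec_iff (P := @LocallyOfFiniteType)).mpr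
    (HasRingHomProperty.appLE (P := @LocallyOfFiniteType) f inferInstance ⟨S', hS'⟩ ⟨X', hX'⟩ hXS)
  have hfd : ∀ z : Spec Γ(X, X'), FlatMor.fibreDimAt φ z = FlatMor.fibreDimAt f (hX'.fromSpec z) := by
    intro z
    rw [fibreDimAt_eq_fibLD, fibreDimAt_eq_fibLD]
    exact (fibLD_fromSpec f hX' hS' hXS z).symm
  let z := hX'.primeIdealOf ⟨x, hxX'⟩
  have hz : hX'.fromSpec z = x := hX'.fromSpec_primeIdealOf ⟨x, hxX'⟩
  have hzdim : ((e + 1 : ℕ) : WithBot ℕ∞) ≤ FlatMor.fibreDimAt φ z := by rw [hfd, hz]; exact hcon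
  -- points over `U` have small fibre dimension
  have hsmall : ∀ z' : Spec Γ(X, X'), hS'.fromSpec (φ z') ∈ U →
      ¬ ((e + 1 : ℕ) : WithBot ℕ∞) ≤ FlatMor.fibreDimAt φ z' := by
    intro z' hz'
    rw [succ_le_iff_not_le, not_not, hfd]
    apply hle
    have : f (hX'.fromSpec z') = hS'.fromSpec (φ z') := by
      show (hX'.fromSpec ≫ f) z' = (φ ≫ hS'.fromSpec) z'
      rw [hsq]
    show f (hX'.fromSpec z') ∈ U
    rw [this]; exact hz'
  -- it suffices to find a point of the preimage of `U` with large fibre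
  suffices hex : ∃ t' : Spec Γ(S, S'), hS'.fromSpec t' ∈ U ∧
      ((e + 1 : ℕ) : WithBot ℕ∞) ≤ topologicalKrullDim ↥(φ.fiber t') by
    obtain ⟨t', ht'U, ht'⟩ := hex
    obtain ⟨z', hz', hz't⟩ := (natCast_le_fibre_dim_iff φ t' (e + 1)).mp ht'
    exact hsmall z' (by rw [hz't]; exact ht'U) hz'
  have htdim : ((e + 1 : ℕ) : WithBot ℕ∞) ≤ topologicalKrullDim ↥(φ.fiber (φ z)) :=
    hzdim.trans (Groth.Agent.Lib.Helper7.TopDim.localDim_le_dim _)
  have hemb := hS'.fromSpec.isOpenEmbedding
  have hU'dense : Dense (hS'.fromSpec ⁻¹' (U : Set S)) :=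
    hU.preimage hemb.isOpenMap
  rcases h with hfp | hret
  · -- finite presentation: the locus is open
    haveI : LocallyOfFinitePresentation φ :=
      (HasRingHomProperty.Spec_iff (P := @LocallyOfFinitePresentation)).mpr
        (HasRingHomProperty.appLE (P := @LocallyOfFinitePresentation) f hfp ⟨S', hS'⟩ ⟨X', hX'⟩ hXS)
    have hopen := isOpen_setOf_le_fibre_dim φ (e + 1)
    obtain ⟨t', ht'E, ht'U⟩ := hU'dense.inter_open_nonempty _ hopen ⟨φ z, htdim⟩
    exact ⟨t', ht'U, ht'E⟩
  · -- retrocompact: find a generalization in `U`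
    have hcomp : IsCompact (hS'.fromSpec ⁻¹' (U : Set S)) := by
      have h1 : IsCompact ((U : Set S) ∩ (S' : Set S)) := hret hS'.isCompact S'.isOpen
      have h2 : hS'.fromSpec ⁻¹' (U : Set S) = hS'.fromSpec ⁻¹' ((U : Set S) ∩ (S' : Set S)) := by
        ext w
        simp only [Set.mem_preimage, Set.mem_inter_iff, iff_self_and]
        intro _
        have : hS'.fromSpec w ∈ Set.range hS'.fromSpec := ⟨w, rfl⟩
        rw [hS'.range_fromSpec] at this
        exact this
      rw [h2]
      apply hemb.isInducing.isCompact_preimage' h1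
      rw [hS'.range_fromSpec]
      exact Set.inter_subset_right
    have hUo : IsOpen (hS'.fromSpec ⁻¹' (U : Set S)) := U.isOpen.preimage hS'.fromSpec.continuous
    have hcl := Groth.Agent.Lib.Helper10.Spectral.isClosed_constr_of_isCompact_isOpen hUo hcomp
    obtain ⟨t', ht'U, hspec⟩ := Groth.Agent.Lib.Helper10.Spectral.exists_specializes_of_mem_closure
      hcl (x := φ z) (by rw [hU'dense.closure_eq]; trivial)
    exact ⟨t', ht'U, le_dim_fibre_of_specializes φ hspec (e + 1) htdim⟩

open AlgebraicGeometry CategoryTheory in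
/-- Let f : X → S be flat and locally of finite type and U ⊆ S a dense open such that the fibres of f at
points over U have local dimension at most e everywhere. If f is locally of finite presentation, or
U is retrocompact in S, then every fibre of f has local dimension at most e at every point. -/
theorem result {X S : Scheme.{u}} (f : X ⟶ S) [Flat f] [LocallyOfFiniteType f]
    (U : S.Opens) (hU : Dense (U : Set S)) (e : ℕ)
    (hle : ∀ x : X, f.base x ∈ U → FlatMor.fibreDimAt f x ≤ e)
    (h : LocallyOfFinitePresentation f ∨ IsRetrocompact (U : Set S)) (x : X) :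
    FlatMor.fibreDimAt f x ≤ e := by
  exact aux f U hU e hle h x

end Groth.Agent.S1240
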