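import Groth.Statements.S1384
import Groth.Agent.Lib.Helper3ThickSmooth
import Mathlib

set_option autoImplicit false
universe u
open FlatMor

namespace Groth.Agent.S1384

open AlgebraicGeometry CategoryTheory Limits

theorem smooth_of_thick {X X' Y Y' : Scheme.{u}} (iX : X ⟶ X') (iY : Y ⟶ Y') (f : X ⟶ Y) (f' : X' ⟶ Y')
    (hY : MoreMor.IsThickening iY) (hc : IsPullback iX f f' iY) [LocallyOfFinitePresentation f']
    [Flat f'] [Smooth f] : Smooth f' := by
  have : IsClosedImmersion iY := hY.1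
  have : Surjective iY := hY.2
  have : IsClosedImmersion iX := MorphismProperty.of_isPullback (P := @IsClosedImmersion) hc.flip hY.1
  rw [HasRingHomProperty.iff_appLE (P := @Smooth)]
  rintro ⟨U', hU'⟩ ⟨V', hV'⟩ e
  let UT : Y.Opens := iY ⁻¹ᵁ U'
  have hUT : IsAffineOpen UT := hU'.preimage iY
  have hUST : UT ≤ iY ⁻¹ᵁ U' := le_rfl
  have hiso := isIso_pushoutSection_of_isAffineOpen hc hUST e rfl hU' hUT hV'
  have hpo := (isIso_pushoutSection_iff hc hUST e rfl).mp hiso
  have hπ : Function.Surjective (iY.appLE U' UT hUST).hom := by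
    have := iY.app_surjective U' hU'
    rwa [Scheme.Hom.app_eq_appLE] at this
  have hnil : ∀ x ∈ RingHom.ker (iY.appLE U' UT hUST).hom, IsNilpotent x := by
    intro x hx
    refine Groth.Agent.Lib.Helper2.Thick.nil_ker iY U' hU' x ?_
    rw [Scheme.Hom.app_eq_appLE]
    exact hx
  have heq : iX ⁻¹ᵁ V' ⊓ f ⁻¹ᵁ UT = iX ⁻¹ᵁ V' := by
    apply inf_eq_left.mpr
    intro x hx
    show iY (f x) ∈ U'
    have : iY (f x) = f' (iX x) := (congr($(hc.w) x)).symm
    rw [this]; exact e hx
  have hUY : IsAffineOpen (iX ⁻¹ᵁ V' ⊓ f ⁻¹ᵁ UT) := by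
    rw [heq]; exact hV'.preimage iX
  have hψ : (f.appLE UT (iX ⁻¹ᵁ V' ⊓ f ⁻¹ᵁ UT) (by simp)).hom.Smooth :=
    HasRingHomProperty.appLE (P := @Smooth) f inferInstance ⟨UT, hUT⟩ ⟨_, hUY⟩ _
  exact Groth.Agent.Lib.Helper3.ThickSmooth.smooth_of_isPushout_nil hpo hπ hnil
    (Flat.flat_appLE f' hU' hV' e) (f'.finitePresentation_appLE hU' hV' e) hψ

open AlgebraicGeometry CategoryTheory Limits in
/-- Let S ⟶ S' be an arbitrary thickening, let X' ⟶ Y' be a morphism of schemes over S' with X' flat and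
locally of finite presentation over S' and Y' locally of finite type over S', and let X ⟶ Y be its
base change to S. Then X ⟶ Y is smooth if and only if X' ⟶ Y' is. -/
theorem result {X X' Y Y' S S' : Scheme.{u}} (iX : X ⟶ X') (iY : Y ⟶ Y') (iS : S ⟶ S')
    (f : X ⟶ Y) (f' : X' ⟶ Y') (g : Y ⟶ S) (g' : Y' ⟶ S')
    (hS : MoreMor.IsThickening iS) (hcX : IsPullback iX (f ≫ g) (f' ≫ g') iS) (hcY : IsPullback iY g g' iS)
    (w : iX ≫ f' = f ≫ iY) [Flat (f' ≫ g')] [LocallyOfFinitePresentation (f' ≫ g')] [LocallyOfFiniteType g'] :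
    Smooth f ↔ Smooth f' := by
  have hleft : IsPullback iX f f' iY :=
    Groth.Agent.Lib.Helper3.ThickDeform.isPullback_top iX iY iS f f' g g' hcX hcY w
  constructor
  · intro hf
    haveI := Groth.Agent.Lib.Helper3.ThickDeform.lfp' iX iY iS f f' g g' hS hcX hcY w
    haveI : Flat f := inferInstance
    haveI := Groth.Agent.Lib.Helper3.ThickDeform.flat' iX iY iS f f' g g' hS hcX hcY w
    exact smooth_of_thick iX iY f f'
      (Groth.Agent.Lib.Helper3.ThickDeform.isThickening_of_isPullback hcY hS) hleft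
  · intro hf'
    exact MorphismProperty.of_isPullback (P := @Smooth) hleft hf'

end Groth.Agent.S1384
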