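import Groth.Statements.S1608
import Groth.Agent.Lib.Helper4GenFiniteKA

set_option autoImplicit false
set_option linter.style.haveILetI false
universe u
open CategoryTheory CategoryTheory.Limits AlgebraicGeometry
open Variety

namespace Groth.Agent.S1608

/-- Let f : X → Y be locally of finite type, and let y ∈ Y be a point whose local ring is Noetherian of
dimension at most one. Suppose f is quasi-finite at the generic point of each irreducible component
of X. Then f is quasi-finite at each point x of X with f(x) = y. -/
theorem result {X Y : Scheme.{u}} (f : X ⟶ Y) [LocallyOfFiniteType f]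
    (y : Y) [IsNoetherianRing (Y.presheaf.stalk y)] (hy : ringKrullDim (Y.presheaf.stalk y) ≤ 1)
    (hgen : ∀ Z ∈ irreducibleComponents (X : Type u), ∀ η : X, IsGenericPoint η Z → f.QuasiFiniteAt η)
    (x : X) (hx : f.base x = y) : f.QuasiFiniteAt x := by
  open Groth.Agent.Lib.Helper4.GenFinite Groth.Agent.Lib.Helper4.GenFiniteKA in
  subst hx
  apply quasiFiniteAt_of_forall_fiber_specializes_eq f x
  intro z z' hz hz' hzz'
  -- generic point of an irreducible component through `z`
  obtain ⟨η, hη⟩ := Groth.Agent.Lib.Helper14.exists_closure_eq_of_mem_irreducibleComponents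
    (irreducibleComponent_mem_irreducibleComponents z)
  have hηz : η ⤳ z := by
    rw [specializes_iff_mem_closure, hη]; exact mem_irreducibleComponent
  have hqη : f.QuasiFiniteAt η :=
    hgen (irreducibleComponent z) (irreducibleComponent_mem_irreducibleComponents z) η
      (by rw [← hη]; exact isGenericPoint_closure)
  by_cases hfη : f.base η = f.base z'
  · have e1 : z = η := eq_of_quasiFiniteAt_of_specializes f hqη (hz.trans (hz'.symm.trans hfη.symm)) hηz
    have e2 : z' = η := eq_of_quasiFiniteAt_of_specializes f hqη hfη.symm (hηz.trans hzz')
    rw [e1, e2]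
  · haveI : IsNoetherianRing (Y.presheaf.stalk (f.base z')) := hz' ▸ inferInstance
    have hdim : ringKrullDim (Y.presheaf.stalk (f.base z')) ≤ 1 := hz' ▸ hy
    exact eq_of_specializes_of_quasiFiniteAt_generization f η z z' hηz hzz' (hz.trans hz'.symm) hfη
      hdim hqη

end Groth.Agent.S1608
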