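import Groth.Statements.S10338
import Mathlib
import Groth.Agent.Lib.Helper12QcPoint
import Groth.Agent.S10341
import Groth.Agent.S10177

set_option autoImplicit false
universe u
open CategoryTheory CategoryTheory.Limits AlgebraicGeometry Topology TopologicalSpace
open AlgSp

namespace Groth.Agent.S10338


/-- fibres of etale charts of decent spaces over a point are finite (affine source). -/
lemma finite_fibre_of_isDecent {S : Scheme.{u}} {X : AlgSp.Sp S} (hX : AlgSp.IsDecent X)
    (x : AlgSp.Points X) (V : Over S) (b : (AlgSp.yon S).obj V ⟶ X) (hV : IsAffine V.left)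
    (hb : AlgSp.RepWith @Etale b) : (AlgSp.Points.ofPt b ⁻¹' {x}).Finite := by
  obtain ⟨p, rfl, -, hq⟩ := hX x
  haveI : CompactSpace ↥V.left := inferInstance
  exact Groth.Agent.Lib.Helper12.QcPoint.finite_fibre_of_quasiCompact p hq b hb



/-- For a decent algebraic space X over a scheme S the topological space |X| is Kolmogorov (T0). -/
theorem result {S : Scheme.{u}} (X : AlgSp.Space S) (hX : AlgSp.IsDecent X.obj) :
    T0Space (AlgSp.Points X.obj) := by
  refine ⟨fun x x' hxx' => ?_⟩
  have h1 : x' ⤳ x := hxx'.specializes'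
  have h2 : x ⤳ x' := hxx'.specializes
  obtain ⟨U, a, hae, has⟩ := X.property.atlas
  obtain ⟨u, hu⟩ := Groth.Agent.S10177.surjective_ofPt a has x
  obtain ⟨p, hp, -, hq⟩ := hX x
  obtain ⟨p', hp', -, hq'⟩ := hX x'
  obtain ⟨u', hu'1, hu'2⟩ :=
    Groth.Agent.Lib.Helper12.QcPoint.exists_generization x x' h1 p' hp' hq' a hae u hu
  obtain ⟨u'', hu''1, hu''2⟩ :=
    Groth.Agent.Lib.Helper12.QcPoint.exists_generization x' x h2 p hp hq a hae u' hu'2
  have e1 : u = u'' := Groth.Agent.S10341.result X x
    (fun V b hV hb => finite_fibre_of_isDecent hX x V b hV hb) a hae u u'' hu hu''2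
    (hu''1.trans hu'1)
  have e2 : u = u' := by
    have h3 : u ⤳ u' := by rw [e1]; exact hu''1
    exact (h3.antisymm hu'1).eq
  rw [← hu, ← hu'2, e2]

end Groth.Agent.S10338
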