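import Groth.Statements.S9782
import Groth.Agent.Lib.Helper3EtNbhdA
import Groth.Agent.Lib.Helper3EtGUSchF
import Groth.Agent.Lib.Helper3IndEtHz
import Mathlib

set_option autoImplicit false
universe u
open Brnch

namespace Groth.Agent.S9782

open AlgebraicGeometry CategoryTheory Limits IsLocalRing Groth.Agent.Lib.Helper3
  Groth.Agent.Lib.Helper3.IndEt Groth.Agent.Lib.Helper3.PuncConn Groth.Agent.Lib.Helper3.EtNbhd in
theorem isGeomUnibranch_of_forall_etale (X : Scheme.{u}) (x : X)
    (hyp : ∀ (U : Scheme.{u}) (g : U ⟶ X) (u : U), Etale g → g u = x →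
      {Z : Set ↑U | Z ∈ irreducibleComponents ↑U ∧ u ∈ Z}.encard = 1) :
    CAlg2.IsGeomUnibranch (X.presheaf.stalk x) := by
  obtain ⟨V, hV, hxV, -⟩ := TopologicalSpace.Opens.isBasis_iff_nbhd.mp X.isBasis_affineOpens
    (TopologicalSpace.Opens.mem_top x)
  have hV' : IsAffineOpen V := hV
  letI : Algebra Γ(X, V) (X.presheaf.stalk x) :=
    TopCat.Presheaf.algebra_section_stalk X.presheaf ⟨x, hxV⟩
  haveI hloc : IsLocalization.AtPrime (X.presheaf.stalk x) (hV'.primeIdealOf ⟨x, hxV⟩).asIdeal :=
    hV'.isLocalization_stalk ⟨x, hxV⟩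
  obtain ⟨S, _, _, _, _, _⟩ := Branch.exists_isStrictHenselization (X.presheaf.stalk x)
  rw [Groth.Agent.S2135.result (A := X.presheaf.stalk x) (Ash := S)]
  letI : Algebra Γ(X, V) S :=
    ((algebraMap (X.presheaf.stalk x) S).comp (algebraMap Γ(X, V) (X.presheaf.stalk x))).toAlgebra
  haveI : IsScalarTower Γ(X, V) (X.presheaf.stalk x) S :=
    IsScalarTower.of_algebraMap_eq (fun _ => rfl)
  have hA : EtPBC.IsIndEtale Γ(X, V) (X.presheaf.stalk x) :=
    isIndEtale_of_factor (factor_of_isLocalization Γ(X, V)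
      (hV'.primeIdealOf ⟨x, hxV⟩).asIdeal.primeCompl (X.presheaf.stalk x))
  have hS : EtPBC.IsIndEtale Γ(X, V) S :=
    isIndEtale_comp Γ(X, V) (X.presheaf.stalk x) S hA
      (isIndEtale_of_isStrictHenselization (X.presheaf.stalk x) S)
  have HF : Obj.Factor Γ(X, V) S := factor_of_isIndEtale hS
  have hcomap : (maximalIdeal S).comap (algebraMap Γ(X, V) S) =
      (hV'.primeIdealOf ⟨x, hxV⟩).asIdeal := by
    rw [IsScalarTower.algebraMap_eq Γ(X, V) (X.presheaf.stalk x) S, ← Ideal.comap_comap,
      ((local_hom_TFAE (algebraMap (X.presheaf.stalk x) S)).out 0 4 rfl rfl).mp inferInstance]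
    exact IsLocalization.AtPrime.under_maximalIdeal (X.presheaf.stalk x) _
  have hL : LNP (maximalIdeal S) := by
    apply lnp_of_factor' Γ(X, V) S HF
    intro E _ _ _ g
    haveI : ((maximalIdeal S).comap g.toRingHom).IsPrime := Ideal.comap_isPrime _ _
    let gU : Spec (CommRingCat.of E) ⟶ X :=
      Spec.map (CommRingCat.ofHom (algebraMap Γ(X, V) E)) ≫ hV'.fromSpec
    have hgU : Etale gU := by
      haveI : Etale (Spec.map (CommRingCat.ofHom (algebraMap Γ(X, V) E))) := by
        rw [HasRingHomProperty.Spec_iff (P := @Etale)]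
        exact RingHom.etale_algebraMap.mpr inferInstance
      infer_instance
    let u : Spec (CommRingCat.of E) := ⟨(maximalIdeal S).comap g.toRingHom, inferInstance⟩
    have hu : gU u = x := by
      have h1 : (Spec.map (CommRingCat.ofHom (algebraMap Γ(X, V) E))) u =
          hV'.primeIdealOf ⟨x, hxV⟩ := by
        apply PrimeSpectrum.ext
        rw [← hcomap]
        show ((maximalIdeal S).comap g.toRingHom).comap (algebraMap Γ(X, V) E) = _
        rw [Ideal.comap_comap]
        congr 1
        ext r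
        exact g.commutes r
      show hV'.fromSpec ((Spec.map (CommRingCat.ofHom (algebraMap Γ(X, V) E))) u) = x
      rw [h1]
      exact hV'.fromSpec_primeIdealOf ⟨x, hxV⟩
    have h1 := hyp (Spec (CommRingCat.of E)) gU u hgU hu
    have h2 := unique_minimalPrimes_le_of_encard E u h1
    exact lnp_of_nilradical_isPrime _ (nilradical_isPrime_of_unique _ h2)
  obtain ⟨P0, ⟨hP0, -⟩, huniq⟩ := existsUnique_minimalPrimes_le_of_lnp (maximalIdeal S) hL
  exact ⟨P0, hP0, fun P' hP' => huniq P' ⟨hP', le_maximalIdeal hP'.1.1.ne_top⟩⟩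

open AlgebraicGeometry CategoryTheory Limits in
/-- The local ring of X at x is geometrically unibranch exactly when, for each étale morphism g : U ⟶ X
and each point u over x, the point u lies on a single irreducible component of U. -/
theorem result (X : Scheme.{u}) (x : X) :
    CAlg2.IsGeomUnibranch ↑(X.presheaf.stalk x) ↔ ∀ (U : Scheme.{u}) (g : U ⟶ X) (u : U), Etale g → g u = x →
      {Z : Set ↑U | Z ∈ irreducibleComponents ↑U ∧ u ∈ Z}.encard = 1 := by
  constructor
  · intro h U g u hg hgu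
    apply Groth.Agent.Lib.Helper3.EtNbhd.encard_eq_one_of_nilradical_isPrime
    apply Groth.Agent.Lib.Helper3.EtGUSch.nilradical_isPrime_stalk_of_etale_nhd g u (hgu ▸ h)
    exact ⟨⊤, trivial, inferInstance⟩
  · exact isGeomUnibranch_of_forall_etale X x

end Groth.Agent.S9782
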