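import Groth.Statements.S9934
import Mathlib
import Groth.Agent.S9922
import Groth.Agent.S9908

set_option autoImplicit false
universe u
open CategoryTheory CategoryTheory.Limits AlgebraicGeometry
open AlgSp

namespace Groth.Agent.S9934





/-- An immersion of algebraic spaces is a closed immersion exactly when its image on points is closed. -/
theorem result {S : Scheme.{u}} {Z X : AlgSp.Space S} (i : Z ⟶ X)
    (hi : AlgSp.RepWith @IsImmersion i.hom) :
    AlgSp.RepWith @IsClosedImmersion i.hom ↔ IsClosed (Set.range (AlgSp.Points.map i.hom)) := by
  constructor
  · intro hc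
    have huc : AlgSp.RepWith @UniversallyClosed i.hom := by
      refine ⟨hc.1, fun T W g pr w sq => ?_⟩
      haveI : IsClosedImmersion w.left := hc.2 g pr w sq
      change UniversallyClosed w.left
      infer_instance
    exact (Groth.Agent.S9922.isClosedMap_map_of_repWith i.hom huc).isClosed_range
  · intro hcl
    refine ⟨hi.1, fun T W g pr w sq => ?_⟩
    haveI : IsImmersion w.left := hi.2 g pr w sq
    change IsClosedImmersion w.left
    apply IsClosedImmersion.of_isPreimmersion
    have h1 := Groth.Agent.S9908.preimage_ofPt_map_image sq Set.univ
    rw [Set.image_univ, Set.preimage_univ, Set.image_univ] at h1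
    rw [← h1]
    exact (Groth.Agent.S9922.isClosed_iff.1 hcl) T g

end Groth.Agent.S9934
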