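import Groth.Statements.S19589
import Mathlib

set_option autoImplicit false
universe u v
open Brauer

namespace Groth.Agent.S19589

/-- Let R be a commutative ring and P a finitely generated projective R-module which is faithful. Then
End_R(P) is an Azumaya R-algebra. (The published statement is for a finite locally free sheaf E on a
scheme X and the sheaf of algebras End(E); this row is the case of affine X. Azumaya is taken in the
sense that includes faithfulness over R, which is why P is assumed faithful; the published notion
also admits rank zero.) -/
theorem result (R : Type u) [CommRing R]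
    (P : Type v) [AddCommGroup P] [Module R P] [Module.Finite R P] [Module.Projective R P]
    [FaithfulSMul R P] : IsAzumaya R (Module.End R P) := by
  classical
  let δ : TensorProduct R (Module.Dual R P) P ≃ₗ[R] Module.End R P := dualTensorHomEquiv R P P
  have hδ : ∀ (ξ : Module.Dual R P) (p x : P), δ (TensorProduct.tmul R ξ p) x = ξ x • p := by
    intro ξ p x
    simp [δ]
  let τ : (Module.End R P)ᵐᵒᵖ →ₗ[R] Module.End R (Module.Dual R P) :=
    (Module.Dual.transpose (R := R) (M := P) (M' := P)) ∘ₗ
      (MulOpposite.opLinearEquiv R).symm.toLinearMap
  have hτapp : ∀ (g : (Module.End R P)ᵐᵒᵖ) (ξ : Module.Dual R P) (x : P),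
      τ g ξ x = ξ (g.unop x) := by
    intro g ξ x
    rfl
  have hτ : Function.Bijective τ := by
    constructor
    · intro g₁ g₂ h
      apply MulOpposite.unop_injective
      apply LinearMap.ext
      intro x
      apply (Module.bijective_dual_eval R P).injective
      apply LinearMap.ext
      intro ξ
      have := congrFun (congrArg DFunLike.coe (congrFun (congrArg DFunLike.coe h) ξ)) x
      simpa [hτapp] using this
    · intro ψ
      refine ⟨MulOpposite.op ((Module.evalEquiv R P).symm.toLinearMap ∘ₗ ψ.dualMap ∘ₗ
        (Module.evalEquiv R P).toLinearMap), ?_⟩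
      apply LinearMap.ext
      intro ξ
      apply LinearMap.ext
      intro x
      rw [hτapp]
      simp
  let τe : (Module.End R P)ᵐᵒᵖ ≃ₗ[R] Module.End R (Module.Dual R P) := LinearEquiv.ofBijective τ hτ
  let Φ : TensorProduct R (Module.End R P) (Module.End R P)ᵐᵒᵖ ≃ₗ[R] Module.End R (Module.End R P) :=
    (TensorProduct.comm R _ _) ≪≫ₗ (TensorProduct.congr τe (LinearEquiv.refl R _)) ≪≫ₗ
      (homTensorHomEquiv R (Module.Dual R P) P (Module.Dual R P) P) ≪≫ₗ δ.conj
  have hΦ : ∀ z, AlgHom.mulLeftRight R (Module.End R P) z = Φ z := by
    intro z
    induction z using TensorProduct.induction_on with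
    | zero => simp
    | add x y hx hy => simp only [map_add, hx, hy]
    | tmul f g =>
      apply LinearMap.ext
      intro φ
      obtain ⟨w, rfl⟩ := δ.surjective φ
      induction w using TensorProduct.induction_on with
      | zero => simp
      | add w w' hw hw' => simp only [map_add, hw, hw']
      | tmul ξ p =>
        apply LinearMap.ext
        intro x
        rw [AlgHom.mulLeftRight_apply]
        simp only [Φ, LinearEquiv.trans_apply, TensorProduct.comm_tmul, TensorProduct.congr_tmul,
          LinearEquiv.refl_apply, homTensorHomEquiv_apply, TensorProduct.homTensorHomMap_apply,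
          LinearEquiv.conj_apply, LinearMap.comp_apply, LinearEquiv.coe_coe,
          LinearEquiv.symm_apply_apply, TensorProduct.map_tmul, hδ, Module.End.mul_apply]
        simp only [τe, LinearEquiv.ofBijective_apply, hτapp, map_smul]
  have hbij : Function.Bijective (AlgHom.mulLeftRight R (Module.End R P)) := by
    have h1 : ⇑(AlgHom.mulLeftRight R (Module.End R P)) = ⇑Φ := funext hΦ
    rw [h1]
    exact Φ.bijective
  haveI : Module.Finite R (Module.End R P) := Module.Finite.equiv δ
  haveI : Module.Projective R (Module.End R P) := Module.Projective.of_equiv δ
  haveI : FaithfulSMul R (Module.End R P) := by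
    rw [faithfulSMul_iff_algebraMap_injective]
    intro r s h
    apply FaithfulSMul.eq_of_smul_eq_smul (α := P)
    intro p
    have := congrFun (congrArg DFunLike.coe h) p
    simpa [Module.algebraMap_end_apply] using this
  exact { bij := hbij }

end Groth.Agent.S19589
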