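import Groth.Statements.S10943
import Groth.Agent.Lib.LeadExtRes3
import Groth.Agent.Lib.LeadExtAff1
import Groth.Agent.Lib.Helper17FinLoc

set_option autoImplicit false
universe u
open CategoryTheory AlgebraicGeometry
open Coherent

namespace Groth.Agent.S10943

/-- Let X be a Noetherian scheme and F, G coherent O_X-modules. Then for every i the Ext sheaf Ext^i(F,
G) - the i-th right derived functor of the internal Hom functor Hom(F, -) on O_X-modules (its
existence and that of injective resolutions are the stated instance hypotheses, both true),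
evaluated at G - is a coherent O_X-module (quasi-coherent of finite type). -/
theorem result (X : Scheme.{u}) [IsNoetherian X] (F G : X.Modules)
    (hF : Coh.IsCoh F) (hG : Coh.IsCoh G)
    [ModSite.HasSheafHom (O := X.sheaf) F] [HasInjectiveResolutions (ModSite.Mod X.sheaf)] (i : ℕ) :
    Coh.IsCoh ((ModSite.extSh (O := X.sheaf) F i).obj G) := by
  have key : ∀ V : X.affineOpens, Coh.IsCoh
      ((Scheme.Modules.restrictFunctor V.1.ι).obj ((ModSite.extSh (O := X.sheaf) F i).obj G)) := by
    intro V
    haveI : IsAffine (↑V.1 : Scheme.{u}) := V.2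
    haveI : IsLocallyNoetherian (↑V.1 : Scheme.{u}) := isLocallyNoetherian_of_isOpenImmersion V.1.ι
    haveI : CompactSpace (↑V.1 : Scheme.{u}) := inferInstance
    haveI : IsNoetherian (↑V.1 : Scheme.{u}) := {}
    haveI : EnoughInjectives (↑V.1 : Scheme.{u}).Modules :=
      Groth.Agent.Lib.Helper17.QCPush.enoughInjectives _
    haveI hIR : HasInjectiveResolutions (ModSite.Mod (↑V.1 : Scheme.{u}).sheaf) :=
      inferInstanceAs (HasInjectiveResolutions (↑V.1 : Scheme.{u}).Modules)
    haveI hSH : ModSite.HasSheafHom (O := (↑V.1 : Scheme.{u}).sheaf)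
        ((Groth.Agent.LeadExtRes.rF V.1).obj F) :=
      Groth.Agent.Lib.Helper21.ExtShDelta.hasSheafHom _ _
    have e := (Groth.Agent.LeadExtRes.extShRestrIso V.1 F i).app G
    exact Groth.Agent.Lib.Helper4.Dev.isCoh_of_iso e.symm
      (Groth.Agent.LeadExtAff.isCoh_extSh_affine _
        (Groth.Agent.Lib.Helper17.FinLoc.isCoh_restrict V.1.ι G hG) i _
        (Groth.Agent.Lib.Helper17.FinLoc.isCoh_restrict V.1.ι F hF))
  haveI hq : ((ModSite.extSh (O := X.sheaf) F i).obj G).IsQuasicoherent :=
    Groth.Agent.Lib.Helper23.FinType.isQuasicoherent_of_open_cover _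
      (fun V : X.affineOpens => V.1) (iSup_affineOpens_eq_top X) (fun V => (key V).1)
  exact ⟨hq, Groth.Agent.Lib.Helper23.FinType.isFiniteType_of_open_cover _
      (fun V : X.affineOpens => V.1) (iSup_affineOpens_eq_top X) (fun V => (key V).2)⟩

end Groth.Agent.S10943
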