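import Groth.Statements.S16598
import Mathlib

set_option autoImplicit false
universe u v
open LGRing

namespace Groth.Agent.S16598

open MvPolynomial

/-- the bilinear polynomial `∑ E j l X_l Y_j` -/
noncomputable def bil {R : Type u} [CommRing R] (n : ℕ) (E : Fin n → Fin n → R) :
    MvPolynomial (Fin (n + n)) R :=
  ∑ j, ∑ l, C (E j l) * X (Fin.castAdd n l) * X (Fin.natAdd n j)

lemma aeval_bil {R : Type u} [CommRing R] {S : Type*} [CommRing S] [Algebra R S] (n : ℕ)
    (E : Fin n → Fin n → R) (x y : Fin n → S) :
    aeval (Fin.append x y) (bil n E) = ∑ j, ∑ l, algebraMap R S (E j l) * x l * y j := by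
  simp only [bil, map_sum, map_mul, aeval_C, aeval_X, Fin.append_left, Fin.append_right]

/-- Let R be an LG-ring and M a faithfully projective R-module (finitely generated projective and
faithful). Then M contains a unimodular element: there are m ∈ M and a linear form f on M with f(m)
= 1 (so R·m is a free direct summand of M of rank one). -/
theorem result {R : Type u} [CommRing R] (hR : LGRing.IsLGRing R)
    (M : Type v) [AddCommGroup M] [Module R M] [Module.Finite R M] [Module.Projective R M] [FaithfulSMul R M] :
    ∃ (m : M) (f : Module.Dual R M), f m = 1 := by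
  classical
  obtain ⟨n, p, i, hp, hi, hpi⟩ := Module.Finite.exists_comp_eq_id_of_projective R M
  have hpi' : ∀ m, p (i m) = m := fun m => LinearMap.congr_fun hpi m
  let E : Fin n → Fin n → R := fun j l => i (p (Pi.single l 1)) j
  -- e x = E x
  have hE : ∀ (x : Fin n → R) (j : Fin n), i (p x) j = ∑ l, E j l * x l := by
    intro x j
    have hx : x = ∑ l, x l • (Pi.single l 1 : Fin n → R) := by
      funext k
      simp [Finset.sum_apply, Pi.single_apply]
    conv_lhs => rw [hx]
    rw [map_sum, map_sum, Finset.sum_apply]
    refine Finset.sum_congr rfl fun l _ => ?_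
    rw [map_smul, map_smul, Pi.smul_apply, smul_eq_mul, mul_comm]
  -- representability over residue fields
  have hres : ∀ (m : Ideal R) [m.IsMaximal], LGRing.RepresentsUnit (bil n E) (R ⧸ m) := by
    intro m hm
    -- some entry of E is outside m
    have hex : ∃ j l, E j l ∉ m := by
      by_contra hcon
      push Not at hcon
      -- M ≤ m • M
      have hle : (⊤ : Submodule R M) ≤ m • (⊤ : Submodule R M) := by
        intro z _
        have hz : z = ∑ j, (i z j) • p (Pi.single j 1) := by
          have h1 : i z = ∑ j, (i z j) • (Pi.single j 1 : Fin n → R) := by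
            funext k
            simp [Finset.sum_apply, Pi.single_apply]
          conv_lhs => rw [← hpi' z, h1]
          rw [map_sum]
          refine Finset.sum_congr rfl fun j _ => ?_
          rw [map_smul]
        rw [hz]
        refine Submodule.sum_mem _ fun j _ => ?_
        refine Submodule.smul_mem_smul ?_ Submodule.mem_top
        -- i z j ∈ m : i z = i (p (i z)) = E (i z)
        have : i z j = ∑ l, E j l * i z l := by
          conv_lhs => rw [← hpi' z]
          exact hE (i z) j
        rw [this]
        exact Ideal.sum_mem _ fun l _ => Ideal.mul_mem_right _ _ (hcon j l)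
      obtain ⟨r, hr1, hr0⟩ := Submodule.exists_sub_one_mem_and_smul_eq_zero_of_fg_of_le_smul m
        (⊤ : Submodule R M) Module.Finite.fg_top hle
      have hr : r = 0 := by
        apply FaithfulSMul.eq_of_smul_eq_smul (α := M)
        intro z
        rw [hr0 z Submodule.mem_top, zero_smul]
      rw [hr, zero_sub] at hr1
      have : (1 : R) ∈ m := by
        have := m.neg_mem hr1
        rwa [neg_neg] at this
      exact hm.ne_top ((Ideal.eq_top_iff_one m).mpr this)
    obtain ⟨j₀, l₀, hjl⟩ := hex
    let _ := Ideal.Quotient.field m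
    refine ⟨Fin.append (Pi.single l₀ 1) (Pi.single j₀ 1), ?_⟩
    rw [aeval_bil]
    have : ∑ j, ∑ l, algebraMap R (R ⧸ m) (E j l) * (Pi.single l₀ 1 : Fin n → R ⧸ m) l *
        (Pi.single j₀ 1 : Fin n → R ⧸ m) j = algebraMap R (R ⧸ m) (E j₀ l₀) := by
      simp [Pi.single_apply]
    rw [this, isUnit_iff_ne_zero]
    intro h0
    exact hjl (Ideal.Quotient.eq_zero_iff_mem.mp h0)
  obtain ⟨s, hs⟩ := hR (n + n) (bil n E) hres
  -- split s
  let x : Fin n → R := fun l => s (Fin.castAdd n l)
  let y : Fin n → R := fun j => s (Fin.natAdd n j)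
  have hsxy : s = Fin.append x y := by
    funext k
    refine Fin.addCases (fun l => ?_) (fun j => ?_) k
    · rw [Fin.append_left]
    · rw [Fin.append_right]
  rw [hsxy, aeval_bil] at hs
  obtain ⟨u, hu⟩ := hs
  let φ : Module.Dual R M := ∑ j, y j • (LinearMap.proj j ∘ₗ i)
  have hφ : φ (p x) = (u : R) := by
    rw [hu]
    simp only [φ, LinearMap.sum_apply, LinearMap.smul_apply, LinearMap.comp_apply, LinearMap.proj_apply,
      smul_eq_mul]
    refine Finset.sum_congr rfl fun j _ => ?_
    rw [hE x j, Finset.mul_sum]
    refine Finset.sum_congr rfl fun l _ => ?_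
    simp only [Algebra.algebraMap_self, RingHom.id_apply]
    ring
  refine ⟨p x, (↑u⁻¹ : R) • φ, ?_⟩
  rw [LinearMap.smul_apply, hφ, smul_eq_mul, Units.inv_mul]

end Groth.Agent.S16598
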