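import Groth.Statements.S19560
import Mathlib
-- import your own Groth.Agent.* helpers here

set_option autoImplicit false
universe u
open W4c1limliniiii

namespace Groth.Agent.S19560.Aux

set_option autoImplicit false

namespace WronRam

open Polynomial

variable {k : Type u} [Field k]

/-- the key identity. -/
theorem wron_factor (s0 u : k[X]) (a : k) (m : ℕ) :
    wronskian s0 ((X - C a) ^ (m + 1) * u) =
      (X - C a) ^ m * (C ((m + 1 : ℕ) : k) * s0 * u
        + (X - C a) * (s0 * derivative u - derivative s0 * u)) := by
  unfold wronskian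
  rw [derivative_mul, derivative_pow, derivative_sub, derivative_X, derivative_C]
  simp only [Nat.add_sub_cancel, sub_zero, mul_one, map_natCast]
  ring

theorem wron_change (F G : k[X]) (α β γ δ : k) :
    wronskian (α • F + β • G) (γ • F + δ • G) = C (α * δ - β * γ) * wronskian F G := by
  unfold wronskian
  simp only [derivative_add, derivative_smul, smul_eq_C_mul, map_sub, map_mul, derivative_mul,
    derivative_C, zero_mul, zero_add]
  ring

theorem rootMult_C_mul {c : k} (hc : c ≠ 0) (P : k[X]) (a : k) :
    rootMultiplicity a (C c * P) = rootMultiplicity a P := by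
  by_cases hP : P = 0
  · simp [hP]
  · rw [rootMultiplicity_mul (mul_ne_zero (by simpa using hc) hP), rootMultiplicity_C, zero_add]

theorem main (p : ℕ) [CharP k p]
    (d : ℕ) (F G : k[X]) (hV : W4c1limliniiii.IsPencil d (Submodule.span k {F, G}))
    (hW : Polynomial.wronskian F G ≠ 0) (a : k) (e : ℕ)
    (he : (Polynomial.wronskian F G).rootMultiplicity a + 1 = e) (hp : p = 0 ∨ e - 1 < p) :
    W4c1limliniiii.HasRamIdx (Submodule.span k {F, G}) a e ∧ ¬ p ∣ e := by
  obtain ⟨-, -, -, hbpf⟩ := hV
  obtain ⟨s0, hs0V, hs0a⟩ := hbpf a
  obtain ⟨α, β, hs0⟩ := Submodule.mem_span_pair.mp hs0V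
  set s1 : k[X] := (G.eval a) • F + (-(F.eval a)) • G with hs1
  have hs1V : s1 ∈ Submodule.span k {F, G} := Submodule.mem_span_pair.mpr ⟨_, _, rfl⟩
  have hs0a' : α * F.eval a + β * G.eval a ≠ 0 := by
    rw [← hs0] at hs0a
    simpa [eval_add, eval_smul] using hs0a
  -- the Wronskian of the new basis
  have hWs : wronskian s0 s1 = C (-(α * F.eval a + β * G.eval a)) * wronskian F G := by
    rw [← hs0, hs1, wron_change]
    congr 2
    ring
  have hWs_ne : wronskian s0 s1 ≠ 0 := by
    rw [hWs]
    exact mul_ne_zero (C_ne_zero.mpr (neg_ne_zero.mpr hs0a')) hW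
  have hs1_ne : s1 ≠ 0 := by
    intro h
    rw [h, wronskian_zero_right] at hWs_ne
    exact hWs_ne rfl
  have hs1a : s1.IsRoot a := by
    simp [hs1, IsRoot, eval_add, eval_smul]
    ring
  have hmpos : 0 < rootMultiplicity a s1 := (rootMultiplicity_pos hs1_ne).mpr hs1a
  obtain ⟨u, hu, hudvd⟩ := exists_eq_pow_rootMultiplicity_mul_and_not_dvd s1 hs1_ne a
  obtain ⟨m, hm⟩ : ∃ m, rootMultiplicity a s1 = m + 1 := ⟨_, (Nat.succ_pred_eq_of_pos hmpos).symm⟩
  rw [hm] at hu
  have hua : u.eval a ≠ 0 := by
    intro h
    exact hudvd (dvd_iff_isRoot.mpr h)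
  have hroot : rootMultiplicity a (wronskian s0 s1) = rootMultiplicity a (wronskian F G) := by
    rw [hWs]
    exact rootMult_C_mul (neg_ne_zero.mpr hs0a') _ _
  have hfac := wron_factor s0 u a m
  rw [← hu] at hfac
  -- case distinction on whether m+1 vanishes in k
  have hcast : ((m + 1 : ℕ) : k) ≠ 0 := by
    intro h0
    have hdvd : p ∣ m + 1 := (CharP.cast_eq_zero_iff k p (m + 1)).mp h0
    -- the Wronskian is divisible by (X - a)^(m+1)
    have hdiv : (X - C a) ^ (m + 1) ∣ wronskian s0 s1 := by
      rw [hfac, h0, map_zero, zero_mul, zero_mul, zero_add, pow_succ]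
      exact ⟨s0 * derivative u - derivative s0 * u, by ring⟩
    have hle : m + 1 ≤ rootMultiplicity a (wronskian s0 s1) :=
      (le_rootMultiplicity_iff hWs_ne).mpr hdiv
    rw [hroot] at hle
    rcases hp with hp | hp
    · rw [hp] at hdvd
      have := Nat.eq_zero_of_zero_dvd hdvd
      omega
    · have hple : p ≤ m + 1 := Nat.le_of_dvd (Nat.succ_pos m) hdvd
      omega
  have hmult : rootMultiplicity a (wronskian s0 s1) = m := by
    set Q : k[X] := C ((m + 1 : ℕ) : k) * s0 * u
        + (X - C a) * (s0 * derivative u - derivative s0 * u) with hQ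
    have hQa : Q.eval a ≠ 0 := by
      simp only [hQ, eval_add, eval_mul, eval_C, eval_sub, eval_X, sub_self, zero_mul, add_zero]
      exact mul_ne_zero (mul_ne_zero hcast hs0a) hua
    have hQ0 : Q ≠ 0 := by
      intro h
      rw [h] at hQa
      simp at hQa
    rw [hfac, mul_comm, rootMultiplicity_mul_X_sub_C_pow hQ0,
      rootMultiplicity_eq_zero (by simpa [IsRoot] using hQa), zero_add]
  have hem : e = m + 1 := by
    rw [← he, ← hroot, hmult]
  refine ⟨⟨⟨s1, hs1V, hs1_ne, by rw [hm, hem]⟩, ?_⟩, ?_⟩
  · intro s hsV hs_ne
    obtain ⟨x, y, hs⟩ := Submodule.mem_span_pair.mp hsV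
    by_cases hsa : s.IsRoot a
    · -- s is a multiple of s1
      have hxy : x * F.eval a + y * G.eval a = 0 := by
        rw [← hs] at hsa
        simpa [IsRoot, eval_add, eval_smul] using hsa
      have hFG : F.eval a ≠ 0 ∨ G.eval a ≠ 0 := by
        by_contra hcon
        push Not at hcon
        apply hs0a'
        rw [hcon.1, hcon.2]
        ring
      obtain ⟨c, hc⟩ : ∃ c : k, s = c • s1 := by
        rcases hFG with hF | hG
        · refine ⟨-(y / F.eval a), ?_⟩
          have hx : x = -(y * G.eval a / F.eval a) := by
            field_simp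
            linear_combination hxy
          rw [← hs, hs1, hx]
          simp only [smul_add, smul_smul]
          congr 1
          · congr 1
            field_simp
          · congr 1
            field_simp
        · refine ⟨x / G.eval a, ?_⟩
          have hy : y = -(x * F.eval a / G.eval a) := by
            field_simp
            linear_combination hxy
          rw [← hs, hs1, hy]
          simp only [smul_add, smul_smul]
          congr 1
          · congr 1
            field_simp
          · congr 1
            field_simp
      have hc0 : c ≠ 0 := by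
        intro h
        rw [h, zero_smul] at hc
        exact hs_ne hc
      rw [hc, smul_eq_C_mul, rootMult_C_mul hc0, hm, hem]
    · rw [rootMultiplicity_eq_zero hsa]
      exact Nat.zero_le _
  · rw [hem]
    intro hdvd
    exact hcast ((CharP.cast_eq_zero_iff k p (m + 1)).mpr hdvd)

end WronRam

end Groth.Agent.S19560.Aux

namespace Groth.Agent.S19560

open Polynomial in
/-- Let k be an algebraically closed field of characteristic p (a prime or zero) and let F, G be
polynomials spanning a base-point-free pencil V of degree d (a two-dimensional space of polynomials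
of degree at most d containing one of degree d and with no common zero in k), so that V encodes a
degree-d self-map F/G of the projective line up to automorphisms of the target. Suppose the
Wronskian W = F′G − FG′ is non-zero and vanishes at the point a to order exactly e − 1 with e ≥ 1,
and that p = 0 or e − 1 < p. Then the map is tamely ramified at a with index e: the largest order of
vanishing at a of a non-zero member of V is e, and p does not divide e. (The hypothesis W ≠ 0 makes
the order of vanishing meaningful; for W = 0 the map is inseparable.) -/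
theorem result
    (k : Type u) [Field k] [IsAlgClosed k] (p : ℕ) [CharP k p]
    (d : ℕ) (F G : k[X]) (hV : W4c1limliniiii.IsPencil d (Submodule.span k {F, G}))
    (hW : Polynomial.wronskian F G ≠ 0) (a : k) (e : ℕ)
    (he : (Polynomial.wronskian F G).rootMultiplicity a + 1 = e) (hp : p = 0 ∨ e - 1 < p) :
    W4c1limliniiii.HasRamIdx (Submodule.span k {F, G}) a e ∧ ¬ p ∣ e := by
  exact Aux.WronRam.main p d F G hV hW a e he hp

end Groth.Agent.S19560
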