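import Groth.Statements.S0013
import Mathlib
import Groth.Agent.S0464
import Groth.Agent.Lib.Helper23AffOpen2
import Groth.Agent.Lib.Helper23AffVanish7
-- import your own Groth.Agent.* helpers here

set_option autoImplicit false
universe u
open Coherent

namespace Groth.Agent.S0013


open Groth.Agent.Lib.Helper23.AffVanish TopologicalSpace in
open AlgebraicGeometry in
/-- Let X be a scheme with an open covering all of whose nonempty finite intersections are affine. For a
quasi-coherent module M and every degree p, Čech cohomology with respect to this covering is
isomorphic to sheaf cohomology; only the existence of an isomorphism of additive groups is asserted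
(the published statement gives an isomorphism of modules over the global sections). -/
theorem result (X : Scheme.{u}) {ι : Type u}
    (U : ι → X.Opens) (hcov : ⨆ i, U i = ⊤)
    (hU : ∀ s : Finset ι, s.Nonempty → IsAffineOpen (⨅ i ∈ s, U i))
    (M : X.Modules) [Coh.IsQCoh M] (p : ℕ) :
    Nonempty (↑(CohB1.cechH U M p) ≃+ Coh.HH X M p) := by
  have h : ∀ (p : ℕ) (a : Fin (p + 1) → ι) (q : ℕ),
      Subsingleton (CohTop.HU (ab' M) (q + 1) (iInf fun k => U (a k))) := by
    intro p a q
    have haff : IsAffineOpen (iInf fun k => U (a k)) := by
      classical
      have := hU (Finset.image a Finset.univ) (Finset.image_nonempty.2 Finset.univ_nonempty)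
      have e : (⨅ i ∈ Finset.image a Finset.univ, U i) = iInf fun k => U (a k) := by
        apply le_antisymm
        · refine le_iInf fun k => ?_
          exact iInf₂_le (a k) (Finset.mem_image.2 ⟨k, Finset.mem_univ k, rfl⟩)
        · refine le_iInf₂ fun i hi => ?_
          obtain ⟨k, -, rfl⟩ := Finset.mem_image.1 hi
          exact iInf_le _ k
      rwa [e] at this
    exact subsingleton_HE_of_isAffineOpen haff M q
  obtain ⟨e⟩ := Groth.Agent.S0464.result (ab' M) U h p
  have e2 : CohTop.HU (ab' M) p (iSup U) ≃+ CohTop.H (ab' M) p := by
    rw [hcov]
    exact HETopEquivH X.carrier (ab' M) p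
  exact ⟨e.trans e2⟩

end Groth.Agent.S0013
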