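import Groth.Statements.S0008
import Mathlib
import Groth.Agent.S0013
import Groth.Agent.S0007
-- import your own Groth.Agent.* helpers here

set_option autoImplicit false
universe u
open Coherent

namespace Groth.Agent.S0008

open CategoryTheory Limits AlgebraicGeometry TopologicalSpace Opposite

open AlgebraicGeometry in
/-- For a ring A, an A-module M and elements f_1, …, f_n generating the unit ideal, the Čech cohomology
of the associated module on Spec A with respect to the covering by the basic opens D(f_i) vanishes
in every positive degree. -/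
theorem result (A : Type u) [CommRing A] (M : ModuleCat.{u} A)
    (n : ℕ) (f : ULift.{u} (Fin n) → A) (hf : Ideal.span (Set.range f) = ⊤) (p : ℕ) (hp : 0 < p) :
    CategoryTheory.Limits.IsZero (CohB1.cechH (fun i => PrimeSpectrum.basicOpen (f i)) (tilde (R := CommRingCat.of A) M) p) := by
  let X : Scheme.{u} := Spec (CommRingCat.of A)
  let U : ULift.{u} (Fin n) → X.Opens := fun i => PrimeSpectrum.basicOpen (f i)
  have hcov : ⨆ i, U i = ⊤ := by
    rw [eq_top_iff]
    intro x _
    by_contra hx
    have h1 : ∀ i, f i ∈ x.asIdeal := by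
      intro i
      by_contra hi
      exact hx (Opens.mem_iSup.2 ⟨i, hi⟩)
    have h2 : Ideal.span (Set.range f) ≤ x.asIdeal := Ideal.span_le.2 (by rintro _ ⟨i, rfl⟩; exact h1 i)
    rw [hf] at h2
    exact x.isPrime.ne_top (eq_top_iff.2 h2)
  have hU : ∀ s : Finset (ULift.{u} (Fin n)), s.Nonempty → IsAffineOpen (⨅ i ∈ s, U i) := by
    have key : ∀ s : Finset (ULift.{u} (Fin n)),
        (⨅ i ∈ s, U i) = (PrimeSpectrum.basicOpen (∏ i ∈ s, f i) : X.Opens) := by
      classical
      intro s
      induction s using Finset.induction_on with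
      | empty =>
        simp only [Finset.notMem_empty, iInf_false, iInf_top, Finset.prod_empty]
        exact PrimeSpectrum.basicOpen_one.symm
      | insert a s ha ih =>
        rw [Finset.iInf_insert, ih, Finset.prod_insert ha, PrimeSpectrum.basicOpen_mul]
        rfl
    intro s _
    rw [key s]
    have h3 : (PrimeSpectrum.basicOpen (∏ i ∈ s, f i) : X.Opens) =
        X.basicOpen ((Scheme.ΓSpecIso (CommRingCat.of A)).inv (∏ i ∈ s, f i)) := by
      rw [← basicOpen_eq_of_affine]
    rw [h3]
    exact (isAffineOpen_top X).basicOpen _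
  have : Coh.IsQCoh (tilde (R := CommRingCat.of A) M) := inferInstanceAs (tilde (R := CommRingCat.of A) M).IsQuasicoherent
  obtain ⟨e⟩ := Groth.Agent.S0013.result X U hcov hU (tilde (R := CommRingCat.of A) M) p
  have : Subsingleton (Coh.HH X (tilde (R := CommRingCat.of A) M) p) :=
    Groth.Agent.S0007.result X (tilde (R := CommRingCat.of A) M) p hp
  have : Subsingleton ↑(CohB1.cechH U (tilde (R := CommRingCat.of A) M) p) := e.toEquiv.subsingleton
  exact AddCommGrpCat.isZero_of_subsingleton _

end Groth.Agent.S0008
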