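import Groth.Statements.S0011
import Mathlib
import Groth.Agent.Lib.Helper23QCohSum
import Groth.Agent.S0007
import Groth.Agent.S0012
-- import your own Groth.Agent.* helpers here

set_option autoImplicit false
universe u
open Coherent

namespace Groth.Agent.S0011


attribute [local instance] CategoryTheory.Abelian.hasFiniteBiproducts in
open Groth.Agent.Lib.Helper23.QCohLocal CategoryTheory.Limits TopologicalSpace in
open AlgebraicGeometry CategoryTheory in
/-- On a quasi-compact scheme in which affine opens have affine intersections, every quasi-coherent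
module admits a monomorphism into a quasi-coherent module whose cohomology vanishes in all positive
degrees. (Part (2), universality of the delta-functor, is not stated.) -/
theorem result (X : Scheme.{u}) [CompactSpace X]
    (hd : ∀ V W : X.Opens, IsAffineOpen V → IsAffineOpen W → IsAffineOpen (V ⊓ W))
    (M : X.Modules) [Coh.IsQCoh M] :
    ∃ (M' : X.Modules) (i : M ⟶ M'), Mono i ∧ Coh.IsQCoh M' ∧
      ∀ p : ℕ, 0 < p → Subsingleton (Coh.HH X M' p) := by
  -- a finite affine cover
  obtain ⟨n, U, hUa, hUc⟩ : ∃ (n : ℕ) (U : Fin n → X.Opens), (∀ k, IsAffineOpen (U k)) ∧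
      ∀ x : X, ∃ k, x ∈ U k := by
    have hloc : ∀ x : X, ∃ V : X.Opens, IsAffineOpen V ∧ x ∈ V := by
      intro x
      obtain ⟨V, hV, hxV, -⟩ := (Opens.isBasis_iff_nbhd.1 X.isBasis_affineOpens) (Opens.mem_top x)
      exact ⟨V, hV, hxV⟩
    choose V hVa hxV using hloc
    obtain ⟨s, hs⟩ := isCompact_univ.elim_finite_subcover (fun x : X => (V x : Set X))
      (fun x => (V x).2) (fun y _ => Set.mem_iUnion.2 ⟨y, hxV y⟩)
    refine ⟨s.card, fun k => V (s.equivFin.symm k).1, fun k => hVa _, fun x => ?_⟩
    obtain ⟨y, hy⟩ := Set.mem_iUnion.1 (hs (Set.mem_univ x))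
    obtain ⟨hys, hxy⟩ := Set.mem_iUnion.1 hy
    refine ⟨s.equivFin ⟨y, hys⟩, ?_⟩
    simpa using hxy
  have haff : ∀ k, IsAffineHom (U k).ι := by
    intro k
    rw [isAffineHom_iff]
    intro W hW
    rw [← Scheme.Hom.isAffineOpen_iff_of_isOpenImmersion (U k).ι,
      Scheme.Hom.image_preimage_eq_opensRange_inf, Scheme.Opens.opensRange_ι]
    exact hd _ _ (hUa k) hW
  let N : Fin n → X.Modules := fun k =>
    (Scheme.Modules.pushforward (U k).ι).obj (M.restrict (U k).ι)
  have hN : ∀ k, (N k).IsQuasicoherent := fun k => by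
    haveI := haff k
    exact isQuasicoherent_pushforward (U k).ι _
  refine ⟨⨁ N, biproduct.lift (fun k => (Scheme.Modules.restrictAdjunction (U k).ι).unit.app M), ?_,
    isQuasicoherent_biproduct N hN, ?_⟩
  · refine Preadditive.mono_of_cancel_zero _ (fun g hg => ?_)
    apply eq_zero_of_comp_units U hUc
    intro k
    have := congr($hg ≫ biproduct.π N k)
    simpa using this
  · intro p hp
    have hk : ∀ k, Subsingleton (Coh.HH X (N k) p) := fun k => by
      haveI := haff k
      haveI : IsAffine ↑(U k) := hUa k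
      obtain ⟨e⟩ := Groth.Agent.S0012.result (U k).ι (M.restrict (U k).ι) p
      haveI := Groth.Agent.S0007.result ↑(U k) (M.restrict (U k).ι) p hp
      exact e.symm.subsingleton
    exact subsingleton_ext_biproduct (SheafOfModules.toSheaf X.ringCatSheaf) N _ p hk

end Groth.Agent.S0011
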