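import Groth.Statements.S0018
import Mathlib
import Groth.Agent.Lib.Helper23FinPres
-- import your own Groth.Agent.* helpers here

set_option autoImplicit false
universe u
open Coherent

namespace Groth.Agent.S0018

open AlgebraicGeometry in
/-- On a locally Noetherian scheme an O_X-module is quasi-coherent of finite type if and only if it is
of finite presentation. (Either condition is what 'coherent' means there.) -/
theorem result (X : Scheme.{u}) [IsLocallyNoetherian X] (M : X.Modules) :
    Coh.IsCoh M ↔ CohB1.IsFP M := by
  constructor
  · rintro ⟨h1, h2⟩
    haveI : M.IsQuasicoherent := h1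
    haveI : SheafOfModules.IsFiniteType (R := X.ringCatSheaf) M := h2
    exact Groth.Agent.Lib.Helper23.FinType.isFinitePresentation_of_isFiniteType M
  · intro h
    haveI : SheafOfModules.IsFinitePresentation (R := X.ringCatSheaf) M := h
    have h1 : SheafOfModules.IsQuasicoherent (R := X.ringCatSheaf) M :=
      { nonempty_quasicoherentData := ⟨(SheafOfModules.IsFinitePresentation.exists_quasicoherentData (R := X.ringCatSheaf) M).choose⟩ }
    have h2 : SheafOfModules.IsFiniteType (R := X.ringCatSheaf) M := by
      obtain ⟨σ, hσ⟩ := SheafOfModules.IsFinitePresentation.exists_quasicoherentData (R := X.ringCatSheaf) M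
      exact { exists_localGeneratorsData := ⟨σ.localGeneratorsData,
        { isFiniteType := fun i => (hσ.isFinite_presentation i).isFiniteType_generators }⟩ }
    exact ⟨h1, h2⟩

end Groth.Agent.S0018
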