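import Groth.Statements.S0027
import Groth.Agent.Lib.Helper4DevK

set_option autoImplicit false
set_option linter.style.haveILetI false
universe u
open Coherent

namespace Groth.Agent.S0027

open AlgebraicGeometry CategoryTheory CategoryTheory.Limits in
/-- Let X be a nonempty Noetherian scheme and P an isomorphism-invariant property of O_X-modules such
that (1) in a short exact sequence of coherent modules, P for the two outer terms implies P for the
middle term, and (2) P holds for the direct image of every quasi-coherent ideal sheaf of every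
integral closed subscheme of X. Then P holds for every coherent O_X-module. (Nonemptiness of X is
needed for the zero module; the published statement leaves it implicit.) -/
theorem result (X : Scheme.{u}) [IsNoetherian X] [Nonempty X]
    (P : X.Modules → Prop) (hP : ∀ M N : X.Modules, Nonempty (M ≅ N) → P M → P N)
    (h₁ : ∀ S : ShortComplex X.Modules, S.ShortExact → Coh.IsCoh S.X₁ → Coh.IsCoh S.X₂ →
      Coh.IsCoh S.X₃ → P S.X₁ → P S.X₃ → P S.X₂)
    (h₂ : ∀ (Z : Scheme.{u}) (i : Z ⟶ X), IsClosedImmersion i → IsIntegral Z →
      ∀ (I : Z.Modules) (ι : I ⟶ Coh.structureModule Z), Mono ι → Coh.IsQCoh I →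
        P ((Coh.push i).obj I))
    (M : X.Modules) (hM : Coh.IsCoh M) : P M := by
  have hzero : ∀ M : X.Modules, CategoryTheory.Limits.IsZero M → P M := by
    intro M hM
    obtain ⟨x⟩ := (inferInstance : Nonempty X)
    obtain ⟨Z, i, hci, hint, -, -⟩ := Groth.Agent.Lib.Helper4.Dev.exists_integral_closed x
    haveI := Groth.Agent.Lib.Helper4.Dev.isQuasicoherent_structureModule Z
    have hq : Coh.IsQCoh
        (CategoryTheory.Limits.kernel (CategoryTheory.CategoryStruct.id (Coh.structureModule Z))) :=
      Groth.Agent.Lib.Helper23.QCohLocal.isQuasicoherent_kernel _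
    have hz : CategoryTheory.Limits.IsZero
        (CategoryTheory.Limits.kernel (CategoryTheory.CategoryStruct.id (Coh.structureModule Z))) :=
      CategoryTheory.Limits.isZero_kernel_of_mono _
    have hP0 := h₂ Z i hci hint _
      (CategoryTheory.Limits.kernel.ι (CategoryTheory.CategoryStruct.id (Coh.structureModule Z)))
      inferInstance hq
    exact hP _ _ ⟨((AlgebraicGeometry.Scheme.Modules.pushforward i).map_isZero hz).iso hM⟩ hP0
  refine Groth.Agent.Lib.Helper4.Dev.noetherian_induction_coh P Set.univ hP hzero
    (fun S hS c1 c2 c3 _ h1 h3 => h₁ S hS c1 c2 c3 h1 h3) ?_ M hM (Set.subset_univ _)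
  intro y _ IH F hF hsF
  refine Groth.Agent.Lib.Helper4.Dev.ideal_step P Set.univ hP
    (fun S hS c1 c2 c3 _ h1 h3 => h₁ S hS c1 c2 c3 h1 h3) y (Set.subset_univ _) IH ?_ F hF hsF
  intro Z i hci hint _ I ι hι hIq _ _
  exact h₂ Z i hci hint I ι hι hIq

end Groth.Agent.S0027
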