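import Groth.Statements.S0029
import Mathlib
import Groth.Agent.Lib.Helper23SerreRel
-- import your own Groth.Agent.* helpers here

set_option autoImplicit false
universe u
open Coherent

namespace Groth.Agent.S0029


open AlgebraicGeometry CategoryTheory in
open AlgebraicGeometry CategoryTheory in
/-- Let f : X → Y be a quasi-compact morphism between quasi-separated schemes. Suppose R^1 f_* I
vanishes for each quasi-coherent submodule I of O_X; then f is affine. -/
theorem result {X Y : Scheme.{u}} (f : X ⟶ Y) [QuasiCompact f]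
    [QuasiSeparatedSpace X] [QuasiSeparatedSpace Y]
    (h : ∀ (I : X.Modules) (i : I ⟶ Coh.structureModule X), Mono i → Coh.IsQCoh I →
      Limits.IsZero ((Coh.RpushAb f 1).obj (Coh.toAb I))) : IsAffineHom f := by
  refine ⟨fun V hV => ?_⟩
  have hc : CompactSpace ↥(f ⁻¹ᵁ V) :=
    isCompact_iff_compactSpace.1 (QuasiCompact.isCompact_preimage (f := f) _ V.isOpen hV.isCompact)
  have hc' : CompactSpace (↑(f ⁻¹ᵁ V) : Scheme.{u}) := hc
  have : QuasiCompact (f ⁻¹ᵁ V).ι := quasiCompact_of_compactSpace _
  exact Groth.Agent.Lib.Helper23.SerreRel.isAffineOpen_preimage_of_hypRel f h hV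

end Groth.Agent.S0029
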