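import Groth.Statements.S0035
import Groth.Agent.Lib.Helper21BCFin
import Groth.Agent.Lib.Helper21BCAlg

set_option autoImplicit false
universe u
open Coherent

namespace Groth.Agent.S0035

open AlgebraicGeometry CategoryTheory TensorProduct in
/-- Let B be a finite projective (= finite locally free) A-algebra, X any scheme over Spec A, X' = X ×_A
Spec B with projection g', and F quasi-coherent on X. Then H^i(X, F) ⊗_A B ≅ H^i(X', g'^* F). No
quasi-compactness or separation hypothesis on X is needed. -/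
theorem result (A B : Type u) [CommRing A] [CommRing B] [Algebra A B]
    [Module.Finite A B] [Module.Projective A B] (X X' : Scheme.{u})
    [X.Over (Spec (CommRingCat.of A))] [X'.Over (Spec (CommRingCat.of B))] (g' : X' ⟶ X)
    (h : IsPullback g' (X' ↘ Spec (CommRingCat.of B)) (X ↘ Spec (CommRingCat.of A))
      (Spec.map (CommRingCat.ofHom (algebraMap A B))))
    (M : X.Modules) [Coh.IsQCoh M] (i : ℕ) :
    Nonempty (TensorProduct A B (Coh.HH X M i) ≃ₗ[B] Coh.HH X' ((Scheme.Modules.pullback g').obj M) i) := by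
  classical
  have hS : IsAffineOpen (⊤ : (Spec (CommRingCat.of A)).Opens) := isAffineOpen_top _
  have hS' : IsAffineOpen (⊤ : (Spec (CommRingCat.of B)).Opens) := isAffineOpen_top _
  letI := Groth.Agent.Lib.Helper21.BCSch.algTop (Spec.map (CommRingCat.ofHom (algebraMap A B)))
  let φ : A ≃+* Γ(Spec (CommRingCat.of A), ⊤) :=
    (Scheme.ΓSpecIso (CommRingCat.of A)).symm.commRingCatIsoToRingEquiv
  let φ' : B ≃+* Γ(Spec (CommRingCat.of B), ⊤) :=
    (Scheme.ΓSpecIso (CommRingCat.of B)).symm.commRingCatIsoToRingEquiv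
  have hφ : ∀ a : A, φ' (algebraMap A B a) =
      algebraMap Γ(Spec (CommRingCat.of A), ⊤) Γ(Spec (CommRingCat.of B), ⊤) (φ a) := by
    intro a
    have h1 := ConcreteCategory.congr_hom
      (Scheme.ΓSpecIso_inv_naturality (CommRingCat.ofHom (algebraMap A B))) a
    have h2 : (Spec.map (CommRingCat.ofHom (algebraMap A B))).appLE ⊤ ⊤
        (Groth.Agent.Lib.Helper21.BCSch.hle_top _) =
        (Spec.map (CommRingCat.ofHom (algebraMap A B))).appTop :=
      Scheme.Hom.appLE_eq_app _
    change (Scheme.ΓSpecIso (CommRingCat.of B)).inv (algebraMap A B a) =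
      ((Spec.map (CommRingCat.ofHom (algebraMap A B))).appLE ⊤ ⊤
        (Groth.Agent.Lib.Helper21.BCSch.hle_top _)).hom
        ((Scheme.ΓSpecIso (CommRingCat.of A)).inv a)
    rw [h2]
    exact h1
  have hfin : Module.Finite Γ(Spec (CommRingCat.of A), ⊤) Γ(Spec (CommRingCat.of B), ⊤) :=
    Groth.Agent.Lib.Helper21.BCFin.finite_of_ringEquiv φ φ' hφ
  have hproj : Module.Projective Γ(Spec (CommRingCat.of A), ⊤) Γ(Spec (CommRingCat.of B), ⊤) :=
    Groth.Agent.Lib.Helper21.BCFin.projective_of_ringEquiv φ φ' hφ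
  obtain ⟨e⟩ := Groth.Agent.Lib.Helper21.BCFin.nonempty_linearEquiv_top
    (X ↘ Spec (CommRingCat.of A)) (Spec.map (CommRingCat.ofHom (algebraMap A B))) g'
    (X' ↘ Spec (CommRingCat.of B)) h M hS hS' hfin hproj i
  refine Groth.Agent.Lib.Helper21.BCAlg.nonempty_linearEquiv φ φ' hφ
    (M' := Coh.HH X M i)
    (M := Groth.Agent.Lib.Helper21.BCExt.ExtM (Groth.Agent.Lib.Helper21.BCSch.ρ
      (X ↘ Spec (CommRingCat.of A)) M) (Groth.Agent.Lib.Helper16.ClosedEmb.constZ X) i)
    (N := Groth.Agent.Lib.Helper21.BCExt.ExtM (Groth.Agent.Lib.Helper21.BCSch.ρ' g'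
      (X' ↘ Spec (CommRingCat.of B)) M) (Groth.Agent.Lib.Helper16.ClosedEmb.constZ X') i)
    (N' := Coh.HH X' ((Scheme.Modules.pullback g').obj M) i)
    (AddEquiv.refl _) ?_ (AddEquiv.refl _) ?_ e
  · intro a m
    rfl
  · intro b n
    rfl

end Groth.Agent.S0035
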