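import Groth.Statements.S0048
import Mathlib
import Groth.Agent.Lib.Helper23FinTypeLocal
-- import your own Groth.Agent.* helpers here

set_option autoImplicit false
universe u
open Coherent

namespace Groth.Agent.S0048


open AlgebraicGeometry CategoryTheory Groth.Agent.Lib.Helper23.FinType Groth.Agent.Lib.Helper23.QCohLocal
  Groth.Agent.Lib.Helper23.ModLocal

variable {X : Scheme.{u}}

theorem isQuasicoherent_of_isZero_spec {R : CommRingCat.{u}} {N : (Spec R).Modules} (hN : Limits.IsZero N) :
    N.IsQuasicoherent := by
  let Z : ModuleCat.{u} R := ModuleCat.of R PUnit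
  have hZ : Limits.IsZero Z := ModuleCat.isZero_of_subsingleton Z
  have h1 : ((tilde.functor R).obj Z).IsQuasicoherent := inferInstance
  exact (SheafOfModules.isQuasicoherent (Spec R).ringCatSheaf).prop_of_iso
    (Limits.IsZero.iso (Functor.map_isZero (tilde.functor R) hZ) hN) h1

/-- a zero object is quasi-coherent -/
theorem isQuasicoherent_of_isZero {K : X.Modules} (hK : Limits.IsZero K) : K.IsQuasicoherent :=
  isQuasicoherent_of_forall_affine K fun _ hV =>
    isQuasicoherent_of_isZero_spec (Functor.map_isZero (Scheme.Modules.restrictFunctor hV.fromSpec) hK)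

/-- a zero object is of finite type -/
theorem isFiniteType_of_isZero {K : X.Modules} (hK : Limits.IsZero K) :
    SheafOfModules.IsFiniteType (R := X.ringCatSheaf) K := by
  haveI := isQuasicoherent_of_isZero hK
  rw [isFiniteType_iff_forall_affine]
  intro U hU
  haveI : Subsingleton Γ(K, U) := ⟨fun a b => (eq_zero_of_isZero hK U a).trans (eq_zero_of_isZero hK U b).symm⟩
  infer_instance

open AlgebraicGeometry in
/-- Let U ⊆ X be open and T ⊆ U a subset closed in X. If F is a coherent (quasi-coherent of finite type,
i.e. `Coh.IsCoh`) module on U with support contained in T, then its direct image along U ↪ X is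
again coherent in the same sense. (The published statement is for coherent modules in the usual
sense; here both hypothesis and conclusion use the notion `Coh.IsCoh`.) -/
theorem result (X : Scheme.{u}) (U : X.Opens) (T : Set X)
    (hT : IsClosed T) (hTU : T ⊆ (U : Set X)) (F : (↑U : Scheme.{u}).Modules) (hF : Coh.IsCoh F)
    (hs : ∀ x : ↥U, x ∈ CohB1.support F → (x : X) ∈ T) : Coh.IsCoh ((Coh.push U.ι).obj F) := by
  haveI : F.IsQuasicoherent := hF.1
  haveI : SheafOfModules.IsFiniteType (R := (U : Scheme.{u}).ringCatSheaf) F := hF.2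
  set N : X.Modules := (Scheme.Modules.pushforward U.ι).obj F with hN
  let V : X.Opens := ⟨Tᶜ, hT.isOpen_compl⟩
  let W : Bool → X.Opens := fun b => if b then U else V
  have hW : TopologicalSpace.IsOpenCover W := by
    rw [TopologicalSpace.IsOpenCover, eq_top_iff]
    intro x _
    by_cases hx : x ∈ T
    · exact TopologicalSpace.Opens.mem_iSup.2 ⟨true, hTU hx⟩
    · exact TopologicalSpace.Opens.mem_iSup.2 ⟨false, hx⟩
  -- restriction to `U`
  have eU : N.restrict U.ι ≅ F := (Scheme.Modules.restrictFunctorAdjCounitIso U.ι).app F
  -- restriction to `V` vanishes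
  have hV0 : Limits.IsZero (N.restrict V.ι) := by
    refine isZero_of_forall_eq_zero fun W' s => ?_
    change Γ(F, U.ι ⁻¹ᵁ (V.ι ''ᵁ W')) at s
    refine Groth.Agent.Lib.Helper2.QcPush.section_eq_zero_of_germ F _ s fun y hy => ?_
    have hyT : U.ι y ∉ T := by
      obtain ⟨z, -, hz⟩ := hy
      have h1 : V.ι z ∈ (V : Set X) := z.2
      have h2 : V.ι z ∉ T := h1
      rw [← hz]; exact h2
    have hsub : Subsingleton (F.presheaf.stalk y) := by
      by_contra hcon
      exact hyT (hs y hcon)
    exact Subsingleton.elim _ _
  have hq : ∀ b, ((N.restrict (W b).ι)).IsQuasicoherent := by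
    intro b
    cases b
    · exact isQuasicoherent_of_isZero hV0
    · exact (SheafOfModules.isQuasicoherent (U : Scheme.{u}).ringCatSheaf).prop_of_iso eU.symm hF.1
  haveI : N.IsQuasicoherent := isQuasicoherent_of_open_cover N W hW hq
  refine ⟨inferInstance, isFiniteType_of_open_cover N W hW fun b => ?_⟩
  cases b
  · exact isFiniteType_of_isZero hV0
  · exact isFiniteType_of_iso eU.symm

end Groth.Agent.S0048
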