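import Groth.Statements.S0056
import Mathlib
import Groth.Agent.Lib.Helper27TowerFinal

set_option autoImplicit false
universe u
open Coherent

namespace Groth.Agent.S0056

open AlgebraicGeometry CategoryTheory CategoryTheory.Limits in
/-- Grothendieck's algebraization Theorem, with a slightly weaker conclusion. Let A be a Noetherian ring
complete for an ideal I, and S_n = Spec(A/I^(n+1)). Given schemes X_n over S_n with transition maps
X_n → X_(n+1) making each X_n the base change of X_(n+1) to S_n, with X_0 → S_0 proper, and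
invertible modules L_n on X_n with L_n ≅ (pullback of L_(n+1)) and L_0 ample, there exist a proper Y
→ Spec A, an ample invertible module M on Y and maps X_n → Y, compatible with the transition maps,
identifying X_n with Y ×_A S_n, under which L_n is isomorphic to the pullback of M. (The published
statement also makes these isomorphisms compatible with the given ones L_n ≅ (pullback of L_(n+1));
that compatibility is not asserted here.) -/
theorem result (A : Type u) [CommRing A]
    [IsNoetherianRing A] (I : Ideal A) [IsAdicComplete I A]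
    (Xs : ℕ → Scheme.{u}) (p : (n : ℕ) → (Xs n ⟶ Spec (CommRingCat.of (A ⧸ I ^ (n + 1)))))
    (i : (n : ℕ) → (Xs n ⟶ Xs (n + 1)))
    (hcart : ∀ n, IsPullback (i n) (p n) (p (n + 1)) (CohB1.specQuotTrans I n)) (hp : IsProper (p 0))
    (L : (n : ℕ) → (Xs n).Modules) (hL : ∀ n, PicF.IsInvertible (L n))
    (φ : ∀ n, Nonempty ((Scheme.Modules.pullback (i n)).obj (L (n + 1)) ≅ L n)) (ha : CohB1.IsAmple (L 0)) :
    ∃ (Y : Scheme.{u}) (g : Y ⟶ Spec (CommRingCat.of A)) (M : Y.Modules) (e : (n : ℕ) → (Xs n ⟶ Y)),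
      IsProper g ∧ PicF.IsInvertible M ∧ CohB1.IsAmple M ∧
      (∀ n, IsPullback (e n) (p n) g (CohB1.specQuot I n)) ∧ (∀ n, e n = i n ≫ e (n + 1)) ∧
      ∀ n, Nonempty ((Scheme.Modules.pullback (e n)).obj M ≅ L n) := by
  letI : ∀ k, (Xs k).Over (Spec (CommRingCat.of A)) := fun k => ⟨p k ≫ CohB1.specQuot I k⟩
  have hover : ∀ k, (Xs k) ↘ Spec (CommRingCat.of A) = p k ≫ CohB1.specQuot I k := fun k => rfl
  haveI := hp
  let φL : ∀ k, (Scheme.Modules.pullback (i k)).obj (L (k + 1)) ≅ L k := fun k => (φ k).some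
  obtain ⟨d₀, hd₀⟩ := Groth.Agent.Lib.Helper27TowerSec.uniform_surjective_πQ I Xs p hover i hcart
    L hL φL ha
  haveI : IsProper ((Xs 0) ↘ Spec (CommRingCat.of A)) := by
    rw [hover 0]
    infer_instance
  obtain ⟨n₀, hn₀⟩ := Groth.Agent.Lib.Helper23.VeryAmple2.isRelVeryAmplePn_twist_eventually
    ((Xs 0) ↘ Spec (CommRingCat.of A)) (L 0) ha (Coh.structureModule (Xs 0))
    (Groth.Agent.Lib.Helper23.TensorUnit.isInvertible_structureModule (Xs 0))
  have hva : ∀ n, n₀ ≤ n → RelAmple.IsRelVeryAmplePn ((Xs 0) ↘ Spec (CommRingCat.of A))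
      (CohB1.tensorPow (L 0) n) := fun n hn =>
    Groth.Agent.Lib.Helper23.VeryAmple3.isRelVeryAmplePn_of_iso _
      (Groth.Agent.Lib.Helper23.TensorUnit.unitTensorIso _) (hn₀ n hn)
  obtain ⟨N₁, a₁, hci₁, hs₁, hc₁, hτ₁⟩ :=
    Groth.Agent.Lib.Helper27TowerProj.exists_tower_emb I Xs p hover i hcart L hL φL (max d₀ n₀)
      (hd₀ _ (le_max_left _ _)) (hva _ (le_max_right _ _))
  obtain ⟨N₂, a₂, -, -, hc₂, hτ₂⟩ :=
    Groth.Agent.Lib.Helper27TowerProj.exists_tower_emb I Xs p hover i hcart L hL φL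
      (max d₀ n₀ + 1) (hd₀ _ ((le_max_left _ _).trans (Nat.le_succ _)))
      (hva _ ((le_max_right _ _).trans (Nat.le_succ _)))
  exact Groth.Agent.Lib.Helper27TowerFinal.exists_algebraization_of_emb I Xs p hover i hcart L hL
    ha (max d₀ n₀) N₁ a₁ hci₁ hs₁ hc₁ hτ₁ N₂ a₂ hc₂ hτ₂

end Groth.Agent.S0056
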