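import Groth.Statements.S0061
import Mathlib
import Groth.Agent.Lib.Helper27ExistProj
import Groth.Agent.Lib.Helper27ProjSpaceFibres
import Groth.Agent.Lib.Helper23VeryAmple3
import Groth.Agent.Lib.Helper23PB

set_option autoImplicit false
universe u
open Coherent

namespace Groth.Agent.S0061

open AlgebraicGeometry CategoryTheory in
/-- Grothendieck's existence Theorem in the projective case, essential-surjectivity half. Let A be a
Noetherian ring complete for an ideal I and X a closed subscheme of P^n_A, compatibly with the
structure maps to Spec A. Then every coherent formal module on X with respect to I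
(`Formal.IsCohFormal`) is isomorphic to the completion system (M/I^nM)_n of some coherent O_X-module
M. (Full faithfulness of completion is stated separately.) -/
theorem result (A : Type u) [CommRing A] [IsNoetherianRing A]
    (I : Ideal A) [IsAdicComplete I A] (n : ℕ) (X : Scheme.{u}) [X.Over (Spec (CommRingCat.of A))]
    (i : X ⟶ CohB1.ProjSpace n A) [IsClosedImmersion i]
    (hi : i ≫ CohB1.ProjSpace.toSpec n A = X ↘ Spec (CommRingCat.of A))
    (G : ℕᵒᵖ ⥤ X.Modules) (hG : Formal.IsCohFormal I G) :
    ∃ M : X.Modules, Coh.IsCoh M ∧ Nonempty (Formal.completion I M ≅ G) := by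
  have : IsProper (CohB1.ProjSpace.toSpec n A) :=
    Groth.Agent.Lib.Helper27ProjSpaceFibres.isProper_projSpace_toSpec n A
  have : IsProper (X ↘ Spec (CommRingCat.of A)) := by
    rw [← hi]
    infer_instance
  have hL : CohB1.IsAmple ((Scheme.Modules.pullback i).obj (Twist.twistProjSpace n A 1)) :=
    Groth.Agent.Lib.Helper23.PB.isAmple_pullback_of_isAffineHom i _
      (Groth.Agent.Lib.Helper23.VeryAmple3.isAmple_twistProjSpace n A)
  exact Groth.Agent.Lib.Helper27ExistProj.exists_algebraization I _ hL G hG

end Groth.Agent.S0061
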