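import Groth.Statements.S0066
import Groth.Agent.Lib.Helper6EtNormal
import Mathlib

set_option autoImplicit false
open CategoryTheory CategoryTheory.Limits AlgebraicGeometry Opposite
universe u
open EtBase

namespace Groth.Agent.S0066

/-- For an étale morphism f : X → Y with Y locally Noetherian and a point x of X, the local ring O_{X,x}
is a normal domain (a domain which is integrally closed in its fraction field) if and only if
O_{Y,f(x)} is. -/
theorem result {X Y : Scheme.{u}} (f : X ⟶ Y) [AlgebraicGeometry.Etale f]
    [IsLocallyNoetherian Y] (x : X) :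
    (IsDomain (X.presheaf.stalk x) ∧ IsIntegrallyClosed (X.presheaf.stalk x)) ↔
      (IsDomain (Y.presheaf.stalk (f.base x)) ∧ IsIntegrallyClosed (Y.presheaf.stalk (f.base x))) := by
  have hXn : IsLocallyNoetherian X := LocallyOfFiniteType.isLocallyNoetherian f
  have hflat : (f.stalkMap x).hom.Flat := AlgebraicGeometry.Flat.stalkMap f x
  have hunr : (f.stalkMap x).hom.FormallyUnramified :=
    AlgebraicGeometry.FormallyUnramified.stalkMap f x
  have hess : (f.stalkMap x).hom.EssFiniteType := LocallyOfFiniteType.stalkMap f x
  algebraize [(f.stalkMap x).hom]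
  have hloc : IsLocalHom (algebraMap (Y.presheaf.stalk (f x)) (X.presheaf.stalk x)) :=
    inferInstanceAs <| IsLocalHom (f.stalkMap x).hom
  exact Groth.Agent.Lib.Helper6.EtNormal.normal_iff
    (A := Y.presheaf.stalk (f x)) (B := X.presheaf.stalk x)

end Groth.Agent.S0066
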