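import Groth.Statements.S6630
import Mathlib
import Groth.Agent.Lib.Helper23PropB
-- import your own Groth.Agent.* helpers here

set_option autoImplicit false
set_option backward.isDefEq.respectTransparency.types false
open CategoryTheory CategoryTheory.Limits AlgebraicGeometry Opposite
universe u
open EtCore

namespace Groth.Agent.S6630

open TopologicalSpace TensorProduct
open Groth.Agent.Lib.Helper23.PropB

/-- local form of condition (B) for a family of étale morphisms. -/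
def LBF {X Y : Scheme.{u}} (f : X ⟶ Y) {ι : Type u} (U : ι → Scheme.{u}) (g : ∀ i, U i ⟶ X)
    (y : Y) : Prop :=
  ∃ (V' : Scheme.{u}) (v' : V' ⟶ Y) (_ : Etale v') (pt' : V'), v' pt' = y ∧
    ∃ (μ : Type u) (W : μ → (pullback f v').Opens), (∀ a b, a ≠ b → Disjoint (W a) (W b)) ∧
      (⨆ a, W a) = ⊤ ∧
      ∀ a, ∃ (i : ι) (h : ((W a : (pullback f v').Opens) : Scheme.{u}) ⟶ U i),
        h ≫ g i = (W a).ι ≫ pullback.fst f v'

theorem lbf_of_lb_sigma {X Y : Scheme.{u}} (f : X ⟶ Y) {ι : Type u} (U : ι → Scheme.{u})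
    (g : ∀ i, U i ⟶ X) {σ : Type u} (Ux : σ → Scheme.{u}) (m : ∀ k, Ux k ⟶ X) (i : σ → ι)
    (r : ∀ k, Ux k ⟶ U (i k)) (hr : ∀ k, r k ≫ g (i k) = m k) (y : Y)
    (H : LB f (Sigma.desc m) y) : LBF f U g y := by
  obtain ⟨V, v, hv, pt, hpt, μ, W, hdisj, hcov, hh⟩ := H
  choose h hh using hh
  let O : ∀ ak : μ × σ, ((W ak.1 : (pullback f v).Opens) : Scheme.{u}).Opens :=
    fun ak => (h ak.1) ⁻¹ᵁ (Sigma.ι Ux ak.2).opensRange
  let W' : μ × σ → (pullback f v).Opens := fun ak => (W ak.1).ι ''ᵁ (O ak)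
  refine ⟨V, v, hv, pt, hpt, μ × σ, W', ?_, ?_, ?_⟩
  · rintro ⟨a, k⟩ ⟨b, l⟩ hne
    rw [disjoint_iff]
    ext q
    simp only [Opens.coe_inf, Set.mem_inter_iff, SetLike.mem_coe, Opens.coe_bot,
      Set.mem_empty_iff_false, iff_false, not_and]
    rintro ⟨qa, hqa, rfl⟩ ⟨qb, hqb, hqeq⟩
    by_cases hab : a = b
    · subst hab
      have hq : qb = qa := (W a).ι.injective hqeq
      subst hq
      have hkl : k ≠ l := fun hkl => hne (by rw [hkl])
      have hd := disjoint_opensRange_sigmaι Ux k l hkl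
      rw [disjoint_iff] at hd
      have hmem : h a qb ∈ (Sigma.ι Ux k).opensRange ⊓ (Sigma.ι Ux l).opensRange := ⟨hqa, hqb⟩
      rw [hd] at hmem
      exact hmem
    · have hd := hdisj a b hab
      rw [disjoint_iff] at hd
      have hmem : (W a).ι qa ∈ W a ⊓ W b := ⟨qa.2, hqeq ▸ qb.2⟩
      rw [hd] at hmem
      exact hmem
  · rw [eq_top_iff]
    intro q _
    have hmem : q ∈ ⨆ a, W a := by rw [hcov]; trivial
    obtain ⟨a, ha⟩ := Opens.mem_iSup.1 hmem
    obtain ⟨k, z, hz⟩ := (sigmaOpenCover Ux).exists_eq (h a ⟨q, ha⟩)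
    exact Opens.mem_iSup.2 ⟨(a, k), ⟨q, ha⟩, ⟨z, hz⟩, rfl⟩
  · rintro ⟨a, k⟩
    have hrange : Set.range ((O (a, k)).ι ≫ h a) ⊆ Set.range (Sigma.ι Ux k) := by
      rintro _ ⟨q, rfl⟩
      exact q.2
    let l : ((O (a, k) : ((W a : (pullback f v).Opens) : Scheme.{u}).Opens) : Scheme.{u}) ⟶ Ux k :=
      IsOpenImmersion.lift (Sigma.ι Ux k) ((O (a, k)).ι ≫ h a) hrange
    have hl : l ≫ Sigma.ι Ux k = (O (a, k)).ι ≫ h a := IsOpenImmersion.lift_fac _ _ _
    refine ⟨i k, ((W a).ι.isoImage (O (a, k))).inv ≫ l ≫ r k, ?_⟩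
    calc (((W a).ι.isoImage (O (a, k))).inv ≫ l ≫ r k) ≫ g (i k)
        = ((W a).ι.isoImage (O (a, k))).inv ≫ l ≫ m k := by
          simp only [Category.assoc, hr]
      _ = ((W a).ι.isoImage (O (a, k))).inv ≫ (l ≫ Sigma.ι Ux k) ≫ Sigma.desc m := by
          simp only [Category.assoc, colimit.ι_desc, Cofan.mk_ι_app]
      _ = ((W a).ι.isoImage (O (a, k))).inv ≫ (O (a, k)).ι ≫ (W a).ι ≫ pullback.fst f v := by
          rw [hl, Category.assoc, hh a]
      _ = (W' (a, k)).ι ≫ pullback.fst f v := by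
          rw [← Category.assoc (O (a, k)).ι, ← Category.assoc, ← Category.assoc]
          congr 1
          rw [Category.assoc]
          exact Scheme.Hom.isoImage_inv_ι (W a).ι (O (a, k))

theorem lbf_of_baseChange {X Y Y₁ : Scheme.{u}} (f : X ⟶ Y) {ι : Type u} (U : ι → Scheme.{u})
    (g : ∀ i, U i ⟶ X) (j : Y₁ ⟶ Y) [Etale j] (U₁ : ι → Scheme.{u})
    (g₁ : ∀ i, U₁ i ⟶ pullback f j) (k : ∀ i, U₁ i ⟶ U i)
    (hk : ∀ i, k i ≫ g i = g₁ i ≫ pullback.fst f j) (y₁ : Y₁)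
    (H : LBF (pullback.snd f j) U₁ g₁ y₁) : LBF f U g (j y₁) := by
  obtain ⟨V, v, hv, pt, hpt, μ, W₁, hdisj, hcov, hh₁⟩ := H
  let e := pullbackLeftPullbackSndIso f j v
  refine ⟨V, v ≫ j, inferInstance, pt, ?_, μ, fun a => e.inv ⁻¹ᵁ W₁ a, ?_, ?_, ?_⟩
  · change j (v pt) = j y₁
    rw [hpt]
  · intro a b hab
    have := hdisj a b hab
    rw [disjoint_iff] at this ⊢
    ext q
    simp only [Opens.coe_inf, Set.mem_inter_iff, SetLike.mem_coe, Opens.coe_bot,
      Set.mem_empty_iff_false, iff_false, not_and]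
    intro ha hb
    have hmem : e.inv q ∈ W₁ a ⊓ W₁ b := ⟨ha, hb⟩
    rw [this] at hmem
    exact hmem
  · rw [eq_top_iff]
    intro q _
    have hmem : e.inv q ∈ ⨆ a, W₁ a := by rw [hcov]; trivial
    obtain ⟨a, ha⟩ := Opens.mem_iSup.1 hmem
    exact Opens.mem_iSup.2 ⟨a, ha⟩
  · intro a
    obtain ⟨i, h₁, hh₁a⟩ := hh₁ a
    refine ⟨i, (e.inv ∣_ W₁ a) ≫ h₁ ≫ k i, ?_⟩
    calc ((e.inv ∣_ W₁ a) ≫ h₁ ≫ k i) ≫ g i
        = (e.inv ∣_ W₁ a) ≫ (h₁ ≫ g₁ i) ≫ pullback.fst f j := by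
          simp only [Category.assoc, hk]
      _ = ((e.inv ∣_ W₁ a) ≫ (W₁ a).ι) ≫ pullback.fst _ _ ≫ pullback.fst f j := by
          rw [hh₁a]; simp only [Category.assoc]
      _ = (e.inv ⁻¹ᵁ W₁ a).ι ≫ pullback.fst f (v ≫ j) := by
          rw [morphismRestrict_ι, Category.assoc]
          congr 1
          exact pullbackLeftPullbackSndIso_inv_fst f j v


/-- `LBF` for an integral morphism to an affine scheme. -/
theorem lbf_of_isIntegralHom_of_isAffine {X₁ Y₁ : Scheme.{u}} [IsAffine Y₁] (f₁ : X₁ ⟶ Y₁)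
    [IsIntegralHom f₁] {ι : Type u} (U : ι → Scheme.{u}) (g : ∀ i, U i ⟶ X₁) [∀ i, Etale (g i)]
    (hcov : ∀ x : X₁, ∃ i, x ∈ Set.range (g i).base) (y : Y₁) : LBF f₁ U g y := by
  classical
  haveI : IsAffine X₁ := isAffine_of_isAffineHom f₁
  -- choose affine opens
  have hch : ∀ x : X₁, ∃ (i : ι) (Ux : (U i).Opens), IsAffineOpen Ux ∧ x ∈ (g i).base '' (Ux : Set (U i)) := by
    intro x
    obtain ⟨i, ux, hux⟩ := hcov x
    obtain ⟨_, ⟨Ux, hUx, rfl⟩, hmem, -⟩ := (U i).isBasis_affineOpens.exists_subset_of_mem_open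
      (Set.mem_univ ux) isOpen_univ
    exact ⟨i, Ux, hUx, ux, hmem, hux⟩
  choose ix Ux hUx hxUx using hch
  have hopen : ∀ x : X₁, IsOpen ((g (ix x)).base '' (Ux x : Set (U (ix x)))) := fun x =>
    (g (ix x)).isOpenMap _ (Ux x).isOpen
  obtain ⟨s, hs⟩ := isCompact_univ.elim_finite_subcover
    (fun x : X₁ => (g (ix x)).base '' (Ux x : Set (U (ix x)))) hopen
    (fun x _ => Set.mem_iUnion.2 ⟨x, hxUx x⟩)
  let σ : Type u := {x : X₁ // x ∈ s}
  let Uσ : σ → Scheme.{u} := fun k => (Ux k.1 : Scheme.{u})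
  let m : ∀ k : σ, Uσ k ⟶ X₁ := fun k => (Ux k.1).ι ≫ g (ix k.1)
  haveI : ∀ k, IsAffine (Uσ k) := fun k => hUx k.1
  haveI : Finite σ := Finite.of_fintype _
  let gb : (∐ Uσ) ⟶ X₁ := Sigma.desc m
  haveI : Etale gb := by
    rw [IsZariskiLocalAtSource.iff_of_openCover (P := @Etale) (sigmaOpenCover Uσ)]
    intro k
    have : (sigmaOpenCover Uσ).f k ≫ gb = m k := by
      change Sigma.ι Uσ k ≫ Sigma.desc m = m k
      exact Sigma.ι_desc _ _
    rw [this]
    exact inferInstanceAs (Etale ((Ux k.1).ι ≫ g (ix k.1)))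
  haveI : Surjective gb := by
    constructor
    intro x
    have hx : x ∈ ⋃ z ∈ s, (g (ix z)).base '' (Ux z : Set (U (ix z))) := hs (Set.mem_univ x)
    simp only [Set.mem_iUnion] at hx
    obtain ⟨z, hz, uz, huz, rfl⟩ := hx
    refine ⟨Sigma.ι Uσ ⟨z, hz⟩ ⟨uz, huz⟩, ?_⟩
    change (Sigma.ι Uσ ⟨z, hz⟩ ≫ gb) ⟨uz, huz⟩ = _
    simp only [gb, colimit.ι_desc, Cofan.mk_ι_app]
    rfl
  have H := lb_of_isIntegralHom_of_isAffine f₁ gb y
  exact lbf_of_lb_sigma f₁ U g Uσ m (fun k => ix k.1) (fun k => (Ux k.1).ι) (fun k => rfl) y H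

/-- An integral morphism of schemes satisfies condition (B): for every etale V ⟶ Y and every etale
covering of X ×_Y V there is an etale covering of V by schemes V_j such that each X ×_Y V_j is a
disjoint union of open subschemes each mapping into X ×_Y V through a member of the given covering. -/
theorem result {X Y : Scheme.{u}} (f : X ⟶ Y) [IsIntegralHom f] : BigSite.PropB f := by
  intro V v _ ι U g hg hcov
  haveI := hg
  have key : ∀ y₀ : V, ∃ (V' : Scheme.{u}) (v' : V' ⟶ V) (_ : Etale v'),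
      y₀ ∈ Set.range v'.base ∧
      ∃ (μ : Type u) (W : μ → (pullback f (v' ≫ v)).Opens),
        (∀ a b, a ≠ b → Disjoint (W a) (W b)) ∧ (⨆ a, W a) = ⊤ ∧
        ∀ a, ∃ (i : ι) (h : ((W a : (pullback f (v' ≫ v)).Opens) : Scheme.{u}) ⟶ U i),
          h ≫ g i = (W a).ι ≫ pullback.map f (v' ≫ v) f v (𝟙 X) v' (𝟙 Y) (by simp) (by simp) := by
    intro y₀
    let fV : pullback f v ⟶ V := pullback.snd f v
    obtain ⟨V₀, hV₀, hyV₀⟩ : ∃ V₀ : V.Opens, IsAffineOpen V₀ ∧ y₀ ∈ V₀ := by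
      obtain ⟨_, ⟨V₀, hV₀, rfl⟩, hy, -⟩ := V.isBasis_affineOpens.exists_subset_of_mem_open
        (Set.mem_univ y₀) isOpen_univ
      exact ⟨V₀, hV₀, hy⟩
    haveI : IsAffine (V₀ : Scheme.{u}) := hV₀
    let j : (V₀ : Scheme.{u}) ⟶ V := V₀.ι
    let f₁ : pullback fV j ⟶ (V₀ : Scheme.{u}) := pullback.snd fV j
    let a : pullback fV j ⟶ pullback f v := pullback.fst fV j
    let U₁ : ι → Scheme.{u} := fun i => pullback (g i) a
    let g₁ : ∀ i, U₁ i ⟶ pullback fV j := fun i => pullback.snd (g i) a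
    let k : ∀ i, U₁ i ⟶ U i := fun i => pullback.fst (g i) a
    have hk : ∀ i, k i ≫ g i = g₁ i ≫ pullback.fst fV j := fun i => pullback.condition
    haveI : ∀ i, Etale (g₁ i) := fun i => inferInstance
    have hcov₁ : ∀ x : ↥(pullback fV j), ∃ i, x ∈ Set.range (g₁ i).base := by
      intro x
      obtain ⟨i, ui, hui⟩ := hcov (a x)
      obtain ⟨q, -, hq2⟩ := Scheme.Pullback.exists_preimage_pullback (f := g i) (g := a) ui x hui
      exact ⟨i, q, hq2⟩
    have H1 : LBF f₁ U₁ g₁ ⟨y₀, hyV₀⟩ := lbf_of_isIntegralHom_of_isAffine f₁ U₁ g₁ hcov₁ _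
    have H2 : LBF fV U g (j ⟨y₀, hyV₀⟩) := lbf_of_baseChange fV U g j U₁ g₁ k hk _ H1
    obtain ⟨V', v', hv', pt', hpt', μ, W, hdisj, hcovW, hh⟩ := H2
    let e₁ := pullbackLeftPullbackSndIso f v v'
    have hmap : pullback.map f (v' ≫ v) f v (𝟙 X) v' (𝟙 Y) (by simp) (by simp) =
        e₁.inv ≫ pullback.fst fV v' := by
      apply pullback.hom_ext
      · rw [pullback.lift_fst, Category.comp_id, Category.assoc]
        exact (pullbackLeftPullbackSndIso_inv_fst f v v').symm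
      · rw [pullback.lift_snd, Category.assoc]
        exact (pullbackLeftPullbackSndIso_inv_fst_snd f v v').symm
    refine ⟨V', v', hv', ⟨pt', hpt'⟩, μ, fun b => e₁.inv ⁻¹ᵁ W b, ?_, ?_, ?_⟩
    · intro b c hbc
      have := hdisj b c hbc
      rw [disjoint_iff] at this ⊢
      ext q
      simp only [Opens.coe_inf, Set.mem_inter_iff, SetLike.mem_coe, Opens.coe_bot,
        Set.mem_empty_iff_false, iff_false, not_and]
      intro hb hc
      have hmem : e₁.inv q ∈ W b ⊓ W c := ⟨hb, hc⟩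
      rw [this] at hmem
      exact hmem
    · rw [eq_top_iff]
      intro q _
      have hmem : e₁.inv q ∈ ⨆ b, W b := by rw [hcovW]; trivial
      obtain ⟨b, hb⟩ := Opens.mem_iSup.1 hmem
      exact Opens.mem_iSup.2 ⟨b, hb⟩
    · intro b
      obtain ⟨i, h, hhb⟩ := hh b
      refine ⟨i, (e₁.inv ∣_ W b) ≫ h, ?_⟩
      rw [Category.assoc, hhb, ← Category.assoc, morphismRestrict_ι, Category.assoc, hmap]
  choose V' v' hv' hrange μ W hdisj hcovW hh using key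
  exact ⟨V, V', v', hv', fun y => ⟨y, hrange y⟩, fun j => ⟨μ j, W j, hdisj j, hcovW j, hh j⟩⟩

end Groth.Agent.S6630
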