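import Groth.Statements.S6634
import Mathlib
import Groth.Agent.S6630
import Groth.Agent.S6629
-- import your own Groth.Agent.* helpers here

set_option autoImplicit false
set_option backward.isDefEq.respectTransparency.types false
open CategoryTheory CategoryTheory.Limits AlgebraicGeometry Opposite
universe u
open EtCore

namespace Groth.Agent.S6634


/-- For an integral morphism of schemes f : X ⟶ Y the direct image along f of abelian sheaves on the
small etale sites sends epimorphisms to epimorphisms. (The published statement also covers sheaves
of sets; this row treats abelian sheaves only.) -/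
theorem result {X Y : Scheme.{u}} (f : X ⟶ Y) [IsIntegralHom f] :
    (EtCoh.push f).PreservesEpimorphisms := by
  constructor
  intro F G φ hφ
  have hB := Groth.Agent.S6630.result f
  haveI := Groth.Agent.S6629.result f hB
  rw [← Sheaf.isLocallySurjective_iff_epi'] at hφ ⊢
  -- pass to sets
  haveI : Sheaf.IsLocallySurjective
      ((sheafCompose X.smallEtaleTopology (forget AddCommGrpCat.{u+1})).map φ) := inferInstance
  haveI h1 : Epi ((sheafCompose X.smallEtaleTopology (forget AddCommGrpCat.{u+1})).map φ) :=
    inferInstance
  have h2 : Epi ((EtDesc.pushSh f).map
      ((sheafCompose X.smallEtaleTopology (forget AddCommGrpCat.{u+1})).map φ)) := inferInstance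
  rw [← Sheaf.isLocallySurjective_iff_epi] at h2
  constructor
  intro V s
  exact h2.imageSieve_mem (U := V) s

end Groth.Agent.S6634
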