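import Groth.Statements.S0630
import Mathlib
import Groth.Agent.S6634
-- import your own Groth.Agent.* helpers here

set_option autoImplicit false
set_option backward.isDefEq.respectTransparency.types false
open CategoryTheory CategoryTheory.Limits AlgebraicGeometry Opposite
universe u
open EtCore

namespace Groth.Agent.S0630


/-- the direct image along an integral morphism is exact. -/
theorem preservesFiniteColimits_push {X Y : Scheme.{u}} (f : X ⟶ Y) [IsIntegralHom f] :
    PreservesFiniteColimits (EtCoh.push f) := by
  haveI := Groth.Agent.S6634.result f
  haveI : PreservesFiniteLimits (EtCoh.push f) := by
    haveI := (EtCoh.pullPushAdj f).rightAdjoint_preservesLimits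
    infer_instance
  rw [Functor.preservesFiniteColimits_iff_forall_exact_map_and_epi]
  intro S hS
  refine ⟨?_, ?_⟩
  · exact ((Functor.preservesFiniteLimits_iff_forall_exact_map_and_mono _).mp inferInstance S hS).1
  · haveI := hS.epi_g
    infer_instance

/-- For a morphism f that is integral and universally injective, the direct image functor f_* on abelian
sheaves on the small etale sites preserves finite colimits (so it is exact, being a right adjoint). -/
theorem result {X Y : Scheme.{u}} (f : X ⟶ Y) [IsIntegralHom f]
    [UniversallyInjective f] :
    PreservesFiniteColimits (EtCoh.push f) := by
  exact preservesFiniteColimits_push f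

end Groth.Agent.S0630
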