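import Groth.Statements.S0071
import Mathlib
import Groth.Agent.S0630
-- import your own Groth.Agent.* helpers here

set_option autoImplicit false
set_option backward.isDefEq.respectTransparency.types false
open CategoryTheory CategoryTheory.Limits AlgebraicGeometry Opposite
universe u
open EtBase

namespace Groth.Agent.S0071


/-- the higher right derived functors of an exact functor vanish. -/
theorem isZero_rightDerived_succ_of_preservesHomology {C D : Type*} [Category C] [Category D]
    [Abelian C] [Abelian D] [HasInjectiveResolutions C] (F : C ⥤ D) [F.Additive]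
    [F.PreservesHomology] (X : C) (n : ℕ) : IsZero ((F.rightDerived (n + 1)).obj X) := by
  let I := injectiveResolution X
  refine IsZero.of_iso ?_ (I.isoRightDerivedObj F (n + 1))
  have h : (I.cocomplex).ExactAt (n + 1) := I.cocomplex_exactAt_succ n
  have h' : ((F.mapHomologicalComplex _).obj I.cocomplex).ExactAt (n + 1) :=
    ShortComplex.Exact.map h F
  exact (HomologicalComplex.exactAt_iff_isZero_homology _ _).1 h'

/-- Part (2) — higher direct images of an abelian étale sheaf along a finite morphism vanish in positive
degrees. -/
theorem result {X Y : Scheme.{u}} (f : X ⟶ Y) [IsFinite f] [EtCoh.BCCont f]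
    (F : EtCoh.Ab X) (q : ℕ) (hq : 1 ≤ q) : IsZero ((EtCoh.Rpush f q).obj F) := by
  haveI := Groth.Agent.S0630.preservesFiniteColimits_push f
  haveI : PreservesFiniteLimits (EtCoh.push f) := by
    haveI := (EtCoh.pullPushAdj f).rightAdjoint_preservesLimits
    infer_instance
  haveI : (EtCoh.push f).PreservesHomology := inferInstance
  obtain ⟨n, rfl⟩ : ∃ n, q = n + 1 := ⟨q - 1, by omega⟩
  exact isZero_rightDerived_succ_of_preservesHomology (EtCoh.push f) F n

end Groth.Agent.S0071
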