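import Groth.Statements.S0074
import Groth.Agent.Lib.Helper9Hens7

set_option autoImplicit false
open CategoryTheory CategoryTheory.Limits AlgebraicGeometry Opposite
universe u
open EtBase

namespace Groth.Agent.S0074

/-- On the spectrum of a strictly henselian local ring, global sections of an abelian étale sheaf map
bijectively onto the stalk at the geometric closed point. -/
theorem result (R : Type u) [CommRing R] [HenselianLocalRing R]
    [IsSepClosed (IsLocalRing.ResidueField R)] (F : EtCoh.Ab (Spec (CommRingCat.of R))) :
    Function.Bijective ((Scheme.pointSmallEtale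
      (Spec.map (CommRingCat.ofHom (IsLocalRing.residue R)))).toPresheafFiber
        (EtCoh.top (Spec (CommRingCat.of R)))
        (Over.homMk (Spec.map (CommRingCat.ofHom (IsLocalRing.residue R))) (Category.comp_id _)) F.obj) := by
  haveI := preservesFilteredColimitsOfSize_shrink.{u, u + 1, u, u + 1}
    (forget AddCommGrpCat.{u + 1})
  constructor
  · intro a b hab
    obtain ⟨V, f, v, hv, hfab⟩ :=
      (GrothendieckTopology.Point.toPresheafFiber_eq_iff' _ _ _ a b).1 hab
    obtain ⟨σ, hσ⟩ := Groth.Agent.Lib.Helper9.Hens.exists_section_site R V v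
    have hid : σ ≫ f = 𝟙 _ := Groth.Agent.Lib.Helper9.Hens.section_comp R σ f
    have key : ∀ c : F.obj.obj (op (EtCoh.top (Spec (CommRingCat.of R)))),
        F.obj.map σ.op (F.obj.map f.op c) = c := by
      intro c
      have h2 : F.obj.map σ.op (F.obj.map f.op c) = F.obj.map (σ ≫ f).op c := by
        rw [op_comp, F.obj.map_comp]
        rfl
      rw [h2, hid]
      simp
    rw [← key a, ← key b, hfab]
  · intro p
    obtain ⟨U, l, z, rfl⟩ := GrothendieckTopology.Point.toPresheafFiber_jointly_surjective _ p
    obtain ⟨σ, hσ⟩ := Groth.Agent.Lib.Helper9.Hens.exists_section_site R U l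
    refine ⟨F.obj.map σ.op z, ?_⟩
    rw [← hσ]
    exact GrothendieckTopology.Point.toPresheafFiber_w_apply _ σ
      (Groth.Agent.Lib.Helper9.Hens.basePt R) F.obj z

end Groth.Agent.S0074
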