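import Groth.Statements.S0076
import Groth.Agent.Lib.Helper20EtHom

set_option autoImplicit false
open CategoryTheory CategoryTheory.Limits AlgebraicGeometry Opposite
universe u
open EtBase

namespace Groth.Agent.S0076

/-- For X étale over S and any S-scheme Y, base change along an integral, universally injective,
surjective S' → S gives a bijection between S-morphisms Y → X and S'-morphisms of the base changes. -/
theorem result {S S' : Scheme.{u}} (g : S' ⟶ S) [IsIntegralHom g] [UniversallyInjective g]
    [Surjective g] (X Y : Over S) [AlgebraicGeometry.Etale X.hom] :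
    Function.Bijective (fun φ : Y ⟶ X => (Over.pullback g).map φ) := by
  have hs : Surjective (pullback.fst Y.hom g) :=
    MorphismProperty.pullback_fst (P := @Surjective) _ _ ‹_›
  have hi : UniversallyInjective (pullback.fst Y.hom g) :=
    MorphismProperty.pullback_fst (P := @UniversallyInjective) _ _ ‹_›
  have hint : IsIntegralHom (pullback.fst Y.hom g) :=
    MorphismProperty.pullback_fst (P := @IsIntegralHom) _ _ ‹_›
  constructor
  · intro φ₁ φ₂ h12
    have h12' : ((Over.pullback g).map φ₁).left = ((Over.pullback g).map φ₂).left :=
      congrArg (fun t => t.left) h12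
    apply Groth.Agent.Lib.Helper20.EtHom.over_hom_ext_of_surjective φ₁ φ₂ (pullback.fst Y.hom g)
    have := congrArg (fun t => t ≫ pullback.fst X.hom g) h12'
    simp only [Over.pullback_map_left] at this
    exact (pullback.lift_fst _ _ _).symm.trans (this.trans (pullback.lift_fst _ _ _))
  · intro Ψ
    have hΨ : Ψ.left ≫ pullback.snd X.hom g = pullback.snd Y.hom g := by
      simpa using Over.w Ψ
    obtain ⟨φ, hφ₁, hφ₂⟩ := Groth.Agent.Lib.Helper20.EtHom.exists_lift (pullback.fst Y.hom g)
      X.hom Y.hom (Ψ.left ≫ pullback.fst X.hom g) (by
        rw [Category.assoc, pullback.condition, ← Category.assoc, hΨ, pullback.condition])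
    refine ⟨Over.homMk φ hφ₁, ?_⟩
    ext1
    apply pullback.hom_ext
    · simp only [Over.pullback_map_left, Over.homMk_left]
      exact (pullback.lift_fst _ _ _).trans hφ₂
    · simp only [Over.pullback_map_left, Over.homMk_left]
      exact (pullback.lift_snd _ _ _).trans hΨ.symm

end Groth.Agent.S0076
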