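import Groth.Statements.S0089
import Groth.Agent.Lib.Helper3NormalSepClosed3
import Mathlib

set_option autoImplicit false
open CategoryTheory CategoryTheory.Limits AlgebraicGeometry Opposite
universe u
open EtBase

namespace Groth.Agent.S0089

open Groth.Agent.Lib.Helper3.NSC

set_option maxHeartbeats 1600000

-- the good opens
def Good {U X : Scheme.{u}} (g : U ⟶ X) : Type u :=
  {G : U.Opens // (G : Set U).Nonempty ∧ IsOpenImmersion (G.ι ≫ g)}

theorem overlap_trans {U X : Scheme.{u}} [IsIntegral X] (g : U ⟶ X) [AlgebraicGeometry.Etale g]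
    (G G' G'' : U.Opens) [IsOpenImmersion (G'.ι ≫ g)]
    (h1 : ((G : Set U) ∩ (G' : Set U)).Nonempty) (h2 : ((G' : Set U) ∩ (G'' : Set U)).Nonempty) :
    ((G : Set U) ∩ (G'' : Set U)).Nonempty := by
  have ho1 : IsOpen (g '' ((G : Set U) ∩ (G' : Set U))) :=
    g.isOpenMap _ (G.isOpen.inter G'.isOpen)
  have ho2 : IsOpen (g '' ((G' : Set U) ∩ (G'' : Set U))) :=
    g.isOpenMap _ (G'.isOpen.inter G''.isOpen)
  obtain ⟨w, ⟨p, ⟨hpG, hpG'⟩, rfl⟩, ⟨q, ⟨hqG', hqG''⟩, hq⟩⟩ :=
    nonempty_preirreducible_inter ho1 ho2 (h1.image _) (h2.image _)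
  have : q = p := injOn_of_isOpenImmersion g G' hqG' hpG' hq
  subst this
  exact ⟨q, hpG, hqG''⟩

/-- Part (1) — over an integral normal scheme whose function field is separably closed, any separated
étale scheme is a disjoint union of open subschemes of the base. -/
theorem result {U X : Scheme.{u}} [IsIntegral X] (hN : ∀ x : X, IsIntegrallyClosed (X.presheaf.stalk x))
    [IsSepClosed X.functionField] (g : U ⟶ X) [AlgebraicGeometry.Etale g] [IsSeparated g] :
    ∃ (ι : Type u) (V : ι → X.Opens) (e : (∐ fun i => (V i : Scheme.{u})) ≅ U),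
      ∀ i, Sigma.ι (fun i => (V i : Scheme.{u})) i ≫ e.hom ≫ g = (V i).ι := by
  classical
  let st : Setoid (Good g) :=
    { r := fun G G' => ((G.1 : Set U) ∩ (G'.1 : Set U)).Nonempty
      iseqv :=
        { refl := fun G => by
            obtain ⟨p, hp⟩ := G.2.1
            exact ⟨p, hp, hp⟩
          symm := fun {G G'} h => by rwa [Set.inter_comm]
          trans := fun {G G' G''} h1 h2 => by
            haveI := G'.2.2
            exact overlap_trans g G.1 G'.1 G''.1 h1 h2 } }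
  let Uc : Quotient st → U.Opens := fun c => ⨆ (G : Good g) (_ : Quotient.mk st G = c), G.1
  have hmemUc : ∀ c (x : U), x ∈ Uc c ↔ ∃ G : Good g, Quotient.mk st G = c ∧ x ∈ G.1 := by
    intro c x
    simp only [Uc, TopologicalSpace.Opens.mem_iSup, exists_prop]
  have himm : ∀ c, IsOpenImmersion ((Uc c).ι ≫ g) := by
    intro c
    apply isOpenImmersion_of_local_of_injective
    · intro y
      obtain ⟨G, hGc, hyG⟩ := (hmemUc c y.1).mp y.2
      haveI := G.2.2
      refine ⟨(Uc c).ι ⁻¹ᵁ G.1, hyG, ?_⟩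
      have hr : Set.range (((Uc c).ι ⁻¹ᵁ G.1).ι ≫ (Uc c).ι) ⊆ Set.range G.1.ι := by
        rw [Scheme.Opens.range_ι]
        rintro _ ⟨v, rfl⟩
        rw [Scheme.Hom.comp_apply]
        exact v.2
      have hfac := IsOpenImmersion.lift_fac G.1.ι (((Uc c).ι ⁻¹ᵁ G.1).ι ≫ (Uc c).ι) hr
      haveI : IsOpenImmersion (IsOpenImmersion.lift G.1.ι (((Uc c).ι ⁻¹ᵁ G.1).ι ≫ (Uc c).ι) hr ≫
          G.1.ι) := by
        rw [hfac]; infer_instance
      haveI : IsOpenImmersion (IsOpenImmersion.lift G.1.ι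
          (((Uc c).ι ⁻¹ᵁ G.1).ι ≫ (Uc c).ι) hr) := IsOpenImmersion.of_comp _ G.1.ι
      have : ((Uc c).ι ⁻¹ᵁ G.1).ι ≫ (Uc c).ι ≫ g =
          IsOpenImmersion.lift G.1.ι (((Uc c).ι ⁻¹ᵁ G.1).ι ≫ (Uc c).ι) hr ≫ (G.1.ι ≫ g) := by
        rw [← Category.assoc, ← Category.assoc, hfac]
      rw [this]
      infer_instance
    · intro y y' hyy'
      obtain ⟨G, hGc, hyG⟩ := (hmemUc c y.1).mp y.2
      obtain ⟨G', hGc', hyG'⟩ := (hmemUc c y'.1).mp y'.2
      haveI := G.2.2
      haveI := G'.2.2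
      have hov : ((G.1 : Set U) ∩ (G'.1 : Set U)).Nonempty :=
        Quotient.exact (hGc.trans hGc'.symm)
      have hxy : g y.1 = g y'.1 := by
        have := hyy'
        rw [Scheme.Hom.comp_apply, Scheme.Hom.comp_apply] at this
        exact this
      exact Subtype.ext (eq_of_overlap g G.1 G'.1 hov hyG hyG' hxy)
  haveI := himm
  obtain ⟨W, e, he⟩ := exists_sigma_iso_of_cover g (fun c => ((Uc c : U.Opens) : Scheme.{u}))
    (fun c => (Uc c).ι)
    (fun x => by
      obtain ⟨G, hxG, hG⟩ := exists_good_open hN g x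
      let G' : Good g := ⟨G, ⟨x, hxG⟩, hG⟩
      refine ⟨Quotient.mk st G', ?_⟩
      rw [Scheme.Opens.range_ι]
      exact (hmemUc _ x).mpr ⟨G', rfl, hxG⟩)
    (fun c c' hcc' => by
      rw [Scheme.Opens.range_ι, Scheme.Opens.range_ι, Set.disjoint_iff_inter_eq_empty,
        Set.eq_empty_iff_forall_notMem]
      rintro x ⟨hx1, hx2⟩
      obtain ⟨G, hGc, hxG⟩ := (hmemUc c x).mp hx1
      obtain ⟨G', hGc', hxG'⟩ := (hmemUc c' x).mp hx2
      apply hcc'
      rw [← hGc, ← hGc']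
      exact Quotient.sound ⟨x, hxG, hxG'⟩)
  exact ⟨Quotient st, W, e, he⟩

end Groth.Agent.S0089
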