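import Groth.Statements.S0118
import Groth.Agent.S0117
import Groth.Agent.Lib.Helper12ThickEtE

set_option autoImplicit false
open CategoryTheory CategoryTheory.Limits AlgebraicGeometry Opposite
universe u
open EtBase

namespace Groth.Agent.S0118

/-- Base change to a closed subscheme with the same underlying space is an equivalence between the
categories of étale schemes over the two. -/
theorem result {S S₀ : Scheme.{u}} (i : S₀ ⟶ S) [IsClosedImmersion i] [Surjective i] :
    (EtCoh.bc i).IsEquivalence := by
  have hfaith : (EtCoh.bc i).Faithful := by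
    constructor
    intro A B f g hfg
    have h1 : (Over.pullback i).map ((Scheme.Etale.forget S).map f) =
        (Over.pullback i).map ((Scheme.Etale.forget S).map g) :=
      congrArg (fun φ => (Scheme.Etale.forget S₀).map φ) hfg
    haveI : Etale ((Scheme.Etale.forget S).obj B).hom := B.prop
    have h2 := (Groth.Agent.S0117.result i ((Scheme.Etale.forget S).obj B)
      ((Scheme.Etale.forget S).obj A)).1 h1
    exact (Scheme.Etale.forget S).map_injective h2
  have hfull : (EtCoh.bc i).Full := by
    constructor
    intro A B φ
    haveI : Etale ((Scheme.Etale.forget S).obj B).hom := B.prop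
    obtain ⟨ψ, hψ⟩ := (Groth.Agent.S0117.result i ((Scheme.Etale.forget S).obj B)
      ((Scheme.Etale.forget S).obj A)).2 ((Scheme.Etale.forget S₀).map φ)
    obtain ⟨ψ', rfl⟩ := (Scheme.Etale.forget S).map_surjective ψ
    refine ⟨ψ', ?_⟩
    apply (Scheme.Etale.forget S₀).map_injective
    exact hψ
  have hess : (EtCoh.bc i).EssSurj := by
    constructor
    intro X₀
    haveI : Etale X₀.hom := X₀.prop
    obtain ⟨X, c, a, hc, hpb⟩ := Groth.Agent.Lib.Helper12.ThickEt.exists_lift i X₀.hom
    refine ⟨Scheme.Etale.mk c, ⟨?_⟩⟩
    exact MorphismProperty.Over.isoMk hpb.isoPullback.symm hpb.isoPullback_inv_snd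
  exact { }

end Groth.Agent.S0118
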