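import Groth.Statements.S0119
import Groth.Agent.Lib.LeadEtaleReduced
import Mathlib

set_option autoImplicit false
open CategoryTheory CategoryTheory.Limits AlgebraicGeometry Opposite
universe u
open EtBase

namespace Groth.Agent.S0119

/-- Let f : X → Y be an étale morphism of schemes with Y locally Noetherian, and let x ∈ X. Then the
local ring O_{X,x} is reduced if and only if the local ring O_{Y,f(x)} is reduced. -/
theorem result {X Y : Scheme.{u}} (f : X ⟶ Y) [AlgebraicGeometry.Etale f]
    [IsLocallyNoetherian Y] (x : X) :
    _root_.IsReduced (X.presheaf.stalk x) ↔ _root_.IsReduced (Y.presheaf.stalk (f.base x)) := by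

  have hflat : (f.stalkMap x).hom.Flat := AlgebraicGeometry.Flat.stalkMap f x
  have hunr : (f.stalkMap x).hom.FormallyUnramified :=
    AlgebraicGeometry.FormallyUnramified.stalkMap f x
  have hess : (f.stalkMap x).hom.EssFiniteType := LocallyOfFiniteType.stalkMap f x
  algebraize [(f.stalkMap x).hom]
  have hloc : IsLocalHom (algebraMap (Y.presheaf.stalk (f x)) (X.presheaf.stalk x)) :=
    inferInstanceAs <| IsLocalHom (f.stalkMap x).hom
  constructor
  · intro h
    haveI : Module.FaithfullyFlat (Y.presheaf.stalk (f x)) (X.presheaf.stalk x) :=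
      Module.FaithfullyFlat.of_flat_of_isLocalHom
    exact isReduced_of_injective (algebraMap (Y.presheaf.stalk (f x)) (X.presheaf.stalk x))
      (FaithfulSMul.algebraMap_injective _ _)
  · intro h
    exact Groth.Agent.Lib.LeadEtaleReduced.isReduced_of_flat_of_formallyUnramified
      (Y.presheaf.stalk (f x)) (X.presheaf.stalk x)

end Groth.Agent.S0119
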