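import Groth.Statements.S0134
import Mathlib
import Groth.Agent.Lib.Helper23ConstrColim3
-- import your own Groth.Agent.* helpers here

set_option autoImplicit false
set_option backward.isDefEq.respectTransparency.types false
universe u
open CategoryTheory CategoryTheory.Limits AlgebraicGeometry Opposite
open EtPBC

namespace Groth.Agent.S0134


open Groth.Agent.Lib.Helper23ConstrColim

/-- (2): on a quasi-compact quasi-separated scheme X every torsion abelian sheaf on X_et is the colimit
of a filtered diagram of constructible abelian sheaves. -/
theorem result (X : Scheme.{u}) [CompactSpace X] [QuasiSeparatedSpace X]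
    (F : EtCoh.Ab X) (hF : EtCoh.IsTorsion F) :
    ∃ (J : Type (u + 1)) (_ : SmallCategory J) (_ : IsFiltered J) (D : J ⥤ EtCoh.Ab X)
      (c : Cocone D) (_ : IsColimit c), (∀ j, EtPBC.IsConstructible (D.obj j)) ∧ Nonempty (c.pt ≅ F) := by
  haveI := epi_desc F hF
  haveI := mono_desc F
  haveI : IsIso ((colimit.isColimit (DF F)).desc (coconeF F)) := isIso_of_mono_of_epi (θ F)
  exact ⟨J F, inferInstance, inferInstance, DF F, coconeF F,
    IsColimit.ofPointIso (colimit.isColimit (DF F)), fun j => isConstructible_J F j, ⟨Iso.refl _⟩⟩

end Groth.Agent.S0134
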