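import Groth.Statements.S0135
import Mathlib
import Groth.Agent.Lib.Helper23ConstrCpt
import Groth.Agent.Lib.Helper23FinEtPush
import Groth.Agent.S0127
import Groth.Agent.S0131
import Groth.Agent.S0133
import Groth.Agent.S0134
-- import your own Groth.Agent.* helpers here

set_option autoImplicit false
set_option backward.isDefEq.respectTransparency.types false
universe u
open CategoryTheory CategoryTheory.Limits AlgebraicGeometry Opposite
open EtPBC

namespace Groth.Agent.S0135


open Groth.Agent.Lib.Helper23EtSupp Groth.Agent.Lib.Helper23FinEtPush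
  Groth.Agent.Lib.Helper23ConstrGen Groth.Agent.Lib.Helper23ConstrTors
  Groth.Agent.Lib.Helper23CptObj Groth.Agent.Lib.Helper23ConstrCpt
  Groth.Agent.Lib.Helper23FlcSerre

section Cons

variable {X Y : Scheme.{u}} (f : X ⟶ Y) [Surjective f]

/-- pullback along a surjective morphism detects zero objects -/
lemma isZero_of_isZero_pull (H : EtCoh.Ab Y) (h : IsZero ((EtCoh.pull f).obj H)) : IsZero H := by
  apply isZero_of_supp_eq_empty
  apply Set.eq_empty_of_forall_notMem
  intro y hy
  obtain ⟨x, rfl⟩ := f.surjective y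
  have h1 : x ∈ EtPBC.supp ((EtCoh.pull f).obj H) := by
    rw [supp_pull]
    exact hy
  rw [supp_eq_empty_of_isZero _ h] at h1
  exact h1

/-- pullback along a surjective morphism detects epimorphisms -/
lemma epi_of_epi_pull {A B : EtCoh.Ab Y} (φ : A ⟶ B) (h : Epi ((EtCoh.pull f).map φ)) :
    Epi φ := by
  apply Preadditive.epi_of_isZero_cokernel
  apply isZero_of_isZero_pull f
  have e1 : (EtCoh.pull f).obj (cokernel φ) ≅ cokernel ((EtCoh.pull f).map φ) :=
    PreservesCokernel.iso _ _
  exact (isZero_cokernel_of_epi _).of_iso e1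

/-- pullback along a surjective morphism is faithful -/
lemma eq_zero_of_pull_eq_zero {A B : EtCoh.Ab Y} (φ : A ⟶ B) (h : (EtCoh.pull f).map φ = 0) :
    φ = 0 := by
  have hI : IsZero (Abelian.image φ) := by
    apply isZero_of_isZero_pull f
    -- pull (image φ) : the epi `pull (factorThruImage)` is zero
    have h1 : (EtCoh.pull f).map (Abelian.factorThruImage φ) ≫
        (EtCoh.pull f).map (Abelian.image.ι φ) = 0 := by
      rw [← Functor.map_comp, Abelian.image.fac, h]
    haveI : Mono ((EtCoh.pull f).map (Abelian.image.ι φ)) := inferInstance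
    have h2 : (EtCoh.pull f).map (Abelian.factorThruImage φ) = 0 := by
      rw [← cancel_mono ((EtCoh.pull f).map (Abelian.image.ι φ)), h1, zero_comp]
    haveI : Epi ((EtCoh.pull f).map (Abelian.factorThruImage φ)) := inferInstance
    rw [IsZero.iff_id_eq_zero]
    rw [← cancel_epi ((EtCoh.pull f).map (Abelian.factorThruImage φ)), h2, zero_comp, zero_comp]
  rw [← Abelian.image.fac φ]
  rw [hI.eq_of_tgt (Abelian.factorThruImage φ) 0, zero_comp]

lemma killedBy_of_killedBy_pull (n : ℕ) (F : EtCoh.Ab Y)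
    (h : EtCoh.KilledBy n ((EtCoh.pull f).obj F)) : EtCoh.KilledBy n F := by
  rw [killedBy_iff] at h ⊢
  apply eq_zero_of_pull_eq_zero f
  rw [Functor.map_nsmul, CategoryTheory.Functor.map_id]
  exact h

lemma isTorsion_of_killedBy {Y : Scheme.{u}} (n : ℕ) (hn : 0 < n) (F : EtCoh.Ab Y)
    (h : EtCoh.KilledBy n F) : EtCoh.IsTorsion F := by
  intro U s x
  refine ⟨U, 𝟙 U, ⟨x, rfl⟩, ?_⟩
  rw [isOfFinAddOrder_iff_nsmul_eq_zero]
  exact ⟨n, hn, h U _⟩

variable [CompactSpace X] [QuasiSeparatedSpace X] [CompactSpace Y] [QuasiSeparatedSpace Y]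

/-- if `f⁻¹ F` is constructible then `F` is a quotient of a constructible sheaf -/
lemma exists_epi_of_pull (F : EtCoh.Ab Y)
    (h : EtPBC.IsConstructible ((EtCoh.pull f).obj F)) :
    ∃ (G : EtCoh.Ab Y) (π : G ⟶ F), EtPBC.IsConstructible G ∧ Epi π := by
  obtain ⟨N, hN, hFN⟩ := exists_killedBy_of_isConstructible _ h
  have hFN' := killedBy_of_killedBy_pull f N F hFN
  have htors : EtCoh.IsTorsion F := isTorsion_of_killedBy N hN F hFN'
  obtain ⟨J, _, _, D, c, hc, hD, ⟨e⟩⟩ := Groth.Agent.S0134.result Y F htors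
  haveI : PreservesColimitsOfSize.{u + 1, u + 1} (EtCoh.pull f) :=
    (EtCoh.pullPushAdj f).leftAdjoint_preservesColimits
  have hc' : IsColimit ((EtCoh.pull f).mapCocone c) := isColimitOfPreserves _ hc
  have hcpt := cptAt_of_isConstructible hc' _ h
  obtain ⟨j, g, hg⟩ := hcpt.surj ((EtCoh.pull f).map e.inv)
  refine ⟨D.obj j, c.ι.app j ≫ e.hom, hD j, ?_⟩
  apply epi_of_epi_pull f
  have hg' : g ≫ (EtCoh.pull f).map (c.ι.app j) = (EtCoh.pull f).map e.inv := hg
  have h1 : g ≫ (EtCoh.pull f).map (c.ι.app j ≫ e.hom) = 𝟙 _ := by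
    rw [Functor.map_comp, ← Category.assoc, hg', ← Functor.map_comp, e.inv_hom_id,
      CategoryTheory.Functor.map_id]
  haveI : Epi (g ≫ (EtCoh.pull f).map (c.ι.app j ≫ e.hom)) := by
    rw [h1]; infer_instance
  exact epi_of_epi g _

end Cons

lemma killedBy_mul_right {Y : Scheme.{u}} (n m : ℕ) (F : EtCoh.Ab Y) (h : EtCoh.KilledBy n F) :
    EtCoh.KilledBy (n * m) F := by
  intro U s
  rw [mul_nsmul, h U s, nsmul_zero]

lemma killedBy_mul_left {Y : Scheme.{u}} (n m : ℕ) (F : EtCoh.Ab Y) (h : EtCoh.KilledBy m F) :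
    EtCoh.KilledBy (n * m) F := by
  intro U s
  rw [mul_comm, mul_nsmul, h U s, nsmul_zero]

/-- an epi is the cokernel of (an epi onto) its kernel -/
noncomputable def cokerIso {C : Type*} [Category C] [Abelian C] {A B K' : C} (π : A ⟶ B) [Epi π]
    (π' : K' ⟶ kernel π) [Epi π'] : cokernel (π' ≫ kernel.ι π) ≅ B :=
  cokernelEpiComp π' (kernel.ι π) ≪≫
    (cokernelIsCokernel (kernel.ι π)).coconePointUniqueUpToIso
      (Abelian.epiIsCokernelOfKernel (KernelFork.ofι (kernel.ι π) (kernel.condition π)) (kernelIsKernel π))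

/-- (2): for f : X -> Y a surjective morphism of quasi-compact quasi-separated schemes and F an abelian
sheaf on Y_et, F is constructible iff f^* F is. -/
theorem result {X Y : Scheme.{u}} [CompactSpace X] [QuasiSeparatedSpace X]
    [CompactSpace Y] [QuasiSeparatedSpace Y] (f : X ⟶ Y) [Surjective f] [EtCoh.BCCont f]
    (F : EtCoh.Ab Y) :
    EtPBC.IsConstructible F ↔ EtPBC.IsConstructible ((EtCoh.pull f).obj F) := by
  constructor
  · exact Groth.Agent.S0127.result f F
  · intro h
    obtain ⟨G, π, hG, hπ⟩ := exists_epi_of_pull f F h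
    have hpG := Groth.Agent.S0127.result f G hG
    have hK : EtPBC.IsConstructible ((EtCoh.pull f).obj (kernel π)) := by
      have e1 : (EtCoh.pull f).obj (kernel π) ≅ kernel ((EtCoh.pull f).map π) :=
        PreservesKernel.iso _ _
      obtain ⟨N1, hN1, h1⟩ := exists_killedBy_of_isConstructible _ hpG
      obtain ⟨N2, hN2, h2⟩ := exists_killedBy_of_isConstructible _ h
      have := (Groth.Agent.S0131.result ((EtCoh.pull f).map π) (N1 * N2) (Nat.mul_pos hN1 hN2)
        (killedBy_mul_right N1 N2 _ h1) (killedBy_mul_left N1 N2 _ h2) hpG h).1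
      exact Groth.Agent.S0133.isConstructible_of_iso e1.symm this
    obtain ⟨G', π', hG', hπ'⟩ := exists_epi_of_pull f (kernel π) hK
    obtain ⟨M1, hM1, k1⟩ := exists_killedBy_of_isConstructible _ hG'
    obtain ⟨M2, hM2, k2⟩ := exists_killedBy_of_isConstructible _ hG
    have := (Groth.Agent.S0131.result (π' ≫ kernel.ι π) (M1 * M2) (Nat.mul_pos hM1 hM2)
      (killedBy_mul_right M1 M2 _ k1) (killedBy_mul_left M1 M2 _ k2) hG' hG).2
    exact Groth.Agent.S0133.isConstructible_of_iso (cokerIso π π') this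

end Groth.Agent.S0135
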