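import Groth.Statements.S8546
import Mathlib
import Groth.Agent.Lib.Helper23ConstrCpt
import Groth.Agent.Lib.Helper23FinEtPush
import Groth.Agent.Lib.Helper6SpecGlueA
import Groth.Agent.S0127
import Groth.Agent.S0129
import Groth.Agent.S0131
import Groth.Agent.S0133
import Groth.Agent.S0134
import Groth.Agent.S0135
-- import your own Groth.Agent.* helpers here

set_option autoImplicit false
set_option backward.isDefEq.respectTransparency.types false
universe u
open CategoryTheory CategoryTheory.Limits AlgebraicGeometry Opposite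
open EtPBC

namespace Groth.Agent.S8546


open Groth.Agent.Lib.Helper23EtSupp Groth.Agent.Lib.Helper23FinEtPush
  Groth.Agent.Lib.Helper23ConstrGen Groth.Agent.Lib.Helper23ConstrTors
  Groth.Agent.Lib.Helper23CptObj Groth.Agent.Lib.Helper23ConstrCpt
  Groth.Agent.Lib.Helper23FlcSerre Groth.Agent.S0135

section Fam

variable {Y : Scheme.{u}} {ι : Type*} [Finite ι] (X : ι → Scheme.{u}) (f : ∀ i, X i ⟶ Y)
  (hsurj : ∀ y : Y, ∃ (i : ι) (x : X i), f i x = y)

include hsurj in
lemma isZero_of_isZero_pull_fam (H : EtCoh.Ab Y) (h : ∀ i, IsZero ((EtCoh.pull (f i)).obj H)) :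
    IsZero H := by
  apply isZero_of_supp_eq_empty
  apply Set.eq_empty_of_forall_notMem
  intro y hy
  obtain ⟨i, x, rfl⟩ := hsurj y
  have h1 : x ∈ EtPBC.supp ((EtCoh.pull (f i)).obj H) := by
    rw [supp_pull]
    exact hy
  rw [supp_eq_empty_of_isZero _ (h i)] at h1
  exact h1

include hsurj in
lemma epi_of_epi_pull_fam {A B : EtCoh.Ab Y} (φ : A ⟶ B)
    (h : ∀ i, Epi ((EtCoh.pull (f i)).map φ)) : Epi φ := by
  apply Preadditive.epi_of_isZero_cokernel
  apply isZero_of_isZero_pull_fam X f hsurj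
  intro i
  haveI := h i
  have e1 : (EtCoh.pull (f i)).obj (cokernel φ) ≅ cokernel ((EtCoh.pull (f i)).map φ) :=
    PreservesCokernel.iso _ _
  exact (isZero_cokernel_of_epi _).of_iso e1

include hsurj in
lemma eq_zero_of_pull_eq_zero_fam {A B : EtCoh.Ab Y} (φ : A ⟶ B)
    (h : ∀ i, (EtCoh.pull (f i)).map φ = 0) : φ = 0 := by
  have hI : IsZero (Abelian.image φ) := by
    apply isZero_of_isZero_pull_fam X f hsurj
    intro i
    have h1 : (EtCoh.pull (f i)).map (Abelian.factorThruImage φ) ≫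
        (EtCoh.pull (f i)).map (Abelian.image.ι φ) = 0 := by
      rw [← Functor.map_comp, Abelian.image.fac, h i]
    haveI : Mono ((EtCoh.pull (f i)).map (Abelian.image.ι φ)) := inferInstance
    have h2 : (EtCoh.pull (f i)).map (Abelian.factorThruImage φ) = 0 := by
      rw [← cancel_mono ((EtCoh.pull (f i)).map (Abelian.image.ι φ)), h1, zero_comp]
    haveI : Epi ((EtCoh.pull (f i)).map (Abelian.factorThruImage φ)) := inferInstance
    rw [IsZero.iff_id_eq_zero]
    rw [← cancel_epi ((EtCoh.pull (f i)).map (Abelian.factorThruImage φ)), h2, zero_comp,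
      zero_comp]
  rw [← Abelian.image.fac φ]
  rw [hI.eq_of_tgt (Abelian.factorThruImage φ) 0, zero_comp]

include hsurj in
lemma killedBy_of_killedBy_pull_fam (n : ℕ) (F : EtCoh.Ab Y)
    (h : ∀ i, EtCoh.KilledBy n ((EtCoh.pull (f i)).obj F)) : EtCoh.KilledBy n F := by
  rw [killedBy_iff]
  apply eq_zero_of_pull_eq_zero_fam X f hsurj
  intro i
  have := (killedBy_iff n _).1 (h i)
  rw [Functor.map_nsmul, CategoryTheory.Functor.map_id]
  exact this

lemma killedBy_of_dvd {Z : Scheme.{u}} (n m : ℕ) (hnm : n ∣ m) (F : EtCoh.Ab Z)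
    (h : EtCoh.KilledBy n F) : EtCoh.KilledBy m F := by
  obtain ⟨k, rfl⟩ := hnm
  exact killedBy_mul_right n k F h

variable [∀ i, CompactSpace (X i)] [∀ i, QuasiSeparatedSpace (X i)]
  [CompactSpace Y] [QuasiSeparatedSpace Y]

include hsurj in
lemma exists_epi_of_pull_fam (F : EtCoh.Ab Y)
    (h : ∀ i, EtPBC.IsConstructible ((EtCoh.pull (f i)).obj F)) :
    ∃ (G : EtCoh.Ab Y) (π : G ⟶ F), EtPBC.IsConstructible G ∧ Epi π := by
  classical
  haveI := Fintype.ofFinite ι
  choose N hN hFN using fun i => exists_killedBy_of_isConstructible _ (h i)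
  have hpos : 0 < ∏ i, N i := Finset.prod_pos (fun i _ => hN i)
  have hFN' : EtCoh.KilledBy (∏ i, N i) F := by
    apply killedBy_of_killedBy_pull_fam X f hsurj
    intro i
    exact killedBy_of_dvd _ _ (Finset.dvd_prod_of_mem N (Finset.mem_univ i)) _ (hFN i)
  have htors : EtCoh.IsTorsion F := isTorsion_of_killedBy _ hpos F hFN'
  obtain ⟨J, _, _, D, c, hc, hD, ⟨e⟩⟩ := Groth.Agent.S0134.result Y F htors
  have key : ∀ i, ∃ (j : J) (g : (EtCoh.pull (f i)).obj F ⟶ (EtCoh.pull (f i)).obj (D.obj j)),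
      g ≫ (EtCoh.pull (f i)).map (c.ι.app j) = (EtCoh.pull (f i)).map e.inv := by
    intro i
    haveI : PreservesColimitsOfSize.{u + 1, u + 1} (EtCoh.pull (f i)) :=
      (EtCoh.pullPushAdj (f i)).leftAdjoint_preservesColimits
    have hc' : IsColimit ((EtCoh.pull (f i)).mapCocone c) := isColimitOfPreserves _ hc
    have hcpt := cptAt_of_isConstructible hc' _ (h i)
    obtain ⟨j, g, hg⟩ := hcpt.surj ((EtCoh.pull (f i)).map e.inv)
    exact ⟨j, g, hg⟩
  choose j g hg using key
  obtain ⟨S, hS⟩ := IsFiltered.sup_objs_exists (Finset.univ.image j)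
  have a : ∀ i, j i ⟶ S := fun i => (hS (Finset.mem_image_of_mem j (Finset.mem_univ i))).some
  refine ⟨D.obj S, c.ι.app S ≫ e.hom, hD S, ?_⟩
  apply epi_of_epi_pull_fam X f hsurj
  intro i
  have h1 : (g i ≫ (EtCoh.pull (f i)).map (D.map (a i))) ≫
      (EtCoh.pull (f i)).map (c.ι.app S ≫ e.hom) = 𝟙 _ := by
    rw [Category.assoc, ← Functor.map_comp, ← Category.assoc (D.map (a i)), c.w (a i),
      Functor.map_comp, ← Category.assoc, hg i, ← Functor.map_comp, e.inv_hom_id,
      CategoryTheory.Functor.map_id]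
  haveI : Epi ((g i ≫ (EtCoh.pull (f i)).map (D.map (a i))) ≫
      (EtCoh.pull (f i)).map (c.ι.app S ≫ e.hom)) := by
    rw [h1]; infer_instance
  exact epi_of_epi (g i ≫ (EtCoh.pull (f i)).map (D.map (a i))) _

include hsurj in
/-- constructibility descends along a finite jointly surjective family of qcqs schemes -/
theorem isConstructible_of_pull_fam (F : EtCoh.Ab Y)
    (h : ∀ i, EtPBC.IsConstructible ((EtCoh.pull (f i)).obj F)) : EtPBC.IsConstructible F := by
  classical
  haveI := Fintype.ofFinite ι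
  obtain ⟨G, π, hG, hπ⟩ := exists_epi_of_pull_fam X f hsurj F h
  have hK : ∀ i, EtPBC.IsConstructible ((EtCoh.pull (f i)).obj (kernel π)) := by
    intro i
    have hpG := Groth.Agent.S0127.result (f i) G hG
    have e1 : (EtCoh.pull (f i)).obj (kernel π) ≅ kernel ((EtCoh.pull (f i)).map π) :=
      PreservesKernel.iso _ _
    obtain ⟨N1, hN1, h1⟩ := exists_killedBy_of_isConstructible _ hpG
    obtain ⟨N2, hN2, h2⟩ := exists_killedBy_of_isConstructible _ (h i)
    have := (Groth.Agent.S0131.result ((EtCoh.pull (f i)).map π) (N1 * N2) (Nat.mul_pos hN1 hN2)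
      (killedBy_mul_right N1 N2 _ h1) (killedBy_mul_left N1 N2 _ h2) hpG (h i)).1
    exact Groth.Agent.S0133.isConstructible_of_iso e1.symm this
  obtain ⟨G', π', hG', hπ'⟩ := exists_epi_of_pull_fam X f hsurj (kernel π) hK
  obtain ⟨M1, hM1, k1⟩ := exists_killedBy_of_isConstructible _ hG'
  obtain ⟨M2, hM2, k2⟩ := exists_killedBy_of_isConstructible _ hG
  have := (Groth.Agent.S0131.result (π' ≫ kernel.ι π) (M1 * M2) (Nat.mul_pos hM1 hM2)
    (killedBy_mul_right M1 M2 _ k1) (killedBy_mul_left M1 M2 _ k2) hG' hG).2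
  exact Groth.Agent.S0133.isConstructible_of_iso (cokerIso π π') this

end Fam

open Groth.Agent.Lib.Helper6.SpecGlue in
/-- constructible subsets of a spectral space are clopen in the constructible topology -/
lemma cc_of_isConstructible {W : Type*} [TopologicalSpace W] [SpectralSpace W] {s : Set W}
    (hs : Topology.IsConstructible s) : CC s ∧ CC sᶜ := by
  induction hs using Topology.IsConstructible.empty_union_induction with
  | open_retrocompact U hUo hUc =>
    exact ⟨CC.of_isOpen_isCompact hUo hUc.isCompact, CC.of_isClosed hUo.isClosed_compl⟩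
  | union s hs t ht hs' ht' =>
    refine ⟨@IsClosed.union _ _ _ (constructibleTopology W) hs'.1 ht'.1, ?_⟩
    rw [Set.compl_union]
    exact hs'.2.inter ht'.2
  | compl s hs hs' =>
    refine ⟨hs'.2, ?_⟩
    rw [compl_compl]
    exact hs'.1

section Res

variable {X Y : Scheme.{u}} (f : X ⟶ Y)

/-- the restriction `U ⟶ V` of `f` for `U ≤ f⁻¹ V` -/
noncomputable def resHom (U : X.Opens) (V : Y.Opens) (hle : U ≤ f ⁻¹ᵁ V) :
    (U : Scheme.{u}) ⟶ (V : Scheme.{u}) :=
  X.homOfLE hle ≫ f ∣_ V

lemma resHom_ι (U : X.Opens) (V : Y.Opens) (hle : U ≤ f ⁻¹ᵁ V) :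
    resHom f U V hle ≫ V.ι = U.ι ≫ f := by
  unfold resHom
  rw [Category.assoc, morphismRestrict_ι, ← Category.assoc, Scheme.homOfLE_ι]

instance [LocallyOfFinitePresentation f] (U : X.Opens) (V : Y.Opens) (hle : U ≤ f ⁻¹ᵁ V) :
    LocallyOfFinitePresentation (resHom f U V hle) := by
  unfold resHom
  haveI : LocallyOfFinitePresentation (f ∣_ V) := IsZariskiLocalAtTarget.restrict ‹_› V
  infer_instance

lemma resHom_apply (U : X.Opens) (V : Y.Opens) (hle : U ≤ f ⁻¹ᵁ V) (x : ↥(U : Scheme.{u})) :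
    V.ι (resHom f U V hle x) = f (U.ι x) := by
  have h := congrArg (fun m : (U : Scheme.{u}) ⟶ Y => m x) (resHom_ι f U V hle)
  simp only [Scheme.Hom.comp_apply] at h
  exact h

open Groth.Agent.Lib.Helper6.SpecGlue in
/-- an affine open of the target of a surjective morphism locally of finite presentation is covered
by the images of finitely many affine opens -/
lemma exists_finite_affine_family [Surjective f] [LocallyOfFinitePresentation f] (V : Y.Opens)
    (hV : IsAffineOpen V) :
    ∃ (u : Finset {U : X.Opens // IsAffineOpen U ∧ U ≤ f ⁻¹ᵁ V}),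
      ∀ y : ↥(V : Scheme.{u}), ∃ U ∈ u, ∃ x : ↥(U.1 : Scheme.{u}), resHom f U.1 V U.2.2 x = y := by
  haveI : IsAffine (V : Scheme.{u}) := hV
  haveI : SpectralSpace ↥(V : Scheme.{u}) := {}
  let I := {U : X.Opens // IsAffineOpen U ∧ U ≤ f ⁻¹ᵁ V}
  let t : I → Set ↥(V : Scheme.{u}) := fun U => (Set.range (resHom f U.1 V U.2.2))ᶜ
  have ht : ∀ U : I, CC (t U) := by
    intro U
    haveI : IsAffine (U.1 : Scheme.{u}) := U.2.1
    have h1 : Topology.IsConstructible (Set.range (resHom f U.1 V U.2.2)) := by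
      rw [← Set.image_univ]
      exact (resHom f U.1 V U.2.2).isConstructible_image Topology.IsConstructible.univ
    exact (cc_of_isConstructible h1).2
  have hempty : (Set.univ : Set ↥(V : Scheme.{u})) ∩ ⋂ U, t U = ∅ := by
    apply Set.eq_empty_of_forall_notMem
    rintro y ⟨-, hy⟩
    obtain ⟨x, hx⟩ := f.surjective (V.ι y)
    have hxV : x ∈ f ⁻¹ᵁ V := by
      change f x ∈ V
      rw [hx]
      exact y.2
    obtain ⟨U, hU, hxU, hUV⟩ :=
      (TopologicalSpace.Opens.isBasis_iff_nbhd.mp X.isBasis_affineOpens) hxV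
    have := Set.mem_iInter.1 hy ⟨U, hU, hUV⟩
    apply this
    refine ⟨⟨x, hxU⟩, ?_⟩
    apply V.ι.injective
    rw [resHom_apply]
    exact hx
  obtain ⟨u, hu⟩ := exists_finset_inter_empty (Set.univ : Set ↥(V : Scheme.{u}))
    (@isClosed_univ _ (constructibleTopology _)) t ht hempty
  refine ⟨u, fun y => ?_⟩
  by_contra hcon
  push Not at hcon
  have : y ∈ (Set.univ : Set ↥(V : Scheme.{u})) ∩ ⋂ i ∈ u, t i := by
    refine ⟨Set.mem_univ _, ?_⟩
    simp only [Set.mem_iInter]
    intro U hU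
    rintro ⟨x, hx⟩
    exact hcon U hU x hx
  rw [hu] at this
  exact this

end Res

/-- Let f : X → Y be a surjective morphism locally of finite presentation and F an abelian sheaf on the
small etale site of Y. Then F is constructible if and only if f⁻¹F is constructible. (No
quasi-compactness hypothesis on X or Y.) -/
theorem result {X Y : Scheme.{u}} (f : X ⟶ Y) [Surjective f]
    [LocallyOfFinitePresentation f] (F : EtCoh.Ab Y) :
    EtPBC.IsConstructible F ↔ EtPBC.IsConstructible ((EtCoh.pull f).obj F) := by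
  constructor
  · exact Groth.Agent.S0127.result f F
  · intro h
    refine Groth.Agent.S0129.result F (fun V : Y.affineOpens => V.1)
      (iSup_affineOpens_eq_top Y) (fun V => ?_)
    obtain ⟨u, hu⟩ := exists_finite_affine_family f V.1 V.2
    haveI : IsAffine (V.1 : Scheme.{u}) := V.2
    let XX : {U // U ∈ u} → Scheme.{u} := fun U => (U.1.1 : Scheme.{u})
    let ff : ∀ U : {U // U ∈ u}, XX U ⟶ (V.1 : Scheme.{u}) := fun U => resHom f U.1.1 V.1 U.1.2.2
    haveI : ∀ U : {U // U ∈ u}, IsAffine (XX U) := fun U => U.1.2.1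
    haveI : ∀ U : {U // U ∈ u}, CompactSpace (XX U) := fun U => inferInstance
    haveI : ∀ U : {U // U ∈ u}, QuasiSeparatedSpace (XX U) := fun U => inferInstance
    refine isConstructible_of_pull_fam XX ff ?_ _ ?_
    · intro y
      obtain ⟨U, hU, x, hx⟩ := hu y
      exact ⟨⟨U, hU⟩, x, hx⟩
    · intro U
      have h1 : EtPBC.IsConstructible ((EtCoh.pull U.1.1.ι).obj ((EtCoh.pull f).obj F)) :=
        Groth.Agent.S0127.result _ _ h
      have e : (EtCoh.pull (ff U)).obj ((EtCoh.pull (V.1).ι).obj F) ≅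
          (EtCoh.pull U.1.1.ι).obj ((EtCoh.pull f).obj F) :=
        ((EtCore.pullComp (ff U) (V.1).ι).app F).symm ≪≫
          (EtCore.pullCongr (resHom_ι f U.1.1 V.1 U.1.2.2)).app F ≪≫
          (EtCore.pullComp U.1.1.ι f).app F
      exact Groth.Agent.S0133.isConstructible_of_iso e.symm h1

end Groth.Agent.S8546
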