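import Groth.Statements.S0136
import Mathlib
import Groth.Agent.Lib.Helper23ConstrCpt
import Groth.Agent.Lib.Helper23FinEtPush
import Groth.Agent.Lib.Helper23ConstrGen3
import Groth.Agent.S0127
import Groth.Agent.S0129
import Groth.Agent.S0133
import Groth.Agent.S3508
import Groth.Agent.S8546
-- import your own Groth.Agent.* helpers here

set_option autoImplicit false
set_option backward.isDefEq.respectTransparency.types false
universe u
open CategoryTheory CategoryTheory.Limits AlgebraicGeometry Opposite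
open EtPBC

namespace Groth.Agent.S0136


open Groth.Agent.Lib.Helper23EtSupp Groth.Agent.Lib.Helper23FinEtPush
  Groth.Agent.Lib.Helper23ConstrGen Groth.Agent.Lib.Helper23ConstrTors
  Groth.Agent.Lib.Helper23FlcSerre Groth.Agent.Lib.Helper23FlcExt Groth.Agent.Lib.Helper23Constr
  Groth.Agent.Lib.Helper23LCPull
open Groth.Agent.Lib.Helper19.SecDescEt

theorem isConstructible_push_fold {Z : Scheme.{u}} [CompactSpace Z] [QuasiSeparatedSpace Z]
    (n : ℕ) (G : EtCoh.Ab (∐ fun _ : Fin n => Z))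
    (hG : EtPBC.IsConstructible G) :
    EtPBC.IsConstructible ((EtCoh.push (Sigma.desc fun _ : Fin n => 𝟙 Z)).obj G) := by
  let Zf : Fin n → Scheme.{u} := fun _ => Z
  let ι : ∀ i : Fin n, Zf i ⟶ ∐ Zf := fun i => Sigma.ι Zf i
  let fold : (∐ Zf) ⟶ Z := Sigma.desc fun _ : Fin n => 𝟙 Z
  haveI : ∀ i, IsClosedImmersion (ι i) := fun i => isClosedImmersion_sigmaι Zf i
  have hdisj : Pairwise (fun i j => Disjoint (Set.range (ι i)) (Set.range (ι j))) := by
    intro i j hij
    rw [Set.disjoint_left]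
    rintro x ⟨y, hy⟩ ⟨z, hz⟩
    have h1 := disjoint_opensRange_sigmaι Zf i j hij
    have h2 : x ∈ (Sigma.ι Zf i).opensRange ⊓ (Sigma.ι Zf j).opensRange := ⟨⟨y, hy⟩, ⟨z, hz⟩⟩
    rw [h1.eq_bot] at h2
    exact h2
  have hsurj : ∀ c : ↥(∐ Zf), ∃ (i : Fin n) (z : Zf i), ι i z = c := fun c =>
    (sigmaOpenCover Zf).exists_eq c
  haveI := isIso_decomp Zf ι hdisj hsurj G
  haveI : PreservesLimit (Discrete.functor (piece Zf ι G)) (EtCoh.push fold) := by
    haveI : PreservesLimitsOfSize.{0, 0} (EtCoh.push fold) :=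
      (EtCoh.pullPushAdj fold).rightAdjoint_preservesLimits
    infer_instance
  have e1 : (EtCoh.push fold).obj G ≅ ∏ᶜ fun i => (EtCoh.push fold).obj (piece Zf ι G i) :=
    (EtCoh.push fold).mapIso (asIso (decomp Zf ι G)) ≪≫ PreservesProduct.iso _ _
  have e2 : ∀ i, (EtCoh.push fold).obj (piece Zf ι G i) ≅ (EtCoh.pull (ι i)).obj G := fun i =>
    (EtCoh.pushComp fold (ι i)).app _ ≪≫
      (EtCoh.pushCongr (show ι i ≫ fold = 𝟙 Z from Sigma.ι_desc _ _)).app _ ≪≫ (pushId Z).app _
  have h3 : ∀ i, EtPBC.IsConstructible ((EtCoh.push fold).obj (piece Zf ι G i)) := fun i =>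
    Groth.Agent.S0133.isConstructible_of_iso (e2 i).symm (Groth.Agent.S0127.result (ι i) G hG)
  have h4 := Groth.Agent.S3508.isConstructible_biproduct' _ h3
  exact Groth.Agent.S0133.isConstructible_of_iso
    ((biproduct.isoProduct _) ≪≫ e1.symm) h4

/-- the case of a quasi-compact quasi-separated base -/
theorem aux {X Y : Scheme.{u}} [CompactSpace Y] [QuasiSeparatedSpace Y] (f : X ⟶ Y) [IsFinite f]
    [Etale f] (F : EtCoh.Ab X) (hF : EtPBC.IsConstructible F) :
    EtPBC.IsConstructible ((EtCoh.push f).obj F) := by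
  have key := fun y : Y => Groth.Agent.Lib.Helper20.EtSplit.exists_isPullback_sigma f y
  choose R' g hg u hu n top hpb using key
  have hopen : ∀ y, IsOpen (Set.range (g y)) := fun y => (g y).isOpenMap.isOpen_range
  obtain ⟨t, ht⟩ := isCompact_univ.elim_finite_subcover (fun y => Set.range (g y)) hopen
    (fun y _ => Set.mem_iUnion.2 ⟨y, ⟨u y, hu y⟩⟩)
  refine Groth.Agent.S8546.isConstructible_of_pull_fam
    (fun y : {y // y ∈ t} => Spec (R' y.1)) (fun y => g y.1) ?_ _ ?_
  · intro y
    have := ht (Set.mem_univ y)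
    simp only [Set.mem_iUnion] at this
    obtain ⟨y', hy', x, hx⟩ := this
    exact ⟨⟨y', hy'⟩, x, hx⟩
  · rintro ⟨y, -⟩
    change EtPBC.IsConstructible ((EtCoh.pull (g y)).obj ((EtCoh.push f).obj F))
    haveI := Groth.Agent.Lib.Helper23.FinStalkD.isIso_baseChange0_of_finite f (g y)
      (Limits.Sigma.desc fun _ : Fin (n y) => 𝟙 (Spec (R' y))) (top y) (hpb y) F
    refine Groth.Agent.S0133.isConstructible_of_iso (asIso (EtCoh.baseChange0 f (g y)
      (Limits.Sigma.desc fun _ : Fin (n y) => 𝟙 (Spec (R' y))) (top y) (hpb y).w F)).symm ?_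
    exact isConstructible_push_fold (n y) _ (Groth.Agent.S0127.result (top y) F hF)

/-- Abelian case: if f : X -> Y is finite etale and F is a constructible abelian sheaf on X_et then f_*
F is constructible on Y_et. -/
theorem result {X Y : Scheme.{u}} (f : X ⟶ Y) [IsFinite f] [Etale f]
    [EtCoh.BCCont f] (F : EtCoh.Ab X) (hF : EtPBC.IsConstructible F) :
    EtPBC.IsConstructible ((EtCoh.push f).obj F) := by
  refine Groth.Agent.S0129.result _ (fun V : Y.affineOpens => V.1)
    (iSup_affineOpens_eq_top Y) (fun V => ?_)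
  haveI : IsAffine (V.1 : Scheme.{u}) := V.2
  let f' := pullback.snd f V.1.ι
  let g' := pullback.fst f V.1.ι
  have hpb : IsPullback g' f' f V.1.ι := IsPullback.of_hasPullback _ _
  haveI := Groth.Agent.Lib.Helper23.FinStalkD.isIso_baseChange0_of_finite f V.1.ι f' g' hpb F
  refine Groth.Agent.S0133.isConstructible_of_iso
    (asIso (EtCoh.baseChange0 f V.1.ι f' g' hpb.w F)).symm ?_
  exact aux f' _ (Groth.Agent.S0127.result g' F hF)

end Groth.Agent.S0136
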