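import Groth.Statements.S0137
import Mathlib
import Groth.Agent.Lib.Helper23FinStalkD
import Groth.Agent.Lib.Helper23IntStalkD
import Groth.Agent.S0127
import Groth.Agent.S0129
import Groth.Agent.S0133
import Groth.Agent.S0135
import Groth.Agent.S0136
import Groth.Agent.S0170
-- import your own Groth.Agent.* helpers here

set_option autoImplicit false
set_option backward.isDefEq.respectTransparency.types false
universe u
open CategoryTheory CategoryTheory.Limits AlgebraicGeometry Opposite
open EtPBC

namespace Groth.Agent.S0137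


/-- the case of an affine base -/
theorem aux {X Y : Scheme.{u}} [IsAffine Y] (f : X ⟶ Y) [IsFinite f]
    [LocallyOfFinitePresentation f] (F : EtCoh.Ab X) (hF : EtPBC.IsConstructible F) :
    EtPBC.IsConstructible ((EtCoh.push f).obj F) := by
  haveI : IsAffine X := isAffine_of_isAffineHom f
  obtain ⟨Y', hY', a, ha, Z', c, hc, hcs, hfin, het⟩ := Groth.Agent.S0170.result f
  rw [Groth.Agent.S0135.result a]
  let f' := pullback.fst a f
  let a' := pullback.snd a f
  have hpb : IsPullback a' f' f a := (IsPullback.of_hasPullback a f).flip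
  haveI := Groth.Agent.Lib.Helper23.FinStalkD.isIso_baseChange0_of_finite f a f' a' hpb F
  refine Groth.Agent.S0133.isConstructible_of_iso
    (asIso (EtCoh.baseChange0 f a f' a' hpb.w F)).symm ?_
  have hG : EtPBC.IsConstructible ((EtCoh.pull a').obj F) := Groth.Agent.S0127.result a' F hF
  haveI : IsIso ((EtCoh.pullPushAdj c).unit.app ((EtCoh.pull a').obj F)) :=
    Groth.Agent.Lib.Helper23.IntStalkD.isIso_unit_of_stalks c _
      (fun Ω _ _ η hη => (hη (c.surjective _)).elim)
  have e : (EtCoh.push f').obj ((EtCoh.pull a').obj F) ≅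
      (EtCoh.push (c ≫ f')).obj ((EtCoh.pull c).obj ((EtCoh.pull a').obj F)) :=
    (EtCoh.push f').mapIso (asIso ((EtCoh.pullPushAdj c).unit.app ((EtCoh.pull a').obj F))) ≪≫
      (EtCoh.pushComp f' c).app _
  refine Groth.Agent.S0133.isConstructible_of_iso e.symm ?_
  exact Groth.Agent.S0136.result (c ≫ f') _ (Groth.Agent.S0127.result c _ hG)

/-- Abelian case: if f : X -> Y is finite and of finite presentation and F is a constructible abelian
sheaf on X_et then f_* F is constructible on Y_et. -/
theorem result {X Y : Scheme.{u}} (f : X ⟶ Y) [IsFinite f]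
    [LocallyOfFinitePresentation f] [EtCoh.BCCont f] (F : EtCoh.Ab X) (hF : EtPBC.IsConstructible F) :
    EtPBC.IsConstructible ((EtCoh.push f).obj F) := by
  refine Groth.Agent.S0129.result _ (fun V : Y.affineOpens => V.1)
    (iSup_affineOpens_eq_top Y) (fun V => ?_)
  haveI : IsAffine (V.1 : Scheme.{u}) := V.2
  let f' := pullback.snd f V.1.ι
  let g' := pullback.fst f V.1.ι
  have hpb : IsPullback g' f' f V.1.ι := IsPullback.of_hasPullback _ _
  haveI := Groth.Agent.Lib.Helper23.FinStalkD.isIso_baseChange0_of_finite f V.1.ι f' g' hpb F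
  refine Groth.Agent.S0133.isConstructible_of_iso
    (asIso (EtCoh.baseChange0 f V.1.ι f' g' hpb.w F)).symm ?_
  exact aux f' _ (Groth.Agent.S0127.result g' F hF)

end Groth.Agent.S0137
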