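import Groth.Statements.S0142
import Mathlib
import Groth.Agent.Lib.Helper23ConstrSub
import Groth.Agent.Lib.Helper23ConstrCpt
import Groth.Agent.Lib.Helper23ConstrColim3
-- import your own Groth.Agent.* helpers here

set_option autoImplicit false
set_option backward.isDefEq.respectTransparency.types false
universe u
open CategoryTheory CategoryTheory.Limits AlgebraicGeometry Opposite
open EtPBC

namespace Groth.Agent.S0142


open Groth.Agent.Lib.Helper23ConstrSub Groth.Agent.Lib.Helper23ConstrGen
  Groth.Agent.Lib.Helper23ConstrTors Groth.Agent.Lib.Helper23ConstrCpt Groth.Agent.Lib.Helper23CptObj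
  Groth.Agent.Lib.Helper23ConstrColim

section

variable {X : Scheme.{u}} {F : EtCoh.Ab X} {J : Type u} [Preorder J] (c : J →o Subobject F)

/-- the diagram of the underlying objects of a monotone family of subobjects -/
noncomputable def DSub : J ⥤ EtCoh.Ab X := c.monotone.functor ⋙ Subobject.underlying

/-- the cocone of arrows -/
noncomputable def coconeSub : Cocone (DSub c) where
  pt := F
  ι := { app := fun i => (c i).arrow
         naturality := fun i j a => by
           dsimp [DSub]
           simp }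

/-- the map from the union to the ambient sheaf -/
noncomputable def θSub : colimit (DSub c) ⟶ F := colimit.desc (DSub c) (coconeSub c)

lemma ι_θSub (i : J) : colimit.ι (DSub c) i ≫ θSub c = (c i).arrow :=
  colimit.ι_desc (coconeSub c) i

theorem mono_θSub [IsFiltered J] : Mono (θSub c) := by
  apply Groth.Agent.Lib.Helper16.EtStalk.mono_of_stalks
  intro Ω _ _ ξ
  rw [injective_iff_map_eq_zero]
  intro z hz
  have hcol := isColimitOfPreserves (EtCoh.stalk ξ) (colimit.isColimit (DSub c))
  obtain ⟨j, b, rfl⟩ := Concrete.isColimit_exists_rep (DSub c ⋙ EtCoh.stalk ξ) hcol z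
  change ((EtCoh.stalk ξ).map (θSub c)).hom (((EtCoh.stalk ξ).map (colimit.ι (DSub c) j)).hom b) = 0
    at hz
  rw [← stalk_comp_apply, ι_θSub] at hz
  haveI : Mono ((EtCoh.stalk ξ).map (c j).arrow) := inferInstance
  have hinj : Function.Injective ((EtCoh.stalk ξ).map (c j).arrow).hom :=
    (AddCommGrpCat.mono_iff_injective _).1 inferInstance
  have hb : b = 0 := hinj (hz.trans (map_zero _).symm)
  rw [hb]
  exact map_zero _

end

/-- For X Noetherian and F a constructible abelian sheaf on X_et, every increasing sequence of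
subsheaves F_1 ⊆ F_2 ⊆ ... ⊆ F is eventually constant. -/
theorem result (X : Scheme.{u}) [IsNoetherian X]
    (F : EtCoh.Ab X) (hF : EtPBC.IsConstructible F) (c : ℕ →o Subobject F) :
    ∃ N, ∀ m, N ≤ m → c m = c N := by
  obtain ⟨n, hn, hFn⟩ := exists_killedBy_of_isConstructible F hF
  let c' : ULift.{u} ℕ →o Subobject F := ⟨fun i => c i.down, fun i j h => c.monotone h⟩
  haveI := mono_θSub c'
  have hG : EtPBC.IsConstructible (colimit (DSub c')) :=
    isConstructible_of_mono (θSub c') n hn (killedBy_of_mono (θSub c') n hFn) hF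
  have hcpt := cptAt_of_isConstructible' _ hG (colimit.isColimit (DSub c'))
  obtain ⟨i, g, hg⟩ := hcpt.surj (𝟙 _)
  refine ⟨i.down, fun m hm => le_antisymm ?_ (c.monotone hm)⟩
  have h4 : g ≫ colimit.ι (DSub c') i = 𝟙 _ := hg
  have h2 : colimit.ι (DSub c') i ≫ θSub c' = (c i.down).arrow := ι_θSub c' i
  have h3 : colimit.ι (DSub c') ⟨m⟩ ≫ θSub c' = (c m).arrow := ι_θSub c' ⟨m⟩
  refine Subobject.le_of_comm (colimit.ι (DSub c') ⟨m⟩ ≫ g) ?_
  calc (colimit.ι (DSub c') ⟨m⟩ ≫ g) ≫ (c i.down).arrow
      = (colimit.ι (DSub c') ⟨m⟩ ≫ g) ≫ (colimit.ι (DSub c') i ≫ θSub c') := by rw [h2]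
    _ = colimit.ι (DSub c') ⟨m⟩ ≫ (g ≫ colimit.ι (DSub c') i) ≫ θSub c' := by
        simp only [Category.assoc]
    _ = colimit.ι (DSub c') ⟨m⟩ ≫ θSub c' := by rw [h4, Category.id_comp]
    _ = (c m).arrow := h3

end Groth.Agent.S0142
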