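import Groth.Statements.S0145
import Mathlib
import Groth.Agent.Lib.Helper23ConstrShrink
-- import your own Groth.Agent.* helpers here

set_option autoImplicit false
set_option backward.isDefEq.respectTransparency.types false
universe u
open CategoryTheory CategoryTheory.Limits AlgebraicGeometry Opposite
open EtPBC

namespace Groth.Agent.S0145


open Groth.Agent.Lib.Helper23ConstrGen Groth.Agent.Lib.Helper23ConstrTors
  Groth.Agent.Lib.Helper23ConstrColim Groth.Agent.Lib.Helper23ConstrColimQ
  Groth.Agent.Lib.Helper23ConstrShrink Groth.Agent.Lib.Helper23EtSupp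
  Groth.Agent.Lib.Helper23Strata Groth.Agent.Lib.Helper23Constr

/-- (1): X Noetherian, E a subset of X stable under specialization, F a torsion abelian sheaf on X_et
supported inside E. Then F is a filtered colimit of constructible abelian sheaves each supported
inside some closed subset contained in E. -/
theorem result (X : Scheme.{u}) [IsNoetherian X]
    (E : Set X) (hE : StableUnderSpecialization E)
    (F : EtCoh.Ab X) (hF : EtCoh.IsTorsion F) (hsupp : EtPBC.supp F ⊆ E) :
    ∃ (J : Type (u + 1)) (_ : SmallCategory J) (_ : IsFiltered J) (D : J ⥤ EtCoh.Ab X)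
      (c : Cocone D) (_ : IsColimit c), Nonempty (c.pt ≅ F) ∧
      ∀ j, EtPBC.IsConstructible (D.obj j) ∧
        ∃ Z : Set X, IsClosed Z ∧ Z ⊆ E ∧ EtPBC.supp (D.obj j) ⊆ Z := by
  classical
  refine exists_colimit (Q := fun A => ∃ Z : Set X, IsClosed Z ∧ Z ⊆ E ∧
    EtPBC.supp A ⊆ Z) (qhyp_of_supp F (fun A => ∃ Z : Set X, IsClosed Z ∧ Z ⊆ E ∧ A ⊆ Z)
    ?_ ?_ ?_ ?_) hF
  · rintro A B hBA ⟨Z, h1, h2, h3⟩
    exact ⟨Z, h1, h2, hBA.trans h3⟩
  · rintro A B ⟨Z₁, h1, h2, h3⟩ ⟨Z₂, h4, h5, h6⟩
    exact ⟨Z₁ ∪ Z₂, h1.union h4, Set.union_subset h2 h5, Set.union_subset_union h3 h6⟩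
  · exact ⟨∅, isClosed_empty, Set.empty_subset _, le_rfl⟩
  · intro G hG
    obtain ⟨N, hN, hGN⟩ := exists_killedBy_of_isConstructible _ hG
    have hKN : EtCoh.KilledBy N (kernel G.hom) :=
      Groth.Agent.S0138.killedBy_kernel _ N ((killedBy_iff N _).1 hGN)
    -- the covering family
    let Zfam : Finset (Gen (kernel G.hom)) ⊕ ↥E → Set X := fun i =>
      Sum.elim (fun R => (EtPBC.supp (GR G hKN R).left)ᶜ) (fun x => closure {x.1}) i
    have hcons : ∀ i, Topology.IsConstructible (Zfam i) := by
      rintro (R | x)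
      · have h1 := isConstructible_GR G hKN hG hN R
        rw [isConstructible_iff, constr_iff_str] at h1
        exact (isConstructible_supp_of_str _ h1).compl
      · have h1 : IsClosed (closure ({x.1} : Set X)) := isClosed_closure
        have h2 : Topology.IsConstructible (closure ({x.1} : Set X))ᶜ :=
          (TopologicalSpace.NoetherianSpace.isCompact _).isConstructible h1.isOpen_compl
        exact h2.of_compl
    have hcov : ⋃ i, Zfam i = Set.univ := by
      apply Set.eq_univ_of_forall
      intro y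
      by_cases hy : y ∈ E
      · exact Set.mem_iUnion.2 ⟨Sum.inr ⟨y, hy⟩, subset_closure rfl⟩
      · obtain ⟨R, hR⟩ := exists_not_mem_supp_GR G hKN hG (fun h => hy (hsupp h))
        exact Set.mem_iUnion.2 ⟨Sum.inl R, hR⟩
    obtain ⟨t, ht⟩ := ConsTop.exists_finite_subcover Zfam hcons hcov
    let R₀ : Finset (Gen (kernel G.hom)) :=
      t.biUnion (fun i => Sum.elim (fun R => R) (fun _ => ∅) i)
    let Z₀ : Set X := ⋃ i ∈ t, Sum.elim (fun _ => (∅ : Set X)) (fun x => closure {x.1}) i
    refine ⟨GR G hKN R₀, πR G hKN R₀, inferInstance, isConstructible_GR G hKN hG hN R₀, Z₀, ?_, ?_, ?_⟩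
    · refine Set.Finite.isClosed_biUnion t.finite_toSet ?_
      rintro (R | x) _
      · exact isClosed_empty
      · exact isClosed_closure
    · intro y hy
      simp only [Z₀, Set.mem_iUnion] at hy
      obtain ⟨i, hit, hyi⟩ := hy
      rcases i with R | x
      · exact hyi.elim
      · exact hE (specializes_iff_mem_closure.2 hyi) x.2
    · intro y hy
      have hyc : y ∈ ⋃ i ∈ t, Zfam i := ht ▸ Set.mem_univ y
      simp only [Set.mem_iUnion] at hyc
      obtain ⟨i, hit, hyi⟩ := hyc
      rcases i with R | x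
      · exfalso
        have hRR₀ : R ⊆ R₀ := by
          intro g hg
          exact Finset.mem_biUnion.2 ⟨Sum.inl R, hit, hg⟩
        exact hyi (supp_GR_anti G hKN hRR₀ hy)
      · exact Set.mem_iUnion.2 ⟨Sum.inr x, Set.mem_iUnion.2 ⟨hit, hyi⟩⟩

end Groth.Agent.S0145
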