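import Groth.Statements.S0152
import Mathlib
import Groth.Agent.Lib.Helper10WLocal
-- import your own Groth.Agent.* helpers here

set_option autoImplicit false
universe u
open EtPBC

namespace Groth.Agent.S0152

/-- Let X be a spectral space and Z a closed subset such that Z meets the closure of every point of X in
a connected (nonempty) set. If Z is the disjoint union of two closed subsets Z_1, Z_2 then X is the
disjoint union of closed subsets X_1, X_2 with Z_i = Z ∩ X_i. -/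
theorem result (X : Type u) [TopologicalSpace X] [SpectralSpace X]
    (Z : Set X) (hZ : IsClosed Z)
    (hconn : ∀ x : X, IsConnected (Z ∩ closure {x}))
    (Z₁ Z₂ : Set X) (h₁ : IsClosed Z₁) (h₂ : IsClosed Z₂) (hdisj : Disjoint Z₁ Z₂) (hunion : Z₁ ∪ Z₂ = Z) :
    ∃ X₁ X₂ : Set X, IsClosed X₁ ∧ IsClosed X₂ ∧ Disjoint X₁ X₂ ∧ X₁ ∪ X₂ = Set.univ ∧
      Z₁ = Z ∩ X₁ ∧ Z₂ = Z ∩ X₂ := by
  classical
  -- dichotomy from connectedness
  have hdich : ∀ x : X, Z ∩ closure {x} ⊆ Z₁ ∨ Z ∩ closure {x} ⊆ Z₂ := by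
    intro x
    have hpre := (hconn x).isPreconnected
    rw [isPreconnected_iff_subset_of_disjoint_closed] at hpre
    refine hpre Z₁ Z₂ h₁ h₂ ?_ ?_
    · rw [hunion]; exact Set.inter_subset_left
    · rw [Set.disjoint_iff_inter_eq_empty.mp hdisj, Set.inter_empty]
  have hG : ∀ (Zi Zj : Set X), Zi ∪ Zj = Z → Disjoint Zi Zj →
      (∀ x, Z ∩ closure {x} ⊆ Zi ∨ Z ∩ closure {x} ⊆ Zj) →
      ∀ x, (∃ e ∈ Zi, x ⤳ e) → Z ∩ closure {x} ⊆ Zi := by
    intro Zi Zj hun hdis hd x ⟨e, he, hxe⟩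
    rcases hd x with h | h
    · exact h
    · exfalso
      have heZ : e ∈ Z := hun ▸ Or.inl he
      have : e ∈ Zj := h ⟨heZ, specializes_iff_mem_closure.mp hxe⟩
      exact Set.disjoint_left.mp hdis he this
  have hG₁ := hG Z₁ Z₂ hunion hdisj hdich
  have hG₂ := hG Z₂ Z₁ (by rw [Set.union_comm]; exact hunion) hdisj.symm
    (fun x => (hdich x).symm)
  have hstable : ∀ (Zi : Set X), (∀ x, (∃ e ∈ Zi, x ⤳ e) → Z ∩ closure {x} ⊆ Zi) →
      StableUnderSpecialization {x : X | ∃ e ∈ Zi, x ⤳ e} := by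
    intro Zi hGi x x' hxx' hx
    obtain ⟨e', he'Z, he'cl⟩ := (hconn x').nonempty
    have hsub : closure {x'} ⊆ closure {x} :=
      isClosed_closure.closure_subset_iff.mpr
        (Set.singleton_subset_iff.mpr (specializes_iff_mem_closure.mp hxx'))
    exact ⟨e', hGi x hx ⟨he'Z, hsub he'cl⟩, specializes_iff_mem_closure.mpr he'cl⟩
  refine ⟨{x : X | ∃ e ∈ Z₁, x ⤳ e}, {x : X | ∃ e ∈ Z₂, x ⤳ e},
    Groth.Agent.Lib.Helper10.WLocal.isClosed_generalizations h₁ (hstable Z₁ hG₁),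
    Groth.Agent.Lib.Helper10.WLocal.isClosed_generalizations h₂ (hstable Z₂ hG₂), ?_, ?_, ?_, ?_⟩
  · rw [Set.disjoint_left]
    intro x hx1 hx2
    obtain ⟨e, heZ, hecl⟩ := (hconn x).nonempty
    exact Set.disjoint_left.mp hdisj (hG₁ x hx1 ⟨heZ, hecl⟩) (hG₂ x hx2 ⟨heZ, hecl⟩)
  · rw [Set.eq_univ_iff_forall]
    intro x
    obtain ⟨e, heZ, hecl⟩ := (hconn x).nonempty
    rw [← hunion] at heZ
    rcases heZ with he | he
    · exact Or.inl ⟨e, he, specializes_iff_mem_closure.mpr hecl⟩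
    · exact Or.inr ⟨e, he, specializes_iff_mem_closure.mpr hecl⟩
  · apply Set.Subset.antisymm
    · intro z hz
      exact ⟨hunion ▸ Or.inl hz, z, hz, specializes_rfl⟩
    · rintro z ⟨hzZ, hz⟩
      exact hG₁ z hz ⟨hzZ, subset_closure rfl⟩
  · apply Set.Subset.antisymm
    · intro z hz
      exact ⟨hunion ▸ Or.inr hz, z, hz, specializes_rfl⟩
    · rintro z ⟨hzZ, hz⟩
      exact hG₂ z hz ⟨hzZ, subset_closure rfl⟩

end Groth.Agent.S0152
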