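import Groth.Statements.S0175
import Mathlib
import Groth.Agent.Lib.Helper23IntStalkD
import Groth.Agent.S0652
-- import your own Groth.Agent.* helpers here

set_option autoImplicit false
set_option backward.isDefEq.respectTransparency.types false
universe u
open CategoryTheory CategoryTheory.Limits AlgebraicGeometry Opposite
open EtPBC

namespace Groth.Agent.S0175

open Groth.Agent.Lib.Helper23.FinStalkA Groth.Agent.Lib.Helper23.FinStalkB
  Groth.Agent.Lib.Helper23.FinStalkC Groth.Agent.Lib.Helper23.FinStalkD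
  Groth.Agent.Lib.Helper23.FinStalkE Groth.Agent.Lib.Helper23.IntStalkA
  Groth.Agent.Lib.Helper23.IntStalkB Groth.Agent.Lib.Helper23.IntStalkC
  Groth.Agent.Lib.Helper23.IntStalkD
  Groth.Agent.Lib.Helper16.EtGlue Groth.Agent.S0101

/-- Let i : Z → X be a closed immersion of schemes with open complement j : U → X, and I an injective
abelian sheaf on X_ét. Then the subsheaf H_Z(I) of sections supported on Z (the kernel of I → j_*
j^* I), viewed on Z_ét via i^*, is an injective abelian sheaf on Z_ét. -/
theorem result {Z X U : Scheme.{u}} (i : Z ⟶ X) [IsClosedImmersion i]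
    (j : U ⟶ X) [IsOpenImmersion j] (hZU : Set.range j = (Set.range i)ᶜ)
    [EtCoh.BCCont i] [EtCoh.BCCont j] (I : EtCoh.Ab X) [Injective I] :
    Injective ((EtCoh.pull i).obj (kernel ((EtCoh.pullPushAdj j).unit.app I))) := by
  have hdisj : ∀ (a : U) (b : Z), j a ≠ i b := by
    intro a b hab
    have h1 : j a ∈ Set.range j := ⟨a, rfl⟩
    rw [hZU] at h1
    exact h1 ⟨b, hab.symm⟩
  have hz : ∀ H : EtCoh.Ab Z, IsZero ((EtShriek.restrAlong j).obj ((EtCoh.push i).obj H)) := by
    intro H
    rw [IsZero.iff_id_eq_zero]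
    apply Sheaf.hom_ext
    ext W s
    haveI : IsEmpty ((EtCoh.bc i).obj ((EtShriek.compEtale j).obj W.unop)).left := by
      constructor
      intro p
      let p1 : W.unop.left := (pullback.fst (W.unop.hom ≫ j) i) p
      let p2 : Z := (pullback.snd (W.unop.hom ≫ j) i) p
      have h1 : (W.unop.hom ≫ j) p1 = i p2 := by
        have := congrArg (fun m : pullback (W.unop.hom ≫ j) i ⟶ X => m p)
          (pullback.condition (f := W.unop.hom ≫ j) (g := i))
        simpa only [Scheme.Hom.comp_apply] using this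
      rw [Scheme.Hom.comp_apply] at h1
      exact hdisj _ _ h1
    haveI := subsingleton_of_isEmpty
      (H.obj ⋙ forget AddCommGrpCat.{u + 1})
      ((isSheaf_iff_isSheaf_of_type _ _).1
        ((Presheaf.isSheaf_iff_isSheaf_forget _ H.obj
          (forget AddCommGrpCat.{u + 1})).1 H.property))
      ((EtCoh.bc i).obj ((EtShriek.compEtale j).obj W.unop))
    exact Subsingleton.elim (α := (H.obj ⋙ forget AddCommGrpCat.{u + 1}).obj
      (op ((EtCoh.bc i).obj ((EtShriek.compEtale j).obj W.unop)))) _ _
  let eL : EtCoh.pull j ≅ EtShriek.restrAlong j :=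
    Adjunction.leftAdjointUniq (EtCoh.pullPushAdj j) (Groth.Agent.S0651.restrPushAdj j)
  have hC : ∀ (H : EtCoh.Ab Z) (φ : (EtCoh.push i).obj H ⟶ I),
      φ ≫ (EtCoh.pullPushAdj j).unit.app I = 0 := by
    intro H φ
    apply ((EtCoh.pullPushAdj j).homEquiv _ _).symm.injective
    have : IsZero ((EtCoh.pull j).obj ((EtCoh.push i).obj H)) := (hz H).of_iso (eL.app _)
    exact this.eq_of_src _ _
  haveI : (EtShriek.restrAlong j).IsRightAdjoint := (EtShriek.extZeroAdj j).isRightAdjoint
  haveI : (EtShriek.restrAlong j).PreservesZeroMorphisms :=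
    Functor.preservesZeroMorphisms_of_isRightAdjoint _
  have hRK : IsZero ((EtShriek.restrAlong j).obj (kernel ((EtCoh.pullPushAdj j).unit.app I))) := by
    have hmono : Mono ((EtShriek.restrAlong j).map ((EtCoh.pullPushAdj j).unit.app I)) := by
      have hu : (EtCoh.pullPushAdj j).unit.app I ≫ (EtCoh.push j).map (eL.hom.app I) =
          (Groth.Agent.S0651.restrPushAdj j).unit.app I :=
        Adjunction.unit_leftAdjointUniq_hom_app _ _ I
      have ht := (Groth.Agent.S0651.restrPushAdj j).left_triangle_components I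
      rw [← hu, Functor.map_comp, Category.assoc] at ht
      haveI : Mono (𝟙 ((EtShriek.restrAlong j).obj I)) := inferInstance
      exact mono_of_mono_fac ht
    have h0 : (EtShriek.restrAlong j).map (kernel.ι ((EtCoh.pullPushAdj j).unit.app I)) ≫
        (EtShriek.restrAlong j).map ((EtCoh.pullPushAdj j).unit.app I) = 0 := by
      rw [← Functor.map_comp, kernel.condition, Functor.map_zero]
    have h1 : (EtShriek.restrAlong j).map (kernel.ι ((EtCoh.pullPushAdj j).unit.app I)) = 0 := by
      rw [← cancel_mono ((EtShriek.restrAlong j).map ((EtCoh.pullPushAdj j).unit.app I)), h0,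
        zero_comp]
    haveI : PreservesLimits (EtShriek.restrAlong j) :=
      (EtShriek.extZeroAdj j).rightAdjoint_preservesLimits
    haveI : Mono ((EtShriek.restrAlong j).map (kernel.ι ((EtCoh.pullPushAdj j).unit.app I))) :=
      inferInstance
    exact IsZero.of_mono_eq_zero _ h1
  haveI hunit : IsIso ((EtCoh.pullPushAdj i).unit.app (kernel ((EtCoh.pullPushAdj j).unit.app I))) := by
    apply isIso_unit_of_stalks
    intro Ω _ _ η hη
    have hηU : η (default : Spec (CommRingCat.of Ω)) ∈ Set.range j := by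
      rw [hZU]; exact hη
    have hr : Set.range η.base ⊆ Set.range j.base := by
      rintro _ ⟨a, rfl⟩
      rw [Subsingleton.elim a default]
      exact hηU
    obtain ⟨u, rfl⟩ : ∃ u, u ≫ j = η :=
      ⟨IsOpenImmersion.lift j η hr, IsOpenImmersion.lift_fac _ _ _⟩
    rw [← AddCommGrpCat.isZero_iff_subsingleton]
    refine IsZero.of_iso ?_ ((Groth.Agent.S0652.stalkRestrIso j u).app _)
    haveI : (EtCoh.stalk u).IsLeftAdjoint :=
      ((Scheme.pointSmallEtale u).skyscraperSheafAdjunction
        (A := AddCommGrpCat.{u + 1})).isLeftAdjoint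
    haveI : (EtCoh.stalk u).PreservesZeroMorphisms :=
      Functor.preservesZeroMorphisms_of_isLeftAdjoint _
    exact (EtCoh.stalk u).map_isZero hRK
  haveI : IsIso (EtCoh.pullPushAdj i).counit := by
    haveI : ∀ F, IsIso ((EtCoh.pullPushAdj i).counit.app F) := isIso_counit_ui i
    exact NatIso.isIso_of_isIso_app _
  have hff := (EtCoh.pullPushAdj i).fullyFaithfulROfIsIsoCounit
  haveI : PreservesLimits (EtCoh.push i) := (EtCoh.pullPushAdj i).rightAdjoint_preservesLimits
  constructor
  intro G G' a m hm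
  -- transfer to `X`
  let a' : (EtCoh.push i).obj G ⟶ I :=
    (EtCoh.push i).map a ≫ inv ((EtCoh.pullPushAdj i).unit.app
      (kernel ((EtCoh.pullPushAdj j).unit.app I))) ≫ kernel.ι _
  haveI : Mono ((EtCoh.push i).map m) := inferInstance
  obtain ⟨b', hb'⟩ := Injective.factors a' ((EtCoh.push i).map m)
  let b'' : (EtCoh.push i).obj G' ⟶ kernel ((EtCoh.pullPushAdj j).unit.app I) :=
    kernel.lift _ b' (hC G' b')
  refine ⟨hff.preimage (b'' ≫ (EtCoh.pullPushAdj i).unit.app _), ?_⟩
  apply hff.map_injective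
  rw [Functor.map_comp, hff.map_preimage]
  have h1 : ((EtCoh.push i).map m ≫ b'') ≫ kernel.ι _ =
      ((EtCoh.push i).map a ≫ inv ((EtCoh.pullPushAdj i).unit.app
      (kernel ((EtCoh.pullPushAdj j).unit.app I)))) ≫ kernel.ι _ := by
    rw [Category.assoc, kernel.lift_ι, hb', Category.assoc]
  have h2 := (cancel_mono (kernel.ι ((EtCoh.pullPushAdj j).unit.app I))).1 h1
  rw [← Category.assoc, h2, Category.assoc]
  have h3 : inv ((EtCoh.pullPushAdj i).unit.app (kernel ((EtCoh.pullPushAdj j).unit.app I))) ≫
      (EtCoh.pullPushAdj i).unit.app (kernel ((EtCoh.pullPushAdj j).unit.app I)) = 𝟙 _ :=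
    IsIso.inv_hom_id _
  exact (congrArg (fun t => (EtCoh.push i).map a ≫ t) h3).trans (Category.comp_id _)

end Groth.Agent.S0175
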