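import Groth.Statements.S0179
import Mathlib
import Groth.Agent.Lib.Helper10WLocal
-- import your own Groth.Agent.* helpers here

set_option autoImplicit false
universe u
open EtPBC

namespace Groth.Agent.S0179

/-- For a spectral space X with set of closed points X_0, the following are equivalent: (1) any open
cover of X admits a refinement by finitely many pairwise disjoint open-and-closed pieces; (2) the
map from X_0 to the space of connected components pi_0(X) is a bijection. -/
theorem result (X : Type u) [TopologicalSpace X] [SpectralSpace X] :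
    (∀ (ι : Type u) (U : ι → Set X), (∀ i, IsOpen (U i)) → (⋃ i, U i) = Set.univ →
      ∃ (n : ℕ) (V : Fin n → Set X), (∀ k, IsClopen (V k)) ∧
        Pairwise (fun k l => Disjoint (V k) (V l)) ∧ (⋃ k, V k) = Set.univ ∧ ∀ k, ∃ i, V k ⊆ U i) ↔
    Function.Bijective (fun x : {x : X // IsClosed ({x} : Set X)} => _root_.ConnectedComponents.mk x.1) := by
  classical
  constructor
  · intro H
    constructor
    · -- injective
      rintro ⟨x, hx⟩ ⟨y, hy⟩ hxy
      simp only at hxy
      by_contra hne
      have hne' : x ≠ y := fun h => hne (Subtype.ext h)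
      obtain ⟨n, V, hVclopen, -, hVcov, hVref⟩ := H (ULift.{u} Bool)
        (fun b => if b.down then ({x}ᶜ : Set X) else ({y}ᶜ : Set X))
        (by
          rintro ⟨b⟩
          cases b
          · simpa using hy.isOpen_compl
          · simpa using hx.isOpen_compl)
        (by
          rw [Set.eq_univ_iff_forall]
          intro p
          rw [Set.mem_iUnion]
          by_cases hpx : p = x
          · refine ⟨⟨false⟩, ?_⟩
            simp only [Bool.false_eq_true, if_false]
            rw [hpx]; exact hne'
          · refine ⟨⟨true⟩, ?_⟩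
            simpa using hpx)
      have hxV : x ∈ ⋃ k, V k := hVcov ▸ Set.mem_univ x
      rw [Set.mem_iUnion] at hxV
      obtain ⟨k, hxk⟩ := hxV
      obtain ⟨⟨b⟩, hb⟩ := hVref k
      have hyk : y ∈ V k := by
        apply (hVclopen k).connectedComponent_subset hxk
        exact ConnectedComponents.coe_eq_coe'.mp hxy.symm
      cases b
      · have := hb hyk
        simp at this
      · have := hb hxk
        simp at this
    · -- surjective
      intro c
      obtain ⟨x, rfl⟩ := ConnectedComponents.surjective_coe c
      obtain ⟨z, hzcl, hz⟩ :=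
        Groth.Agent.Lib.Helper10.WLocal.exists_isClosed_singleton_mem_connectedComponent x
      exact ⟨⟨z, hzcl⟩, ConnectedComponents.coe_eq_coe'.mpr hz⟩
  · rintro ⟨hinj, hsurj⟩ ι U hUo hUcov
    -- every point lies in the component of a closed point and specializes to it
    have hA : ∀ p : X, ∃ z : X, IsClosed ({z} : Set X) ∧ p ∈ connectedComponent z := by
      intro p
      obtain ⟨⟨z, hz⟩, hzp⟩ := hsurj (ConnectedComponents.mk p)
      exact ⟨z, hz, ConnectedComponents.coe_eq_coe'.mp hzp.symm⟩
    have hB : ∀ (z : X), IsClosed ({z} : Set X) → ∀ p ∈ connectedComponent z, p ⤳ z := by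
      intro z hz p hp
      obtain ⟨z', hz'cl, hpz'⟩ :=
        Groth.Agent.Lib.Helper10.WLocal.exists_isClosed_singleton_specializes p
      have h1 : z' ∈ connectedComponent p :=
        Groth.Agent.Lib.Helper10.WLocal.specializes_mem_connectedComponent hpz'
      have h2 : connectedComponent p = connectedComponent z := (connectedComponent_eq hp).symm
      rw [h2] at h1
      have h3 : ConnectedComponents.mk z' = ConnectedComponents.mk z :=
        ConnectedComponents.coe_eq_coe'.mpr h1
      have : (⟨z', hz'cl⟩ : {x : X // IsClosed ({x} : Set X)}) = ⟨z, hz⟩ := hinj h3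
      have h4 : z' = z := congrArg Subtype.val this
      exact h4 ▸ hpz'
    -- clopen neighbourhoods inside members of the cover
    have hD : ∀ (z : X), IsClosed ({z} : Set X) →
        ∃ W : Set X, IsClopen W ∧ connectedComponent z ⊆ W ∧ ∃ i, W ⊆ U i := by
      intro z hz
      have hzU : z ∈ ⋃ i, U i := hUcov ▸ Set.mem_univ z
      rw [Set.mem_iUnion] at hzU
      obtain ⟨i, hzi⟩ := hzU
      have hCU : connectedComponent z ⊆ U i := fun p hp => (hB z hz p hp).mem_open (hUo i) hzi
      have hK : IsCompact (U i)ᶜ := (hUo i).isClosed_compl.isCompact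
      have hempty : (U i)ᶜ ∩ ⋂₀ {Z : Set X | IsClopen Z ∧ z ∈ Z} = ∅ := by
        rw [← Groth.Agent.Lib.Helper10.ConnComp.connectedComponent_eq_sInter_isClopen z]
        rw [Set.eq_empty_iff_forall_notMem]
        rintro p ⟨hp1, hp2⟩
        exact hp1 (hCU hp2)
      obtain ⟨W, hWclopen, hzW, hKW⟩ :=
        Groth.Agent.Lib.Helper10.ConnComp.exists_isClopen_disjoint hK hempty
      refine ⟨W, hWclopen, hWclopen.connectedComponent_subset hzW, i, ?_⟩
      intro p hpW
      by_contra hpU
      have : p ∈ (U i)ᶜ ∩ W := ⟨hpU, hpW⟩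
      rw [hKW] at this
      exact this
    -- choose
    have hE : ∀ p : X, ∃ W : Set X, IsClopen W ∧ p ∈ W ∧ ∃ i, W ⊆ U i := by
      intro p
      obtain ⟨z, hz, hpz⟩ := hA p
      obtain ⟨W, hW, hCW, i, hWi⟩ := hD z hz
      exact ⟨W, hW, hCW hpz, i, hWi⟩
    choose W hWclopen hpW hWU using hE
    obtain ⟨t, ht⟩ := isCompact_univ.elim_nhds_subcover W
      (fun p _ => (hWclopen p).isOpen.mem_nhds (hpW p))
    let e := t.equivFin
    let W' : Fin t.card → Set X := fun k => W (e.symm k).1
    have hW' : ∀ k, IsClopen (W' k) := fun k => hWclopen _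
    refine ⟨t.card, disjointed W', ?_, ?_, ?_, ?_⟩
    · intro k
      exact disjointedRec (p := IsClopen) (fun t i ht => ht.diff (hW' i)) (hW' k)
    · intro k l hkl
      exact disjoint_disjointed W' hkl
    · rw [iUnion_disjointed, Set.eq_univ_iff_forall]
      intro p
      have hp := ht.2 (Set.mem_univ p)
      simp only [Set.mem_iUnion] at hp
      obtain ⟨q, hqt, hpq⟩ := hp
      rw [Set.mem_iUnion]
      refine ⟨e ⟨q, hqt⟩, ?_⟩
      show p ∈ W (e.symm (e ⟨q, hqt⟩)).1
      rw [Equiv.symm_apply_apply]
      exact hpq
    · intro k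
      obtain ⟨i, hi⟩ := hWU (e.symm k).1
      exact ⟨i, (disjointed_subset W' k).trans hi⟩

end Groth.Agent.S0179
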