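import Groth.Statements.S0180
import Mathlib
import Groth.Agent.Lib.Helper10WLocal
-- import your own Groth.Agent.* helpers here

set_option autoImplicit false
universe u
open EtPBC

namespace Groth.Agent.S0180

/-- Final assertion: if X is spectral, the set X_0 of closed points is closed, and every point of X
specializes to exactly one closed point, then X_0 -> pi_0(X) is bijective (so X satisfies the
equivalent conditions of the lemma; such X are called w-local). -/
theorem result (X : Type u) [TopologicalSpace X]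
    [SpectralSpace X] (h0 : IsClosed {x : X | IsClosed ({x} : Set X)})
    (huniq : ∀ x : X, ∃! z : X, IsClosed ({z} : Set X) ∧ x ⤳ z) :
    Function.Bijective (fun x : {x : X // IsClosed ({x} : Set X)} => _root_.ConnectedComponents.mk x.1) := by
  classical
  constructor
  · -- injective
    rintro ⟨x, hx⟩ ⟨y, hy⟩ hxy
    simp only at hxy
    by_contra hne
    have hne' : x ≠ y := fun h => hne (Subtype.ext h)
    -- compact open W containing x but not y
    have hxo : x ∈ ({y}ᶜ : Set X) := hne'
    obtain ⟨W, ⟨hWo, hWc⟩, hxW, hWy⟩ :=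
      PrespectralSpace.isTopologicalBasis.exists_subset_of_mem_open hxo hy.isOpen_compl
    have hyW : y ∉ W := fun h => hWy h rfl
    set X₀ : Set X := {x : X | IsClosed ({x} : Set X)} with hX₀
    have hclosedpt : ∀ {u u' : X}, u ∈ X₀ → u ⤳ u' → u' = u := by
      intro u u' hu huu'
      have := specializes_iff_mem_closure.mp huu'
      rw [IsClosed.closure_eq hu] at this
      exact this
    -- U₀ and V₀ are closed
    have hU₀ : IsClosed (X₀ ∩ W) := by
      apply Groth.Agent.Lib.Helper10.Spectral.isClosed_of_isClosed_constr_of_stableUnderSpecialization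
      · exact Groth.Agent.Lib.Helper10.Spectral.isClosed_constr_inter
          (Groth.Agent.Lib.Helper10.Spectral.isClosed_constr_of_isClosed h0)
          (Groth.Agent.Lib.Helper10.Spectral.isClosed_constr_of_isCompact_isOpen hWo hWc)
      · intro u u' huu' hu
        rw [hclosedpt hu.1 huu']; exact hu
    have hV₀ : IsClosed (X₀ ∩ Wᶜ) := h0.inter hWo.isClosed_compl
    -- uniqueness of closed specialization
    have huq : ∀ {p e e' : X}, e ∈ X₀ → e' ∈ X₀ → p ⤳ e → p ⤳ e' → e = e' := by
      intro p e e' he he' hpe hpe'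
      obtain ⟨z, -, hz⟩ := huniq p
      rw [hz e ⟨he, hpe⟩, hz e' ⟨he', hpe'⟩]
    have hstable : ∀ (E : Set X), E ⊆ X₀ →
        StableUnderSpecialization {p : X | ∃ e ∈ E, p ⤳ e} := by
      intro E hE p p' hpp' ⟨e, he, hpe⟩
      obtain ⟨z', hz'cl, hp'z'⟩ :=
        Groth.Agent.Lib.Helper10.WLocal.exists_isClosed_singleton_specializes p'
      have : e = z' := huq (hE he) hz'cl hpe (hpp'.trans hp'z')
      exact ⟨e, he, this ▸ hp'z'⟩
    have hUcl := Groth.Agent.Lib.Helper10.WLocal.isClosed_generalizations hU₀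
      (hstable _ Set.inter_subset_left)
    have hVcl := Groth.Agent.Lib.Helper10.WLocal.isClosed_generalizations hV₀
      (hstable _ Set.inter_subset_left)
    have hcompl : {p : X | ∃ e ∈ X₀ ∩ W, p ⤳ e} = {p : X | ∃ e ∈ X₀ ∩ Wᶜ, p ⤳ e}ᶜ := by
      ext p
      constructor
      · rintro ⟨e, he, hpe⟩ ⟨e', he', hpe'⟩
        have := huq he.1 he'.1 hpe hpe'
        exact he'.2 (this ▸ he.2)
      · intro hp
        obtain ⟨z, hzcl, hpz⟩ :=
          Groth.Agent.Lib.Helper10.WLocal.exists_isClosed_singleton_specializes p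
        by_cases hzW : z ∈ W
        · exact ⟨z, ⟨hzcl, hzW⟩, hpz⟩
        · exact absurd ⟨z, ⟨hzcl, hzW⟩, hpz⟩ hp
    have hUclopen : IsClopen {p : X | ∃ e ∈ X₀ ∩ W, p ⤳ e} :=
      ⟨hUcl, by rw [hcompl]; exact hVcl.isOpen_compl⟩
    have hxU : x ∈ {p : X | ∃ e ∈ X₀ ∩ W, p ⤳ e} := ⟨x, ⟨hx, hxW⟩, specializes_rfl⟩
    have hyU : y ∈ {p : X | ∃ e ∈ X₀ ∩ W, p ⤳ e} := by
      apply hUclopen.connectedComponent_subset hxU
      exact ConnectedComponents.coe_eq_coe'.mp hxy.symm
    obtain ⟨e, he, hye⟩ := hyU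
    have : e = y := hclosedpt hy hye
    exact hyW (this ▸ he.2)
  · -- surjective
    intro c
    obtain ⟨x, rfl⟩ := ConnectedComponents.surjective_coe c
    obtain ⟨z, hzcl, hz⟩ :=
      Groth.Agent.Lib.Helper10.WLocal.exists_isClosed_singleton_mem_connectedComponent x
    exact ⟨⟨z, hzcl⟩, ConnectedComponents.coe_eq_coe'.mpr hz⟩

end Groth.Agent.S0180
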