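import Groth.Statements.S0183
import Groth.Agent.Lib.Helper3LCSpec
import Groth.Agent.Lib.Helper3LCIndZar
import Groth.Agent.Lib.Helper3WLoc
import Groth.Agent.Lib.Helper3IndZarFlat
import Groth.Agent.Lib.Helper3ConsSpace
import Groth.Agent.Lib.Helper3IdLoc
import Groth.Agent.Lib.Helper3WLocalIndZar
import Mathlib

set_option autoImplicit false
universe u
open CategoryTheory CategoryTheory.Limits AlgebraicGeometry Opposite
open EtPBC

namespace Groth.Agent.S0183

open Groth.Agent.Lib.Helper3.LCIndZar Groth.Agent.Lib.Helper3.WLoc
open Groth.Agent.Lib.Helper3.IndZarCrit Groth.Agent.Lib.Helper3.ConsSpace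
open Groth.Agent.Lib.Helper3.IdLoc Groth.Agent.Lib.Helper3.WLocalIndZar

/-- Suppose A -> B identifies local rings (A_p -> B_q bijective for every prime q of B over p). Then B
can be enlarged along a faithfully flat ind-Zariski extension B' so that B' is already ind-Zariski
over A; ind-Zariski means: a filtered colimit of local isomorphisms in the sense of Mathlib's
Algebra.IsLocalIso (Zariski-locally on the source a standard open immersion). -/
theorem result (A B : Type u) [CommRing A] [CommRing B] [Algebra A B]
    (h : EtPBC.IdentifiesLocalRings A B) :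
    ∃ (B' : Type u) (_ : CommRing B') (_ : Algebra B B') (_ : Algebra A B') (_ : IsScalarTower A B B'),
      Module.FaithfullyFlat B B' ∧ EtPBC.IsIndZariski B B' ∧ EtPBC.IsIndZariski A B' := by
  have hind : EtPBC.IsIndZariski B (Aw (ρ B) (isClopen_ρ B)) :=
    isIndZariski_localization (M (ρ B) (isClopen_ρ B)) (Aw (ρ B) (isClopen_ρ B))
  haveI : Module.Flat B (Aw (ρ B) (isClopen_ρ B)) := flat_of_isIndZariski hind
  haveI : IsScalarTower A B (LocallyConstant (Cons B) B) :=
    ⟨fun a b h => by ext t; exact smul_assoc a b (h t)⟩
  haveI tower : IsScalarTower A B (Aw (ρ B) (isClopen_ρ B)) := inferInstance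
  refine ⟨Aw (ρ B) (isClopen_ρ B), inferInstance, inferInstance, inferInstance, tower,
    Module.FaithfullyFlat.of_comap_surjective (comap_surjective _ _ (bijective_ρ B).2), hind, ?_⟩
  apply isIndZariski_of_identifies
  · exact identifies_comp h (identifies_of_isIndZariski hind)
  · exact isWLocal _ _

end Groth.Agent.S0183
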