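import Groth.Statements.S0195
import Groth.Agent.Lib.LeadCSABrauer

set_option autoImplicit false
universe u v w
open scoped TensorProduct
open Curves

namespace Groth.Agent.S0195

/-- A finite extension k' of k splits a finite central simple algebra A exactly when some algebra
similar to A contains k' with dim equal to [k':k]^2. Uses Mathlib's bundled CSA and Brauer
equivalence. -/
theorem result (k : Type u) [Field k] (A : CSA.{u, u} k)
    (k' : Type u) [Field k'] [Algebra k k'] [FiniteDimensional k k'] :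
    Curves.Splits k A k' ↔ ∃ (B : CSA.{u, u} k) (_ : k' →ₐ[k] B), IsBrauerEquivalent A B ∧
      Module.finrank k B = Module.finrank k k' ^ 2 := by
  constructor
  · intro h
    obtain ⟨C, _, _, hCc, hCs, hCf, ⟨ψ⟩, hCdim, t, ht, ⟨Θ⟩⟩ :=
      Groth.Agent.Lib.LeadCSA.exists_commutant_of_splits (k := k) (A := A) (k' := k') h
    have hs : IsSimpleRing Cᵐᵒᵖ := inferInstance
    have hf : FiniteDimensional k Cᵐᵒᵖ := Module.Finite.equiv (MulOpposite.opLinearEquiv k : C ≃ₗ[k] Cᵐᵒᵖ)
    let B : CSA.{u, u} k := { toAlgCat := AlgCat.of k Cᵐᵒᵖ, isCentral := inferInstance, isSimple := hs, fin_dim := hf }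
    let ι : k' →ₐ[k] Cᵐᵒᵖ := ψ.toOpposite (fun x y => by
      show ψ x * ψ y = ψ y * ψ x
      rw [← map_mul, ← map_mul, mul_comm])
    refine ⟨B, ι, ?_, ?_⟩
    · have hCpos : 0 < Module.finrank k C := Module.finrank_pos
      exact ⟨Module.finrank k C, t, hCpos.ne', ht,
        Groth.Agent.Lib.LeadCSA.brauer_of_tensor_split (A := A) (C := C) Θ⟩
    · show Module.finrank k Cᵐᵒᵖ = _
      rw [← hCdim]
      exact (MulOpposite.opLinearEquiv k : C ≃ₗ[k] Cᵐᵒᵖ).symm.finrank_eq
  · rintro ⟨B, ι, ⟨x, y, hx, hy, ⟨e⟩⟩, hdim⟩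
    have hB : Curves.Splits k B k' := Groth.Agent.Lib.LeadCSA.splits_of_subfield ι hdim
    exact Groth.Agent.Lib.LeadCSA.splits_of_matrix_algEquiv hx hy e hB

end Groth.Agent.S0195
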