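import Groth.Statements.S0216
import Mathlib
import Groth.Agent.Lib.Helper10IntClos2
-- import your own Groth.Agent.* helpers here

set_option autoImplicit false
universe u
open CategoryTheory CategoryTheory.Limits AlgebraicGeometry TopologicalSpace
open Curves

namespace Groth.Agent.S0216

/-- If a connected reduced scheme is locally of finite type over two fields k₁ and k₂, then a global
function is integral over k₁ exactly when it is integral over k₂ (the integral closures of the two
base fields in the global functions coincide). -/
theorem result (X : Scheme.{u}) [IsReduced X] [ConnectedSpace X]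
    (k₁ k₂ : Type u) [Field k₁] [Field k₂]
    (a : X ⟶ Spec (CommRingCat.of k₁)) (b : X ⟶ Spec (CommRingCat.of k₂))
    [LocallyOfFiniteType a] [LocallyOfFiniteType b] (x : Coh.Γtop X) :
    (Coh.toGlobal a).IsIntegralElem x ↔ (Coh.toGlobal b).IsIntegralElem x := by
  have key : ∀ (k : Type u) [Field k] (c : X ⟶ Spec (CommRingCat.of k)) [LocallyOfFiniteType c]
      (U : X.Opens), IsAffineOpen U →
      ((X.presheaf.map (homOfLE (le_top : U ≤ ⊤)).op).hom.comp (Coh.toGlobal c)).FiniteType := by
    intro k _ c _ U hU
    have h1 : (c.appLE ⊤ U le_top).hom.FiniteType :=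
      HasRingHomProperty.appLE (P := @LocallyOfFiniteType) c inferInstance
        ⟨⊤, isAffineOpen_top _⟩ ⟨U, hU⟩ le_top
    have h2 : ((Scheme.ΓSpecIso (CommRingCat.of k)).inv.hom).FiniteType :=
      RingHom.FiniteType.of_surjective _
        (ConcreteCategory.bijective_of_isIso (Scheme.ΓSpecIso (CommRingCat.of k)).inv).2
    exact h1.comp h2
  constructor
  · intro h
    exact Groth.Agent.Lib.Helper10.IntClos.isIntegralElem_trans (X := X) k₂ (Coh.toGlobal b) k₁
      (Coh.toGlobal a) (key k₂ b) x h
  · intro h
    exact Groth.Agent.Lib.Helper10.IntClos.isIntegralElem_trans (X := X) k₁ (Coh.toGlobal a) k₂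
      (Coh.toGlobal b) (key k₁ a) x h

end Groth.Agent.S0216
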