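import Groth.Statements.S0218
import Mathlib

set_option autoImplicit false
universe u
open Curves

namespace Groth.Agent.S0218

/-- Over an algebraically closed field k, a commutative k-algebra with exactly two k-subalgebras is
isomorphic to k × k or to the dual numbers over k. -/
theorem result (k : Type u) [Field k] [IsAlgClosed k] (A : Type u) [CommRing A] [Algebra k A]
    (h : Nat.card (Subalgebra k A) = 2) :
    Nonempty (A ≃ₐ[k] (k × k)) ∨ Nonempty (A ≃ₐ[k] DualNumber k) := by
  classical
  obtain ⟨S₁, S₂, hne, huniv⟩ := Nat.card_eq_two_iff.mp h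
  have hall : ∀ S : Subalgebra k A, S = S₁ ∨ S = S₂ := by
    intro S
    have : S ∈ ({S₁, S₂} : Set (Subalgebra k A)) := by rw [huniv]; trivial
    simpa using this
  have hbt : (⊥ : Subalgebra k A) ≠ ⊤ := by
    intro hbt
    apply hne
    have h1 : ∀ S : Subalgebra k A, S = ⊥ := fun S => le_antisymm (hbt ▸ le_top) bot_le
    rw [h1 S₁, h1 S₂]
  have hdich : ∀ S : Subalgebra k A, S = ⊥ ∨ S = ⊤ := by
    intro S
    rcases hall ⊥ with h1 | h1 <;> rcases hall ⊤ with h2 | h2 <;> rcases hall S with h3 | h3
    all_goals first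
      | exact Or.inl (h3.trans h1.symm)
      | exact Or.inr (h3.trans h2.symm)
      | exact absurd (h1.trans h2.symm) hbt
  obtain ⟨a, ha⟩ : ∃ a : A, a ∉ (⊥ : Subalgebra k A) := by
    by_contra hc; push Not at hc
    exact hbt (le_antisymm bot_le (fun x _ => hc x))
  haveI : Nontrivial A := ⟨⟨a, 0, fun h0 => ha (h0 ▸ zero_mem _)⟩⟩
  have hinj : Function.Injective (algebraMap k A) := (algebraMap k A).injective
  have hcancel : ∀ (γ : k) (z : A), γ ≠ 0 → algebraMap k A γ * z = 0 → z = 0 := by
    intro γ z hγ hz
    have h2 := congrArg (fun w => algebraMap k A γ⁻¹ * w) hz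
    simp only [← mul_assoc, ← map_mul, inv_mul_cancel₀ hγ, map_one, one_mul, mul_zero] at h2
    exact h2
  have hadj : ∀ x : A, x ∉ (⊥ : Subalgebra k A) → Algebra.adjoin k {x} = ⊤ := by
    intro x hx
    rcases hdich (Algebra.adjoin k {x}) with h1 | h1
    · exact absurd (h1 ▸ Algebra.self_mem_adjoin_singleton k x) hx
    · exact h1
  have halg : IsAlgebraic k a := by
    by_contra htr
    have h2 : a ^ 2 ∉ (⊥ : Subalgebra k A) := by
      intro hmem
      obtain ⟨c, hc⟩ := Algebra.mem_bot.mp hmem
      apply htr
      refine ⟨Polynomial.X ^ 2 - Polynomial.C c, ?_, ?_⟩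
      · exact Polynomial.X_pow_sub_C_ne_zero (by norm_num) c
      · simp [hc]
    have h3 := hadj _ h2
    have h4 : a ∈ Algebra.adjoin k {a ^ 2} := by rw [h3]; trivial
    rw [Algebra.adjoin_singleton_eq_range_aeval] at h4
    obtain ⟨q, hq⟩ := h4
    apply htr
    refine ⟨Polynomial.X - Polynomial.expand k 2 q, ?_, ?_⟩
    · intro h0
      have := congrArg (fun p => Polynomial.coeff p 1) h0
      simp [Polynomial.coeff_expand] at this
    · rw [map_sub, Polynomial.aeval_X, Polynomial.expand_aeval]
      have : (Polynomial.aeval (a ^ 2)) q = a := hq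
      rw [this, sub_self]
  have hint : IsIntegral k a := halg.isIntegral
  have hfdeg : (minpoly k a).degree ≠ 0 := (minpoly.degree_pos hint).ne'
  obtain ⟨r, hr⟩ := IsAlgClosed.exists_root (minpoly k a) hfdeg
  obtain ⟨g, hg⟩ : ∃ g, minpoly k a = (Polynomial.X - Polynomial.C r) * g :=
    Polynomial.dvd_iff_isRoot.mpr hr
  set c : A := Polynomial.aeval a g with hc
  have hc0 : c ≠ 0 := by
    intro h0
    obtain ⟨h', hh'⟩ := minpoly.dvd k a h0
    have hf0 : minpoly k a ≠ 0 := minpoly.ne_zero hint
    have h1 : minpoly k a * 1 = minpoly k a * ((Polynomial.X - Polynomial.C r) * h') := by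
      conv_lhs => rw [mul_one, hg, hh']
      ring
    have h2 := mul_left_cancel₀ hf0 h1
    exact Polynomial.not_isUnit_X_sub_C r (IsUnit.of_mul_eq_one _ h2.symm)
  have hac : (a - algebraMap k A r) * c = 0 := by
    have h1 : Polynomial.aeval a (minpoly k a) = 0 := minpoly.aeval k a
    rw [hg, map_mul] at h1
    simpa using h1
  have hpc : ∀ p : Polynomial k, Polynomial.aeval a p * c = algebraMap k A (p.eval r) * c := by
    intro p
    have h1 : p = (Polynomial.X - Polynomial.C r) * (p /ₘ (Polynomial.X - Polynomial.C r)) +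
        Polynomial.C (p.eval r) := by
      have := Polynomial.modByMonic_add_div p (Polynomial.X - Polynomial.C r)
      rw [Polynomial.modByMonic_X_sub_C_eq_C_eval] at this
      rw [add_comm]; exact this.symm
    conv_lhs => rw [h1]
    simp only [map_add, map_mul, map_sub, Polynomial.aeval_X, Polynomial.aeval_C]
    rw [add_mul]
    have h2 : (a - algebraMap k A r) *
        Polynomial.aeval a (p /ₘ (Polynomial.X - Polynomial.C r)) * c = 0 := by
      rw [mul_right_comm, hac, zero_mul]
    rw [h2, zero_add]
  set lam : k := g.eval r with hlamdef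
  have hcc : c * c = algebraMap k A lam * c := hpc g
  have hcbot : c ∉ (⊥ : Subalgebra k A) := by
    intro hmem
    obtain ⟨γ, hγ⟩ := Algebra.mem_bot.mp hmem
    have hγ0 : γ ≠ 0 := by rintro rfl; exact hc0 (by rw [← hγ, map_zero])
    apply ha
    have h1 : a - algebraMap k A r = 0 := by
      apply hcancel γ _ hγ0
      rw [mul_comm, hγ]; exact hac
    rw [sub_eq_zero] at h1
    rw [h1]; exact Subalgebra.algebraMap_mem _ r
  have htop : Algebra.adjoin k {c} = ⊤ := hadj c hcbot
  have hrep : ∀ y : A, ∃ α β : k, y = algebraMap k A α + β • c := by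
    intro y
    have hy : y ∈ Algebra.adjoin k {c} := by rw [htop]; trivial
    induction hy using Algebra.adjoin_induction with
    | mem x hx => rw [Set.mem_singleton_iff] at hx; exact ⟨0, 1, by rw [hx]; simp⟩
    | algebraMap r => exact ⟨r, 0, by simp⟩
    | add x y _ _ hx hy =>
      obtain ⟨α, β, rfl⟩ := hx; obtain ⟨α', β', rfl⟩ := hy
      exact ⟨α + α', β + β', by rw [map_add, add_smul]; ring⟩
    | mul x y _ _ hx hy =>
      obtain ⟨α, β, rfl⟩ := hx; obtain ⟨α', β', rfl⟩ := hy
      refine ⟨α * α', α * β' + α' * β + β * β' * lam, ?_⟩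
      simp only [Algebra.smul_def, map_add, map_mul]
      linear_combination (algebraMap k A β * algebraMap k A β') * hcc
  by_cases hlam : lam = 0
  · right
    have hcc0 : c * c = 0 := by rw [hcc, hlam, map_zero, zero_mul]
    let φ : DualNumber k →ₐ[k] A :=
      DualNumber.lift ⟨(Algebra.ofId k A, c), hcc0, fun _ => Commute.all _ _⟩
    have hφ : ∀ x : DualNumber k, φ x = algebraMap k A x.fst + algebraMap k A x.snd * c :=
      fun x => rfl
    refine ⟨(AlgEquiv.ofBijective φ ⟨?_, ?_⟩).symm⟩
    · rw [injective_iff_map_eq_zero]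
      intro x hx
      rw [hφ] at hx
      have hsnd : x.snd = 0 := by
        by_contra hs
        apply hcbot
        have h1 : algebraMap k A x.snd * (c + algebraMap k A (x.snd⁻¹ * x.fst)) = 0 := by
          rw [mul_add, ← map_mul, ← mul_assoc, mul_inv_cancel₀ hs, one_mul, add_comm]
          exact hx
        have h2 := hcancel _ _ hs h1
        rw [add_eq_zero_iff_eq_neg] at h2
        rw [h2, ← map_neg]; exact Subalgebra.algebraMap_mem _ _
      rw [hsnd, map_zero, zero_mul, add_zero] at hx
      have hfst : x.fst = 0 := hinj (by rw [hx, map_zero])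
      exact TrivSqZeroExt.ext hfst hsnd
    · intro y
      obtain ⟨α, β, rfl⟩ := hrep y
      refine ⟨TrivSqZeroExt.inl α + TrivSqZeroExt.inr β, ?_⟩
      rw [hφ]
      have h1 : (TrivSqZeroExt.inl α + TrivSqZeroExt.inr β : DualNumber k).fst = α := by
        rw [TrivSqZeroExt.fst_add, TrivSqZeroExt.fst_inl, TrivSqZeroExt.fst_inr, add_zero]
      have h2 : (TrivSqZeroExt.inl α + TrivSqZeroExt.inr β : DualNumber k).snd = β := by
        rw [TrivSqZeroExt.snd_add, TrivSqZeroExt.snd_inl, TrivSqZeroExt.snd_inr, zero_add]
      rw [h1, h2, Algebra.smul_def]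
  · left
    set e : A := algebraMap k A lam⁻¹ * c with he
    have hce : c = algebraMap k A lam * e := by
      rw [he, ← mul_assoc, ← map_mul, mul_inv_cancel₀ hlam, map_one, one_mul]
    have hee : e * e = e := by
      have h1 : e * e = algebraMap k A lam⁻¹ * algebraMap k A lam⁻¹ * (c * c) := by
        rw [he]; ring
      rw [h1, hcc, he]
      have h2 : algebraMap k A lam⁻¹ * algebraMap k A lam = 1 := by
        rw [← map_mul, inv_mul_cancel₀ hlam, map_one]
      linear_combination (algebraMap k A lam⁻¹ * c) * h2
    have he0 : e ≠ 0 := by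
      intro h0; apply hc0; rw [hce, h0, mul_zero]
    have he1 : e ≠ 1 := by
      intro h1; apply hcbot; rw [hce, h1, mul_one]; exact Subalgebra.algebraMap_mem _ _
    let ψ : (k × k) →ₐ[k] A :=
      { toFun := fun x => algebraMap k A x.1 * e + algebraMap k A x.2 * (1 - e)
        map_one' := by simp
        map_mul' := fun x y => by
          simp only [Prod.fst_mul, Prod.snd_mul, map_mul]
          linear_combination (-(algebraMap k A x.1 - algebraMap k A x.2) *
            (algebraMap k A y.1 - algebraMap k A y.2)) * hee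
        map_zero' := by simp
        map_add' := fun x y => by simp only [Prod.fst_add, Prod.snd_add, map_add]; ring
        commutes' := fun r => by
          simp only [Prod.algebraMap_apply, Algebra.algebraMap_self, RingHom.id_apply]
          ring }
    have hψ : ∀ x : k × k, ψ x = algebraMap k A x.1 * e + algebraMap k A x.2 * (1 - e) :=
      fun x => rfl
    refine ⟨(AlgEquiv.ofBijective ψ ⟨?_, ?_⟩).symm⟩
    · rw [injective_iff_map_eq_zero]
      intro x hx
      rw [hψ] at hx
      have h1 : algebraMap k A x.1 * e = 0 := by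
        have := congrArg (fun w => w * e) hx
        simp only [zero_mul] at this
        linear_combination this + (algebraMap k A x.2 - algebraMap k A x.1) * hee
      have h2 : algebraMap k A x.2 * (1 - e) = 0 := by
        rw [h1, zero_add] at hx; exact hx
      have hx1 : x.1 = 0 := by
        by_contra hs
        exact he0 (hcancel _ _ hs h1)
      have hx2 : x.2 = 0 := by
        by_contra hs
        have := hcancel _ _ hs h2
        exact he1 (sub_eq_zero.mp this).symm
      exact Prod.ext hx1 hx2
    · intro y
      obtain ⟨α, β, rfl⟩ := hrep y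
      refine ⟨(α + β * lam, α), ?_⟩
      rw [hψ, hce]
      simp only [Algebra.smul_def, map_add, map_mul]
      ring

end Groth.Agent.S0218
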