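import Groth.Statements.S0223
import Groth.Agent.S0034
import Groth.Agent.Lib.Helper1Fib3
import Groth.Agent.Lib.Helper20OmegaAff

set_option autoImplicit false
universe u
open CategoryTheory CategoryTheory.Limits AlgebraicGeometry
open Curves

namespace Groth.Agent.S0223

open AlgebraicGeometry CategoryTheory in
theorem HHlin_comp' (A : Type u) [CommRing A] {X : Scheme.{u}} [X.Over (Spec (CommRingCat.of A))]
    {M M' M'' : X.Modules} (φ : M ⟶ M') (φ' : M' ⟶ M'') (i : ℕ) (x : Coh.HH X M i) :
    Canon.HHlin A (φ ≫ φ') i x = Canon.HHlin A φ' i (Canon.HHlin A φ i x) := by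
  change Sheaf.H.map ((SheafOfModules.toSheaf X.ringCatSheaf).map (φ ≫ φ')) i x =
    Sheaf.H.map ((SheafOfModules.toSheaf X.ringCatSheaf).map φ') i
      (Sheaf.H.map ((SheafOfModules.toSheaf X.ringCatSheaf).map φ) i x)
  have hc : (SheafOfModules.toSheaf X.ringCatSheaf).map (φ ≫ φ') =
      (SheafOfModules.toSheaf X.ringCatSheaf).map φ ≫ (SheafOfModules.toSheaf X.ringCatSheaf).map φ' :=
    CategoryTheory.Functor.map_comp _ _ _
  rw [hc, Sheaf.H.map_comp_apply]

open AlgebraicGeometry CategoryTheory in
theorem HHlin_id' (A : Type u) [CommRing A] {X : Scheme.{u}} [X.Over (Spec (CommRingCat.of A))]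
    {M : X.Modules} (i : ℕ) (x : Coh.HH X M i) :
    Canon.HHlin A (𝟙 M) i x = x := by
  change Sheaf.H.map ((SheafOfModules.toSheaf X.ringCatSheaf).map (𝟙 M)) i x = x
  have hi : (SheafOfModules.toSheaf X.ringCatSheaf).map (𝟙 M) = 𝟙 _ :=
    CategoryTheory.Functor.map_id _ _
  rw [hi, Sheaf.H.map_id_apply]

open AlgebraicGeometry CategoryTheory in
/-- isomorphic modules have linearly isomorphic cohomology -/
noncomputable def hhEquiv (A : Type u) [CommRing A] {X : Scheme.{u}} [X.Over (Spec (CommRingCat.of A))]
    {M N : X.Modules} (e : M ≅ N) (i : ℕ) : Coh.HH X M i ≃ₗ[A] Coh.HH X N i :=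
  LinearEquiv.ofLinear (Canon.HHlin A e.hom i) (Canon.HHlin A e.inv i)
    (by
      ext x
      change Canon.HHlin A e.hom i (Canon.HHlin A e.inv i x) = x
      rw [← HHlin_comp', e.inv_hom_id,
        HHlin_id'])
    (by
      ext x
      change Canon.HHlin A e.inv i (Canon.HHlin A e.hom i x) = x
      rw [← HHlin_comp', e.hom_inv_id,
        HHlin_id'])

/-- For a proper one-dimensional scheme X over a field k with only constant global functions, base
change to a field extension k' keeps the global functions equal to the constants and keeps the genus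
dim H^1(X, O_X). The base change is given as any pullback square. -/
theorem result (k : Type u) [Field k] (X : Scheme.{u}) [X.Over (Spec (CommRingCat.of k))]
    [IsProper (X ↘ Spec (CommRingCat.of k))] (hdim : topologicalKrullDim X = 1)
    (h0 : Module.finrank k (Coh.HH X (Coh.structureModule X) 0) = 1)
    (k' : Type u) [Field k'] [Algebra k k'] (X' : Scheme.{u}) [X'.Over (Spec (CommRingCat.of k'))]
    (g : X' ⟶ X)
    (hpb : IsPullback g (X' ↘ Spec (CommRingCat.of k')) (X ↘ Spec (CommRingCat.of k))
      (Spec.map (CommRingCat.ofHom (algebraMap k k')))) :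
    Module.finrank k' (Coh.HH X' (Coh.structureModule X') 0) = 1 ∧
      Module.finrank k' (Coh.HH X' (Coh.structureModule X') 1) =
        Module.finrank k (Coh.HH X (Coh.structureModule X) 1) := by
  classical
  haveI : IsProper (X ↘ Spec (CommRingCat.of k)) := inferInstance
  haveI : CompactSpace X :=
    QuasiCompact.compactSpace_of_compactSpace (X ↘ Spec (CommRingCat.of k))
  haveI : QuasiSeparatedSpace X :=
    quasiSeparatedSpace_of_quasiSeparated (X ↘ Spec (CommRingCat.of k))
  haveI : Coh.IsQCoh (Coh.structureModule X) :=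
    Groth.Agent.Lib.Helper20.OmegaAff.isQuasicoherent_structureModule
  have key : ∀ i : ℕ, Module.finrank k' (Coh.HH X' (Coh.structureModule X') i) =
      Module.finrank k (Coh.HH X (Coh.structureModule X) i) := by
    intro i
    obtain ⟨e⟩ := Groth.Agent.S0034.result k k' X X' g hpb (Coh.structureModule X) i
    have e2 := hhEquiv k' (Groth.Agent.Lib.Helper1.Fib.pullbackUnitIso' g) i
    rw [← (e.trans e2).finrank_eq]
    exact Module.finrank_baseChange
  exact ⟨(key 0).trans h0, key 1⟩

end Groth.Agent.S0223
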