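import Groth.Statements.S0232
import Groth.Agent.Lib.LeadPicFF3
import Groth.Agent.Lib.Helper27PnSections

set_option autoImplicit false
universe u
open CategoryTheory CategoryTheory.Limits AlgebraicGeometry
open Curves

namespace Groth.Agent.S0232

theorem nonempty_iso_of_cl_eq {Y : Scheme.{u}} (L L' : Y.Modules) (h : PicF.cl L = PicF.cl L') :
    Nonempty (L ≅ L') := by
  have key : ∀ A B : Y.Modules, Relation.EqvGen (fun L L' : Y.Modules => Nonempty (L ≅ L')) A B →
      Nonempty (A ≅ B) := by
    intro A B hAB
    induction hAB with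
    | rel _ _ h => exact h
    | refl _ => exact ⟨Iso.refl _⟩
    | symm _ _ _ ih => exact ⟨ih.some.symm⟩
    | trans _ _ _ _ _ ih1 ih2 => exact ⟨ih1.some ≪≫ ih2.some⟩
  exact key L L' (Quot.eqvGen_exact h)

open Groth.Agent.Lib.Helper27PnSections in
/-- finite-dimensional `H^0(X, O_X)` makes `Γ(X, O_X)` semilocal -/
theorem finite_maximalSpectrum_of_finite (k : Type u) [Field k] (X : Scheme.{u})
    [X.Over (Spec (CommRingCat.of k))]
    (hfin : Module.Finite k (Coh.HH X (Coh.structureModule X) 0)) :
    Finite (MaximalSpectrum Γ(X, ⊤)) := by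
  letI alg : Algebra k Γ(X, ⊤) := (Coh.toGlobal (X ↘ Spec (CommRingCat.of k))).toAlgebra
  let e0 := hh0Equiv X (Coh.structureModule X)
  let φ : Coh.HH X (Coh.structureModule X) 0 →ₗ[k] Γ(X, ⊤) :=
    { toFun := fun x => e0 x
      map_add' := fun x y => e0.map_add x y
      map_smul' := fun a x => by
        have h1 : e0 (a • x) = e0 ((Coh.toGlobal (X ↘ Spec (CommRingCat.of k)) a) • x) := rfl
        rw [h1, hh0Equiv_smul, Coh.smulAb_app, resTop_top]
        rfl }
  have hsurj : Function.Surjective φ := e0.surjective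
  haveI : Module.Finite k Γ(X, ⊤) := Module.Finite.of_surjective φ hsurj
  haveI : IsArtinianRing Γ(X, ⊤) := IsArtinianRing.of_finite k Γ(X, ⊤)
  infer_instance

/-- For a quasi-compact quasi-separated scheme X over a field k with finite-dimensional H^0(X, O_X), an
invertible module on X that becomes trivial after base change to a field extension k' is already
trivial (injectivity of Pic(X) → Pic(X_{k'}), stated on classes without a group structure). The base
change is given as any pullback square. -/
theorem result (k : Type u) [Field k] (X : Scheme.{u}) [X.Over (Spec (CommRingCat.of k))]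
    [CompactSpace X] [QuasiSeparatedSpace X]
    (hfin : Module.Finite k (Coh.HH X (Coh.structureModule X) 0))
    (k' : Type u) [Field k'] [Algebra k k'] (X' : Scheme.{u}) (g : X' ⟶ X) (q : X' ⟶ Spec (CommRingCat.of k'))
    (hpb : IsPullback g q (X ↘ Spec (CommRingCat.of k)) (Spec.map (CommRingCat.ofHom (algebraMap k k'))))
    (L : X.Modules) (hL : PicF.IsInvertible L) (htriv : PicF.IsTrivialCl (PicF.pullCl g (PicF.cl L))) :
    PicF.IsTrivialCl (PicF.cl L) := by
  obtain ⟨τ⟩ := nonempty_iso_of_cl_eq _ _ htriv
  have hsl := finite_maximalSpectrum_of_finite k X hfin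
  have hff : (CommRingCat.ofHom (algebraMap k k')).hom.FaithfullyFlat :=
    (RingHom.faithfullyFlat_algebraMap_iff (R := k) (S := k')).2 inferInstance
  obtain ⟨hfl, hsu⟩ := (flat_and_surjective_SpecMap_iff (CommRingCat.ofHom (algebraMap k k'))).2 hff
  obtain ⟨e⟩ := Groth.Agent.Lib.LeadPicFF.nonempty_iso_of_pullback_iso
    (X ↘ Spec (CommRingCat.of k)) (Spec.map (CommRingCat.ofHom (algebraMap k k'))) g q hpb hsl L hL τ
  exact Quot.sound ⟨e⟩

end Groth.Agent.S0232
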