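import Groth.Statements.S0236
import Groth.Agent.Lib.Helper21TorsF
import Groth.Agent.Lib.Helper21H90B1
import Groth.Agent.Lib.Helper21H90B3
import Groth.Agent.Lib.Helper21H90Main

set_option autoImplicit false
universe u
open CategoryTheory CategoryTheory.Limits AlgebraicGeometry
open Curves

namespace Groth.Agent.S0236

/-- For any scheme X, the first étale cohomology of G_m (small site) vanishes exactly when every
invertible O_X-module is isomorphic to the structure sheaf — the part of the identification
H^1_et(X, G_m) = Pic(X) that can be stated without a group structure on Pic. -/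
theorem result (X : Scheme.{u}) :
    Subsingleton (EtCoh.H X (EtCoh.Gm X) 1) ↔
      ∀ L : X.Modules, PicF.IsInvertible L → Nonempty (L ≅ Coh.structureModule X) := by
  rw [show Subsingleton (EtCoh.H X (EtCoh.Gm X) 1) ↔
      ∀ T : Groth.Agent.Lib.Helper21.TorsB.GTorsor (EtCoh.Gm X), T.HasSection from
    Groth.Agent.Lib.Helper21.TorsF.subsingleton_H1_iff.{u, u+1, u+1} (EtCoh.Gm X)]
  constructor
  · intro H L hL
    exact Groth.Agent.Lib.Helper21.H90B1.trivial_of_hasSection L hL H
  · intro Htriv T
    exact Groth.Agent.Lib.Helper21.H90B3.hasSection_of_local T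
      (fun x => Groth.Agent.Lib.Helper21.H90Main.exists_zariski_local_section T x) Htriv

end Groth.Agent.S0236
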