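import Groth.Statements.S0237
import Groth.Agent.Lib.Helper20FEtFaith

set_option autoImplicit false
universe u
open Pi1

namespace Groth.Agent.S0237

open AlgebraicGeometry CategoryTheory in
/-- If a morphism of schemes has dense image, pulling back finite etale covers along it is faithful. -/
theorem result {X Y : Scheme.{u}} (f : X ⟶ Y)
    (h : DenseRange f.base) : (FEt.restrict f).Faithful := by
  apply Groth.Agent.Lib.Helper20.FEtFaith.faithful_of_forall_clopen
  intro A C hC hsub
  have hA : IsFinite A.hom ∧ Etale A.hom := A.prop
  have hA2 : Etale A.hom := hA.2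
  have hd : Dense (Set.range f) := h
  have hd' : Dense (A.hom ⁻¹' Set.range f) := hd.preimage A.hom.isOpenMap
  have : closure C = Set.univ := (hd'.mono hsub).closure_eq
  rwa [hC.1.closure_eq] at this

end Groth.Agent.S0237
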