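import Groth.Statements.S0283
import Groth.Agent.Lib.Helper4FEtFull
import Groth.Agent.Lib.Helper20EtHom
import Groth.Agent.S0237

set_option autoImplicit false
set_option linter.style.haveILetI false
universe u
open Pi1

namespace Groth.Agent.S0283

open AlgebraicGeometry CategoryTheory CategoryTheory.Limits in
/-- Let f : X → Y be a morphism of schemes which is integral, universally injective and surjective (that
is, a universal homeomorphism). Then base change along f, from finite étale covers of Y to finite
étale covers of X, is a full and faithful functor. -/
theorem result {X Y : Scheme.{u}} (f : X ⟶ Y) [IsIntegralHom f] [UniversallyInjective f] [Surjective f] :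
    (FEt.restrict f).Full ∧ (FEt.restrict f).Faithful := by
  refine ⟨?_, Groth.Agent.S0237.result f (fun y => ?_)⟩
  · apply Groth.Agent.Lib.Helper4.FEtFull.full_restrict_of_exists_extension
    intro V V' a ha
    haveI : Etale (V'.hom : V'.left ⟶ Y) := V'.prop.2
    haveI : IsIntegralHom (pullback.fst (V.hom : V.left ⟶ Y) f) :=
      MorphismProperty.pullback_fst (P := @IsIntegralHom) _ _ ‹_›
    haveI : UniversallyInjective (pullback.fst (V.hom : V.left ⟶ Y) f) :=
      MorphismProperty.pullback_fst (P := @UniversallyInjective) _ _ ‹_›
    haveI : Surjective (pullback.fst (V.hom : V.left ⟶ Y) f) :=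
      MorphismProperty.pullback_fst (P := @Surjective) _ _ ‹_›
    exact Groth.Agent.Lib.Helper20.EtHom.exists_lift (pullback.fst (V.hom : V.left ⟶ Y) f)
      (V'.hom : V'.left ⟶ Y) (V.hom : V.left ⟶ Y) a ha
  · have : Set.range f.base = Set.univ := Set.range_eq_univ.mpr f.surjective
    rw [this, closure_univ]; trivial

end Groth.Agent.S0283
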