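import Groth.Statements.S0243
import Groth.Agent.Lib.Helper20FEtFaith

set_option autoImplicit false
universe u
open Pi1

namespace Groth.Agent.S0243

open AlgebraicGeometry CategoryTheory CategoryTheory.Limits in
/-- If a closed subscheme meets every connected component of the ambient scheme, restricting finite
etale covers to it is a faithful functor. -/
theorem result {X Y : Scheme.{u}} (i : Y ⟶ X) [IsClosedImmersion i]
    (h : ∀ x : X, (connectedComponent x ∩ Set.range i.base).Nonempty) :
    (FEt.restrict i).Faithful := by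
  apply Groth.Agent.Lib.Helper20.FEtFaith.faithful_of_forall_clopen
  intro A C hC hsub
  have hA : IsFinite A.hom ∧ Etale A.hom := A.prop
  have hA1 : IsFinite A.hom := hA.1
  have hA2 : Etale A.hom := hA.2
  by_contra hne
  obtain ⟨z, hz⟩ : ∃ z, z ∉ C := by
    by_contra hcon
    push Not at hcon
    exact hne (Set.eq_univ_of_forall hcon)
  have hD : IsClopen (A.hom '' Cᶜ) :=
    ⟨A.hom.isClosedMap _ hC.compl.1, A.hom.isOpenMap _ hC.compl.2⟩
  have hsubD : connectedComponent (A.hom z) ⊆ A.hom '' Cᶜ :=
    hD.connectedComponent_subset ⟨z, hz, rfl⟩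
  obtain ⟨y, hy1, hy2⟩ := h (A.hom z)
  obtain ⟨z', hz', hz'y⟩ := hsubD hy1
  apply hz'
  apply hsub
  change A.hom z' ∈ Set.range i
  rw [hz'y]
  exact hy2

end Groth.Agent.S0243
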