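import Groth.Statements.S0244
import Groth.Agent.Lib.Helper4FEtNormal
import Groth.Agent.S0237

set_option autoImplicit false
set_option linter.style.haveILetI false
universe u
open Pi1

namespace Groth.Agent.S0244

open AlgebraicGeometry CategoryTheory CategoryTheory.Limits in
/-- Let X be a normal integral scheme and U ⊆ X a nonempty open subscheme. Then the restriction functor
from finite étale covers of X to finite étale covers of U is full and faithful. -/
theorem result {X : Scheme.{u}} [IsIntegral X] (hX : Pi1.IsNormalScheme X) (U : X.Opens)
    (hU : (U : Set X).Nonempty) : (FEt.restrict U.ι).Full ∧ (FEt.restrict U.ι).Faithful := by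
  have hη : genericPoint X ∈ U :=
    ((genericPoint_spec X).mem_open_set_iff U.isOpen).mpr (by simpa using hU)
  have hdense : DenseRange U.ι.base := by
    intro x
    have hx : genericPoint X ∈ Set.range U.ι := ⟨⟨genericPoint X, hη⟩, rfl⟩
    exact closure_mono (Set.singleton_subset_iff.mpr hx)
      ((genericPoint_spec X).specializes (Set.mem_univ x)).mem_closure
  have hfaith : (FEt.restrict U.ι).Faithful := Groth.Agent.S0237.result U.ι hdense
  refine ⟨?_, hfaith⟩
  set jU := U.fromSpecStalkOfMem (genericPoint X) hη with hjU
  have hfac : X.fromSpecStalk (genericPoint X) = jU ≫ U.ι :=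
    (Scheme.Opens.fromSpecStalkOfMem_ι U (genericPoint X) hη).symm
  have e : FEt.restrict (X.fromSpecStalk (genericPoint X)) ≅ FEt.restrict U.ι ⋙ FEt.restrict jU :=
    MorphismProperty.Over.pullbackComp jU U.ι (X.fromSpecStalk (genericPoint X)) hfac
  haveI : (FEt.restrict (X.fromSpecStalk (genericPoint X))).Full :=
    Groth.Agent.Lib.Helper4.FEtNormal.full_restrict_genericPoint hX
  haveI : (FEt.restrict U.ι ⋙ FEt.restrict jU).Full := Functor.Full.of_iso e
  haveI : (FEt.restrict jU).Faithful := by
    apply Groth.Agent.S0237.result
    intro u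
    have hmem : (⟨genericPoint X, hη⟩ : U) ∈ Set.range jU := by
      obtain ⟨z⟩ : Nonempty (Spec (X.presheaf.stalk (genericPoint X))) := inferInstance
      refine ⟨z, ?_⟩
      apply Subtype.ext
      have h1 : U.ι (jU z) = (X.fromSpecStalk (genericPoint X)) z := by
        rw [hfac]; rfl
      have h2 : (X.fromSpecStalk (genericPoint X)) z ⤳ genericPoint X := by
        have : (X.fromSpecStalk (genericPoint X)) z ∈
            Set.range (X.fromSpecStalk (genericPoint X)) := ⟨z, rfl⟩
        rwa [Scheme.range_fromSpecStalk] at this
      have h3 : genericPoint X ⤳ (X.fromSpecStalk (genericPoint X)) z :=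
        (genericPoint_spec X).specializes (Set.mem_univ _)
      have h4 : (X.fromSpecStalk (genericPoint X)) z = genericPoint X :=
        (h2.antisymm h3).eq
      exact h1.trans h4
    have hsp : (⟨genericPoint X, hη⟩ : U) ⤳ u := by
      rw [subtype_specializes_iff]
      exact (genericPoint_spec X).specializes (Set.mem_univ _)
    exact closure_mono (Set.singleton_subset_iff.mpr hmem) hsp.mem_closure
  exact Functor.Full.of_comp_faithful (FEt.restrict U.ι) (FEt.restrict jU)

end Groth.Agent.S0244
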