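import Groth.Statements.S0245
import Groth.Agent.Lib.Helper4FEtNormal
import Groth.Agent.S0237

set_option autoImplicit false
set_option linter.style.haveILetI false
universe u
open Pi1

namespace Groth.Agent.S0245

open AlgebraicGeometry CategoryTheory CategoryTheory.Limits in
/-- For a normal integral scheme X, restricting finite étale covers of X along the canonical morphism
from the spectrum of the local ring at the generic point (the spectrum of the function field) is a
full and faithful functor. -/
theorem result {X : Scheme.{u}} [IsIntegral X] (hX : Pi1.IsNormalScheme X) :
    (FEt.restrict (X.fromSpecStalk (genericPoint X))).Full ∧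
    (FEt.restrict (X.fromSpecStalk (genericPoint X))).Faithful := by
  refine ⟨Groth.Agent.Lib.Helper4.FEtNormal.full_restrict_genericPoint hX, ?_⟩
  apply Groth.Agent.S0237.result
  have hr : Set.range (X.fromSpecStalk (genericPoint X)) = {y | y ⤳ genericPoint X} :=
    Scheme.range_fromSpecStalk
  intro x
  have hx : genericPoint X ∈ Set.range (X.fromSpecStalk (genericPoint X)) := by
    rw [hr]; exact specializes_rfl
  exact closure_mono (Set.singleton_subset_iff.mpr hx)
    ((genericPoint_spec X).specializes (Set.mem_univ x)).mem_closure

end Groth.Agent.S0245
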