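import Groth.Statements.S0249
import Mathlib
-- import your own Groth.Agent.* helpers here

set_option autoImplicit false
universe u
open Pi1

namespace Groth.Agent.S0249

open AlgebraicGeometry CategoryTheory CategoryTheory.Limits in
/-- Let A be a Noetherian local ring of dimension at least 1 and f an element of its maximal ideal. Then
some prime ideal of height exactly 1 contains f. -/
theorem result (A : Type u) [CommRing A] [IsNoetherianRing A] [IsLocalRing A]
    (h : (1 : WithBot ℕ∞) ≤ ringKrullDim A) (f : A) (hf : f ∈ IsLocalRing.maximalIdeal A) :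
    ∃ p : Ideal A, p.IsPrime ∧ f ∈ p ∧ p.height = 1 := by
  classical
  let m := IsLocalRing.maximalIdeal A
  let S : Set (Ideal A) := {q | q.IsPrime ∧ f ∈ q ∧ 1 ≤ q.height}
  have hmS : m ∈ S := by
    refine ⟨inferInstance, hf, ?_⟩
    have h1 : (m.height : WithBot ℕ∞) = ringKrullDim A :=
      IsLocalRing.maximalIdeal_height_eq_ringKrullDim
    rw [← h1] at h
    exact_mod_cast h
  obtain ⟨q, hqS, hqmin⟩ :=
    (InvImage.wf (fun q : Ideal A => q.height) wellFounded_lt).has_min S ⟨m, hmS⟩
  obtain ⟨hqp, hfq, hq1⟩ := hqS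
  refine ⟨q, hqp, hfq, le_antisymm ?_ hq1⟩
  by_contra hcon
  -- get p1 < q with 1 ≤ ht p1
  have h2 : ¬ (∀ p1 : Ideal A, p1.IsPrime → p1 < q → p1.height < ((1 : ℕ) : ℕ∞)) := by
    intro h3
    exact hcon ((Ideal.height_le_iff (n := 1)).mpr h3)
  push Not at h2
  obtain ⟨p1, hp1p, hp1q, hp1h⟩ := h2
  have hp1h' : 1 ≤ p1.height := by exact_mod_cast hp1h
  have h4 : ¬ (∀ p0 : Ideal A, p0.IsPrime → p0 < p1 → p0.height < ((0 : ℕ) : ℕ∞)) := by
    intro h5
    have : p1.height ≤ ((0 : ℕ) : ℕ∞) := (Ideal.height_le_iff (n := 0)).mpr h5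
    have h6 : p1.height = 0 := by simpa using this
    rw [h6] at hp1h'
    exact absurd hp1h' (by norm_num)
  push Not at h4
  obtain ⟨p0, hp0p, hp0p1, -⟩ := h4
  have hp0q : p0 < q := hp0p1.trans hp1q
  by_cases hfp0 : f ∈ p0
  · -- p1 ∈ S with smaller height
    have hp1S : p1 ∈ S := ⟨hp1p, hp0p1.le hfp0, hp1h'⟩
    exact hqmin p1 hp1S (Ideal.height_strict_mono_of_isPrime_of_isPrime hp1q)
  · -- P minimal over p0 ⊔ span {f} inside q
    have hle : p0 ⊔ Ideal.span {f} ≤ q :=
      sup_le hp0q.le ((Ideal.span_singleton_le_iff_mem q).mpr hfq)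
    obtain ⟨P, hPmin, hPq⟩ := Ideal.exists_minimalPrimes_le hle
    have hPp : P.IsPrime := hPmin.1.1
    have hP1 : (P.map (Ideal.Quotient.mk p0)).height ≤ 1 :=
      Ideal.map_height_le_one_of_mem_minimalPrimes hPmin
    have hp0P : p0 ≤ P := le_sup_left.trans hPmin.1.2
    have hfP : f ∈ P := hPmin.1.2 (Ideal.mem_sup_right (Ideal.mem_span_singleton_self f))
    have hp0P' : p0 < P := lt_of_le_of_ne hp0P (fun h => hfp0 (h ▸ hfP))
    -- P ≠ q
    have hcomap : ∀ a : Ideal A, p0 ≤ a →
        (a.map (Ideal.Quotient.mk p0)).comap (Ideal.Quotient.mk p0) = a := by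
      intro a ha
      rw [Ideal.comap_map_of_surjective _ Ideal.Quotient.mk_surjective, ← RingHom.ker_eq_comap_bot,
        Ideal.mk_ker, sup_eq_left.mpr ha]
    have hprime : ∀ a : Ideal A, a.IsPrime → p0 ≤ a → (a.map (Ideal.Quotient.mk p0)).IsPrime := by
      intro a ha hpa
      exact Ideal.map_isPrime_of_surjective Ideal.Quotient.mk_surjective
        (by rw [Ideal.mk_ker]; exact hpa)
    have hlt : ∀ a b : Ideal A, p0 ≤ a → a < b →
        a.map (Ideal.Quotient.mk p0) < b.map (Ideal.Quotient.mk p0) := by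
      intro a b ha hab
      refine lt_of_le_of_ne (Ideal.map_mono hab.le) (fun h => ?_)
      have := congrArg (Ideal.comap (Ideal.Quotient.mk p0)) h
      rw [hcomap a ha, hcomap b (ha.trans hab.le)] at this
      exact hab.ne this
    have hq2 : 2 ≤ (q.map (Ideal.Quotient.mk p0)).height := by
      haveI := hprime p0 hp0p le_rfl
      haveI := hprime p1 hp1p hp0p1.le
      haveI := hprime q hqp hp0q.le
      have h01 := Ideal.height_strict_mono_of_isPrime_of_isPrime (hlt p0 p1 le_rfl hp0p1)
      have h12 := Ideal.height_strict_mono_of_isPrime_of_isPrime (hlt p1 q hp0p1.le hp1q)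
      have h1' : 1 ≤ (p1.map (Ideal.Quotient.mk p0)).height :=
        Order.one_le_iff_pos.mpr (lt_of_le_of_lt zero_le h01)
      have : (1 : ℕ∞) + 1 ≤ (q.map (Ideal.Quotient.mk p0)).height :=
        Order.add_one_le_of_lt (lt_of_le_of_lt h1' h12)
      simpa [one_add_one_eq_two] using this
    have hPneq : P ≠ q := by
      intro h
      rw [h] at hP1
      have := hq2.trans hP1
      exact absurd this (by norm_num)
    have hPq' : P < q := lt_of_le_of_ne hPq hPneq
    have hPS : P ∈ S := by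
      refine ⟨hPp, hfP, ?_⟩
      have := Ideal.height_strict_mono_of_isPrime_of_isPrime hp0P'
      exact Order.one_le_iff_pos.mpr (lt_of_le_of_lt zero_le this)
    exact hqmin P hPS (Ideal.height_strict_mono_of_isPrime_of_isPrime hPq')

end Groth.Agent.S0249
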