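import Groth.Statements.S0252
import Mathlib

set_option autoImplicit false
universe u
open Pi1

namespace Groth.Agent.S0252

open CategoryTheory CategoryTheory.Limits AlgebraicGeometry TopologicalSpace Topology Set

section Top
variable {X : Type*} [TopologicalSpace X]

/-- compact subset of an open in a prespectral space is contained in a compact open inside. -/
lemma exists_compact_open_between [PrespectralSpace X] (K U : Set X) (hK : IsCompact K)
    (hU : IsOpen U) (hKU : K ⊆ U) :
    ∃ V : Set X, IsOpen V ∧ IsCompact V ∧ K ⊆ V ∧ V ⊆ U := by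
  refine hK.induction_on
    (p := fun K'' => ∃ V : Set X, IsOpen V ∧ IsCompact V ∧ K'' ⊆ V ∧ V ⊆ U) ?_ ?_ ?_ ?_
  · exact ⟨∅, isOpen_empty, isCompact_empty, le_rfl, Set.empty_subset _⟩
  · rintro s t hst ⟨V, hVo, hV, htV, hVU⟩
    exact ⟨V, hVo, hV, hst.trans htV, hVU⟩
  · rintro s t ⟨V, hVo, hV, hsV, hVU⟩ ⟨V', hVo', hV', htV', hV'U⟩
    exact ⟨V ∪ V', hVo.union hVo', hV.union hV', Set.union_subset_union hsV htV',
      Set.union_subset hVU hV'U⟩
  · intro x hx
    obtain ⟨W, ⟨hWo, hWc⟩, hxW, hWU⟩ :=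
      PrespectralSpace.isTopologicalBasis.exists_subset_of_mem_open (hKU hx) hU
    exact ⟨W, mem_nhdsWithin_of_mem_nhds (hWo.mem_nhds hxW), W, hWo, hWc, le_rfl, hWU⟩

theorem connectedComponent_eq_iInter_isClopen' [CompactSpace X] [QuasiSeparatedSpace X]
    [PrespectralSpace X] (x : X) :
    connectedComponent x = ⋂ s : { s : Set X // IsClopen s ∧ x ∈ s }, s := by
  apply Subset.antisymm connectedComponent_subset_iInter_isClopen
  refine IsPreconnected.subset_connectedComponent ?_ (mem_iInter.2 fun s => s.2.2)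
  have hs : IsClosed (⋂ s : { s : Set X // IsClopen s ∧ x ∈ s }, (s : Set X)) :=
    isClosed_iInter fun s => s.2.1.1
  rw [isPreconnected_iff_subset_of_fully_disjoint_closed hs]
  intro a b ha hb hab ab_disj
  set S : Set X := ⋂ s : { s : Set X // IsClopen s ∧ x ∈ s }, (s : Set X) with hS
  have hdis : Disjoint (a ∩ S) (b ∩ S) := ab_disj.mono inter_subset_left inter_subset_left
  obtain ⟨U, hUo, hUc, hBU, hUC⟩ := exists_compact_open_between (a ∩ S) (b ∩ S)ᶜ
    ((ha.inter hs).isCompact) (hb.inter hs).isOpen_compl hdis.subset_compl_right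
  obtain ⟨V, hVo, hVc, hCV, hVB⟩ := exists_compact_open_between (b ∩ S) (a ∩ S)ᶜ
    ((hb.inter hs).isCompact) (ha.inter hs).isOpen_compl hdis.subset_compl_left
  have hSUV : S ⊆ U ∪ V := by
    intro y hy
    rcases hab hy with h | h
    · exact Or.inl (hBU ⟨h, hy⟩)
    · exact Or.inr (hCV ⟨h, hy⟩)
  have hUVS : (U ∩ V) ∩ S = ∅ := by
    ext y
    simp only [mem_inter_iff, mem_empty_iff_false, iff_false, not_and]
    rintro ⟨hyU, hyV⟩ hyS
    rcases hab hyS with h | h
    · exact hVB hyV ⟨h, hyS⟩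
    · exact hUC hyU ⟨h, hyS⟩
  obtain ⟨u₁, hu₁⟩ := (QuasiSeparatedSpace.inter_isCompact U V hUo hUc hVo hVc).elim_finite_subfamily_closed
    (fun s : { s : Set X // IsClopen s ∧ x ∈ s } => (s : Set X)) (fun s => s.2.1.1) hUVS
  have hcompl : (U ∪ V)ᶜ ∩ S = ∅ := by
    ext y
    simp only [mem_inter_iff, mem_compl_iff, mem_empty_iff_false, iff_false, not_and]
    intro hy hyS
    exact hy (hSUV hyS)
  obtain ⟨u₂, hu₂⟩ := ((hUo.union hVo).isClosed_compl.isCompact).elim_finite_subfamily_closed
    (fun s : { s : Set X // IsClopen s ∧ x ∈ s } => (s : Set X)) (fun s => s.2.1.1) hcompl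
  classical
  set Z : Set X := ⋂ i ∈ u₁ ∪ u₂, (i : Set X) with hZdef
  have hZ : IsClopen Z := isClopen_biInter_finset fun s _ => s.2.1
  have hxZ : x ∈ Z := mem_iInter₂.2 fun s _ => s.2.2
  have hSZ : S ⊆ Z := fun y hy => mem_iInter₂.2 fun s _ => mem_iInter.1 hy s
  have hZ1 : Z ⊆ ⋂ i ∈ u₁, (i : Set X) := fun y hy =>
    mem_iInter₂.2 fun s hs' => mem_iInter₂.1 hy s (Finset.mem_union_left _ hs')
  have hZ2 : Z ⊆ ⋂ i ∈ u₂, (i : Set X) := fun y hy =>
    mem_iInter₂.2 fun s hs' => mem_iInter₂.1 hy s (Finset.mem_union_right _ hs')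
  have hZUV : Z ⊆ (U ∩ Z) ∪ (V ∩ Z) := by
    intro y hy
    by_contra hcon
    have : y ∈ (U ∪ V)ᶜ ∩ ⋂ i ∈ u₂, (i : Set X) := by
      refine ⟨fun h => hcon ?_, hZ2 hy⟩
      rcases h with h | h
      · exact Or.inl ⟨h, hy⟩
      · exact Or.inr ⟨h, hy⟩
    rw [hu₂] at this
    exact this
  have hdisj : Disjoint (U ∩ Z) (V ∩ Z) := by
    rw [Set.disjoint_left]
    rintro y ⟨hyU, hyZ⟩ ⟨hyV, -⟩
    have : y ∈ (U ∩ V) ∩ ⋂ i ∈ u₁, (i : Set X) := ⟨⟨hyU, hyV⟩, hZ1 hyZ⟩
    rw [hu₁] at this
    exact this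
  have H1 := isClopen_inter_of_disjoint_cover_clopen hZ hZUV (hUo.inter hZ.isOpen)
    (hVo.inter hZ.isOpen) hdisj
  have H2 := isClopen_inter_of_disjoint_cover_clopen hZ (by rwa [union_comm] at hZUV)
    (hVo.inter hZ.isOpen) (hUo.inter hZ.isOpen) hdisj.symm
  rcases hZUV hxZ with hxU | hxV
  · left
    have hSU : S ⊆ U := fun y hy =>
      ((iInter_subset (fun s : { s : Set X // IsClopen s ∧ x ∈ s } => s.1)
        ⟨Z ∩ (U ∩ Z), H1, ⟨hxZ, hxU⟩⟩) hy).2.1
    intro y hy
    rcases hab hy with h | h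
    · exact h
    · exact absurd ⟨h, hy⟩ (hUC (hSU hy))
  · right
    have hSV : S ⊆ V := fun y hy =>
      ((iInter_subset (fun s : { s : Set X // IsClopen s ∧ x ∈ s } => s.1)
        ⟨Z ∩ (V ∩ Z), H2, ⟨hxZ, hxV⟩⟩) hy).2.1
    intro y hy
    rcases hab hy with h | h
    · exact absurd ⟨h, hy⟩ (hVB (hSV hy))
    · exact h

theorem t2_connectedComponents [CompactSpace X] [QuasiSeparatedSpace X]
    [PrespectralSpace X] : T2Space (ConnectedComponents X) := by
  refine ⟨ConnectedComponents.surjective_coe.forall₂.2 fun a b ne => ?_⟩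
  rw [ConnectedComponents.coe_ne_coe] at ne
  have h := connectedComponent_disjoint ne
  rw [connectedComponent_eq_iInter_isClopen' b, disjoint_iff_inter_eq_empty] at h
  obtain ⟨U, V, hU, ha, hb, rfl⟩ : ∃ (U : Set X) (V : Set (ConnectedComponents X)),
      IsClopen U ∧ connectedComponent a ∩ U = ∅ ∧ connectedComponent b ⊆ U ∧ (↑) ⁻¹' V = U := by
    have h :=
      (isClosed_connectedComponent (α := X)).isCompact.elim_finite_subfamily_closed
        _ (fun s : { s : Set X // IsClopen s ∧ b ∈ s } => s.2.1.1) h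
    obtain ⟨fin_a, ha⟩ := h
    set U : Set X := ⋂ (i : { s // IsClopen s ∧ b ∈ s }) (_ : i ∈ fin_a), i
    have hU : IsClopen U := isClopen_biInter_finset fun i _ => i.2.1
    exact ⟨U, (↑) '' U, hU, ha, subset_iInter₂ fun s _ => s.2.1.connectedComponent_subset s.2.2,
      (connectedComponents_preimage_image U).symm ▸ hU.biUnion_connectedComponent_eq⟩
  rw [ConnectedComponents.isQuotientMap_coe.isClopen_preimage] at hU
  refine ⟨Vᶜ, V, hU.compl.isOpen, hU.isOpen, ?_, hb mem_connectedComponent, disjoint_compl_left⟩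
  exact fun h => flip Set.Nonempty.ne_empty ha ⟨a, mem_connectedComponent, h⟩

end Top


section TopC
variable {X Y : Type*} [TopologicalSpace X] [TopologicalSpace Y]

theorem isHomeomorph_connectedComponentsMap
    [CompactSpace X] [QuasiSeparatedSpace X] [PrespectralSpace X]
    [CompactSpace Y] [QuasiSeparatedSpace Y] [PrespectralSpace Y]
    {f : X → Y} (hf : Continuous f)
    (hinj : ∀ W W' : Set Y, IsClopen W → IsClopen W' → f ⁻¹' W = f ⁻¹' W' → W = W')
    (hsurj : ∀ Z : Set X, IsClopen Z → ∃ W : Set Y, IsClopen W ∧ f ⁻¹' W = Z) :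
    IsHomeomorph hf.connectedComponentsMap := by
  have : T2Space (ConnectedComponents Y) := t2_connectedComponents
  have : T2Space (ConnectedComponents X) := t2_connectedComponents
  rw [isHomeomorph_iff_continuous_bijective]
  refine ⟨hf.connectedComponentsMap_continuous, ?_, ?_⟩
  · -- injective
    intro p q hpq
    obtain ⟨a, rfl⟩ := ConnectedComponents.surjective_coe p
    obtain ⟨b, rfl⟩ := ConnectedComponents.surjective_coe q
    change hf.connectedComponentsMap (ConnectedComponents.mk a) =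
      hf.connectedComponentsMap (ConnectedComponents.mk b) at hpq
    rw [hf.connectedComponentsMap_mk, hf.connectedComponentsMap_mk] at hpq
    have hpq' : connectedComponent (f a) = connectedComponent (f b) :=
      ConnectedComponents.coe_eq_coe.mp hpq
    by_contra hne
    have hne' : connectedComponent a ≠ connectedComponent b := fun h =>
      hne (ConnectedComponents.coe_eq_coe.mpr h)
    have hb : b ∉ connectedComponent a := fun hb => hne' (connectedComponent_eq hb)
    rw [connectedComponent_eq_iInter_isClopen' a, mem_iInter] at hb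
    push Not at hb
    obtain ⟨⟨Z, hZ, haZ⟩, hbZ⟩ := hb
    obtain ⟨W, hW, rfl⟩ := hsurj Z hZ
    have h1 : f b ∈ connectedComponent (f a) := by
      rw [hpq']; exact mem_connectedComponent
    exact hbZ (hW.connectedComponent_subset haZ h1)
  · -- surjective
    by_contra hns
    have hclosed : IsClosed (Set.range hf.connectedComponentsMap) :=
      (isCompact_range hf.connectedComponentsMap_continuous).isClosed
    obtain ⟨c, hc⟩ : ∃ c, c ∉ Set.range hf.connectedComponentsMap := by
      by_contra hcon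
      push Not at hcon
      exact hns fun c => hcon c
    obtain ⟨V, hVclopen, hcV, hVsub⟩ :=
      (isTopologicalBasis_isClopen (X := ConnectedComponents Y)).exists_subset_of_mem_open
        (show c ∈ (Set.range hf.connectedComponentsMap)ᶜ from hc) hclosed.isOpen_compl
    have hVclopen' : IsClopen V := hVclopen
    set W : Set Y := ConnectedComponents.mk ⁻¹' V with hWdef
    have hW : IsClopen W := hVclopen'.preimage ConnectedComponents.continuous_coe
    have hWe : f ⁻¹' W = f ⁻¹' (∅ : Set Y) := by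
      ext x
      simp only [mem_preimage, preimage_empty, mem_empty_iff_false, iff_false, hWdef]
      intro hx
      exact hVsub hx ⟨ConnectedComponents.mk x, hf.connectedComponentsMap_mk x⟩
    have hWempty : W = ∅ := hinj W ∅ hW isClopen_empty hWe
    obtain ⟨y, rfl⟩ := ConnectedComponents.surjective_coe c
    have : y ∈ W := hcV
    rw [hWempty] at this
    exact this

end TopC

section Sch

lemma prop_ι_of_isClopen {Y : Scheme.{u}} (W : Y.Opens) (hW : IsClosed (W : Set Y)) :
    FEt.prop W.ι := by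
  have hc : IsClosedImmersion W.ι :=
    IsClosedImmersion.of_isPreimmersion W.ι (by rw [Scheme.Opens.range_ι]; exact hW)
  exact ⟨inferInstance, inferInstance⟩

lemma isClopen_range_of_prop {U Y : Scheme.{u}} (g : U ⟶ Y) (hg : FEt.prop g) :
    IsClopen (Set.range g) := by
  have h1 : IsFinite g := hg.1
  have h2 : Etale g := hg.2
  exact ⟨g.isClosedMap.isClosed_range, g.isOpenMap.isOpen_range⟩

variable {X Y : Scheme.{u}} (f : X ⟶ Y)

lemma clopen_surj (h : (FEt.restrict f).IsEquivalence) (Z : Set X) (hZ : IsClopen Z) :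
    ∃ W : Set Y, IsClopen W ∧ f ⁻¹' W = Z := by
  let Z' : X.Opens := ⟨Z, hZ.isOpen⟩
  let B : FEt.Cat X := MorphismProperty.Over.mk ⊤ Z'.ι (prop_ι_of_isClopen Z' hZ.isClosed)
  let U : FEt.Cat Y := (FEt.restrict f).objPreimage B
  let e : (FEt.restrict f).obj U ≅ B := (FEt.restrict f).objObjPreimageIso B
  refine ⟨Set.range U.hom, isClopen_range_of_prop U.hom U.prop, ?_⟩
  let eh : pullback U.hom f ⟶ (Z' : Scheme.{u}) := e.hom.left
  have hiso : IsIso eh := by
    have : IsIso e.hom.left := inferInstance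
    exact this
  have hw : eh ≫ Z'.ι = pullback.snd U.hom f := Over.w e.hom.hom
  rw [← Scheme.Pullback.range_snd, ← hw]
  rw [Scheme.Hom.comp_base, TopCat.coe_comp, Set.range_comp,
    Set.range_eq_univ.mpr (eh.surjective), Set.image_univ, Scheme.Opens.range_ι]
  rfl

lemma clopen_le (h : (FEt.restrict f).IsEquivalence) (W W' : Y.Opens)
    (hW : IsClosed (W : Set Y)) (hW' : IsClosed (W' : Set Y))
    (he : f ⁻¹' (W : Set Y) ⊆ f ⁻¹' (W' : Set Y)) : (W : Set Y) ⊆ W' := by
  let A : FEt.Cat Y := MorphismProperty.Over.mk ⊤ W.ι (prop_ι_of_isClopen W hW)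
  let A' : FEt.Cat Y := MorphismProperty.Over.mk ⊤ W'.ι (prop_ι_of_isClopen W' hW')
  have hr : Set.range (pullback.snd W.ι f) ⊆ Set.range (pullback.snd W'.ι f) := by
    rw [Scheme.Pullback.range_snd, Scheme.Pullback.range_snd, Scheme.Opens.range_ι,
      Scheme.Opens.range_ι]
    exact he
  let φ : pullback W.ι f ⟶ pullback W'.ι f :=
    IsOpenImmersion.lift (pullback.snd W'.ι f) (pullback.snd W.ι f) hr
  have hφ : φ ≫ pullback.snd W'.ι f = pullback.snd W.ι f := IsOpenImmersion.lift_fac _ _ _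
  let Φ : (FEt.restrict f).obj A ⟶ (FEt.restrict f).obj A' :=
    MorphismProperty.Over.homMk φ hφ trivial
  let ψ : A ⟶ A' := (FEt.restrict f).preimage Φ
  let ψl : (W : Scheme.{u}) ⟶ (W' : Scheme.{u}) := ψ.left
  have hψ : ψl ≫ W'.ι = W.ι := Over.w ψ.hom
  intro y hy
  have : y ∈ Set.range W.ι := by rw [Scheme.Opens.range_ι]; exact hy
  obtain ⟨w, rfl⟩ := this
  rw [← hψ]
  exact (ψl w).2

end Sch

open AlgebraicGeometry CategoryTheory CategoryTheory.Limits in
/-- Let f be a morphism between quasi-compact quasi-separated schemes such that base change of finite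
etale covers along f is an equivalence. Then the induced map on connected components is a
homeomorphism. -/
theorem result {X Y : Scheme.{u}} [CompactSpace X] [QuasiSeparatedSpace X] [CompactSpace Y] [QuasiSeparatedSpace Y]
    (f : X ⟶ Y) (h : (FEt.restrict f).IsEquivalence) :
    IsHomeomorph f.continuous.connectedComponentsMap := by
  refine isHomeomorph_connectedComponentsMap f.continuous ?_ ?_
  · intro W W' hW hW' he
    exact Set.Subset.antisymm
      (clopen_le f h ⟨W, hW.isOpen⟩ ⟨W', hW'.isOpen⟩ hW.isClosed hW'.isClosed he.le)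
      (clopen_le f h ⟨W', hW'.isOpen⟩ ⟨W, hW.isOpen⟩ hW'.isClosed hW.isClosed he.ge)
  · exact clopen_surj f h

end Groth.Agent.S0252
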