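import Groth.Statements.S0258
import Mathlib
import Groth.Agent.S7757
import Groth.Agent.Lib.Helper22Hartogs
import Groth.Agent.Lib.Helper20IsoDepth

set_option autoImplicit false
universe u
open Pi1

namespace Groth.Agent.S0258

set_option linter.style.haveILetI false

open AlgebraicGeometry CategoryTheory CategoryTheory.Limits

theorem bijective_app_punctured (A : Type u) [CommRing A] [IsNoetherianRing A] [IsLocalRing A]
    (hA : (2 : ℕ∞) ≤ LocCoh.depth A A) (V : (Spec (CommRingCat.of A)).Opens) :
    Function.Bijective ((FEt.puncturedSpec A).ι.app V) := by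
  by_cases hV : IsLocalRing.closedPoint A ∈ V
  · obtain rfl : V = ⊤ := IsLocalRing.closed_point_mem_iff.mp hV
    obtain ⟨a, ham, b, hbm, ha, hb⟩ :=
      Groth.Agent.Lib.Helper20.IsoDepth.exists_regular_pair (O := A) (M' := A) hA
    let e : A ≃+* Γ(Spec (CommRingCat.of A), ⊤) :=
      (Scheme.ΓSpecIso (CommRingCat.of A)).symm.commRingCatIsoToRingEquiv
    have ha' : IsSMulRegular Γ(Spec (CommRingCat.of A), ⊤) (e a) := by
      intro x y hxy
      have h1 : a • e.symm x = a • e.symm y := by
        have := congrArg e.symm hxy
        simpa [smul_eq_mul] using this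
      exact e.symm.injective (ha h1)
    have hb' : ∀ u : Γ(Spec (CommRingCat.of A), ⊤), (∃ v, e b * u = e a * v) →
        ∃ w, u = e a * w := by
      rintro u ⟨v, huv⟩
      obtain ⟨w, hw⟩ := hb (e.symm u) ⟨e.symm v, by
        have := congrArg e.symm huv
        simpa [smul_eq_mul] using this⟩
      refine ⟨e w, ?_⟩
      have := congrArg e hw
      simpa [smul_eq_mul] using this
    have hD : ∀ c ∈ IsLocalRing.maximalIdeal A,
        (Spec (CommRingCat.of A)).basicOpen (e c) ≤
          (FEt.puncturedSpec A).ι ''ᵁ ((FEt.puncturedSpec A).ι ⁻¹ᵁ ⊤) := by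
      intro c hc
      have h1 : (Spec (CommRingCat.of A)).basicOpen (e c) = PrimeSpectrum.basicOpen c :=
        basicOpen_eq_of_affine (R := CommRingCat.of A) c
      rw [h1]
      intro p hp
      have hp' : p ∈ (FEt.puncturedSpec A) := by
        change p ∈ ({IsLocalRing.closedPoint A}ᶜ : Set (PrimeSpectrum A))
        rintro rfl
        exact hp hc
      simpa using hp'
    rw [Scheme.Opens.ι_app]
    exact Groth.Agent.Lib.Helper22.Hartogs.bijective_res (e a) (e b) ha' hb' _ (hD a ham) (hD b hbm)
  · have hle : V ≤ (FEt.puncturedSpec A).ι.opensRange := by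
      rw [Scheme.Opens.opensRange_ι]
      intro p hp
      change p ∈ ({IsLocalRing.closedPoint A}ᶜ : Set (PrimeSpectrum A))
      rintro rfl
      exact hV hp
    have : IsIso ((FEt.puncturedSpec A).ι.app V) := (FEt.puncturedSpec A).ι.isIso_app V hle
    exact (ConcreteCategory.isIso_iff_bijective _).mp this

open AlgebraicGeometry CategoryTheory CategoryTheory.Limits in
/-- For a Noetherian local ring A of depth at least 2, the functor restricting finite étale covers of
Spec A to the punctured spectrum is fully faithful (full and faithful). The published statement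
assumes instead that the punctured spectrum of the strict henselization of A is connected; depth at
least 2 is a sufficient condition for this, and the result is stated here under that hypothesis. -/
theorem result (A : Type u) [CommRing A] [IsNoetherianRing A] [IsLocalRing A] (hA : (2 : ℕ∞) ≤ LocCoh.depth A A) :
    (FEt.restrict (FEt.puncturedSpec A).ι).Full ∧ (FEt.restrict (FEt.puncturedSpec A).ι).Faithful := by
  exact Groth.Agent.S7757.result _ (bijective_app_punctured A hA)

end Groth.Agent.S0258
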