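import Groth.Statements.S0259
import Mathlib
import Groth.Agent.S7757
import Groth.Agent.Lib.Helper22Hartogs2

set_option autoImplicit false
universe u
open Pi1

namespace Groth.Agent.S0259

set_option linter.style.haveILetI false

open AlgebraicGeometry CategoryTheory CategoryTheory.Limits

open AlgebraicGeometry CategoryTheory CategoryTheory.Limits in
/-- Let X be a Noetherian scheme and U ⊆ X a dense open subscheme such that at every point x outside U
the local ring 𝒪_{X,x} has depth at least 2. Then the functor restricting finite étale covers of X
to U is full and faithful. (The published statement assumes instead that the punctured spectra of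
the strict henselizations of X at the points outside U are connected; depth at least 2 is a
sufficient condition for this and is what is assumed here.) -/
theorem result {X : Scheme.{u}} [IsNoetherian X] (U : X.Opens) (hU : Dense (U : Set X))
    (h : ∀ x : X, x ∉ U → (2 : ℕ∞) ≤ LocCoh.depth (X.presheaf.stalk x) (X.presheaf.stalk x)) :
    (FEt.restrict U.ι).Full ∧ (FEt.restrict U.ι).Faithful := by
  apply Groth.Agent.S7757.result
  intro V
  rw [Scheme.Opens.ι_app]
  refine Groth.Agent.Lib.Helper22.Hartogs.bijective_res_of_depth U h V _ _ ?_ ?_
  · rintro x ⟨hxV, hxU⟩
    exact ⟨⟨x, hxU⟩, hxV, rfl⟩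
  · rintro _ ⟨x, -, rfl⟩
    exact x.2

end Groth.Agent.S0259
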