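import Groth.Statements.S0263
import Mathlib
import Groth.Agent.S0258

set_option autoImplicit false
universe u
open Pi1

namespace Groth.Agent.S0263

open AlgebraicGeometry CategoryTheory CategoryTheory.Limits

theorem aux (A : Type u) [CommRing A] [IsNoetherianRing A] [IsLocalRing A]
    (hA : (2 : ℕ∞) ≤ LocCoh.depth A A)
    {Yl Vl : Scheme.{u}} (h : Yl ⟶ Spec (CommRingCat.of A)) [IsFinite h] [Etale h]
    (v : Vl ⟶ (FEt.puncturedSpec A : Scheme.{u}))
    (ε : pullback h (FEt.puncturedSpec A).ι ≅ Vl)
    (hε : ε.hom ≫ v = pullback.snd h (FEt.puncturedSpec A).ι) :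
    ((Scheme.ΓSpecIso (CommRingCat.of A)).inv ≫ (v ≫ (FEt.puncturedSpec A).ι).appTop).hom.Finite ∧
    ((Scheme.ΓSpecIso (CommRingCat.of A)).inv ≫ (v ≫ (FEt.puncturedSpec A).ι).appTop).hom.Etale := by
  have hYaff : IsAffine Yl := isAffine_of_isAffineHom h
  -- the pullback square
  have H : IsPullback (pullback.fst h (FEt.puncturedSpec A).ι) (pullback.snd h (FEt.puncturedSpec A).ι) h (FEt.puncturedSpec A).ι :=
    IsPullback.of_hasPullback h (FEt.puncturedSpec A).ι
  have hp : Function.Bijective (pullback.fst h (FEt.puncturedSpec A).ι).appTop :=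
    Groth.Agent.S7757.key' H (Groth.Agent.S0258.bijective_app_punctured A hA) ⊤
      (isAffineOpen_top _) ⊤ rfl
  have hpiso : IsIso (pullback.fst h (FEt.puncturedSpec A).ι).appTop :=
    (ConcreteCategory.isIso_iff_bijective _).mpr hp
  have hεiso : IsIso ε.hom.appTop := by
    change IsIso (ε.hom.app ⊤)
    infer_instance
  have hcomm : (Scheme.ΓSpecIso (CommRingCat.of A)).inv ≫ (v ≫ (FEt.puncturedSpec A).ι).appTop =
      ((Scheme.ΓSpecIso (CommRingCat.of A)).inv ≫ h.appTop) ≫
        ((pullback.fst h (FEt.puncturedSpec A).ι).appTop ≫ inv ε.hom.appTop) := by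
    rw [Category.assoc, ← Category.assoc h.appTop, ← Scheme.Hom.comp_appTop, H.w,
      ← hε, Scheme.Hom.comp_appTop, Scheme.Hom.comp_appTop, Scheme.Hom.comp_appTop]
    simp only [Category.assoc, IsIso.hom_inv_id, Category.comp_id]
  rw [hcomm]
  -- h.appTop finite etale
  have h1 : (h.appTop).hom.Finite := h.finite_appTop
  have h2 : (h.appTop).hom.Etale :=
    (HasRingHomProperty.iff_of_isAffine (P := @Etale) (f := h)).mp inferInstance
  constructor
  · rw [CommRingCat.hom_comp, CommRingCat.hom_comp]
    refine RingHom.Finite.comp ?_ (RingHom.Finite.comp h1 ?_)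
    · exact RingHom.Finite.of_surjective _
        ((ConcreteCategory.isIso_iff_bijective
          ((pullback.fst h (FEt.puncturedSpec A).ι).appTop ≫ inv ε.hom.appTop)).mp inferInstance).2
    · exact RingHom.Finite.of_surjective _
        ((ConcreteCategory.isIso_iff_bijective
          (Scheme.ΓSpecIso (CommRingCat.of A)).inv).mp inferInstance).2
  · rw [CommRingCat.hom_comp, CommRingCat.hom_comp]
    refine RingHom.Etale.stableUnderComposition _ _
      (RingHom.Etale.stableUnderComposition _ _ ?_ h2) ?_
    · exact RingHom.Etale.of_bijective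
        ((ConcreteCategory.isIso_iff_bijective
          (Scheme.ΓSpecIso (CommRingCat.of A)).inv).mp inferInstance)
    · exact RingHom.Etale.of_bijective
        ((ConcreteCategory.isIso_iff_bijective
          ((pullback.fst h (FEt.puncturedSpec A).ι).appTop ≫ inv ε.hom.appTop)).mp inferInstance)

open AlgebraicGeometry CategoryTheory CategoryTheory.Limits in
/-- Let A be a Noetherian local ring of depth at least 2 and V a finite étale cover of the punctured
spectrum of A which is isomorphic to the restriction of some finite étale cover of Spec A. Then the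
ring of global sections Γ(V, O_V) is finite and étale over A, via the ring map A → Γ(V, O_V) induced
by the composite V → Spec A. (Only this implication of the published statement is asserted here; its
converse is not.) -/
theorem result (A : Type u) [CommRing A] [IsNoetherianRing A] [IsLocalRing A] (hA : (2 : ℕ∞) ≤ LocCoh.depth A A)
    (V : FEt.Cat (FEt.puncturedSpec A : Scheme.{u}))
    (hV : ∃ Y : FEt.Cat (Spec (CommRingCat.of A)),
      Nonempty ((FEt.restrict (FEt.puncturedSpec A).ι).obj Y ≅ V)) :
    ((Scheme.ΓSpecIso (CommRingCat.of A)).inv ≫ (V.hom ≫ (FEt.puncturedSpec A).ι).appTop).hom.Finite ∧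
    ((Scheme.ΓSpecIso (CommRingCat.of A)).inv ≫ (V.hom ≫ (FEt.puncturedSpec A).ι).appTop).hom.Etale := by
  obtain ⟨Y, ⟨e⟩⟩ := hV
  have hfin : IsFinite Y.hom := Y.prop.1
  have het : Etale Y.hom := Y.prop.2
  exact aux A hA Y.hom V.hom ((MorphismProperty.Over.forget _ _ _ ⋙ Over.forget _).mapIso e)
    (Over.w e.hom.hom)

end Groth.Agent.S0263
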