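import Groth.Statements.S0266
import Mathlib
import Groth.Agent.Lib.Helper21Gal

set_option autoImplicit false
universe u v w
open Pi1

namespace Groth.Agent.S0266

open CategoryTheory CategoryTheory.Limits in
/-- Transported along the equivalence of a Galois category with finite continuous G-sets : on a Galois
category in Mathlib's sense, every functor to finite sets that preserves finite limits and finite
colimits is isomorphic to the fibre functor. In particular two fibre functors are isomorphic. -/
theorem result {C : Type u} [Category.{v} C] [GaloisCategory C]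
    (F : C ⥤ FintypeCat.{w}) [PreGaloisCategory.FiberFunctor F] (F' : C ⥤ FintypeCat.{w})
    [PreservesFiniteLimits F'] [PreservesFiniteColimits F'] : Nonempty (F' ≅ F) := by
  classical
  open CategoryTheory CategoryTheory.Limits PreGaloisCategory in
  refine Groth.Agent.Lib.Helper21.Gal.exists_iso_of_preservesFiniteLimits F F' (fun X hX => ?_)
  by_contra hni
  have hni' : IsInitial X → False := fun hi => hni ⟨hi⟩
  have hne : Nonempty (F.obj X) := (not_initial_iff_fiber_nonempty F X).mp hni'
  obtain ⟨A, f, hgal⟩ := exists_hom_from_galois_of_fiber_nonempty F X hne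
  haveI := hgal
  -- `A ⟶ ⊤` is an epimorphism
  have hT : IsTerminal (F.obj (⊤_ C)) := IsTerminal.isTerminalObj F (⊤_ C) terminalIsTerminal
  obtain ⟨a⟩ := nonempty_fiber_of_isConnected F A
  have hsurj : Function.Surjective (F.map (terminal.from A)) := by
    intro t
    refine ⟨a, ?_⟩
    let fa : FintypeCat.of PUnit.{w + 1} ⟶ F.obj (⊤_ C) :=
      FintypeCat.homMk (fun _ => F.map (terminal.from A) a)
    let fb : FintypeCat.of PUnit.{w + 1} ⟶ F.obj (⊤_ C) := FintypeCat.homMk (fun _ => t)
    exact ConcreteCategory.congr_hom (hT.hom_ext fa fb) PUnit.unit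
  haveI : Epi (F.map (terminal.from A)) := ConcreteCategory.epi_of_surjective _ hsurj
  haveI : Epi (terminal.from A) := F.epi_of_epi_map inferInstance
  haveI : Epi (F'.map (terminal.from A)) := inferInstance
  have hsurj' : Function.Surjective (F'.map (terminal.from A)) :=
    ConcreteCategory.surjective_of_epi_of_preservesPushout _
  have hT' : IsTerminal (F'.obj (⊤_ C)) := IsTerminal.isTerminalObj F' (⊤_ C) terminalIsTerminal
  let t' : F'.obj (⊤_ C) := (hT'.from (FintypeCat.of PUnit.{w + 1})) PUnit.unit
  obtain ⟨a', -⟩ := hsurj' t'
  exact hX.false (F'.map f a')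

end Groth.Agent.S0266
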