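import Groth.Statements.S0270
import Mathlib
import Groth.Agent.Lib.Helper20HESQuot
import Groth.Agent.Lib.Helper20PurInsepSec

set_option autoImplicit false
universe u
open Pi1

namespace Groth.Agent.S0270
open AlgebraicGeometry CategoryTheory CategoryTheory.Limits

open Groth.Agent.Lib.Helper20.FieldLim Groth.Agent.Lib.Helper20.PurInsep
  Groth.Agent.Lib.Helper20.HES Groth.Agent.Lib.Helper20.GalSpecField
  Groth.Agent.Lib.Helper20.CoeqCat Groth.Agent.Lib.Helper20.CoeqRestrict
  Groth.Agent.Lib.Helper20.GalCat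

/-- the spectrum of a finite separable subextension as a finite étale cover of `Spec k` -/
theorem finite_etale_sp {k : Type u} [Field k] (E : FinSub k (ksep k)) :
    IsFinite (sp (ksep k) E) ∧ Etale (sp (ksep k) E) := by
  haveI := E.2
  haveI : Algebra.IsSeparable k (ksep k) := separableClosure.isSeparable k (AlgebraicClosure k)
  haveI : Algebra.IsSeparable k E.1 := Algebra.isSeparable_tower_bot_of_isSeparable k E.1 (ksep k)
  constructor
  · rw [IsFinite.SpecMap_iff]
    exact RingHom.finite_algebraMap.mpr inferInstance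
  · rw [HasRingHomProperty.Spec_iff (P := @Etale)]
    haveI : Algebra.FormallyEtale k E.1 := Algebra.FormallyEtale.of_isSeparable k E.1
    haveI : Algebra.FinitePresentation k E.1 :=
      Algebra.FinitePresentation.of_finiteType.mp inferInstance
    haveI : Algebra.Etale k E.1 := ⟨inferInstance, inferInstance⟩
    exact RingHom.etale_algebraMap.mpr inferInstance

theorem exists_surjective_of_family {S X : Scheme.{u}} (f : X ⟶ S) {ι : Type u} [Finite ι]
    (T : FEt.Cat S) (U : FEt.Cat X) (A : ι → ((FEt.restrict f).obj T ⟶ U)) :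
    ∃ (V : FEt.Cat S) (e : (FEt.restrict f).obj V ⟶ U),
      ∀ i, Set.range (A i).left ⊆ Set.range e.left := by
  let F := FEt.restrict f
  haveI : PreservesColimit (Discrete.functor fun _ : ι => T) F := inferInstance
  refine ⟨∐ fun _ : ι => T, (PreservesCoproduct.iso F (fun _ : ι => T)).hom ≫ Sigma.desc A, ?_⟩
  intro i
  have h1 : F.map (Sigma.ι (fun _ : ι => T) i) ≫ (PreservesCoproduct.iso F (fun _ : ι => T)).hom =
      Sigma.ι (fun _ : ι => F.obj T) i := by
    rw [← ι_comp_sigmaComparison F (fun _ : ι => T) i, ← PreservesCoproduct.inv_hom,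
      Category.assoc, Iso.inv_hom_id, Category.comp_id]
  have h2 : F.map (Sigma.ι (fun _ : ι => T) i) ≫
      ((PreservesCoproduct.iso F (fun _ : ι => T)).hom ≫ Sigma.desc A) = A i := by
    rw [reassoc_of% h1, Sigma.ι_desc]
  rintro _ ⟨x, rfl⟩
  refine ⟨(F.map (Sigma.ι (fun _ : ι => T) i)).left x, ?_⟩
  rw [← Scheme.Hom.comp_apply, ← MorphismProperty.Comma.comp_left, h2]


open AlgebraicGeometry CategoryTheory CategoryTheory.Limits in
/-- (Exactness of the homotopy sequence of etale fundamental groups at pi_1(X), in functor form.) Let X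
be quasi-compact and quasi-separated over a field k with X_{kbar} connected, kbar an algebraic
closure of k. If a finite etale cover U of X becomes completely split (a disjoint union of copies of
X_{kbar}) after base change to kbar, then there are a finite etale k-scheme V and an X-morphism from
V x_k X to U which is surjective. -/
theorem result (k : Type u) [Field k] {X : Scheme.{u}} (f : X ⟶ Spec (CommRingCat.of k)) [CompactSpace X]
    [QuasiSeparatedSpace X]
    [ConnectedSpace ↥(pullback f (Spec.map (CommRingCat.ofHom (algebraMap k (AlgebraicClosure k)))))]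
    (U : FEt.Cat X) (hU : Pi1.IsSplit ((FEt.restrict (pullback.fst f (Spec.map (CommRingCat.ofHom (algebraMap k (AlgebraicClosure k)))))).obj U)) :
    ∃ (V : FEt.Cat (Spec (CommRingCat.of k))) (e : (FEt.restrict f).obj V ⟶ U), Surjective e.left := by
  have hU' : IsFinite U.hom ∧ Etale U.hom := U.prop
  haveI := hU'.1
  haveI := hU'.2
  let g' : U.left ⟶ X := U.hom
  obtain ⟨ι, hfin, e₀, he₀⟩ := hU
  let Xb : Scheme.{u} := pullback f (xi k)
  let p₁ : pullback g' (pullback.fst f (xi k)) ⟶ U.left := pullback.fst g' (pullback.fst f (xi k))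
  let p₂ : pullback g' (pullback.fst f (xi k)) ⟶ Xb := pullback.snd g' (pullback.fst f (xi k))
  let e₁ : pullback g' (pullback.fst f (xi k)) ≅ ∐ fun _ : ι => Xb := e₀
  have he₁ : ∀ i : ι, Sigma.ι (fun _ : ι => Xb) i ≫ e₁.inv ≫ p₂ = 𝟙 Xb := he₀
  let σ : ι → (Xb ⟶ U.left) := fun i => Sigma.ι (fun _ : ι => Xb) i ≫ e₁.inv ≫ p₁
  have hσ : ∀ i, σ i ≫ g' = pullback.fst f (xi k) := by
    intro i
    change (Sigma.ι (fun _ : ι => Xb) i ≫ e₁.inv ≫ p₁) ≫ g' = _
    rw [Category.assoc, Category.assoc, pullback.condition, ← Category.assoc e₁.inv,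
      ← Category.assoc, he₁ i, Category.id_comp]
  choose a ha hta using fun i => exists_descend_sep k f g' (σ i) (hσ i)
  choose E aE haE1 haE2 using fun i => exists_factor (ksep k) f g' (a i) (ha i)
  obtain ⟨E₀, hE₀⟩ := Finite.exists_le E
  let a'' : ι → (XE (ksep k) f E₀ ⟶ U.left) := fun i => tr (ksep k) f (hE₀ i) ≫ aE i
  have ha''1 : ∀ i, pr (ksep k) f E₀ ≫ a'' i = a i := by
    intro i
    change pr (ksep k) f E₀ ≫ tr (ksep k) f (hE₀ i) ≫ aE i = a i
    rw [← Category.assoc, pr_tr, haE1]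
  have ha''2 : ∀ i, a'' i ≫ g' = pullback.fst f (sp (ksep k) E₀) := by
    intro i
    change (tr (ksep k) f (hE₀ i) ≫ aE i) ≫ g' = _
    rw [Category.assoc, haE2, tr_fst]
  let T : FEt.Cat (Spec (CommRingCat.of k)) :=
    MorphismProperty.Over.mk ⊤ (sp (ksep k) E₀) (finite_etale_sp E₀)
  let A : ι → ((FEt.restrict f).obj T ⟶ U) := fun i =>
    MorphismProperty.Over.homMk ((pullbackSymmetry (sp (ksep k) E₀) f).hom ≫ a'' i) (by
      change ((pullbackSymmetry (sp (ksep k) E₀) f).hom ≫ a'' i) ≫ g' =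
        pullback.snd (sp (ksep k) E₀) f
      rw [Category.assoc, ha''2, pullbackSymmetry_hom_comp_fst]) trivial
  obtain ⟨V, e, he⟩ := exists_surjective_of_family f T U A
  refine ⟨V, e, ⟨fun u => ?_⟩⟩
  haveI : Surjective (pullback.fst f (xi k)) :=
    MorphismProperty.pullback_fst (P := @Surjective) f (xi k) inferInstance
  haveI : Surjective p₁ :=
    MorphismProperty.pullback_fst (P := @Surjective) g' (pullback.fst f (xi k)) inferInstance
  obtain ⟨y, rfl⟩ := p₁.surjective u
  obtain ⟨z, rfl⟩ : ∃ z, e₁.inv z = y := ⟨e₁.hom y, by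
    rw [← Scheme.Hom.comp_apply, Iso.hom_inv_id]; rfl⟩
  obtain ⟨⟨i, x⟩, hx⟩ := (sigmaMk (fun _ : ι => Xb)).surjective z
  rw [sigmaMk_mk] at hx
  subst hx
  have h1 : p₁ (e₁.inv (Sigma.ι (fun _ : ι => Xb) i x)) = σ i x := by
    change _ = (Sigma.ι (fun _ : ι => Xb) i ≫ e₁.inv ≫ p₁) x
    rw [Scheme.Hom.comp_apply, Scheme.Hom.comp_apply]
  have h2 : σ i x = (A i).left ((pullbackSymmetry (sp (ksep k) E₀) f).inv
      (pr (ksep k) f E₀ (toSep k f x))) := by
    change _ = ((pullbackSymmetry (sp (ksep k) E₀) f).hom ≫ a'' i)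
      ((pullbackSymmetry (sp (ksep k) E₀) f).inv (pr (ksep k) f E₀ (toSep k f x)))
    rw [← Scheme.Hom.comp_apply, Iso.inv_hom_id_assoc, ← Scheme.Hom.comp_apply,
      ← Scheme.Hom.comp_apply, ha''1, hta]
  rw [h1, h2]
  exact he i ⟨_, rfl⟩

end Groth.Agent.S0270
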