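import Groth.Statements.S0275
import Mathlib.LinearAlgebra.TensorProduct.Finiteness
import Mathlib.LinearAlgebra.TensorProduct.RightExactness
import Mathlib.RingTheory.TensorProduct.Basic
-- import your own Groth.Agent.* helpers here

set_option autoImplicit false
universe u
open scoped TensorProduct
open Pi1

namespace Groth.Agent.S0275

/-- If `R → S` is universally injective and `S ⊗ P = 0` then `P = 0`. -/
theorem subsingleton_of_tensor (R S : Type u) [CommRing R] [CommRing S] [Algebra R S]
    (h : Pi1.UnivInjective R S) (P : Type u) [AddCommGroup P] [Module R P]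
    (hP : Subsingleton (S ⊗[R] P)) : Subsingleton P := by
  have h1 : Subsingleton (P ⊗[R] S) := (TensorProduct.comm R P S).toEquiv.subsingleton
  have h2 : Subsingleton (P ⊗[R] R) := (h P).subsingleton
  exact (TensorProduct.rid R P).symm.toEquiv.subsingleton

/-- If the images of `N ⊆ M` generate `S ⊗ M` as an `S`-module, and `R → S` is universally
injective, then `N = ⊤`. -/
theorem eq_top_of_lTensor_surjective (R S : Type u) [CommRing R] [CommRing S] [Algebra R S]
    (h : Pi1.UnivInjective R S) (M : Type u) [AddCommGroup M] [Module R M] (N : Submodule R M)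
    (hN : Function.Surjective (N.subtype.lTensor S)) : N = ⊤ := by
  have hex : Function.Exact (N.subtype.lTensor S) (N.mkQ.lTensor S) :=
    lTensor_exact S (LinearMap.exact_subtype_mkQ N) (Submodule.mkQ_surjective N)
  have hsurj : Function.Surjective (N.mkQ.lTensor S) :=
    LinearMap.lTensor_surjective S (Submodule.mkQ_surjective N)
  have hsub : Subsingleton (S ⊗[R] (M ⧸ N)) := by
    refine ⟨fun a b => ?_⟩
    obtain ⟨a', rfl⟩ := hsurj a
    obtain ⟨b', rfl⟩ := hsurj b
    obtain ⟨a'', rfl⟩ := hN a'
    obtain ⟨b'', rfl⟩ := hN b'
    rw [hex.apply_apply_eq_zero, hex.apply_apply_eq_zero]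
  have := subsingleton_of_tensor R S h (M ⧸ N) hsub
  exact Submodule.Quotient.subsingleton_iff.mp this

/-- Let R -> S be universally injective and M an R-module such that S ⊗_R M is finitely generated over
S. Then M is finitely generated over R. -/
theorem result (R S : Type u) [CommRing R] [CommRing S] [Algebra R S]
    (h : Pi1.UnivInjective R S) (M : Type u) [AddCommGroup M] [Module R M]
    [Module.Finite S (S ⊗[R] M)] : Module.Finite R M := by
  obtain ⟨s, hs⟩ := (Module.finite_def (R := S) (M := S ⊗[R] M)).mp inferInstance
  obtain ⟨N, hNfin, hN⟩ :=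
    TensorProduct.exists_finite_submodule_right_of_setFinite (R := R) (M := S) (N := M)
      (s : Set (S ⊗[R] M)) s.finite_toSet
  have hsurj : Function.Surjective (N.subtype.lTensor S) := by
    have hle : Submodule.span S (s : Set (S ⊗[R] M)) ≤ LinearMap.range (N.subtype.baseChange S) := by
      refine Submodule.span_le.mpr ?_
      intro x hx
      obtain ⟨y, hy⟩ := hN hx
      exact ⟨y, hy⟩
    rw [hs] at hle
    intro x
    obtain ⟨y, hy⟩ := hle (Submodule.mem_top (x := x))
    exact ⟨y, hy⟩
  have htop := eq_top_of_lTensor_surjective R S h M N hsurj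
  subst htop
  exact Module.Finite.of_surjective (Submodule.subtype (⊤ : Submodule R M))
    (fun x => ⟨⟨x, Submodule.mem_top⟩, rfl⟩)

end Groth.Agent.S0275
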