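import Groth.Statements.S0276
import Groth.Agent.S0275
import Mathlib.Algebra.Module.FinitePresentation
-- import your own Groth.Agent.* helpers here

set_option autoImplicit false
universe u
open scoped TensorProduct
open Pi1

namespace Groth.Agent.S0276

/-- If `R → S` is universally injective and `1 ⊗ x = 0` in `S ⊗ P` then `x = 0`. -/
theorem eq_zero_of_one_tmul_eq_zero (R S : Type u) [CommRing R] [CommRing S] [Algebra R S]
    (h : Pi1.UnivInjective R S) (P : Type u) [AddCommGroup P] [Module R P] (x : P)
    (hx : (1 : S) ⊗ₜ[R] x = 0) : x = 0 := by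
  have h1 : x ⊗ₜ[R] (1 : S) = 0 := by
    have := congrArg (TensorProduct.comm R S P) hx
    simpa using this
  have h2 : (LinearMap.lTensor P (Algebra.linearMap R S)) (x ⊗ₜ[R] (1 : R)) = 0 := by
    rw [LinearMap.lTensor_tmul, Algebra.linearMap_apply, map_one, h1]
  have h3 : x ⊗ₜ[R] (1 : R) = 0 := h P (by rw [h2, map_zero])
  have := congrArg (TensorProduct.rid R P) h3
  simpa using this

/-- Key step: if `K0 ≤ ker f` and the kernel of `S ⊗ f` is contained in the image of `S ⊗ K0`,
then `ker f ≤ K0`, provided `R → S` is universally injective. -/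
theorem ker_le_of_lTensor (R S : Type u) [CommRing R] [CommRing S] [Algebra R S]
    (h : Pi1.UnivInjective R S) (F M : Type u) [AddCommGroup F] [Module R F]
    [AddCommGroup M] [Module R M] (f : F →ₗ[R] M) (K0 : Submodule R F)
    (hK0 : K0 ≤ LinearMap.ker f)
    (hker : ∀ w : S ⊗[R] F, f.lTensor S w = 0 → ∃ v : S ⊗[R] K0, K0.subtype.lTensor S v = w) :
    LinearMap.ker f ≤ K0 := by
  intro x hx
  let g : (F ⧸ K0) →ₗ[R] M := K0.liftQ f hK0
  have hgS : ∀ z : S ⊗[R] (F ⧸ K0), g.lTensor S z = 0 → z = 0 := by
    intro z hz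
    obtain ⟨w, rfl⟩ := LinearMap.lTensor_surjective S (Submodule.mkQ_surjective K0) z
    have hw : f.lTensor S w = 0 := by
      rw [← hz, ← LinearMap.comp_apply, ← LinearMap.lTensor_comp]
      congr 2
    obtain ⟨v, rfl⟩ := hker w hw
    rw [← LinearMap.comp_apply, ← LinearMap.lTensor_comp]
    have : K0.mkQ ∘ₗ K0.subtype = 0 := by
      ext y
      simp
    rw [this, LinearMap.lTensor_zero, LinearMap.zero_apply]
  have hx0 : K0.mkQ x = 0 := by
    apply eq_zero_of_one_tmul_eq_zero R S h (F ⧸ K0)
    apply hgS
    rw [LinearMap.lTensor_tmul]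
    have : g (K0.mkQ x) = f x := rfl
    rw [this, LinearMap.mem_ker.mp hx, TensorProduct.tmul_zero]
  exact (Submodule.Quotient.mk_eq_zero K0).mp hx0

/-- If the kernel of `S ⊗ f` is a finitely generated `S`-module (for surjective `f`) then the kernel
of `f` is finitely generated, provided `R → S` is universally injective. -/
theorem ker_fg_of_baseChange (R S : Type u) [CommRing R] [CommRing S] [Algebra R S]
    (h : Pi1.UnivInjective R S) (F M : Type u) [AddCommGroup F] [Module R F]
    [AddCommGroup M] [Module R M] (f : F →ₗ[R] M) (hf : Function.Surjective f)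
    (hfg : (LinearMap.ker (f.baseChange S)).FG) : (LinearMap.ker f).FG := by
  classical
  obtain ⟨s, hs⟩ := hfg
  set K := LinearMap.ker f with hKdef
  have hex : Function.Exact (K.subtype.lTensor S) (f.lTensor S) :=
    lTensor_exact S (LinearMap.exact_subtype_ker_map f) hf
  have hs_range : ∀ x ∈ s, ∃ y : S ⊗[R] K, K.subtype.lTensor S y = x := by
    intro x hx
    have hxk : x ∈ LinearMap.ker (f.baseChange S) := hs ▸ Submodule.subset_span hx
    exact (hex x).mp (LinearMap.mem_ker.mp hxk)
  choose! y hy using hs_range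
  obtain ⟨K0', hK0'fin, hK0'⟩ :=
    TensorProduct.exists_finite_submodule_right_of_setFinite (R := R) (M := S) (N := K)
      (y '' (s : Set (S ⊗[R] F))) (s.finite_toSet.image y)
  let K0 : Submodule R F := K0'.map K.subtype
  have hK0K : K0 ≤ K := by
    rintro _ ⟨a, _, rfl⟩
    exact a.2
  have hK0fg : K0.FG := (Module.Finite.iff_fg.mp hK0'fin).map _
  -- the map K0' → K0
  let e : K0' →ₗ[R] K0 := (K.subtype.domRestrict K0').codRestrict K0
    (fun a => ⟨a.1, a.2, rfl⟩)
  have he : K0.subtype ∘ₗ e = K.subtype ∘ₗ K0'.subtype := by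
    ext a; rfl
  have hs_range0 : (s : Set (S ⊗[R] F)) ⊆ LinearMap.range (K0.subtype.baseChange S) := by
    intro x hx
    obtain ⟨z, hz⟩ := hK0' (Set.mem_image_of_mem y hx)
    refine ⟨e.lTensor S z, ?_⟩
    change K0.subtype.lTensor S (e.lTensor S z) = x
    rw [← LinearMap.comp_apply, ← LinearMap.lTensor_comp, he, LinearMap.lTensor_comp,
      LinearMap.comp_apply, hz, hy x hx]
  have hle : LinearMap.ker (f.baseChange S) ≤ LinearMap.range (K0.subtype.baseChange S) := by
    rw [← hs]
    exact Submodule.span_le.mpr hs_range0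
  have hKK0 : K ≤ K0 := by
    apply ker_le_of_lTensor R S h F M f K0 hK0K
    intro w hw
    obtain ⟨v, hv⟩ := hle (show w ∈ LinearMap.ker (f.baseChange S) from hw)
    exact ⟨v, hv⟩
  rw [le_antisymm hKK0 hK0K]
  exact hK0fg

/-- Let R -> S be universally injective and M an R-module such that S ⊗_R M is finitely presented over
S. Then M is finitely presented over R. -/
theorem result (R S : Type u) [CommRing R] [CommRing S] [Algebra R S]
    (h : Pi1.UnivInjective R S) (M : Type u) [AddCommGroup M] [Module R M]
    [Module.FinitePresentation S (S ⊗[R] M)] : Module.FinitePresentation R M := by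
  have hfin : Module.Finite R M := Groth.Agent.S0275.result R S h M
  obtain ⟨n, f, hf⟩ := Module.Finite.exists_fin' R M
  have hfS : Function.Surjective (f.baseChange S) := LinearMap.lTensor_surjective S hf
  have hker : (LinearMap.ker (f.baseChange S)).FG :=
    Module.FinitePresentation.fg_ker (f.baseChange S) hfS
  exact Module.finitePresentation_of_surjective f hf
    (ker_fg_of_baseChange R S h (Fin n → R) M f hf hker)

end Groth.Agent.S0276
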