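import Groth.Statements.S0277
import Groth.Agent.S0275
import Mathlib.RingTheory.FiniteType
-- import your own Groth.Agent.* helpers here

set_option autoImplicit false
universe u
open scoped TensorProduct
open Pi1

namespace Groth.Agent.S0277

/-- Let R -> S be universally injective and A an R-algebra such that S ⊗_R A is of finite type over S.
Then A is of finite type over R. -/
theorem result (R S : Type u) [CommRing R] [CommRing S] [Algebra R S]
    (h : Pi1.UnivInjective R S) (A : Type u) [CommRing A] [Algebra R A]
    [Algebra.FiniteType S (S ⊗[R] A)] : Algebra.FiniteType R A := by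
  obtain ⟨s, hs⟩ := (inferInstance : Algebra.FiniteType S (S ⊗[R] A)).out
  obtain ⟨N, hNfin, hN⟩ :=
    TensorProduct.exists_finite_submodule_right_of_setFinite (R := R) (M := S) (N := A)
      (s : Set (S ⊗[R] A)) s.finite_toSet
  obtain ⟨t, ht⟩ := (Module.Finite.iff_fg.mp hNfin)
  let A' : Subalgebra R A := Algebra.adjoin R (t : Set A)
  have hNA' : N ≤ Subalgebra.toSubmodule A' := by
    rw [← ht]
    exact Submodule.span_le.mpr (fun x hx => Algebra.subset_adjoin hx)
  let φ : S ⊗[R] A' →ₐ[S] S ⊗[R] A := Algebra.TensorProduct.map (AlgHom.id S S) A'.val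
  have hφ : ∀ y : S ⊗[R] A', φ y = (Subalgebra.toSubmodule A').subtype.lTensor S y := by
    intro y
    induction y using TensorProduct.induction_on with
    | zero => simp
    | tmul a b => rfl
    | add a b ha hb => rw [map_add, map_add, ha, hb]
  have hrange : (s : Set (S ⊗[R] A)) ⊆ φ.range := by
    intro x hx
    obtain ⟨y, hy⟩ := hN hx
    refine ⟨(Submodule.inclusion hNA').lTensor S y, ?_⟩
    change φ ((Submodule.inclusion hNA').lTensor S y) = x
    rw [hφ, ← hy, ← LinearMap.comp_apply, ← LinearMap.lTensor_comp]
    rfl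
  have htop : φ.range = ⊤ := by
    rw [eq_top_iff, ← hs]
    exact Algebra.adjoin_le hrange
  have hsurj : Function.Surjective ((Subalgebra.toSubmodule A').subtype.lTensor S) := by
    intro x
    have hx : x ∈ φ.range := by rw [htop]; exact Algebra.mem_top
    obtain ⟨y, hy⟩ := hx
    exact ⟨y, by rw [← hφ]; exact hy⟩
  have hA' := Groth.Agent.S0275.eq_top_of_lTensor_surjective R S h A (Subalgebra.toSubmodule A') hsurj
  have hA'top : A' = ⊤ := by
    apply Subalgebra.toSubmodule_injective
    rw [hA', Algebra.top_toSubmodule]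
  exact ⟨⟨t, hA'top⟩⟩

end Groth.Agent.S0277
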