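import Groth.Statements.S0278
import Groth.Agent.S0276
import Groth.Agent.S0277
import Mathlib.RingTheory.FinitePresentation
-- import your own Groth.Agent.* helpers here

set_option autoImplicit false
universe u
open scoped TensorProduct
open Pi1

namespace Groth.Agent.S0278

/-- Let R -> S be universally injective and A an R-algebra such that S ⊗_R A is of finite presentation
over S. Then A is of finite presentation over R. -/
theorem result (R S : Type u) [CommRing R] [CommRing S] [Algebra R S]
    (h : Pi1.UnivInjective R S) (A : Type u) [CommRing A] [Algebra R A]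
    [Algebra.FinitePresentation S (S ⊗[R] A)] : Algebra.FinitePresentation R A := by
  classical
  have hft : Algebra.FiniteType R A := Groth.Agent.S0277.result R S h A
  obtain ⟨n, φ, hφ⟩ := Algebra.FiniteType.iff_quotient_mvPolynomial''.mp hft
  let ψ : S ⊗[R] MvPolynomial (Fin n) R →ₐ[S] S ⊗[R] A :=
    Algebra.TensorProduct.map (AlgHom.id S S) φ
  have hψ_eq : ∀ w, ψ w = φ.toLinearMap.lTensor S w := by
    intro w
    induction w using TensorProduct.induction_on with
    | zero => simp
    | tmul a b => rfl
    | add a b ha hb => rw [map_add, map_add, ha, hb]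
  have hψ : Function.Surjective ψ := by
    intro x
    obtain ⟨w, hw⟩ := LinearMap.lTensor_surjective S (g := φ.toLinearMap) hφ x
    exact ⟨w, by rw [hψ_eq, hw]⟩
  obtain ⟨s, hs⟩ := Algebra.FinitePresentation.ker_fG_of_surjective ψ hψ
  set I : Submodule R (MvPolynomial (Fin n) R) := LinearMap.ker φ.toLinearMap with hI
  have hex : Function.Exact (I.subtype.lTensor S) (φ.toLinearMap.lTensor S) :=
    lTensor_exact S (LinearMap.exact_subtype_ker_map φ.toLinearMap) hφ
  have hs_range : ∀ x ∈ s, ∃ y : S ⊗[R] I, I.subtype.lTensor S y = x := by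
    intro x hx
    have hxk : x ∈ RingHom.ker ψ.toRingHom := hs ▸ Ideal.subset_span hx
    have : ψ x = 0 := hxk
    exact (hex x).mp (by rw [← hψ_eq]; exact this)
  choose! y hy using hs_range
  obtain ⟨I0', hI0'fin, hI0'⟩ :=
    TensorProduct.exists_finite_submodule_right_of_setFinite (R := R) (M := S) (N := I)
      (y '' (s : Set (S ⊗[R] MvPolynomial (Fin n) R))) (s.finite_toSet.image y)
  obtain ⟨t, ht⟩ := Module.Finite.iff_fg.mp hI0'fin
  let J : Ideal (MvPolynomial (Fin n) R) := Ideal.span ((fun a : I => (a : MvPolynomial (Fin n) R)) '' (t : Set I))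
  have hJfg : J.FG := ⟨t.image (fun a : I => (a : MvPolynomial (Fin n) R)), by simp [J]⟩
  have hJker : J ≤ RingHom.ker φ.toRingHom := by
    refine Ideal.span_le.mpr ?_
    rintro _ ⟨a, _, rfl⟩
    exact a.2
  have hI0J : ∀ a : I0', ((a : I) : MvPolynomial (Fin n) R) ∈ J.restrictScalars R := by
    intro a
    have ha : (a : I) ∈ Submodule.span R (t : Set I) := ht ▸ a.2
    refine Submodule.span_induction (p := fun (b : I) _ => (b : MvPolynomial (Fin n) R) ∈ J.restrictScalars R)
      ?_ ?_ ?_ ?_ ha
    · intro b hb
      exact Ideal.subset_span ⟨b, hb, rfl⟩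
    · exact Submodule.zero_mem _
    · intro b c _ _ hb hc
      exact Submodule.add_mem _ hb hc
    · intro r b _ hb
      exact Submodule.smul_mem _ r hb
  let e : I0' →ₗ[R] (J.restrictScalars R) :=
    (I.subtype.domRestrict I0').codRestrict (J.restrictScalars R) hI0J
  have he : (J.restrictScalars R).subtype ∘ₗ e = I.subtype ∘ₗ I0'.subtype := by
    ext a; rfl
  have hs_range0 : ∀ x ∈ s, x ∈ J.map (Algebra.TensorProduct.includeRight :
      MvPolynomial (Fin n) R →ₐ[R] S ⊗[R] MvPolynomial (Fin n) R) := by
    intro x hx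
    obtain ⟨z, hz⟩ := hI0' (Set.mem_image_of_mem y hx)
    have hx' : x ∈ LinearMap.range (LinearMap.lTensor S (Submodule.subtype (J.restrictScalars R))) := by
      refine ⟨e.lTensor S z, ?_⟩
      rw [← LinearMap.comp_apply, ← LinearMap.lTensor_comp, he, LinearMap.lTensor_comp,
        LinearMap.comp_apply, hz, hy x hx]
    rw [← Ideal.map_includeRight_eq] at hx'
    exact hx'
  have hle : RingHom.ker ψ.toRingHom ≤ J.map (Algebra.TensorProduct.includeRight :
      MvPolynomial (Fin n) R →ₐ[R] S ⊗[R] MvPolynomial (Fin n) R) := by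
    rw [← hs]
    exact Ideal.span_le.mpr hs_range0
  have hKK0 : I ≤ J.restrictScalars R := by
    apply Groth.Agent.S0276.ker_le_of_lTensor R S h _ A φ.toLinearMap (J.restrictScalars R)
    · intro x hx
      exact hJker hx
    · intro w hw
      have hw' : w ∈ RingHom.ker ψ.toRingHom := by
        change ψ w = 0
        rw [hψ_eq]; exact hw
      have := hle hw'
      have h2 : w ∈ (J.map (Algebra.TensorProduct.includeRight :
        MvPolynomial (Fin n) R →ₐ[R] S ⊗[R] MvPolynomial (Fin n) R)).restrictScalars R := this
      rw [Ideal.map_includeRight_eq] at h2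
      exact h2
  have hker : RingHom.ker φ.toRingHom = J := le_antisymm (fun x hx => hKK0 hx) hJker
  exact Algebra.FinitePresentation.of_surjective hφ (hker ▸ hJfg)

end Groth.Agent.S0278
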