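import Groth.Statements.S0279
import Groth.Agent.S0278
import Groth.Agent.Lib.Helper20PureEtale

set_option autoImplicit false
universe u
open scoped TensorProduct
open Pi1

namespace Groth.Agent.S0279

/-- Let R → S be a universally injective ring map and A an R-algebra such that S ⊗_R A is étale over S.
Then A is étale over R. -/
theorem result (R S : Type u) [CommRing R] [CommRing S] [Algebra R S]
    (h : Pi1.UnivInjective R S) (A : Type u) [CommRing A] [Algebra R A]
    [Algebra.Etale S (S ⊗[R] A)] : Algebra.Etale R A := by
  have hfe : Algebra.FormallyEtale R A :=
    Groth.Agent.Lib.Helper20.Pure.formallyEtale_of_baseChange (S := S) A h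
  have hfp : Algebra.FinitePresentation R A := Groth.Agent.S0278.result R S h A
  exact ⟨hfe, hfp⟩

end Groth.Agent.S0279
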