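import Groth.Statements.S0282
import Mathlib
import Groth.Agent.Lib.Helper22FrobGen
import Groth.Agent.Lib.Helper22FrobAlg

set_option autoImplicit false
universe u
open scoped TensorProduct
open Pi1

namespace Groth.Agent.S0282

open Groth.Agent.Lib.Helper22

/-- Let R be a ring of prime characteristic p, A a quotient ring of R and B a finite étale A-algebra.
Then there are a finite étale R-algebra C and a surjective A-algebra homomorphism from A ⊗_R C onto
B. (This covering-level statement yields the injectivity of π₁(Spec A) → π₁(Spec R).) -/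
theorem result (p : ℕ) [Fact p.Prime] (R A B : Type u)
    [CommRing R] [CommRing A] [CommRing B] [CharP R p] [Algebra R A]
    (hRA : Function.Surjective (algebraMap R A)) [Algebra A B] [Module.Finite A B]
    [Algebra.Etale A B] :
    ∃ (C : Type u) (_ : CommRing C) (_ : Algebra R C), Module.Finite R C ∧ Algebra.Etale R C ∧
      ∃ ψ : A ⊗[R] C →ₐ[A] B, Function.Surjective ψ := by
  have hpA : (p : A) = 0 := by
    rw [← map_natCast (algebraMap R A), CharP.cast_eq_zero, map_zero]
  obtain ⟨n, b, hb⟩ := Module.Finite.exists_fin (R := A) (M := B)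
  have hq := FrobGen.span_pow_eq_top p hpA 1 b hb
  rw [pow_one] at hq
  have hc : ∀ i, ∃ c : Fin n → A, ∑ j, c j • b j ^ p = b i ^ (p ^ 2) - b i := by
    intro i
    have : b i ^ (p ^ 2) - b i ∈ Submodule.span A (Set.range fun j => b j ^ p) := by
      rw [hq]; trivial
    exact (Submodule.mem_span_range_iff_exists_fun A).mp this
  choose c hc using hc
  choose a ha using fun i j => hRA (c i j)
  letI : Algebra R B := ((algebraMap A B).comp (algebraMap R A)).toAlgebra
  haveI : IsScalarTower R A B := IsScalarTower.of_algebraMap_eq' rfl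
  refine ⟨FrobAlg.Cq p n a, inferInstance, inferInstance,
    FrobAlg.finite p n a (Fact.out : p.Prime).two_le, FrobAlg.etale p n a, ?_⟩
  have hker : ∀ x ∈ FrobAlg.J p n a, MvPolynomial.aeval b x = 0 := by
    intro x hx
    have hle : FrobAlg.J p n a ≤ RingHom.ker (MvPolynomial.aeval (R := R) b) := by
      rw [FrobAlg.J, Ideal.span_le]
      rintro _ ⟨i, rfl⟩
      rw [SetLike.mem_coe, RingHom.mem_ker, FrobAlg.g]
      simp only [map_sub, map_pow, MvPolynomial.aeval_X, map_sum, map_mul, MvPolynomial.aeval_C]
      rw [← hc i, sub_eq_zero]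
      refine Finset.sum_congr rfl fun j _ => ?_
      rw [Algebra.smul_def, IsScalarTower.algebraMap_apply R A B, ha]
    exact hle hx
  let φ : FrobAlg.Cq p n a →ₐ[R] B := Ideal.Quotient.liftₐ (FrobAlg.J p n a)
    (MvPolynomial.aeval b) hker
  let ψ : A ⊗[R] FrobAlg.Cq p n a →ₐ[A] B :=
    Algebra.TensorProduct.lift (Algebra.ofId A B) φ (fun _ _ => Commute.all _ _)
  refine ⟨ψ, ?_⟩
  have hrange : LinearMap.range ψ.toLinearMap = ⊤ := by
    rw [eq_top_iff, ← hb, Submodule.span_le]
    rintro _ ⟨i, rfl⟩
    refine ⟨1 ⊗ₜ Ideal.Quotient.mk _ (MvPolynomial.X i), ?_⟩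
    have h1 : φ (Ideal.Quotient.mk _ (MvPolynomial.X i)) = b i := by
      change MvPolynomial.aeval b (MvPolynomial.X i) = b i
      exact MvPolynomial.aeval_X b i
    simp only [ψ, AlgHom.toLinearMap_apply, Algebra.TensorProduct.lift_tmul, map_one, one_mul, h1]
  exact LinearMap.range_eq_top.mp hrange

end Groth.Agent.S0282
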