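import Groth.Statements.S0288
import Groth.Agent.Lib.Helper4UnramNormal
import Groth.Agent.Lib.Helper4NormIso

set_option autoImplicit false
set_option linter.style.haveILetI false
universe u
open Pi1

namespace Groth.Agent.S0288

open AlgebraicGeometry CategoryTheory CategoryTheory.Limits in
/-- Let X be a normal integral scheme with function field K, L a finite field extension of K and Y -> X
the normalization of X in Spec L. If Y -> X is unramified (formally unramified and locally of finite
type), then it is etale, and finite. -/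
theorem result {X : Scheme.{u}} [IsIntegral X] (hX : Pi1.IsNormalScheme X) (L : Type u) [Field L]
    [Algebra X.functionField L] [FiniteDimensional X.functionField L]
    [QuasiCompact (Spec.map (CommRingCat.ofHom (algebraMap X.functionField L)) ≫ X.fromSpecStalk (genericPoint X))]
    [QuasiSeparated (Spec.map (CommRingCat.ofHom (algebraMap X.functionField L)) ≫ X.fromSpecStalk (genericPoint X))]
    [FormallyUnramified (Spec.map (CommRingCat.ofHom (algebraMap X.functionField L)) ≫ X.fromSpecStalk (genericPoint X)).fromNormalization]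
    [LocallyOfFiniteType (Spec.map (CommRingCat.ofHom (algebraMap X.functionField L)) ≫ X.fromSpecStalk (genericPoint X)).fromNormalization] :
    Etale (Spec.map (CommRingCat.ofHom (algebraMap X.functionField L)) ≫ X.fromSpecStalk (genericPoint X)).fromNormalization ∧
    IsFinite (Spec.map (CommRingCat.ofHom (algebraMap X.functionField L)) ≫ X.fromSpecStalk (genericPoint X)).fromNormalization := by
  set φ : X.functionField →+* L := algebraMap X.functionField L with hφ
  set g := Spec.map (CommRingCat.ofHom φ) ≫ X.fromSpecStalk (genericPoint X) with hg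
  set ν := g.fromNormalization with hν
  have hfin : IsFinite ν :=
    (IsFinite.iff_isIntegralHom_and_locallyOfFiniteType ν).mpr ⟨inferInstance, inferInstance⟩
  refine ⟨?_, hfin⟩
  have hQ : RingHom.StableUnderCompositionWithLocalizationAwaySource RingHom.Etale := by
    refine (RingHom.StableUnderComposition.stableUnderCompositionWithLocalizationAway
      RingHom.Etale.stableUnderComposition ?_).1
    intro R S _ _ _ r _
    rw [RingHom.etale_algebraMap]
    exact Algebra.Etale.of_isLocalizationAway r
  rw [HasRingHomProperty.iff_exists_appLE (P := @Etale) hQ]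
  intro y
  obtain ⟨_, ⟨U, hU, rfl⟩, hyU, -⟩ := X.isBasis_affineOpens.exists_subset_of_mem_open
    (Set.mem_univ (ν y)) isOpen_univ
  refine ⟨⟨U, hU⟩, ⟨ν ⁻¹ᵁ U, hU.preimage ν⟩, hyU, le_rfl, ?_⟩
  haveI : Nonempty U := ⟨⟨_, hyU⟩⟩
  have hft : (ν.appLE U (ν ⁻¹ᵁ U) le_rfl).hom.FiniteType :=
    HasRingHomProperty.appLE (P := @LocallyOfFiniteType) ν inferInstance ⟨U, hU⟩
      ⟨ν ⁻¹ᵁ U, hU.preimage ν⟩ le_rfl
  have hunr : (ν.appLE U (ν ⁻¹ᵁ U) le_rfl).hom.FormallyUnramified :=
    HasRingHomProperty.appLE (P := @FormallyUnramified) ν inferInstance ⟨U, hU⟩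
      ⟨ν ⁻¹ᵁ U, hU.preimage ν⟩ le_rfl
  show (ν.appLE U (ν ⁻¹ᵁ U) le_rfl).hom.Etale
  rw [Scheme.Hom.appLE_eq_app] at hft hunr ⊢
  letI := (ν.app U).hom.toAlgebra
  haveI : IsDomain Γ(X, U) := IsIntegral.component_integral U
  haveI : IsIntegrallyClosed Γ(X, U) :=
    Groth.Agent.Lib.Helper4.NormIso.isIntegrallyClosed_sections hX U hU
  haveI : IsDomain Γ(g.normalization, ν ⁻¹ᵁ U) :=
    (Groth.Agent.Lib.Helper4.NormCurve.normal_sections_normalization L φ U hU).1
  have hinj : Function.Injective (algebraMap Γ(X, U) Γ(g.normalization, ν ⁻¹ᵁ U)) :=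
    Groth.Agent.Lib.Helper4.NormCurve.fromNormalization_app_injective L φ U hU
  haveI : Algebra.FiniteType Γ(X, U) Γ(g.normalization, ν ⁻¹ᵁ U) := hft
  haveI : Algebra.FormallyUnramified Γ(X, U) Γ(g.normalization, ν ⁻¹ᵁ U) := hunr
  have := Groth.Agent.Lib.Helper4.UnramNormal.etale_of_unramified Γ(X, U)
    Γ(g.normalization, ν ⁻¹ᵁ U) hinj
  exact RingHom.etale_algebraMap.mpr this

end Groth.Agent.S0288
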