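import Groth.Statements.S0290
import Mathlib
import Groth.Agent.Lib.Helper20GalSpecField

set_option autoImplicit false
universe u
open Pi1

namespace Groth.Agent.S0290
open AlgebraicGeometry CategoryTheory CategoryTheory.Limits FintypeCatDiscrete
open Groth.Agent.Lib.Helper20


open AlgebraicGeometry CategoryTheory CategoryTheory.Limits FintypeCatDiscrete in
/-- For a field K, the category of finite étale schemes over Spec K is equivalent to the category of
finite sets with a continuous action of the absolute Galois group of K. Only the existence of an
equivalence is asserted; its compatibility with the fibre functor is not stated. -/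
theorem result (K : Type u) [Field K] :
    Nonempty (FEt.Cat (Spec (CommRingCat.of K)) ≌ ContAction FintypeCat.{u} (Field.absoluteGaloisGroup K)) := by
  let G := AlgebraicClosure K ≃ₐ[K] AlgebraicClosure K
  let F := GalFiber.fib (GalSpecField.xi K)
  let e1 : FEt.Cat (Spec (CommRingCat.of K)) ≌ ContAction FintypeCat.{u} (Aut F) :=
    (PreGaloisCategory.functorToContAction F).asEquivalence
  let f : G ≃ₜ* Aut F :=
    { PreGaloisCategory.toAutMulEquiv F G with
      continuous_toFun := (PreGaloisCategory.toAutMulEquiv_isHomeomorph F G).continuous
      continuous_invFun := by
        have h := (PreGaloisCategory.toAutMulEquiv_isHomeomorph F G)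
        exact h.homeomorph.symm.continuous }
  let e2 : ContAction FintypeCat.{u} (Aut F) ≌ ContAction FintypeCat.{u} G := ContAction.resEquiv _ f
  exact ⟨e1.trans e2⟩

end Groth.Agent.S0290
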