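import Groth.Statements.S0291
import Mathlib
import Groth.Agent.Lib.Helper22Hartogs2

set_option autoImplicit false
universe u
open Pi1

namespace Groth.Agent.S0291



open AlgebraicGeometry CategoryTheory CategoryTheory.Limits in
/-- Let A be a Noetherian local ring and B a finite A-algebra such that the local rings of Spec B at all
closed points have depth at least 2. Then restriction from global sections of Spec B to sections
over the preimage of the punctured spectrum of A is an isomorphism. -/
theorem result (A B : Type u) [CommRing A] [IsNoetherianRing A] [IsLocalRing A] [CommRing B] [Algebra A B]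
    [Module.Finite A B]
    (h : ∀ (m : Ideal B) (_ : m.IsMaximal), (2 : ℕ∞) ≤ LocCoh.depth (Localization.AtPrime m) (Localization.AtPrime m)) :
    IsIso ((Spec (CommRingCat.of B)).presheaf.map (homOfLE (le_top :
      Spec.map (CommRingCat.ofHom (algebraMap A B)) ⁻¹ᵁ FEt.puncturedSpec A ≤ ⊤)).op) := by
  have hB : IsNoetherianRing B := IsNoetherianRing.of_finite A B
  have hX : IsLocallyNoetherian (Spec (CommRingCat.of B)) := inferInstance
  rw [ConcreteCategory.isIso_iff_bijective]
  apply Groth.Agent.Lib.Helper22.Hartogs.bijective_res_of_depth
    (Spec.map (CommRingCat.ofHom (algebraMap A B)) ⁻¹ᵁ FEt.puncturedSpec A) _ ⊤ _ le_top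
    inf_le_right le_rfl
  intro x hx
  let p : PrimeSpectrum B := x
  -- x lies over the closed point
  have hx' : (Spec.map (CommRingCat.ofHom (algebraMap A B))) x = IsLocalRing.closedPoint A := by
    by_contra hne
    exact hx hne
  have hcomap : p.asIdeal.comap (algebraMap A B) = IsLocalRing.maximalIdeal A := by
    have := congrArg PrimeSpectrum.asIdeal hx'
    exact this
  have hmax : p.asIdeal.IsMaximal := by
    have : Algebra.IsIntegral A B := Algebra.IsIntegral.of_finite A B
    apply Ideal.isMaximal_of_isIntegral_of_isMaximal_comap (R := A) p.asIdeal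
    rw [hcomap]
    infer_instance
  have hd := h p.asIdeal hmax
  letI : Algebra B ((Spec (CommRingCat.of B)).presheaf.stalk x) :=
    StructureSheaf.stalkAlgebra (R := B) p
  haveI : IsLocalization.AtPrime ((Spec (CommRingCat.of B)).presheaf.stalk x) p.asIdeal :=
    StructureSheaf.IsLocalization.to_stalk B p
  let e : Localization.AtPrime p.asIdeal ≃+* (Spec (CommRingCat.of B)).presheaf.stalk x :=
    (IsLocalization.algEquiv p.asIdeal.primeCompl (Localization.AtPrime p.asIdeal)
      ((Spec (CommRingCat.of B)).presheaf.stalk x)).toRingEquiv
  rw [← Groth.Agent.Lib.Helper28.depth_self_eq_of_ringEquiv e]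
  exact hd

end Groth.Agent.S0291
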