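import Groth.Statements.S0297
import Mathlib
import Groth.Agent.Lib.Helper20GalFiber
import Groth.Agent.S0296

set_option autoImplicit false
universe u
open Pi1

namespace Groth.Agent.S0297
open AlgebraicGeometry CategoryTheory CategoryTheory.Limits
open Groth.Agent.Lib.Helper20


open AlgebraicGeometry CategoryTheory CategoryTheory.Limits in
/-- For a connected scheme X and geometric points ξ : Spec Ω → X and ξ' : Spec Ω' → X (Ω, Ω'
algebraically closed fields), every morphism of functors from the fibre functor at ξ to the fibre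
functor at ξ' on finite étale covers of X is an isomorphism. -/
theorem result {X : Scheme.{u}} [ConnectedSpace X] {Ω Ω' : Type u} [Field Ω]
    [IsAlgClosed Ω] [Field Ω'] [IsAlgClosed Ω'] (ξ : Spec (CommRingCat.of Ω) ⟶ X)
    (ξ' : Spec (CommRingCat.of Ω') ⟶ X) (φ : FEt.fiber ξ ⟶ FEt.fiber ξ') : IsIso φ := by
  haveI : GaloisCategory (FEt.Cat X) :=
    { toPreGaloisCategory := GalCat.preGalois X
      hasFiberFunctor := ⟨GalFiber.fib ξ, ⟨GalFiber.fiberFunctor ξ⟩⟩ }
  haveI := GalFiber.fiberFunctor ξ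
  obtain ⟨e⟩ := Groth.Agent.S0296.result ξ' ξ
  let ψ : GalFiber.fib ξ ⋙ FintypeCat.incl ⟶ GalFiber.fib ξ ⋙ FintypeCat.incl := φ ≫ e.hom
  let ff := (Functor.FullyFaithful.ofFullyFaithful FintypeCat.incl).whiskeringRight (FEt.Cat X)
  let ψ' : GalFiber.fib ξ ⟶ GalFiber.fib ξ := ff.preimage ψ
  haveI : IsIso ψ' := PreGaloisCategory.FibreFunctor.end_isIso (GalFiber.fib ξ) ψ'
  have h1 : ((Functor.whiskeringRight (FEt.Cat X) _ _).obj FintypeCat.incl).map ψ' = ψ :=
    ff.map_preimage ψ
  haveI : IsIso ψ := by rw [← h1]; infer_instance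
  haveI : IsIso (φ ≫ e.hom) := ‹IsIso ψ›
  exact IsIso.of_isIso_comp_right φ e.hom

end Groth.Agent.S0297
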