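import Groth.Statements.S0298
import Mathlib
import Groth.Agent.Lib.Helper20GalSpecField

set_option autoImplicit false
universe u
open Pi1

namespace Groth.Agent.S0298
open AlgebraicGeometry CategoryTheory CategoryTheory.Limits
open Groth.Agent.Lib.Helper20


open AlgebraicGeometry CategoryTheory CategoryTheory.Limits in
/-- For a field K with algebraic closure K̄, the fundamental group of Spec K at the geometric point Spec
K̄ → Spec K (the automorphism group of the fibre functor on finite étale K-schemes) is isomorphic to
the absolute Galois group of K. The isomorphism is one of abstract groups; the fundamental group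
used here carries no topology. -/
theorem result (K : Type u) [Field K] :
    Nonempty (Field.absoluteGaloisGroup K ≃*
      FEt.piOne (Spec (CommRingCat.of K))
        (Spec.map (CommRingCat.ofHom (algebraMap K (AlgebraicClosure K))))) := by
  let e1 : (AlgebraicClosure K ≃ₐ[K] AlgebraicClosure K) ≃* Aut (GalFiber.fib (GalSpecField.xi K)) :=
    PreGaloisCategory.toAutMulEquiv (GalFiber.fib (GalSpecField.xi K))
      (AlgebraicClosure K ≃ₐ[K] AlgebraicClosure K)
  let e2 : Aut (GalFiber.fib (GalSpecField.xi K)) ≃* Aut (FEt.fiber (GalSpecField.xi K)) :=
    ((Functor.FullyFaithful.ofFullyFaithful FintypeCat.incl).whiskeringRight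
      (FEt.Cat (Spec (CommRingCat.of K)))).autMulEquivOfFullyFaithful (GalFiber.fib (GalSpecField.xi K))
  exact ⟨e1.trans e2⟩

end Groth.Agent.S0298
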