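import Groth.Statements.S0326
import Groth.Agent.Lib.Helper8Acyc

set_option autoImplicit false
universe u v
open LocCoh

namespace Groth.Agent.S0326

/-- For a Noetherian ring R and an ideal of R generated by a finite set of r elements, local cohomology
with support in that ideal vanishes in all degrees above r, for every R-module. This is the
Noetherian case of the published statement. -/
theorem result (R : Type u) [CommRing R] [IsNoetherianRing R] (s : Finset R) : LocCoh.CdLE R (Ideal.span (s : Set R)) s.card := by
  classical
  suffices key : ∀ (n : ℕ) (t : Finset R), t.card ≤ n → ∀ (M : Type u) [AddCommGroup M] [Module R M]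
      (i : ℕ), n < i → Subsingleton (LocCoh.H (Ideal.span (t : Set R)) i M) from
    fun M _ _ i hi => key s.card s le_rfl M i hi
  intro n
  induction n with
  | zero =>
    intro t ht M _ _ i hi
    have ht0 : t = ∅ := Finset.card_eq_zero.mp (Nat.le_zero.mp ht)
    obtain ⟨j, rfl⟩ : ∃ j, i = j + 1 := ⟨i - 1, by omega⟩
    rw [ht0, Finset.coe_empty, Ideal.span_empty]
    exact Groth.Agent.Lib.Helper8.Acyc.H_bot_succ M j
  | succ n ih =>
    intro t ht M _ _ i hi
    by_cases htn : t.card ≤ n
    · exact ih t htn M i (by omega)
    · have hcard : t.card = n + 1 := by omega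
      obtain ⟨x, hx⟩ : t.Nonempty := Finset.card_pos.mp (by omega)
      obtain ⟨j, rfl⟩ : ∃ j, i = j + 1 := ⟨i - 1, by omega⟩
      have hjn : n < j := by omega
      have hspan : Ideal.span (t : Set R) =
          Ideal.span ((t.erase x : Finset R) : Set R) ⊔ Ideal.span {x} := by
        rw [← Ideal.span_union, Set.union_singleton, ← Finset.coe_insert, Finset.insert_erase hx]
      rw [hspan]
      have hcard' : (t.erase x).card = n := by rw [Finset.card_erase_of_mem hx, hcard]; rfl
      refine Groth.Agent.Lib.Helper8.Acyc.MV_vanish _ _ j M ?_ ?_ ?_
      · -- the intersection has the radical of the product, generated by `n` elements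
        have hrad : (Ideal.span ((t.erase x : Finset R) : Set R) ⊓ Ideal.span {x}).radical =
            (Ideal.span ((((t.erase x).image fun y => y * x : Finset R)) : Set R)).radical := by
          rw [Ideal.radical_inf, ← Ideal.radical_mul, Ideal.span_mul_span', Set.mul_singleton,
            Finset.coe_image]
        refine Groth.Agent.Lib.Helper8.Acyc.subsingleton_of_radical_eq hrad j M ?_
        exact ih _ (Finset.card_image_le.trans hcard'.le) M j hjn
      · exact ih _ hcard'.le M (j + 1) (by omega)
      · obtain ⟨k, rfl⟩ : ∃ k, j = k + 1 := ⟨j - 1, by omega⟩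
        exact Groth.Agent.Lib.Helper8.Acyc.H_principal_add_two x k M

end Groth.Agent.S0326
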