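import Groth.Statements.S0328
import Groth.Agent.Lib.Helper8NV

set_option autoImplicit false
universe u v
open LocCoh

namespace Groth.Agent.S0328

/-- In a Noetherian local ring, if a prime p and a proper ideal I together have radical the maximal
ideal and dim R/p = d ≥ 1, then local cohomology with support in I does not vanish in all degrees ≥
d. -/
theorem result (R : Type u) [CommRing R] [IsLocalRing R] [IsNoetherianRing R] (I : Ideal R) (hI : I ≠ ⊤) (p : Ideal R) [p.IsPrime] (hpI : (p ⊔ I).radical = IsLocalRing.maximalIdeal R) (d : ℕ) (hd : ringKrullDim (R ⧸ p) = d) (hd1 : 1 ≤ d) : ¬ LocCoh.CdLE R I (d - 1) := by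
  intro hcd
  obtain ⟨d', rfl⟩ : ∃ d', d = d' + 1 := ⟨d - 1, by omega⟩
  have h1 : Subsingleton (LocCoh.H I (d' + 1) (R ⧸ p)) := hcd (R ⧸ p) (d' + 1) (by omega)
  obtain ⟨φ₁, -⟩ := Groth.Agent.S11614.result R (R ⧸ p) I (R ⧸ p) (d' + 1)
  obtain ⟨φ₂, -⟩ := Groth.Agent.S11614.result R (R ⧸ p) (I ⊔ p) (R ⧸ p) (d' + 1)
  have hmap : Ideal.map (algebraMap R (R ⧸ p)) (I ⊔ p) = Ideal.map (algebraMap R (R ⧸ p)) I := by
    rw [Ideal.map_sup, Ideal.Quotient.algebraMap_eq, Ideal.map_quotient_self, sup_bot_eq]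
  rw [hmap] at φ₂
  have h2 : Subsingleton (LocCoh.H (Ideal.map (algebraMap R (R ⧸ p)) I) (d' + 1) (R ⧸ p)) :=
    φ₁.toEquiv.subsingleton
  have h3 : Subsingleton (LocCoh.H (I ⊔ p) (d' + 1) (R ⧸ p)) := φ₂.symm.toEquiv.subsingleton
  have h4 : Subsingleton (LocCoh.H (IsLocalRing.maximalIdeal R) (d' + 1) (R ⧸ p)) :=
    Groth.Agent.Lib.Helper8.Acyc.subsingleton_of_radical_eq (by
      rw [sup_comm, hpI]
      exact (Ideal.IsPrime.radical inferInstance)) (d' + 1) (R ⧸ p) h3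
  have h5 := Groth.Agent.Lib.Helper8.NV.nonvanishing R (R ⧸ p) (d' + 1) (by
    rw [Module.supportDim_quotient_eq_ringKrullDim, hd])
  exact not_subsingleton _ h4

end Groth.Agent.S0328
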