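import Groth.Statements.S0330
import Groth.Agent.Lib.Helper8Fal
import Groth.Agent.Lib.Helper8MV
import Groth.Agent.S11589
import Groth.Agent.S11610
import Groth.Agent.S0817

set_option autoImplicit false
universe u v
open LocCoh

namespace Groth.Agent.S0330

open Groth.Agent.Lib.Helper8 Groth.Agent.Lib.Helper8.LC Groth.Agent.Lib.Helper8.MV
  Groth.Agent.Lib.Helper8.Fal Groth.Agent.Lib.Helper8.DT
open Pointwise

section

variable {R : Type u} [CommRing R] [IsNoetherianRing R] (I : Ideal R)

/-- If the localization of an `I`-power torsion module `H` at `p` is finite, a power of `I` kills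
it locally. -/
theorem exists_pow_kills_loc (H : Type u) [AddCommGroup H] [Module R H]
    (htors : ∀ h : H, ∃ m : ℕ, ∀ a ∈ I ^ m, a • h = 0)
    (p : Ideal R) [hp : p.IsPrime]
    (hfin : Module.Finite (Localization.AtPrime p) (LocalizedModule p.primeCompl H)) :
    ∃ k : ℕ, ∀ a ∈ I ^ k, ∀ h : H, ∃ s : R, s ∉ p ∧ s • a • h = 0 := by
  classical
  obtain ⟨S, hS⟩ := hfin.fg_top
  -- each generator is killed by a power of `I`
  have hgen : ∀ g : LocalizedModule p.primeCompl H, ∃ m : ℕ, ∀ a ∈ I ^ m, a • g = 0 := by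
    intro g
    induction g using LocalizedModule.induction_on with
    | _ h s =>
      obtain ⟨m, hm⟩ := htors h
      refine ⟨m, fun a ha => ?_⟩
      rw [LocalizedModule.smul'_mk, hm a ha, LocalizedModule.zero_mk]
  choose mfun hmfun using hgen
  refine ⟨S.sup mfun, fun a ha h => ?_⟩
  have hspan : ∀ z ∈ Submodule.span (Localization.AtPrime p) (S : Set (LocalizedModule p.primeCompl H)),
      a • z = 0 := by
    intro z hz
    induction hz using Submodule.span_induction with
    | mem g hg => exact hmfun g a (Ideal.pow_le_pow_right (Finset.le_sup hg) ha)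
    | zero => exact smul_zero a
    | add x y _ _ hx hy => rw [smul_add, hx, hy, add_zero]
    | smul c x _ hx => rw [smul_comm, hx, smul_zero]
  have h0 : a • (LocalizedModule.mk h (1 : p.primeCompl)) = 0 := hspan _ (hS ▸ Submodule.mem_top)
  rw [LocalizedModule.smul'_mk, ← LocalizedModule.zero_mk (1 : p.primeCompl),
    LocalizedModule.mk_eq] at h0
  obtain ⟨u, hu⟩ := h0
  refine ⟨u.1, u.2, ?_⟩
  rw [one_smul, one_smul, smul_zero] at hu
  exact hu

/-- Associated primes of a `y`-power torsion module are associated to any submodule containing the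
`y`-torsion. -/
theorem mem_associatedPrimes_sub (H : Type u) [AddCommGroup H] [Module R H] (y : R)
    (htors : ∀ h : H, ∃ m : ℕ, y ^ m • h = 0) (D : Submodule R H)
    (hD : ∀ h : H, y • h = 0 → h ∈ D) (p : Ideal R) (hp : p ∈ associatedPrimes R H) :
    p ∈ associatedPrimes R D := by
  classical
  obtain ⟨hpp, h, hh⟩ := isAssociatedPrime_iff.mp hp
  have hmem : ∀ r : R, r ∈ p ↔ r • h = 0 := by
    intro r
    rw [hh, Submodule.mem_colon_singleton, Submodule.mem_bot]
  have hne : h ≠ 0 := by
    intro h0
    apply hpp.ne_top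
    rw [eq_top_iff]
    intro r _
    rw [hmem, h0, smul_zero]
  have hm := Nat.find_spec (htors h)
  have hm0 : Nat.find (htors h) ≠ 0 := by
    intro h0
    rw [h0, pow_zero, one_smul] at hm
    exact hne hm
  obtain ⟨m', hm'⟩ := Nat.exists_eq_succ_of_ne_zero hm0
  have hmin : y ^ m' • h ≠ 0 := Nat.find_min (htors h) (by omega)
  have hyh : y • (y ^ m' • h) = 0 := by
    rw [← mul_smul, ← pow_succ']
    rw [hm'] at hm
    exact hm
  apply isAssociatedPrime_iff.mpr
  refine ⟨hpp, ⟨y ^ m' • h, hD _ hyh⟩, ?_⟩
  ext r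
  rw [Submodule.mem_colon_singleton, Submodule.mem_bot, ← Subtype.coe_inj]
  change r ∈ p ↔ r • (y ^ m' • h) = 0
  constructor
  · intro hr
    rw [smul_comm, (hmem r).mp hr, smul_zero]
  · intro hr
    rw [← mul_smul, ← hmem] at hr
    rcases hpp.mem_or_mem hr with h1 | h1
    · exact h1
    · exact absurd ((hmem _).mp h1) hmin

/-- A torsion module that is locally finite and has finitely many associated primes is killed by
a power of `I`. -/
theorem exists_kills_of_loc (H : Type u) [AddCommGroup H] [Module R H]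
    (htors : ∀ h : H, ∃ m : ℕ, ∀ a ∈ I ^ m, a • h = 0)
    (hloc : ∀ (p : Ideal R) [p.IsPrime],
      Module.Finite (Localization.AtPrime p) (LocalizedModule p.primeCompl H))
    (F : Set (Ideal R)) (hF : F.Finite) (hAss : associatedPrimes R H ⊆ F) :
    ∃ k : ℕ, ∀ a ∈ I ^ k, ∀ h : H, a • h = 0 := by
  classical
  let kfun : Ideal R → ℕ := fun p =>
    if hp : p.IsPrime then Classical.choose (exists_pow_kills_loc I H htors p (hloc p)) else 0
  refine ⟨hF.toFinset.sup kfun, ?_⟩
  by_contra hcon
  push Not at hcon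
  obtain ⟨a, ha, h, hah⟩ := hcon
  have hz : a • h ∈ Submodule.span R {a • h} := Submodule.mem_span_singleton_self _
  have hnt : Nontrivial (Submodule.span R {a • h}) :=
    ⟨⟨⟨a • h, hz⟩, 0, fun h0 => hah (congrArg Subtype.val h0)⟩⟩
  obtain ⟨P, hP⟩ := associatedPrimes.nonempty R (Submodule.span R {a • h})
  obtain ⟨hPp, w, hw⟩ := isAssociatedPrime_iff.mp hP
  have hPH : P ∈ associatedPrimes R H :=
    IsAssociatedPrime.map_of_injective (Submodule.subtype _) hP (Submodule.injective_subtype _)
  have hPF : P ∈ hF.toFinset := hF.mem_toFinset.mpr (hAss hPH)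
  obtain ⟨r, hr⟩ := Submodule.mem_span_singleton.mp w.2
  have hk : kfun P ≤ hF.toFinset.sup kfun := Finset.le_sup hPF
  have hspec := Classical.choose_spec (exists_pow_kills_loc I H htors P (hloc P))
  have hkP : kfun P = Classical.choose (exists_pow_kills_loc I H htors P (hloc P)) := dif_pos hPp
  rw [← hkP] at hspec
  obtain ⟨s, hsP, hs⟩ := hspec a (Ideal.pow_le_pow_right hk ha) (r • h)
  apply hsP
  rw [hw, Submodule.mem_colon_singleton, Submodule.mem_bot, ← Subtype.coe_inj]
  change s • (w : H) = 0
  rw [← hr, smul_comm r a h]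
  exact hs

/-- Local finiteness of the local cohomology up to degree `n`. -/
def LocFin (n : ℕ) (M : Type u) [AddCommGroup M] [Module R M] : Prop :=
  ∀ (p : Ideal R) [p.IsPrime], ∀ i : ℕ, i ≤ n →
    Module.Finite (Localization.AtPrime p) (LocalizedModule p.primeCompl (LocCoh.H I i M))

theorem finite_loc_of_exact {A B C : Type u} [AddCommGroup A] [Module R A] [AddCommGroup B]
    [Module R B] [AddCommGroup C] [Module R C] (f : A →ₗ[R] B) (g : B →ₗ[R] C)
    (hex : Function.Exact f g) (p : Ideal R) [p.IsPrime]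
    (hA : Module.Finite (Localization.AtPrime p) (LocalizedModule p.primeCompl A))
    (hC : Module.Finite (Localization.AtPrime p) (LocalizedModule p.primeCompl C)) :
    Module.Finite (Localization.AtPrime p) (LocalizedModule p.primeCompl B) := by
  have hnA : IsNoetherian (Localization.AtPrime p) (LocalizedModule p.primeCompl A) :=
    isNoetherian_of_isNoetherianRing_of_finite _ _
  have hnC : IsNoetherian (Localization.AtPrime p) (LocalizedModule p.primeCompl C) :=
    isNoetherian_of_isNoetherianRing_of_finite _ _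
  have hexloc : Function.Exact (LocalizedModule.map p.primeCompl f)
      (LocalizedModule.map p.primeCompl g) := LocalizedModule.map_exact p.primeCompl f g hex
  have hN := isNoetherian_of_range_eq_ker (LocalizedModule.map p.primeCompl f)
    (LocalizedModule.map p.primeCompl g) (LinearMap.exact_iff.mp hexloc).symm
  exact Module.IsNoetherian.finite _ _

theorem step_tf (n : ℕ)
    (ih : ∀ (N : Type u) [AddCommGroup N] [Module R N] [Module.Finite R N],
      LocFin I n N → ∀ i : ℕ, i ≤ n → Module.Finite R (LocCoh.H I i N))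
    (M : Type u) [AddCommGroup M] [Module R M] [Module.Finite R M]
    (htf : DRing.torsionSub I M = ⊥) (hloc : LocFin I (n + 1) M) :
    ∀ i : ℕ, i ≤ n + 1 → Module.Finite R (LocCoh.H I i M) := by
  have hfin : ∀ i : ℕ, i ≤ n → Module.Finite R (LocCoh.H I i M) :=
    ih M (fun p _ i hi => hloc p i (by omega))
  obtain ⟨k, hk⟩ := exists_kills_of_finite_le I n M hfin
  obtain ⟨x, hxI, hreg⟩ := Groth.Agent.S11610.result R R I M (by
    rw [Algebra.algebraMap_self, Ideal.map_id]
    exact htf)
  rw [Algebra.algebraMap_self, RingHom.id_apply] at hreg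
  have hyIk : x ^ (k + 1) ∈ I ^ k :=
    Ideal.pow_le_pow_right (Nat.le_succ k) (Ideal.pow_mem_pow hxI (k + 1))
  have hyI : x ^ (k + 1) ∈ I := Ideal.pow_le_self (Nat.succ_ne_zero k) (Ideal.pow_mem_pow hxI (k + 1))
  have hyreg : IsSMulRegular M (x ^ (k + 1)) := hreg.pow (k + 1)
  have hex := LinearMap.exact_lsmul_mkQ_smul_top (R := R) M (x ^ (k + 1))
  have hS := Sfg_shortExact (LinearMap.lsmul R M (x ^ (k + 1)))
    ((x ^ (k + 1)) • (⊤ : Submodule R M)).mkQ hyreg (Submodule.mkQ_surjective _) hex
  -- local finiteness for the quotient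
  have hlocQ : LocFin I n (QuotSMulTop (x ^ (k + 1)) M) := by
    intro p _ i hi
    exact finite_loc_of_exact _ _ (exact_map_g_Hδ _ hS I i) p (hloc p i (by omega))
      (hloc p (i + 1) (by omega))
  have hfinQ := ih (QuotSMulTop (x ^ (k + 1)) M) hlocQ
  have hfinQn : Module.Finite R (LocCoh.H I n (QuotSMulTop (x ^ (k + 1)) M)) := hfinQ n le_rfl
  have hDfin : Module.Finite R (LinearMap.range (Hδ I n _ hS).hom) := Module.Finite.range _
  have hD : ∀ h : LocCoh.H I (n + 1) M, x ^ (k + 1) • h = 0 →
      h ∈ LinearMap.range (Hδ I n _ hS).hom := by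
    intro h hy
    obtain ⟨z, hz⟩ := H_exact₁ I n _ hS h (by
      change (localCohomology I (n + 1)).map
        (ModuleCat.ofHom (LinearMap.lsmul R M (x ^ (k + 1)))) h = 0
      rw [H_map_lsmul]
      exact hy)
    exact ⟨z, hz⟩
  have htorsy : ∀ h : LocCoh.H I (n + 1) M, ∃ m : ℕ, (x ^ (k + 1)) ^ m • h = 0 := by
    intro h
    obtain ⟨m, hm⟩ := isPowerTorsion_H I (n + 1) (ModuleCat.of R M) h
    exact ⟨m, hm _ (Ideal.pow_mem_pow hyI m)⟩
  have hAss : associatedPrimes R (LocCoh.H I (n + 1) M) ⊆
      associatedPrimes R (LinearMap.range (Hδ I n _ hS).hom) :=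
    fun p hp => mem_associatedPrimes_sub _ (x ^ (k + 1)) htorsy _ hD p hp
  have hnoeth : IsNoetherian R (LinearMap.range (Hδ I n _ hS).hom) :=
    isNoetherian_of_isNoetherianRing_of_finite _ _
  have hFfin : (associatedPrimes R (LinearMap.range (Hδ I n _ hS).hom)).Finite :=
    associatedPrimes.finite R _
  obtain ⟨K, hK⟩ := exists_kills_of_loc I (LocCoh.H I (n + 1) M)
    (isPowerTorsion_H I (n + 1) (ModuleCat.of R M)) (fun p _ => hloc p (n + 1) le_rfl) _ hFfin hAss
  refine finite_of_kills I (n + 1) M ⟨max k K, fun i hi => ?_⟩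
  rcases Nat.lt_or_ge i (n + 1) with hlt | hge
  · exact kills_mono I (le_max_left k K) i M (hk i (by omega))
  · have : i = n + 1 := by omega
    subst this
    exact kills_mono I (le_max_right k K) (n + 1) M hK

theorem main (n : ℕ) : ∀ (M : Type u) [AddCommGroup M] [Module R M] [Module.Finite R M],
    LocFin I n M → ∀ i : ℕ, i ≤ n → Module.Finite R (LocCoh.H I i M) := by
  induction n with
  | zero =>
    intro M _ _ _ _ i hi
    rw [Nat.le_zero.mp hi]
    exact finite_H_zero I M
  | succ n ih =>
    intro M _ _ _ hloc i hi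
    have hbij := fun j (hj : 0 < j) => Groth.Agent.S11589.result R I M j hj
    have htf := Groth.Agent.S0817.torsionSub_quotient_eq_bot I M
    have hsurj : ∀ j : ℕ, Function.Surjective ((localCohomology I j).map
        (ModuleCat.ofHom (DRing.torsionSub I M).mkQ)).hom := by
      intro j
      rcases Nat.eq_zero_or_pos j with rfl | hpos
      · intro y
        exact ⟨0, by rw [map_zero, H_zero_eq_zero_of_torsionSub_eq_bot I _ htf y]⟩
      · exact (hbij j hpos).2
    have hloc' : LocFin I (n + 1) (M ⧸ DRing.torsionSub I M) := by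
      intro p _ j hj
      have := hloc p j hj
      exact Module.Finite.of_surjective (LocalizedModule.map p.primeCompl _)
        (LocalizedModule.map_surjective p.primeCompl _ (hsurj j))
    rcases Nat.eq_zero_or_pos i with rfl | hpos
    · exact finite_H_zero I M
    · have hfin' := step_tf I n ih (M ⧸ DRing.torsionSub I M) htf hloc' i hi
      exact Module.Finite.equiv (LinearEquiv.ofBijective _ (hbij i hpos)).symm

end

/-- For a finite module M over a Noetherian ring, finiteness of the local cohomology modules H^i_I(M)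
for i ≤ n can be checked after localizing at each prime. -/
theorem result (R : Type u) [CommRing R] [IsNoetherianRing R] (I : Ideal R) (M : Type u) [AddCommGroup M] [Module R M] [Module.Finite R M] (n : ℕ) : (∀ i : ℕ, i ≤ n → Module.Finite R (LocCoh.H I i M)) ↔ ∀ (p : Ideal R) [p.IsPrime], ∀ i : ℕ, i ≤ n → Module.Finite (Localization.AtPrime p) (LocalizedModule p.primeCompl (LocCoh.H I i M)) := by
  constructor
  · intro h p _ i hi
    have := h i hi
    infer_instance
  · intro h
    exact main I n M h

end Groth.Agent.S0330
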