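import Groth.Statements.S1743
import Groth.Agent.Lib.Helper8Cd

set_option autoImplicit false
universe u
open LocCoh

namespace Groth.Agent.S1743

open CategoryTheory CategoryTheory.Limits Groth.Agent.Lib.Helper8.ExtLES Groth.Agent.Lib.Helper8.LC
  Groth.Agent.Lib.Helper8.GV Groth.Agent.Lib.Helper8.MV

/-- If `M_f` is projective, the identity of `M` times a power of `f` factors through a finite free
module. -/
theorem exists_factor_pow {A : Type u} [CommRing A] [IsNoetherianRing A] (f : A)
    (M : Type u) [AddCommGroup M] [Module A M] [Module.Finite A M]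
    (hM : Module.Projective (Localization.Away f) (LocalizedModule (Submonoid.powers f) M)) :
    ∃ (r N : ℕ) (a : M →ₗ[A] (Fin r → A)) (b : (Fin r → A) →ₗ[A] M),
      b ∘ₗ a = (f ^ N) • LinearMap.id := by
  have hfp : Module.FinitePresentation A M := Module.finitePresentation_of_finite A M
  obtain ⟨r, π, σ, -, -, hπσ⟩ := Module.Finite.exists_comp_eq_id_of_projective
    (Localization.Away f) (LocalizedModule (Submonoid.powers f) M)
  let mk := LocalizedModule.mkLinearMap (Submonoid.powers f) M
  let lam : (Fin r → A) →ₗ[A] (Fin r → Localization.Away f) :=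
    LinearMap.pi fun i => Algebra.linearMap A (Localization.Away f) ∘ₗ LinearMap.proj i
  have hlam : IsLocalizedModule (Submonoid.powers f) lam :=
    IsLocalizedModule.pi (Submonoid.powers f)
      (fun _ : Fin r => Algebra.linearMap A (Localization.Away f))
  obtain ⟨a, s₁, ha⟩ := Module.FinitePresentation.exists_lift_of_isLocalizedModule
    (Submonoid.powers f) lam ((σ.restrictScalars A) ∘ₗ mk)
  obtain ⟨b, s₂, hb⟩ := Module.FinitePresentation.exists_lift_of_isLocalizedModule
    (Submonoid.powers f) mk ((π.restrictScalars A) ∘ₗ lam)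
  have hcomp : mk ∘ₗ (b ∘ₗ a) = mk ∘ₗ (((s₁ * s₂ : Submonoid.powers f) : A) • LinearMap.id) := by
    apply LinearMap.ext
    intro m
    have h1 : mk (b (a m)) = s₂ • π (lam (a m)) := LinearMap.congr_fun hb (a m)
    have h2 : lam (a m) = s₁ • σ (mk m) := LinearMap.congr_fun ha m
    have h3 : π (σ (mk m)) = mk m := LinearMap.congr_fun hπσ (mk m)
    change mk (b (a m)) = mk ((((s₁ * s₂ : Submonoid.powers f) : A)) • m)
    rw [h1, h2, Submonoid.smul_def, Submonoid.smul_def, ← algebraMap_smul (Localization.Away f)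
      (s₁ : A) (σ (mk m)), map_smul, h3, algebraMap_smul, smul_smul, map_smul, Submonoid.coe_mul,
      mul_comm]
  obtain ⟨s₃, hs₃⟩ := Module.Finite.exists_smul_of_comp_eq_of_isLocalizedModule
    (Submonoid.powers f) mk _ _ hcomp
  obtain ⟨N, hN⟩ := (s₃ * (s₁ * s₂)).2
  refine ⟨r, N, a, (s₃ : A) • b, ?_⟩
  have hN' : f ^ N = ((s₃ * (s₁ * s₂) : Submonoid.powers f) : A) := hN
  rw [hN']
  apply LinearMap.ext
  intro m
  have h4 := LinearMap.congr_fun hs₃ m
  simp only [LinearMap.smul_apply, LinearMap.comp_apply, Submonoid.smul_def, LinearMap.id_apply]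
    at h4
  simp only [LinearMap.smul_apply, LinearMap.comp_apply, LinearMap.id_apply]
  rw [h4, smul_smul]
  rfl

theorem smul_H_pi_eq_zero {A : Type u} [CommRing A] (I : Ideal A) (i r : ℕ) (c : A)
    (h : ∀ x : LocCoh.H I i A, c • x = 0) (y : LocCoh.H I i (Fin r → A)) : c • y = 0 := by
  have hid : 𝟙 (ModuleCat.of A (Fin r → A)) =
      ∑ j ∈ (Finset.univ : Finset (Fin r)),
        (ModuleCat.ofHom (LinearMap.proj (R := A) (φ := fun _ : Fin r => A) j) ≫
          ModuleCat.ofHom (LinearMap.single A (fun _ : Fin r => A) j)) := by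
    apply ModuleCat.hom_ext
    apply LinearMap.ext
    intro c
    rw [ModuleCat.hom_sum, LinearMap.sum_apply]
    funext l
    rw [Finset.sum_apply]
    simp [Pi.single_apply]
  have h1 : y = (localCohomology I i).map (𝟙 (ModuleCat.of A (Fin r → A))) y := by
    rw [CategoryTheory.Functor.map_id]
    rfl
  rw [h1, hid, H_map_sum, Finset.smul_sum]
  apply Finset.sum_eq_zero
  intro j _
  rw [Functor.map_comp]
  change c • (localCohomology I i).map (ModuleCat.ofHom (LinearMap.single A (fun _ : Fin r => A) j))
    ((localCohomology I i).map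
      (ModuleCat.ofHom (LinearMap.proj (R := A) (φ := fun _ : Fin r => A) j)) y) = 0
  rw [← map_smul, h, map_zero]

/-- Let A be a Noetherian ring, J ⊆ I ideals and i ≥ 0. If H^i_I(A) is annihilated by J^n for some n,
then for every finite A-module M such that M_f is a projective A_f-module for every f in I, the
module H^i_I(M) is annihilated by J^m for some m. (The source allows any ring with finitely
generated ideals and finitely presented M.) -/
theorem result (A : Type u) [CommRing A] [IsNoetherianRing A] (J I : Ideal A) (hJI : J ≤ I) (i n : ℕ) (hA : ∀ a ∈ J ^ n, ∀ x : LocCoh.H I i A, a • x = 0) (M : Type u) [AddCommGroup M] [Module A M] [Module.Finite A M] (hM : ∀ f ∈ I, Module.Projective (Localization.Away f) (LocalizedModule (Submonoid.powers f) M)) : ∃ m : ℕ, ∀ a ∈ J ^ m, ∀ x : LocCoh.H I i M, a • x = 0 := by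
  let K : Ideal A :=
    { carrier := {d | ∀ c ∈ J ^ n, ∀ x : LocCoh.H I i M, (c * d) • x = 0}
      add_mem' := by
        intro d₁ d₂ h₁ h₂ c hc x
        rw [mul_add, add_smul, h₁ c hc x, h₂ c hc x, add_zero]
      zero_mem' := by
        intro c _ x
        rw [mul_zero, zero_smul]
      smul_mem' := by
        intro e d hd c hc x
        rw [smul_eq_mul, mul_left_comm, mul_smul, hd c hc x, smul_zero] }
  have hIK : I ≤ K.radical := by
    intro f hf
    obtain ⟨r, N, a, b, hab⟩ := exists_factor_pow f M (hM f hf)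
    refine ⟨N, ?_⟩
    intro c hc x
    have h1 : (f ^ N) • x = (localCohomology I i).map (ModuleCat.ofHom b)
        ((localCohomology I i).map (ModuleCat.ofHom a) x) := by
      rw [← H_map_lsmul I i M (f ^ N) x]
      have h2 : ModuleCat.ofHom (LinearMap.lsmul A M (f ^ N)) =
          ModuleCat.ofHom a ≫ ModuleCat.ofHom b := by
        rw [← ModuleCat.ofHom_comp, hab]
        rfl
      rw [h2, Functor.map_comp]
      rfl
    rw [mul_smul, h1, ← map_smul, smul_H_pi_eq_zero I i r c (hA c hc) _, map_zero]
  obtain ⟨t, ht⟩ := Ideal.exists_pow_le_of_le_radical_of_fg hIK (IsNoetherian.noetherian I)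
  refine ⟨n + t, fun e he x => ?_⟩
  rw [pow_add] at he
  refine Submodule.mul_induction_on he ?_ ?_
  · intro c hc d hd
    exact ht (Ideal.pow_right_mono hJI t hd) c hc x
  · intro e₁ e₂ h₁ h₂
    rw [add_smul, h₁, h₂, add_zero]

end Groth.Agent.S1743
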