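import Groth.Statements.S0331
import Groth.Agent.Lib.Helper8Fal
import Groth.Agent.S1743

set_option autoImplicit false
universe u v
open LocCoh

namespace Groth.Agent.S0331

theorem exists_uniform (n : ℕ) (P : ℕ → ℕ → Prop)
    (mono : ∀ i m m', m ≤ m' → P i m → P i m') (h : ∀ i : ℕ, i ≤ n → ∃ m, P i m) :
    ∃ m, ∀ i : ℕ, i ≤ n → P i m := by
  induction n with
  | zero =>
    obtain ⟨m, hm⟩ := h 0 le_rfl
    exact ⟨m, fun i hi => by rw [Nat.le_zero.mp hi]; exact hm⟩
  | succ n ih =>
    obtain ⟨m, hm⟩ := ih (fun i hi => h i (Nat.le_succ_of_le hi))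
    obtain ⟨m', hm'⟩ := h (n + 1) le_rfl
    refine ⟨max m m', fun i hi => ?_⟩
    rcases Nat.eq_or_lt_of_le hi with heq | hlt
    · rw [heq]
      exact mono _ _ _ (le_max_right m m') hm'
    · exact mono _ _ _ (le_max_left m m') (hm i (Nat.lt_succ_iff.mp hlt))

/-- Over a Noetherian ring, if H^i_I(R) is finitely generated for i ≤ n, then so is H^i_I(M) for i ≤ n
for every finite module M that becomes finite projective after inverting any single element of I. -/
theorem result (R : Type u) [CommRing R] [IsNoetherianRing R] (I : Ideal R) (n : ℕ) (hR : ∀ i : ℕ, i ≤ n → Module.Finite R (LocCoh.H I i R)) (M : Type u) [AddCommGroup M] [Module R M] [Module.Finite R M] (hM : ∀ f ∈ I, Module.Projective (Localization.Away f) (LocalizedModule (Submonoid.powers f) M)) (i : ℕ) (hi : i ≤ n) : Module.Finite R (LocCoh.H I i M) := by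
  obtain ⟨k, hk⟩ := Groth.Agent.Lib.Helper8.Fal.exists_kills_of_finite_le I n R hR
  have h1 : ∀ j : ℕ, j ≤ n → ∃ m, Groth.Agent.Lib.Helper8.Fal.Kills I m j M := by
    intro j hj
    exact Groth.Agent.S1743.result R I I le_rfl j k (hk j hj) M hM
  obtain ⟨m, hm⟩ := exists_uniform n (fun j m => Groth.Agent.Lib.Helper8.Fal.Kills I m j M)
    (fun j m m' hmm' h => Groth.Agent.Lib.Helper8.Fal.kills_mono I hmm' j M h) h1
  exact Groth.Agent.Lib.Helper8.Fal.finite_of_kills I n M ⟨m, hm⟩ i hi

end Groth.Agent.S0331
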