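import Groth.Statements.S0335
import Mathlib
import Groth.Agent.Lib.Helper28Hartshorne
import Groth.Agent.Lib.Helper28DepthLoc
-- import your own Groth.Agent.* helpers here

set_option autoImplicit false
universe u v
open LocCoh

namespace Groth.Agent.S0335
open Groth.Agent.Lib.Helper28

/-- For the ring itself; Hartshorne's connectedness: if a Noetherian local ring has depth at least 2
then its punctured spectrum is connected. -/
theorem result (R : Type u) [CommRing R] [IsLocalRing R] [IsNoetherianRing R] (h : 2 ≤ LocCoh.depth R R) : IsConnected {x : PrimeSpectrum R | x.asIdeal ≠ IsLocalRing.maximalIdeal R} := by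
  constructor
  · -- nonempty: an associated prime is not the maximal ideal since the depth is positive
    obtain ⟨q, hq⟩ := associatedPrimes.nonempty R R
    have hqp : q.IsPrime := hq.isPrime
    refine ⟨⟨q, hqp⟩, ?_⟩
    intro heq
    have h0 : LocCoh.depth R R = 0 := by
      rw [depth_eq_zero_iff]
      rw [show IsLocalRing.maximalIdeal R = q from heq.symm]
      exact hq
    rw [h0] at h
    exact absurd h (by decide)
  · rw [isPreconnected_closed_iff]
    intro t t' ht ht' hsub hnt hnt'
    obtain ⟨I, rfl⟩ := (PrimeSpectrum.isClosed_iff_zeroLocus_ideal t).mp ht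
    obtain ⟨J, rfl⟩ := (PrimeSpectrum.isClosed_iff_zeroLocus_ideal t').mp ht'
    by_contra hempty
    rw [Set.not_nonempty_iff_eq_empty] at hempty
    have hI : I ≠ ⊤ := by
      rintro rfl
      obtain ⟨x, -, hx⟩ := hnt
      rw [PrimeSpectrum.mem_zeroLocus] at hx
      exact x.2.ne_top (top_le_iff.mp hx)
    have hJ : J ≠ ⊤ := by
      rintro rfl
      obtain ⟨x, -, hx⟩ := hnt'
      rw [PrimeSpectrum.mem_zeroLocus] at hx
      exact x.2.ne_top (top_le_iff.mp hx)
    have h1 : ∀ p : Ideal R, p.IsPrime → I ≤ p ∨ J ≤ p := by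
      intro p hp
      by_cases hpm : p = IsLocalRing.maximalIdeal R
      · left; rw [hpm]; exact IsLocalRing.le_maximalIdeal hI
      · have := hsub (show (⟨p, hp⟩ : PrimeSpectrum R) ∈ _ from hpm)
        rcases this with h' | h'
        · left; exact (PrimeSpectrum.mem_zeroLocus _ _).mp h'
        · right; exact (PrimeSpectrum.mem_zeroLocus _ _).mp h'
    have h2 : ∀ p : Ideal R, p.IsPrime → I ≤ p → J ≤ p → p = IsLocalRing.maximalIdeal R := by
      intro p hp hIp hJp
      by_contra hpm
      have hmem : (⟨p, hp⟩ : PrimeSpectrum R) ∈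
          {x : PrimeSpectrum R | x.asIdeal ≠ IsLocalRing.maximalIdeal R} ∩
            (PrimeSpectrum.zeroLocus ↑I ∩ PrimeSpectrum.zeroLocus ↑J) :=
        ⟨hpm, (PrimeSpectrum.mem_zeroLocus _ _).mpr hIp, (PrimeSpectrum.mem_zeroLocus _ _).mpr hJp⟩
      rw [hempty] at hmem
      exact hmem
    rcases le_nilradical_or_le_nilradical_of_two_le_depth (B := R) I J h1 h2 h with hn | hn
    · obtain ⟨x, hx1, hx2⟩ := hnt'
      have : x ∈ {x : PrimeSpectrum R | x.asIdeal ≠ IsLocalRing.maximalIdeal R} ∩
            (PrimeSpectrum.zeroLocus ↑I ∩ PrimeSpectrum.zeroLocus ↑J) := by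
        refine ⟨hx1, ?_, hx2⟩
        rw [PrimeSpectrum.mem_zeroLocus]
        exact hn.trans (nilradical_le_prime x.asIdeal)
      rw [hempty] at this
      exact this
    · obtain ⟨x, hx1, hx2⟩ := hnt
      have : x ∈ {x : PrimeSpectrum R | x.asIdeal ≠ IsLocalRing.maximalIdeal R} ∩
            (PrimeSpectrum.zeroLocus ↑I ∩ PrimeSpectrum.zeroLocus ↑J) := by
        refine ⟨hx1, hx2, ?_⟩
        rw [PrimeSpectrum.mem_zeroLocus]
        exact hn.trans (nilradical_le_prime x.asIdeal)
      rw [hempty] at this
      exact this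

end Groth.Agent.S0335
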