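import Groth.Statements.S0337
import Groth.Agent.Lib.Helper13Frob
-- import your own Groth.Agent.* helpers here

set_option autoImplicit false
universe u v
open CategoryTheory
open LocCoh

namespace Groth.Agent.S0337

/-- Over a Noetherian local ring of prime characteristic p, a finite module isomorphic to its own base
change along Frobenius is free. -/
theorem result (p : ℕ) [Fact p.Prime] (R : Type u) [CommRing R] [IsLocalRing R] [IsNoetherianRing R] [CharP R p] (M : Type u) [AddCommGroup M] [Module R M] [Module.Finite R M] (h : Nonempty ((ModuleCat.extendScalars (frobenius R p)).obj (ModuleCat.of R M) ≅ ModuleCat.of R M)) : Module.Free R M := by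
  obtain ⟨ι, hG, hU⟩ := Groth.Agent.Helper13Frob.extendScalars_universal (frobenius R p) M
  obtain ⟨e⟩ := h
  exact Groth.Agent.Helper13Frob.free_of_frobenius_descent p ι hG hU e.toLinearEquiv

end Groth.Agent.S0337
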