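import Groth.Statements.S0338
import Groth.Agent.Lib.Helper14TorsHullA
import Groth.Agent.Lib.Helper14FrobTorsB
import Groth.Agent.Lib.Helper14FrobTorsC
import Groth.Agent.Lib.Helper14FrobTorsD
import Groth.Agent.Lib.Helper14FrobTorsE

set_option autoImplicit false
universe u v
open CategoryTheory
open LocCoh

namespace Groth.Agent.S0338

/-- Over a regular local ring of prime characteristic p, let M be a module killed elementwise by powers
of the maximal ideal and isomorphic to its own base change along Frobenius; then M is isomorphic to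
a (possibly infinite) sum of copies of E, where E is an injective hull of the residue field. -/
theorem result (p : ℕ) [Fact p.Prime] (R : Type u) [CommRing R] [IsRegularLocalRing R] [CharP R p] (E : Type u) [AddCommGroup E] [Module R E] (f : IsLocalRing.ResidueField R →ₗ[R] E) (hf : InjHull.IsInjectiveHull f) (M : Type u) [AddCommGroup M] [Module R M] (hM : LocCoh.IsPowerTorsion (IsLocalRing.maximalIdeal R) M) (h : Nonempty ((ModuleCat.extendScalars (frobenius R p)).obj (ModuleCat.of R M) ≅ ModuleCat.of R M)) : ∃ ι : Type u, Nonempty (M ≃ₗ[R] (ι →₀ E)) := by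
  classical
  open Groth.Agent.Lib.Helper14.TorsHull Groth.Agent.Lib.Helper14.FrobTors in
  -- generators of the maximal ideal
  obtain ⟨r, x, hx⟩ := Submodule.fg_iff_exists_fin_generating_family.1
    (IsNoetherian.noetherian (IsLocalRing.maximalIdeal R))
  have hx' : Ideal.span (Set.range x) = IsLocalRing.maximalIdeal R := hx
  -- the socle is free
  obtain ⟨J, b, hb⟩ := exists_freeOn_socle (R := R) M
  rw [← hx'] at hb
  have hflat := frobenius_flat p R
  -- the embedding
  obtain ⟨J', φ, hφinj, hφsoc⟩ := exists_embedding f hf M hM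
  refine ⟨J', ⟨LinearEquiv.ofBijective φ ⟨hφinj, ?_⟩⟩⟩
  have hW : LocCoh.IsPowerTorsion (IsLocalRing.maximalIdeal R) (J' →₀ E) :=
    isPowerTorsion_finsupp _ (Groth.Agent.S0311.result _ E f hf)
  intro w
  obtain ⟨N, hN⟩ := hW w
  rw [← LinearMap.mem_range]
  -- the ideal `I_N`
  obtain ⟨bN, hbN⟩ := FreeOn.frobenius_iterate p hflat h x hb N
  haveI := injective_quotient p x hx' N
  have hIle : Ideal.span (Set.range fun i => x i ^ p ^ N) ≤ IsLocalRing.maximalIdeal R :=
    span_pow_le p x hx' N
  have hIN : Ideal.span (Set.range fun i => x i ^ p ^ N) ≤ IsLocalRing.maximalIdeal R ^ N := by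
    rw [Ideal.span_le]
    rintro _ ⟨i, rfl⟩
    have hi : x i ∈ IsLocalRing.maximalIdeal R := by
      rw [← hx']; exact Ideal.subset_span ⟨i, rfl⟩
    have h1 : x i ^ p ^ N ∈ IsLocalRing.maximalIdeal R ^ (p ^ N) := Ideal.pow_mem_pow hi _
    have h2 : N ≤ p ^ N := (Nat.lt_pow_self (Fact.out : p.Prime).one_lt).le
    exact Ideal.pow_le_pow_right h2 h1
  refine FreeOn.mem_range_of_torsion _ hbN φ hφinj ?_ w (fun a ha => hN a (hIN ha))
  intro w' hw'0 _
  obtain ⟨a, haw, hsoc⟩ := exists_smul_mem_socle (IsLocalRing.maximalIdeal R) hW hw'0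
  obtain ⟨v, hv⟩ := hφsoc (a • w') hsoc
  refine ⟨a, haw, v, ?_, hv⟩
  intro c hc
  apply hφinj
  rw [map_smul, hv, map_zero]
  exact hsoc c (hIle hc)


end Groth.Agent.S0338
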