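import Groth.Statements.S1886
import Mathlib
import Groth.Agent.Lib.Helper2Grpd

set_option autoImplicit false
universe u
open CategoryTheory CategoryTheory.Limits AlgebraicGeometry
open Grpd

namespace Groth.Agent.S1886

open CategoryTheory CategoryTheory.Limits AlgebraicGeometry in
/-- the identity section, typed into the pullback -/
noncomputable def eS {S : Scheme.{u}} (G : Grpd.GroupoidScheme S) : G.U ⟶ pullback G.j G.diag :=
  G.eStab

open CategoryTheory CategoryTheory.Limits AlgebraicGeometry Groth.Agent.Lib.Helper2.Grpd in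
lemma key {S : Scheme.{u}} (G : Grpd.GroupoidScheme S) :
    ∃ δ : pullback G.j G.j ⟶ pullback G.j G.diag,
      IsPullback G.s (pullback.diagonal G.j) (eS G) δ := by
  set π₁ := pullback.fst G.j G.j with hπ₁
  set π₂ := pullback.snd G.j G.j with hπ₂
  have hjt : G.j ≫ pullback.fst G.pU G.pU = G.t := pullback.lift_fst _ _ _
  have hjs : G.j ≫ pullback.snd G.pU G.pU = G.s := pullback.lift_snd _ _ _
  have hcond : π₁ ≫ G.j = π₂ ≫ G.j := pullback.condition
  have ht12 : π₁ ≫ G.t = π₂ ≫ G.t := by
    rw [← hjt, ← Category.assoc, hcond, Category.assoc]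
  have hs12 : π₁ ≫ G.s = π₂ ≫ G.s := by
    rw [← hjs, ← Category.assoc, hcond, Category.assoc]
  have hδR : (π₁ ≫ G.i) ≫ G.s = π₂ ≫ G.t := by
    rw [Category.assoc, G.i_s, ht12]
  let δR : pullback G.j G.j ⟶ G.R := comp G (π₁ ≫ G.i) π₂ hδR
  have hdiag1 : G.diag ≫ pullback.fst G.pU G.pU = 𝟙 _ := pullback.lift_fst _ _ _
  have hdiag2 : G.diag ≫ pullback.snd G.pU G.pU = 𝟙 _ := pullback.lift_snd _ _ _
  have hδ : δR ≫ G.j = (π₂ ≫ G.s) ≫ G.diag := by
    apply pullback.hom_ext
    · rw [Category.assoc, hjt, Category.assoc, hdiag1, Category.comp_id]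
      show comp G (π₁ ≫ G.i) π₂ hδR ≫ G.t = _
      rw [comp_t, Category.assoc, G.i_t, hs12]
    · rw [Category.assoc, hjs, Category.assoc, hdiag2, Category.comp_id]
      show comp G (π₁ ≫ G.i) π₂ hδR ≫ G.s = _
      rw [comp_s]
  let δ : pullback G.j G.j ⟶ pullback G.j G.diag := pullback.lift δR (π₂ ≫ G.s) hδ
  have hδ1 : δ ≫ pullback.fst G.j G.diag = δR := pullback.lift_fst _ _ _
  have hδ2 : δ ≫ pullback.snd G.j G.diag = π₂ ≫ G.s := pullback.lift_snd _ _ _
  have he1 : eS G ≫ pullback.fst G.j G.diag = G.e := pullback.lift_fst _ _ _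
  have he2 : eS G ≫ pullback.snd G.j G.diag = 𝟙 _ := pullback.lift_snd _ _ _
  have hd1 : pullback.diagonal G.j ≫ π₁ = 𝟙 _ := pullback.diagonal_fst _
  have hd2 : pullback.diagonal G.j ≫ π₂ = 𝟙 _ := pullback.diagonal_snd _
  refine ⟨δ, ?_⟩
  have w : G.s ≫ eS G = pullback.diagonal G.j ≫ δ := by
    apply pullback.hom_ext
    · rw [Category.assoc, he1, Category.assoc, hδ1]
      show _ = _ ≫ comp G (π₁ ≫ G.i) π₂ hδR
      rw [precomp_comp]
      have e1 : pullback.diagonal G.j ≫ π₁ ≫ G.i = 𝟙 G.R ≫ G.i := by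
        rw [← Category.assoc, hd1]
      rw [comp_congr G _ e1 hd2, i_comp, Category.id_comp]
    · rw [Category.assoc, he2, Category.assoc, hδ2, ← Category.assoc, hd2, Category.id_comp,
        Category.comp_id]
  refine ⟨⟨w⟩, ⟨PullbackCone.IsLimit.mk w (fun c => c.snd ≫ π₁) ?_ ?_ ?_⟩⟩
  · -- fac_left : lift ≫ s = c.fst
    intro c
    have hc := c.condition
    have h2 := congrArg (· ≫ pullback.snd G.j G.diag) hc
    simp only [Category.assoc, he2, hδ2, Category.comp_id] at h2
    rw [Category.assoc, hs12]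
    exact h2.symm
  · -- fac_right : lift ≫ diagonal = c.snd
    intro c
    have hc := c.condition
    have h2 := congrArg (· ≫ pullback.snd G.j G.diag) hc
    simp only [Category.assoc, he2, hδ2, Category.comp_id] at h2
    have h1 := congrArg (· ≫ pullback.fst G.j G.diag) hc
    simp only [Category.assoc, he1, hδ1] at h1
    -- h1 : c.fst ≫ e = c.snd ≫ δR ; h2 : c.fst = c.snd ≫ π₂ ≫ s
    have hside : ((c.snd ≫ π₁) ≫ G.i) ≫ G.s = (c.snd ≫ π₂) ≫ G.t := by
      simp only [Category.assoc, G.i_s, ht12]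
    have h3 : c.snd ≫ δR = comp G ((c.snd ≫ π₁) ≫ G.i) (c.snd ≫ π₂) hside := by
      show c.snd ≫ comp G (π₁ ≫ G.i) π₂ hδR = _
      rw [precomp_comp]
      exact comp_congr G _ (by rw [Category.assoc]) rfl
    have hkey : c.snd ≫ π₁ = c.snd ≫ π₂ := by
      have h4 := comp_i_comp G (c.snd ≫ π₁) (c.snd ≫ π₂) hside
        (by rw [comp_t]; simp only [Category.assoc, G.i_t])
      rw [← h4]
      have h5 : comp G ((c.snd ≫ π₁) ≫ G.i) (c.snd ≫ π₂) hside =
          (c.snd ≫ π₁) ≫ G.s ≫ G.e := by
        rw [← h3, ← h1, h2]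
        simp only [Category.assoc]
        rw [reassoc_of% hs12]
      rw [comp_congr G _ rfl h5]
      exact (G.comp_e (c.snd ≫ π₁)).symm
    apply pullback.hom_ext
    · rw [Category.assoc, hd1, Category.comp_id]
    · rw [Category.assoc, hd2, Category.comp_id]
      exact hkey
  · intro c m hm1 hm2
    rw [← hm2, Category.assoc, hd1, Category.comp_id]

/-- Let (U, R, s, t, c) be a groupoid scheme over S with stabilizer group scheme G → U and identity
section e : U → G. Then j = (t, s) : R → U ×_S U is separated iff G → U is separated iff e is a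
closed immersion; and j is quasi-separated iff G → U is quasi-separated iff e is quasi-compact. (A
groupoid scheme carries U, R, s, t, c, e, i over S with the groupoid axioms on T-points; 'finite
locally free' is finite, flat and locally of finite presentation; C ⊂ Γ(U) is the ring of functions
a with s♯(a) = t♯(a) and M = Spec C.) -/
theorem result (S : Scheme.{u}) (G : Grpd.GroupoidScheme S) : ((IsSeparated G.j ↔ IsSeparated G.stabilizerToU) ∧ (IsSeparated G.stabilizerToU ↔ IsClosedImmersion G.eStab)) ∧ ((QuasiSeparated G.j ↔ QuasiSeparated G.stabilizerToU) ∧ (QuasiSeparated G.stabilizerToU ↔ QuasiCompact G.eStab)) := by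
  obtain ⟨δ, hkey'⟩ := key G
  have hkey : IsPullback G.s (pullback.diagonal G.j) G.eStab δ := hkey'
  have hsec : G.eStab ≫ G.stabilizerToU = 𝟙 _ := pullback.lift_snd _ _ _
  -- separated
  have hA : IsSeparated G.j → IsSeparated G.stabilizerToU := by
    intro h
    show IsSeparated (pullback.snd G.j G.diag)
    infer_instance
  have hB : IsSeparated G.stabilizerToU → IsClosedImmersion G.eStab := by
    intro h
    have : IsClosedImmersion (G.eStab ≫ G.stabilizerToU) := by rw [hsec]; infer_instance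
    exact IsClosedImmersion.of_comp G.eStab G.stabilizerToU
  have hC : IsClosedImmersion G.eStab → IsSeparated G.j := by
    intro h
    exact ⟨MorphismProperty.of_isPullback (P := @IsClosedImmersion) hkey h⟩
  -- quasi-separated
  have hA' : QuasiSeparated G.j → QuasiSeparated G.stabilizerToU := by
    intro h
    show QuasiSeparated (pullback.snd G.j G.diag)
    infer_instance
  have hB' : QuasiSeparated G.stabilizerToU → QuasiCompact G.eStab := by
    intro h
    have : QuasiCompact (G.eStab ≫ G.stabilizerToU) := by rw [hsec]; infer_instance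
    exact QuasiCompact.of_comp G.eStab G.stabilizerToU
  have hC' : QuasiCompact G.eStab → QuasiSeparated G.j := by
    intro h
    exact ⟨MorphismProperty.of_isPullback (P := @QuasiCompact) hkey h⟩
  exact ⟨⟨⟨hA, fun h => hC (hB h)⟩, ⟨hB, fun h => hA (hC h)⟩⟩,
    ⟨⟨hA', fun h => hC' (hB' h)⟩, ⟨hB', fun h => hA' (hC' h)⟩⟩⟩

end Groth.Agent.S1886
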