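import Groth.Statements.S0346
import Mathlib
import Groth.Agent.S1886
import Groth.Agent.Lib.Helper2GrpToGrpd

set_option autoImplicit false
universe u v
open CategoryTheory MonoidalCategory CartesianMonoidalCategory MonObj GrpObj AlgebraicGeometry
open GrpSch

namespace Groth.Agent.S0346

section Dev
open CategoryTheory.Limits Groth.Agent.Lib.Helper2.GrpToGrpd
theorem gen {S : Scheme.{u}} (Γ : Grpd.GroupoidScheme S) [IsIso Γ.pU] :
    (IsSeparated Γ.s ↔ IsClosedImmersion Γ.e) ∧
      (QuasiSeparated Γ.s ↔ QuasiCompact Γ.e) := by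
  have h := Groth.Agent.S1886.result S Γ
  have hfst : IsIso (pullback.fst Γ.pU Γ.pU) := inferInstance
  have h1 : Γ.diag ≫ pullback.fst Γ.pU Γ.pU = 𝟙 _ := pullback.lift_fst _ _ _
  have hdiag : IsIso Γ.diag := by
    have h2 : Γ.diag = inv (pullback.fst Γ.pU Γ.pU) := by
      rw [← cancel_mono (pullback.fst Γ.pU Γ.pU), h1, IsIso.inv_hom_id]
    rw [h2]
    infer_instance
  have hfst2 : IsIso (pullback.fst Γ.j Γ.diag) := inferInstance
  obtain ⟨incl, hincl⟩ : ∃ incl : Γ.stabilizer ⟶ Γ.R, incl = pullback.fst Γ.j Γ.diag := ⟨_, rfl⟩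
  have hincliso : IsIso incl := by rw [hincl]; exact hfst2
  have e1' : Γ.stabilizerToU = incl ≫ Γ.s := by
    have hc := pullback.condition (f := Γ.j) (g := Γ.diag)
    have := congrArg (fun m => m ≫ pullback.snd Γ.pU Γ.pU) hc
    simp only [Category.assoc] at this
    have hj : Γ.j ≫ pullback.snd Γ.pU Γ.pU = Γ.s := pullback.lift_snd _ _ _
    have h2 : Γ.diag ≫ pullback.snd Γ.pU Γ.pU = 𝟙 _ := pullback.lift_snd _ _ _
    rw [hj, h2, Category.comp_id] at this
    rw [hincl]
    exact this.symm
  have e2 : Γ.eStab ≫ incl = Γ.e := by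
    rw [hincl]
    exact pullback.lift_fst _ _ _
  constructor
  · rw [← e2, MorphismProperty.cancel_right_of_respectsIso (P := @IsClosedImmersion), ← h.1.2, e1',
      MorphismProperty.cancel_left_of_respectsIso (P := @IsSeparated)]
  · rw [← e2, MorphismProperty.cancel_right_of_respectsIso (P := @QuasiCompact), ← h.2.2, e1',
      MorphismProperty.cancel_left_of_respectsIso (P := @QuasiSeparated)]

end Dev

/-- A group scheme over any base scheme is separated over the base exactly when its unit section is a
closed immersion, and quasi-separated exactly when the unit section is quasi-compact. -/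
theorem result (S : Scheme.{u}) (G : Over S) [GrpObj G] : (IsSeparated G.hom ↔ IsClosedImmersion η[G].left) ∧ (QuasiSeparated G.hom ↔ QuasiCompact η[G].left) := by
  have : IsIso (Groth.Agent.Lib.Helper2.GrpToGrpd.toGrpd G).pU := by
    show IsIso (𝟙 S)
    infer_instance
  exact gen (Groth.Agent.Lib.Helper2.GrpToGrpd.toGrpd G)

end Groth.Agent.S0346
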