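import Groth.Statements.S7457
import Mathlib
import Groth.Agent.Lib.Helper2Grpd

set_option autoImplicit false
universe u
open CategoryTheory CategoryTheory.Limits AlgebraicGeometry
open Grpd

namespace Groth.Agent.S7457

/-- Let (U, R, s, t, c) be a groupoid scheme over S. Let φ : R x_(t,U,t) R -> R x_(s,U,t) R be the
morphism sending a pair (a, b) with the same target to (a, a^{-1} composed with b), that is, the
morphism whose first component is the first projection and whose second component is c applied to (i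
composed after the first projection, second projection). Then φ is an isomorphism and composed with
c it gives the second projection. Moreover the square with sides c, the second projection R
x_(s,U,t) R -> R, s and s is cartesian. (A groupoid scheme carries U, R, s, t, c, e, i over S with
the groupoid axioms on T-points; c is defined on the fibre product of s and t and sends a pair (a,
b) with s(a) = t(b) to a composed with b.) -/
theorem result (S : Scheme.{u}) (G : Grpd.GroupoidScheme S) : (∀ φ : pullback G.t G.t ⟶ pullback G.s G.t, φ ≫ pullback.fst G.s G.t = pullback.fst G.t G.t → φ ≫ pullback.snd G.s G.t = pullback.lift (pullback.fst G.t G.t ≫ G.i) (pullback.snd G.t G.t) ((Category.assoc _ _ _).trans ((congrArg (fun x => pullback.fst G.t G.t ≫ x) G.i_s).trans pullback.condition)) ≫ G.c → IsIso φ ∧ φ ≫ G.c = pullback.snd G.t G.t) ∧ IsPullback G.c (pullback.snd G.s G.t) G.s G.s := by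
  constructor
  · intro φ hφ1 hφ2
    set a := pullback.fst G.t G.t with ha
    set b := pullback.snd G.t G.t with hb
    set p := pullback.fst G.s G.t with hp
    set q := pullback.snd G.s G.t with hq
    have hab : a ≫ G.t = b ≫ G.t := pullback.condition
    have hpq : p ≫ G.s = q ≫ G.t := pullback.condition
    have hai : (a ≫ G.i) ≫ G.s = b ≫ G.t := by rw [Category.assoc, G.i_s, hab]
    have hφ2' : φ ≫ q = Groth.Agent.Lib.Helper2.Grpd.comp G (a ≫ G.i) b hai := hφ2
    have hc : G.c = Groth.Agent.Lib.Helper2.Grpd.comp G p q hpq := by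
      unfold Groth.Agent.Lib.Helper2.Grpd.comp
      have : pullback.lift p q hpq = 𝟙 _ := by
        apply pullback.hom_ext <;> simp [hp, hq]
      rw [this, Category.id_comp]
    have hφc : φ ≫ G.c = b := by
      rw [hc, Groth.Agent.Lib.Helper2.Grpd.precomp_comp,
        Groth.Agent.Lib.Helper2.Grpd.comp_congr G _ hφ1 hφ2']
      exact Groth.Agent.Lib.Helper2.Grpd.comp_i_comp G a b hai _
    refine ⟨?_, hφc⟩
    have hψ : p ≫ G.t = Groth.Agent.Lib.Helper2.Grpd.comp G p q hpq ≫ G.t := by
      rw [Groth.Agent.Lib.Helper2.Grpd.comp_t]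
    let ψ : pullback G.s G.t ⟶ pullback G.t G.t :=
      pullback.lift p (Groth.Agent.Lib.Helper2.Grpd.comp G p q hpq) hψ
    have hψ1 : ψ ≫ a = p := pullback.lift_fst _ _ _
    have hψ2 : ψ ≫ b = Groth.Agent.Lib.Helper2.Grpd.comp G p q hpq := pullback.lift_snd _ _ _
    refine ⟨ψ, ?_, ?_⟩
    · apply pullback.hom_ext
      · show (φ ≫ ψ) ≫ a = 𝟙 _ ≫ a
        rw [Category.assoc, hψ1, hφ1, Category.id_comp]
      · show (φ ≫ ψ) ≫ b = 𝟙 _ ≫ b
        rw [Category.assoc, hψ2, ← hc, hφc, Category.id_comp]
    · apply pullback.hom_ext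
      · show (ψ ≫ φ) ≫ p = 𝟙 _ ≫ p
        rw [Category.assoc, hφ1, hψ1, Category.id_comp]
      · show (ψ ≫ φ) ≫ q = 𝟙 _ ≫ q
        rw [Category.assoc, hφ2', Groth.Agent.Lib.Helper2.Grpd.precomp_comp, Category.id_comp]
        have e1 : ψ ≫ a ≫ G.i = p ≫ G.i := by rw [← Category.assoc, hψ1]
        rw [Groth.Agent.Lib.Helper2.Grpd.comp_congr G _ e1 hψ2]
        exact Groth.Agent.Lib.Helper2.Grpd.i_comp_comp G p q hpq _
  · set p := pullback.fst G.s G.t with hp
    set q := pullback.snd G.s G.t with hq
    have hpq : p ≫ G.s = q ≫ G.t := pullback.condition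
    have hc : G.c = Groth.Agent.Lib.Helper2.Grpd.comp G p q hpq := by
      unfold Groth.Agent.Lib.Helper2.Grpd.comp
      have : pullback.lift p q hpq = 𝟙 _ := by
        apply pullback.hom_ext <;> simp [hp, hq]
      rw [this, Category.id_comp]
    have w : G.c ≫ G.s = q ≫ G.s := by
      rw [hc, Groth.Agent.Lib.Helper2.Grpd.comp_s]
    have hlift : ∀ c : PullbackCone G.s G.s, c.fst ≫ G.s = (c.snd ≫ G.i) ≫ G.t := by
      intro c
      rw [Category.assoc, G.i_t]
      exact c.condition
    have hlift2 : ∀ c : PullbackCone G.s G.s,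
        Groth.Agent.Lib.Helper2.Grpd.comp G c.fst (c.snd ≫ G.i) (hlift c) ≫ G.s = c.snd ≫ G.t := by
      intro c
      rw [Groth.Agent.Lib.Helper2.Grpd.comp_s, Category.assoc, G.i_s]
    refine ⟨⟨w⟩, ⟨PullbackCone.IsLimit.mk w
      (fun c => pullback.lift (Groth.Agent.Lib.Helper2.Grpd.comp G c.fst (c.snd ≫ G.i) (hlift c))
        c.snd (hlift2 c)) ?_ ?_ ?_⟩⟩
    · intro c
      rw [hc, Groth.Agent.Lib.Helper2.Grpd.precomp_comp]
      have e1 : pullback.lift (Groth.Agent.Lib.Helper2.Grpd.comp G c.fst (c.snd ≫ G.i) (hlift c))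
          c.snd (hlift2 c) ≫ p = Groth.Agent.Lib.Helper2.Grpd.comp G c.fst (c.snd ≫ G.i) (hlift c) :=
        pullback.lift_fst _ _ _
      have e2 : pullback.lift (Groth.Agent.Lib.Helper2.Grpd.comp G c.fst (c.snd ≫ G.i) (hlift c))
          c.snd (hlift2 c) ≫ q = c.snd := pullback.lift_snd _ _ _
      rw [Groth.Agent.Lib.Helper2.Grpd.comp_congr G _ e1 e2]
      exact Groth.Agent.Lib.Helper2.Grpd.comp_i_comp' G c.fst c.snd (hlift c) _
    · intro c
      exact pullback.lift_snd _ _ _
    · intro c m hm1 hm2
      apply pullback.hom_ext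
      · show m ≫ p = _ ≫ p
        rw [pullback.lift_fst]
        have h1 : m ≫ G.c = Groth.Agent.Lib.Helper2.Grpd.comp G (m ≫ p) (m ≫ q)
            (by rw [Category.assoc, Category.assoc, hpq]) := by
          rw [hc, Groth.Agent.Lib.Helper2.Grpd.precomp_comp]
        have h2 := Groth.Agent.Lib.Helper2.Grpd.comp_comp_i G (m ≫ p) (m ≫ q)
          (by rw [Category.assoc, Category.assoc, hpq])
          (by rw [Groth.Agent.Lib.Helper2.Grpd.comp_s]; simp only [Category.assoc, G.i_t])
        rw [← h2]
        exact Groth.Agent.Lib.Helper2.Grpd.comp_congr G _ (h1.symm.trans hm1)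
          (by rw [hm2])
      · show m ≫ q = _ ≫ q
        rw [pullback.lift_snd]
        exact hm2

end Groth.Agent.S7457
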