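import Groth.Statements.S7452
import Mathlib
import Groth.Agent.Lib.Helper2Grpd
import Groth.Agent.S7457

set_option autoImplicit false
universe u
open CategoryTheory CategoryTheory.Limits AlgebraicGeometry
open Grpd

namespace Groth.Agent.S7452

/-- Let (U, R, s, t, c) be a groupoid scheme over S with U the spectrum of a field. Then the composition
c : R x_(s,U,t) R -> R is an open map of topological spaces. (A groupoid scheme carries U, R, s, t,
c, e, i over S with the groupoid axioms on T-points; c is defined on the fibre product of s and t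
and sends a pair (a, b) with s(a) = t(b) to a composed with b.) -/
theorem result (S : Scheme.{u}) (G : Grpd.GroupoidScheme S) (k : Type u) [Field k] (eU : G.U ≅ Spec (CommRingCat.of k)) : IsOpenMap ⇑G.c := by
  classical
  have hUn : Nonempty G.U := ⟨eU.inv (IsLocalRing.closedPoint k)⟩
  have hUi : IsIntegral G.U := isIntegral_of_isOpenImmersion eU.hom
  have hUs : Subsingleton G.U := eU.hom.homeomorph.subsingleton
  have hai : (pullback.fst G.t G.t ≫ G.i) ≫ G.s = pullback.snd G.t G.t ≫ G.t :=
    (Category.assoc _ _ _).trans
      ((congrArg (fun x => pullback.fst G.t G.t ≫ x) G.i_s).trans pullback.condition)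
  have hφ : pullback.fst G.t G.t ≫ G.s =
      (pullback.lift (pullback.fst G.t G.t ≫ G.i) (pullback.snd G.t G.t) hai ≫ G.c) ≫ G.t := by
    rw [G.comp_t, Category.assoc, G.i_t]
  let φ : pullback G.t G.t ⟶ pullback G.s G.t :=
    pullback.lift (pullback.fst G.t G.t)
      (pullback.lift (pullback.fst G.t G.t ≫ G.i) (pullback.snd G.t G.t) hai ≫ G.c) hφ
  obtain ⟨hiso, hφc⟩ := (Groth.Agent.S7457.result S G).1 φ (pullback.lift_fst _ _ _)
    (pullback.lift_snd _ _ _)
  have hc : G.c = inv φ ≫ pullback.snd G.t G.t := by
    rw [← hφc, IsIso.inv_hom_id_assoc]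
  rw [hc]
  have : UniversallyOpen G.t := inferInstance
  have : UniversallyOpen (pullback.snd G.t G.t) := inferInstance
  exact (inv φ ≫ pullback.snd G.t G.t).isOpenMap

end Groth.Agent.S7452
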