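import Groth.Statements.S0354
import Groth.Agent.S5341
import Groth.Agent.Lib.Helper4VarDim5
import Mathlib

set_option autoImplicit false
set_option linter.style.haveILetI false
universe u v
open CategoryTheory MonoidalCategory CartesianMonoidalCategory MonObj GrpObj AlgebraicGeometry
open GrpSch

namespace Groth.Agent.S0354

/-- In a group scheme locally of finite type over a field, the local ring at every closed point has
Krull dimension equal to the dimension of the whole scheme. -/
theorem result (K : Type u) [Field K] (G : Over (Spec (CommRingCat.of K))) [GrpObj G] [LocallyOfFiniteType G.hom] (g : G.left) (hg : IsClosed ({g} : Set G.left)) : ringKrullDim (G.left.presheaf.stalk g) = topologicalKrullDim G.left := by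
  rw [← (Groth.Agent.S5341.result K G).2 g]
  letI : G.left.Over (Spec (CommRingCat.of K)) := ⟨G.hom⟩
  haveI : LocallyOfFiniteType (G.left ↘ Spec (CommRingCat.of K)) := by
    show LocallyOfFiniteType G.hom
    infer_instance
  haveI : IsLocallyNoetherian G.left :=
    LocallyOfFiniteType.isLocallyNoetherian (G.left ↘ Spec (CommRingCat.of K))
  have h0 := Groth.Agent.Lib.Helper4.VarDim.trdeg_eq_zero_of_isClosed K G.left g hg
  have hlt : ringKrullDim (G.left.presheaf.stalk g) < ⊤ := ringKrullDim_lt_top
  have hge : 0 ≤ ringKrullDim (G.left.presheaf.stalk g) := ringKrullDim_nonneg_of_nontrivial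
  obtain ⟨b, hb⟩ : ∃ b : ℕ, ringKrullDim (G.left.presheaf.stalk g) = b := by
    generalize ringKrullDim (G.left.presheaf.stalk g) = a at hlt hge
    induction a using WithBot.recBotCoe with
    | bot => exact absurd hge (by simp)
    | coe m =>
      induction m using ENat.recTopCoe with
      | top => exact absurd hlt (by simp)
      | coe k => exact ⟨k, rfl⟩
  rw [Groth.Agent.Lib.Helper4.VarDim.localDim_eq_add K G.left g 0 b (by rw [h0]; rfl) hb, hb]
  simp

end Groth.Agent.S0354
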