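import Groth.Statements.S0356
import Groth.Agent.S2439
import Groth.Agent.S11614
import Groth.Agent.Lib.Helper8KoszLim4
import Groth.Agent.Lib.Helper8KoszFlasque

set_option autoImplicit false
universe u v
open CategoryTheory AlgebraicGeometry
open LocCoh

namespace Groth.Agent.S0356

open Groth.Agent.Lib.Helper8KoszFlasque Groth.Agent.Lib.Helper8KoszSheaf Groth.Agent.Lib.Helper8KoszLim
open Opposite TopologicalSpace

/-- the punctured open as a union of basic opens -/
lemma puncturedOpen_eq (R : Type u) [CommRing R] (fs : List R) :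
    LocCoh.puncturedOpen R (Ideal.span {a | a ∈ fs}) =
      ⨆ i : Fin (fs.map (φA R)).length,
        (Spec (CommRingCat.of R)).basicOpen ((fs.map (φA R)).get i) := by
  apply le_antisymm
  · intro x hx
    have hx' : ¬ ((Ideal.span {a | a ∈ fs} : Ideal R) : Set R) ⊆ x.asIdeal := hx
    rw [SetLike.coe_subset_coe, Ideal.span_le, Set.not_subset] at hx'
    obtain ⟨f, hf, hfx⟩ := hx'
    obtain ⟨i, hi⟩ := List.mem_iff_get.mp (List.mem_map.mpr ⟨f, hf, rfl⟩ : φA R f ∈ fs.map (φA R))
    rw [Opens.mem_iSup]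
    refine ⟨i, ?_⟩
    rw [hi]
    show x ∈ (Spec (CommRingCat.of R)).basicOpen
      ((Scheme.ΓSpecIso (CommRingCat.of R)).inv f)
    rw [basicOpen_eq_of_affine (R := CommRingCat.of R) f]
    exact hfx
  · rw [iSup_le_iff]
    intro i
    obtain ⟨f, hf, hfi⟩ := List.mem_map.mp (List.get_mem (fs.map (φA R)) i)
    rw [← hfi]
    show (Spec (CommRingCat.of R)).basicOpen
      ((Scheme.ΓSpecIso (CommRingCat.of R)).inv f) ≤ _
    rw [basicOpen_eq_of_affine (R := CommRingCat.of R) f]
    intro x hx hsub
    exact hx (hsub (Ideal.subset_span hf))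

/-- Let R be a Noetherian ring, I an ideal, M an R-module and U = Spec R ∖ V(I) the punctured open. For
every p ≥ 1, the cohomology group H^p(U, M̃|_U) of the restriction to U of the quasi-coherent sheaf
associated with M is isomorphic to the local cohomology H^(p+1)_I(M). (The published statement also
gives a four-term exact sequence in low degrees, which is not stated here; here R is Noetherian.) -/
theorem result (R : Type u) [CommRing R] [IsNoetherianRing R] (I : Ideal R) (M : Type u) [AddCommGroup M] [Module R M] (p : ℕ) (hp : 1 ≤ p) : Nonempty (Coh.HH (↑(LocCoh.puncturedOpen R I)) ((AlgebraicGeometry.tilde (R := CommRingCat.of R) (ModuleCat.of R M)).restrict (LocCoh.puncturedOpen R I).ι) p ≃+ LocCoh.H I (p + 1) M) := by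
  classical
  obtain ⟨t, ht⟩ := (isNoetherianRing_iff_ideal_fg R).mp ‹_› I
  have hI : I = Ideal.span {a | a ∈ t.toList} := by
    rw [← ht]
    congr 1
    ext a
    simp
  subst hI
  set fs := t.toList with hfs
  let X := Spec (CommRingCat.of R)
  let F : X.Modules := AlgebraicGeometry.tilde (R := CommRingCat.of R) (ModuleCat.of R M)
  let fs' : List Γ(X, ⊤) := fs.map (φA R)
  have haff : ∀ i : Fin fs'.length, IsAffineOpen (X.basicOpen (fs'.get i)) :=
    fun i => (isAffineOpen_top X).basicOpen _
  have : Coh.IsQCoh F := inferInstanceAs (AlgebraicGeometry.tilde (R := CommRingCat.of R)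
    (ModuleCat.of R M)).IsQuasicoherent
  obtain ⟨e1⟩ := Groth.Agent.S2439.result X fs' haff F p hp
  rw [← puncturedOpen_eq R fs] at e1
  -- the ring of global functions is Noetherian
  let eR : R ≃+* Γ(X, ⊤) := (Scheme.ΓSpecIso (CommRingCat.of R)).symm.commRingCatIsoToRingEquiv
  have hS : IsNoetherianRing Γ(X, ⊤) := isNoetherianRing_of_ringEquiv R eR
  obtain ⟨e2⟩ := Groth.Agent.Lib.Helper8KoszLim.main fs' (p + 1)
    (((p + 1 : ℕ) : ℤ) - ((fs'.length : ℕ) : ℤ)) rfl
    (ModuleCat.of Γ(X, ⊤) (F.val.obj (op ⊤)))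
  -- change of rings for local cohomology
  letI : Algebra R Γ(X, ⊤) := (φA R).toAlgebra
  letI : Module R (F.val.obj (op ⊤)) := Module.compHom (F.val.obj (op ⊤)) (φA R)
  haveI : IsScalarTower R Γ(X, ⊤) (F.val.obj (op ⊤)) := IsScalarTower.of_compHom R Γ(X, ⊤) _
  obtain ⟨e3, -⟩ := Groth.Agent.S11614.result R Γ(X, ⊤) (Ideal.span {a | a ∈ fs})
    (F.val.obj (op ⊤)) (p + 1)
  have hmap : Ideal.map (algebraMap R Γ(X, ⊤)) (Ideal.span {a | a ∈ fs}) =
      Ideal.span {a | a ∈ fs'} := by
    rw [Ideal.map_span]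
    congr 1
    ext a
    simp only [Set.mem_image, Set.mem_ofPred_eq, fs', List.mem_map]
    rfl
  rw [hmap] at e3
  -- identify `M` with the global sections
  let ρ : M ≃ₗ[R] (F.val.obj (op ⊤)) :=
    (ρS R (ModuleCat.of R M)).trans
      { toFun := fun x => x
        invFun := fun x => x
        map_add' := fun _ _ => rfl
        map_smul' := fun r x => by
          show ψ (φA R) ⊤ r • Sec.val F (φA R) x = φA R r • Sec.val F (φA R) x
          rw [ψ_top]
        left_inv := fun _ => rfl
        right_inv := fun _ => rfl }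
  let e4 := ((localCohomology (Ideal.span {a | a ∈ fs}) (p + 1)).mapIso
    (LinearEquiv.toModuleIso ρ)).toLinearEquiv
  exact ⟨e1.trans (e2.symm.toAddEquiv.trans (e3.trans e4.symm.toAddEquiv))⟩

end Groth.Agent.S0356
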