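import Groth.Statements.S0358
import Groth.Agent.Lib.Helper28DepthFlat4
-- import your own Groth.Agent.* helpers here

set_option autoImplicit false
universe u v
open LocCoh

namespace Groth.Agent.S0358

open Groth.Agent.Lib.Helper28

/-- For a flat local homomorphism R → S of Noetherian local rings whose closed fibre S/m_R S is
Cohen–Macaulay, and a proper ideal I of S, the I-depth of S is at least dim(S/m_R S) − dim(S/(m_R S
+ I)); stated additively. -/
theorem result (R : Type u) [CommRing R] [IsLocalRing R] [IsNoetherianRing R] (S : Type u) [CommRing S] [IsLocalRing S] [IsNoetherianRing S] [Algebra R S] [IsLocalHom (algebraMap R S)] [Module.Flat R S] (hCM : LocCoh.IsCohenMacaulayLocalRing (S ⧸ (IsLocalRing.maximalIdeal R).map (algebraMap R S))) (I : Ideal S) (hI : I ≠ ⊤) : ringKrullDim (S ⧸ (IsLocalRing.maximalIdeal R).map (algebraMap R S)) ≤ ringKrullDim (S ⧸ ((IsLocalRing.maximalIdeal R).map (algebraMap R S) ⊔ I)) + ((LocCoh.idealDepth I S : ℕ∞) : WithBot ℕ∞) := by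
  set J := (IsLocalRing.maximalIdeal R).map (algebraMap R S) with hJdef
  have hJ : J ≤ IsLocalRing.maximalIdeal S := IsLocalRing.map_maximalIdeal_le (algebraMap R S)
  have hIm : I ≤ IsLocalRing.maximalIdeal S := IsLocalRing.le_maximalIdeal hI
  have hlocal : IsLocalRing (S ⧸ J) := hCM.toIsLocalRing
  have hlochom : IsLocalHom (algebraMap S (S ⧸ J)) :=
    IsLocalHom.of_surjective _ Ideal.Quotient.mk_surjective
  have hnt : Nontrivial (S ⧸ J) := inferInstance
  -- (b) + (c)
  have hb : LocCoh.depth S (S ⧸ J) = LocCoh.depth (S ⧸ J) (S ⧸ J) :=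
    depth_eq_depth_of_isLocalHom_of_finite (A := S) (B := S ⧸ J) (M := S ⧸ J)
  have hc : ringKrullDim (S ⧸ J) = ((LocCoh.depth S (S ⧸ J) : ℕ∞) : WithBot ℕ∞) := by
    rw [hb, ← Module.supportDim_self_eq_ringKrullDim]
    exact hCM.supportDim_eq_depth
  -- (d)
  have hIF : I • (⊤ : Submodule S (S ⧸ J)) ≠ ⊤ := smul_top_ne_top_of_le_maximalIdeal hIm
  obtain ⟨n, hn⟩ := ENat.ne_top_iff_exists.mp (idealDepth_ne_top hIF)
  have hd := depth_le_idealDepth_add_supportDim_quotient I hIm n (S ⧸ J) hn.symm
  -- (e)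
  have he : LocCoh.idealDepth I (S ⧸ J) ≤ LocCoh.idealDepth I S := by
    rw [← hn]
    apply natCast_le_idealDepth_of_le_idealDepth_fibre (R := R) I hIm n S
    have hJJ : (J • ⊤ : Submodule S S) = J := by
      rw [smul_eq_mul, Ideal.mul_top]
    rw [idealDepth_congr (Submodule.quotEquivOfEq _ _ hJJ) I, hn]
  -- (f)
  have hf : Module.supportDim S ((S ⧸ J) ⧸ (I • ⊤ : Submodule S (S ⧸ J))) =
      ringKrullDim (S ⧸ (J ⊔ I)) := by
    have h1 : (I • ⊤ : Submodule S (S ⧸ J)) = Submodule.map (Submodule.mkQ J) I := by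
      have : (I : Submodule S S) = I • (⊤ : Submodule S S) := by
        rw [smul_eq_mul, Ideal.mul_top]
      conv_rhs => rw [this]
      rw [Submodule.map_smul'', Submodule.map_top, Submodule.range_mkQ]
    rw [Module.supportDim_eq_of_equiv ((Submodule.quotEquivOfEq _ _ h1).trans
      (Submodule.quotientQuotientEquivQuotientSup J I))]
    exact Module.supportDim_quotient_eq_ringKrullDim _
  rw [hc]
  rw [hf] at hd
  refine hd.trans ?_
  rw [add_comm]
  exact add_le_add_right (WithBot.coe_le_coe.mpr he) _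

end Groth.Agent.S0358
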