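import Groth.Statements.S0359
import Groth.Agent.Lib.Helper5GenDepth

set_option autoImplicit false
universe u v
open LocCoh

namespace Groth.Agent.S0359

/-- For a finite module M over a Noetherian ring and a prime p with depth(M_p) = e finite, there is a
basic open neighbourhood of p in V(p) on which the depth of the localizations of M is at least e,
and it exceeds e at all but finitely many of those primes. -/
theorem result (R : Type u) [CommRing R] [IsNoetherianRing R] (M : Type u) [AddCommGroup M] [Module R M] [Module.Finite R M] (p : Ideal R) [p.IsPrime] (e : ℕ) (he : LocCoh.depth (Localization.AtPrime p) (LocalizedModule p.primeCompl M) = e) : ∃ f : R, f ∉ p ∧ (∀ (q : Ideal R) [q.IsPrime], p ≤ q → f ∉ q → (e : ℕ∞) ≤ LocCoh.depth (Localization.AtPrime q) (LocalizedModule q.primeCompl M)) ∧ {q : PrimeSpectrum R | p ≤ q.asIdeal ∧ f ∉ q.asIdeal ∧ LocCoh.depth (Localization.AtPrime q.asIdeal) (LocalizedModule q.asIdeal.primeCompl M) = e}.Finite := by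
  classical
  have hsupp : (⟨p, inferInstance⟩ : PrimeSpectrum R) ∈ Module.support R M := by
    rw [Module.mem_support_iff]
    by_contra hns
    rw [not_nontrivial_iff_subsingleton] at hns
    haveI := hns
    have h1 : LocCoh.depth (Localization.AtPrime p) (LocalizedModule p.primeCompl M) = ⊤ :=
      Groth.Agent.Lib.Helper28.depth_eq_top_of_subsingleton
    rw [h1] at he
    exact ENat.top_ne_natCast e he
  obtain ⟨f, hfp, hf⟩ := Groth.Agent.Lib.Helper5.GenDepth.P_all p M hsupp
  have key : ∀ (q : Ideal R) [q.IsPrime], p ≤ q → f ∉ q →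
      LocCoh.depth (Localization.AtPrime q) (LocalizedModule q.primeCompl M) =
        e + Groth.Agent.Lib.Helper5.GenDepth.dep q (R ⧸ p) := by
    intro q _ hpq hfq
    have h1 := (hf q hpq hfq).1
    unfold Groth.Agent.Lib.Helper5.GenDepth.dep at h1
    rw [he] at h1
    exact h1
  refine ⟨f, hfp, ?_, ?_⟩
  · intro q _ hpq hfq
    rw [key q hpq hfq]
    exact le_self_add
  · refine Set.Finite.subset (Set.finite_singleton ⟨p, inferInstance⟩) ?_
    rintro ⟨q, hq⟩ ⟨hpq, hfq, hdq⟩
    simp only at hpq hfq hdq
    rw [Set.mem_singleton_iff]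
    haveI := hq
    have h1 := key q hpq hfq
    rw [hdq] at h1
    have h0 : Groth.Agent.Lib.Helper5.GenDepth.dep q (R ⧸ p) = 0 := by
      have h2 : (e : ℕ∞) + 0 = e + Groth.Agent.Lib.Helper5.GenDepth.dep q (R ⧸ p) := by
        rw [add_zero]
        exact h1
      exact (ENat.add_right_injective_of_ne_top (ENat.natCast_ne_top e) h2).symm
    obtain ⟨ι, hι⟩ := Groth.Agent.Lib.Helper5.GenDepth.exists_injective_of_dep_eq_zero q (R ⧸ p) h0
    have hqp : q ≤ p := by
      intro a ha
      have h2 : a • ι 1 = 0 := by
        rw [← map_smul]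
        have h3 : a • (1 : R ⧸ q) = 0 := by
          rw [Algebra.smul_def, mul_one]
          exact Ideal.Quotient.eq_zero_iff_mem.mpr ha
        rw [h3, map_zero]
      have h3 : ι 1 ≠ 0 := by
        intro h
        have h4 := hι (h.trans (map_zero ι).symm)
        exact one_ne_zero h4
      rw [Algebra.smul_def] at h2
      rcases mul_eq_zero.mp h2 with h4 | h4
      · exact Ideal.Quotient.eq_zero_iff_mem.mp h4
      · exact absurd h4 h3
    exact PrimeSpectrum.ext (le_antisymm hqp hpq)

end Groth.Agent.S0359
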