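import Groth.Statements.S6318
import Mathlib

set_option autoImplicit false
universe u
open CategoryTheory
open CAlg

namespace Groth.Agent.S6318

open CategoryTheory CategoryTheory.Limits

section aux

variable (R : Type u) [CommRing R]

open Classical in
/-- generating set: a finite one if M is finite, else everything -/
noncomputable def gens (M : ModuleCat.{u} R) : Set M :=
  if h : Module.Finite R M then ((Module.finite_def.1 h).choose : Set M) else Set.univ

lemma span_gens (M : ModuleCat.{u} R) : Submodule.span R (gens R M) = ⊤ := by
  unfold gens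
  split_ifs with h
  · exact (Module.finite_def.1 h).choose_spec
  · exact Submodule.span_univ

lemma finite_gens (M : ModuleCat.{u} R) [h : Module.Finite R M] : (gens R M).Finite := by
  unfold gens
  rw [dif_pos h]
  exact Finset.finite_toSet _

noncomputable def cover (M : ModuleCat.{u} R) : ModuleCat.{u} R :=
  ModuleCat.of R (gens R M →₀ R)

noncomputable def coverπ (M : ModuleCat.{u} R) : cover R M ⟶ M :=
  ModuleCat.ofHom (Finsupp.linearCombination R (Subtype.val : gens R M → M))

lemma coverπ_surjective (M : ModuleCat.{u} R) : Function.Surjective (coverπ R M).hom := by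
  rw [← LinearMap.range_eq_top]
  show LinearMap.range (Finsupp.linearCombination R (Subtype.val : gens R M → M)) = ⊤
  rw [Finsupp.range_linearCombination, Subtype.range_coe, span_gens]

instance (M : ModuleCat.{u} R) : Epi (coverπ R M) :=
  (ModuleCat.epi_iff_surjective _).2 (coverπ_surjective R M)

instance free_cover (M : ModuleCat.{u} R) : Module.Free R (cover R M) := by
  unfold cover; infer_instance

lemma finite_cover (M : ModuleCat.{u} R) [Module.Finite R M] : Module.Finite R (cover R M) := by
  haveI : Finite (gens R M) := (finite_gens R M).to_subtype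
  unfold cover; infer_instance

noncomputable abbrev syz {X Y : ModuleCat.{u} R} (f : X ⟶ Y) : ModuleCat.{u} R :=
  cover R (ModuleCat.of R (LinearMap.ker f.hom))

noncomputable abbrev dd {X Y : ModuleCat.{u} R} (f : X ⟶ Y) : syz R f ⟶ X :=
  coverπ R _ ≫ ModuleCat.ofHom (LinearMap.ker f.hom).subtype

@[reassoc (attr := simp)]
lemma dd_comp {X Y : ModuleCat.{u} R} (f : X ⟶ Y) : dd R f ≫ f = 0 := by
  ext x
  simp [dd]

lemma exact_dd {X Y : ModuleCat.{u} R} (f : X ⟶ Y) :
    (ShortComplex.mk (dd R f) f (dd_comp R f)).Exact := by
  rw [ShortComplex.moduleCat_exact_iff]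
  intro x hx
  obtain ⟨y, hy⟩ := coverπ_surjective R (ModuleCat.of R (LinearMap.ker f.hom)) ⟨x, hx⟩
  refine ⟨y, ?_⟩
  show ((LinearMap.ker f.hom).subtype ((coverπ R _).hom y)) = x
  rw [hy]
  rfl

lemma finite_syz [IsNoetherianRing R] {X Y : ModuleCat.{u} R} (f : X ⟶ Y) [Module.Finite R X] :
    Module.Finite R (syz R f) := by
  haveI : IsNoetherian R X := isNoetherian_of_isNoetherianRing_of_finite R X
  haveI : Module.Finite R (ModuleCat.of R (LinearMap.ker f.hom)) :=
    Module.Finite.of_injective (LinearMap.ker f.hom).subtype (Submodule.subtype_injective _)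
  exact finite_cover R _

variable (Z : ModuleCat.{u} R)

set_option backward.isDefEq.respectTransparency.types false in
noncomputable def ofComplex : ChainComplex (ModuleCat.{u} R) ℕ :=
  ChainComplex.mk' (cover R Z) (syz R (coverπ R Z)) (dd R (coverπ R Z))
    (fun f => ⟨_, dd R f, dd_comp R f⟩)

set_option backward.isDefEq.respectTransparency.types false in
lemma ofComplex_d_1_0 : (ofComplex R Z).d 1 0 = dd R (coverπ R Z) := by
  simp [ofComplex]

set_option backward.isDefEq.respectTransparency.types false in
lemma ofComplex_exactAt_succ (n : ℕ) : (ofComplex R Z).ExactAt (n + 1) := by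
  rw [HomologicalComplex.exactAt_iff' _ (n + 1 + 1) (n + 1) n (by simp) (by simp)]
  simp only [HomologicalComplex.sc', HomologicalComplex.shortComplexFunctor', ofComplex,
    ChainComplex.mk', ChainComplex.mk, ChainComplex.of_d]
  match n with
  | 0 => apply exact_dd
  | n + 1 => apply exact_dd

set_option backward.isDefEq.respectTransparency.types false in
instance free_ofComplex (n : ℕ) : Module.Free R ((ofComplex R Z).X n) := by
  obtain (_ | _ | _ | n) := n <;> apply free_cover

instance (n : ℕ) : Projective ((ofComplex R Z).X n) :=
  ModuleCat.projective_of_free (Module.Free.chooseBasis R _)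

set_option backward.defeqAttrib.useBackward true in
set_option backward.isDefEq.respectTransparency false in
noncomputable def res : ProjectiveResolution Z where
  complex := ofComplex R Z
  π := (ChainComplex.toSingle₀Equiv _ _).symm ⟨coverπ R Z, by
          rw [ofComplex_d_1_0, dd_comp]⟩
  quasiIso := ⟨fun n => by
    cases n
    · rw [ChainComplex.quasiIsoAt₀_iff, ShortComplex.quasiIso_iff_of_zeros']
      · dsimp
        refine (ShortComplex.exact_and_epi_g_iff_of_iso ?_).2
          ⟨exact_dd R (coverπ R Z), by dsimp; infer_instance⟩
        exact ShortComplex.isoMk (Iso.refl _) (Iso.refl _) (Iso.refl _)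
          (by simp [ofComplex]) (by simp)
      all_goals rfl
    · rw [quasiIsoAt_iff_exactAt']
      · apply ofComplex_exactAt_succ
      · apply ChainComplex.exactAt_succ_single_obj⟩

set_option backward.isDefEq.respectTransparency.types false in
theorem finite_ofComplex [IsNoetherianRing R] [Module.Finite R Z] (n : ℕ) :
    Module.Finite R ((ofComplex R Z).X n) := by
  have key : ∀ n : ℕ, Module.Finite R ((ofComplex R Z).X n) ∧
      Module.Finite R ((ofComplex R Z).X (n + 1)) := by
    intro n
    induction n with
    | zero =>
      have h0 : Module.Finite R (cover R Z) := finite_cover R Z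
      exact ⟨h0, finite_syz R (coverπ R Z)⟩
    | succ n ih =>
      refine ⟨ih.2, ?_⟩
      haveI := ih.2
      have e : (ofComplex R Z).X (n + 2) ≅ syz R ((ofComplex R Z).d (n + 1) n) :=
        ChainComplex.mk'XIso (cover R Z) (syz R (coverπ R Z)) (dd R (coverπ R Z))
          (fun f => ⟨_, dd R f, dd_comp R f⟩) n
      haveI hfin : Module.Finite R (syz R ((ofComplex R Z).d (n + 1) n)) := finite_syz R _
      exact Module.Finite.equiv e.symm.toLinearEquiv
  exact (key n).1


end aux

/-- Let R be a Noetherian ring and M a finite R-module. Then M has a resolution … → F₂ → F₁ → F₀ → M → 0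
with every Fᵢ finite free; stated as the existence of a projective resolution of M in the category
of R-modules all of whose terms are finite free. -/
theorem result (R : Type u) [CommRing R] [IsNoetherianRing R] (M : Type u) [AddCommGroup M] [Module R M] [Module.Finite R M] : ∃ F : ProjectiveResolution (ModuleCat.of R M), ∀ n : ℕ, Module.Finite R (F.complex.X n) ∧ Module.Free R (F.complex.X n) := by
  refine ⟨res R (ModuleCat.of R M), fun n => ⟨?_, ?_⟩⟩
  · exact finite_ofComplex R (ModuleCat.of R M) n
  · exact free_ofComplex R (ModuleCat.of R M) n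

end Groth.Agent.S6318
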