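import Groth.Statements.S0363
import Groth.Agent.Lib.Helper8ExtDual
import Groth.Agent.Lib.Helper29GorHull
import Groth.Agent.S6318
import Groth.Agent.S5155

set_option autoImplicit false
universe u v
open CategoryTheory
open Goren

namespace Groth.Agent.S0363

/-- Over a Gorenstein local ring of dimension d with E an injective hull of the residue field κ,
Tor_i(E, κ) vanishes for i ≠ d and Tor_d(E, κ) is isomorphic to κ. -/
theorem result (A : Type u) [CommRing A] [LocCoh.IsGorensteinLocalRing A] (d : ℕ) (hd : ringKrullDim A = d) (E : Type u) [AddCommGroup E] [Module A E] (f : IsLocalRing.ResidueField A →ₗ[A] E) (hf : InjHull.IsInjectiveHull f) : (∀ i : ℕ, i ≠ d → Limits.IsZero (((Tor (ModuleCat.{u} A) i).obj (ModuleCat.of A E)).obj (ModuleCat.of A (IsLocalRing.ResidueField A)))) ∧ Nonempty ((((Tor (ModuleCat.{u} A) d).obj (ModuleCat.of A E)).obj (ModuleCat.of A (IsLocalRing.ResidueField A))) ≅ ModuleCat.of A (IsLocalRing.ResidueField A)) := by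
  classical
  have hinj : Module.Injective A E := hf.isInjective
  obtain ⟨P, hP⟩ := Groth.Agent.S6318.result A (IsLocalRing.ResidueField A)
  have key := fun n => Groth.Agent.Lib.Helper8.ExtDual.nonempty_tor_iso E P hP n
  let ek : ModuleCat.of A (IsLocalRing.ResidueField A) ≅
      ModuleCat.of A (Groth.Agent.Lib.Helper29.GorHull.kq A) :=
    (Groth.Agent.Lib.Helper29Gorenstein.residueEquiv A).toModuleIso
  have hvan := Groth.Agent.Lib.Helper29.GorHull.extVan A d hd
  have htyp := Groth.Agent.Lib.Helper29.GorHull.typ_eq_one_of_gorenstein A d hd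
  constructor
  · intro i hi
    obtain ⟨e⟩ := key i
    refine Limits.IsZero.of_iso ?_ e
    have := hvan i hi
    have hsub : Subsingleton (Abelian.Ext.{u} (ModuleCat.of A (IsLocalRing.ResidueField A))
        (ModuleCat.of A A) i) :=
      (Groth.Agent.Lib.Helper29.GorHull.extCongrLeft A ek (ModuleCat.of A A) i).symm.toEquiv.subsingleton
    have hsub2 : Subsingleton (Abelian.Ext.{u} (ModuleCat.of A (IsLocalRing.ResidueField A))
        (ModuleCat.of A A) i →ₗ[A] E) :=
      ⟨fun a b => LinearMap.ext fun y => by rw [Subsingleton.elim y 0, map_zero, map_zero]⟩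
    exact @ModuleCat.isZero_of_subsingleton _ _ (ModuleCat.of A (Abelian.Ext.{u}
      (ModuleCat.of A (IsLocalRing.ResidueField A)) (ModuleCat.of A A) i →ₗ[A] E)) hsub2
  · obtain ⟨e⟩ := key d
    have hsimple : IsSimpleModule A (Abelian.Ext.{u}
        (ModuleCat.of A (Groth.Agent.Lib.Helper29.GorHull.kq A)) (ModuleCat.of A A) d) :=
      Module.length_eq_one_iff.mp htyp
    obtain ⟨e1⟩ := Groth.Agent.Lib.Helper29.GorHull.exists_equiv_kq A (Abelian.Ext.{u}
        (ModuleCat.of A (Groth.Agent.Lib.Helper29.GorHull.kq A)) (ModuleCat.of A A) d)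
    have h5155 := (Groth.Agent.S5155.result A E).mp ⟨f, hf⟩
    have hs2 : IsSimpleModule A (IsLocalRing.ResidueField A →ₗ[A] E) := h5155.2.2
    obtain ⟨e2⟩ := Groth.Agent.Lib.Helper29.GorHull.exists_equiv_kq A
      (IsLocalRing.ResidueField A →ₗ[A] E)
    let eExt : Abelian.Ext.{u} (ModuleCat.of A (IsLocalRing.ResidueField A))
        (ModuleCat.of A A) d ≃ₗ[A] IsLocalRing.ResidueField A :=
      (Groth.Agent.Lib.Helper29.GorHull.extCongrLeft A ek (ModuleCat.of A A) d).symm ≪≫ₗ e1 ≪≫ₗ
        (Groth.Agent.Lib.Helper29Gorenstein.residueEquiv A).symm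
    let e3 : (Abelian.Ext.{u} (ModuleCat.of A (IsLocalRing.ResidueField A))
        (ModuleCat.of A A) d →ₗ[A] E) ≃ₗ[A] (IsLocalRing.ResidueField A →ₗ[A] E) :=
      LinearEquiv.congrLeft E A eExt
    exact ⟨e ≪≫ (e3 ≪≫ₗ e2 ≪≫ₗ
      (Groth.Agent.Lib.Helper29Gorenstein.residueEquiv A).symm).toModuleIso⟩

end Groth.Agent.S0363
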