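import Groth.Statements.S0374
import Groth.Agent.Lib.Helper14LDualG
import Groth.Agent.S0316

set_option autoImplicit false
universe u v
open CategoryTheory
attribute [local instance] HasDerivedCategory.standard
open Dual

namespace Groth.Agent.S0374

/-- Grothendieck local duality, complete case: let A be a complete Noetherian local ring with maximal
ideal 𝔪, ω a normalized dualizing complex, and E an injective hull of the residue field. Then for
every finite A-module M and every i ≥ 0 the A-module of morphisms M → ω[−i] in D(A) is isomorphic to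
the E-dual Hom_A(H^i_𝔪(M), E) of the i-th local cohomology of M. (The published statement is for any
Noetherian local ring, with an 𝔪-adic completion on the left-hand side; for complete A and finite M
that completion changes nothing, and it is stated here for complete A.) -/
theorem result (A : Type u) [CommRing A] [IsLocalRing A] [IsNoetherianRing A] [IsAdicComplete (IsLocalRing.maximalIdeal A) A] (ω : Dual.D A) (hω : Dual.IsDualizing A ω) (hn : Dual.IsNormalized A ω) (E : Type u) [AddCommGroup E] [Module A E] (f : IsLocalRing.ResidueField A →ₗ[A] E) (hf : InjHull.IsInjectiveHull f) (M : Type u) [AddCommGroup M] [Module A M] [Module.Finite A M] (i : ℕ) : Nonempty ((Dual.inD A M ⟶ ω⟦(-(i : ℤ))⟧) ≃ₗ[A] (LocCoh.H (IsLocalRing.maximalIdeal A) i M →ₗ[A] E)) := by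
  classical
  -- the module `T = Hom_D(M, ω[-i])` is finite, hence has a model in `Type u`
  have hT : Module.Finite A (Dual.inD A M ⟶ ω⟦(-(i : ℤ))⟧) :=
    Groth.Agent.Lib.Helper14.LDual.finite_T ω hω (-(i : ℤ)) (ModuleCat.of A M)
  obtain ⟨n, π, hπ⟩ := Module.Finite.exists_fin' A (Dual.inD A M ⟶ ω⟦(-(i : ℤ))⟧)
  let T' := (Fin n → A) ⧸ LinearMap.ker π
  let e : T' ≃ₗ[A] (Dual.inD A M ⟶ ω⟦(-(i : ℤ))⟧) := LinearMap.quotKerEquivOfSurjective π hπ
  have : Module.Finite A T' := Module.Finite.equiv e.symm
  -- local duality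
  let ψ : LocCoh.H (IsLocalRing.maximalIdeal A) i M ≃ₗ[A]
      ((Dual.inD A M ⟶ ω⟦(-(i : ℤ))⟧) →ₗ[A] E) :=
    LinearEquiv.ofBijective
      (Groth.Agent.Lib.Helper14.LDual.Psi ω hω hn f hf i (ModuleCat.of A M))
      (Groth.Agent.Lib.Helper14.LDual.Psi_bijective ω hω hn f hf i M)
  -- Matlis duality
  let μ : T' ≃ₗ[A] ((T' →ₗ[A] E) →ₗ[A] E) :=
    LinearEquiv.ofBijective LinearMap.applyₗ (Groth.Agent.S0316.result A E f hf T').2
  let c : (T' →ₗ[A] E) ≃ₗ[A] LocCoh.H (IsLocalRing.maximalIdeal A) i M :=
    (LinearEquiv.arrowCongr e (LinearEquiv.refl A E)).trans ψ.symm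
  exact ⟨e.symm.trans (μ.trans (LinearEquiv.arrowCongr c (LinearEquiv.refl A E)))⟩

end Groth.Agent.S0374
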