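import Groth.Statements.S0382
import Groth.Agent.Lib.Helper3TanD
import Groth.Agent.Lib.Helper3AbHom
import Groth.Agent.S7795
import Mathlib

set_option autoImplicit false
set_option linter.style.haveILetI false
universe u v
open CategoryTheory MonoidalCategory CartesianMonoidalCategory MonObj GrpObj AlgebraicGeometry
open GrpSch

namespace Groth.Agent.S0382

/-- On an abelian variety of positive dimension over a field K (a proper, geometrically integral group
scheme over K), multiplication by an integer d is étale exactly when d is nonzero in K.
Multiplication by d is written as the d-th power of the identity morphism in the group Hom(A, A),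
whose multiplication is pointwise, induced by the group structure of A. -/
theorem result (K : Type u) [Field K] (A : Over (Spec (CommRingCat.of K))) [GrpObj A] [IsProper A.hom] [GeometricallyIntegral A.hom] (hA : 0 < topologicalKrullDim A.left) (d : ℤ) : Etale ((𝟙 A ^ d).left) ↔ ((d : K) ≠ 0) := by
  haveI : IsCommMonObj A := isCommMonObj_of_isProper_of_geometricallyIntegral A
  haveI : LocallyOfFiniteType A.hom := inferInstance
  haveI : Flat A.hom :=
    Groth.Agent.Lib.Helper3.AbHom.flat_of_isField (K := CommRingCat.of K) (Field.toIsField K) A.hom
  haveI : LocallyOfFinitePresentation A.hom :=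
    LocallyOfFinitePresentation.iff_locallyOfFiniteType.mpr inferInstance
  haveI : Smooth A.hom := Groth.Agent.S7795.result A
  constructor
  · intro hE hd
    exact Groth.Agent.Lib.Helper3.Tan.not_etale_of_zero K A d hA hd hE
  · intro hd
    exact Groth.Agent.Lib.Helper3.Tan.etale_of_ne_zero K A d hd

end Groth.Agent.S0382
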