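import Groth.Statements.S0389
import Mathlib
import Groth.Agent.Lib.Helper2GenFree

set_option autoImplicit false
universe u
open FlatMor

namespace Groth.Agent.S0389

open TensorProduct in
/-- Generic freeness: over a domain, for a finite type algebra and a finite module over it, after
inverting one nonzero element of the base the algebra and the module become free over the base, the
algebra becomes finitely presented over the base and the module finitely presented over the algebra. -/
theorem result {R S M : Type u} [CommRing R] [IsDomain R] [CommRing S] [Algebra R S] [Algebra.FiniteType R S] [AddCommGroup M] [Module S M] [Module R M] [IsScalarTower R S M] [Module.Finite S M] :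
    ∃ f : R, f ≠ 0 ∧ Module.Free (Localization.Away f) (Localization.Away f ⊗[R] M) ∧
      Module.Free (Localization.Away f) (Localization.Away f ⊗[R] S) ∧
      Algebra.FinitePresentation (Localization.Away f) (Localization.Away f ⊗[R] S) ∧
      Module.FinitePresentation (Localization.Away (algebraMap R S f)) (LocalizedModule (Submonoid.powers (algebraMap R S f)) M) := by
  classical
  obtain ⟨f, hf, hS, hM, ⟨n, φ, G, hφ, hG0, hker⟩, ⟨r, mgen, V, hgen, hV0, hV⟩⟩ :=
    Groth.Agent.Lib.Helper2.GenFree.exists_freeAway R S M
  refine ⟨f, hf, ?_, ?_, ?_, ?_⟩
  · exact hM.free (Localization.Away f) (TensorProduct.mk R (Localization.Away f) M 1)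
  · exact hS.free (Localization.Away f) (TensorProduct.mk R (Localization.Away f) S 1)
  · exact Groth.Agent.Lib.Helper2.GenFree.finitePresentation_tensor φ hφ f G hG0 hker
      (Localization.Away f)
  · refine Groth.Agent.Lib.Helper2.GenFree.finitePresentation_localizedModule
      (algebraMap R S f) mgen hgen V hV0 fun a ha => ?_
    obtain ⟨k, hk⟩ := hV a ha
    refine ⟨k, ?_⟩
    rw [← map_pow, algebraMap_smul]
    exact hk

end Groth.Agent.S0389
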