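import Groth.Statements.S0395
import Mathlib
import Groth.Agent.Lib.Helper28DepthFlat4
import Groth.Agent.Lib.Helper5FlatReg

set_option autoImplicit false
universe u
open FlatMor

namespace Groth.Agent.S0395

open scoped Pointwise

open TensorProduct nonZeroDivisors in
/-- For a flat local homomorphism R → S of Noetherian local rings and an element f of S that is regular
on the fibre ring S/mS, the quotient of S by f is again R-flat and f is regular on S. -/
theorem result {R S : Type u} [CommRing R] [CommRing S] [IsLocalRing R] [IsLocalRing S] [IsNoetherianRing R] [IsNoetherianRing S] [Algebra R S] [IsLocalHom (algebraMap R S)] [Module.Flat R S]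
    (f : S) (hf : Ideal.Quotient.mk ((IsLocalRing.maximalIdeal R).map (algebraMap R S)) f ∈ nonZeroDivisors (S ⧸ ((IsLocalRing.maximalIdeal R).map (algebraMap R S)))) :
    Module.Flat R (S ⧸ Ideal.span {f}) ∧ f ∈ nonZeroDivisors S := by
  classical
  set J : Ideal S := (IsLocalRing.maximalIdeal R).map (algebraMap R S) with hJdef
  have hJ : (J • ⊤ : Submodule S S) = J := by
    rw [smul_eq_mul, Ideal.mul_top]
  -- regularity on the fibre, phrased for the module quotient
  have hreg : IsSMulRegular (S ⧸ (J • ⊤ : Submodule S S)) f := by
    intro a b hab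
    let e : (S ⧸ (J • ⊤ : Submodule S S)) ≃ₗ[S] (S ⧸ J) := Submodule.quotEquivOfEq _ _ hJ
    apply e.injective
    have h1 : f • e a = f • e b := by
      rw [← map_smul, ← map_smul]
      exact congrArg e hab
    have h2 : ∀ x : S ⧸ J, f • x = x * Ideal.Quotient.mk J f := by
      intro x
      obtain ⟨x, rfl⟩ := Ideal.Quotient.mk_surjective x
      rw [← map_mul, mul_comm]
      rfl
    rw [h2, h2] at h1
    have h3 : (e a - e b) * Ideal.Quotient.mk J f = 0 := by
      rw [sub_mul, h1, sub_self]
    exact sub_eq_zero.mp ((mem_nonZeroDivisors_iff_right.mp hf) _ h3)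
  constructor
  · have hflat : Module.Flat R (QuotSMulTop f S) :=
      Groth.Agent.Lib.Helper28.flat_quotSMulTop_of_isSMulRegular_quotient (R := R) (N := S) f hreg
    have hK : (f • (⊤ : Submodule S S)) = Ideal.span {f} := by
      rw [← Submodule.ideal_span_singleton_smul, smul_eq_mul, Ideal.mul_top]
    exact Groth.Agent.Lib.Helper5.flat_of_linearEquiv_tower (A := R) (B := S)
      (Submodule.quotEquivOfEq _ _ hK) hflat
  · have hS : IsSMulRegular S f :=
      Groth.Agent.Lib.Helper28.isSMulRegular_of_isSMulRegular_quotient (R := R) (N := S) f hreg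
    rw [mem_nonZeroDivisors_iff_right]
    intro x hx
    apply hS
    change f * x = f * 0
    rw [mul_zero, mul_comm, hx]

end Groth.Agent.S0395
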