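import Groth.Statements.S0397
import Mathlib
import Groth.Agent.Lib.Helper5NilFree

set_option autoImplicit false
universe u
open FlatMor

namespace Groth.Agent.S0397

/-- Over a local ring whose maximal ideal is nilpotent, every flat module (not necessarily finitely
generated) is free. -/
theorem result {R M : Type u} [CommRing R] [IsLocalRing R] (hR : IsNilpotent (IsLocalRing.maximalIdeal R))
    [AddCommGroup M] [Module R M] [Module.Flat R M] : Module.Free R M := by
  classical
  let w := Module.Free.chooseBasis (IsLocalRing.ResidueField R)
    (TensorProduct (R := R) (IsLocalRing.ResidueField R) M)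
  obtain ⟨v, eq⟩ := (TensorProduct.mk_surjective R M (IsLocalRing.ResidueField R)
    Ideal.Quotient.mk_surjective).comp_left w
  have eq' : (⇑(TensorProduct.mk R (IsLocalRing.ResidueField R) M 1) ∘ v) = ⇑w := eq
  have hli : LinearIndependent R v :=
    Module.IsLocalRing.linearIndependent_of_flat _ (eq' ▸ w.linearIndependent)
  have hsp : Submodule.span R (Set.range v) = ⊤ := by
    apply Groth.Agent.Lib.Helper5.eq_top_of_sup_smul_top_eq_top_of_isNilpotent hR
    rw [← LinearMap.ker_tensorProductMk, ← Submodule.comap_map_eq, Submodule.map_span,
      ← Set.range_comp]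
    have h1 : (⇑(TensorProduct.mk R (R ⧸ IsLocalRing.maximalIdeal R) M 1) ∘ v) = ⇑w := eq
    rw [h1]
    have h2 := Submodule.restrictScalars_span R (IsLocalRing.ResidueField R)
      Ideal.Quotient.mk_surjective (Set.range w)
    have h3 : Submodule.span R (Set.range ⇑w) =
        (⊤ : Submodule R (TensorProduct (R := R) (IsLocalRing.ResidueField R) M)) := by
      rw [← h2, w.span_eq]
      rfl
    exact h3 ▸ Submodule.comap_top _
  exact Module.Free.of_basis (Module.Basis.mk hli hsp.ge)

end Groth.Agent.S0397
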