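import Groth.Statements.S0401
import Mathlib
import Groth.Agent.Lib.Helper5IntDim

set_option autoImplicit false
universe u
open FlatMor

namespace Groth.Agent.S0401

/-- For a finite type ring map R → S quasi-finite at a prime q lying over p, the dimension of S_q is at
most the dimension of R_p. -/
theorem result {R S : Type u} [CommRing R] [CommRing S] [Algebra R S] [Algebra.FiniteType R S] (q : Ideal S) [q.IsPrime] [Algebra.QuasiFiniteAt R q] :
    ringKrullDim (Localization.AtPrime q) ≤ ringKrullDim (Localization.AtPrime (q.under R)) := by
  classical
  obtain ⟨r, hrq, hbij⟩ := Algebra.ZariskisMainProperty.of_finiteType (R := R) q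
  -- notation
  obtain ⟨ι, hι⟩ : ∃ ι : integralClosure R S →+* S, ι = (integralClosure R S).val.toRingHom :=
    ⟨_, rfl⟩
  rw [← hι] at hbij
  have hιr : ι r = r.1 := by rw [hι]; rfl
  have hdisj : Disjoint ((Submonoid.powers (ι r) : Submonoid S) : Set S) (q : Set S) := by
    rw [Set.disjoint_left]
    rintro x ⟨n, rfl⟩ hx
    rw [hιr] at hx
    exact hrq (Ideal.IsPrime.mem_of_pow_mem inferInstance n hx)
  -- the prime `Q` of `S[1/r]` and the prime `Q'` of `S'[1/r]`
  have hQprime : (q.map (algebraMap S (Localization.Away (ι r)))).IsPrime :=
    IsLocalization.isPrime_of_isPrime_disjoint (Submonoid.powers (ι r)) _ q inferInstance hdisj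
  have hQunder : (q.map (algebraMap S (Localization.Away (ι r)))).under S = q :=
    IsLocalization.under_map_of_isPrime_disjoint (Submonoid.powers (ι r)) _ inferInstance hdisj
  have hQht : (q.map (algebraMap S (Localization.Away (ι r)))).height = q.height :=
    IsLocalization.height_map_of_disjoint (Submonoid.powers (ι r)) q hdisj
  have hQ'ht : ((q.map (algebraMap S (Localization.Away (ι r)))).comap
      (RingEquiv.ofBijective (Localization.awayMap ι r) hbij)).height =
      (q.map (algebraMap S (Localization.Away (ι r)))).height :=
    RingEquiv.height_comap (RingEquiv.ofBijective (Localization.awayMap ι r) hbij) _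
  have hQ'under : (((q.map (algebraMap S (Localization.Away (ι r)))).comap
      (RingEquiv.ofBijective (Localization.awayMap ι r) hbij)).under
      (integralClosure R S)) = q.comap ι := by
    ext x
    have hcomm : (RingEquiv.ofBijective (Localization.awayMap ι r) hbij)
        (algebraMap (integralClosure R S) (Localization.Away r) x) =
        algebraMap S (Localization.Away (ι r)) (ι x) := by
      show Localization.awayMap ι r (algebraMap _ _ x) = _
      exact IsLocalization.map_eq _ x
    have h3 : ι x ∈ (q.map (algebraMap S (Localization.Away (ι r)))).under S ↔ ι x ∈ q := by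
      rw [hQunder]
    rw [Ideal.under_def, Ideal.mem_comap, Ideal.mem_comap, hcomm, Ideal.mem_comap, ← h3,
      Ideal.under_def, Ideal.mem_comap]
  have h1 := IsLocalization.height_under (Submonoid.powers r)
    ((q.map (algebraMap S (Localization.Away (ι r)))).comap
      (RingEquiv.ofBijective (Localization.awayMap ι r) hbij))
  rw [hQ'under, hQ'ht, hQht] at h1
  -- `q ∩ S'` lies over `q ∩ R`
  have hprime : (q.comap ι).IsPrime := Ideal.comap_isPrime ι q
  have hunder : (q.comap ι).under R = q.under R := by
    ext x
    simp only [Ideal.under_def, Ideal.mem_comap]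
    have : ι (algebraMap R (integralClosure R S) x) = algebraMap R S x := by
      rw [hι]
      rfl
    rw [this]
  have h2 := Groth.Agent.Lib.Helper5.height_le_height_under_of_isIntegral (A := R) (q.comap ι)
  rw [hunder, h1] at h2
  rw [IsLocalization.AtPrime.ringKrullDim_eq_height q,
    IsLocalization.AtPrime.ringKrullDim_eq_height (q.under R)]
  exact WithBot.coe_le_coe.mpr h2

end Groth.Agent.S0401
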