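import Groth.Statements.S0408
import Groth.Agent.Lib.Helper20EtFinPart2
import Groth.Agent.Lib.Helper20FinUnion
import Groth.Agent.Lib.Helper20ResFld

set_option autoImplicit false
universe u
open FlatMor

namespace Groth.Agent.S0408

open AlgebraicGeometry CategoryTheory Limits in
/-- Étale localization of a quasi-finite point (one-point case): for f separated and locally of finite
type and x isolated in its fibre, after base change along an étale morphism g with a point u over
f(x) having the same residue field, the base change splits off an open and closed piece V, finite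
over the base, whose fibre over u is a single point v lying over x with the same residue field as x,
and no other point over u lies over x. -/
theorem result {X S : Scheme.{u}} (f : X ⟶ S) [LocallyOfFiniteType f] [IsSeparated f] (x : X) (hx : f.QuasiFiniteAt x) :
    ∃ (U : Scheme.{u}) (g : U ⟶ S) (u : U), Etale g ∧ g u = f x ∧ Function.Surjective (g.residueFieldMap u) ∧
      ∃ (V : (pullback f g).Opens) (v : ↑(pullback f g)), IsClopen (V : Set ↑(pullback f g)) ∧
        IsFinite (V.ι ≫ pullback.snd f g) ∧ v ∈ V ∧ pullback.fst f g v = x ∧ pullback.snd f g v = u ∧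
        Function.Surjective ((pullback.fst f g).residueFieldMap v) ∧
        (∀ w : ↑(pullback f g), pullback.snd f g w = u → (w ∈ V ∨ pullback.fst f g w = x) → w = v) := by
  obtain ⟨U, g, u, hg, hu, hbij, V, hVfin, hV⟩ :=
    Groth.Agent.Lib.Helper20.EtSplit.exists_etale_finite_part' f (rfl : f x = f x) hx
  have hsep : IsSeparated (pullback.snd f g) :=
    MorphismProperty.of_isPullback (P := @IsSeparated) (IsPullback.of_hasPullback f g) ‹_›
  have hVclosed : IsClosed (V : Set ↥(pullback f g)) :=
    Groth.Agent.Lib.Helper20.FinUnion.isClosed_of_isFinite (pullback.snd f g) V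
  obtain ⟨v, hv1, hv2⟩ := Scheme.Pullback.exists_preimage_pullback (f := f) (g := g) x u hu.symm
  have huniq : ∀ w : ↥(pullback f g), pullback.snd f g w = u → pullback.fst f g w = x → w = v := by
    intro w hw1 hw2
    apply Groth.Agent.Lib.Helper20.ResFld.eq_of_fst_eq_of_snd_eq w v (hw2.trans hv1.symm)
      (hw1.trans hv2.symm)
    rw [hv2]
    exact hbij
  refine ⟨U, g, u, hg, hu, hbij.2, V, v, ⟨hVclosed, V.isOpen⟩, hVfin, (hV v hv2).mpr hv1, hv1, hv2,
    ?_, ?_⟩
  · apply (Groth.Agent.Lib.Helper20.ResFld.bijective_fst_residueFieldMap v ?_).2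
    rw [hv2]
    exact hbij
  · rintro w hw1 (hw2 | hw2)
    · exact huniq w hw1 ((hV w hw1).mp hw2)
    · exact huniq w hw1 hw2

end Groth.Agent.S0408
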