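import Groth.Statements.S0411
import Mathlib

set_option autoImplicit false
universe u
open FlatMor

namespace Groth.Agent.S0411

section Dev
open AlgebraicGeometry CategoryTheory Limits TopologicalSpace

/-- In an affine scheme, a finite set of points in an open lies in a basic open inside it. -/
theorem exists_basicOpen_of_finite {N : Scheme.{u}} [IsAffine N] (O : N.Opens) (T : Finset N)
    (hT : ∀ x ∈ T, x ∈ O) :
    ∃ r : Γ(N, ⊤), (∀ x ∈ T, x ∈ N.basicOpen r) ∧ N.basicOpen r ≤ O := by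
  classical
  let p : N → Ideal Γ(N, ⊤) := fun x => RingHom.ker (N.Γevaluation x).hom
  have hp : ∀ x, (p x).IsPrime := fun x => RingHom.ker_isPrime _
  have hmem : ∀ x (r : Γ(N, ⊤)), r ∈ p x ↔ x ∉ N.basicOpen r := by
    intro x r
    rw [RingHom.mem_ker]
    exact Scheme.evaluation_eq_zero_iff_notMem_basicOpen N x (U := ⊤) (by trivial) r
  let J : Ideal Γ(N, ⊤) := ⨅ z : {z : N // z ∉ O}, p z.1
  have hJ : ∀ r, r ∈ J ↔ N.basicOpen r ≤ O := by
    intro r
    simp only [J, Ideal.mem_iInf, hmem]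
    constructor
    · intro h z hz
      by_contra hzO
      exact h ⟨z, hzO⟩ hz
    · rintro h ⟨z, hz⟩ hzr
      exact hz (h hzr)
  rcases T.eq_empty_or_nonempty with hTe | ⟨a, ha⟩
  · refine ⟨0, by simp [hTe], ?_⟩
    rw [Scheme.basicOpen_zero]; exact bot_le
  have hnot : ¬ ((J : Set Γ(N, ⊤)) ⊆ ⋃ x ∈ (T : Set N), (p x : Set Γ(N, ⊤))) := by
    intro hsub
    obtain ⟨x, hxT, hJx⟩ := (Ideal.subset_union_prime (s := T) (f := p) a a
      (fun i _ _ _ => hp i)).mp hsub
    -- basic opens form a basis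
    obtain ⟨_, ⟨_, ⟨r, rfl⟩, rfl⟩, hxr, hrO⟩ :=
      (isBasis_basicOpen N).exists_subset_of_mem_open (hT x hxT) O.isOpen
    have h1 : r ∈ J := (hJ r).mpr hrO
    exact ((hmem x r).mp (hJx h1)) hxr
  rw [Set.not_subset] at hnot
  obtain ⟨r, hrJ, hr⟩ := hnot
  refine ⟨r, fun x hx => ?_, (hJ r).mp hrJ⟩
  by_contra hxr
  apply hr
  simp only [Set.mem_iUnion]
  exact ⟨x, hx, (hmem x r).mpr hxr⟩


end Dev

open AlgebraicGeometry CategoryTheory Limits in
/-- For a separated, locally quasi-finite morphism (locally of finite type with discrete fibres) to an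
affine scheme, every finite set of points of the source lies in an affine open. -/
theorem result {X Y : Scheme.{u}} (f : X ⟶ Y) [IsAffine Y] [IsSeparated f] [LocallyQuasiFinite f] [LocallyOfFiniteType f] (T : Finset ↑X) :
    ∃ U : X.Opens, IsAffineOpen U ∧ ∀ x ∈ T, x ∈ U := by
  classical
  have hcov : ∀ x : X, ∃ U : X.Opens, IsAffineOpen U ∧ x ∈ U := by
    intro x
    obtain ⟨_, ⟨U, hU, rfl⟩, hxU, -⟩ :=
      X.isBasis_affineOpens.exists_subset_of_mem_open (Set.mem_univ x) isOpen_univ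
    exact ⟨U, hU, hxU⟩
  choose cov hcov1 hcov2 using hcov
  let X' : X.Opens := T.sup cov
  have hTX' : ∀ x ∈ T, x ∈ X' := fun x hx => (Finset.le_sup (f := cov) hx) (hcov2 x)
  have hcomp : IsCompact (X' : Set X) := by
    have : (X' : Set X) = ⋃ x ∈ T, (cov x : Set X) := by
      ext y
      simp only [X', Set.mem_iUnion, SetLike.mem_coe]
      constructor
      · intro hy
        have : T.sup cov ≤ ⟨(⋃ x ∈ T, (cov x : Set X)), isOpen_biUnion fun x _ => (cov x).2⟩ :=
          Finset.sup_le fun x hx z hz => Set.mem_biUnion hx hz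
        obtain ⟨x, hx, hyx⟩ := Set.mem_iUnion₂.mp (this hy)
        exact ⟨x, hx, hyx⟩
      · rintro ⟨x, hx, hyx⟩
        exact (Finset.le_sup (f := cov) hx) hyx
    rw [this]
    exact T.finite_toSet.isCompact_biUnion fun x _ => (hcov1 x).isCompact
  have : CompactSpace X' := isCompact_iff_compactSpace.mp hcomp
  let f' : X'.toScheme ⟶ Y := X'.ι ≫ f
  have : QuasiCompact f' := (HasAffineProperty.iff_of_isAffine (P := @QuasiCompact)).mpr ‹_›
  let j := f'.toNormalization
  have : IsOpenImmersion j := inferInstance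
  have : IsAffineHom f'.fromNormalization := inferInstance
  have : IsAffine f'.normalization := isAffine_of_isAffineHom f'.fromNormalization
  let T' : Finset f'.normalization := T.attach.image (fun x => j ⟨x.1, hTX' x.1 x.2⟩)
  obtain ⟨r, hr1, hr2⟩ := exists_basicOpen_of_finite j.opensRange T' (by
    intro y hy
    obtain ⟨x, -, rfl⟩ := Finset.mem_image.mp hy
    exact ⟨_, rfl⟩)
  have hD : IsAffineOpen (f'.normalization.basicOpen r) := (isAffineOpen_top _).basicOpen r
  have hD' : IsAffineOpen (j ⁻¹ᵁ (f'.normalization.basicOpen r)) :=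
    hD.preimage_of_isOpenImmersion j hr2
  refine ⟨X'.ι ''ᵁ (j ⁻¹ᵁ (f'.normalization.basicOpen r)), hD'.image_of_isOpenImmersion X'.ι, ?_⟩
  intro x hx
  refine ⟨⟨x, hTX' x hx⟩, ?_, rfl⟩
  exact hr1 _ (Finset.mem_image.mpr ⟨⟨x, hx⟩, Finset.mem_attach _ _, rfl⟩)

end Groth.Agent.S0411
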