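import Groth.Statements.S0414
import Groth.Agent.Lib.Helper3GenFlatRed
import Mathlib

set_option autoImplicit false
universe u
open FlatMor

namespace Groth.Agent.S0414

open AlgebraicGeometry CategoryTheory Limits TopologicalSpace Groth.Agent.Lib.Helper3.GenFlatRed in
theorem aux {X S : Scheme.{u}} (f : X ⟶ S) [IsReduced S] [LocallyOfFiniteType f] [QuasiCompact f] :
    ∃ U : S.Opens, Dense (U : Set ↑S) ∧ Flat (f ∣_ U) ∧ LocallyOfFinitePresentation (f ∣_ U) := by
  classical
  -- finite affine covers of preimages of affine opens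
  have hcov : ∀ V : S.affineOpens, ∃ s : Set X.affineOpens, s.Finite ∧
      (f ⁻¹ᵁ V.1) = ⨆ i ∈ s, (i : X.Opens) := by
    intro V
    have hc : IsCompact ((f ⁻¹ᵁ V.1 : X.Opens) : Set X) := f.isCompact_preimage V.2.isCompact
    exact isCompact_iff_finite_and_eq_biUnion_affineOpens.1 hc
  choose s hsfin hsU using hcov
  have hle : ∀ (V : S.affineOpens) (W : X.affineOpens), W ∈ s V → W.1 ≤ f ⁻¹ᵁ V.1 := by
    intro V W hW
    rw [hsU V]
    exact le_iSup₂ (f := fun (i : X.affineOpens) (_ : i ∈ s V) => (i : X.Opens)) W hW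
  -- good elements
  let Good : (V : S.affineOpens) → Γ(S, V.1) → Prop := fun V a =>
    ∀ (W : X.affineOpens) (hW : W ∈ s V),
      @GoodData Γ(S, V.1) _ a Γ(X, W.1) _ (f.appLE V.1 W.1 (hle V W hW)).hom.toAlgebra
  have key : ∀ (V : S.affineOpens) (h : Γ(S, V.1)), h ≠ 0 → ∃ a, a ≠ 0 ∧ h ∣ a ∧ Good V a := by
    intro V h hh
    haveI : Finite (s V) := (hsfin V).to_subtype
    obtain ⟨a, ha, hd, hP⟩ := exists_common (ι := s V)
      (fun W a => @GoodData Γ(S, V.1) _ a Γ(X, W.1.1) _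
        (f.appLE V.1 W.1.1 (hle V W.1 W.2)).hom.toAlgebra)
      (fun W a a' h hd => by
        letI : Algebra Γ(S, V.1) Γ(X, W.1.1) := (f.appLE V.1 W.1.1 (hle V W.1 W.2)).hom.toAlgebra
        exact GoodData.of_dvd h hd)
      (fun W h hh => by
        letI : Algebra Γ(S, V.1) Γ(X, W.1.1) := (f.appLE V.1 W.1.1 (hle V W.1 W.2)).hom.toAlgebra
        haveI : Algebra.FiniteType Γ(S, V.1) Γ(X, W.1.1) :=
          (HasRingHomProperty.iff_appLE (P := @LocallyOfFiniteType)).1 inferInstance V W.1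
            (hle V W.1 W.2)
        exact exists_goodData _ _ h hh) h hh
    exact ⟨a, ha, hd, fun W hW => hP ⟨W, hW⟩⟩
  let U : S.Opens := ⨆ (V : S.affineOpens) (a : {a : Γ(S, V.1) // Good V a}), S.basicOpen a.1
  have hUle : ∀ (V : S.affineOpens) (a : Γ(S, V.1)), Good V a → S.basicOpen a ≤ U := by
    intro V a ha
    exact le_iSup₂ (f := fun (V : S.affineOpens) (a : {a : Γ(S, V.1) // Good V a}) =>
      S.basicOpen a.1) V ⟨a, ha⟩
  -- the local criterion
  have hloc : ∀ x : X, f x ∈ U → ∃ (V : S.Opens) (W : X.Opens) (_ : IsAffineOpen V)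
      (_ : IsAffineOpen W) (e : W ≤ f ⁻¹ᵁ V), x ∈ W ∧ W ≤ f ⁻¹ᵁ U ∧
      (f.appLE V W e).hom.Flat ∧ (f.appLE V W e).hom.FinitePresentation := by
    intro x hx
    obtain ⟨V, hx⟩ := Opens.mem_iSup.1 hx
    obtain ⟨⟨a, ha⟩, hx⟩ := Opens.mem_iSup.1 hx
    have hxV : x ∈ f ⁻¹ᵁ V.1 := S.basicOpen_le a hx
    rw [hsU V] at hxV
    obtain ⟨W, hxW⟩ := Opens.mem_iSup.1 hxV
    obtain ⟨hW, hxW⟩ := Opens.mem_iSup.1 hxW
    have e := hle V W hW
    obtain ⟨A', hA'⟩ : ∃ A', A' = (f.appLE V.1 W.1 e).hom a := ⟨_, rfl⟩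
    have hU' : IsAffineOpen (X.basicOpen A') := W.2.basicOpen A'
    have e' : X.basicOpen A' ≤ f ⁻¹ᵁ V.1 := (X.basicOpen_le A').trans e
    have hbo : X.basicOpen A' = W.1 ⊓ f ⁻¹ᵁ (S.basicOpen a) := by
      rw [hA', Scheme.basicOpen_appLE]
    have hxU' : x ∈ X.basicOpen A' := by
      rw [hbo]
      exact ⟨hxW, hx⟩
    have hWU : X.basicOpen A' ≤ f ⁻¹ᵁ U := by
      rw [hbo]
      intro y hy
      exact hUle V a ha hy.2
    refine ⟨V.1, X.basicOpen A', V.2, hU', e', hxU', hWU, ?_⟩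
    let _ : Algebra Γ(S, V.1) Γ(X, W.1) := (f.appLE V.1 W.1 e).hom.toAlgebra
    let _ : Algebra Γ(S, V.1) Γ(X, X.basicOpen A') :=
      (f.appLE V.1 (X.basicOpen A') e').hom.toAlgebra
    have htower : IsScalarTower Γ(S, V.1) Γ(X, W.1) Γ(X, X.basicOpen A') := by
      apply IsScalarTower.of_algebraMap_eq'
      rw [RingHom.algebraMap_toAlgebra, RingHom.algebraMap_toAlgebra, RingHom.algebraMap_toAlgebra,
        ← CommRingCat.hom_comp, Scheme.Hom.appLE_map]
    have hGD : GoodData Γ(S, V.1) a Γ(X, W.1) := ha W hW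
    have hlocz : IsLocalization.Away (algebraMap Γ(S, V.1) Γ(X, W.1) a) Γ(X, X.basicOpen A') := by
      subst hA'
      exact W.2.isLocalization_basicOpen _
    have hflat : Module.Flat Γ(S, V.1) Γ(X, X.basicOpen A') := hGD.flat
    have hfp : Algebra.FinitePresentation Γ(S, V.1) Γ(X, X.basicOpen A') := hGD.finitePresentation
    exact ⟨hflat, hfp⟩
  refine ⟨U, ?_, ?_, ?_⟩
  · rw [dense_iff_inter_open]
    intro O hO hne
    obtain ⟨x, hx⟩ := hne
    obtain ⟨_, ⟨V, hV, rfl⟩, hxV, hVO⟩ :=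
      S.isBasis_affineOpens.exists_subset_of_mem_open hx hO
    have h1 : (1 : Γ(S, V)) ≠ 0 := by
      intro h10
      have hb : S.basicOpen (1 : Γ(S, V)) = V := S.basicOpen_of_isUnit isUnit_one
      rw [h10, Scheme.basicOpen_zero] at hb
      rw [← hb] at hxV
      exact hxV
    obtain ⟨a, ha0, -, hgood⟩ := key ⟨V, hV⟩ 1 h1
    have hne' : S.basicOpen a ≠ ⊥ := fun hbot =>
      ha0 ((AlgebraicGeometry.basicOpen_eq_bot_iff a).1 hbot)
    obtain ⟨y, hy⟩ : ∃ y, y ∈ S.basicOpen a := by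
      by_contra hcon
      push Not at hcon
      exact hne' (by ext y; simpa using hcon y)
    exact ⟨y, hVO (S.basicOpen_le a hy), hUle ⟨V, hV⟩ a hgood hy⟩
  · refine restrict_of_forall_exists_appLE (P := @Flat)
      (RingHom.Flat.stableUnderComposition.stableUnderCompositionWithLocalizationAway
        RingHom.Flat.holdsForLocalizationAway).left f U fun x hx => ?_
    obtain ⟨V, W, hV, hW, e, hxW, hWU, hfl, -⟩ := hloc x hx
    exact ⟨V, W, hV, hW, e, hxW, hWU, hfl⟩
  · refine restrict_of_forall_exists_appLE (P := @LocallyOfFinitePresentation)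
      (RingHom.finitePresentation_stableUnderComposition.stableUnderCompositionWithLocalizationAway
        RingHom.finitePresentation_holdsForLocalizationAway).left f U fun x hx => ?_
    obtain ⟨V, W, hV, hW, e, hxW, hWU, -, hfp⟩ := hloc x hx
    exact ⟨V, W, hV, hW, e, hxW, hWU, hfp⟩

open AlgebraicGeometry CategoryTheory Limits in
/-- Generic flatness: a morphism X → S of finite type with S reduced is flat and locally of finite
presentation over some dense open subscheme of S. (Stated for the structure sheaf; the published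
statement also treats a quasi-coherent O_X-module of finite type.) -/
theorem result {X S : Scheme.{u}} (f : X ⟶ S) [IsReduced S] [LocallyOfFiniteType f] [QuasiCompact f] :
    ∃ U : S.Opens, Dense (U : Set ↑S) ∧ Flat (f ∣_ U) ∧ LocallyOfFinitePresentation (f ∣_ U) := by
  exact aux f

end Groth.Agent.S0414
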