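import Groth.Statements.S0416
import Mathlib
import Groth.Agent.S0415

set_option autoImplicit false
universe u
open FlatMor

namespace Groth.Agent.S0416

section Dev
open AlgebraicGeometry CategoryTheory Limits
theorem isHomeomorph_of_comp_left {α β γ : Type*} [TopologicalSpace α] [TopologicalSpace β]
    [TopologicalSpace γ] (a : α → β) (b : β → γ) (hba : IsHomeomorph (b ∘ a)) (ha : IsHomeomorph a) :
    IsHomeomorph b := by
  let e := ha.homeomorph a
  have : b = (b ∘ a) ∘ e.symm := by
    funext x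
    simp only [Function.comp]
    congr 1
    exact (e.apply_symm_apply x).symm
  rw [this]
  exact hba.comp e.symm.isHomeomorph

/-- If `f ≫ g` is universally injective then so is `f`. (from helper1's Lib/Helper1Thickening) -/
theorem universallyInjective_of_comp {X Y Z : Scheme.{u}} (f : X ⟶ Y) (g : Y ⟶ Z)
    [UniversallyInjective (f ≫ g)] : UniversallyInjective f := by
  have h := ((tfae_universallyInjective (f ≫ g)).out 0 1).1 ‹UniversallyInjective (f ≫ g)›
  refine ((tfae_universallyInjective f).out 0 1).2 ?_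
  intro K _ g₁ g₂ hg
  apply h K
  simp only [← Category.assoc]
  exact congrArg (· ≫ g) hg

theorem main {X Y Z : Scheme.{u}} (g : X ⟶ Y) (h : Y ⟶ Z) :
    (FlatMor.IsUnivHomeo (g ≫ h) → FlatMor.IsUnivHomeo g → FlatMor.IsUnivHomeo h) ∧
    (FlatMor.IsUnivHomeo (g ≫ h) → FlatMor.IsUnivHomeo h → FlatMor.IsUnivHomeo g) := by
  constructor
  · intro hgh hg Y' Z' i₁ i₂ h' hp
    have hp1 : IsPullback (pullback.fst i₁ g) (pullback.snd i₁ g) i₁ g := IsPullback.of_hasPullback i₁ g
    have h1 : IsHomeomorph (pullback.fst i₁ g) := hg _ _ _ hp1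
    have h2 : IsHomeomorph (pullback.fst i₁ g ≫ h') := hgh _ _ _ (hp1.paste_horiz hp)
    have h3 : ⇑(pullback.fst i₁ g ≫ h') = ⇑h' ∘ ⇑(pullback.fst i₁ g) := by
      funext x; simp
    rw [h3] at h2
    exact isHomeomorph_of_comp_left _ _ h2 h1
  · intro hgh hh
    obtain ⟨a1, a2, a3⟩ := (Groth.Agent.S0415.result (g ≫ h)).mp hgh
    obtain ⟨b1, b2, b3⟩ := (Groth.Agent.S0415.result h).mp hh
    rw [Groth.Agent.S0415.result]
    refine ⟨IsIntegralHom.of_comp g h, universallyInjective_of_comp g h, ⟨?_⟩⟩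
    intro y
    obtain ⟨x, hx⟩ := a3.surj (h y)
    refine ⟨x, h.injective ?_⟩
    rw [← hx]; simp
end Dev

open AlgebraicGeometry CategoryTheory Limits in
/-- When a composite of two morphisms is a universal homeomorphism and so is either factor, the
remaining factor is a universal homeomorphism as well. -/
theorem result {X Y Z : Scheme.{u}} (g : X ⟶ Y) (h : Y ⟶ Z) :
    (FlatMor.IsUnivHomeo (g ≫ h) → FlatMor.IsUnivHomeo g → FlatMor.IsUnivHomeo h) ∧
    (FlatMor.IsUnivHomeo (g ≫ h) → FlatMor.IsUnivHomeo h → FlatMor.IsUnivHomeo g) := by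
  exact main g h

end Groth.Agent.S0416
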