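import Groth.Statements.S0419
import Groth.Agent.Lib.Helper22GI7

set_option autoImplicit false
universe u
open FlatMor

namespace Groth.Agent.S0419

open AlgebraicGeometry CategoryTheory Limits in
/-- For a morphism of finite type to an irreducible scheme whose generic fibre is geometrically
irreducible, all fibres over some nonempty open of the target are geometrically irreducible. -/
theorem result {X Y : Scheme.{u}} (f : X ⟶ Y) [IrreducibleSpace ↑Y] [LocallyOfFiniteType f] [QuasiCompact f]
    (h : GeometricallyIrreducible (f.fiberToSpecResidueField (genericPoint ↑Y))) :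
    ∃ V : Y.Opens, (V : Set ↑Y).Nonempty ∧ GeometricallyIrreducible (f ∣_ V) := by
  obtain ⟨V, hV, hfib⟩ := Groth.Agent.Lib.Helper22.GI.exists_open_forall_geomIrr_fiber f h
  exact ⟨V, hV, Groth.Agent.Lib.Helper22.GI.geomIrr_morphismRestrict_of_forall f V hfib⟩

end Groth.Agent.S0419
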