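import Groth.Statements.S0421
import Mathlib
import Groth.Agent.Lib.Helper10DVRFibre3
-- import your own Groth.Agent.* helpers here

set_option autoImplicit false
universe u
open FlatMor

namespace Groth.Agent.S0421

open AlgebraicGeometry CategoryTheory Limits in
/-- For a flat morphism from a connected scheme to the spectrum of a discrete valuation ring with
reduced closed fibre, the generic fibre is connected. -/
theorem result {R : Type u} [CommRing R] [IsDomain R] [IsDiscreteValuationRing R] {X : Scheme.{u}}
    (f : X ⟶ Spec (CommRingCat.of R)) [Flat f] [ConnectedSpace ↑X]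
    (hred : IsReduced (f.fiber (IsLocalRing.closedPoint R))) :
    ConnectedSpace ↑(f.fiber (⟨⊥, Ideal.isPrime_bot⟩ : PrimeSpectrum R)) := by
  classical
  obtain ⟨π, hπ⟩ := IsDiscreteValuationRing.exists_irreducible R
  have hy : (IsLocalRing.closedPoint R).asIdeal = Ideal.span {π} := hπ.maximalIdeal_eq
  haveI : (IsLocalRing.closedPoint R).asIdeal.IsMaximal := IsLocalRing.maximalIdeal.isMaximal R
  haveI := hred
  have hgen : GeneralizingMap f := Flat.generalizingMap f
  have hpre : _root_.IsPreconnected (f ⁻¹' {Groth.Agent.Lib.Helper10.DVRFibre.genPt R}) := by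
    apply Groth.Agent.Lib.Helper10.DVRFibre.isPreconnected_preimage_genPt f hπ hgen
    intro x _
    obtain ⟨U, hU, hxU⟩ := Groth.Agent.Lib.Helper10.DVRFibre.exists_affineOpen_mem x
    exact ⟨U, hU, hxU, Groth.Agent.Lib.Helper10.DVRFibre.phi_mem_nonZeroDivisors f hU hπ.ne_zero,
      Groth.Agent.Lib.Helper10.DVRFibre.isReduced_quotient_of_isReduced_fiber f
        (IsLocalRing.closedPoint R) π hy hU⟩
  haveI := Groth.Agent.Lib.Helper10.DVRFibre.preconnectedSpace_fiber_of_isPreconnected f
    (Groth.Agent.Lib.Helper10.DVRFibre.genPt R) hpre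
  obtain ⟨x⟩ := (inferInstance : Nonempty X)
  obtain ⟨x', -, hx'⟩ := hgen (Groth.Agent.Lib.Helper10.DVRFibre.genPt_specializes (f x))
  haveI : Nonempty (f.fiber (Groth.Agent.Lib.Helper10.DVRFibre.genPt R)) :=
    ⟨(f.fiberHomeo _).symm ⟨x', hx'⟩⟩
  exact { toPreconnectedSpace := inferInstance, toNonempty := inferInstance }

end Groth.Agent.S0421
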