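import Groth.Statements.S0423
import Mathlib

set_option autoImplicit false
universe u
open FlatMor

namespace Groth.Agent.S0423

section Dev
open AlgebraicGeometry CategoryTheory Limits TensorProduct
theorem isIdempotentElem_ker_of_flat (A B : Type*) [CommRing A] [CommRing B] [Algebra A B]
    (hsurj : Function.Surjective (algebraMap A B)) [Module.Flat A B] :
    IsIdempotentElem (RingHom.ker (algebraMap A B)) := by
  set I := RingHom.ker (algebraMap A B) with hI
  apply le_antisymm
  · exact Ideal.mul_le_right
  · intro x hx
    obtain ⟨k, a, y, h1, h2⟩ := Module.Flat.isTrivialRelation_of_sum_smul_eq_zero (R := A) (M := B)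
      (f := fun _ : Unit => x) (x := fun _ : Unit => (1 : B)) (by
        simp only [Finset.univ_unique, Finset.sum_singleton]
        rw [Algebra.smul_def, mul_one]
        exact hx)
    choose c hc using fun j => hsurj (y j)
    have h1' : (1 : B) = algebraMap A B (∑ j, a () j * c j) := by
      have h1u : (1 : B) = ∑ j, a () j • y j := h1 ()
      rw [h1u, map_sum]
      apply Finset.sum_congr rfl
      intro j _
      rw [map_mul, hc j, Algebra.smul_def]
    have hmem : 1 - ∑ j, a () j * c j ∈ I := by
      rw [hI, RingHom.mem_ker, map_sub, map_one, ← h1', sub_self]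
    have h2' : ∀ j, x * a () j = 0 := fun j => by
      have := h2 j
      simpa using this
    have hx' : x = x * (1 - ∑ j, a () j * c j) := by
      rw [mul_sub, mul_one, Finset.mul_sum]
      have : ∑ j, x * (a () j * c j) = 0 := by
        apply Finset.sum_eq_zero
        intro j _
        rw [← mul_assoc, h2' j, zero_mul]
      rw [this, sub_zero]
    rw [hx']
    exact Ideal.mul_mem_mul hx hmem

theorem formallyUnramified_of_weaklyEtale (R S : Type*) [CommRing R] [CommRing S] [Algebra R S]
    [Algebra.WeaklyEtale R S] : Algebra.FormallyUnramified R S := by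
  constructor
  have hflat : (Algebra.TensorProduct.lmul' R (S := S)).toRingHom.Flat :=
    Algebra.WeaklyEtale.flat_lmul' R S
  let _ : Algebra (S ⊗[R] S) S := (Algebra.TensorProduct.lmul' R (S := S)).toRingHom.toAlgebra
  have : Module.Flat (S ⊗[R] S) S := hflat
  have hsurj : Function.Surjective (algebraMap (S ⊗[R] S) S) := fun s => ⟨s ⊗ₜ 1, by
    show Algebra.TensorProduct.lmul' R (s ⊗ₜ[R] (1 : S)) = s
    simp⟩
  have h := isIdempotentElem_ker_of_flat (S ⊗[R] S) S hsurj
  exact (Ideal.cotangent_subsingleton_iff _).mpr h

theorem aff {R S : CommRingCat.{u}} (φ : R ⟶ S) [WeaklyEtale (Spec.map φ)] :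
    FormallyUnramified (Spec.map φ) := by
  rw [HasRingHomProperty.Spec_iff (P := @FormallyUnramified)]
  algebraize [φ.hom]
  have hφ : CommRingCat.ofHom (algebraMap R S) = φ := rfl
  have hflat : Module.Flat R S := by
    have h1 : Flat (Spec.map φ) := inferInstance
    rw [HasRingHomProperty.Spec_iff (P := @Flat)] at h1
    exact h1
  have hdiag : (Algebra.TensorProduct.lmul' R (S := S)).toRingHom.Flat := by
    have h1 : Flat (pullback.diagonal (Spec.map (CommRingCat.ofHom (algebraMap R S)))) := by
      rw [hφ]; infer_instance
    let e := pullbackSpecIso R S S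
    have h2 : Spec.map (CommRingCat.ofHom (Algebra.TensorProduct.lmul' R (S := S)).toRingHom) =
        pullback.diagonal (Spec.map (CommRingCat.ofHom (algebraMap R S))) ≫ e.hom := by
      rw [← Iso.comp_inv_eq]
      apply pullback.hom_ext
      · rw [Category.assoc, pullbackSpecIso_inv_fst, pullback.diagonal_fst, ← Spec.map_comp,
          ← Spec.map_id]
        congr 1
        ext x
        simp
      · rw [Category.assoc, pullbackSpecIso_inv_snd, pullback.diagonal_snd, ← Spec.map_comp,
          ← Spec.map_id]
        congr 1
        ext x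
        simp
    have h3 : Flat (Spec.map (CommRingCat.ofHom (Algebra.TensorProduct.lmul' R (S := S)).toRingHom)) := by
      rw [h2]; infer_instance
    rw [HasRingHomProperty.Spec_iff (P := @Flat)] at h3
    exact h3
  have : Algebra.WeaklyEtale R S := ⟨hflat, hdiag⟩
  exact formallyUnramified_of_weaklyEtale R S

theorem main {X Y : Scheme.{u}} (f : X ⟶ Y) [WeaklyEtale f] : FormallyUnramified f := by
  rw [IsZariskiLocalAtTarget.iff_of_openCover (P := @FormallyUnramified) Y.affineCover]
  intro i
  rw [IsZariskiLocalAtSource.iff_of_openCover (P := @FormallyUnramified)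
    ((Y.affineCover.pullback₁ f).X i).affineCover]
  intro j
  have hw : WeaklyEtale (((Y.affineCover.pullback₁ f).X i).affineCover.f j ≫
      Y.affineCover.pullbackHom f i) := by
    have : WeaklyEtale (Y.affineCover.pullbackHom f i) :=
      inferInstanceAs (WeaklyEtale (pullback.snd f (Y.affineCover.f i)))
    infer_instance
  obtain ⟨φ, hφ⟩ : ∃ φ, Spec.map φ = ((Y.affineCover.pullback₁ f).X i).affineCover.f j ≫
      Y.affineCover.pullbackHom f i := ⟨Spec.preimage _, Spec.map_preimage _⟩
  rw [← hφ] at hw ⊢
  exact @aff _ _ φ hw
end Dev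

open AlgebraicGeometry CategoryTheory Limits in
/-- A weakly étale morphism of schemes (flat with flat diagonal) is formally unramified. -/
theorem result {X Y : Scheme.{u}} (f : X ⟶ Y) [WeaklyEtale f] : FormallyUnramified f := by
  exact main f

end Groth.Agent.S0423
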