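import Groth.Statements.S0431
import Mathlib
import Groth.Agent.Lib.Helper22ThickAffine
import Groth.Agent.Lib.Helper22FerrandProp

set_option autoImplicit false
universe u
open FlatMor

namespace Groth.Agent.S0431

open AlgebraicGeometry CategoryTheory Limits TopologicalSpace
open Groth.Agent.Lib.Helper22.Ferrand Groth.Agent.Lib.Helper22.SpPO

/-- adapted pairs cover `Y` when `t` is a thickening and `f` is affine -/
theorem exists_adPair {X X' Y : Scheme.{u}} (t : X ⟶ X') [IsClosedImmersion t]
    (ht : Function.Surjective t) (f : X ⟶ Y) [IsAffineHom f] (y : Y) :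
    ∃ k : AdPair t f, y ∈ k.V := by
  obtain ⟨_, ⟨V, hV, rfl⟩, hyV, -⟩ := Y.isBasis_affineOpens.exists_subset_of_mem_open
    (Set.mem_univ y) isOpen_univ
  have hW : IsAffineOpen (f ⁻¹ᵁ V) := hV.preimage f
  have hhomeo : IsHomeomorph t := Groth.Agent.Lib.Helper22.ThickAffine.isHomeomorph_of_surjective t ht
  -- the open of X' corresponding to f⁻¹V
  let U : X'.Opens := ⟨t '' (f ⁻¹ᵁ V : Set X), hhomeo.isOpenMap _ (f ⁻¹ᵁ V).2⟩
  have hU : t ⁻¹ᵁ U = f ⁻¹ᵁ V := by
    ext x
    change t x ∈ t '' (f ⁻¹ᵁ V : Set X) ↔ _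
    rw [hhomeo.injective.mem_set_image]
  have hUaff : IsAffineOpen U := by
    have h1 : IsAffine (t ⁻¹ᵁ U).toScheme := by
      have : IsAffineOpen (t ⁻¹ᵁ U) := hU ▸ hW
      exact this
    have hsurj : Surjective (t ∣_ U) := IsZariskiLocalAtTarget.restrict ⟨ht⟩ _
    exact Groth.Agent.Lib.Helper22.ThickAffine.isAffine_of_thickening (t ∣_ U) hsurj.surj
  exact ⟨⟨U, V, hUaff, hV, hU⟩, hyV⟩

/-- the chart map `Spec B → Spec R` is surjective for a thickening -/
theorem surjective_sp_φB {X X' Y : Scheme.{u}} (t : X ⟶ X') [IsClosedImmersion t]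
    (ht : Function.Surjective t) (f : X ⟶ Y) (k : AdPair t f) : Surjective (sp k.φB) := by
  have hsurjt : Surjective t := ⟨ht⟩
  have hφ : Function.Surjective k.φB := k.fs.surjective_fst k.p_surjective
  have hker : RingHom.ker k.φB ≤ nilradical k.R := by
    intro r hr
    rw [RingHom.mem_ker] at hr
    have h1 : k.p (k.φA r) = 0 := by
      rw [← k.fs.comm r, hr, map_zero]
    have h2 : k.φA r ∈ nilradical k.A' := by
      have h3 : k.φA r ∈ RingHom.ker (t.app k.U).hom := by
        rw [RingHom.mem_ker, Scheme.Hom.app_eq_appLE]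
        exact h1
      exact Groth.Agent.Lib.Helper22.Thick.ker_app_le_nilradical t k.hU h3
    obtain ⟨n, hn⟩ := h2
    refine ⟨n + 1, ?_⟩
    apply AdPair.R_ext
    · rw [map_pow, hr, map_zero, zero_pow (Nat.succ_ne_zero n)]
    · rw [map_pow, pow_succ, hn, zero_mul, map_zero]
  constructor
  intro x
  have hrange := _root_.range_comap_of_surjective k.B k.φB hφ
  have hx : x ∈ Set.range (PrimeSpectrum.comap k.φB) := by
    rw [hrange]
    intro a ha
    have := hker ha
    rw [nilradical_eq_sInf] at this
    exact (Ideal.mem_sInf.mp this) x.2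
  obtain ⟨y, hy⟩ := hx
  exact ⟨y, hy⟩

open AlgebraicGeometry CategoryTheory Limits in
/-- For a thickening X → X' (a surjective closed immersion) and an affine morphism X → Y, the pushout Y'
of X' and Y along X exists in schemes, Y → Y' is again a thickening and X is the fibre product of Y
and X' over Y' (the source's description of the structure sheaf of the pushout as a fibre product of
sheaves is not restated). -/
theorem result {X X' Y : Scheme.{u}} (t : X ⟶ X') [IsClosedImmersion t] (ht : Function.Surjective t) (f : X ⟶ Y) [IsAffineHom f] :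
    ∃ (Y' : Scheme.{u}) (f' : X' ⟶ Y') (b : Y ⟶ Y'), IsPushout t f f' b ∧ IsPullback t f f' b ∧
      IsClosedImmersion b ∧ Function.Surjective b := by
  have hY := exists_adPair t ht f
  have hX := hX_of_hY t f hY
  obtain ⟨P, a, b, hP, c, hc, hcov, hpbX, hpbY⟩ := exists_pushout t f hX hY
  have hsurjt : Surjective t := ⟨ht⟩
  refine ⟨P, a, b, hP, isPullback_of_charts t f a b c hX hpbX hpbY, ?_, ?_⟩
  · exact of_charts @IsClosedImmersion b c hcov (fun k => k.cY) (fun k => sp k.φB) hpbY
      (fun k => IsClosedImmersion.spec_of_surjective _ (k.fs.surjective_fst k.p_surjective))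
  · have : Surjective b := by
      refine of_charts @Surjective b c hcov (fun k => k.cY) (fun k => sp k.φB) hpbY (fun k => ?_)
      exact surjective_sp_φB t ht f k
    exact this.surj

end Groth.Agent.S0431
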