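import Groth.Statements.S0432
import Mathlib
import Groth.Agent.Lib.Helper22FerrandProp

set_option autoImplicit false
universe u
open FlatMor

namespace Groth.Agent.S0432

open CategoryTheory AlgebraicGeometry TopologicalSpace Limits
open Groth.Agent.Lib.Helper22.Ferrand Groth.Agent.Lib.Helper22.SpPO

/-- Shrinking lemma: for a closed immersion `i`, a point `z` and an open `O ∋ z` of `Z`,
inside any affine open `U₀ ∋ i z` there is a basic open `D(f) ∋ i z` with `i⁻¹ D(f) ⊆ O`. -/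
theorem exists_basicOpen_preimage_le {X Z : Scheme.{u}} (i : Z ⟶ X) [IsClosedImmersion i]
    (U₀ : X.Opens) (hU₀ : IsAffineOpen U₀) (z : Z) (hz : i.base z ∈ U₀) (O : Z.Opens)
    (hzO : z ∈ O) :
    ∃ f : Γ(X, U₀), i.base z ∈ X.basicOpen f ∧ i ⁻¹ᵁ X.basicOpen f ≤ O := by
  have hcl : IsClosed (i.base '' (O : Set Z)ᶜ) :=
    i.isClosedEmbedding.isClosedMap _ O.2.isClosed_compl
  let V : X.Opens := ⟨(i.base '' (O : Set Z)ᶜ)ᶜ, hcl.isOpen_compl⟩
  have hzV : i.base z ∈ V := by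
    rintro ⟨z', hz', e⟩
    have := i.isClosedEmbedding.injective e
    subst this
    exact hz' hzO
  obtain ⟨f, hf1, hf2⟩ := hU₀.exists_basicOpen_le ⟨i.base z, hzV⟩ hz
  refine ⟨f, hf2, ?_⟩
  intro z' hz'
  by_contra hcon
  exact hf1 hz' ⟨z', hcon, rfl⟩

theorem exists_adPair {X Y Z : Scheme.{u}} (i : Z ⟶ X) (j : Z ⟶ Y) [IsClosedImmersion i]
    [IsClosedImmersion j] (y : Y) : ∃ k : AdPair i j, y ∈ k.V := by
  by_cases hy : y ∈ Set.range j.base
  · obtain ⟨z, rfl⟩ := hy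
    obtain ⟨U₀, hU₀, hxU₀⟩ := exists_affine_nhd (i.base z)
    obtain ⟨V₀, hV₀, hyV₀⟩ := exists_affine_nhd (j.base z)
    -- step 1
    obtain ⟨f, hf1, hf2⟩ := exists_basicOpen_preimage_le i U₀ hU₀ z hxU₀ (j ⁻¹ᵁ V₀) hyV₀
    have hU₁ : IsAffineOpen (X.basicOpen f) := hU₀.basicOpen f
    -- step 2
    obtain ⟨g, hg1, hg2⟩ := exists_basicOpen_preimage_le j V₀ hV₀ z hyV₀
      (i ⁻¹ᵁ X.basicOpen f) hf1
    have hV₁ : IsAffineOpen (Y.basicOpen g) := hV₀.basicOpen g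
    -- step 3
    let g' : Γ(Z, i ⁻¹ᵁ X.basicOpen f) := (j.appLE V₀ (i ⁻¹ᵁ X.basicOpen f) hf2).hom g
    have hg' : Z.basicOpen g' = j ⁻¹ᵁ Y.basicOpen g := by
      show Z.basicOpen ((j.appLE V₀ (i ⁻¹ᵁ X.basicOpen f) hf2).hom g) = _
      rw [Scheme.basicOpen_appLE]
      exact inf_eq_right.mpr hg2
    obtain ⟨h, hh⟩ := i.app_surjective (X.basicOpen f) hU₁ g'
    have hh' : i ⁻¹ᵁ X.basicOpen h = j ⁻¹ᵁ Y.basicOpen g := by
      rw [Scheme.preimage_basicOpen, ← hg']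
      exact congrArg _ hh
    exact ⟨⟨X.basicOpen h, Y.basicOpen g, hU₁.basicOpen h, hV₁, hh'⟩, hg1⟩
  · have hcl : IsClosed (Set.range j.base) := j.isClosedEmbedding.isClosed_range
    let O : Y.Opens := ⟨(Set.range j.base)ᶜ, hcl.isOpen_compl⟩
    obtain ⟨V, hV, hyV, hVO⟩ := Opens.isBasis_iff_nbhd.mp Y.isBasis_affineOpens
      (show y ∈ O from hy)
    refine ⟨⟨⊥, V, isAffineOpen_bot X, hV, ?_⟩, hyV⟩
    ext z
    constructor
    · intro hz
      exact absurd hz (by simp)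
    · intro hz
      exact absurd ⟨z, rfl⟩ (hVO hz)

open AlgebraicGeometry CategoryTheory Limits in
/-- The pushout of two closed immersions Z → X and Z → Y exists in schemes, both maps into it are closed
immersions and the square is cartesian. -/
theorem result {X Y Z : Scheme.{u}} (i : Z ⟶ X) (j : Z ⟶ Y) [IsClosedImmersion i] [IsClosedImmersion j] :
    ∃ (P : Scheme.{u}) (a : X ⟶ P) (b : Y ⟶ P), IsPushout i j a b ∧ IsPullback i j a b ∧ IsClosedImmersion a ∧ IsClosedImmersion b := by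
  obtain ⟨P, a, b, h1, h2, h3, h4, -, -⟩ := exists_pushout_props i j (exists_adPair i j)
  exact ⟨P, a, b, h1, h2, h4 inferInstance, h3⟩

end Groth.Agent.S0432
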