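import Groth.Statements.S0433
import Mathlib
import Groth.Agent.Lib.Helper22SpecPushout

set_option autoImplicit false
universe u
open FlatMor

namespace Groth.Agent.S0433

open AlgebraicGeometry CategoryTheory Limits Groth.Agent.Lib.Helper22.SpPO

theorem fs_pullback {A A' B : Type u} [CommRing A] [CommRing A'] [CommRing B] (p : A' →+* A)
    (q : B →+* A) :
    FS p q (pullback.fst (CommRingCat.ofHom q) (CommRingCat.ofHom p)).hom
      (pullback.snd (CommRingCat.ofHom q) (CommRingCat.ofHom p)).hom := by
  let f := CommRingCat.ofHom q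
  let g := CommRingCat.ofHom p
  let e : pullback f g ≅ (CommRingCat.pullbackCone f g).pt :=
    limit.isoLimitCone ⟨_, CommRingCat.pullbackConeIsLimit f g⟩
  have he1 : e.hom ≫ (CommRingCat.pullbackCone f g).fst = pullback.fst f g :=
    limit.isoLimitCone_hom_π _ _
  have he2 : e.hom ≫ (CommRingCat.pullbackCone f g).snd = pullback.snd f g :=
    limit.isoLimitCone_hom_π _ _
  have hi1 : e.inv ≫ pullback.fst f g = (CommRingCat.pullbackCone f g).fst := by
    rw [← he1, Iso.inv_hom_id_assoc]
  have hi2 : e.inv ≫ pullback.snd f g = (CommRingCat.pullbackCone f g).snd := by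
    rw [← he2, Iso.inv_hom_id_assoc]
  refine ⟨?_, ?_, ?_⟩
  · intro r
    exact congr($(pullback.condition (f := f) (g := g)).hom r)
  · intro r h1 h2
    have h1' : ((CommRingCat.pullbackCone f g).fst.hom (e.hom.hom r)) = 0 := by
      rw [← h1]; exact congr($(he1).hom r)
    have h2' : ((CommRingCat.pullbackCone f g).snd.hom (e.hom.hom r)) = 0 := by
      rw [← h2]; exact congr($(he2).hom r)
    have h3 : e.hom.hom r = 0 := by
      apply Subtype.ext
      exact Prod.ext h1' h2'
    have := congr(e.inv.hom $h3)
    rw [map_zero] at this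
    rw [← this]
    exact (congr($(e.hom_inv_id).hom r)).symm
  · intro b a hba
    let x : (CommRingCat.pullbackCone f g).pt := ⟨(b, a), hba⟩
    refine ⟨e.inv.hom x, ?_, ?_⟩
    · exact congr($(hi1).hom x)
    · exact congr($(hi2).hom x)

open AlgebraicGeometry CategoryTheory Limits in
/-- For a surjective ring map A' → A and any ring map B → A, the spectra of A, A', B and of the fibre
product ring B ×_A A' form a pushout square of schemes. -/
theorem result {A A' B : Type u} [CommRing A] [CommRing A'] [CommRing B] (p : A' →+* A) (hp : Function.Surjective p) (q : B →+* A) :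
    IsPushout (Spec.map (CommRingCat.ofHom p)) (Spec.map (CommRingCat.ofHom q))
      (Spec.map (pullback.snd (CommRingCat.ofHom q) (CommRingCat.ofHom p)))
      (Spec.map (pullback.fst (CommRingCat.ofHom q) (CommRingCat.ofHom p))) := by
  exact isPushout_of_FS (fs_pullback p q) hp

end Groth.Agent.S0433
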