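import Groth.Statements.S0436
import Mathlib
import Groth.Agent.Lib.Helper10DVRFibre6
-- import your own Groth.Agent.* helpers here

set_option autoImplicit false
universe u
open FlatMor

namespace Groth.Agent.S0436

open AlgebraicGeometry CategoryTheory Limits in
/-- For a proper flat morphism to the spectrum of a discrete valuation ring whose special fibre is
reduced, both the total space and the generic fibre are reduced. (The published statement is
stronger: instead of flatness it only needs every irreducible component of the total space to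
dominate the base.) -/
theorem result {R : Type u} [CommRing R] [IsDomain R] [IsDiscreteValuationRing R] {X : Scheme.{u}}
    (f : X ⟶ Spec (CommRingCat.of R)) [IsProper f] [Flat f]
    (hred : IsReduced (f.fiber (IsLocalRing.closedPoint R))) :
    IsReduced X ∧ IsReduced (f.fiber (⟨⊥, Ideal.isPrime_bot⟩ : PrimeSpectrum R)) := by
  classical
  open Groth.Agent.Lib.Helper10.DVRFibre in
  obtain ⟨π, hπ⟩ := IsDiscreteValuationRing.exists_irreducible R
  haveI := hred
  have hgen : GeneralizingMap f := Flat.generalizingMap f
  have hne : IsLocalRing.closedPoint R ≠ genPt R := by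
    intro h
    have h1 : π ∈ (IsLocalRing.closedPoint R).asIdeal := by
      show π ∈ IsLocalRing.maximalIdeal R
      rw [hπ.maximalIdeal_eq]; exact Ideal.subset_span rfl
    rw [h] at h1
    exact hπ.ne_zero ((Ideal.mem_bot).1 h1)
  have key0 : ∀ x : X, f x ≠ genPt R →
      ∃ U : X.Opens, IsAffineOpen U ∧ x ∈ U ∧ _root_.IsReduced Γ(X, U) := by
    intro x hx
    obtain ⟨W, hW, hxW⟩ := exists_affineOpen_mem x
    have hft : (phi f W).FiniteType := by
      have h1 : (f.appLE ⊤ W le_top).hom.FiniteType :=
        HasRingHomProperty.appLE (P := @LocallyOfFiniteType) f inferInstance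
          ⟨⊤, isAffineOpen_top _⟩ ⟨W, hW⟩ le_top
      have h2 : (Scheme.ΓSpecIso (CommRingCat.of R)).inv.hom.FiniteType :=
        RingHom.FiniteType.of_surjective _
          (ConcreteCategory.bijective_of_isIso (Scheme.ΓSpecIso (CommRingCat.of R)).inv).2
      exact RingHom.FiniteType.comp h1 h2
    haveI : IsNoetherianRing Γ(X, W) := by
      letI : Algebra R Γ(X, W) := (phi f W).toAlgebra
      haveI : Algebra.FiniteType R Γ(X, W) := hft
      exact Algebra.FiniteType.isNoetherianRing R Γ(X, W)
    have hy : (IsLocalRing.closedPoint R).asIdeal = Ideal.span {π} := hπ.maximalIdeal_eq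
    haveI : (IsLocalRing.closedPoint R).asIdeal.IsMaximal := IsLocalRing.maximalIdeal.isMaximal R
    haveI : _root_.IsReduced (Γ(X, W) ⧸ Ideal.span {phi f W π}) :=
      isReduced_quotient_of_isReduced_fiber f (IsLocalRing.closedPoint R) π hy hW
    obtain ⟨s, hxs, -, -, h4⟩ := exists_basicOpen_nzd_reduced hW (phi f W π)
      (notMem_minimalPrimes_of_generalizing f hgen hW hπ.ne_zero) x hxW
      (notMem_basicOpen_phi f hπ hx)
    exact ⟨X.basicOpen s, hW.basicOpen s, hxs, h4⟩
  have key : ∀ x : X, ∃ U : X.Opens, IsAffineOpen U ∧ x ∈ U ∧ _root_.IsReduced Γ(X, U) := by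
    intro x
    by_cases hx : f x = genPt R
    · have hcl : IsClosed (f '' closure {x}) := f.isClosedMap _ isClosed_closure
      have h1 : IsLocalRing.closedPoint R ∈ f '' closure {x} := by
        have h2 : f x ∈ f '' closure {x} := ⟨x, subset_closure rfl, rfl⟩
        rw [hx] at h2
        have h3 : genPt R ⤳ IsLocalRing.closedPoint R := genPt_specializes _
        exact h3.mem_closed hcl h2
      obtain ⟨x0, hx0, hfx0⟩ := h1
      obtain ⟨U, hU, hx0U, hUred⟩ := key0 x0 (by rw [hfx0]; exact hne)
      have hsp : x ⤳ x0 := specializes_iff_mem_closure.2 hx0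
      exact ⟨U, hU, hsp.mem_open U.isOpen hx0U, hUred⟩
    · exact key0 x hx
  refine ⟨isReduced_of_forall_exists_affine key, ?_⟩
  apply isReduced_fiber_of_forall_exists_affine f
  intro x
  obtain ⟨U, hU, hxU, hUred⟩ := key x
  refine ⟨U, hU, hxU, ?_⟩
  letI : Algebra R Γ(X, U) := (phi f U).toAlgebra
  exact isReduced_fiber_bot Γ(X, U)

end Groth.Agent.S0436
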