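import Groth.Statements.S0443
import Groth.Agent.Lib.Helper20OnePtStalk

set_option autoImplicit false
universe u
open FlatMor

namespace Groth.Agent.S0443

open AlgebraicGeometry CategoryTheory Limits in
/-- For a finite morphism π : X → Y and a point x of X that is the only point of its fibre, the induced
homomorphism of local rings O_{Y,π(x)} → O_{X,x} is finite. (The published lemma has further parts,
not stated here.) -/
theorem result {X Y : Scheme.{u}} (π : X ⟶ Y) [IsFinite π] (x : X) (hx : ∀ x' : ↑X, π x' = π x → x' = x) :
    (π.stalkMap x).hom.Finite := by
  apply Groth.Agent.Lib.Helper20.OnePt.stalkMap_finite_of_singleton_fibre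
  ext x'
  simp only [Set.mem_preimage, Set.mem_singleton_iff]
  exact ⟨fun h => hx x' h, fun h => by rw [h]⟩

end Groth.Agent.S0443
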