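import Groth.Statements.S0445
import Groth.Agent.S0063
-- import your own Groth.Agent.* helpers here

set_option autoImplicit false
universe u
open FlatMor

namespace Groth.Agent.S0445

open AlgebraicGeometry CategoryTheory Limits in
theorem aux {X Y S : Scheme.{u}} (p : Y ⟶ S) [FormallyUnramified p] [LocallyOfFiniteType p] (f g : X ⟶ Y) (hfg : f ≫ p = g ≫ p)
    (x : X) (hx : X.fromSpecResidueField x ≫ f = X.fromSpecResidueField x ≫ g) :
    ∃ U : X.Opens, x ∈ U ∧ U.ι ≫ f = U.ι ≫ g := by
  let X' : Over S := Over.mk (f ≫ p)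
  let Y' : Over S := Over.mk p
  let f' : X' ⟶ Y' := Over.homMk f rfl
  let g' : X' ⟶ Y' := Over.homMk g hfg.symm
  have hunr : FormallyUnramified Y'.hom := ‹_›
  have hlft : LocallyOfFiniteType Y'.hom := ‹_›
  have hopen : IsOpenImmersion (equalizer.ι f' g').left :=
    Groth.Agent.S0063.isOpenImmersion_equalizer_ι_left f' g'
  have hx' : x ∈ Set.range (equalizer.ι f' g').left := by
    let κ : Over S := Over.mk (X.fromSpecResidueField x ≫ f ≫ p)
    let ι' : κ ⟶ X' := Over.homMk (X.fromSpecResidueField x)
    have hι : ι' ≫ f' = ι' ≫ g' := by ext1; exact hx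
    refine ⟨(equalizer.lift ι' hι).left (default : Spec (X.residueField x)), ?_⟩
    rw [← Scheme.Hom.comp_apply, ← Over.comp_left, equalizer.lift_ι]
    exact Scheme.fromSpecResidueField_apply _ _
  refine ⟨(equalizer.ι f' g').left.opensRange, hx', ?_⟩
  rw [← Scheme.Hom.isoOpensRange_inv_comp, Category.assoc, Category.assoc]
  congr 1
  exact congr($(equalizer.condition f' g').left)

open AlgebraicGeometry CategoryTheory Limits in
/-- Two morphisms over S into an S-scheme unramified over S which agree at a point and induce the same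
map on residue fields there agree on an open neighbourhood of that point. -/
theorem result {X Y S : Scheme.{u}} (p : Y ⟶ S) [FormallyUnramified p] [LocallyOfFiniteType p] (f g : X ⟶ Y) (hfg : f ≫ p = g ≫ p)
    (x : X) (h1 : f x = g x) (h2 : f.residueFieldMap x = (Y.residueFieldCongr h1).hom ≫ g.residueFieldMap x) :
    ∃ U : X.Opens, x ∈ U ∧ U.ι ≫ f = U.ι ≫ g := by
  apply aux p f g hfg x
  rw [← Scheme.Hom.SpecMap_residueFieldMap_fromSpecResidueField,
    ← Scheme.Hom.SpecMap_residueFieldMap_fromSpecResidueField, h2, Spec.map_comp, Category.assoc,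
    Scheme.residueFieldCongr_fromSpecResidueField]

end Groth.Agent.S0445
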