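import Groth.Statements.S0448
import Mathlib
-- import your own Groth.Agent.* helpers here

set_option autoImplicit false
universe u
open FlatMor

namespace Groth.Agent.S0448

section aux
open TensorProduct

variable {R : Type u} [CommRing R] [IsLocalRing R]

theorem flat_prod {R A B : Type u} [CommRing R] [AddCommGroup A] [Module R A]
    [AddCommGroup B] [Module R B] [Module.Flat R A] [Module.Flat R B] :
    Module.Flat R (A × B) := by
  rw [Module.Flat.iff_lTensor_preserves_injective_linearMap]
  intro N N' _ _ _ _ f hf
  have key : (TensorProduct.prodLeft R R A B N').toLinearMap ∘ₗ LinearMap.lTensor (A × B) f =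
      (LinearMap.prodMap (LinearMap.lTensor A f) (LinearMap.lTensor B f)) ∘ₗ
        (TensorProduct.prodLeft R R A B N).toLinearMap := by
    apply TensorProduct.ext'
    rintro ⟨a, b⟩ n
    simp
  have hA := Module.Flat.lTensor_preserves_injective_linearMap (M := A) f hf
  have hB := Module.Flat.lTensor_preserves_injective_linearMap (M := B) f hf
  intro x y hxy
  apply (TensorProduct.prodLeft R R A B N).injective
  apply Prod.map_injective.2 ⟨hA, hB⟩
  have h1 := congr_arg (TensorProduct.prodLeft R R A B N') hxy
  have h2 := LinearMap.congr_fun key x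
  have h3 := LinearMap.congr_fun key y
  simp only [LinearMap.comp_apply, LinearEquiv.coe_coe] at h2 h3
  rw [h2, h3] at h1
  exact h1

/-- free case -/
theorem free_case {M N : Type u} [AddCommGroup M] [Module R M] [Module.Free R M]
    [AddCommGroup N] [Module R N] [Module.Flat R N] (u : M →ₗ[R] N)
    (h : Function.Injective (LinearMap.lTensor (IsLocalRing.ResidueField R) u))
    (Q : Type u) [AddCommGroup Q] [Module R Q] : Function.Injective (LinearMap.rTensor Q u) := by
  classical
  rw [injective_iff_map_eq_zero]
  intro x hx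
  let b := Module.Free.chooseBasis R M
  set c := TensorProduct.equivFinsuppOfBasisLeft b x with hc
  have hxc : x = c.sum fun i n => b i ⊗ₜ[R] n := by
    rw [← TensorProduct.equivFinsuppOfBasisLeft_symm_apply, hc, LinearEquiv.symm_apply_apply]
  let s := c.support
  have hxs : x = ∑ i : s, b i ⊗ₜ[R] c i := by
    rw [hxc, Finsupp.sum, ← Finset.sum_coe_sort]
  -- the vanishing
  have h0 : ∑ i : s, c i ⊗ₜ[R] u (b i) = (0 : Q ⊗[R] N) := by
    have := congr_arg (TensorProduct.comm R N Q) hx
    rw [hxs, map_sum, map_sum, map_zero] at this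
    simpa using this
  have hinj : Function.Injective
      (LinearMap.rTensor N (Submodule.span R (Set.range (fun i : s => c i))).subtype) :=
    Module.Flat.rTensor_preserves_injective_linearMap _ Subtype.val_injective
  obtain ⟨l, a, y, hay, haq⟩ :=
    TensorProduct.vanishesTrivially_of_sum_tmul_eq_zero_of_rTensor_injective R hinj h0
  let α : (s → R) →ₗ[R] (Fin l → R) := (Pi.basisFun R s).constr R (fun i => a i)
  let y' : (Fin l → R) →ₗ[R] N := (Pi.basisFun R (Fin l)).constr R y
  let ι₀ : (s → R) →ₗ[R] M := (Pi.basisFun R s).constr R (fun i => b i)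
  let ρ : M →ₗ[R] (s → R) := LinearMap.pi (fun i => b.coord i)
  have hρ : ρ ∘ₗ ι₀ = LinearMap.id := by
    apply (Pi.basisFun R s).ext
    intro i
    have e1 : ι₀ (Pi.basisFun R s i) = b i := Module.Basis.constr_basis _ _ _ _
    ext i'
    show b.coord i' (ι₀ (Pi.basisFun R s i)) = (Pi.basisFun R s i) i'
    rw [e1, Module.Basis.coord_apply, Module.Basis.repr_self, Pi.basisFun_apply,
      Finsupp.single_apply, Pi.single_apply]
    by_cases hii : i' = i
    · subst hii; simp
    · rw [if_neg hii, if_neg]
      intro h'; exact hii (Subtype.ext h'.symm)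
  have hfac : u ∘ₗ ι₀ = y' ∘ₗ α := by
    apply (Pi.basisFun R s).ext
    intro i
    simp only [LinearMap.comp_apply, ι₀, α, y', Module.Basis.constr_basis]
    refine (hay i).trans ?_
    rw [Module.Basis.constr_apply_fintype]
    simp
  have hα : Function.Injective (LinearMap.lTensor (IsLocalRing.ResidueField R) α) := by
    have h1 : Function.Injective (LinearMap.lTensor (IsLocalRing.ResidueField R) ι₀) := by
      have : LinearMap.lTensor (IsLocalRing.ResidueField R) ρ ∘ₗ
          LinearMap.lTensor (IsLocalRing.ResidueField R) ι₀ = LinearMap.id := by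
        rw [← LinearMap.lTensor_comp, hρ, LinearMap.lTensor_id]
      exact Function.HasLeftInverse.injective ⟨_, LinearMap.congr_fun this⟩
    have h2 : Function.Injective (LinearMap.lTensor (IsLocalRing.ResidueField R) (y' ∘ₗ α)) := by
      rw [← hfac, LinearMap.lTensor_comp]
      exact h.comp h1
    rw [LinearMap.lTensor_comp] at h2
    exact Function.Injective.of_comp h2
  obtain ⟨l', hl'⟩ :=
    (IsLocalRing.split_injective_iff_lTensor_residueField_injective α).2 hα
  let x₀ : (s → R) ⊗[R] Q := ∑ i : s, (Pi.basisFun R s i) ⊗ₜ[R] c i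
  have hx₀ : LinearMap.rTensor Q ι₀ x₀ = x := by
    rw [hxs, map_sum]
    refine Finset.sum_congr rfl (fun i _ => ?_)
    rw [LinearMap.rTensor_tmul, Module.Basis.constr_basis]
  have hαx₀ : LinearMap.rTensor Q α x₀ = 0 := by
    rw [map_sum]
    have : ∀ i : s, LinearMap.rTensor Q α ((Pi.basisFun R s i) ⊗ₜ[R] c i) =
        ∑ j : Fin l, (Pi.basisFun R (Fin l) j) ⊗ₜ[R] (a i j • c i) := by
      intro i
      rw [LinearMap.rTensor_tmul, Module.Basis.constr_basis]
      conv_lhs => rw [← (Pi.basisFun R (Fin l)).sum_repr (a i)]
      rw [TensorProduct.sum_tmul]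
      refine Finset.sum_congr rfl (fun j _ => ?_)
      rw [TensorProduct.smul_tmul]
      simp
    simp only [this]
    rw [Finset.sum_comm]
    refine Finset.sum_eq_zero (fun j _ => ?_)
    rw [← TensorProduct.tmul_sum, haq j, TensorProduct.tmul_zero]
  have hx₀0 : x₀ = 0 := by
    have : LinearMap.rTensor Q (l' ∘ₗ α) x₀ = x₀ := by
      rw [hl', LinearMap.rTensor_id, LinearMap.id_apply]
    rw [← this, LinearMap.rTensor_comp, LinearMap.comp_apply, hαx₀, map_zero]
  rw [← hx₀, hx₀0, map_zero]

end aux

open TensorProduct in
/-- Over a local ring, a linear map from a projective module to a flat module which is injective modulo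
the maximal ideal is universally injective (injective after tensoring with any module). -/
theorem result {R M N : Type u} [CommRing R] [IsLocalRing R] [AddCommGroup M] [Module R M] [Module.Projective R M]
    [AddCommGroup N] [Module R N] [Module.Flat R N] (u : M →ₗ[R] N)
    (h : Function.Injective (LinearMap.lTensor (IsLocalRing.ResidueField R) u)) :
    ∀ (Q : Type u) [AddCommGroup Q] [Module R Q], Function.Injective (LinearMap.rTensor Q u) := by
  classical
  intro Q _ _
  obtain ⟨s, hs⟩ := (Module.projective_def' (R := R) (P := M)).1 inferInstance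
  let π : (M →₀ R) →ₗ[R] M := Finsupp.linearCombination R id
  let u' : (M →₀ R) →ₗ[R] (N × (M →₀ R)) := (u ∘ₗ π).prod (LinearMap.id - s ∘ₗ π)
  have hu' : Function.Injective (LinearMap.lTensor (IsLocalRing.ResidueField R) u') := by
    rw [injective_iff_map_eq_zero]
    intro z hz
    have h1 : LinearMap.lTensor (IsLocalRing.ResidueField R) (u ∘ₗ π) z = 0 := by
      have : u ∘ₗ π = LinearMap.fst R N (M →₀ R) ∘ₗ u' := by
        ext; simp [u']
      rw [this, LinearMap.lTensor_comp, LinearMap.comp_apply, hz, map_zero]
    have h2 : LinearMap.lTensor (IsLocalRing.ResidueField R) (LinearMap.id - s ∘ₗ π) z = 0 := by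
      have : LinearMap.id - s ∘ₗ π = LinearMap.snd R N (M →₀ R) ∘ₗ u' := by
        ext; simp [u']
      rw [this, LinearMap.lTensor_comp, LinearMap.comp_apply, hz, map_zero]
    rw [LinearMap.lTensor_comp, LinearMap.comp_apply] at h1
    have h3 := h (by rw [h1, map_zero] :
      LinearMap.lTensor (IsLocalRing.ResidueField R) u
        (LinearMap.lTensor (IsLocalRing.ResidueField R) π z) =
      LinearMap.lTensor (IsLocalRing.ResidueField R) u 0)
    rw [LinearMap.lTensor_sub, LinearMap.sub_apply, LinearMap.lTensor_id, LinearMap.id_apply,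
      LinearMap.lTensor_comp, LinearMap.comp_apply, h3, map_zero, sub_zero] at h2
    exact h2
  haveI : Module.Flat R (N × (M →₀ R)) := flat_prod
  have hfree := free_case u' hu' Q
  rw [injective_iff_map_eq_zero]
  intro x hx
  have hcomp : u' ∘ₗ s = LinearMap.inl R N (M →₀ R) ∘ₗ u := by
    apply LinearMap.ext
    intro m
    have hm : π (s m) = m := LinearMap.congr_fun hs m
    simp only [u', LinearMap.comp_apply, LinearMap.prod_apply, Function.prod, LinearMap.sub_apply,
      LinearMap.id_apply, LinearMap.inl_apply, hm, sub_self]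
  have h1 : LinearMap.rTensor Q u' (LinearMap.rTensor Q s x) = 0 := by
    rw [← LinearMap.comp_apply, ← LinearMap.rTensor_comp, hcomp, LinearMap.rTensor_comp,
      LinearMap.comp_apply, hx, map_zero]
  have h2 : LinearMap.rTensor Q s x = 0 := hfree (by rw [h1, map_zero])
  have h3 : LinearMap.rTensor Q (π ∘ₗ s) x = x := by
    rw [hs, LinearMap.rTensor_id, LinearMap.id_apply]
  rw [← h3, LinearMap.rTensor_comp, LinearMap.comp_apply, h2, map_zero]

end Groth.Agent.S0448
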