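import Groth.Statements.S0450
import Groth.Agent.Lib.Helper3QFinDim
import Groth.Agent.S1240
import Mathlib

set_option autoImplicit false
universe u
open FlatMor

namespace Groth.Agent.S0450

open AlgebraicGeometry CategoryTheory Limits in
/-- A flat proper morphism locally of finite presentation that is finite over a dense open subset of the
target is finite (the source alternatively allows the open to be retrocompact instead of assuming
finite presentation; only this alternative is stated). -/
theorem result {X S : Scheme.{u}} (f : X ⟶ S) [Flat f] [IsProper f] [LocallyOfFinitePresentation f] (U : S.Opens)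
    (hU : Dense (U : Set ↑S)) [IsFinite (f ∣_ U)] : IsFinite f := by
  have hle : ∀ x : X, f.base x ∈ U → FlatMor.fibreDimAt f x ≤ ((0 : ℕ) : WithBot ℕ∞) := by
    intro x hx
    rw [Nat.cast_zero, ← Groth.Agent.Lib.Helper3.QFinDim.quasiFiniteAt_iff_fibreDimAt_le_zero]
    let j := (f ⁻¹ᵁ U).ι
    haveI : LocallyQuasiFinite (j ≫ f) := by
      have : j ≫ f = (f ∣_ U) ≫ U.ι := (morphismRestrict_ι f U).symm
      rw [this]
      infer_instance
    have h1 : (j ≫ f).QuasiFiniteAt (⟨x, hx⟩ : ↥(f ⁻¹ᵁ U)) := (j ≫ f).quasiFiniteAt _
    exact Scheme.Hom.quasiFiniteAt_comp_iff_of_isOpenImmersion.mp h1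
  have hall : ∀ x : X, FlatMor.fibreDimAt f x ≤ 0 := by
    intro x
    have := Groth.Agent.S1240.result f U hU 0 hle (Or.inl inferInstance) x
    rwa [Nat.cast_zero] at this
  haveI : LocallyQuasiFinite f :=
    Groth.Agent.Lib.Helper3.QFinDim.locallyQuasiFinite_of_forall_fibreDimAt_le_zero f hall
  exact IsFinite.of_isProper_of_locallyQuasiFinite f

end Groth.Agent.S0450
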