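import Groth.Statements.S8564
import Mathlib
-- import your own Groth.Agent.* helpers here

set_option autoImplicit false
open CategoryTheory CategoryTheory.Limits
universe u
open CohCx

namespace Groth.Agent.S8564
universe w w' v u'
open Limits Abelian

section Abstract

variable {𝒜 : Type u'} [Category.{v} 𝒜] [Abelian 𝒜] [EnoughInjectives 𝒜] [HasExt.{w} 𝒜]
  [HasProducts.{w'} 𝒜]

/-- the canonical short exact sequence `0 → F → I(F) → Q(F) → 0`. -/
noncomputable abbrev SI (F : 𝒜) : ShortComplex 𝒜 :=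
  ShortComplex.mk (Injective.ι F) (cokernel.π (Injective.ι F)) (cokernel.condition _)

lemma SI_shortExact (F : 𝒜) : (SI F).ShortExact where
  exact := ShortComplex.exact_of_g_is_cokernel _ (cokernelIsCokernel _)
  mono_f := by dsimp [SI]; infer_instance
  epi_g := by dsimp [SI]; infer_instance

attribute [local instance] Ext.subsingleton_of_injective

/-- `Q(F)` is acyclic against `A` if `F` is. -/
lemma Q_acyclic (A F : 𝒜) (h : ∀ q : ℕ, Subsingleton (Ext.{w} A F (q + 1))) (q : ℕ) :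
    Subsingleton (Ext.{w} A (SI F).X₃ (q + 1)) := by
  constructor
  have key : ∀ x : Ext.{w} A (SI F).X₃ (q + 1), x = 0 := by
    intro x
    haveI := h (q + 1)
    obtain ⟨x₂, hx₂⟩ := Ext.covariant_sequence_exact₃ A (SI_shortExact F) x (n₁ := q + 1 + 1) rfl
      (Subsingleton.elim _ _)
    haveI : Injective (SI F).X₂ := by dsimp [SI]; infer_instance
    rw [← hx₂, Subsingleton.elim x₂ 0, Ext.zero_comp]
  intro a b
  rw [key a, key b]

/-- lifting maps to `Q(F)` when `Ext¹(A, F) = 0`. -/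
lemma exists_lift (A F : 𝒜) (h : Subsingleton (Ext.{w} A F 1)) (φ : A ⟶ (SI F).X₃) :
    ∃ ψ : A ⟶ (SI F).X₂, ψ ≫ (SI F).g = φ := by
  obtain ⟨x₂, hx₂⟩ := Ext.covariant_sequence_exact₃ A (SI_shortExact F) (Ext.mk₀ φ) (n₁ := 1) rfl
    (Subsingleton.elim _ _)
  obtain ⟨ψ, rfl⟩ := (Ext.mk₀_bijective _ _).2 x₂
  rw [Ext.mk₀_comp_mk₀] at hx₂
  exact ⟨ψ, (Ext.mk₀_bijective _ _).1 hx₂⟩

/-- the product of the sequences `SI (F t)`. -/
noncomputable abbrev SP {T : Type w'} (F : T → 𝒜) : ShortComplex 𝒜 :=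
  ShortComplex.mk (X₁ := ∏ᶜ F) (X₂ := ∏ᶜ fun t => (SI (F t)).X₂) (X₃ := ∏ᶜ fun t => (SI (F t)).X₃)
    (Limits.Pi.map fun t => (SI (F t)).f) (Limits.Pi.map fun t => (SI (F t)).g) (by
    apply Limits.Pi.hom_ext
    intro t
    simp)

lemma SP_exact {T : Type w'} (F : T → 𝒜) : (SP F).Exact := by
  apply ShortComplex.exact_of_f_is_kernel
  refine KernelFork.IsLimit.ofι' _ _ (fun {T'} s hs => ?_)
  have hk : ∀ t, (s ≫ Pi.π _ t) ≫ (SI (F t)).g = 0 := by
    intro t
    have := congrArg (fun m => m ≫ Pi.π _ t) hs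
    simpa using this
  refine ⟨Limits.Pi.lift fun t => (SI_shortExact (F t)).fIsKernel.lift (KernelFork.ofι _ (hk t)), ?_⟩
  apply Limits.Pi.hom_ext
  intro t
  have := (SI_shortExact (F t)).fIsKernel.fac (KernelFork.ofι _ (hk t)) WalkingParallelPair.zero
  simpa using this

lemma SP_shortExact (𝒢 : 𝒜 → Prop)
    (hdet : ∀ {M N : 𝒜} (g : M ⟶ N), (∀ A, 𝒢 A → ∀ φ : A ⟶ N, ∃ ψ : A ⟶ M, ψ ≫ g = φ) → Epi g)
    {T : Type w'} (F : T → 𝒜) (h1 : ∀ t A, 𝒢 A → Subsingleton (Ext.{w} A (F t) 1)) :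
    (SP F).ShortExact where
  exact := SP_exact F
  mono_f := by dsimp [SP]; infer_instance
  epi_g := by
    apply hdet
    intro A hA φ
    choose ψ hψ using fun t => exists_lift A (F t) (h1 t A hA) (φ ≫ Limits.Pi.π _ t)
    refine ⟨Limits.Pi.lift ψ, ?_⟩
    apply Limits.Pi.hom_ext
    intro t
    simpa using hψ t

lemma SP_X₂_injective {T : Type w'} (F : T → 𝒜) : Injective (SP F).X₂ := by
  dsimp [SP]
  infer_instance

theorem prod_acyclic (𝒢 : 𝒜 → Prop)
    (hdet : ∀ {M N : 𝒜} (g : M ⟶ N), (∀ A, 𝒢 A → ∀ φ : A ⟶ N, ∃ ψ : A ⟶ M, ψ ≫ g = φ) → Epi g)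
    (p : ℕ) : ∀ {T : Type w'} (F : T → 𝒜),
      (∀ t A, 𝒢 A → ∀ q : ℕ, Subsingleton (Ext.{w} A (F t) (q + 1))) →
      ∀ A, 𝒢 A → Subsingleton (Ext.{w} A (∏ᶜ F) (p + 1)) := by
  induction p with
  | zero =>
    intro T F hF A hA
    have hS := SP_shortExact 𝒢 hdet F (fun t A hA => hF t A hA 0)
    haveI := SP_X₂_injective F
    have key : ∀ x : Ext.{w} A (SP F).X₁ (0 + 1), x = 0 := by
      intro x
      obtain ⟨x₃, hx₃⟩ := Ext.covariant_sequence_exact₁ A hS x (Subsingleton.elim _ _) (n₀ := 0) rfl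
      obtain ⟨φ, rfl⟩ := (Ext.mk₀_bijective _ _).2 x₃
      haveI := hS.epi_g
      -- lift φ
      have hl : ∃ ψ : A ⟶ (SP F).X₂, ψ ≫ (SP F).g = φ := by
        choose ψ hψ using fun t => exists_lift A (F t) (hF t A hA 0) (φ ≫ Limits.Pi.π _ t)
        refine ⟨Limits.Pi.lift ψ, ?_⟩
        apply Limits.Pi.hom_ext
        intro t
        simpa using hψ t
      obtain ⟨ψ, rfl⟩ := hl
      rw [← hx₃, ← Ext.mk₀_comp_mk₀, Ext.comp_assoc _ _ _ (zero_add 0) (zero_add 1) (by omega),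
        hS.comp_extClass, Ext.comp_zero]
    exact ⟨fun a b => (key a).trans (key b).symm⟩
  | succ p ih =>
    intro T F hF A hA
    have hS := SP_shortExact 𝒢 hdet F (fun t A hA => hF t A hA 0)
    haveI := SP_X₂_injective F
    have hQ : Subsingleton (Ext.{w} A (SP F).X₃ (p + 1)) :=
      ih (fun t => (SI (F t)).X₃) (fun t A hA q => Q_acyclic A (F t) (hF t A hA) q) A hA
    have key : ∀ x : Ext.{w} A (SP F).X₁ (p + 1 + 1), x = 0 := by
      intro x
      obtain ⟨x₃, hx₃⟩ := Ext.covariant_sequence_exact₁ A hS x (Subsingleton.elim _ _) (n₀ := p + 1) rfl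
      rw [← hx₃, Subsingleton.elim x₃ 0, Ext.zero_comp]
    exact ⟨fun a b => (key a).trans (key b).symm⟩

end Abstract

section Concrete

variable {C : Type u} [SmallCategory C] (J : GrothendieckTopology C)

/-- the free abelian sheaf functor -/
noncomputable abbrev Zf : Sheaf J (Type u) ⥤ Sheaf J AddCommGrpCat.{u} :=
  Sheaf.composeAndSheafify J AddCommGrpCat.free.{u}

/-- the free-forgetful adjunction on sheaves -/
noncomputable abbrev adjZ : Zf J ⊣ sheafCompose J (forget AddCommGrpCat.{u}) :=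
  Sheaf.adjunction J AddCommGrpCat.adj

lemma detect {M N : Sheaf J AddCommGrpCat.{u}} (g : M ⟶ N)
    (h : ∀ A : Sheaf J AddCommGrpCat.{u}, (∃ K : Sheaf J (Type u), A = (Zf J).obj K) →
      ∀ φ : A ⟶ N, ∃ ψ : A ⟶ M, ψ ≫ g = φ) : Epi g := by
  haveI : Epi ((adjZ J).counit.app N) := inferInstance
  obtain ⟨ψ, hψ⟩ := h _ ⟨_, rfl⟩ ((adjZ J).counit.app N)
  exact epi_of_epi_fac hψ

end Concrete


/-- Let (F_t) be a family of abelian sheaves on a small site, indexed by a small set, such that each F_t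
is totally acyclic, i.e. H^p(K, F_t) = 0 for every sheaf of sets K and every p > 0. Then the product
sheaf of the family is totally acyclic. (The published statement is for modules over a ringed topos;
this row is the case of abelian sheaves.) -/
theorem result {C : Type u} [SmallCategory C] (J : GrothendieckTopology C)
    {T : Type u} (F : T → Sheaf J AddCommGrpCat.{u}) (hF : ∀ t, CohCx.IsTotallyAcyclic (F t)) :
    CohCx.IsTotallyAcyclic (∏ᶜ F) := by
  intro K p
  exact prod_acyclic.{u, u} (fun A => ∃ K : Sheaf J (Type u), A = (Zf J).obj K) (detect J) p F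
    (fun t A hA q => by
      obtain ⟨K, rfl⟩ := hA
      exact hF t K q) _ ⟨K, rfl⟩

end Groth.Agent.S8564
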