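import Groth.Statements.S0455
import Mathlib
import Groth.Agent.Lib.Helper16CechCmp
import Groth.Agent.Lib.Helper16CechLES
import Groth.Agent.Lib.Helper16Flasque
import Groth.Agent.S0858
import Groth.Agent.S8564
-- import your own Groth.Agent.* helpers here

set_option autoImplicit false
set_option linter.style.haveILetI false
universe u
open CategoryTheory
open CohTop

namespace Groth.Agent.S0455
open TopologicalSpace Opposite CategoryTheory.Limits
open Groth.Agent.Lib.Helper16.CechCmp Groth.Agent.Lib.Helper16.CechLES Groth.Agent.Lib.Helper21.Cech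

/-- flasque sheaves are Cech-acyclic (site form). -/
theorem flasque_cech_site {X : TopCat.{u}} {ι : Type u} {W : Opens X} (Y : ι → Over W)
    (hY : W ≤ ⨆ i, (Y i).left) (p : ℕ) :
    ∀ (F : CohTop.Ab X) [TopCat.Sheaf.IsFlasque F], IsZero (CohCx.cechH F.obj Y (p + 1)) := by
  induction p with
  | zero =>
    intro F _
    let S := Groth.Agent.S8564.SI F
    have hS : S.ShortExact := Groth.Agent.S8564.SI_shortExact F
    haveI : TopCat.Sheaf.IsFlasque S.X₁ := inferInstanceAs (TopCat.Sheaf.IsFlasque F)
    haveI : Injective S.X₂ := inferInstanceAs (Injective (Injective.under F))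
    haveI : TopCat.Sheaf.IsFlasque S.X₂ := Groth.Agent.Lib.Helper16.Flasque.injective_isFlasque _
    have hsurj : ∀ V : Opens X, Function.Surjective (S.g.hom.app (op V)) := fun V =>
      (AddCommGrpCat.epi_iff_surjective _).1 (TopCat.Sheaf.IsFlasque.epi_of_shortExact hS)
    have hT := presheaf_shortExact S hS hsurj
    have hcov := covering_of_iSup Y hY
    have hI : IsZero (CohCx.cechH S.X₂.obj Y (0 + 1)) :=
      Groth.Agent.S0858.result' (Opens.grothendieckTopology X) S.X₂ Y 0
    have hQ := toCech_bijective_of_isSheaf Y S.X₃.obj (Opens.grothendieckTopology X) S.X₃.property hcov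
    exact isZero_X₁_of_surjective Y _ hT 0
      (cechHMap_zero_surjective Y (S.map (sheafToPresheaf _ _)).g (hsurj W) hQ.2) hI
  | succ p ih =>
    intro F _
    let S := Groth.Agent.S8564.SI F
    have hS : S.ShortExact := Groth.Agent.S8564.SI_shortExact F
    haveI : TopCat.Sheaf.IsFlasque S.X₁ := inferInstanceAs (TopCat.Sheaf.IsFlasque F)
    haveI : Injective S.X₂ := inferInstanceAs (Injective (Injective.under F))
    haveI : TopCat.Sheaf.IsFlasque S.X₂ := Groth.Agent.Lib.Helper16.Flasque.injective_isFlasque _
    haveI : TopCat.Sheaf.IsFlasque S.X₃ := TopCat.Sheaf.IsFlasque.of_shortExact_of_isFlasque₁₂ hS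
    have hsurj : ∀ V : Opens X, Function.Surjective (S.g.hom.app (op V)) := fun V =>
      (AddCommGrpCat.epi_iff_surjective _).1 (TopCat.Sheaf.IsFlasque.epi_of_shortExact hS)
    have hT := presheaf_shortExact S hS hsurj
    have hI : IsZero (CohCx.cechH S.X₂.obj Y (p + 1 + 1)) :=
      Groth.Agent.S0858.result' (Opens.grothendieckTopology X) S.X₂ Y (p + 1)
    exact isZero_X₁ Y _ hT (p + 1) (ih S.X₃) hI

theorem result' {X : TopCat.{u}} (F : CohTop.Ab X) [TopCat.Sheaf.IsFlasque F]
    {ι : Type u} (U : ι → Opens X) (p : ℕ) : IsZero (CohTop.cechH F.obj U (p + 1)) := by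
  have h := flasque_cech_site (fam U (iSup U) (le_iSup U)) (le_of_eq rfl) p F
  exact IsZero.of_iso h (isoH' F.obj U (iSup U) (le_iSup U) (p + 1))


open TopologicalSpace CategoryTheory.Limits in
/-- If F is a flasque abelian sheaf on X, then for any family of opens the Cech cohomology groups of F
in positive degree are zero. -/
theorem result {X : TopCat.{u}} (F : CohTop.Ab X) [TopCat.Sheaf.IsFlasque F]
    {ι : Type u} (U : ι → Opens X) (p : ℕ) : IsZero (CohTop.cechH F.obj U (p + 1)) := by
  exact result' F U p

end Groth.Agent.S0455
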