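import Groth.Statements.S0460
import Mathlib
import Groth.Agent.Lib.Helper16SectSupp
-- import your own Groth.Agent.* helpers here

set_option autoImplicit false
universe u
open CategoryTheory
open CohTop

namespace Groth.Agent.S0460

open TopologicalSpace Opposite CategoryTheory.Limits Abelian


open Groth.Agent.Lib.Helper16.SectSupp Groth.Agent.Lib.Helper16.ClosedEmb

variable {X : TopCat.{u}}

lemma res_eq (F : CohTop.Ab X) (n : ℕ) {U V : Opens X} (h : V ≤ U) (ξ : CohTop.HU F n U) :
    CohTop.res F n h ξ = (Ext.mk₀ (CohCx.freeSheafMap (J X) (homOfLE h))).comp ξ (zero_add n) := rfl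

theorem main (n : ℕ) : ∀ (F : CohTop.Ab X) (U : Opens X)
    (ξ : Ext.{u} (CohCx.freeSheaf (J X) U) F (n + 1)),
    ∃ (V : U → Opens X) (hV : ∀ x, V x ≤ U), (∀ x : U, x.1 ∈ V x) ∧
      ∀ x, (Ext.mk₀ (CohCx.freeSheafMap (J X) (homOfLE (hV x)))).comp ξ (zero_add (n + 1)) = 0 := by
  induction n with
  | zero =>
    intro F U ξ
    let S : ShortComplex (CohTop.Ab X) := ShortComplex.mk (Injective.ι F) (cokernel.π (Injective.ι F))
      (cokernel.condition _)
    have hS : S.ShortExact :=
      { exact := ShortComplex.exact_of_g_is_cokernel _ (cokernelIsCokernel _)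
        mono_f := by dsimp [S]; infer_instance
        epi_g := by dsimp [S]; infer_instance }
    have h0 : ξ.comp (Ext.mk₀ S.f) (add_zero 1) = 0 :=
      Ext.eq_zero_of_injective (I := Injective.under F) _
    obtain ⟨x₃, hx₃⟩ := Ext.covariant_sequence_exact₁ _ hS ξ h0 (zero_add 1)
    obtain ⟨φ, rfl⟩ := (Ext.mk₀_bijective _ S.X₃).2 x₃
    have hepi : Epi S.g := hS.epi_g
    have hloc := (locSurj_iff S.g).1 hepi U (CohFree.evalGen (J X) U S.X₃ φ)
    choose V hVU hlift hxV using fun x : U => hloc x.1 x.2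
    refine ⟨V, hVU, hxV, fun x => ?_⟩
    obtain ⟨t, ht⟩ := hlift x
    rw [← hx₃, ← Ext.comp_assoc_of_second_deg_zero, Ext.mk₀_comp_mk₀]
    have e : CohCx.freeSheafMap (J X) (homOfLE (hVU x)) ≫ φ =
        CohFree.ofSect (J X) (V x) S.X₂ t ≫ S.g := by
      apply (CohFree.homEquivSect (J X) (V x) S.X₃).injective
      rw [CohFree.homEquivSect_apply, CohFree.homEquivSect_apply, CohFree.evalGen_freeSheafMap_comp,
        evalGen_comp, CohFree.evalGen_ofSect]
      exact ht.symm
    rw [e, ← Ext.mk₀_comp_mk₀, Ext.comp_assoc_of_second_deg_zero,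
      ShortComplex.ShortExact.comp_extClass, Ext.comp_zero]
  | succ m ih =>
    intro F U ξ
    let S : ShortComplex (CohTop.Ab X) := ShortComplex.mk (Injective.ι F) (cokernel.π (Injective.ι F))
      (cokernel.condition _)
    have hS : S.ShortExact :=
      { exact := ShortComplex.exact_of_g_is_cokernel _ (cokernelIsCokernel _)
        mono_f := by dsimp [S]; infer_instance
        epi_g := by dsimp [S]; infer_instance }
    have h0 : ξ.comp (Ext.mk₀ S.f) (add_zero (m + 1 + 1)) = 0 :=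
      Ext.eq_zero_of_injective (I := Injective.under F) _
    obtain ⟨x₃, hx₃⟩ := Ext.covariant_sequence_exact₁ _ hS ξ h0 (rfl : m + 1 + 1 = m + 1 + 1)
    obtain ⟨V, hVU, hxV, hres⟩ := ih S.X₃ U x₃
    refine ⟨V, hVU, hxV, fun x => ?_⟩
    have assoc := Ext.comp_assoc (Ext.mk₀ (CohCx.freeSheafMap (J X) (homOfLE (hVU x)))) x₃ hS.extClass
      (zero_add (m + 1)) (rfl : m + 1 + 1 = m + 1 + 1) (by omega : 0 + (m + 1) + 1 = m + 1 + 1)
    rw [← hx₃, ← assoc, hres x, Ext.zero_comp]


open TopologicalSpace in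
/-- Given an abelian sheaf F, an open U and a class ξ in H^(n+1)(U, F), there is an open covering of U
on each member of which ξ restricts to zero. -/
theorem result {X : TopCat.{u}} (F : CohTop.Ab X) (U : Opens X) (n : ℕ)
    (ξ : CohTop.HU F (n + 1) U) :
    ∃ (ι : Type u) (V : ι → Opens X) (hV : ∀ i, V i ≤ U), iSup V = U ∧
      ∀ i, CohTop.res F (n + 1) (hV i) ξ = 0 := by
  obtain ⟨V, hVU, hxV, hres⟩ := main n F U ξ
  refine ⟨U, V, hVU, ?_, fun x => hres x⟩
  apply le_antisymm
  · exact iSup_le hVU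
  · intro x hx
    exact Opens.mem_iSup.mpr ⟨⟨x, hx⟩, hxV ⟨x, hx⟩⟩

end Groth.Agent.S0460
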