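import Groth.Statements.S0466
import Mathlib
import Groth.Agent.Lib.Helper16CechH1
import Groth.Agent.Lib.Helper16SectSupp
-- import your own Groth.Agent.* helpers here

set_option autoImplicit false
set_option linter.style.haveILetI false
universe u
open CategoryTheory
open CohTop

namespace Groth.Agent.S0466
open TopologicalSpace Opposite CategoryTheory.Limits
open Groth.Agent.Lib.Helper16.CechLow Groth.Agent.Lib.Helper16.CechH1 Groth.Agent.Lib.Helper16.SectSupp
  Groth.Agent.Lib.Helper16.ClosedEmb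

lemma nat_apply {X : TopCat.{u}} {A B : CohTop.Ab X} (φ : A ⟶ B) {V V' : Opens X} (h : V' ≤ V)
    (y : A.obj.obj (op V)) :
    φ.hom.app (op V') (A.obj.map (homOfLE h).op y) = B.obj.map (homOfLE h).op (φ.hom.app (op V) y) :=
  ConcreteCategory.congr_hom (φ.hom.naturality (homOfLE h).op) y

theorem result' {X : TopCat.{u}}
    (S : CategoryTheory.ShortComplex (CohTop.Ab X)) (hS : S.ShortExact) (U : Opens X)
    (h : ∀ (ι : Type u) (V : ι → Opens X), iSup V = U →
      ∃ (κ : Type u) (W : κ → Opens X) (r : κ → ι), iSup W = U ∧ (∀ k, W k ≤ V (r k)) ∧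
        CategoryTheory.Limits.IsZero (CohTop.cechH S.X₁.obj W 1)) :
    Function.Surjective (S.g.hom.app (op U)) := by
  intro s
  haveI : Epi S.g := hS.epi_g
  haveI : Mono S.f := hS.mono_f
  have hg := (locSurj_iff S.g).1 inferInstance
  -- local lifts
  have hloc : ∀ x : U, ∃ (V' : Opens X) (hV : V' ≤ U), (∃ t : ToType (S.X₂.obj.obj (op V')),
      S.g.hom.app (op V') t = S.X₃.obj.map (homOfLE hV).op s) ∧ x.1 ∈ V' := fun x => hg U s x.1 x.2
  choose V hVU hV hxV using hloc
  choose t ht using hV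
  have hsup : iSup V = U := by
    apply le_antisymm
    · exact iSup_le hVU
    · intro x hx
      exact Opens.mem_iSup.2 ⟨⟨x, hx⟩, hxV ⟨x, hx⟩⟩
  obtain ⟨κ, W, r, hW, hle, hz⟩ := h U V hsup
  have hWU : ∀ k, W k ≤ U := fun k => (hle k).trans (hVU (r k))
  -- sections over `W k`
  obtain ⟨tk, htk⟩ : ∃ tk : ∀ k, S.X₂.obj.obj (op (W k)),
      ∀ k, S.g.hom.app (op (W k)) (tk k) = S.X₃.obj.map (homOfLE (hWU k)).op s := by
    refine ⟨fun k => S.X₂.obj.map (homOfLE (hle k)).op (t (r k)), fun k => ?_⟩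
    rw [nat_apply, ht, map_map]
  -- differences come from `S.X₁`
  have hdiff : ∀ k l, ∃ a : S.X₁.obj.obj (op (W k ⊓ W l)), S.f.hom.app (op (W k ⊓ W l)) a =
      S.X₂.obj.map (homOfLE (inf_le_right : W k ⊓ W l ≤ W l)).op (tk l) -
        S.X₂.obj.map (homOfLE (inf_le_left : W k ⊓ W l ≤ W k)).op (tk k) := by
    intro k l
    apply exists_of_isKernel S hS
    rw [map_sub, nat_apply, nat_apply, htk, htk, map_map, map_map, sub_self]
  choose a ha using hdiff
  have hcoc : ∀ k l m,
      S.X₁.obj.map (homOfLE (le_inf (inf_le_left.trans inf_le_right) inf_le_right :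
        W k ⊓ W l ⊓ W m ≤ W l ⊓ W m)).op (a l m) -
      S.X₁.obj.map (homOfLE (le_inf (inf_le_left.trans inf_le_left) inf_le_right :
        W k ⊓ W l ⊓ W m ≤ W k ⊓ W m)).op (a k m) +
      S.X₁.obj.map (homOfLE (inf_le_left : W k ⊓ W l ⊓ W m ≤ W k ⊓ W l)).op (a k l) = 0 := by
    intro k l m
    apply injective_of_mono S.f (W k ⊓ W l ⊓ W m)
    rw [map_add, map_sub, map_zero, nat_apply, nat_apply, nat_apply, ha, ha, ha]
    simp only [map_sub, map_map]
    abel
  obtain ⟨b, hb⟩ := exists_coboundary S.X₁.obj W hz a hcoc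
  -- corrected sections
  have hgf : ∀ k, S.g.hom.app (op (W k)) (S.f.hom.app (op (W k)) (b k)) = 0 := by
    intro k
    have hzero : S.f ≫ S.g = 0 := S.zero
    exact congrArg (fun m => m.hom.app (op (W k)) (b k)) hzero
  obtain ⟨T, hTdef⟩ : ∃ T : ∀ k, S.X₂.obj.obj (op (W k)),
      ∀ k, T k = tk k - S.f.hom.app (op (W k)) (b k) := ⟨_, fun _ => rfl⟩
  have hT : ∀ k, S.g.hom.app (op (W k)) (T k) = S.X₃.obj.map (homOfLE (hWU k)).op s := by
    intro k
    rw [hTdef, map_sub, htk, hgf, sub_zero]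
  have hcompat : TopCat.Presheaf.IsCompatible S.X₂.obj W T := by
    intro k l
    change S.X₂.obj.map (homOfLE (inf_le_left : W k ⊓ W l ≤ W k)).op (T k) =
      S.X₂.obj.map (homOfLE (inf_le_right : W k ⊓ W l ≤ W l)).op (T l)
    rw [hTdef, hTdef, map_sub, map_sub, ← nat_apply, ← nat_apply]
    have h1 := congrArg (S.f.hom.app (op (W k ⊓ W l))) (hb k l)
    rw [ha, map_sub] at h1
    rw [sub_eq_sub_iff_add_eq_add]
    rw [sub_eq_sub_iff_add_eq_add] at h1
    rw [add_comm, ← h1, add_comm]
  obtain ⟨tt, htt, _⟩ := TopCat.Sheaf.existsUnique_gluing' S.X₂ W U (fun k => homOfLE (hWU k))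
    (le_of_eq hW.symm) T hcompat
  refine ⟨tt, ?_⟩
  apply TopCat.Sheaf.eq_of_locally_eq' S.X₃ W U (fun k => homOfLE (hWU k)) (le_of_eq hW.symm)
  intro k
  rw [← nat_apply, htt k, hT]


open TopologicalSpace Opposite in
/-- Consider a short exact sequence of abelian sheaves with kernel F, middle term G and quotient H, and
an open U. If every open covering of U admits a refinement on which the first Cech cohomology of F
vanishes, then sections of G over U map onto sections of H over U. -/
theorem result {X : TopCat.{u}}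
    (S : CategoryTheory.ShortComplex (CohTop.Ab X)) (hS : S.ShortExact) (U : Opens X)
    (h : ∀ (ι : Type u) (V : ι → Opens X), iSup V = U →
      ∃ (κ : Type u) (W : κ → Opens X) (r : κ → ι), iSup W = U ∧ (∀ k, W k ≤ V (r k)) ∧
        CategoryTheory.Limits.IsZero (CohTop.cechH S.X₁.obj W 1)) :
    Function.Surjective (S.g.hom.app (op U)) := by
  exact result' S hS U h

end Groth.Agent.S0466
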