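import Groth.Statements.S0465
import Mathlib
import Groth.Agent.Lib.Helper16CechCmp
import Groth.Agent.Lib.Helper16CechLES
import Groth.Agent.Lib.Helper16Flasque
import Groth.Agent.S0455
import Groth.Agent.S0466
-- import your own Groth.Agent.* helpers here

set_option autoImplicit false
set_option linter.style.haveILetI false
universe u
open CategoryTheory
open CohTop

namespace Groth.Agent.S0465
open TopologicalSpace Opposite CategoryTheory.Limits
open Groth.Agent.Lib.Helper16.CechCmp Groth.Agent.Lib.Helper16.CechLES Groth.Agent.Lib.Helper21.Cech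
  Groth.Agent.Lib.Helper16.Flasque

/-- Cech-acyclic sheaves -/
def CA {X : TopCat.{u}} (G : CohTop.Ab X) : Prop :=
  ∀ (ι : Type u) (U : ι → Opens X) (p : ℕ), IsZero (CohTop.cechH G.obj U (p + 1))

lemma surj_of_CA {X : TopCat.{u}} (S : ShortComplex (CohTop.Ab X)) (hS : S.ShortExact) (h1 : CA S.X₁)
    (V : Opens X) : Function.Surjective (S.g.hom.app (op V)) :=
  Groth.Agent.S0466.result' S hS V (fun ι V' hV' => ⟨ι, V', id, hV', fun _ => le_rfl, h1 ι V' 0⟩)

lemma CA_X₃ {X : TopCat.{u}} (S : ShortComplex (CohTop.Ab X)) (hS : S.ShortExact) (h1 : CA S.X₁)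
    (h2 : CA S.X₂) : CA S.X₃ := by
  intro ι U p
  have hT := presheaf_shortExact S hS (surj_of_CA S hS h1)
  let Y := fam U (iSup U) (le_iSup U)
  have e2 : IsZero (CohCx.cechH S.X₂.obj Y (p + 1)) :=
    IsZero.of_iso (h2 ι U p) (isoH' S.X₂.obj U (iSup U) (le_iSup U) (p + 1)).symm
  have e1 : IsZero (CohCx.cechH S.X₁.obj Y (p + 1 + 1)) :=
    IsZero.of_iso (h1 ι U (p + 1)) (isoH' S.X₁.obj U (iSup U) (le_iSup U) (p + 1 + 1)).symm
  have e3 := isZero_X₃ Y _ hT (p + 1) e2 e1
  exact IsZero.of_iso e3 (isoH' S.X₃.obj U (iSup U) (le_iSup U) (p + 1))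

theorem ext_free_eq_zero {X : TopCat.{u}} (F : CohTop.Ab X) (hF : CA F) (U : Opens X) (n : ℕ)
    (x : Abelian.Ext.{u} (CohCx.freeSheaf (Opens.grothendieckTopology X) U) F (n + 1)) : x = 0 := by
  refine ext_vanish (fun G : CohTop.Ab X => CA G)
    (CohCx.freeSheaf (Opens.grothendieckTopology X) U)
    (fun I hI ι U' p => ?_)
    (fun S hS h1 h2 => CA_X₃ S hS h1 h2)
    (fun S hS h1 x => ?_) n F hF x
  · haveI := hI
    haveI := injective_isFlasque I
    exact Groth.Agent.S0455.result' I U' p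
  · obtain ⟨t, ht⟩ := surj_of_CA S hS h1 U (CohFree.evalGen _ U S.X₃ x)
    refine ⟨CohFree.ofSect _ U S.X₂ t, ?_⟩
    apply (CohFree.homEquivSect _ U S.X₃).injective
    rw [CohFree.homEquivSect_apply, CohFree.homEquivSect_apply, ← ht]
    change (S.g.hom.app (op U)).hom (CohFree.evalGen _ U S.X₂ (CohFree.ofSect _ U S.X₂ t)) = _
    rw [CohFree.evalGen_ofSect]

theorem result' {X : TopCat.{u}} (F : CohTop.Ab X)
    (h : ∀ (ι : Type u) (U : ι → Opens X) (p : ℕ), CategoryTheory.Limits.IsZero (CohTop.cechH F.obj U (p + 1)))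
    (U : Opens X) (p : ℕ) : Subsingleton (CohTop.HU F (p + 1) U) := by
  refine subsingleton_of_forall_eq 0 (fun x => ?_)
  exact ext_free_eq_zero F h U p x


open TopologicalSpace in
/-- If for every family of opens of X the Cech cohomology of F in positive degrees vanishes, then
H^(p+1)(U, F) = 0 for every open U. -/
theorem result {X : TopCat.{u}} (F : CohTop.Ab X)
    (h : ∀ (ι : Type u) (U : ι → Opens X) (p : ℕ), CategoryTheory.Limits.IsZero (CohTop.cechH F.obj U (p + 1)))
    (U : Opens X) (p : ℕ) : Subsingleton (CohTop.HU F (p + 1) U) := by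
  exact result' F h U p

end Groth.Agent.S0465
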