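import Groth.Statements.S0469
import Groth.Agent.Lib.Helper19SpecD
import Groth.Agent.Lib.Helper23AffVanish7

set_option autoImplicit false
universe u
open CategoryTheory
open CohTop

namespace Groth.Agent.S0469

/-- If X is a spectral space of Krull dimension at most d, then H^p(X, F) = 0 for every abelian sheaf F
and every p > d. -/
theorem result {X : TopCat.{u}} [SpectralSpace X] (d : ℕ) (hd : topologicalKrullDim X ≤ d)
    (F : CohTop.Ab X) (p : ℕ) (hp : d < p) : Subsingleton (CohTop.H F p) := by
  let 𝒱 : Groth.Agent.Lib.Helper19Spec.PO X :=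
    { S := {⊤}
      qc := by
        rintro _ rfl
        rw [TopologicalSpace.Opens.coe_top]
        exact isCompact_univ
      inf_mem := by
        rintro _ rfl _ rfl
        simp }
  have hT : Groth.Agent.Lib.Helper19Spec.CB (d + 1) 𝒱.T :=
    Groth.Agent.Lib.Helper19Spec.cb_mono (d + 1) (Set.subset_univ _)
      (Groth.Agent.Lib.Helper19Spec.cb_univ_of_dim_le d hd)
  have hP := (Groth.Agent.Lib.Helper19Spec.main F (d + 1)).1 p (by omega)
  have hz : ∀ ξ : Groth.Agent.Lib.Helper23.AffVanish.HE F p ⊤, ξ = 0 := by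
    intro ξ
    obtain ⟨V', hV', h, hz⟩ := hP 𝒱 hT ⊤ rfl ξ
    have hV'' : V' = ⊤ := hV'
    subst hV''
    rwa [Groth.Agent.Lib.Helper23.AffVanish.resE_self] at hz
  refine ⟨fun x y => (Groth.Agent.Lib.Helper23.AffVanish.HETopEquivH X F p).symm.injective ?_⟩
  rw [hz ((Groth.Agent.Lib.Helper23.AffVanish.HETopEquivH X F p).symm x),
    hz ((Groth.Agent.Lib.Helper23.AffVanish.HETopEquivH X F p).symm y)]

end Groth.Agent.S0469
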