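import Groth.Statements.S0470
import Groth.Agent.Lib.Helper19SpecD

set_option autoImplicit false
universe u
open CategoryTheory
open CohTop

namespace Groth.Agent.S0470

open TopologicalSpace in
/-- If X is a spectral space of Krull dimension d, then for every compact open U the restriction H^d(X,
F) → H^d(U, F) is surjective. -/
theorem result {X : TopCat.{u}} [SpectralSpace X] (d : ℕ)
    (hd : topologicalKrullDim X = d) (F : CohTop.Ab X) (U : Opens X) (hU : IsCompact (U : Set X)) :
    Function.Surjective (CohTop.res F d (le_top : U ≤ ⊤)) := by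
  intro ξ₀
  let 𝒱 : Groth.Agent.Lib.Helper19Spec.PO X :=
    { S := {⊤}
      qc := by
        rintro _ rfl
        rw [TopologicalSpace.Opens.coe_top]
        exact isCompact_univ
      inf_mem := by
        rintro _ rfl _ rfl
        simp }
  have hT : Groth.Agent.Lib.Helper19Spec.CB (d + 1) 𝒱.T :=
    Groth.Agent.Lib.Helper19Spec.cb_mono (d + 1) (Set.subset_univ _)
      (Groth.Agent.Lib.Helper19Spec.cb_univ_of_dim_le d hd.le)
  have hQ := (Groth.Agent.Lib.Helper19Spec.main F d).2
  obtain ⟨V', hV', h, ζ, hζ⟩ := hQ 𝒱 hT U hU ⊤ rfl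
    (Groth.Agent.Lib.Helper23.AffVanish.resE F d (inf_le_right : ⊤ ⊓ U ≤ U) ξ₀)
  have hV'' : V' = ⊤ := hV'
  subst hV''
  refine ⟨ζ, ?_⟩
  have h1 := congrArg (Groth.Agent.Lib.Helper23.AffVanish.resE F d (le_inf le_top le_rfl : U ≤ ⊤ ⊓ U)) hζ
  rw [Groth.Agent.Lib.Helper23.AffVanish.resE_resE, Groth.Agent.Lib.Helper23.AffVanish.resE_resE,
    Groth.Agent.Lib.Helper23.AffVanish.resE_resE, Groth.Agent.Lib.Helper23.AffVanish.resE_self] at h1
  exact h1

end Groth.Agent.S0470
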