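import Groth.Statements.S0471
import Mathlib
import Groth.Agent.Lib.Helper16Restr
-- import your own Groth.Agent.* helpers here

set_option autoImplicit false
universe u
open CategoryTheory
open CohTop

namespace Groth.Agent.S0471
open TopologicalSpace Opposite CategoryTheory.Limits Abelian
open Groth.Agent.Lib.Helper16.ClosedEmb

variable {X : TopCat.{u}} [CompactSpace X] [T2Space X] [TotallyDisconnectedSpace X]

/-- on a profinite space, global sections are exact. -/
lemma gamma_epi {A B : CohTop.Ab X} (g : A ⟶ B) [Epi g] (t : ToType (B.obj.obj (op ⊤))) :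
    ∃ s : ToType (A.obj.obj (op ⊤)), g.hom.app (op ⊤) s = t := by
  have hg := (locSurj_iff g).1 inferInstance
  choose V hV hs hx using fun x : X => hg ⊤ t x trivial
  choose σ hσ using hs
  have hcov : IsOpenCover V := by
    rw [IsOpenCover, eq_top_iff]
    intro x _
    exact Opens.mem_iSup.2 ⟨x, hx x⟩
  obtain ⟨n, W, hW, hWcov, hWd⟩ := hcov.exists_finite_nonempty_disjoint_clopen_cover
  choose _ r hr using hW
  -- the opens
  let W' : ULift.{u} (Fin n) → Opens X := fun j => (W j.down).toOpens
  have hW'V : ∀ j, W' j ≤ V (r j.down) := fun j => hr j.down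
  let sf : ∀ j, ToType (A.obj.obj (op (W' j))) := fun j => A.obj.map (homOfLE (hW'V j)).op (σ (r j.down))
  have hcompat : TopCat.Presheaf.IsCompatible A.obj W' sf := by
    intro j k
    by_cases hjk : j = k
    · subst hjk
      rfl
    · have hne : j.down ≠ k.down := fun h => hjk (ULift.ext _ _ h)
      have hbot : W' j ⊓ W' k = ⊥ := by
        have := hWd hne
        ext x
        simp only [Opens.coe_inf, Opens.coe_bot, Set.mem_inter_iff, Set.mem_empty_iff_false, iff_false]
        rintro ⟨h1, h2⟩
        exact (Set.disjoint_left.1 (Clopens.coe_disjoint.2 this)) h1 h2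
      haveI := subsingleton_of_eq_bot A hbot
      exact Subsingleton.elim _ _
  have hcover : (⊤ : Opens X) ≤ iSup W' := by
    intro x _
    obtain ⟨j, hj⟩ := Set.mem_iUnion.1 (hWcov (Set.mem_univ x))
    exact Opens.mem_iSup.2 ⟨⟨j⟩, hj⟩
  obtain ⟨s, hs, -⟩ := TopCat.Sheaf.existsUnique_gluing' A W' ⊤ (fun j => homOfLE le_top) hcover sf hcompat
  refine ⟨s, ?_⟩
  apply TopCat.Sheaf.eq_of_locally_eq' B W' ⊤ (fun j => homOfLE le_top) hcover
  intro j
  have nat := ConcreteCategory.congr_hom (g.hom.naturality (homOfLE (le_top : W' j ≤ ⊤)).op) s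
  have nat' := ConcreteCategory.congr_hom (g.hom.naturality (homOfLE (hW'V j)).op) (σ (r j.down))
  refine nat.symm.trans ?_
  change g.hom.app (op (W' j)) (A.obj.map (homOfLE (le_top : W' j ≤ ⊤)).op s) = _
  rw [hs j]
  refine nat'.trans ?_
  change B.obj.map (homOfLE (hW'V j)).op (g.hom.app (op (V (r j.down))) (σ (r j.down))) = _
  rw [hσ]
  exact map_map_apply B _ _ _ t

lemma constZ_projective : Projective (constZ X) := by
  constructor
  intro E H f e he
  -- the section corresponding to f
  let a := (adjC X).homEquiv _ _ f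
  let t : ToType (H.obj.obj (op ⊤)) := a ⟨1⟩
  obtain ⟨s, hs⟩ := gamma_epi e t
  let b : AddCommGrpCat.of (ULift.{u} ℤ) ⟶
      ((sheafSections (Opens.grothendieckTopology X) AddCommGrpCat.{u}).obj (op ⊤)).obj E :=
    AddCommGrpCat.ofHom (((zmultiplesHom _) s).comp AddEquiv.ulift.toAddMonoidHom)
  refine ⟨((adjC X).homEquiv _ _).symm b, ?_⟩
  apply ((adjC X).homEquiv _ _).injective
  rw [Adjunction.homEquiv_naturality_right, Equiv.apply_symm_apply]
  apply Groth.Agent.Lib.Helper16.Restr.uliftZ_hom_ext
  change e.hom.app (op ⊤) ((1 : ℤ) • s) = t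
  rw [one_smul, hs]


/-- If X is profinite (compact, Hausdorff, totally disconnected), then H^(p+1)(X, F) = 0 for every
abelian sheaf F. -/
theorem result {X : TopCat.{u}} [CompactSpace X] [T2Space X] [TotallyDisconnectedSpace X]
    (F : CohTop.Ab X) (p : ℕ) : Subsingleton (CohTop.H F (p + 1)) := by
  haveI := constZ_projective (X := X)
  exact ⟨fun a b => (Ext.eq_zero_of_projective a).trans (Ext.eq_zero_of_projective b).symm⟩

end Groth.Agent.S0471
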