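import Groth.Statements.S0481
import Mathlib
-- import your own Groth.Agent.* helpers here

set_option autoImplicit false
universe v u
open CategoryTheory
open CohDer

namespace Groth.Agent.S0481


section helpers
variable {A : Type u} [Category.{v} A] [Preadditive A]
    {B : Type u} [Category.{v} B] [Preadditive B] {u : A ⥤ B} {w : B ⥤ A} (adj : w ⊣ u)
    [w.Additive]

include adj in
lemma aux1 {X X' : B} {Y Y' : A} (a : X ⟶ u.obj Y) (a' : X' ⟶ u.obj Y') (d : X ⟶ X')
    (d' : Y ⟶ Y') (h : a ≫ u.map d' = d ≫ a') :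
    (adj.homEquiv _ _).symm a ≫ d' = w.map d ≫ (adj.homEquiv _ _).symm a' := by
  rw [← adj.homEquiv_naturality_right_symm, ← adj.homEquiv_naturality_left_symm, h]

include adj in
lemma aux2 {X X₁ : B} {Y Y₀ : A} (a : X ⟶ u.obj Y) (dX : X ⟶ X₁) (dY : Y₀ ⟶ Y)
    (h₁ : w.obj X₁ ⟶ Y) (h₀ : w.obj X ⟶ Y₀)
    (e : (adj.homEquiv _ _).symm a = w.map dX ≫ h₁ + h₀ ≫ dY) :
    a = dX ≫ adj.homEquiv _ _ h₁ + adj.homEquiv _ _ h₀ ≫ u.map dY := by
  have e' := congrArg (adj.homEquiv _ _) e
  rw [Equiv.apply_symm_apply, adj.homAddEquiv_add, adj.homEquiv_naturality_left,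
    adj.homEquiv_naturality_right] at e'
  exact e'

end helpers

open CategoryTheory.Limits in
/-- Let u : A ⥤ B be right adjoint to an exact additive functor w : B ⥤ A between abelian categories.
Then u applied termwise sends K-injective complexes to K-injective complexes. -/
theorem result {A : Type u} [Category.{v} A] [Abelian A]
    {B : Type u} [Category.{v} B] [Abelian B] (u : A ⥤ B) (w : B ⥤ A) (adj : w ⊣ u)
    [u.Additive] [w.Additive] [PreservesFiniteLimits w] [PreservesFiniteColimits w]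
    (I : CochainComplex A ℤ) (h : I.IsKInjective) :
    CochainComplex.IsKInjective ((u.mapHomologicalComplex (ComplexShape.up ℤ)).obj I) := by
  refine ⟨fun {K} f hK => ?_⟩
  have hwK : ((w.mapHomologicalComplex (ComplexShape.up ℤ)).obj K).Acyclic :=
    fun n => ShortComplex.Exact.map (hK n) w
  let fb : (w.mapHomologicalComplex (ComplexShape.up ℤ)).obj K ⟶ I :=
    { f := fun n => (adj.homEquiv (K.X n) (I.X n)).symm (f.f n)
      comm' := by
        intro i j _
        exact aux1 adj _ _ _ _ (f.comm i j) }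
  obtain ⟨H⟩ := h.nonempty_homotopy_zero fb hwK
  refine ⟨{ hom := fun i j => adj.homEquiv (K.X i) (I.X j) (H.hom i j), zero := ?_, comm := ?_ }⟩
  · intro i j hij
    exact (congrArg (adj.homEquiv (K.X i) (I.X j)) (H.zero i j hij)).trans
      (adj.homAddEquiv_zero _ _)
  · intro i
    have e := H.comm i
    let h1 : w.obj (K.X ((ComplexShape.up ℤ).next i)) ⟶ I.X i := H.hom ((ComplexShape.up ℤ).next i) i
    let h0 : w.obj (K.X i) ⟶ I.X ((ComplexShape.up ℤ).prev i) := H.hom i ((ComplexShape.up ℤ).prev i)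
    have e' : (adj.homEquiv (K.X i) (I.X i)).symm (f.f i) =
        w.map (K.d i ((ComplexShape.up ℤ).next i)) ≫ h1 +
          h0 ≫ I.d ((ComplexShape.up ℤ).prev i) i := by
      rw [HomologicalComplex.zero_f, add_zero] at e
      exact e
    have e'' := aux2 adj _ _ _ _ _ e'
    rw [HomologicalComplex.zero_f, add_zero]
    exact e''

end Groth.Agent.S0481
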