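import Groth.Statements.S0483
import Mathlib
import Groth.Prelude.Def_CohCx
import Groth.Prelude.Def_FreeSh
-- import your own Groth.Agent.* helpers here

set_option autoImplicit false
universe u
open CategoryTheory
open CohSite

namespace Groth.Agent.S0483
open Opposite CategoryTheory.Limits Abelian

variable {C : Type u} [SmallCategory C] (J : GrothendieckTopology C)

lemma res_eq (F : Sheaf J AddCommGrpCat.{u}) (n : ℕ) {U V : C} (f : V ⟶ U) (ξ : CohSite.HU F n U) :
    CohSite.res F n f ξ = (Ext.mk₀ (CohCx.freeSheafMap J f)).comp ξ (zero_add n) := rfl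

lemma evalGen_comp {F G : Sheaf J AddCommGrpCat.{u}} (V : C) (ψ : CohCx.freeSheaf J V ⟶ F) (φ : F ⟶ G) :
    CohFree.evalGen J V G (ψ ≫ φ) = φ.hom.app (op V) (CohFree.evalGen J V F ψ) := rfl

theorem main (n : ℕ) : ∀ (F : Sheaf J AddCommGrpCat.{u}) (U : C)
    (ξ : Ext.{u} (CohCx.freeSheaf J U) F (n + 1)),
    ∃ (S : J.Cover U), ∀ (a : S.Arrow),
      (Ext.mk₀ (CohCx.freeSheafMap J a.f)).comp ξ (zero_add (n + 1)) = 0 := by
  induction n with
  | zero =>
    intro F U ξ
    let S : ShortComplex (Sheaf J AddCommGrpCat.{u}) := ShortComplex.mk (Injective.ι F) (cokernel.π (Injective.ι F))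
      (cokernel.condition _)
    have hS : S.ShortExact :=
      { exact := ShortComplex.exact_of_g_is_cokernel _ (cokernelIsCokernel _)
        mono_f := by dsimp [S]; infer_instance
        epi_g := by dsimp [S]; infer_instance }
    have h0 : ξ.comp (Ext.mk₀ S.f) (add_zero 1) = 0 :=
      Ext.eq_zero_of_injective (I := Injective.under F) _
    obtain ⟨x₃, hx₃⟩ := Ext.covariant_sequence_exact₁ _ hS ξ h0 (zero_add 1)
    obtain ⟨φ, rfl⟩ := (Ext.mk₀_bijective _ S.X₃).2 x₃
    have hepi : Epi S.g := hS.epi_g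
    haveI : Sheaf.IsLocallySurjective S.g := (Sheaf.isLocallySurjective_iff_epi' AddCommGrpCat.{u} S.g).2 hepi
    let s₃ := CohFree.evalGen J U S.X₃ φ
    refine ⟨⟨Presheaf.imageSieve S.g.hom s₃, Presheaf.imageSieve_mem J S.g.hom s₃⟩, fun a => ?_⟩
    obtain ⟨t, ht⟩ := a.hf
    rw [← hx₃, ← Ext.comp_assoc_of_second_deg_zero, Ext.mk₀_comp_mk₀]
    have e : CohCx.freeSheafMap J a.f ≫ φ =
        CohFree.ofSect J a.Y S.X₂ t ≫ S.g := by
      apply (CohFree.homEquivSect J a.Y S.X₃).injective
      rw [CohFree.homEquivSect_apply, CohFree.homEquivSect_apply, CohFree.evalGen_freeSheafMap_comp,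
        evalGen_comp, CohFree.evalGen_ofSect]
      exact ht.symm
    rw [e, ← Ext.mk₀_comp_mk₀, Ext.comp_assoc_of_second_deg_zero,
      ShortComplex.ShortExact.comp_extClass, Ext.comp_zero]
  | succ m ih =>
    intro F U ξ
    let S : ShortComplex (Sheaf J AddCommGrpCat.{u}) := ShortComplex.mk (Injective.ι F) (cokernel.π (Injective.ι F))
      (cokernel.condition _)
    have hS : S.ShortExact :=
      { exact := ShortComplex.exact_of_g_is_cokernel _ (cokernelIsCokernel _)
        mono_f := by dsimp [S]; infer_instance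
        epi_g := by dsimp [S]; infer_instance }
    have h0 : ξ.comp (Ext.mk₀ S.f) (add_zero (m + 1 + 1)) = 0 :=
      Ext.eq_zero_of_injective (I := Injective.under F) _
    obtain ⟨x₃, hx₃⟩ := Ext.covariant_sequence_exact₁ _ hS ξ h0 (rfl : m + 1 + 1 = m + 1 + 1)
    obtain ⟨T, hres⟩ := ih S.X₃ U x₃
    refine ⟨T, fun a => ?_⟩
    have assoc := Ext.comp_assoc (Ext.mk₀ (CohCx.freeSheafMap J a.f)) x₃ hS.extClass
      (zero_add (m + 1)) (rfl : m + 1 + 1 = m + 1 + 1) (by omega : 0 + (m + 1) + 1 = m + 1 + 1)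
    rw [← hx₃, ← assoc, hres a, Ext.zero_comp]


/-- For an abelian sheaf F on a small site, an object U and a class ξ in H^(n+1)(U, F), there is a
covering sieve of U such that ξ pulls back to zero along every arrow of the sieve. -/
theorem result {C : Type u} [SmallCategory C] (J : GrothendieckTopology C)
    (F : Sheaf J AddCommGrpCat.{u}) (U : C) (n : ℕ) (ξ : CohSite.HU F (n + 1) U) :
    ∃ (S : J.Cover U), ∀ (a : S.Arrow), CohSite.res F (n + 1) a.f ξ = 0 := by
  obtain ⟨S, hS⟩ := main J n F U ξ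
  exact ⟨S, fun a => hS a⟩

end Groth.Agent.S0483
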