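import Groth.Statements.S0489
import Mathlib
-- import your own Groth.Agent.* helpers here

set_option autoImplicit false
universe v u
open CategoryTheory
open CohDer

namespace Groth.Agent.S0489

open CategoryTheory.Limits Opposite CochainComplex HomComplex

section helpers
variable {A : Type u} [Category.{v} A] [Abelian A]

/-- One lifting step. -/
lemma step {K L L' : CochainComplex A ℤ} (hK : K.Acyclic) [L.IsKInjective] [L'.IsKInjective]
    (t : L' ⟶ L) (s : ∀ m, L.X m ⟶ L'.X m) (hs : ∀ m, s m ≫ t.f m = 𝟙 _)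
    (g' : K ⟶ L') (h : Cochain K L (-1)) (hh : δ (-1) 0 h = Cochain.ofHom (g' ≫ t)) :
    ∃ h' : Cochain K L' (-1), δ (-1) 0 h' = Cochain.ofHom g' ∧
      h'.comp (Cochain.ofHom t) (add_zero _) = h := by
  obtain ⟨H0⟩ := IsKInjective.nonempty_homotopy_zero g' hK
  obtain ⟨h0, hh0⟩ := Cochain.equivHomotopy _ _ H0
  simp only [Int.reduceNeg, Cochain.ofHom_zero, add_zero] at hh0
  set z : Cochain K L (-1) := h0.comp (Cochain.ofHom t) (add_zero _) - h with hz
  have hδz : δ (-1) 0 z = 0 := by
    rw [hz, δ_sub, δ_comp_ofHom, ← hh0, hh, Cochain.ofHom_comp, sub_self]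
  obtain ⟨γ, hγ⟩ := IsKInjective.eq_δ_of_cocycle (Cocycle.mk z 0 (by simp) hδz) hK (-2) (by simp)
  have hγ' : δ (-2) (-1) γ = z := hγ
  set γ' : Cochain K L' (-2) := γ.comp (Cochain.ofHoms s) (add_zero _) with hγ'def
  have hγt : γ'.comp (Cochain.ofHom t) (add_zero _) = γ := by
    ext p q hpq
    simp [hγ'def, Cochain.comp_zero_cochain_v, hs]
  refine ⟨h0 - δ (-2) (-1) γ', ?_, ?_⟩
  · rw [δ_sub, δ_δ, sub_zero, ← hh0]
  · rw [Cochain.sub_comp, ← δ_comp_ofHom, hγt, hγ', hz]
    abel

end helpers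

open CategoryTheory.Limits Opposite in
/-- Let … → I_3 → I_2 → I_1 be an inverse system of K-injective cochain complexes in an abelian category
with sequential limits, such that each transition map is a split epimorphism in each degree. Then
the (termwise) limit complex is K-injective. -/
theorem result {A : Type u} [Category.{v} A] [Abelian A] [HasLimitsOfShape ℕᵒᵖ A]
    (I : ℕᵒᵖ ⥤ CochainComplex A ℤ) (h1 : ∀ n : ℕ, (I.obj (op n)).IsKInjective)
    (h2 : ∀ (n : ℕ) (m : ℤ), IsSplitEpi ((I.map (homOfLE (Nat.le_succ n)).op).f m)) :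
    (limit I).IsKInjective := by
  classical
  refine ⟨fun {K} f hK => ?_⟩
  let t : ∀ n : ℕ, I.obj (op (n+1)) ⟶ I.obj (op n) := fun n => I.map (homOfLE (Nat.le_succ n)).op
  let π : ∀ n : ℕ, limit I ⟶ I.obj (op n) := fun n => limit.π I (op n)
  have hπ : ∀ n, π (n+1) ≫ t n = π n := fun n => limit.w I _
  let Stage : ℕ → Type _ := fun n =>
    {h : Cochain K (I.obj (op n)) (-1) // δ (-1) 0 h = Cochain.ofHom (f ≫ π n)}
  have step' : ∀ n (h : Stage n), ∃ h' : Stage (n+1),
      h'.1.comp (Cochain.ofHom (t n)) (add_zero _) = h.1 := by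
    intro n h
    have := h1 n
    have := h1 (n+1)
    have := h2 n
    obtain ⟨h', h'1, h'2⟩ := step hK (t n) (fun m => section_ ((t n).f m))
      (fun m => IsSplitEpi.id _) (f ≫ π (n+1)) h.1 (by rw [h.2, Category.assoc, hπ])
    exact ⟨⟨h', h'1⟩, h'2⟩
  have base : Nonempty (Stage 0) := by
    have := h1 0
    obtain ⟨H0⟩ := IsKInjective.nonempty_homotopy_zero (f ≫ π 0) hK
    obtain ⟨h0, hh0⟩ := Cochain.equivHomotopy _ _ H0
    simp only [Int.reduceNeg, Cochain.ofHom_zero, add_zero] at hh0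
    exact ⟨⟨h0, hh0.symm⟩⟩
  let seq : ∀ n, Stage n := fun n => Nat.rec base.some (fun n h => (step' n h).choose) n
  have hseq : ∀ n, (seq (n+1)).1.comp (Cochain.ofHom (t n)) (add_zero _) = (seq n).1 :=
    fun n => (step' n (seq n)).choose_spec
  let c : ∀ (p q : ℤ) (hpq : p + (-1) = q),
      Cone (I ⋙ HomologicalComplex.eval A (ComplexShape.up ℤ) q) := fun p q hpq =>
    { pt := K.X p
      π := NatTrans.ofOpSequence (F := (Functor.const _).obj (K.X p))
        (fun n => (seq n).1.v p q hpq) (fun n => by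
          have := Cochain.congr_v (hseq n) p q hpq
          rw [Cochain.comp_zero_cochain_v, Cochain.ofHom_v] at this
          simp only [Functor.const_obj_obj, Functor.const_obj_map, Category.id_comp,
            Functor.comp_obj, Functor.comp_map, HomologicalComplex.eval_map]
          exact this.symm) }
  let hlim : ∀ q : ℤ, IsLimit ((HomologicalComplex.eval A (ComplexShape.up ℤ) q).mapCone
      (limit.cone I)) := fun q =>
    isLimitOfPreserves (HomologicalComplex.eval A (ComplexShape.up ℤ) q) (limit.isLimit I)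
  let h : Cochain K (limit I) (-1) := Cochain.mk (fun p q hpq => (hlim q).lift (c p q hpq))
  have hfac : ∀ n, h.comp (Cochain.ofHom (π n)) (add_zero _) = (seq n).1 := by
    intro n
    ext p q hpq
    rw [Cochain.comp_zero_cochain_v, Cochain.ofHom_v, Cochain.mk_v]
    exact (hlim q).fac (c p q hpq) (op n)
  refine ⟨(Cochain.equivHomotopy f 0).symm ⟨h, ?_⟩⟩
  rw [Cochain.ofHom_zero, add_zero]
  ext p
  apply (hlim p).hom_ext
  rintro ⟨n⟩
  have e1 := Cochain.congr_v (congrArg (δ (-1) 0) (hfac n)) p p (add_zero p)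
  rw [δ_comp_ofHom, (seq n).2, Cochain.comp_zero_cochain_v, Cochain.ofHom_v, Cochain.ofHom_v] at e1
  simp only [Functor.mapCone_pt, Functor.mapCone_π_app, HomologicalComplex.eval_map,
    limit.cone_π, Cochain.ofHom_v]
  exact e1.symm

end Groth.Agent.S0489
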