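import Groth.Statements.S0490
import Mathlib
-- import your own Groth.Agent.* helpers here

set_option autoImplicit false
universe v u
open CategoryTheory
open CohDer

namespace Groth.Agent.S0490


section helpers
open CategoryTheory.Limits
variable {D : Type u} [Category.{v} D] [Preadditive D] [HasShift D ℤ]
    [∀ n : ℤ, (shiftFunctor D n).Additive]

lemma shift_inj {Y A X : D} (f : A ⟶ X)
    (hinj : ∀ z' : (shiftFunctor D (-1 : ℤ)).obj Y ⟶ A, z' ≫ f = 0 → z' = 0)
    (z : Y ⟶ (shiftFunctor D (1 : ℤ)).obj A) (hz : z ≫ (shiftFunctor D (1 : ℤ)).map f = 0) :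
    z = 0 := by
  let adjS := (shiftEquiv D (1:ℤ)).symm.toAdjunction
  have h0 : ∀ U V : D, adjS.homEquiv U V 0 = 0 := by
    intro U V
    rw [Adjunction.homEquiv_unit]
    exact (congrArg _ ((shiftFunctor D (1:ℤ)).map_zero _ _)).trans comp_zero
  obtain ⟨z', rfl⟩ := (adjS.homEquiv Y A).surjective z
  have hz0 : z' ≫ f = 0 := by
    apply (adjS.homEquiv _ _).injective
    rw [adjS.homEquiv_naturality_right]
    exact hz.trans (h0 _ _).symm
  rw [hinj z' hz0]
  exact h0 _ _

end helpers

open CategoryTheory.Pretriangulated CategoryTheory.Limits in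
/-- Let A be a full triangulated subcategory of a pretriangulated category D (an object property
containing zero, stable under shifts and closed under extensions). The inclusion A → D is a left
adjoint (i.e. has a right adjoint) if and only if every object X of D fits in a distinguished
triangle A → X → B → A[1] with A in the subcategory and B right orthogonal to it. (The source's
further conclusions about saturation are not asserted.) -/
theorem result {D : Type u} [Category.{v} D] [Preadditive D] [Limits.HasZeroObject D] [HasShift D ℤ]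
    [∀ n : ℤ, (shiftFunctor D n).Additive] [Pretriangulated D]
    (P : ObjectProperty D) [P.IsTriangulated] :
    P.ι.IsLeftAdjoint ↔ ∀ X : D, ∃ (A B : D) (f : A ⟶ X) (g : X ⟶ B) (h : B ⟶ (shiftFunctor D (1 : ℤ)).obj A),
      Triangle.mk f g h ∈ distinguishedTriangles ∧ P A ∧ P.rightOrthogonal B := by
  constructor
  · intro hL X
    let R := P.ι.rightAdjoint
    let adj : P.ι ⊣ R := Adjunction.ofIsLeftAdjoint P.ι
    obtain ⟨ε, hε⟩ : ∃ ε : (R.obj X).obj ⟶ X, ε = adj.counit.app X := ⟨_, rfl⟩
    have inj : ∀ (Y : D) (_ : P Y) (a : Y ⟶ (R.obj X).obj), a ≫ ε = 0 → a = 0 := by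
      intro Y hY a ha
      let Y' : P.FullSubcategory := ⟨Y, hY⟩
      have e1 : (adj.homEquiv Y' X).symm (ObjectProperty.homMk a) =
          (adj.homEquiv Y' X).symm (ObjectProperty.homMk 0) := by
        rw [Adjunction.homEquiv_counit, Adjunction.homEquiv_counit, ← hε]
        simp only [ObjectProperty.ι_map, ObjectProperty.homMk_hom]
        rw [zero_comp]
        exact ha
      have e2 := (adj.homEquiv Y' X).symm.injective e1
      have e3 := congrArg (fun φ => φ.hom) e2
      simpa using e3
    have surj : ∀ (Y : D) (_ : P Y) (x : Y ⟶ X), ∃ a : Y ⟶ (R.obj X).obj, a ≫ ε = x := by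
      intro Y hY x
      let Y' : P.FullSubcategory := ⟨Y, hY⟩
      refine ⟨(adj.homEquiv Y' X x).hom, ?_⟩
      have := (adj.homEquiv Y' X).symm_apply_apply x
      rw [Adjunction.homEquiv_counit, ← hε] at this
      exact this
    obtain ⟨B, g, h, hT⟩ := Pretriangulated.distinguished_cocone_triangle ε
    refine ⟨(R.obj X).obj, B, ε, g, h, hT, (R.obj X).property, ?_⟩
    intro Y y hY
    have h31 : h ≫ (shiftFunctor D (1:ℤ)).map ε = 0 :=
      Pretriangulated.comp_distTriang_mor_zero₃₁ _ hT
    have h12 : ε ≫ g = 0 := Pretriangulated.comp_distTriang_mor_zero₁₂ _ hT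
    have h1 : y ≫ h = 0 := by
      refine shift_inj ε (fun z' hz' => inj _ (P.le_shift (-1) _ hY) z' hz') (y ≫ h) ?_
      rw [Category.assoc, h31, comp_zero]
    obtain ⟨x, hx⟩ : ∃ x : Y ⟶ X, y = x ≫ g :=
      Pretriangulated.Triangle.coyoneda_exact₃ _ hT y h1
    obtain ⟨a, ha⟩ := surj Y hY x
    rw [hx, ← ha, Category.assoc, h12, comp_zero]
  · intro hX
    apply Functor.isLeftAdjoint_of_rightAdjointObjIsDefined_eq_top
    ext X
    simp only [Pi.top_apply, Prop.top_eq_true, iff_true]
    rw [Functor.rightAdjointObjIsDefined_iff]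
    obtain ⟨A, B, f, g, h, hT, hA, hB⟩ := hX X
    have hB' : P.rightOrthogonal (B⟦(-1:ℤ)⟧) := P.rightOrthogonal.le_shift (-1) _ hB
    have hinj : ∀ Y, P Y → ∀ a a' : Y ⟶ A, a ≫ f = a' ≫ f → a = a' := by
      intro Y hY a a' haa'
      have h0 : (a - a') ≫ f = 0 := by rw [Preadditive.sub_comp]; exact sub_eq_zero.2 haa'
      obtain ⟨b, hb⟩ := Pretriangulated.Triangle.coyoneda_exact₂ _
        (Pretriangulated.inv_rot_of_distTriang _ hT) (a - a') h0
      have b0 : b = 0 := hB' b hY
      rw [b0, zero_comp] at hb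
      exact sub_eq_zero.1 hb
    have hsurj : ∀ Y, P Y → ∀ x : Y ⟶ X, ∃ a : Y ⟶ A, a ≫ f = x := by
      intro Y hY x
      obtain ⟨a, ha⟩ := Pretriangulated.Triangle.coyoneda_exact₂ _ hT x (hB _ hY)
      exact ⟨a, ha.symm⟩
    let E : ∀ Y : P.FullSubcategory, (Y ⟶ (⟨A, hA⟩ : P.FullSubcategory)) ≃ (Y.obj ⟶ X) := fun Y =>
      { toFun := fun a => a.hom ≫ f
        invFun := fun x => ObjectProperty.homMk (hsurj Y.obj Y.property x).choose
        left_inv := by
          intro a
          ext
          apply hinj Y.obj Y.property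
          exact (hsurj Y.obj Y.property (a.hom ≫ f)).choose_spec
        right_inv := by
          intro x
          exact (hsurj Y.obj Y.property x).choose_spec }
    refine ⟨⟨⟨A, hA⟩, ⟨⟨fun {Y} => E Y, ?_⟩⟩⟩⟩
    intro Y Y' φ a
    show (φ ≫ a).hom ≫ f = φ.hom ≫ (a.hom ≫ f)
    simp

end Groth.Agent.S0490
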