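import Groth.Statements.S0492
import Mathlib
import Groth.Agent.Lib.Helper16RpushNat
-- import your own Groth.Agent.* helpers here

set_option autoImplicit false
set_option linter.style.haveILetI false
set_option linter.unusedSectionVars false
universe u
open CategoryTheory
open CohSite

namespace Groth.Agent.S0492

section
open CategoryTheory.Limits Opposite

variable {C : Type u} [SmallCategory C] (J : GrothendieckTopology C)

/-- sections over a weakly contractible object are surjective along epimorphisms of abelian sheaves -/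
lemma surjective_of_wc (U : C) (hU : CohSite.IsWeaklyContractible J U)
    {F G : Sheaf J AddCommGrpCat.{u}} (f : F ⟶ G) [Epi f] :
    Function.Surjective (f.hom.app (op U)).hom := by
  have h1 : Sheaf.IsLocallySurjective f := (Sheaf.isLocallySurjective_iff_epi' AddCommGrpCat.{u} f).2 inferInstance
  let φ := (sheafCompose J (forget AddCommGrpCat.{u})).map f
  have h2 : Sheaf.IsLocallySurjective φ := by
    change Presheaf.IsLocallySurjective J (Functor.whiskerRight f.hom (forget AddCommGrpCat.{u}))
    exact (Presheaf.isLocallySurjective_iff_whisker_forget J f.hom).1 h1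
  have h3 : Epi φ := (Sheaf.isLocallySurjective_iff_epi φ).1 h2
  exact hU _ _ φ h3

/-- lifting property of `ℤ_U` for weakly contractible `U` -/
lemma exists_lift_of_wc (U : C) (hU : CohSite.IsWeaklyContractible J U)
    {F G : Sheaf J AddCommGrpCat.{u}} (f : F ⟶ G) [Epi f] (a : CohCx.freeSheaf J U ⟶ G) :
    ∃ b : CohCx.freeSheaf J U ⟶ F, b ≫ f = a := by
  obtain ⟨t, ht⟩ := surjective_of_wc J U hU f (CohFree.evalGen J U G a)
  refine ⟨CohFree.ofSect J U F t, ?_⟩
  rw [← Groth.Agent.Lib.Helper16.RpushNat.ofSect_naturality_right, ht, CohFree.ofSect_evalGen]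

/-- a morphism of abelian sheaves is an epimorphism if maps from `ℤ_U`, `U` in a covering class, lift -/
lemma epi_of_lifts (B : Set C)
    (hcov : ∀ V : C, ∃ (ι : Type u) (U : ι → C) (f : ∀ i, U i ⟶ V), (∀ i, U i ∈ B) ∧ Sieve.ofArrows U f ∈ J V)
    {F G : Sheaf J AddCommGrpCat.{u}} (f : F ⟶ G)
    (h : ∀ U ∈ B, ∀ a : CohCx.freeSheaf J U ⟶ G, ∃ b : CohCx.freeSheaf J U ⟶ F, b ≫ f = a) : Epi f := by
  rw [← Sheaf.isLocallySurjective_iff_epi' AddCommGrpCat.{u} f]
  refine ⟨fun {V} s => ?_⟩
  obtain ⟨ι, U, g, hUB, hc⟩ := hcov V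
  refine J.superset_covering ?_ hc
  rw [Sieve.ofArrows, Sieve.generate_le_iff]
  rintro _ _ ⟨i⟩
  obtain ⟨b, hb⟩ := h (U i) (hUB i) (CohFree.ofSect J (U i) G ((G.obj.map (g i).op).hom s))
  refine ⟨CohFree.evalGen J (U i) F b, ?_⟩
  have := congrArg (CohFree.evalGen J (U i) G) hb
  rw [CohFree.evalGen_ofSect] at this
  exact this

theorem result' (B : Set C) (hB : ∀ U ∈ B, CohSite.IsWeaklyContractible J U)
    (hcov : ∀ V : C, ∃ (ι : Type u) (U : ι → C) (f : ∀ i, U i ⟶ V), (∀ i, U i ∈ B) ∧ Sieve.ofArrows U f ∈ J V) :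
    AB4Star (Sheaf J AddCommGrpCat.{u}) := by
  refine ⟨fun α => ?_⟩
  haveI : (lim : (Discrete α ⥤ Sheaf J AddCommGrpCat.{u}) ⥤ Sheaf J AddCommGrpCat.{u}).PreservesEpimorphisms := by
    refine ⟨fun {F G} φ hφ => ?_⟩
    haveI : ∀ j, Epi (φ.app j) := fun j => inferInstance
    apply epi_of_lifts J B hcov
    intro U hU a
    have hl : ∀ j, ∃ b : CohCx.freeSheaf J U ⟶ F.obj j, b ≫ φ.app j = a ≫ limit.π G j :=
      fun j => exists_lift_of_wc J U (hB U hU) (φ.app j) _
    choose b hb using hl
    refine ⟨limit.lift F ⟨_, Discrete.natTrans (fun j => b j)⟩, ?_⟩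
    apply limit.hom_ext
    intro j
    change (_ ≫ limMap φ) ≫ _ = _
    rw [Category.assoc, limMap_π, limit.lift_π_assoc]
    exact hb j
  exact hasExactLimitsOfShape_of_preservesEpi _ _


end


open CategoryTheory.Limits in
/-- Part (4), for sheaves of abelian groups: let B be a set of weakly contractible objects of a small
site such that every object admits a covering family by members of B. Then products in the category
of abelian sheaves are exact (Grothendieck's AB4*). -/
theorem result {C : Type u} [SmallCategory C] (J : GrothendieckTopology C)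
    (B : Set C) (hB : ∀ U ∈ B, CohSite.IsWeaklyContractible J U)
    (hcov : ∀ V : C, ∃ (ι : Type u) (U : ι → C) (f : ∀ i, U i ⟶ V), (∀ i, U i ∈ B) ∧ Sieve.ofArrows U f ∈ J V) :
    AB4Star (Sheaf J AddCommGrpCat.{u}) := by
  exact result' J B hB hcov

end Groth.Agent.S0492
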