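import Groth.Statements.S0494
import Groth.Agent.Lib.Helper16AcyclicCx
import Groth.Agent.Lib.Helper16Flasque
import Groth.Agent.Lib.Helper23ExtRDNat
-- import your own Groth.Agent.* helpers here

set_option autoImplicit false
set_option linter.style.haveILetI false
universe u
open CohTop CategoryTheory

namespace Groth.Agent.S0494

open CategoryTheory.Limits Abelian Opposite TopologicalSpace
open Groth.Agent.Lib.Helper16.AcyclicCx Groth.Agent.Lib.Helper16.Flasque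
open Groth.Agent.Lib.Helper23ExtRD Groth.Agent.Lib.Helper23ExtRDNat

/-- the constant sheaf `ℤ` -/
noncomputable abbrev ZZ (X : TopCat.{u}) : CohTop.Ab X :=
  (constantSheaf (Opens.grothendieckTopology X) AddCommGrpCat.{u}).obj (AddCommGrpCat.of (ULift.{u} ℤ))

/-- `Hom(ℤ_X, G) ≃+ G(X)` -/
noncomputable def eX {X : TopCat.{u}} (G : CohTop.Ab X) : (ZZ X ⟶ G) ≃+ G.obj.obj (op ⊤) :=
  (Ext.addEquiv₀ (X := ZZ X) (Y := G)).symm.trans (Sheaf.H.equiv₀ G isTerminalTop)

lemma eX_naturality {X : TopCat.{u}} {G G' : CohTop.Ab X} (φ : G ⟶ G') (ψ : ZZ X ⟶ G) :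
    eX G' (ψ ≫ φ) = (φ.hom.app (op ⊤)).hom (eX G ψ) := by
  have h := Sheaf.H.equiv₀_naturality (F := G) (G := G') (hT := isTerminalTop) φ (Ext.mk₀ ψ)
  refine Eq.trans ?_ h.symm
  change Sheaf.H.equiv₀ G' isTerminalTop (Ext.mk₀ (ψ ≫ φ)) = _
  rw [Sheaf.H.map_apply, Ext.mk₀_comp_mk₀]

variable {X Y : TopCat.{u}} (f : X ⟶ Y)

/-- `Hom(ℤ_X, G) ≃+ Hom(ℤ_Y, f_* G)` -/
noncomputable def ηEquiv (G : CohTop.Ab X) : (ZZ X ⟶ G) ≃+ (ZZ Y ⟶ (CohTop.push f).obj G) :=
  (eX G).trans (eX ((CohTop.push f).obj G)).symm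

/-- `Hom(ℤ_X, -) ≅ Hom(ℤ_Y, f_* -)` -/
noncomputable def η : Γ (ZZ X) ≅ CohTop.push f ⋙ Γ (ZZ Y) :=
  NatIso.ofComponents (fun G => AddEquiv.toAddCommGrpIso (ηEquiv f G)) (by
    intro G G' φ
    ext (ψ : ZZ X ⟶ G)
    change ηEquiv f G' (ψ ≫ φ) = (ηEquiv f G ψ) ≫ (CohTop.push f).map φ
    have h1 : ∀ (H : CohTop.Ab X) (x : ZZ X ⟶ H),
        eX ((CohTop.push f).obj H) (ηEquiv f H x) = eX H x :=
      fun H x => (eX ((CohTop.push f).obj H)).apply_symm_apply _
    apply (eX ((CohTop.push f).obj G')).injective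
    rw [eX_naturality, h1, h1, eX_naturality]
    rfl)


instance : PreservesFiniteLimits (CohTop.push f) := by
  haveI : PreservesLimitsOfSize.{0, 0} (CohTop.push f) :=
    (TopCat.Sheaf.pullbackPushforwardAdjunction AddCommGrpCat.{u} f).rightAdjoint_preservesLimits
  exact PreservesLimitsOfSize.preservesFiniteLimits _

theorem result' (F : CohTop.Ab X)
    (h : ∀ p q : ℕ, Subsingleton (CohTop.H ((CohTop.Rpush f q).obj F) (p + 1))) (q : ℕ) :
    Nonempty (CohTop.H F q ≃+ ((CohTop.Rpush f q).obj F).obj.obj (op ⊤)) := by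
  let I := injectiveResolution F
  let K : CochainComplex (CohTop.Ab Y) ℕ :=
    ((CohTop.push f).mapHomologicalComplex (ComplexShape.up ℕ)).obj I.cocomplex
  -- acyclicity
  have hK : ∀ n, Acyc.{u} (ZZ Y) (K.X n) := by
    intro n p x
    haveI : Injective (I.cocomplex.X n) := I.injective n
    haveI : TopCat.Sheaf.IsFlasque (I.cocomplex.X n) := injective_isFlasque _
    haveI : TopCat.Sheaf.IsFlasque (K.X n) :=
      TopCat.Sheaf.IsFlasque.pushforward_isFlasque (I.cocomplex.X n) f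
    exact ext_const_eq_zero (K.X n) p x
  let eR : ∀ n, (CohTop.Rpush f n).obj F ≅ K.homology n := fun n => I.isoRightDerivedObj (CohTop.push f) n
  have hH : ∀ n, Acyc.{u} (ZZ Y) (K.homology n) := by
    intro n
    refine Acyc.of_iso (eR n) ?_
    intro p x
    haveI := h p n
    exact Subsingleton.elim (α := CohTop.H ((CohTop.Rpush f n).obj F) (p + 1)) _ _
  -- the chain of isomorphisms
  let e1 : CohTop.H F q ≃+ (homCx I (ZZ X)).homology q := (homIso I q).symm.addCommGroupIsoToAddEquiv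
  let e2 : homCx I (ZZ X) ≅ ((Γ (ZZ Y)).mapHomologicalComplex (ComplexShape.up ℕ)).obj K :=
    (NatIso.mapHomologicalComplex (η f) (ComplexShape.up ℕ)).app I.cocomplex
  let e3 := homologyHomIso (ZZ Y) K hK hH q
  let e4 : (Γ (ZZ Y)).obj (K.homology q) ≅ (Γ (ZZ Y)).obj ((CohTop.Rpush f q).obj F) :=
    (Γ (ZZ Y)).mapIso (eR q).symm
  let e5 : (ZZ Y ⟶ (CohTop.Rpush f q).obj F) ≃+ ((CohTop.Rpush f q).obj F).obj.obj (op ⊤) := eX _
  exact ⟨e1.trans ((((HomologicalComplex.homologyFunctor _ _ q).mapIso e2 ≪≫ e3 ≪≫ e4).addCommGroupIsoToAddEquiv).trans e5)⟩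


open Opposite in
/-- If H^p(Y, R^q f_* F) = 0 for all q and all p > 0, then H^q(X, F) ≅ Γ(Y, R^q f_* F) for every q
(existence of a group isomorphism). -/
theorem result {X Y : TopCat.{u}} (f : X ⟶ Y) (F : CohTop.Ab X)
    (h : ∀ p q : ℕ, Subsingleton (CohTop.H ((CohTop.Rpush f q).obj F) (p + 1))) (q : ℕ) :
    Nonempty (CohTop.H F q ≃+ ((CohTop.Rpush f q).obj F).obj.obj (op ⊤)) := by
  exact result' f F h q

end Groth.Agent.S0494
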