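import Groth.Statements.S0495
import Groth.Agent.Lib.Helper2HenselRad

set_option autoImplicit false
universe u
open Hensel

namespace Groth.Agent.S0495

/-- A local ring whose Krull dimension is zero is henselian. -/
theorem result (R : Type u) [CommRing R] [IsLocalRing R]
    (h : ringKrullDim R = 0) : HenselianLocalRing R := by
  have hdim : Ring.KrullDimLE 0 R := by
    rw [Ring.krullDimLE_iff]; exact le_of_eq h
  have hbot : HenselianRing R (⊥ : Ideal R) :=
    { jac := bot_le
      is_henselian := by
        intro f _ a₀ h₁ _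
        exact ⟨a₀, (Ideal.mem_bot.mp h₁), by rw [sub_self]; exact Ideal.zero_mem _⟩ }
  have hH : HenselianRing R (IsLocalRing.maximalIdeal R) := by
    refine Groth.Agent.Lib.Helper2.henselianRing_of_le_radical ⊥ _ hbot bot_le ?_
    intro x hx
    have : IsNilpotent x := Ring.KrullDimLE.isNilpotent_iff_mem_maximalIdeal.mpr hx
    obtain ⟨n, hn⟩ := this
    exact ⟨n, by rw [hn]; exact Ideal.zero_mem _⟩
  refine { (inferInstance : IsLocalRing R) with is_henselian := ?_ }
  intro f hf a₀ h₁ h₂
  exact hH.is_henselian f hf a₀ h₁ (h₂.map _)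

end Groth.Agent.S0495
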