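import Groth.Statements.S0496
import Groth.Agent.Lib.Helper3HenselA
import Mathlib

set_option autoImplicit false
universe u
open Hensel

namespace Groth.Agent.S0496

open Groth.Agent.Lib.Helper3.Hensel in

/-- If every factorization of the reduction of a monic polynomial into two coprime factors over the
residue field lifts to a factorization over the local ring, then the local ring is henselian. -/
theorem result (R : Type u) [CommRing R] [IsLocalRing R]
    (h : ∀ f : Polynomial R, f.Monic →
      ∀ g₀ h₀ : Polynomial (IsLocalRing.ResidueField R), IsCoprime g₀ h₀ →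
      Polynomial.map (IsLocalRing.residue R) f = g₀ * h₀ →
      ∃ g h : Polynomial R, f = g * h ∧ Polynomial.map (IsLocalRing.residue R) g = g₀ ∧
        Polynomial.map (IsLocalRing.residue R) h = h₀) :
    HenselianLocalRing R := by
  open Polynomial IsLocalRing Groth.Agent.Lib.Helper3.Hensel in
  refine ((HenselianLocalRing.TFAE R).out 0 1).mpr ?_
  intro f hf a₀ h0 h1
  have e0 : (f.map (residue R)).eval a₀ = 0 := by rw [eval_map]; exact h0
  have e1 : (f.map (residue R)).derivative.eval a₀ ≠ 0 := by
    rw [derivative_map, eval_map]; exact h1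
  obtain ⟨g₀, hfg, hg₀, hcop⟩ := simple_root_factor _ a₀ e0 e1
  obtain ⟨g, h', hfgh, hg, hh⟩ := h f hf (X - C a₀) g₀ hcop hfg
  obtain ⟨a, ha, hres⟩ := exists_root_of_factor f g hf ⟨h', hfgh⟩ a₀ hg
  exact ⟨a, by rw [IsRoot.def, hfgh, eval_mul, ha, zero_mul], hres⟩

end Groth.Agent.S0496
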