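import Groth.Statements.S0498
import Mathlib

set_option autoImplicit false
universe u
open Hensel

namespace Groth.Agent.S0498

/-- Over a henselian local ring, a simple root in the residue field of the reduction of an arbitrary
polynomial (monic or not) lifts to a root in the ring. -/
theorem result (R : Type u) [CommRing R] [HenselianLocalRing R]
    (f : Polynomial R) (a₀ : IsLocalRing.ResidueField R)
    (h₁ : Polynomial.eval₂ (IsLocalRing.residue R) a₀ f = 0)
    (h₂ : Polynomial.eval₂ (IsLocalRing.residue R) a₀ (Polynomial.derivative f) ≠ 0) :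
    ∃ a : R, Polynomial.IsRoot f a ∧ IsLocalRing.residue R a = a₀ := by
  classical
  open Polynomial IsLocalRing in
  -- lift a₀
  obtain ⟨b, rfl⟩ := IsLocalRing.residue_surjective a₀
  set res := IsLocalRing.residue R with hres
  rw [Polynomial.eval₂_at_apply] at h₁ h₂
  set g : Polynomial R := f.comp (Polynomial.X + Polynomial.C b) with hg
  have hgeval : ∀ y, g.eval y = f.eval (y + b) := by
    intro y; rw [hg, Polynomial.eval_comp]; simp
  have hc0 : g.coeff 0 = f.eval b := by
    rw [Polynomial.coeff_zero_eq_eval_zero, hgeval, zero_add]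
  have hgd : g.derivative = f.derivative.comp (Polynomial.X + Polynomial.C b) := by
    rw [hg, Polynomial.derivative_comp]; simp
  have hc1 : g.coeff 1 = f.derivative.eval b := by
    have h1 : g.derivative.coeff 0 = g.coeff 1 := by
      rw [Polynomial.coeff_derivative]; simp
    rw [← h1, Polynomial.coeff_zero_eq_eval_zero, hgd, Polynomial.eval_comp]; simp
  set c : ℕ → R := fun k => g.coeff k with hc
  have hr0 : res (c 0) = 0 := by rw [hc]; simp only; rw [hc0]; exact h₁
  set d := res (c 1) with hd
  have hd0 : d ≠ 0 := by rw [hd, hc]; simp only; rw [hc1]; exact h₂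
  set n := g.natDegree with hn
  have hn1 : 1 ≤ n := by
    apply Polynomial.le_natDegree_of_ne_zero
    intro h0
    apply hd0
    rw [hd, hc]; simp only; rw [h0, map_zero]
  let q : Polynomial R := ∑ k ∈ Finset.range n,
    Polynomial.C (c (k + 1) * c 0 ^ k) * Polynomial.X ^ (n - 1 - k)
  let r : Polynomial R := Polynomial.X ^ n + q
  have hqdeg : q.degree < n := by
    rw [Polynomial.degree_lt_iff_coeff_zero]
    intro m hm
    simp only [q, Polynomial.finsetSum_coeff, Polynomial.coeff_C_mul_X_pow]
    apply Finset.sum_eq_zero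
    intro k hk
    rw [Finset.mem_range] at hk
    rw [if_neg]; omega
  have hrm : r.Monic := Polynomial.monic_X_pow_add hqdeg
  have hqmap : q.map res = Polynomial.C d * Polynomial.X ^ (n - 1) := by
    simp only [q, Polynomial.map_sum]
    rw [Finset.sum_eq_single 0]
    · simp [hd]
    · intro k _ hk
      have : res (c (k + 1) * c 0 ^ k) = 0 := by
        rw [map_mul, map_pow, hr0, zero_pow hk, mul_zero]
      rw [Polynomial.map_mul, Polynomial.map_C, this, Polynomial.C_0, zero_mul]
    · intro h0
      exfalso; apply h0; rw [Finset.mem_range]; omega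
  have hrmap : r.map res = Polynomial.X ^ n + Polynomial.C d * Polynomial.X ^ (n - 1) := by
    simp only [r, Polynomial.map_add, Polynomial.map_pow, Polynomial.map_X, hqmap]
  have H := ((HenselianLocalRing.TFAE R).out 0 2).mp (inferInstance : HenselianLocalRing R)
  obtain ⟨m, hm⟩ : ∃ m, n = m + 1 := ⟨n - 1, by omega⟩
  obtain ⟨v, hv, hv'⟩ := H res IsLocalRing.residue_surjective r hrm (-d)
    (by
      rw [← Polynomial.eval_map, hrmap, hm]
      simp only [Polynomial.eval_add, Polynomial.eval_pow, Polynomial.eval_X, Polynomial.eval_mul,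
        Polynomial.eval_C, Nat.add_sub_cancel]
      ring)
    (by
      rw [← Polynomial.eval_map, ← Polynomial.derivative_map, hrmap, hm]
      simp only [Polynomial.derivative_add, Polynomial.derivative_X_pow, Polynomial.derivative_mul,
        Polynomial.derivative_C, Polynomial.eval_add, Polynomial.eval_pow, Polynomial.eval_X,
        Polynomial.eval_mul, Polynomial.eval_C, Nat.add_sub_cancel, zero_mul, zero_add]
      rcases m with _ | m'
      · simp
      · simp only [Nat.add_sub_cancel, Nat.cast_add, Nat.cast_one]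
        have : ((m' : IsLocalRing.ResidueField R) + 1 + 1) * (-d) ^ (m' + 1) +
            d * ((↑m' + 1) * (-d) ^ m') = (-d) ^ (m' + 1) := by ring
        rw [this]
        exact pow_ne_zero _ (neg_ne_zero.mpr hd0))
  -- v is a unit
  have hvu : IsUnit v := by
    by_contra hnu
    have : v ∈ IsLocalRing.maximalIdeal R := by rwa [IsLocalRing.mem_maximalIdeal, mem_nonunits_iff]
    have h0 : res v = 0 := (IsLocalRing.residue_eq_zero_iff v).mpr this
    rw [hv'] at h0
    exact hd0 (neg_eq_zero.mp h0)
  obtain ⟨u, rfl⟩ := hvu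
  set w : R := ↑u⁻¹ with hw
  have hwv : w * (u : R) = 1 := Units.inv_mul u
  refine ⟨c 0 * w + b, ?_, ?_⟩
  · show f.eval (c 0 * w + b) = 0
    rw [← hgeval, Polynomial.eval_eq_sum_range, ← hn, Finset.sum_range_succ']
    have hrv : r.eval (u : R) = 0 := hv
    simp only [r, q, Polynomial.eval_add, Polynomial.eval_pow, Polynomial.eval_X,
      Polynomial.eval_finsetSum, Polynomial.eval_mul, Polynomial.eval_C] at hrv
    have key : ∑ k ∈ Finset.range n, g.coeff (k + 1) * (c 0 * w) ^ (k + 1) + g.coeff 0 * (c 0 * w) ^ 0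
        = c 0 * w ^ n * ((u : R) ^ n + ∑ k ∈ Finset.range n, c (k + 1) * c 0 ^ k * (u : R) ^ (n - 1 - k)) := by
      rw [mul_add, Finset.mul_sum]
      have e1 : c 0 * w ^ n * (u : R) ^ n = g.coeff 0 * (c 0 * w) ^ 0 := by
        rw [mul_assoc, ← mul_pow, hwv, one_pow, mul_one, pow_zero, mul_one]
      rw [e1, add_comm]
      congr 1
      apply Finset.sum_congr rfl
      intro k hk
      rw [Finset.mem_range] at hk
      have e2 : n = (k + 1) + (n - 1 - k) := by omega
      have e3 : w ^ n * (u : R) ^ (n - 1 - k) = w ^ (k + 1) := by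
        have e4 : w ^ n = w ^ (k + 1) * w ^ (n - 1 - k) := by rw [← pow_add, ← e2]
        rw [e4, mul_assoc, ← mul_pow, hwv, one_pow, mul_one]
      symm
      calc c 0 * w ^ n * (c (k + 1) * c 0 ^ k * (u : R) ^ (n - 1 - k))
          = c (k + 1) * (c 0 ^ k * c 0) * (w ^ n * (u : R) ^ (n - 1 - k)) := by ring
        _ = c (k + 1) * (c 0 * w) ^ (k + 1) := by rw [e3, ← pow_succ, mul_pow]; ring
        _ = g.coeff (k + 1) * (c 0 * w) ^ (k + 1) := rfl
    rw [key, hrv, mul_zero]
  · rw [map_add, map_mul, hr0, zero_mul, zero_add]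

end Groth.Agent.S0498
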