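import Groth.Statements.S0507
import Groth.Agent.Lib.Helper2Hensel2

set_option autoImplicit false
universe u
open Hensel

namespace Groth.Agent.S0507

/-- The maximal ideal of the henselization of a local ring `R` is generated by the maximal ideal of `R`. -/
theorem result (R : Type u) [CommRing R] [IsLocalRing R] (S : Type u) [CommRing S] [IsLocalRing S]
    [Algebra R S] [IsLocalHom (algebraMap R S)] [Hensel.IsHenselization R S] :
    Ideal.map (algebraMap R S) (IsLocalRing.maximalIdeal R) = IsLocalRing.maximalIdeal S := by
  apply le_antisymm (IsLocalRing.map_maximalIdeal_le (algebraMap R S))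
  intro s hs
  obtain ⟨r, hr⟩ := Groth.Agent.Lib.Helper2.henselization_exists_sub_mem R S s
  have hr' : s - algebraMap R S r ∈ IsLocalRing.maximalIdeal S :=
    IsLocalRing.map_maximalIdeal_le (algebraMap R S) hr
  have h1 : algebraMap R S r ∈ IsLocalRing.maximalIdeal S := by
    have := (IsLocalRing.maximalIdeal S).sub_mem hs hr'
    simpa using this
  have h2 : r ∈ IsLocalRing.maximalIdeal R := by
    rw [IsLocalRing.mem_maximalIdeal, mem_nonunits_iff] at h1 ⊢
    exact fun hu => h1 (hu.map _)
  have h3 : algebraMap R S r ∈ Ideal.map (algebraMap R S) (IsLocalRing.maximalIdeal R) :=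
    Ideal.mem_map_of_mem _ h2
  have := Ideal.add_mem _ hr h3
  simpa using this

end Groth.Agent.S0507
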