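import Groth.Statements.S0508
import Groth.Agent.Lib.Helper2Hensel2

set_option autoImplicit false
universe u
open Hensel

namespace Groth.Agent.S0508

/-- The henselization of a local ring induces an isomorphism on residue fields. -/
theorem result (R : Type u) [CommRing R] [IsLocalRing R] (S : Type u) [CommRing S] [IsLocalRing S]
    [Algebra R S] [IsLocalHom (algebraMap R S)] [Hensel.IsHenselization R S] :
    Function.Bijective (IsLocalRing.ResidueField.map (algebraMap R S)) := by
  refine ⟨(IsLocalRing.ResidueField.map (algebraMap R S)).injective, ?_⟩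
  intro y
  obtain ⟨s, rfl⟩ := IsLocalRing.residue_surjective y
  obtain ⟨r, hr⟩ := Groth.Agent.Lib.Helper2.henselization_exists_sub_mem R S s
  refine ⟨IsLocalRing.residue R r, ?_⟩
  rw [IsLocalRing.ResidueField.map_residue]
  symm
  rw [← sub_eq_zero, ← map_sub, IsLocalRing.residue_eq_zero_iff]
  exact IsLocalRing.map_maximalIdeal_le (algebraMap R S) hr

end Groth.Agent.S0508
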