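import Groth.Statements.S0516
import Groth.Agent.Lib.Helper3HenselK
import Mathlib

set_option autoImplicit false
universe u
open Hensel

namespace Groth.Agent.S0516

/-- An unramified algebra `S` (formally unramified of finite type) over a strictly henselian local ring
`R` is isomorphic over `R` to a product of finitely many quotient rings of `R` and an `R`-algebra in
which the maximal ideal of `R` generates the unit ideal. -/
theorem result (R : Type u) [CommRing R]
    [HenselianLocalRing R] [IsSepClosed (IsLocalRing.ResidueField R)] (S : Type u) [CommRing S] [Algebra R S]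
    [Algebra.Unramified R S] :
    ∃ (ι : Type u) (_ : Fintype ι) (A : ι → Type u) (_ : ∀ i, CommRing (A i))
      (_ : ∀ i, Algebra R (A i)) (B : Type u) (_ : CommRing B) (_ : Algebra R B),
      (∀ i, Function.Surjective (algebraMap R (A i))) ∧
      Ideal.map (algebraMap R B) (IsLocalRing.maximalIdeal R) = ⊤ ∧
      Nonempty (S ≃ₐ[R] ((∀ i, A i) × B)) := by
  open IsLocalRing Groth.Agent.Lib.Helper3.Hensel in
  obtain ⟨e, he, hfin, htop⟩ := quasiFinite_split R S
  let S₁ := S ⧸ Ideal.span {1 - e}
  haveI := hfin
  obtain ⟨ι, hι, A, hA, hloc, ⟨Φ⟩⟩ := exists_pi_isLocalRing_of_finite R S₁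
  letI algA : ∀ i, Algebra R (A i) := fun i =>
    ((Pi.evalRingHom A i).comp (Φ.toRingHom.comp (algebraMap R S₁))).toAlgebra
  let Φₐ : S₁ ≃ₐ[R] (∀ i, A i) := AlgEquiv.ofRingEquiv (f := Φ) (fun r => rfl)
  refine ⟨ι, hι, A, hA, algA, S ⧸ Ideal.span {e}, inferInstance, inferInstance, ?_, htop, ?_⟩
  · intro i
    haveI := hloc i
    let pr : S₁ →ₐ[R] A i := (Pi.evalAlgHom R A i).comp Φₐ.toAlgHom
    have hpr : Function.Surjective pr := by
      intro a
      classical
      refine ⟨Φₐ.symm (Pi.single i a), ?_⟩
      simp [pr]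
    haveI : Module.Finite R (A i) := Module.Finite.of_surjective pr.toLinearMap hpr
    haveI : Algebra.FormallyUnramified R S₁ :=
      Algebra.FormallyUnramified.of_surjective (Ideal.Quotient.mkₐ R (Ideal.span {1 - e}))
        Ideal.Quotient.mk_surjective
    haveI : Algebra.FormallyUnramified R (A i) := Algebra.FormallyUnramified.of_surjective pr hpr
    exact algebraMap_surjective_of_unramified
  · have h1 : (1 - e) + e = 1 := by ring
    have h2 : (1 - e) * e = 0 := by rw [sub_mul, one_mul, he.eq, sub_self]
    exact ⟨(AlgEquiv.prodQuotientOfIsIdempotentElem R he.one_sub he h1 h2).trans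
      (AlgEquiv.prodCongr Φₐ AlgEquiv.refl)⟩

end Groth.Agent.S0516
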