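import Groth.Statements.S0517
import Groth.Agent.Lib.Helper3HenselL
import Mathlib

set_option autoImplicit false
universe u
open Hensel

namespace Groth.Agent.S0517

section Helpers

open MvPolynomial

variable {R : Type*} [CommRing R] {n : ℕ} (P : Fin n → MvPolynomial (Fin n) R)

/-- the algebra map out of the quotient attached to a solution -/
noncomputable def toHom {T : Type*} [CommRing T] [Algebra R T] (t : Fin n → T)
    (ht : ∀ i, aeval t (P i) = 0) :
    (MvPolynomial (Fin n) R ⧸ Ideal.span (Set.range P)) →ₐ[R] T :=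
  Ideal.Quotient.liftₐ _ (aeval t) (by
    intro p hp
    have : Ideal.span (Set.range P) ≤ RingHom.ker (aeval (R := R) t).toRingHom := by
      rw [Ideal.span_le]
      rintro _ ⟨i, rfl⟩
      exact ht i
    exact this hp)

theorem toHom_mk_X {T : Type*} [CommRing T] [Algebra R T] (t : Fin n → T)
    (ht : ∀ i, aeval t (P i) = 0) (i : Fin n) :
    toHom P t ht (Ideal.Quotient.mk _ (X i)) = t i := by
  simp [toHom]

theorem aeval_of_hom {T : Type*} [CommRing T] [Algebra R T]
    (f : (MvPolynomial (Fin n) R ⧸ Ideal.span (Set.range P)) →ₐ[R] T) (p : MvPolynomial (Fin n) R) :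
    aeval (fun i => f (Ideal.Quotient.mk _ (X i))) p = f (Ideal.Quotient.mk _ p) := by
  have := MvPolynomial.aeval_unique (f.comp (Ideal.Quotient.mkₐ R (Ideal.span (Set.range P))))
  have h2 := congrArg (fun g => g p) this
  simp only [AlgHom.comp_apply, Ideal.Quotient.mkₐ_eq_mk] at h2
  rw [h2]
  rfl

theorem hom_sol {T : Type*} [CommRing T] [Algebra R T]
    (f : (MvPolynomial (Fin n) R ⧸ Ideal.span (Set.range P)) →ₐ[R] T) (i : Fin n) :
    aeval (fun j => f (Ideal.Quotient.mk _ (X j))) (P i) = 0 := by
  rw [aeval_of_hom]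
  have : Ideal.Quotient.mk (Ideal.span (Set.range P)) (P i) = 0 :=
    Ideal.Quotient.eq_zero_iff_mem.mpr (Ideal.subset_span ⟨i, rfl⟩)
  rw [this, map_zero]

theorem hom_ext' {T : Type*} [CommRing T] [Algebra R T]
    (f g : (MvPolynomial (Fin n) R ⧸ Ideal.span (Set.range P)) →ₐ[R] T)
    (h : ∀ i, f (Ideal.Quotient.mk _ (X i)) = g (Ideal.Quotient.mk _ (X i))) : f = g := by
  apply Ideal.Quotient.algHom_ext
  apply MvPolynomial.algHom_ext
  intro i
  exact h i

end Helpers

/-- Given strictly henselian local rings `R` and `S`, a local ring map `φ` between them, and a square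
system of `n` polynomial equations in `n` unknowns over `R` whose quotient algebra is étale over
`R`, applying `φ` coordinatewise matches the solutions of the system in `Rⁿ` bijectively with the
solutions of the transported system in `Sⁿ`. -/
theorem result (R : Type u) [CommRing R]
    [HenselianLocalRing R] [IsSepClosed (IsLocalRing.ResidueField R)] (S : Type u) [CommRing S]
    [HenselianLocalRing S] [IsSepClosed (IsLocalRing.ResidueField S)] (φ : R →+* S) [IsLocalHom φ] (n : ℕ)
    (P : Fin n → MvPolynomial (Fin n) R)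
    [Algebra.Etale R (MvPolynomial (Fin n) R ⧸ Ideal.span (Set.range P))] :
    Set.BijOn (fun r : Fin n → R => φ ∘ r)
      {r : Fin n → R | ∀ i, MvPolynomial.eval r (P i) = 0}
      {s : Fin n → S | ∀ i, MvPolynomial.eval s (MvPolynomial.map φ (P i)) = 0} := by
  open IsLocalRing Groth.Agent.Lib.Helper3.Hensel TensorProduct in
  letI : Algebra R S := φ.toAlgebra
  haveI : IsLocalHom (algebraMap R S) := ‹IsLocalHom φ›
  let A := MvPolynomial (Fin n) R ⧸ Ideal.span (Set.range P)
  let κR := ResidueField R
  let κS := ResidueField S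
  have hevalS : ∀ (s : Fin n → S) (p : MvPolynomial (Fin n) R),
      MvPolynomial.eval s (MvPolynomial.map φ p) = MvPolynomial.aeval s p := by
    intro s p
    rw [MvPolynomial.eval_map, MvPolynomial.aeval_def]
    rfl
  have hevalR : ∀ (r : Fin n → R) (p : MvPolynomial (Fin n) R),
      MvPolynomial.eval r p = MvPolynomial.aeval r p := by
    intro r p
    rfl
  have hcomp : ∀ (r : Fin n → R) (p : MvPolynomial (Fin n) R),
      MvPolynomial.aeval (φ ∘ r) p = φ (MvPolynomial.aeval r p) := by
    intro r p
    rw [← hevalR, ← MvPolynomial.eval₂_id, MvPolynomial.eval₂_comp_left φ]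
    rfl
  have hinj : Function.Injective (algebraMap κR κS) := (algebraMap κR κS).injective
  have hresφ : ∀ x : R, residue S (φ x) = algebraMap κR κS (residue R x) := fun x => rfl
  refine ⟨?_, ?_, ?_⟩
  · intro r hr i
    rw [hevalS, hcomp, ← hevalR, hr i, map_zero]
  · intro r hr r' hr' hrr'
    have hr1 : ∀ i, MvPolynomial.aeval r (P i) = 0 := fun i => by rw [← hevalR]; exact hr i
    have hr1' : ∀ i, MvPolynomial.aeval r' (P i) = 0 := fun i => by rw [← hevalR]; exact hr' i
    let f := toHom P r hr1
    let f' := toHom P r' hr1'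
    let resR : R →ₐ[R] κR := IsScalarTower.toAlgHom R R κR
    have hχ : resR.comp f = resR.comp f' := by
      apply hom_ext'
      intro i
      have hf : f (Ideal.Quotient.mk _ (MvPolynomial.X i)) = r i := toHom_mk_X P r hr1 i
      have hf' : f' (Ideal.Quotient.mk _ (MvPolynomial.X i)) = r' i := toHom_mk_X P r' hr1' i
      rw [AlgHom.comp_apply, AlgHom.comp_apply, hf, hf']
      change residue R (r i) = residue R (r' i)
      apply hinj
      rw [← hresφ, ← hresφ]
      exact congrArg (residue S) (congrFun hrr' i)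
    obtain ⟨f₀, -, huniq⟩ := existsUnique_algHom_residue (S := R) (resR.comp f)
    have e1 : f = f₀ := huniq f (fun a => rfl)
    have e2 : f' = f₀ := huniq f' (fun a => by rw [hχ]; rfl)
    funext i
    rw [← toHom_mk_X P r hr1 i, ← toHom_mk_X P r' hr1' i]
    change f _ = f' _
    rw [e1, e2]
  · intro s hs
    have hs1 : ∀ i, MvPolynomial.aeval s (P i) = 0 := fun i => by rw [← hevalS]; exact hs i
    let fs := toHom P s hs1
    let resS : S →ₐ[R] κS := IsScalarTower.toAlgHom R S κS
    let χs : A →ₐ[R] κS := resS.comp fs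
    let χbar : κR ⊗[R] A →ₐ[κR] κS :=
      Algebra.TensorProduct.lift (Algebra.ofId κR κS) χs (fun _ _ => Commute.all _ _)
    let ρ : κR →ₐ[R] κS := IsScalarTower.toAlgHom R κR κS
    have hmem : ∀ a : A, χs a ∈ ρ.range := by
      intro a
      obtain ⟨c, hc⟩ := mem_range_algebraMap_of_unramified χbar ((1 : κR) ⊗ₜ[R] a)
      refine ⟨c, ?_⟩
      change algebraMap κR κS c = χs a
      rw [hc]
      simp [χbar]
    let χR : A →ₐ[R] κR :=
      ((AlgEquiv.ofInjective ρ hinj).symm.toAlgHom).comp (χs.codRestrict ρ.range hmem)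
    have hχR : ∀ a, ρ (χR a) = χs a := by
      intro a
      have := (AlgEquiv.ofInjective ρ hinj).apply_symm_apply (χs.codRestrict ρ.range hmem a)
      exact congrArg Subtype.val this
    obtain ⟨fR, hfR, -⟩ := existsUnique_algHom_residue (S := R) χR
    let r : Fin n → R := fun i => fR (Ideal.Quotient.mk _ (MvPolynomial.X i))
    refine ⟨r, ?_, ?_⟩
    · intro i
      rw [hevalR]
      exact hom_sol P fR i
    · obtain ⟨f₀, -, huniq⟩ := existsUnique_algHom_residue (S := S) χs
      have e1 : fs = f₀ := huniq fs (fun a => rfl)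
      have e2 : (Algebra.ofId R S).comp fR = f₀ := huniq _ (fun a => by
        change residue S (φ (fR a)) = _
        rw [hresφ, hfR]
        exact hχR a)
      funext i
      change φ (fR _) = s i
      have := congrArg (fun g => g (Ideal.Quotient.mk _ (MvPolynomial.X i))) (e2.trans e1.symm)
      change φ (fR _) = fs _ at this
      rw [this, toHom_mk_X]

end Groth.Agent.S0517
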