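import Groth.Statements.S0518
import Groth.Agent.Lib.Helper3HenselM
import Mathlib

set_option autoImplicit false
universe u
open Hensel

namespace Groth.Agent.S0518

/-- Over a henselian local ring `R` with residue field `κ`, every finite étale `κ`-algebra is the base
change of some finite étale `R`-algebra. -/
theorem result (R : Type u) [CommRing R]
    [HenselianLocalRing R] (A : Type u) [CommRing A] [Algebra (IsLocalRing.ResidueField R) A]
    [Module.Finite (IsLocalRing.ResidueField R) A] [Algebra.Etale (IsLocalRing.ResidueField R) A] :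
    ∃ (S : Type u) (_ : CommRing S) (_ : Algebra R S), Module.Finite R S ∧ Algebra.Etale R S ∧
      Nonempty (TensorProduct R (IsLocalRing.ResidueField R) S ≃ₐ[IsLocalRing.ResidueField R] A) := by
  open IsLocalRing Groth.Agent.Lib.Helper3.Hensel TensorProduct Polynomial in
  classical
  let κ := ResidueField R
  obtain ⟨I, hI, Ai, hfield, halg, e, hAi⟩ :=
    (Algebra.Etale.iff_exists_algEquiv_prod κ A).mp inferInstance
  haveI := Fintype.ofFinite I
  have hex : ∀ i, ∃ p : R[X], p.Monic ∧ Algebra.Etale R (AdjoinRoot p) ∧
      Nonempty (κ ⊗[R] AdjoinRoot p ≃ₐ[κ] Ai i) := by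
    intro i
    haveI := (hAi i).1
    haveI := (hAi i).2
    exact exists_lift_of_separable (R := R) (Ai i)
  choose p hpm hpe hpi using hex
  haveI : ∀ i, Module.Finite R (AdjoinRoot (p i)) := fun i => (hpm i).finite_adjoinRoot
  haveI : ∀ i, Algebra.Etale R (AdjoinRoot (p i)) := hpe
  refine ⟨∀ i, AdjoinRoot (p i), inferInstance, inferInstance, inferInstance, inferInstance, ?_⟩
  exact ⟨((Algebra.TensorProduct.piRight R κ κ (fun i => AdjoinRoot (p i))).trans
    (AlgEquiv.piCongrRight (fun i => (hpi i).some))).trans e.symm⟩

end Groth.Agent.S0518
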