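import Groth.Statements.S0519
import Groth.Agent.Lib.Helper3HenselL
import Groth.Agent.S0505
import Mathlib

set_option autoImplicit false
universe u
open Hensel

namespace Groth.Agent.S0519

section Helpers

open IsLocalRing TensorProduct Groth.Agent.Lib.Helper3.Hensel

/-- every element of `κ ⊗ S` is of the form `1 ⊗ s` -/
theorem exists_one_tmul {R : Type*} [CommRing R] [IsLocalRing R] {S : Type*} [CommRing S]
    [Algebra R S] (x : ResidueField R ⊗[R] S) : ∃ s : S, x = (1 : ResidueField R) ⊗ₜ[R] s := by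
  induction x using TensorProduct.induction_on with
  | zero => exact ⟨0, by simp⟩
  | tmul c s =>
    obtain ⟨r, rfl⟩ := residue_surjective c
    refine ⟨r • s, ?_⟩
    rw [← TensorProduct.smul_tmul]
    congr 1
    rw [Algebra.smul_def, mul_one]
    rfl
  | add x y hx hy =>
    obtain ⟨s, rfl⟩ := hx
    obtain ⟨t, rfl⟩ := hy
    exact ⟨s + t, by rw [TensorProduct.tmul_add]⟩

theorem one_tmul_eq_zero_of_mem {R : Type*} [CommRing R] [IsLocalRing R] {S : Type*} [CommRing S]
    [Algebra R S] (s : S) (hs : s ∈ (maximalIdeal R).map (algebraMap R S)) :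
    (1 : ResidueField R) ⊗ₜ[R] s = 0 := by
  induction hs using Submodule.span_induction with
  | mem x hx =>
    obtain ⟨r, hr, rfl⟩ := hx
    rw [Algebra.algebraMap_eq_smul_one, ← TensorProduct.smul_tmul]
    have : r • (1 : ResidueField R) = 0 := by
      rw [Algebra.smul_def, mul_one]
      exact (residue_eq_zero_iff r).mpr hr
    rw [this, TensorProduct.zero_tmul]
  | zero => simp
  | add x y _ _ hx hy => rw [TensorProduct.tmul_add, hx, hy, add_zero]
  | smul a x _ hx =>
    have : (1 : ResidueField R) ⊗ₜ[R] (a • x) =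
        ((1 : ResidueField R) ⊗ₜ[R] a) * ((1 : ResidueField R) ⊗ₜ[R] x) := by
      rw [Algebra.TensorProduct.tmul_mul_tmul, one_mul, smul_eq_mul]
    rw [this, hx, mul_zero]

end Helpers

/-- Over a henselian local ring `R` with residue field `κ`, base change to `κ` gives a bijection between
`R`-algebra maps of two finite étale `R`-algebras and `κ`-algebra maps of their base changes. -/
theorem result (R : Type u) [CommRing R]
    [HenselianLocalRing R] (S₁ S₂ : Type u) [CommRing S₁] [CommRing S₂] [Algebra R S₁]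
    [Algebra R S₂] [Module.Finite R S₁] [Algebra.Etale R S₁] [Module.Finite R S₂]
    [Algebra.Etale R S₂] :
    Function.Bijective (fun φ : S₁ →ₐ[R] S₂ =>
      Algebra.TensorProduct.map (AlgHom.id (IsLocalRing.ResidueField R) (IsLocalRing.ResidueField R)) φ) := by
  open IsLocalRing Groth.Agent.Lib.Helper3.Hensel TensorProduct in
  classical
  let κ := ResidueField R
  obtain ⟨ι, hι, B, hB, hloc, ⟨Φ⟩⟩ := exists_pi_isLocalRing_of_finite R S₂
  letI algB : ∀ j, Algebra R (B j) := fun j =>
    ((Pi.evalRingHom B j).comp (Φ.toRingHom.comp (algebraMap R S₂))).toAlgebra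
  let Φₐ : S₂ ≃ₐ[R] (∀ j, B j) := AlgEquiv.ofRingEquiv (f := Φ) (fun r => rfl)
  let pr : ∀ j, S₂ →ₐ[R] B j := fun j => (Pi.evalAlgHom R B j).comp Φₐ.toAlgHom
  have hpr : ∀ j, Function.Surjective (pr j) := by
    intro j b
    refine ⟨Φₐ.symm (Pi.single j b), ?_⟩
    simp [pr]
  haveI hfinB : ∀ j, Module.Finite R (B j) := fun j =>
    Module.Finite.of_surjective (pr j).toLinearMap (hpr j)
  haveI hhens : ∀ j, HenselianLocalRing (B j) := fun j => by
    haveI := hloc j
    exact Groth.Agent.S0505.result R (B j)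
  haveI hlh : ∀ j, IsLocalHom (algebraMap R (B j)) := fun j => isLocalHom_of_finite
  -- the maps to the residue fields
  let resB : ∀ j, B j →ₐ[R] ResidueField (B j) := fun j =>
    IsScalarTower.toAlgHom R (B j) (ResidueField (B j))
  let θ : ∀ j, κ ⊗[R] S₂ →ₐ[R] ResidueField (B j) := fun j =>
    Algebra.TensorProduct.lift (IsScalarTower.toAlgHom R κ (ResidueField (B j)))
      ((resB j).comp (pr j)) (fun _ _ => Commute.all _ _)
  have hθ : ∀ j (s : S₂), θ j ((1 : κ) ⊗ₜ[R] s) = residue (B j) (Φ s j) := by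
    intro j s
    simp [θ, resB, pr, Φₐ]
  -- injectivity of Θ
  have hΘ : ∀ x : κ ⊗[R] S₂, (∀ j, θ j x = 0) → x = 0 := by
    intro x hx
    obtain ⟨s, rfl⟩ := exists_one_tmul x
    apply one_tmul_eq_zero_of_mem
    have hjac : s ∈ Ideal.jacobson (⊥ : Ideal S₂) := by
      rw [Ideal.mem_jacobson_bot]
      intro t
      have : IsUnit (Φ (s * t + 1)) := by
        rw [Pi.isUnit_iff]
        intro j
        have h1 : Φ s j ∈ maximalIdeal (B j) := by
          rw [← residue_eq_zero_iff, ← hθ]; exact hx j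
        have h2 : Φ (s * t + 1) j = Φ s j * Φ t j + 1 := by
          simp
        rw [h2]
        by_contra hnu
        have h3 : Φ s j * Φ t j + 1 ∈ maximalIdeal (B j) := hnu
        have h4 := (maximalIdeal (B j)).sub_mem h3 (Ideal.mul_mem_right (Φ t j) _ h1)
        rw [add_sub_cancel_left] at h4
        exact (maximalIdeal.isMaximal (B j)).ne_top ((Ideal.eq_top_iff_one _).mpr h4)
      exact (isUnit_map_iff Φ _).mp this
    have hrad : ((maximalIdeal R).map (algebraMap R S₂)).IsRadical :=
      Algebra.FormallyUnramified.isRadical_map_isMaximal R S₂ (maximalIdeal R)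
    rw [← hrad.radical, Ideal.radical_eq_sInf, Ideal.mem_sInf]
    rintro Q ⟨hQ, hQp⟩
    haveI := hQp
    haveI : Algebra.IsIntegral R S₂ := Algebra.IsIntegral.of_finite R S₂
    have hQl : Q.LiesOver (maximalIdeal R) := under_eq_of_map_le Q hQ
    haveI : Q.IsMaximal := Ideal.IsMaximal.of_liesOver_isMaximal Q (maximalIdeal R)
    have : Ideal.jacobson (⊥ : Ideal S₂) ≤ Q := by
      rw [Ideal.jacobson]
      exact sInf_le ⟨bot_le, ‹Q.IsMaximal›⟩
    exact this hjac
  constructor
  · intro φ φ' hφ
    have key : ∀ j, (pr j).comp φ = (pr j).comp φ' := by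
      intro j
      obtain ⟨f₀, -, huniq⟩ := existsUnique_algHom_residue (S := B j) ((resB j).comp ((pr j).comp φ))
      have e1 := huniq ((pr j).comp φ) (fun a => rfl)
      have e2 := huniq ((pr j).comp φ') (fun a => by
        change residue (B j) (Φ (φ' a) j) = residue (B j) (Φ (φ a) j)
        rw [← hθ, ← hθ]
        have := congrArg (fun Ψ : κ ⊗[R] S₁ →ₐ[κ] κ ⊗[R] S₂ => Ψ ((1 : κ) ⊗ₜ[R] a)) hφ
        simp only [Algebra.TensorProduct.map_tmul, AlgHom.coe_id, id_eq] at this
        rw [this])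
      rw [e1, e2]
    ext a
    apply Φ.injective
    funext j
    exact congrArg (fun g => g a) (key j)
  · intro Ψ
    let χ : ∀ j, S₁ →ₐ[R] ResidueField (B j) := fun j =>
      ((θ j).comp (Ψ.restrictScalars R)).comp Algebra.TensorProduct.includeRight
    have hlift : ∀ j, ∃ f : S₁ →ₐ[R] B j, ∀ a, residue (B j) (f a) = χ j a := fun j =>
      (existsUnique_algHom_residue (S := B j) (χ j)).exists
    choose f hf using hlift
    let φ : S₁ →ₐ[R] S₂ := Φₐ.symm.toAlgHom.comp (AlgHom.pi f)
    have hφ : ∀ a j, Φ (φ a) j = f j a := by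
      intro a j
      change Φₐ (Φₐ.symm (AlgHom.pi f a)) j = f j a
      rw [AlgEquiv.apply_symm_apply]
      rfl
    refine ⟨φ, ?_⟩
    apply Algebra.TensorProduct.ext'
    intro c a
    have h1 : c ⊗ₜ[R] a = c • ((1 : κ) ⊗ₜ[R] a) := by
      rw [TensorProduct.smul_tmul', smul_eq_mul, mul_one]
    rw [h1, map_smul, map_smul]
    congr 1
    rw [← sub_eq_zero]
    apply hΘ
    intro j
    rw [map_sub, sub_eq_zero]
    simp only [Algebra.TensorProduct.map_tmul, AlgHom.coe_id, id_eq]
    rw [hθ, hφ, hf]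
    rfl

end Groth.Agent.S0519
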