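import Groth.Statements.S0520
-- import your own Groth.Agent.* helpers here
import Groth.Agent.Lib.Helper26HenselEtale

set_option autoImplicit false
universe u
open Hensel

namespace Groth.Agent.S0520

section Helpers
open Polynomial Groth.Agent.Lib.Helper26.HenselEtale

theorem factor_lift (A : Type u) [CommRing A] (I : Ideal A) [HenselianRing A I]
    (f : Polynomial A) (hf : f.Monic) (g₀ h₀ : Polynomial (A ⧸ I)) (hg₀ : g₀.Monic)
    (hh₀ : h₀.Monic) (hcop : IsCoprime g₀ h₀)
    (hfac : Polynomial.map (Ideal.Quotient.mk I) f = g₀ * h₀) :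
    ∃ g h : Polynomial A, g.Monic ∧ h.Monic ∧ f = g * h ∧
      Polynomial.map (Ideal.Quotient.mk I) g = g₀ ∧ Polynomial.map (Ideal.Quotient.mk I) h = h₀ := by
  obtain ⟨A', _, _, hét, hbij, g', h', hg', hh', hfac', -, hg'', hh''⟩ :=
    Groth.Agent.Lib.Helper20.EtSection.exists_etale_lift_factorization I f hf g₀ h₀ hg₀ hh₀ hcop hfac
  obtain ⟨τ, hτ⟩ := exists_section_of_bijective (E := A') I hbij
  have hcomp : (((algebraMap (A ⧸ I) (A' ⧸ I.map (algebraMap A A'))).comp
      (Ideal.Quotient.mk I)).comp τ.toRingHom) = Ideal.Quotient.mk (I.map (algebraMap A A')) := by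
    ext x
    simp only [RingHom.coe_comp, Function.comp_apply, AlgHom.toRingHom_eq_coe, RingHom.coe_coe]
    rw [Ideal.Quotient.algebraMap_quotient_map_quotient, eq_comm,
      Ideal.Quotient.mk_eq_mk_iff_sub_mem]
    exact hτ x
  have hinj : Function.Injective
      (Polynomial.map (algebraMap (A ⧸ I) (A' ⧸ I.map (algebraMap A A')))) :=
    Polynomial.map_injective _ hbij.1
  refine ⟨g'.map τ.toRingHom, h'.map τ.toRingHom, hg'.map _, hh'.map _, ?_, ?_, ?_⟩
  · rw [← Polynomial.map_mul, ← hfac', Polynomial.map_map]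
    have : (τ.toRingHom.comp (algebraMap A A')) = RingHom.id A := by
      ext x; simp
    rw [this, Polynomial.map_id]
  · apply hinj
    rw [Polynomial.map_map, Polynomial.map_map, hcomp, hg'']
  · apply hinj
    rw [Polynomial.map_map, Polynomial.map_map, hcomp, hh'']

theorem henselian_of_factor_lift (A : Type u) [CommRing A] (I : Ideal A)
    (hjac : I ≤ Ideal.jacobson ⊥)
    (h : ∀ f : Polynomial A, f.Monic → ∀ g₀ h₀ : Polynomial (A ⧸ I), g₀.Monic → h₀.Monic →
        IsCoprime g₀ h₀ → Polynomial.map (Ideal.Quotient.mk I) f = g₀ * h₀ →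
        ∃ g h : Polynomial A, g.Monic ∧ h.Monic ∧ f = g * h ∧
          Polynomial.map (Ideal.Quotient.mk I) g = g₀ ∧
          Polynomial.map (Ideal.Quotient.mk I) h = h₀) :
    HenselianRing A I := by
  refine ⟨hjac, ?_⟩
  intro f hf a₀ h0 h1
  rcases subsingleton_or_nontrivial (A ⧸ I) with hsub | hnt
  · have hItop : I = ⊤ := Ideal.Quotient.subsingleton_iff.mp hsub
    have h1I : (1 : A) ∈ Ideal.jacobson (⊥ : Ideal A) := hjac (hItop ▸ Submodule.mem_top)
    have := Ideal.mem_jacobson_bot.mp h1I (-1)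
    simp only [one_mul, neg_add_cancel, isUnit_zero_iff] at this
    haveI : Subsingleton A := subsingleton_of_zero_eq_one this
    exact ⟨a₀, Subsingleton.elim _ _, by simp⟩
  set fb := f.map (Ideal.Quotient.mk I) with hfb
  set ab := Ideal.Quotient.mk I a₀ with hab
  have hroot : fb.IsRoot ab := by
    rw [Polynomial.IsRoot.def, hfb, hab, Polynomial.eval_map_apply]
    exact Ideal.Quotient.eq_zero_iff_mem.mpr h0
  set hq := fb /ₘ (X - C ab) with hhq
  have hfq : (X - C ab) * hq = fb := mul_divByMonic_eq_iff_isRoot.mpr hroot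
  have hfbm : fb.Monic := hf.map _
  have hqm : hq.Monic := (monic_X_sub_C ab).of_mul_monic_left (hfq ▸ hfbm)
  have hder : hq.eval ab = Ideal.Quotient.mk I (f.derivative.eval a₀) := by
    rw [← Polynomial.eval_map_apply, ← Polynomial.derivative_map, ← hfb, ← hfq,
      Polynomial.derivative_mul]
    simp [← hab]
  obtain ⟨q₁, hq₁⟩ := Polynomial.X_sub_C_dvd_sub_C_eval (a := ab) (p := hq)
  obtain ⟨v, hv⟩ := h1.exists_left_inv
  have hcop : IsCoprime (X - C ab) hq := by
    refine ⟨-(C v * q₁), C v, ?_⟩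
    have h2 : hq = C (hq.eval ab) + (X - C ab) * q₁ := by rw [← hq₁]; ring
    have h3 : C v * C (hq.eval ab) = (1 : (A ⧸ I)[X]) := by
      rw [← C_mul, hder, hv, C_1]
    calc -(C v * q₁) * (X - C ab) + C v * hq
        = -(C v * q₁) * (X - C ab) + C v * (C (hq.eval ab) + (X - C ab) * q₁) := by rw [← h2]
      _ = C v * C (hq.eval ab) := by ring
      _ = 1 := h3
  obtain ⟨g, h', hg, hh', hfgh, hgmap, hhmap⟩ :=
    h f hf (X - C ab) hq (monic_X_sub_C ab) hqm hcop hfq.symm
  have hdeg : g.natDegree = 1 := by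
    rw [← hg.natDegree_map (Ideal.Quotient.mk I), hgmap]
    exact natDegree_X_sub_C ab
  have hgX : g = X + C (g.coeff 0) := hg.eq_X_add_C hdeg
  refine ⟨-g.coeff 0, ?_, ?_⟩
  · rw [Polynomial.IsRoot.def, hfgh, eval_mul]
    have : g.eval (-g.coeff 0) = 0 := by
      rw [hgX]; simp
    rw [this, zero_mul]
  · have h4 : (g.map (Ideal.Quotient.mk I)).coeff 0 = -ab := by
      rw [hgmap]; simp
    rw [coeff_map] at h4
    rw [← Ideal.Quotient.mk_eq_mk_iff_sub_mem, map_neg, h4, neg_neg]

end Helpers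

/-- A ring `A` is Henselian at an ideal `I` in Mathlib's sense (simple roots lift) exactly when `I` lies
in the Jacobson radical and every factorization of the reduction of a monic polynomial into two
comaximal monic factors over `A/I` lifts to a factorization into monic polynomials over `A`. -/
theorem result (A : Type u) [CommRing A] (I : Ideal A) :
    HenselianRing A I ↔ (I ≤ Ideal.jacobson ⊥ ∧
      ∀ f : Polynomial A, f.Monic → ∀ g₀ h₀ : Polynomial (A ⧸ I), g₀.Monic → h₀.Monic →
        IsCoprime g₀ h₀ → Polynomial.map (Ideal.Quotient.mk I) f = g₀ * h₀ →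
        ∃ g h : Polynomial A, g.Monic ∧ h.Monic ∧ f = g * h ∧
          Polynomial.map (Ideal.Quotient.mk I) g = g₀ ∧ Polynomial.map (Ideal.Quotient.mk I) h = h₀) := by
  constructor
  · intro hH
    exact ⟨HenselianRing.jac, fun f hf g₀ h₀ hg₀ hh₀ hcop hfac =>
      factor_lift A I f hf g₀ h₀ hg₀ hh₀ hcop hfac⟩
  · rintro ⟨hjac, h⟩
    exact henselian_of_factor_lift A I hjac h

end Groth.Agent.S0520
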