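import Groth.Statements.S0523
-- import your own Groth.Agent.* helpers here
import Groth.Agent.Lib.Helper26HenselEtale

set_option autoImplicit false
universe u
open Hensel

namespace Groth.Agent.S0523

section Helpers
open Polynomial

theorem henselian_of_etale_lift (A : Type u) [CommRing A] (I : Ideal A)
    (h : ∀ (A' : Type u) [CommRing A'] [Algebra A A'] [Algebra.Etale A A']
      (σ : A' →ₐ[A] A ⧸ I), ∃ τ : A' →ₐ[A] A, (Ideal.Quotient.mkₐ A I).comp τ = σ) :
    HenselianRing A I := by
  constructor
  · intro x hx
    rw [Ideal.mem_jacobson_bot]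
    intro y
    set a := x * y + 1 with ha
    have ha1 : Ideal.Quotient.mk I a = 1 := by
      have : Ideal.Quotient.mk I (x * y) = 0 :=
        Ideal.Quotient.eq_zero_iff_mem.mpr (I.mul_mem_right y hx)
      rw [ha, map_add, this, zero_add, map_one]
    let σ : Localization.Away a →ₐ[A] A ⧸ I :=
      IsLocalization.Away.liftAlgHom a (f := Algebra.ofId A (A ⧸ I))
        (by
          change IsUnit (Ideal.Quotient.mk I a)
          rw [ha1]; exact isUnit_one)
    obtain ⟨τ, -⟩ := h (Localization.Away a) σ
    have h1 : IsUnit (algebraMap A (Localization.Away a) a) :=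
      IsLocalization.Away.algebraMap_isUnit a
    have h2 := h1.map τ
    simpa using h2
  · intro f hf a₀ h0 h1
    let P : StandardEtalePair A := ⟨f, hf, f.derivative, ⟨1, 0, 1, by simp⟩⟩
    have hmap : P.HasMap (Ideal.Quotient.mk I a₀) := by
      constructor
      · change aeval (algebraMap A (A ⧸ I) a₀) f = 0
        rw [Polynomial.aeval_algebraMap_apply_eq_algebraMap_eval]
        exact Ideal.Quotient.eq_zero_iff_mem.mpr h0
      · change IsUnit (aeval (algebraMap A (A ⧸ I) a₀) f.derivative)
        rw [Polynomial.aeval_algebraMap_apply_eq_algebraMap_eval]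
        exact h1
    obtain ⟨τ, hτ⟩ := h P.Ring (P.lift _ hmap)
    refine ⟨τ P.X, ?_, ?_⟩
    · have := (P.hasMap_X.map τ).1
      rw [Polynomial.coe_aeval_eq_eval] at this
      exact this
    · have h3 := congrArg (fun φ => φ P.X) hτ
      simp only [AlgHom.coe_comp, Function.comp_apply, Ideal.Quotient.mkₐ_eq_mk,
        StandardEtalePair.lift_X] at h3
      exact Ideal.Quotient.eq.mp h3

end Helpers

/-- `A` is Henselian at `I` exactly when for every étale `A`-algebra `A'` every `A`-algebra map `A' →
A/I` lifts to an `A`-algebra map `A' → A`. -/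
theorem result (A : Type u) [CommRing A] (I : Ideal A) :
    HenselianRing A I ↔ ∀ (A' : Type u) [CommRing A'] [Algebra A A'] [Algebra.Etale A A']
      (σ : A' →ₐ[A] A ⧸ I), ∃ τ : A' →ₐ[A] A, (Ideal.Quotient.mkₐ A I).comp τ = σ := by
  constructor
  · intro hH A' _ _ _ σ
    exact Groth.Agent.Lib.Helper26.HenselEtale.etale_lift A I A' σ
  · intro h
    exact henselian_of_etale_lift A I h

end Groth.Agent.S0523
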