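import Groth.Statements.S0529
import Groth.Agent.Lib.Helper2HenselQuot

set_option autoImplicit false
universe u
open Hensel

namespace Groth.Agent.S0529

open Polynomial in
lemma mem_K {J : Type u} (A : J → Type u) [∀ j, CommRing (A j)] (I : ∀ j, Ideal (A j))
    (x : ∀ j, A j) :
    x ∈ (⨅ j, Ideal.comap (Pi.evalRingHom A j) (I j)) ↔ ∀ j, x j ∈ I j := by
  rw [Ideal.mem_iInf]
  exact Iff.rfl

open Polynomial in
lemma eval_apply {J : Type u} (A : J → Type u) [∀ j, CommRing (A j)] (f : (∀ j, A j)[X])
    (a : ∀ j, A j) (j : J) : (f.eval a) j = (f.map (Pi.evalRingHom A j)).eval (a j) := by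
  rw [eval_map, ← Pi.evalRingHom_apply (f := A) j a]
  exact (eval₂_at_apply (Pi.evalRingHom A j) a).symm ▸ rfl

open Polynomial in
theorem backward {J : Type u} (A : J → Type u) [∀ j, CommRing (A j)] (I : ∀ j, Ideal (A j))
    (h : ∀ j, HenselianRing (A j) (I j)) :
    HenselianRing (∀ j, A j) (⨅ j, Ideal.comap (Pi.evalRingHom A j) (I j)) := by
  set K := ⨅ j, Ideal.comap (Pi.evalRingHom A j) (I j) with hK
  have hjac : K ≤ Ideal.jacobson ⊥ := by
    intro x hx
    rw [Ideal.mem_jacobson_bot]
    intro y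
    rw [Pi.isUnit_iff]
    intro j
    exact (Ideal.mem_jacobson_bot.mp ((h j).jac ((mem_K A I x).mp hx j))) (y j)
  refine ⟨hjac, ?_⟩
  intro f hf a₀ h₁ h₂
  have hd : IsUnit (f.derivative.eval a₀) :=
    Groth.Agent.Lib.Helper2.isUnit_of_isUnit_mk_of_le_jacobson K hjac _ h₂
  have hex : ∀ j, ∃ a : A j, (f.map (Pi.evalRingHom A j)).IsRoot a ∧ a - a₀ j ∈ I j := by
    intro j
    apply (h j).is_henselian _ (hf.map _) (a₀ j)
    · rw [← eval_apply]; exact (mem_K A I _).mp h₁ j
    · rw [derivative_map, ← eval_apply]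
      exact ((Pi.isUnit_iff.mp hd) j).map _
  choose a ha ha' using hex
  refine ⟨a, ?_, ?_⟩
  · show f.eval a = 0
    funext j
    rw [eval_apply]; exact ha j
  · rw [hK, mem_K]
    intro j; exact ha' j

open Polynomial in
theorem forward {J : Type u} (A : J → Type u) [∀ j, CommRing (A j)] (I : ∀ j, Ideal (A j))
    (h : HenselianRing (∀ j, A j) (⨅ j, Ideal.comap (Pi.evalRingHom A j) (I j))) (j : J) :
    HenselianRing (A j) (I j) := by
  classical
  set K := ⨅ j, Ideal.comap (Pi.evalRingHom A j) (I j) with hK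
  have hsingle : ∀ x ∈ I j, Pi.single j x ∈ K := by
    intro x hx
    rw [hK, mem_K]
    intro i
    by_cases hij : i = j
    · subst hij; rw [Pi.single_eq_same]; exact hx
    · rw [Pi.single_eq_of_ne hij]; exact Ideal.zero_mem _
  have hjac : I j ≤ Ideal.jacobson ⊥ := by
    intro x hx
    rw [Ideal.mem_jacobson_bot]
    intro y
    have h1 := (Ideal.mem_jacobson_bot.mp (h.jac (hsingle x hx))) (Pi.single j y)
    have h2 := (Pi.isUnit_iff.mp h1) j
    simpa using h2
  refine ⟨hjac, ?_⟩
  intro g hg b₀ h₁ h₂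
  have hdg : IsUnit (g.derivative.eval b₀) :=
    Groth.Agent.Lib.Helper2.isUnit_of_isUnit_mk_of_le_jacobson _ hjac _ h₂
  by_cases hn : g.natDegree = 0
  · have hg1 : g = 1 := eq_one_of_monic_natDegree_zero hg hn
    have h1 : (1 : A j) ∈ I j := by
      have : g.eval b₀ = 1 := by rw [hg1, eval_one]
      rw [this] at h₁; exact h₁
    have h2 : I j = ⊤ := (Ideal.eq_top_iff_one _).mpr h1
    have h3 : Ideal.jacobson (⊥ : Ideal (A j)) = ⊤ := top_le_iff.mp (h2 ▸ hjac)
    have h4 : (⊥ : Ideal (A j)) = ⊤ := Ideal.jacobson_eq_top_iff.mp h3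
    have h5 : Subsingleton (A j) := by
      refine ⟨fun x y => ?_⟩
      have hx : x ∈ (⊥ : Ideal (A j)) := h4 ▸ Submodule.mem_top
      have hy : y ∈ (⊥ : Ideal (A j)) := h4 ▸ Submodule.mem_top
      rw [Ideal.mem_bot.mp hx, Ideal.mem_bot.mp hy]
    exact ⟨b₀, Subsingleton.elim _ _, by rw [sub_self]; exact Ideal.zero_mem _⟩
  set n := g.natDegree with hndef
  let q : ∀ i, (A i)[X] := fun i => X ^ (n - 1) * (X - C 1)
  have hqm : ∀ i, (q i).Monic := fun i => (monic_X_pow _).mul (monic_X_sub_C 1)
  have hqdeg : ∀ i, (q i).natDegree ≤ n := by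
    intro i
    refine (natDegree_mul_le).trans ?_
    have h1 : (X ^ (n - 1) : (A i)[X]).natDegree ≤ n - 1 := natDegree_X_pow_le _
    have h2 : (X - C (1 : A i)).natDegree ≤ 1 := natDegree_X_sub_C_le _
    omega
  have hqn : ∀ i, (q i).coeff n = 1 := by
    intro i
    rcases subsingleton_or_nontrivial (A i) with hs | hnt
    · exact Subsingleton.elim _ _
    · have : (q i).natDegree = n := by
        rw [(monic_X_pow _).natDegree_mul (monic_X_sub_C 1), natDegree_X_pow, natDegree_X_sub_C]
        omega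
      rw [← this]; exact (hqm i).coeff_natDegree
  have hq1 : ∀ i, (q i).eval 1 = 0 := by
    intro i; simp [q]
  have hqd1 : ∀ i, (q i).derivative.eval 1 = 1 := by
    intro i; simp [q, derivative_mul]
  let c : ℕ → ∀ i, A i := fun k => Function.update (fun i => (q i).coeff k) j (g.coeff k)
  let F : (∀ i, A i)[X] := ∑ k ∈ Finset.range (n + 1), monomial k (c k)
  have hFcoeff : ∀ k, F.coeff k = if k ≤ n then c k else 0 := by
    intro k
    simp only [F, finsetSum_coeff, coeff_monomial]
    rw [Finset.sum_ite_eq' (Finset.range (n + 1)) k]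
    simp only [Finset.mem_range, Nat.lt_succ_iff]
  have hFj : F.map (Pi.evalRingHom A j) = g := by
    ext k
    rw [coeff_map, hFcoeff]
    split_ifs with hk
    · simp [c]
    · rw [map_zero, coeff_eq_zero_of_natDegree_lt (by omega)]
  have hFi : ∀ i, i ≠ j → F.map (Pi.evalRingHom A i) = q i := by
    intro i hij
    ext k
    rw [coeff_map, hFcoeff]
    split_ifs with hk
    · simp [c, Function.update_of_ne hij]
    · rw [map_zero, coeff_eq_zero_of_natDegree_lt (lt_of_le_of_lt (hqdeg i) (by omega))]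
  have hFm : F.Monic := by
    apply monic_of_natDegree_le_of_coeff_eq_one n
    · apply natDegree_sum_le_of_forall_le
      intro k hk
      exact (natDegree_monomial_le _).trans (by rw [Finset.mem_range] at hk; omega)
    · rw [hFcoeff, if_pos (le_refl _)]
      funext i
      by_cases hij : i = j
      · subst hij; simp only [c, Function.update_self]; exact hg.coeff_natDegree
      · simp only [c, Function.update_of_ne hij]; exact hqn i
  let a₀ : ∀ i, A i := Function.update (fun _ => 1) j b₀
  have ha₀j : a₀ j = b₀ := Function.update_self ..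
  have ha₀i : ∀ i, i ≠ j → a₀ i = 1 := fun i hij => Function.update_of_ne hij ..
  have hF0 : F.eval a₀ ∈ K := by
    rw [hK, mem_K]
    intro i
    rw [eval_apply]
    by_cases hij : i = j
    · subst hij; rw [hFj, ha₀j]; exact h₁
    · rw [hFi i hij, ha₀i i hij, hq1]; exact Ideal.zero_mem _
  have hFd : IsUnit (F.derivative.eval a₀) := by
    rw [Pi.isUnit_iff]
    intro i
    rw [eval_apply, ← derivative_map]
    by_cases hij : i = j
    · subst hij; rw [hFj, ha₀j]; exact hdg
    · rw [hFi i hij, ha₀i i hij, hqd1]; exact isUnit_one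
  obtain ⟨a, ha, ha'⟩ := h.is_henselian F hFm a₀ hF0 (hFd.map _)
  refine ⟨a j, ?_, ?_⟩
  · show g.eval (a j) = 0
    rw [← hFj, ← eval_apply]
    have : F.eval a = 0 := ha
    rw [this]; rfl
  · have := (mem_K A I _).mp ha' j
    rw [Pi.sub_apply, ha₀j] at this
    exact this

/-- A product of rings, with the product ideal, is Henselian exactly when every factor is Henselian at
its ideal. -/
theorem result (J : Type u) (A : J → Type u) [∀ j, CommRing (A j)]
    (I : ∀ j, Ideal (A j)) :
    HenselianRing (∀ j, A j) (⨅ j, Ideal.comap (Pi.evalRingHom A j) (I j)) ↔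
      ∀ j, HenselianRing (A j) (I j) := by
  exact ⟨fun h j => forward A I h j, backward A I⟩

end Groth.Agent.S0529
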