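import Groth.Statements.S0533
-- import your own Groth.Agent.* helpers here
import Groth.Agent.Lib.Helper26HenselUnique
import Groth.Agent.Lib.Helper26HenselIdem
import Groth.Agent.S0526

set_option autoImplicit false
universe u
open Hensel

namespace Groth.Agent.S0533

section Helpers
open TensorProduct Groth.Agent.Lib.Helper26.HenselEtale Groth.Agent.Lib.Helper26.HenselIdem
  Groth.Agent.Lib.Helper26.HenselUnique

theorem one_tmul_eq_zero_iff {A B : Type u} [CommRing A] [CommRing B] [Algebra A B] (I : Ideal A)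
    (y : B) : ((1 : A ⧸ I) ⊗ₜ[A] y = 0) ↔ y ∈ I.map (algebraMap A B) := by
  have h := Algebra.TensorProduct.quotIdealMapEquivQuotTensor_mk (A := A) B I y
  rw [← h, map_eq_zero_iff _ (Algebra.TensorProduct.quotIdealMapEquivQuotTensor B I).injective,
    Ideal.Quotient.eq_zero_iff_mem]

end Helpers

/-- If `A` is Henselian at `I`, base change to `A/I` gives a bijection between `A`-algebra maps of two
finite étale `A`-algebras and `A/I`-algebra maps of their reductions. -/
theorem result (A : Type u) [CommRing A] (I : Ideal A) [HenselianRing A I]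
    (B₁ B₂ : Type u) [CommRing B₁] [CommRing B₂] [Algebra A B₁] [Algebra A B₂]
    [Module.Finite A B₁] [Algebra.Etale A B₁] [Module.Finite A B₂] [Algebra.Etale A B₂] :
    Function.Bijective (fun φ : B₁ →ₐ[A] B₂ =>
      Algebra.TensorProduct.map (AlgHom.id (A ⧸ I) (A ⧸ I)) φ) := by
  haveI : Algebra.IsIntegral A B₂ := Algebra.IsIntegral.of_finite A B₂
  have hJjac : I.map (algebraMap A B₂) ≤ Ideal.jacobson ⊥ :=
    Groth.Agent.Lib.Helper26.HenselIdem.map_le_jacobson_of_isIntegral I HenselianRing.jac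
  constructor
  · intro φ ψ h
    simp only at h
    apply Groth.Agent.Lib.Helper26.HenselUnique.algHom_eq_of_sub_mem_jacobson _ hJjac
    intro x
    have h1 := congrArg (fun F => F ((1 : A ⧸ I) ⊗ₜ[A] x)) h
    simp only [Algebra.TensorProduct.map_tmul, AlgHom.coe_id, id_eq] at h1
    rw [← one_tmul_eq_zero_iff I, TensorProduct.tmul_sub, h1, sub_self]
  · intro χ
    haveI : HenselianRing B₂ (I.map (algebraMap A B₂)) := Groth.Agent.S0526.result A I B₂
    let J : Ideal B₂ := I.map (algebraMap A B₂)
    let q : (B₂ ⧸ J) ≃ₐ[A ⧸ I] TensorProduct A (A ⧸ I) B₂ :=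
      Algebra.TensorProduct.quotIdealMapEquivQuotTensor B₂ I
    let χ' : B₁ →ₐ[A] B₂ ⧸ J :=
      ((q.symm.toAlgHom.comp χ).restrictScalars A).comp Algebra.TensorProduct.includeRight
    let σ : TensorProduct A B₂ B₁ →ₐ[B₂] B₂ ⧸ J :=
      Algebra.TensorProduct.lift (Algebra.ofId B₂ (B₂ ⧸ J)) χ' (fun _ _ => Commute.all _ _)
    obtain ⟨τ, hτ⟩ := Groth.Agent.Lib.Helper26.HenselEtale.etale_lift B₂ J
      (TensorProduct A B₂ B₁) σ
    let φ : B₁ →ₐ[A] B₂ := (τ.restrictScalars A).comp Algebra.TensorProduct.includeRight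
    refine ⟨φ, ?_⟩
    simp only
    apply Algebra.TensorProduct.ext
    · ext
    · ext x
      simp only [AlgHom.coe_comp, AlgHom.coe_restrictScalars', Function.comp_apply,
        Algebra.TensorProduct.includeRight_apply, Algebra.TensorProduct.map_tmul, AlgHom.coe_id,
        id_eq]
      have h1 : Ideal.Quotient.mk J (φ x) = χ' x := by
        have := congrArg (fun F => F ((1 : B₂) ⊗ₜ[A] x)) hτ
        simp only [AlgHom.coe_comp, Function.comp_apply, Ideal.Quotient.mkₐ_eq_mk, σ,
          Algebra.TensorProduct.lift_tmul, map_one, one_mul] at this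
        exact this
      have h2 : q (Ideal.Quotient.mk J (φ x)) = (1 : A ⧸ I) ⊗ₜ[A] φ x :=
        Algebra.TensorProduct.quotIdealMapEquivQuotTensor_mk (A := A) B₂ I (φ x)
      rw [← h2, h1]
      simp [χ']

end Groth.Agent.S0533
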