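import Groth.Statements.S0534
-- import your own Groth.Agent.* helpers here
import Groth.Agent.Lib.Helper26HenselEtale
import Groth.Agent.Lib.Helper20EtProj

set_option autoImplicit false
universe u
open Hensel

namespace Groth.Agent.S0534

section Helpers
open TensorProduct Groth.Agent.Lib.Helper26.HenselEtale Groth.Agent.Lib.Helper20.EtProj

/-- Idempotent matrices lift along a Henselian pair. -/
theorem exists_lift_idempotent_matrix (R : Type u) [CommRing R] (I : Ideal R) [HenselianRing R I]
    {n : ℕ} (p : Matrix (Fin n) (Fin n) (R ⧸ I)) (hp : IsIdempotentElem p) :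
    ∃ e : Matrix (Fin n) (Fin n) R, IsIdempotentElem e ∧ e.map (Ideal.Quotient.mk I) = p := by
  obtain ⟨A', _, _, hét, hbij, e', he', he'map⟩ := exists_etale_lift_idempotent_matrix I p hp
  obtain ⟨τ, hτ⟩ := exists_section_of_bijective (E := A') I hbij
  refine ⟨e'.map τ, ?_, ?_⟩
  · change e'.map τ * e'.map τ = e'.map τ
    have := congrArg (fun M : Matrix (Fin n) (Fin n) A' => M.map τ) he'.eq
    simp only [Matrix.map_mul] at this
    exact this
  · ext i j
    simp only [Matrix.map_apply]
    apply hbij.1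
    have h3 := congr_fun (congr_fun he'map i) j
    simp only [Matrix.map_apply] at h3
    rw [← h3, Ideal.Quotient.algebraMap_quotient_map_quotient, eq_comm,
      Ideal.Quotient.mk_eq_mk_iff_sub_mem]
    exact hτ (e' i j)

end Helpers

/-- If `R` is Henselian at `I`, every finitely generated projective `R/I`-module is the base change of a
finitely generated projective `R`-module. -/
theorem result (R : Type u) [CommRing R] (I : Ideal R)
    [HenselianRing R I] (Q : Type u) [AddCommGroup Q] [Module (R ⧸ I) Q] [Module.Finite (R ⧸ I) Q]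
    [Module.Projective (R ⧸ I) Q] :
    ∃ (P : Type u) (_ : AddCommGroup P) (_ : Module R P), Module.Finite R P ∧ Module.Projective R P ∧
      Nonempty (TensorProduct R (R ⧸ I) P ≃ₗ[R ⧸ I] Q) := by
  classical
  obtain ⟨n, r, s, -, -, hrs⟩ := Module.Finite.exists_comp_eq_id_of_projective (R ⧸ I) Q
  let p : Matrix (Fin n) (Fin n) (R ⧸ I) := LinearMap.toMatrix' (s ∘ₗ r)
  have hp : IsIdempotentElem p := by
    show p * p = p
    rw [← LinearMap.toMatrix'_comp]
    congr 1
    calc (s ∘ₗ r) ∘ₗ (s ∘ₗ r) = s ∘ₗ (r ∘ₗ s) ∘ₗ r := by simp only [LinearMap.comp_assoc]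
      _ = s ∘ₗ r := by rw [hrs]; rfl
  obtain ⟨e, he, hemap⟩ := exists_lift_idempotent_matrix R I p hp
  let E : (Fin n → R) →ₗ[R] (Fin n → R) := Matrix.toLin' e
  have hEE : ∀ y, E (E y) = E y := by
    intro y
    simp only [E, Matrix.toLin'_apply, Matrix.mulVec_mulVec, he.eq]
  let ι : LinearMap.range E →ₗ[R] (Fin n → R) := (LinearMap.range E).subtype
  let π : (Fin n → R) →ₗ[R] LinearMap.range E := E.rangeRestrict
  have hπι : π ∘ₗ ι = LinearMap.id := by
    ext ⟨x, y, rfl⟩ : 1
    apply Subtype.ext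
    exact hEE y
  refine ⟨LinearMap.range E, inferInstance, inferInstance,
    Module.Finite.of_surjective π E.surjective_rangeRestrict,
    Module.Projective.of_split ι π hπι, ?_⟩
  obtain ⟨ι₁, π₁, h₁, h₁'⟩ :=
    Groth.Agent.Lib.Helper20.EtProj.exists_baseChange_retract (S := R ⧸ I) ι π hπι
  refine ⟨Groth.Agent.Lib.Helper20.EtProj.equivOfRetracts ι₁ π₁ h₁ s r hrs ?_⟩
  apply (Pi.basisFun (R ⧸ I) (Fin n)).ext
  intro j
  ext i
  simp only [Pi.basisFun_apply, LinearMap.comp_apply]
  rw [h₁']
  have h3 := congr_fun (congr_fun hemap i) j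
  simp only [Matrix.map_apply] at h3
  have h4 : ι (π (Pi.single j 1)) i = e i j := by
    simp [ι, π, E, Matrix.toLin'_apply, Matrix.mulVec_single_one]
  have h5 : s (r (Pi.single j 1)) i = p i j := by
    simp [p, LinearMap.toMatrix'_apply]
  rw [h4, h5]
  exact h3

end Groth.Agent.S0534
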