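import Groth.Statements.S0535
import Mathlib

set_option autoImplicit false
universe u
open Hensel

namespace Groth.Agent.S0535

open TensorProduct in
lemma q_surj (R : Type u) [CommRing R] (I : Ideal R) (M : Type u) [AddCommGroup M] [Module R M] :
    Function.Surjective (TensorProduct.mk R (R ⧸ I) M 1) := by
  intro y
  obtain ⟨z, hz⟩ := Submodule.mkQ_surjective _ (quotTensorEquivQuotSMul M I y)
  refine ⟨z, ?_⟩
  apply (quotTensorEquivQuotSMul M I).injective
  rw [← hz]
  exact quotTensorEquivQuotSMul_mk_one_tmul I z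

open TensorProduct in
lemma q_ker (R : Type u) [CommRing R] (I : Ideal R) (M : Type u) [AddCommGroup M] [Module R M]
    (x : M) (hx : TensorProduct.mk R (R ⧸ I) M 1 x = 0) : x ∈ I • (⊤ : Submodule R M) := by
  have h1 : quotTensorEquivQuotSMul M I ((1 : R ⧸ I) ⊗ₜ[R] x) = 0 := by
    have : (1 : R ⧸ I) ⊗ₜ[R] x = 0 := hx
    rw [this, map_zero]
  rw [quotTensorEquivQuotSMul_mk_one_tmul] at h1
  exact (Submodule.Quotient.mk_eq_zero _).mp h1

/-- If `R` is Henselian at `I` and two finitely generated projective `R`-modules become isomorphic after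
base change to `R/I`, then they are isomorphic. -/
theorem result (R : Type u) [CommRing R] (I : Ideal R)
    [HenselianRing R I] (P₁ P₂ : Type u) [AddCommGroup P₁] [Module R P₁] [AddCommGroup P₂]
    [Module R P₂] [Module.Finite R P₁] [Module.Projective R P₁] [Module.Finite R P₂]
    [Module.Projective R P₂]
    (e : TensorProduct R (R ⧸ I) P₁ ≃ₗ[R ⧸ I] TensorProduct R (R ⧸ I) P₂) :
    Nonempty (P₁ ≃ₗ[R] P₂) := by
  have hjac : I ≤ Ideal.jacobson ⊥ := HenselianRing.jac
  let q₁ : P₁ →ₗ[R] TensorProduct R (R ⧸ I) P₁ := TensorProduct.mk R (R ⧸ I) P₁ 1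
  let q₂ : P₂ →ₗ[R] TensorProduct R (R ⧸ I) P₂ := TensorProduct.mk R (R ⧸ I) P₂ 1
  let eR : TensorProduct R (R ⧸ I) P₁ →ₗ[R] TensorProduct R (R ⧸ I) P₂ :=
    (e.toLinearMap).restrictScalars R
  obtain ⟨φ, hφ⟩ := Module.projective_lifting_property q₂ (eR ∘ₗ q₁) (q_surj R I P₂)
  have hφ' : ∀ x, q₂ (φ x) = e (q₁ x) := fun x => LinearMap.congr_fun hφ x
  -- surjectivity
  have hsurj : Function.Surjective φ := by
    have htop : (⊤ : Submodule R P₂) ≤ LinearMap.range φ := by
      apply Submodule.le_of_le_smul_of_le_jacobson_bot (I := I) Module.Finite.fg_top hjac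
      intro p₂ _
      obtain ⟨p₁, hp₁⟩ := q_surj R I P₁ (e.symm (q₂ p₂))
      have h1 : q₂ (p₂ - φ p₁) = 0 := by
        rw [map_sub, hφ', hp₁, LinearEquiv.apply_symm_apply, sub_self]
      have h2 := q_ker R I P₂ _ h1
      have h3 : p₂ = φ p₁ + (p₂ - φ p₁) := by abel
      rw [h3]
      exact Submodule.add_mem_sup ⟨p₁, rfl⟩ h2
    intro b
    obtain ⟨a, ha⟩ := htop (Submodule.mem_top (x := b))
    exact ⟨a, ha⟩
  -- injectivity
  obtain ⟨σ, hσ⟩ := Module.projective_lifting_property φ LinearMap.id hsurj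
  let π : P₁ →ₗ[R] P₁ := LinearMap.id - σ ∘ₗ φ
  let K : Submodule R P₁ := LinearMap.ker φ
  have hπK : ∀ x, π x ∈ K := by
    intro x
    show φ (π x) = 0
    have : φ (σ (φ x)) = φ x := LinearMap.congr_fun hσ (φ x)
    simp only [π, LinearMap.sub_apply, LinearMap.id_apply, LinearMap.comp_apply, map_sub, this,
      sub_self]
  have hπid : ∀ x ∈ K, π x = x := by
    intro x hx
    have : φ x = 0 := hx
    simp only [π, LinearMap.sub_apply, LinearMap.id_apply, LinearMap.comp_apply, this, map_zero,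
      sub_zero]
  have hKrange : K = LinearMap.range π := by
    apply le_antisymm
    · intro x hx; exact ⟨x, hπid x hx⟩
    · rintro _ ⟨x, rfl⟩; exact hπK x
  have hKfg : K.FG := by
    rw [hKrange, LinearMap.range_eq_map]
    exact Submodule.FG.map _ Module.Finite.fg_top
  have hKI : K ≤ I • K := by
    intro x hx
    have hx0 : φ x = 0 := hx
    have h1 : q₁ x = 0 := by
      apply e.injective
      rw [← hφ', hx0, map_zero, map_zero]
    have h2 : x ∈ I • (⊤ : Submodule R P₁) := q_ker R I P₁ x h1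
    have h3 : π x ∈ (I • (⊤ : Submodule R P₁)).map π := Submodule.mem_map_of_mem h2
    rw [Submodule.map_smul'', Submodule.map_top, ← hKrange, hπid x hx] at h3
    exact h3
  have hK0 : K = ⊥ := Submodule.eq_bot_of_le_smul_of_le_jacobson_bot I K hKfg hKI hjac
  have hinj : Function.Injective φ := by
    rw [← LinearMap.ker_eq_bot]; exact hK0
  exact ⟨LinearEquiv.ofBijective φ ⟨hinj, hsurj⟩⟩

end Groth.Agent.S0535
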