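import Groth.Statements.S0539
import Groth.Agent.Lib.Helper3ShG
import Mathlib

set_option autoImplicit false
universe u
open Hensel

namespace Groth.Agent.S0539

open IsLocalRing in

/-- A strict henselization S of a local ring R is a faithfully flat R-algebra. -/
theorem result (R : Type u) [CommRing R] [IsLocalRing R] (S : Type u) [CommRing S] [IsLocalRing S]
    [Algebra R S] [IsLocalHom (algebraMap R S)] [Hensel.IsStrictHenselization R S] :
    Module.FaithfullyFlat R S := by
  let Ω := SeparableClosure (ResidueField R)
  letI : Algebra R Ω := ((algebraMap (ResidueField R) Ω).comp (residue R)).toAlgebra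
  haveI : IsScalarTower R (ResidueField R) Ω := IsScalarTower.of_algebraMap_eq (fun _ => rfl)
  obtain ⟨e⟩ := Groth.Agent.Lib.Helper3.Sh.nonempty_algEquiv (R := R) (Ω := Ω) S
  exact Module.FaithfullyFlat.of_linearEquiv R (Groth.Agent.Lib.Helper3.Sh.Rsh R Ω)
    e.toLinearEquiv

end Groth.Agent.S0539
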