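import Groth.Statements.S0552
import Groth.Agent.Lib.Helper13Cat
-- import your own Groth.Agent.* helpers here

set_option autoImplicit false
universe u
open CAlg

namespace Groth.Agent.S0552

/-- A ring is catenary exactly when its localization at every maximal ideal is catenary. -/
theorem result (R : Type u) [CommRing R] :
    CAlg.IsCatenary R ↔ ∀ (m : Ideal R) [m.IsMaximal], CAlg.IsCatenary (Localization.AtPrime m) := by
  constructor
  · intro h m _
    exact Groth.Agent.Helper13Cat.isCatenary_of_isLocalization R m.primeCompl _ h
  · intro h
    refine Groth.Agent.Helper13Cat.isCatenary_of_cover ?_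
    intro P Q hPQ
    obtain ⟨m, hm, hQm⟩ := Ideal.exists_le_maximal Q.asIdeal Q.2.ne_top
    haveI := hm
    refine ⟨Localization.AtPrime m, inferInstance,
      Groth.Agent.Helper13Cat.embOfIsEmbedding (algebraMap R (Localization.AtPrime m))
        (PrimeSpectrum.localization_comap_isEmbedding _ m.primeCompl),
      Groth.Agent.Helper13Cat.ordConnected_range_localization R m.primeCompl _,
      h m, ?_, ?_⟩
    · refine (Groth.Agent.Helper13Cat.mem_range_localization_iff R m.primeCompl
        (Localization.AtPrime m) P).mpr ?_
      exact Set.disjoint_left.mpr (fun x hx hxP => hx (hQm (hPQ hxP)))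
    · refine (Groth.Agent.Helper13Cat.mem_range_localization_iff R m.primeCompl
        (Localization.AtPrime m) Q).mpr ?_
      exact Set.disjoint_left.mpr (fun x hx hxQ => hx (hQm hxQ))

end Groth.Agent.S0552
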