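import Groth.Statements.S0553
import Groth.Agent.Lib.Helper13Cat
import Groth.Agent.S9126
import Mathlib.RingTheory.RingHom.FiniteType
-- import your own Groth.Agent.* helpers here

set_option autoImplicit false
universe u
open CAlg

namespace Groth.Agent.S0553

/-- A Noetherian ring is universally catenary exactly when its localization at every maximal ideal is
universally catenary. -/
theorem result (R : Type u) [CommRing R]
    [IsNoetherianRing R] :
    CAlg.IsUniversallyCatenary R ↔
      ∀ (m : Ideal R) [m.IsMaximal], CAlg.IsUniversallyCatenary (Localization.AtPrime m) := by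
  constructor
  · intro h m _
    haveI : Algebra.EssFiniteType R (Localization.AtPrime m) :=
      Algebra.EssFiniteType.of_isLocalization (Localization.AtPrime m) m.primeCompl
    exact Groth.Agent.S9126.result R (Localization.AtPrime m) h
  · intro h
    refine ⟨inferInstance, ?_⟩
    intro S _ _ hS
    refine Groth.Agent.Helper13Cat.isCatenary_of_cover ?_
    intro P Q hPQ
    have hq : (Q.asIdeal.comap (algebraMap R S)) ≠ ⊤ := Ideal.comap_ne_top _ Q.2.ne_top
    obtain ⟨m, hm, hqm⟩ := Ideal.exists_le_maximal _ hq
    haveI := hm
    have hg : (IsLocalization.map (Localization ((m.primeCompl).map (algebraMap R S)))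
        (algebraMap R S) (Submonoid.le_comap_map m.primeCompl) :
        Localization.AtPrime m →+* Localization ((m.primeCompl).map (algebraMap R S))).FiniteType :=
      RingHom.finiteType_localizationPreserves (algebraMap R S) m.primeCompl
        (Localization.AtPrime m) (Localization ((m.primeCompl).map (algebraMap R S)))
        (RingHom.finiteType_algebraMap.mpr hS)
    have hcat : CAlg.IsCatenary (Localization ((m.primeCompl).map (algebraMap R S))) :=
      @(h m).2 (Localization ((m.primeCompl).map (algebraMap R S))) _ (RingHom.toAlgebra _) hg
    refine ⟨Localization ((m.primeCompl).map (algebraMap R S)), inferInstance,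
      Groth.Agent.Helper13Cat.embOfIsEmbedding
        (algebraMap S (Localization ((m.primeCompl).map (algebraMap R S))))
        (PrimeSpectrum.localization_comap_isEmbedding _ ((m.primeCompl).map (algebraMap R S))),
      Groth.Agent.Helper13Cat.ordConnected_range_localization S
        ((m.primeCompl).map (algebraMap R S)) _, hcat, ?_, ?_⟩
    · refine (Groth.Agent.Helper13Cat.mem_range_localization_iff S
        ((m.primeCompl).map (algebraMap R S)) _ P).mpr ?_
      refine Set.disjoint_left.mpr ?_
      rintro x ⟨r, hr, rfl⟩ hxP
      exact hr (hqm (hPQ hxP))
    · refine (Groth.Agent.Helper13Cat.mem_range_localization_iff S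
        ((m.primeCompl).map (algebraMap R S)) _ Q).mpr ?_
      refine Set.disjoint_left.mpr ?_
      rintro x ⟨r, hr, rfl⟩ hxQ
      exact hr (hqm hxQ)

end Groth.Agent.S0553
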