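import Groth.Statements.S0556
import Mathlib
-- import your own Groth.Agent.* helpers here

set_option autoImplicit false
universe u
open CAlg

namespace Groth.Agent.S0556.Aux

set_option autoImplicit false
open TensorProduct

namespace KA

section core
variable {R A : Type*} [CommRing R] [CommRing A] [Algebra R A]

lemma isArtinian_quot (a : R) [IsArtinianRing (R ⧸ Ideal.span {a})] (E : Type*) [AddCommGroup E]
    [Module R E] [Module.Finite R E] :
    IsArtinian R (E ⧸ (Ideal.span {a} • ⊤ : Submodule R E)) := by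
  have h1 : IsArtinian (R ⧸ Ideal.span {a}) ((R ⧸ Ideal.span {a}) ⊗[R] E) := inferInstance
  have h2 : IsArtinian R ((R ⧸ Ideal.span {a}) ⊗[R] E) :=
    isArtinian_of_surjective_algebraMap (R := R ⧸ Ideal.span {a}) Ideal.Quotient.mk_surjective
  exact isArtinian_of_linearEquiv (TensorProduct.quotTensorEquivQuotSMul E (Ideal.span {a}))

/-- stabilisation: there is `l` such that for `m ≥ l` every element of `E ∩ α^m A` is in
`(E ∩ α^(m+1) A) + a E`. -/
lemma exists_stab (a : R) [IsArtinianRing (R ⧸ Ideal.span {a})] (E : Submodule R A) (hE : E.FG) :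
    ∃ l : ℕ, ∀ m, l ≤ m → ∀ e ∈ E, (∃ y : A, e = algebraMap R A a ^ m * y) →
      ∃ y' : A, ∃ e' ∈ E, algebraMap R A a ^ (m + 1) * y' ∈ E ∧
        e = algebraMap R A a ^ (m + 1) * y' + a • e' := by
  classical
  haveI : Module.Finite R E := Module.Finite.iff_fg.mpr hE
  haveI := isArtinian_quot a E
  set α := algebraMap R A a with hα
  let Q := E ⧸ (Ideal.span {a} • ⊤ : Submodule R E)
  let f : ℕ → Submodule R Q := fun n =>
    Submodule.map (Submodule.mkQ _) (Submodule.comap E.subtype ((Ideal.span {α ^ n}).restrictScalars R))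
  have hf : Antitone f := by
    intro n m hnm
    apply Submodule.map_mono
    apply Submodule.comap_mono
    intro x hx
    simp only [Submodule.restrictScalars_mem, Ideal.mem_span_singleton'] at hx ⊢
    obtain ⟨y, rfl⟩ := hx
    exact ⟨y * α ^ (m - n), by rw [mul_assoc, ← pow_add, Nat.sub_add_cancel hnm]⟩
  obtain ⟨l, hl⟩ := IsArtinian.monotone_stabilizes (R := R) (M := Q) ⟨fun n => OrderDual.toDual (f n), fun n m h => hf h⟩
  refine ⟨l, fun m hm e he ⟨y, hy⟩ => ?_⟩
  have h1 : f m = f (m + 1) := by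
    have e1 := hl m hm
    have e2 := hl (m + 1) (by omega)
    exact (OrderDual.toDual.injective (e1.symm.trans e2))
  have hmem : Submodule.mkQ _ (⟨e, he⟩ : E) ∈ f m := by
    refine Submodule.mem_map_of_mem ?_
    simp only [Submodule.mem_comap, Submodule.subtype_apply, Submodule.restrictScalars_mem,
      Ideal.mem_span_singleton']
    exact ⟨y, by rw [hy, mul_comm]⟩
  rw [h1] at hmem
  obtain ⟨e2, he2, he2'⟩ := hmem
  simp only [SetLike.mem_coe, Submodule.mem_comap, Submodule.subtype_apply, Submodule.restrictScalars_mem,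
      Ideal.mem_span_singleton'] at he2
  obtain ⟨y', hy'⟩ := he2
  have hd : (⟨e, he⟩ : E) - e2 ∈ (Ideal.span {a} • ⊤ : Submodule R E) := by
    rw [← Submodule.Quotient.eq]
    exact he2'.symm
  rw [Submodule.ideal_span_singleton_smul] at hd
  obtain ⟨e', -, he'⟩ := (Submodule.mem_smul_pointwise_iff_exists _ _ _).mp hd
  refine ⟨y', e'.1, e'.2, ?_, ?_⟩
  · rw [mul_comm, hy']; exact e2.2
  · have := congrArg Subtype.val he'
    simp only [Submodule.coe_smul, Submodule.coe_sub] at this
    rw [mul_comm, hy', this]; ring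

/-- the key containment `α^l A ⊆ α^(l+1) A + E`. -/
lemma exists_level [IsDomain A] (a : R) (ha : algebraMap R A a ≠ 0)
    [IsArtinianRing (R ⧸ Ideal.span {a})] (E : Submodule R A) (hE : E.FG)
    (H2 : ∀ x : A, ∃ m : ℕ, ∃ y : A, ∃ e ∈ E,
      algebraMap R A a ^ m * x = algebraMap R A a ^ (m + 1) * y + e) :
    ∃ l : ℕ, ∀ x : A, ∃ y : A, ∃ e ∈ E,
      algebraMap R A a ^ l * x = algebraMap R A a ^ (l + 1) * y + e := by
  obtain ⟨l, hl⟩ := exists_stab a E hE
  set α := algebraMap R A a with hα
  refine ⟨l, fun x => ?_⟩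
  -- upward closed
  have up : ∀ m, (∃ y : A, ∃ e ∈ E, α ^ m * x = α ^ (m + 1) * y + e) →
      ∃ y : A, ∃ e ∈ E, α ^ (m + 1) * x = α ^ (m + 1 + 1) * y + e := by
    rintro m ⟨y, e, he, h⟩
    refine ⟨y, a • e, E.smul_mem a he, ?_⟩
    rw [pow_succ, mul_assoc, mul_comm α x, ← mul_assoc, h, Algebra.smul_def, ← hα]; ring
  have down : ∀ m, l ≤ m → (∃ y : A, ∃ e ∈ E, α ^ (m + 1) * x = α ^ (m + 1 + 1) * y + e) →
      ∃ y : A, ∃ e ∈ E, α ^ m * x = α ^ (m + 1) * y + e := by
    rintro m hm ⟨y, e, he, h⟩
    obtain ⟨y', e', he', -, h'⟩ := hl (m + 1) (by omega) e he ⟨x - α * y, by rw [mul_sub, h]; ring⟩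
    refine ⟨y + y', e', he', ?_⟩
    have : α * (α ^ m * x) = α * (α ^ (m + 1) * (y + y') + e') := by
      rw [← mul_assoc, ← pow_succ', h, h', Algebra.smul_def, ← hα]; ring
    exact mul_left_cancel₀ ha this
  obtain ⟨m, hm⟩ := H2 x
  -- go up to max m l then down to l
  have upto : ∀ k, ∃ y : A, ∃ e ∈ E, α ^ (m + k) * x = α ^ (m + k + 1) * y + e := by
    intro k
    induction k with
    | zero => exact hm
    | succ k ih => exact up _ ih
  have downto : ∀ j, (∃ y : A, ∃ e ∈ E, α ^ (l + j) * x = α ^ (l + j + 1) * y + e) →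
      ∃ y : A, ∃ e ∈ E, α ^ l * x = α ^ (l + 1) * y + e := by
    intro j
    induction j with
    | zero => exact fun h => h
    | succ j ih => exact fun h => ih (down (l + j) (by omega) h)
  apply downto m
  have := upto l
  rwa [add_comm m l] at this

lemma ideal_fg [IsDomain A] [IsNoetherianRing R] (a : R) (ha : algebraMap R A a ≠ 0)
    (E : Submodule R A) (hE : E.FG) (l : ℕ)
    (hl : ∀ x : A, ∃ y : A, ∃ e ∈ E,
      algebraMap R A a ^ l * x = algebraMap R A a ^ (l + 1) * y + e)
    (I : Ideal A) (haI : algebraMap R A a ∈ I) : I.FG := by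
  classical
  set α := algebraMap R A a with hα
  have memJ : ∀ (I' : Ideal A) (x : A), x ∈ Ideal.span {α ^ l} * I' ⊔ Ideal.span {α ^ (l + 1)} ↔
      ∃ i ∈ I', ∃ y, x = α ^ l * i + α ^ (l + 1) * y := by
    intro I' x
    simp only [Submodule.mem_sup, Ideal.mem_span_singleton_mul, Ideal.mem_span_singleton']
    constructor
    · rintro ⟨_, ⟨i, hi, rfl⟩, _, ⟨y, rfl⟩, rfl⟩
      exact ⟨i, hi, y, by ring⟩
    · rintro ⟨i, hi, y, rfl⟩
      exact ⟨_, ⟨i, hi, rfl⟩, _, ⟨y, rfl⟩, by ring⟩
  let N : Submodule R A := E ⊓ (Ideal.span {α ^ l} * I ⊔ Ideal.span {α ^ (l + 1)}).restrictScalars R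
  have hN : N.FG := by
    haveI : IsNoetherian R E := isNoetherian_of_fg_of_noetherian E hE
    exact (isNoetherian_submodule.mp this) N inf_le_left
  obtain ⟨t, ht⟩ := hN
  have key : ∀ n ∈ t, ∃ i ∈ I, ∃ y, n = α ^ l * i + α ^ (l + 1) * y := fun n hn =>
    (memJ I n).mp (by
      have : n ∈ N := ht ▸ Submodule.subset_span hn
      exact this.2)
  choose! i hi y hy using key
  refine ⟨insert α (t.image i), ?_⟩
  set I' := Ideal.span ((insert α (t.image i) : Finset A) : Set A) with hI'
  apply le_antisymm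
  · rw [hI', Ideal.span_le]
    intro z hz
    simp only [Finset.coe_insert, Finset.coe_image, Set.mem_insert_iff, Set.mem_image,
      Finset.mem_coe] at hz
    rcases hz with rfl | ⟨n, hn, rfl⟩
    · exact haI
    · exact hi n hn
  · intro x hx
    obtain ⟨y0, e, he, h⟩ := hl x
    have heJ : e ∈ Ideal.span {α ^ l} * I ⊔ Ideal.span {α ^ (l + 1)} :=
      (memJ I e).mpr ⟨x, hx, -y0, by rw [h]; ring⟩
    have heN : e ∈ N := ⟨he, heJ⟩
    rw [← ht] at heN
    have h2 : e ∈ (Ideal.span {α ^ l} * I' ⊔ Ideal.span {α ^ (l + 1)}).restrictScalars R := by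
      refine Submodule.span_le.mpr ?_ heN
      intro n hn
      refine (memJ I' n).mpr ⟨i n, Ideal.subset_span ?_, y n, hy n hn⟩
      simp only [Finset.coe_insert, Finset.coe_image, Set.mem_insert_iff, Set.mem_image,
        Finset.mem_coe]
      exact Or.inr ⟨n, hn, rfl⟩
    obtain ⟨i', hi', y', h'⟩ := (memJ I' e).mp h2
    have h3 : α ^ l * x = α ^ l * (α * (y0 + y') + i') := by rw [h, h']; ring
    have h4 := mul_left_cancel₀ (pow_ne_zero l ha) h3
    rw [h4]
    refine I'.add_mem (I'.mul_mem_right _ (Ideal.subset_span ?_)) hi'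
    simp

end core

section assembly


lemma clear_denoms (R K L : Type*) [CommRing R] [IsDomain R] [Field K] [Field L] [Algebra R K]
    [IsFractionRing R K] [Algebra K L] [Algebra R L] [IsScalarTower R K L] (t : Set L) (z : L)
    (hz : z ∈ Submodule.span K t) : ∃ c : R, c ≠ 0 ∧ c • z ∈ Submodule.span R t := by
  induction hz using Submodule.span_induction with
  | mem x hx => exact ⟨1, one_ne_zero, by rw [one_smul]; exact Submodule.subset_span hx⟩
  | zero => exact ⟨1, one_ne_zero, by simp⟩
  | add x y _ _ hx hy =>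
    obtain ⟨c, hc, hcx⟩ := hx
    obtain ⟨d, hd, hdy⟩ := hy
    refine ⟨c * d, mul_ne_zero hc hd, ?_⟩
    rw [smul_add]
    refine Submodule.add_mem _ ?_ ?_
    · rw [mul_comm, mul_smul]; exact Submodule.smul_mem _ _ hcx
    · rw [mul_smul]; exact Submodule.smul_mem _ _ hdy
  | smul k x _ hx =>
    obtain ⟨c, hc, hcx⟩ := hx
    obtain ⟨r, d, hd, rfl⟩ := IsFractionRing.div_surjective (A := R) k
    have hd0 : d ≠ 0 := nonZeroDivisors.ne_zero hd
    refine ⟨d * c, mul_ne_zero hd0 hc, ?_⟩
    have : (d * c) • ((algebraMap R K r / algebraMap R K d) • x) = r • (c • x) := by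
      have hdK : algebraMap R K d ≠ 0 := by
        simpa using (IsFractionRing.injective R K).ne hd0
      rw [mul_smul, ← algebraMap_smul K d, ← algebraMap_smul K c, ← algebraMap_smul K r,
        ← algebraMap_smul K c]
      simp only [smul_smul]
      congr 1
      field_simp
    rw [this]
    exact Submodule.smul_mem _ _ hcx

theorem main (R : Type u) [CommRing R]
    [IsDomain R] [IsNoetherianRing R] (hdim : ringKrullDim R = 1) (K L : Type u) [Field K] [Field L]
    [Algebra R K] [IsFractionRing R K] [Algebra K L] [FiniteDimensional K L] [Algebra R L]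
    [IsScalarTower R K L] (A : Type u) [CommRing A] [Algebra R A] [Algebra A L]
    [IsScalarTower R A L] (hA : Function.Injective (algebraMap A L)) :
    IsNoetherianRing A := by
  classical
  haveI : IsDomain A := hA.isDomain (algebraMap A L)
  have hRL : Function.Injective (algebraMap R L) := by
    rw [IsScalarTower.algebraMap_eq R K L]
    exact (algebraMap K L).injective.comp (IsFractionRing.injective R K)
  have hRA : Function.Injective (algebraMap R A) := by
    have : Function.Injective ((algebraMap A L).comp (algebraMap R A)) := by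
      rw [← IsScalarTower.algebraMap_eq R A L]; exact hRL
    exact Function.Injective.of_comp this
  -- Artinian quotients
  haveI hd1 : Ring.KrullDimLE 1 R := Ring.krullDimLE_iff.mpr hdim.le
  have hart : ∀ c : R, c ≠ 0 → IsArtinianRing (R ⧸ Ideal.span {c}) := by
    intro c hc
    refine isArtinianRing_iff_isNoetherianRing_krullDimLE_zero.mpr ⟨inferInstance, ?_⟩
    refine Ring.KrullDimLE.mk₀ fun P hP => ?_
    have hsurj : Function.Surjective (Ideal.Quotient.mk (Ideal.span {c})) :=
      Ideal.Quotient.mk_surjective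
    have hcP : P.comap (Ideal.Quotient.mk (Ideal.span {c})) ≠ ⊥ := by
      intro h
      have : c ∈ P.comap (Ideal.Quotient.mk (Ideal.span {c})) := by
        rw [Ideal.mem_comap]
        have : Ideal.Quotient.mk (Ideal.span {c}) c = 0 :=
          Ideal.Quotient.eq_zero_iff_mem.mpr (Ideal.mem_span_singleton_self c)
        rw [this]; exact P.zero_mem
      rw [h] at this
      exact hc (by simpa using this)
    have hmax : (P.comap (Ideal.Quotient.mk (Ideal.span {c}))).IsMaximal :=
      Ideal.IsPrime.isMaximal_of_ne_bot (Ideal.comap_isPrime _ P) hcP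
    rcases Ideal.map_eq_top_or_isMaximal_of_surjective _ hsurj hmax with h | h
    · rw [Ideal.map_comap_of_surjective _ hsurj] at h
      exact absurd h hP.ne_top
    · rwa [Ideal.map_comap_of_surjective _ hsurj] at h
  -- the finitely generated submodule
  let φ : A →ₗ[R] L := (IsScalarTower.toAlgHom R A L).toLinearMap
  have hφ : ∀ x, φ x = algebraMap A L x := fun x => rfl
  obtain ⟨t, htr, hts⟩ := (Submodule.fg_span_iff_fg_span_finset_subset
    (Set.range (algebraMap A L))).mp (IsNoetherian.noetherian (Submodule.span K (Set.range (algebraMap A L))))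
  have hpre : ∀ z ∈ t, ∃ x : A, algebraMap A L x = z := fun z hz => htr hz
  choose! g hg using hpre
  let E : Submodule R A := Submodule.span R ((t.image g : Finset A) : Set A)
  have hEfg : E.FG := ⟨t.image g, rfl⟩
  have hEmap : Submodule.map φ E = Submodule.span R (t : Set L) := by
    rw [Submodule.map_span]
    congr 1
    ext z
    simp only [Finset.coe_image, Set.mem_image, Finset.mem_coe, exists_exists_and_eq_and]
    constructor
    · rintro ⟨w, hw, rfl⟩; rw [hφ, hg w hw]; exact hw
    · intro hz; exact ⟨z, hz, by rw [hφ, hg z hz]⟩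
  have hE : ∀ x : A, ∃ c : R, c ≠ 0 ∧ c • x ∈ E := by
    intro x
    have hx : algebraMap A L x ∈ Submodule.span K (t : Set L) := by
      rw [← hts]; exact Submodule.subset_span ⟨x, rfl⟩
    obtain ⟨c, hc, hcx⟩ := clear_denoms R K L _ _ hx
    refine ⟨c, hc, ?_⟩
    rw [← hEmap] at hcx
    obtain ⟨w, hw, hwe⟩ := hcx
    have : w = c • x := by
      apply hA
      show φ w = φ (c • x)
      rw [hwe, map_smul, hφ]
    rwa [← this]
  -- ideals
  rw [isNoetherianRing_iff_ideal_fg]
  intro I
  by_cases hI : I = ⊥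
  · rw [hI]; exact Submodule.fg_bot
  obtain ⟨b, hbI, hb0⟩ := Submodule.exists_mem_ne_zero_of_ne_bot hI
  have hbalg : IsAlgebraic R b := by
    rw [← isAlgebraic_algebraMap_iff (A := L) hA, IsFractionRing.isAlgebraic_iff R K L]
    exact Algebra.IsAlgebraic.isAlgebraic _
  have hne := Ideal.comap_ne_bot_of_algebraic_mem hb0 hbI hbalg
  obtain ⟨a, haI, ha0⟩ := Submodule.exists_mem_ne_zero_of_ne_bot hne
  rw [Ideal.mem_comap] at haI
  haveI := hart a ha0
  have haA : algebraMap R A a ≠ 0 := fun h => ha0 (hRA (by rw [h, map_zero]))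
  have H2 : ∀ x : A, ∃ m : ℕ, ∃ y : A, ∃ e ∈ E,
      algebraMap R A a ^ m * x = algebraMap R A a ^ (m + 1) * y + e := by
    intro x
    obtain ⟨c, hc, hcx⟩ := hE x
    haveI := hart c hc
    obtain ⟨n, y, hy⟩ := IsArtinian.exists_pow_succ_smul_dvd
      (Ideal.Quotient.mk (Ideal.span {c}) a) (1 : R ⧸ Ideal.span {c})
    obtain ⟨r, rfl⟩ := Ideal.Quotient.mk_surjective y
    rw [smul_eq_mul, smul_eq_mul, mul_one, ← map_pow, ← map_pow, ← map_mul,
      Ideal.Quotient.eq, Ideal.mem_span_singleton'] at hy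
    obtain ⟨s, hs⟩ := hy
    refine ⟨n, r • x, (-s) • (c • x), E.smul_mem (-s) hcx, ?_⟩
    simp only [Nat.succ_eq_add_one] at hs
    have h1 : a ^ n = a ^ (n + 1) * r + (-s) * c := by linear_combination hs
    rw [← map_pow, h1]
    simp only [Algebra.smul_def, map_add, map_neg, map_mul, map_pow]
    ring
  obtain ⟨l, hl⟩ := exists_level a haA E hEfg H2
  exact ideal_fg a haA E hEfg l hl I haI

end assembly

end KA

end Groth.Agent.S0556.Aux

namespace Groth.Agent.S0556

/-- Any domain `A` sandwiched between a one-dimensional Noetherian domain `R` and a field `L` of finite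
degree over the fraction field of `R` is itself Noetherian. -/
theorem result (R : Type u) [CommRing R]
    [IsDomain R] [IsNoetherianRing R] (hdim : ringKrullDim R = 1) (K L : Type u) [Field K] [Field L]
    [Algebra R K] [IsFractionRing R K] [Algebra K L] [FiniteDimensional K L] [Algebra R L]
    [IsScalarTower R K L] (A : Type u) [CommRing A] [Algebra R A] [Algebra A L]
    [IsScalarTower R A L] (hA : Function.Injective (algebraMap A L)) :
    IsNoetherianRing A := by
  exact Aux.KA.main R hdim K L A hA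

end Groth.Agent.S0556
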