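import Groth.Statements.S0567
import Mathlib
import Groth.Agent.Lib.Helper7NagM

set_option autoImplicit false
universe u
open CAlg

namespace Groth.Agent.S0567

/-- A ring is Nagata exactly when it is Noetherian and universally Japanese. -/
theorem result (R : Type u) [CommRing R] :
    CAlg.IsNagata R ↔ (IsNoetherianRing R ∧ CAlg.IsUniversallyJapanese R) := by
  constructor
  · intro hR
    exact ⟨hR.1, Groth.Agent.Lib.Helper7.NagM.isUniversallyJapanese_of_isNagata R hR⟩
  · rintro ⟨hN, hUJ⟩
    refine ⟨hN, fun p hp => ?_⟩
    exact hUJ (R ⧸ p) (Algebra.FiniteType.of_surjective (Algebra.ofId R (R ⧸ p))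
      Ideal.Quotient.mk_surjective)


end Groth.Agent.S0567
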