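import Groth.Statements.S0574
import Groth.Agent.Lib.Helper14Japanese

set_option autoImplicit false
universe u
open CAlg

namespace Groth.Agent.S0574

/-- For Noetherian domains of characteristic zero the conditions N-1 and N-2 coincide. -/
theorem result (R : Type u) [CommRing R] [IsDomain R] [IsNoetherianRing R]
    [CharZero R] : CAlg.IsN1 R ↔ CAlg.IsN2 R := by
  exact ⟨Groth.Agent.Lib.Helper14.isN2_of_isN1_of_charZero R, fun h => Groth.Agent.Lib.Helper14.IsN2.isN1 h⟩

end Groth.Agent.S0574
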