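import Groth.Statements.S0577
import Mathlib
import Groth.Agent.Lib.Helper28AUMain
import Groth.Agent.Lib.Helper28AUTensor
-- import your own Groth.Agent.* helpers here

set_option autoImplicit false
universe u
open CAlg

namespace Groth.Agent.S0577
open IsLocalRing TensorProduct

/-- Let `A` be a Noetherian local domain of prime characteristic `p` which is a Nagata ring. If `a ∈ A`
has a `p`-th root in the completion of `A`, then it has a `p`-th root in `A`. -/
theorem result (A : Type u) [CommRing A] [IsDomain A]
    [IsLocalRing A] (hA : CAlg.IsNagata A) (p : ℕ) [Fact p.Prime] [CharP A p] (a : A)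
    (h : ∃ α : AdicCompletion (IsLocalRing.maximalIdeal A) A,
      α ^ p = algebraMap A (AdicCompletion (IsLocalRing.maximalIdeal A) A) a) :
    ∃ b : A, b ^ p = a := by
  haveI := hA.1
  obtain ⟨α, hα⟩ := h
  have hp : p.Prime := Fact.out
  obtain ⟨y, hy⟩ : ∃ y : AlgebraicClosure (FractionRing A),
      y ^ p = algebraMap A (AlgebraicClosure (FractionRing A)) a :=
    IsAlgClosed.exists_pow_nat_eq _ hp.pos
  have hyint : IsIntegral A y := IsIntegral.of_pow hp.pos (hy ▸ isIntegral_algebraMap)
  haveI hfin : Module.Finite A (Algebra.adjoin A {y}) :=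
    Algebra.finite_adjoin_simple_of_isIntegral hyint
  have hB : IsNagata (Algebra.adjoin A {y}) :=
    Groth.Agent.Lib.Helper28.isNagata_of_finite A _ hA
  haveI := hB.1
  haveI hT : IsReduced (AdicCompletion (maximalIdeal A) A ⊗[A] (Algebra.adjoin A {y})) := by
    apply Groth.Agent.Lib.Helper28.isReduced_tensor_adicCompletion_of_finite
    intro P hP
    exact Groth.Agent.Lib.Helper28.isReduced_adicCompletion_of_isNagata (Localization.AtPrime P)
      (Groth.Agent.Lib.Helper14.isNagata_of_isLocalization _ P.primeCompl _ hB)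
  have hinjAL : Function.Injective (algebraMap A (AlgebraicClosure (FractionRing A))) := by
    rw [IsScalarTower.algebraMap_eq A (FractionRing A) (AlgebraicClosure (FractionRing A))]
    exact (algebraMap (FractionRing A) _).injective.comp (IsFractionRing.injective A _)
  have hinjAB : Function.Injective (algebraMap A (Algebra.adjoin A {y})) := by
    intro u v huv
    apply hinjAL
    exact congrArg Subtype.val huv
  -- characteristic `p` on the tensor product
  have hinjAT : Function.Injective (algebraMap A
      (AdicCompletion (maximalIdeal A) A ⊗[A] (Algebra.adjoin A {y}))) := by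
    have h1 : Function.Injective (algebraMap A (AdicCompletion (maximalIdeal A) A)) :=
      AdicCompletion.of_injective _ _
    have h2 : Function.Injective (algebraMap (AdicCompletion (maximalIdeal A) A)
        (AdicCompletion (maximalIdeal A) A ⊗[A] (Algebra.adjoin A {y}))) :=
      Algebra.TensorProduct.includeLeft_injective (S := AdicCompletion (maximalIdeal A) A) hinjAB
    rw [IsScalarTower.algebraMap_eq A (AdicCompletion (maximalIdeal A) A)]
    exact h2.comp h1
  haveI : CharP (AdicCompletion (maximalIdeal A) A ⊗[A] (Algebra.adjoin A {y})) p :=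
    charP_of_injective_algebraMap hinjAT p
  obtain ⟨yB, hyB⟩ : ∃ yB : Algebra.adjoin A {y}, (yB : AlgebraicClosure (FractionRing A)) = y :=
    ⟨⟨y, Algebra.subset_adjoin rfl⟩, rfl⟩
  have hyBp : yB ^ p = algebraMap A _ a := by
    apply Subtype.ext
    rw [SubmonoidClass.coe_pow, hyB, hy]
    rfl
  have hβ : (α ⊗ₜ[A] (1 : Algebra.adjoin A {y}) -
      (1 : AdicCompletion (maximalIdeal A) A) ⊗ₜ[A] yB) ^ p = 0 := by
    rw [sub_pow_char, Algebra.TensorProduct.tmul_pow, Algebra.TensorProduct.tmul_pow, one_pow,
      one_pow, hα, hyBp, Algebra.algebraMap_eq_smul_one, Algebra.algebraMap_eq_smul_one,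
      TensorProduct.smul_tmul, sub_self]
  have hβ0 : α ⊗ₜ[A] (1 : Algebra.adjoin A {y}) =
      (1 : AdicCompletion (maximalIdeal A) A) ⊗ₜ[A] yB :=
    sub_eq_zero.mp (IsReduced.eq_zero _ ⟨p, hβ⟩)
  -- faithful flatness
  haveI : Module.FaithfullyFlat A (AdicCompletion (maximalIdeal A) A) :=
    Module.FaithfullyFlat.of_flat_of_isLocalHom
  let N : Submodule A (Algebra.adjoin A {y}) := LinearMap.range (Algebra.linearMap A _)
  have h1 : (LinearMap.lTensor (AdicCompletion (maximalIdeal A) A) N.mkQ)
      ((1 : AdicCompletion (maximalIdeal A) A) ⊗ₜ[A] yB) = 0 := by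
    rw [← hβ0, LinearMap.lTensor_tmul]
    have : N.mkQ (1 : Algebra.adjoin A {y}) = 0 := by
      rw [Submodule.mkQ_apply, Submodule.Quotient.mk_eq_zero]
      exact ⟨1, by simp⟩
    rw [this, TensorProduct.tmul_zero]
  rw [LinearMap.lTensor_tmul] at h1
  have h2 : N.mkQ yB = 0 :=
    Module.FaithfullyFlat.tensorProduct_mk_injective (A := A)
      (B := AdicCompletion (maximalIdeal A) A) _ (by
        rw [TensorProduct.mk_apply, h1, map_zero])
  rw [Submodule.mkQ_apply, Submodule.Quotient.mk_eq_zero] at h2
  obtain ⟨b, hb⟩ := h2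
  refine ⟨b, hinjAL ?_⟩
  rw [map_pow, ← hy, ← hyB, ← hb]
  rfl

end Groth.Agent.S0577
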