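import Groth.Statements.S0579
import Groth.Agent.Lib.Helper2CoeffField

set_option autoImplicit false
universe u
open CAlg

namespace Groth.Agent.S0579

/-- A local ring which is complete with respect to its maximal ideal and whose residue field has
characteristic zero admits a coefficient field: there is a ring homomorphism from the residue field
to the ring which is a section of the residue map. -/
theorem result (R : Type u) [CommRing R] [IsLocalRing R]
    [IsAdicComplete (IsLocalRing.maximalIdeal R) R] [CharZero (IsLocalRing.ResidueField R)] :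
    ∃ s : IsLocalRing.ResidueField R →+* R, (IsLocalRing.residue R).comp s = RingHom.id _ := by
  classical
  open IsLocalRing in
  -- R is henselian local
  have hHR : HenselianRing R (maximalIdeal R) := inferInstance
  have hH : HenselianLocalRing R := by
    refine { (inferInstance : IsLocalRing R) with is_henselian := ?_ }
    intro f hf a₀ h₁ h₂
    exact hHR.is_henselian f hf a₀ h₁ (h₂.map _)
  set K := ResidueField R with hK
  have hfaith : @FaithfulSMul ℤ K Algebra.toSMul := by
    apply (faithfulSMul_iff_algebraMap_injective ℤ K).mpr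
    intro a b hab
    rw [eq_intCast, eq_intCast] at hab
    exact Int.cast_injective hab
  obtain ⟨B, hB⟩ := exists_isTranscendenceBasis ℤ K
  let x : B → K := fun b => (b : K)
  have hxind : AlgebraicIndependent ℤ x := hB.1
  let A₀ := MvPolynomial B ℤ
  let φ₀ : A₀ →+* K := (MvPolynomial.aeval x : A₀ →ₐ[ℤ] K)
  have hφ₀inj : Function.Injective φ₀ := algebraicIndependent_iff_injective_aeval.1 hxind
  -- lift the basis
  have hlift : ∀ b : B, ∃ y : R, residue R y = x b := fun b => residue_surjective _
  choose y hy using hlift
  let ψ₀ : A₀ →+* R := MvPolynomial.eval₂Hom (Int.castRingHom R) y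
  have hψφ : (residue R).comp ψ₀ = φ₀ := by
    apply MvPolynomial.ringHom_ext
    · intro n; simp [ψ₀, φ₀]
    · intro b; simp [ψ₀, φ₀, hy]
  let k := FractionRing A₀
  have hunits : ∀ p : nonZeroDivisors A₀, IsUnit (ψ₀ p) := by
    intro p
    by_contra hnu
    have h1 : ψ₀ p ∈ maximalIdeal R := by rwa [mem_maximalIdeal, mem_nonunits_iff]
    have h2 : residue R (ψ₀ p) = 0 := (residue_eq_zero_iff _).mpr h1
    have h3 : φ₀ p = 0 := by rw [← hψφ]; exact h2
    have h4 : (p : A₀) = 0 := hφ₀inj (by rw [h3, map_zero])
    exact nonZeroDivisors.coe_ne_zero p h4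
  let ι : k →+* R := IsLocalization.lift (M := nonZeroDivisors A₀) (g := ψ₀) hunits
  have hunits' : ∀ p : nonZeroDivisors A₀, IsUnit (φ₀ p) := by
    intro p
    apply IsUnit.mk0
    intro h3
    have h4 : (p : A₀) = 0 := hφ₀inj (by rw [h3, map_zero])
    exact nonZeroDivisors.coe_ne_zero p h4
  let j : k →+* K := IsLocalization.lift (M := nonZeroDivisors A₀) (g := φ₀) hunits'
  let _ : Algebra k K := j.toAlgebra
  have hρι : (residue R).comp ι = algebraMap k K := by
    apply IsLocalization.ringHom_ext (nonZeroDivisors A₀)
    rw [RingHom.comp_assoc, IsLocalization.lift_comp, hψφ]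
    show φ₀ = j.comp _
    rw [IsLocalization.lift_comp]
  -- K is algebraic over k
  have halg0 : Algebra.IsAlgebraic (Algebra.adjoin ℤ (Set.range x)) K := hB.isAlgebraic
  let θ : Algebra.adjoin ℤ (Set.range x) →+* k :=
    (algebraMap A₀ k).comp (hxind.aevalEquiv.symm : Algebra.adjoin ℤ (Set.range x) →+* A₀)
  have hθinj : Function.Injective θ := by
    apply Function.Injective.comp (IsFractionRing.injective A₀ k)
    exact hxind.aevalEquiv.symm.injective
  have halg : Algebra.IsAlgebraic k K := by
    apply Algebra.IsAlgebraic.ringHom_of_comp_eq (R := Algebra.adjoin ℤ (Set.range x)) (A := K)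
      θ (RingHom.id K) hθinj (fun a => ⟨a, rfl⟩)
    ext z
    obtain ⟨p, rfl⟩ := hxind.aevalEquiv.surjective z
    show j (algebraMap A₀ k (hxind.aevalEquiv.symm (hxind.aevalEquiv p))) = _
    rw [AlgEquiv.symm_apply_apply]
    have : j (algebraMap A₀ k p) = φ₀ p := IsLocalization.lift_eq hunits' p
    rw [this]
    rfl
  have hchar : CharZero k := RingHom.charZero j
  have hsep : Algebra.IsSeparable k K := inferInstance
  obtain ⟨σ, hσ, -⟩ := Groth.Agent.Lib.Helper2.exists_coefficient_ringHom (k := k) (K := K) R ι
    (residue R) residue_surjective hρι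
  exact ⟨σ, RingHom.ext hσ⟩

end Groth.Agent.S0579
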