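import Groth.Statements.S0594
-- import your own Groth.Agent.* helpers here
import Mathlib
import Groth.Agent.Lib.Helper26LimDescend
import Groth.Agent.S9200

set_option autoImplicit false
universe u
open CategoryTheory AlgebraicGeometry
open Lim

namespace Groth.Agent.S0594

open Limits Groth.Agent.Lib.Helper26.LimDescend

/-- Affine case: a cofiltered system of affine schemes over an affine scheme `W` with
closed-immersion transitions, locally of finite type over `W`; if the limit is a closed subscheme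
of `W` then so is a stage. -/
theorem exists_isClosedImmersion_of_affine {J : Type u} [SmallCategory J] [IsCofiltered J]
    (E : J ⥤ Scheme.{u}) [∀ j, IsAffine (E.obj j)]
    (hE : ∀ {j k : J} (a : j ⟶ k), IsClosedImmersion (E.map a))
    {W : Scheme.{u}} [IsAffine W] (s : E ⟶ (Functor.const J).obj W) (cE : Cone E)
    (hcE : IsLimit cE) (j₁ : J) [LocallyOfFiniteType (s.app j₁)]
    [IsClosedImmersion (cE.π.app j₁ ≫ s.app j₁)] :
    ∃ j : Over j₁, IsClosedImmersion (s.app j.left) := by
  classical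
  have hWa : ∀ j, IsAffine (((Functor.const J).obj W).obj j) := fun _ => ‹IsAffine W›
  have : IsAffine cE.pt := Scheme.isAffine_of_isLimit _ hcE
  obtain ⟨-, hsurj⟩ := IsClosedImmersion.isAffine_surjective_of_isAffine (cE.π.app j₁ ≫ s.app j₁)
  have hnat : ∀ {j k : J} (a : j ⟶ k), E.map a ≫ s.app k = s.app j := fun a => by
    have := s.naturality a
    simp only [Functor.const_obj_obj, Functor.const_obj_map, Category.comp_id] at this
    exact this
  have hft : (r (s.app j₁)).FiniteType :=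
    (HasRingHomProperty.iff_of_isAffine (P := @LocallyOfFiniteType)).mp inferInstance
  let _ : Algebra Γ(W, ⊤) Γ(E.obj j₁, ⊤) := (r (s.app j₁)).toAlgebra
  obtain ⟨G₁, hG₁⟩ : ∃ s : Finset Γ(E.obj j₁, ⊤),
      Algebra.adjoin Γ(W, ⊤) (s : Set Γ(E.obj j₁, ⊤)) = ⊤ := hft.out
  have hG₁' : Subring.closure (Set.range (r (s.app j₁)) ∪ (G₁ : Set Γ(E.obj j₁, ⊤))) = ⊤ := by
    have := congrArg Subalgebra.toSubring hG₁
    rw [Algebra.adjoin_eq_ring_closure] at this
    exact this
  have key : ∀ β : Γ(E.obj j₁, ⊤), ∃ j : Over j₁,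
      r (E.map j.hom) β ∈ Set.range (r (s.app j.left)) := by
    intro β
    obtain ⟨w, hw⟩ := hsurj (r (cE.π.app j₁) β)
    have hx : r (cE.π.app j₁) (β - r (s.app j₁) w) = 0 := by
      rw [map_sub, sub_eq_zero, ← r_comp_apply]
      exact hw.symm
    obtain ⟨j, e, he⟩ := exists_appTop_map_eq_zero_of_isAffine_of_isLimit E cE hcE j₁ _ hx
    refine ⟨Over.mk e, w, ?_⟩
    have he' : r (E.map e) β = r (E.map e) (r (s.app j₁) w) := by
      have := he
      change r (E.map e) _ = 0 at this
      rwa [map_sub, sub_eq_zero] at this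
    show r (s.app j) w = r (E.map e) β
    rw [he', ← r_comp_apply, hnat]
  choose jβ hjβ using key
  obtain ⟨j, hj⟩ := IsCofiltered.inf_objs_exists (G₁.image jβ)
  refine ⟨j, ?_⟩
  have hcl : IsClosedImmersion (E.map j.hom) := hE j.hom
  obtain ⟨-, hsurj'⟩ := IsClosedImmersion.isAffine_surjective_of_isAffine (E.map j.hom)
  apply IsClosedImmersion.of_surjective_of_isAffine
  have h2 : Subring.closure (Set.range (r (s.app j₁)) ∪ (G₁ : Set Γ(E.obj j₁, ⊤))) ≤
      (r (s.app j.left)).range.comap (r (E.map j.hom)) := by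
    rw [Subring.closure_le]
    rintro x (⟨w, rfl⟩ | hx)
    · refine ⟨w, ?_⟩
      rw [← r_comp_apply, hnat]
    · obtain ⟨u⟩ := hj (Finset.mem_image_of_mem jβ hx)
      obtain ⟨w, hw⟩ := hjβ x
      refine ⟨w, ?_⟩
      have : r (E.map j.hom) x = r (E.map u.left) (r (E.map (jβ x).hom) x) := by
        rw [← r_comp_apply, ← E.map_comp, Over.w u]
      rw [this, ← hw, ← r_comp_apply, hnat]
  rw [hG₁', top_le_iff] at h2
  intro y
  obtain ⟨x, rfl⟩ := hsurj' y
  have : x ∈ (r (s.app j.left)).range.comap (r (E.map j.hom)) := h2 ▸ Subring.mem_top x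
  exact this

set_option backward.isDefEq.respectTransparency.types false in
theorem isLocal_isClosedImmersion : IsZariskiLocalAtTarget @IsClosedImmersion.{u} := inferInstance

set_option backward.defeqAttrib.useBackward true in
set_option backward.isDefEq.respectTransparency false in
/-- Core of the proof, at an index `i₁` where the structure map is affine. -/
theorem exists_of_isAffineHom {I : Type u} [SmallCategory I] [IsCofiltered I]
    (S : Scheme.{u}) [CompactSpace S]
    (D : I ⥤ Scheme.{u}) (t : D ⟶ (Functor.const I).obj S) (c : Limits.Cone D)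
    (hc : Limits.IsLimit c) [∀ {i j : I} (f : i ⟶ j), IsClosedImmersion (D.map f)]
    [∀ i, LocallyOfFiniteType (t.app i)] (i₁ : I) [IsAffineHom (t.app i₁)]
    [IsClosedImmersion (c.π.app i₁ ≫ t.app i₁)] :
    ∃ k : Over i₁, IsClosedImmersion (t.app k.left) := by
  classical
  have := isLocal_isClosedImmersion.{u}
  have hloc : ∀ y : S, ∃ V : S.Opens, IsAffineOpen V ∧ y ∈ V := by
    intro y
    obtain ⟨_, ⟨V, hV : IsAffineOpen V, rfl⟩, hyV, -⟩ :=
      S.isBasis_affineOpens.exists_subset_of_mem_open (Set.mem_univ y) isOpen_univ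
    exact ⟨V, hV, hyV⟩
  choose V hV hyV using hloc
  obtain ⟨ts, hts⟩ := isCompact_univ.elim_finite_subcover
    (fun y => ((V y : S.Opens) : Set S))
    (fun y => (V y).isOpen) (fun y _ => Set.mem_iUnion.mpr ⟨y, hyV y⟩)
  have hnat : ∀ k : Over i₁, t.app k.left = D.map k.hom ≫ t.app i₁ := fun k => by
    have := t.naturality k.hom
    simp only [Functor.const_obj_obj, Functor.const_obj_map, Category.comp_id] at this
    exact this.symm
  -- the restricted morphisms
  have hres : ∀ (y : S) (k : Over i₁), (t.app k.left) ∣_ V y =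
      (Scheme.isoOfEq _ (by rw [hnat k, Scheme.Hom.comp_preimage])).hom ≫
        ((D.map k.hom) ∣_ (t.app i₁ ⁻¹ᵁ V y)) ≫ ((t.app i₁) ∣_ V y) := by
    intro y k
    rw [← cancel_mono (V y).ι]
    simp only [Category.assoc, morphismRestrict_ι, morphismRestrict_ι_assoc,
      Scheme.isoOfEq_hom_ι_assoc]
    rw [hnat k]
  have key : ∀ y : S, ∃ k₀ : Over i₁, ∀ (k : Over i₁) (_ : k ⟶ k₀),
      IsClosedImmersion (((D.map k.hom) ∣_ (t.app i₁ ⁻¹ᵁ V y)) ≫ ((t.app i₁) ∣_ V y)) := by
    intro y
    have hUa : IsAffineOpen (t.app i₁ ⁻¹ᵁ V y) := (hV y).preimage (t.app i₁)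
    have hEa : ∀ j, IsAffine ((opensDiagram D i₁ (t.app i₁ ⁻¹ᵁ V y)).obj j) :=
      fun j => hUa.preimage (D.map j.hom)
    have hWa : IsAffine ((V y : S.Opens) : Scheme.{u}) := hV y
    let s : opensDiagram D i₁ (t.app i₁ ⁻¹ᵁ V y) ⟶
        (Functor.const (Over i₁)).obj ((V y : S.Opens) : Scheme.{u}) :=
      { app := fun j => ((D.map j.hom) ∣_ (t.app i₁ ⁻¹ᵁ V y)) ≫ ((t.app i₁) ∣_ V y)
        naturality := fun j k a => by
          rw [← cancel_mono (V y).ι]
          simp only [Functor.const_obj_obj, Functor.const_obj_map, Category.comp_id,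
            Category.assoc, morphismRestrict_ι, morphismRestrict_ι_assoc, opensDiagram_map,
            Scheme.Hom.resLE_comp_ι_assoc]
          rw [← Category.assoc (D.map a.left), ← D.map_comp, Over.w a] }
    have hE : ∀ {j k : Over i₁} (a : j ⟶ k),
        IsClosedImmersion ((opensDiagram D i₁ (t.app i₁ ⁻¹ᵁ V y)).map a) := by
      intro j k a
      have sq : IsPullback ((opensDiagram D i₁ (t.app i₁ ⁻¹ᵁ V y)).map a)
          (D.map j.hom ⁻¹ᵁ t.app i₁ ⁻¹ᵁ V y).ι (D.map k.hom ⁻¹ᵁ t.app i₁ ⁻¹ᵁ V y).ι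
          (D.map a.left) :=
        IsOpenImmersion.isPullback _ _ _ _ (by simp) (by
          simp only [Scheme.Opens.opensRange_ι]
          rw [← Scheme.Hom.comp_preimage, ← D.map_comp, Over.w a])
      exact MorphismProperty.of_isPullback (P := @IsClosedImmersion) sq.flip inferInstance
    have hlft : LocallyOfFiniteType (s.app (Over.mk (𝟙 i₁))) := by
      show LocallyOfFiniteType (((D.map (𝟙 i₁)) ∣_ (t.app i₁ ⁻¹ᵁ V y)) ≫ ((t.app i₁) ∣_ V y))
      infer_instance
    have hcl : IsClosedImmersion ((opensCone D c i₁ (t.app i₁ ⁻¹ᵁ V y)).π.app (Over.mk (𝟙 i₁)) ≫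
        s.app (Over.mk (𝟙 i₁))) := by
      have h1 : IsClosedImmersion ((c.π.app i₁ ≫ t.app i₁) ∣_ V y) :=
        IsZariskiLocalAtTarget.restrict (P := @IsClosedImmersion)
          (inferInstance : IsClosedImmersion (c.π.app i₁ ≫ t.app i₁)) _
      have e : (opensCone D c i₁ (t.app i₁ ⁻¹ᵁ V y)).π.app (Over.mk (𝟙 i₁)) ≫
          s.app (Over.mk (𝟙 i₁)) = (Scheme.isoOfEq _ (by
            rw [Scheme.Hom.comp_preimage])).hom ≫ ((c.π.app i₁ ≫ t.app i₁) ∣_ V y) := by
        rw [← cancel_mono (V y).ι]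
        simp [s]
      rw [e]
      infer_instance
    obtain ⟨j, hj⟩ := exists_isClosedImmersion_of_affine
      (opensDiagram D i₁ (t.app i₁ ⁻¹ᵁ V y)) hE s (opensCone D c i₁ (t.app i₁ ⁻¹ᵁ V y))
      (isLimitOpensCone D c hc i₁ (t.app i₁ ⁻¹ᵁ V y)) (Over.mk (𝟙 i₁))
    refine ⟨j.left, fun k u => ?_⟩
    have hEu := hE u
    have : s.app k = (opensDiagram D i₁ (t.app i₁ ⁻¹ᵁ V y)).map u ≫ s.app j.left := by
      have := s.naturality u
      simp only [Functor.const_obj_obj, Functor.const_obj_map, Category.comp_id] at this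
      exact this.symm
    show IsClosedImmersion (s.app k)
    rw [this]
    infer_instance
  choose k₀ hk₀ using key
  obtain ⟨k, hk⟩ := IsCofiltered.inf_objs_exists (ts.image k₀)
  refine ⟨k, ?_⟩
  have hcover : ⨆ y : ts, V y.1 = ⊤ := by
    rw [eq_top_iff]
    intro z _
    obtain ⟨y, hyt, hz⟩ := Set.mem_iUnion₂.mp (hts (Set.mem_univ z))
    exact TopologicalSpace.Opens.mem_iSup.mpr ⟨⟨y, hyt⟩, hz⟩
  apply IsZariskiLocalAtTarget.of_iSup_eq_top (P := @IsClosedImmersion)
    (fun y : ts => V y.1) hcover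
  rintro ⟨y, hyt⟩
  obtain ⟨u⟩ := hk (Finset.mem_image_of_mem k₀ hyt)
  have := hk₀ y k u
  show IsClosedImmersion ((t.app k.left) ∣_ V y)
  rw [hres y k]
  infer_instance

/-- Over a quasi-compact quasi-separated base `S`, let `X` be the limit of a cofiltered system of
quasi-compact quasi-separated `S`-schemes, locally of finite type over `S`, whose transition
morphisms are closed immersions. If `X → S` is a closed immersion then so is `Xᵢ → S` for some index
`i`. -/
theorem result {I : Type u} [SmallCategory I] [IsCofiltered I]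
    (S : Scheme.{u}) [CompactSpace S] [QuasiSeparatedSpace S]
    (D : I ⥤ Scheme.{u}) (t : D ⟶ (Functor.const I).obj S) (c : Limits.Cone D)
    (hc : Limits.IsLimit c) [∀ (i j : I) (f : i ⟶ j), IsClosedImmersion (D.map f)]
    [∀ i, CompactSpace (D.obj i)] [∀ i, QuasiSeparatedSpace (D.obj i)]
    [∀ i, LocallyOfFiniteType (t.app i)] (i₀ : I) [IsClosedImmersion (c.π.app i₀ ≫ t.app i₀)] :
    ∃ i : I, IsClosedImmersion (t.app i) := by
  have inst : ∀ {i j : I} (f : i ⟶ j), IsClosedImmersion (D.map f) := fun f => inferInstance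
  have inst2 : ∀ (i j : I) (f : i ⟶ j), IsAffineHom (D.map f) := fun _ _ f => inferInstance
  have haff : IsAffineHom (c.π.app i₀ ≫ t.app i₀) := inferInstance
  obtain ⟨i₁, hi₁⟩ := Groth.Agent.S9200.result S D t c hc i₀
  have : IsAffineHom (t.app i₁) := hi₁ i₁ (𝟙 _)
  have hstep : ∀ {i j : I} (a : i ⟶ j), c.π.app i ≫ t.app i = c.π.app j ≫ t.app j := by
    intro i j a
    have h1 := t.naturality a
    simp only [Functor.const_obj_obj, Functor.const_obj_map, Category.comp_id] at h1
    rw [← c.w a, Category.assoc, h1]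
  have hcl : IsClosedImmersion (c.π.app i₁ ≫ t.app i₁) := by
    rw [← hstep (IsCofiltered.minToRight i₀ i₁), hstep (IsCofiltered.minToLeft i₀ i₁)]
    infer_instance
  obtain ⟨k, hk⟩ := exists_of_isAffineHom S D t c hc i₁
  exact ⟨k.left, hk⟩

end Groth.Agent.S0594
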