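import Groth.Statements.S0605
import Mathlib
import Groth.Agent.S2599
import Groth.Agent.Lib.Helper5CM

set_option autoImplicit false
universe u
open CAlg

namespace Groth.Agent.S0605

/-- Over a regular local ring, a finitely generated module whose depth equals the dimension of the ring
(a maximal Cohen–Macaulay module) is free. -/
theorem result (R : Type u) [CommRing R]
    [IsRegularLocalRing R] (M : Type u) [AddCommGroup M] [Module R M] [Module.Finite R M]
    (h : ((LocCoh.depth R M : ℕ∞) : WithBot ℕ∞) = ringKrullDim R) : Module.Free R M := by
  classical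
  have hNoeth : IsNoetherianRing R := inferInstance
  by_cases hM : Subsingleton M
  · exact Module.Free.of_subsingleton R M
  rw [not_subsingleton_iff_nontrivial] at hM
  have h1 : ((LocCoh.depth R M : ℕ∞) : WithBot ℕ∞) ≤ Module.supportDim R M :=
    Groth.Agent.Lib.Helper5.depth_le_supportDim
  have h2 : Module.supportDim R M ≤ ringKrullDim R := Module.supportDim_le_ringKrullDim R M
  have hCM : LocCoh.IsCohenMacaulayModule R M := le_antisymm (h2.trans h.ge) h1
  have hsd : Module.supportDim R M = ringKrullDim R := le_antisymm h2 (h ▸ h1)
  have hmB : EGA4.mB R R = IsLocalRing.maximalIdeal R := Ideal.map_id _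
  have hfib : Module.supportDim R (EGA4.FibMod R R M) = 0 := by
    apply le_antisymm
    · apply Groth.Agent.Lib.Helper5.supportDim_le_zero_of_forall_isMaximal
      intro p hp
      have h3 : Module.annihilator R (EGA4.FibMod R R M) ≤ p.asIdeal :=
        Module.annihilator_le_of_mem_support hp
      have h4 : IsLocalRing.maximalIdeal R ≤ Module.annihilator R (EGA4.FibMod R R M) := by
        intro a ha
        rw [Module.mem_annihilator]
        intro x
        obtain ⟨y, rfl⟩ := Submodule.Quotient.mk_surjective _ x
        rw [← Submodule.Quotient.mk_smul, Submodule.Quotient.mk_eq_zero]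
        exact Submodule.smul_mem_smul (hmB ▸ ha) trivial
      have h5 : p.asIdeal = IsLocalRing.maximalIdeal R :=
        ((IsLocalRing.maximalIdeal.isMaximal R).eq_of_le p.2.ne_top (h4.trans h3)).symm
      rw [h5]
      exact IsLocalRing.maximalIdeal.isMaximal R
    · have hnt : Nontrivial (EGA4.FibMod R R M) := by
        apply Submodule.Quotient.nontrivial_iff.mpr
        rw [hmB]
        exact Groth.Agent.Lib.Helper5.maximalIdeal_smul_top_ne_top
      have h6 := Module.supportDim_ne_bot_of_nontrivial R (EGA4.FibMod R R M)
      obtain ⟨a, ha⟩ := WithBot.ne_bot_iff_exists.mp h6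
      rw [← ha]
      exact WithBot.coe_le_coe.mpr zero_le
  have hflat : Module.Flat R M := Groth.Agent.S2599.result R R M hCM (by rw [hsd, hfib, add_zero])
  exact Module.free_of_flat_of_isLocalRing

end Groth.Agent.S0605
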