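import Groth.Statements.S0611
import Mathlib

set_option autoImplicit false
universe u
open RRAlg

namespace Groth.Agent.S0611

open RingTheory.Sequence IsLocalRing
open scoped Pointwise

section aux
variable {A : Type u} [CommRing A]

lemma smul_mk_eq_zero {M : Type*} [AddCommGroup M] [Module A M] (I : Ideal A) {y : A} (hy : y ∈ I)
    (n : M ⧸ (I • ⊤ : Submodule A M)) : y • n = 0 := by
  obtain ⟨m, rfl⟩ := Submodule.Quotient.mk_surjective _ n
  rw [← Submodule.Quotient.mk_smul, Submodule.Quotient.mk_eq_zero]
  exact Submodule.smul_mem_smul hy trivial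

lemma isWeaklyRegular_append_singleton_of {l : List A} {x x' c y : A} (hc : IsUnit c)
    (hy : y ∈ Ideal.ofList l) (hx' : x' = c * x + y) (h : IsWeaklyRegular A (l ++ [x])) :
    IsWeaklyRegular A (l ++ [x']) := by
  rw [isWeaklyRegular_append_iff, isWeaklyRegular_singleton_iff] at h ⊢
  refine ⟨h.1, ?_⟩
  intro n n' hn
  apply h.2
  have key : ∀ n : A ⧸ (Ideal.ofList l • ⊤ : Submodule A A), x' • n = c • (x • n) := by
    intro n
    rw [hx', add_smul, smul_mk_eq_zero _ hy, add_zero, mul_smul]
  simp only [key] at hn
  exact hc.smul_left_cancel.mp hn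

lemma exists_split [IsLocalRing A] : ∀ (as : List A) (b : A), b ∈ Ideal.ofList as →
    b ∉ maximalIdeal A • Ideal.ofList as →
    ∃ (l1 : List A) (x : A) (l2 : List A) (c y : A), as = l1 ++ x :: l2 ∧ IsUnit c ∧
      y ∈ Ideal.ofList (l1 ++ l2) ∧ b = c * x + y := by
  intro as
  induction as with
  | nil =>
    intro b hb hb'
    exfalso
    rw [Ideal.ofList_nil] at hb
    rw [(Submodule.mem_bot A).mp hb] at hb'
    exact hb' (Submodule.zero_mem _)
  | cons a t ih =>
    intro b hb hb'
    rw [Ideal.ofList_cons] at hb
    obtain ⟨u, hu, b', hb't, rfl⟩ := Submodule.mem_sup.mp hb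
    obtain ⟨c, rfl⟩ := Ideal.mem_span_singleton'.mp hu
    by_cases hc : IsUnit c
    · exact ⟨[], a, t, c, b', rfl, hc, by simpa using hb't, rfl⟩
    · have hcm : c ∈ maximalIdeal A := (IsLocalRing.mem_maximalIdeal c).mpr hc
      have hb'2 : b' ∉ maximalIdeal A • Ideal.ofList t := by
        intro hcon
        apply hb'
        refine Submodule.add_mem _ ?_ ?_
        · exact Submodule.smul_mem_smul hcm (Ideal.subset_span (by simp))
        · exact Submodule.smul_mono le_rfl (Ideal.span_mono (fun r hr => List.mem_cons_of_mem _ hr)) hcon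
      obtain ⟨l1, x, l2, c', y', rfl, hc', hy', rfl⟩ := ih b' hb't hb'2
      refine ⟨a :: l1, x, l2, c', c * a + y', rfl, hc', ?_, by ring⟩
      rw [List.cons_append, Ideal.ofList_cons]
      exact Submodule.add_mem_sup (Ideal.mem_span_singleton'.mpr ⟨c, rfl⟩) hy'

lemma isRegular_cons_iff_quot (r : A) (rs : List A) :
    IsRegular A (r :: rs) ↔ IsSMulRegular A r ∧
      IsRegular (A ⧸ Ideal.span {r}) (rs.map (Ideal.Quotient.mk (Ideal.span {r}))) := by
  rw [isRegular_cons_iff]
  refine and_congr_right' ?_
  have h : r • (⊤ : Submodule A A) = Ideal.span {r} := by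
    rw [← Submodule.ideal_span_singleton_smul]; simp
  refine AddEquiv.isRegular_congr (e := (Submodule.quotEquivOfEq _ _ h).toAddEquiv) ?_
  refine List.forall₂_map_right_iff.mpr <| List.forall₂_same.mpr fun a _ z => ?_
  obtain ⟨z, rfl⟩ := Submodule.Quotient.mk_surjective _ z
  rfl

end aux

theorem main : ∀ (n : ℕ) (A : Type u) [CommRing A] [IsLocalRing A] [IsNoetherianRing A]
    (as bs : List A), as.length = n → bs.length = n → IsRegular A as →
    Ideal.ofList as = Ideal.ofList bs → IsRegular A bs := by
  intro n
  induction n with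
  | zero =>
    intro A _ _ _ as bs has hbs h _
    rw [List.length_eq_zero_iff] at has hbs
    subst has hbs; exact h
  | succ n ih =>
    intro A _ _ _ as bs has hbs hreg hI
    obtain ⟨b0, bs', rfl⟩ := List.exists_cons_of_length_eq_add_one hbs
    have hbs' : bs'.length = n := by simpa using hbs
    -- the ideal
    have hItop : Ideal.ofList as ≠ ⊤ := by
      intro h
      apply hreg.top_ne_smul
      rw [h]; simp
    have hIm : Ideal.ofList as ≤ maximalIdeal A := IsLocalRing.le_maximalIdeal hItop
    have hb0I : b0 ∈ Ideal.ofList as := by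
      rw [hI]; exact Ideal.subset_span (by simp)
    -- step (i)
    have hb0 : b0 ∉ maximalIdeal A • Ideal.ofList as := by
      intro hmem
      have hle : Ideal.ofList as ≤ Ideal.ofList bs' := by
        have h1 : Ideal.ofList as ≤ Ideal.ofList bs' ⊔ maximalIdeal A • Ideal.ofList as := by
          conv_lhs => rw [hI, Ideal.ofList_cons]
          refine sup_le ?_ le_sup_left
          rw [Ideal.span_singleton_le_iff_mem]
          exact Ideal.mem_sup_right hmem
        exact Submodule.le_of_le_smul_of_le_jacobson_bot (IsNoetherian.noetherian _)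
          (by rw [IsLocalRing.jacobson_eq_maximalIdeal ⊥ bot_ne_top]) h1
      have heq : Ideal.ofList as = Ideal.ofList bs' := by
        refine le_antisymm hle ?_
        rw [hI]
        exact Ideal.span_mono (fun r hr => List.mem_cons_of_mem _ hr)
      have hfr : (Ideal.ofList as).spanFinrank ≤ n := by
        rw [heq]
        classical
        have hfin : ({r | r ∈ bs'} : Set A).Finite := List.finite_toSet bs'
        refine (Submodule.spanFinrank_span_le_ncard_of_finite hfin).trans ?_
        have : ({r | r ∈ bs'} : Set A) = ↑bs'.toFinset := by ext; simp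
        rw [this, Set.ncard_coe_finset]
        exact (List.toFinset_card_le bs').trans hbs'.le
      have hd1 := ringKrullDim_add_length_eq_ringKrullDim_of_isRegular as hreg
      have hd2 := ringKrullDim_le_ringKrullDim_quotient_add_spanFinrank (Ideal.ofList as)
        (by rw [IsLocalRing.ringJacobson_eq_maximalIdeal]; exact hIm)
      have hlt : ringKrullDim A < ⊤ := ringKrullDim_lt_top
      have hntq : Nontrivial (A ⧸ Ideal.ofList as) := Ideal.Quotient.nontrivial_iff.mpr hItop
      have hdq : ringKrullDim (A ⧸ Ideal.ofList as) ≤ ringKrullDim A :=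
        ringKrullDim_quotient_le _
      have hbot : ringKrullDim (A ⧸ Ideal.ofList as) ≠ ⊥ := fun h => by
        have := ringKrullDim_nonneg_of_nontrivial (R := A ⧸ Ideal.ofList as)
        rw [h] at this; exact absurd this (by simp)
      have htop : ringKrullDim (A ⧸ Ideal.ofList as) ≠ ⊤ := (hdq.trans_lt hlt).ne
      obtain ⟨d, hd⟩ := WithBot.ne_bot_iff_exists.mp hbot
      rw [← hd] at htop hd1 hd2
      have hd' : d ≠ ⊤ := fun h => htop (by rw [h]; rfl)
      obtain ⟨k, rfl⟩ := ENat.ne_top_iff_exists.mp hd'
      rw [← hd1, has] at hd2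
      have : (((k + (n + 1) : ℕ) : ℕ∞) : WithBot ℕ∞) ≤ (((k + (Ideal.ofList as).spanFinrank : ℕ) : ℕ∞) : WithBot ℕ∞) := by
        push_cast
        exact hd2
      rw [WithBot.coe_le_coe, Nat.cast_le] at this
      omega
    -- step (ii)
    obtain ⟨l1, x, l2, c, y, rfl, hc, hy, hb0eq⟩ := exists_split as b0 hb0I hb0
    have hlen : (l1 ++ l2).length = n := by
      simp only [List.length_append, List.length_cons] at has ⊢; omega
    -- step (iii)
    have perm1 : (l1 ++ x :: l2).Perm ((l1 ++ l2) ++ [x]) :=
      List.perm_middle.trans (List.perm_append_singleton x (l1 ++ l2)).symm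
    have hreg1 : IsRegular A ((l1 ++ l2) ++ [x]) := IsLocalRing.isRegular_of_perm hreg perm1
    have hw2 : IsWeaklyRegular A ((l1 ++ l2) ++ [b0]) :=
      isWeaklyRegular_append_singleton_of hc hy hb0eq hreg1.toIsWeaklyRegular
    have hlI : ∀ r ∈ l1 ++ l2, r ∈ Ideal.ofList (l1 ++ x :: l2) := by
      intro r hr
      refine Ideal.subset_span ?_
      simp only [List.mem_append, List.mem_cons, Set.mem_ofPred_eq] at hr ⊢
      tauto
    have hreg2 : IsRegular A ((l1 ++ l2) ++ [b0]) := by
      refine IsRegular.of_isWeaklyRegular_of_mem_maximalIdeal A ?_ hw2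
      intro r hr
      rcases List.mem_append.mp hr with hr | hr
      · exact hIm (hlI r hr)
      · rw [List.mem_singleton] at hr; rw [hr]; exact hIm hb0I
    have hreg3 : IsRegular A (b0 :: (l1 ++ l2)) :=
      IsLocalRing.isRegular_of_perm hreg2 (List.perm_append_singleton b0 (l1 ++ l2))
    have hI3 : Ideal.ofList (b0 :: (l1 ++ l2)) = Ideal.ofList (l1 ++ x :: l2) := by
      apply le_antisymm
      · rw [Ideal.span_le]
        intro r hr
        rcases List.mem_cons.mp hr with hr | hr
        · rw [hr]; exact hb0I
        · exact hlI r hr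
      · rw [Ideal.span_le]
        intro r hr
        simp only [List.mem_append, List.mem_cons, Set.mem_ofPred_eq] at hr
        have hsub : ∀ r ∈ l1 ++ l2, r ∈ Ideal.ofList (b0 :: (l1 ++ l2)) := fun r hr =>
          Ideal.subset_span (List.mem_cons_of_mem _ hr)
        rcases hr with hr | hr | hr
        · exact hsub r (List.mem_append_left _ hr)
        · -- x = c⁻¹ (b0 - y)
          obtain ⟨c', hc'⟩ := hc.exists_left_inv
          have hx : x = c' * b0 - c' * y := by
            rw [hb0eq]; linear_combination (-x) * hc'
          rw [hr, hx]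
          refine Submodule.sub_mem _ (Ideal.mul_mem_left _ _ (Ideal.subset_span (by simp)))
            (Ideal.mul_mem_left _ _ ?_)
          exact Ideal.span_mono (fun r hr => List.mem_cons_of_mem _ hr) hy
        · exact hsub r (List.mem_append_right _ hr)
    -- step (iv)
    rw [isRegular_cons_iff_quot] at hreg3 ⊢
    refine ⟨hreg3.1, ?_⟩
    have hb0m : b0 ∈ maximalIdeal A := hIm hb0I
    have hnt : Nontrivial (A ⧸ Ideal.span {b0}) := by
      rw [Ideal.Quotient.nontrivial_iff]
      intro h
      have : (1 : A) ∈ Ideal.span {b0} := by rw [h]; trivial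
      exact (Ideal.ne_top_iff_one _).mp (IsLocalRing.maximalIdeal.isMaximal A).ne_top
        ((Ideal.span_singleton_le_iff_mem _).mpr hb0m this)
    have hloc : IsLocalRing (A ⧸ Ideal.span {b0}) :=
      IsLocalRing.of_surjective' (Ideal.Quotient.mk _) Ideal.Quotient.mk_surjective
    refine ih (A ⧸ Ideal.span {b0}) _ _ (by simpa using hlen) (by simpa using hbs') hreg3.2 ?_
    rw [← Ideal.map_ofList, ← Ideal.map_ofList]
    have hmap : ∀ l : List A, Ideal.map (Ideal.Quotient.mk (Ideal.span {b0})) (Ideal.ofList l) =
        Ideal.map (Ideal.Quotient.mk (Ideal.span {b0})) (Ideal.ofList (b0 :: l)) := by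
      intro l
      rw [Ideal.ofList_cons, Ideal.map_sup, Ideal.map_quotient_self, bot_sup_eq]
    rw [hmap (l1 ++ l2), hmap bs', hI3, hI]



/-- In a Noetherian local ring, any minimal generating set of an ideal generated by a regular sequence
is again a regular sequence: if a₁, …, aₙ is a regular sequence and b₁, …, bₙ are n elements
generating the same ideal, then b₁, …, bₙ is a regular sequence. (A regular sequence of length n
generating an ideal I is a minimal generating set of I, so "minimal" amounts to "of length n".) -/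
theorem result {A : Type u} [CommRing A] [IsLocalRing A] [IsNoetherianRing A]
    {n : ℕ} (a b : Fin n → A) (ha : RingTheory.Sequence.IsRegular A (List.ofFn a))
    (hab : Ideal.span (Set.range a) = Ideal.span (Set.range b)) :
    RingTheory.Sequence.IsRegular A (List.ofFn b) := by
  have key : ∀ c : Fin n → A, Ideal.ofList (List.ofFn c) = Ideal.span (Set.range c) := by
    intro c
    have : {r | r ∈ List.ofFn c} = Set.range c := by
      ext r
      rw [Set.mem_ofPred_eq, List.mem_ofFn]
      rfl
    unfold Ideal.ofList
    rw [this]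
  exact main n A (List.ofFn a) (List.ofFn b) (List.length_ofFn) (List.length_ofFn) ha
    (by rw [key, key, hab])

end Groth.Agent.S0611
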