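import Groth.Statements.S0624
import Groth.Agent.Lib.Helper3NormalSepClosed2
import Groth.Agent.Lib.Helper4NormIso
import Mathlib

set_option autoImplicit false
open CategoryTheory CategoryTheory.Limits AlgebraicGeometry Opposite
universe u
open EtCore

namespace Groth.Agent.S0624

open Groth.Agent.Lib.Helper3.NSC

set_option maxHeartbeats 1600000

-- version of `core_spec` for a surjection `A → Ā` in place of a quotient
theorem core_spec' (A : Type u) [CommRing A] [IsDomain A] [IsIntegrallyClosed A]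
    (K : Type u) [Field K] [Algebra A K] [IsFractionRing A K] [IsSepClosed K]
    (Abar C : Type u) [CommRing Abar] [CommRing C] (f : A →+* Abar) (hf : Function.Surjective f)
    (g : Abar →+* C) (hg : g.Etale) :
    ∃ (ι : Type u) (_ : Finite ι) (Vj : ι → Scheme.{u}) (v : ∀ j, Vj j ⟶ Spec (.of C)),
      (∀ j, IsOpenImmersion (v j)) ∧
      (∀ j, IsOpenImmersion (v j ≫ Spec.map (CommRingCat.ofHom g))) ∧
      (∀ x : Spec (.of C), ∃ j, x ∈ Set.range (v j)) ∧
      (∀ i j, i ≠ j → Disjoint (Set.range (v i)) (Set.range (v j))) := by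
  obtain ⟨I, hI⟩ : ∃ I : Ideal A, I = RingHom.ker f := ⟨_, rfl⟩
  let eq : (A ⧸ I) ≃+* Abar := (Ideal.quotEquivOfEq hI).trans
    (RingHom.quotientKerEquivOfSurjective hf)
  letI algAbC : Algebra Abar C := g.toAlgebra
  haveI : Algebra.Etale Abar C := hg
  letI algQAb : Algebra (A ⧸ I) Abar := eq.toRingHom.toAlgebra
  letI algQC : Algebra (A ⧸ I) C := ((algebraMap Abar C).comp (algebraMap (A ⧸ I) Abar)).toAlgebra
  haveI : IsScalarTower (A ⧸ I) Abar C := IsScalarTower.of_algebraMap_eq' rfl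
  haveI : Algebra.Etale (A ⧸ I) Abar := by
    let e' : (A ⧸ I) ≃ₐ[A ⧸ I] Abar := AlgEquiv.ofRingEquiv (f := eq) (fun x => rfl)
    exact Algebra.Etale.of_equiv e'
  haveI : Algebra.Etale (A ⧸ I) C := Algebra.Etale.comp (A ⧸ I) Abar C
  obtain ⟨ι, hι, Vj, v, h1, h2, h3, h4⟩ := core_spec A K I C
  refine ⟨ι, hι, Vj, v, h1, fun j => ?_, h3, h4⟩
  haveI := h2 j
  have hcomp : Spec.map (CommRingCat.ofHom (algebraMap (A ⧸ I) C)) =
      Spec.map (CommRingCat.ofHom g) ≫ Spec.map (CommRingCat.ofHom eq.toRingHom) := by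
    rw [← Spec.map_comp]
    rfl
  haveI : IsIso (Spec.map (CommRingCat.ofHom eq.toRingHom)) := by
    haveI : IsIso (CommRingCat.ofHom eq.toRingHom) :=
      (eq.toCommRingCatIso).isIso_hom
    infer_instance
  haveI : IsOpenImmersion ((v j ≫ Spec.map (CommRingCat.ofHom g)) ≫
      Spec.map (CommRingCat.ofHom eq.toRingHom)) := by
    rw [Category.assoc, ← hcomp]
    infer_instance
  exact IsOpenImmersion.of_comp _ (Spec.map (CommRingCat.ofHom eq.toRingHom))

/-- Let X be an affine, integral and normal scheme with separably closed function field, Z -> X a closed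
immersion and V -> Z etale with V affine. Then V splits, over Z, as the disjoint union of finitely
many open subschemes of Z. -/
theorem result {V Z X : Scheme.{u}} [IsAffine X] [IsIntegral X]
    (hN : ∀ x : X, IsIntegrallyClosed (X.presheaf.stalk x)) [IsSepClosed X.functionField]
    (i : Z ⟶ X) [IsClosedImmersion i] (φ : V ⟶ Z) [AlgebraicGeometry.Etale φ] [IsAffine V] :
    ∃ (ι : Type u) (_ : Finite ι) (W : ι → Z.Opens) (e : (∐ fun k => (W k : Scheme.{u})) ≅ V),
      ∀ k, Sigma.ι (fun k => (W k : Scheme.{u})) k ≫ e.hom ≫ φ = (W k).ι := by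
  obtain ⟨hZ, hsurj⟩ := IsClosedImmersion.isAffine_surjective_of_isAffine i
  haveI := hZ
  haveI : Nonempty (⊤ : X.Opens) := ⟨⟨Classical.arbitrary X, trivial⟩⟩
  haveI : IsDomain Γ(X, ⊤) := inferInstance
  haveI : IsIntegrallyClosed Γ(X, ⊤) :=
    Groth.Agent.Lib.Helper4.NormIso.isIntegrallyClosed_sections
      (fun x => ⟨inferInstance, hN x⟩) ⊤ (isAffineOpen_top X)
  haveI : IsFractionRing Γ(X, ⊤) X.functionField :=
    functionField_isFractionRing_of_isAffineOpen X ⊤ (isAffineOpen_top X)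
  have hg : (φ.appTop).hom.Etale :=
    (HasRingHomProperty.iff_of_isAffine (P := @AlgebraicGeometry.Etale)).mp inferInstance
  obtain ⟨ι, hι, Vj, v, h1, h2, h3, h4⟩ := core_spec' Γ(X, ⊤) X.functionField Γ(Z, ⊤) Γ(V, ⊤)
    (i.appTop).hom hsurj (φ.appTop).hom hg
  haveI := h1
  have hnat : V.isoSpec.hom ≫ Spec.map φ.appTop = φ ≫ Z.isoSpec.hom :=
    Scheme.isoSpec_hom_naturality φ
  haveI : ∀ j, IsOpenImmersion ((v j ≫ V.isoSpec.inv) ≫ φ) := fun j => by
    have : (v j ≫ V.isoSpec.inv) ≫ φ = (v j ≫ Spec.map φ.appTop) ≫ Z.isoSpec.inv := by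
      rw [Category.assoc, Category.assoc]
      congr 1
      rw [Iso.inv_comp_eq, ← Category.assoc, hnat, Category.assoc,
        Iso.hom_inv_id, Category.comp_id]
    rw [this]
    haveI h2' : IsOpenImmersion (v j ≫ Spec.map φ.appTop) := h2 j
    infer_instance
  obtain ⟨W, e, he⟩ := exists_sigma_iso_of_cover φ Vj (fun j => v j ≫ V.isoSpec.inv)
    (fun x => by
      obtain ⟨j, y, hy⟩ := h3 (V.isoSpec.hom x)
      refine ⟨j, y, ?_⟩
      rw [Scheme.Hom.comp_apply, hy, ← Scheme.Hom.comp_apply, Iso.hom_inv_id]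
      rfl)
    (fun j k hjk => by
      rw [Set.disjoint_iff_inter_eq_empty, Set.eq_empty_iff_forall_notMem]
      rintro x ⟨⟨y1, hy1⟩, ⟨y2, hy2⟩⟩
      have hd := h4 j k hjk
      rw [Set.disjoint_iff_inter_eq_empty, Set.eq_empty_iff_forall_notMem] at hd
      apply hd (V.isoSpec.hom x)
      constructor
      · refine ⟨y1, ?_⟩
        rw [← hy1, Scheme.Hom.comp_apply, ← Scheme.Hom.comp_apply V.isoSpec.inv, Iso.inv_hom_id]
        rfl
      · refine ⟨y2, ?_⟩
        rw [← hy2, Scheme.Hom.comp_apply, ← Scheme.Hom.comp_apply V.isoSpec.inv, Iso.inv_hom_id]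
        rfl)
  exact ⟨ι, hι, W, e, he⟩

end Groth.Agent.S0624
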