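import Groth.Statements.S0625
import Groth.Agent.S0624
import Mathlib

set_option autoImplicit false
open CategoryTheory CategoryTheory.Limits AlgebraicGeometry Opposite
universe u
open EtCore

namespace Groth.Agent.S0625

set_option maxHeartbeats 1600000

-- a scheme covered by finitely many clopen pieces, each with a lift to V over Z, has a section
theorem exists_section_of_clopen_cover {V Z : Scheme.{u}} (φ : V ⟶ Z) {ι : Type u} [Finite ι]
    (W : ι → Z.Opens) (hclosed : ∀ k, IsClosed (W k : Set Z))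
    (hcov : ∀ z : Z, ∃ k, z ∈ W k)
    (t : ∀ k, (W k : Scheme.{u}) ⟶ V) (ht : ∀ k, t k ≫ φ = (W k).ι) :
    ∃ s : Z ⟶ V, s ≫ φ = 𝟙 Z := by
  classical
  letI := Fintype.ofFinite ι
  let eq : ι ≃ Fin (Nat.card ι) := Finite.equivFin ι
  let Zs : ι → Z.Opens := fun k =>
    ⟨(W k : Set Z) ∩ ⋂ j : {j : ι // eq j < eq k}, (W j.1 : Set Z)ᶜ,
      (W k).isOpen.inter (isOpen_iInter_of_finite (fun j => (hclosed j.1).isOpen_compl))⟩
  have hle : ∀ k, Zs k ≤ W k := fun k z hz => hz.1
  have hmem : ∀ k z, z ∈ Zs k ↔ z ∈ W k ∧ ∀ j, eq j < eq k → z ∉ W j := by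
    intro k z
    constructor
    · rintro ⟨h1, h2⟩
      refine ⟨h1, fun j hj => ?_⟩
      have := Set.mem_iInter.mp h2 ⟨j, hj⟩
      exact this
    · rintro ⟨h1, h2⟩
      exact ⟨h1, Set.mem_iInter.mpr (fun j => h2 j.1 j.2)⟩
  have hcov' : ⨆ k, ((Zs k).ι).opensRange = ⊤ := by
    rw [eq_top_iff]
    intro z _
    -- minimal index containing z
    have hne : (Finset.univ.filter (fun k : ι => z ∈ W k)).Nonempty := by
      obtain ⟨k, hk⟩ := hcov z
      exact ⟨k, by simp [hk]⟩
    obtain ⟨k, hk, hmin⟩ := Finset.exists_min_image _ (fun k => eq k) hne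
    rw [TopologicalSpace.Opens.mem_iSup]
    refine ⟨k, ?_⟩
    rw [Scheme.Opens.opensRange_ι, hmem]
    refine ⟨(Finset.mem_filter.mp hk).2, fun j hj hzj => ?_⟩
    have := hmin j (Finset.mem_filter.mpr ⟨Finset.mem_univ _, hzj⟩)
    exact absurd hj (not_lt.mpr this)
  have hdisj : Pairwise (Function.onFun Disjoint fun k => ((Zs k).ι).opensRange) := by
    intro j k hjk
    show Disjoint ((Zs j).ι).opensRange ((Zs k).ι).opensRange
    rw [Scheme.Opens.opensRange_ι, Scheme.Opens.opensRange_ι, disjoint_iff]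
    apply TopologicalSpace.Opens.ext
    show (Zs j : Set Z) ∩ (Zs k : Set Z) = ∅
    rw [Set.eq_empty_iff_forall_notMem]
    rintro z ⟨hzj, hzk⟩
    have hzj' := (hmem j z).mp hzj
    have hzk' := (hmem k z).mp hzk
    have hne : eq j ≠ eq k := fun h => hjk (eq.injective h)
    rcases lt_or_gt_of_ne hne with h | h
    · exact hzk'.2 j h hzj'.1
    · exact hzj'.2 k h hzk'.1
  obtain ⟨hc⟩ := nonempty_isColimit_cofanMk_of (fun k => (Zs k).ι) hcov' hdisj
  let s : Z ⟶ V := Cofan.IsColimit.desc hc (fun k => Z.homOfLE (hle k) ≫ t k)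
  refine ⟨s, ?_⟩
  apply Cofan.IsColimit.hom_ext hc
  intro k
  show (Zs k).ι ≫ s ≫ φ = (Zs k).ι ≫ 𝟙 Z
  have h1 : (Zs k).ι ≫ s = Z.homOfLE (hle k) ≫ t k := Cofan.IsColimit.fac hc _ k
  rw [← Category.assoc, h1, Category.assoc, ht, Scheme.homOfLE_ι, Category.comp_id]

/-- Let X be an affine integral normal scheme whose function field is separably closed and Z -> X a
closed immersion. Every surjective finite etale morphism V -> Z has a section. -/
theorem result {V Z X : Scheme.{u}} [IsAffine X] [IsIntegral X]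
    (hN : ∀ x : X, IsIntegrallyClosed (X.presheaf.stalk x)) [IsSepClosed X.functionField]
    (i : Z ⟶ X) [IsClosedImmersion i] (φ : V ⟶ Z) [AlgebraicGeometry.Etale φ] [IsFinite φ] [Surjective φ] :
    ∃ s : Z ⟶ V, s ≫ φ = 𝟙 Z := by
  obtain ⟨hZ, -⟩ := IsClosedImmersion.isAffine_surjective_of_isAffine i
  haveI := hZ
  haveI : IsAffine V := isAffine_of_isAffineHom φ
  obtain ⟨ι, hι, W, e, he⟩ := Groth.Agent.S0624.result hN i φ
  haveI := hι
  let t : ∀ k, (W k : Scheme.{u}) ⟶ V := fun k => Sigma.ι (fun k => (W k : Scheme.{u})) k ≫ e.hom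
  have ht : ∀ k, t k ≫ φ = (W k).ι := fun k => by
    show (Sigma.ι _ k ≫ e.hom) ≫ φ = _
    rw [Category.assoc, he]
  -- ranges of the t k
  have hrange : ∀ k, (W k : Set Z) = φ '' Set.range (t k) := fun k => by
    have h1 : Set.range ((W k).ι) = (W k : Set Z) := Scheme.Opens.range_ι _
    rw [← h1, ← ht k, Scheme.Hom.comp_base, TopCat.coe_comp, Set.range_comp]
  have htcov : ∀ x : V, ∃ k, x ∈ Set.range (t k) := by
    intro x
    obtain ⟨k, y, hy⟩ := (Scheme.IsLocallyDirected.openCover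
      (Discrete.functor fun k => (W k : Scheme.{u}))).exists_eq (e.inv x)
    refine ⟨k.as, y, ?_⟩
    show (Sigma.ι _ k.as ≫ e.hom) y = x
    rw [Scheme.Hom.comp_apply]
    have : Sigma.ι (fun k => (W k : Scheme.{u})) k.as y = e.inv x := hy
    rw [this, ← Scheme.Hom.comp_apply, Iso.inv_hom_id]
    rfl
  have htdisj : ∀ j k, j ≠ k → Disjoint (Set.range (t j)) (Set.range (t k)) := by
    intro j k hjk
    rw [Set.disjoint_iff_inter_eq_empty, Set.eq_empty_iff_forall_notMem]
    rintro x ⟨⟨y1, hy1⟩, ⟨y2, hy2⟩⟩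
    have h1 : Sigma.ι (fun k => (W k : Scheme.{u})) j y1 =
        Sigma.ι (fun k => (W k : Scheme.{u})) k y2 := by
      have : Function.Injective e.hom := (ConcreteCategory.bijective_of_isIso e.hom.base).injective
      apply this
      have a1 : e.hom (Sigma.ι (fun k => (W k : Scheme.{u})) j y1) = x := by
        rw [← Scheme.Hom.comp_apply]; exact hy1
      have a2 : e.hom (Sigma.ι (fun k => (W k : Scheme.{u})) k y2) = x := by
        rw [← Scheme.Hom.comp_apply]; exact hy2
      rw [a1, a2]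
    have := (disjoint_opensRange_sigmaι (fun k => (W k : Scheme.{u})) j k hjk)
    rw [disjoint_iff] at this
    have hmem : Sigma.ι (fun k => (W k : Scheme.{u})) j y1 ∈
        (Sigma.ι (fun k => (W k : Scheme.{u})) j).opensRange ⊓
        (Sigma.ι (fun k => (W k : Scheme.{u})) k).opensRange :=
      ⟨⟨y1, rfl⟩, ⟨y2, h1.symm⟩⟩
    rw [this] at hmem
    exact hmem
  have hclosed : ∀ k, IsClosed (W k : Set Z) := fun k => by
    rw [hrange k]
    apply φ.isClosedMap
    have hcompl : Set.range (t k) = (⋃ j : {j : ι // j ≠ k}, Set.range (t j.1))ᶜ := by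
      ext x
      simp only [Set.mem_compl_iff, Set.mem_iUnion, not_exists]
      constructor
      · intro hx j hxj
        have := htdisj j.1 k j.2
        rw [Set.disjoint_iff_inter_eq_empty, Set.eq_empty_iff_forall_notMem] at this
        exact this x ⟨hxj, hx⟩
      · intro hx
        obtain ⟨k', hk'⟩ := htcov x
        by_cases hkk : k' = k
        · rw [← hkk]; exact hk'
        · exact absurd hk' (hx ⟨k', hkk⟩)
    rw [hcompl]
    apply IsOpen.isClosed_compl
    apply isOpen_iUnion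
    intro j
    haveI : IsOpenImmersion (t j.1) := by
      show IsOpenImmersion (Sigma.ι _ j.1 ≫ e.hom)
      infer_instance
    exact (t j.1).isOpenEmbedding.isOpen_range
  have hcov : ∀ z : Z, ∃ k, z ∈ W k := by
    intro z
    obtain ⟨x, rfl⟩ := φ.surjective z
    obtain ⟨k, hk⟩ := htcov x
    refine ⟨k, ?_⟩
    show φ x ∈ (W k : Set Z)
    rw [hrange k]
    exact ⟨x, hk, rfl⟩
  exact exists_section_of_clopen_cover φ W hclosed hcov t ht

end Groth.Agent.S0625
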