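import Groth.Statements.S0628
import Mathlib
import Groth.Agent.Lib.Helper23ConstLCGeo
import Groth.Agent.Lib.Helper23SepClosedPush
import Groth.Agent.Lib.Helper21DerAcyc
import Groth.Agent.Lib.Helper21DerPost
import Groth.Agent.S0101
-- import your own Groth.Agent.* helpers here

set_option autoImplicit false
set_option backward.isDefEq.respectTransparency.types false
open CategoryTheory CategoryTheory.Limits AlgebraicGeometry Opposite
universe u
open EtCore

namespace Groth.Agent.S0628

open Groth.Agent.Lib.Helper23.ConstLC Groth.Agent.Lib.Helper23.ConstLCGeo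

/-- higher direct images of a direct image from the spectrum of a separably closed field vanish -/
theorem isZero_Rpush_push (K : Type u) [Field K] [IsSepClosed K] {X Y : Scheme.{u}}
    (g : Spec (CommRingCat.of K) ⟶ X) (f : X ⟶ Y) (G : EtCoh.Ab (Spec (CommRingCat.of K)))
    (q : ℕ) (hq : 0 < q) : IsZero ((EtCoh.Rpush f q).obj ((EtCoh.push g).obj G)) := by
  haveI := Groth.Agent.Lib.Helper23.SepClosedPush.preservesFiniteColimits_push K g
  haveI : PreservesFiniteLimits (EtCoh.push g) := by
    haveI := (EtCoh.pullPushAdj g).rightAdjoint_preservesLimits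
    infer_instance
  haveI : PreservesFiniteLimits (EtCoh.push f) := by
    haveI := (EtCoh.pullPushAdj f).rightAdjoint_preservesLimits
    infer_instance
  haveI : (EtCoh.push g).PreservesHomology := inferInstance
  haveI : PreservesFiniteLimits (EtCoh.pull g) := Groth.Agent.S0101.result g
  obtain ⟨e⟩ := Groth.Agent.Lib.Helper21.DerAcyc.nonempty_rightDerived_comp_iso
    (EtCoh.push g) (EtCoh.push f) (fun I hI q hq => by
      haveI : Injective ((EtCoh.push g).obj I) := (EtCoh.pullPushAdj g).map_injective _ hI
      obtain ⟨n, rfl⟩ : ∃ n, q = n + 1 := ⟨q - 1, by omega⟩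
      exact Functor.isZero_rightDerived_obj_injective_succ _ _ _) G q
  refine IsZero.of_iso ?_ e.symm
  have e2 := (Groth.Agent.Lib.Helper21.DerPost.natIsoRightDerived (EtCoh.pushComp f g) q).app G
  refine IsZero.of_iso ?_ e2
  exact Groth.Agent.Lib.Helper23.SepClosedPush.isZero_Rpush K (g ≫ f) G q hq

/-- Let f : X -> Y be a morphism of schemes with X integral and normal and with separably closed
function field. Then the higher direct images R^q f_* of a constant sheaf vanish for q > 0. -/
theorem result {X Y : Scheme.{u}} (f : X ⟶ Y) [IsIntegral X]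
    (hN : ∀ x : X, IsIntegrallyClosed (X.presheaf.stalk x)) [IsSepClosed X.functionField]
    (M : Type) [AddCommGroup M] (q : ℕ) (hq : 1 ≤ q) :
    IsZero ((EtCoh.Rpush f q).obj (EtCoh.const X M)) := by
  have hX : Pi1.IsNormalScheme X := fun x => ⟨inferInstance, hN x⟩
  let K : Type u := X.functionField
  haveI : IsSepClosed K := inferInstanceAs (IsSepClosed X.functionField)
  let g : Spec (CommRingCat.of K) ⟶ X := X.fromSpecStalk (genericPoint X)
  haveI : IsPreimmersion g := inferInstanceAs (IsPreimmersion (X.fromSpecStalk (genericPoint X)))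
  have hg : Set.range g = {genericPoint X} := by
    change Set.range (X.fromSpecStalk (genericPoint X)) = _
    rw [Scheme.range_fromSpecStalk]
    ext y
    simp only [Set.mem_setOf_eq, Set.mem_singleton_iff]
    constructor
    · intro h
      exact (h.antisymm (genericPoint_specializes (α := ↥X) y)).eq
    · rintro rfl
      exact specializes_rfl
  haveI hiso : IsIso ((EtCoh.pullPushAdj g).unit.app (EtCoh.const X M)) :=
    isIso_unit_of_generic g hg hX _
  have e := (EtCoh.Rpush f q).mapIso (asIso ((EtCoh.pullPushAdj g).unit.app (EtCoh.const X M)))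
  refine IsZero.of_iso ?_ e
  exact isZero_Rpush_push K g f _ q hq

end Groth.Agent.S0628
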