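import Groth.Statements.S0632
import Groth.Agent.Lib.Helper9CILift2

set_option autoImplicit false
open CategoryTheory CategoryTheory.Limits AlgebraicGeometry Opposite
universe u
open EtCore

namespace Groth.Agent.S0632

/-- Let X -> Y be a closed immersion and U_i -> X (i in ι) a jointly surjective family of etale
morphisms. Then one can find a jointly surjective family of etale Y-schemes V_j each of which either
has empty preimage over X or, after base change to X, maps into one of the U_i over X. -/
theorem result {X Y : Scheme.{u}} (f : X ⟶ Y) [IsClosedImmersion f]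
    {ι : Type u} (U : ι → X.Etale) (hU : EtCoh.Covers U) :
    ∃ (κ : Type u) (V : κ → Y.Etale), EtCoh.Covers V ∧
      ∀ j, IsEmpty ↥(pullback (V j).hom f) ∨
        ∃ (i : ι) (h : pullback (V j).hom f ⟶ (U i).left), h ≫ (U i).hom = pullback.snd (V j).hom f := by
  classical
  -- the open complement
  let W : Y.Opens := ⟨(Set.range f)ᶜ, f.isClosedEmbedding.isClosed_range.isOpen_compl⟩
  -- choices over points of `X`
  have hch : ∀ x : X, ∃ (i : ι) (y : (U i).left), (U i).hom y = x := fun x => hU x
  choose ix yx hyx using hch
  have H := fun x : X =>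
    Groth.Agent.Lib.Helper9.CILift.exists_local_lift f (U (ix x)).hom (yx x)
  choose V e he h h1 h2 h3 using H
  refine ⟨Option X, fun o => o.elim (Scheme.Etale.mk W.ι)
    (fun x => @Scheme.Etale.mk Y (V x) (e x) (he x)), ?_, ?_⟩
  · intro y
    by_cases hy : y ∈ Set.range f
    · obtain ⟨x, rfl⟩ := hy
      obtain ⟨z, hz⟩ := h3 x
      refine ⟨some x, (pullback.fst (e x) f) z, ?_⟩
      change (e x) ((pullback.fst (e x) f) z) = f x
      have hc : (pullback.fst (e x) f ≫ e x) z = (pullback.snd (e x) f ≫ f) z := by
        rw [pullback.condition]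
      rw [Scheme.Hom.comp_apply, Scheme.Hom.comp_apply] at hc
      rw [hc, ← h1 x, Scheme.Hom.comp_apply, hz, hyx]
    · refine ⟨none, ⟨y, hy⟩, ?_⟩
      rfl
  · rintro (_ | x)
    · left
      have hempty : IsEmpty ↥(pullback W.ι f) := by
        constructor
        intro z
        have hc : (pullback.fst W.ι f ≫ W.ι) z = (pullback.snd W.ι f ≫ f) z := by
          rw [pullback.condition]
        rw [Scheme.Hom.comp_apply, Scheme.Hom.comp_apply] at hc
        have hmem : W.ι ((pullback.fst W.ι f) z) ∈ W := ((pullback.fst W.ι f) z).2
        exact hmem ⟨_, hc.symm⟩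
      exact hempty
    · right
      exact ⟨ix x, h x, h1 x⟩

end Groth.Agent.S0632
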