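import Groth.Statements.S0634
import Mathlib
import Groth.Agent.S0671
import Groth.Agent.Lib.Helper16EtSupp
-- import your own Groth.Agent.* helpers here

set_option autoImplicit false
open CategoryTheory CategoryTheory.Limits AlgebraicGeometry Opposite
universe u
open EtCore

namespace Groth.Agent.S0634

open Groth.Agent.Lib.Helper16.EtStalk Groth.Agent.Lib.Helper16.SmallEtale
open Groth.Agent.Lib.Helper16.StalkPull Groth.Agent.Lib.Helper16.EtSupp
open Groth.Agent.S0100 Groth.Agent.S0101


lemma iso_inv_hom_apply {C : Type*} [Category C] {A B : C ⥤ Type u} (e : A ≅ B) (U : C)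
    (x : A.obj U) : e.inv.app U (e.hom.app U x) = x :=
  ConcreteCategory.congr_hom (e.hom_inv_id_app U) x

set_option backward.isDefEq.respectTransparency.types false in
lemma exists_geom_pt (T : Scheme.{u}) (y : T) :
    ∃ (Ω : Type u) (_ : Field Ω) (_ : IsSepClosed Ω) (ξ : Spec (CommRingCat.of Ω) ⟶ T),
      ξ default = y := by
  let Ω := SeparableClosure (T.residueField y)
  let l : Spec (CommRingCat.of Ω) ⟶ T :=
    Spec.map (CommRingCat.ofHom (algebraMap (T.residueField y) Ω)) ≫ T.fromSpecResidueField y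
  refine ⟨Ω, inferInstance, inferInstance, l, ?_⟩
  dsimp only [l]
  rw [Scheme.Hom.comp_apply]
  exact Scheme.fromSpecResidueField_apply _ _

set_option backward.isDefEq.respectTransparency.types false in
/-- vanishing of the pulled back section -/
lemma unit_eq_zero_iff {S : Scheme.{u}} (F : EtCoh.Ab S) (σ : EtCoh.sect F (EtCoh.top S))
    (T : Scheme.{u}) (f : T ⟶ S) :
    ((EtCoh.pullPushAdj f).unit.app F).hom.app (op (EtCoh.top S)) σ = 0 ↔
      ∀ y : T, (f y : (EtCoh.top S).left) ∉ EtShriek.sectSupp F (EtCoh.top S) σ := by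
  constructor
  · intro h0 y
    obtain ⟨Ω, _, _, ξ, hξ⟩ := exists_geom_pt T y
    -- the canonical element of the fibre at `top S`
    let u₀ : (Scheme.pointSmallEtale (ξ ≫ f)).fiber.obj (EtCoh.top S) :=
      Over.homMk (ξ ≫ f) (Category.comp_id _)
    have hc := germ_compat f ξ F (EtCoh.top S) u₀ σ
    rw [h0] at hc
    have hc' : (stalkPullIso f ξ).hom.app F (germ (ξ ≫ f) F (EtCoh.top S) u₀ σ) = 0 :=
      hc.trans (map_zero (germ ξ ((EtCoh.pull f).obj F) ((EtCoh.bc f).obj (EtCoh.top S))
          ((fiberIso f ξ).inv.app (EtCoh.top S) u₀)).hom)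
    have hinj : Function.Injective ((stalkPullIso f ξ).hom.app F) :=
      ((ConcreteCategory.isIso_iff_bijective _).mp inferInstance).1
    have hg0 : germ (ξ ≫ f) F (EtCoh.top S) u₀ σ = 0 := hinj (hc'.trans (map_zero _).symm)
    refine (germ_eq_zero_iff F (ξ ≫ f) (EtCoh.top S) u₀ σ (f y) ?_).mp hg0
    change (ξ ≫ f) default = f y
    rw [Scheme.Hom.comp_apply, hξ]
  · intro h
    apply section_eq_zero_of_germs ((EtCoh.pull f).obj F) ((EtCoh.bc f).obj (EtCoh.top S))
    intro Ω _ _ ξ x
    obtain ⟨u, hx⟩ : ∃ u : (Scheme.pointSmallEtale (ξ ≫ f)).fiber.obj (EtCoh.top S),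
        (fiberIso f ξ).inv.app (EtCoh.top S) u = x := by
      refine ⟨ConcreteCategory.hom ((fiberIso f ξ).hom.app (EtCoh.top S)) x, ?_⟩
      exact iso_inv_hom_apply (fiberIso f ξ) (EtCoh.top S) x
    have hc := germ_compat f ξ F (EtCoh.top S) u σ
    rw [hx] at hc
    have hu : (u.left : Spec (CommRingCat.of Ω) ⟶ (EtCoh.top S).left)
        (default : Spec (CommRingCat.of Ω)) = f (ξ default) := by
      obtain ⟨ul, hul, huw⟩ : ∃ ul : Spec (CommRingCat.of Ω) ⟶ S,
          ul = u.left ∧ ul ≫ 𝟙 S = ξ ≫ f := ⟨u.left, rfl, Over.w u⟩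
      rw [Category.comp_id] at huw
      have e2 : ul default = f (ξ default) := by rw [huw, Scheme.Hom.comp_apply]
      exact (congrArg (fun m : Spec (CommRingCat.of Ω) ⟶ S => m default) hul).symm.trans e2
    have hg0 : germ (ξ ≫ f) F (EtCoh.top S) u σ = 0 :=
      (germ_eq_zero_iff F (ξ ≫ f) (EtCoh.top S) u σ (f (ξ default)) hu).mpr (h (ξ default))
    rw [hg0, map_zero] at hc
    exact hc.symm


set_option backward.isDefEq.respectTransparency.types false in

/-- For an abelian sheaf F on the small etale site of S and two global sections s, t there is an open W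
of S such that a morphism f : T -> S has image inside W if and only if the pullbacks of s and t
along f (images under the adjunction unit, as sections of the pullback sheaf over T) coincide. -/
theorem result {S : Scheme.{u}} (F : EtCoh.Ab S) (s t : EtCoh.sect F (EtCoh.top S)) :
    ∃ W : S.Opens, ∀ (T : Scheme.{u}) (f : T ⟶ S),
      Set.range f.base ⊆ (W : Set S) ↔
        ((EtCoh.pullPushAdj f).unit.app F).hom.app (op (EtCoh.top S)) s =
          ((EtCoh.pullPushAdj f).unit.app F).hom.app (op (EtCoh.top S)) t := by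
  have hcl : IsClosed (EtShriek.sectSupp F (EtCoh.top S) (s - t)) :=
    (Groth.Agent.S0671.result F).1 (EtCoh.top S) (s - t)
  refine ⟨⟨(EtShriek.sectSupp F (EtCoh.top S) (s - t))ᶜ, hcl.isOpen_compl⟩, ?_⟩
  intro T f
  have e : ((EtCoh.pullPushAdj f).unit.app F).hom.app (op (EtCoh.top S)) s =
      ((EtCoh.pullPushAdj f).unit.app F).hom.app (op (EtCoh.top S)) t ↔
      ((EtCoh.pullPushAdj f).unit.app F).hom.app (op (EtCoh.top S)) (s - t) = 0 := by
    rw [map_sub, sub_eq_zero]
  rw [e, unit_eq_zero_iff]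
  constructor
  · intro h y
    exact h ⟨y, rfl⟩
  · rintro h _ ⟨y, rfl⟩
    exact h y

end Groth.Agent.S0634
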