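import Groth.Statements.S0642
import Mathlib
import Groth.Agent.Lib.Helper23IntStalkD
-- import your own Groth.Agent.* helpers here

set_option autoImplicit false
set_option backward.isDefEq.respectTransparency.types false
open CategoryTheory CategoryTheory.Limits AlgebraicGeometry Opposite
universe u
open EtCore

namespace Groth.Agent.S0642

open Groth.Agent.Lib.Helper23.IntStalkC Groth.Agent.Lib.Helper23.IntStalkD

/-- Let X_0 -> X be integral, universally injective and surjective (a universal homeomorphism). Then for
every abelian sheaf F on the small etale site of X and every q the pullback map from H^q(X, F) to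
H^q(X_0, F|_{X_0}) is bijective. (Exactness of pullback of abelian sheaves, which always holds, is
carried as an instance hypothesis.) -/
theorem result {X₀ X : Scheme.{u}} (i : X₀ ⟶ X) [IsIntegralHom i]
    [UniversallyInjective i] [Surjective i] [PreservesFiniteLimits (EtCoh.pull i)] (F : EtCoh.Ab X) (q : ℕ) :
    Function.Bijective (EtCore.Hpull i F q) := by
  haveI hu : ∀ G : EtCoh.Ab X, IsIso ((EtCoh.pullPushAdj i).unit.app G) := by
    intro G
    apply isIso_unit_of_stalks
    intro Ω _ _ η hη
    exact (hη (i.surjective _)).elim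
  haveI hc : ∀ G : EtCoh.Ab X₀, IsIso ((EtCoh.pullPushAdj i).counit.app G) := isIso_counit_ui i
  haveI : IsIso (EtCoh.pullPushAdj i).unit := NatIso.isIso_of_isIso_app _
  have hff := (EtCoh.pullPushAdj i).fullyFaithfulLOfIsIsoUnit
  haveI := hff.full
  haveI := hff.faithful
  let E : EtCoh.Ab X ≌ EtCoh.Ab X₀ := (EtCoh.pullPushAdj i).toEquivalence
  have adj' : EtCoh.push i ⊣ EtCoh.pull i := E.symm.toAdjunction
  haveI : PreservesLimits (EtCoh.push i) := (EtCoh.pullPushAdj i).rightAdjoint_preservesLimits
  haveI : (EtCoh.push i).PreservesMonomorphisms := inferInstance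
  haveI : (EtCoh.pull i).PreservesInjectiveObjects :=
    Functor.preservesInjectiveObjects_of_adjunction_of_preservesMonomorphisms adj'
  have hb := Functor.mapExt_bijective_of_preservesInjectiveObjects (EtCoh.pull i)
    (EtCoh.const X ℤ) F q
  unfold EtCore.Hpull
  rw [AddMonoidHom.coe_comp]
  refine Function.Bijective.comp ?_ hb
  constructor
  · intro x y hxy
    have h1 := congrArg (fun e => (Abelian.Ext.mk₀ (pullConst i ℤ).hom).comp e (zero_add q)) hxy
    simp only [AddMonoidHom.mk'_apply] at h1
    rw [Abelian.Ext.mk₀_comp_mk₀_assoc, Abelian.Ext.mk₀_comp_mk₀_assoc, Iso.hom_inv_id,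
      Abelian.Ext.mk₀_id_comp, Abelian.Ext.mk₀_id_comp] at h1
    exact h1
  · intro y
    refine ⟨(Abelian.Ext.mk₀ (pullConst i ℤ).hom).comp y (zero_add q), ?_⟩
    simp only [AddMonoidHom.mk'_apply]
    rw [Abelian.Ext.mk₀_comp_mk₀_assoc, Iso.inv_hom_id, Abelian.Ext.mk₀_id_comp]

end Groth.Agent.S0642
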