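import Groth.Statements.S0643
import Mathlib.RingTheory.AdjoinRoot
import Mathlib.Algebra.Ring.GeomSum
import Mathlib.Data.Nat.Choose.Sum
-- import your own Groth.Agent.* helpers here

set_option autoImplicit false
universe u
open EtCore

namespace Groth.Agent.S0643

theorem key {B : Type*} [CommRing B] (α β r : B) (n : ℕ) (p : ℕ → B)
    (hP : r ^ n + ∑ i ∈ Finset.range n, p i * r ^ i = 0)
    (h1 : α ^ n + ∑ i ∈ Finset.range n, p i * β ^ (n - i) * α ^ i = 1) :
    IsUnit (α - β * r) := by
  have h2 : (β * r) ^ n + ∑ i ∈ Finset.range n, p i * β ^ (n - i) * (β * r) ^ i = 0 := by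
    have : (β * r) ^ n + ∑ i ∈ Finset.range n, p i * β ^ (n - i) * (β * r) ^ i =
        β ^ n * (r ^ n + ∑ i ∈ Finset.range n, p i * r ^ i) := by
      rw [mul_add, Finset.mul_sum, mul_pow]
      congr 1
      apply Finset.sum_congr rfl
      intro i hi
      have hi' : i ≤ n := (Finset.mem_range.mp hi).le
      have hb : β ^ n = β ^ (n - i) * β ^ i := by rw [← pow_add, Nat.sub_add_cancel hi']
      rw [mul_pow, hb]; ring
    rw [this, hP, mul_zero]
  have e : (1 : B) = (α ^ n - (β * r) ^ n) +
      ∑ i ∈ Finset.range n, p i * β ^ (n - i) * (α ^ i - (β * r) ^ i) := by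
    have : (1 : B) = 1 - 0 := by ring
    rw [this, ← h1, ← h2]
    simp only [mul_sub, Finset.sum_sub_distrib]
    ring
  have hdvd : (α - β * r) ∣ 1 := by
    rw [e]
    apply dvd_add (sub_dvd_pow_sub_pow _ _ _)
    apply Finset.dvd_sum
    intro i _
    exact Dvd.dvd.mul_left (sub_dvd_pow_sub_pow _ _ _) _
  exact isUnit_of_dvd_one hdvd

theorem coeffs {A : Type*} [CommRing A] (a b c u v : A) (n : ℕ) (hn : 0 < n)
    (huv : u * a + v * b = 1) (hc : c * b = a ^ n - 1) :
    a ^ n + ∑ i ∈ Finset.range n,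
      (-c * (u ^ i * v ^ (n - 1 - i) * ((n - 1).choose i : A))) * b ^ (n - i) * a ^ i = 1 := by
  have hsum : ∑ i ∈ Finset.range n,
      (-c * (u ^ i * v ^ (n - 1 - i) * ((n - 1).choose i : A))) * b ^ (n - i) * a ^ i =
      -c * b * (u * a + v * b) ^ (n - 1) := by
    rw [add_pow, Finset.mul_sum]
    have hn1 : n - 1 + 1 = n := Nat.sub_add_cancel hn
    rw [hn1]
    apply Finset.sum_congr rfl
    intro i hi
    have hi' : i < n := Finset.mem_range.mp hi
    have hb : b ^ (n - i) = b * b ^ (n - 1 - i) := by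
      rw [← pow_succ']
      congr 1
      omega
    rw [hb, mul_pow, mul_pow]
    ring
  rw [hsum, huv, one_pow, mul_one]
  linear_combination (-1 : A) * hc

open Polynomial in
/-- Let A be a ring, assumed nonzero here (the published statement does not say so; over the zero ring
no polynomial has positive degree in Lean's sense), and a, b elements generating the unit ideal such
that some positive power of a is congruent to 1 modulo b. Then there is a monic polynomial P of
positive degree over A such that in B = A[y]/(P) the element a - b y is a unit. -/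
theorem result (A : Type u) [CommRing A] [Nontrivial A] (a b : A) (hab : IsCoprime a b)
    (hroot : ∃ n : ℕ, 0 < n ∧ a ^ n - 1 ∈ Ideal.span ({b} : Set A)) :
    ∃ P : A[X], P.Monic ∧ 0 < P.natDegree ∧
      IsUnit (algebraMap A (AdjoinRoot P) a - algebraMap A (AdjoinRoot P) b * AdjoinRoot.root P) := by
  obtain ⟨n, hn, hmem⟩ := hroot
  obtain ⟨c, hc⟩ := Ideal.mem_span_singleton'.mp hmem
  obtain ⟨u, v, huv⟩ := hab
  let p : ℕ → A := fun i => -c * (u ^ i * v ^ (n - 1 - i) * ((n - 1).choose i : A))
  let Q : A[X] := ∑ i ∈ Finset.range n, C (p i) * X ^ i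
  have hQdeg : Q.degree < n := by
    refine (degree_sum_le _ _).trans_lt ?_
    refine (Finset.sup_lt_iff (WithBot.bot_lt_coe n)).2 fun k hk => ?_
    refine (degree_C_mul_X_pow_le _ _).trans_lt ?_
    exact WithBot.coe_lt_coe.mpr (Nat.cast_lt.mpr (Finset.mem_range.mp hk))
  have hmonic : (X ^ n + Q).Monic := monic_X_pow_add hQdeg
  have hnat : (X ^ n + Q).natDegree = n := by
    rw [add_comm]
    exact natDegree_add_eq_right_of_degree_lt (by rwa [degree_X_pow]) |>.trans (natDegree_X_pow n)
  refine ⟨X ^ n + Q, hmonic, by rw [hnat]; exact hn, ?_⟩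
  rw [AdjoinRoot.algebraMap_eq]
  apply key _ _ _ n (fun i => AdjoinRoot.of (X ^ n + Q) (p i))
  · have := AdjoinRoot.eval₂_root (X ^ n + Q)
    simpa [Q, eval₂_add, eval₂_finset_sum, eval₂_mul, eval₂_pow] using this
  · have h := congrArg (AdjoinRoot.of (X ^ n + Q)) (coeffs a b c u v n hn huv hc)
    simpa [p, map_add, map_sum, map_mul, map_pow] using h

end Groth.Agent.S0643
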