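import Groth.Statements.S0644
import Mathlib
import Groth.Agent.Lib.Helper16SmallEtale
-- import your own Groth.Agent.* helpers here

set_option autoImplicit false
open CategoryTheory CategoryTheory.Limits AlgebraicGeometry Opposite
universe u
open EtCore

namespace Groth.Agent.S0644

open Groth.Agent.Lib.Helper16.SmallEtale

set_option backward.isDefEq.respectTransparency.types false in
/-- morphisms into an open subscheme (as an etale scheme) exist iff the image lies in the open -/
lemma nonempty_hom_iff {S : Scheme.{u}} (W : S.Opens) (U : S.Etale) :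
    Nonempty (U ⟶ Scheme.Etale.mk W.ι) ↔ Set.range U.hom.base ⊆ (W : Set S) := by
  constructor
  · rintro ⟨k⟩ _ ⟨p, rfl⟩
    have h1 : k.left ≫ W.ι = U.hom := Over.w k.hom
    have h2 := congrArg (fun m : U.left ⟶ S => m p) h1
    simp only [Scheme.Hom.comp_apply] at h2
    rw [← h2]
    exact (k.left p).2
  · intro h
    have h' : Set.range U.hom.base ⊆ Set.range W.ι.base := by rwa [Scheme.Opens.range_ι]
    let l : U.left ⟶ (W : Scheme.{u}) := IsOpenImmersion.lift W.ι U.hom h'
    have hl : l ≫ W.ι = U.hom := IsOpenImmersion.lift_fac _ _ _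
    exact ⟨MorphismProperty.Over.homMk l hl⟩

lemma subsingleton_hom {S : Scheme.{u}} (W : S.Opens) (U : S.Etale) :
    Subsingleton (U ⟶ Scheme.Etale.mk W.ι) := by
  constructor
  intro a b
  apply MorphismProperty.Over.Hom.ext
  have h1 : a.left ≫ W.ι = U.hom := Over.w a.hom
  have h2 : b.left ≫ W.ι = U.hom := Over.w b.hom
  exact (cancel_mono W.ι).mp (h1.trans h2.symm)

set_option backward.isDefEq.respectTransparency.types false in
/-- for a sheaf with subsingleton values, nonemptiness of sections is local -/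
lemma nonempty_of_cover {S : Scheme.{u}} (F : Sheaf S.smallEtaleTopology (Type u))
    (hF : ∀ U : S.Etale, Subsingleton (F.obj.obj (op U))) (U : S.Etale)
    (h : ∀ p : U.left, ∃ (V : S.Etale) (g : V ⟶ U) (q : V.left),
      Nonempty (F.obj.obj (op V)) ∧ g.left q = p) :
    Nonempty (F.obj.obj (op U)) := by
  have hFs := (isSheaf_iff_isSheaf_of_type _ _).mp F.property
  let R : Sieve U :=
    { arrows := fun V _ => Nonempty (F.obj.obj (op V))
      downward_closed := by
        rintro V V' g ⟨s⟩ m
        exact ⟨F.obj.map m.op s⟩ }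
  have hR : R ∈ S.smallEtaleTopology U := by
    rw [mem_smallEtale_iff]
    intro p
    obtain ⟨V, g, q, hV, hq⟩ := h p
    exact ⟨V, g, q, hV, hq⟩
  let x : Presieve.FamilyOfElements F.obj R.arrows := fun V g hg => Classical.choice hg
  have hx : x.Compatible := by
    intro Y₁ Y₂ Z g₁ g₂ f₁ f₂ h₁ h₂ _
    exact (hF Z).elim _ _
  obtain ⟨t, -, -⟩ := hFs R hR x hx
  exact ⟨t⟩

set_option backward.isDefEq.respectTransparency.types false in
theorem exists_open {S : Scheme.{u}} (F : Sheaf S.smallEtaleTopology (Type u))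
    (hF : ∀ U : S.Etale, Subsingleton (F.obj.obj (op U))) :
    ∃ W : S.Opens, ∀ U : S.Etale, Nonempty (F.obj.obj (op U)) ↔ Set.range U.hom.base ⊆ (W : Set S) := by
  let W : S.Opens := ⟨⋃ (U : S.Etale) (_ : Nonempty (F.obj.obj (op U))), Set.range U.hom.base,
    isOpen_iUnion fun U => isOpen_iUnion fun _ => U.hom.isOpenMap.isOpen_range⟩
  refine ⟨W, fun U => ⟨?_, ?_⟩⟩
  · intro hU x hx
    exact Set.mem_iUnion.mpr ⟨U, Set.mem_iUnion.mpr ⟨hU, hx⟩⟩
  · intro hU
    apply nonempty_of_cover F hF U
    intro p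
    have hp : U.hom p ∈ (W : Set S) := hU ⟨p, rfl⟩
    obtain ⟨U', hU'⟩ := Set.mem_iUnion.mp hp
    obtain ⟨⟨s⟩, q, hq⟩ := Set.mem_iUnion.mp hU'
    obtain ⟨z, hz1, hz2⟩ := Scheme.Pullback.exists_preimage_pullback (f := U.hom) (g := U'.hom) p q hq.symm
    let V : S.Etale := Scheme.Etale.mk (pullback.fst U.hom U'.hom ≫ U.hom)
    let g1 : V ⟶ U := MorphismProperty.Over.homMk (pullback.fst U.hom U'.hom) rfl
    let g2 : V ⟶ U' := MorphismProperty.Over.homMk (pullback.snd U.hom U'.hom) pullback.condition.symm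
    exact ⟨V, g1, z, ⟨F.obj.map g2.op s⟩, hz1⟩


set_option backward.isDefEq.respectTransparency.types false in
/-- Let F be a sheaf of sets on the small etale site of S which is a subsheaf of the final sheaf, i.e.
every set of sections has at most one element. Then there is exactly one open W of S such that F is
isomorphic to the sheaf represented by W (viewed as a scheme etale over S). -/
theorem result (S : Scheme.{u}) (F : Sheaf S.smallEtaleTopology (Type u))
    (hF : ∀ U : S.Etale, Subsingleton (F.obj.obj (op U))) :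
    ∃! W : S.Opens, Nonempty (F.obj ≅ yoneda.obj (Scheme.Etale.mk W.ι)) := by
  obtain ⟨W, hW⟩ := exists_open F hF
  refine ⟨W, ?_, ?_⟩
  · have h1 : ∀ U : S.Etaleᵒᵖ, F.obj.obj U → ((yoneda.obj (Scheme.Etale.mk W.ι)).obj U) := by
      intro U s
      exact Classical.choice ((nonempty_hom_iff W U.unop).mpr ((hW U.unop).mp ⟨s⟩))
    have h2 : ∀ U : S.Etaleᵒᵖ, ((yoneda.obj (Scheme.Etale.mk W.ι)).obj U) → F.obj.obj U := by
      intro U k
      exact Classical.choice ((hW U.unop).mpr ((nonempty_hom_iff W U.unop).mp ⟨k⟩))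
    have hs1 : ∀ U : S.Etaleᵒᵖ, Subsingleton (F.obj.obj U) := fun U => hF U.unop
    have hs2 : ∀ U : S.Etaleᵒᵖ, Subsingleton ((yoneda.obj (Scheme.Etale.mk W.ι)).obj U) :=
      fun U => subsingleton_hom W U.unop
    refine ⟨NatIso.ofComponents (fun U => Equiv.toIso
      { toFun := h1 U
        invFun := h2 U
        left_inv := fun a => (hs1 U).elim _ _
        right_inv := fun a => (hs2 U).elim _ _ }) ?_⟩
    intro U V m
    ext a
    exact (hs2 V).elim _ _
  · rintro W' ⟨e'⟩
    -- W' has the same characterisation as W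
    have hW' : ∀ U : S.Etale, Nonempty (F.obj.obj (op U)) ↔ Set.range U.hom.base ⊆ (W' : Set S) := by
      intro U
      rw [← nonempty_hom_iff W' U]
      exact ⟨fun ⟨s⟩ => ⟨e'.hom.app (op U) s⟩, fun ⟨k⟩ => ⟨e'.inv.app (op U) k⟩⟩
    apply le_antisymm
    · have := (hW (Scheme.Etale.mk W'.ι)).mp ((hW' (Scheme.Etale.mk W'.ι)).mpr (by
        change Set.range W'.ι.base ⊆ _
        rw [Scheme.Opens.range_ι]))
      change Set.range W'.ι.base ⊆ _ at this
      rwa [Scheme.Opens.range_ι] at this
    · have := (hW' (Scheme.Etale.mk W.ι)).mp ((hW (Scheme.Etale.mk W.ι)).mpr (by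
        change Set.range W.ι.base ⊆ _
        rw [Scheme.Opens.range_ι]))
      change Set.range W.ι.base ⊆ _ at this
      rwa [Scheme.Opens.range_ι] at this

end Groth.Agent.S0644
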