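import Groth.Statements.S0653
import Mathlib
import Groth.Agent.Lib.Helper23FinStalkC
import Groth.Agent.Lib.Helper9ExtZeroBC
import Groth.Agent.S0652
-- import your own Groth.Agent.* helpers here

set_option autoImplicit false
set_option backward.isDefEq.respectTransparency.types false
open CategoryTheory CategoryTheory.Limits AlgebraicGeometry Opposite
universe u
open EtCore

namespace Groth.Agent.S0653

open Groth.Agent.Lib.Helper23.FinStalkC

/-- vanishing of a stalk at a separably closed geometric point can be tested after passing to the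
algebraic closure -/
lemma isZero_stalk_of_algClosure {Y : Scheme.{u}} {Ω : Type u} [Field Ω] [IsSepClosed Ω]
    (ξ : Spec (CommRingCat.of Ω) ⟶ Y) (G : EtCoh.Ab Y)
    (hG : IsZero ((EtCoh.stalk
      (Spec.map (CommRingCat.ofHom (algebraMap Ω (AlgebraicClosure Ω))) ≫ ξ)).obj G)) :
    IsZero ((EtCoh.stalk ξ).obj G) := by
  let ι : Spec (CommRingCat.of (AlgebraicClosure Ω)) ⟶ Spec (CommRingCat.of Ω) :=
    Spec.map (CommRingCat.ofHom (algebraMap Ω (AlgebraicClosure Ω)))
  let Φ := Scheme.pointSmallEtale ξ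
  let Φ' := Scheme.pointSmallEtale (ι ≫ ξ)
  haveI : Subsingleton ((EtCoh.stalk (ι ≫ ξ)).obj G) :=
    AddCommGrpCat.isZero_iff_subsingleton.1 hG
  suffices h : ∀ a : (EtCoh.stalk ξ).obj G, a = 0 by
    haveI : Subsingleton ((EtCoh.stalk ξ).obj G) := ⟨fun a b => (h a).trans (h b).symm⟩
    exact AddCommGrpCat.isZero_of_subsingleton _
  intro a
  obtain ⟨W, w, s, rfl⟩ := Φ.toPresheafFiber_jointly_surjective (P := G.obj) a
  let wb : Φ'.fiber.obj W := Over.homMk (ι ≫ w.left) (by
    have := Over.w w
    simp only [Category.assoc]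
    exact congrArg (ι ≫ ·) this)
  have h0 : Φ'.toPresheafFiber W wb G.obj s = Φ'.toPresheafFiber W wb G.obj 0 :=
    @Subsingleton.elim ((EtCoh.stalk (ι ≫ ξ)).obj G) _ _ _
  obtain ⟨W', k, wb1, hw, hk⟩ := (Φ'.toPresheafFiber_eq_iff' W wb s 0).mp h0
  let wl : Spec (CommRingCat.of Ω) ⟶ W.left := w.left
  let wbl : Spec (CommRingCat.of (AlgebraicClosure Ω)) ⟶ W'.left := wb1.left
  have e3 : wbl ≫ k.left = ι ≫ wl := congrArg (fun m => m.left) hw
  obtain ⟨l, hl1, hl2⟩ := Scheme.exists_fac_of_etale_of_isSepClosed k.left wl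
    (wbl (default : Spec (CommRingCat.of (AlgebraicClosure Ω)))) (by
      have := congrArg (fun m : Spec (CommRingCat.of (AlgebraicClosure Ω)) ⟶ W.left =>
        m (default : Spec (CommRingCat.of (AlgebraicClosure Ω)))) e3
      simp only [Scheme.Hom.comp_apply] at this
      refine this.trans ?_
      exact congrArg _ (Subsingleton.elim _ _))
  let w' : Φ.fiber.obj W' := Over.homMk l (by
    have h1 : k.left ≫ W.hom = W'.hom := Over.w k.hom
    change l ≫ W'.hom = ξ
    rw [← h1, ← Category.assoc, hl1]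
    exact Over.w w)
  have hw' : Φ.fiber.map k w' = w := by
    apply Over.OverMorphism.ext
    exact hl1
  rw [← hw', ← Φ.toPresheafFiber_w_apply, hk]
  simp only [map_zero]
  rfl

lemma isZero_pi_of_isZero {C : Type*} [Category C] [HasZeroMorphisms C] {ι : Type*} (X : ι → C)
    [HasProduct X] (h : ∀ i, IsZero (X i)) : IsZero (∏ᶜ X) := by
  rw [IsZero.iff_id_eq_zero]
  apply Pi.hom_ext
  intro i
  exact (h i).eq_of_tgt _ _

lemma isZero_sigma_of_isEmpty {C : Type*} [Category C] [HasZeroMorphisms C] {ι : Type*} [IsEmpty ι]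
    (X : ι → C) [HasCoproduct X] : IsZero (∐ X) := by
  rw [IsZero.iff_id_eq_zero]
  apply Sigma.hom_ext
  intro i
  exact isEmptyElim i

/-- Consider a cartesian square U = X x_Y V with f : X -> Y finite, j : V -> Y an open immersion, j' : U
-> X and g : U -> V the projections. Then for every abelian sheaf F on the small etale site of U,
f_* j'_! F is isomorphic to j_! g_* F. (The source also asserts functoriality in F; only the
objectwise isomorphism is stated.) (Continuity of the composition functor of etale sites, which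
always holds, is carried as an instance hypothesis.) -/
theorem result {U X V Y : Scheme.{u}} (f : X ⟶ Y) [IsFinite f] (j : V ⟶ Y)
    [IsOpenImmersion j] [AlgebraicGeometry.Etale j] [EtShriek.JCont j] (j' : U ⟶ X) [IsOpenImmersion j']
    [AlgebraicGeometry.Etale j'] [EtShriek.JCont j'] (g : U ⟶ V) (h : IsPullback j' g f j) (F : EtCoh.Ab U) :
    Nonempty ((EtCoh.push f).obj ((EtShriek.extZero j').obj F) ≅ (EtShriek.extZero j).obj ((EtCoh.push g).obj F)) := by
  refine Groth.Agent.S0652.result j ((EtCoh.push g).obj F)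
    ((EtCoh.push f).obj ((EtShriek.extZero j').obj F)) ?_ ?_
  · haveI := Groth.Agent.S0651.isIso_unit_extZero j'
    exact ⟨(Groth.Agent.Lib.Helper9.ExtZeroBC.pushRestrIso j f j' g h).app _ ≪≫
      (EtCoh.push g).mapIso (asIso ((EtShriek.extZeroAdj j').unit.app F)).symm⟩
  · intro Ω _ _ ξ hξ
    apply isZero_stalk_of_algClosure
    let ι : Spec (CommRingCat.of (AlgebraicClosure Ω)) ⟶ Spec (CommRingCat.of Ω) :=
      Spec.map (CommRingCat.ofHom (algebraMap Ω (AlgebraicClosure Ω)))
    haveI := isIso_ThetaAb f ((EtShriek.extZero j').obj F) (ι ≫ ξ)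
    refine IsZero.of_iso ?_ (asIso (ThetaAb f ((EtShriek.extZero j').obj F) (ι ≫ ξ)))
    apply isZero_pi_of_isZero
    intro ζ
    obtain ⟨e⟩ := Groth.Agent.S0647.result j' F ζ.1
    refine IsZero.of_iso ?_ e
    haveI : IsEmpty {u : Spec (CommRingCat.of (AlgebraicClosure Ω)) ⟶ U // u ≫ j' = ζ.1} := by
      constructor
      rintro ⟨u, hu⟩
      have h1 : (u ≫ g) ≫ j = ι ≫ ξ := by
        rw [Category.assoc, ← h.w, ← Category.assoc, hu]
        exact ζ.2
      have h2 := congrArg (fun m : Spec (CommRingCat.of (AlgebraicClosure Ω)) ⟶ Y =>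
        m (default : Spec (CommRingCat.of (AlgebraicClosure Ω)))) h1
      simp only [Scheme.Hom.comp_apply] at h2
      exact hξ ⟨_, h2.symm⟩ ⟨_, rfl⟩
    exact isZero_sigma_of_isEmpty _

end Groth.Agent.S0653
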