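import Groth.Statements.S0654
import Mathlib
import Groth.Agent.Lib.Helper23FinStalkE
import Groth.Agent.S0652
-- import your own Groth.Agent.* helpers here

set_option autoImplicit false
set_option backward.isDefEq.respectTransparency.types false
open CategoryTheory CategoryTheory.Limits AlgebraicGeometry Opposite
universe u
open EtCore

namespace Groth.Agent.S0654

open Groth.Agent.Lib.Helper23.FinStalkA Groth.Agent.Lib.Helper23.FinStalkB
  Groth.Agent.Lib.Helper23.FinStalkC Groth.Agent.Lib.Helper23.FinStalkD
  Groth.Agent.Lib.Helper23.FinStalkE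
  Groth.Agent.Lib.Helper16.EtGlue Groth.Agent.S0101

/-- Let i : Z -> X be a closed immersion and j : U -> X the open immersion of the complement of its
image. For every abelian sheaf F on the small etale site of X, the counit j_! (F|_U) -> F followed
by the unit F -> i_* i^{-1} F composes to zero and the resulting three-term sequence is short exact.
(Continuity of the composition functor of etale sites, which always holds, is carried as an instance
hypothesis.) -/
theorem result {Z X : Scheme.{u}} (i : Z ⟶ X) [IsClosedImmersion i]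
    (U : X.Opens) (hU : (U : Set X) = (Set.range i.base)ᶜ) [AlgebraicGeometry.Etale U.ι] [EtShriek.JCont U.ι]
    (F : EtCoh.Ab X) :
    ∃ w : (EtShriek.extZeroAdj U.ι).counit.app F ≫ (EtCoh.pullPushAdj i).unit.app F = 0,
      (ShortComplex.mk _ _ w).ShortExact := by
  have hdisj : ∀ (x : X), x ∈ U → x ∉ Set.range i.base := by
    intro x hx
    have : x ∈ (U : Set X) := hx
    rw [hU] at this
    exact this
  have hz : IsZero ((EtShriek.restrAlong U.ι).obj ((EtCoh.push i).obj ((EtCoh.pull i).obj F))) := by
    rw [IsZero.iff_id_eq_zero]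
    apply Sheaf.hom_ext
    ext W s
    haveI : IsEmpty ((EtCoh.bc i).obj ((EtShriek.compEtale U.ι).obj W.unop)).left := by
      constructor
      intro p
      let p1 : W.unop.left := (pullback.fst (W.unop.hom ≫ U.ι) i) p
      let p2 : Z := (pullback.snd (W.unop.hom ≫ U.ι) i) p
      have h1 : (W.unop.hom ≫ U.ι) p1 = i p2 := by
        have := congrArg (fun m : pullback (W.unop.hom ≫ U.ι) i ⟶ X => m p)
          (pullback.condition (f := W.unop.hom ≫ U.ι) (g := i))
        simpa only [Scheme.Hom.comp_apply] using this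
      refine hdisj ((W.unop.hom ≫ U.ι) p1) ?_ ⟨p2, h1.symm⟩
      rw [Scheme.Hom.comp_apply]
      exact (W.unop.hom p1).2
    haveI := subsingleton_of_isEmpty
      (((EtCoh.pull i).obj F).obj ⋙ forget AddCommGrpCat.{u + 1})
      ((isSheaf_iff_isSheaf_of_type _ _).1
        ((Presheaf.isSheaf_iff_isSheaf_forget _ ((EtCoh.pull i).obj F).obj
          (forget AddCommGrpCat.{u + 1})).1 ((EtCoh.pull i).obj F).property))
      ((EtCoh.bc i).obj ((EtShriek.compEtale U.ι).obj W.unop))
    exact Subsingleton.elim (α := (((EtCoh.pull i).obj F).obj ⋙ forget AddCommGrpCat.{u + 1}).obj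
      (op ((EtCoh.bc i).obj ((EtShriek.compEtale U.ι).obj W.unop)))) _ _
  have w : (EtShriek.extZeroAdj U.ι).counit.app F ≫ (EtCoh.pullPushAdj i).unit.app F = 0 := by
    apply ((EtShriek.extZeroAdj U.ι).homEquiv _ _).injective
    exact hz.eq_of_tgt _ _
  refine ⟨w, shortExact_of_stalks _ _ w ?_⟩
  intro Ω _ _ ξ
  by_cases hx : ξ (default : Spec (CommRingCat.of Ω)) ∈ U
  · left
    have hr : Set.range ξ.base ⊆ Set.range U.ι.base := by
      rintro _ ⟨a, rfl⟩
      rw [Subsingleton.elim a default]
      rw [Scheme.Opens.range_ι]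
      exact hx
    obtain ⟨u, rfl⟩ : ∃ u, u ≫ U.ι = ξ :=
      ⟨IsOpenImmersion.lift U.ι ξ hr, IsOpenImmersion.lift_fac _ _ _⟩
    constructor
    · haveI := Groth.Agent.S0651.isIso_unit_extZero U.ι
      have ht := (EtShriek.extZeroAdj U.ι).right_triangle_components F
      haveI : IsIso ((EtShriek.restrAlong U.ι).map ((EtShriek.extZeroAdj U.ι).counit.app F)) := by
        have : (EtShriek.restrAlong U.ι).map ((EtShriek.extZeroAdj U.ι).counit.app F) =
            inv ((EtShriek.extZeroAdj U.ι).unit.app ((EtShriek.restrAlong U.ι).obj F)) := by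
          rw [← cancel_epi ((EtShriek.extZeroAdj U.ι).unit.app ((EtShriek.restrAlong U.ι).obj F)),
            IsIso.hom_inv_id]
          exact ht
        rw [this]
        infer_instance
      let e := Groth.Agent.S0652.stalkRestrIso U.ι u
      have : (EtCoh.stalk (u ≫ U.ι)).map ((EtShriek.extZeroAdj U.ι).counit.app F) =
          e.hom.app _ ≫ (EtCoh.stalk u).map ((EtShriek.restrAlong U.ι).map
            ((EtShriek.extZeroAdj U.ι).counit.app F)) ≫ e.inv.app _ :=
        (NatIso.naturality_2 e ((EtShriek.extZeroAdj U.ι).counit.app F)).symm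
      haveI : IsIso ((EtCoh.stalk (u ≫ U.ι)).map ((EtShriek.extZeroAdj U.ι).counit.app F)) := by
        rw [this]
        infer_instance
      exact ConcreteCategory.bijective_of_isIso _
    · rw [← AddCommGrpCat.isZero_iff_subsingleton]
      haveI := isIso_ThetaAb i ((EtCoh.pull i).obj F) (u ≫ U.ι)
      refine IsZero.of_iso ?_ (asIso (ThetaAb i ((EtCoh.pull i).obj F) (u ≫ U.ι)))
      apply isZero_pi_of_isZero
      rintro ⟨z, hz'⟩
      exfalso
      refine hdisj _ hx ⟨z default, ?_⟩
      rw [← hz']
      rfl
  · right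
    have hx' : ξ (default : Spec (CommRingCat.of Ω)) ∈ Set.range i.base := by
      by_contra hc
      apply hx
      change _ ∈ (U : Set X)
      rw [hU]
      exact hc
    obtain ⟨c, hc⟩ := hx'
    obtain ⟨z, rfl, -⟩ := exists_geo_lift i ξ c hc
    constructor
    · rw [← AddCommGrpCat.isZero_iff_subsingleton]
      obtain ⟨e⟩ := Groth.Agent.S0647.result U.ι ((EtShriek.restrAlong U.ι).obj F) (z ≫ i)
      refine IsZero.of_iso ?_ e
      haveI : IsEmpty {u : Spec (CommRingCat.of Ω) ⟶ U // u ≫ U.ι = z ≫ i} := by
        constructor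
        rintro ⟨u, hu⟩
        apply hx
        rw [← hu, Scheme.Hom.comp_apply]
        exact (u default).2
      exact isZero_sigma_of_isEmpty _
    · have hcomp : ∀ a, thetaAb i ((EtCoh.pull i).obj F) (z ≫ i) z rfl
          ((EtCoh.stalk (z ≫ i)).map ((EtCoh.pullPushAdj i).unit.app F) a) =
          (stalkPullIso i z).hom.app F a := stalk_unit_thetaAb i F z
      have hθ : Function.Bijective (thetaAb i ((EtCoh.pull i).obj F) (z ≫ i) z rfl) :=
        thetaAb_bijective_of_mono i ((EtCoh.pull i).obj F) (z ≫ i) z rfl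
      have h1 : Function.Bijective (fun a => thetaAb i ((EtCoh.pull i).obj F) (z ≫ i) z rfl
          ((EtCoh.stalk (z ≫ i)).map ((EtCoh.pullPushAdj i).unit.app F) a)) := by
        have : (fun a => thetaAb i ((EtCoh.pull i).obj F) (z ≫ i) z rfl
          ((EtCoh.stalk (z ≫ i)).map ((EtCoh.pullPushAdj i).unit.app F) a)) =
          (fun a => (stalkPullIso i z).hom.app F a) := funext hcomp
        rw [this]
        exact ConcreteCategory.bijective_of_isIso _
      exact (Function.Bijective.of_comp_iff' hθ _).1 h1

end Groth.Agent.S0654
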