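import Groth.Statements.S0658
import Mathlib.AlgebraicGeometry.Artinian
import Mathlib.RingTheory.Etale.Field
import Mathlib.AlgebraicGeometry.Morphisms.Etale
import Mathlib.RingTheory.Unramified.Field
import Mathlib.RingTheory.KrullDimension.Zero
-- import your own Groth.Agent.* helpers here

set_option autoImplicit false
open CategoryTheory CategoryTheory.Limits AlgebraicGeometry Opposite
universe u
open EtCore

namespace Groth.Agent.S0658

theorem etale_of_coprod (k : Type u) [Field k] (U : Scheme.{u}) (φ : U ⟶ Spec (CommRingCat.of k))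
    (ι : Type u) (K : ι → Type u) [∀ i, Field (K i)] [∀ i, Algebra k (K i)]
    [∀ i, FiniteDimensional k (K i)] [∀ i, Algebra.IsSeparable k (K i)]
    (e : (∐ fun i => Spec (CommRingCat.of (K i))) ≅ U)
    (he : ∀ i, Sigma.ι (fun i => Spec (CommRingCat.of (K i))) i ≫ e.hom ≫ φ =
          Spec.map (CommRingCat.ofHom (algebraMap k (K i)))) :
    AlgebraicGeometry.Etale φ := by
  have h1 : AlgebraicGeometry.Etale (e.hom ≫ φ) := by
    rw [IsZariskiLocalAtSource.iff_of_openCover (P := @AlgebraicGeometry.Etale)
      (sigmaOpenCover (fun i => Spec (CommRingCat.of (K i))))]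
    intro i
    show AlgebraicGeometry.Etale (Sigma.ι (fun i => Spec (CommRingCat.of (K i))) i ≫ e.hom ≫ φ)
    rw [he i, HasRingHomProperty.Spec_iff (P := @AlgebraicGeometry.Etale)]
    show (algebraMap k (K i)).Etale
    rw [RingHom.etale_algebraMap]
    have : Algebra.FormallyEtale k (K i) := Algebra.FormallyEtale.of_isSeparable k (K i)
    have : Algebra.FinitePresentation k (K i) := Algebra.FinitePresentation.of_finiteType.mp inferInstance
    exact {}
  have : φ = e.inv ≫ (e.hom ≫ φ) := by simp
  rw [this]
  infer_instance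

/-- the ring hom `k → A` attached to an affine scheme `Spec A → Spec k`. -/
theorem artinian_of_etale (k : Type u) [Field k] (A : CommRingCat.{u})
    (f : Spec A ⟶ Spec (CommRingCat.of k)) [AlgebraicGeometry.Etale f] :
    (Spec.preimage f).hom.Etale := by
  rw [← HasRingHomProperty.Spec_iff (P := @AlgebraicGeometry.Etale), Spec.map_preimage]
  infer_instance

theorem isLocallyArtinian_of_etale (k : Type u) [Field k] (U : Scheme.{u})
    (φ : U ⟶ Spec (CommRingCat.of k)) [AlgebraicGeometry.Etale φ] : IsLocallyArtinian U := by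
  refine ⟨fun V => ?_⟩
  let f : Spec Γ(U, V) ⟶ Spec (CommRingCat.of k) := V.2.fromSpec ≫ φ
  have hf : (Spec.preimage f).hom.Etale := artinian_of_etale k _ f
  letI : Algebra k Γ(U, V) := (Spec.preimage f).hom.toAlgebra
  have : Algebra.Etale k Γ(U, V) := hf
  have : Module.Finite k Γ(U, V) := Algebra.FormallyUnramified.finite_of_free k _
  exact IsArtinianRing.of_finite k _

theorem coprod_of_etale (k : Type u) [Field k] (U : Scheme.{u}) (φ : U ⟶ Spec (CommRingCat.of k))
    [AlgebraicGeometry.Etale φ] :
    ∃ (ι : Type u) (K : ι → Type u) (_ : ∀ i, Field (K i)) (_ : ∀ i, Algebra k (K i))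
        (_ : ∀ i, FiniteDimensional k (K i)) (_ : ∀ i, Algebra.IsSeparable k (K i))
        (e : (∐ fun i => Spec (CommRingCat.of (K i))) ≅ U),
        ∀ i, Sigma.ι (fun i => Spec (CommRingCat.of (K i))) i ≫ e.hom ≫ φ =
          Spec.map (CommRingCat.ofHom (algebraMap k (K i))) := by
  haveI := isLocallyArtinian_of_etale k U φ
  haveI : DiscreteTopology U := inferInstance
  let W : U → U.Opens := fun x => ⟨{x}, isOpen_discrete _⟩
  have hW : ∀ x, IsAffineOpen (W x) := fun x =>
    IsAffineOpen.of_subsingleton (Set.subsingleton_singleton)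
  let A : U → CommRingCat.{u} := fun x => Γ(U, W x)
  let j : ∀ x, Spec (A x) ⟶ U := fun x => (hW x).fromSpec
  let f : ∀ x, Spec (A x) ⟶ Spec (CommRingCat.of k) := fun x => j x ≫ φ
  have hf : ∀ x, (Spec.preimage (f x)).hom.Etale := fun x => artinian_of_etale k _ (f x)
  letI alg : ∀ x, Algebra k (A x) := fun x => (Spec.preimage (f x)).hom.toAlgebra
  have het : ∀ x, Algebra.Etale k (A x) := hf
  have hfield : ∀ x, IsField (A x) := by
    intro x
    haveI : IsReduced (A x) := Algebra.FormallyUnramified.isReduced_of_field k (A x)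
    haveI : Subsingleton ↥(W x : Scheme) := (Set.subsingleton_singleton (a := x)).coe_sort
    have h1 : Subsingleton (PrimeSpectrum (A x)) :=
      (hW x).isoSpec.inv.homeomorph.injective.subsingleton
    haveI : Nontrivial (A x) :=
      PrimeSpectrum.nonempty_iff_nontrivial.1 ⟨(hW x).isoSpec.hom.base ⟨x, rfl⟩⟩
    exact PrimeSpectrum.subsingleton_iff_isField_of_isReduced.1 h1
  letI fld : ∀ x, Field (A x) := fun x => (hfield x).toField
  have hfin : ∀ x, FiniteDimensional k (A x) := fun x =>
    Algebra.FormallyUnramified.finite_of_free k (A x)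
  have hsep : ∀ x, Algebra.IsSeparable k (A x) := fun x =>
    (Algebra.FormallyEtale.iff_isSeparable k (A x)).1 inferInstance
  have hcov : ⨆ x, (j x).opensRange = ⊤ := by
    rw [eq_top_iff]
    intro x _
    have : x ∈ (j x).opensRange := by
      rw [(hW x).opensRange_fromSpec]
      exact Set.mem_singleton x
    exact TopologicalSpace.Opens.mem_iSup.2 ⟨x, this⟩
  have hdisj : Pairwise (Function.onFun Disjoint fun x => (j x).opensRange) := by
    intro x y hxy
    show Disjoint (j x).opensRange (j y).opensRange
    rw [(hW x).opensRange_fromSpec, (hW y).opensRange_fromSpec]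
    rw [← TopologicalSpace.Opens.coe_disjoint]
    exact Set.disjoint_singleton.2 hxy
  obtain ⟨hc⟩ := nonempty_isColimit_cofanMk_of j hcov hdisj
  let e : (∐ fun x => Spec (A x)) ≅ U :=
    (coproductIsCoproduct (fun x => Spec (A x))).coconePointUniqueUpToIso hc
  have he : ∀ x, Sigma.ι (fun x => Spec (A x)) x ≫ e.hom = j x := fun x =>
    IsColimit.comp_coconePointUniqueUpToIso_hom (coproductIsCoproduct _) hc ⟨x⟩
  refine ⟨U, fun x => A x, fld, alg, hfin, hsep, e, fun x => ?_⟩
  rw [← Category.assoc]
  erw [he x]
  exact (Spec.map_preimage (f x)).symm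

/-- Let k be a field and φ : U → Spec k a morphism of schemes. Then φ is étale if and only if U is
isomorphic over k to a disjoint union ∐ Spec K_i with each K_i a finite separable field extension of
k. -/
theorem result (k : Type u) [Field k] (U : Scheme.{u}) (φ : U ⟶ Spec (CommRingCat.of k)) :
    AlgebraicGeometry.Etale φ ↔
      ∃ (ι : Type u) (K : ι → Type u) (_ : ∀ i, Field (K i)) (_ : ∀ i, Algebra k (K i))
        (_ : ∀ i, FiniteDimensional k (K i)) (_ : ∀ i, Algebra.IsSeparable k (K i))
        (e : (∐ fun i => Spec (CommRingCat.of (K i))) ≅ U),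
        ∀ i, Sigma.ι (fun i => Spec (CommRingCat.of (K i))) i ≫ e.hom ≫ φ =
          Spec.map (CommRingCat.ofHom (algebraMap k (K i))) := by
  constructor
  · intro h
    exact coprod_of_etale k U φ
  · rintro ⟨ι, K, _, _, _, _, e, he⟩
    exact etale_of_coprod k U φ ι K e he

end Groth.Agent.S0658
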