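import Groth.Statements.S0659
import Groth.Agent.Lib.Helper9EtMVCompare
import Groth.Agent.Lib.Helper9MVAbstract

set_option autoImplicit false
open CategoryTheory CategoryTheory.Limits AlgebraicGeometry Opposite
universe u
open EtCore

namespace Groth.Agent.S0659

/-- Let X = U ∪ V be a union of two open subschemes and F an abelian sheaf on the small etale site of X.
Writing r_U, r_V for the pullback maps H^n(X, F) -> H^n(U, F|_U), H^n(V, F|_V) and d for the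
difference of the two further pullbacks to H^n(U ∩ V, F|_{U ∩ V}), there are connecting
homomorphisms δ_n : H^n(U ∩ V) -> H^{n+1}(X) making the Mayer-Vietoris sequence exact: (r_U, r_V) is
injective in degree 0 and has kernel the image of δ in positive degrees, d has kernel the image of
(r_U, r_V), and δ has kernel the image of d. (Functoriality in F is not stated.) (Exactness of
pullback of abelian sheaves, which always holds, is carried as an instance hypothesis.) -/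
theorem result (X : Scheme.{u}) (U V : X.Opens) (hUV : U ⊔ V = ⊤) (F : EtCoh.Ab X)
    [PreservesFiniteLimits (EtCoh.pull U.ι)] [PreservesFiniteLimits (EtCoh.pull V.ι)]
    [PreservesFiniteLimits (EtCoh.pull (X.homOfLE (inf_le_left : U ⊓ V ≤ U)))]
    [PreservesFiniteLimits (EtCoh.pull (X.homOfLE (inf_le_right : U ⊓ V ≤ V)))] :
    ∃ δ : ∀ n : ℕ, EtCoh.H ↑(U ⊓ V) ((EtCoh.pull (U ⊓ V).ι).obj F) n →+ EtCoh.H X F (n + 1),
      (AddMonoidHom.prod (EtCore.Hpull U.ι F 0) (EtCore.Hpull V.ι F 0)).ker = ⊥ ∧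
      (∀ n : ℕ, (AddMonoidHom.prod (EtCore.Hpull U.ι F (n + 1)) (EtCore.Hpull V.ι F (n + 1))).ker = (δ n).range) ∧
      (∀ n : ℕ, (((EtCore.HpullVia (X.homOfLE (inf_le_left : U ⊓ V ≤ U)) U.ι (U ⊓ V).ι (X.homOfLE_ι inf_le_left) F n)).comp (AddMonoidHom.fst _ _) - ((EtCore.HpullVia (X.homOfLE (inf_le_right : U ⊓ V ≤ V)) V.ι (U ⊓ V).ι (X.homOfLE_ι inf_le_right) F n)).comp (AddMonoidHom.snd _ _)).ker =
        (AddMonoidHom.prod (EtCore.Hpull U.ι F n) (EtCore.Hpull V.ι F n)).range) ∧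
      (∀ n : ℕ, (δ n).ker = (((EtCore.HpullVia (X.homOfLE (inf_le_left : U ⊓ V ≤ U)) U.ι (U ⊓ V).ι (X.homOfLE_ι inf_le_left) F n)).comp (AddMonoidHom.fst _ _) - ((EtCore.HpullVia (X.homOfLE (inf_le_right : U ⊓ V ≤ V)) V.ι (U ⊓ V).ι (X.homOfLE_ι inf_le_right) F n)).comp (AddMonoidHom.snd _ _)).range) := by
  haveI : PreservesFiniteLimits (EtCoh.pull (U ⊓ V).ι) :=
    Groth.Agent.Lib.Helper9.EtMV.pull_preservesFiniteLimits_of_etale _
  have hS := Groth.Agent.Lib.Helper9.EtMV.mvComplex_shortExact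
    (Groth.Agent.Lib.Helper9.EtMV.glues_opens U V hUV)
  exact Groth.Agent.Lib.Helper9.MVAbstract.mv_abstract
    (Groth.Agent.Lib.Helper9.EtMV.ZhMap (Groth.Agent.Lib.Helper9.EtMV.pL U V))
    (Groth.Agent.Lib.Helper9.EtMV.ZhMap (Groth.Agent.Lib.Helper9.EtMV.pR U V))
    (Groth.Agent.Lib.Helper9.EtMV.aug (Groth.Agent.Lib.Helper9.EtMV.oo U))
    (Groth.Agent.Lib.Helper9.EtMV.aug (Groth.Agent.Lib.Helper9.EtMV.oo V))
    (Groth.Agent.Lib.Helper9.EtMV.mvComplex (Groth.Agent.Lib.Helper9.EtMV.pL U V)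
      (Groth.Agent.Lib.Helper9.EtMV.pR U V)).zero hS
    (F := F)
    (Φ₁ := fun n => Groth.Agent.Lib.Helper9.EtMV.Phi U.ι F n)
    (Φ₂ := fun n => Groth.Agent.Lib.Helper9.EtMV.Phi V.ι F n)
    (Φ₁₂ := fun n => Groth.Agent.Lib.Helper9.EtMV.Phi (U ⊓ V).ι F n)
    (r₁ := fun n => EtCore.Hpull U.ι F n) (r₂ := fun n => EtCore.Hpull V.ι F n)
    (s₁ := fun n => EtCore.HpullVia (X.homOfLE (inf_le_left : U ⊓ V ≤ U)) U.ι (U ⊓ V).ι
      (X.homOfLE_ι inf_le_left) F n)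
    (s₂ := fun n => EtCore.HpullVia (X.homOfLE (inf_le_right : U ⊓ V ≤ V)) V.ι (U ⊓ V).ι
      (X.homOfLE_ι inf_le_right) F n)
    (fun n x => Groth.Agent.Lib.Helper9.EtMV.Hpull_eq U.ι F n x)
    (fun n x => Groth.Agent.Lib.Helper9.EtMV.Hpull_eq V.ι F n x)
    (fun n x => Groth.Agent.Lib.Helper9.EtMV.HpullVia_eq _ _ _ _ F n x)
    (fun n x => Groth.Agent.Lib.Helper9.EtMV.HpullVia_eq _ _ _ _ F n x)

end Groth.Agent.S0659
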