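import Groth.Statements.S0660
import Mathlib

set_option autoImplicit false
open CategoryTheory CategoryTheory.Limits AlgebraicGeometry Opposite
universe u
open EtCore

namespace Groth.Agent.S0660

set_option backward.isDefEq.respectTransparency false
set_option maxHeartbeats 1600000

variable {Z X : Scheme.{u}} (i : Z ⟶ X)

lemma bc_map_fst {U V : X.Etale} (k : V ⟶ U) :
    ((EtCoh.bc i).map k).left ≫ pullback.fst U.hom i = pullback.fst V.hom i ≫ k.left := by
  dsimp [EtCoh.bc]
  exact pullback.lift_fst _ _ _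

lemma bc_map_snd {U V : X.Etale} (k : V ⟶ U) :
    ((EtCoh.bc i).map k).left ≫ pullback.snd U.hom i = pullback.snd V.hom i := by
  dsimp [EtCoh.bc]
  exact pullback.lift_snd _ _ _

/-- Let i : Z -> X be a closed immersion, U and U' schemes etale over X, and h a Z-morphism from U x_X Z
to U' x_X Z. Then there are an etale X-scheme W and X-morphisms a : W -> U, b : W -> U' such that
the base change of a to Z is an isomorphism and h is the base change of b composed with the inverse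
of the base change of a. -/
theorem result {Z X : Scheme.{u}} (i : Z ⟶ X) [IsClosedImmersion i] (U U' : X.Etale)
    (h : (EtCoh.bc i).obj U ⟶ (EtCoh.bc i).obj U') :
    ∃ (W : X.Etale) (a : W ⟶ U) (b : W ⟶ U'), IsIso ((EtCoh.bc i).map a) ∧ (EtCoh.bc i).map a ≫ h = (EtCoh.bc i).map b := by
  let hl : pullback U.hom i ⟶ pullback U'.hom i := h.left
  have hhl : hl ≫ pullback.snd U'.hom i = pullback.snd U.hom i := Over.w h.hom
  let p1 : pullback U.hom U'.hom ⟶ U.left := pullback.fst U.hom U'.hom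
  let p2 : pullback U.hom U'.hom ⟶ U'.left := pullback.snd U.hom U'.hom
  have hp : p1 ≫ U.hom = p2 ≫ U'.hom := pullback.condition
  -- graph
  have c1 : pullback.fst U.hom i ≫ U.hom = (hl ≫ pullback.fst U'.hom i) ≫ U'.hom := by
    rw [Category.assoc, pullback.condition, pullback.condition, ← Category.assoc, hhl]
  let γ0 : pullback U.hom i ⟶ pullback U.hom U'.hom :=
    pullback.lift (pullback.fst U.hom i) (hl ≫ pullback.fst U'.hom i) c1
  have hγ0p1 : γ0 ≫ p1 = pullback.fst U.hom i := pullback.lift_fst _ _ _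
  have hγ0p2 : γ0 ≫ p2 = hl ≫ pullback.fst U'.hom i := pullback.lift_snd _ _ _
  have c2 : γ0 ≫ (p1 ≫ U.hom) = pullback.snd U.hom i ≫ i := by
    rw [← Category.assoc, hγ0p1, pullback.condition]
  let γ : pullback U.hom i ⟶ pullback (p1 ≫ U.hom) i :=
    pullback.lift γ0 (pullback.snd U.hom i) c2
  have hγfst : γ ≫ pullback.fst (p1 ≫ U.hom) i = γ0 := pullback.lift_fst _ _ _
  have hγsnd : γ ≫ pullback.snd (p1 ≫ U.hom) i = pullback.snd U.hom i := pullback.lift_snd _ _ _
  let π1 : pullback (p1 ≫ U.hom) i ⟶ pullback U.hom i :=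
    pullback.lift (pullback.fst (p1 ≫ U.hom) i ≫ p1) (pullback.snd (p1 ≫ U.hom) i)
      (by rw [Category.assoc]; exact pullback.condition)
  have hπ1fst : π1 ≫ pullback.fst U.hom i = pullback.fst (p1 ≫ U.hom) i ≫ p1 :=
    pullback.lift_fst _ _ _
  have hπ1snd : π1 ≫ pullback.snd U.hom i = pullback.snd (p1 ≫ U.hom) i :=
    pullback.lift_snd _ _ _
  have hγπ1 : γ ≫ π1 = 𝟙 _ := by
    apply pullback.hom_ext
    · rw [Category.assoc, hπ1fst, ← Category.assoc, hγfst, hγ0p1, Category.id_comp]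
    · rw [Category.assoc, hπ1snd, hγsnd, Category.id_comp]
  haveI : Mono γ := mono_of_mono_fac hγπ1
  haveI : Etale (γ ≫ pullback.snd (p1 ≫ U.hom) i) := by rw [hγsnd]; infer_instance
  haveI : Etale γ := Etale.of_comp γ (pullback.snd (p1 ≫ U.hom) i)
  haveI : IsOpenImmersion γ := IsOpenImmersion.of_flat_of_mono γ
  -- the closed immersion q
  let q : pullback (p1 ≫ U.hom) i ⟶ pullback U.hom U'.hom := pullback.fst (p1 ≫ U.hom) i
  haveI : IsClosedImmersion q := inferInstanceAs (IsClosedImmersion (pullback.fst (p1 ≫ U.hom) i))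
  have hqcl : IsClosedMap q.base := q.isClosedEmbedding.isClosedMap
  have hqinj : Function.Injective q.base := q.isClosedEmbedding.injective
  have hγopen : IsOpen (Set.range γ.base) := γ.isOpenEmbedding.isOpen_range
  let W₀ : (pullback U.hom U'.hom).Opens :=
    ⟨(q.base '' (Set.range γ.base)ᶜ)ᶜ, (hqcl _ hγopen.isClosed_compl).isOpen_compl⟩
  have hpre : q.base ⁻¹' (W₀ : Set _) = Set.range γ.base := by
    ext x
    show q.base x ∈ (q.base '' (Set.range γ.base)ᶜ)ᶜ ↔ _
    rw [Set.mem_compl_iff, hqinj.mem_set_image, Set.mem_compl_iff, not_not]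
  -- W
  let W : X.Etale := Scheme.Etale.mk (W₀.ι ≫ p1 ≫ U.hom)
  let a : W ⟶ U := MorphismProperty.Over.homMk (W₀.ι ≫ p1) (by
    show (W₀.ι ≫ p1) ≫ U.hom = W₀.ι ≫ p1 ≫ U.hom
    rw [Category.assoc]) trivial
  let b : W ⟶ U' := MorphismProperty.Over.homMk (W₀.ι ≫ p2) (by
    show (W₀.ι ≫ p2) ≫ U'.hom = W₀.ι ≫ p1 ≫ U.hom
    rw [Category.assoc, hp]) trivial
  have hal : a.left = W₀.ι ≫ p1 := rfl
  have hbl : b.left = W₀.ι ≫ p2 := rfl
  have hWhom : W.hom = W₀.ι ≫ p1 ≫ U.hom := rfl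
  let θ := pullbackRightPullbackFstIso (p1 ≫ U.hom) i W₀.ι
  let ω' : pullback (W₀.ι ≫ p1 ≫ U.hom) i ⟶ pullback (p1 ≫ U.hom) i :=
    θ.inv ≫ pullback.snd W₀.ι q
  haveI : IsOpenImmersion ω' := inferInstanceAs (IsOpenImmersion (θ.inv ≫ pullback.snd W₀.ι q))
  have hω'q : ω' ≫ q = pullback.fst (W₀.ι ≫ p1 ≫ U.hom) i ≫ W₀.ι := by
    show (θ.inv ≫ pullback.snd W₀.ι q) ≫ q = _
    rw [Category.assoc]
    exact pullbackRightPullbackFstIso_inv_snd_fst _ _ _
  have hω'snd : ω' ≫ pullback.snd (p1 ≫ U.hom) i = pullback.snd (W₀.ι ≫ p1 ≫ U.hom) i := by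
    show (θ.inv ≫ pullback.snd W₀.ι q) ≫ _ = _
    rw [Category.assoc]
    exact pullbackRightPullbackFstIso_inv_snd_snd _ _ _
  have hrange : Set.range γ.base = Set.range ω'.base := by
    rw [← hpre]
    have h1 : Set.range ω'.base = Set.range (pullback.snd W₀.ι q).base := by
      show Set.range (θ.inv ≫ pullback.snd W₀.ι q).base = _
      rw [Scheme.Hom.comp_base, TopCat.coe_comp]
      exact Function.Surjective.range_comp θ.inv.surjective _
    rw [h1, Scheme.Pullback.range_snd, Scheme.Opens.range_ι]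
  let ε := IsOpenImmersion.isoOfRangeEq γ ω' hrange
  have hε : ε.hom ≫ ω' = γ := IsOpenImmersion.isoOfRangeEq_hom_fac _ _ _
  let π2 : pullback (p1 ≫ U.hom) i ⟶ pullback U'.hom i :=
    pullback.lift (q ≫ p2) (pullback.snd (p1 ≫ U.hom) i)
      (by rw [Category.assoc, ← hp]; exact pullback.condition)
  have hπ2fst : π2 ≫ pullback.fst U'.hom i = q ≫ p2 := pullback.lift_fst _ _ _
  have hπ2snd : π2 ≫ pullback.snd U'.hom i = pullback.snd (p1 ≫ U.hom) i :=
    pullback.lift_snd _ _ _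
  have hγπ2 : γ ≫ π2 = hl := by
    apply pullback.hom_ext
    · rw [Category.assoc, hπ2fst, ← Category.assoc, hγfst, hγ0p2]
    · rw [Category.assoc, hπ2snd, hγsnd, hhl]
  have hbca : ((EtCoh.bc i).map a).left = ω' ≫ π1 := by
    apply pullback.hom_ext
    · rw [bc_map_fst, Category.assoc, hπ1fst, hal, ← Category.assoc ω', hω'q, Category.assoc]
      rfl
    · rw [bc_map_snd, Category.assoc, hπ1snd, hω'snd]
      rfl
  have hbcb : ((EtCoh.bc i).map b).left = ω' ≫ π2 := by
    apply pullback.hom_ext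
    · rw [bc_map_fst, Category.assoc, hπ2fst, hbl, ← Category.assoc ω', hω'q, Category.assoc]
      rfl
    · rw [bc_map_snd, Category.assoc, hπ2snd, hω'snd]
      rfl
  have h1 : ω' ≫ π1 = ε.inv := by
    rw [← Iso.hom_comp_eq_id, ← Category.assoc, hε, hγπ1]
  have h2 : ω' ≫ π2 = ε.inv ≫ hl := by
    rw [← cancel_epi ε.hom, ← Category.assoc, hε, hγπ2, Iso.hom_inv_id_assoc]
  refine ⟨W, a, b, ?_, ?_⟩
  · haveI : IsIso ((EtCoh.bc i).map a).left := by
      rw [hbca, h1]; infer_instance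
    haveI : IsIso ((Scheme.Etale.forget Z ⋙ Over.forget Z).map ((EtCoh.bc i).map a)) := this
    exact isIso_of_reflects_iso _ (Scheme.Etale.forget Z ⋙ Over.forget Z)
  · apply MorphismProperty.Over.Hom.ext
    show ((EtCoh.bc i).map a).left ≫ hl = ((EtCoh.bc i).map b).left
    rw [hbca, hbcb, h1, h2]

end Groth.Agent.S0660
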