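import Groth.Statements.S0676
import Groth.Agent.Lib.Helper20EtRetract

set_option autoImplicit false
open CategoryTheory CategoryTheory.Limits AlgebraicGeometry Opposite Topology
universe u
open ProEtW

namespace Groth.Agent.S0676

/-- If every faithfully flat etale A-algebra has an A-algebra retraction, then the same holds for the
quotient ring A/I for every ideal I. -/
theorem result (A : Type u) [CommRing A]
    (h : ProEtW.HasEtaleRetractions A) (I : Ideal A) :
    ProEtW.HasEtaleRetractions (A ⧸ I) := by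
  intro Bb _ _ hff het
  obtain ⟨B, _, _, hB, ⟨e⟩⟩ := Groth.Agent.S9436.result A I Bb
  letI : Algebra A Bb := ((algebraMap (A ⧸ I) Bb).comp (algebraMap A (A ⧸ I))).toAlgebra
  haveI : IsScalarTower A (A ⧸ I) Bb := IsScalarTower.of_algebraMap_eq' rfl
  -- the ring map B → Bb
  let φ : B →+* Bb := (e : TensorProduct A (A ⧸ I) B →+* Bb).comp
    (Algebra.TensorProduct.includeRight : B →ₐ[A] TensorProduct A (A ⧸ I) B).toRingHom
  have hφ : φ.comp (algebraMap A B) = (algebraMap (A ⧸ I) Bb).comp (algebraMap A (A ⧸ I)) := by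
    ext a
    show e (TensorProduct.tmul A (1 : A ⧸ I) (algebraMap A B a)) = algebraMap (A ⧸ I) Bb (algebraMap A (A ⧸ I) a)
    have h1 : (TensorProduct.tmul A (1 : A ⧸ I) (algebraMap A B a)) =
        algebraMap (A ⧸ I) (TensorProduct A (A ⧸ I) B) (algebraMap A (A ⧸ I) a) := by
      rw [Algebra.TensorProduct.algebraMap_apply, Algebra.algebraMap_self, RingHom.id_apply,
        Algebra.algebraMap_eq_smul_one a, TensorProduct.tmul_smul, TensorProduct.smul_tmul',
        ← Algebra.algebraMap_eq_smul_one]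
    rw [h1, AlgEquiv.commutes]
  have hVI : PrimeSpectrum.zeroLocus (I : Set A) ⊆
      Set.range (PrimeSpectrum.comap (algebraMap A B)) := by
    intro p hp
    have hp' : p ∈ Set.range (PrimeSpectrum.comap (Ideal.Quotient.mk I)) := by
      rw [range_comap_of_surjective _ _ Ideal.Quotient.mk_surjective, Ideal.mk_ker]
      exact hp
    obtain ⟨pb, rfl⟩ := hp'
    obtain ⟨qb, rfl⟩ := PrimeSpectrum.comap_surjective_of_faithfullyFlat (A := A ⧸ I) (B := Bb) pb
    refine ⟨PrimeSpectrum.comap φ qb, ?_⟩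
    rw [← PrimeSpectrum.comap_comp_apply, ← PrimeSpectrum.comap_comp_apply, hφ]
    rfl
  obtain ⟨ψ⟩ := Groth.Agent.Lib.Helper20.EtRetract.exists_algHom_quotient h I B hVI
  let Ψ : TensorProduct A (A ⧸ I) B →ₐ[A ⧸ I] A ⧸ I :=
    Algebra.TensorProduct.lift (AlgHom.id (A ⧸ I) (A ⧸ I)) ψ (fun _ _ => Commute.all _ _)
  exact ⟨Ψ.comp e.symm.toAlgHom⟩

end Groth.Agent.S0676
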