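import Groth.Statements.S0695
import Groth.Agent.Lib.Helper3WLocal
import Groth.Agent.Lib.Helper3LCSpec
import Groth.Agent.Lib.Helper3LCIndZar
import Groth.Agent.Lib.Helper3WLoc
import Groth.Agent.Lib.Helper3IndZarFlat
import Groth.Agent.Lib.Helper3ConsSpace
import Groth.Agent.Lib.Helper3WLocUniv
import Groth.Agent.Lib.Helper3WLocUniv2
import Groth.Agent.Lib.Helper10ProCons
import Mathlib

set_option autoImplicit false
open CategoryTheory CategoryTheory.Limits AlgebraicGeometry Opposite Topology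
universe u
open ProEtW

namespace Groth.Agent.S0695

open TopologicalSpace
open Groth.Agent.Lib.Helper3.LCSpec Groth.Agent.Lib.Helper3.LCIndZar Groth.Agent.Lib.Helper3.WLoc
open Groth.Agent.Lib.Helper3.IndZarCrit Groth.Agent.Lib.Helper3.ConsSpace
open Groth.Agent.Lib.Helper3.WLocUniv Groth.Agent.Lib.Helper3.WLocal

set_option maxHeartbeats 1600000

-- the point of `Cons A` attached to a prime
noncomputable def ofPrime {A : Type u} [CommRing A] (x : PrimeSpectrum A) : Cons A := by
  classical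
  exact ⟨fun a => decide (a ∈ x.asIdeal), by
    refine ⟨?_, ?_, ?_, ?_, ?_⟩
    · simp
    · intro a b ha hb
      simp only [decide_eq_true_eq] at ha hb ⊢
      exact add_mem ha hb
    · intro c a ha
      simp only [decide_eq_true_eq] at ha ⊢
      exact Ideal.mul_mem_left _ c ha
    · simp only [decide_eq_false_iff_not]
      exact x.2.one_notMem
    · intro a b hab
      simp only [decide_eq_true_eq] at hab ⊢
      exact x.2.mem_or_mem hab⟩

theorem ofPrime_apply {A : Type u} [CommRing A] (x : PrimeSpectrum A) (a : A) :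
    (ofPrime x).1 a = true ↔ a ∈ x.asIdeal := by
  classical
  show decide (a ∈ x.asIdeal) = true ↔ _
  simp

theorem ρ_ofPrime {A : Type u} [CommRing A] (x : PrimeSpectrum A) : ρ A (ofPrime x) = x := by
  ext a
  rw [mem_ρ, ofPrime_apply]

-- uniqueness of w-local maps out of the w-localization
theorem unique_aux {A B : Type u} [CommRing A] [CommRing B] [Algebra A B]
    (hB : ProEtW.IsWLocal (PrimeSpectrum B))
    (φ₁ φ₂ : Aw (ρ A) (isClopen_ρ A) →ₐ[A] B)
    (h₁ : ProEtW.IsWLocalMap (PrimeSpectrum.comap φ₁.toRingHom))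
    (h₂ : ProEtW.IsWLocalMap (PrimeSpectrum.comap φ₂.toRingHom)) : φ₁ = φ₂ := by
  -- the T-coordinate is determined
  have hσ : ∀ (φ : Aw (ρ A) (isClopen_ρ A) →ₐ[A] B),
      ProEtW.IsWLocalMap (PrimeSpectrum.comap φ.toRingHom) → ∀ y : PrimeSpectrum B,
      ρ A (Ψ (ρ A) (isClopen_ρ A) (PrimeSpectrum.comap φ.toRingHom y)).2 =
        PrimeSpectrum.comap (algebraMap A B) (r hB y) := by
    intro φ hφ y
    have hsp : PrimeSpectrum.comap φ.toRingHom y ⤳ PrimeSpectrum.comap φ.toRingHom (r hB y) :=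
      (specializes_r hB y).map (PrimeSpectrum.continuous_comap _)
    rw [specializes_iff] at hsp
    have hcl : IsClosed ({PrimeSpectrum.comap φ.toRingHom (r hB y)} :
        Set (PrimeSpectrum (Aw (ρ A) (isClopen_ρ A)))) := hφ.2 _ (isClosed_r hB y)
    rw [isClosed_singleton_iff] at hcl
    rw [hsp.2, ← hcl, Ψ_fst]
    ext a
    show φ (algebraMap A _ a) ∈ (r hB y).asIdeal ↔ algebraMap A B a ∈ (r hB y).asIdeal
    rw [φ.commutes]
  have hσeq : ∀ y : PrimeSpectrum B,
      (Ψ (ρ A) (isClopen_ρ A) (PrimeSpectrum.comap φ₁.toRingHom y)).2 =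
        (Ψ (ρ A) (isClopen_ρ A) (PrimeSpectrum.comap φ₂.toRingHom y)).2 := by
    intro y
    apply (bijective_ρ A).1
    rw [hσ φ₁ h₁, hσ φ₂ h₂]
  -- values on characteristic functions
  have hmem : ∀ (φ : Aw (ρ A) (isClopen_ρ A) →ₐ[A] B) (c : Clopens (Cons A)) (y : PrimeSpectrum B),
      φ (algebraMap (LocallyConstant (Cons A) A) _ (chi c)) ∉ y.asIdeal ↔
        (Ψ (ρ A) (isClopen_ρ A) (PrimeSpectrum.comap φ.toRingHom y)).2 ∈ c := by
    intro φ c y
    have h1 : φ (algebraMap (LocallyConstant (Cons A) A) _ (chi c)) ∈ y.asIdeal ↔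
        chi c ∈ (PrimeSpectrum.comap (algebraMap (LocallyConstant (Cons A) A)
          (Aw (ρ A) (isClopen_ρ A))) (PrimeSpectrum.comap φ.toRingHom y)).asIdeal := Iff.rfl
    rw [h1, comap_eq_pt_Ψ, mem_pt]
    by_cases hc : (Ψ (ρ A) (isClopen_ρ A) (PrimeSpectrum.comap φ.toRingHom y)).2 ∈ c
    · rw [chi_apply_of_mem hc]
      exact ⟨fun _ => hc, fun _ => (PrimeSpectrum.isPrime _).one_notMem⟩
    · rw [chi_apply_of_notMem hc]
      exact ⟨fun h => absurd (Ideal.zero_mem _) h, fun h => absurd h hc⟩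
  have hchi : ∀ c : Clopens (Cons A),
      φ₁ (algebraMap (LocallyConstant (Cons A) A) _ (chi c)) =
        φ₂ (algebraMap (LocallyConstant (Cons A) A) _ (chi c)) := by
    intro c
    have hid : IsIdempotentElem (chi c : LocallyConstant (Cons A) A) := by
      show chi c * chi c = chi c
      rw [← chi_inf, inf_idem]
    apply PrimeSpectrum.basicOpen_injOn_isIdempotentElem
    · exact (hid.map _).map φ₁
    · exact (hid.map _).map φ₂
    · ext y
      show φ₁ _ ∉ y.asIdeal ↔ φ₂ _ ∉ y.asIdeal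
      rw [hmem, hmem, hσeq]
  have hcomp : φ₁.comp (IsScalarTower.toAlgHom A (LocallyConstant (Cons A) A) _) =
      φ₂.comp (IsScalarTower.toAlgHom A (LocallyConstant (Cons A) A) _) :=
    algHom_ext_chi _ _ hchi
  apply AlgHom.coe_ringHom_injective
  apply IsLocalization.ringHom_ext (M (ρ A) (isClopen_ρ A))
  ext h
  exact congr($hcomp h)

/-- For every ring A there is a faithfully flat ind-Zariski A-algebra A_w with w-local spectrum such
that for every A-algebra B whose spectrum is w-local there is exactly one A-algebra map A_w -> B for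
which Spec B -> Spec A_w is w-local. -/
theorem result (A : Type u) [CommRing A] :
    ∃ (Aw : Type u) (_ : CommRing Aw) (_ : Algebra A Aw),
      Module.FaithfullyFlat A Aw ∧ EtPBC.IsIndZariski A Aw ∧ ProEtW.IsWLocal (PrimeSpectrum Aw) ∧
      ∀ (B : Type u) [CommRing B] [Algebra A B], ProEtW.IsWLocal (PrimeSpectrum B) →
        ∃! φ : Aw →ₐ[A] B, ProEtW.IsWLocalMap (PrimeSpectrum.comap φ.toRingHom) := by
  have hind : EtPBC.IsIndZariski A (Aw (ρ A) (isClopen_ρ A)) :=
    isIndZariski_localization (M (ρ A) (isClopen_ρ A)) (Aw (ρ A) (isClopen_ρ A))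
  haveI : Module.Flat A (Aw (ρ A) (isClopen_ρ A)) := flat_of_isIndZariski hind
  refine ⟨Aw (ρ A) (isClopen_ρ A), inferInstance, inferInstance,
    Module.FaithfullyFlat.of_comap_surjective (comap_surjective _ _ (bijective_ρ A).2), hind,
    isWLocal _ _, ?_⟩
  intro B _ _ hB
  obtain ⟨TB, _, _, _, _, ρB, hρB, hinj, hrange⟩ := exists_closedPt_space hB
  -- the map on index spaces
  have hκc : Continuous (fun t : TB => ofPrime (PrimeSpectrum.comap (algebraMap A B) (ρB t))) := by
    apply Continuous.subtype_mk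
    apply continuous_pi
    intro a
    rw [continuous_bool_rng true]
    have : (fun t : TB => (ofPrime (PrimeSpectrum.comap (algebraMap A B) (ρB t))).1 a) ⁻¹' {true} =
        {t | algebraMap A B a ∈ (ρB t).asIdeal} := by
      ext t
      simp only [Set.mem_preimage, Set.mem_singleton_iff, Set.mem_ofPred_eq]
      rw [ofPrime_apply]
      rfl
    exact this ▸ hρB _
  let κ : C(TB, Cons A) := ⟨_, hκc⟩
  have hκ : ∀ t, ρ A (κ t) = PrimeSpectrum.comap (algebraMap A B) (ρB t) := fun t => ρ_ofPrime _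
  let e : B ≃+* Aw ρB hρB := RingEquiv.ofBijective (algebraMap B (Aw ρB hρB))
    (bijective_algebraMap_Aw ρB hρB hB hinj hrange)
  let φ : Aw (ρ A) (isClopen_ρ A) →ₐ[A] B :=
    { toRingHom := (e.symm : Aw ρB hρB →+* B).comp (Θ (ρ A) (isClopen_ρ A) ρB hρB κ hκ)
      commutes' := fun a => by
        show e.symm (Θ (ρ A) (isClopen_ρ A) ρB hρB κ hκ (algebraMap A _ a)) = algebraMap A B a
        rw [Θ_algebraMap']
        exact e.symm_apply_apply _ }
  have hφ : ProEtW.IsWLocalMap (PrimeSpectrum.comap φ.toRingHom) := by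
    refine ⟨Groth.Agent.Lib.Helper10.ProCons.isSpectralMap_comap _, ?_⟩
    intro y' hy'
    obtain ⟨y, hy⟩ : ∃ y : PrimeSpectrum (Aw ρB hρB),
        y = PrimeSpectrum.comap (e.symm : Aw ρB hρB →+* B) y' := ⟨_, rfl⟩
    have hcomp : PrimeSpectrum.comap φ.toRingHom y' =
        PrimeSpectrum.comap (Θ (ρ A) (isClopen_ρ A) ρB hρB κ hκ) y := by
      rw [hy]
      rfl
    have hycl : IsClosed ({y} : Set (PrimeSpectrum (Aw ρB hρB))) := by
      rw [PrimeSpectrum.isClosed_singleton_iff_isMaximal] at hy' ⊢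
      rw [hy]
      exact Ideal.comap_isMaximal_of_surjective (e.symm : Aw ρB hρB →+* B) e.symm.surjective
    rw [isClosed_singleton_iff] at hycl
    rw [hcomp, isClosed_singleton_iff, Ψ_comap_Θ]
    show PrimeSpectrum.comap (algebraMap A B) (Ψ ρB hρB y).1 = ρ A (κ (Ψ ρB hρB y).2)
    rw [hκ, hycl]
  exact ⟨φ, hφ, fun φ' hφ' => unique_aux hB φ' φ hφ' hφ⟩

end Groth.Agent.S0695
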