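import Groth.Statements.S0697
import Groth.Agent.Lib.Helper3IndZar
import Groth.Agent.Lib.Helper3LCSpec
import Groth.Agent.Lib.Helper3LCIndZar
import Mathlib

set_option autoImplicit false
open CategoryTheory CategoryTheory.Limits AlgebraicGeometry Opposite Topology
universe u
open ProEtW

namespace Groth.Agent.S0697

open Groth.Agent.Lib.Helper3.IndZar Groth.Agent.Lib.Helper3.LCSpec Groth.Agent.Lib.Helper3.LCIndZar
open TopologicalSpace

set_option maxHeartbeats 1600000

-- the image of a clopen in the space of components is clopen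
theorem isClopen_image_mk {X : Type u} [TopologicalSpace X] {U : Set X} (hU : IsClopen U) :
    IsClopen ((_root_.ConnectedComponents.mk : X → _root_.ConnectedComponents X) '' U) := by
  rw [← _root_.ConnectedComponents.isQuotientMap_coe.isClopen_preimage,
    connectedComponents_preimage_image, hU.biUnion_connectedComponent_eq]
  exact hU

/-- Let A be a ring, X = Spec A, T a profinite space and g : T -> pi_0(X) continuous. Then there is an
ind-Zariski A-algebra B, with Y = Spec B, and a homeomorphism e : pi_0(Y) -> T over pi_0(X) such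
that Y -> X x T, y |-> (image of y, e [y]) is a topological embedding with image the fibre product
of X and T over pi_0(X); that is, the square Y -> pi_0(Y) = T, Y -> X is cartesian in topological
spaces. -/
theorem result (A : Type u) [CommRing A] (T : Type u)
    [TopologicalSpace T] [CompactSpace T] [T2Space T] [TotallyDisconnectedSpace T]
    (g : C(T, _root_.ConnectedComponents (PrimeSpectrum A))) :
    ∃ (B : Type u) (_ : CommRing B) (_ : Algebra A B) (e : _root_.ConnectedComponents (PrimeSpectrum B) ≃ₜ T),
      EtPBC.IsIndZariski A B ∧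
      (∀ y : PrimeSpectrum B,
        g (e (_root_.ConnectedComponents.mk y)) = _root_.ConnectedComponents.mk (PrimeSpectrum.comap (algebraMap A B) y)) ∧
      Topology.IsEmbedding (fun y : PrimeSpectrum B =>
        (PrimeSpectrum.comap (algebraMap A B) y, e (_root_.ConnectedComponents.mk y))) ∧
      Set.range (fun y : PrimeSpectrum B =>
        (PrimeSpectrum.comap (algebraMap A B) y, e (_root_.ConnectedComponents.mk y))) =
        {p : PrimeSpectrum A × T | _root_.ConnectedComponents.mk p.1 = g p.2} := by
  classical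
  -- the clopen of T attached to an idempotent
  have hTc : ∀ e : {e : A // IsIdempotentElem e},
      IsClopen (g ⁻¹' ((_root_.ConnectedComponents.mk : PrimeSpectrum A → _) ''
        (PrimeSpectrum.basicOpen e.1 : Set (PrimeSpectrum A)))) := by
    intro e
    exact (isClopen_image_mk (PrimeSpectrum.isClopen_iff.mpr ⟨e.1, e.2, rfl⟩)).preimage g.continuous
  let Tc : {e : A // IsIdempotentElem e} → Clopens T := fun e => ⟨_, hTc e⟩
  let η : {e : A // IsIdempotentElem e} → LocallyConstant T A :=
    fun e => algebraMap A (LocallyConstant T A) (1 - e.1) * chi (Tc e)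
  have hη : ∀ e, IsIdempotentElem (η e) := by
    intro e
    apply IsIdempotentElem.mul
    · exact (e.2.one_sub).map (algebraMap A (LocallyConstant T A))
    · show chi (Tc e) * chi (Tc e) = chi (Tc e)
      rw [← chi_inf, inf_idem]
  obtain ⟨𝒮, h𝒮⟩ : ∃ 𝒮 : Set (LocallyConstant T A), 𝒮 = Set.range η := ⟨_, rfl⟩
  have h𝒮i : ∀ x ∈ 𝒮, IsIdempotentElem x := by
    intro x hx
    rw [h𝒮] at hx
    obtain ⟨e, rfl⟩ := hx
    exact hη e
  obtain ⟨B, hB⟩ : ∃ B : Type u, B = (LocallyConstant T A ⧸ Ideal.span 𝒮) := ⟨_, rfl⟩
  -- description of the zero locus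
  have hFP : ∀ (x : PrimeSpectrum A) (t : T),
      pt x t ∈ PrimeSpectrum.zeroLocus ((Ideal.span 𝒮 : Ideal (LocallyConstant T A)) : Set _) ↔
        _root_.ConnectedComponents.mk x = g t := by
    intro x t
    rw [PrimeSpectrum.zeroLocus_span, h𝒮]
    constructor
    · intro hx
      obtain ⟨x', hx'⟩ := _root_.ConnectedComponents.surjective_coe (g t)
      by_contra hne
      have hnot : x' ∉ connectedComponent x := by
        intro hmem
        apply hne
        rw [← hx']
        exact (_root_.ConnectedComponents.coe_eq_coe'.mpr hmem).symm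
      obtain ⟨e, he, hex, hex'⟩ := exists_idempotent_of_not_mem_connectedComponent x x' hnot
      have h1 : η ⟨e, he⟩ ∈ (pt x t).asIdeal := hx ⟨⟨e, he⟩, rfl⟩
      rw [mem_pt, LocallyConstant.mul_apply] at h1
      have htT : t ∈ Tc ⟨e, he⟩ := by
        show g t ∈ (_root_.ConnectedComponents.mk : PrimeSpectrum A → _) ''
          (PrimeSpectrum.basicOpen e : Set (PrimeSpectrum A))
        rw [← hx']
        exact ⟨x', hex', rfl⟩
      rw [chi_apply_of_mem htT, mul_one] at h1
      have h2 : (1 - e) ∈ x.asIdeal := h1
      apply x.2.one_notMem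
      have := add_mem h2 hex
      rwa [sub_add_cancel] at this
    · intro hx
      rintro _ ⟨e, rfl⟩
      show η e ∈ (pt x t).asIdeal
      rw [mem_pt, LocallyConstant.mul_apply]
      by_cases htT : t ∈ Tc e
      · rw [chi_apply_of_mem htT, mul_one]
        obtain ⟨x'', hx''D, hx''⟩ := htT
        rw [← hx, _root_.ConnectedComponents.coe_eq_coe'] at hx''
        have hclopen : IsClopen (PrimeSpectrum.basicOpen e.1 : Set (PrimeSpectrum A)) :=
          PrimeSpectrum.isClopen_iff.mpr ⟨e.1, e.2, rfl⟩
        have hsub := hclopen.connectedComponent_subset hx''D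
        have hxx : x ∈ connectedComponent x'' := by
          rw [← connectedComponent_eq hx'']
          exact mem_connectedComponent
        have hxD : e.1 ∉ x.asIdeal := hsub hxx
        have h0 : e.1 * (1 - e.1) ∈ x.asIdeal := by
          have : e.1 * (1 - e.1) = 0 := by rw [mul_sub, mul_one, e.2.eq, sub_self]
          rw [this]
          exact x.asIdeal.zero_mem
        exact (x.2.mem_or_mem h0).resolve_left hxD
      · rw [chi_apply_of_notMem htT, mul_zero]
        exact x.asIdeal.zero_mem
  subst hB
  -- the closed embedding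
  let j : PrimeSpectrum (LocallyConstant T A ⧸ Ideal.span 𝒮) → PrimeSpectrum (LocallyConstant T A) :=
    PrimeSpectrum.comap (Ideal.Quotient.mk (Ideal.span 𝒮))
  have hj : Topology.IsClosedEmbedding j :=
    PrimeSpectrum.isClosedEmbedding_comap_of_surjective _ _ Ideal.Quotient.mk_surjective
  have hjr : Set.range j = PrimeSpectrum.zeroLocus ((Ideal.span 𝒮 : Ideal (LocallyConstant T A)) : Set _) := by
    rw [_root_.range_comap_of_surjective _ _ Ideal.Quotient.mk_surjective, Ideal.mk_ker]
  let Ψ : PrimeSpectrum (LocallyConstant T A ⧸ Ideal.span 𝒮) → PrimeSpectrum A × T :=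
    fun y => (specHomeo (T := T) (A := A)).symm (j y)
  have hΨ : Topology.IsClosedEmbedding Ψ := (specHomeo (T := T) (A := A)).symm.isClosedEmbedding.comp hj
  have hΨr : Set.range Ψ = {p : PrimeSpectrum A × T | _root_.ConnectedComponents.mk p.1 = g p.2} := by
    ext p
    constructor
    · rintro ⟨y, rfl⟩
      have h1 : j y ∈ Set.range j := ⟨y, rfl⟩
      rw [hjr] at h1
      obtain ⟨⟨x, t⟩, hxt⟩ := (specHomeo (T := T) (A := A)).surjective (j y)
      show _root_.ConnectedComponents.mk (Ψ y).1 = g (Ψ y).2
      have h2 : Ψ y = (x, t) := by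
        show (specHomeo (T := T) (A := A)).symm (j y) = (x, t)
        rw [← hxt, Homeomorph.symm_apply_apply]
      rw [h2]
      rw [← hxt, specHomeo_apply] at h1
      exact (hFP x t).mp h1
    · intro hp
      obtain ⟨x, t⟩ := p
      have h1 := (hFP x t).mpr hp
      rw [← hjr] at h1
      obtain ⟨y, hy⟩ := h1
      refine ⟨y, ?_⟩
      show (specHomeo (T := T) (A := A)).symm (j y) = (x, t)
      rw [hy, ← specHomeo_apply, Homeomorph.symm_apply_apply]
  have hΨ1 : ∀ y, (Ψ y).1 = PrimeSpectrum.comap (algebraMap A (LocallyConstant T A ⧸ Ideal.span 𝒮)) y := by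
    intro y
    show ((specHomeo (T := T) (A := A)).symm (j y)).1 = _
    rw [specHomeo_symm_fst]
    rfl
  -- the map to T
  let τ : PrimeSpectrum (LocallyConstant T A ⧸ Ideal.span 𝒮) → T := fun y => (Ψ y).2
  have hτc : Continuous τ := continuous_snd.comp hΨ.continuous
  have hΨFP : ∀ y, _root_.ConnectedComponents.mk (Ψ y).1 = g (τ y) := by
    intro y
    have : Ψ y ∈ Set.range Ψ := ⟨y, rfl⟩
    rw [hΨr] at this
    exact this
  have hfib : ∀ t : T, _root_.IsConnected (τ ⁻¹' {t}) := by
    intro t
    obtain ⟨x₀, hx₀⟩ := _root_.ConnectedComponents.surjective_coe (g t)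
    have heq : τ ⁻¹' {t} = Ψ ⁻¹' (connectedComponent x₀ ×ˢ {t}) := by
      ext y
      constructor
      · intro hy
        have hy' : τ y = t := hy
        refine ⟨?_, hy'⟩
        have := hΨFP y
        rw [hy', ← hx₀, _root_.ConnectedComponents.coe_eq_coe'] at this
        exact this
      · rintro ⟨-, hy⟩
        exact hy
    rw [heq]
    apply _root_.IsConnected.preimage_of_isClosedMap _ hΨ.injective hΨ.isClosedMap
    · rw [hΨr]
      rintro ⟨x, t'⟩ ⟨hx, ht'⟩
      have ht'' : t' = t := ht'
      show _root_.ConnectedComponents.mk x = g t'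
      rw [ht'', ← hx₀, _root_.ConnectedComponents.coe_eq_coe']
      exact hx
    · exact isConnected_connectedComponent.prod isConnected_singleton
  -- the homeomorphism on components
  let τ' : _root_.ConnectedComponents (PrimeSpectrum (LocallyConstant T A ⧸ Ideal.span 𝒮)) → T :=
    hτc.connectedComponentsLift
  have hτ'c : Continuous τ' := hτc.connectedComponentsLift_continuous
  have hτ'mk : ∀ y, τ' (_root_.ConnectedComponents.mk y) = τ y :=
    fun y => hτc.connectedComponentsLift_apply_coe y
  have hτ'bij : Function.Bijective τ' := by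
    constructor
    · intro c c' hcc
      obtain ⟨y, rfl⟩ := _root_.ConnectedComponents.surjective_coe c
      obtain ⟨y', rfl⟩ := _root_.ConnectedComponents.surjective_coe c'
      rw [hτ'mk, hτ'mk] at hcc
      rw [_root_.ConnectedComponents.coe_eq_coe']
      have h1 : y ∈ τ ⁻¹' {τ y'} := hcc
      have h2 : y' ∈ τ ⁻¹' {τ y'} := rfl
      exact (hfib (τ y')).isPreconnected.subset_connectedComponent h2 h1
    · intro t
      obtain ⟨y, hy⟩ := (hfib t).nonempty
      exact ⟨_root_.ConnectedComponents.mk y, (hτ'mk y).trans hy⟩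
  let e : _root_.ConnectedComponents (PrimeSpectrum (LocallyConstant T A ⧸ Ideal.span 𝒮)) ≃ₜ T :=
    Continuous.homeoOfEquivCompactToT2 (f := Equiv.ofBijective τ' hτ'bij) hτ'c
  have he : ∀ y, e (_root_.ConnectedComponents.mk y) = τ y := hτ'mk
  have hfun : (fun y : PrimeSpectrum (LocallyConstant T A ⧸ Ideal.span 𝒮) =>
      (PrimeSpectrum.comap (algebraMap A (LocallyConstant T A ⧸ Ideal.span 𝒮)) y,
        e (_root_.ConnectedComponents.mk y))) = Ψ := by
    funext y
    rw [he, ← hΨ1]
  refine ⟨LocallyConstant T A ⧸ Ideal.span 𝒮, inferInstance, inferInstance, e,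
    isIndZariski_quotient 𝒮 h𝒮i, ?_, ?_, ?_⟩
  · intro y
    rw [he, ← hΨ1]
    exact (hΨFP y).symm
  · rw [hfun]
    exact hΨ.isEmbedding
  · rw [hfun]
    exact hΨr

end Groth.Agent.S0697
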