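import Groth.Statements.S0698
import Groth.Agent.Lib.Helper3IndZar
import Mathlib

set_option autoImplicit false
open CategoryTheory CategoryTheory.Limits AlgebraicGeometry Opposite Topology
universe u
open ProEtW

namespace Groth.Agent.S0698

open Groth.Agent.Lib.Helper3.IndZar

/-- Let A be a ring, X = Spec A and T a closed subset of pi_0(X). Then A has an ind-Zariski quotient
ring B (the map A -> B is surjective) whose spectrum maps homeomorphically onto the preimage of T in
X. -/
theorem result (A : Type u) [CommRing A]
    (T : Set (_root_.ConnectedComponents (PrimeSpectrum A))) (hT : IsClosed T) :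
    ∃ (B : Type u) (_ : CommRing B) (_ : Algebra A B),
      EtPBC.IsIndZariski A B ∧ Function.Surjective (algebraMap A B) ∧
      Topology.IsEmbedding (PrimeSpectrum.comap (algebraMap A B)) ∧
      Set.range (PrimeSpectrum.comap (algebraMap A B)) = _root_.ConnectedComponents.mk ⁻¹' T := by
  obtain ⟨I, hI, hZ⟩ := exists_indZariski_quotient (_root_.ConnectedComponents.mk ⁻¹' T)
    (hT.preimage _root_.ConnectedComponents.continuous_coe)
    (fun z hz x hx => by
      apply exists_idempotent_of_not_mem_connectedComponent z x
      intro hxz
      apply hx
      have : _root_.ConnectedComponents.mk x = _root_.ConnectedComponents.mk z :=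
        _root_.ConnectedComponents.coe_eq_coe'.mpr hxz
      show _root_.ConnectedComponents.mk x ∈ T
      rw [this]
      exact hz)
  refine ⟨A ⧸ I, inferInstance, inferInstance, hI, Ideal.Quotient.mk_surjective,
    (PrimeSpectrum.isClosedEmbedding_comap_of_surjective _ _ Ideal.Quotient.mk_surjective).isEmbedding,
    ?_⟩
  rw [← hZ]
  have := _root_.range_comap_of_surjective (A ⧸ I) (Ideal.Quotient.mk I) Ideal.Quotient.mk_surjective
  rw [Ideal.mk_ker] at this
  exact this

end Groth.Agent.S0698
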