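import Groth.Statements.S0702
-- import your own Groth.Agent.* helpers here

import Groth.Agent.S0701

set_option autoImplicit false
open CategoryTheory CategoryTheory.Limits AlgebraicGeometry Opposite Topology
universe u
open ProEtW

namespace Groth.Agent.S0702

/-- If `B ⧸ q` is algebraic over `A ⧸ (q ∩ A)` then no prime strictly above `q` has the same
contraction to `A`. -/
theorem eq_of_le_of_comap_eq {A B : Type u} [CommRing A] [CommRing B] [Algebra A B]
    (q q' : Ideal B) [hq : q.IsPrime] [q'.IsPrime]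
    (halg : Algebra.IsAlgebraic (A ⧸ q.comap (algebraMap A B)) (B ⧸ q))
    (hc : q.comap (algebraMap A B) = q'.comap (algebraMap A B)) (hle : q ≤ q') : q = q' := by
  by_contra hne
  have hnle : ¬ q' ≤ q := fun h => hne (le_antisymm hle h)
  obtain ⟨x, hxq', hxq⟩ := Set.not_subset.1 hnle
  let J : Ideal (B ⧸ q) := q'.map (Ideal.Quotient.mk q)
  have hxJ : Ideal.Quotient.mk q x ∈ J := Ideal.mem_map_of_mem _ hxq'
  have hx0 : Ideal.Quotient.mk q x ≠ 0 := by
    rw [Ne, Ideal.Quotient.eq_zero_iff_mem]
    exact hxq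
  have hJ : J.comap (algebraMap (A ⧸ q.comap (algebraMap A B)) (B ⧸ q)) ≠ ⊥ :=
    Ideal.comap_ne_bot_of_algebraic_mem hx0 hxJ (halg.isAlgebraic _)
  apply hJ
  rw [eq_bot_iff]
  intro abar habar
  obtain ⟨a, rfl⟩ := Ideal.Quotient.mk_surjective abar
  rw [Ideal.mem_comap] at habar
  have h1 : algebraMap (A ⧸ q.comap (algebraMap A B)) (B ⧸ q)
      (Ideal.Quotient.mk (q.comap (algebraMap A B)) a) =
      Ideal.Quotient.mk q (algebraMap A B a) := rfl
  rw [h1, Ideal.mem_quotient_iff_mem hle] at habar
  have h2 : a ∈ q'.comap (algebraMap A B) := habar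
  rw [← hc] at h2
  rw [Ideal.mem_bot, Ideal.Quotient.eq_zero_iff_mem]
  exact h2

/-- Let Spec A be profinite and A -> B induce algebraic extensions of residue fields at all primes. Then
Spec B is profinite. -/
theorem result (A B : Type u) [CommRing A] [CommRing B]
    [Algebra A B] [T2Space (PrimeSpectrum A)] [TotallyDisconnectedSpace (PrimeSpectrum A)]
    (h : ProEtW.AlgebraicResidueExtensions A B) :
    ProEtW.IsProfinite (PrimeSpectrum B) := by
  apply Groth.Agent.S0701.result A B
  intro q q' hc hle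
  have := q.isPrime
  have := q'.isPrime
  exact PrimeSpectrum.ext (eq_of_le_of_comap_eq q.asIdeal q'.asIdeal (h q.asIdeal) hc hle)

end Groth.Agent.S0702
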