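import Groth.Statements.S0704
import Groth.Agent.Lib.Helper10Pi0
-- import your own Groth.Agent.* helpers here

set_option autoImplicit false
open Topology
universe u
open ProEtW

namespace Groth.Agent.S0704

/-- With X, T, g and the fibre product Y of X and T over pi_0(X) as in the first part, if X is moreover
w-local then Y is w-local, the projection Y -> X is w-local, and the closed points of Y are exactly
the points mapping to closed points of X. -/
theorem result (X T : Type u) [TopologicalSpace X]
    [TopologicalSpace T] [CompactSpace T] [T2Space T] [TotallyDisconnectedSpace T]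
    (hX : ProEtW.IsWLocal X) (g : C(T, _root_.ConnectedComponents X)) :
    ProEtW.IsWLocal {p : X × T // _root_.ConnectedComponents.mk p.1 = g p.2} ∧
      ProEtW.IsWLocalMap (fun y : {p : X × T // _root_.ConnectedComponents.mk p.1 = g p.2} => y.1.1) ∧
      ProEtW.closedPoints {p : X × T // _root_.ConnectedComponents.mk p.1 = g p.2} =
        (fun y : {p : X × T // _root_.ConnectedComponents.mk p.1 = g p.2} => y.1.1) ⁻¹' ProEtW.closedPoints X := by
  obtain ⟨hsp, hcl, huniq⟩ := hX
  have hcp : ∀ y : {p : X × T // _root_.ConnectedComponents.mk p.1 = g p.2},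
      IsClosed ({y} : Set {p : X × T // _root_.ConnectedComponents.mk p.1 = g p.2}) ↔
        IsClosed ({y.1.1} : Set X) :=
    fun y => Groth.Agent.Lib.Helper10.Pi0.fp_isClosed_singleton_iff X T g y
  have hpc : Continuous (fun y : {p : X × T // _root_.ConnectedComponents.mk p.1 = g p.2} => y.1.1) :=
    continuous_fst.comp continuous_subtype_val
  have h3 : ProEtW.closedPoints {p : X × T // _root_.ConnectedComponents.mk p.1 = g p.2} =
      (fun y : {p : X × T // _root_.ConnectedComponents.mk p.1 = g p.2} => y.1.1) ⁻¹'
        ProEtW.closedPoints X := by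
    ext y
    exact hcp y
  refine ⟨⟨Groth.Agent.Lib.Helper10.Pi0.spectralSpace_fp X T g, ?_, ?_⟩, ⟨?_, ?_⟩, h3⟩
  · have : {y : {p : X × T // _root_.ConnectedComponents.mk p.1 = g p.2} | IsClosed ({y} : Set _)} =
        (fun y : {p : X × T // _root_.ConnectedComponents.mk p.1 = g p.2} => y.1.1) ⁻¹'
          {x : X | IsClosed ({x} : Set X)} := by
      ext y
      exact hcp y
    rw [this]
    exact hcl.preimage hpc
  · exact fun y => Groth.Agent.Lib.Helper10.Pi0.fp_existsUnique_closed_specialization X T g huniq y
  · exact (Groth.Agent.Lib.Helper10.Pi0.isSpectralMap_fst X T).comp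
      (Groth.Agent.Lib.Helper10.Pi0.isSpectralMap_fp_val X T g)
  · exact fun y hy => (hcp y).mp hy

end Groth.Agent.S0704
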