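import Groth.Statements.S0705
import Groth.Agent.Lib.Helper3LCSpec
import Groth.Agent.Lib.Helper3LCIndZar
import Groth.Agent.Lib.Helper3WLoc
import Groth.Agent.Lib.Helper3IdLoc
import Groth.Agent.Lib.Helper3IdLoc2
import Groth.Agent.Lib.Helper10ProCons
import Groth.Agent.S0699
import Mathlib

set_option autoImplicit false
open CategoryTheory CategoryTheory.Limits AlgebraicGeometry Opposite Topology
universe u
open ProEtW

namespace Groth.Agent.S0705

open Groth.Agent.Lib.Helper3.LCIndZar Groth.Agent.Lib.Helper3.WLoc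
open Groth.Agent.Lib.Helper3.IdLoc

set_option maxHeartbeats 1600000

-- comparison of quotients
theorem quotient_bijective (A B : Type u) [CommRing A] [CommRing B] [Algebra A B] (I : Ideal A)
    (h1 : EtPBC.IdentifiesLocalRings A B)
    (hcp : ProEtW.closedPoints (PrimeSpectrum B) =
      PrimeSpectrum.zeroLocus (I.map (algebraMap A B)))
    [T1Space ↥(PrimeSpectrum.zeroLocus (R := A) I)]
    [TotallyDisconnectedSpace ↥(PrimeSpectrum.zeroLocus (R := A) I)]
    (hbij : Set.BijOn (PrimeSpectrum.comap (algebraMap A B))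
      (ProEtW.closedPoints (PrimeSpectrum B)) (PrimeSpectrum.zeroLocus (R := A) I)) :
    Function.Bijective (Ideal.quotientMap (I.map (algebraMap A B)) (algebraMap A B)
      Ideal.le_comap_map) := by
  letI : Algebra (A ⧸ I) (B ⧸ I.map (algebraMap A B)) :=
    (Ideal.quotientMap (I.map (algebraMap A B)) (algebraMap A B) Ideal.le_comap_map).toAlgebra
  have hφ : ∀ a : A, algebraMap (A ⧸ I) (B ⧸ I.map (algebraMap A B))
      (Ideal.Quotient.mk I a) = Ideal.Quotient.mk _ (algebraMap A B a) :=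
    fun a => Ideal.quotientMap_mk
  have h1' := identifies_quotient h1 I
  -- embeddings
  let jA : PrimeSpectrum (A ⧸ I) → PrimeSpectrum A := PrimeSpectrum.comap (Ideal.Quotient.mk I)
  have hjA : Topology.IsClosedEmbedding jA :=
    PrimeSpectrum.isClosedEmbedding_comap_of_surjective _ _ Ideal.Quotient.mk_surjective
  have hjAr : Set.range jA = PrimeSpectrum.zeroLocus (R := A) I := by
    rw [_root_.range_comap_of_surjective _ _ Ideal.Quotient.mk_surjective, Ideal.mk_ker]
  let jB : PrimeSpectrum (B ⧸ I.map (algebraMap A B)) → PrimeSpectrum B :=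
    PrimeSpectrum.comap (Ideal.Quotient.mk _)
  have hjB : Topology.IsClosedEmbedding jB :=
    PrimeSpectrum.isClosedEmbedding_comap_of_surjective _ _ Ideal.Quotient.mk_surjective
  have hjBr : Set.range jB = ProEtW.closedPoints (PrimeSpectrum B) := by
    rw [_root_.range_comap_of_surjective _ _ Ideal.Quotient.mk_surjective, Ideal.mk_ker, hcp]
  -- T1 spaces
  have he₁ : ∃ e₁ : PrimeSpectrum (A ⧸ I) → ↥(PrimeSpectrum.zeroLocus (R := A) I),
      Topology.IsEmbedding e₁ :=
    ⟨fun x => ⟨jA x, hjAr ▸ ⟨x, rfl⟩⟩, hjA.isEmbedding.codRestrict _ _⟩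
  obtain ⟨e₁, he₁⟩ := he₁
  haveI hT1A : T1Space (PrimeSpectrum (A ⧸ I)) := he₁.t1Space
  haveI hTDA : TotallyDisconnectedSpace (PrimeSpectrum (A ⧸ I)) :=
    he₁.isTotallyDisconnected_range.mp (isTotallyDisconnected_of_totallyDisconnectedSpace _)
  haveI hT1B : T1Space (PrimeSpectrum (B ⧸ I.map (algebraMap A B))) := by
    rw [t1Space_iff_specializes_imp_eq]
    intro x x' hxx'
    have h2 : jB x ⤳ jB x' := hxx'.map hjB.continuous
    have h3 : jB x ∈ ProEtW.closedPoints (PrimeSpectrum B) := hjBr ▸ ⟨x, rfl⟩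
    have h4 : IsClosed ({jB x} : Set (PrimeSpectrum B)) := h3
    have h5 : jB x' ∈ closure ({jB x} : Set (PrimeSpectrum B)) :=
      specializes_iff_mem_closure.mp h2
    rw [h4.closure_eq] at h5
    exact (hjB.injective h5).symm
  -- the map on spectra
  obtain ⟨g, hg⟩ : ∃ g : PrimeSpectrum (B ⧸ I.map (algebraMap A B)) →
      PrimeSpectrum (A ⧸ I), g = PrimeSpectrum.comap (algebraMap (A ⧸ I) _) := ⟨_, rfl⟩
  have hsq : ∀ x, jA (g x) = PrimeSpectrum.comap (algebraMap A B) (jB x) := by
    intro x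
    rw [hg]
    ext a
    show algebraMap (A ⧸ I) _ (Ideal.Quotient.mk I a) ∈ x.asIdeal ↔
      Ideal.Quotient.mk _ (algebraMap A B a) ∈ x.asIdeal
    rw [hφ]
  have hjBcl : ∀ x, jB x ∈ ProEtW.closedPoints (PrimeSpectrum B) := fun x => hjBr ▸ ⟨x, rfl⟩
  have hginj : Function.Injective g := by
    intro x x' hxx'
    apply hjB.injective
    apply hbij.injOn (hjBcl x) (hjBcl x')
    rw [← hsq, ← hsq, hxx']
  have hgsurj : Function.Surjective g := by
    intro xb
    have hp : jA xb ∈ PrimeSpectrum.zeroLocus (R := A) I := hjAr ▸ ⟨xb, rfl⟩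
    obtain ⟨y, hycl, hy⟩ := hbij.surjOn hp
    rw [← hjBr] at hycl
    obtain ⟨x, rfl⟩ := hycl
    refine ⟨x, ?_⟩
    apply hjA.injective
    rw [hsq, hy]
  have h5 : Function.Bijective
      (PrimeSpectrum.continuous_comap (algebraMap (A ⧸ I)
        (B ⧸ I.map (algebraMap A B)))).connectedComponentsMap := by
    have hmap : ∀ x, (PrimeSpectrum.continuous_comap (algebraMap (A ⧸ I)
        (B ⧸ I.map (algebraMap A B)))).connectedComponentsMap
        (_root_.ConnectedComponents.mk x) = _root_.ConnectedComponents.mk (g x) := by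
      intro x; rw [hg]; rfl
    constructor
    · intro c c' hcc
      obtain ⟨x, rfl⟩ := _root_.ConnectedComponents.surjective_coe c
      obtain ⟨x', rfl⟩ := _root_.ConnectedComponents.surjective_coe c'
      rw [hmap, hmap, _root_.ConnectedComponents.coe_eq_coe', connectedComponent_eq_singleton] at hcc
      rw [hginj hcc]
    · intro c
      obtain ⟨xb, rfl⟩ := _root_.ConnectedComponents.surjective_coe c
      obtain ⟨x, rfl⟩ := hgsurj xb
      exact ⟨_root_.ConnectedComponents.mk x, hmap x⟩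
  have h4 : ProEtW.IsWLocalMap (PrimeSpectrum.comap (algebraMap (A ⧸ I)
      (B ⧸ I.map (algebraMap A B)))) :=
    ⟨Groth.Agent.Lib.Helper10.ProCons.isSpectralMap_comap _, fun _ _ => isClosed_singleton⟩
  exact Groth.Agent.S0699.result (A ⧸ I) (B ⧸ I.map (algebraMap A B)) h1'
    (isWLocal_of_t1 _) (isWLocal_of_t1 _) h4 h5

/-- Let I be an ideal of A such that V(I) is a profinite space. Then some ind-Zariski A-algebra B has
w-local spectrum whose closed points are exactly V(IB), with A/I -> B/IB bijective. -/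
theorem result (A : Type u) [CommRing A] (I : Ideal A)
    (hI : ProEtW.IsProfinite (PrimeSpectrum.zeroLocus (R := A) I)) :
    ∃ (B : Type u) (_ : CommRing B) (_ : Algebra A B),
      EtPBC.IsIndZariski A B ∧ ProEtW.IsWLocal (PrimeSpectrum B) ∧
      ProEtW.closedPoints (PrimeSpectrum B) = PrimeSpectrum.zeroLocus (I.map (algebraMap A B)) ∧
      Function.Bijective (Ideal.quotientMap (I.map (algebraMap A B)) (algebraMap A B)
        Ideal.le_comap_map) := by
  obtain ⟨hc, ht2, htd⟩ := hI
  haveI := hc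
  haveI := ht2
  haveI := htd
  obtain ⟨ρ, hρdef⟩ : ∃ ρ : ↥(PrimeSpectrum.zeroLocus (R := A) I) → PrimeSpectrum A,
    ρ = Subtype.val := ⟨_, rfl⟩
  have hρmem : ∀ t, ρ t ∈ PrimeSpectrum.zeroLocus (R := A) I := fun t => hρdef ▸ t.2
  have hρinj : Function.Injective ρ := hρdef ▸ Subtype.val_injective
  have hρind : Topology.IsInducing ρ := hρdef ▸ Topology.IsInducing.subtypeVal
  have hρrange : Set.range ρ = PrimeSpectrum.zeroLocus (R := A) I := by
    rw [hρdef]; exact Subtype.range_val
  have hρ : ∀ f : A, IsClopen {t | f ∈ (ρ t).asIdeal} := by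
    intro f
    constructor
    · have : {t | f ∈ (ρ t).asIdeal} = ρ ⁻¹' (PrimeSpectrum.zeroLocus {f}) := by
        ext t
        simp
      rw [this]
      exact (PrimeSpectrum.isClosed_zeroLocus _).preimage hρind.continuous
    · have hK : IsCompact ((PrimeSpectrum.basicOpen f : Set (PrimeSpectrum A)) ∩
          PrimeSpectrum.zeroLocus (R := A) I) :=
        (PrimeSpectrum.isCompact_basicOpen f).inter_right (PrimeSpectrum.isClosed_zeroLocus _)
      have hK' : IsCompact (ρ ⁻¹' ((PrimeSpectrum.basicOpen f : Set (PrimeSpectrum A)) ∩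
          PrimeSpectrum.zeroLocus (R := A) I)) := by
        rw [hρind.isCompact_preimage_iff]
        · exact hK
        · rw [hρrange]
          exact Set.inter_subset_right
      have heq : {t | f ∈ (ρ t).asIdeal}ᶜ = ρ ⁻¹' ((PrimeSpectrum.basicOpen f : Set (PrimeSpectrum A)) ∩
          PrimeSpectrum.zeroLocus (R := A) I) := by
        ext t
        simp only [Set.mem_compl_iff, Set.mem_ofPred_eq, Set.mem_preimage, Set.mem_inter_iff]
        constructor
        · intro h
          exact ⟨h, hρmem t⟩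
        · intro h
          exact h.1
      have hcl : IsClosed {t | f ∈ (ρ t).asIdeal}ᶜ := heq ▸ hK'.isClosed
      simpa using hcl.isOpen_compl
  have hind : EtPBC.IsIndZariski A (Aw ρ hρ) := isIndZariski_localization (M ρ hρ) (Aw ρ hρ)
  have hcomap : ∀ y : PrimeSpectrum (Aw ρ hρ),
      y.asIdeal.comap (algebraMap A (Aw ρ hρ)) = (Ψ ρ hρ y).1.asIdeal := by
    intro y
    rw [Ψ_fst]
    rfl
  -- closed points
  have hcp : ProEtW.closedPoints (PrimeSpectrum (Aw ρ hρ)) =
      PrimeSpectrum.zeroLocus (I.map (algebraMap A (Aw ρ hρ))) := by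
    ext y
    rw [closedPoints_eq, PrimeSpectrum.mem_zeroLocus, SetLike.coe_subset_coe,
      Ideal.map_le_iff_le_comap, hcomap]
    constructor
    · intro hy
      have hy' : (Ψ ρ hρ y).1 = ρ (Ψ ρ hρ y).2 := hy
      rw [hy']
      exact hρmem _
    · intro hy
      have hq : (Ψ ρ hρ y).1 ∈ Set.range ρ := by
        rw [hρrange]
        exact hy
      obtain ⟨t', ht'⟩ := hq
      have hsp : t' ⤳ (Ψ ρ hρ y).2 := by
        rw [← hρind.specializes_iff, ht', ← PrimeSpectrum.le_iff_specializes]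
        exact Ψ_le ρ hρ y
      have : t' = (Ψ ρ hρ y).2 := specializes_iff_eq.mp hsp
      show (Ψ ρ hρ y).1 = ρ (Ψ ρ hρ y).2
      rw [← this, ht']
  have hbij : Set.BijOn (PrimeSpectrum.comap (algebraMap A (Aw ρ hρ)))
      (ProEtW.closedPoints (PrimeSpectrum (Aw ρ hρ))) (PrimeSpectrum.zeroLocus (R := A) I) := by
    refine ⟨?_, ?_, ?_⟩
    · intro y hy
      rw [closedPoints_eq] at hy
      have hy' : (Ψ ρ hρ y).1 = ρ (Ψ ρ hρ y).2 := hy
      rw [← Ψ_fst, hy']
      exact hρmem _
    · intro y hy y' hy' heq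
      rw [closedPoints_eq] at hy hy'
      have h1 : (Ψ ρ hρ y).1 = ρ (Ψ ρ hρ y).2 := hy
      have h2 : (Ψ ρ hρ y').1 = ρ (Ψ ρ hρ y').2 := hy'
      rw [← Ψ_fst, ← Ψ_fst] at heq
      apply (isEmbedding_Ψ ρ hρ).injective
      apply Prod.ext heq
      apply hρinj
      rw [← h1, ← h2, heq]
    · intro x hx
      have hx' : x ∈ Set.range ρ := by rw [hρrange]; exact hx
      obtain ⟨t, rfl⟩ := hx'
      obtain ⟨y, hy⟩ := exists_closedPt ρ hρ t
      refine ⟨y, ?_, ?_⟩
      · rw [closedPoints_eq]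
        show (Ψ ρ hρ y).1 = ρ (Ψ ρ hρ y).2
        rw [hy]
      · rw [← Ψ_fst, hy]
  exact ⟨Aw ρ hρ, inferInstance, inferInstance, hind, isWLocal ρ hρ, hcp,
    quotient_bijective A (Aw ρ hρ) I (identifies_of_isIndZariski hind) hcp hbij⟩

end Groth.Agent.S0705
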