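import Groth.Statements.S0706
-- import your own Groth.Agent.* helpers here

set_option autoImplicit false
open CategoryTheory CategoryTheory.Limits AlgebraicGeometry Opposite Topology
universe u
open ProEtW

namespace Groth.Agent.S0706

/-- The multiplicative set of elements not vanishing at any point of `D(f) ∩ V(I)`. -/
def nonvanishing (A : Type u) [CommRing A] (f : A) (I : Ideal A) : Submonoid A where
  carrier := {s | ∀ z : PrimeSpectrum A,
    z ∈ (PrimeSpectrum.basicOpen f : Set (PrimeSpectrum A)) ∩ PrimeSpectrum.zeroLocus I →
      s ∉ z.asIdeal}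
  mul_mem' := by
    intro a b ha hb z hz hab
    rcases z.isPrime.mem_or_mem hab with h | h
    · exact ha z hz h
    · exact hb z hz h
  one_mem' := by
    intro z _ h
    exact z.isPrime.ne_top ((Ideal.eq_top_iff_one _).2 h)

/-- Let f be an element and I an ideal of A, and Z the intersection of D(f) and V(I) in Spec A. There is
a multiplicative subset S of A for which the image of Spec(S^{-1}A) in Spec A consists precisely of
the points having a specialization in Z. -/
theorem result (A : Type u) [CommRing A] (f : A) (I : Ideal A) :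
    ∃ S : Submonoid A,
      Set.range (PrimeSpectrum.comap (algebraMap A (Localization S))) =
        {x | ∃ z : PrimeSpectrum A,
          z ∈ (PrimeSpectrum.basicOpen f : Set (PrimeSpectrum A)) ∩ PrimeSpectrum.zeroLocus I ∧ x ⤳ z} := by
  refine ⟨nonvanishing A f I, ?_⟩
  rw [PrimeSpectrum.localization_comap_range (Localization (nonvanishing A f I)) (nonvanishing A f I)]
  ext p
  simp only [Set.mem_ofPred_eq]
  constructor
  · intro hdisj
    by_contra hcon
    push Not at hcon
    -- every prime containing p ⊔ I contains f
    have hf : f ∈ (p.asIdeal ⊔ I).radical := by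
      rw [Ideal.radical_eq_sInf, Submodule.mem_sInf]
      rintro J ⟨hJ, hJp⟩
      by_contra hfJ
      let z : PrimeSpectrum A := ⟨J, hJp⟩
      have hz : z ∈ (PrimeSpectrum.basicOpen f : Set (PrimeSpectrum A)) ∩
          PrimeSpectrum.zeroLocus I := by
        refine ⟨?_, ?_⟩
        · exact hfJ
        · rw [PrimeSpectrum.mem_zeroLocus]
          exact fun x hx => hJ (Ideal.mem_sup_right hx)
      apply hcon z hz
      rw [← PrimeSpectrum.le_iff_specializes]
      exact fun x hx => hJ (Ideal.mem_sup_left hx)
    obtain ⟨n, hn⟩ := hf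
    obtain ⟨a, ha, b, hb, hab⟩ := Submodule.mem_sup.1 hn
    have haS : a ∈ nonvanishing A f I := by
      intro z hz haz
      have hbz : b ∈ z.asIdeal := (PrimeSpectrum.mem_zeroLocus _ _).1 hz.2 hb
      have : f ^ n ∈ z.asIdeal := hab ▸ z.asIdeal.add_mem haz hbz
      exact hz.1 (z.isPrime.mem_of_pow_mem n this)
    exact Set.disjoint_left.1 hdisj haS ha
  · rintro ⟨z, hz, hpz⟩
    rw [← PrimeSpectrum.le_iff_specializes] at hpz
    rw [Set.disjoint_left]
    intro s hs hsp
    exact hs z hz (hpz hsp)

end Groth.Agent.S0706
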