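import Groth.Statements.S0707
import Groth.Agent.Lib.Helper3WEProd
import Groth.Agent.Lib.Helper14WEField
import Mathlib

set_option autoImplicit false
open CategoryTheory CategoryTheory.Limits AlgebraicGeometry Opposite Topology
universe u
open ProEtW

namespace Groth.Agent.S0707

open Groth.Agent.Lib.Helper3.WEProd Groth.Agent.Lib.Helper14.WEField

set_option linter.style.haveILetI false

-- the product of the localizations away from the elements of E
abbrev DD (A : Type u) [CommRing A] (E : Finset A) : Type u := ∀ i : E, Localization.Away (i : A)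

set_option maxHeartbeats 1600000

/-- Let A be w-contractible, E a finite set of elements of A with zero set Z in Spec A, and B a
localization of A at a multiplicative subset S such that the image of Spec B → Spec A is precisely
the set of points of Spec A specializing to some point of Z. Then B is w-contractible. -/
theorem result (A B : Type u) [CommRing A] [CommRing B]
    [Algebra A B] (S : Submonoid A) [IsLocalization S B] (E : Finset A)
    (hB : Set.range (PrimeSpectrum.comap (algebraMap A B)) =
      {x | ∃ z : PrimeSpectrum A, z ∈ PrimeSpectrum.zeroLocus (R := A) E ∧ x ⤳ z})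
    (hA : EtPBC.IsWContractible A) : EtPBC.IsWContractible B := by
  intro C _ _ hff hwe
  classical
  letI algAC : Algebra A C := ((algebraMap B C).comp (algebraMap A B)).toAlgebra
  haveI : IsScalarTower A B C := IsScalarTower.of_algebraMap_eq (fun _ => rfl)
  haveI : Algebra.WeaklyEtale A B := weaklyEtale_of_isLocalization S B
  haveI : Algebra.WeaklyEtale A C := Algebra.WeaklyEtale.trans A B C
  haveI : Algebra.WeaklyEtale A (DD A E × C) := weaklyEtale_prod A _ _
  have hsurj : Function.Surjective (PrimeSpectrum.comap (algebraMap A (DD A E × C))) := by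
    intro x
    by_cases hx : ∃ i : E, (i : A) ∉ x.asIdeal
    · obtain ⟨i, hi⟩ := hx
      have hxr : x ∈ Set.range (PrimeSpectrum.comap
          (algebraMap A (Localization.Away (i : A)))) := by
        rw [PrimeSpectrum.localization_away_comap_range (Localization.Away (i : A)) (i : A)]
        exact hi
      obtain ⟨y, hy⟩ := hxr
      refine ⟨PrimeSpectrum.comap ((Pi.evalRingHom _ i).comp (RingHom.fst (DD A E) C)) y, ?_⟩
      rw [← hy, ← PrimeSpectrum.comap_comp_apply]
      congr 1
    · push Not at hx
      have hxZ : x ∈ PrimeSpectrum.zeroLocus (R := A) E := by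
        intro f hf; exact hx ⟨f, hf⟩
      have hxr : x ∈ Set.range (PrimeSpectrum.comap (algebraMap A B)) := by
        rw [hB]; exact ⟨x, hxZ, specializes_rfl⟩
      obtain ⟨y, hy⟩ := hxr
      obtain ⟨y', hy'⟩ := PrimeSpectrum.comap_surjective_of_faithfullyFlat (A := B) (B := C) y
      refine ⟨PrimeSpectrum.comap (RingHom.snd (DD A E) C) y', ?_⟩
      rw [← hy, ← hy', ← PrimeSpectrum.comap_comp_apply, ← PrimeSpectrum.comap_comp_apply]
      congr 1
  haveI : Module.FaithfullyFlat A (DD A E × C) := Module.FaithfullyFlat.of_comap_surjective hsurj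
  obtain ⟨σ⟩ := hA (DD A E × C) inferInstance inferInstance
  obtain ⟨e, he⟩ : ∃ e : A, e = σ (0, 1) := ⟨_, rfl⟩
  have hεz : ∀ (z : PrimeSpectrum A), z ∈ PrimeSpectrum.zeroLocus (R := A) E → ∀ i : E,
      σ ((Pi.single i 1, 0) : DD A E × C) ∈ z.asIdeal := by
    intro z hz i
    have h1 : ((Pi.single i 1, 0) : DD A E × C) =
        (i : A) • ((Pi.single i (IsLocalization.Away.invSelf (i : A)), 0) : DD A E × C) := by
      ext j
      · simp only [Prod.smul_mk, Pi.smul_apply]
        by_cases h : j = i
        · subst h
          rw [Pi.single_eq_same, Pi.single_eq_same, Algebra.smul_def,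
            IsLocalization.Away.mul_invSelf]
        · rw [Pi.single_eq_of_ne h, Pi.single_eq_of_ne h, smul_zero]
      · simp
    rw [h1, map_smul, smul_eq_mul]
    exact z.asIdeal.mul_mem_right _ (hz i.2)
  have hsum : (∑ i : E, σ ((Pi.single i 1, 0) : DD A E × C)) + e = 1 := by
    rw [he, ← map_sum, ← map_add, ← map_one σ]
    congr 1
    ext j
    · simp [Prod.fst_sum, Finset.sum_apply, Pi.single_apply]
    · simp [Prod.snd_sum]
  have he_notMem : ∀ z : PrimeSpectrum A, z ∈ PrimeSpectrum.zeroLocus (R := A) E →
      e ∉ z.asIdeal := by
    intro z hz hez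
    apply z.2.ne_top
    rw [Ideal.eq_top_iff_one, ← hsum]
    exact z.asIdeal.add_mem (Ideal.sum_mem _ fun i _ => hεz z hz i) hez
  have he_idem : e * e = e := by
    rw [he, ← map_mul]
    congr 1
    ext <;> simp
  have heB : algebraMap A B e = 1 := by
    have hidem : algebraMap A B e * algebraMap A B e = algebraMap A B e := by
      rw [← map_mul, he_idem]
    have hunit : IsUnit (algebraMap A B e) := by
      by_contra hnu
      obtain ⟨m, hm, hem⟩ := exists_max_ideal_of_mem_nonunits hnu
      have hr : PrimeSpectrum.comap (algebraMap A B) ⟨m, hm.isPrime⟩ ∈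
          Set.range (PrimeSpectrum.comap (algebraMap A B)) := ⟨_, rfl⟩
      rw [hB] at hr
      obtain ⟨z, hz, hspec⟩ := hr
      have hle := (PrimeSpectrum.le_iff_specializes _ _).mpr hspec
      exact he_notMem z hz (hle hem)
    exact hunit.mul_left_cancel (by rw [hidem, mul_one])
  let ψ : C →+* B :=
    { toFun := fun c => algebraMap A B (σ ((0, c) : DD A E × C))
      map_one' := by rw [← he]; exact heB
      map_mul' := fun c c' => by
        rw [← map_mul, ← map_mul]
        congr 2
        ext <;> simp
      map_zero' := by
        have : ((0, 0) : DD A E × C) = 0 := rfl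
        rw [this, map_zero, map_zero]
      map_add' := fun c c' => by
        rw [← map_add, ← map_add]
        congr 2
        ext <;> simp }
  have hψA : ∀ a : A, ψ (algebraMap B C (algebraMap A B a)) = algebraMap A B a := by
    intro a
    show algebraMap A B (σ ((0, algebraMap B C (algebraMap A B a)) : DD A E × C)) = _
    have h1 : ((0, algebraMap B C (algebraMap A B a)) : DD A E × C) =
        a • ((0, 1) : DD A E × C) := by
      ext j
      · simp
      · simp only [Prod.smul_mk]
        rw [Algebra.smul_def, mul_one]
        rfl
    rw [h1, map_smul, smul_eq_mul, map_mul, ← he, heB, mul_one]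
  have hψB : ψ.comp (algebraMap B C) = RingHom.id B :=
    IsLocalization.ringHom_ext S (by ext a; exact hψA a)
  exact ⟨{ ψ with commutes' := fun b => congrFun (congrArg DFunLike.coe hψB) b }⟩

end Groth.Agent.S0707
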