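import Groth.Statements.S0708
import Groth.Agent.Lib.Helper3ProdEtale
import Groth.Agent.Lib.Helper3LocLift
import Mathlib

set_option autoImplicit false
open CategoryTheory CategoryTheory.Limits AlgebraicGeometry Opposite Topology
universe u
open ProEtW

namespace Groth.Agent.S0708

open TensorProduct Groth.Agent.Lib.Helper3.ProdEtale Groth.Agent.Lib.Helper3.LocLift

set_option maxHeartbeats 1600000

-- core argument with an abstract intermediate algebra B₁
theorem core (A B : Type u) [CommRing A] [CommRing B] [Algebra A B] (I : Ideal A)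
    (hB : Set.range (PrimeSpectrum.comap (algebraMap A B)) =
      {x | ∃ z : PrimeSpectrum A, z ∈ PrimeSpectrum.zeroLocus (R := A) I ∧ x ⤳ z})
    (hA : ProEtW.HasEtaleRetractions A)
    (B₁ : Type u) [CommRing B₁] [Algebra A B₁] [Algebra.Etale A B₁] [Algebra B₁ B]
    [IsScalarTower A B₁ B]
    (huniq : ∀ β' : B₁ →ₐ[A] B, β' = IsScalarTower.toAlgHom A B₁ B)
    (E₁ : Type u) [CommRing E₁] [Algebra B₁ E₁] [Algebra.Etale B₁ E₁]
    (C : Type u) [CommRing C] [Algebra B C] (hff : Module.FaithfullyFlat B C)
    (e : B ⊗[B₁] E₁ ≃ₐ[B] C) : Nonempty (C →ₐ[B] B) := by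
  classical
  letI algAE₁ : Algebra A E₁ := ((algebraMap B₁ E₁).comp (algebraMap A B₁)).toAlgebra
  haveI : IsScalarTower A B₁ E₁ := IsScalarTower.of_algebraMap_eq' rfl
  haveI : Algebra.Etale A E₁ := Algebra.Etale.comp A B₁ E₁
  let h : E₁ →+* C := (e : B ⊗[B₁] E₁ →+* C).comp
    (Algebra.TensorProduct.includeRight : E₁ →ₐ[B₁] B ⊗[B₁] E₁).toRingHom
  have hcomm : h.comp (algebraMap A E₁) = (algebraMap B C).comp (algebraMap A B) := by
    ext a
    show e ((1 : B) ⊗ₜ[B₁] (algebraMap B₁ E₁ (algebraMap A B₁ a))) =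
      algebraMap B C (algebraMap A B a)
    rw [Algebra.algebraMap_eq_smul_one (algebraMap A B₁ a), ← TensorProduct.smul_tmul,
      Algebra.smul_def, mul_one, ← IsScalarTower.algebraMap_apply A B₁ B]
    have : (algebraMap A B a) ⊗ₜ[B₁] (1 : E₁) = algebraMap B (B ⊗[B₁] E₁) (algebraMap A B a) := by
      rw [Algebra.TensorProduct.algebraMap_apply]
      rfl
    rw [this, e.commutes]
  -- the open image of Spec E₁
  obtain ⟨U, hU⟩ : ∃ U, U = Set.range (PrimeSpectrum.comap (algebraMap A E₁)) := ⟨_, rfl⟩
  have hUo : IsOpen U := by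
    rw [hU]
    exact (PrimeSpectrum.isOpenMap_comap_of_hasGoingDown_of_finitePresentation).isOpen_range
  have hVU : PrimeSpectrum.zeroLocus (I : Set A) ⊆ U := by
    intro z hz
    have hz' : z ∈ Set.range (PrimeSpectrum.comap (algebraMap A B)) := by
      rw [hB]; exact ⟨z, hz, specializes_rfl⟩
    obtain ⟨q, rfl⟩ := hz'
    obtain ⟨q', rfl⟩ := PrimeSpectrum.comap_surjective_of_faithfullyFlat (A := B) (B := C) q
    rw [hU]
    refine ⟨PrimeSpectrum.comap h q', ?_⟩
    rw [← PrimeSpectrum.comap_comp_apply, ← PrimeSpectrum.comap_comp_apply, hcomm]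
  obtain ⟨J, hJ⟩ := (PrimeSpectrum.isClosed_iff_zeroLocus_ideal _).mp hUo.isClosed_compl
  have hIJ : I ⊔ J = ⊤ := by
    rw [← PrimeSpectrum.zeroLocus_empty_iff_eq_top, PrimeSpectrum.zeroLocus_sup, ← hJ]
    ext z
    simp only [Set.mem_inter_iff, Set.mem_compl_iff, Set.mem_empty_iff_false, iff_false, not_and,
      not_not]
    exact fun hz => hVU hz
  obtain ⟨g, hg, j, hj, hgj⟩ := Submodule.mem_sup.mp ((Ideal.eq_top_iff_one _).mp hIJ)
  haveI := etale_prod A E₁ (Localization.Away g)
  have hff' : Module.FaithfullyFlat A (E₁ × Localization.Away g) := by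
    apply faithfullyFlat_prod A E₁ (Localization.Away g)
    intro p
    by_cases hp : p ∈ U
    · exact Or.inl (hU ▸ hp)
    · right
      have hpJ : p ∈ PrimeSpectrum.zeroLocus (J : Set A) := by
        rw [← hJ]; exact hp
      have hjp : j ∈ p.asIdeal := hpJ hj
      have hgp : g ∉ p.asIdeal := fun hgp =>
        p.2.ne_top ((Ideal.eq_top_iff_one _).mpr (hgj ▸ add_mem hgp hjp))
      rw [PrimeSpectrum.localization_away_comap_range (Localization.Away g) g]
      exact hgp
  obtain ⟨ρ⟩ := hA (E₁ × Localization.Away g) hff' inferInstance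
  -- the idempotent
  obtain ⟨ε, hε⟩ : ∃ ε : A, ε = ρ ((0 : E₁), (1 : Localization.Away g)) := ⟨_, rfl⟩
  have hεε : ε * ε = ε := by
    rw [hε, ← map_mul]
    congr 1
    ext <;> simp
  have hεI : ε ∈ I := by
    have h1 : ((0 : E₁), (1 : Localization.Away g)) =
        g • ((0 : E₁), IsLocalization.Away.invSelf (S := Localization.Away g) g) := by
      ext
      · simp
      · show (1 : Localization.Away g) = g • IsLocalization.Away.invSelf g
        rw [Algebra.smul_def, IsLocalization.Away.mul_invSelf]
    rw [hε, h1, map_smul, smul_eq_mul]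
    exact I.mul_mem_right _ hg
  have hεB : algebraMap A B ε = 0 := by
    have hu : IsUnit (1 - algebraMap A B ε) := by
      by_contra hnu
      obtain ⟨m, hm, hmem⟩ := exists_max_ideal_of_mem_nonunits hnu
      haveI := hm.isPrime
      have hp : PrimeSpectrum.comap (algebraMap A B) ⟨m, inferInstance⟩ ∈
          Set.range (PrimeSpectrum.comap (algebraMap A B)) := ⟨_, rfl⟩
      rw [hB] at hp
      obtain ⟨z, hz, hspec⟩ := hp
      have hle := (PrimeSpectrum.le_iff_specializes _ _).mpr hspec
      have h1 : (1 - ε) ∈ (PrimeSpectrum.comap (algebraMap A B) ⟨m, inferInstance⟩).asIdeal := by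
        show algebraMap A B (1 - ε) ∈ m
        rw [map_sub, map_one]; exact hmem
      have h2 : (1 - ε) ∈ z.asIdeal := hle h1
      have h3 : ε ∈ z.asIdeal := hz hεI
      exact z.2.ne_top ((Ideal.eq_top_iff_one _).mpr (by
        have := add_mem h2 h3
        rwa [sub_add_cancel] at this))
    have h0 : (1 - algebraMap A B ε) * algebraMap A B ε = 0 := by
      rw [sub_mul, one_mul, ← map_mul, hεε, sub_self]
    exact (hu.mul_right_eq_zero).mp h0
  -- the retraction on E₁
  let ρB : (E₁ × Localization.Away g) →ₐ[A] B := (Algebra.ofId A B).comp ρ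
  have hρ01 : ρB ((0 : E₁), (1 : Localization.Away g)) = 0 := by
    show algebraMap A B (ρ _) = 0
    rw [← hε, hεB]
  have hρ10 : ρB ((1 : E₁), (0 : Localization.Away g)) = 1 := by
    have h1 : ((1 : E₁), (0 : Localization.Away g)) =
        1 - ((0 : E₁), (1 : Localization.Away g)) := by
      ext <;> simp
    rw [h1, map_sub, map_one, hρ01, sub_zero]
  let r₁ : E₁ →ₐ[A] B :=
    { toFun := fun x => ρB (x, 0)
      map_one' := hρ10
      map_mul' := fun x y => by
        rw [← map_mul]; congr 1; ext <;> simp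
      map_zero' := by
        show ρB ((0 : E₁), (0 : Localization.Away g)) = 0
        exact map_zero ρB
      map_add' := fun x y => by
        rw [← map_add]; congr 1; ext <;> simp
      commutes' := fun a => by
        show ρB (algebraMap A E₁ a, 0) = algebraMap A B a
        have h1 : (algebraMap A E₁ a, (0 : Localization.Away g)) =
            a • ((1 : E₁), (0 : Localization.Away g)) := by
          ext
          · show algebraMap A E₁ a = a • (1 : E₁)
            rw [Algebra.smul_def, mul_one]
          · simp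
        rw [h1, map_smul, hρ10, Algebra.smul_def, mul_one] }
  have hr₁β : r₁.comp (IsScalarTower.toAlgHom A B₁ E₁) = IsScalarTower.toAlgHom A B₁ B := huniq _
  let r₁' : E₁ →ₐ[B₁] B :=
    { r₁ with commutes' := fun b => congr($hr₁β b) }
  let r : B ⊗[B₁] E₁ →ₐ[B] B :=
    Algebra.TensorProduct.lift (AlgHom.id B B) r₁' (fun _ _ => Commute.all _ _)
  exact ⟨r.comp (e.symm : C →ₐ[B] B ⊗[B₁] E₁)⟩

/-- Let A be a ring all of whose faithfully flat etale algebras have retractions, I an ideal with zero
set Z, and B a localization of A at a multiplicative subset such that the image of Spec B → Spec A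
is precisely the set of points of Spec A specializing to some point of Z. Then every faithfully flat
etale B-algebra has a retraction. -/
theorem result (A B : Type u) [CommRing A] [CommRing B]
    [Algebra A B] (S : Submonoid A) [IsLocalization S B] (I : Ideal A)
    (hB : Set.range (PrimeSpectrum.comap (algebraMap A B)) =
      {x | ∃ z : PrimeSpectrum A, z ∈ PrimeSpectrum.zeroLocus (R := A) I ∧ x ⤳ z})
    (hA : ProEtW.HasEtaleRetractions A) : ProEtW.HasEtaleRetractions B := by
  intro C _ _ hff hEt
  haveI := hEt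
  obtain ⟨f, hf, _, _, E₁, _, _, _, ⟨e⟩⟩ := exists_descent_etale_away (A := A) (B := B) S C
  refine core A B I hB hA (Localization.Away f) ?_ E₁ C hff e
  intro β'
  exact Subsingleton.elim (h := IsLocalization.algHom_subsingleton (Submonoid.powers f)) _ _

end Groth.Agent.S0708
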