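import Groth.Statements.S0738
-- import your own Groth.Agent.* helpers here

set_option autoImplicit false
open Topology
universe u
open ProEtW

namespace Groth.Agent.S0738

open Topology TopologicalSpace

/-- A closed subspace of a spectral space is quasi-separated. -/
theorem quasiSeparatedSpace_of_isClosed {X : Type u} [TopologicalSpace X] [SpectralSpace X]
    (Y : Set X) (hY : IsClosed Y) : QuasiSeparatedSpace ↥Y := by
  have hemb : IsClosedEmbedding (Subtype.val : Y → X) := hY.isClosedEmbedding_subtypeVal
  have hbasis : IsTopologicalBasis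
      (Set.range (fun U : {U : Set X // IsOpen U ∧ IsCompact U} =>
        (Subtype.val : Y → X) ⁻¹' U.1)) := by
    have h := (PrespectralSpace.isTopologicalBasis (X := X)).isInducing hemb.isInducing
    convert h using 1
    ext s
    constructor
    · rintro ⟨U, rfl⟩
      exact ⟨U.1, U.2, rfl⟩
    · rintro ⟨U, hU, rfl⟩
      exact ⟨⟨U, hU⟩, rfl⟩
  refine QuasiSeparatedSpace.of_isTopologicalBasis hbasis ?_
  rintro ⟨U, hU, hUc⟩ ⟨V, hV, hVc⟩
  rw [← Set.preimage_inter]
  exact hemb.isCompact_preimage (QuasiSeparatedSpace.inter_isCompact U V hU hUc hV hVc)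

/-- A closed subspace of a spectral space is spectral. -/
theorem spectralSpace_of_isClosed {X : Type u} [TopologicalSpace X] [SpectralSpace X]
    (Y : Set X) (hY : IsClosed Y) : SpectralSpace ↥Y := by
  have hemb : IsClosedEmbedding (Subtype.val : Y → X) := hY.isClosedEmbedding_subtypeVal
  have h1 : CompactSpace ↥Y := isCompact_iff_compactSpace.mp hY.isCompact
  have h2 : QuasiSober ↥Y := hemb.quasiSober
  have h3 : QuasiSeparatedSpace ↥Y := quasiSeparatedSpace_of_isClosed Y hY
  have h4 : PrespectralSpace ↥Y := PrespectralSpace.of_isClosedEmbedding _ hemb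
  exact { }

/-- A point of a closed subspace is closed there iff it is closed in the ambient space. -/
theorem isClosed_singleton_subtype_iff {X : Type u} [TopologicalSpace X]
    (Y : Set X) (hY : IsClosed Y) (y : Y) :
    IsClosed ({y} : Set Y) ↔ IsClosed ({(y : X)} : Set X) := by
  have hemb : IsClosedEmbedding (Subtype.val : Y → X) := hY.isClosedEmbedding_subtypeVal
  constructor
  · intro h
    have := hemb.isClosedMap _ h
    rwa [Set.image_singleton] at this
  · intro h
    have := h.preimage (continuous_subtype_val (p := fun x => x ∈ Y))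
    convert this using 1
    ext z
    simp [Subtype.ext_iff]

/-- A closed subset of a w-local spectral space is w-local (with the subspace topology). -/
theorem result (X : Type u) [TopologicalSpace X] (hX : ProEtW.IsWLocal X)
    (Y : Set X) (hY : IsClosed Y) : ProEtW.IsWLocal ↥Y := by
  obtain ⟨hsp, hcl, hex⟩ := hX
  refine ⟨spectralSpace_of_isClosed Y hY, ?_, ?_⟩
  · have : {y : Y | IsClosed ({y} : Set Y)} =
        (Subtype.val : Y → X) ⁻¹' {x : X | IsClosed ({x} : Set X)} := by
      ext y
      exact isClosed_singleton_subtype_iff Y hY y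
    rw [this]
    exact hcl.preimage continuous_subtype_val
  · intro x
    obtain ⟨z, ⟨hzc, hxz⟩, huniq⟩ := hex (x : X)
    have hzY : z ∈ Y := hxz.mem_closed hY x.2
    refine ⟨⟨z, hzY⟩, ⟨?_, ?_⟩, ?_⟩
    · exact (isClosed_singleton_subtype_iff Y hY ⟨z, hzY⟩).2 hzc
    · exact (subtype_specializes_iff x ⟨z, hzY⟩).2 hxz
    · rintro w ⟨hwc, hxw⟩
      apply Subtype.ext
      exact huniq (w : X) ⟨(isClosed_singleton_subtype_iff Y hY w).1 hwc,
        (subtype_specializes_iff x w).1 hxw⟩

end Groth.Agent.S0738
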