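import Groth.Statements.S0739
import Mathlib
import Groth.Agent.Lib.Helper9ProEt
import Groth.Agent.Lib.Helper23WESect
-- import your own Groth.Agent.* helpers here

set_option autoImplicit false
set_option backward.isDefEq.respectTransparency.types false
open CategoryTheory CategoryTheory.Limits AlgebraicGeometry Opposite
universe u
open ProEtS

namespace Groth.Agent.S0739


open Groth.Agent.Lib.Helper9.ProEt Groth.Agent.Lib.Helper23WESect

/-- Let U be an object of X_proet, R a covering sieve on U, and xi : Spec k -> U a geometric point (k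
separably closed). Then there is a morphism V -> U in R and a geometric point of V with the same
field mapping to xi. -/
theorem result {X : Scheme.{u}} (U : X.ProEt) (R : Sieve U)
    (hR : R ∈ Scheme.ProEt.topology X U) {k : Type u} [Field k] [IsSepClosed k]
    (ξ : Spec (CommRingCat.of k) ⟶ U.left) :
    ∃ (V : X.ProEt) (g : V ⟶ U) (ξ' : Spec (CommRingCat.of k) ⟶ V.left), R g ∧ ξ' ≫ g.left = ξ := by
  rw [mem_topology_iff] at hR
  obtain ⟨R', hR', hle⟩ := hR
  rw [mem_precoverage_iff] at hR'
  obtain ⟨pt⟩ : Nonempty ↥(Spec (CommRingCat.of k)) := inferInstance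
  obtain ⟨Y, e, he, y, hy⟩ := Scheme.JointlySurjective.exists_eq (K := Scheme.precoverage @WeaklyEtale)
    _ hR'.2 (ξ pt)
  obtain ⟨hu⟩ := he
  rename_i Z g
  have hy' : g.left y = ξ pt := hy
  haveI : WeaklyEtale g.left := inferInstance
  obtain ⟨z, hz1, hz2⟩ := Scheme.Pullback.exists_preimage_pullback (f := ξ) (g := g.left) pt y hy'.symm
  haveI : Nonempty ↥(pullback ξ g.left) := ⟨z⟩
  obtain ⟨s, hs⟩ := exists_section (pullback.fst ξ g.left)
  refine ⟨Z, g, s ≫ pullback.snd ξ g.left, hle _ _ hu, ?_⟩
  rw [Category.assoc, ← pullback.condition, ← Category.assoc, hs, Category.id_comp]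

end Groth.Agent.S0739
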