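import Groth.Statements.S0742
import Mathlib.CategoryTheory.Adjunction.Triple

set_option autoImplicit false
open CategoryTheory CategoryTheory.Limits AlgebraicGeometry Opposite
universe u
open ProEtS

namespace Groth.Agent.S0742

variable {U X : Scheme.{u}}

set_option backward.isDefEq.respectTransparency.types false in
/-- Composition with `j` is left adjoint to base change along `j` on small pro-etale sites. -/
noncomputable def siteAdj (j : U ⟶ X) [hj : WeaklyEtale j] : ProEtS.compP j ⊣ ProEtS.bcP j :=
  MorphismProperty.Over.mapPullbackAdj (P := @WeaklyEtale) (Q := ⊤) j hj trivial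

set_option backward.isDefEq.respectTransparency.types false in
instance full_compP (j : U ⟶ X) [hj : WeaklyEtale j] [Mono j] : (ProEtS.compP j).Full where
  map_surjective {V W} g := by
    have e : ((g.left : V.left ⟶ W.left) ≫ W.hom) ≫ j = V.hom ≫ j := by
      rw [Category.assoc]; exact MorphismProperty.Over.w g
    exact ⟨MorphismProperty.Over.homMk g.left ((cancel_mono j).1 e), MorphismProperty.Over.Hom.ext rfl⟩

set_option backward.isDefEq.respectTransparency.types false in
instance faithful_compP (j : U ⟶ X) [hj : WeaklyEtale j] : (ProEtS.compP j).Faithful where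
  map_injective {_ _} _ _ h :=
    MorphismProperty.Over.Hom.ext (congrArg (fun k => k.left) h :)

instance isIso_unit_siteAdj (j : U ⟶ X) [hj : WeaklyEtale j] [Mono j] : IsIso (siteAdj j).unit :=
  inferInstance

/-- Restriction along `compP j` is left adjoint to direct image along `j`. -/
noncomputable def sheafAdj (j : U ⟶ X) [WeaklyEtale j] [ProEtS.JPCont j] [ProEtS.PCont j] :
    ProEtS.restrP j ⊣ ProEtS.pushP j :=
  ((siteAdj j).op.whiskerLeft AddCommGrpCat.{u + 1}).restrictFullyFaithful
    (fullyFaithfulSheafToPresheaf _ _) (fullyFaithfulSheafToPresheaf _ _) (Iso.refl _) (Iso.refl _)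

theorem isIso_counit_sheafAdj (j : U ⟶ X) [WeaklyEtale j] [Mono j] [ProEtS.JPCont j]
    [ProEtS.PCont j] (G : ProEtS.AbP U) : IsIso ((sheafAdj j).counit.app G) := by
  have h : IsIso ((sheafToPresheaf _ _).map ((sheafAdj j).counit.app G)) := by
    rw [sheafAdj, Adjunction.map_restrictFullyFaithful_counit_app]
    have h1 : IsIso ((siteAdj j).op.counit) := by
      rw [Adjunction.op_counit]
      infer_instance
    have h2 : IsIso (((siteAdj j).op.whiskerLeft AddCommGrpCat.{u + 1}).counit.app
        ((sheafToPresheaf _ _).obj G)) := by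
      dsimp only [Adjunction.whiskerLeft]
      infer_instance
    infer_instance
  exact isIso_of_reflects_iso _ (sheafToPresheaf _ _)

/-- For an open immersion j : U -> X, the unit F -> j^{-1} j_! F and the counit j^{-1} j_* G -> G are
isomorphisms on abelian pro-etale sheaves (so j_! and j_* are fully faithful; continuity binders
assumed). -/
theorem result {U X : Scheme.{u}} (j : U ⟶ X) [IsOpenImmersion j]
    [ProEtS.JPCont j] [ProEtS.PCont j] (F G : ProEtS.AbP U) :
    IsIso ((ProEtS.extZeroPAdj j).unit.app F) ∧ IsIso ((ProEtS.pullPushAdjP j).counit.app G) := by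
  have hc : IsIso (sheafAdj j).counit := by
    have : ∀ G, IsIso ((sheafAdj j).counit.app G) := isIso_counit_sheafAdj j
    exact NatIso.isIso_of_isIso_app _
  let t : Adjunction.Triple (ProEtS.extZeroP j) (ProEtS.restrP j) (ProEtS.pushP j) :=
    ⟨ProEtS.extZeroPAdj j, sheafAdj j⟩
  have hu : IsIso (ProEtS.extZeroPAdj j).unit := t.isIso_unit_iff_isIso_counit.2 hc
  refine ⟨inferInstance, ?_⟩
  have ff := (sheafAdj j).fullyFaithfulROfIsIsoCounit
  have := ff.full
  have := ff.faithful
  infer_instance

end Groth.Agent.S0742
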