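import Groth.Statements.S0743
-- import your own Groth.Agent.* helpers here

set_option autoImplicit false
open CategoryTheory CategoryTheory.Limits AlgebraicGeometry Opposite
universe u
open ProEtS

namespace Groth.Agent.S0743

set_option backward.isDefEq.respectTransparency.types false in
/-- The two composite right adjoints are both restriction along `V ↦ (V → U → X)`. -/
noncomputable def rightIso {U X : Scheme.{u}} (j : U ⟶ X) [Etale j] [EtShriek.JCont j]
    [ProEtS.JPCont j] [ProEtS.EpsCont U] [ProEtS.EpsCont X] :
    ProEtS.restrP j ⋙ ProEtS.epsPush U ≅ ProEtS.epsPush X ⋙ EtShriek.restrAlong j :=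
  NatIso.ofComponents (fun F => (sheafToPresheaf _ _).preimageIso (Iso.refl _))
    (fun {F G} f => by
      apply (sheafToPresheaf _ _).map_injective
      simp only [Functor.map_comp, Functor.preimageIso_hom, Functor.map_preimage, Iso.refl_hom]
      rfl)

/-- For an etale morphism j : U -> X and an abelian sheaf G on U_et, eps^{-1} (j_! G) and j_! (eps^{-1}
G) are isomorphic as abelian sheaves on X_proet (existence of an isomorphism; continuity binders
assumed). -/
theorem result {U X : Scheme.{u}} (j : U ⟶ X) [Etale j] [EtShriek.JCont j]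
    [ProEtS.JPCont j] [ProEtS.EpsCont U] [ProEtS.EpsCont X] (G : EtCoh.Ab U) :
    Nonempty ((ProEtS.epsPull X).obj ((EtShriek.extZero j).obj G) ≅
      (ProEtS.extZeroP j).obj ((ProEtS.epsPull U).obj G)) := by
  let adj1 := (EtShriek.extZeroAdj j).comp (ProEtS.epsAdj X)
  let adj2 := ((ProEtS.epsAdj U).comp (ProEtS.extZeroPAdj j)).ofNatIsoRight (rightIso j)
  exact ⟨(Adjunction.leftAdjointUniq adj1 adj2).app G⟩

end Groth.Agent.S0743
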