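import Groth.Statements.S0754
import Groth.Agent.Lib.Helper3IndEtHz
import Groth.Agent.S0736
import Mathlib

set_option autoImplicit false
open CategoryTheory CategoryTheory.Limits AlgebraicGeometry Opposite
universe u
open ProEtS

namespace Groth.Agent.S0754

open Groth.Agent.Lib.Helper3.IndEt
open scoped TensorProduct

/-- `Spec` of a weakly étale algebra map is a weakly étale morphism. -/
theorem weaklyEtale_SpecMap (R S : Type u) [CommRing R] [CommRing S] [Algebra R S]
    [Algebra.WeaklyEtale R S] :
    WeaklyEtale (Spec.map (CommRingCat.ofHom (algebraMap R S))) := by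
  refine ⟨?_, ?_⟩
  · rw [Flat.SpecMap_iff]
    show (algebraMap R S).Flat
    rw [RingHom.flat_algebraMap_iff]
    infer_instance
  · rw [diagonal_SpecMap R S]
    haveI : Flat (Spec.map (CommRingCat.ofHom
        (Algebra.TensorProduct.lmul' R : S ⊗[R] S →ₐ[R] S).toRingHom)) := by
      rw [Flat.SpecMap_iff]
      exact Algebra.WeaklyEtale.flat_lmul' R S
    infer_instance

/-- The canonical morphism `Spec O_{X,x} ⟶ X` is flat. -/
theorem flat_fromSpecStalk (X : Scheme.{u}) (x : X) : Flat (X.fromSpecStalk x) := by
  obtain ⟨U, hU, hxU, -⟩ := exists_isAffineOpen_mem_and_subset (X := X) (x := x) (U := ⊤) trivial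
  rw [← hU.fromSpecStalk_eq_fromSpecStalk hxU]
  dsimp [IsAffineOpen.fromSpecStalk]
  haveI : Flat (Spec.map (X.presheaf.germ U x hxU)) := by
    rw [Flat.SpecMap_iff]
    letI : Algebra Γ(X, U) (X.presheaf.stalk x) := (X.presheaf.germ U x hxU).hom.toAlgebra
    haveI := hU.isLocalization_stalk ⟨x, hxU⟩
    show (algebraMap Γ(X, U) (X.presheaf.stalk x)).Flat
    rw [RingHom.flat_algebraMap_iff]
    exact IsLocalization.flat (X.presheaf.stalk x) (hU.primeIdealOf ⟨x, hxU⟩).asIdeal.primeCompl
  infer_instance

/-- For a point x of a scheme X and a strict henselization R of the local ring of X at x, the canonical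
morphism Spec R -> X is weakly etale, so that Spec R is an object of the small pro-etale site of X. -/
theorem result (X : Scheme.{u}) (x : ↥X) (R : Type u) [CommRing R]
    [IsLocalRing R] [Algebra (X.presheaf.stalk x) R] [IsLocalHom (algebraMap (X.presheaf.stalk x) R)]
    [Hensel.IsStrictHenselization (X.presheaf.stalk x) R] :
    WeaklyEtale (Hens2.specOf X x R) := by
  haveI hind : EtPBC.IsIndEtale (X.presheaf.stalk x) R :=
    isIndEtale_of_isStrictHenselization (X.presheaf.stalk x) R
  haveI : Algebra.WeaklyEtale (X.presheaf.stalk x) R :=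
    Groth.Agent.S0736.result (X.presheaf.stalk x) R hind
  haveI h1 : WeaklyEtale (Spec.map (CommRingCat.ofHom (algebraMap (X.presheaf.stalk x) R))) :=
    weaklyEtale_SpecMap (X.presheaf.stalk x) R
  haveI h2 : Flat (X.fromSpecStalk x) := flat_fromSpecStalk X x
  haveI h3 : WeaklyEtale (X.fromSpecStalk x) := ⟨h2, inferInstance⟩
  show WeaklyEtale (Spec.map (CommRingCat.ofHom (algebraMap (X.presheaf.stalk x) R)) ≫
    X.fromSpecStalk x)
  infer_instance

end Groth.Agent.S0754
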