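import Groth.Statements.S0781
-- import your own Groth.Agent.* helpers here

set_option autoImplicit false
open CategoryTheory CategoryTheory.Limits AlgebraicGeometry Opposite
universe u
open Desc

namespace Groth.Agent.S0781

set_option backward.isDefEq.respectTransparency false in
/-- The equalizer of two morphisms into an unramified `S`-scheme of finite type is an open
subscheme. -/
theorem isOpenImmersion_equalizer_ι_left {S : Scheme.{u}} {X Y : Over S}
    [FormallyUnramified Y.hom] [LocallyOfFiniteType Y.hom]
    (f g : X ⟶ Y) : IsOpenImmersion (equalizer.ι f g).left := by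
  refine MorphismProperty.of_isPullback
    ((Limits.isPullback_equalizer_prod f g).map (Over.forget _)).flip ?_
  rw [← MorphismProperty.cancel_right_of_respectsIso @IsOpenImmersion _
    (Over.prodLeftIsoPullback Y Y).hom]
  convert! (inferInstance : IsOpenImmersion (pullback.diagonal Y.hom))
  ext1 <;> simp [← Over.comp_left]

set_option backward.isDefEq.respectTransparency false in
/-- Two `S`-morphisms into an unramified `S`-scheme of finite type agree as soon as they agree
after composing with a surjective morphism. -/
theorem ext_of_surjective_of_unramified {S : Scheme.{u}} {X' Y' : Over S}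
    [FormallyUnramified Y'.hom] [LocallyOfFiniteType Y'.hom] (f' g' : X' ⟶ Y')
    {W : Scheme.{u}} (ι : W ⟶ X'.left) [Surjective ι] (h : ι ≫ f'.left = ι ≫ g'.left) :
    f' = g' := by
  let U' : Over S := Over.mk (ι ≫ X'.hom)
  let ι' : U' ⟶ X' := Over.homMk ι
  have hι' : ι' ≫ f' = ι' ≫ g' := by ext1; exact h
  have : IsOpenImmersion (equalizer.ι f' g').left := isOpenImmersion_equalizer_ι_left f' g'
  have : Surjective (equalizer.ι f' g').left := by
    apply +allowSynthFailures Surjective.of_comp (equalizer.lift ι' hι').left
    rwa [← Over.comp_left, equalizer.lift_ι]
  have : Epi (equalizer.ι f' g').left.base :=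
    (TopCat.epi_iff_surjective _).2 (equalizer.ι f' g').left.surjective
  have := IsOpenImmersion.isIso (equalizer.ι f' g').left
  ext1
  rw [← cancel_epi (equalizer.ι f' g').left]
  exact congr($(equalizer.condition f' g').left)

set_option backward.isDefEq.respectTransparency false in
/-- If p : X → S is a surjective morphism of schemes, then for schemes U₁, U₂ étale over S, two
S-morphisms U₁ → U₂ whose base changes to X agree, as morphisms of canonical descent data relative
to p, are equal; that is, the canonical-descent-datum functor is faithful on schemes étale over S.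
(Descent data are taken in functor-of-points form, equivalent by the Yoneda lemma to an isomorphism
over X ×_S X satisfying the cocycle condition.) -/
theorem result {X S : Scheme.{u}} (p : X ⟶ S) [Surjective p] (U₁ U₂ : Over S)
    [Etale U₁.hom] [Etale U₂.hom] : Function.Injective ((Desc.toDD p).map : (U₁ ⟶ U₂) → _) := by
  intro f g hfg
  have h1 : pullback.map p U₁.hom p U₂.hom (𝟙 X) f.left (𝟙 S) (by simp) (by simp) =
      pullback.map p U₁.hom p U₂.hom (𝟙 X) g.left (𝟙 S) (by simp) (by simp) :=
    congrArg (fun φ => φ.hom.left) hfg
  have h2 : pullback.snd p U₁.hom ≫ f.left = pullback.snd p U₁.hom ≫ g.left := by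
    have := congrArg (· ≫ pullback.snd p U₂.hom) h1
    simp only [pullback.map] at this
    rw [pullback.lift_snd, pullback.lift_snd] at this
    exact this
  have : Surjective (pullback.snd p U₁.hom) :=
    MorphismProperty.pullback_snd (P := @Surjective) _ _ inferInstance
  exact ext_of_surjective_of_unramified f g (pullback.snd p U₁.hom) h2

end Groth.Agent.S0781
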