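import Groth.Statements.S0782
import Groth.Agent.Lib.Helper20EtDesc

set_option autoImplicit false
open CategoryTheory CategoryTheory.Limits AlgebraicGeometry Opposite
universe u
open Desc

namespace Groth.Agent.S0782

/-- Let p : X ⟶ S be a morphism such that for every scheme U étale over S the projection X ×_S U ⟶ U is
a quotient map of topological spaces (submersive; U = S is allowed). Then for U₁, U₂ étale over S,
every morphism between their canonical descent data relative to p comes from an S-morphism U₁ ⟶ U₂: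
the canonical-descent-datum functor is full on schemes étale over S (injectivity of this assignment
is a companion statement). (Descent data are taken in functor-of-points form, equivalent by the
Yoneda lemma to the usual form of an isomorphism over X ×_S X satisfying the cocycle condition.) -/
theorem result {X S : Scheme.{u}} (p : X ⟶ S)
    (hp : ∀ U : Over S, Etale U.hom → Topology.IsQuotientMap (pullback.snd p U.hom).base) (U₁ U₂ : Over S)
    [Etale U₁.hom] [Etale U₂.hom] : Function.Surjective ((Desc.toDD p).map : (U₁ ⟶ U₂) → _) := by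
  intro F
  let h : pullback p U₁.hom ⟶ U₁.left := pullback.snd p U₁.hom
  have hq₁ : Topology.IsQuotientMap h := hp U₁ inferInstance
  have hsurj : Surjective h := ⟨hq₁.surjective⟩
  let π₂ : pullback U₂.hom U₁.hom ⟶ U₁.left := pullback.snd U₂.hom U₁.hom
  have hπ₂ : Etale π₂ := inferInstance
  have hk : Topology.IsQuotientMap (pullback.fst π₂ h) := by
    have h1 : Topology.IsQuotientMap (pullback.snd p (π₂ ≫ U₁.hom)) :=
      hp (Over.mk (π₂ ≫ U₁.hom)) (by dsimp; infer_instance)
    have e : pullback.fst π₂ h = (pullbackSymmetry π₂ h).hom ≫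
        (pullbackLeftPullbackSndIso p U₁.hom π₂).hom ≫ pullback.snd p (π₂ ≫ U₁.hom) := by
      rw [pullbackLeftPullbackSndIso_hom_snd, pullbackSymmetry_hom_comp_snd]
    rw [e]
    have h2 : IsHomeomorph ((pullbackSymmetry π₂ h).hom ≫
        (pullbackLeftPullbackSndIso p U₁.hom π₂).hom) :=
      ((pullbackSymmetry π₂ h) ≪≫ (pullbackLeftPullbackSndIso p U₁.hom π₂)).hom.homeomorph.isHomeomorph
    rw [← Category.assoc]
    exact h1.comp h2.isQuotientMap
  obtain ⟨Fl, hFl⟩ : ∃ Fl : pullback p U₁.hom ⟶ pullback p U₂.hom, Fl = F.hom.left := ⟨_, rfl⟩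
  let ψ : pullback p U₁.hom ⟶ U₂.left := Fl ≫ pullback.snd p U₂.hom
  have hF : Fl ≫ pullback.fst p U₂.hom = pullback.fst p U₁.hom := by
    rw [hFl]; exact Over.w F.hom
  have hc₁ : pullback.fst p U₁.hom ≫ p = h ≫ U₁.hom := pullback.condition
  have hc₂ : pullback.fst p U₂.hom ≫ p = pullback.snd p U₂.hom ≫ U₂.hom := pullback.condition
  have hψ : ψ ≫ U₂.hom = h ≫ U₁.hom := by
    simp only [ψ]
    rw [Category.assoc, ← hc₂, ← Category.assoc, hF, hc₁]
  have hch : pullback.fst h h ≫ h = pullback.snd h h ≫ h := pullback.condition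
  have hcoc : pullback.fst h h ≫ ψ = pullback.snd h h ≫ ψ := by
    let x₀ : pullback h h ⟶ X := pullback.fst h h ≫ pullback.fst p U₁.hom
    let x₁ : pullback h h ⟶ X := pullback.snd h h ≫ pullback.fst p U₁.hom
    have hx : x₀ ≫ p = x₁ ≫ p := by
      simp only [x₀, x₁]
      rw [Category.assoc, Category.assoc, hc₁, ← Category.assoc, ← Category.assoc, hch]
    let v : Desc.Lifts (Over.mk (pullback.fst p U₁.hom)) x₀ := ⟨pullback.fst h h, rfl⟩
    let w : Desc.Lifts (Over.mk (pullback.fst p U₂.hom)) x₀ := ⟨pullback.fst h h ≫ Fl, by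
      change (pullback.fst h h ≫ Fl) ≫ pullback.fst p U₂.hom = x₀
      rw [Category.assoc, hF]⟩
    have key : (Desc.canMap p U₂ x₀ x₁ hx w).1 = (Desc.canMap p U₁ x₀ x₁ hx v).1 ≫ Fl := by
      rw [hFl]
      exact F.comm x₀ x₁ hx v w (by subst hFl; rfl)
    have key2 := congr($key ≫ pullback.snd p U₂.hom)
    have e1 : (Desc.canMap p U₂ x₀ x₁ hx w).1 ≫ pullback.snd p U₂.hom =
        pullback.fst h h ≫ ψ := by
      rw [Desc.canMap_val, pullback.lift_snd, Category.assoc]
    have e2 : (Desc.canMap p U₁ x₀ x₁ hx v).1 = pullback.snd h h := by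
      rw [Desc.canMap_val]
      apply pullback.hom_ext
      · rw [pullback.lift_fst]
      · rw [pullback.lift_snd]
        exact hch
    rw [e1, e2, Category.assoc] at key2
    exact key2
  obtain ⟨φ, ⟨hφ₁, hφ₂⟩, -⟩ :=
    Groth.Agent.Lib.Helper20.EtDesc.exists_unique_lift_of_isQuotientMap h hsurj U₂.hom U₁.hom hk ψ
      hψ hcoc
  refine ⟨Over.homMk φ hφ₁, ?_⟩
  apply Desc.SchDD.hom_ext
  apply Over.OverMorphism.ext
  have hmap : ∀ (e1 : p ≫ 𝟙 S = 𝟙 X ≫ p) (e2 : U₁.hom ≫ 𝟙 S = φ ≫ U₂.hom),
      pullback.map p U₁.hom p U₂.hom (𝟙 X) φ (𝟙 S) e1 e2 = Fl := by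
    intro e1 e2
    apply pullback.hom_ext
    · rw [pullback.lift_fst, Category.comp_id, hF]
    · rw [pullback.lift_snd]
      exact hφ₂
  exact (hmap (by simp) (by simp [hφ₁])).trans hFl

end Groth.Agent.S0782
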