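import Groth.Statements.S0784
-- import your own Groth.Agent.* helpers here
import Groth.Agent.Lib.Helper26FinPartSch

set_option autoImplicit false
open CategoryTheory CategoryTheory.Limits AlgebraicGeometry Opposite
universe u
open Desc

namespace Groth.Agent.S0784

theorem locallyQuasiFinite_of_etale {X S : Scheme.{u}} (f : X ⟶ S) [Etale f] :
    LocallyQuasiFinite f := by
  constructor
  intro U hU V hV e
  have h1 := f.etale_appLE hU hV e
  algebraize [(f.appLE U V e).hom]
  have : Algebra.Etale Γ(S, U) Γ(X, V) := h1
  exact RingHom.quasiFinite_algebraMap.mpr inferInstance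

/-- Let (A, I) be a henselian pair and g : U ⟶ Spec A quasi-compact, separated and etale such that the
base change of U to Spec(A/I) is finite over Spec(A/I). Then U is the disjoint union of an open and
closed subscheme finite over Spec A and an open and closed subscheme with no points lying over V(I). -/
theorem result (A : Type u) [CommRing A] (I : Ideal A) [HenselianRing A I]
    {U : Scheme.{u}} (g : U ⟶ Spec (CommRingCat.of A)) [QuasiCompact g] [IsSeparated g] [Etale g]
    (hfin : IsFinite (pullback.snd g (Spec.map (CommRingCat.ofHom (Ideal.Quotient.mk I))))) :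
    ∃ W : U.Opens, IsClosed (W : Set U) ∧ IsFinite (W.ι ≫ g) ∧
      ∀ u : U, u ∉ W → ¬ I ≤ (g.base u : PrimeSpectrum A).asIdeal := by
  haveI := locallyQuasiFinite_of_etale g
  let i := Spec.map (CommRingCat.ofHom (Ideal.Quotient.mk I))
  haveI : IsClosedImmersion i :=
    IsClosedImmersion.spec_of_surjective _ Ideal.Quotient.mk_surjective
  have hrange_i : Set.range i = PrimeSpectrum.zeroLocus (I : Set A) := by
    have : Set.range (PrimeSpectrum.comap (Ideal.Quotient.mk I)) =
        PrimeSpectrum.zeroLocus (I : Set A) := by
      rw [range_comap_of_surjective _ _ Ideal.Quotient.mk_surjective, Ideal.mk_ker]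
    exact this
  have hset : {x : U | I ≤ (g x : PrimeSpectrum A).asIdeal} = Set.range (pullback.fst g i) := by
    rw [Scheme.Pullback.range_fst, hrange_i]
    rfl
  have hT : IsClosed (g.toNormalization '' {x : U | I ≤ (g x : PrimeSpectrum A).asIdeal}) := by
    rw [hset, ← Set.range_comp]
    have h1 : (pullback.fst g i ≫ g.toNormalization) ≫ g.fromNormalization =
        pullback.snd g i ≫ i := by
      rw [Category.assoc, g.toNormalization_fromNormalization, pullback.condition]
    haveI : IsFinite (pullback.snd g i) := hfin
    haveI : UniversallyClosed ((pullback.fst g i ≫ g.toNormalization) ≫ g.fromNormalization) := by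
      rw [h1]; infer_instance
    haveI : UniversallyClosed (pullback.fst g i ≫ g.toNormalization) :=
      UniversallyClosed.of_comp_of_isSeparated _ g.fromNormalization
    exact (pullback.fst g i ≫ g.toNormalization).isClosedMap.isClosed_range
  obtain ⟨W, hWcl, hWfin, hW⟩ :=
    Groth.Agent.Lib.Helper26.FinPartSch.exists_clopen_finite I g hT
  exact ⟨W, hWcl, hWfin, fun u hu hI => hu (hW u hI)⟩

end Groth.Agent.S0784
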