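import Groth.Statements.S0801
import Groth.Agent.Lib.Helper8FHVb
import Groth.Agent.Lib.Helper8FHVc

set_option autoImplicit false
universe u
open Formal2

namespace Groth.Agent.S0801

open AlgebraicGeometry in
/-- Let A be a Noetherian ring that is complete for the f-adic topology, where f lies in an ideal 𝔞, let
M be a finite A-module, and assume the local cohomology modules H^1_𝔞(M) and H^2_𝔞(M) are each
annihilated by a power of f. Then, with U the complement of V(𝔞) in Spec A, the canonical map from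
the sections of M~ over U to the limit of the sections of (M/f^nM)~ over U is bijective (sections
are taken as degree-0 cohomology over U). -/
theorem result (A : Type u) [CommRing A]
    [IsNoetherianRing A] (𝔞 : Ideal A) (f : A) (hf : f ∈ 𝔞) [IsAdicComplete (Ideal.span {f}) A]
    (M : Type u) [AddCommGroup M] [Module A M] [Module.Finite A M]
    (h₁ : ∃ n : ℕ, ∀ x : LocCoh.H 𝔞 1 M, f ^ n • x = 0) (h₂ : ∃ n : ℕ, ∀ x : LocCoh.H 𝔞 2 M, f ^ n • x = 0) :
    Formal2.FormalCohBijective A (Ideal.span {f}) M 0 (LocCoh.puncturedOpen A 𝔞) := by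
  obtain ⟨n₁, h₁⟩ := h₁
  obtain ⟨n₂, h₂⟩ := h₂
  have hk1 : ∀ x : LocCoh.H 𝔞 1 M, f ^ (n₁ + n₂) • x = 0 := fun x => by
    rw [pow_add, mul_comm, mul_smul, h₁, smul_zero]
  have hk2 : ∀ x : LocCoh.H 𝔞 2 M, f ^ (n₁ + n₂) • x = 0 := fun x => by
    rw [pow_add, mul_smul, h₂, smul_zero]
  exact Groth.Agent.Lib.Helper8.FHV.bijective_zero_of_kills f M (LocCoh.puncturedOpen A 𝔞) (n₁ + n₂)
    (fun z => Groth.Agent.Lib.Helper8.FHV.exists_ε_of_kills_H1 𝔞 M (f ^ (n₁ + n₂)) hk1 z)
    (fun x => Groth.Agent.Lib.Helper8.FHV.HVmap_smul_eq_zero 𝔞 (f ^ (n₁ + n₂)) 0 M hk2 x)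

end Groth.Agent.S0801
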