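import Groth.Statements.S0802
import Groth.Agent.Lib.Helper8FHVi

set_option autoImplicit false
universe u
open Formal2

namespace Groth.Agent.S0802

open AlgebraicGeometry in
/-- Let A be a Noetherian ring, f an element of an ideal 𝔞, and M a finite A-module on which f acts as a
nonzerodivisor; suppose A is complete for the f-adic topology and H^1_𝔞(M/fM) is a finite A-module.
Then, with U the complement of V(𝔞), the canonical map from the colimit of the sections of M~ over
the opens V ⊆ U containing U ∩ V(f) to the limit of the sections of (M/f^nM)~ over U is bijective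
(in the elementwise formulation of the prelude, degree-0 cohomology standing for sections). -/
theorem result (A : Type u) [CommRing A] [IsNoetherianRing A]
    (𝔞 : Ideal A) (f : A) (hf : f ∈ 𝔞) [IsAdicComplete (Ideal.span {f}) A]
    (M : Type u) [AddCommGroup M] [Module A M] [Module.Finite A M] (hreg : IsSMulRegular M f)
    (hfin : Module.Finite A (LocCoh.H 𝔞 1 (M ⧸ (Ideal.span {f} • (⊤ : Submodule A M))))) :
    Formal2.FormalCohColimBijective A (Ideal.span {f}) M 0 (LocCoh.puncturedOpen A 𝔞) := by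
  refine ⟨fun V hV x hx => ?_, fun y hy => ?_⟩
  · have hs : ∀ n, Groth.Agent.Lib.Helper8.FHV.secMap V
        (Formal2.quotPowπ A (Ideal.span {f}) M n) (Groth.Agent.Lib.Helper8.FHV.σ V x) = 0 := by
      intro n
      rw [← Groth.Agent.Lib.Helper8.FHV.σ_HVmap, hx n, map_zero]
    obtain ⟨V', h, hres⟩ := Groth.Agent.Lib.Helper8.FHV.exists_res_eq_zero 𝔞 f M V hV
      (Groth.Agent.Lib.Helper8.FHV.σ V x) hs
    refine ⟨V', h, ?_⟩
    apply (Groth.Agent.Lib.Helper8.FHV.σ V').injective
    rw [Groth.Agent.Lib.Helper8.FHV.σ_res, hres, map_zero]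
  · have hmem : (fun n => Groth.Agent.Lib.Helper8.FHV.σ (LocCoh.puncturedOpen A 𝔞) (y n)) ∈
        Groth.Agent.Lib.Helper8.FHV.limD f M (LocCoh.puncturedOpen A 𝔞) := by
      intro n
      have h1 := congrArg (Groth.Agent.Lib.Helper8.FHV.σ (LocCoh.puncturedOpen A 𝔞)) (hy n)
      rw [Groth.Agent.Lib.Helper8.FHV.σ_HVmap] at h1
      exact h1
    obtain ⟨V, hV, x, hx⟩ := Groth.Agent.Lib.Helper8.FHV.exists_section_of_compat 𝔞 f M hreg hfin
      ⟨_, hmem⟩
    refine ⟨V, hV, (Groth.Agent.Lib.Helper8.FHV.σ V).symm x, fun n => ?_⟩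
    apply (Groth.Agent.Lib.Helper8.FHV.σ V).injective
    rw [Groth.Agent.Lib.Helper8.FHV.σ_res, Groth.Agent.Lib.Helper8.FHV.σ_HVmap,
      AddEquiv.apply_symm_apply]
    exact hx n

end Groth.Agent.S0802
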