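import Groth.Statements.S0803
import Groth.Agent.Lib.Helper8FHVb
import Groth.Agent.Lib.Helper8FHVc

set_option autoImplicit false
universe u
open Formal2

namespace Groth.Agent.S0803

open AlgebraicGeometry in
/-- Let A be a Noetherian ring that is complete for the f-adic topology, where f lies in an ideal 𝔞, let
M be a finite A-module and s ≥ 0, and assume H^i_𝔞(M) is annihilated by a power of f for every i ≤ s
+ 1. Then, with U the complement of V(𝔞), the canonical map H^i(U, M~) → lim_n H^i(U, (M/f^nM)~) is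
bijective for every i < s. -/
theorem result (A : Type u) [CommRing A]
    [IsNoetherianRing A] (𝔞 : Ideal A) (f : A) (hf : f ∈ 𝔞) [IsAdicComplete (Ideal.span {f}) A]
    (M : Type u) [AddCommGroup M] [Module A M] [Module.Finite A M] (s : ℕ)
    (h : ∀ i : ℕ, i ≤ s + 1 → ∃ n : ℕ, ∀ x : LocCoh.H 𝔞 i M, f ^ n • x = 0) (i : ℕ) (hi : i < s) :
    Formal2.FormalCohBijective A (Ideal.span {f}) M i (LocCoh.puncturedOpen A 𝔞) := by
  cases i with
  | zero =>
    obtain ⟨n₁, h₁⟩ := h 1 (by omega)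
    obtain ⟨n₂, h₂⟩ := h 2 (by omega)
    have hk1 : ∀ x : LocCoh.H 𝔞 1 M, f ^ (n₁ + n₂) • x = 0 := fun x => by
      rw [pow_add, mul_comm, mul_smul, h₁, smul_zero]
    have hk2 : ∀ x : LocCoh.H 𝔞 2 M, f ^ (n₁ + n₂) • x = 0 := fun x => by
      rw [pow_add, mul_smul, h₂, smul_zero]
    exact Groth.Agent.Lib.Helper8.FHV.bijective_zero_of_kills f M (LocCoh.puncturedOpen A 𝔞)
      (n₁ + n₂)
      (fun z => Groth.Agent.Lib.Helper8.FHV.exists_ε_of_kills_H1 𝔞 M (f ^ (n₁ + n₂)) hk1 z)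
      (fun x => Groth.Agent.Lib.Helper8.FHV.HVmap_smul_eq_zero 𝔞 (f ^ (n₁ + n₂)) 0 M hk2 x)
  | succ j =>
    obtain ⟨n₁, h₁⟩ := h (j + 2) (by omega)
    obtain ⟨n₂, h₂⟩ := h (j + 1 + 2) (by omega)
    have hk1 : ∀ x : LocCoh.H 𝔞 (j + 2) M, f ^ (n₁ + n₂) • x = 0 := fun x => by
      rw [pow_add, mul_comm, mul_smul, h₁, smul_zero]
    have hk2 : ∀ x : LocCoh.H 𝔞 (j + 1 + 2) M, f ^ (n₁ + n₂) • x = 0 := fun x => by
      rw [pow_add, mul_smul, h₂, smul_zero]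
    exact Groth.Agent.Lib.Helper8.FHV.bijective_of_kills f M (LocCoh.puncturedOpen A 𝔞) (j + 1)
      (n₁ + n₂)
      (fun x => Groth.Agent.Lib.Helper8.FHV.HVmap_smul_eq_zero 𝔞 (f ^ (n₁ + n₂)) j M hk1 x)
      (fun x => Groth.Agent.Lib.Helper8.FHV.HVmap_smul_eq_zero 𝔞 (f ^ (n₁ + n₂)) (j + 1) M hk2 x)

end Groth.Agent.S0803
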