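import Groth.Statements.S0813
import Groth.Agent.Lib.LeadPicFF3
import Groth.Agent.Lib.Helper19Jacobson
import Groth.Agent.Lib.Helper20ParaF8

set_option autoImplicit false
universe u
open Formal2

namespace Groth.Agent.S0813

open CategoryTheory AlgebraicGeometry in
/-- Let (A, 𝔪) be a Noetherian local ring of depth at least 2, A^ its 𝔪-adic completion, U the punctured
spectrum of A and U^ its preimage in Spec A^ (the punctured spectrum of A^). Then an invertible
O_U-module whose pullback to U^ is trivial is trivial. -/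
theorem result (A : Type u) [CommRing A] [IsNoetherianRing A]
    [IsLocalRing A] (hdepth : (2 : ℕ∞) ≤ LocCoh.depth A A) :
    Formal2.PicPullbackInjective
      (Spec.map (CommRingCat.ofHom (algebraMap A (AdicCompletion (IsLocalRing.maximalIdeal A) A))) ∣_
        FEt.puncturedSpec A) := by
  intro L hL ⟨τ⟩
  haveI : Module.FaithfullyFlat A (AdicCompletion (IsLocalRing.maximalIdeal A) A) :=
    Groth.Agent.Lib.Helper19.faithfullyFlat_adicCompletion_of_le_jacobson A _
      (IsLocalRing.maximalIdeal_le_jacobson ⊥)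
  have hff : (algebraMap A (AdicCompletion (IsLocalRing.maximalIdeal A) A)).FaithfullyFlat :=
    (RingHom.faithfullyFlat_algebraMap_iff).2 inferInstance
  have hfs := (flat_and_surjective_SpecMap_iff
    (f := CommRingCat.ofHom (algebraMap A (AdicCompletion (IsLocalRing.maximalIdeal A) A)))).2 hff
  haveI := hfs.1
  haveI := hfs.2
  have hpb := isPullback_morphismRestrict
    (Spec.map (CommRingCat.ofHom (algebraMap A (AdicCompletion (IsLocalRing.maximalIdeal A) A))))
    (FEt.puncturedSpec A)
  haveI : IsNoetherian (Spec (CommRingCat.of A)) := inferInstance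
  haveI : CompactSpace ↥(FEt.puncturedSpec A : Scheme.{u}) :=
    isCompact_iff_compactSpace.1 (TopologicalSpace.NoetherianSpace.isCompact
      ((FEt.puncturedSpec A : (Spec (CommRingCat.of A)).Opens) : Set (Spec (CommRingCat.of A))))
  haveI : QuasiSeparatedSpace ↥(FEt.puncturedSpec A : Scheme.{u}) :=
    quasiSeparatedSpace_of_quasiSeparated (FEt.puncturedSpec A).ι
  have hsl : Finite (MaximalSpectrum Γ((FEt.puncturedSpec A : Scheme.{u}), ⊤)) := by
    let e1 : Γ((FEt.puncturedSpec A : Scheme.{u}), ⊤) ≃+* Γ(Spec (CommRingCat.of A), FEt.puncturedSpec A) :=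
      (FEt.puncturedSpec A).topIso.commRingCatIsoToRingEquiv
    let e2 : Γ(Spec (CommRingCat.of A), ⊤) ≃+* Γ(Spec (CommRingCat.of A), FEt.puncturedSpec A) :=
      RingEquiv.ofBijective _
        (Groth.Agent.Lib.Helper20.ParaFLib.bijective_res_puncturedSpec A hdepth)
    let e3 : Γ(Spec (CommRingCat.of A), ⊤) ≃+* A :=
      (Scheme.ΓSpecIso (CommRingCat.of A)).commRingCatIsoToRingEquiv
    exact Groth.Agent.Lib.LeadPicFF.finite_maximalSpectrum_of_ringEquiv
      (e1.trans (e2.symm.trans e3)) inferInstance
  exact Groth.Agent.Lib.LeadPicFF.nonempty_iso_of_pullback_iso (FEt.puncturedSpec A).ι _ _ _ hpb hsl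
    L hL τ

end Groth.Agent.S0813
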