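import Groth.Statements.S0815
import Groth.Agent.Lib.Helper29ConnCd

set_option autoImplicit false
universe u
open Formal2

namespace Groth.Agent.S0815

open CategoryTheory AlgebraicGeometry in
/-- Let (A, 𝔪) be a complete Noetherian local ring, I a proper ideal, e a bound for the cohomological
dimension of I, and Z ⊆ V(I) a closed subset of Spec A. Assume that dim Z + e + 1 < dim A/𝔭 for
every minimal prime 𝔭 of A, and that dim Z + e < dim Z' for every closed subset Z' of Spec A whose
complement is not connected (the empty complement counts as not connected). Then V(I) ∖ Z is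
connected, in particular nonempty. -/
theorem result (A : Type u) [CommRing A] [IsNoetherianRing A] [IsLocalRing A]
    [IsAdicComplete (IsLocalRing.maximalIdeal A) A] (I : Ideal A) (hI : I ≠ ⊤) (e : ℕ) (he : LocCoh.CdLE A I e)
    (Z : Set (PrimeSpectrum A)) (hZ : IsClosed Z) (hZI : Z ⊆ PrimeSpectrum.zeroLocus (I : Set A))
    (hdim : ∀ p ∈ minimalPrimes A, topologicalKrullDim Z + ((e + 1 : ℕ) : WithBot ℕ∞) < ringKrullDim (A ⧸ p))
    (hc : ∀ Z' : Set (PrimeSpectrum A), IsClosed Z' → ¬ _root_.IsConnected Z'ᶜ →
      topologicalKrullDim Z + ((e : ℕ) : WithBot ℕ∞) < topologicalKrullDim Z') :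
    _root_.IsConnected (PrimeSpectrum.zeroLocus (I : Set A) \ Z) := by
  classical
  open Groth.Agent.Lib.Helper29.ConnCd Groth.Agent.Lib.Helper8.Conn Groth.Agent.S11670 in
  by_contra hnc
  haveI : Nontrivial (A ⧸ I) := Ideal.Quotient.nontrivial_iff.mpr hI
  have hsurj : Function.Surjective (Ideal.Quotient.mk I) := Ideal.Quotient.mk_surjective
  have hemb := PrimeSpectrum.isEmbedding_comap_of_surjective _ (Ideal.Quotient.mk I) hsurj
  have hcont : Continuous (PrimeSpectrum.comap (Ideal.Quotient.mk I)) := hemb.continuous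
  have hrange : Set.range (PrimeSpectrum.comap (Ideal.Quotient.mk I)) =
      PrimeSpectrum.zeroLocus (I : Set A) := by
    rw [_root_.range_comap_of_surjective _ _ hsurj, Ideal.mk_ker]
  set Zb : Set (PrimeSpectrum (A ⧸ I)) := PrimeSpectrum.comap (Ideal.Quotient.mk I) ⁻¹' Z with hZb
  have hZbc : IsClosed Zb := hZ.preimage hcont
  have himg : PrimeSpectrum.comap (Ideal.Quotient.mk I) '' Zbᶜ =
      PrimeSpectrum.zeroLocus (I : Set A) \ Z := by
    rw [hZb, ← Set.preimage_compl, Set.image_preimage_eq_inter_range, hrange, Set.inter_comm]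
    rfl
  have hZbn : ¬ _root_.IsConnected Zbᶜ := by
    intro h
    apply hnc
    rw [← himg]
    exact h.image _ hcont.continuousOn
  have h4 : LocCoh.connDim (PrimeSpectrum (A ⧸ I)) ≤ topologicalKrullDim Z := by
    refine (connDim_le_of hZbc hZbn).trans ?_
    have hind : Topology.IsInducing (Set.MapsTo.restrict
        (PrimeSpectrum.comap (Ideal.Quotient.mk I)) Zb Z (fun x hx => hx)) := by
      have h1 : Topology.IsInducing (fun x : Zb => PrimeSpectrum.comap (Ideal.Quotient.mk I) x.1) :=
        hemb.isInducing.comp Topology.IsInducing.subtypeVal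
      exact Topology.IsInducing.of_comp (Continuous.restrict _ hcont) continuous_subtype_val h1
    exact hind.topologicalKrullDim_le
  have h3 := conn_cd A I hI e he
  -- the hypotheses on `A`
  obtain ⟨Z', hZ'c, hZ'n, hZ'⟩ := exists_connDim_eq (PrimeSpectrum A)
  have h2 : topologicalKrullDim Z + ((e : ℕ) : WithBot ℕ∞) < LocCoh.connDim (PrimeSpectrum A) := by
    rw [hZ']; exact hc Z' hZ'c hZ'n
  have h1 : topologicalKrullDim Z + ((e + 1 : ℕ) : WithBot ℕ∞) < LocCoh.subdim (PrimeSpectrum A) := by
    have hfinC : (irreducibleComponents (PrimeSpectrum A)).Finite :=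
      TopologicalSpace.NoetherianSpace.finite_irreducibleComponents
    have hcne : (irreducibleComponents (PrimeSpectrum A)).Nonempty :=
      ⟨_, irreducibleComponent_mem_irreducibleComponents (IsLocalRing.closedPoint A)⟩
    obtain ⟨C, hC, hmin⟩ := Set.exists_min_image _
      (fun C : Set (PrimeSpectrum A) => topologicalKrullDim C) hfinC hcne
    have hsub : LocCoh.subdim (PrimeSpectrum A) = topologicalKrullDim C :=
      le_antisymm (iInf₂_le C hC) (le_iInf₂ hmin)
    rw [hsub]
    rw [← PrimeSpectrum.zeroLocus_minimalPrimes] at hC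
    obtain ⟨p, hp, rfl⟩ := hC
    change _ < topologicalKrullDim ↥(PrimeSpectrum.zeroLocus (p : Set A))
    rw [Groth.Agent.S11680.dim_zeroLocus]
    exact hdim p hp
  have h5 : min (LocCoh.connDim (PrimeSpectrum A) + 1) (LocCoh.subdim (PrimeSpectrum A)) ≤
      topologicalKrullDim Z + ((e : ℕ) : WithBot ℕ∞) + 1 := by
    refine h3.trans ?_
    gcongr
  have hcs : LocCoh.connDim (PrimeSpectrum A) ≤ LocCoh.subdim (PrimeSpectrum A) := connDim_le_subdim
  have hstop : LocCoh.subdim (PrimeSpectrum A) < ⊤ := by
    obtain ⟨p, hp⟩ : ∃ p, p ∈ minimalPrimes A := by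
      obtain ⟨p, hp, -⟩ := Ideal.exists_minimalPrimes_le (I := ⊥)
        (J := IsLocalRing.maximalIdeal A) bot_le
      exact ⟨p, hp⟩
    haveI : p.IsPrime := hp.1.1
    refine lt_of_le_of_lt (subdim_le A p hp) ?_
    obtain ⟨m, hm⟩ := Groth.Agent.S11668.exists_nat_dim_quot p hp.1.1.ne_top
    rw [hm]
    exact WithBot.coe_lt_coe.mpr (ENat.coe_lt_top m)
  rcases min_le_iff.mp h5 with h6 | h6
  · -- `c + 1 ≤ x + e + 1` with `x + e < c`
    generalize topologicalKrullDim Z + ((e : ℕ) : WithBot ℕ∞) = y at h2 h6
    have hctop : LocCoh.connDim (PrimeSpectrum A) < ⊤ := lt_of_le_of_lt hcs hstop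
    generalize LocCoh.connDim (PrimeSpectrum A) = c at h2 h6 hctop
    induction c using WithBot.recBotCoe with
    | bot => exact not_lt_bot h2
    | coe c =>
      induction y using WithBot.recBotCoe with
      | bot =>
        rw [WithBot.bot_add] at h6
        exact absurd h6 (by
          rw [le_bot_iff]
          exact WithBot.coe_ne_bot)
      | coe y =>
        have hc1 : c ≠ ⊤ := by
          rintro rfl
          exact absurd hctop (lt_irrefl _)
        have h2' : y < c := by exact_mod_cast h2
        have h6' : c + 1 ≤ y + 1 := by exact_mod_cast h6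
        have hy : y ≠ ⊤ := ne_top_of_lt h2'
        lift c to ℕ using hc1
        lift y to ℕ using hy
        have h2'' : y < c := by exact_mod_cast h2'
        have h6'' : c + 1 ≤ y + 1 := by exact_mod_cast h6'
        omega
  · have : topologicalKrullDim Z + ((e + 1 : ℕ) : WithBot ℕ∞) =
        topologicalKrullDim Z + ((e : ℕ) : WithBot ℕ∞) + 1 := by
      push_cast
      rw [add_assoc]
    rw [this] at h1
    exact absurd (lt_of_lt_of_le h1 h6) (lt_irrefl _)

end Groth.Agent.S0815
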