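import Groth.Statements.S0816
import Mathlib
import Groth.Agent.Lib.Helper20NoZTors
import Groth.Agent.Lib.Helper4DevC

set_option autoImplicit false
universe u
open Coherent

namespace Groth.Agent.S0816

open CategoryTheory CategoryTheory.Limits AlgebraicGeometry TopologicalSpace Opposite
open Groth.Agent.Lib.Helper4.Dev Groth.Agent.Lib.Helper20.NoZTors
  Groth.Agent.Lib.Helper23.QCohLocal Groth.Agent.Lib.Helper2 Groth.Agent.Lib.Helper23.FinType


open CategoryTheory AlgebraicGeometry in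
/-- Let X be locally Noetherian, F and G coherent O_X-modules, U ⊆ X open and φ : F|_U → G|_U a map of
O_U-modules. Then there are a coherent submodule F' ⊆ F whose inclusion is an isomorphism over U and
a map φ' : F' → G whose restriction to U is φ (composed with that isomorphism). -/
theorem result (X : Scheme.{u}) [IsLocallyNoetherian X] (F G : X.Modules)
    (hF : Coh.IsCoh F) (hG : Coh.IsCoh G) (U : X.Opens)
    (φ : (Scheme.Modules.restrictFunctor U.ι).obj F ⟶ (Scheme.Modules.restrictFunctor U.ι).obj G) :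
    ∃ (F' : X.Modules) (ι : F' ⟶ F) (φ' : F' ⟶ G), Mono ι ∧ Coh.IsCoh F' ∧
      IsIso ((Scheme.Modules.restrictFunctor U.ι).map ι) ∧
      (Scheme.Modules.restrictFunctor U.ι).map φ' = (Scheme.Modules.restrictFunctor U.ι).map ι ≫ φ := by
  haveI : F.IsQuasicoherent := hF.1
  haveI : G.IsQuasicoherent := hG.1
  haveI : SheafOfModules.IsFiniteType (R := X.ringCatSheaf) F := hF.2
  haveI : SheafOfModules.IsFiniteType (R := X.ringCatSheaf) G := hG.2
  obtain ⟨H, p₁, p₂, hHq, hiso, hcomp, hmono⟩ := exists_graph U.ι F G φ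
  haveI : (F ⊞ G : X.Modules).IsQuasicoherent := isQuasicoherent_biprod F G
  haveI : SheafOfModules.IsFiniteType (R := X.ringCatSheaf) (F ⊞ G : X.Modules) :=
    isFiniteType_biprod' F G
  have hH : Coh.IsCoh H := ⟨hHq, isFiniteType_of_mono (biprod.lift p₁ p₂)⟩
  obtain ⟨H₁, ι₁, hι₁, hH₁, hiso₁, hnoZ⟩ := exists_sub_noZ H hH U
  let Rj := Scheme.Modules.restrictFunctor U.ι
  haveI hisoc : IsIso (Rj.map (ι₁ ≫ p₁)) := by
    rw [Functor.map_comp]; infer_instance
  haveI : H₁.IsQuasicoherent := hH₁.1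
  have hK0 : IsZero (kernel (ι₁ ≫ p₁)) := by
    refine hnoZ (kernel (ι₁ ≫ p₁)) (kernel.ι _) (isQuasicoherent_kernel _) inferInstance ?_
    haveI : PreservesFiniteLimits Rj := inferInstance
    exact IsZero.of_iso (isZero_kernel_of_mono (Rj.map (ι₁ ≫ p₁))) (PreservesKernel.iso Rj (ι₁ ≫ p₁))
  haveI : Mono (ι₁ ≫ p₁) := Preadditive.mono_of_kernel_zero (hK0.eq_of_src _ _)
  refine ⟨H₁, ι₁ ≫ p₁, ι₁ ≫ p₂, inferInstance, hH₁, hisoc, ?_⟩
  rw [Functor.map_comp, Functor.map_comp, hcomp, Category.assoc]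

end Groth.Agent.S0816
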