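import Groth.Statements.S0818
import Groth.Agent.Lib.Helper4DevE
import Groth.Agent.Lib.Helper4DevF

set_option autoImplicit false
set_option linter.style.haveILetI false
universe u
open Coherent

namespace Groth.Agent.S0818

open CategoryTheory AlgebraicGeometry in
/-- Let X be a nonempty Noetherian scheme and P an isomorphism-invariant property of O_X-modules such
that (1) in every short exact sequence of coherent O_X-modules, if two of the three terms satisfy P
then so does the third, and (2) for every integral scheme Z and closed immersion i : Z → X, with ξ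
the generic point of Z, there is a coherent O_X-module G satisfying P whose support is exactly i(Z)
and whose stalk at i(ξ) is isomorphic, as a module over the local ring O_{X,i(ξ)}, to the residue
field of that local ring. Then every coherent O_X-module satisfies P. (The published statement
leaves the nonemptiness of X implicit; it is needed to handle the zero module and is assumed
explicitly here.) -/
theorem result (X : Scheme.{u}) [IsNoetherian X] [Nonempty X]
    (P : X.Modules → Prop) (hP : ∀ M N : X.Modules, Nonempty (M ≅ N) → P M → P N)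
    (h₁ : ∀ S : ShortComplex X.Modules, S.ShortExact → Coh.IsCoh S.X₁ → Coh.IsCoh S.X₂ → Coh.IsCoh S.X₃ →
      (P S.X₁ → P S.X₂ → P S.X₃) ∧ (P S.X₁ → P S.X₃ → P S.X₂) ∧ (P S.X₂ → P S.X₃ → P S.X₁))
    (h₂ : ∀ (Z : Scheme.{u}) (i : Z ⟶ X) [IsClosedImmersion i] [IsIntegral Z],
      ∃ G : X.Modules, Coh.IsCoh G ∧ CohB1.support G = Set.range ⇑i ∧
        Nonempty (↑(G.presheaf.stalk (i (genericPoint Z))) ≃ₗ[X.presheaf.stalk (i (genericPoint Z))]
          IsLocalRing.ResidueField (X.presheaf.stalk (i (genericPoint Z)))) ∧ P G)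
    (M : X.Modules) (hM : Coh.IsCoh M) : P M := by
  haveI : IsLocallyNoetherian X := inferInstance
  -- the zero modules satisfy `P`
  have hzero : ∀ M₀ : X.Modules, CategoryTheory.Limits.IsZero M₀ → P M₀ := by
    intro M₀ hM₀
    obtain ⟨x⟩ := ‹Nonempty X›
    obtain ⟨Z, i, hi, hZ, -, -⟩ := Groth.Agent.Lib.Helper4.Dev.exists_integral_closed x
    obtain ⟨G, hG, -, -, hPG⟩ := h₂ Z i
    have hS := Groth.Agent.Lib.Helper4.Dev.shortExact_zero_id M₀ G hM₀
    exact (h₁ _ hS (Groth.Agent.Lib.Helper4.Dev.isCoh_of_isZero hM₀ hG) hG hG).2.2 hPG hPG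
  refine Groth.Agent.Lib.Helper4.Dev.noetherian_induction_coh P Set.univ hP hzero
    (fun S hS h1 h2 h3 _ => (h₁ S hS h1 h2 h3).2.1) ?_ M hM (Set.subset_univ _)
  intro y _ IH E hE hsE
  obtain ⟨Z, i, hi, hZ, hr, hgen⟩ := Groth.Agent.Lib.Helper4.Dev.exists_integral_closed y
  subst hgen
  obtain ⟨G, hG, hsG, ⟨eG⟩, hPG⟩ := h₂ Z i
  have hK : Groth.Agent.Lib.Helper4.Dev.Exact23 P (closure {i (genericPoint Z)}) :=
    ⟨hP, fun S hS h1 h2 h3 _ => h₁ S hS h1 h2 h3⟩
  have hlen : Module.length (X.presheaf.stalk (i (genericPoint Z)))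
      (G.presheaf.stalk (i (genericPoint Z))) = 1 := by
    rw [eG.length_eq]
    exact Groth.Agent.Lib.Helper4.Dev.length_residueField _
  exact Groth.Agent.Lib.Helper4.Dev.devissage_irreducible _ hK IH hG (hsG.trans_le hr.le) hPG hlen E hE hsE

end Groth.Agent.S0818
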