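import Groth.Statements.S0819
import Groth.Agent.Lib.Helper4DevK

set_option autoImplicit false
set_option linter.style.haveILetI false
universe u
open Coherent

namespace Groth.Agent.S0819

open CategoryTheory AlgebraicGeometry in
/-- Let X be a Noetherian scheme, Z₀ ⊆ X an irreducible closed subset with generic point ξ, and P an
isomorphism-invariant property of O_X-modules such that: (1) in every short exact sequence of
coherent modules supported in Z₀, P for two of the terms implies P for the third; (2) P holds for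
i_* I whenever i : Z → X is an integral closed subscheme with i(Z) a proper subset of Z₀ and I ⊆ O_Z
is a quasi-coherent ideal sheaf; (3) there is a coherent G with support exactly Z₀, stalk at ξ
isomorphic to the residue field over the local ring, and P(G). Then P holds for every coherent
module whose support is contained in Z₀. -/
theorem result (X : Scheme.{u}) [IsNoetherian X]
    (Z₀ : Set X) (hZ₀ : IsClosed Z₀) (hirr : IsIrreducible Z₀) (ξ : X) (hξ : ξ ∈ Z₀ ∧ closure {ξ} = Z₀)
    (P : X.Modules → Prop) (hP : ∀ M N : X.Modules, Nonempty (M ≅ N) → P M → P N)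
    (h₁ : ∀ S : ShortComplex X.Modules, S.ShortExact → Coh.IsCoh S.X₁ → Coh.IsCoh S.X₂ → Coh.IsCoh S.X₃ →
      CohB1.support S.X₂ ⊆ Z₀ →
      (P S.X₁ → P S.X₂ → P S.X₃) ∧ (P S.X₁ → P S.X₃ → P S.X₂) ∧ (P S.X₂ → P S.X₃ → P S.X₁))
    (h₂ : ∀ (Z : Scheme.{u}) (i : Z ⟶ X), IsClosedImmersion i → IsIntegral Z →
      Set.range ⇑i ⊆ Z₀ → Set.range ⇑i ≠ Z₀ →
      ∀ (I : Z.Modules) (ι : I ⟶ Coh.structureModule Z), Mono ι → Coh.IsQCoh I →
        P ((Coh.push i).obj I))
    (h₃ : ∃ G : X.Modules, Coh.IsCoh G ∧ CohB1.support G = Z₀ ∧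
      Nonempty (↑(G.presheaf.stalk ξ) ≃ₗ[X.presheaf.stalk ξ] IsLocalRing.ResidueField (X.presheaf.stalk ξ)) ∧ P G)
    (M : X.Modules) (hM : Coh.IsCoh M) (hsupp : CohB1.support M ⊆ Z₀) : P M := by
  haveI : IsLocallyNoetherian X := inferInstance
  obtain ⟨G, hG, hsG, ⟨eG⟩, hPG⟩ := h₃
  obtain ⟨hξ1, hξ2⟩ := hξ
  subst hξ2
  have hK : Groth.Agent.Lib.Helper4.Dev.Exact23 P (closure {ξ}) := ⟨hP, h₁⟩
  have hzero : ∀ M₀ : X.Modules, CategoryTheory.Limits.IsZero M₀ → P M₀ := by
    intro M₀ hM₀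
    have hS := Groth.Agent.Lib.Helper4.Dev.shortExact_zero_id M₀ G hM₀
    exact (h₁ _ hS (Groth.Agent.Lib.Helper4.Dev.isCoh_of_isZero hM₀ hG) hG hG hsG.le).2.2 hPG hPG
  have IH' : ∀ E : X.Modules, Coh.IsCoh E → CohB1.support E ⊆ closure {ξ} →
      Subsingleton (E.presheaf.stalk ξ) → P E := by
    intro E hE hsE hEξ
    have hξT : ξ ∉ CohB1.support E := fun h => h hEξ
    have hext : ∀ S : CategoryTheory.ShortComplex X.Modules, S.ShortExact → Coh.IsCoh S.X₁ →
        Coh.IsCoh S.X₂ → Coh.IsCoh S.X₃ → CohB1.support S.X₂ ⊆ CohB1.support E →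
        P S.X₁ → P S.X₃ → P S.X₂ :=
      fun S hS c1 c2 c3 hs h1 h3 => (h₁ S hS c1 c2 c3 (hs.trans hsE)).2.1 h1 h3
    refine Groth.Agent.Lib.Helper4.Dev.noetherian_induction_coh P (CohB1.support E) hP hzero hext ?_
      E hE (le_refl _)
    intro y hyT IH F hF hsF
    refine Groth.Agent.Lib.Helper4.Dev.ideal_step P (CohB1.support E) hP hext y hyT IH ?_ F hF hsF
    intro Z i hci hint hrange I ι hι hIq _ _
    refine h₂ Z i hci hint (hrange ▸ hyT.trans hsE) ?_ I ι hι hIq
    intro h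
    rw [hrange] at h
    apply hξT
    apply hyT
    rw [h]
    exact subset_closure (Set.mem_singleton ξ)
  have hlen : Module.length (X.presheaf.stalk ξ) (G.presheaf.stalk ξ) = 1 := by
    rw [eG.length_eq]
    exact Groth.Agent.Lib.Helper4.Dev.length_residueField _
  exact Groth.Agent.Lib.Helper4.Dev.devissage_irreducible ξ hK IH' hG hsG.le hPG hlen M hM hsupp

end Groth.Agent.S0819
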