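import Groth.Statements.S0825
import Groth.Agent.S11628
import Groth.Agent.S11629
import Groth.Agent.Lib.Helper8DT

set_option autoImplicit false
universe u
open scoped BigOperators
open LocCoh

namespace Groth.Agent.S0825

open Groth.Agent.Lib.Helper8 Groth.Agent.Lib.Helper8.DT LocCoh

theorem exists_sum_of_mem_smul_top {A : Type u} [CommRing A] {N : Type u} [AddCommGroup N]
    [Module A N] {r : ℕ} (f : Fin r → A) (x : N)
    (hx : x ∈ (Ideal.span (Set.range f)) • (⊤ : Submodule A N)) :
    ∃ g : Fin r → N, x = ∑ j, f j • g j := by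
  refine Submodule.smul_induction_on hx ?_ ?_
  · intro a ha n _
    obtain ⟨c, rfl⟩ := Ideal.mem_span_range_iff_exists_fun.mp ha
    refine ⟨fun j => c j • n, ?_⟩
    rw [Finset.sum_smul]
    refine Finset.sum_congr rfl (fun j _ => ?_)
    rw [smul_smul, mul_comm]
  · rintro x y ⟨g, rfl⟩ ⟨g', rfl⟩
    refine ⟨fun j => g j + g' j, ?_⟩
    rw [← Finset.sum_add_distrib]
    refine Finset.sum_congr rfl (fun j _ => ?_)
    rw [smul_add]

/-- Let A be a Noetherian ring and I the ideal generated by f_1, …, f_r, with cohomological dimension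
exactly 1. Then there are c ≥ 1 and A-linear maps φ_j : I^c → A such that x = Σ_j f_j φ_j(x) for
every x ∈ I^c. -/
theorem result (A : Type u) [CommRing A] [IsNoetherianRing A] (r : ℕ) (f : Fin r → A)
    (h₁ : LocCoh.CdLE A (Ideal.span (Set.range f)) 1) (h₀ : ¬ LocCoh.CdLE A (Ideal.span (Set.range f)) 0) :
    ∃ (c : ℕ) (φ : Fin r → (↥(Ideal.span (Set.range f) ^ (c + 1)) →ₗ[A] A)),
      ∀ x : ↥(Ideal.span (Set.range f) ^ (c + 1)), (x : A) = ∑ j, f j * φ j x := by
  classical
  have hex := (Groth.Agent.S11628.result A (Ideal.span (Set.range f))).mpr h₁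
  have htop := (Groth.Agent.S11629.result A (Ideal.span (Set.range f))).mp hex
  have h1 : toDT (Ideal.span (Set.range f)) A 1 ∈
      (Ideal.span (Set.range f)) • (⊤ : Submodule A (DT (Ideal.span (Set.range f)) A)) := by
    rw [htop]
    exact Submodule.mem_top
  obtain ⟨g, hg⟩ := exists_sum_of_mem_smul_top f _ h1
  choose n ψ hψ using fun j => exists_rep (Ideal.span (Set.range f)) A (g j)
  let N : ℕ := Finset.univ.sup n
  have hle : ∀ j, n j ≤ N := fun j => Finset.le_sup (Finset.mem_univ j)
  have hg' : ∀ j, g j = cls (Ideal.span (Set.range f)) A N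
      (ψ j ∘ₗ incl (Ideal.span (Set.range f)) (hle j)) := by
    intro j
    rw [cls_restrict, hψ]
  have h2 : toDT (Ideal.span (Set.range f)) A 1 = cls (Ideal.span (Set.range f)) A N
      (∑ j, f j • (ψ j ∘ₗ incl (Ideal.span (Set.range f)) (hle j))) := by
    rw [hg, map_sum]
    refine Finset.sum_congr rfl (fun j _ => ?_)
    rw [map_smul, hg' j]
  rw [toDT_eq' _ _ _ N, cls_eq_iff] at h2
  obtain ⟨k, hk1, hk2, hk⟩ := h2
  refine ⟨k, fun j => ψ j ∘ₗ incl (Ideal.span (Set.range f)) (hle j) ∘ₗ
    incl (Ideal.span (Set.range f)) (hk2.trans (Nat.le_succ k)), ?_⟩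
  intro x
  have h3 := LinearMap.congr_fun hk (incl (Ideal.span (Set.range f)) (Nat.le_succ k) x)
  simp only [LinearMap.comp_apply, LinearMap.toSpanSingleton_apply, Submodule.subtype_apply,
    LinearMap.sum_apply, LinearMap.smul_apply] at h3
  simp only [incl_coe, smul_eq_mul, mul_one] at h3
  rw [h3]
  refine Finset.sum_congr rfl (fun j _ => ?_)
  rfl

end Groth.Agent.S0825
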