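import Groth.Statements.S0828
import Groth.Agent.Lib.Helper28ReflReg2
import Groth.Agent.Lib.Helper2LocFree
import Groth.Agent.Lib.Helper23FinType2
import Groth.Agent.Lib.Helper2RankLoc
import Groth.Agent.Lib.Helper1PC15

set_option autoImplicit false
universe u
open Coherent

namespace Groth.Agent.S0828

open CategoryTheory AlgebraicGeometry in
/-- Let X be a regular scheme (locally Noetherian with regular local rings) and F a coherent O_X-module.
Then F has support all of X and Cohen–Macaulay stalks if and only if F is finite locally free of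
positive rank near every point. -/
theorem result (X : Scheme.{u}) [IsLocallyNoetherian X]
    (hreg : ∀ x : X, IsRegularLocalRing (X.presheaf.stalk x)) (F : X.Modules) (hF : Coh.IsCoh F) :
    (CohB1.support F = Set.univ ∧
        ∀ x : X, LocCoh.IsCohenMacaulayModule (X.presheaf.stalk x) ↑(F.presheaf.stalk x)) ↔
      ∀ x : X, ∃ (U : X.Opens) (n : ℕ), x ∈ U ∧ 0 < n ∧
        Nonempty (F.restrict U.ι ≅ FlatMod.freeMod (↑U) n) := by
  open Groth.Agent.Lib.Helper2 Groth.Agent.Lib.Helper2.FlatOver Groth.Agent.Lib.Helper2.LocFree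
    Groth.Agent.Lib.Helper23.FinType Groth.Agent.Lib.Helper20.PullbackAff
    Groth.Agent.Lib.Helper20.Thickening TopologicalSpace in
  haveI : F.IsQuasicoherent := hF.1
  haveI : SheafOfModules.IsFiniteType (R := X.ringCatSheaf) F := hF.2
  constructor
  · rintro ⟨hsupp, hCM⟩ x
    obtain ⟨U, hU0, hx, -⟩ := (Opens.isBasis_iff_nbhd.1 X.isBasis_affineOpens) (Opens.mem_top x)
    have hU : IsAffineOpen U := hU0
    clear hU0
    letI mF := moduleStalkSections F U x hx
    haveI locF : IsLocalizedModule (hU.primeIdealOf ⟨x, hx⟩).asIdeal.primeCompl (germₗ F U x hx) :=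
      isLocalizedModule_germ hU F x hx
    haveI : IsNoetherianRing Γ(X, U) := IsLocallyNoetherian.component_noetherian ⟨U, hU⟩
    haveI hfinU : Module.Finite Γ(X, U) Γ(F, U) := finite_of_isFiniteType F hU
    letI alg : Algebra Γ(X, U) (X.presheaf.stalk x) :=
      TopCat.Presheaf.algebra_section_stalk X.presheaf ⟨x, hx⟩
    haveI locR : IsLocalization.AtPrime (X.presheaf.stalk x) (hU.primeIdealOf ⟨x, hx⟩).asIdeal :=
      hU.isLocalization_stalk ⟨x, hx⟩
    haveI : IsScalarTower Γ(X, U) (X.presheaf.stalk x) (F.presheaf.stalk x) :=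
      IsScalarTower.of_algebraMap_smul fun r x => rfl
    haveI : Module.Finite (X.presheaf.stalk x) (F.presheaf.stalk x) :=
      Module.Finite.of_isLocalizedModule (hU.primeIdealOf ⟨x, hx⟩).asIdeal.primeCompl
        (germₗ F U x hx)
    haveI := hreg x
    haveI : IsDomain (X.presheaf.stalk x) :=
      Groth.Agent.Lib.Helper5.isDomain_of_isRegularLocalRing _
    haveI hnt : Nontrivial (F.presheaf.stalk x) := by
      have hx' : x ∈ CohB1.support F := hsupp ▸ Set.mem_univ x
      exact not_subsingleton_iff_nontrivial.mp hx'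
    -- the annihilator of the stalk is zero
    have hann : Module.annihilator (X.presheaf.stalk x) (F.presheaf.stalk x) = ⊥ := by
      rw [eq_bot_iff]
      intro a ha
      rw [Ideal.mem_bot]
      rw [Module.mem_annihilator] at ha
      -- the generic point of `Spec O_x` inside `U`
      let q₀ : Ideal Γ(X, U) := RingHom.ker (algebraMap Γ(X, U) (X.presheaf.stalk x))
      haveI hq₀ : q₀.IsPrime := RingHom.ker_isPrime _
      let y : X := hU.fromSpec ⟨q₀, hq₀⟩
      have hy : y ∈ U := by
        have : y ∈ Set.range hU.fromSpec := Set.mem_range_self _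
        rw [hU.range_fromSpec] at this
        exact this
      have hyq : hU.primeIdealOf ⟨y, hy⟩ = ⟨q₀, hq₀⟩ := by
        apply hU.fromSpec.isOpenEmbedding.injective
        exact hU.fromSpec_primeIdealOf ⟨y, hy⟩
      have hysupp : ¬ Subsingleton (F.presheaf.stalk y) := by
        have hy' : y ∈ CohB1.support F := hsupp ▸ Set.mem_univ y
        exact hy'
      letI mFy := moduleStalkSections F U y hy
      haveI locFy : IsLocalizedModule (hU.primeIdealOf ⟨y, hy⟩).asIdeal.primeCompl
          (germₗ F U y hy) := isLocalizedModule_germ hU F y hy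
      -- a section with nonzero germ at `y`
      obtain ⟨n, hn⟩ : ∃ n : Γ(F, U), germₗ F U y hy n ≠ 0 := by
        by_contra hall
        push Not at hall
        apply hysupp
        refine ⟨fun z w => ?_⟩
        have hz : ∀ z : F.presheaf.stalk y, z = 0 := by
          intro z
          obtain ⟨⟨m, s⟩, hms⟩ := IsLocalizedModule.surj
            (hU.primeIdealOf ⟨y, hy⟩).asIdeal.primeCompl (germₗ F U y hy) z
          rw [hall m] at hms
          apply IsLocalizedModule.smul_injective (germₗ F U y hy) s
          change s • z = s • (0 : F.presheaf.stalk y)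
          rw [smul_zero]
          exact hms
        rw [hz z, hz w]
      have hnq : ∀ r : Γ(X, U), r • n = 0 → r ∈ q₀ := by
        intro r hr
        by_contra hrq
        apply hn
        have hr' : r ∈ (hU.primeIdealOf ⟨y, hy⟩).asIdeal.primeCompl := by
          rw [hyq]
          exact hrq
        have h0 : (⟨r, hr'⟩ : (hU.primeIdealOf ⟨y, hy⟩).asIdeal.primeCompl) • germₗ F U y hy n =
            (⟨r, hr'⟩ : (hU.primeIdealOf ⟨y, hy⟩).asIdeal.primeCompl) • (0 : F.presheaf.stalk y) := by
          rw [smul_zero]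
          change r • germₗ F U y hy n = 0
          rw [← map_smul, hr, map_zero]
        exact IsLocalizedModule.smul_injective (germₗ F U y hy) ⟨r, hr'⟩ h0
      -- write `a = r / s`
      obtain ⟨⟨r, s⟩, hrs⟩ := IsLocalization.surj (hU.primeIdealOf ⟨x, hx⟩).asIdeal.primeCompl a
      have h1 : germₗ F U x hx (r • n) = 0 := by
        rw [map_smul, ← algebraMap_smul (X.presheaf.stalk x) r, ← hrs, mul_comm, mul_smul, ha,
          smul_zero]
      obtain ⟨t, ht⟩ := (IsLocalizedModule.eq_zero_iff
        (hU.primeIdealOf ⟨x, hx⟩).asIdeal.primeCompl (germₗ F U x hx)).mp h1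
      have h2 : ((t : Γ(X, U)) * r) ∈ q₀ := hnq _ (by rw [mul_smul]; exact ht)
      have h3 : algebraMap Γ(X, U) (X.presheaf.stalk x) ((t : Γ(X, U)) * r) = 0 := h2
      rw [map_mul] at h3
      have h4 : algebraMap Γ(X, U) (X.presheaf.stalk x) r = 0 :=
        (mul_eq_zero.mp h3).resolve_left
          (IsLocalization.map_units (X.presheaf.stalk x) t).ne_zero
      rw [h4] at hrs
      exact (mul_eq_zero.mp hrs).resolve_right
        (IsLocalization.map_units (X.presheaf.stalk x) s).ne_zero
    have hdim : Module.supportDim (X.presheaf.stalk x) (F.presheaf.stalk x) =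
        ringKrullDim (X.presheaf.stalk x) := by
      rw [Module.supportDim_eq_ringKrullDim_quotient_annihilator, hann]
      exact ringKrullDim_eq_of_ringEquiv (RingEquiv.quotientBot _)
    haveI hfree : Module.Free (X.presheaf.stalk x) (F.presheaf.stalk x) :=
      Groth.Agent.Lib.Helper28.ReflReg.free_of_isCohenMacaulayModule _ _ (hCM x) hdim
    have hflat : FlatMod.IsFlatAt F x := by
      unfold FlatMod.IsFlatAt
      infer_instance
    haveI : Module.Finite Γ(X, U) ((ΓUF hU).obj F) := Module.Finite.equiv (ΓUEquiv hU F)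
    haveI : Module.FinitePresentation Γ(X, U) ((ΓUF hU).obj F) :=
      Module.finitePresentation_of_finite _ _
    obtain ⟨f, hf, hfree'⟩ := exists_free_away_of_flat_atPrime ((ΓUF hU).obj F)
      (hU.primeIdealOf ⟨x, hx⟩) (flat_localizedModule_of_isFlatAt F hU x hx hflat)
    obtain ⟨D, m, hxD, -, ⟨e⟩⟩ := exists_restrict_iso_freeMod_of_free_away F hU x hx f hf hfree'
    refine ⟨D, m, hxD, ?_, ⟨e⟩⟩
    -- the rank is positive
    obtain ⟨-, hrk⟩ := Groth.Agent.Lib.Helper2.RankLoc.fibreRank_eq_of_restrict_iso_freeMod D.ι F e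
      ⟨x, hxD⟩
    change Groth.Agent.Lib.Helper2.RankLoc.fibreRank F x = m at hrk
    unfold Groth.Agent.Lib.Helper2.RankLoc.fibreRank at hrk
    rw [Module.finrank_baseChange] at hrk
    rcases Nat.eq_zero_or_pos m with h0 | hpos
    · exfalso
      have eb := (Module.finBasis (X.presheaf.stalk x) (F.presheaf.stalk x)).equivFun
      rw [hrk, h0] at eb
      exact not_subsingleton _ eb.toEquiv.subsingleton
    · exact hpos
  · intro hlf
    have key : ∀ x : X, Module.Free (X.presheaf.stalk x) (F.presheaf.stalk x) ∧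
        Module.Finite (X.presheaf.stalk x) (F.presheaf.stalk x) ∧
        Nontrivial (F.presheaf.stalk x) := by
      intro x
      obtain ⟨D, n, hxD, hn, ⟨e⟩⟩ := hlf x
      have h12 := Groth.Agent.Lib.Helper1.SPL.free_finite_stalk_of_restrict_iso_freeMod F D.ι n e
        ⟨x, hxD⟩
      change Module.Free (X.presheaf.stalk x) (F.presheaf.stalk x) ∧
        Module.Finite (X.presheaf.stalk x) (F.presheaf.stalk x) at h12
      obtain ⟨h1, h2⟩ := h12
      refine ⟨h1, h2, ?_⟩
      obtain ⟨-, hrk⟩ := Groth.Agent.Lib.Helper2.RankLoc.fibreRank_eq_of_restrict_iso_freeMod D.ι F e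
        ⟨x, hxD⟩
      change Groth.Agent.Lib.Helper2.RankLoc.fibreRank F x = n at hrk
      unfold Groth.Agent.Lib.Helper2.RankLoc.fibreRank at hrk
      rw [Module.finrank_baseChange] at hrk
      by_contra hnt
      rw [not_nontrivial_iff_subsingleton] at hnt
      rw [Module.finrank_zero_of_subsingleton] at hrk
      omega
    refine ⟨?_, fun x => ?_⟩
    · ext x
      simp only [Set.mem_univ, iff_true]
      obtain ⟨-, -, h3⟩ := key x
      exact not_subsingleton_iff_nontrivial.mpr h3
    · obtain ⟨h1, h2, h3⟩ := key x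
      haveI := hreg x
      exact Groth.Agent.Lib.Helper28.ReflReg.isCohenMacaulayModule_of_free _ _

end Groth.Agent.S0828
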