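import Groth.Statements.S0829
import Mathlib
import Groth.Agent.Lib.Helper27EasyWrap

set_option autoImplicit false
universe u
open Formal2

namespace Groth.Agent.S0829

open CategoryTheory CategoryTheory.Limits AlgebraicGeometry Opposite in
/-- Let A be a ring, I ⊆ A an ideal and X a Noetherian scheme over Spec A; inverse systems are indexed
so that position n holds the quotient by I^(n+1). Let G be a coherent O_X-module, (F_n) a coherent
formal module for I (every F_n coherent and killed by I^(n+1), with transition maps inducing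
isomorphisms F_{n+1}/I^(n+1)F_{n+1} ≅ F_n), and α : (F_n) → (G/I^(n+1)G) a map of inverse systems
such that one fixed power of I kills the kernel and the cokernel of every component α_n. Then there
are a coherent O_X-module F, a map a : F → G whose kernel and cokernel are killed by a power of I,
and an isomorphism of systems β : (F_n) ≅ (F/I^(n+1)F) under which α becomes the map of systems
induced by a: for every n, the projection F → F/I^(n+1)F followed by β_n⁻¹ and then α_n equals a
followed by the projection G → G/I^(n+1)G. (The published statement also asserts uniqueness of (F,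
a, β) and has a further part; only existence is stated here.) -/
theorem result (A : Type u) [CommRing A] (I : Ideal A) (X : Scheme.{u})
    [X.Over (Spec (CommRingCat.of A))] [IsNoetherian X] (G : X.Modules) (hG : Coh.IsCoh G)
    (F : ℕᵒᵖ ⥤ X.Modules) (hF : Formal.IsCohFormal I F) (α : F ⟶ Formal.completion I G)
    (hα : Formal2.KerCokerKilledByIPow I α) :
    ∃ (F' : X.Modules) (a : F' ⟶ G) (β : F ≅ Formal.completion I F'), Coh.IsCoh F' ∧
      Formal2.KerCokerKilledByIPowHom I a ∧
      ∀ n : ℕ, Formal.modPowπ I (n + 1) F' ≫ β.inv.app (op n) ≫ α.app (op n) = a ≫ Formal.modPowπ I (n + 1) G := by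
  classical
  obtain ⟨R, hR1, hR2, hR3, J, hc⟩ := Groth.Agent.Lib.Helper27NModel.exists_model (X := X) I
  obtain ⟨t, ht⟩ := hα
  let Gc : Groth.Agent.Lib.Helper27ARCohA.CohCat X := ⟨G, hG⟩
  have hcG := (Groth.Agent.Lib.Helper27ComplMap.isCohFormal_completion I G hG).1
  let Fd : Groth.Agent.Lib.Helper17.ARSys23.Dcat (Groth.Agent.Lib.Helper27ARCohA.CohCat X) J :=
    ⟨Groth.Agent.Lib.Helper27ARCohC.liftSys F hF.1,
      (hc.isAdicNoeth _).2 (Groth.Agent.Lib.Helper27ARCohC.isAdicNoeth_liftSys I F hF)⟩
  let αd : Fd ⟶ Groth.Agent.Lib.Helper27CplA.cObj I J hc Gc :=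
    ObjectProperty.homMk (Groth.Agent.Lib.Helper27EasyWrap.liftNat hF.1 hcG α)
  obtain ⟨F'c, ac, βd, hβ, s, hs1, hs2⟩ :=
    Groth.Agent.Lib.Helper27EasyLeft.easyLeft I J hc Gc Fd αd t
      (fun n => Groth.Agent.Lib.Helper27EasyWrap.smul_kernelι_eq_zero I J hc hF.1 hcG α (t + 1) n
        (ht n).1)
      (fun n => Groth.Agent.Lib.Helper27EasyWrap.smul_cokernelπ_eq_zero I J hc hF.1 hcG α (t + 1) n
        (ht n).2)
  let β : F ≅ Formal.completion I F'c.obj :=
    Groth.Agent.Lib.Helper27EasyWrap.isoOfDcatIso J βd.symm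
  refine ⟨F'c.obj, ac.hom, β, F'c.property, ⟨s,
    Groth.Agent.Lib.Helper27EasyWrap.killedBy_kernel_hom I J hc ac (s + 1) hs1,
    Groth.Agent.Lib.Helper27EasyWrap.killedBy_cokernel_hom I J hc ac (s + 1) hs2⟩, fun n => ?_⟩
  have h1 : (βd.hom.hom.app (op n)).hom ≫ α.app (op n) =
      Groth.Agent.Lib.Helper27ComplMap.Qmod (I ^ (n + 1)) ac.hom := by
    have := congrArg (fun x => (x.hom.app (op n)).hom) hβ
    exact this
  have h3 : β.inv.app (op n) ≫ α.app (op n) =
      Groth.Agent.Lib.Helper27ComplMap.Qmod (I ^ (n + 1)) ac.hom := h1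
  exact (congrArg (fun x : Formal.modPow I (n + 1) F'c.obj ⟶ Formal.modPow I (n + 1) G =>
    Formal.modPowπ I (n + 1) F'c.obj ≫ x) h3).trans
    (Groth.Agent.Lib.Helper27ComplMap.πQ_Qmod (I ^ (n + 1)) ac.hom)

end Groth.Agent.S0829
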