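import Groth.Statements.S0832
import Groth.Agent.S9530
-- import your own Groth.Agent.* helpers here

set_option autoImplicit false
universe u
open Formal2

namespace Groth.Agent.S0832

open CategoryTheory CategoryTheory.Limits AlgebraicGeometry Opposite

section aux
variable {A : Type u} [CommRing A] {X : Scheme.{u}} [X.Over (Spec (CommRingCat.of A))]

theorem map_le_comp (F : ℕᵒᵖ ⥤ X.Modules) {a b c : ℕ} (h1 : a ≤ b) (h2 : b ≤ c) :
    F.map (homOfLE h2).op ≫ F.map (homOfLE h1).op = F.map (homOfLE (h1.trans h2)).op := by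
  rw [← F.map_comp]; rfl

theorem isIso_map_of_killed {I : Ideal A} {F : ℕᵒᵖ ⥤ X.Modules} (hF : Formal.IsCohFormal I F)
    (c : ℕ) (hc : ∀ n : ℕ, Formal.KilledBy (I ^ c) (F.obj (op n))) (N : ℕ) (hN : c ≤ N) :
    IsIso (F.map (homOfLE hN).op) := by
  haveI := Groth.Agent.S9530.epi_le hF c N hN
  obtain ⟨g', hg'⟩ := Groth.Agent.S9530.exists_factor hF c N hN (F.obj (op N)) (𝟙 _) (by
    intro a ha
    rw [Category.comp_id]
    exact hc N a (Ideal.pow_le_pow_right (Nat.le_succ c) ha))
  haveI : IsSplitMono (F.map (homOfLE hN).op) := ⟨⟨⟨g', hg'⟩⟩⟩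
  exact isIso_of_epi_of_isSplitMono _

end aux

open CategoryTheory AlgebraicGeometry Opposite in
/-- First assertion, for the ideal sheaf I·O_X of an ideal I of a base ring A. Let X be a Noetherian
scheme over Spec A and (F_n) a coherent formal module for I such that some fixed power I^c
annihilates every F_n. Then (F_n) is isomorphic to the system (M/I^nM) of a coherent O_X-module M. -/
theorem result (A : Type u) [CommRing A] (I : Ideal A) (X : Scheme.{u})
    [X.Over (Spec (CommRingCat.of A))] [IsNoetherian X] (F : ℕᵒᵖ ⥤ X.Modules) (hF : Formal.IsCohFormal I F)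
    (hc : ∃ c : ℕ, ∀ n : ℕ, Formal.KilledBy (I ^ c) (F.obj (op n))) :
    ∃ M : X.Modules, Coh.IsCoh M ∧ Nonempty (Formal.completion I M ≅ F) := by
  obtain ⟨c, hc⟩ := hc
  refine ⟨F.obj (op c), hF.1 c, ?_⟩
  -- the isomorphisms `u n : F_{max n c} ≅ F_c`
  have hiso : ∀ n : ℕ, IsIso (F.map (homOfLE (le_max_right n c)).op) := fun n =>
    isIso_map_of_killed hF c hc _ _
  let ρ : ∀ n : ℕ, F.obj (op c) ⟶ F.obj (op n) := fun n =>
    haveI := hiso n
    inv (F.map (homOfLE (le_max_right n c)).op) ≫ F.map (homOfLE (le_max_left n c)).op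
  have hρ : ∀ n : ℕ, F.map (homOfLE (le_max_right n c)).op ≫ ρ n =
      F.map (homOfLE (le_max_left n c)).op := fun n => by
    haveI := hiso n
    simp only [ρ, IsIso.hom_inv_id_assoc]
  have hρepi : ∀ n, Epi (ρ n) := fun n => by
    haveI := hiso n
    haveI := Groth.Agent.S9530.epi_le hF n _ (le_max_left n c)
    exact epi_comp _ _
  have hρsucc : ∀ n, ρ (n + 1) ≫ F.map (homOfLE (n.le_add_right 1)).op = ρ n := fun n => by
    haveI := hiso n
    haveI := hiso (n + 1)
    have hle : max n c ≤ max (n + 1) c := max_le_max (Nat.le_succ n) le_rfl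
    rw [← cancel_epi (F.map (homOfLE (le_max_right (n + 1) c)).op), ← Category.assoc, hρ,
      map_le_comp, ← map_le_comp F (le_max_left n c) hle, ← hρ n, ← Category.assoc, map_le_comp]
  have hρ0 : ∀ n, Formal.smulFamily (I ^ (n + 1)) (F.obj (op c)) ≫ ρ n = 0 := fun n => by
    rw [Groth.Agent.S9530.smulFamily_comp_eq_zero_iff]
    intro a ha
    rw [Groth.Agent.S9530.smulMod_comp, hF.2.1 n a ha, comp_zero]
  have hρfac : ∀ n (T : X.Modules) (g : F.obj (op c) ⟶ T),
      Formal.smulFamily (I ^ (n + 1)) (F.obj (op c)) ≫ g = 0 → ∃ g', ρ n ≫ g' = g := by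
    intro n T g hg
    haveI := hiso n
    rw [Groth.Agent.S9530.smulFamily_comp_eq_zero_iff] at hg
    obtain ⟨g', hg'⟩ := Groth.Agent.S9530.exists_factor hF n _ (le_max_left n c) T
      (F.map (homOfLE (le_max_right n c)).op ≫ g) (by
        intro a ha
        rw [← Category.assoc, Groth.Agent.S9530.smulMod_comp, Category.assoc, hg a ha, comp_zero])
    refine ⟨g', ?_⟩
    rw [← cancel_epi (F.map (homOfLE (le_max_right n c)).op), ← Category.assoc, hρ, hg']
  have hπepi : ∀ n, Epi (Formal.modPowπ I n (F.obj (op c))) := fun n =>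
    @coequalizer.π_epi _ _ _ _ _ _ _
  let θ : ∀ n : ℕ, Formal.modPow I (n + 1) (F.obj (op c)) ⟶ F.obj (op n) := fun n =>
    cokernel.desc _ (ρ n) (hρ0 n)
  have hθ : ∀ n, Formal.modPowπ I (n + 1) (F.obj (op c)) ≫ θ n = ρ n := fun n =>
    cokernel.π_desc _ _ _
  have hθiso : ∀ n, IsIso (θ n) := by
    intro n
    obtain ⟨g', hg'⟩ := hρfac n _ (Formal.modPowπ I (n + 1) (F.obj (op c))) (cokernel.condition _)
    haveI := hρepi n
    haveI := hπepi (n + 1)
    refine ⟨g', ?_, ?_⟩
    · rw [← cancel_epi (Formal.modPowπ I (n + 1) (F.obj (op c))), ← Category.assoc, hθ, hg',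
        Category.comp_id]
    · rw [← cancel_epi (ρ n), ← Category.assoc, hg', hθ, Category.comp_id]
  have hnat : ∀ n, Formal.modPowTrans I (n + 1) (F.obj (op c)) ≫ θ n =
      θ (n + 1) ≫ F.map (homOfLE (n.le_add_right 1)).op := by
    intro n
    haveI := hπepi (n + 1 + 1)
    rw [← cancel_epi (Formal.modPowπ I (n + 1 + 1) (F.obj (op c))), ← Category.assoc,
      Formal.modPowπ_trans, hθ, ← Category.assoc, hθ, hρsucc]
  let τ : Formal.completion I (F.obj (op c)) ⟶ F := NatTrans.ofOpSequence θ (by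
    intro n
    have h1 : (Formal.completion I (F.obj (op c))).map (homOfLE (n.le_add_right 1)).op =
        Formal.modPowTrans I (n + 1) (F.obj (op c)) :=
      Functor.ofOpSequence_map_homOfLE_succ _ n
    exact (congrArg (fun k => k ≫ θ n) h1).trans (hnat n))
  haveI : ∀ n : ℕᵒᵖ, IsIso (τ.app n) := fun n => hθiso n.unop
  haveI : IsIso τ := NatIso.isIso_of_isIso_app τ
  exact ⟨asIso τ⟩

end Groth.Agent.S0832
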