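import Groth.Statements.S0834
import Mathlib
import Groth.Agent.Lib.Helper27NModel

set_option autoImplicit false
universe u
open Formal2

namespace Groth.Agent.S0834

open CategoryTheory CategoryTheory.Limits AlgebraicGeometry in
/-- Let A be a ring, I ⊆ A an ideal and X a Noetherian scheme over Spec A. Then the full subcategory of
inverse systems of 𝒪_X-modules formed by the coherent formal modules for the ideal sheaf I·𝒪_X has
kernels. (This is the kernel half of the statement that this category is abelian; cokernels are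
componentwise, and abelianness itself is not asserted here.) -/
theorem result (A : Type u) [CommRing A] (I : Ideal A) (X : Scheme.{u})
    [X.Over (Spec (CommRingCat.of A))] [IsNoetherian X] : HasKernels (Formal2.CohFormalCat I X) := by
  classical
  obtain ⟨R, hR1, hR2, hR3, J, hc⟩ := Groth.Agent.Lib.Helper27NModel.exists_model (X := X) I
  -- the comparison functor from adic Noetherian systems of coherent modules
  let W : (ℕᵒᵖ ⥤ Groth.Agent.Lib.Helper27ARCohA.CohCat X) ⥤ (ℕᵒᵖ ⥤ X.Modules) :=
    (Functor.whiskeringRight ℕᵒᵖ _ _).obj (Groth.Agent.Lib.Helper27ARCohA.cohP X).ι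
  let D := Groth.Agent.Lib.Helper17.ARSys23.Dcat (Groth.Agent.Lib.Helper27ARCohA.CohCat X) J
  let P : ObjectProperty (ℕᵒᵖ ⥤ X.Modules) := fun G => Formal.IsCohFormal I G
  let Ψ : D ⥤ Formal2.CohFormalCat I X :=
    P.lift ((Groth.Agent.Lib.Helper17.ARSys23.PAN
      (C := Groth.Agent.Lib.Helper27ARCohA.CohCat X) J).ι ⋙ W) (fun Y =>
      Groth.Agent.Lib.Helper27ARCohC.isCohFormal_of_isAdic I Y.obj ((hc.isAdic Y.obj).1 Y.property.1))
  haveI : Ψ.Full := inferInstance
  haveI : Ψ.Faithful := inferInstance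
  haveI : Ψ.EssSurj := ⟨fun G => by
    let Y : D := ⟨Groth.Agent.Lib.Helper27ARCohC.liftSys G.obj G.property.1,
      (hc.isAdicNoeth _).2 (Groth.Agent.Lib.Helper27ARCohC.isAdicNoeth_liftSys I G.obj G.property)⟩
    exact ⟨Y, ⟨P.fullyFaithfulι.preimageIso (Iso.refl G.obj)⟩⟩⟩
  haveI : Ψ.IsEquivalence := { }
  let E : Formal2.CohFormalCat I X ⥤ D := Ψ.inv
  refine ⟨fun {G G'} f => ?_⟩
  haveI : HasLimit (parallelPair (E.map f) 0) := (inferInstance : HasKernel (E.map f))
  have iso : parallelPair f 0 ⋙ E ≅ parallelPair (E.map f) 0 :=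
    diagramIsoParallelPair _ ≪≫ parallelPair.eqOfHomEq (by simp) (by simp)
  haveI : HasLimit (parallelPair f 0 ⋙ E) := hasLimit_of_iso iso.symm
  exact Adjunction.hasLimit_of_comp_equivalence (parallelPair f 0) E

end Groth.Agent.S0834
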