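import Groth.Statements.S0837
import Groth.Agent.Lib.Helper17IAdic2
-- import your own Groth.Agent.* helpers here

set_option autoImplicit false
universe u
open Coherent

namespace Groth.Agent.S0837

open CategoryTheory CategoryTheory.Limits AlgebraicGeometry in
/-- Let A be a Noetherian ring, I an ideal, X proper over Spec A and F a coherent O_X-module. For every
p there is c ≥ 0 such that for all n ≥ c the kernel of H^p(X, I^nF) → H^p(X, F) equals the kernel of
H^p(X, I^nF) → H^p(X, I^(n−c)F). (Here I^nF ⊆ F is the kernel of F → F/I^nF.) -/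
theorem result (A : Type u) [CommRing A] [IsNoetherianRing A]
    (I : Ideal A) (X : Scheme.{u}) [X.Over (Spec (CommRingCat.of A))] [IsProper (X ↘ Spec (CommRingCat.of A))]
    (F : X.Modules) (hF : Coh.IsCoh F) (p : ℕ) :
    ∃ c : ℕ, ∀ (n : ℕ) (h : c ≤ n),
      (Sheaf.H.map ((SheafOfModules.toSheaf _).map (Formal2.idealPowModι I n F)) p).ker =
        (Sheaf.H.map ((SheafOfModules.toSheaf _).map (Formal2.idealPowIncl I (Nat.sub_le n c) F)) p).ker := by
  classical
  obtain ⟨r, a, hI, hspan⟩ := Groth.Agent.Lib.Helper17.IAdic.exists_gens I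
  obtain ⟨c, hc⟩ := Groth.Agent.Lib.Helper17.IAdic.ker_ι_le_ker_incl a I hI hspan F hF p
  refine ⟨c, fun n h => ?_⟩
  obtain ⟨k, rfl⟩ := Nat.exists_eq_add_of_le h
  ext x
  rw [AddMonoidHom.mem_ker, AddMonoidHom.mem_ker]
  constructor
  · intro hx
    have h1 := hc k x hx
    exact (Groth.Agent.Lib.Helper17.IAdic.Hm_incl_eq_zero_iff I F
      (Nat.add_sub_cancel_left (n := c) (m := k)).symm (Nat.le_add_left k c)
      (Nat.sub_le (c + k) c) p x).1 h1
  · intro hx
    have h2 : Groth.Agent.Lib.Helper17.IAdic.incl I F (Nat.sub_le (c + k) c) ≫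
        Groth.Agent.Lib.Helper17.IAdic.IMι (I ^ (c + k - c)) F =
        Groth.Agent.Lib.Helper17.IAdic.IMι (I ^ (c + k)) F :=
      Groth.Agent.Lib.Helper17.IAdic.inclTo_ι _ F
    have hx' : Groth.Agent.Lib.Helper17.HHLes.Hm
        (Groth.Agent.Lib.Helper17.IAdic.incl I F (Nat.sub_le (c + k) c)) p x = 0 := hx
    change Groth.Agent.Lib.Helper17.HHLes.Hm
      (Groth.Agent.Lib.Helper17.IAdic.IMι (I ^ (c + k)) F) p x = 0
    rw [← h2, ← Groth.Agent.Lib.Helper17.HHLes.Hm_comp, hx', map_zero]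

end Groth.Agent.S0837
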