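import Groth.Statements.S0851
import Mathlib
import Groth.Agent.Lib.Helper27EasyWrap
import Groth.Agent.Lib.Helper27EasyRightB

set_option autoImplicit false
universe u
open Formal2

namespace Groth.Agent.S0851

open CategoryTheory CategoryTheory.Limits AlgebraicGeometry Opposite in
/-- Part (2), existence, for the ideal sheaf I·O_X of an ideal I of a base ring A (position n of a
system holds the quotient by I^(n+1)). Let X be a Noetherian scheme over Spec A, G a coherent
O_X-module and (F_n) a coherent formal module for I. Suppose α : (G/I^nG) → (F_n) is a map of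
systems such that one fixed power of I kills the kernel and the cokernel of every component. Then
there are a coherent O_X-module F, a map a : G → F with I-power-torsion kernel and cokernel, and an
isomorphism β : (F/I^nF) ≅ (F_n) under which α becomes the map induced by a. -/
theorem result (A : Type u) [CommRing A] (I : Ideal A) (X : Scheme.{u})
    [X.Over (Spec (CommRingCat.of A))] [IsNoetherian X] (G : X.Modules) (hG : Coh.IsCoh G)
    (F : ℕᵒᵖ ⥤ X.Modules) (hF : Formal.IsCohFormal I F) (α : Formal.completion I G ⟶ F)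
    (hα : Formal2.KerCokerKilledByIPow I α) :
    ∃ (F' : X.Modules) (a : G ⟶ F') (β : Formal.completion I F' ≅ F), Coh.IsCoh F' ∧
      Formal2.KerCokerKilledByIPowHom I a ∧
      ∀ n : ℕ, Formal.modPowπ I (n + 1) G ≫ α.app (op n) = a ≫ Formal.modPowπ I (n + 1) F' ≫ β.hom.app (op n) := by
  classical
  obtain ⟨R, hR1, hR2, hR3, J, hc⟩ := Groth.Agent.Lib.Helper27NModel.exists_model (X := X) I
  obtain ⟨t, ht⟩ := hα
  let Gc : Groth.Agent.Lib.Helper27ARCohA.CohCat X := ⟨G, hG⟩
  have hcG := (Groth.Agent.Lib.Helper27ComplMap.isCohFormal_completion I G hG).1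
  let Fd : Groth.Agent.Lib.Helper17.ARSys23.Dcat (Groth.Agent.Lib.Helper27ARCohA.CohCat X) J :=
    ⟨Groth.Agent.Lib.Helper27ARCohC.liftSys F hF.1,
      (hc.isAdicNoeth _).2 (Groth.Agent.Lib.Helper27ARCohC.isAdicNoeth_liftSys I F hF)⟩
  let αd : Groth.Agent.Lib.Helper27CplA.cObj I J hc Gc ⟶ Fd :=
    ObjectProperty.homMk (Groth.Agent.Lib.Helper27EasyWrap.liftNat hcG hF.1 α)
  obtain ⟨F'c, ac, βd, hβ, s, hs1, hs2⟩ :=
    Groth.Agent.Lib.Helper27EasyRightB.easyRight I J hc Gc Fd αd t
      (fun n => Groth.Agent.Lib.Helper27EasyWrap.smul_kernelι_eq_zero I J hc hcG hF.1 α (t + 1) n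
        (ht n).1)
      (fun n => Groth.Agent.Lib.Helper27EasyWrap.smul_cokernelπ_eq_zero I J hc hcG hF.1 α (t + 1) n
        (ht n).2)
  let β : Formal.completion I F'c.obj ≅ F :=
    Groth.Agent.Lib.Helper27EasyWrap.isoOfDcatIso J βd
  refine ⟨F'c.obj, ac.hom, β, F'c.property, ⟨s,
    Groth.Agent.Lib.Helper27EasyWrap.killedBy_kernel_hom I J hc ac (s + 1) hs1,
    Groth.Agent.Lib.Helper27EasyWrap.killedBy_cokernel_hom I J hc ac (s + 1) hs2⟩, fun n => ?_⟩
  have h1 : Groth.Agent.Lib.Helper27ComplMap.Qmod (I ^ (n + 1)) ac.hom ≫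
      (βd.hom.hom.app (op n)).hom = α.app (op n) := by
    have := congrArg (fun x => (x.hom.app (op n)).hom) hβ
    exact this
  have h3 : Groth.Agent.Lib.Helper27ComplMap.Qmod (I ^ (n + 1)) ac.hom ≫ β.hom.app (op n) =
      α.app (op n) := h1
  have h4 : Formal.modPowπ I (n + 1) G ≫ Groth.Agent.Lib.Helper27ComplMap.Qmod (I ^ (n + 1)) ac.hom =
      ac.hom ≫ Formal.modPowπ I (n + 1) F'c.obj :=
    Groth.Agent.Lib.Helper27ComplMap.πQ_Qmod (I ^ (n + 1)) ac.hom
  calc Formal.modPowπ I (n + 1) G ≫ α.app (op n)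
      = Formal.modPowπ I (n + 1) G ≫
          (Groth.Agent.Lib.Helper27ComplMap.Qmod (I ^ (n + 1)) ac.hom ≫ β.hom.app (op n)) :=
        congrArg (fun x : Formal.modPow I (n + 1) G ⟶ F.obj (op n) =>
          Formal.modPowπ I (n + 1) G ≫ x) h3.symm
    _ = (Formal.modPowπ I (n + 1) G ≫
          Groth.Agent.Lib.Helper27ComplMap.Qmod (I ^ (n + 1)) ac.hom) ≫ β.hom.app (op n) :=
        (Category.assoc _ _ _).symm
    _ = (ac.hom ≫ Formal.modPowπ I (n + 1) F'c.obj) ≫ β.hom.app (op n) :=
        congrArg (fun x : G ⟶ Formal.modPow I (n + 1) F'c.obj => x ≫ β.hom.app (op n)) h4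
    _ = ac.hom ≫ Formal.modPowπ I (n + 1) F'c.obj ≫ β.hom.app (op n) := Category.assoc _ _ _

end Groth.Agent.S0851
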