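import Groth.Statements.S0854
import Mathlib
import Groth.Agent.Lib.Helper16RestrInj
import Groth.Agent.Lib.Helper23DerComp
import Groth.Agent.Lib.Helper23LocSS
-- import your own Groth.Agent.* helpers here

set_option autoImplicit false
set_option linter.style.haveILetI false
universe u
open CategoryTheory
open CohTop

namespace Groth.Agent.S0854
open TopologicalSpace Opposite CategoryTheory.Limits
open Groth.Agent.Lib.Helper16.ClosedEmb Groth.Agent.Lib.Helper16.Restr Groth.Agent.Lib.Helper16.RestrInj

section Abstract
universe v₁ v₂ v₃ u₁ u₂ u₃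
variable {𝒞 : Type u₁} [Category.{v₁} 𝒞] [Abelian 𝒞] [HasInjectiveResolutions 𝒞]
  {𝒟 : Type u₂} [Category.{v₂} 𝒟] [Abelian 𝒟] {ℰ : Type u₃} [Category.{v₃} ℰ] [Abelian ℰ]

/-- post-composition with an exact functor commutes with right derived functors (objectwise). -/
noncomputable def postcompObjIso (G : 𝒞 ⥤ 𝒟) [G.Additive] (E : 𝒟 ⥤ ℰ) [E.Additive] [E.PreservesHomology]
    (F : 𝒞) (n : ℕ) :
    ((G ⋙ E).rightDerived n).obj F ≅ E.obj ((G.rightDerived n).obj F) :=
  (injectiveResolution F).isoRightDerivedObj (G ⋙ E) n ≪≫
    ((((G.mapHomologicalComplex _).obj (injectiveResolution F).cocomplex).sc n).mapHomologyIso E) ≪≫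
    E.mapIso ((injectiveResolution F).isoRightDerivedObj G n).symm

end Abstract

section Concrete
variable {X Y : TopCat.{u}} (f : X ⟶ Y) (V : Opens Y)

/-- the restriction of `f` over `V`. -/
abbrev gV : TopCat.of ((Opens.map f).obj V) ⟶ TopCat.of V :=
  TopCat.ofHom ⟨(V : Set Y).restrictPreimage f, f.hom.continuous.restrictPreimage⟩

lemma opens_eq (W : Opens (TopCat.of V)) :
    img ((Opens.map f).obj V) ((Opens.map (gV f V)).obj W) = (Opens.map f).obj (img V W) := by
  ext x
  constructor
  · rintro ⟨y, hy, rfl⟩
    exact ⟨⟨f y.1, y.2⟩, hy, rfl⟩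
  · rintro ⟨z, hz, hzx⟩
    have hx : x ∈ (Opens.map f).obj V := by
      change f x ∈ V
      rw [← hzx]; exact z.2
    refine ⟨⟨x, hx⟩, ?_, rfl⟩
    change (⟨f x, hx⟩ : V) ∈ W
    have : z = ⟨f x, hx⟩ := Subtype.ext hzx
    rw [← this]; exact hz

noncomputable def θ : restrFunctor ((Opens.map f).obj V) ⋙ push (gV f V) ≅ push f ⋙ restrFunctor V :=
  NatIso.ofComponents (fun F =>
    { hom := ⟨{ app := fun W => F.obj.map (eqToHom (opens_eq f V W.unop).symm).op
                naturality := fun W W' i => by
                  exact (F.obj.map_comp _ _).symm.trans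
                    ((congrArg F.obj.map (Subsingleton.elim _ _)).trans (F.obj.map_comp _ _)) }⟩
      inv := ⟨{ app := fun W => F.obj.map (eqToHom (opens_eq f V W.unop)).op
                naturality := fun W W' i => by
                  exact (F.obj.map_comp _ _).symm.trans
                    ((congrArg F.obj.map (Subsingleton.elim _ _)).trans (F.obj.map_comp _ _)) }⟩
      hom_inv_id := by
        apply Sheaf.hom_ext; ext W : 2
        exact (F.obj.map_comp _ _).symm.trans
          ((congrArg F.obj.map (Subsingleton.elim _ _)).trans (F.obj.map_id _))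
      inv_hom_id := by
        apply Sheaf.hom_ext; ext W : 2
        exact (F.obj.map_comp _ _).symm.trans
          ((congrArg F.obj.map (Subsingleton.elim _ _)).trans (F.obj.map_id _)) })
    (fun {F G} φ => by
      apply Sheaf.hom_ext; ext W : 2
      exact (φ.hom.naturality _).symm)

end Concrete

open TopologicalSpace in
/-- For abelian sheaves, one degree at a time: for a continuous map f : X -> Y, an abelian sheaf F on X,
an open V of Y and g : f^{-1}(V) -> V the restriction of f, the restriction of R^p f_* F to V is
isomorphic to R^p g_* (F|_{f^{-1} V}). -/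
theorem result {X Y : TopCat.{u}} (f : X ⟶ Y) (F : CohTop.Ab X)
    (V : Opens Y) (p : ℕ) :
    Nonempty (CohTop.restr ((CohTop.Rpush f p).obj F) V ≅
      (CohTop.Rpush (TopCat.ofHom ⟨(V : Set Y).restrictPreimage f, f.hom.continuous.restrictPreimage⟩ :
          TopCat.of ((Opens.map f).obj V) ⟶ TopCat.of V) p).obj
        (CohTop.restr F ((Opens.map f).obj V))) := by
  haveI := restr_preservesFiniteLimits V
  haveI := restr_preservesFiniteColimits V
  haveI := restr_preservesFiniteLimits ((Opens.map f).obj V)
  haveI := restr_preservesFiniteColimits ((Opens.map f).obj V)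
  haveI : (restrFunctor V).PreservesHomology := inferInstance
  haveI : (restrFunctor ((Opens.map f).obj V)).PreservesHomology := inferInstance
  haveI hpadd : (push (gV f V)).Additive := CohTop.instAdditiveAbPush (gV f V)
  haveI hadd : (restrFunctor ((Opens.map f).obj V) ⋙ push (gV f V)).Additive :=
    { map_add := fun {A B} {a b} => by
        change (push (gV f V)).map ((restrFunctor ((Opens.map f).obj V)).map (a + b)) = _
        rw [Functor.map_add, Functor.map_add]; rfl }
  have e1 := (postcompObjIso (push f) (restrFunctor V) F p).symm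
  have e2 := (Groth.Agent.Lib.Helper23LocSS.rightDerivedIso (θ f V).symm p).app F
  have e3 := (Groth.Agent.Lib.Helper23DerComp.compIso (restrFunctor ((Opens.map f).obj V))
    (push (gV f V)) p).app F
  exact ⟨e1 ≪≫ e2 ≪≫ e3⟩

end Groth.Agent.S0854
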