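import Groth.Statements.S0857
import Mathlib
import Groth.Agent.S8564
-- import your own Groth.Agent.* helpers here

set_option autoImplicit false
universe u
open CategoryTheory
open CohSite

namespace Groth.Agent.S0857
open CategoryTheory.Limits Opposite
open Abelian Groth.Agent.S8564

section Abstract
universe w w' v u'
variable {𝒜 : Type u'} [Category.{v} 𝒜] [Abelian 𝒜] [EnoughInjectives 𝒜] [HasExt.{w} 𝒜]
  [HasProducts.{w'} 𝒜]

attribute [local instance] Ext.subsingleton_of_injective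

/-- the sequence `0 → ∏F → ∏I → coker → 0`. -/
noncomputable abbrev SC {T : Type w'} (F : T → 𝒜) : ShortComplex 𝒜 :=
  ShortComplex.mk (SP F).f (cokernel.π (SP F).f) (cokernel.condition _)

lemma SC_shortExact {T : Type w'} (F : T → 𝒜) : (SC F).ShortExact where
  exact := ShortComplex.exact_of_g_is_cokernel _ (cokernelIsCokernel _)
  mono_f := by dsimp [SC, SP]; infer_instance
  epi_g := by dsimp [SC]; infer_instance

/-- the comparison `coker ⟶ ∏Q`. -/
noncomputable def mC {T : Type w'} (F : T → 𝒜) : (SC F).X₃ ⟶ (SP F).X₃ :=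
  cokernel.desc _ (SP F).g (SP F).zero

/-- the morphism of short exact sequences `SC F ⟶ SI (F t)`. -/
noncomputable def τ {T : Type w'} (F : T → 𝒜) (t : T) : SC F ⟶ SI (F t) where
  τ₁ := Pi.π _ t
  τ₂ := Pi.π _ t
  τ₃ := mC F ≫ Pi.π _ t
  comm₁₂ := by simp [SC, SP]
  comm₂₃ := by simp [SC, SP, mC]

theorem prod_H1_injective {T : Type w'} (F : T → 𝒜) (A : 𝒜) (x : Ext.{w} A (∏ᶜ F) 1)
    (hx : ∀ t, x.comp (Ext.mk₀ (Pi.π F t)) (add_zero 1) = 0) : x = 0 := by
  have hS := SC_shortExact F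
  haveI : Injective (SC F).X₂ := SP_X₂_injective F
  obtain ⟨x₃, hx₃⟩ := Ext.covariant_sequence_exact₁ A hS x (Subsingleton.elim _ _) (n₀ := 0) rfl
  obtain ⟨y, rfl⟩ := (Ext.mk₀_bijective _ _).2 x₃
  -- the components lift
  have hl : ∀ t, ∃ ψ : A ⟶ (SI (F t)).X₂, ψ ≫ (SI (F t)).g = y ≫ (τ F t).τ₃ := by
    intro t
    have h1 : (Ext.mk₀ (y ≫ (τ F t).τ₃)).comp (SI_shortExact (F t)).extClass (zero_add 1) = 0 := by
      rw [← Ext.mk₀_comp_mk₀, Ext.comp_assoc _ _ _ (zero_add 0) (zero_add 1) (by omega),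
        ← ShortComplex.ShortExact.extClass_naturality hS (SI_shortExact (F t)) (τ F t),
        ← Ext.comp_assoc _ _ _ (zero_add 1) (add_zero 1) (by omega)]
      rw [hx₃]
      exact hx t
    obtain ⟨x₂, hx₂⟩ := Ext.covariant_sequence_exact₃ A (SI_shortExact (F t)) _ (n₁ := 1) rfl h1
    obtain ⟨ψ, rfl⟩ := (Ext.mk₀_bijective _ _).2 x₂
    rw [Ext.mk₀_comp_mk₀] at hx₂
    exact ⟨ψ, (Ext.mk₀_bijective _ _).1 hx₂⟩
  choose ψ hψ using hl
  have hmono : Mono (mC F) := (ShortComplex.exact_iff_mono_cokernel_desc _).1 (SP_exact F)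
  have hy : y = Pi.lift ψ ≫ (SC F).g := by
    rw [← cancel_mono (mC F)]
    apply Pi.hom_ext
    intro t
    have := hψ t
    simp only [τ] at this
    simp [mC, SC, SP, this]
  rw [← hx₃, hy, ← Ext.mk₀_comp_mk₀, Ext.comp_assoc _ _ _ (zero_add 0) (zero_add 1) (by omega),
    hS.comp_extClass, Ext.comp_zero]

end Abstract


open Opposite CategoryTheory.Limits in
/-- For a family of abelian sheaves F_i on a site and an object U, the map H^1(U, ∏ F_i) -> ∏ H^1(U,
F_i) induced by the projections is injective. (The degree-zero part of the published statement, that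
sections of a product are the product of sections, is not restated.) -/
theorem result {C : Type u} [SmallCategory C] {J : GrothendieckTopology C}
    {I : Type u} (F : I → Sheaf J AddCommGrpCat.{u}) (U : C) :
    Function.Injective (fun (x : CohSite.HU (∏ᶜ F) 1 U) (i : I) =>
      (((Sheaf.cohomologyPresheafFunctor J 1).map (Pi.π F i)).app (op U)).hom x) := by
  intro a b hab
  let A : Sheaf J AddCommGrpCat.{u} := (presheafToSheaf J AddCommGrpCat.{u}).obj (yoneda.obj U ⋙ AddCommGrpCat.free.{u})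
  have ha : ∀ i, (show Ext.{u} A (∏ᶜ F) 1 from a).comp (Ext.mk₀ (Pi.π F i)) (add_zero 1) =
      (show Ext.{u} A (∏ᶜ F) 1 from b).comp (Ext.mk₀ (Pi.π F i)) (add_zero 1) := fun i => congrFun hab i
  have key := prod_H1_injective.{u, u} F A ((show Ext.{u} A (∏ᶜ F) 1 from a) - (show Ext.{u} A (∏ᶜ F) 1 from b))
    (fun i => by rw [sub_eq_add_neg, Ext.add_comp, Ext.neg_comp, ha i, add_neg_cancel])
  exact sub_eq_zero.1 key

end Groth.Agent.S0857
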