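import Groth.Statements.S0860
import Mathlib
import Groth.Agent.Lib.Helper21CechPush
import Groth.Agent.S0858
import Groth.Agent.S0861

set_option autoImplicit false
universe u
open CategoryTheory
open CohSite

namespace Groth.Agent.S0860

open Groth.Agent.Lib.Helper21.Cech Groth.Agent.Lib.Helper21.CechPush CategoryTheory.Limits Opposite

open CategoryTheory.Limits in
/-- Let u : C -> D be a functor between sites with fibre products which sends coverings to coverings,
commutes with fibre products, and is continuous and cocontinuous, and let I be an injective abelian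
sheaf on D. Then the sheaf V ↦ I(u(V)) on C (which is the pullback of I along the morphism of topoi
attached to u) has H^p(U, -) = 0 for all p > 0 and all objects U of C. -/
theorem result {C D : Type u} [SmallCategory C]
    [SmallCategory D] [HasPullbacks C] [HasPullbacks D]
    (J : GrothendieckTopology C) (K : GrothendieckTopology D) (u : C ⥤ D)
    (hu : CoverPreserving J K u) [PreservesLimitsOfShape WalkingCospan u]
    [u.IsContinuous J K] [u.IsCocontinuous J K]
    (I : Sheaf K AddCommGrpCat.{u}) [Injective I] (U : C) (p : ℕ) :
    Subsingleton (CohSite.HU ((CohSite.push K J u).obj I) (p + 1) U) := by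
  refine Groth.Agent.S0861.result J Set.univ
    (fun U ι Y => Sieve.ofArrows (fun i => (Y i).left) (fun i => (Y i).hom) ∈ J U)
    (fun U ι Y hc => ⟨Set.mem_univ _, hc, fun _ _ => Set.mem_univ _⟩) ?_ _ ?_ U (Set.mem_univ _) p
  · intro V _ T hT
    let ι : Type u := Σ W : C, {f : W ⟶ V // T.arrows f}
    let Y : ι → Over V := fun i => Over.mk i.2.1
    have hSY : Sieve.ofArrows (fun i => (Y i).left) (fun i => (Y i).hom) = T := by
      apply le_antisymm
      · rw [Sieve.ofArrows, Sieve.generate_le_iff]
        rintro Z f ⟨i⟩
        exact i.2.2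
      · intro Z f hf
        exact Sieve.ofArrows_mk (fun i => (Y i).left) (fun i => (Y i).hom) (⟨Z, f, hf⟩ : ι)
    exact ⟨ι, Y, hSY ▸ hT, fun i => i.2.2⟩
  · intro V ι Y _ q
    exact isZero_cechH_push u Y I.obj (q + 1) (Groth.Agent.S0858.result' K I (uY u Y) q)

end Groth.Agent.S0860
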