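import Groth.Statements.S0864
import Mathlib.CategoryTheory.Sites.Adjunction

set_option autoImplicit false
universe u
open CategoryTheory
open CohSite

namespace Groth.Agent.S0864

/-- A totally acyclic abelian sheaf F on a site satisfies H^p(U, F) = 0 for every object U and every p >
0. -/
theorem result {C : Type u} [SmallCategory C] {J : GrothendieckTopology C}
    (F : Sheaf J AddCommGrpCat.{u}) (hF : CohCx.IsTotallyAcyclic F) (U : C) (p : ℕ) :
    Subsingleton (CohSite.HU F (p + 1) U) := by
  have : J.PreservesSheafification AddCommGrpCat.free.{u} :=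
    Sheaf.preservesSheafification_of_adjunction J AddCommGrpCat.adj
  have e := (presheafToSheafCompComposeAndSheafifyIso J AddCommGrpCat.free.{u}).app (yoneda.obj U)
  have h := hF ((presheafToSheaf J (Type u)).obj (yoneda.obj U)) p
  dsimp only [CohCx.HK] at h
  dsimp only [Functor.comp_obj, Functor.whiskeringRight_obj_obj] at e
  refine ⟨fun x y => ?_⟩
  have key : ∀ z : Abelian.Ext ((presheafToSheaf J AddCommGrpCat.{u}).obj
      (yoneda.obj U ⋙ AddCommGrpCat.free.{u})) F (p + 1), z = 0 := by
    intro z
    have h1 : (Abelian.Ext.mk₀ e.inv).comp ((Abelian.Ext.mk₀ e.hom).comp z (zero_add _)) (zero_add _) = z := by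
      rw [← Abelian.Ext.comp_assoc_of_second_deg_zero, Abelian.Ext.mk₀_comp_mk₀, e.inv_hom_id,
        Abelian.Ext.mk₀_id_comp]
    have h2 : (Abelian.Ext.mk₀ e.hom).comp z (zero_add _) = 0 := h.elim _ _
    rw [← h1, h2, Abelian.Ext.comp_zero]
  exact (key x).trans (key y).symm

end Groth.Agent.S0864
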