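import Groth.Statements.S0865
import Groth.Agent.Lib.Helper16RpushNat
-- import your own Groth.Agent.* helpers here

set_option autoImplicit false
set_option linter.style.haveILetI false
universe u
open CategoryTheory
open CohSite

namespace Groth.Agent.S0865

open CategoryTheory.Limits Abelian Opposite Groth.Agent.Lib.Helper16.RpushNat

variable {C : Type u} [SmallCategory C] (J : GrothendieckTopology C)

/-- `(ℤ[P^#])^# ≅ (ℤ[P])^#` -/
noncomputable def lIso (P : Cᵒᵖ ⥤ Type u) :
    (presheafToSheaf J AddCommGrpCat.{u}).obj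
      (((presheafToSheaf J (Type u)).obj P).obj ⋙ AddCommGrpCat.free.{u}) ≅
    (presheafToSheaf J AddCommGrpCat.{u}).obj (P ⋙ AddCommGrpCat.free.{u}) := by
  haveI : J.PreservesSheafification AddCommGrpCat.free.{u} :=
    Sheaf.preservesSheafification_of_adjunction J AddCommGrpCat.adj.{u}
  exact (presheafToSheafCompComposeAndSheafifyIso J AddCommGrpCat.free.{u}).app P

/-- totally acyclic sheaves have no higher cohomology on objects -/
lemma ext_eq_zero (F : Sheaf J AddCommGrpCat.{u}) (hF : CohCx.IsTotallyAcyclic F) (W : C) (p : ℕ)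
    (x : Ext.{u} (CohCx.freeSheaf J W) F (p + 1)) : x = 0 := by
  let e := lIso J (yoneda.obj W)
  haveI := hF ((presheafToSheaf J (Type u)).obj (yoneda.obj W)) p
  have h1 : (Ext.mk₀ e.inv).comp ((Ext.mk₀ e.hom).comp x (zero_add _)) (zero_add _) = x := by
    rw [← Ext.comp_assoc_of_second_deg_zero, Ext.mk₀_comp_mk₀, e.inv_hom_id, Ext.mk₀_id_comp]
  have h2 : (Ext.mk₀ e.hom).comp x (zero_add (p + 1)) = 0 :=
    Subsingleton.elim (α := CohCx.HK ((presheafToSheaf J (Type u)).obj (yoneda.obj W)) F (p + 1)) _ _
  rw [← h1, h2, Ext.comp_zero]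

variable {D : Type u} [SmallCategory D] (K : GrothendieckTopology D) (u : D ⥤ C) [u.IsContinuous K J]

theorem result' (F : Sheaf J AddCommGrpCat.{u}) (hF : CohCx.IsTotallyAcyclic F) (p : ℕ) :
    IsZero ((CohSite.Rpush J K u (p + 1)).obj F) := by
  refine IsZero.of_iso ?_ ((natIso J K u (p + 1)).app F)
  have h0 : IsZero ((E J u (p + 1)).obj F) := by
    rw [Functor.isZero_iff]
    intro V
    haveI : Subsingleton (((E J u (p + 1)).obj F).obj V) :=
      ⟨fun a b => (ext_eq_zero J F hF (u.obj V.unop) p a).trans (ext_eq_zero J F hF (u.obj V.unop) p b).symm⟩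
    exact AddCommGrpCat.isZero_of_subsingleton _
  exact (presheafToSheaf K AddCommGrpCat.{u}).map_isZero h0


open CategoryTheory.Limits in
/-- Part (4) (for a morphism of topoi coming from a continuous functor of sites u : D -> C): if F is a
totally acyclic abelian sheaf on C then R^p u_* F = 0 for all p > 0, where u_* F is the sheaf V ↦
F(u(V)) and R^p u_* its right derived functors. -/
theorem result {C D : Type u} [SmallCategory C] [SmallCategory D]
    (J : GrothendieckTopology C) (K : GrothendieckTopology D) (u : D ⥤ C) [u.IsContinuous K J]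
    (F : Sheaf J AddCommGrpCat.{u}) (hF : CohCx.IsTotallyAcyclic F) (p : ℕ) :
    IsZero ((CohSite.Rpush J K u (p + 1)).obj F) := by
  exact result' J K u F hF p

end Groth.Agent.S0865
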