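import Groth.Statements.S0866
import Mathlib
-- import your own Groth.Agent.* helpers here

set_option autoImplicit false
universe u
open CategoryTheory
open CohTop

namespace Groth.Agent.S0866

open TopologicalSpace Opposite CategoryTheory.Limits


variable {X : TopCat.{u}}

/-- the discrete space on the points of X -/
abbrev Xd (X : TopCat.{u}) : TopCat.{u} := TopCat.discrete.obj ((forget TopCat).obj X)

abbrev fd (X : TopCat.{u}) : Xd X ⟶ X := TopCat.adj₁.counit.app X

/-- Godement presheaf on the discrete space. -/
noncomputable def godeP (F : CohTop.Ab X) : (Opens (Xd X))ᵒᵖ ⥤ AddCommGrpCat.{u} where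
  obj V := AddCommGrpCat.of (∀ x : V.unop, (CohTop.stalk F (fd X x.1) : AddCommGrpCat.{u}))
  map {_ _} i := AddCommGrpCat.ofHom
    { toFun := fun s x => s ⟨x.1, i.unop.le x.2⟩
      map_zero' := rfl
      map_add' := fun _ _ => rfl }
  map_id _ := rfl
  map_comp _ _ := rfl

lemma godeP_isSheaf (F : CohTop.Ab X) : TopCat.Presheaf.IsSheaf (godeP F) := by
  rw [TopCat.Presheaf.isSheaf_iff_isSheaf_comp (forget AddCommGrpCat.{u})]
  exact TopCat.Presheaf.toTypes_isSheaf (Xd X) (fun x => (CohTop.stalk F (fd X x) : AddCommGrpCat.{u}))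

noncomputable def gode (F : CohTop.Ab X) : CohTop.Ab (Xd X) := ⟨godeP F, godeP_isSheaf F⟩

/-- the germ map `F ⟶ f_* gode F`. -/
noncomputable def toGode (F : CohTop.Ab X) : F ⟶ (CohTop.push (fd X)).obj (gode F) :=
  ⟨{ app := fun U => AddCommGrpCat.ofHom
        { toFun := fun s x => TopCat.Presheaf.germ F.obj U.unop (fd X x.1) x.2 s
          map_zero' := by funext x; simp
          map_add' := fun a b => by funext x; simp }
     naturality := fun U V i => by
        ext s
        funext x
        change TopCat.Presheaf.germ F.obj V.unop _ _ (F.obj.map i s) = 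
          TopCat.Presheaf.germ F.obj U.unop _ _ s
        exact TopCat.Presheaf.germ_res_apply F.obj i.unop _ x.2 s }⟩

instance mono_toGode (F : CohTop.Ab X) : Mono (toGode F) := by
  haveI : Mono (toGode F).hom := by
    haveI : ∀ U, Mono ((toGode F).hom.app U) := by
      intro U
      rw [AddCommGrpCat.mono_iff_injective]
      intro s t hst
      refine TopCat.Presheaf.section_ext F U.unop s t (fun x hx => ?_)
      exact congrFun hst ⟨x, hx⟩
    exact NatTrans.mono_of_mono_app _
  exact Sheaf.Hom.mono_of_presheaf_mono _ _ _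

theorem unit_mono (F : CohTop.Ab X) :
    Mono ((TopCat.Sheaf.pullbackPushforwardAdjunction AddCommGrpCat.{u} (fd X)).unit.app F) := by
  set adj := TopCat.Sheaf.pullbackPushforwardAdjunction AddCommGrpCat.{u} (fd X)
  have h : adj.unit.app F ≫ (CohTop.push (fd X)).map ((adj.homEquiv F (gode F)).symm (toGode F)) =
      toGode F := by
    have := (adj.homEquiv F (gode F)).apply_symm_apply (toGode F)
    exact (Adjunction.homEquiv_unit adj F (gode F) _).symm.trans this
  haveI : Mono (adj.unit.app F ≫ (CohTop.push (fd X)).map ((adj.homEquiv F (gode F)).symm (toGode F))) := by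
    rw [h]; exact mono_toGode F
  exact mono_of_mono _ ((CohTop.push (fd X)).map ((adj.homEquiv F (gode F)).symm (toGode F)))

lemma subsingleton_of_eq_bot {Y : TopCat.{u}} (G : CohTop.Ab Y) {U : Opens Y} (h : U = ⊥) :
    Subsingleton (ToType (G.obj.obj (op U))) := by
  have hT : IsTerminal (G.obj.obj (op U)) := TopCat.Sheaf.isTerminalOfEqEmpty G h
  have hZ : IsZero (G.obj.obj (op U)) :=
    IsZero.of_iso (isZero_zero _) (hT.uniqueUpToIso HasZeroObject.zeroIsTerminal)
  exact AddCommGrpCat.subsingleton_of_isZero hZ

/-- every abelian sheaf on a discrete space is flasque -/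
theorem flasque_of_discrete {Y : TopCat.{u}} [DiscreteTopology Y] (G : CohTop.Ab Y) :
    TopCat.Sheaf.IsFlasque G := by
  constructor
  intro U V i
  rw [AddCommGrpCat.epi_iff_surjective]
  intro s
  -- cover of U by V and U \ V
  let W : Opens Y := ⟨(U.unop : Set Y) \ (V.unop : Set Y), isOpen_discrete _⟩
  let cov : Bool → Opens Y := fun b => cond b V.unop W
  have hVU : V.unop ≤ U.unop := i.unop.le
  have hWU : W ≤ U.unop := fun x hx => hx.1
  let iUV : ∀ b, cov b ⟶ U.unop := fun b => homOfLE (by cases b <;> simp [cov, hVU, hWU])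
  have hcover : U.unop ≤ iSup cov := by
    intro x hx
    by_cases hxV : x ∈ V.unop
    · exact Opens.mem_iSup.mpr ⟨true, hxV⟩
    · exact Opens.mem_iSup.mpr ⟨false, ⟨hx, hxV⟩⟩
  let sf : ∀ b, ToType (G.obj.obj (op (cov b))) := fun b =>
    match b with
    | true => s
    | false => 0
  have hdisj : cov true ⊓ cov false = ⊥ := by
    ext x
    simp only [cov, cond_true, cond_false, Opens.coe_inf, Opens.coe_bot, Set.mem_inter_iff,
      SetLike.mem_coe, Set.mem_empty_iff_false, iff_false, not_and]
    intro hx hx'
    exact hx'.2 hx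
  have hdisj' : cov false ⊓ cov true = ⊥ := by rw [inf_comm]; exact hdisj
  have hcompat : TopCat.Presheaf.IsCompatible G.obj cov sf := by
    intro a b
    cases a <;> cases b
    · rfl
    · haveI := subsingleton_of_eq_bot G hdisj'
      exact Subsingleton.elim _ _
    · haveI := subsingleton_of_eq_bot G hdisj
      exact Subsingleton.elim _ _
    · rfl
  obtain ⟨t, ht, -⟩ := TopCat.Sheaf.existsUnique_gluing' G cov U.unop iUV hcover sf hcompat
  refine ⟨t, ?_⟩
  exact ht true


/-- The first step of the Godement resolution, for abelian sheaves: let f : X_disc -> X be the identity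
map from X with the discrete topology. For an abelian sheaf F on X, the adjunction unit F -> f_*
f^{-1} F is a monomorphism and f_* f^{-1} F is a flasque sheaf. (The source builds the whole
functorial flasque resolution by iterating f_* f^{-1} and proves it is a stalkwise homotopy
equivalence; only this first step is asserted here.) -/
theorem result {X : TopCat.{u}} (F : CohTop.Ab X) :
    Mono ((TopCat.Sheaf.pullbackPushforwardAdjunction AddCommGrpCat.{u}
      (TopCat.adj₁.counit.app X)).unit.app F) ∧
    TopCat.Sheaf.IsFlasque ((CohTop.push (TopCat.adj₁.counit.app X)).obj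
      ((CohTop.pull (TopCat.adj₁.counit.app X)).obj F)) := by
  refine ⟨unit_mono F, ?_⟩
  haveI : DiscreteTopology ↑((forget TopCat ⋙ TopCat.discrete).obj X) :=
    inferInstanceAs (DiscreteTopology (TopCat.discrete.obj ((forget TopCat).obj X)))
  haveI := flasque_of_discrete ((CohTop.pull (TopCat.adj₁.counit.app X)).obj F)
  exact TopCat.Sheaf.IsFlasque.pushforward_isFlasque _ _

end Groth.Agent.S0866
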