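import Groth.Statements.S0877
import Groth.Agent.Lib.Helper17Hyp29
-- import your own Groth.Agent.* helpers here

set_option autoImplicit false
universe u
open CategoryTheory
open CohSite

namespace Groth.Agent.S0877

open Opposite in
/-- Let K be an object of the derived category of abelian sheaves on a site and B a class of objects
such that every object has a covering by members of B and H^p(U, H^q(K)) = 0 for all p > 0, all q
and all U in B. Then for U in B and all q, H^q(U, K) is isomorphic to the group of sections of the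
cohomology sheaf H^q(K) over U. -/
theorem result {C : Type u} [SmallCategory C]
    {J : GrothendieckTopology C} [HasDerivedCategory.{u} (Sheaf J AddCommGrpCat.{u})]
    (K : DerivedCategory (Sheaf J AddCommGrpCat.{u})) (B : Set C)
    (hB : ∀ U : C, ∃ (ι : Type u) (Y : ι → C) (f : ∀ i, Y i ⟶ U), Sieve.ofArrows Y f ∈ J U ∧ ∀ i, Y i ∈ B)
    (h : ∀ U ∈ B, ∀ (p : ℕ) (q : ℤ), Subsingleton (CohSite.HU (CohCx.HD K q) (p + 1) U))
    (U : C) (hU : U ∈ B) (q : ℤ) :
    Nonempty (CohCx.HDU K q U ≃+ (CohCx.HD K q).obj.obj (op U)) := by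
  classical
  haveI : Limits.HasProducts.{u} (DerivedCategory (Sheaf J AddCommGrpCat.{u})) :=
    Groth.Agent.Lib.Helper17.KInj.hasProducts_derivedCategory
  haveI : Limits.HasLimitsOfShape (Discrete (ULift.{u} ℕ)) (DerivedCategory (Sheaf J AddCommGrpCat.{u})) :=
    inferInstance
  haveI : Limits.HasLimitsOfShape (Discrete ℕ) (DerivedCategory (Sheaf J AddCommGrpCat.{u})) :=
    Limits.hasLimitsOfShape_of_equivalence (Discrete.equivalence Equiv.ulift.{u, 0})
  have hbij := Groth.Agent.Lib.Helper17.Hyp.bijective_cm_of_acyclic.{u, u}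
    (fr := Groth.Agent.Lib.Helper17.Hyp.frSh J) (Groth.Agent.Lib.Helper17.Hyp.locFr_frSh J) K B
    (fun U => by
      obtain ⟨ι, Y₀, f, hcov, hYB⟩ := hB U
      refine ⟨Presieve.ofArrows Y₀ f, hcov, ?_⟩
      rintro V g ⟨i⟩
      exact hYB i)
    (fun V hV m k hk => by
      obtain ⟨k, rfl⟩ : ∃ k₀ : ℕ, k = k₀ + 1 := ⟨k - 1, by
        have : (0 : ℤ) < k := hk
        omega⟩
      exact @Equiv.subsingleton _ _ (Abelian.Ext.homEquiv (X := CohCx.freeSheaf J V)
        (Y := CohCx.HD K (m - ((k + 1 : ℕ) : ℤ))) (n := k + 1)).symm (h V hV k _))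
    U hU q
  have hcan : Function.Bijective (Groth.Agent.Lib.Helper17.Hyp.canonU K q U) := by
    have : (Groth.Agent.Lib.Helper17.Hyp.canonU K q U : CohCx.HDU K q U → _) =
        (CohFree.homEquivSect J U (CohCx.HD K q)) ∘
          (fun ξ : Groth.Agent.Lib.Helper17.Hyp.dsgl (CohCx.freeSheaf J U) ⟶ K⟦q⟧ =>
            Groth.Agent.Lib.Helper17.Hyp.cm ξ) := rfl
    rw [this]
    exact (CohFree.homEquivSect J U (CohCx.HD K q)).bijective.comp hbij
  exact ⟨AddEquiv.ofBijective _ hcan⟩

end Groth.Agent.S0877
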