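import Groth.Statements.S0878
import Groth.Agent.Lib.Helper17Hyp30
-- import your own Groth.Agent.* helpers here

set_option autoImplicit false
universe u
open CategoryTheory
open CohSite

namespace Groth.Agent.S0878

open Opposite CategoryTheory.Limits in
/-- Let (K_n) be an inverse system in the derived category of abelian sheaves on a site with a derived
limit L, and B a class of objects such that every object is covered by members of B and, for U in B
and all q, H^p(U, H^q(K_n)) = 0 for p > 0 and the system of sections H^q(K_n)(U) has vanishing R^1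
lim. Then H^q(L) is isomorphic to lim_n H^q(K_n) for every q. -/
theorem result {C : Type u} [SmallCategory C]
    {J : GrothendieckTopology C} [HasDerivedCategory.{u} (Sheaf J AddCommGrpCat.{u})]
    (K : ℕ → DerivedCategory (Sheaf J AddCommGrpCat.{u})) (t : ∀ n, K (n + 1) ⟶ K n) [HasProduct K]
    (L : DerivedCategory (Sheaf J AddCommGrpCat.{u})) (hL : DCoh.IsRlim K t L) (B : Set C)
    (hB : ∀ U : C, ∃ (ι : Type u) (Y : ι → C) (f : ∀ i, Y i ⟶ U), Sieve.ofArrows Y f ∈ J U ∧ ∀ i, Y i ∈ B)
    (h1 : ∀ U ∈ B, ∀ (p : ℕ) (q : ℤ) (n : ℕ), Subsingleton (CohSite.HU (CohCx.HD (K n) q) (p + 1) U))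
    (h2 : ∀ U ∈ B, ∀ (q : ℤ), CohCx.LimOneIsZero (fun n => (CohCx.HD (K n) q).obj.obj (op U))
      (fun n => (((DerivedCategory.homologyFunctor _ q).map (t n)).hom.app (op U)).hom))
    (q : ℤ) :
    Nonempty (CohCx.HD L q ≅ limit (CohCx.opSequence (fun n => CohCx.HD (K n) q)
      (fun n => (DerivedCategory.homologyFunctor _ q).map (t n)))) := by
  classical
  haveI : Limits.HasProducts.{u} (DerivedCategory (Sheaf J AddCommGrpCat.{u})) :=
    Groth.Agent.Lib.Helper17.KInj.hasProducts_derivedCategory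
  haveI : Limits.HasLimitsOfShape (Discrete (ULift.{u} ℕ))
      (DerivedCategory (Sheaf J AddCommGrpCat.{u})) := inferInstance
  haveI : Limits.HasLimitsOfShape (Discrete ℕ) (DerivedCategory (Sheaf J AddCommGrpCat.{u})) :=
    Limits.hasLimitsOfShape_of_equivalence (Discrete.equivalence Equiv.ulift.{u, 0})
  obtain ⟨a, c, hc⟩ := hL
  let a₁ : ∀ n, L ⟶ K n := fun n => a ≫ Limits.Pi.π K n
  have ha₁ : Limits.Pi.lift a₁ = a := by
    apply Limits.Pi.hom_ext
    intro n
    rw [Limits.Pi.lift_π]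
  have hL₁ : CohCx.IsRlimVia K t L a₁ := ⟨c, by rw [ha₁]; exact hc⟩
  have hB₁ : ∀ U : C, ∃ R : Presieve U, Sieve.generate R ∈ J U ∧
      ∀ ⦃V : C⦄ (g : V ⟶ U), R g → V ∈ B := fun U => by
    obtain ⟨ι, Y₀, f, hcov, hYB⟩ := hB U
    refine ⟨Presieve.ofArrows Y₀ f, hcov, ?_⟩
    rintro V g ⟨i⟩
    exact hYB i
  have hbij : ∀ (q₁ : ℤ), ∀ V ∈ B, ∀ n, Function.Bijective
      (fun ξ : Groth.Agent.Lib.Helper17.Hyp.dsgl ((Groth.Agent.Lib.Helper17.Hyp.frSh J).obj V) ⟶
        (K n)⟦q₁⟧ => Groth.Agent.Lib.Helper17.Hyp.cm ξ) := fun q₁ V hV n =>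
    Groth.Agent.Lib.Helper17.Hyp.bijective_cm_of_acyclic.{u, u}
      (fr := Groth.Agent.Lib.Helper17.Hyp.frSh J) (Groth.Agent.Lib.Helper17.Hyp.locFr_frSh J)
      (K n) B hB₁
      (fun W hW m k hk => by
        obtain ⟨k, rfl⟩ : ∃ k₀ : ℕ, k = k₀ + 1 := ⟨k - 1, by
          have : (0 : ℤ) < k := hk
          omega⟩
        exact @Equiv.subsingleton _ _ (Abelian.Ext.homEquiv (X := CohCx.freeSheaf J W)
          (Y := CohCx.HD (K n) (m - ((k + 1 : ℕ) : ℤ))) (n := k + 1)).symm (h1 W hW k _ n))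
      V hV q₁
  have hlim1 : ∀ V ∈ B, CohCx.LimOneIsZero
      (fun n => Groth.Agent.Lib.Helper17.Hyp.dsgl ((Groth.Agent.Lib.Helper17.Hyp.frSh J).obj V) ⟶
        (K n)⟦q - 1⟧)
      (fun n => Preadditive.rightComp _ ((t n)⟦q - 1⟧')) := fun V hV => by
    refine Groth.Agent.Lib.Helper17.Hyp.limOneIsZero_of_bijective _ _
      (fun n => Groth.Agent.Lib.Helper17.Hyp.canonU (K n) (q - 1) V) (fun n => ?_) (fun n ξ => ?_)
      (h2 V hV (q - 1))
    · exact Groth.Agent.Lib.Helper17.Hyp.bijective_canonU (K n) (q - 1) V (hbij (q - 1) V hV n)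
    · exact Groth.Agent.Lib.Helper17.Hyp.canonU_comp (t n) (q - 1) V ξ
  let D := CohCx.opSequence (fun n => CohCx.HD (K n) q)
    (fun n => (DerivedCategory.homologyFunctor _ q).map (t n))
  let cone : Limits.Cone D :=
    { pt := CohCx.HD L q
      π := NatTrans.ofOpSequence (F := (Functor.const _).obj (CohCx.HD L q)) (G := D)
        (fun n => (DerivedCategory.homologyFunctor _ q).map (a₁ n)) (fun n => by
          dsimp only [Functor.const_obj_obj, Functor.const_obj_map]
          rw [Category.id_comp]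
          have h3 : D.map (homOfLE (Nat.le_add_right n 1)).op =
              (DerivedCategory.homologyFunctor _ q).map (t n) :=
            Functor.ofOpSequence_map_homOfLE_succ _ n
          rw [h3]
          exact ((congrArg (DerivedCategory.homologyFunctor _ q).map
            (Groth.Agent.Lib.Helper17.Hyp.isRlimVia_comp_t hL₁ n)).symm.trans
            (Functor.map_comp _ _ _))) }
  have hiso : IsIso (Limits.limit.lift D cone) := by
    refine Groth.Agent.Lib.Helper17.Hyp.isIso_of_rlim_sections.{u, u}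
      (fr := Groth.Agent.Lib.Helper17.Hyp.frSh J) (Groth.Agent.Lib.Helper17.Hyp.locFr_frSh J)
      hL₁ B hB₁ q (hbij q) hlim1 (fun n => Limits.limit.π D (Opposite.op n)) (fun n => ?_)
      (fun s s' hs => ?_) _ (fun n => ?_)
    · have h3 : D.map (homOfLE (Nat.le_add_right n 1)).op =
          (DerivedCategory.homologyFunctor _ q).map (t n) :=
        Functor.ofOpSequence_map_homOfLE_succ _ n
      rw [← h3]
      exact Limits.limit.w D _
    · apply Limits.limit.hom_ext
      intro j
      exact hs j.unop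
    · exact Limits.limit.lift_π cone _
  exact ⟨asIso (Limits.limit.lift D cone)⟩

end Groth.Agent.S0878
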