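import Groth.Statements.S0871
import Mathlib
import Groth.Agent.Lib.Helper16RestrInj
-- import your own Groth.Agent.* helpers here

set_option autoImplicit false
universe u
open CategoryTheory
open CohTop

namespace Groth.Agent.S0871
open TopologicalSpace Opposite CategoryTheory.Limits

section Abstract
universe w₁ w₂ v₁ v₂ u₁ u₂
variable {C₁ : Type u₁} [Category.{v₁} C₁] [Abelian C₁] {C₂ : Type u₂} [Category.{v₂} C₂] [Abelian C₂]
  {L : C₁ ⥤ C₂} {R : C₂ ⥤ C₁} (adj : L ⊣ R) [L.Additive] [R.Additive]

/-- an adjunction of additive functors induces an adjunction on complexes. -/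
noncomputable def adjCx {ι : Type*} (c : ComplexShape ι) :
    L.mapHomologicalComplex c ⊣ R.mapHomologicalComplex c :=
  Adjunction.mkOfUnitCounit
    { unit :=
        { app := fun K =>
            { f := fun i => adj.unit.app (K.X i)
              comm' := fun i j _ => (adj.unit.naturality (K.d i j)).symm }
          naturality := fun K K' φ => by
            ext i
            exact adj.unit.naturality (φ.f i) }
      counit :=
        { app := fun K =>
            { f := fun i => adj.counit.app (K.X i)
              comm' := fun i j _ => (adj.counit.naturality (K.d i j)).symm }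
          naturality := fun K K' φ => by
            ext i
            exact adj.counit.naturality (φ.f i) }
      left_triangle := by
        ext K i
        simp only [NatTrans.comp_app, Functor.whiskerRight_app, Functor.associator_hom_app,
          Functor.whiskerLeft_app, Category.id_comp, HomologicalComplex.comp_f,
          Functor.mapHomologicalComplex_map_f, NatTrans.id_app, HomologicalComplex.id_f]
        exact adj.left_triangle_components (K.X i)
      right_triangle := by
        ext K i
        simp only [NatTrans.comp_app, Functor.whiskerRight_app, Functor.associator_inv_app,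
          Functor.whiskerLeft_app, Category.id_comp, HomologicalComplex.comp_f,
          Functor.mapHomologicalComplex_map_f, NatTrans.id_app, HomologicalComplex.id_f]
        exact adj.right_triangle_components (K.X i) }

variable [HasDerivedCategory.{w₁} C₁] [HasDerivedCategory.{w₂} C₂]
  [PreservesFiniteLimits L] [PreservesFiniteColimits L]
  [PreservesFiniteLimits R] [PreservesFiniteColimits R]

/-- an adjunction of exact functors induces an adjunction on derived categories. -/
noncomputable def adjD : L.mapDerivedCategory ⊣ R.mapDerivedCategory :=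
  letI : CatCommSq (L.mapHomologicalComplex (ComplexShape.up ℤ)) DerivedCategory.Q DerivedCategory.Q
      L.mapDerivedCategory := ⟨L.mapDerivedCategoryFactors.symm⟩
  letI : CatCommSq (R.mapHomologicalComplex (ComplexShape.up ℤ)) DerivedCategory.Q DerivedCategory.Q
      R.mapDerivedCategory := ⟨R.mapDerivedCategoryFactors.symm⟩
  (adjCx adj (ComplexShape.up ℤ)).localization DerivedCategory.Q
    (HomologicalComplex.quasiIso C₁ (ComplexShape.up ℤ)) DerivedCategory.Q
    (HomologicalComplex.quasiIso C₂ (ComplexShape.up ℤ)) L.mapDerivedCategory R.mapDerivedCategory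

end Abstract


section Concrete
open Groth.Agent.Lib.Helper16.SectSupp Groth.Agent.Lib.Helper16.ClosedEmb Groth.Agent.Lib.Helper16.Restr
  Groth.Agent.Lib.Helper16.RestrInj

variable {X : TopCat.{u}} (U : Opens X)

/-- the free sheaf on the whole space `U`. -/
noncomputable abbrev Z' : CohTop.Ab (TopCat.of U) := CohCx.freeSheaf (J (TopCat.of U)) ⊤

/-- `ℤ_⊤ ⟶ (ℤ_U)|_U`. -/
noncomputable def w' : Z' U ⟶ (CohTop.restrFunctor U).obj (ZU U) :=
  CohFree.ofSect (J (TopCat.of U)) ⊤ ((CohTop.restrFunctor U).obj (ZU U)) (g₀ U)

lemma evalGen_w'_comp {F : CohTop.Ab X} (φ : ZU U ⟶ F) :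
    CohFree.evalGen (J (TopCat.of U)) ⊤ ((CohTop.restrFunctor U).obj F)
      (w' U ≫ (CohTop.restrFunctor U).map φ) =
      F.obj.map (homOfLE (img_le U ⊤)).op (CohFree.evalGen (J X) U F φ) := by
  change ((CohTop.restrFunctor U).map φ).hom.app (op ⊤)
    (CohFree.evalGen (J (TopCat.of U)) ⊤ _ (w' U)) = _
  rw [w', CohFree.evalGen_ofSect]
  change φ.hom.app (op (img U ⊤)) (g₀ U) = _
  exact ConcreteCategory.congr_hom (φ.hom.naturality (homOfLE (img_le U ⊤)).op) (CohFree.gen (J X) U)

lemma w'_bijective (F : CohTop.Ab X) :
    Function.Bijective (fun φ : ZU U ⟶ F => w' U ≫ (CohTop.restrFunctor U).map φ) := by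
  have hbij := map_bijective_of_eq F (homOfLE (img_le U ⊤)) (img_top U).symm
  have h1 : (fun φ : ZU U ⟶ F => CohFree.homEquivSect (J (TopCat.of U)) ⊤ _
      (w' U ≫ (CohTop.restrFunctor U).map φ)) =
      fun φ => F.obj.map (homOfLE (img_le U ⊤)).op (CohFree.homEquivSect (J X) U F φ) := by
    funext φ
    exact evalGen_w'_comp U φ
  have h2 : Function.Bijective (fun φ : ZU U ⟶ F => CohFree.homEquivSect (J (TopCat.of U)) ⊤ _
      (w' U ≫ (CohTop.restrFunctor U).map φ)) := by
    rw [h1]
    exact hbij.comp (CohFree.homEquivSect (J X) U F).bijective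
  exact (Function.Bijective.of_comp_iff' (CohFree.homEquivSect (J (TopCat.of U)) ⊤ _).bijective _).1 h2

/-- `j_! ℤ ⟶ ℤ_U`. -/
noncomputable def aU : (extZero U).obj (Z' U) ⟶ ZU U :=
  ((adjExt U).homEquiv _ _).symm (w' U)

instance : IsIso (aU U) := by
  rw [isIso_iff_coyoneda_map_bijective]
  intro F
  have h : (fun φ : ZU U ⟶ F => (adjExt U).homEquiv _ _ (aU U ≫ φ)) =
      fun φ => w' U ≫ (CohTop.restrFunctor U).map φ := by
    funext φ
    rw [Adjunction.homEquiv_naturality_right, aU, Equiv.apply_symm_apply]
  have h2 : Function.Bijective (fun φ : ZU U ⟶ F => (adjExt U).homEquiv _ _ (aU U ≫ φ)) := by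
    rw [h]; exact w'_bijective U F
  exact (Function.Bijective.of_comp_iff' ((adjExt U).homEquiv _ _).bijective _).1 h2


theorem result' [HasDerivedCategory.{u} (CohTop.Ab X)] [HasDerivedCategory.{u} (CohTop.Ab (TopCat.of U))]
    [PreservesFiniteLimits (CohTop.restrFunctor U)] [PreservesFiniteColimits (CohTop.restrFunctor U)]
    (K : DerivedCategory (CohTop.Ab X)) (p : ℤ) :
    Nonempty (CohCx.HDU K p U ≃+ CohCx.HDU ((CohTop.restrFunctor U).mapDerivedCategory.obj K) p ⊤) := by
  let adj := adjD (adjExt U)
  let e1 : (DerivedCategory.singleFunctor (CohTop.Ab X) 0).obj (ZU U) ≅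
      (extZero U).mapDerivedCategory.obj
        ((DerivedCategory.singleFunctor (CohTop.Ab (TopCat.of U)) 0).obj (Z' U)) :=
    (DerivedCategory.singleFunctor (CohTop.Ab X) 0).mapIso (asIso (aU U)).symm ≪≫
      (((extZero U).mapDerivedCategorySingleFunctor 0).app (Z' U)).symm
  let e3 : (CohTop.restrFunctor U).mapDerivedCategory.obj
      ((shiftFunctor (DerivedCategory (CohTop.Ab X)) p).obj K) ≅
      (shiftFunctor (DerivedCategory (CohTop.Ab (TopCat.of U))) p).obj
        ((CohTop.restrFunctor U).mapDerivedCategory.obj K) :=
    ((CohTop.restrFunctor U).mapDerivedCategory.commShiftIso p).app K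
  let E1 : CohCx.HDU K p U ≃+ ((extZero U).mapDerivedCategory.obj
        ((DerivedCategory.singleFunctor (CohTop.Ab (TopCat.of U)) 0).obj (Z' U)) ⟶
      (shiftFunctor (DerivedCategory (CohTop.Ab X)) p).obj K) :=
    { toFun := fun f => e1.inv ≫ f
      invFun := fun g => e1.hom ≫ g
      left_inv := fun f => by simp
      right_inv := fun g => by simp
      map_add' := fun f g => Preadditive.comp_add _ _ _ _ _ _ }
  let E2 := adj.homAddEquiv ((DerivedCategory.singleFunctor (CohTop.Ab (TopCat.of U)) 0).obj (Z' U))
    ((shiftFunctor (DerivedCategory (CohTop.Ab X)) p).obj K)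
  let E3 : (((DerivedCategory.singleFunctor (CohTop.Ab (TopCat.of U)) 0).obj (Z' U)) ⟶
      (CohTop.restrFunctor U).mapDerivedCategory.obj
        ((shiftFunctor (DerivedCategory (CohTop.Ab X)) p).obj K)) ≃+
      CohCx.HDU ((CohTop.restrFunctor U).mapDerivedCategory.obj K) p ⊤ :=
    { toFun := fun f => f ≫ e3.hom
      invFun := fun g => g ≫ e3.inv
      left_inv := fun f => by simp
      right_inv := fun g => by simp
      map_add' := fun f g => Preadditive.add_comp _ _ _ _ _ _ }
  exact ⟨(E1.trans E2).trans E3⟩

end Concrete


open TopologicalSpace CategoryTheory.Limits in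
/-- For an object K of the derived category of abelian sheaves on X and an open U, H^p(U, K) is
isomorphic to H^p(U, K|_U), where K|_U is the image of K under the functor on derived categories
induced by the (exact) restriction to U. Exactness of restriction is assumed through instance
arguments (true, but not recorded by Mathlib in this generality). -/
theorem result {X : TopCat.{u}} (U : Opens X)
    [HasDerivedCategory.{u} (CohTop.Ab X)] [HasDerivedCategory.{u} (CohTop.Ab (TopCat.of U))]
    [PreservesFiniteLimits (CohTop.restrFunctor U)] [PreservesFiniteColimits (CohTop.restrFunctor U)]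
    (K : DerivedCategory (CohTop.Ab X)) (p : ℤ) :
    Nonempty (CohCx.HDU K p U ≃+ CohCx.HDU ((CohTop.restrFunctor U).mapDerivedCategory.obj K) p ⊤) := by
  exact result' U K p

end Groth.Agent.S0871
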