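import Groth.Statements.S0874
import Groth.Agent.Lib.Helper17Hyp12

set_option autoImplicit false
universe u
open CategoryTheory
open CohTop

namespace Groth.Agent.S0874

open TopologicalSpace CategoryTheory.Limits in
/-- Let (K_n) be an inverse system in D(Ab X), the derived category of sheaves of abelian groups on X,
with derived limit L (through maps a_n : L -> K_n), x a point and m an integer. Suppose there are an
index n(x) and a fundamental system of open neighbourhoods U of x such that (1) the inverse system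
H^{m-1}(U, K_n) has vanishing R^1 lim and (2) for every n >= n(x), the transition map from H^m(U,
K_n) to H^m(U, K_{n(x)}) is one-to-one. Then a_{n(x)} induces an injection of stalks at x, from
H^m(L) into H^m(K_{n(x)}). -/
theorem result {X : TopCat.{u}} [HasDerivedCategory.{u} (CohTop.Ab X)]
    (K : ℕ → DerivedCategory (CohTop.Ab X)) (t : ∀ n, K (n + 1) ⟶ K n) [HasProduct K]
    (L : DerivedCategory (CohTop.Ab X)) (a : ∀ n, L ⟶ K n) (hL : CohCx.IsRlimVia K t L a)
    (x : X) (m : ℤ) (nx : ℕ)
    (h : ∀ V : Opens X, x ∈ V → ∃ U : Opens X, x ∈ U ∧ U ≤ V ∧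
      CohCx.LimOneIsZero (fun n => CohCx.HDU (K n) (m - 1) U)
        (fun n => Preadditive.rightComp _ ((shiftFunctor _ (m - 1)).map (t n))) ∧
      ∀ k : ℕ, Function.Injective
        (Preadditive.rightComp _ ((shiftFunctor _ m).map (CohCx.transition K t nx k)) :
          CohCx.HDU (K (nx + k)) m U → CohCx.HDU (K nx) m U)) :
    Function.Injective ((TopCat.Presheaf.stalkFunctor AddCommGrpCat.{u} x).map
      ((DerivedCategory.homologyFunctor (CohTop.Ab X) m).map (a nx)).hom) := by
  have hfr := Groth.Agent.Lib.Helper17.Hyp.locFr_frSh (Opens.grothendieckTopology X)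
  apply Groth.Agent.Lib.Helper17.Hyp.stalk_injective_of_local
  intro W hxW s hs
  have hmem := Groth.Agent.Lib.Helper17.Hyp.liftSieve_mem.{u, u} hfr (a nx) m s hs
  obtain ⟨W', g, hg, hxW'⟩ := hmem x hxW
  obtain ⟨U, hxU, hUW', hlim, hinj⟩ := h W' hxW'
  have hg' : (Groth.Agent.Lib.Helper17.Hyp.liftSieve
      (Groth.Agent.Lib.Helper17.Hyp.frSh (Opens.grothendieckTopology X)) (a nx) m s).arrows
      (homOfLE hUW' ≫ g) := Sieve.downward_closed _ hg _
  obtain ⟨ξ, hξ1, hξ2⟩ := hg'
  have hξ0 : ξ = 0 := Groth.Agent.Lib.Helper17.Hyp.eq_zero_of_good hL _ m nx hlim hinj ξ hξ2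
  rw [hξ0, Groth.Agent.Lib.Helper17.Hyp.cm_zero] at hξ1
  refine ⟨U, hxU, (homOfLE hUW' ≫ g).le, ?_⟩
  have : homOfLE (homOfLE hUW' ≫ g).le = homOfLE hUW' ≫ g := Subsingleton.elim _ _
  rw [this]
  exact hξ1.symm


end Groth.Agent.S0874
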