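import Groth.Statements.S0876

set_option autoImplicit false
universe u
open CategoryTheory
open CohSite

namespace Groth.Agent.S0876

open CategoryTheory.Limits

lemma exact_mk₂_ab {A B C : Type u} [AddCommGroup A] [AddCommGroup B] [AddCommGroup C]
    (f : A →+ B) (g : B →+ C) (h0 : ∀ a, g (f a) = 0) (h1 : ∀ b, g b = 0 → ∃ a, f a = b) :
    (ComposableArrows.mk₂ (AddCommGrpCat.ofHom f) (AddCommGrpCat.ofHom g)).Exact := by
  have w : AddCommGrpCat.ofHom f ≫ AddCommGrpCat.ofHom g = 0 := by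
    ext a
    exact h0 a
  refine ComposableArrows.exact₂_mk _ w ?_
  rw [ShortComplex.ab_exact_iff]
  intro b hb
  exact h1 b hb

section
open Pretriangulated DerivedCategory

variable {C : Type u} [SmallCategory C] {J : GrothendieckTopology C}
    [HasWeakSheafify J (Type u)] (S : J.MayerVietorisSquare)

lemma f_eq : S.shortComplex.f =
    biprod.lift (CohCx.freeSheafMap J S.f₁₂) (-CohCx.freeSheafMap J S.f₁₃) := rfl

lemma g_eq : S.shortComplex.g =
    biprod.desc (CohCx.freeSheafMap J S.f₂₄) (CohCx.freeSheafMap J S.f₃₄) := rfl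

lemma sq_comm : CohCx.freeSheafMap J S.f₁₂ ≫ CohCx.freeSheafMap J S.f₂₄ =
    CohCx.freeSheafMap J S.f₁₃ ≫ CohCx.freeSheafMap J S.f₃₄ := by
  have h : biprod.lift (CohCx.freeSheafMap J S.f₁₂) (-CohCx.freeSheafMap J S.f₁₃) ≫
      biprod.desc (CohCx.freeSheafMap J S.f₂₄) (CohCx.freeSheafMap J S.f₃₄) = 0 := S.shortComplex.zero
  rw [biprod.lift_desc, Preadditive.neg_comp, ← sub_eq_add_neg, sub_eq_zero] at h
  exact h

variable [HasDerivedCategory.{u} (Sheaf J AddCommGrpCat.{u})]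
    (K : DerivedCategory (Sheaf J AddCommGrpCat.{u}))

/-- the single functor -/
noncomputable abbrev sgF : Sheaf J AddCommGrpCat.{u} ⥤ DerivedCategory (Sheaf J AddCommGrpCat.{u}) :=
  DerivedCategory.singleFunctor (Sheaf J AddCommGrpCat.{u}) 0

/-- the distinguished triangle -/
noncomputable abbrev TT : Triangle (DerivedCategory (Sheaf J AddCommGrpCat.{u})) :=
  S.shortComplex_shortExact.singleTriangle

lemma TT_dist : TT S ∈ distTriang _ := S.shortComplex_shortExact.singleTriangle_distinguished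


/-- the connecting map with explicit source and target -/
noncomputable def δ₀ : (sgF (J := J)).obj (CohCx.freeSheaf J S.X₄) ⟶
    ((sgF (J := J)).obj (CohCx.freeSheaf J S.X₁))⟦(1 : ℤ)⟧ :=
  S.shortComplex_shortExact.singleδ

variable {S}

lemma mor₁_eq : (TT S).mor₁ =
    (sgF (J := J)).map (biprod.lift (CohCx.freeSheafMap J S.f₁₂) (-CohCx.freeSheafMap J S.f₁₃)) := rfl

lemma mor₂_eq : (TT S).mor₂ =
    (sgF (J := J)).map (biprod.desc (CohCx.freeSheafMap J S.f₂₄) (CohCx.freeSheafMap J S.f₃₄)) := rfl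

variable {B : DerivedCategory (Sheaf J AddCommGrpCat.{u})}

lemma lemA0 (b : (sgF (J := J)).obj (CohCx.freeSheaf J S.X₄) ⟶ B) :
    (sgF (J := J)).map (CohCx.freeSheafMap J S.f₁₂) ≫ (sgF (J := J)).map (CohCx.freeSheafMap J S.f₂₄) ≫ b +
      -((sgF (J := J)).map (CohCx.freeSheafMap J S.f₁₃) ≫ (sgF (J := J)).map (CohCx.freeSheafMap J S.f₃₄) ≫ b) = 0 := by
  have h := congrArg (sgF (J := J)).map (sq_comm S)
  rw [Functor.map_comp, Functor.map_comp] at h
  rw [← Category.assoc, h, Category.assoc, add_neg_cancel]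

lemma lemA1 (a₂ : (sgF (J := J)).obj (CohCx.freeSheaf J S.X₂) ⟶ B)
    (a₃ : (sgF (J := J)).obj (CohCx.freeSheaf J S.X₃) ⟶ B)
    (h : (sgF (J := J)).map (CohCx.freeSheafMap J S.f₁₂) ≫ a₂ +
      -((sgF (J := J)).map (CohCx.freeSheafMap J S.f₁₃) ≫ a₃) = 0) :
    ∃ b : (sgF (J := J)).obj (CohCx.freeSheaf J S.X₄) ⟶ B,
      (sgF (J := J)).map (CohCx.freeSheafMap J S.f₂₄) ≫ b = a₂ ∧
      (sgF (J := J)).map (CohCx.freeSheafMap J S.f₃₄) ≫ b = a₃ := by
  let a : (sgF (J := J)).obj (CohCx.freeSheaf J S.X₂ ⊞ CohCx.freeSheaf J S.X₃) ⟶ B :=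
    (sgF (J := J)).map biprod.fst ≫ a₂ + (sgF (J := J)).map biprod.snd ≫ a₃
  have ha : (TT S).mor₁ ≫ a = 0 := by
    change (sgF (J := J)).map (biprod.lift (CohCx.freeSheafMap J S.f₁₂) (-CohCx.freeSheafMap J S.f₁₃)) ≫
      ((sgF (J := J)).map biprod.fst ≫ a₂ + (sgF (J := J)).map biprod.snd ≫ a₃) = 0
    rw [Preadditive.comp_add, ← Category.assoc, ← Category.assoc, ← Functor.map_comp,
      ← Functor.map_comp, biprod.lift_fst, biprod.lift_snd, Functor.map_neg, Preadditive.neg_comp]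
    exact h
  obtain ⟨b, hb⟩ := Pretriangulated.Triangle.yoneda_exact₂ (TT S) (TT_dist S) a ha
  replace hb : a = (sgF (J := J)).map
      (biprod.desc (CohCx.freeSheafMap J S.f₂₄) (CohCx.freeSheafMap J S.f₃₄)) ≫ b := hb
  refine ⟨b, ?_, ?_⟩
  · have : (sgF (J := J)).map (CohCx.freeSheafMap J S.f₂₄) ≫ b =
        (sgF (J := J)).map biprod.inl ≫ a := by
      rw [hb, ← Category.assoc, ← Functor.map_comp, biprod.inl_desc]
    rw [this]
    dsimp only [a]
    rw [Preadditive.comp_add, ← Category.assoc, ← Category.assoc, ← Functor.map_comp,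
      ← Functor.map_comp, biprod.inl_fst, biprod.inl_snd, CategoryTheory.Functor.map_id, Functor.map_zero,
      Category.id_comp, Limits.zero_comp, add_zero]
  · have : (sgF (J := J)).map (CohCx.freeSheafMap J S.f₃₄) ≫ b =
        (sgF (J := J)).map biprod.inr ≫ a := by
      rw [hb, ← Category.assoc, ← Functor.map_comp, biprod.inr_desc]
    rw [this]
    dsimp only [a]
    rw [Preadditive.comp_add, ← Category.assoc, ← Category.assoc, ← Functor.map_comp,
      ← Functor.map_comp, biprod.inr_fst, biprod.inr_snd, CategoryTheory.Functor.map_id, Functor.map_zero,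
      Category.id_comp, Limits.zero_comp, zero_add]


lemma sum_eq (a₂ : (sgF (J := J)).obj (CohCx.freeSheaf J S.X₂) ⟶ B)
    (a₃ : (sgF (J := J)).obj (CohCx.freeSheaf J S.X₃) ⟶ B) :
    (sgF (J := J)).map (CohCx.freeSheafMap J S.f₁₂) ≫ a₂ +
      -((sgF (J := J)).map (CohCx.freeSheafMap J S.f₁₃) ≫ a₃) =
    (sgF (J := J)).map (biprod.lift (CohCx.freeSheafMap J S.f₁₂) (-CohCx.freeSheafMap J S.f₁₃)) ≫
      ((sgF (J := J)).map biprod.fst ≫ a₂ + (sgF (J := J)).map biprod.snd ≫ a₃) := by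
  rw [Preadditive.comp_add, ← Category.assoc, ← Category.assoc, ← Functor.map_comp,
    ← Functor.map_comp, biprod.lift_fst, biprod.lift_snd, Functor.map_neg, Preadditive.neg_comp]

lemma lemB0 (a₂ : (sgF (J := J)).obj (CohCx.freeSheaf J S.X₂) ⟶ B)
    (a₃ : (sgF (J := J)).obj (CohCx.freeSheaf J S.X₃) ⟶ B) :
    δ₀ S ≫ ((sgF (J := J)).map (CohCx.freeSheafMap J S.f₁₂) ≫ a₂ +
      -((sgF (J := J)).map (CohCx.freeSheafMap J S.f₁₃) ≫ a₃))⟦(1 : ℤ)⟧' = 0 := by
  rw [sum_eq, Functor.map_comp, ← Category.assoc]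
  have h : δ₀ S ≫ ((sgF (J := J)).map
      (biprod.lift (CohCx.freeSheafMap J S.f₁₂) (-CohCx.freeSheafMap J S.f₁₃)))⟦(1 : ℤ)⟧' = 0 :=
    comp_distTriang_mor_zero₃₁ (TT S) (TT_dist S)
  rw [h, Limits.zero_comp]

lemma lemB1 (a₁ : (sgF (J := J)).obj (CohCx.freeSheaf J S.X₁) ⟶ B)
    (h : δ₀ S ≫ a₁⟦(1 : ℤ)⟧' = 0) :
    ∃ (a₂ : (sgF (J := J)).obj (CohCx.freeSheaf J S.X₂) ⟶ B)
      (a₃ : (sgF (J := J)).obj (CohCx.freeSheaf J S.X₃) ⟶ B),
      (sgF (J := J)).map (CohCx.freeSheafMap J S.f₁₂) ≫ a₂ +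
        -((sgF (J := J)).map (CohCx.freeSheafMap J S.f₁₃) ≫ a₃) = a₁ := by
  obtain ⟨g, hg⟩ := Pretriangulated.Triangle.yoneda_exact₃ (TT S).rotate
    (rot_of_distTriang _ (TT_dist S)) (a₁⟦(1 : ℤ)⟧') h
  replace hg : a₁⟦(1 : ℤ)⟧' = (-((sgF (J := J)).map
      (biprod.lift (CohCx.freeSheafMap J S.f₁₂) (-CohCx.freeSheafMap J S.f₁₃)))⟦(1 : ℤ)⟧') ≫ g := hg
  let g₀ : (sgF (J := J)).obj (CohCx.freeSheaf J S.X₂ ⊞ CohCx.freeSheaf J S.X₃) ⟶ B :=
    (shiftFunctor _ (1 : ℤ)).preimage g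
  have hg₀ : g₀⟦(1 : ℤ)⟧' = g := Functor.map_preimage _ _
  have ha₁ : a₁ = (sgF (J := J)).map
      (biprod.lift (CohCx.freeSheafMap J S.f₁₂) (-CohCx.freeSheafMap J S.f₁₃)) ≫ (-g₀) := by
    apply (shiftFunctor (DerivedCategory (Sheaf J AddCommGrpCat.{u})) (1 : ℤ)).map_injective
    rw [hg, ← hg₀, Functor.map_comp, Functor.map_neg, Preadditive.neg_comp, Preadditive.comp_neg]
  refine ⟨(sgF (J := J)).map biprod.inl ≫ (-g₀), (sgF (J := J)).map biprod.inr ≫ (-g₀), ?_⟩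
  rw [sum_eq, ha₁]
  congr 1
  rw [← Category.assoc, ← Category.assoc, ← Preadditive.add_comp, ← Functor.map_comp,
    ← Functor.map_comp, ← Functor.map_add, biprod.total, CategoryTheory.Functor.map_id,
    Category.id_comp]


lemma lemC0 (g : ((sgF (J := J)).obj (CohCx.freeSheaf J S.X₁))⟦(1 : ℤ)⟧ ⟶ B) :
    (sgF (J := J)).map (CohCx.freeSheafMap J S.f₂₄) ≫ δ₀ S ≫ g = 0 ∧
    (sgF (J := J)).map (CohCx.freeSheafMap J S.f₃₄) ≫ δ₀ S ≫ g = 0 := by
  have h : (sgF (J := J)).map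
      (biprod.desc (CohCx.freeSheafMap J S.f₂₄) (CohCx.freeSheafMap J S.f₃₄)) ≫ δ₀ S = 0 :=
    comp_distTriang_mor_zero₂₃ (TT S) (TT_dist S)
  constructor
  · rw [← biprod.inl_desc (CohCx.freeSheafMap J S.f₂₄) (CohCx.freeSheafMap J S.f₃₄),
      Functor.map_comp, Category.assoc, ← Category.assoc _ (δ₀ S), h, Limits.zero_comp,
      Limits.comp_zero]
  · rw [← biprod.inr_desc (CohCx.freeSheafMap J S.f₂₄) (CohCx.freeSheafMap J S.f₃₄),
      Functor.map_comp, Category.assoc, ← Category.assoc _ (δ₀ S), h, Limits.zero_comp,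
      Limits.comp_zero]

lemma lemC1 (c : (sgF (J := J)).obj (CohCx.freeSheaf J S.X₄) ⟶ B)
    (h₂ : (sgF (J := J)).map (CohCx.freeSheafMap J S.f₂₄) ≫ c = 0)
    (h₃ : (sgF (J := J)).map (CohCx.freeSheafMap J S.f₃₄) ≫ c = 0) :
    ∃ g : ((sgF (J := J)).obj (CohCx.freeSheaf J S.X₁))⟦(1 : ℤ)⟧ ⟶ B, c = δ₀ S ≫ g := by
  have h : (TT S).mor₂ ≫ c = 0 := by
    change (sgF (J := J)).map
      (biprod.desc (CohCx.freeSheafMap J S.f₂₄) (CohCx.freeSheafMap J S.f₃₄)) ≫ c = 0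
    rw [biprod.desc_eq, Functor.map_add, Preadditive.add_comp, Functor.map_comp, Functor.map_comp,
      Category.assoc, Category.assoc, h₂, h₃, Limits.comp_zero, Limits.comp_zero, add_zero]
  exact Pretriangulated.Triangle.yoneda_exact₃ (TT S) (TT_dist S) c h


variable (S)

/-- the connecting homomorphism -/
noncomputable def δn (n : ℤ) : CohCx.HDU K n S.X₁ →+ CohCx.HDU K (n + 1) S.X₄ :=
  AddMonoidHom.mk' (fun a₁ => δ₀ S ≫ a₁⟦(1 : ℤ)⟧' ≫
    (shiftFunctorAdd' (DerivedCategory (Sheaf J AddCommGrpCat.{u})) n 1 (n + 1) rfl).inv.app K)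
    (by
      intro a b
      rw [Functor.map_add, Preadditive.add_comp, Preadditive.comp_add])

lemma δn_apply (n : ℤ) (a₁ : CohCx.HDU K n S.X₁) :
    δn S K n a₁ = δ₀ S ≫ a₁⟦(1 : ℤ)⟧' ≫
      (shiftFunctorAdd' (DerivedCategory (Sheaf J AddCommGrpCat.{u})) n 1 (n + 1) rfl).inv.app K := rfl

end


open CategoryTheory.Limits in
/-- As a long exact sequence of cohomology groups rather than a triangle of complexes: let S be a
Mayer-Vietoris square of a site, with corners X₁ (playing the role of the intersection), X₂, X₃ and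
X₄ (the union). For every object K of the derived category of abelian sheaves there are connecting
homomorphisms H^n(X₁, K) -> H^{n+1}(X₄, K) which together with the restriction maps (sum into
H^n(X₂, K) ⊕ H^n(X₃, K), difference out of it) form a long exact sequence ... -> H^n(X₄, K) ->
H^n(X₂, K) ⊕ H^n(X₃, K) -> H^n(X₁, K) -> H^{n+1}(X₄, K) -> .... Here H^n(U, K) is the group of maps
from the free abelian sheaf on U to K[n]. -/
theorem result {C : Type u} [SmallCategory C] {J : GrothendieckTopology C}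
    [HasWeakSheafify J (Type u)] [HasDerivedCategory.{u} (Sheaf J AddCommGrpCat.{u})]
    (S : J.MayerVietorisSquare) (K : DerivedCategory (Sheaf J AddCommGrpCat.{u})) :
    ∃ δ : ∀ n : ℤ, CohCx.HDU K n S.X₁ →+ CohCx.HDU K (n + 1) S.X₄,
      ∀ n : ℤ,
        (ComposableArrows.mk₂
          (AddCommGrpCat.ofHom ((CohCx.HDUres K n S.f₂₄).prod (CohCx.HDUres K n S.f₃₄)))
          (AddCommGrpCat.ofHom ((CohCx.HDUres K n S.f₁₂).coprod (-(CohCx.HDUres K n S.f₁₃))))).Exact ∧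
        (ComposableArrows.mk₂
          (AddCommGrpCat.ofHom ((CohCx.HDUres K n S.f₁₂).coprod (-(CohCx.HDUres K n S.f₁₃))))
          (AddCommGrpCat.ofHom (δ n))).Exact ∧
        (ComposableArrows.mk₂ (AddCommGrpCat.ofHom (δ n))
          (AddCommGrpCat.ofHom ((CohCx.HDUres K (n + 1) S.f₂₄).prod (CohCx.HDUres K (n + 1) S.f₃₄)))).Exact := by
  refine ⟨δn S K, fun n => ⟨exact_mk₂_ab _ _ ?_ ?_, exact_mk₂_ab _ _ ?_ ?_, exact_mk₂_ab _ _ ?_ ?_⟩⟩
  · intro b
    exact lemA0 b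
  · rintro ⟨a₂, a₃⟩ h
    obtain ⟨b, hb₂, hb₃⟩ := lemA1 a₂ a₃ h
    exact ⟨b, Prod.ext hb₂ hb₃⟩
  · rintro ⟨a₂, a₃⟩
    change δ₀ S ≫ ((DerivedCategory.singleFunctor _ 0).map (CohCx.freeSheafMap J S.f₁₂) ≫ a₂ +
      -((DerivedCategory.singleFunctor _ 0).map (CohCx.freeSheafMap J S.f₁₃) ≫ a₃))⟦(1 : ℤ)⟧' ≫ _ = 0
    rw [← Category.assoc, lemB0, Limits.zero_comp]
  · intro a₁ h
    rw [δn_apply, ← Category.assoc] at h
    have h' : δ₀ S ≫ a₁⟦(1 : ℤ)⟧' = 0 := by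
      rw [← cancel_mono ((shiftFunctorAdd' (DerivedCategory (Sheaf J AddCommGrpCat.{u})) n 1 (n + 1) rfl).inv.app K),
        Limits.zero_comp]
      exact h
    obtain ⟨a₂, a₃, h23⟩ := lemB1 a₁ h'
    exact ⟨(a₂, a₃), h23⟩
  · intro a₁
    exact Prod.ext (lemC0 _).1 (lemC0 _).2
  · intro c h
    have h₂ : (DerivedCategory.singleFunctor _ 0).map (CohCx.freeSheafMap J S.f₂₄) ≫ c = 0 :=
      congrArg Prod.fst h
    have h₃ : (DerivedCategory.singleFunctor _ 0).map (CohCx.freeSheafMap J S.f₃₄) ≫ c = 0 :=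
      congrArg Prod.snd h
    obtain ⟨g, hg⟩ := lemC1 c h₂ h₃
    refine ⟨(shiftFunctor _ (1 : ℤ)).preimage (g ≫
      (shiftFunctorAdd' (DerivedCategory (Sheaf J AddCommGrpCat.{u})) n 1 (n + 1) rfl).hom.app K), ?_⟩
    rw [δn_apply, Functor.map_preimage, Category.assoc, Iso.hom_inv_id_app, Category.comp_id, hg]

end Groth.Agent.S0876
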