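import Groth.Statements.S0883
import Groth.Agent.Lib.Helper17Hyp33
-- import your own Groth.Agent.* helpers here

set_option autoImplicit false
universe u
open CategoryTheory
open CohTop

namespace Groth.Agent.S0883

open TopologicalSpace in
/-- Part (1) (abelian sheaves; the assertion about Rf_* K is not included): given a continuous map f : X
-> Y, a basis B of opens of Y and an object K of the derived category of abelian sheaves on X such
that H^i(f^{-1}V, K) = 0 for all i < 0 and V in B. Then H^i(f^{-1}V, K) = 0 for i < 0 and every open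
V of Y, and the presheaf V ↦ H^0(f^{-1}V, K) is a sheaf on Y. -/
theorem result {X Y : TopCat.{u}} (f : X ⟶ Y)
    [HasDerivedCategory.{u} (CohTop.Ab X)] (B : Set (Opens Y)) (hB : Opens.IsBasis B)
    (K : DerivedCategory (CohTop.Ab X))
    (h : ∀ V ∈ B, ∀ i : ℤ, i < 0 → Subsingleton (CohCx.HDU K i ((Opens.map f).obj V))) :
    (∀ (V : Opens Y) (i : ℤ), i < 0 → Subsingleton (CohCx.HDU K i ((Opens.map f).obj V))) ∧
    Presheaf.IsSheaf (Opens.grothendieckTopology Y) ((Opens.map f).op ⋙ CohCx.HDUPresheaf K 0) := by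
  letI : HasDerivedCategory.{u + 1} (Sheaf (Opens.grothendieckTopology Y) AddCommGrpCat.{u}) :=
    HasDerivedCategory.standard _
  haveI : Limits.PreservesFiniteLimits (Groth.Agent.Lib.Helper21.PushAcyc.pull
      (Opens.grothendieckTopology X) (Opens.grothendieckTopology Y) (Opens.map f)) :=
    CategoryTheory.Functor.SmallCategories.instPreservesFiniteLimitsSheafSheafPullbackOfRepresentablyFlat
      (Opens.map f) AddCommGrpCat.{u} (Opens.grothendieckTopology Y) (Opens.grothendieckTopology X)
  refine Groth.Agent.Lib.Helper17.Hyp.negative_vanishing_and_sheaf.{u + 1, u}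
    (Opens.grothendieckTopology X) (Opens.grothendieckTopology Y) (Opens.map f) K B (fun W => ?_) h
  refine ⟨Presieve.ofArrows (fun V : {V : Opens Y // V ∈ B ∧ V ≤ W} => V.1)
    (fun V => homOfLE V.2.2), ?_, ?_⟩
  · intro x hx
    obtain ⟨V, hVB, hxV, hVW⟩ := Opens.isBasis_iff_nbhd.1 hB hx
    exact ⟨V, homOfLE hVW, ⟨V, 𝟙 _, homOfLE hVW,
      Presieve.ofArrows.mk (ι := {V : Opens Y // V ∈ B ∧ V ≤ W}) ⟨V, hVB, hVW⟩,
      Category.id_comp _⟩, hxV⟩
  · rintro V g ⟨i⟩
    exact i.2.1

end Groth.Agent.S0883
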