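import Groth.Statements.S0884
import Groth.Agent.Lib.Helper19PullH
import Groth.Agent.Lib.Helper19PullJ

set_option autoImplicit false
universe u
open CategoryTheory
open CohTop

namespace Groth.Agent.S0884

open TopologicalSpace in
/-- Let f : X -> Y be a spectral map of spectral spaces, y a point of Y, E ⊆ Y the set of points
specializing to y, and F an abelian sheaf on X. Then the stalk (R^p f_* F)_y is isomorphic to
H^p(f^{-1}(E), F|_{f^{-1}(E)}), the cohomology of the pullback of F to the subspace f^{-1}(E). -/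
theorem result {X Y : TopCat.{u}} [SpectralSpace X] [SpectralSpace Y]
    (f : X ⟶ Y) (hf : IsSpectralMap f) (y : Y) (F : CohTop.Ab X) (p : ℕ) :
    Nonempty (CohTop.stalk ((CohTop.Rpush f p).obj F) y ≃+
      CohTop.H ((CohTop.pull (TopCat.ofHom ⟨Subtype.val, continuous_subtype_val⟩ :
          TopCat.of {x : X | y ∈ closure {f x}} ⟶ X)).obj F) p) := by
  classical
  let 𝒱 : Groth.Agent.Lib.Helper19Spec.PO X :=
    { S := {W | ∃ V : TopologicalSpace.Opens Y, IsCompact (V : Set Y) ∧ y ∈ V ∧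
        W = (TopologicalSpace.Opens.map f).obj V}
      qc := by
        rintro _ ⟨V, hV, -, rfl⟩
        exact hf.isCompact_preimage_of_isOpen V.isOpen hV
      inf_mem := by
        rintro _ ⟨V, hV, hyV, rfl⟩ _ ⟨V', hV', hyV', rfl⟩
        exact ⟨V ⊓ V', QuasiSeparatedSpace.inter_isCompact _ _ V.isOpen hV V'.isOpen hV',
          ⟨hyV, hyV'⟩, rfl⟩ }
  have hne : 𝒱.S.Nonempty := ⟨(TopologicalSpace.Opens.map f).obj ⊤, ⊤, isCompact_univ, trivial, rfl⟩
  have hT : 𝒱.T = {x : X | y ∈ closure {f x}} := by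
    ext x
    constructor
    · intro hx
      by_contra hcon
      have hcon' : y ∈ (closure ({f x} : Set Y))ᶜ := hcon
      obtain ⟨N, ⟨hNo, hNc⟩, hyN, hNsub⟩ :=
        PrespectralSpace.isTopologicalBasis.exists_subset_of_mem_open hcon'
          isClosed_closure.isOpen_compl
      have := hx ((TopologicalSpace.Opens.map f).obj ⟨N, hNo⟩) ⟨⟨N, hNo⟩, hNc, hyN, rfl⟩
      exact hNsub this (subset_closure rfl)
    · rintro hc _ ⟨V, -, hyV, rfl⟩
      have hsp : f x ⤳ y := specializes_iff_mem_closure.2 hc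
      exact hsp.mem_open V.isOpen hyV
  have gen : ∀ (T' : Set X), 𝒱.T = T' →
      Nonempty (CohTop.stalk ((CohTop.Rpush f p).obj F) y ≃+
        CohTop.H ((CohTop.pull (TopCat.ofHom ⟨Subtype.val, continuous_subtype_val⟩ :
          TopCat.of T' ⟶ X)).obj F) p) := by
    rintro _ rfl
    have hu : ∀ a : (TopologicalSpace.OpenNhds y)ᵒᵖ,
        𝒱.T ⊆ (((Groth.Agent.Lib.Helper19Pull.uNhds f y).obj a).unop : Set X) := by
      intro a x hx
      rw [hT] at hx
      have hsp : f x ⤳ y := specializes_iff_mem_closure.2 hx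
      exact hsp.mem_open a.unop.1.isOpen a.unop.2
    have good := Groth.Agent.Lib.Helper19Pull.good_coconeU 𝒱.T
      (Groth.Agent.Lib.Helper19Pull.uNhds f y) hu (fun V => V ∈ 𝒱.S)
      (fun V hV => Groth.Agent.Lib.Helper19Pull.T_subset 𝒱 V hV)
      (fun V V' hV hV' => 𝒱.inf_mem V hV V' hV') hne
      (fun F => Groth.Agent.Lib.Helper19Pull.inj0_PO 𝒱 _ (fun V => Iff.rfl) F)
      (fun F => Groth.Agent.Lib.Helper19Pull.surj0_PO 𝒱 _ (fun V => Iff.rfl) F)
      (by
        intro I hI n z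
        have := Groth.Agent.Lib.Helper16.Flasque.injective_isFlasque I
        exact Groth.Agent.Lib.Helper19Pull.ext_eq_zero_of_QCF
          (Groth.Agent.Lib.Helper19Pull.goodBasisT 𝒱 hne) _
          (Groth.Agent.Lib.Helper19Pull.qcf_pull 𝒱 hne I) n z)
      (by
        intro a
        obtain ⟨N, ⟨hNo, hNc⟩, hyN, hNsub⟩ :=
          PrespectralSpace.isTopologicalBasis.exists_subset_of_mem_open a.unop.2 a.unop.1.isOpen
        exact ⟨(TopologicalSpace.Opens.map f).obj ⟨N, hNo⟩, ⟨⟨N, hNo⟩, hNc, hyN, rfl⟩,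
          fun x hx => hNsub hx⟩)
      (by
        rintro a _ ⟨V, -, hyV, rfl⟩
        exact ⟨Opposite.op ⟨a.unop.1 ⊓ V, ⟨a.unop.2, hyV⟩⟩,
          (homOfLE (show (⟨a.unop.1 ⊓ V, ⟨a.unop.2, hyV⟩⟩ : TopologicalSpace.OpenNhds y) ≤ a.unop from
            (TopologicalSpace.OpenNhds.le_def _ _).2 inf_le_left)).op, fun x hx => hx.2⟩)
      F p
    obtain ⟨e⟩ := Groth.Agent.Lib.Helper19Pull.stalk_Rpush_iso f y F p _ good
    exact ⟨e.addCommGroupIsoToAddEquiv.trans
      (Groth.Agent.Lib.Helper23.AffVanish.HETopEquivH (TopCat.of 𝒱.T) _ p)⟩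
  exact gen _ hT

end Groth.Agent.S0884
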