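import Groth.Statements.S0886
import Mathlib
import Groth.Agent.Lib.Helper21PushAcyc
import Groth.Agent.Lib.Helper21DerAcyc
import Groth.Agent.Lib.Helper21FreeConst
-- import your own Groth.Agent.* helpers here

set_option autoImplicit false
set_option linter.unusedSectionVars false
set_option linter.style.haveILetI false
set_option linter.unusedSimpArgs false
set_option linter.unusedVariables false
universe u
open CategoryTheory
open CohSite

namespace Groth.Agent.S0886

section
open CategoryTheory.Limits Opposite Abelian
open Groth.Agent.Lib.Helper21.PushAcyc Groth.Agent.Lib.Helper21.DerAcyc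
  Groth.Agent.Lib.Helper23ExtRD Groth.Agent.Lib.Helper23LocSS Groth.Agent.Lib.Helper21.FreeAb

variable {C D : Type u} [SmallCategory C] [SmallCategory D]
    (J : GrothendieckTopology C) (K : GrothendieckTopology D) (u : C ⥤ D)
    [u.IsCocontinuous J K] [u.IsContinuous J K]

/-- `g⁻¹` is a left adjoint, hence right exact. -/
instance push_preservesFiniteColimits : PreservesFiniteColimits (CohSite.push K J u) :=
  haveI : PreservesColimitsOfSize.{0, 0} (CohSite.push K J u) :=
    (u.sheafAdjunctionCocontinuous AddCommGrpCat.{u} J K).leftAdjoint_preservesColimits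
  PreservesColimitsOfSize.preservesFiniteColimits.{0, 0} _

instance push_preservesFiniteLimits : PreservesFiniteLimits (CohSite.push K J u) :=
  haveI : PreservesLimitsOfSize.{0, 0} (CohSite.push K J u) :=
    (adjP K J u).rightAdjoint_preservesLimits
  PreservesLimitsOfSize.preservesFiniteLimits.{0, 0} _

section main
variable [HasPullbacks C] [PreservesLimitsOfShape WalkingCospan u]
    [HasTerminal C] [PreservesLimit (Functor.empty.{0} C) u]

/-- `u` of the terminal object is terminal. -/
noncomputable def hTD : IsTerminal (u.obj (⊤_ C)) :=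
  IsTerminal.isTerminalObj u (⊤_ C) terminalIsTerminal

/-- `g⁻¹` followed by global sections is global sections. -/
noncomputable def sectionsIso :
    CohSite.push K J u ⋙ (sheafSections J AddCommGrpCat.{u}).obj (op (⊤_ C)) ≅
      (sheafSections K AddCommGrpCat.{u}).obj (op (u.obj (⊤_ C))) :=
  NatIso.ofComponents (fun _ => Iso.refl _) (fun f => by
    simp only [Iso.refl_hom, Category.comp_id, Category.id_comp]
    rfl)

/-- the inverse image of the constant sheaf is the constant sheaf. -/
noncomputable def pullConstIso :
    constantSheaf J AddCommGrpCat.{u} ⋙ pull K J u ≅ constantSheaf K AddCommGrpCat.{u} :=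
  Adjunction.leftAdjointUniq
    ((constantSheafAdj J AddCommGrpCat.{u} terminalIsTerminal).comp (adjP K J u))
    ((constantSheafAdj K AddCommGrpCat.{u} (hTD u)).ofNatIsoRight (sectionsIso J K u).symm)

theorem result' (F : Sheaf K AddCommGrpCat.{u}) (p : ℕ) :
    Nonempty (Sheaf.H ((CohSite.push K J u).obj F) p ≃+ Sheaf.H F p) := by
  haveI : HasFiniteLimits C := hasFiniteLimits_of_hasTerminal_and_pullbacks
  haveI : PreservesLimitsOfShape (Discrete.{0} PEmpty) u :=
    preservesLimitsOfShape_pempty_of_preservesTerminal u
  haveI : PreservesFiniteLimits u := preservesFiniteLimits_of_preservesTerminal_and_pullbacks u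
  haveI : RepresentablyFlat u := flat_of_preservesFiniteLimits u
  haveI : PreservesFiniteLimits (pull K J u) := by
    haveI : PreservesFiniteLimits (u.op.lan :
        (Cᵒᵖ ⥤ AddCommGrpCat.{u}) ⥤ (Dᵒᵖ ⥤ AddCommGrpCat.{u})) := by infer_instance
    apply Functor.sheafPullbackConstruction.preservesFiniteLimits
  haveI : (pull K J u).PreservesMonomorphisms :=
    preservesMonomorphisms_of_preservesLimitsOfShape _
  haveI : (CohSite.push K J u).PreservesInjectiveObjects :=
    Functor.preservesInjectiveObjects_of_adjunction_of_preservesMonomorphisms (adjP K J u)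
  let E := CohSite.push K J u
  let ZC := (constantSheaf J AddCommGrpCat.{u}).obj (AddCommGrpCat.of (ULift ℤ))
  let ZD := (constantSheaf K AddCommGrpCat.{u}).obj (AddCommGrpCat.of (ULift ℤ))
  let G : Sheaf J AddCommGrpCat.{u} ⥤ AddCommGrpCat.{u} := preadditiveCoyoneda.obj (op ZC)
  let G' : Sheaf K AddCommGrpCat.{u} ⥤ AddCommGrpCat.{u} := preadditiveCoyoneda.obj (op ZD)
  have hE : ∀ I : Sheaf K AddCommGrpCat.{u}, Injective I → ∀ q : ℕ, 0 < q →
      IsZero ((G.rightDerived q).obj (E.obj I)) := by
    intro I hI q hq
    obtain ⟨q, rfl⟩ : ∃ k, q = k + 1 := ⟨q - 1, by lia⟩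
    haveI : Injective (E.obj I) := (CohSite.push K J u).injective_obj_of_injective hI
    exact Functor.isZero_rightDerived_obj_injective_succ G q (E.obj I)
  let iso : E ⋙ G ≅ G' :=
    adjCoyonedaIso (adjP K J u) ZC ≪≫
      coyonedaIsoOfIso ((pullConstIso J K u).app (AddCommGrpCat.of (ULift ℤ)))
  obtain ⟨e₁⟩ := nonempty_rightDerived_comp_iso E G hE F p
  let e₂ := (rightDerivedIso iso p).app F
  obtain ⟨e₃⟩ := rightDerived_coyoneda_iso ZC (E.obj F) p
  obtain ⟨e₄⟩ := rightDerived_coyoneda_iso ZD F p
  exact ⟨(e₃.symm ≪≫ e₁.symm ≪≫ e₂ ≪≫ e₄).addCommGroupIsoToAddEquiv⟩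

end main

end


open CategoryTheory.Limits in
/-- Let u : C → D be a functor between sites which is cocontinuous, continuous (it sends coverings to
coverings and commutes with fibre products, which exist in C), fully faithful, and sends a final
object of C to a final object of D. For an abelian sheaf F on D let g^{-1}F be the sheaf U ↦ F(u(U))
on C. Then H^p(C, g^{-1}F) ≅ H^p(D, F) for all p. This is the comparison of global cohomology; the
comparison object by object holds under weaker hypotheses and is a separate statement. -/
theorem result {C D : Type u} [SmallCategory C] [SmallCategory D]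
    (J : GrothendieckTopology C) (K : GrothendieckTopology D) (u : C ⥤ D)
    [u.IsCocontinuous J K] [u.IsContinuous J K] (hu : CoverPreserving J K u) [u.Full] [u.Faithful]
    [HasPullbacks C] [PreservesLimitsOfShape WalkingCospan u]
    [HasTerminal C] [PreservesLimit (Functor.empty.{0} C) u]
    (F : Sheaf K AddCommGrpCat.{u}) (p : ℕ) :
    Nonempty (Sheaf.H ((CohSite.push K J u).obj F) p ≃+ Sheaf.H F p) := by
  exact result' J K u F p

end Groth.Agent.S0886
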