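import Groth.Statements.S0892
import Mathlib
import Groth.Agent.Lib.Helper1PC15
-- import your own Groth.Agent.* helpers here

set_option autoImplicit false
universe u
open CategoryTheory
attribute [local instance] HasDerivedCategory.standard
open DCoh

namespace Groth.Agent.S0892

open AlgebraicGeometry in
/-- Let X be a scheme and E a perfect object of D(O_X). Then the set U of points x such that for every i
the stalk H^i(E)_x is a finite free O_{X,x}-module is open, all cohomology sheaves H^i(E) are finite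
locally free over U, and every open W over which all H^i(E) are finite locally free is contained in
U. (Stated for schemes; the published statement is for ringed spaces all of whose stalks of the
structure sheaf are local rings.) -/
theorem result {X : Scheme.{u}} (E : DCoh.D X) (hE : DCoh.IsPerfect E) :
    ∃ U : X.Opens,
      (U : Set X) = {x : X | ∀ i : ℤ, Module.Free (X.presheaf.stalk x) ((DCoh.HD E i).presheaf.stalk x) ∧
        Module.Finite (X.presheaf.stalk x) ((DCoh.HD E i).presheaf.stalk x)} ∧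
      (∀ i : ℤ, FlatMod.IsFinLocFree ((DCoh.HD E i).restrict U.ι)) ∧
      ∀ W : X.Opens, (∀ i : ℤ, FlatMod.IsFinLocFree ((DCoh.HD E i).restrict W.ι)) → W ≤ U := by
  open Groth.Agent.Lib.Helper1.SPL Groth.Agent.Lib.Helper1.FLF in
  set S : Set X := {x : X | ∀ i : ℤ, Module.Free (X.presheaf.stalk x) ((DCoh.HD E i).presheaf.stalk x) ∧
        Module.Finite (X.presheaf.stalk x) ((DCoh.HD E i).presheaf.stalk x)} with hS
  have hB : ∀ x ∈ S, ∃ W : X.Opens, x ∈ W ∧
      ∀ i : ℤ, FlatMod.IsFinLocFree ((DCoh.HD E i).restrict W.ι) := fun x hx =>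
    exists_opens_isFinLocFree_HD E hE x (fun i => by
      have := (hx i).1
      exact Module.Flat.of_free)
  have hA : ∀ W : X.Opens, (∀ i : ℤ, FlatMod.IsFinLocFree ((DCoh.HD E i).restrict W.ι)) →
      (W : Set X) ⊆ S := fun W hW x hxW i =>
    free_finite_stalk_of_isFinLocFree_restrict (DCoh.HD E i) W.ι (hW i) ⟨x, hxW⟩
  have hopen : IsOpen S := isOpen_iff_forall_mem_open.2 (fun x hx => by
    obtain ⟨W, hxW, hW⟩ := hB x hx
    exact ⟨W, hA W hW, W.isOpen, hxW⟩)
  refine ⟨⟨S, hopen⟩, rfl, fun i => ?_, fun W hW => hA W hW⟩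
  refine isFinLocFree_of_local _ (fun z => ?_)
  obtain ⟨W, hxW, hW⟩ := hB z.1 z.2
  have hle : W ≤ (⟨S, hopen⟩ : X.Opens) := hA W hW
  refine ⟨W, X.homOfLE hle, inferInstance, ⟨⟨z.1, hxW⟩, ?_⟩, ?_⟩
  · exact AlgebraicGeometry.Scheme.homOfLE_apply' hle z.1 hxW
  · exact isFinLocFree_restrict_restrict_of_factor _ W.ι (X.homOfLE hle) (X.homOfLE_ι hle) _ (hW i)

end Groth.Agent.S0892
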