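import Groth.Statements.S0898

set_option autoImplicit false
universe u
open CategoryTheory
open Hyper

namespace Groth.Agent.S0898

open CategoryTheory.Limits

section
variable {C : Type u} [SmallCategory C] (J : GrothendieckTopology C)

lemma isSRCovering_iff {K L : FormalCoproduct.{u} C} (f : K ⟶ L) :
    Hyper.IsSRCovering J f ↔ ∀ j : L.I, ∃ S ∈ J (L.obj j), ∀ ⦃Z : C⦄ (a : Z ⟶ L.obj j), S a →
      ∃ (i : K.I) (hi : f.f i = j) (b : Z ⟶ K.obj i), a = b ≫ f.φ i ≫ eqToHom (congrArg L.obj hi) := by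
  constructor
  · intro h j
    refine ⟨_, h j, fun Z a ha => ?_⟩
    obtain ⟨i, b, hb⟩ := (Sieve.mem_ofArrows_iff _ _ a).1 ha
    exact ⟨i.1, i.2, b, hb⟩
  · intro h j
    obtain ⟨S, hS, hS'⟩ := h j
    refine J.superset_covering ?_ hS
    intro Z a ha
    obtain ⟨i, hi, b, hb⟩ := hS' a ha
    exact (Sieve.mem_ofArrows_iff _ _ a).2 ⟨⟨i, hi⟩, b, hb⟩

end

section
variable {C : Type u} [SmallCategory C] (J : GrothendieckTopology C)

lemma isSRCovering_comp {K L M : FormalCoproduct.{u} C} (f : K ⟶ L) (g : L ⟶ M)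
    (hf : Hyper.IsSRCovering J f) (hg : Hyper.IsSRCovering J g) : Hyper.IsSRCovering J (f ≫ g) := by
  rw [isSRCovering_iff] at hf hg
  intro m
  obtain ⟨Sg, hSg, hSg'⟩ := hg m
  apply J.transitive hSg
  intro Y a ha
  obtain ⟨l, hl, b, hb⟩ := hSg' a ha
  subst hl
  obtain ⟨Sf, hSf, hSf'⟩ := hf l
  refine J.superset_covering ?_ (J.pullback_stable b hSf)
  intro Z c hc
  obtain ⟨i, hi, d, hd⟩ := hSf' _ hc
  subst hi
  change Sieve.ofArrows _ _ (c ≫ a)
  rw [Sieve.mem_ofArrows_iff]
  refine ⟨⟨i, rfl⟩, d, ?_⟩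
  rw [hb, ← Category.assoc, hd]
  simp

end

section
variable {C : Type u} [SmallCategory C] (J : GrothendieckTopology C)

lemma isSRCovering_of_iso {K L : FormalCoproduct.{u} C} (e : K ≅ L) : Hyper.IsSRCovering J e.hom := by
  rw [isSRCovering_iff]
  intro j
  refine ⟨⊤, J.top_mem _, fun Z a _ => ?_⟩
  have h := (FormalCoproduct.hom_ext_iff _ _).1 e.inv_hom_id
  obtain ⟨h1, h2⟩ := h
  have h1j : e.hom.f (e.inv.f j) = j := congrFun h1 j
  refine ⟨e.inv.f j, h1j, a ≫ e.inv.φ j, ?_⟩
  have h2j := h2 j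
  simp only [FormalCoproduct.category_comp_φ, FormalCoproduct.category_id_φ, Category.assoc] at h2j
  rw [Category.assoc, h2j]
  simp

end

section
variable {C : Type u} [SmallCategory C] (J : GrothendieckTopology C) [HasPullbacks C]

lemma aux898 {X Y Z W : C} (p : X ⟶ Z) (q : Y ⟶ Z) (a : W ⟶ X) (b : W ⟶ Y) (h : a ≫ p = b ≫ q)
    (e : X = X) : a = pullback.lift a b h ≫ pullback.fst p q ≫ eqToHom e := by
  rw [eqToHom_refl, Category.comp_id, pullback.lift_fst]

/-- the componentwise pullback cones -/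
noncomputable def pbC {K L L' : FormalCoproduct.{u} C} (f : K ⟶ L) (g : L' ⟶ L)
    (i : Function.Pullback g.f f.f) :
    PullbackCone (g.φ i.1.1 ≫ eqToHom (by rw [i.2])) (f.φ i.1.2) :=
  PullbackCone.mk (pullback.fst _ _) (pullback.snd _ _) pullback.condition

lemma pbC_fst {K L L' : FormalCoproduct.{u} C} (f : K ⟶ L) (g : L' ⟶ L)
    (i : Function.Pullback g.f f.f) : (pbC f g i).fst = pullback.fst _ _ := rfl

noncomputable def pbCIsLimit {K L L' : FormalCoproduct.{u} C} (f : K ⟶ L) (g : L' ⟶ L)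
    (i : Function.Pullback g.f f.f) : IsLimit (pbC f g i) :=
  pullbackIsPullback _ _

lemma isSRCovering_pullbackCone_fst {K L L' : FormalCoproduct.{u} C} (f : K ⟶ L) (g : L' ⟶ L)
    (hf : Hyper.IsSRCovering J f) :
    Hyper.IsSRCovering J (FormalCoproduct.pullbackCone g f (pbC f g)).fst := by
  rw [isSRCovering_iff] at hf ⊢
  intro j'
  obtain ⟨Sf, hSf, hSf'⟩ := hf (g.f j')
  refine ⟨Sf.pullback (g.φ j'), J.pullback_stable _ hSf, fun Z a ha => ?_⟩
  obtain ⟨k, hk, b, hb⟩ := hSf' _ ha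
  let i : Function.Pullback g.f f.f := ⟨(j', k), hk.symm⟩
  refine ⟨i, rfl, pullback.lift a b ?_, ?_⟩
  · dsimp only [i]
    rw [← Category.assoc, hb, Category.assoc, Category.assoc, eqToHom_trans, eqToHom_refl,
      Category.comp_id]
  · simp only [FormalCoproduct.pullbackCone_fst_φ]
    exact aux898 _ _ _ _ _ _

end


open CategoryTheory.Limits in
/-- Parts (1) and (2), about covering morphisms between semi-representable objects (formal coproducts)
of a site: (1) the composite of two covering morphisms is a covering, and (2) for a site with fibre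
products, the base change of a covering K -> L along any L' -> L (which exists) is a covering L' x_L
K -> L'. -/
theorem result {C : Type u} [SmallCategory C] (J : GrothendieckTopology C) :
    (∀ {K L M : FormalCoproduct.{u} C} (f : K ⟶ L) (g : L ⟶ M),
      Hyper.IsSRCovering J f → Hyper.IsSRCovering J g → Hyper.IsSRCovering J (f ≫ g)) ∧
    (∀ [HasPullbacks C] {K L L' : FormalCoproduct.{u} C} (f : K ⟶ L) (g : L' ⟶ L),
      Hyper.IsSRCovering J f → HasPullback g f ∧ ∀ [HasPullback g f], Hyper.IsSRCovering J (pullback.fst g f)) := by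
  refine ⟨fun f g hf hg => isSRCovering_comp J f g hf hg, ?_⟩
  intro _ K L L' f g hf
  have hlim : IsLimit (FormalCoproduct.pullbackCone g f (pbC f g)) :=
    FormalCoproduct.isLimitPullbackCone g f (pbC f g) (pbCIsLimit f g)
  refine ⟨⟨⟨⟨_, hlim⟩⟩⟩, ?_⟩
  intro _
  let e : pullback g f ≅ (FormalCoproduct.pullbackCone g f (pbC f g)).pt :=
    (limit.isLimit (cospan g f)).conePointUniqueUpToIso hlim
  have he : e.hom ≫ (FormalCoproduct.pullbackCone g f (pbC f g)).fst = pullback.fst g f :=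
    IsLimit.conePointUniqueUpToIso_hom_comp _ _ WalkingCospan.left
  rw [← he]
  exact isSRCovering_comp J _ _ (isSRCovering_of_iso J e) (isSRCovering_pullbackCone_fst J f g hf)

end Groth.Agent.S0898
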