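import Groth.Statements.S0905
import Mathlib.CategoryTheory.Sites.Adjunction
import Mathlib.CategoryTheory.Sites.EpiMono
import Mathlib.Algebra.Homology.ShortComplex.ExactFunctor
import Mathlib.Algebra.Homology.DerivedCategory.Ext.EnoughProjectives

set_option autoImplicit false
universe u
open CategoryTheory
open CohSite

namespace Groth.Agent.S0905

open Opposite CategoryTheory.Limits

section
variable {C : Type u} [SmallCategory C] (J : GrothendieckTopology C)

/-- sections over U -/
noncomputable abbrev secU (U : C) : Sheaf J AddCommGrpCat.{u} ⥤ AddCommGrpCat.{u} :=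
  sheafToPresheaf J AddCommGrpCat.{u} ⋙ (evaluation Cᵒᵖ AddCommGrpCat.{u}).obj (op U)

lemma surj_of_epi (U : C) (hU : CohSite.IsWeaklyContractible J U)
    {F G : Sheaf J AddCommGrpCat.{u}} (φ : F ⟶ G) [Epi φ] :
    Function.Surjective (φ.hom.app (op U)) := by
  have h1 : Sheaf.IsLocallySurjective φ := (Sheaf.isLocallySurjective_iff_epi' AddCommGrpCat.{u} φ).2 inferInstance
  have h2 : Sheaf.IsLocallySurjective ((sheafCompose J (forget AddCommGrpCat.{u})).map φ) :=
    inferInstance
  have h3 : Epi ((sheafCompose J (forget AddCommGrpCat.{u})).map φ) := inferInstance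
  exact hU _ _ _ h3

end

section
variable {C : Type u} [SmallCategory C] (J : GrothendieckTopology C)

lemma part1 (U : C) (hU : CohSite.IsWeaklyContractible J U) :
    PreservesFiniteColimits (secU J U) := by
  have hlim : PreservesFiniteLimits (secU J U) := inferInstance
  have h0 := ((Functor.preservesFiniteLimits_tfae (secU J U)).out 3 0).1 hlim
  refine ((Functor.preservesFiniteColimits_tfae (secU J U)).out 0 3).1 ?_
  intro S hS
  refine ⟨(h0 S hS).1, ?_⟩
  have : Epi S.g := hS.epi_g
  exact (AddCommGrpCat.epi_iff_surjective _).2 (surj_of_epi J U hU S.g)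

end

section
variable {C : Type u} [SmallCategory C] (J : GrothendieckTopology C)

/-- the adjunction free-sheaf ⊣ underlying presheaf of sets -/
noncomputable def freeAdj :
    (Functor.whiskeringRight Cᵒᵖ _ _).obj AddCommGrpCat.free.{u} ⋙ presheafToSheaf J AddCommGrpCat.{u} ⊣
      sheafToPresheaf J AddCommGrpCat.{u} ⋙ (Functor.whiskeringRight Cᵒᵖ _ _).obj (forget AddCommGrpCat.{u}) :=
  (AddCommGrpCat.adj.{u}.whiskerRight Cᵒᵖ).comp (sheafificationAdjunction J AddCommGrpCat.{u})

lemma projective_freeSheaf (U : C) (hU : CohSite.IsWeaklyContractible J U) :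
    Projective ((presheafToSheaf J AddCommGrpCat.{u}).obj (yoneda.obj U ⋙ AddCommGrpCat.free.{u})) := by
  refine ⟨fun {E X} f e he => ?_⟩
  -- the section of X corresponding to f
  let x : X.obj.obj (op U) := yonedaEquiv ((freeAdj J).homEquiv (yoneda.obj U) X f)
  obtain ⟨y, hy⟩ := surj_of_epi J U hU e x
  refine ⟨((freeAdj J).homEquiv (yoneda.obj U) E).symm (yonedaEquiv.symm y), ?_⟩
  apply ((freeAdj J).homEquiv (yoneda.obj U) X).injective
  rw [Adjunction.homEquiv_naturality_right, Equiv.apply_symm_apply]
  apply yonedaEquiv.injective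
  rw [yonedaEquiv_comp, Equiv.apply_symm_apply]
  exact hy

end


open Opposite CategoryTheory.Limits in
/-- Parts (1) and (2), for a weakly contractible object U of a site (one over which every epimorphism of
sheaves of sets is surjective on sections): (1) the functor F ↦ F(U) from abelian sheaves to abelian
groups preserves finite colimits (it is exact, finite limits being automatic), and (2) H^p(U, F) = 0
for every abelian sheaf F and every p > 0. (Part (3) about torsors is not included.) -/
theorem result {C : Type u} [SmallCategory C] (J : GrothendieckTopology C)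
    (U : C) (hU : CohSite.IsWeaklyContractible J U) :
    PreservesFiniteColimits (sheafToPresheaf J AddCommGrpCat.{u} ⋙ (evaluation Cᵒᵖ AddCommGrpCat.{u}).obj (op U)) ∧
    ∀ (F : Sheaf J AddCommGrpCat.{u}) (p : ℕ), Subsingleton (CohSite.HU F (p + 1) U) := by
  refine ⟨part1 J U hU, fun F p => ?_⟩
  have := projective_freeSheaf J U hU
  refine ⟨fun x y => ?_⟩
  have key : ∀ z : Abelian.Ext ((presheafToSheaf J AddCommGrpCat.{u}).obj
      (yoneda.obj U ⋙ AddCommGrpCat.free.{u})) F (p + 1), z = 0 :=
    fun z => Abelian.Ext.eq_zero_of_projective z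
  exact (key x).trans (key y).symm

end Groth.Agent.S0905
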