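import Groth.Statements.S0915
import Mathlib
import Groth.Agent.Lib.Helper1CI3
-- import your own Groth.Agent.* helpers here

set_option autoImplicit false
universe u
open CategoryTheory
attribute [local instance] HasDerivedCategory.standard
open DCoh

namespace Groth.Agent.S0915

open AlgebraicGeometry CategoryTheory.Limits

lemma isZero_of_retract {C D : Type*} [Category C] [Category D] [HasZeroMorphisms D]
    (Φ : C ⥤ D) {K Z : C} (i : K ⟶ Z) (p : Z ⟶ K) (h : i ≫ p = 𝟙 K) (hZ : IsZero (Φ.obj Z)) :
    IsZero (Φ.obj K) := by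
  rw [IsZero.iff_id_eq_zero, ← Φ.map_id, ← h, Φ.map_comp]
  rw [hZ.eq_of_tgt (Φ.map i) 0, zero_comp]

open AlgebraicGeometry CategoryTheory.Limits in
/-- On a scheme X, let K and L be objects of D(𝒪_X). If K ⊕ L has tor-amplitude in [a, b] then K and L
each have tor-amplitude in [a, b]. (The hypothesis is taken in the flat-representative form and the
conclusion in the derived-tensor form.) -/
theorem result {X : Scheme.{u}} (K L : DCoh.D X) [HasBinaryBiproduct K L] (a b : ℤ)
    (h : DCoh.HasFlatAmplitudeIn a b (K ⊞ L)) : DCoh.HasTorAmplitudeIn a b K ∧ DCoh.HasTorAmplitudeIn a b L := by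
  obtain ⟨E, hE, hflat, ⟨e⟩⟩ := h
  have key : ∀ (F : X.Modules) [DCoh.HasLTensorMod F] (i : ℤ), (i < a ∨ b < i) →
      IsZero (DCoh.HD ((DCoh.LTensorMod F).obj (K ⊞ L)) i) := by
    intro F _ i hi
    exact IsZero.of_iso
      (Groth.Agent.Lib.Helper1.CI.isZero_HD_ltm_of_vanishesOutside F E a b hE hflat i hi)
      ((DerivedCategory.homologyFunctor X.Modules i).mapIso ((DCoh.LTensorMod F).mapIso e.symm))
  constructor
  · intro F _ i hi
    exact isZero_of_retract (DCoh.LTensorMod F ⋙ DerivedCategory.homologyFunctor X.Modules i)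
      (biprod.inl : K ⟶ K ⊞ L) biprod.fst biprod.inl_fst (key F i hi)
  · intro F _ i hi
    exact isZero_of_retract (DCoh.LTensorMod F ⋙ DerivedCategory.homologyFunctor X.Modules i)
      (biprod.inr : L ⟶ K ⊞ L) biprod.snd biprod.inr_snd (key F i hi)

end Groth.Agent.S0915
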