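import Groth.Statements.S0916
import Mathlib
import Groth.Agent.Lib.Helper1CI4
-- import your own Groth.Agent.* helpers here

set_option autoImplicit false
universe u
open CategoryTheory
attribute [local instance] HasDerivedCategory.standard
open DCoh

namespace Groth.Agent.S0916

open AlgebraicGeometry CategoryTheory.Limits HomologicalComplex
open Groth.Agent.Lib.Helper1.CI Groth.Agent.Lib.Helper1.BKF Groth.Agent.Lib.Helper1.StalkTensor
open Groth.Agent.Lib.Helper21.FlatCalc Groth.Agent.Lib.Helper21.ModTensor5

open AlgebraicGeometry CategoryTheory.Limits in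
/-- Flatness of an O_X-module F (all stalks flat) is equivalent to the following Tor-vanishing: for
every O_X-module G the sheaf Tor_1(F, G), i.e. H^{-1} of F ⊗^L G, vanishes; the existence of the
derived tensor product with every G is assumed (hypothesis hL). -/
theorem result {X : Scheme.{u}} (F : X.Modules) (hL : ∀ G : X.Modules, DCoh.HasLTensorMod G) :
    FlatMod.IsFlat F ↔ ∀ (G : X.Modules) [DCoh.HasLTensorMod G],
      IsZero (DCoh.HD ((DCoh.LTensorMod G).obj (DCoh.inD X F)) (-1)) := by
  constructor
  · intro hF G _
    let E : CochainComplex X.Modules ℤ := (CochainComplex.singleFunctor X.Modules 0).obj F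
    have hE : DCoh.VanishesOutside E 0 0 := by
      intro i hi
      exact HomologicalComplex.isZero_single_obj_X (ComplexShape.up ℤ) 0 F i (by omega)
    have hflat : ∀ i : ℤ, FlatMod.IsFlat (E.X i) := by
      intro i
      by_cases hi : i = 0
      · subst hi
        exact flatMod_isFlat_of_iso
          (HomologicalComplex.singleObjXSelf (ComplexShape.up ℤ) 0 F).symm hF
      · exact flatMod_isFlat_of_isZero _
          (HomologicalComplex.isZero_single_obj_X (ComplexShape.up ℤ) 0 F i hi)
    have h := isZero_HD_ltm_of_vanishesOutside G E 0 0 hE hflat (-1) (Or.inl (by omega))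
    exact IsZero.of_iso h ((DerivedCategory.homologyFunctor X.Modules (-1)).mapIso
      ((DCoh.LTensorMod G).mapIso ((DerivedCategory.singleFunctorIsoCompQ X.Modules 0).app F)))
  · intro h
    obtain ⟨K, q, hK0, hq, hflat⟩ : ∃ (K : CochainComplex X.Modules ℤ)
        (q : K ⟶ (CochainComplex.singleFunctor X.Modules 0).obj F),
        K.IsStrictlyLE 0 ∧ QuasiIso q ∧ ∀ n : ℤ, ModSite.IsFlat (O := X.sheaf) (K.X n) :=
      exists_flat_resolution_site X.sheaf F
    have hiso : IsIso (DerivedCategory.Q.map q) := by
      rw [DerivedCategory.isIso_Q_map_iff_quasiIso]; exact hq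
    have hK : DCoh.IsKFlat K := isKFlat_of_bounded_above_flat (O := X.sheaf) K hflat 0 hK0
    apply isFlat_of_modSite_isFlat
    have hC : ModSite.IsFlat (O := X.sheaf) (cokernel (K.d (-1) 0)) := by
      refine flat_cokernel_site X.sheaf (K.d (-2) (-1)) (K.d (-1) 0) (K.d_comp_d _ _ _) ?_
        (hflat 0)
      intro G
      have := hL G
      have h1 := h G
      have e : DCoh.toD X K ≅ DCoh.inD X F :=
        asIso (DerivedCategory.Q.map q) ≪≫
        ((DerivedCategory.singleFunctorIsoCompQ X.Modules 0).app F).symm
      have h1' : IsZero (DCoh.HD ((DCoh.LTensorMod G).obj (DCoh.toD X K)) (-1)) :=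
        IsZero.of_iso h1 ((DerivedCategory.homologyFunctor X.Modules (-1)).mapIso
          ((DCoh.LTensorMod G).mapIso e))
      have h2 : IsZero (((Ttw G).obj K).homology (-1)) :=
        IsZero.of_iso h1' (HDltmIso G K hK (-1)).symm
      rw [← exactAt_iff_isZero_homology,
        exactAt_iff' _ (-2) (-1) 0 (by simp) (by simp)] at h2
      exact h2
    have := hK0
    have := hq
    have e : cokernel (K.d (-1) 0) ≅ F := cokernelIsoOfQuasiIso (A := X.Modules) q
    exact isFlat_of_iso X.sheaf e hC

end Groth.Agent.S0916
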