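import Groth.Statements.S0919
import Mathlib.CategoryTheory.Adjunction.AdjointFunctorTheorems
import Mathlib.CategoryTheory.Abelian.Subobject
import Mathlib.CategoryTheory.Abelian.GrothendieckCategory.Coseparator

set_option autoImplicit false
universe v u
open CategoryTheory
open CohDer

namespace Groth.Agent.S0919

open CategoryTheory.Limits in
/-- Let A be a Grothendieck abelian category and F a contravariant functor from A to sets (a functor on
the opposite category). Then F is representable if and only if F turns all small colimits of A into
limits, i.e. preserves small limits as a functor on the opposite category. -/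
theorem result {A : Type u} [Category.{v} A] [Abelian A]
    [IsGrothendieckAbelian.{v} A] (F : Aᵒᵖ ⥤ Type v) :
    F.IsRepresentable ↔ PreservesLimitsOfSize.{v, v} F := by
  constructor
  · intro h
    exact preservesLimits_of_natIso F.reprW
  · intro h
    have hF : F.IsRightAdjoint :=
      isRightAdjoint_of_preservesLimits_of_isCoseparating.{v} (isCoseparator_coseparator Aᵒᵖ) F
    let adj := Adjunction.ofIsRightAdjoint F
    let Y : A := Opposite.unop (F.leftAdjoint.obj PUnit.{v+1})
    refine ⟨Y, ⟨{ homEquiv := fun {X} => ?_, homEquiv_comp := ?_ }⟩⟩
    · exact (opEquiv (Opposite.op Y) (Opposite.op X)).symm.trans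
        ((adj.homEquiv PUnit.{v+1} (Opposite.op X)).trans
          (TypeCat.homEquiv.trans (Equiv.funUnique PUnit.{v+1} _)))
    · intro X X' f g
      have h1 := adj.homEquiv_naturality_right (X := PUnit.{v+1}) g.op f.op
      have h2 := congrArg (fun φ => (TypeCat.homEquiv φ) PUnit.unit) h1
      exact h2

end Groth.Agent.S0919
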