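import Groth.Statements.S0923
import Mathlib
import Groth.Agent.Lib.Helper1FLF2
-- import your own Groth.Agent.* helpers here

set_option autoImplicit false
universe u
open CategoryTheory
attribute [local instance] HasDerivedCategory.standard
open DCoh

namespace Groth.Agent.S0923

open AlgebraicGeometry CategoryTheory.Limits Groth.Agent.Lib.Helper1.FLF
  Groth.Agent.Lib.Helper20.LocFree in
/-- finitely many finite locally free modules on an open subscheme become free on a smaller open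
neighbourhood of a given point -/
theorem exists_open_free_terms {X : Scheme.{u}} (V₀ : X.Opens) (x : X) (hx : x ∈ V₀) {J : Type}
    [Finite J] (M : J → (V₀ : Scheme.{u}).Modules) (hM : ∀ j, FlatMod.IsFinLocFree (M j)) :
    ∃ (V : X.Opens) (h : V ≤ V₀), x ∈ V ∧ ∀ j, ∃ n : ℕ,
      Nonempty ((Scheme.Modules.pullback (X.homOfLE h)).obj (M j) ≅
        FlatMod.freeMod (V : Scheme.{u}) n) := by
  obtain ⟨U, n, hxU, e⟩ := exists_common_open M hM (⟨x, hx⟩ : (V₀ : Scheme.{u}))
  let V : X.Opens := V₀.ι ''ᵁ U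
  have h : V ≤ V₀ := by
    intro y hy
    obtain ⟨z, -, rfl⟩ := hy
    exact z.2
  have hxV : x ∈ V := ⟨⟨x, hx⟩, hxU, rfl⟩
  refine ⟨V, h, hxV, fun j => ⟨n j, ⟨?_⟩⟩⟩
  let i := V₀.ι.isoImage U
  have hj : X.homOfLE h = i.inv ≫ U.ι := by
    rw [← cancel_mono V₀.ι, X.homOfLE_ι, Category.assoc]
    exact (V₀.ι.isoImage_inv_ι U).symm
  exact (Scheme.Modules.restrictFunctorIsoPullback (X.homOfLE h)).symm.app (M j) ≪≫
    (Scheme.Modules.restrictFunctorCongr hj).app (M j) ≪≫
    (Scheme.Modules.restrictFunctorComp i.inv U.ι).app (M j) ≪≫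
    (Scheme.Modules.restrictFunctor i.inv).mapIso (e j).some ≪≫ restrictFreeMod i.inv (n j)

open AlgebraicGeometry CategoryTheory.Limits in
lemma isZero_freeMod_zero (X : Scheme.{u}) : IsZero (FlatMod.freeMod X 0) := by
  rw [IsZero.iff_id_eq_zero]
  apply Sigma.hom_ext
  intro i
  exact i.elim0

open AlgebraicGeometry CategoryTheory.Limits Groth.Agent.Lib.Helper1.FLF
  Groth.Agent.Lib.Helper1.Sky Groth.Agent.Lib.Helper2.LocFree in
theorem aux {X : Scheme.{u}} (E : DCoh.D X) :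
    DCoh.IsPerfect E ↔ ∀ x : X, ∃ V : X.Opens, x ∈ V ∧
      ∀ F : CochainComplex X.Modules ℤ, Nonempty (DCoh.toD X F ≅ E) →
        ∃ (P : CochainComplex (V : Scheme.{u}).Modules ℤ) (a b : ℤ), DCoh.VanishesOutside P a b ∧
          (∀ i : ℤ, ∃ n : ℕ, Nonempty (P.X i ≅ FlatMod.freeMod (V : Scheme.{u}) n)) ∧
          Nonempty (DerivedCategory.Q.obj ((DCoh.restrictCx V).obj F) ≅ DerivedCategory.Q.obj P) := by
  constructor
  · intro hE x
    obtain ⟨V₀, hx, hV₀⟩ := hE x
    let F₀ := (DerivedCategory.Q (C := X.Modules)).objPreimage E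
    have e₀ : DerivedCategory.Q.obj F₀ ≅ E := (DerivedCategory.Q (C := X.Modules)).objObjPreimageIso E
    obtain ⟨E₀, hE₀, ⟨i₀⟩⟩ := hV₀ F₀ ⟨e₀⟩
    have hE₀' := hE₀
    obtain ⟨⟨a, b, hv⟩, hfl⟩ := hE₀
    obtain ⟨V, h, hxV, hfree⟩ := exists_open_free_terms V₀ x hx
      (fun j : Set.Icc a b => E₀.X j.1) (fun j => hfl j.1)
    refine ⟨V, hxV, fun F ⟨eF⟩ => ?_⟩
    haveI : DCoh.HasLpull V₀.ι := hasLpull _
    have i1 : DerivedCategory.Q.obj ((DCoh.restrictCx V₀).obj F) ≅ DerivedCategory.Q.obj E₀ :=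
      (lpullOpenIso V₀ F).symm ≪≫ (DCoh.Lpull V₀.ι).mapIso (eF ≪≫ e₀.symm) ≪≫
        lpullOpenIso V₀ F₀ ≪≫ i₀
    obtain ⟨r⟩ := nonempty_restrict_iso F h E₀ (kffs_of_isStrictlyPerfect E₀ hE₀').1 i1
    refine ⟨(pullC (X.homOfLE h)).obj E₀, a, b, fun i hi => ?_, fun i => ?_,
      ⟨DerivedCategory.Q.mapIso ((restrictCxIso V).app F) ≪≫ r⟩⟩
    · exact (Scheme.Modules.pullback (X.homOfLE h)).map_isZero (hv i hi)
    · by_cases hi : a ≤ i ∧ i ≤ b
      · exact hfree ⟨i, hi⟩
      · refine ⟨0, ⟨IsZero.iso ?_ (isZero_freeMod_zero _)⟩⟩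
        refine (Scheme.Modules.pullback (X.homOfLE h)).map_isZero (hv i ?_)
        by_contra hcon
        exact hi ⟨by omega, by omega⟩
  · intro h x
    obtain ⟨V, hxV, hV⟩ := h x
    refine ⟨V, hxV, fun F hF => ?_⟩
    obtain ⟨P, a, b, hv, hfree, hiso⟩ := hV F hF
    refine ⟨P, ⟨⟨a, b, hv⟩, fun i => ?_⟩, hiso⟩
    obtain ⟨n, ⟨e⟩⟩ := hfree i
    exact isFinLocFree_of_iso_freeMod _ e

open AlgebraicGeometry CategoryTheory.Limits in
/-- On a scheme X, an object E of D(𝒪_X) is perfect if and only if every point has an open neighbourhood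
V such that the restriction to V of any complex representing E is isomorphic in D(𝒪_V) to a bounded
complex each of whose terms is isomorphic to a finite free 𝒪_V-module. (The published statement is
for ringed spaces whose stalks are local rings and lists further equivalent conditions; here X is a
scheme and only this equivalence is stated.) -/
theorem result {X : Scheme.{u}} (E : DCoh.D X) :
    DCoh.IsPerfect E ↔ ∀ x : X, ∃ V : X.Opens, x ∈ V ∧
      ∀ F : CochainComplex X.Modules ℤ, Nonempty (DCoh.toD X F ≅ E) →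
        ∃ (P : CochainComplex (V : Scheme.{u}).Modules ℤ) (a b : ℤ), DCoh.VanishesOutside P a b ∧
          (∀ i : ℤ, ∃ n : ℕ, Nonempty (P.X i ≅ FlatMod.freeMod (V : Scheme.{u}) n)) ∧
          Nonempty (DerivedCategory.Q.obj ((DCoh.restrictCx V).obj F) ≅ DerivedCategory.Q.obj P) := by
  exact aux E

end Groth.Agent.S0923
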