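import Groth.Statements.S0926
import Mathlib
import Groth.Agent.Lib.Helper16IrredConst
-- import your own Groth.Agent.* helpers here

set_option autoImplicit false
universe u
open CategoryTheory
open CohTop

namespace Groth.Agent.S0926

open TopologicalSpace Opposite CategoryTheory.Limits


open Groth.Agent.Lib.Helper16.IrredConst

variable {X : TopCat.{u}} [IrreducibleSpace X]

/-- value of a section of `cS` -/
def val {V : Opens X} (t : (cS X (ULift.{u} ℤ)).obj.obj (op V)) (hV : (V : Set X).Nonempty) : ℤ :=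
  (t ⟨hV⟩).down

lemma cS_ext {V : Opens X} (t t' : (cS X (ULift.{u} ℤ)).obj.obj (op V))
    (h : ∀ hV : (V : Set X).Nonempty, val t hV = val t' hV) : t = t' := by
  funext hV
  exact ULift.ext _ _ (h hV.down)

lemma val_add {V : Opens X} (t t' : (cS X (ULift.{u} ℤ)).obj.obj (op V)) (hV : (V : Set X).Nonempty) :
    val (t + t') hV = val t hV + val t' hV := rfl

lemma val_zsmul {V : Opens X} (n : ℤ) (t : (cS X (ULift.{u} ℤ)).obj.obj (op V)) (hV : (V : Set X).Nonempty) :
    val (n • t) hV = n * val t hV := by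
  have : ∀ (f : PLift ((V : Set X).Nonempty) → ULift.{u} ℤ),
      ((n • f) ⟨hV⟩).down = n * (f ⟨hV⟩).down := by
    intro f; simp
  exact this t

lemma val_neg {V : Opens X} (t : (cS X (ULift.{u} ℤ)).obj.obj (op V)) (hV : (V : Set X).Nonempty) :
    val (-t) hV = - val t hV := rfl

lemma val_res {V W : Opens X} (i : W ⟶ V) (t : (cS X (ULift.{u} ℤ)).obj.obj (op V))
    (hW : (W : Set X).Nonempty) (hV : (V : Set X).Nonempty) :
    val ((cS X (ULift.{u} ℤ)).obj.map i.op t) hW = val t hV := rfl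

variable (H : CohTop.Ab X) (ι' : H ⟶ cS X (ULift.{u} ℤ))

lemma val_ι_res {V W : Opens X} (i : W ⟶ V) (s : H.obj.obj (op V))
    (hW : (W : Set X).Nonempty) (hV : (V : Set X).Nonempty) :
    val (ι'.hom.app (op W) (H.obj.map i.op s)) hW = val (ι'.hom.app (op V) s) hV := by
  have := ConcreteCategory.congr_hom (ι'.hom.naturality i.op) s
  change ι'.hom.app (op W) (H.obj.map i.op s) = (cS X (ULift.{u} ℤ)).obj.map i.op (ι'.hom.app (op V) s) at this
  rw [this]
  rfl

theorem key : ∃ (U₀ : Opens X) (d : ℤ), U₀ ≠ ⊥ ∧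
    (∀ V : Opens X, V ≤ U₀ → ∀ (s : H.obj.obj (op V)) (hV : (V : Set X).Nonempty),
      d ∣ val (ι'.hom.app (op V) s) hV) ∧
    (∀ V : Opens X, V ≤ U₀ → ∀ t : (cS X (ULift.{u} ℤ)).obj.obj (op V),
      ∃ s : H.obj.obj (op V), ι'.hom.app (op V) s = d • t) := by
  classical
  by_cases hS : ∃ n : ℕ, 0 < n ∧ ∃ (U : Opens X) (hU : (U : Set X).Nonempty) (s : H.obj.obj (op U)),
      val (ι'.hom.app (op U) s) hU = n
  · obtain ⟨hd, U₀, hU₀, s₀, hs₀⟩ := Nat.find_spec hS
    set d := Nat.find hS with hd_def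
    refine ⟨U₀, (d : ℤ), ?_, ?_, ?_⟩
    · intro h
      rw [h] at hU₀
      simp at hU₀
    · intro V hVU s hV
      set m := val (ι'.hom.app (op V) s) hV with hm
      -- r = m % d
      have hr0 : 0 ≤ m % (d : ℤ) := Int.emod_nonneg _ (by exact_mod_cast hd.ne')
      have hrd : m % (d : ℤ) < d := Int.emod_lt_of_pos _ (by exact_mod_cast hd)
      by_contra hnd
      have hrne : m % (d : ℤ) ≠ 0 := fun h => hnd (Int.dvd_of_emod_eq_zero h)
      -- the section s - (m / d) • s₀|_V has value m % d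
      let s' : H.obj.obj (op V) := s - (m / (d : ℤ)) • H.obj.map (homOfLE hVU).op s₀
      have hs' : val (ι'.hom.app (op V) s') hV = m % (d : ℤ) := by
        have h1 : ι'.hom.app (op V) s' = ι'.hom.app (op V) s -
            (m / (d : ℤ)) • ι'.hom.app (op V) (H.obj.map (homOfLE hVU).op s₀) := by
          simp only [s', map_sub, map_zsmul]
        rw [h1, sub_eq_add_neg, val_add, val_neg, val_zsmul, val_ι_res H ι' (homOfLE hVU) s₀ hV hU₀,
          hs₀, ← hm, Int.emod_def]
        ring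
      have hpos : 0 < (m % (d : ℤ)).toNat := by
        rw [Int.lt_toNat]; exact lt_of_le_of_ne hr0 (Ne.symm hrne)
      have hlt : (m % (d : ℤ)).toNat < d := by
        rw [Int.toNat_lt hr0]; exact hrd
      exact Nat.find_min hS hlt ⟨hpos, V, hV, s', by rw [hs', Int.toNat_of_nonneg hr0]⟩
    · intro V hVU t
      by_cases hV : (V : Set X).Nonempty
      · refine ⟨(val t hV) • H.obj.map (homOfLE hVU).op s₀, ?_⟩
        apply cS_ext
        intro hV'
        rw [map_zsmul, val_zsmul, val_zsmul, val_ι_res H ι' (homOfLE hVU) s₀ hV' hU₀, hs₀]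
        ring
      · refine ⟨0, ?_⟩
        apply cS_ext
        intro hV'
        exact absurd hV' hV
  · refine ⟨⊤, 0, ?_, ?_, ?_⟩
    · intro h
      have := top_nonempty (X := X)
      rw [h] at this
      simp at this
    · intro V _ s hV
      have : val (ι'.hom.app (op V) s) hV = 0 := by
        by_contra hne
        rcases lt_or_gt_of_ne hne with hlt | hgt
        · refine hS ⟨(- val (ι'.hom.app (op V) s) hV).toNat, ?_, V, hV, -s, ?_⟩
          · rw [Int.lt_toNat]; simpa using hlt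
          · rw [map_neg, val_neg, Int.toNat_of_nonneg (by linarith)]
        · refine hS ⟨(val (ι'.hom.app (op V) s) hV).toNat, ?_, V, hV, s, ?_⟩
          · rw [Int.lt_toNat]; simpa using hgt
          · rw [Int.toNat_of_nonneg (by linarith)]
      rw [this]
    · intro V _ t
      exact ⟨0, by rw [map_zero, zero_smul]⟩


lemma imageSubobject_eq_of_factor {C : Type*} [Category C] [Abelian C] {A B Y : C} (f : A ⟶ Y) (g : B ⟶ Y)
    (a : A ⟶ B) (b : B ⟶ A) (ha : a ≫ g = f) (hb : b ≫ f = g) :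
    imageSubobject f = imageSubobject g := by
  apply le_antisymm
  · have := imageSubobject_comp_le a g
    rwa [ha] at this
  · have := imageSubobject_comp_le b f
    rwa [hb] at this

/-- image of an open of `U` in `X`. -/
abbrev img (U : Opens X) (W : Opens (TopCat.of U)) : Opens X :=
  (U.isOpenEmbedding.isOpenMap.functor).obj W

lemma img_le (U : Opens X) (W : Opens (TopCat.of U)) : img U W ≤ U := by
  rintro _ ⟨x, _, rfl⟩
  exact x.2

lemma zsmul_app_apply (K : CohTop.Ab X) (d : ℤ) (V : Opens X) (t : K.obj.obj (op V)) :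
    (d • 𝟙 K : K ⟶ K).hom.app (op V) t = d • t := rfl

section AB

variable {H} {ι'} (U₀ : Opens X) (d : ℤ)
  (h1 : ∀ V : Opens X, V ≤ U₀ → ∀ (s : H.obj.obj (op V)) (hV : (V : Set X).Nonempty),
      d ∣ val (ι'.hom.app (op V) s) hV)
  (h2 : ∀ V : Opens X, V ≤ U₀ → ∀ t : (cS X (ULift.{u} ℤ)).obj.obj (op V),
      ∃ s : H.obj.obj (op V), ι'.hom.app (op V) s = d • t)

include h1 in
/-- division by `d`, on an open of `X` contained in `U₀`. -/
noncomputable def aV (V : Opens X) (hVU : V ≤ U₀) :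
    H.obj.obj (op V) →+ (cS X (ULift.{u} ℤ)).obj.obj (op V) where
  toFun := fun s hV => ⟨val (ι'.hom.app (op V) s) hV.down / d⟩
  map_zero' := by
    funext hV
    apply ULift.ext
    change val (ι'.hom.app (op V) 0) hV.down / d = 0
    rw [map_zero]
    exact Int.zero_ediv d
  map_add' := fun s s' => by
    funext hV
    apply ULift.ext
    change val (ι'.hom.app (op V) (s + s')) hV.down / d =
      val (ι'.hom.app (op V) s) hV.down / d + val (ι'.hom.app (op V) s') hV.down / d
    rw [map_add, val_add]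
    exact Int.add_ediv_of_dvd_left (h1 _ hVU s hV.down)

lemma val_aV (V : Opens X) (hVU : V ≤ U₀) (s : H.obj.obj (op V)) (hV : (V : Set X).Nonempty) :
    val (aV U₀ d h1 V hVU s) hV = val (ι'.hom.app (op V) s) hV / d := rfl

lemma aV_nat {V V' : Opens X} (hVU : V ≤ U₀) (hVU' : V' ≤ U₀) (i : V' ⟶ V) (s : H.obj.obj (op V)) :
    aV U₀ d h1 V' hVU' (H.obj.map i.op s) =
      (cS X (ULift.{u} ℤ)).obj.map i.op (aV U₀ d h1 V hVU s) := by
  apply cS_ext
  intro hV'
  have hV : (V : Set X).Nonempty := hV'.mono i.le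
  rw [val_aV, val_res i _ hV' hV, val_aV, val_ι_res H ι' i s hV' hV]

lemma aV_mul (V : Opens X) (hVU : V ≤ U₀) (s : H.obj.obj (op V)) :
    d • aV U₀ d h1 V hVU s = ι'.hom.app (op V) s := by
  apply cS_ext
  intro hV
  rw [val_zsmul, val_aV]
  exact Int.mul_ediv_cancel' (h1 V hVU s hV)

/-- division by `d`. -/
noncomputable def a' : (CohTop.restrFunctor U₀).obj H ⟶ (CohTop.restrFunctor U₀).obj (cS X (ULift.{u} ℤ)) :=
  ⟨{ app := fun W => AddCommGrpCat.ofHom (aV U₀ d h1 (img U₀ W.unop) (img_le U₀ _))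
     naturality := fun W W' i => by
        ext s
        exact aV_nat U₀ d h1 (img_le U₀ _) (img_le U₀ _)
          ((U₀.isOpenEmbedding.isOpenMap.functor).map i.unop) s }⟩

lemma a'_comp : a' U₀ d h1 ≫ (CohTop.restrFunctor U₀).map (d • 𝟙 (cS X (ULift.{u} ℤ))) =
    (CohTop.restrFunctor U₀).map ι' := by
  apply Sheaf.hom_ext
  ext W s
  exact aV_mul U₀ d h1 (img U₀ W.unop) (img_le U₀ _) s

variable (hinj : ∀ V : Opens X, Function.Injective (ι'.hom.app (op V)))

include h2 hinj in
/-- multiplication by `d`, lifted to `H`. -/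
noncomputable def bV (V : Opens X) (hVU : V ≤ U₀) :
    (cS X (ULift.{u} ℤ)).obj.obj (op V) →+ H.obj.obj (op V) where
  toFun := fun t => (h2 V hVU t).choose
  map_zero' := by
    apply hinj V
    rw [(h2 V hVU 0).choose_spec, map_zero, smul_zero]
  map_add' := fun t t' => by
    apply hinj V
    rw [(h2 V hVU (t + t')).choose_spec, map_add, (h2 V hVU t).choose_spec,
      (h2 V hVU t').choose_spec, smul_add]

lemma ι_bV (V : Opens X) (hVU : V ≤ U₀) (t : (cS X (ULift.{u} ℤ)).obj.obj (op V)) :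
    ι'.hom.app (op V) (bV U₀ d h2 hinj V hVU t) = d • t := (h2 V hVU t).choose_spec

lemma bV_nat {V V' : Opens X} (hVU : V ≤ U₀) (hVU' : V' ≤ U₀) (i : V' ⟶ V)
    (t : (cS X (ULift.{u} ℤ)).obj.obj (op V)) :
    bV U₀ d h2 hinj V' hVU' ((cS X (ULift.{u} ℤ)).obj.map i.op t) =
      H.obj.map i.op (bV U₀ d h2 hinj V hVU t) := by
  apply hinj V'
  rw [ι_bV]
  have := ConcreteCategory.congr_hom (ι'.hom.naturality i.op) (bV U₀ d h2 hinj V hVU t)
  change ι'.hom.app (op V') (H.obj.map i.op (bV U₀ d h2 hinj V hVU t)) =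
    (cS X (ULift.{u} ℤ)).obj.map i.op (ι'.hom.app (op V) (bV U₀ d h2 hinj V hVU t)) at this
  rw [this, ι_bV, map_zsmul]

noncomputable def b' : (CohTop.restrFunctor U₀).obj (cS X (ULift.{u} ℤ)) ⟶ (CohTop.restrFunctor U₀).obj H :=
  ⟨{ app := fun W => AddCommGrpCat.ofHom (bV U₀ d h2 hinj (img U₀ W.unop) (img_le U₀ _))
     naturality := fun W W' i => by
        ext t
        exact bV_nat U₀ d h2 hinj (img_le U₀ _) (img_le U₀ _)
          ((U₀.isOpenEmbedding.isOpenMap.functor).map i.unop) t }⟩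

lemma b'_comp : b' U₀ d h2 hinj ≫ (CohTop.restrFunctor U₀).map ι' =
    (CohTop.restrFunctor U₀).map (d • 𝟙 (cS X (ULift.{u} ℤ))) := by
  apply Sheaf.hom_ext
  ext W t
  exact ι_bV U₀ d h2 hinj (img U₀ W.unop) (img_le U₀ _) t

end AB


open TopologicalSpace CategoryTheory.Limits in
/-- Let X be an irreducible topological space and H an abelian subsheaf of the constant sheaf Z (given
by a monomorphism ι). Then there are a nonempty open U and an integer d such that over U the
subsheaf H coincides with the image of multiplication by d on the constant sheaf: the images of ι|_U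
and of (d · id)|_U agree as subobjects of the constant sheaf on U. -/
theorem result {X : TopCat.{u}} [IrreducibleSpace X]
    (H : CohTop.Ab X) (ι : H ⟶ CohTop.const X (ULift.{u} ℤ)) [Mono ι] :
    ∃ (U : Opens X) (d : ℤ), U ≠ ⊥ ∧
      imageSubobject ((CohTop.restrFunctor U).map ι) =
        imageSubobject ((CohTop.restrFunctor U).map (d • 𝟙 (CohTop.const X (ULift.{u} ℤ)))) := by
  let e := constIso X (ULift.{u} ℤ)
  let ι' : H ⟶ cS X (ULift.{u} ℤ) := ι ≫ e.hom
  have hinj : ∀ V : Opens X, Function.Injective (ι'.hom.app (op V)) := by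
    intro V
    haveI : Mono ι' := mono_comp _ _
    haveI : Mono ι'.hom := (sheafToPresheaf _ _).map_mono ι'
    haveI : Mono (ι'.hom.app (op V)) := inferInstance
    exact (AddCommGrpCat.mono_iff_injective _).1 inferInstance
  obtain ⟨U₀, d, hU₀, h1, h2⟩ := key H ι'
  refine ⟨U₀, d, hU₀, ?_⟩
  set R := CohTop.restrFunctor U₀ with hR
  have h3 : e.inv ≫ (d • 𝟙 (CohTop.const X (ULift.{u} ℤ))) =
      (d • 𝟙 (cS X (ULift.{u} ℤ))) ≫ e.inv := by
    rw [Preadditive.comp_zsmul, Preadditive.zsmul_comp, Category.comp_id, Category.id_comp]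
  have h4 : e.hom ≫ (d • 𝟙 (cS X (ULift.{u} ℤ))) =
      (d • 𝟙 (CohTop.const X (ULift.{u} ℤ))) ≫ e.hom := by
    rw [Preadditive.comp_zsmul, Preadditive.zsmul_comp, Category.comp_id, Category.id_comp]
  have h5 : ι' ≫ e.inv = ι := by
    change (ι ≫ e.hom) ≫ e.inv = ι
    rw [Category.assoc, e.hom_inv_id, Category.comp_id]
  apply imageSubobject_eq_of_factor _ _ (a' U₀ d h1 ≫ R.map e.inv) (R.map e.hom ≫ b' U₀ d h2 hinj)
  · rw [Category.assoc, ← R.map_comp, h3, R.map_comp, ← Category.assoc, a'_comp, ← R.map_comp, h5]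
  · rw [← h5, R.map_comp, Category.assoc, ← Category.assoc (b' U₀ d h2 hinj), b'_comp,
      ← R.map_comp, ← R.map_comp, ← Category.assoc, h4, Category.assoc, e.hom_inv_id, Category.comp_id]

end Groth.Agent.S0926
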