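import Groth.Statements.S0934
import Mathlib
import Groth.Agent.Lib.Helper4ModEpi
-- import your own Groth.Agent.* helpers here

set_option autoImplicit false
universe u
open CategoryTheory
open Coh

namespace Groth.Agent.S0934

open AlgebraicGeometry CategoryTheory.Limits Opposite

variable {Y : Scheme.{u}}

/-- the element `1` of the structure sheaf, seen in the unit module. -/
noncomputable def one (Y : Scheme.{u}) (W : Y.Opens) : Γ(Coh.structureModule Y, W) :=
  (1 : Γ(Y, W))

lemma unit_map_one {W W' : Y.Opens} (i : W ⟶ W') :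
    (Coh.structureModule Y).presheaf.map i.op (one Y W') = one Y W := by
  show Y.presheaf.map i.op (1 : Γ(Y, W')) = (1 : Γ(Y, W))
  exact map_one _

/-- a morphism from the structure sheaf is determined by its value on `1` over `⊤`. -/
lemma hom_ext_of_app_top {M : Y.Modules} (t t' : Coh.structureModule Y ⟶ M)
    (h : t.app ⊤ (one Y ⊤) = t'.app ⊤ (one Y ⊤)) : t = t' := by
  apply (SheafOfModules.unitHomEquiv M).injective
  apply PresheafOfModules.sections_ext
  intro W
  have hW : ∀ s : Coh.structureModule Y ⟶ M, s.app W.unop (one Y W.unop) =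
      M.presheaf.map (homOfLE le_top : W.unop ⟶ ⊤).op (s.app ⊤ (one Y ⊤)) := by
    intro s
    have := congr($(s.mapPresheaf.naturality (homOfLE le_top : W.unop ⟶ ⊤).op) (one Y ⊤))
    simp only [Scheme.Modules.mapPresheaf_app] at this
    rw [ConcreteCategory.comp_apply, ConcreteCategory.comp_apply] at this
    rw [← this, unit_map_one]
  exact (hW t).trans ((congrArg _ h).trans (hW t').symm)


/-- every section over `⊤` comes from a morphism out of the structure sheaf. -/
lemma exists_hom_of_section (M : Y.Modules) (g : Γ(M, ⊤)) :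
    ∃ t : Coh.structureModule Y ⟶ M, t.app ⊤ (one Y ⊤) = g := by
  let σ : SheafOfModules.sections M := PresheafOfModules.sectionsMk
    (fun W => M.presheaf.map (homOfLE le_top : W.unop ⟶ ⊤).op g)
    (fun W W' i => by
      show M.presheaf.map i (M.presheaf.map (homOfLE le_top : W.unop ⟶ ⊤).op g) =
        M.presheaf.map (homOfLE le_top : W'.unop ⟶ ⊤).op g
      rw [← ConcreteCategory.comp_apply, ← Functor.map_comp]
      rfl)
  refine ⟨(SheafOfModules.unitHomEquiv M).symm σ, ?_⟩
  have h := congrArg (fun τ : SheafOfModules.sections M => τ.1 (op ⊤))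
    ((SheafOfModules.unitHomEquiv M).apply_symm_apply σ)
  have h2 : σ.1 (op ⊤) = g := by
    show M.presheaf.map (homOfLE le_top : (⊤ : Y.Opens) ⟶ ⊤).op g = g
    have : (homOfLE le_top : (⊤ : Y.Opens) ⟶ ⊤) = 𝟙 _ := rfl
    rw [this, op_id, CategoryTheory.Functor.map_id]
    rfl
  exact h.trans h2


/-- lifting a map out of a free module through `p'`, after restriction along `j`, from lifts of
the generators. -/
lemma exists_lift_of_free {W : Scheme.{u}} (j : W ⟶ Y) [IsOpenImmersion j] {E' F' G' : Y.Modules}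
    (n : ℕ) (e : E' ≅ FlatMod.freeMod Y n) (p' : G' ⟶ F') (φ' : E' ⟶ F')
    (t : Fin n → (Coh.structureModule W ⟶ G'.restrict j))
    (ht : ∀ i, t i ≫ (Scheme.Modules.restrictFunctor j).map p' =
      (Scheme.Modules.restrictUnitIso j).inv ≫ (Scheme.Modules.restrictFunctor j).map
        (Sigma.ι (fun _ : Fin n => Coh.structureModule Y) i ≫ e.inv ≫ φ')) :
    ∃ ψ : E'.restrict j ⟶ G'.restrict j,
      ψ ≫ (Scheme.Modules.restrictFunctor j).map p' = (Scheme.Modules.restrictFunctor j).map φ' := by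
  let rf := Scheme.Modules.restrictFunctor j
  have hc : IsColimit (Cofan.mk (rf.obj (∐ fun _ : Fin n => Coh.structureModule Y))
      (fun i => rf.map (Sigma.ι (fun _ : Fin n => Coh.structureModule Y) i))) :=
    isColimitOfHasCoproductOfPreservesColimit rf _
  let d : rf.obj (FlatMod.freeMod Y n) ⟶ G'.restrict j :=
    Cofan.IsColimit.desc hc (fun i => (Scheme.Modules.restrictUnitIso j).hom ≫ t i)
  have hd : ∀ i, rf.map (Sigma.ι (fun _ : Fin n => Coh.structureModule Y) i) ≫ d =
      (Scheme.Modules.restrictUnitIso j).hom ≫ t i := fun i =>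
    Cofan.IsColimit.fac hc _ i
  refine ⟨rf.map e.hom ≫ d, ?_⟩
  rw [← cancel_epi (rf.map e.inv)]
  rw [← Category.assoc, ← Category.assoc, ← rf.map_comp, e.inv_hom_id, rf.map_id, Category.id_comp]
  apply Cofan.IsColimit.hom_ext hc
  intro i
  show rf.map (Sigma.ι (fun _ : Fin n => Coh.structureModule Y) i) ≫ d ≫ rf.map p' =
    rf.map (Sigma.ι (fun _ : Fin n => Coh.structureModule Y) i) ≫ rf.map e.inv ≫ rf.map φ'
  rw [← Category.assoc, hd i, Category.assoc, ht i, Iso.hom_inv_id_assoc, rf.map_comp, rf.map_comp]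


lemma image_congr {W : Scheme.{u}} {f g : W ⟶ Y} [IsOpenImmersion f] [IsOpenImmersion g]
    (h : f = g) (T : W.Opens) : f ''ᵁ T = g ''ᵁ T := by
  subst h; rfl

lemma restrictUnitIso_inv_app_one {W : Scheme.{u}} (j : W ⟶ Y) [IsOpenImmersion j] :
    (Scheme.Modules.restrictUnitIso j).inv.app ⊤ (one W ⊤) = one Y (j ''ᵁ ⊤) := by
  have h : (Scheme.Modules.restrictUnitIso j).hom.app ⊤ (one Y (j ''ᵁ ⊤)) = one W ⊤ := by
    show (j.appIso ⊤).hom.hom (1 : Γ(Y, j ''ᵁ ⊤)) = (1 : Γ(W, ⊤))
    exact map_one _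
  rw [← h, ← ConcreteCategory.comp_apply, ← Scheme.Modules.Hom.comp_app, Iso.hom_inv_id]
  rfl

open AlgebraicGeometry in
/-- Schemes; E finite locally free, which on a scheme is locally the same as a direct summand of a
finite free module: let p : G -> F be an epimorphism of O_X-modules and φ : E -> F a morphism with E
finite locally free. Then every point has an open neighbourhood V and a morphism ψ : E|_V -> G|_V
with ψ ≫ p|_V = φ|_V. -/
theorem result {X : Scheme.{u}} {E F G : X.Modules} (p : G ⟶ F) [Epi p] (φ : E ⟶ F)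
    (hE : FlatMod.IsFinLocFree E) (x : X) :
    ∃ (V : X.Opens) (ψ : E.restrict V.ι ⟶ G.restrict V.ι), x ∈ V ∧
      ψ ≫ (Scheme.Modules.restrictFunctor V.ι).map p = (Scheme.Modules.restrictFunctor V.ι).map φ := by
  obtain ⟨U, n, hxU, ⟨e⟩⟩ := hE x
  let rfU := Scheme.Modules.restrictFunctor U.ι
  let a : Fin n → (Coh.structureModule ↑U ⟶ F.restrict U.ι) := fun i =>
    Sigma.ι (fun _ : Fin n => Coh.structureModule ↑U) i ≫ e.inv ≫ rfU.map φ
  let s : Fin n → Γ(F, U.ι ''ᵁ ⊤) := fun i => (a i).app ⊤ (one ↑U ⊤)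
  have hx' : x ∈ U.ι ''ᵁ ⊤ := by rw [U.ι_image_top]; exact hxU
  have hloc := fun i => Groth.Agent.Lib.Helper4.ModEpi.exists_app_eq_of_epi p (U.ι ''ᵁ ⊤) (s i) x hx'
  choose Vi hVi hxVi g hg using hloc
  let V : X.Opens := U ⊓ Finset.univ.inf Vi
  have hVU : V ≤ U := inf_le_left
  have hVVi : ∀ i, V ≤ Vi i := fun i => inf_le_right.trans (Finset.inf_le (Finset.mem_univ i))
  have hxV : x ∈ V := by
    refine ⟨hxU, ?_⟩
    show x ∈ ((Finset.univ.inf Vi : X.Opens) : Set X)
    rw [TopologicalSpace.Opens.coe_finset_inf]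
    simp only [Finset.inf_set_eq_iInter, Function.comp_apply, Set.mem_iInter]
    intro i _
    exact hxVi i
  let j : (V : Scheme.{u}) ⟶ (U : Scheme.{u}) := X.homOfLE hVU
  have hjι : j ≫ U.ι = V.ι := X.homOfLE_ι hVU
  have himg : U.ι ''ᵁ (j ''ᵁ ⊤) = V := by
    rw [← Scheme.Hom.comp_image, image_congr hjι, V.ι_image_top]
  have hle : ∀ i, U.ι ''ᵁ (j ''ᵁ ⊤) ≤ Vi i := fun i => himg.le.trans (hVVi i)
  let g' : ∀ i, Γ((G.restrict U.ι).restrict j, ⊤) := fun i =>
    G.presheaf.map (homOfLE (hle i)).op (g i)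
  have ht := fun i => exists_hom_of_section ((G.restrict U.ι).restrict j) (g' i)
  choose t ht using ht
  have key : ∀ i, t i ≫ (Scheme.Modules.restrictFunctor j).map (rfU.map p) =
      (Scheme.Modules.restrictUnitIso j).inv ≫ (Scheme.Modules.restrictFunctor j).map (a i) := by
    intro i
    apply hom_ext_of_app_top
    have hle' : U.ι ''ᵁ (j ''ᵁ ⊤) ≤ U.ι ''ᵁ ⊤ := Scheme.Hom.image_mono _ le_top
    -- both sides equal the restriction of `s i`
    have hL : (t i ≫ (Scheme.Modules.restrictFunctor j).map (rfU.map p)).app ⊤ (one ↑V ⊤) =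
        F.presheaf.map (homOfLE hle').op (s i) := by
      rw [Scheme.Modules.Hom.comp_app, ConcreteCategory.comp_apply, ht i]
      show p.app (U.ι ''ᵁ (j ''ᵁ ⊤)) (G.presheaf.map (homOfLE (hle i)).op (g i)) = _
      have nat := congr($(p.mapPresheaf.naturality (homOfLE (hle i)).op) (g i))
      simp only [Scheme.Modules.mapPresheaf_app] at nat
      rw [ConcreteCategory.comp_apply, ConcreteCategory.comp_apply] at nat
      rw [nat, hg i, ← ConcreteCategory.comp_apply, ← Functor.map_comp]
      rfl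
    have hR : ((Scheme.Modules.restrictUnitIso j).inv ≫
        (Scheme.Modules.restrictFunctor j).map (a i)).app ⊤ (one ↑V ⊤) =
        F.presheaf.map (homOfLE hle').op (s i) := by
      rw [Scheme.Modules.Hom.comp_app, ConcreteCategory.comp_apply, restrictUnitIso_inv_app_one]
      show (a i).app (j ''ᵁ ⊤) (one ↑U (j ''ᵁ ⊤)) = _
      have nat := congr($((a i).mapPresheaf.naturality
        (homOfLE le_top : j ''ᵁ ⊤ ⟶ ⊤).op) (one ↑U ⊤))
      simp only [Scheme.Modules.mapPresheaf_app] at nat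
      rw [ConcreteCategory.comp_apply, ConcreteCategory.comp_apply, unit_map_one] at nat
      rw [nat]
      rfl
    rw [hL, hR]
  obtain ⟨ψ', hψ'⟩ := exists_lift_of_free j n e (rfU.map p) (rfU.map φ) t key
  let κ : Scheme.Modules.restrictFunctor V.ι ≅
      Scheme.Modules.restrictFunctor U.ι ⋙ Scheme.Modules.restrictFunctor j :=
    Scheme.Modules.restrictFunctorCongr hjι.symm ≪≫ Scheme.Modules.restrictFunctorComp j U.ι
  refine ⟨V, κ.hom.app E ≫ ψ' ≫ κ.inv.app G, hxV, ?_⟩
  have n1 := κ.inv.naturality p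
  have n2 := κ.hom.naturality φ
  simp only [Functor.comp_map] at n1 n2
  rw [Category.assoc, Category.assoc, ← n1, ← Category.assoc ψ', hψ', ← Category.assoc, ← n2,
    Category.assoc, Iso.hom_inv_id_app, Category.comp_id]

end Groth.Agent.S0934
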