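import Groth.Statements.S0937
import Mathlib
import Groth.Agent.Lib.Helper16DimShift
import Groth.Agent.Lib.Helper21Cech5
import Groth.Agent.Lib.Helper21CechPush2
import Groth.Agent.S0858
import Groth.Agent.S0861

set_option autoImplicit false
universe u
open CategoryTheory
open CohSite

namespace Groth.Agent.S0937

open Groth.Agent.Lib.Helper16.DimShift CategoryTheory.Limits Opposite

section
variable {C : Type u} [SmallCategory C] (J : GrothendieckTopology C)

/-- `Q` of dimension-shifting data against a free sheaf, in terms of sections -/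
theorem Q_equiv (D : Data (Sheaf J AddCommGrpCat.{u})) (V : C) (p : ℕ) :
    Nonempty (D.Q (CohCx.freeSheaf J V) p ≃+
      ((D.Z (p + 1)).obj.obj (op V) ⧸ ((D.g p).hom.app (op V)).hom.range)) := by
  refine ⟨QuotientAddGroup.congr _ _ (CohFree.homEquivSect J V (D.Z (p + 1))) ?_⟩
  ext x
  constructor
  · rintro ⟨φ, ⟨ψ, rfl⟩, rfl⟩
    refine ⟨CohFree.homEquivSect J V (D.J p) ψ, ?_⟩
    rfl
  · rintro ⟨t, rfl⟩
    refine ⟨(CohFree.homEquivSect J V (D.J p)).symm t ≫ D.g p,
      ⟨(CohFree.homEquivSect J V (D.J p)).symm t, rfl⟩, ?_⟩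
    change ((D.g p).hom.app (op V)).hom
      (CohFree.homEquivSect J V (D.J p) ((CohFree.homEquivSect J V (D.J p)).symm t)) = _
    rw [AddEquiv.apply_symm_apply]

end

section
open Groth.Agent.Lib.Helper21.Cech Groth.Agent.Lib.Helper21.CechPush2
variable {C D : Type u} [SmallCategory C] [SmallCategory D] [HasPullbacks C]

/-- Čech-acyclicity of `u^p I` for `I` an injective sheaf on `D` (no fibre products needed in `D`). -/
theorem isZero_cechH_push_injective (K : GrothendieckTopology D) (u : C ⥤ D)
    [PreservesLimitsOfShape WalkingCospan u] (I : Sheaf K AddCommGrpCat.{u}) [Injective I]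
    {U : C} {ι : Type u} (Y : ι → Over U) (p : ℕ) :
    IsZero (CohCx.cechH (u.op ⋙ I.obj) Y (p + 1)) := by
  haveI := Groth.Agent.S0858.injective_presheaf K I
  let r := Injective.factorThru (𝟙 I.obj) (effι I.obj)
  have hr : effι I.obj ≫ r = 𝟙 _ := Injective.comp_factorThru _ _
  have hr' : Functor.whiskerLeft u.op (effι I.obj) ≫ Functor.whiskerLeft u.op r = 𝟙 _ := by
    rw [← Functor.whiskerLeft_comp, hr]
    rfl
  exact Groth.Agent.S0858.isZero_of_retract Y _ _ hr' (p + 1) (isZero_cechH_effPush u Y I.obj p)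

/-- S0860 without fibre products in `D`. -/
theorem acyclic_push (J : GrothendieckTopology C) (K : GrothendieckTopology D) (u : C ⥤ D)
    [PreservesLimitsOfShape WalkingCospan u]
    [u.IsContinuous J K] [u.IsCocontinuous J K]
    (I : Sheaf K AddCommGrpCat.{u}) [Injective I] (U : C) (p : ℕ) :
    Subsingleton (CohSite.HU ((CohSite.push K J u).obj I) (p + 1) U) := by
  refine Groth.Agent.S0861.result J Set.univ
    (fun U ι Y => Sieve.ofArrows (fun i => (Y i).left) (fun i => (Y i).hom) ∈ J U)
    (fun U ι Y hc => ⟨Set.mem_univ _, hc, fun _ _ => Set.mem_univ _⟩) ?_ _ ?_ U (Set.mem_univ _) p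
  · intro V _ T hT
    let ι : Type u := Σ W : C, {f : W ⟶ V // T.arrows f}
    let Y : ι → Over V := fun i => Over.mk i.2.1
    have hSY : Sieve.ofArrows (fun i => (Y i).left) (fun i => (Y i).hom) = T := by
      apply le_antisymm
      · rw [Sieve.ofArrows, Sieve.generate_le_iff]
        rintro Z f ⟨i⟩
        exact i.2.2
      · intro Z f hf
        exact Sieve.ofArrows_mk (fun i => (Y i).left) (fun i => (Y i).hom) (⟨Z, f, hf⟩ : ι)
    exact ⟨ι, Y, hSY ▸ hT, fun i => i.2.2⟩
  · intro V ι Y _ q
    exact isZero_cechH_push_injective K u I Y q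

end

/-- Part (1), for a single abelian sheaf: let u : C -> D be a functor between sites which is continuous
(preserving coverings and commuting with fibre products, which exist in C) and cocontinuous, F an
abelian sheaf on D and U an object of C. Then H^p(U, g^{-1}F) ≅ H^p(u(U), F) for all p, where
g^{-1}F is the sheaf V ↦ F(u(V)). -/
theorem result {C D : Type u} [SmallCategory C] [SmallCategory D]
    [Limits.HasPullbacks C] (J : GrothendieckTopology C) (K : GrothendieckTopology D) (u : C ⥤ D)
    [u.IsContinuous J K] (hu : CoverPreserving J K u) [Limits.PreservesLimitsOfShape Limits.WalkingCospan u]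
    [u.IsCocontinuous J K]
    (F : Sheaf K AddCommGrpCat.{u}) (U : C) (p : ℕ) :
    Nonempty (CohSite.HU ((CohSite.push K J u).obj F) p U ≃+ CohSite.HU F p (u.obj U)) := by
  classical
  let G := CohSite.push K J u
  have adj := u.sheafAdjunctionCocontinuous AddCommGrpCat.{u} J K
  haveI : PreservesColimitsOfSize.{0, 0} G := adj.leftAdjoint_preservesColimits
  haveI : G.PreservesEpimorphisms := inferInstance
  have hepi : ∀ {X Y : Sheaf K AddCommGrpCat.{u}} (f : X ⟶ Y), Epi f → Epi (G.map f) :=
    fun f hf => G.map_epi f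
  cases p with
  | zero =>
    exact ⟨(CechEdge.sectH0 J U (G.obj F)).symm.trans
      (CechEdge.sectH0 K (u.obj U) F)⟩
  | succ p =>
    let I : InjectiveResolution F := injectiveResolution F
    let D₁ : Data (Sheaf K AddCommGrpCat.{u}) := ofResolution I
    let D₂ : Data (Sheaf J AddCommGrpCat.{u}) := D₁.mapOfEpi G (fun k => hepi _ (D₁.hS k).epi_g)
    have hJ₁ : ∀ k q, Subsingleton (Abelian.Ext.{u} (CohCx.freeSheaf K (u.obj U)) (D₁.J k) (q + 1)) := by
      intro k q
      have : Injective (D₁.J k) := I.injective k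
      exact subsingleton_of_forall_eq 0 fun x => Abelian.Ext.eq_zero_of_injective x
    have hJ₂ : ∀ k q, Subsingleton (Abelian.Ext.{u} (CohCx.freeSheaf J U) (D₂.J k) (q + 1)) := by
      intro k q
      have : Injective (D₁.J k) := I.injective k
      exact acyclic_push J K u (D₁.J k) U q
    obtain ⟨e₁⟩ := ds (CohCx.freeSheaf K (u.obj U)) p D₁ hJ₁
    obtain ⟨e₂⟩ := ds (CohCx.freeSheaf J U) p D₂ hJ₂
    obtain ⟨q₁⟩ := Q_equiv K D₁ (u.obj U) p
    obtain ⟨q₂⟩ := Q_equiv J D₂ U p
    exact ⟨e₂.trans (q₂.trans (q₁.symm.trans e₁.symm))⟩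

end Groth.Agent.S0937
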