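import Groth.Statements.S0938
import Groth.Agent.Lib.Helper21RetractFree

set_option autoImplicit false
universe u
open CategoryTheory
open Coh

namespace Groth.Agent.S0938

open Groth.Agent.Lib.Helper21.RetractFree AlgebraicGeometry CategoryTheory.Limits

/-- the property: retract of a finite free module -/
abbrev P₁ (X : Scheme.{u}) : ObjectProperty X.Modules := fun M =>
  ∃ (n : ℕ) (i : M ⟶ FlatMod.freeMod X n) (r : FlatMod.freeMod X n ⟶ M), i ≫ r = 𝟙 M

/-- the property: finite projective -/
abbrev P₂ (X : Scheme.{u}) : ObjectProperty (ModuleCat.{u} (Γ(X, ⊤))) := fun N =>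
  Module.Finite (Γ(X, ⊤)) N ∧ Module.Projective (Γ(X, ⊤)) N

/-- global sections on the subcategories -/
noncomputable def GG (X : Scheme.{u}) : (P₁ X).FullSubcategory ⥤ (P₂ X).FullSubcategory :=
  (P₂ X).lift ((P₁ X).ι ⋙ G X) (fun M => by
    obtain ⟨n, i, r, hir⟩ := M.property
    exact finite_projective_of_retract X i r hir)

instance (X : Scheme.{u}) : (GG X).Faithful where
  map_injective {M M'} φ φ' h := by
    obtain ⟨n, i, r, hir⟩ := M.property
    apply ObjectProperty.hom_ext
    apply map_injective_of_retract X i r hir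
    exact congrArg (fun a => a.hom) h

instance (X : Scheme.{u}) : (GG X).Full where
  map_surjective {M M'} ψ := by
    obtain ⟨n, i, r, hir⟩ := M.property
    obtain ⟨φ, hφ⟩ := map_surjective_of_retract X (M' := M'.obj) i r hir ψ.hom
    refine ⟨ObjectProperty.homMk φ, ?_⟩
    apply ObjectProperty.hom_ext
    exact hφ

instance (X : Scheme.{u}) : (GG X).EssSurj where
  mem_essImage N := by
    haveI := N.property.1
    haveI := N.property.2
    obtain ⟨M, n, i, r, hir, ⟨e⟩⟩ := essSurj_aux X N.obj
    exact ⟨⟨M, n, i, r, hir⟩, ⟨(P₂ X).isoMk e⟩⟩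

open AlgebraicGeometry CategoryTheory.Limits in
/-- For a scheme X with R = Γ(X, O_X), the full subcategory of O_X-modules which are retracts of a
finite free O_X-module is equivalent to the full subcategory of R-modules which are finite and
projective (existence of an equivalence of categories). The published statement is for ringed
spaces; stated here for schemes. -/
theorem result {X : Scheme.{u}} :
    Nonempty ((ObjectProperty.FullSubcategory fun M : X.Modules =>
        ∃ (n : ℕ) (i : M ⟶ FlatMod.freeMod X n) (r : FlatMod.freeMod X n ⟶ M), i ≫ r = 𝟙 M) ≌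
      (ObjectProperty.FullSubcategory fun N : ModuleCat.{u} (Γ(X, ⊤)) =>
        Module.Finite (Γ(X, ⊤)) N ∧ Module.Projective (Γ(X, ⊤)) N)) := by
  haveI : (GG X).IsEquivalence := {}
  exact ⟨(GG X).asEquivalence⟩

end Groth.Agent.S0938
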