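import Groth.Statements.S0947
import Groth.Agent.Lib.Helper19PullH

set_option autoImplicit false
universe u
open CategoryTheory
open CohTop

namespace Groth.Agent.S0947

open TopologicalSpace Opposite CategoryTheory.Limits in
/-- Let X be a spectral space, F an abelian sheaf on X, E ⊆ X a quasi-compact subset and W the set of
points of X specializing to some point of E. Then for every p the group H^p(W, F|_W) (cohomology of
the pullback of F to the subspace W) is isomorphic to the colimit of the groups H^p(U, F) over the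
quasi-compact open neighbourhoods U of E (existence of an isomorphism). -/
theorem result {X : TopCat.{u}} [SpectralSpace X] (E : Set X)
    (hE : IsCompact E) (F : CohTop.Ab X) (p : ℕ) :
    Nonempty ((colimit (ObjectProperty.ι (fun U : (Opens X)ᵒᵖ => E ⊆ (U.unop : Set X) ∧ IsCompact (U.unop : Set X)) ⋙
        (Sheaf.cohomologyPresheafFunctor (Opens.grothendieckTopology X) p).obj F) : AddCommGrpCat.{u}) ≃+
      CohTop.H ((CohTop.pull (TopCat.ofHom ⟨Subtype.val, continuous_subtype_val⟩ :
        TopCat.of {x : X | ∃ e ∈ E, e ∈ closure {x}} ⟶ X)).obj F) p) := by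
  classical
  let 𝒱 : Groth.Agent.Lib.Helper19Spec.PO X :=
    { S := {V | E ⊆ (V : Set X) ∧ IsCompact (V : Set X)}
      qc := fun V hV => hV.2
      inf_mem := fun V hV W hW => ⟨Set.subset_inter hV.1 hW.1,
        QuasiSeparatedSpace.inter_isCompact _ _ V.isOpen hV.2 W.isOpen hW.2⟩ }
  have hne : 𝒱.S.Nonempty := ⟨⊤, Set.subset_univ _, isCompact_univ⟩
  have hT : 𝒱.T = {x : X | ∃ e ∈ E, e ∈ closure {x}} := by
    ext x
    constructor
    · intro hx
      by_contra hcon
      have hcon' : ∀ e ∈ E, e ∉ closure ({x} : Set X) := fun e he hc => hcon ⟨e, he, hc⟩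
      obtain ⟨N, hN, hEN, hxN⟩ :=
        Groth.Agent.Lib.Helper19Spec.exists_qc_open_of_compact E hE x hcon'
      exact hxN (hx N ⟨hEN, hN⟩)
    · rintro ⟨e, he, hc⟩ V hV
      have hsp : x ⤳ e := specializes_iff_mem_closure.2 hc
      exact hsp.mem_open V.isOpen (hV.1 he)
  have main := Groth.Agent.Lib.Helper19Pull.nonempty_addEquiv_PO 𝒱
    (fun V : TopologicalSpace.Opens X => E ⊆ (V : Set X) ∧ IsCompact (V : Set X))
    (fun V => Iff.rfl) hne F p
  have gen : ∀ (T' : Set X), 𝒱.T = T' →
      Nonempty ((CategoryTheory.Limits.colimit (ObjectProperty.ι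
        (fun U : (TopologicalSpace.Opens X)ᵒᵖ => E ⊆ (U.unop : Set X) ∧ IsCompact (U.unop : Set X)) ⋙
        (Sheaf.cohomologyPresheafFunctor (Opens.grothendieckTopology X) p).obj F) : AddCommGrpCat.{u}) ≃+
      CohTop.H ((CohTop.pull (TopCat.ofHom ⟨Subtype.val, continuous_subtype_val⟩ :
        TopCat.of T' ⟶ X)).obj F) p) := by
    rintro _ rfl
    exact main
  exact gen _ hT

end Groth.Agent.S0947
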