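import Groth.Statements.S0949
import Mathlib
import Groth.Agent.Lib.Helper1BKF2
-- import your own Groth.Agent.* helpers here

set_option autoImplicit false
universe u
open CategoryTheory
attribute [local instance] HasDerivedCategory.standard
open DCoh

namespace Groth.Agent.S0949

open Groth.Agent.Lib.Helper1.BKF

theorem aux {C : Type u} [SmallCategory C] {J : GrothendieckTopology C} (O : Sheaf J CommRingCat.{u})
    (K : CochainComplex (ModSite.Mod O) ℤ) (hK : ModSite.IsKFlat K)
    {F G : CochainComplex (ModSite.Mod O) ℤ} (f : F ⟶ G) (hf : QuasiIso f) :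
    QuasiIso (((ModSite.tensorCx O).map f).app K) := by
  have h1 : Acyc (CochainComplex.mappingCone f) := acyc_cone_of_quasiIso f
  have h2 : Acyc ((TR (ModSite.tensorBi O) K).obj (CochainComplex.mappingCone f)) :=
    hK (CochainComplex.mappingCone f) h1
  exact (coneFunctor_TR_site O K).quasiIso_map_of_acyc_cone f h2

open AlgebraicGeometry in
/-- Let K be a K-flat complex of O_X-modules. Then for every quasi-isomorphism f : F -> G of complexes
of O_X-modules the induced map F ⊗ K -> G ⊗ K of total tensor complexes is a quasi-isomorphism. -/
theorem result {X : Scheme.{u}} (K : CochainComplex X.Modules ℤ) (hK : DCoh.IsKFlat K)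
    {F G : CochainComplex X.Modules ℤ} (f : F ⟶ G) [QuasiIso f] :
    QuasiIso ((DCoh.tensorCx.map f).app K) := by
  have hf : QuasiIso f := inferInstance
  exact aux X.sheaf K hK f hf

end Groth.Agent.S0949
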