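import Groth.Statements.S0952
import Mathlib
import Groth.Agent.Lib.Helper1KBC4
import Groth.Agent.Lib.Helper1KBC1
-- import your own Groth.Agent.* helpers here

set_option autoImplicit false
universe u
open CategoryTheory
attribute [local instance] HasDerivedCategory.standard
open DCoh

namespace Groth.Agent.S0952

open AlgebraicGeometry Groth.Agent.Lib.Helper1.KBC Groth.Agent.Lib.Helper1.Sky
  Groth.Agent.Lib.Helper1.BKF in
theorem kflat_pullback_aux {X Y : Scheme.{u}} (f : X ⟶ Y) (K : CochainComplex Y.Modules ℤ)
    (hK : DCoh.IsKFlat K) :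
    DCoh.IsKFlat (((Scheme.Modules.pullback f).mapHomologicalComplex (ComplexShape.up ℤ)).obj K) := by
  apply isKFlat_of_forall_stalk
  intro x
  have h1 : RKFlat ((stalkC (f x)).obj K) := rKFlat_stalk_of_isKFlat (f x) K hK
  have h2 : RKFlat (((ext (f.stalkMap x).hom).mapHomologicalComplex (ComplexShape.up ℤ)).obj
      ((stalkC (f x)).obj K)) := fun M hM =>
    acyc_mapBifunctor_ext (f.stalkMap x).hom M ((stalkC (f x)).obj K) h1 hM
  refine RKFlat.of_iso ?_ h2
  exact (HomologicalComplex.Hom.isoOfComponents (fun i => (stalkPullbackIso f x).app (K.X i))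
    (fun i j _ => ((stalkPullbackIso f x).hom.naturality (K.d i j)).symm)).symm

open AlgebraicGeometry in
/-- For a morphism f : X -> Y and a K-flat complex K of O_Y-modules, the termwise pullback f^* K is a
K-flat complex of O_X-modules. -/
theorem result {X Y : Scheme.{u}} (f : X ⟶ Y) (K : CochainComplex Y.Modules ℤ) (hK : DCoh.IsKFlat K) :
    DCoh.IsKFlat (((Scheme.Modules.pullback f).mapHomologicalComplex (ComplexShape.up ℤ)).obj K) := by
  exact kflat_pullback_aux f K hK

end Groth.Agent.S0952
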