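import Groth.Statements.S0963
import Mathlib
import Groth.Agent.Lib.Helper1CI5
-- import your own Groth.Agent.* helpers here

set_option autoImplicit false
universe u
open CategoryTheory
attribute [local instance] HasDerivedCategory.standard
open DCoh

namespace Groth.Agent.S0963

open AlgebraicGeometry CategoryTheory.Limits HomologicalComplex CategoryTheory.Pretriangulated
open Groth.Agent.Lib.Helper1.CI

/-- the three vanishing statements for one module `F` -/
lemma key {X : Scheme.{u}} (T : Triangle (DCoh.D X)) (hT : T ∈ distinguishedTriangles)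
    (F : X.Modules) [DCoh.HasLTensorMod F] :
    ∃ T' ∈ distTriang (DCoh.D X),
      Nonempty (T'.obj₁ ≅ (DCoh.LTensorMod F).obj T.obj₁) ∧
      Nonempty (T'.obj₂ ≅ (DCoh.LTensorMod F).obj T.obj₂) ∧
      Nonempty (T'.obj₃ ≅ (DCoh.LTensorMod F).obj T.obj₃) := by
  rw [DerivedCategory.mem_distTriang_iff] at hT
  obtain ⟨K, L, φ, ⟨e⟩⟩ := hT
  obtain ⟨T', hT', ⟨e₁⟩, ⟨e₂⟩, ⟨e₃⟩⟩ := exists_triangle_ltm F φ
  refine ⟨T', hT', ⟨e₁ ≪≫ (DCoh.LTensorMod F).mapIso ?_⟩, ⟨e₂ ≪≫ (DCoh.LTensorMod F).mapIso ?_⟩,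
    ⟨e₃ ≪≫ (DCoh.LTensorMod F).mapIso ?_⟩⟩
  · exact (Triangle.π₁.mapIso e).symm
  · exact (Triangle.π₂.mapIso e).symm
  · exact (Triangle.π₃.mapIso e).symm

open AlgebraicGeometry CategoryTheory.Pretriangulated in
/-- Schemes; hypotheses in the flat-representative form of tor-amplitude, conclusions in the
derived-tensor form: for a distinguished triangle K -> L -> M -> K[1] in D(O_X) and integers a, b:
(1) tor-amplitude of K in [a+1, b+1] and of L in [a, b] give tor-amplitude of M in [a, b]; (2)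
tor-amplitude of K and of M in [a, b] give the same for L; (3) tor-amplitude of L in [a+1, b+1] and
of M in [a, b] give tor-amplitude of K in [a+1, b+1]. -/
theorem result {X : Scheme.{u}} (T : Triangle (DCoh.D X)) (hT : T ∈ distinguishedTriangles)
    (a b : ℤ) :
    (DCoh.HasFlatAmplitudeIn (a + 1) (b + 1) T.obj₁ → DCoh.HasFlatAmplitudeIn a b T.obj₂ →
      DCoh.HasTorAmplitudeIn a b T.obj₃) ∧
    (DCoh.HasFlatAmplitudeIn a b T.obj₁ → DCoh.HasFlatAmplitudeIn a b T.obj₃ → DCoh.HasTorAmplitudeIn a b T.obj₂) ∧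
    (DCoh.HasFlatAmplitudeIn (a + 1) (b + 1) T.obj₂ → DCoh.HasFlatAmplitudeIn a b T.obj₃ →
      DCoh.HasTorAmplitudeIn (a + 1) (b + 1) T.obj₁) := by
  refine ⟨fun h₁ h₂ => ?_, fun h₁ h₃ => ?_, fun h₂ h₃ => ?_⟩
  · have t₁ := hasTorAmplitudeIn_of_hasFlatAmplitudeIn _ _ h₁
    have t₂ := hasTorAmplitudeIn_of_hasFlatAmplitudeIn _ _ h₂
    intro F _ i hi
    obtain ⟨T', hT', ⟨e₁⟩, ⟨e₂⟩, ⟨e₃⟩⟩ := key T hT F
    refine IsZero.of_iso ?_ ((DerivedCategory.homologyFunctor X.Modules i).mapIso e₃.symm)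
    refine isZero_homology_obj₃ T' hT' i (i + 1) rfl ?_ ?_
    · exact IsZero.of_iso (t₂ F i hi) ((DerivedCategory.homologyFunctor X.Modules i).mapIso e₂)
    · exact IsZero.of_iso (t₁ F (i + 1) (by omega))
        ((DerivedCategory.homologyFunctor X.Modules (i + 1)).mapIso e₁)
  · have t₁ := hasTorAmplitudeIn_of_hasFlatAmplitudeIn _ _ h₁
    have t₃ := hasTorAmplitudeIn_of_hasFlatAmplitudeIn _ _ h₃
    intro F _ i hi
    obtain ⟨T', hT', ⟨e₁⟩, ⟨e₂⟩, ⟨e₃⟩⟩ := key T hT F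
    refine IsZero.of_iso ?_ ((DerivedCategory.homologyFunctor X.Modules i).mapIso e₂.symm)
    refine isZero_homology_obj₂ T' hT' i ?_ ?_
    · exact IsZero.of_iso (t₁ F i hi) ((DerivedCategory.homologyFunctor X.Modules i).mapIso e₁)
    · exact IsZero.of_iso (t₃ F i hi) ((DerivedCategory.homologyFunctor X.Modules i).mapIso e₃)
  · have t₂ := hasTorAmplitudeIn_of_hasFlatAmplitudeIn _ _ h₂
    have t₃ := hasTorAmplitudeIn_of_hasFlatAmplitudeIn _ _ h₃
    intro F _ i hi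
    obtain ⟨T', hT', ⟨e₁⟩, ⟨e₂⟩, ⟨e₃⟩⟩ := key T hT F
    refine IsZero.of_iso ?_ ((DerivedCategory.homologyFunctor X.Modules i).mapIso e₁.symm)
    refine isZero_homology_obj₁ T' hT' (i - 1) i (by omega) ?_ ?_
    · exact IsZero.of_iso (t₃ F (i - 1) (by omega))
        ((DerivedCategory.homologyFunctor X.Modules (i - 1)).mapIso e₃)
    · exact IsZero.of_iso (t₂ F i hi) ((DerivedCategory.homologyFunctor X.Modules i).mapIso e₂)

end Groth.Agent.S0963
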