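import Groth.Statements.S0964
import Mathlib
import Groth.Agent.Lib.Helper1TAssoc
-- import your own Groth.Agent.* helpers here

set_option autoImplicit false
universe u
open CategoryTheory
attribute [local instance] HasDerivedCategory.standard
open DCoh

namespace Groth.Agent.S0964

open AlgebraicGeometry Groth.Agent.Lib.Helper1.BKF in
theorem aux {X : Scheme.{u}} (K L : CochainComplex X.Modules ℤ) (hL : DCoh.IsKFlat L)
    [DCoh.HasLTensorCx K] [DCoh.HasRSheafHom K] [DCoh.HasLTensorCx L] [DCoh.HasRSheafHom L]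
    [DCoh.HasLTensorCx ((DCoh.tensorCx.obj K).obj L)] [DCoh.HasRSheafHom ((DCoh.tensorCx.obj K).obj L)] :
    Nonempty (DCoh.RSheafHom L ⋙ DCoh.RSheafHom K ≅ DCoh.RSheafHom ((DCoh.tensorCx.obj K).obj L)) := by
  haveI hI1 : ModSite.HasLTensorCx (O := X.sheaf) K := (inferInstance : DCoh.HasLTensorCx K)
  haveI hI2 : ModSite.HasLTensorCx (O := X.sheaf) L := (inferInstance : DCoh.HasLTensorCx L)
  haveI hI3 : ModSite.HasLTensorCx (O := X.sheaf) (((ModSite.tensorCx X.sheaf).obj K).obj L) :=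
    (inferInstance : DCoh.HasLTensorCx ((DCoh.tensorCx.obj K).obj L))
  have h : Nonempty (DCoh.LTensorCx K ⋙ DCoh.LTensorCx L ≅
      DCoh.LTensorCx ((DCoh.tensorCx.obj K).obj L)) :=
    nonempty_LTensorCx_comp_iso (O := X.sheaf) K L hL
  obtain ⟨e⟩ := h
  let adj1 : DCoh.LTensorCx K ⋙ DCoh.LTensorCx L ⊣ DCoh.RSheafHom L ⋙ DCoh.RSheafHom K :=
    (DCoh.RSheafHomAdj K).comp (DCoh.RSheafHomAdj L)
  exact ⟨(adj1.ofNatIsoLeft e).rightAdjointUniq (DCoh.RSheafHomAdj ((DCoh.tensorCx.obj K).obj L))⟩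

open AlgebraicGeometry in
/-- Schemes; K, L given by complexes with L K-flat, so that K ⊗^L L is the total tensor complex K ⊗ L:
for every M in D(O_X) there is an isomorphism RHom(K, RHom(L, M)) ≅ RHom(K ⊗ L, M). The derived
tensor functors – ⊗^L K, – ⊗^L L, – ⊗^L (K ⊗ L) and their right adjoints RHom are taken under their
existence binders; the assertion is the existence of an isomorphism for each M. -/
theorem result {X : Scheme.{u}} (K L : CochainComplex X.Modules ℤ) (hL : DCoh.IsKFlat L)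
    [DCoh.HasLTensorCx K] [DCoh.HasRSheafHom K] [DCoh.HasLTensorCx L] [DCoh.HasRSheafHom L]
    [DCoh.HasLTensorCx ((DCoh.tensorCx.obj K).obj L)] [DCoh.HasRSheafHom ((DCoh.tensorCx.obj K).obj L)] (M : DCoh.D X) :
    Nonempty ((DCoh.RSheafHom K).obj ((DCoh.RSheafHom L).obj M) ≅ (DCoh.RSheafHom ((DCoh.tensorCx.obj K).obj L)).obj M) := by
  obtain ⟨e⟩ := aux K L hL
  exact ⟨e.app M⟩

end Groth.Agent.S0964
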