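import Groth.Statements.S0968
import Mathlib
import Groth.Agent.Lib.Helper1CI3
-- import your own Groth.Agent.* helpers here

set_option autoImplicit false
universe u
open CategoryTheory
attribute [local instance] HasDerivedCategory.standard
open DCoh

namespace Groth.Agent.S0968

open AlgebraicGeometry CategoryTheory.Limits HomologicalComplex
open Groth.Agent.Lib.Helper1.CI Groth.Agent.Lib.Helper1.BKF Groth.Agent.Lib.Helper1.StalkTensor
open Groth.Agent.Lib.Helper21.FlatCalc Groth.Agent.Lib.Helper21.ModTensor5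

lemma flat_cokernel_site {C : Type u} [SmallCategory C] {J : GrothendieckTopology C}
    (O : Sheaf J CommRingCat.{u}) {X₀ X₁ X₂ : ModSite.Mod O} (d₀ : X₀ ⟶ X₁) (d₁ : X₁ ⟶ X₂)
    (w₀ : d₀ ≫ d₁ = 0)
    (hG : ∀ G : ModSite.Mod O,
      ((ShortComplex.mk d₀ d₁ w₀).map ((ModSite.tensorBi O).flip.obj G)).Exact)
    (hflat : ModSite.IsFlat X₂) :
    ModSite.IsFlat (cokernel d₁) := by
  have hker := flat_kernel_of_exact (ModSite.tensorBi O) d₀ d₁ (cokernel.π d₁)
    (0 : cokernel d₁ ⟶ cokernel d₁) w₀ (cokernel.condition _) comp_zero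
    (ShortComplex.exact_cokernel _)
    ((ShortComplex.exact_iff_epi _ (by simp)).2 (by dsimp; infer_instance)) hG
    ((flatL_iff_flatR (ModSite.tensorBi O) (brd O) _).2
      ((isFlat_iff O _).1 hflat))
  have h2 : ModSite.IsFlat (kernel (0 : cokernel d₁ ⟶ cokernel d₁)) :=
    (isFlat_iff O _).2 ((flatL_iff_flatR (ModSite.tensorBi O) (brd O) _).1 hker)
  exact isFlat_of_iso O kernelZeroIsoSource h2

open AlgebraicGeometry CategoryTheory.Limits in
/-- For a bounded above complex E of flat O_X-modules whose image in D(O_X) has tor-amplitude in [a, b]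
(derived-tensor form; the existence of – ⊗^L G for every O_X-module G is assumed, hypothesis hL),
the cokernel of the differential E^{a-1} -> E^a is a flat O_X-module. -/
theorem result {X : Scheme.{u}} (E : CochainComplex X.Modules ℤ) (n : ℤ) (hn : E.IsStrictlyLE n)
    (hflat : ∀ i : ℤ, FlatMod.IsFlat (E.X i)) (hL : ∀ G : X.Modules, DCoh.HasLTensorMod G) (a b : ℤ)
    (hE : DCoh.HasTorAmplitudeIn a b (DCoh.toD X E)) :
    FlatMod.IsFlat (cokernel (E.d (a - 1) a)) := by
  have hflat' : ∀ i, ModSite.IsFlat (O := X.sheaf) (E.X i) :=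
    fun i => modSite_isFlat_of_isFlat _ (hflat i)
  have hK : DCoh.IsKFlat E := isKFlat_of_bounded_above_flat (O := X.sheaf) E hflat' n hn
  apply isFlat_of_modSite_isFlat
  refine flat_cokernel_site X.sheaf (E.d (a - 2) (a - 1)) (E.d (a - 1) a) (E.d_comp_d _ _ _) ?_
    (hflat' a)
  intro G
  haveI := hL G
  have h1 := hE G (a - 1) (Or.inl (by omega))
  have h2 : IsZero (((Ttw G).obj E).homology (a - 1)) :=
    IsZero.of_iso h1 (HDltmIso G E hK (a - 1)).symm
  rw [← exactAt_iff_isZero_homology,
    exactAt_iff' _ (a - 2) (a - 1) a (by simp; omega) (by simp)] at h2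
  exact h2

end Groth.Agent.S0968
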