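import Groth.Statements.S0976
import Mathlib.CategoryTheory.Triangulated.Orthogonal
-- import your own Groth.Agent.* helpers here

set_option autoImplicit false
universe v u
open CategoryTheory
open CohDer

namespace Groth.Agent.S0976

open CategoryTheory.Pretriangulated CategoryTheory.Limits

section
variable {D : Type u} [Category.{v} D] [Preadditive D] [Limits.HasZeroObject D] [HasShift D ℤ]
    [∀ n : ℤ, (shiftFunctor D n).Additive] [Pretriangulated D]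
    (P : ObjectProperty D)

/-- maps from `P`-objects lift along `A → X` when the cone is right orthogonal -/
theorem exists_lift {A X B : D} (f : A ⟶ X) (g : X ⟶ B) (h : B ⟶ A⟦(1 : ℤ)⟧)
    (hT : Triangle.mk f g h ∈ distTriang D) (hB : P.rightOrthogonal B) {Q : D} (hQ : P Q)
    (x : Q ⟶ X) : ∃ y : Q ⟶ A, y ≫ f = x := by
  obtain ⟨y, hy⟩ := Triangle.coyoneda_exact₂ _ hT x (hB _ hQ)
  exact ⟨y, hy.symm⟩

/-- maps from `P`-objects to `A⟦1⟧` are detected in `X⟦1⟧` -/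
theorem eq_zero_of_comp_shift {A X B : D} (f : A ⟶ X) (g : X ⟶ B) (h : B ⟶ A⟦(1 : ℤ)⟧)
    (hT : Triangle.mk f g h ∈ distTriang D) (hB : P.rightOrthogonal B) {Q : D} (hQ : P Q)
    (m : Q ⟶ A⟦(1 : ℤ)⟧) (hm : m ≫ f⟦(1 : ℤ)⟧' = 0) : m = 0 := by
  obtain ⟨m', hm'⟩ : ∃ m' : Q ⟶ B, m = m' ≫ h :=
    Triangle.coyoneda_exact₃ _ (rot_of_distTriang _ hT) m (by
      show m ≫ (-f⟦(1 : ℤ)⟧') = 0
      rw [Preadditive.comp_neg, hm, neg_zero])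
  have : m' = 0 := hB m' hQ
  rw [hm', this, zero_comp]

/-- the class of objects with a decomposition -/
def Dec : ObjectProperty D := fun X : D => ∃ (A B : D) (f : A ⟶ X) (g : X ⟶ B)
  (h : B ⟶ (shiftFunctor D (1 : ℤ)).obj A),
    Triangle.mk f g h ∈ distinguishedTriangles ∧ P A ∧ P.rightOrthogonal B

variable [P.IsTriangulated]

theorem dec_ext₂ (T : Triangle D) (hT : T ∈ distTriang D) (h₁ : Dec P T.obj₁) (h₃ : Dec P T.obj₃) :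
    Dec P T.obj₂ := by
  obtain ⟨A₁, B₁, f₁, g₁, k₁, hT₁, hA₁, hB₁⟩ := h₁
  obtain ⟨A₃, B₃, f₃, g₃, k₃, hT₃, hA₃, hB₃⟩ := h₃
  -- the connecting map `t : A₃ ⟶ A₁⟦1⟧`
  have hB₁' : P.rightOrthogonal (B₁⟦(1 : ℤ)⟧) := P.rightOrthogonal.le_shift (1 : ℤ) _ hB₁
  obtain ⟨t, ht⟩ : ∃ t : A₃ ⟶ A₁⟦(1 : ℤ)⟧, t ≫ f₁⟦(1 : ℤ)⟧' = f₃ ≫ T.mor₃ := by
    obtain ⟨t, ht⟩ : ∃ t : A₃ ⟶ A₁⟦(1 : ℤ)⟧, f₃ ≫ T.mor₃ = t ≫ (-f₁⟦(1 : ℤ)⟧') :=
      Triangle.coyoneda_exact₃ _ (rot_of_distTriang _ (rot_of_distTriang _ hT₁))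
        (f₃ ≫ T.mor₃) (hB₁' _ hA₃)
    exact ⟨-t, by rw [ht, Preadditive.comp_neg, Preadditive.neg_comp]⟩
  obtain ⟨A₂', a', b', hTA'⟩ := distinguished_cocone_triangle₂ t
  obtain ⟨A₂, hA₂, ⟨e'⟩⟩ := P.ext_of_isTriangulatedClosed₂' _ hTA' hA₁ hA₃
  have e : A₂' ≅ A₂ := e'
  let a : A₁ ⟶ A₂ := a' ≫ e.hom
  let b : A₂ ⟶ A₃ := e.inv ≫ b'
  have hTA : Triangle.mk a b t ∈ distTriang D :=
    isomorphic_distinguished _ hTA' _
      (Triangle.isoMk _ _ (Iso.refl _) e.symm (Iso.refl _)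
        (by
          show (a' ≫ e.hom) ≫ e.inv = 𝟙 A₁ ≫ a'
          rw [Category.assoc, e.hom_inv_id, Category.comp_id, Category.id_comp])
        (by
          show (e.inv ≫ b') ≫ 𝟙 A₃ = e.inv ≫ b'
          rw [Category.comp_id])
        (by
          show t ≫ (𝟙 A₁)⟦(1 : ℤ)⟧' = 𝟙 A₃ ≫ t
          rw [CategoryTheory.Functor.map_id, Category.comp_id, Category.id_comp]))
  obtain ⟨f₂, hf₂a, hf₂b⟩ : ∃ f₂ : A₂ ⟶ T.obj₂, a ≫ f₂ = f₁ ≫ T.mor₁ ∧ b ≫ f₃ = f₂ ≫ T.mor₂ :=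
    complete_distinguished_triangle_morphism₂ _ _ hTA hT f₁ f₃ ht
  have hta : t ≫ a⟦(1 : ℤ)⟧' = 0 := comp_distTriang_mor_zero₃₁ _ hTA
  obtain ⟨B₂, g₂, k₂, hT₂⟩ := distinguished_cocone_triangle f₂
  refine ⟨A₂, B₂, f₂, g₂, k₂, hT₂, hA₂, ?_⟩
  -- surjectivity claim
  have hS : ∀ {Q : D} (_ : P Q) (ψ : Q ⟶ T.obj₂), ∃ χ : Q ⟶ A₂, χ ≫ f₂ = ψ := by
    intro Q hQ ψ
    obtain ⟨χ₃, hχ₃⟩ := exists_lift P f₃ g₃ k₃ hT₃ hB₃ hQ (ψ ≫ T.mor₂)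
    have h0 : χ₃ ≫ t = 0 := by
      refine eq_zero_of_comp_shift P f₁ g₁ k₁ hT₁ hB₁ hQ _ ?_
      rw [Category.assoc, ht, ← Category.assoc, hχ₃, Category.assoc,
        comp_distTriang_mor_zero₂₃ _ hT, comp_zero]
    obtain ⟨χ₂, hχ₂⟩ : ∃ χ₂ : Q ⟶ A₂, χ₃ = χ₂ ≫ b := Triangle.coyoneda_exact₃ _ hTA χ₃ h0
    obtain ⟨ρ, hρ⟩ : ∃ ρ : Q ⟶ T.obj₁, ψ - χ₂ ≫ f₂ = ρ ≫ T.mor₁ :=
      Triangle.coyoneda_exact₂ _ hT (ψ - χ₂ ≫ f₂) (by
        rw [Preadditive.sub_comp, Category.assoc, ← hf₂b, ← Category.assoc, ← hχ₂, hχ₃, sub_self])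
    obtain ⟨ρ₁, hρ₁⟩ := exists_lift P f₁ g₁ k₁ hT₁ hB₁ hQ ρ
    refine ⟨χ₂ + ρ₁ ≫ a, ?_⟩
    rw [Preadditive.add_comp, Category.assoc, hf₂a, ← Category.assoc, hρ₁, ← hρ]
    abel
  -- injectivity claim
  have hI : ∀ {Q : D} (_ : P Q) (m : Q ⟶ A₂⟦(1 : ℤ)⟧), m ≫ f₂⟦(1 : ℤ)⟧' = 0 → m = 0 := by
    intro Q hQ m hm
    have h1 : m ≫ b⟦(1 : ℤ)⟧' = 0 := by
      refine eq_zero_of_comp_shift P f₃ g₃ k₃ hT₃ hB₃ hQ _ ?_
      rw [Category.assoc, ← Functor.map_comp, hf₂b, Functor.map_comp, ← Category.assoc, hm,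
        zero_comp]
    obtain ⟨m₁, hm₁⟩ : ∃ m₁ : Q ⟶ A₁⟦(1 : ℤ)⟧, m = m₁ ≫ (-a⟦(1 : ℤ)⟧') :=
      Triangle.coyoneda_exact₃ _ (rot_of_distTriang _ (rot_of_distTriang _ hTA)) m (by
        show m ≫ (-b⟦(1 : ℤ)⟧') = 0
        rw [Preadditive.comp_neg, h1, neg_zero])
    have h2 : (m₁ ≫ f₁⟦(1 : ℤ)⟧') ≫ T.mor₁⟦(1 : ℤ)⟧' = 0 := by
      have : m₁ ≫ a⟦(1 : ℤ)⟧' ≫ f₂⟦(1 : ℤ)⟧' = 0 := by
        rw [← Category.assoc]
        have : m₁ ≫ a⟦(1 : ℤ)⟧' = -m := by rw [hm₁, Preadditive.comp_neg, neg_neg]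
        rw [this, Preadditive.neg_comp, hm, neg_zero]
      rw [Category.assoc, ← Functor.map_comp, ← hf₂a, Functor.map_comp]
      exact this
    obtain ⟨n, hn⟩ : ∃ n : Q ⟶ T.obj₃, m₁ ≫ f₁⟦(1 : ℤ)⟧' = n ≫ T.mor₃ :=
      Triangle.coyoneda_exact₃ _ (rot_of_distTriang _ hT) _ (by
        show (m₁ ≫ f₁⟦(1 : ℤ)⟧') ≫ (-T.mor₁⟦(1 : ℤ)⟧') = 0
        rw [Preadditive.comp_neg, h2, neg_zero])
    obtain ⟨n₃, hn₃⟩ := exists_lift P f₃ g₃ k₃ hT₃ hB₃ hQ n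
    have h3 : m₁ = n₃ ≫ t := by
      rw [← sub_eq_zero]
      refine eq_zero_of_comp_shift P f₁ g₁ k₁ hT₁ hB₁ hQ _ ?_
      rw [Preadditive.sub_comp, Category.assoc, ht, ← Category.assoc, hn₃, hn, sub_self]
    rw [hm₁, h3, Preadditive.comp_neg, Category.assoc, hta, comp_zero, neg_zero]
  have hkf : k₂ ≫ f₂⟦(1 : ℤ)⟧' = 0 := comp_distTriang_mor_zero₃₁ _ hT₂
  have hfg : f₂ ≫ g₂ = 0 := comp_distTriang_mor_zero₁₂ _ hT₂
  intro Q φ hQ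
  have h1 : φ ≫ k₂ = 0 := hI hQ _ (by
    rw [Category.assoc, hkf, comp_zero])
  obtain ⟨ψ, hψ⟩ : ∃ ψ : Q ⟶ T.obj₂, φ = ψ ≫ g₂ := Triangle.coyoneda_exact₃ _ hT₂ φ h1
  obtain ⟨χ, hχ⟩ := hS hQ ψ
  rw [hψ, ← hχ, Category.assoc, hfg, comp_zero]

open ZeroObject in
theorem dec_isTriangulated : (Dec P).IsTriangulated where
  exists_zero := by
    obtain ⟨Z, hZ, hPZ⟩ := ObjectProperty.ContainsZero.exists_zero (P := P)
    refine ⟨Z, hZ, Z, 0, 𝟙 Z, 0, 0, contractible_distinguished Z, hPZ, ?_⟩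
    intro Q φ _
    exact (isZero_zero D).eq_of_tgt _ _
  isStableUnderShiftBy n :=
    { le_shift := by
        rintro X ⟨A, B, f, g, h, hT, hA, hB⟩
        exact ⟨_, _, _, _, _, Triangle.shift_distinguished _ hT n, P.le_shift n _ hA,
          P.rightOrthogonal.le_shift n _ hB⟩ }
  ext₂' T hT h₁ h₃ := ObjectProperty.le_isoClosure _ _ (dec_ext₂ P T hT h₁ h₃)

end

open CategoryTheory.Pretriangulated in
/-- Let P be a triangulated subcategory of a triangulated category D (an object property containing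
zero, stable under shifts, closed under extensions). Consider the class of objects X sitting in a
distinguished triangle A → X → B → A[1] with P A and B right orthogonal to P. This class is again
stable under shifts and closed under extensions, i.e. satisfies two-out-of-three in distinguished
triangles. -/
theorem result {D : Type u} [Category.{v} D] [Preadditive D] [Limits.HasZeroObject D] [HasShift D ℤ]
    [∀ n : ℤ, (shiftFunctor D n).Additive] [Pretriangulated D] [IsTriangulated D]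
    (P : ObjectProperty D) [P.IsTriangulated] :
    ObjectProperty.IsTriangulated (fun X : D => ∃ (A B : D) (f : A ⟶ X) (g : X ⟶ B) (h : B ⟶ (shiftFunctor D (1 : ℤ)).obj A),
      Triangle.mk f g h ∈ distinguishedTriangles ∧ P A ∧ P.rightOrthogonal B) := by
  exact dec_isTriangulated P

end Groth.Agent.S0976
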