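import Groth.Statements.S0982
import Mathlib
import Groth.Agent.Lib.Helper21DTrunc

set_option autoImplicit false
universe w v u
open CategoryTheory CategoryTheory.Limits
open CohDer

namespace Groth.Agent.S0982

open CategoryTheory Limits Pretriangulated DerivedCategory
open Groth.Agent.S14388 Groth.Agent.Lib.Helper21.DTrunc

/-- Let K : ℕ ⥤ CochainComplex A ℤ be a sequence of cochain maps K₀ → K₁ → K₂ → … in an abelian category
with Hⁱ(K₀) = 0 for i > 0 and such that for every j < n the map H⁻ʲ(Kⱼ) → H⁻ʲ(Kⱼ₊₁) is zero. Then in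
the derived category the composite K₀ → Kₙ factors through the canonical truncation τ_{≤ -n}Kₙ → Kₙ. -/
theorem result {A : Type u} [Category.{v} A] [Abelian A] [HasDerivedCategory.{w} A]
    (K : ℕ ⥤ CochainComplex A ℤ) (n : ℕ)
    (h0 : ∀ i : ℤ, 0 < i → IsZero ((K.obj 0).homology i))
    (hz : ∀ j : ℕ, j < n → HomologicalComplex.homologyMap (K.map (homOfLE (Nat.le_succ j))) (-(j : ℤ)) = 0) :
    ∃ φ : DerivedCategory.Q.obj (K.obj 0) ⟶ DerivedCategory.Q.obj ((K.obj n).truncLE (-(n : ℤ))),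
      φ ≫ DerivedCategory.Q.map ((K.obj n).ιTruncLE (-(n : ℤ))) = DerivedCategory.Q.map (K.map (homOfLE (Nat.zero_le n))) := by
  have hX0 : (Q.obj (K.obj 0)).IsLE 0 :=
    (DerivedCategory.isLE_iff _ 0).mpr
      (fun i hi => (isZero_homologyFunctor_obj_Q_iff _ i).mpr (h0 i hi))
  have hF : ∀ j : ℕ, Q.map (K.map (homOfLE (Nat.zero_le (j + 1)))) =
      Q.map (K.map (homOfLE (Nat.zero_le j))) ≫ Q.map (K.map (homOfLE (Nat.le_succ j))) := by
    intro j
    rw [← Q.map_comp, ← K.map_comp]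
    rfl
  have claim : ∀ j : ℕ, j ≤ n → ∀ m : ℤ, m = -(j : ℤ) + 1 →
      Q.map (K.map (homOfLE (Nat.zero_le j))) ≫ (tt.truncGEπ m).app (Q.obj (K.obj j)) = 0 := by
    intro j
    induction j with
    | zero =>
      intro _ m hm
      have hm1 : m = 1 := by simpa using hm
      subst hm1
      exact tt.zero_of_isLE_of_isGE _ 0 1 (by omega) hX0 inferInstance
    | succ j ih =>
      intro hj m hm
      have hm' : m = -(j : ℤ) := by rw [hm]; push_cast; ring
      have h1 := ih (by omega) (m + 1) (by rw [hm'])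
      obtain ⟨φ, hφ⟩ : ∃ φ : Q.obj (K.obj 0) ⟶ (tt.truncLT (m + 1)).obj (Q.obj (K.obj j)),
          Q.map (K.map (homOfLE (Nat.zero_le j))) =
            φ ≫ (tt.truncLTι (m + 1)).app (Q.obj (K.obj j)) :=
        Triangle.coyoneda_exact₂ _ (tt.triangleLTGE_distinguished (m + 1) (Q.obj (K.obj j))) _ h1
      rw [hF j, hφ, Category.assoc, Category.assoc]
      have i1 : tt.IsLE ((tt.truncLT (m + 1)).obj (Q.obj (K.obj j))) m := inferInstance
      have hb : (tt.truncLTι (m + 1)).app (Q.obj (K.obj j)) ≫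
          Q.map (K.map (homOfLE (Nat.le_succ j))) ≫
          (tt.truncGEπ m).app (Q.obj (K.obj (j + 1))) = 0 := by
        apply eq_zero_of_isLE_of_isGE_of_homology m
        have hzz : (homologyFunctor A m).map (Q.map (K.map (homOfLE (Nat.le_succ j)))) = 0 := by
          rw [homologyFunctor_map_Q_eq_zero_iff, hm']
          exact hz j (by omega)
        rw [Functor.map_comp, Functor.map_comp, hzz, zero_comp, comp_zero]
      rw [hb, comp_zero]
  have hn := claim n le_rfl (-(n : ℤ) + 1) rfl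
  obtain ⟨φ, hφ⟩ : ∃ φ : Q.obj (K.obj 0) ⟶ (tt.truncLT (-(n : ℤ) + 1)).obj (Q.obj (K.obj n)),
      Q.map (K.map (homOfLE (Nat.zero_le n))) =
        φ ≫ (tt.truncLTι (-(n : ℤ) + 1)).app (Q.obj (K.obj n)) :=
    Triangle.coyoneda_exact₂ _
      (tt.triangleLTGE_distinguished (-(n : ℤ) + 1) (Q.obj (K.obj n))) _ hn
  obtain ⟨e, he⟩ := exists_iso_truncLE (K.obj n) (-(n : ℤ))
  refine ⟨φ ≫ e.inv, ?_⟩
  rw [Category.assoc, ← he, Iso.inv_hom_id_assoc, ← hφ]

end Groth.Agent.S0982
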