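import Groth.Statements.S0985
import Groth.Agent.Lib.Helper1Hocolim
import Mathlib.Algebra.Homology.DerivedCategory.ShortExact
import Mathlib.Algebra.Homology.GrothendieckAbelian
-- import your own Groth.Agent.* helpers here

set_option autoImplicit false
universe w v u
open CategoryTheory CategoryTheory.Limits
open DerLim

namespace Groth.Agent.S0985

open CategoryTheory.Pretriangulated Groth.Agent.Lib.Helper1 DerivedCategory in
/-- Let A be an abelian category in which colimits of sequences ℕ ⥤ A exist and are exact, and let L : ℕ
⥤ CochainComplex A ℤ be a sequence of complexes. Then the image in the derived category of the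
termwise colimit of L, with the canonical maps from the Lₙ, is a homotopy colimit of the images of
the Lₙ — assuming the termwise direct sum of the Lₙ exists and is preserved by the localization
functor to D(A) (a known result, carried here as a hypothesis rather than proved), and that the
direct sum of the images exists in D(A). -/
theorem result {A : Type u} [Category.{v} A] [Abelian A] [HasDerivedCategory.{w} A]
    [HasColimitsOfShape ℕ A] [HasExactColimitsOfShape ℕ A]
    (L : ℕ ⥤ CochainComplex A ℤ) [HasCoproduct L.obj] [PreservesColimit (Discrete.functor L.obj) (DerivedCategory.Q (C := A))]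
    [HasCoproduct (fun n => DerivedCategory.Q.obj (L.obj n))] :
    DerLim.IsHocolim (fun n => DerivedCategory.Q.obj (L.obj n)) (fun n => DerivedCategory.Q.map (L.map (homOfLE (Nat.le_succ n))))
      (DerivedCategory.Q.obj (colimit L)) (fun n => DerivedCategory.Q.map (colimit.ι L n)) := by
  have hS := telescope_shortExact L
  have hT := triangleOfSES_distinguished hS
  let θ : (∐ fun n => Q.obj (L.obj n)) ≅ Q.obj (∐ L.obj) := asIso (sigmaComparison Q L.obj)
  refine ⟨triangleOfSESδ hS ≫ (θ.inv)⟦(1 : ℤ)⟧', ?_⟩
  refine isomorphic_distinguished _ hT _ (Triangle.isoMk _ _ θ θ (Iso.refl _) ?_ ?_ ?_)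
  · dsimp [θ]
    exact (sigmaComparison_map_one_sub_shiftMap Q L.obj _).symm
  · change Sigma.desc (fun n => Q.map (colimit.ι L n)) ≫ 𝟙 (Q.obj (colimit L)) =
      sigmaComparison Q L.obj ≫ Q.map (Sigma.desc (fun n => colimit.ι L n))
    rw [Category.comp_id, sigmaComparison_map_desc]
  · change (triangleOfSESδ hS ≫ (θ.inv)⟦(1 : ℤ)⟧') ≫ (θ.hom)⟦(1 : ℤ)⟧' =
      𝟙 (Q.obj (colimit L)) ≫ triangleOfSESδ hS
    rw [Category.id_comp, Category.assoc, ← Functor.map_comp, θ.inv_hom_id,
      CategoryTheory.Functor.map_id, Category.comp_id]

end Groth.Agent.S0985
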