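import Groth.Statements.S0988
import Mathlib
import Groth.Agent.Lib.Helper20NoZTors
import Groth.Agent.Lib.Helper4DevC
import Groth.Agent.Lib.Helper23Extend2
import Groth.Agent.Lib.Helper28HomShRefl

set_option autoImplicit false
universe u
open CategoryTheory AlgebraicGeometry Opposite
open Perf

namespace Groth.Agent.S0988

open CategoryTheory CategoryTheory.Limits AlgebraicGeometry TopologicalSpace Opposite
open Groth.Agent.Lib.Helper4.Dev Groth.Agent.Lib.Helper20.NoZTors
  Groth.Agent.Lib.Helper23.QCohLocal Groth.Agent.Lib.Helper2 Groth.Agent.Lib.Helper23.FinType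
  Groth.Agent.Lib.Helper23.Extend Groth.Agent.Lib.Helper6

/-- extension of a morphism from an open, with quasi-coherent target -/
theorem extend_hom_qcoh (X : Scheme.{u}) [IsNoetherian X] (F G : X.Modules)
    (hF : Coh.IsCoh F) [G.IsQuasicoherent] (U : X.Opens)
    (φ : (Scheme.Modules.restrictFunctor U.ι).obj F ⟶ (Scheme.Modules.restrictFunctor U.ι).obj G) :
    ∃ (F' : X.Modules) (ι : F' ⟶ F) (φ' : F' ⟶ G), Mono ι ∧ Coh.IsCoh F' ∧
      IsIso ((Scheme.Modules.restrictFunctor U.ι).map ι) ∧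
      (Scheme.Modules.restrictFunctor U.ι).map φ' = (Scheme.Modules.restrictFunctor U.ι).map ι ≫ φ := by
  haveI : F.IsQuasicoherent := hF.1
  haveI : SheafOfModules.IsFiniteType (R := X.ringCatSheaf) F := hF.2
  haveI : IsLocallyNoetherian X := inferInstance
  obtain ⟨H, p₁, p₂, hHq, hiso, hcomp, hmono⟩ := exists_graph U.ι F G φ
  have hisoOn : IsoOn p₁ U := by
    have := (isIso_restrict_iff U.ι p₁).1 hiso
    rwa [Scheme.Opens.opensRange_ι] at this
  have hFft : FTOn F U := fun W hW _ => finite_of_isFiniteType F hW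
  have hHft : FTOn H U := FTOn.of_isoOn p₁ hisoOn hFft
  haveI := hHq
  haveI : NoetherianSpace X := inferInstance
  obtain ⟨H', ψ, hψm, hH'q, hH'ft, hψiso⟩ := exists_sub_isFiniteType H U
    (NoetherianSpace.isCompact _) hHft
  have hH' : Coh.IsCoh H' := ⟨hH'q, hH'ft⟩
  obtain ⟨H₁, ι₁, hι₁, hH₁, hiso₁, hnoZ⟩ := exists_sub_noZ H' hH' U
  let Rj := Scheme.Modules.restrictFunctor U.ι
  haveI : IsIso (Rj.map ψ) := (isIso_restrict_iff U.ι ψ).2 (by
    rw [Scheme.Opens.opensRange_ι]; exact hψiso)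
  haveI hisoc : IsIso (Rj.map (ι₁ ≫ ψ ≫ p₁)) := by
    rw [Functor.map_comp, Functor.map_comp]; infer_instance
  haveI : H₁.IsQuasicoherent := hH₁.1
  have hK0 : IsZero (kernel (ι₁ ≫ ψ ≫ p₁)) := by
    refine hnoZ (kernel (ι₁ ≫ ψ ≫ p₁)) (kernel.ι _) (isQuasicoherent_kernel _) inferInstance ?_
    haveI : PreservesFiniteLimits Rj := inferInstance
    exact IsZero.of_iso (isZero_kernel_of_mono (Rj.map (ι₁ ≫ ψ ≫ p₁)))
      (PreservesKernel.iso Rj (ι₁ ≫ ψ ≫ p₁))
  haveI : Mono (ι₁ ≫ ψ ≫ p₁) := Preadditive.mono_of_kernel_zero (hK0.eq_of_src _ _)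
  refine ⟨H₁, ι₁ ≫ ψ ≫ p₁, ι₁ ≫ ψ ≫ p₂, inferInstance, hH₁, hisoc, ?_⟩
  rw [Functor.map_comp, Functor.map_comp, Functor.map_comp, Functor.map_comp, hcomp,
    Category.assoc, Category.assoc]


variable {X : Scheme.{u}}

/-- the morphism `O_X|_U ⟶ M|_U` given by a section of `M` over `U`. -/
noncomputable def homOfSection (M : X.Modules) (U : X.Opens) (s : Γ(M, U)) :
    (Scheme.Modules.restrictFunctor U.ι).obj (Coh.structureModule X) ⟶
      (Scheme.Modules.restrictFunctor U.ι).obj M :=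
  ⟨PresheafOfModules.homMk
    { app := fun V => AddCommGrpCat.ofHom
        ((LinearMap.toSpanSingleton Γ(X, U.ι ''ᵁ V.unop) Γ(M, U.ι ''ᵁ V.unop)
          (res M (U.ι_image_le V.unop) s)).toAddMonoidHom)
      naturality := fun V W i => by
        ext r
        have hVW : U.ι ''ᵁ W.unop ≤ U.ι ''ᵁ V.unop := Scheme.Hom.image_mono _ (leOfHom i.unop)
        let r' : Γ(X, U.ι ''ᵁ V.unop) := r
        change resf hVW r' • res M (U.ι_image_le W.unop) s =
          res M hVW (r' • res M (U.ι_image_le V.unop) s)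
        rw [res_smul, res_res] }
    (fun V r m => by
      let m' : Γ(X, U.ι ''ᵁ V.unop) := m
      change ((U.ι.appIso V.unop).inv r * m') • res M (U.ι_image_le V.unop) s =
        (U.ι.appIso V.unop).inv r • (m' • res M (U.ι_image_le V.unop) s)
      rw [mul_smul])⟩

theorem homOfSection_app (M : X.Modules) (U : X.Opens) (s : Γ(M, U))
    (V : (U : Scheme.{u}).Opens) (r : Γ(X, U.ι ''ᵁ V)) :
    ((homOfSection M U s).app V).hom r = r • res M (U.ι_image_le V) s := rfl


open Groth.Agent.Lib.Helper28.HomSh in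

/-- Let X be a Noetherian scheme and J an injective object of the category QCoh(O_X) of quasi-coherent
O_X-modules (the full subcategory of all O_X-modules). Then J is flasque: for opens U ⊆ V of X the
restriction map J(V) → J(U) is surjective. -/
theorem result (X : Scheme.{u}) [IsNoetherian X]
    (J : ObjectProperty.FullSubcategory (fun M : X.Modules => Coh.IsQCoh M)) (hJ : Injective J)
    (U V : X.Opens) (hUV : U ≤ V) :
    Function.Surjective (J.obj.val.map (homOfLE hUV).op).hom := by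
  intro s
  haveI : J.obj.IsQuasicoherent := J.property
  let s' : Γ(J.obj, U) := s
  obtain ⟨F', ι, φ', hι, hF', hiso, hcomp⟩ := extend_hom_qcoh X (Coh.structureModule X) J.obj
    (isCoh_structureModule' X) U (homOfSection J.obj U s')
  let Oq : ObjectProperty.FullSubcategory (fun M : X.Modules => Coh.IsQCoh M) :=
    ⟨Coh.structureModule X, (isCoh_structureModule' X).1⟩
  let Fq : ObjectProperty.FullSubcategory (fun M : X.Modules => Coh.IsQCoh M) := ⟨F', hF'.1⟩
  let ιq : Fq ⟶ Oq := ObjectProperty.homMk ι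
  let φq : Fq ⟶ J := ObjectProperty.homMk φ'
  haveI : Mono ιq := (ObjectProperty.ι _).mono_of_mono_map (by exact hι)
  let gq : Oq ⟶ J := Injective.factorThru φq ιq
  have hgq : ιq ≫ gq = φq := Injective.comp_factorThru φq ιq
  let g : Coh.structureModule X ⟶ J.obj := gq.hom
  have hg : ι ≫ g = φ' := congrArg (fun k => k.hom) hgq
  let Rj := Scheme.Modules.restrictFunctor U.ι
  have hRg : Rj.map g = homOfSection J.obj U s' := by
    haveI := hiso
    rw [← cancel_epi (Rj.map ι), ← Functor.map_comp, hg, hcomp]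
  let W : X.Opens := U.ι ''ᵁ ⊤
  have hWU : W ≤ U := U.ι_image_le ⊤
  have hUW : U ≤ W := le_of_eq U.ι_image_top.symm
  let one : Γ(Coh.structureModule X, ⊤) := (1 : Γ(X, ⊤))
  let t : Γ(J.obj, ⊤) := g.app ⊤ one
  have h1 : g.app W (res (Coh.structureModule X) (le_top : W ≤ ⊤) one) =
      res J.obj (le_top : W ≤ ⊤) t := app_map g (homOfLE (le_top : W ≤ ⊤)) one
  have hone : res (Coh.structureModule X) (le_top : W ≤ ⊤) one = (1 : Γ(X, W)) :=
    map_one (X.presheaf.map (homOfLE (le_top : W ≤ ⊤)).op).hom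
  have h3 : g.app W (1 : Γ(X, W)) = (1 : Γ(X, W)) • res J.obj hWU s' := by
    have := congrArg (fun k => (k.app ⊤).hom (1 : Γ(X, W))) hRg
    exact this
  rw [hone, h3, one_smul] at h1
  have hinj : ∀ a b : Γ(J.obj, U), res J.obj hWU a = res J.obj hWU b → a = b := by
    intro a b hab
    have := congrArg (res J.obj hUW) hab
    rwa [res_res, res_res, Groth.Agent.Lib.Helper23.SubSh.res_id,
      Groth.Agent.Lib.Helper23.SubSh.res_id] at this
  refine ⟨res J.obj (le_top : V ≤ ⊤) t, ?_⟩
  change res J.obj hUV (res J.obj (le_top : V ≤ ⊤) t) = s'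
  rw [res_res]
  apply hinj
  rw [res_res]
  exact h1.symm

end Groth.Agent.S0988
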