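import Groth.Statements.S0989
-- import your own Groth.Agent.* helpers here

set_option autoImplicit false
universe w v u
open CategoryTheory CategoryTheory.Limits
open CohDer

namespace Groth.Agent.S0989

lemma retract_closed {A : Type u} [Category.{v} A] [Abelian A]
    (P : ObjectProperty A) [P.IsClosedUnderIsomorphisms] (h0 : ∃ Z : A, IsZero Z ∧ P Z)
    (hP : ∀ S : ComposableArrows A 4, S.Exact → P (S.obj 0) → P (S.obj 1) → P (S.obj 3) → P (S.obj 4) → P (S.obj 2))
    {X Y : A} (h : Retract X Y) (hY : P Y) : P X := by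
  obtain ⟨Z, hZ, hPZ⟩ := h0
  have w : h.i ≫ (𝟙 Y - h.r ≫ h.i) = 0 := by
    rw [Preadditive.comp_sub, Category.comp_id, ← Category.assoc, h.retract, Category.id_comp, sub_self]
  let S : ComposableArrows A 4 :=
    ComposableArrows.mk₄ (0 : Z ⟶ Z) (0 : Z ⟶ X) h.i (𝟙 Y - h.r ≫ h.i)
  have hS : S.Exact := by
    refine ComposableArrows.exact_of_δ₀ ?_ (ComposableArrows.exact_of_δ₀ ?_ ?_)
    · exact (ShortComplex.exact_of_isZero_X₂ (ShortComplex.mk (0 : Z ⟶ Z) (0 : Z ⟶ X) (by simp)) hZ).exact_toComposableArrows
    · have : Mono h.i := h.splitMono.mono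
      exact ((ShortComplex.mk (0 : Z ⟶ X) h.i (by simp)).exact_iff_mono rfl).2 ‹_› |>.exact_toComposableArrows
    · refine (ShortComplex.exact_of_f_is_kernel (ShortComplex.mk h.i (𝟙 Y - h.r ≫ h.i) w) ?_).exact_toComposableArrows
      refine KernelFork.IsLimit.ofι _ _ (fun g _ => g ≫ h.r) (fun g hg => ?_) (fun g hg m hm => ?_)
      · dsimp at g hg ⊢
        rw [Preadditive.comp_sub, Category.comp_id, sub_eq_zero] at hg
        rw [Category.assoc, ← hg]
      · dsimp at g hg m hm ⊢
        rw [← hm, Category.assoc, h.retract, Category.comp_id]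
  exact hP S hS hPZ hPZ hY hY

open DerivedCategory ZeroObject in

/-- Let P be a weak Serre class in an abelian category A: P is closed under isomorphisms, holds for a
zero object, and whenever X₀ → X₁ → X₂ → X₃ → X₄ is exact with P holding for X₀, X₁, X₃, X₄ it holds
for X₂. Then the class of objects of the derived category all of whose cohomology objects satisfy P
is a triangulated subcategory (contains zero, stable under shifts, closed under extensions) which is
moreover closed under retracts (saturated). -/
theorem result {A : Type u} [Category.{v} A] [Abelian A] [HasDerivedCategory.{w} A]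
    (P : ObjectProperty A) [P.IsClosedUnderIsomorphisms] (h0 : ∃ Z : A, IsZero Z ∧ P Z)
    (hP : ∀ S : ComposableArrows A 4, S.Exact → P (S.obj 0) → P (S.obj 1) → P (S.obj 3) → P (S.obj 4) → P (S.obj 2)) :
    ObjectProperty.IsTriangulated (fun X : DerivedCategory A => ∀ n : ℤ, P ((DerivedCategory.homologyFunctor A n).obj X)) ∧
    ObjectProperty.IsStableUnderRetracts (fun X : DerivedCategory A => ∀ n : ℤ, P ((DerivedCategory.homologyFunctor A n).obj X)) := by
  have hzero : ∀ Z' : A, IsZero Z' → P Z' := by
    obtain ⟨Z, hZ, hPZ⟩ := h0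
    intro Z' hZ'
    exact P.prop_of_iso (hZ.iso hZ') hPZ
  refine ⟨?_, ⟨fun {X Y} h hY n => retract_closed P h0 hP (h.map (DerivedCategory.homologyFunctor A n)) (hY n)⟩⟩
  have h1 : ObjectProperty.ContainsZero (fun X : DerivedCategory A => ∀ n : ℤ, P ((DerivedCategory.homologyFunctor A n).obj X)) :=
    ⟨⟨0, isZero_zero _, fun n => hzero _ ((DerivedCategory.homologyFunctor A n).map_isZero (isZero_zero _))⟩⟩
  have h2 : ObjectProperty.IsStableUnderShift (fun X : DerivedCategory A => ∀ n : ℤ, P ((DerivedCategory.homologyFunctor A n).obj X)) ℤ := by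
    refine ⟨fun a => ⟨fun X hX n => ?_⟩⟩
    exact P.prop_of_iso (((DerivedCategory.homologyFunctor A 0).shiftIso a n (a + n) rfl).app X).symm (hX (a + n))
  have h3 : ObjectProperty.IsTriangulatedClosed₂ (fun X : DerivedCategory A => ∀ n : ℤ, P ((DerivedCategory.homologyFunctor A n).obj X)) := by
    refine ⟨fun T hT hT₁ hT₃ => ObjectProperty.le_isoClosure _ _ (fun n => ?_)⟩
    let S : ComposableArrows A 4 :=
      ComposableArrows.mk₄ (HomologySequence.δ T (n - 1) n (by lia)) ((homologyFunctor A n).map T.mor₁)
        ((homologyFunctor A n).map T.mor₂) (HomologySequence.δ T n (n + 1) rfl)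
    have hS : S.Exact := by
      refine ComposableArrows.exact_of_δ₀ ?_ (ComposableArrows.exact_of_δ₀ ?_ ?_)
      · exact (HomologySequence.exact₁ T hT (n - 1) n (by lia)).exact_toComposableArrows
      · exact (HomologySequence.exact₂ T hT n).exact_toComposableArrows
      · exact (HomologySequence.exact₃ T hT n (n + 1) rfl).exact_toComposableArrows
    exact hP S hS (hT₃ _) (hT₁ _) (hT₃ _) (hT₁ _)
  exact { toContainsZero := h1, toIsStableUnderShift := h2, toIsTriangulatedClosed₂ := h3 }


end Groth.Agent.S0989
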