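import Groth.Statements.S10067
import Mathlib.CategoryTheory.Filtered.Final

set_option autoImplicit false
universe v' v w u
open CategoryTheory CategoryTheory.Limits AlgebraicGeometry
open AlgSp Opposite

namespace Groth.Agent.S10067

theorem isPullback_colim_iff {J : Type v} [Category.{v'} J] [IsFiltered J] {Φ Γ : J ⥤ Type w}
    [HasColimit Φ] [HasColimit Γ] (α : Φ ⟶ Γ) (sΦ : Cocone Φ) (sΓ : Cocone Γ) (β : sΦ.pt ⟶ sΓ.pt)
    (hβ : ∀ j (x : Φ.obj j), β (sΦ.ι.app j x) = sΓ.ι.app j (α.app j x)) :
    IsPullback (colimMap α) (colimit.desc Φ sΦ) (colimit.desc Γ sΓ) β ↔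
      (∀ j (y : Γ.obj j) (x : sΦ.pt), β x = sΓ.ι.app j y →
        ∃ (k : J) (f : j ⟶ k) (x' : Φ.obj k), α.app k x' = Γ.map f y ∧ sΦ.ι.app k x' = x) ∧
      (∀ j (x x' : Φ.obj j), α.app j x = α.app j x' → sΦ.ι.app j x = sΦ.ι.app j x' →
        ∃ (k : J) (f : j ⟶ k), Φ.map f x = Φ.map f x') := by
  have hmap : ∀ j (x : Φ.obj j), colimMap α (colimit.ι Φ j x) = colimit.ι Γ j (α.app j x) := by
    intro j x
    exact ConcreteCategory.congr_hom (ι_colimMap α j) x
  have hdΦ : ∀ j (x : Φ.obj j), colimit.desc Φ sΦ (colimit.ι Φ j x) = sΦ.ι.app j x := by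
    intro j x
    exact ConcreteCategory.congr_hom (colimit.ι_desc sΦ j) x
  have hdΓ : ∀ j (x : Γ.obj j), colimit.desc Γ sΓ (colimit.ι Γ j x) = sΓ.ι.app j x := by
    intro j x
    exact ConcreteCategory.congr_hom (colimit.ι_desc sΓ j) x
  rw [Types.isPullback_iff]
  constructor
  · rintro ⟨-, huniq, hex⟩
    refine ⟨?_, ?_⟩
    · intro j y x hx
      obtain ⟨z, hz1, hz2⟩ := hex (colimit.ι Γ j y) x (by rw [hdΓ, hx])
      obtain ⟨k, x', rfl⟩ := Types.jointly_surjective' z
      rw [hmap, Types.FilteredColimit.colimit_eq_iff] at hz1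
      obtain ⟨m, f, g, hfg⟩ := hz1
      refine ⟨m, g, Φ.map f x', ?_, ?_⟩
      · rw [← hfg]
        exact ConcreteCategory.congr_hom (α.naturality f) x'
      · rw [hdΦ] at hz2
        rw [← hz2]
        exact ConcreteCategory.congr_hom (sΦ.w f) x'
    · intro j x x' h1 h2
      have := huniq (colimit.ι Φ j x) (colimit.ι Φ j x') ⟨by rw [hmap, hmap, h1], by rw [hdΦ, hdΦ, h2]⟩
      exact (Types.FilteredColimit.isColimit_eq_iff' (colimit.isColimit Φ) x x').1 this
  · rintro ⟨hex, huniq⟩
    refine ⟨?_, ?_, ?_⟩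
    · apply colimit.hom_ext
      intro j
      ext x
      simp only [TypeCat.Fun.toFun_apply, comp_apply]
      rw [hmap, hdΓ, hdΦ, hβ]
    · rintro z z' ⟨h1, h2⟩
      obtain ⟨j, x, x', rfl, rfl⟩ :=
        Types.FilteredColimit.jointly_surjective_of_isColimit₂ (colimit.isColimit Φ) z z'
      change colimMap α (colimit.ι Φ j x) = colimMap α (colimit.ι Φ j x') at h1
      change colimit.desc Φ sΦ (colimit.ι Φ j x) = colimit.desc Φ sΦ (colimit.ι Φ j x') at h2
      rw [hmap, hmap] at h1
      rw [hdΦ, hdΦ] at h2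
      obtain ⟨k, f, hf⟩ := (Types.FilteredColimit.isColimit_eq_iff' (colimit.isColimit Γ) _ _).1 h1
      have e1 : α.app k (Φ.map f x) = α.app k (Φ.map f x') := by
        have n1 := ConcreteCategory.congr_hom (α.naturality f) x
        have n2 := ConcreteCategory.congr_hom (α.naturality f) x'
        simp only [comp_apply] at n1 n2
        rw [n1, n2, hf]
      have e2 : sΦ.ι.app k (Φ.map f x) = sΦ.ι.app k (Φ.map f x') := by
        have n1 := ConcreteCategory.congr_hom (sΦ.w f) x
        have n2 := ConcreteCategory.congr_hom (sΦ.w f) x'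
        simp only [comp_apply] at n1 n2
        rw [n1, n2, h2]
      obtain ⟨m, g, hg⟩ := huniq k _ _ e1 e2
      change colimit.ι Φ j x = colimit.ι Φ j x'
      rw [Types.FilteredColimit.colimit_eq_iff]
      refine ⟨m, f ≫ g, f ≫ g, ?_⟩
      simpa using hg
    · intro z x hzx
      obtain ⟨j, y, rfl⟩ := Types.jointly_surjective' z
      rw [hdΓ] at hzx
      obtain ⟨k, f, x', h1, h2⟩ := hex j y x hzx.symm
      refine ⟨colimit.ι Φ k x', ?_, ?_⟩
      · rw [hmap, h1]
        exact colimit.w_apply Γ f y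
      · rw [hdΦ, h2]

variable {S : Scheme.{u}}

/-- the comparison between an object of `Over S` and itself seen over a target -/
noncomputable def ovIso {A T : Over S} (g : A ⟶ T) : (Over.map T.hom).obj (Over.mk g.left) ≅ A :=
  Over.isoMk (Iso.refl _) (by simp)

@[simp]
theorem ovIso_hom_left {A T : Over S} (g : A ⟶ T) : (ovIso g).hom.left = 𝟙 _ := rfl

@[simp]
theorem ovIso_inv_left {A T : Over S} (g : A ⟶ T) : (ovIso g).inv.left = 𝟙 _ := rfl

theorem ovIso_hom_comp {A T : Over S} (g : A ⟶ T) :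
    (ovIso g).hom ≫ g = AlgSp.overHom T (Over.mk g.left) := by
  ext
  simp

theorem ovIso_inv_comp {A T : Over S} (g : A ⟶ T) :
    (ovIso g).inv ≫ AlgSp.overHom T (Over.mk g.left) = g := by
  rw [← ovIso_hom_comp, Iso.inv_hom_id_assoc]

theorem map_map_apply {F : AlgSp.PSp S} {A B C : Over S} (f : A ⟶ B) (g : B ⟶ C) (x : F.obj (op C)) :
    F.map f.op (F.map g.op x) = F.map (f ≫ g).op x := by
  rw [op_comp, Functor.map_comp_apply]

theorem map_id_apply' {F : AlgSp.PSp S} {A : Over S} (f : A ⟶ A) (hf : f = 𝟙 A) (x : F.obj (op A)) :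
    F.map f.op x = x := by
  subst hf
  simp

theorem map_eq_of_comp_eq {F : AlgSp.PSp S} {A B B' C : Over S} (f : A ⟶ B) (g : B ⟶ C)
    (f' : A ⟶ B') (g' : B' ⟶ C) (e : f ≫ g = f' ≫ g') (x : F.obj (op C)) :
    F.map f.op (F.map g.op x) = F.map f'.op (F.map g'.op x) := by
  rw [map_map_apply, map_map_apply, e]

theorem fiber_elt {F G : PSp S} (a : F ⟶ G) {A T : Over S} (g : A ⟶ T) (y : G.obj (op T))
    (x : F.obj (op A)) (hx : a.app (op A) x = G.map g.op y) :
    a.app _ (F.map (ovIso g).hom.op x) = G.map (AlgSp.overHom T (Over.mk g.left)).op y := by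
  rw [NatTrans.naturality_apply, hx, map_map_apply, ovIso_hom_comp]

theorem fiber_elt_inv {F G : PSp S} (a : F ⟶ G) {A T : Over S} (g : A ⟶ T) (y : G.obj (op T))
    (z : F.obj (op ((Over.map T.hom).obj (Over.mk g.left))))
    (hz : a.app _ z = G.map (AlgSp.overHom T (Over.mk g.left)).op y) :
    a.app _ (F.map (ovIso g).inv.op z) = G.map g.op y := by
  rw [NatTrans.naturality_apply, hz, map_map_apply, ovIso_inv_comp]

theorem forward {F G : AlgSp.PSp S} (a : F ⟶ G) (h : AlgSp.IsRelLimitPreserving a)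
    {I : Type u} [SmallCategory I] [IsCofiltered I] (D : I ⥤ Over S) (c : Cone D)
    (hc : IsLimit ((Over.forget S).mapCone c)) (hD : ∀ i, IsAffine (D.obj i).left)
    (hT : IsAffine c.pt.left) :
    IsPullback (colimMap (Functor.whiskerLeft D.op a)) (colimit.desc (D.op ⋙ F) (F.mapCocone c.op))
      (colimit.desc (D.op ⋙ G) (G.mapCocone c.op)) (a.app (Opposite.op c.pt)) := by
  rw [isPullback_colim_iff]
  swap
  · intro j x
    exact NatTrans.naturality_apply a (c.π.app j.unop).op x
  -- the common set-up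
  have key : ∀ (i : I) (y : G.obj (op (D.obj i))),
      Nonempty (IsColimit ((AlgSp.fiberFun a (D.obj i) y).mapCocone
        (((Over.forget S).mapCone c).overPost i).op)) := by
    intro i y
    refine h (D.obj i) y (Over.post (D ⋙ Over.forget S)) (((Over.forget S).mapCone c).overPost i)
      ?_ (fun k => hD k.left) hT
    exact (Functor.Initial.isLimitWhiskerEquiv (Over.forget i) ((Over.forget S).mapCone c)).symm hc
  refine ⟨?_, ?_⟩
  · rintro ⟨i⟩ y x hx
    obtain ⟨hcol⟩ := key i y
    let π : ∀ k : I, c.pt ⟶ D.obj k := fun k => c.π.app k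
    change G.obj (op (D.obj i)) at y
    change F.obj (op c.pt) at x
    change a.app (op c.pt) x = G.map (π i).op y at hx
    obtain ⟨⟨k⟩, z, hz⟩ := Types.jointly_surjective_of_isColimit hcol
      (⟨F.map (ovIso (π i)).hom.op x, fiber_elt a (π i) y x hx⟩ :
        (AlgSp.fiberFun a (D.obj i) y).obj (op (Over.mk (π i).left)))
    have hz1 := congrArg Subtype.val hz
    change F.map ((Over.map (D.obj i).hom).map
      ((((Over.forget S).mapCone c).overPost i).π.app k)).op z.1 =
      F.map (ovIso (π i)).hom.op x at hz1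
    refine ⟨op k.left, k.hom.op, F.map (ovIso (D.map k.hom)).inv.op z.1, ?_, ?_⟩
    · exact fiber_elt_inv a (D.map k.hom) y z.1 z.2
    · change F.map (π k.left).op (F.map (ovIso (D.map k.hom)).inv.op z.1) = x
      have e1 : π k.left ≫ (ovIso (D.map k.hom)).inv = (ovIso (π i)).inv ≫
          (Over.map (D.obj i).hom).map ((((Over.forget S).mapCone c).overPost i).π.app k) := by
        ext
        simp
        rfl
      calc F.map (π k.left).op (F.map (ovIso (D.map k.hom)).inv.op z.1)
          = F.map (π k.left ≫ (ovIso (D.map k.hom)).inv).op z.1 := map_map_apply _ _ _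
        _ = F.map ((ovIso (π i)).inv ≫
          (Over.map (D.obj i).hom).map ((((Over.forget S).mapCone c).overPost i).π.app k)).op z.1 :=
            congrArg (fun m => F.map (Quiver.Hom.op m) z.1) e1
        _ = F.map (ovIso (π i)).inv.op (F.map ((Over.map (D.obj i).hom).map
              ((((Over.forget S).mapCone c).overPost i).π.app k)).op z.1) := (map_map_apply _ _ _).symm
        _ = F.map (ovIso (π i)).inv.op (F.map (ovIso (π i)).hom.op x) := by rw [hz1]
        _ = F.map ((ovIso (π i)).inv ≫ (ovIso (π i)).hom).op x := map_map_apply _ _ _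
        _ = x := map_id_apply' _ (by simp) x
  · rintro ⟨i⟩ x x' h1 h2
    let π : ∀ k : I, c.pt ⟶ D.obj k := fun k => c.π.app k
    change F.obj (op (D.obj i)) at x x'
    change a.app (op (D.obj i)) x = a.app (op (D.obj i)) x' at h1
    change F.map (π i).op x = F.map (π i).op x' at h2
    obtain ⟨hcol⟩ := key i (a.app (op (D.obj i)) x)
    have hid : ∀ w : G.obj (op (D.obj i)), w = G.map (D.map (𝟙 i)).op w := by
      intro w
      rw [D.map_id]
      simp
    let z : (AlgSp.fiberFun a (D.obj i) (a.app (op (D.obj i)) x)).obj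
        (op (Over.mk (D.map (𝟙 i)).left)) :=
      ⟨F.map (ovIso (D.map (𝟙 i))).hom.op x, fiber_elt a (D.map (𝟙 i)) _ x (hid _)⟩
    let z' : (AlgSp.fiberFun a (D.obj i) (a.app (op (D.obj i)) x)).obj
        (op (Over.mk (D.map (𝟙 i)).left)) :=
      ⟨F.map (ovIso (D.map (𝟙 i))).hom.op x', fiber_elt a (D.map (𝟙 i)) _ x' (by
        rw [← h1]; exact hid _)⟩
    have e0 : (Over.map (D.obj i).hom).map
        ((((Over.forget S).mapCone c).overPost i).π.app (Over.mk (𝟙 i))) ≫
          (ovIso (D.map (𝟙 i))).hom = (ovIso (π i)).hom ≫ π i := by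
      ext
      simp
      rfl
    have hzz : ((AlgSp.fiberFun a (D.obj i) (a.app (op (D.obj i)) x)).mapCocone
        (((Over.forget S).mapCone c).overPost i).op).ι.app (op (Over.mk (𝟙 i))) z =
        ((AlgSp.fiberFun a (D.obj i) (a.app (op (D.obj i)) x)).mapCocone
        (((Over.forget S).mapCone c).overPost i).op).ι.app (op (Over.mk (𝟙 i))) z' := by
      apply Subtype.ext
      change F.map ((Over.map (D.obj i).hom).map
        ((((Over.forget S).mapCone c).overPost i).π.app (Over.mk (𝟙 i)))).op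
          (F.map (ovIso (D.map (𝟙 i))).hom.op x) =
        F.map ((Over.map (D.obj i).hom).map
        ((((Over.forget S).mapCone c).overPost i).π.app (Over.mk (𝟙 i)))).op
          (F.map (ovIso (D.map (𝟙 i))).hom.op x')
      exact (map_eq_of_comp_eq _ _ _ _ e0 x).trans ((congrArg (F.map (ovIso (π i)).hom.op) h2).trans
        (map_eq_of_comp_eq _ _ _ _ e0 x').symm)
    obtain ⟨⟨k⟩, ⟨f⟩, hf⟩ := (Types.FilteredColimit.isColimit_eq_iff'
      (F := (Over.post (D ⋙ Over.forget S)).op ⋙
        AlgSp.fiberFun a (D.obj i) (a.app (op (D.obj i)) x)) hcol (i := op (Over.mk (𝟙 i))) z z').1 hzz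
    have hf1 := congrArg Subtype.val hf
    change F.map ((Over.map (D.obj i).hom).map ((Over.post (D ⋙ Over.forget S)).map f)).op
        (F.map (ovIso (D.map (𝟙 i))).hom.op x) =
      F.map ((Over.map (D.obj i).hom).map ((Over.post (D ⋙ Over.forget S)).map f)).op
        (F.map (ovIso (D.map (𝟙 i))).hom.op x') at hf1
    refine ⟨op k.left, f.left.op, ?_⟩
    change F.map (D.map f.left).op x = F.map (D.map f.left).op x'
    have e2 : (ovIso (D.map k.hom)).inv ≫
        (Over.map (D.obj i).hom).map ((Over.post (D ⋙ Over.forget S)).map f) ≫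
          (ovIso (D.map (𝟙 i))).hom = D.map f.left := by
      ext
      simp
      exact Category.comp_id _
    have e3 : ∀ w : F.obj (op (D.obj i)), F.map (D.map f.left).op w =
        F.map (ovIso (D.map k.hom)).inv.op
          (F.map ((Over.map (D.obj i).hom).map ((Over.post (D ⋙ Over.forget S)).map f)).op
            (F.map (ovIso (D.map (𝟙 i))).hom.op w)) := by
      intro w
      rw [← e2]
      exact ((congrArg (F.map (ovIso (D.map k.hom)).inv.op) (map_map_apply _ _ w)).trans
        (map_map_apply _ _ w)).symm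
    rw [e3, e3]
    exact congrArg _ hf1

theorem backward {F G : AlgSp.PSp S} (a : F ⟶ G)
    (h : ∀ ⦃I : Type u⦄ [SmallCategory I] [IsCofiltered I] (D : I ⥤ Over S) (c : Cone D),
        IsLimit ((Over.forget S).mapCone c) → (∀ i, IsAffine (D.obj i).left) → IsAffine c.pt.left →
          IsPullback (colimMap (Functor.whiskerLeft D.op a))
            (colimit.desc (D.op ⋙ F) (F.mapCocone c.op))
            (colimit.desc (D.op ⋙ G) (G.mapCocone c.op)) (a.app (Opposite.op c.pt))) :
    AlgSp.IsRelLimitPreserving a := by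
  intro T y I _ _ D c hc hD hT
  have hp := h (D ⋙ Over.map T.hom) ((Over.map T.hom).mapCone c) hc hD hT
  rw [isPullback_colim_iff] at hp
  swap
  · intro j x
    exact NatTrans.naturality_apply a ((Over.map T.hom).map (c.π.app j.unop)).op x
  obtain ⟨hex, huniq⟩ := hp
  have hov : ∀ {A B : Over T.left} (g : A ⟶ B),
      G.map ((Over.map T.hom).map g).op (G.map (AlgSp.overHom T B).op y) =
        G.map (AlgSp.overHom T A).op y := by
    intro A B g
    rw [map_map_apply, AlgSp.map_comp_overHom]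
  refine ⟨Types.FilteredColimit.isColimitOf' _ _ ?_ ?_⟩
  · rintro ⟨x0, hx0⟩
    obtain ⟨i₀⟩ : Nonempty I := IsCofiltered.nonempty
    obtain ⟨⟨k⟩, ⟨f⟩, x', hx1, hx2⟩ := hex (op i₀) (G.map (AlgSp.overHom T (D.obj i₀)).op y) x0
      (hx0.trans (hov (c.π.app i₀)).symm)
    refine ⟨op k, ⟨x', hx1.trans (hov (D.map f))⟩, ?_⟩
    apply Subtype.ext
    exact hx2.symm
  · rintro ⟨i⟩ ⟨x0, hx0⟩ ⟨x0', hx0'⟩ hxx
    have h2 := congrArg Subtype.val hxx
    obtain ⟨k, f, hf⟩ := huniq (op i) x0 x0' (hx0.trans hx0'.symm) h2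
    exact ⟨k, f, Subtype.ext hf⟩

/-- A transformation `a : F ⟶ G` of presheaves of sets on schemes over `S` is relatively limit
preserving if and only if, for every directed limit `T = lim T_i` of affine schemes over `S` (with
`T` affine), the square formed by `colim F(T_i) → F(T)`, `colim G(T_i) → G(T)` and the two maps
induced by `a` is cartesian in sets. -/
theorem result (S : Scheme.{u}) {F G : AlgSp.PSp S} (a : F ⟶ G) :
    AlgSp.IsRelLimitPreserving a ↔
      ∀ ⦃I : Type u⦄ [SmallCategory I] [IsCofiltered I] (D : I ⥤ Over S) (c : Cone D),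
        IsLimit ((Over.forget S).mapCone c) → (∀ i, IsAffine (D.obj i).left) → IsAffine c.pt.left →
          IsPullback (colimMap (Functor.whiskerLeft D.op a)) (colimit.desc (D.op ⋙ F) (F.mapCocone c.op))
            (colimit.desc (D.op ⋙ G) (G.mapCocone c.op)) (a.app (Opposite.op c.pt)) := by
  exact ⟨fun h _ _ _ D c hc hD hT => forward a h D c hc hD hT, backward a⟩

end Groth.Agent.S10067
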