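import Groth.Statements.S10027
import Groth.Agent.S10067
import Groth.Agent.S10025
import Groth.Agent.S10026

set_option autoImplicit false
universe u
open CategoryTheory CategoryTheory.Limits AlgebraicGeometry
open AlgSp

namespace Groth.Agent.S10027

/-- Let `a : F ⟶ G`, `b : H ⟶ G`, `c : G ⟶ E` be transformations of presheaves of sets on schemes over
`S` and `P` a fibre product `F ×_G H`. If `c`, `a ≫ c` and `b ≫ c` are relatively limit preserving,
then so is `P ⟶ E`. -/
theorem result (S : Scheme.{u}) {E F G H P : AlgSp.PSp S}
    (a : F ⟶ G) (b : H ⟶ G) (c : G ⟶ E) (fst : P ⟶ F) (snd : P ⟶ H) (hP : IsPullback fst snd a b)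
    (hc : AlgSp.IsRelLimitPreserving c) (hac : AlgSp.IsRelLimitPreserving (a ≫ c))
    (hbc : AlgSp.IsRelLimitPreserving (b ≫ c)) :
    AlgSp.IsRelLimitPreserving (fst ≫ a ≫ c) := by
  have ha : AlgSp.IsRelLimitPreserving a := Groth.Agent.S10026.result S a c hac hc
  have hpt : ∀ X : (Over S)ᵒᵖ, IsPullback (fst.app X) (snd.app X) (a.app X) (b.app X) :=
    fun X => hP.map ((evaluation _ _).obj X)
  have hpt2 := fun X : (Over S)ᵒᵖ => (Types.isPullback_iff _ _ _ _).1 (hpt X)
  have hsnd : AlgSp.IsRelLimitPreserving snd := by
    rw [Groth.Agent.S10067.result] at ha ⊢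
    intro I _ _ D cn hcn hD hT
    have h1 := ha D cn hcn hD hT
    rw [Groth.Agent.S10067.isPullback_colim_iff] at h1 ⊢
    rotate_left
    · intro j x
      exact NatTrans.naturality_apply snd (cn.π.app j.unop).op x
    · intro j x
      exact NatTrans.naturality_apply a (cn.π.app j.unop).op x
    obtain ⟨hex, huniq⟩ := h1
    refine ⟨?_, ?_⟩
    · rintro ⟨i⟩ y x hx
      change H.obj (Opposite.op (D.obj i)) at y
      change P.obj (Opposite.op cn.pt) at x
      change snd.app (Opposite.op cn.pt) x = H.map (cn.π.app i).op y at hx
      -- the F-component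
      have hcomm := (hpt2 (Opposite.op cn.pt)).1
      have e1 : a.app (Opposite.op cn.pt) (fst.app (Opposite.op cn.pt) x) =
          G.map (cn.π.app i).op (b.app (Opposite.op (D.obj i)) y) := by
        have h2 : a.app (Opposite.op cn.pt) (fst.app (Opposite.op cn.pt) x) =
            b.app (Opposite.op cn.pt) (snd.app (Opposite.op cn.pt) x) :=
          ConcreteCategory.congr_hom hcomm x
        rw [h2, hx]
        exact NatTrans.naturality_apply b (cn.π.app i).op y
      obtain ⟨k, f, x1', hx1, hx2⟩ := hex (Opposite.op i) (b.app (Opposite.op (D.obj i)) y)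
        (fst.app (Opposite.op cn.pt) x) e1
      obtain ⟨k⟩ := k
      change F.obj (Opposite.op (D.obj k)) at x1'
      change a.app (Opposite.op (D.obj k)) x1' =
        G.map (D.map f.unop).op (b.app (Opposite.op (D.obj i)) y) at hx1
      change F.map (cn.π.app k).op x1' = fst.app (Opposite.op cn.pt) x at hx2
      have e2 : a.app (Opposite.op (D.obj k)) x1' =
          b.app (Opposite.op (D.obj k)) (H.map (D.map f.unop).op y) := by
        rw [hx1]
        exact (NatTrans.naturality_apply b (D.map f.unop).op y).symm
      obtain ⟨p', hp1, hp2⟩ := (hpt2 (Opposite.op (D.obj k))).2.2 x1'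
        (H.map (D.map f.unop).op y) e2
      refine ⟨Opposite.op k, f, p', hp2, ?_⟩
      change P.map (cn.π.app k).op p' = x
      apply (hpt2 (Opposite.op cn.pt)).2.1
      refine ⟨?_, ?_⟩
      · have n1 : fst.app (Opposite.op cn.pt) (P.map (cn.π.app k).op p') =
            F.map (cn.π.app k).op (fst.app (Opposite.op (D.obj k)) p') :=
          NatTrans.naturality_apply fst (cn.π.app k).op p'
        rw [n1, hp1, hx2]
      · have n2 : snd.app (Opposite.op cn.pt) (P.map (cn.π.app k).op p') =
            H.map (cn.π.app k).op (snd.app (Opposite.op (D.obj k)) p') :=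
          NatTrans.naturality_apply snd (cn.π.app k).op p'
        rw [n2, hp2, hx]
        have hw : D.map f.unop ≫ (𝟙 _) = D.map f.unop := Category.comp_id _
        have hcw : cn.π.app k ≫ D.map f.unop = cn.π.app i := cn.w f.unop
        rw [← hcw, op_comp, Functor.map_comp]
        rfl
    · rintro ⟨i⟩ x x' h1 h2
      change P.obj (Opposite.op (D.obj i)) at x x'
      change snd.app (Opposite.op (D.obj i)) x = snd.app (Opposite.op (D.obj i)) x' at h1
      change P.map (cn.π.app i).op x = P.map (cn.π.app i).op x' at h2
      have hcomm := (hpt2 (Opposite.op (D.obj i))).1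
      have e1 : a.app (Opposite.op (D.obj i)) (fst.app (Opposite.op (D.obj i)) x) =
          a.app (Opposite.op (D.obj i)) (fst.app (Opposite.op (D.obj i)) x') := by
        have h3 : a.app (Opposite.op (D.obj i)) (fst.app (Opposite.op (D.obj i)) x) =
            b.app (Opposite.op (D.obj i)) (snd.app (Opposite.op (D.obj i)) x) :=
          ConcreteCategory.congr_hom hcomm x
        have h4 : a.app (Opposite.op (D.obj i)) (fst.app (Opposite.op (D.obj i)) x') =
            b.app (Opposite.op (D.obj i)) (snd.app (Opposite.op (D.obj i)) x') :=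
          ConcreteCategory.congr_hom hcomm x'
        rw [h3, h4, h1]
      have e2 : F.map (cn.π.app i).op (fst.app (Opposite.op (D.obj i)) x) =
          F.map (cn.π.app i).op (fst.app (Opposite.op (D.obj i)) x') := by
        have n1 : fst.app (Opposite.op cn.pt) (P.map (cn.π.app i).op x) =
            F.map (cn.π.app i).op (fst.app (Opposite.op (D.obj i)) x) :=
          NatTrans.naturality_apply fst (cn.π.app i).op x
        have n2 : fst.app (Opposite.op cn.pt) (P.map (cn.π.app i).op x') =
            F.map (cn.π.app i).op (fst.app (Opposite.op (D.obj i)) x') :=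
          NatTrans.naturality_apply fst (cn.π.app i).op x'
        rw [← n1, ← n2, h2]
      obtain ⟨k, f, hf⟩ := huniq (Opposite.op i) (fst.app (Opposite.op (D.obj i)) x)
        (fst.app (Opposite.op (D.obj i)) x') e1 e2
      obtain ⟨k⟩ := k
      change F.map (D.map f.unop).op (fst.app (Opposite.op (D.obj i)) x) =
        F.map (D.map f.unop).op (fst.app (Opposite.op (D.obj i)) x') at hf
      refine ⟨Opposite.op k, f, ?_⟩
      change P.map (D.map f.unop).op x = P.map (D.map f.unop).op x'
      apply (hpt2 (Opposite.op (D.obj k))).2.1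
      refine ⟨?_, ?_⟩
      · have n1 : fst.app (Opposite.op (D.obj k)) (P.map (D.map f.unop).op x) =
            F.map (D.map f.unop).op (fst.app (Opposite.op (D.obj i)) x) :=
          NatTrans.naturality_apply fst (D.map f.unop).op x
        have n2 : fst.app (Opposite.op (D.obj k)) (P.map (D.map f.unop).op x') =
            F.map (D.map f.unop).op (fst.app (Opposite.op (D.obj i)) x') :=
          NatTrans.naturality_apply fst (D.map f.unop).op x'
        rw [n1, n2, hf]
      · have n1 : snd.app (Opposite.op (D.obj k)) (P.map (D.map f.unop).op x) =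
            H.map (D.map f.unop).op (snd.app (Opposite.op (D.obj i)) x) :=
          NatTrans.naturality_apply snd (D.map f.unop).op x
        have n2 : snd.app (Opposite.op (D.obj k)) (P.map (D.map f.unop).op x') =
            H.map (D.map f.unop).op (snd.app (Opposite.op (D.obj i)) x') :=
          NatTrans.naturality_apply snd (D.map f.unop).op x'
        rw [n1, n2, h1]
  have h5 := Groth.Agent.S10025.result S snd (b ≫ c) hsnd hbc
  have e : fst ≫ a ≫ c = snd ≫ b ≫ c := by
    rw [← Category.assoc, hP.w, Category.assoc]
  rw [e]
  exact h5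

end Groth.Agent.S10027
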