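import Groth.Statements.S1005
import Mathlib
import Groth.Agent.Lib.Helper1TQ13
import Groth.Agent.Lib.Helper1PC17
import Groth.Agent.Lib.Helper1GlDim
-- import your own Groth.Agent.* helpers here

set_option autoImplicit false
universe u
open CategoryTheory CategoryTheory.Limits AlgebraicGeometry
attribute [local instance] HasDerivedCategory.standard
open Perf

namespace Groth.Agent.S1005

open Groth.Agent.Lib.Helper1.SPL Groth.Agent.Lib.Helper1.TQ in
/-- Let X be a locally Noetherian scheme all of whose local rings are regular. Then every object of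
D(O_X) with bounded, coherent cohomology is perfect. -/
theorem result (X : Scheme.{u}) [IsLocallyNoetherian X]
    (hreg : ∀ x : X, IsRegularLocalRing (X.presheaf.stalk x))
    (K : DCoh.D X) (a b : ℤ) [K.IsGE a] [K.IsLE b] (hK : DCoh.IsCohD K) : DCoh.IsPerfect K := by
  let F : CochainComplex X.Modules ℤ := DerivedCategory.Q.objPreimage K
  let e : DCoh.toD X F ≅ K := DerivedCategory.Q.objObjPreimageIso K
  have : (DCoh.toD X F).IsGE a := DerivedCategory.TStructure.t.isGE_of_iso e.symm a
  have : (DCoh.toD X F).IsLE b := DerivedCategory.TStructure.t.isLE_of_iso e.symm b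
  have hpcK : ∀ m : ℤ, DCoh.IsPseudoCoherentD m K := fun m =>
    isPseudoCoherentD_of_coherent_homology K m b (fun i _ => hK i)
  have hpc : ∀ m : ℤ, DCoh.IsPseudoCoherentD m (DCoh.toD X F) := fun m => by
    rw [isPseudoCoherentD_iff_hasPresM]
    intro x
    exact ((isPseudoCoherentD_iff_hasPresM m K).1 (hpcK m) x).of_iso e.symm
  have hX : ∀ (x : X) (M : Type u) [AddCommGroup M] [Module (X.presheaf.stalk x) M],
      DRing.HasFiniteTorDim (X.presheaf.stalk x) M := by
    intro x M _ _
    have := hreg x
    have hd : ringKrullDim (X.presheaf.stalk x) =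
        ((IsLocalRing.maximalIdeal (X.presheaf.stalk x)).spanFinrank : ℕ) :=
      (IsRegularLocalRing.spanFinrank_maximalIdeal (R := X.presheaf.stalk x)).symm
    have h1 := Groth.Agent.S0563.result (X.presheaf.stalk x) _ hd M
    obtain ⟨P, hP, hproj, ⟨eP⟩⟩ := Groth.Agent.Lib.Helper1.GlDim.projAmp_single_zero
      (ModuleCat.of (X.presheaf.stalk x) M) _ h1
    refine ⟨_, (Groth.Agent.Lib.Helper1.TorDim.hasTorDimLE_iff_hasTorAmp M _).2
      ⟨P, hP, fun i => ?_, ⟨eP⟩⟩⟩
    have := hproj i
    infer_instance
  have hperf := (isPerfect_iff_pseudoCoherent_of_stalks_finiteTorDim hX F a b).1 hpc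
  rw [isPerfect_iff_hasPres] at hperf ⊢
  intro x
  exact (hperf x).of_iso e

end Groth.Agent.S1005
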