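import Groth.Statements.S9954
import Mathlib
import Groth.Agent.S9938
import Groth.Agent.S9874
import Groth.Agent.S10177

set_option autoImplicit false
universe u
open CategoryTheory CategoryTheory.Limits AlgebraicGeometry
open AlgSp

namespace Groth.Agent.S9954


open CategoryTheory.Limits Opposite MorphismProperty Groth.Agent.S13210 Groth.Agent.S9938

variable {S : Scheme.{u}}

/-- a nonempty scheme locally of finite type over an algebraically closed field has a rational
point. -/
lemma exists_section_of_isAlgClosed {k : Type u} [Field k] [IsAlgClosed k] {W : Scheme.{u}}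
    (w : W ⟶ Spec (CommRingCat.of k)) [LocallyOfFiniteType w] [Nonempty W] :
    ∃ σ : Spec (CommRingCat.of k) ⟶ W, σ ≫ w = 𝟙 _ := by
  haveI : JacobsonSpace W := LocallyOfFiniteType.jacobsonSpace w
  obtain ⟨x, -, hx⟩ := nonempty_inter_closedPoints (X := W) (Z := Set.univ) Set.univ_nonempty
    isOpen_univ.isLocallyClosed
  exact ⟨pointOfClosedPoint w x hx, pointOfClosedPoint_comp w x hx⟩

/-- surjectivity on points from surjectivity on geometric points. -/
lemma isSurjectiveMor_of_geometric {X Y : AlgSp.Sp S} (f : X ⟶ Y)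
    (h : ∀ (k : Type u) [Field k] [IsAlgClosed k] (str : Spec (CommRingCat.of k) ⟶ S)
      (y : (AlgSp.yon S).obj (Over.mk str) ⟶ Y),
      ∃ x : (AlgSp.yon S).obj (Over.mk str) ⟶ X, x ≫ f = y) : AlgSp.IsSurjectiveMor f := by
  intro y
  obtain ⟨q, rfl⟩ := AlgSp.Points.mk_surjective y
  let k := AlgebraicClosure q.K
  let ι : Spec (CommRingCat.of k) ⟶ Spec (CommRingCat.of q.K) :=
    Spec.map (CommRingCat.ofHom (algebraMap q.K k))
  let ι' : Over.mk (ι ≫ q.str) ⟶ q.pt := Over.homMk ι rfl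
  obtain ⟨x, hx⟩ := h k (ι ≫ q.str) ((AlgSp.yon S).map ι' ≫ (yEquiv _ Y).symm q.val)
  refine ⟨AlgSp.Points.mk ⟨k, ι ≫ q.str, yEquiv _ X x⟩, ?_⟩
  rw [AlgSp.Points.map_mk]
  refine AlgSp.Points.sound ⟨k, inferInstance, ι ≫ q.str, 𝟙 _, ι', ?_⟩
  show Y.obj.map (𝟙 _).op (f.hom.app _ (yEquiv _ X x)) = Y.obj.map ι'.op q.val
  rw [← yEquiv_comp, hx, op_id, CategoryTheory.Functor.map_id]
  apply (yEquiv _ Y).symm.injective
  rw [yEquiv_symm_map]
  simp

/-- a surjective morphism locally of finite type is surjective on geometric points. -/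
lemma exists_lift_of_surjective {X Y : AlgSp.Sp S} (hX : AlgSp.IsAlgSpace X)
    (hY : AlgSp.IsAlgSpace Y) (f : X ⟶ Y) (hf : AlgSp.LocP @LocallyOfFiniteType f)
    (hs : AlgSp.IsSurjectiveMor f) (k : Type u) [Field k] [IsAlgClosed k]
    (str : Spec (CommRingCat.of k) ⟶ S) (y : (AlgSp.yon S).obj (Over.mk str) ⟶ Y) :
    ∃ x : (AlgSp.yon S).obj (Over.mk str) ⟶ X, x ≫ f = y := by
  obtain ⟨V, b, hbe, hbs⟩ := hY.atlas
  obtain ⟨W, w, fst, sq⟩ := hbe.1 y
  haveI : Etale w.left := hbe.2 y fst w sq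
  haveI : Surjective w.left := hbs.2 y fst w sq
  haveI hW : Nonempty W.left := by
    obtain ⟨z, -⟩ := w.left.surjective (IsLocalRing.closedPoint k)
    exact ⟨z⟩
  obtain ⟨σ, hσ⟩ := exists_section_of_isAlgClosed (k := k) w.left
  have hσw : σ ≫ W.hom = str := by
    have h1 : w.left ≫ str = W.hom := Over.w w
    rw [← h1, ← Category.assoc, hσ, Category.id_comp]
  let σ' : Over.mk str ⟶ W := Over.homMk σ hσw
  have hσ' : σ' ≫ w = 𝟙 _ := by
    ext
    exact hσ
  obtain ⟨v₀, hv₀⟩ := (AlgSp.yon S).map_surjective ((AlgSp.yon S).map σ' ≫ fst)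
  have hv : (AlgSp.yon S).map v₀ ≫ b = y := by
    rw [hv₀, Category.assoc, sq.w, ← Category.assoc, ← Functor.map_comp, hσ',
      CategoryTheory.Functor.map_id, Category.id_comp]
  have hP : AlgSp.IsAlgSpace (pullback f b) :=
    Groth.Agent.S9874.isAlgSpace_of_isPullback hY.diag hX (AlgSp.IsAlgSpace.yon_obj V)
      (IsPullback.of_hasPullback f b)
  obtain ⟨U, a₀, ha₀e, ha₀s⟩ := hP.atlas
  obtain ⟨h, hh⟩ := (AlgSp.yon S).map_surjective (a₀ ≫ pullback.snd f b)
  have hfst : AlgSp.RepWith @Etale (pullback.fst f b) :=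
    MorphismProperty.of_isPullback (P := AlgSp.RepWith @Etale)
      (IsPullback.of_hasPullback f b).flip hbe
  have hae : AlgSp.RepWith @Etale (a₀ ≫ pullback.fst f b) :=
    MorphismProperty.comp_mem _ _ _ ha₀e hfst
  have hcomm : (a₀ ≫ pullback.fst f b) ≫ f = (AlgSp.yon S).map h ≫ b := by
    rw [Category.assoc, pullback.condition, ← Category.assoc, hh]
  haveI : LocallyOfFiniteType h.left := hf _ b h hae hbe hcomm
  let pt : ↥(Over.mk str).left := IsLocalRing.closedPoint k
  let ξ : AlgSp.Points ((AlgSp.yon S).obj V) := AlgSp.Points.ofScheme V (v₀.left pt)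
  obtain ⟨x₀, hx₀⟩ := hs (AlgSp.Points.map b ξ)
  obtain ⟨p, hp1, hp2⟩ := Groth.Agent.S10175.exists_point_of_isPullback
    (IsPullback.of_hasPullback f b).flip ξ x₀ hx₀.symm
  obtain ⟨u, hu⟩ := Groth.Agent.S10177.surjective_ofPt a₀ ha₀s p
  have hu2 : h.left u = v₀.left pt := by
    apply (AlgSp.Points.schemeEquiv V).injective
    show AlgSp.Points.ofScheme V (h.left u) = ξ
    rw [← hp1, ← hu, AlgSp.Points.map_ofPt, ← hh]
    have h3 := Groth.Agent.S10176.ofPt_map_comp h (𝟙 _) u
    rw [Category.comp_id] at h3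
    exact h3.symm
  haveI : Nonempty ↥(pullback h.left v₀.left) := by
    obtain ⟨z, -⟩ := Scheme.Pullback.exists_preimage_pullback (f := h.left) (g := v₀.left) u pt hu2
    exact ⟨z⟩
  have hlft : LocallyOfFiniteType (pullback.snd h.left v₀.left) :=
    MorphismProperty.pullback_snd _ _ inferInstance
  obtain ⟨σ₂, hσ₂⟩ := @exists_section_of_isAlgClosed k _ _ _ (pullback.snd h.left v₀.left) hlft
    inferInstance
  let u₀ : Spec (CommRingCat.of k) ⟶ U.left := σ₂ ≫ pullback.fst h.left v₀.left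
  have hu₀ : u₀ ≫ h.left = v₀.left := by
    rw [Category.assoc, pullback.condition, ← Category.assoc, hσ₂, Category.id_comp]
  have hu₀w : u₀ ≫ U.hom = str := by
    have h1 : v₀.left ≫ V.hom = str := Over.w v₀
    rw [← Over.w h, ← Category.assoc, hu₀, h1]
  let u₀' : Over.mk str ⟶ U := Over.homMk u₀ hu₀w
  have hu₀' : u₀' ≫ h = v₀ := by
    ext
    exact hu₀
  refine ⟨(AlgSp.yon S).map u₀' ≫ a₀ ≫ pullback.fst f b, ?_⟩
  rw [Category.assoc, hcomm, ← Category.assoc, ← Functor.map_comp, hu₀', hv]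



/-- A morphism locally of finite type is surjective if and only if it is surjective on k-valued points
for every algebraically closed field k over the base. -/
theorem result {S : Scheme.{u}} {X Y : AlgSp.Space S} (f : X ⟶ Y)
    (hf : AlgSp.LocP @LocallyOfFiniteType f.hom) :
    AlgSp.IsSurjectiveMor f.hom ↔
      ∀ (k : Type u) [Field k] [IsAlgClosed k] (str : Spec (CommRingCat.of k) ⟶ S)
        (y : (AlgSp.yon S).obj (Over.mk str) ⟶ Y.obj),
        ∃ x : (AlgSp.yon S).obj (Over.mk str) ⟶ X.obj, x ≫ f.hom = y := by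
  constructor
  · intro hs k _ _ str y
    exact exists_lift_of_surjective X.property Y.property f.hom hf hs k str y
  · intro h
    exact isSurjectiveMor_of_geometric f.hom h

end Groth.Agent.S9954
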