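import Groth.Statements.S10096
import Mathlib
import Groth.Agent.S9954
import Groth.Agent.S9884

set_option autoImplicit false
universe u
open CategoryTheory CategoryTheory.Limits AlgebraicGeometry
open AlgSp

namespace Groth.Agent.S10096


open CategoryTheory.Limits Opposite MorphismProperty Groth.Agent.S13210



/-- Let `a : F ⟶ G` be a map of fppf sheaves of sets over `S` that is flat, surjective, locally of
finite presentation and representable by algebraic spaces (every base change `h_U ×_G F ⟶ h_U` to a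
scheme is such a morphism of algebraic spaces). Then `a` is surjective as a map of sheaves (an
epimorphism of fppf sheaves). -/
theorem result (S : Scheme.{u}) (F G : AlgSp.Sp S) (a : F ⟶ G)
    (ha : AlgSp.RepBySpWith (AlgSp.IsSurjectiveMor ⊓ AlgSp.LocP @Flat ⊓ AlgSp.LocP @LocallyOfFinitePresentation) a.hom) :
    Epi a := by
  haveI : Sheaf.IsLocallySurjective a := by
    constructor
    intro T s
    let ξ : (AlgSp.yon S).obj T ⟶ G := (yEquiv T G).symm s
    have sqP := IsPullback.of_hasPullback a ξ
    have sqP' : IsPullback (pullback.fst a ξ).hom (pullback.snd a ξ).hom a.hom ξ.hom :=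
      sqP.map (sheafToPresheaf _ _)
    obtain ⟨hsh, hAlg, ⟨hsurj, hflat⟩, hlfp⟩ := ha ξ.hom _ _ sqP'
    have hAlg' : AlgSp.IsAlgSpace (pullback a ξ) := hAlg
    have hsurj' : AlgSp.IsSurjectiveMor (pullback.snd a ξ) := hsurj
    have hflat' : AlgSp.LocP @Flat (pullback.snd a ξ) := hflat
    have hlfp' : AlgSp.LocP @LocallyOfFinitePresentation (pullback.snd a ξ) := hlfp
    obtain ⟨U, p₀, hp₀e, hp₀s⟩ := hAlg'.atlas
    obtain ⟨h, hh⟩ := (AlgSp.yon S).map_surjective (p₀ ≫ pullback.snd a ξ)
    have hcomm : p₀ ≫ pullback.snd a ξ = (AlgSp.yon S).map h ≫ 𝟙 _ := by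
      rw [Category.comp_id, hh]
    haveI : Flat h.left := hflat' p₀ (𝟙 _) h hp₀e (AlgSp.repWith_id _ T) hcomm
    haveI : LocallyOfFinitePresentation h.left :=
      hlfp' p₀ (𝟙 _) h hp₀e (AlgSp.repWith_id _ T) hcomm
    haveI : Surjective h.left := by
      refine ⟨fun t => ?_⟩
      obtain ⟨p, hp⟩ := hsurj' (AlgSp.Points.ofScheme T t)
      obtain ⟨u, hu⟩ := Groth.Agent.S10177.surjective_ofPt p₀ hp₀s p
      refine ⟨u, ?_⟩
      apply (AlgSp.Points.schemeEquiv T).injective
      show AlgSp.Points.ofScheme T (h.left u) = AlgSp.Points.ofScheme T t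
      rw [← hp, ← hu, AlgSp.Points.map_ofPt, ← hh]
      have h3 := Groth.Agent.S10176.ofPt_map_comp h (𝟙 _) u
      rw [Category.comp_id] at h3
      exact h3.symm
    have hmem : Presheaf.imageSieve a.hom s h := by
      refine ⟨yEquiv U F (p₀ ≫ pullback.fst a ξ), ?_⟩
      rw [← yEquiv_comp, Category.assoc, pullback.condition, ← Category.assoc, ← hh]
      have h4 := (AlgSp.J S).uliftYonedaEquiv_naturality ξ h
      have h5 : yEquiv T G ξ = s := (yEquiv T G).apply_symm_apply s
      rw [← h5]
      exact h4.symm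
    rw [GrothendieckTopology.mem_over_iff,
      Precoverage.mem_toGrothendieck_iff_of_isStableUnderComposition]
    refine ⟨Presieve.singleton h.left, h.left.singleton_mem_fppfPrecoverage, ?_⟩
    rintro _ _ ⟨⟩
    rw [Sieve.overEquiv_iff]
    let e : Over.mk (h.left ≫ T.hom) ≅ U := Over.isoMk (Iso.refl _) (by simp)
    have he : (Over.homMk h.left : Over.mk (h.left ≫ T.hom) ⟶ T) = e.hom ≫ h := by
      ext
      simp [e]
    rw [he]
    exact (Presheaf.imageSieve a.hom s).downward_closed hmem e.hom
  infer_instance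

end Groth.Agent.S10096
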