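import Groth.Statements.S1010
import Mathlib
import Groth.Agent.Lib.Helper1ExtVan
set_option maxHeartbeats 400000
-- import your own Groth.Agent.* helpers here

set_option autoImplicit false
universe u
open CategoryTheory CategoryTheory.Limits AlgebraicGeometry
attribute [local instance] HasDerivedCategory.standard
open Perf

namespace Groth.Agent.S1010

/-- Let the scheme X be quasi-compact and quasi-separated and E a bounded object of D(O_X) with
quasi-coherent cohomology sheaves. There is an integer n₀ > 0 such that for every finite locally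
free O_X-module F and every n ≥ n₀, every morphism F ⟶ E[n] in D(O_X) (an element of Extⁿ(F, E)) is
zero. -/
theorem result (X : Scheme.{u}) [CompactSpace ↥X] [QuasiSeparatedSpace ↥X]
    (E : DCoh.D X) (hE : DCoh.IsQCohD E) (a b : ℤ) [E.IsGE a] [E.IsLE b] :
    ∃ n₀ : ℤ, 0 < n₀ ∧ ∀ (F : X.Modules), FlatMod.IsFinLocFree F → ∀ n : ℤ, n₀ ≤ n →
      ∀ φ : DCoh.inD X F ⟶ E⟦n⟧, φ = 0 := by
  obtain ⟨d, hd⟩ := Groth.Agent.Lib.Helper1.ExtVan.exists_bound X
  have hab : ∀ k : ℤ, (k < a ∨ b < k) → CategoryTheory.Limits.IsZero (DCoh.HD E k) := by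
    rintro k (hk | hk)
    · exact (DerivedCategory.isGE_iff E a).1 inferInstance k hk
    · exact (DerivedCategory.isLE_iff E b).1 inferInstance k hk
  refine ⟨max 1 (b + d + 1), lt_max_of_lt_left one_pos, fun F hF n hn φ => ?_⟩
  exact hd F hF E hE a b hab n (by have := le_max_right 1 (b + d + 1); omega) φ

end Groth.Agent.S1010
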