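import Groth.Statements.S10107
import Mathlib
import Groth.Agent.Lib.Helper12EpiCover
import Groth.Agent.Lib.Helper12EqvRelSp
import Groth.Agent.Lib.Helper12Torsor
import Groth.Agent.S10121
import Groth.Agent.S9884

set_option autoImplicit false
universe u
open CategoryTheory CategoryTheory.Limits AlgebraicGeometry
open AlgSp

namespace Groth.Agent.S10107


open Groth.Agent.S10121 in
/-- an epimorphism of fppf sheaves is surjective on points. -/
lemma isSurjectiveMor_of_epi {S : Scheme.{u}} {U F : AlgSp.Sp S} (π : U ⟶ F) [Epi π] :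
    AlgSp.IsSurjectiveMor π := by
  intro x
  obtain ⟨K, _, str, a, rfl⟩ := exists_ptOf x
  haveI : Sheaf.IsLocallySurjective π := (Sheaf.isLocallySurjective_iff_epi π).2 inferInstance
  obtain ⟨R, hR, hlift⟩ := Groth.Agent.S9884.exists_fppf_lift π a
  have hsurj := (Presieve.mem_comap_jointlySurjectivePrecoverage_iff Scheme.forget).1 hR.1
  obtain ⟨V, g, hg, v, -⟩ := hsurj (IsLocalRing.closedPoint K)
  obtain ⟨d, hd⟩ := hlift g hg
  let w : Spec (CommRingCat.of (V.residueField v)) ⟶ S := V.fromSpecResidueField v ≫ g ≫ str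
  let β : Over.mk w ⟶ Over.mk str := Over.homMk (V.fromSpecResidueField v ≫ g) (by simp [w])
  let γ : Over.mk w ⟶ Over.mk (g ≫ (Over.mk str).hom) :=
    Over.homMk (V.fromSpecResidueField v) (by simp [w])
  refine ⟨ptOf w ((AlgSp.yon S).map γ ≫ d), ?_⟩
  rw [map_ptOf, Category.assoc, hd, ← Category.assoc, ← Functor.map_comp]
  have : γ ≫ (Over.homMk g : Over.mk (g ≫ (Over.mk str).hom) ⟶ Over.mk str) = β := by
    ext
    simp [γ, β]
  rw [this]
  exact ptOf_restrict str w β a



/-- Let `F = U/R` be an algebraic space which is the fppf quotient of a groupoid in algebraic spaces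
`(U, R, s, t, c)` over `S` with `s, t` flat and locally of finite presentation and `j = (t, s)` an
equivalence relation (equivalently, the composition being determined by it, of an equivalence
relation `s, t : R ⟶ U` of algebraic spaces with these properties). Then `U ⟶ F` is surjective, flat
and locally of finite presentation. -/
theorem result (S : Scheme.{u}) (R U : AlgSp.Sp S)
    (hR : AlgSp.IsAlgSpace R) (hU : AlgSp.IsAlgSpace U) (s t : R ⟶ U) (hj : AlgSp.IsEqvRelSp s t)
    (hs : AlgSp.LocP @Flat s ∧ AlgSp.LocP @LocallyOfFinitePresentation s)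
    (ht : AlgSp.LocP @Flat t ∧ AlgSp.LocP @LocallyOfFinitePresentation t)
    (hF : AlgSp.IsAlgSpace (AlgSp.quotSp s t)) :
    AlgSp.IsSurjectiveMor (AlgSp.quotSpπ s t) ∧ AlgSp.LocP @Flat (AlgSp.quotSpπ s t) ∧
      AlgSp.LocP @LocallyOfFinitePresentation (AlgSp.quotSpπ s t) := by
  have sqK := Groth.Agent.Lib.Helper12.EqvRelSp.isPullback_quotSpπ s t hj
  haveI : Epi (AlgSp.quotSpπ s t) := by
    unfold AlgSp.quotSpπ
    exact coequalizer.π_epi
  refine ⟨isSurjectiveMor_of_epi _, ?_, ?_⟩
  · haveI := Groth.Agent.Lib.Helper12.descendsAlong_flat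
    exact Groth.Agent.Lib.Helper12.EpiCover.locP_of_epi_base
      Groth.Agent.Lib.Helper12.LocPCases.good_flat hU hF hR hU _ _ s t sqK ht.1
  · exact Groth.Agent.Lib.Helper12.EpiCover.locP_of_epi_base
      Groth.Agent.Lib.Helper12.LocPCases.good_lfp hU hF hR hU _ _ s t sqK ht.2

end Groth.Agent.S10107
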