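import Groth.Statements.S10116
import Mathlib
import Groth.Agent.Lib.Helper12GrpUnit

set_option autoImplicit false
universe u
open CategoryTheory CategoryTheory.Limits AlgebraicGeometry MonoidalCategory MonObj
open AlgSp

namespace Groth.Agent.S10116





/-- Let `G` be a group algebraic space over an algebraic space `B` with unit `e : B ⟶ G`. Then `G ⟶ B`
is separated if and only if `e` is a closed immersion, quasi-separated if and only if `e` is
quasi-compact, and if `G ⟶ B` is locally separated then `e` is an immersion. (The published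
statement makes the last part an equivalence as well; this row states only that a locally separated
`G ⟶ B` has `e` an immersion.) -/
theorem result (S : Scheme.{u}) (B : AlgSp.Sp S) (hB : AlgSp.IsAlgSpace B)
    (G : Over B) [GrpObj G] (hG : AlgSp.IsAlgSpace G.left) :
    (AlgSp.IsSeparatedMor G.hom ↔ AlgSp.RepWith @IsClosedImmersion (η[G]).left) ∧
      (AlgSp.IsQuasiSeparatedMor G.hom ↔ AlgSp.IsQuasiCompactMor (η[G]).left) ∧
      (AlgSp.IsLocallySeparatedMor G.hom → AlgSp.RepWith @IsImmersion (η[G]).left) := by
  have hrepΔ : AlgSp.Representable (pullback.diagonal G.hom) :=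
    (Groth.Agent.S9900.result (S := S) (X := ⟨G.left, hG⟩) (Y := ⟨B, hB⟩)
      (ObjectProperty.homMk G.hom)).1
  have hrepη : AlgSp.Representable (η[G]).left :=
    Groth.Agent.Lib.Helper12.GrpUnit.unit_of_diagonal G (AlgSp.Representable (S := S)) hrepΔ
  refine ⟨⟨fun h => ?_, fun h => ?_⟩, ⟨fun h => ?_, fun h => ?_⟩, fun h => ?_⟩
  · exact Groth.Agent.Lib.Helper12.GrpUnit.unit_of_diagonal G (AlgSp.RepWith @IsClosedImmersion) h
  · exact Groth.Agent.Lib.Helper12.GrpUnit.diagonal_of_unit G (AlgSp.RepWith @IsClosedImmersion) h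
  · exact Groth.Agent.S9912.isQuasiCompactMor_of_repWith hB hG.diag _
      (Groth.Agent.Lib.Helper12.GrpUnit.unit_of_diagonal G (AlgSp.RepWith @QuasiCompact) h)
  · exact Groth.Agent.Lib.Helper12.GrpUnit.diagonal_of_unit G (AlgSp.RepWith @QuasiCompact)
      (Groth.Agent.S9912.repWith_quasiCompact_of_isQuasiCompactMor _ hrepη h)
  · exact Groth.Agent.Lib.Helper12.GrpUnit.unit_of_diagonal G (AlgSp.RepWith @IsImmersion) h

end Groth.Agent.S10116
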