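import Groth.Statements.S10122
import Mathlib
import Groth.Agent.Lib.Helper15GpdSep

set_option autoImplicit false
universe u
open CategoryTheory CategoryTheory.Limits AlgebraicGeometry
open AlgSp AlgSp.GroupoidSp

namespace Groth.Agent.S10122

/-- Let `(U, R, s, t, c)` be a groupoid in algebraic spaces over `B` with stabilizer `G ⟶ U` and unit
section `e : U ⟶ G`. Then (1) `j : R ⟶ U ×_B U` is separated iff `G ⟶ U` is separated iff `e` is a
closed immersion; (3) `j` is quasi-separated iff `G ⟶ U` is quasi-separated iff `e` is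
quasi-compact; (2) if `j` or `G ⟶ U` is locally separated then `e` is an immersion. The unit section
is written as any morphism `U ⟶ G` lifting the identity `e : U ⟶ R` of the groupoid. (The published
part (2) is a three-way equivalence; this row states only that `j` locally separated, or `G ⟶ U`
locally separated, implies that `e` is an immersion.) -/
theorem result (S : Scheme.{u}) (B : AlgSp.Sp S) (hB : AlgSp.IsAlgSpace B)
    (G : AlgSp.GroupoidSp B) (hU : AlgSp.IsAlgSpace G.U) (hR : AlgSp.IsAlgSpace G.R)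
    (eG : G.U ⟶ G.stabilizer) (heG : eG ≫ G.stabilizerι = G.e) :
    ((AlgSp.IsSeparatedMor G.j ↔ AlgSp.IsSeparatedMor G.stabilizerToU) ∧
        (AlgSp.IsSeparatedMor G.j ↔ AlgSp.RepWith @IsClosedImmersion eG)) ∧
      ((AlgSp.IsQuasiSeparatedMor G.j ↔ AlgSp.IsQuasiSeparatedMor G.stabilizerToU) ∧
        (AlgSp.IsQuasiSeparatedMor G.j ↔ AlgSp.IsQuasiCompactMor eG)) ∧
      ((AlgSp.IsLocallySeparatedMor G.j → AlgSp.RepWith @IsImmersion eG) ∧
        (AlgSp.IsLocallySeparatedMor G.stabilizerToU → AlgSp.RepWith @IsImmersion eG)) := by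
  have d1 := fun (P : MorphismProperty (AlgSp.Sp S)) [P.IsStableUnderBaseChange] =>
    Groth.Agent.Lib.Helper15GpdSep.diag_stab_of_diag_j G P
  have d2 := fun (P : MorphismProperty (AlgSp.Sp S)) [P.IsStableUnderBaseChange] =>
    Groth.Agent.Lib.Helper15GpdSep.unit_of_diag_stab G eG heG P
  have d3 := fun (P : MorphismProperty (AlgSp.Sp S)) [P.IsStableUnderBaseChange] =>
    Groth.Agent.Lib.Helper15GpdSep.diag_j_of_unit G eG heG P
  have hq := Groth.Agent.Lib.Helper15GpdSep.quasiCompact_unit_iff G eG heG hB hU hR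
  refine ⟨⟨⟨fun h => d1 _ h, fun h => d3 _ (d2 _ h)⟩, ⟨fun h => d2 _ (d1 _ h), fun h => d3 _ h⟩⟩,
    ⟨⟨fun h => d1 _ h, fun h => d3 _ (d2 _ h)⟩,
      ⟨fun h => hq.1 (d2 _ (d1 _ h)), fun h => d3 _ (hq.2 h)⟩⟩,
    ⟨fun h => d2 _ (d1 _ h), fun h => d2 _ h⟩⟩

end Groth.Agent.S10122
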