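import Groth.Statements.S10124
import Mathlib
import Groth.Agent.Lib.Helper15Groupoid
-- import your own Groth.Agent.* helpers here

set_option autoImplicit false
universe u
open CategoryTheory CategoryTheory.Limits AlgebraicGeometry
open AlgSp AlgSp.GroupoidSp

namespace Groth.Agent.S10124.Aux
set_option autoImplicit false

namespace GpdFib
open CategoryTheory CategoryTheory.Limits AlgebraicGeometry
open Groth.Agent.Lib.Helper15Groupoid

variable {S : Scheme.{u}} {B : AlgSp.Sp S} (G : AlgSp.GroupoidSp B)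

section
variable {X : AlgSp.Sp S} (r r' : X ⟶ G.R) (h : r ≫ G.t = r' ≫ G.t)

theorem h1 : pullback.snd (r ≫ G.s) G.s ≫ G.s = ((pullback.fst (r ≫ G.s) G.s ≫ r) ≫ G.i) ≫ G.t := by
  rw [Category.assoc, G.i_t, Category.assoc, pullback.condition]

include h in
theorem h2 : comp G (pullback.snd (r ≫ G.s) G.s) ((pullback.fst (r ≫ G.s) G.s ≫ r) ≫ G.i) (h1 G r) ≫ G.s
    = (pullback.fst (r ≫ G.s) G.s ≫ r') ≫ G.t := by
  rw [comp_src, Category.assoc, G.i_s, Category.assoc, Category.assoc, h]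

/-- the transported arrow -/
noncomputable def tr : pullback (r ≫ G.s) G.s ⟶ G.R :=
  comp G (comp G (pullback.snd (r ≫ G.s) G.s) ((pullback.fst (r ≫ G.s) G.s ≫ r) ≫ G.i) (h1 G r))
    (pullback.fst (r ≫ G.s) G.s ≫ r') (h2 G r r' h)

theorem tr_s : pullback.fst (r ≫ G.s) G.s ≫ (r' ≫ G.s) = tr G r r' h ≫ G.s := by
  unfold tr
  rw [comp_src, Category.assoc]

/-- the comparison map of fibres -/
noncomputable def F : pullback (r ≫ G.s) G.s ⟶ pullback (r' ≫ G.s) G.s :=
  pullback.lift (pullback.fst (r ≫ G.s) G.s) (tr G r r' h) (tr_s G r r' h)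

theorem F_fst : F G r r' h ≫ pullback.fst (r' ≫ G.s) G.s = pullback.fst (r ≫ G.s) G.s :=
  pullback.lift_fst _ _ _

theorem F_snd : F G r r' h ≫ pullback.snd (r' ≫ G.s) G.s = tr G r r' h :=
  pullback.lift_snd _ _ _

theorem F_F : F G r r' h ≫ F G r' r h.symm = 𝟙 _ := by
  apply pullback.hom_ext
  · rw [Category.assoc, F_fst, F_fst, Category.id_comp]
  · rw [Category.assoc, F_snd, Category.id_comp]
    unfold tr
    rw [precomp]
    -- rewrite the pieces
    have e1 : F G r r' h ≫ pullback.fst (r' ≫ G.s) G.s ≫ r = pullback.fst (r ≫ G.s) G.s ≫ r := by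
      rw [← Category.assoc, F_fst]
    have e0 : F G r r' h ≫ comp G (pullback.snd (r' ≫ G.s) G.s)
          ((pullback.fst (r' ≫ G.s) G.s ≫ r') ≫ G.i) (h1 G r') =
        comp G (pullback.snd (r ≫ G.s) G.s) ((pullback.fst (r ≫ G.s) G.s ≫ r) ≫ G.i) (h1 G r) := by
      rw [precomp]
      have e2 : F G r r' h ≫ (pullback.fst (r' ≫ G.s) G.s ≫ r') ≫ G.i =
          (pullback.fst (r ≫ G.s) G.s ≫ r') ≫ G.i := by
        rw [← Category.assoc, ← Category.assoc, F_fst]
      rw [comp_congr G _ (F_snd G r r' h) e2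
        (by rw [Category.assoc (pullback.fst (r ≫ G.s) G.s ≫ r') G.i G.t, G.i_t, ← tr_s G r r' h,
          Category.assoc])]
      unfold tr
      exact comp_comp_inv G _ _ _ _
    rw [comp_congr G _ e0 e1 (by rw [comp_src, Category.assoc (pullback.fst (r ≫ G.s) G.s ≫ r) G.i G.s, G.i_s])]
    exact comp_inv_comp G _ _ (by rw [Category.assoc, pullback.condition]) _ _

end

theorem main {X : AlgSp.Sp S} (r r' : X ⟶ G.R) (h : r ≫ G.t = r' ≫ G.t) :
    Nonempty (Over.mk (pullback.fst (r ≫ G.s) G.s) ≅ Over.mk (pullback.fst (r' ≫ G.s) G.s)) := by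
  let e : pullback (r ≫ G.s) G.s ≅ pullback (r' ≫ G.s) G.s :=
    ⟨F G r r' h, F G r' r h.symm, F_F G r r' h, F_F G r' r h.symm⟩
  exact ⟨Over.isoMk e (F_fst G r r' h)⟩

end GpdFib

end Groth.Agent.S10124.Aux

namespace Groth.Agent.S10124

/-- Let `(U, R, s, t, c)` be a groupoid in algebraic spaces over `B`, `K` a field and `r, r' : Spec K ⟶
R` with `t ∘ r = t ∘ r'`; put `u = s ∘ r`, `u' = s ∘ r'`. Then the fibres `Spec K ×_{u, U, s} R` and
`Spec K ×_{u', U, s} R` are isomorphic as spaces over `Spec K` (existence of an isomorphism over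
`Spec K`). -/
theorem result (S : Scheme.{u}) (B : AlgSp.Sp S) (hB : AlgSp.IsAlgSpace B)
    (G : AlgSp.GroupoidSp B) (hU : AlgSp.IsAlgSpace G.U) (hR : AlgSp.IsAlgSpace G.R)
    (K : Type u) [Field K] (σ : Spec (CommRingCat.of K) ⟶ S)
    (r r' : (AlgSp.yon S).obj (Over.mk σ) ⟶ G.R) (h : r ≫ G.t = r' ≫ G.t) :
    Nonempty (Over.mk (pullback.fst (r ≫ G.s) G.s) ≅ Over.mk (pullback.fst (r' ≫ G.s) G.s)) := by
  exact Aux.GpdFib.main G r r' h

end Groth.Agent.S10124
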