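import Groth.Statements.S10125
import Mathlib
import Groth.Agent.Lib.Helper12FieldGpd

set_option autoImplicit false
universe u
open CategoryTheory CategoryTheory.Limits AlgebraicGeometry MonoidalCategory MonObj
open AlgSp

namespace Groth.Agent.S10125





/-- For a group algebraic space `G` over a field `k`, the multiplication `m` of `G`, a morphism `G ×_k G
⟶ G`, is both flat and universally open. (The published situation allows any base scheme `S` with
`k` a field over `S`; this row takes `S = Spec k`.) -/
theorem result (k : Type u) [Field k]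
    (G : Over ((AlgSp.yon (Spec (CommRingCat.of k))).obj (Over.mk (𝟙 _)))) [GrpObj G]
    (hG : AlgSp.IsAlgSpace G.left) :
    AlgSp.LocP @Flat (μ[G]).left ∧ AlgSp.IsUnivOpenMor (μ[G]).left := by
  have hB : AlgSp.IsAlgSpace ((AlgSp.yon (Spec (CommRingCat.of k))).obj (Over.mk (𝟙 _))) :=
    AlgSp.IsAlgSpace.yon_obj _
  have hmu : μ[G] = (Groth.Agent.Lib.Helper8.shearIso G).hom ≫ CartesianMonoidalCategory.snd G G := by
    simp [Groth.Agent.Lib.Helper8.shearIso]
    exact MonObj.mul_eq_mul (M := G)
  have hmul : (μ[G]).left = (Groth.Agent.Lib.Helper8.shearIso G).hom.left ≫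
      (CartesianMonoidalCategory.snd G G).left := by
    rw [hmu]; rfl
  have sq : IsPullback (CartesianMonoidalCategory.fst G G).left
      (CartesianMonoidalCategory.snd G G).left G.hom G.hom := IsPullback.of_hasPullback G.hom G.hom
  have hsf : AlgSp.LocP @Flat G.hom :=
    Groth.Agent.Lib.Helper12.FieldGpd.locP_flat_to_field G.hom (𝟙 _) (Iso.refl _)
  have hso : AlgSp.IsUnivOpenMor G.hom :=
    Groth.Agent.Lib.Helper12.FieldGpd.isUnivOpenMor_to_field hG G.hom (𝟙 _) (Iso.refl _)
  have h1 : AlgSp.LocP @Flat (CartesianMonoidalCategory.snd G G).left :=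
    Groth.Agent.Lib.Helper12.LocPCases.good_flat.locP_baseChange hG hB hG sq hsf
  have h2 : AlgSp.IsUnivOpenMor (CartesianMonoidalCategory.snd G G).left :=
    Groth.Agent.Lib.Helper12.TopDescent.univSp_baseChange _ sq hso
  haveI : IsIso (Groth.Agent.Lib.Helper8.shearIso G).hom.left :=
    inferInstanceAs (IsIso ((Over.forget _).map (Groth.Agent.Lib.Helper8.shearIso G).hom))
  rw [hmul]
  exact ⟨Groth.Agent.Lib.Helper12.FieldGpd.locP_iso_comp @Flat
      (asIso (Groth.Agent.Lib.Helper8.shearIso G).hom.left) _ h1,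
    Groth.Agent.Lib.Helper12.FieldGpd.univSp_iso_comp _
      (asIso (Groth.Agent.Lib.Helper8.shearIso G).hom.left) _ h2⟩

end Groth.Agent.S10125
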