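import Groth.Statements.S10126
import Mathlib
import Groth.Agent.Lib.Helper12FieldGpd

set_option autoImplicit false
universe u
open CategoryTheory CategoryTheory.Limits AlgebraicGeometry
open AlgSp AlgSp.GroupoidSp

namespace Groth.Agent.S10126





/-- Let `(U, R, s, t, c)` be a groupoid in algebraic spaces over `B` whose object space is `U = Spec k`,
with `k` a field. Then the composition `c : R ×_{s, U, t} R ⟶ R` is flat and universally open. -/
theorem result (S : Scheme.{u}) (B : AlgSp.Sp S) (hB : AlgSp.IsAlgSpace B)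
    (G : AlgSp.GroupoidSp B) (hR : AlgSp.IsAlgSpace G.R) (k : Type u) [Field k]
    (σ : Spec (CommRingCat.of k) ⟶ S) (eU : G.U ≅ (AlgSp.yon S).obj (Over.mk σ)) :
    AlgSp.LocP @Flat G.c ∧ AlgSp.IsUnivOpenMor G.c := by
  have hU : AlgSp.IsAlgSpace G.U := (AlgSp.IsAlgSpace.yon_obj (Over.mk σ)).of_iso eU.symm
  have sq := (Groth.Agent.S10142.result S B hB G hU hR).1
  have hsf : AlgSp.LocP @Flat G.s := Groth.Agent.Lib.Helper12.FieldGpd.locP_flat_to_field G.s σ eU
  have hso : AlgSp.IsUnivOpenMor G.s :=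
    Groth.Agent.Lib.Helper12.FieldGpd.isUnivOpenMor_to_field hR G.s σ eU
  exact ⟨Groth.Agent.Lib.Helper12.LocPCases.good_flat.locP_baseChange hR hU hR sq.flip hsf,
    Groth.Agent.Lib.Helper12.TopDescent.univSp_baseChange _ sq.flip hso⟩

end Groth.Agent.S10126
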