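import Groth.Statements.S9969
import Mathlib
import Groth.Agent.S9912
import Groth.Agent.Lib.Helper12SchImage2
import Groth.Agent.Lib.Helper12SchDenseExt

set_option autoImplicit false
universe u
open CategoryTheory CategoryTheory.Limits AlgebraicGeometry
open AlgSp

namespace Groth.Agent.S9969





/-- For a quasi-compact open subspace, scheme theoretic density is equivalent to the scheme theoretic
closure being everything. -/
theorem result {S : Scheme.{u}} {U X : AlgSp.Space S} (j : U ⟶ X)
    (hj : AlgSp.RepWith @IsOpenImmersion j.hom) (hq : AlgSp.IsQuasiCompactMor j.hom) :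
    AlgSp.IsSchDense j.hom ↔ AlgSp.IsSchImage j.hom (𝟙 X.obj) := by
  constructor
  · -- density implies that every closed subspace containing `U` is everything
    rintro ⟨-, V, φ, W, fst, hφe, hφs, sq, hW⟩
    refine ⟨?_, ⟨j.hom, Category.comp_id _⟩, ?_⟩
    · exact MorphismProperty.of_isIso _ _
    · intro Z' i' hZ' hi' hf''
      obtain ⟨f'', hf''⟩ := hf''
      haveI : Mono i' := Groth.Agent.Lib.Helper12.SchImage2.mono_of_closedImmersion hi'
      haveI : Epi φ := Groth.Agent.S9927.epi_of_repWith φ hφe hφs
      obtain ⟨ZV', z', fst', sq'⟩ := hi'.1 φ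
      haveI : IsClosedImmersion z'.left := hi'.2 _ _ z' sq'
      obtain ⟨l, hl⟩ := (AlgSp.yon S).map_surjective (sq'.lift (fst ≫ f'')
        ((AlgSp.yon S).map (Over.homMk W.ι rfl : Over.mk (W.ι ≫ V.hom) ⟶ V))
        (by rw [Category.assoc, hf'', sq.w]))
      have hlz : l ≫ z' = (Over.homMk W.ι rfl : Over.mk (W.ι ≫ V.hom) ⟶ V) := by
        apply (AlgSp.yon S).map_injective
        rw [Functor.map_comp, hl, sq'.lift_snd]
      have hlz' : l.left ≫ z'.left = W.ι := by
        rw [← Over.comp_left, hlz]; rfl
      haveI : IsIso z'.left :=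
        Groth.Agent.Lib.Helper12.SchDense.isIso_of_isSchematicallyDense_factors z'.left W hW
          l.left hlz'
      haveI : IsIso ((Over.forget S).map z') := ‹IsIso z'.left›
      haveI : IsIso z' := isIso_of_reflects_iso z' (Over.forget S)
      haveI : Epi i' := by
        have h1 : ((AlgSp.yon S).map (inv z') ≫ fst') ≫ i' = φ := by
          rw [Category.assoc, sq'.w, ← Category.assoc, ← Functor.map_comp, IsIso.inv_hom_id,
            (AlgSp.yon S).map_id, Category.id_comp]
        haveI : Epi (((AlgSp.yon S).map (inv z') ≫ fst') ≫ i') := by rw [h1]; infer_instance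
        exact epi_of_epi ((AlgSp.yon S).map (inv z') ≫ fst') i'
      haveI : IsIso i' := Groth.Agent.Lib.Helper9.ToposLike.isIso_of_mono_of_epi i'
        inferInstance inferInstance
      exact ⟨inv i', by simp⟩
  · intro hI
    refine ⟨hj, ?_⟩
    obtain ⟨V, p, hpe, hps⟩ := X.property.atlas
    have hqc : AlgSp.RepWith @QuasiCompact j.hom := (Groth.Agent.S9912.result j hj.1).2 hq
    obtain ⟨E, e, a, sqE⟩ := hj.1 p
    haveI : IsOpenImmersion e.left := hj.2 _ _ e sqE
    haveI : QuasiCompact e.left := hqc.2 _ _ e sqE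
    obtain ⟨Z, i, q, f', τ, hZ, hSI, sqZ, -, -, -⟩ :=
      Groth.Agent.Lib.Helper12.SchImage2.exists_isSchImage_of_chart X.property j.hom p hpe hps e a
        sqE
    obtain ⟨ε, hε⟩ := Groth.Agent.Lib.Helper12.SchImage2.isSchImage_unique X.property hZ hI hSI
    -- `i` is an isomorphism, hence so is its base change `imageι`
    haveI : IsIso i := by
      have : i = ε.inv := by
        rw [← cancel_epi ε.hom, hε, Iso.hom_inv_id]
      rw [this]; infer_instance
    haveI : IsIso ((AlgSp.yon S).map
        (Over.homMk e.left.imageι rfl : Over.mk (e.left.imageι ≫ V.hom) ⟶ V)) :=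
      sqZ.isIso_snd_of_isIso
    haveI : IsIso (Over.homMk e.left.imageι rfl : Over.mk (e.left.imageι ≫ V.hom) ⟶ V) :=
      isIso_of_fully_faithful (AlgSp.yon S) _
    haveI : IsIso e.left.imageι :=
      (Over.forget S).map_isIso (Over.homMk e.left.imageι rfl : Over.mk (e.left.imageι ≫ V.hom) ⟶ V)
    have hker : e.left.ker = ⊥ := by
      rw [← Scheme.IdealSheafData.ker_subschemeι e.left.ker]
      exact IsClosedImmersion.isIso_iff_ker_eq_bot.1 ‹IsIso e.left.imageι›
    haveI : IsSchemeTheoreticallyDominant e.left := (isSchemeTheoreticallyDominant_iff _).2 hker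
    -- transport to the open subscheme `W = range e`
    let εW := e.left.isoOpensRange
    have hεW : εW.inv ≫ e.left = e.left.opensRange.ι := e.left.isoOpensRange_inv_comp
    haveI : IsSchemeTheoreticallyDominant e.left.opensRange.ι := by
      rw [← hεW]; infer_instance
    haveI : QuasiCompact e.left.opensRange.ι := by rw [← hεW]; infer_instance
    let εO : Over.mk (e.left.opensRange.ι ≫ V.hom) ≅ E := Over.isoMk εW.symm (by
      show εW.inv ≫ E.hom = e.left.opensRange.ι ≫ V.hom
      rw [← Over.w e, ← Category.assoc, hεW])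
    have hεO : εO.hom ≫ e =
        (Over.homMk e.left.opensRange.ι rfl : Over.mk (e.left.opensRange.ι ≫ V.hom) ⟶ V) := by
      apply Over.OverMorphism.ext
      exact hεW
    refine ⟨V, p, e.left.opensRange, (AlgSp.yon S).map εO.hom ≫ a, hpe, hps, ?_,
      (Groth.Agent.Lib.Helper12.SchDense.isSchematicallyDense_iff _).2 inferInstance⟩
    refine IsPullback.of_iso sqE ((AlgSp.yon S).mapIso εO.symm) (Iso.refl _) (Iso.refl _)
      (Iso.refl _) ?_ ?_ (by simp) (by simp)
    · simp only [Iso.refl_hom, Category.comp_id, Functor.mapIso_hom, Iso.symm_hom]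
      rw [← Category.assoc, ← Functor.map_comp, Iso.inv_hom_id, (AlgSp.yon S).map_id,
        Category.id_comp]
    · simp only [Iso.refl_hom, Category.comp_id, Functor.mapIso_hom, Iso.symm_hom]
      rw [← hεO, Functor.map_comp, ← Category.assoc, ← Functor.map_comp, Iso.inv_hom_id,
        (AlgSp.yon S).map_id, Category.id_comp]

end Groth.Agent.S9969
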