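import Groth.Statements.S9972
import Mathlib
import Groth.Agent.S9874

set_option autoImplicit false
universe u
open CategoryTheory CategoryTheory.Limits AlgebraicGeometry
open AlgSp

namespace Groth.Agent.S9972


variable {S : Scheme.{u}}



/-- Two morphisms to an algebraic space separated over B that agree on an open subspace whose scheme
theoretic closure is everything are equal. -/
theorem result {S : Scheme.{u}} {U X Y B : AlgSp.Space S} (q : Y ⟶ B)
    (hq : AlgSp.IsSeparatedMor q.hom) (f g : X ⟶ Y) (hfg : f ≫ q = g ≫ q) (j : U ⟶ X)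
    (hj : AlgSp.RepWith @IsOpenImmersion j.hom) (hcl : AlgSp.IsSchImage j.hom (𝟙 X.obj)) (heq : j ≫ f = j ≫ g) :
    f = g := by
  have hfg' : f.hom ≫ q.hom = g.hom ≫ q.hom := congrArg (fun m => m.hom) hfg
  have heq' : j.hom ≫ f.hom = j.hom ≫ g.hom := congrArg (fun m => m.hom) heq
  have hYY : AlgSp.IsAlgSpace (pullback q.hom q.hom) :=
    Groth.Agent.S9874.isAlgSpace_of_isPullback B.property.diag Y.property Y.property
      (IsPullback.of_hasPullback q.hom q.hom)
  have hsq := IsPullback.of_hasPullback (pullback.diagonal q.hom)
    (pullback.lift f.hom g.hom hfg')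
  have hZ : AlgSp.IsAlgSpace (pullback (pullback.diagonal q.hom)
      (pullback.lift f.hom g.hom hfg')) :=
    Groth.Agent.S9874.isAlgSpace_of_isPullback hYY.diag Y.property X.property hsq
  have hi' : AlgSp.RepWith @IsClosedImmersion (pullback.snd (pullback.diagonal q.hom)
      (pullback.lift f.hom g.hom hfg')) :=
    (AlgSp.RepWith @IsClosedImmersion).of_isPullback hsq hq
  have hw : (j.hom ≫ f.hom) ≫ pullback.diagonal q.hom =
      j.hom ≫ pullback.lift f.hom g.hom hfg' := by
    apply pullback.hom_ext
    · simp only [Category.assoc, pullback.diagonal_fst, pullback.lift_fst, Category.comp_id]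
    · simp only [Category.assoc, pullback.diagonal_snd, pullback.lift_snd, Category.comp_id, heq']
  obtain ⟨k, hk⟩ := hcl.2.2 _ hZ hi' ⟨pullback.lift (j.hom ≫ f.hom) j.hom hw,
    pullback.lift_snd _ _ _⟩
  have h1 : pullback.snd (pullback.diagonal q.hom) (pullback.lift f.hom g.hom hfg') ≫ f.hom =
      pullback.fst (pullback.diagonal q.hom) (pullback.lift f.hom g.hom hfg') := by
    have := congrArg (fun m => m ≫ pullback.fst q.hom q.hom) hsq.w
    simp only [Category.assoc, pullback.diagonal_fst, pullback.lift_fst, Category.comp_id] at this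
    exact this.symm
  have h2 : pullback.snd (pullback.diagonal q.hom) (pullback.lift f.hom g.hom hfg') ≫ g.hom =
      pullback.fst (pullback.diagonal q.hom) (pullback.lift f.hom g.hom hfg') := by
    have := congrArg (fun m => m ≫ pullback.snd q.hom q.hom) hsq.w
    simp only [Category.assoc, pullback.diagonal_snd, pullback.lift_snd, Category.comp_id] at this
    exact this.symm
  apply ObjectProperty.hom_ext
  calc f.hom = (k ≫ pullback.snd _ _) ≫ f.hom := by rw [hk, Category.id_comp]
    _ = (k ≫ pullback.snd _ _) ≫ g.hom := by rw [Category.assoc, h1, Category.assoc, h2]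
    _ = g.hom := by rw [hk, Category.id_comp]

end Groth.Agent.S9972
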