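import Groth.Statements.S9973
import Mathlib
import Groth.Agent.S9912
import Groth.Agent.Lib.Helper12SchDense

set_option autoImplicit false
universe u
open CategoryTheory CategoryTheory.Limits AlgebraicGeometry
open AlgSp

namespace Groth.Agent.S9973





/-- The inverse image of a quasi-compact scheme theoretically dense open under a flat morphism of
algebraic spaces is scheme theoretically dense. -/
theorem result {S : Scheme.{u}} {X Y V V' : AlgSp.Space S} (f : X ⟶ Y)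
    (hf : AlgSp.LocP @Flat f.hom) (j : V ⟶ Y) (hj : AlgSp.IsSchDense j.hom) (hjq : AlgSp.IsQuasiCompactMor j.hom)
    (fst : V' ⟶ V) (jX : V' ⟶ X) (sq : IsPullback fst.hom jX.hom j.hom f.hom) : AlgSp.IsSchDense jX.hom := by
  obtain ⟨hjo, V₀, φ₀, W₀, fst₀, hφ₀e, hφ₀s, sq₀, hW₀⟩ := hj
  have hqc : AlgSp.RepWith @QuasiCompact j.hom := (Groth.Agent.S9912.result j hjo.1).2 hjq
  haveI : QuasiCompact W₀.ι :=
    hqc.2 φ₀ fst₀ (Over.homMk W₀.ι rfl : Over.mk (W₀.ι ≫ V₀.hom) ⟶ V₀) sq₀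
  have hjX : AlgSp.RepWith @IsOpenImmersion jX.hom :=
    MorphismProperty.of_isPullback (P := AlgSp.RepWith @IsOpenImmersion) sq hjo
  refine ⟨hjX, ?_⟩
  obtain ⟨U, u, hue, hus⟩ := X.property.atlas
  obtain ⟨U₁, π, h', sq₁⟩ := hφ₀e.1 (u ≫ f.hom)
  haveI : Etale π.left := hφ₀e.2 _ _ π sq₁
  haveI : Surjective π.left := hφ₀s.2 _ _ π sq₁
  obtain ⟨h, rfl⟩ := (AlgSp.yon S).map_surjective h'
  have hφe : AlgSp.RepWith @Etale ((AlgSp.yon S).map π ≫ u) :=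
    (AlgSp.RepWith @Etale).comp_mem _ _
      ((AlgSp.repWith_yon_map_iff _ _).2 (show Etale π.left from inferInstance)) hue
  have hφs : AlgSp.RepWith @Surjective ((AlgSp.yon S).map π ≫ u) :=
    (AlgSp.RepWith @Surjective).comp_mem _ _
      ((AlgSp.repWith_yon_map_iff _ _).2 (show Surjective π.left from inferInstance)) hus
  have hcomm : ((AlgSp.yon S).map π ≫ u) ≫ f.hom = (AlgSp.yon S).map h ≫ φ₀ := by
    rw [Category.assoc]; exact sq₁.w.symm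
  haveI : Flat h.left := hf _ _ h hφe hφ₀e hcomm
  have hW : CInt.IsSchematicallyDense (h.left ⁻¹ᵁ W₀) :=
    Groth.Agent.Lib.Helper12.SchDense.isSchematicallyDense_preimage_of_flat h.left W₀ hW₀
  -- the scheme pullback square, over `S`
  let r : Over.mk ((h.left ⁻¹ᵁ W₀).ι ≫ U₁.hom) ⟶ Over.mk (W₀.ι ≫ V₀.hom) :=
    Over.homMk (h.left ∣_ W₀) (by
      show (h.left ∣_ W₀) ≫ W₀.ι ≫ V₀.hom = (h.left ⁻¹ᵁ W₀).ι ≫ U₁.hom
      rw [← Category.assoc, morphismRestrict_ι, Category.assoc, Over.w h])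
  have sqS : IsPullback r (Over.homMk (h.left ⁻¹ᵁ W₀).ι rfl :
      Over.mk ((h.left ⁻¹ᵁ W₀).ι ≫ U₁.hom) ⟶ U₁)
      (Over.homMk W₀.ι rfl : Over.mk (W₀.ι ≫ V₀.hom) ⟶ V₀) h :=
    IsPullback.of_map (Over.forget S) (Over.OverMorphism.ext (morphismRestrict_ι h.left W₀))
      (isPullback_morphismRestrict h.left W₀)
  have big : IsPullback ((AlgSp.yon S).map r ≫ fst₀)
      ((AlgSp.yon S).map (Over.homMk (h.left ⁻¹ᵁ W₀).ι rfl :
        Over.mk ((h.left ⁻¹ᵁ W₀).ι ≫ U₁.hom) ⟶ U₁)) j.hom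
      (((AlgSp.yon S).map π ≫ u) ≫ f.hom) := by
    rw [hcomm]
    exact (sqS.map (AlgSp.yon S)).paste_horiz sq₀
  have hw : ((AlgSp.yon S).map r ≫ fst₀) ≫ j.hom =
      ((AlgSp.yon S).map (Over.homMk (h.left ⁻¹ᵁ W₀).ι rfl :
        Over.mk ((h.left ⁻¹ᵁ W₀).ι ≫ U₁.hom) ⟶ U₁) ≫ (AlgSp.yon S).map π ≫ u) ≫ f.hom := by
    rw [big.w]; simp only [Category.assoc]
  refine ⟨U₁, (AlgSp.yon S).map π ≫ u, h.left ⁻¹ᵁ W₀, sq.lift _ _ hw, hφe, hφs, ?_, hW⟩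
  refine IsPullback.of_right ?_ (sq.lift_snd _ _ _) sq
  rw [sq.lift_fst]
  exact big

end Groth.Agent.S9973
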