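import Groth.Statements.S10129
import Mathlib
import Groth.Agent.S9874
import Groth.Agent.S9885
import Groth.Agent.S9927
import Groth.Agent.S9969
import Groth.Agent.S9972
import Groth.Agent.S9973
import Groth.Agent.S10176
import Groth.Agent.S10177
import Groth.Agent.Lib.Helper12LocPCases
import Groth.Agent.Lib.Helper12SchImage2

set_option autoImplicit false
universe u
open CategoryTheory CategoryTheory.Limits AlgebraicGeometry
open AlgSp

namespace Groth.Agent.S10129


variable {S : Scheme.{u}}

open Groth.Agent.Lib.Helper12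

/-- an fppf covering morphism of algebraic spaces is an epimorphism of sheaves. -/
lemma epi_of_fppf {X Z : AlgSp.Sp S} (hX : AlgSp.IsAlgSpace X) (hZ : AlgSp.IsAlgSpace Z)
    (g : X ⟶ Z) (hgs : AlgSp.IsSurjectiveMor g) (hgf : AlgSp.LocP @Flat g)
    (hgp : AlgSp.LocP @LocallyOfFinitePresentation g) : Epi g := by
  obtain ⟨V₀, p, hpe, hps⟩ := hZ.atlas
  obtain ⟨U, u, hue, hus⟩ := hX.atlas
  obtain ⟨U₁, π, h', sq₁⟩ := hpe.1 (u ≫ g)
  haveI : Etale π.left := hpe.2 _ _ π sq₁
  haveI : Surjective π.left := hps.2 _ _ π sq₁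
  obtain ⟨h, rfl⟩ := (AlgSp.yon S).map_surjective h'
  have hφe : AlgSp.RepWith @Etale ((AlgSp.yon S).map π ≫ u) :=
    (AlgSp.RepWith @Etale).comp_mem _ _
      ((AlgSp.repWith_yon_map_iff _ _).2 (show Etale π.left from inferInstance)) hue
  have hcomm : ((AlgSp.yon S).map π ≫ u) ≫ g = (AlgSp.yon S).map h ≫ p := by
    rw [Category.assoc]; exact sq₁.w.symm
  haveI : Flat h.left := hgf _ _ h hφe hpe hcomm
  haveI : LocallyOfFinitePresentation h.left := hgp _ _ h hφe hpe hcomm
  haveI : Surjective h.left := by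
    refine ⟨fun v => ?_⟩
    obtain ⟨x, hx⟩ := hgs (AlgSp.Points.ofPt p v)
    obtain ⟨y, rfl⟩ := Groth.Agent.S10177.surjective_ofPt u hus x
    rw [AlgSp.Points.map_ofPt] at hx
    obtain ⟨w, hw, -⟩ := Groth.Agent.S10176.exists_point_of_isPullback_yon sq₁ v y hx.symm
    exact ⟨w, hw⟩
  haveI : Epi p := Groth.Agent.S9927.epi_of_repWith p hpe hps
  haveI : Epi ((AlgSp.yon S).map h) := by
    haveI := Groth.Agent.S9885.isLocallySurjective_of_repWith ((AlgSp.yon S).map h)
      ((AlgSp.repWith_yon_map_iff _ _).2 (show Flat h.left from inferInstance))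
      ((AlgSp.repWith_yon_map_iff _ _).2
        (show LocallyOfFinitePresentation h.left from inferInstance))
      ((AlgSp.repWith_yon_map_iff _ _).2 (show Surjective h.left from inferInstance))
    exact (Sheaf.isLocallySurjective_iff_epi _).1 inferInstance
  haveI : Epi (((AlgSp.yon S).map π ≫ u) ≫ g) := by rw [hcomm]; infer_instance
  exact epi_of_epi ((AlgSp.yon S).map π ≫ u) g

/-- quasi-compact morphisms are stable under base change. -/
lemma isQuasiCompactMor_of_isPullback {F G F' G' : AlgSp.Sp S} {f : F ⟶ G} {g : G' ⟶ G}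
    {fst : F' ⟶ F} {snd : F' ⟶ G'} (sq : IsPullback fst snd f g)
    (hf : AlgSp.IsQuasiCompactMor f) : AlgSp.IsQuasiCompactMor snd := by
  intro Z₁ Z' hZ₁ hqc t fst' snd' sq'
  exact hf hZ₁ hqc (t ≫ g) (fst' ≫ fst) snd' (sq'.paste_horiz sq)



/-- Consider morphisms `g : X ⟶ Z` and `f : X ⟶ Y` of algebraic spaces over `B`, with `Y ⟶ B` separated
and `g` surjective, flat and locally of finite presentation, and let `V ⊂ Z` be a scheme
theoretically dense open subspace with `V ⟶ Z` quasi-compact such that `f` restricted to `g⁻¹(V)`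
factors through `g⁻¹(V) ⟶ V`. Then `f` factors through `g`. (The published statement does not ask
the open immersion `V ⟶ Z` to be quasi-compact; the published proof pulls the scheme theoretic
density of `V` back along a flat morphism by a lemma that requires it, so this row assumes it.) -/
theorem result (S : Scheme.{u}) (B : AlgSp.Sp S) (hB : AlgSp.IsAlgSpace B)
    (X Y Z : AlgSp.Space S) (pX : X.obj ⟶ B) (pY : Y.obj ⟶ B) (pZ : Z.obj ⟶ B)
    (f : X.obj ⟶ Y.obj) (g : X.obj ⟶ Z.obj) (hf : f ≫ pY = pX) (hg : g ≫ pZ = pX)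
    (hY : AlgSp.IsSeparatedMor pY)
    (hgs : AlgSp.IsSurjectiveMor g) (hgf : AlgSp.LocP @Flat g) (hgp : AlgSp.LocP @LocallyOfFinitePresentation g)
    (V : AlgSp.Sp S) (v : V ⟶ Z.obj) (hv : AlgSp.IsSchDense v) (hvq : AlgSp.IsQuasiCompactMor v)
    (hfac : ∃ φ : V ⟶ Y.obj, pullback.fst g v ≫ f = pullback.snd g v ≫ φ) :
    ∃ h : Z.obj ⟶ Y.obj, g ≫ h = f := by
  obtain ⟨φ, hφ⟩ := hfac
  have hfacW : ∀ {W : AlgSp.Sp S} (a : W ⟶ X.obj) (c : W ⟶ V), a ≫ g = c ≫ v →
      a ≫ f = c ≫ φ := by
    intro W a c hac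
    have h1 := congrArg (fun m => pullback.lift a c hac ≫ m) hφ
    simp only [pullback.lift_fst_assoc, pullback.lift_snd_assoc] at h1
    exact h1
  haveI : Epi g := epi_of_fppf X.property Z.property g hgs hgf hgp
  have sqR := IsPullback.of_hasPullback g g
  have hR : AlgSp.IsAlgSpace (pullback g g) :=
    Groth.Agent.S9874.isAlgSpace_of_isPullback Z.property.diag X.property X.property sqR
  have hρ : AlgSp.LocP @Flat (pullback.snd g g ≫ g) :=
    LocPCases.good_flat.locP_comp X.property Z.property _ _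
      (LocPCases.good_flat.locP_baseChange X.property Z.property X.property sqR hgf) hgf
  have hV : AlgSp.IsAlgSpace V := SchImage2.isAlgSpace_of_closedImmersion Z.property v hv.1.1
  have sqV := IsPullback.of_hasPullback v (pullback.snd g g ≫ g)
  have hVR : AlgSp.IsAlgSpace (pullback v (pullback.snd g g ≫ g)) :=
    Groth.Agent.S9874.isAlgSpace_of_isPullback Z.property.diag hV hR sqV
  have hdense : AlgSp.IsSchDense (pullback.snd v (pullback.snd g g ≫ g)) :=
    Groth.Agent.S9973.result (X := ⟨pullback g g, hR⟩) (Y := Z) (V := ⟨V, hV⟩)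
      (V' := ⟨pullback v (pullback.snd g g ≫ g), hVR⟩)
      (ObjectProperty.homMk (pullback.snd g g ≫ g)) hρ (ObjectProperty.homMk v) hv hvq
      (ObjectProperty.homMk (pullback.fst v (pullback.snd g g ≫ g)))
      (ObjectProperty.homMk (pullback.snd v (pullback.snd g g ≫ g))) sqV
  have hqcR : AlgSp.IsQuasiCompactMor (pullback.snd v (pullback.snd g g ≫ g)) :=
    isQuasiCompactMor_of_isPullback sqV hvq
  have hcl : AlgSp.IsSchImage (pullback.snd v (pullback.snd g g ≫ g)) (𝟙 (pullback g g)) :=
    (Groth.Agent.S9969.result (U := ⟨pullback v (pullback.snd g g ≫ g), hVR⟩)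
      (X := ⟨pullback g g, hR⟩)
      (ObjectProperty.homMk (pullback.snd v (pullback.snd g g ≫ g))) hdense.1 hqcR).1 hdense
  have key : pullback.fst g g ≫ f = pullback.snd g g ≫ f := by
    have h1 : (pullback.snd v (pullback.snd g g ≫ g) ≫ pullback.fst g g) ≫ g =
        pullback.fst v (pullback.snd g g ≫ g) ≫ v := by
      rw [Category.assoc, pullback.condition (f := g) (g := g), pullback.condition (f := v)]
    have h2 : (pullback.snd v (pullback.snd g g ≫ g) ≫ pullback.snd g g) ≫ g =
        pullback.fst v (pullback.snd g g ≫ g) ≫ v := by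
      rw [Category.assoc, pullback.condition (f := v)]
    have := Groth.Agent.S9972.result (U := ⟨pullback v (pullback.snd g g ≫ g), hVR⟩)
      (X := ⟨pullback g g, hR⟩) (Y := Y) (B := ⟨B, hB⟩) (ObjectProperty.homMk pY) hY
      (ObjectProperty.homMk (pullback.fst g g ≫ f)) (ObjectProperty.homMk (pullback.snd g g ≫ f))
      (by
        apply ObjectProperty.hom_ext
        show (pullback.fst g g ≫ f) ≫ pY = (pullback.snd g g ≫ f) ≫ pY
        rw [Category.assoc, Category.assoc, hf, ← hg, ← Category.assoc, ← Category.assoc,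
          pullback.condition])
      (ObjectProperty.homMk (pullback.snd v (pullback.snd g g ≫ g))) hdense.1 hcl
      (by
        apply ObjectProperty.hom_ext
        show pullback.snd v (pullback.snd g g ≫ g) ≫ pullback.fst g g ≫ f =
          pullback.snd v (pullback.snd g g ≫ g) ≫ pullback.snd g g ≫ f
        rw [← Category.assoc, ← Category.assoc, hfacW _ _ h1, hfacW _ _ h2])
    exact congrArg (fun m => m.hom) this
  obtain ⟨h, hh⟩ := Groth.Agent.Lib.Helper9.ToposLike.exists_desc_of_epi g inferInstance f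
    (fun W a₁ a₂ ha => by
      have h3 := congrArg (fun m => pullback.lift a₁ a₂ ha ≫ m) key
      simp only [pullback.lift_fst_assoc, pullback.lift_snd_assoc] at h3
      exact h3)
  exact ⟨h, hh⟩

end Groth.Agent.S10129
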