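import Groth.Statements.S10130
import Mathlib
import Groth.Agent.Lib.Helper12OpenSub2

set_option autoImplicit false
universe u
open CategoryTheory CategoryTheory.Limits AlgebraicGeometry
open AlgSp AlgSp.GroupoidSp

namespace Groth.Agent.S10130





/-- Let `(U, R, s, t, c)` be a groupoid in algebraic spaces over `B` with `s, t` open. For every open
subspace `W ⊂ U`, the open subspace `s(t⁻¹(W))` of `U` is `R`-invariant. -/
theorem result (S : Scheme.{u}) (B : AlgSp.Sp S) (hB : AlgSp.IsAlgSpace B)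
    (G : AlgSp.GroupoidSp B) (hU : AlgSp.IsAlgSpace G.U) (hR : AlgSp.IsAlgSpace G.R)
    (hs : AlgSp.IsOpenMor G.s) (ht : AlgSp.IsOpenMor G.t)
    (W W' : AlgSp.Sp S) (w : W ⟶ G.U) (w' : W' ⟶ G.U)
    (hw : AlgSp.RepWith @IsOpenImmersion w) (hw' : AlgSp.RepWith @IsOpenImmersion w')
    (himg : Set.range (AlgSp.Points.map w') =
      AlgSp.Points.map G.s '' (AlgSp.Points.map G.t ⁻¹' Set.range (AlgSp.Points.map w))) :
    G.IsInvariant w' := by
  -- the set-theoretic invariance
  have key : ∀ ρ : AlgSp.Points G.R,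
      AlgSp.Points.map G.s ρ ∈ Set.range (AlgSp.Points.map w') →
      AlgSp.Points.map G.t ρ ∈ Set.range (AlgSp.Points.map w') := by
    intro ρ hρ
    rw [himg] at hρ ⊢
    obtain ⟨ρ', hρ', hs'⟩ := hρ
    -- a point of `R ×_U R` over `(ρ', i ρ)`
    have e : AlgSp.Points.map G.s ρ' = AlgSp.Points.map G.t (AlgSp.Points.map G.i ρ) := by
      rw [hs', ← AlgSp.Points.map_comp, G.i_t]
    obtain ⟨π, hπ1, hπ2⟩ := Groth.Agent.S10175.exists_point_of_isPullback
      (IsPullback.of_hasPullback G.s G.t) ρ' (AlgSp.Points.map G.i ρ) e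
    refine ⟨AlgSp.Points.map G.c π, ?_, ?_⟩
    · -- `t (c π) = t ρ'`
      show AlgSp.Points.map G.t (AlgSp.Points.map G.c π) ∈ Set.range (AlgSp.Points.map w)
      have h1 : G.c ≫ G.t = pullback.fst G.s G.t ≫ G.t := by
        have := G.comp_t (pullback.fst G.s G.t) (pullback.snd G.s G.t) pullback.condition
        rw [← this]
        congr 1
        rw [← Category.id_comp G.c]
        congr 1
        apply pullback.hom_ext <;> simp
      rw [← AlgSp.Points.map_comp, h1, AlgSp.Points.map_comp, hπ1]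
      exact hρ'
    · have h2 : G.c ≫ G.s = pullback.snd G.s G.t ≫ G.s := by
        have := G.comp_s (pullback.fst G.s G.t) (pullback.snd G.s G.t) pullback.condition
        rw [← this]
        congr 1
        rw [← Category.id_comp G.c]
        congr 1
        apply pullback.hom_ext <;> simp
      rw [← AlgSp.Points.map_comp, h2, AlgSp.Points.map_comp, hπ2, ← AlgSp.Points.map_comp, G.i_s]
  have key' : ∀ ρ : AlgSp.Points G.R,
      AlgSp.Points.map G.t ρ ∈ Set.range (AlgSp.Points.map w') →
      AlgSp.Points.map G.s ρ ∈ Set.range (AlgSp.Points.map w') := by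
    intro ρ hρ
    have h := key (AlgSp.Points.map G.i ρ) (by rw [← AlgSp.Points.map_comp, G.i_s]; exact hρ)
    rw [← AlgSp.Points.map_comp, G.i_t] at h
    exact h
  intro T r
  rw [Groth.Agent.S10194.exists_factor_iff w' hw' (r ≫ G.t),
    Groth.Agent.S10194.exists_factor_iff w' hw' (r ≫ G.s)]
  constructor
  · rintro h _ ⟨y, rfl⟩
    rw [AlgSp.Points.map_comp]
    apply key'
    rw [← AlgSp.Points.map_comp]
    exact h ⟨y, rfl⟩
  · rintro h _ ⟨y, rfl⟩
    rw [AlgSp.Points.map_comp]
    apply key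
    rw [← AlgSp.Points.map_comp]
    exact h ⟨y, rfl⟩

end Groth.Agent.S10130
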