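import Groth.Statements.S10131
import Mathlib
import Groth.Agent.Lib.Helper12OpenSub2
import Groth.Agent.S10130
import Groth.Agent.S9913
import Groth.Agent.S10174

set_option autoImplicit false
universe u
open CategoryTheory CategoryTheory.Limits AlgebraicGeometry
open AlgSp AlgSp.GroupoidSp

namespace Groth.Agent.S10131





/-- Let `(U, R, s, t, c)` be a groupoid in algebraic spaces over `B` with `s, t` open and quasi-compact.
Then `U` has an open covering by `R`-invariant quasi-compact open subspaces. -/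
theorem result (S : Scheme.{u}) (B : AlgSp.Sp S) (hB : AlgSp.IsAlgSpace B)
    (G : AlgSp.GroupoidSp B) (hU : AlgSp.IsAlgSpace G.U) (hR : AlgSp.IsAlgSpace G.R)
    (hs : AlgSp.IsOpenMor G.s ∧ AlgSp.IsQuasiCompactMor G.s) (ht : AlgSp.IsOpenMor G.t ∧ AlgSp.IsQuasiCompactMor G.t)
    (x : AlgSp.Points G.U) :
    ∃ (W : AlgSp.Sp S) (w : W ⟶ G.U), AlgSp.RepWith @IsOpenImmersion w ∧ G.IsInvariant w ∧
      AlgSp.IsQuasiCompactSp W ∧ x ∈ Set.range (AlgSp.Points.map w) := by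
  obtain ⟨V, p, hpe, hps⟩ := hU.atlas
  obtain ⟨v, rfl⟩ := Groth.Agent.S10177.surjective_ofPt p hps x
  obtain ⟨V₀, hV₀, hvV₀, -⟩ := TopologicalSpace.Opens.isBasis_iff_nbhd.mp V.left.isBasis_affineOpens
    (show v ∈ (⊤ : V.left.Opens) from trivial)
  have hΩ₀o : IsOpen (AlgSp.Points.ofPt p '' (V₀ : Set ↥V.left)) :=
    Groth.Agent.S10176.isOpenMap_ofPt p hpe _ V₀.2
  have hΩ₀c : IsCompact (AlgSp.Points.ofPt p '' (V₀ : Set ↥V.left)) :=
    hV₀.isCompact.image (AlgSp.Points.continuous_ofPt p)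
  have hpre_c : IsCompact (AlgSp.Points.map G.t ⁻¹' (AlgSp.Points.ofPt p '' (V₀ : Set ↥V.left))) :=
    Groth.Agent.S9913.isCompact_preimage_of_isQuasiCompactMor hU G.t ht.2 _ hΩ₀o hΩ₀c
  have hΩc : IsCompact (AlgSp.Points.map G.s ''
      (AlgSp.Points.map G.t ⁻¹' (AlgSp.Points.ofPt p '' (V₀ : Set ↥V.left)))) :=
    hpre_c.image (AlgSp.Points.continuous_map G.s)
  have hΩo : IsOpen (AlgSp.Points.map G.s ''
      (AlgSp.Points.map G.t ⁻¹' (AlgSp.Points.ofPt p '' (V₀ : Set ↥V.left)))) :=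
    hs.1 _ (hΩ₀o.preimage (AlgSp.Points.continuous_map G.t))
  have hw₀ := Groth.Agent.Lib.Helper12.OpenSub.repWith_incl (X := G.U) hΩ₀o
  have hw := Groth.Agent.Lib.Helper12.OpenSub.repWith_incl (X := G.U) hΩo
  have hr₀ := Groth.Agent.Lib.Helper12.OpenSub.range_map_incl (X := G.U)
    (AlgSp.Points.ofPt p '' (V₀ : Set ↥V.left))
  have hr := Groth.Agent.Lib.Helper12.OpenSub.range_map_incl (X := G.U)
    (AlgSp.Points.map G.s '' (AlgSp.Points.map G.t ⁻¹' (AlgSp.Points.ofPt p '' (V₀ : Set ↥V.left))))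
  have hWalg := Groth.Agent.Lib.Helper12.OpenSub.isAlgSpace_obj hU hΩo
  refine ⟨_, Groth.Agent.Lib.Helper12.OpenSub.incl G.U _, hw, ?_, ?_, ?_⟩
  · exact Groth.Agent.S10130.result S B hB G hU hR hs.1 ht.1 _ _ _ _ hw₀ hw (by rw [hr, hr₀])
  · rw [Groth.Agent.S10174.isQuasiCompactSp_iff hWalg]
    have hemb : Topology.IsOpenEmbedding (AlgSp.Points.map (Groth.Agent.Lib.Helper12.OpenSub.incl G.U
        (AlgSp.Points.map G.s '' (AlgSp.Points.map G.t ⁻¹'
          (AlgSp.Points.ofPt p '' (V₀ : Set ↥V.left)))))) :=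
      Topology.IsOpenEmbedding.of_continuous_injective_isOpenMap (AlgSp.Points.continuous_map _)
        (Groth.Agent.Lib.Helper12.LargestOpen.injective_map_of_open _ hw)
        (Groth.Agent.Lib.Helper12.OpenSub.isOpenMap_map_of_open _ hw)
    rw [← isCompact_univ_iff, hemb.isInducing.isCompact_iff, Set.image_univ, hr]
    exact hΩc
  · rw [hr]
    refine ⟨AlgSp.Points.map G.e (AlgSp.Points.ofPt p v), ?_, ?_⟩
    · rw [Set.mem_preimage, ← AlgSp.Points.map_comp, G.e_t, AlgSp.Points.map_id]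
      exact ⟨v, hvV₀, rfl⟩
    · rw [← AlgSp.Points.map_comp, G.e_s, AlgSp.Points.map_id]

end Groth.Agent.S10131
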