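import Groth.Statements.S10141
import Mathlib
import Groth.Agent.Lib.Helper12QuotOpen

set_option autoImplicit false
universe u
open CategoryTheory CategoryTheory.Limits AlgebraicGeometry
open AlgSp

namespace Groth.Agent.S10141





/-- Let `(U, R, s, t, c)` be a groupoid scheme over `S` and `g : U' ⟶ U` a morphism such that the
composite `h : U' ×_{g, U, t} R ⟶ R ⟶ U` of the projection with `s` has open image `W ⊂ U` and `h :
U' ×_{g, U, t} R ⟶ W` is a surjection of fppf sheaves. Then for the restriction `R' = R|_{U'}` the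
map of fppf quotient sheaves `U'/R' ⟶ U/R` is representable and an open immersion. -/
theorem result (S : Scheme.{u}) (G : Grpd.GroupoidScheme S)
    (U' : Scheme.{u}) (g : U' ⟶ G.U) (W : G.U.Opens)
    (hW : (W : Set ↥G.U) = Set.range ⇑(pullback.snd g G.t ≫ G.s))
    (hlift : pullback g G.t ⟶ ↑W) (hh : hlift ≫ W.ι = pullback.snd g G.t ≫ G.s)
    (hsurj : Sheaf.IsLocallySurjective ((AlgSp.yon S).map
      (Over.homMk hlift ((Category.assoc _ _ _).symm.trans (congrArg (· ≫ G.pU) hh)) :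
        Over.mk ((pullback.snd g G.t ≫ G.s) ≫ G.pU) ⟶ Over.mk (W.ι ≫ G.pU))))
    (R' : Over S) (s' t' : R' ⟶ Over.mk (g ≫ G.pU)) (r : R' ⟶ Over.mk G.pR)
    (hsq : IsPullback (prod.lift t' s') r
      (prod.map (Over.homMk g rfl : Over.mk (g ≫ G.pU) ⟶ Over.mk G.pU) (Over.homMk g rfl : Over.mk (g ≫ G.pU) ⟶ Over.mk G.pU))
      (prod.lift (Over.homMk G.t G.t_over : Over.mk G.pR ⟶ Over.mk G.pU) (Over.homMk G.s G.s_over : Over.mk G.pR ⟶ Over.mk G.pU)))
    (ψ : QuotSh.quot Scheme.fppfPrecoverage s' t' ⟶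
      QuotSh.quot Scheme.fppfPrecoverage (Over.homMk G.s G.s_over : Over.mk G.pR ⟶ Over.mk G.pU) (Over.homMk G.t G.t_over : Over.mk G.pR ⟶ Over.mk G.pU))
    (hψ : QuotSh.quotπ Scheme.fppfPrecoverage s' t' ≫ ψ =
      QuotSh.repMap Scheme.fppfPrecoverage (Over.homMk g rfl : Over.mk (g ≫ G.pU) ⟶ Over.mk G.pU) ≫ QuotSh.quotπ Scheme.fppfPrecoverage _ _) :
    AlgSp.RepWith @IsOpenImmersion ψ := by
  let sO : Over.mk G.pR ⟶ Over.mk G.pU := Over.homMk G.s G.s_over
  let tO : Over.mk G.pR ⟶ Over.mk G.pU := Over.homMk G.t G.t_over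
  let gO : Over.mk (g ≫ G.pU) ⟶ Over.mk G.pU := Over.homMk g rfl
  have hpre : Groth.Agent.Lib.Helper12.QuotOpen.IsPreEqv sO tO := by
    intro T
    refine ⟨fun a => ?_, fun {a b} hab => ?_, fun {a b c} hab hbc => ?_⟩
    · refine ⟨a ≫ (Over.homMk G.e (by
        show G.e ≫ G.pR = G.pU
        have h0 := congrArg (· ≫ G.pU) G.e_s
        simp only [Category.assoc, G.s_over, Category.id_comp] at h0
        exact h0) :
          Over.mk G.pU ⟶ Over.mk G.pR), ?_, ?_⟩
      · ext1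
        show (a.left ≫ G.e) ≫ G.t = a.left
        rw [Category.assoc, G.e_t]
        exact Category.comp_id _
      · ext1
        show (a.left ≫ G.e) ≫ G.s = a.left
        rw [Category.assoc, G.e_s]
        exact Category.comp_id _
    · obtain ⟨r, rfl, rfl⟩ := hab
      refine ⟨r ≫ (Over.homMk G.i (by
        show G.i ≫ G.pR = G.pR
        have h0 := congrArg (· ≫ G.pU) G.i_s
        simp only [Category.assoc, G.s_over, G.t_over] at h0
        exact h0) : Over.mk G.pR ⟶ Over.mk G.pR), ?_, ?_⟩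
      · ext1
        show (r.left ≫ G.i) ≫ G.t = r.left ≫ G.s
        rw [Category.assoc, G.i_t]
      · ext1
        show (r.left ≫ G.i) ≫ G.s = r.left ≫ G.t
        rw [Category.assoc, G.i_s]
    · obtain ⟨r₁, rfl, rfl⟩ := hab
      obtain ⟨r₂, h2, rfl⟩ := hbc
      have h : r₁.left ≫ G.s = r₂.left ≫ G.t := (congrArg (fun m => m.left) h2).symm
      refine ⟨Over.homMk (pullback.lift r₁.left r₂.left h ≫ G.c) ?_, ?_, ?_⟩
      · show (pullback.lift r₁.left r₂.left h ≫ G.c) ≫ G.pR = T.hom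
        have h0 := congrArg (· ≫ G.pU) (G.comp_s r₁.left r₂.left h)
        simp only [Category.assoc, G.s_over] at h0
        rw [Category.assoc]
        exact h0.trans (Over.w r₂)
      · ext1
        exact G.comp_t _ _ h
      · ext1
        exact G.comp_s _ _ h
  have hR' : ∀ (T : Over S) (a b : T ⟶ Over.mk (g ≫ G.pU)) (ρ : T ⟶ Over.mk G.pR),
      ρ ≫ tO = a ≫ gO → ρ ≫ sO = b ≫ gO → ∃ ρ' : T ⟶ R', ρ' ≫ t' = a ∧ ρ' ≫ s' = b := by
    intro T a b ρ h1 h2
    have hcomm : prod.lift a b ≫ prod.map gO gO = ρ ≫ prod.lift tO sO := by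
      rw [prod.lift_map, prod.comp_lift, h1, h2]
    refine ⟨hsq.lift _ _ hcomm, ?_, ?_⟩
    · have h := congrArg (fun m => m ≫ prod.fst) (hsq.lift_fst _ _ hcomm)
      simp only [Category.assoc, prod.lift_fst] at h
      exact h
    · have h := congrArg (fun m => m ≫ prod.snd) (hsq.lift_fst _ _ hcomm)
      simp only [Category.assoc, prod.lift_snd] at h
      exact h
  let e₁ : Over.mk ((pullback.snd g G.t ≫ G.s) ≫ G.pU) ⟶ Over.mk (g ≫ G.pU) :=
    Over.homMk (pullback.fst g G.t) (by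
      show pullback.fst g G.t ≫ g ≫ G.pU = (pullback.snd g G.t ≫ G.s) ≫ G.pU
      rw [← Category.assoc, pullback.condition, Category.assoc, G.t_over, Category.assoc,
        G.s_over])
  let e₂ : Over.mk ((pullback.snd g G.t ≫ G.s) ≫ G.pU) ⟶ Over.mk G.pR :=
    Over.homMk (pullback.snd g G.t) (by
      show pullback.snd g G.t ≫ G.pR = (pullback.snd g G.t ≫ G.s) ≫ G.pU
      rw [Category.assoc, G.s_over])
  have hE : IsPullback e₁ e₂ gO tO :=
    IsPullback.of_map (Over.forget S) (by ext1; exact pullback.condition)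
      (IsPullback.of_hasPullback g G.t)
  have hepi : Epi ((AlgSp.yon S).map
      (Over.homMk hlift ((Category.assoc _ _ _).symm.trans (congrArg (· ≫ G.pU) hh)) :
        Over.mk ((pullback.snd g G.t ≫ G.s) ≫ G.pU) ⟶ Over.mk (W.ι ≫ G.pU))) :=
    (Sheaf.isLocallySurjective_iff_epi _).1 hsurj
  exact Groth.Agent.Lib.Helper12.QuotOpen.repWith_isOpenImmersion_quot sO tO hpre gO s' t' hR'
    e₁ e₂ hE W hW _ (by ext1; exact hh) hepi ψ hψ

end Groth.Agent.S10141
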