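import Groth.Statements.S10145
import Mathlib
import Groth.Agent.Lib.Helper15Groupoid
-- import your own Groth.Agent.* helpers here

set_option autoImplicit false
universe u
open CategoryTheory CategoryTheory.Limits AlgebraicGeometry
open AlgSp AlgSp.GroupoidSp

namespace Groth.Agent.S10145.Aux
set_option autoImplicit false

namespace GpdTr
open CategoryTheory CategoryTheory.Limits AlgebraicGeometry
open Groth.Agent.Lib.Helper15Groupoid

variable {S : Scheme.{u}} {B : AlgSp.Sp S} (G : AlgSp.GroupoidSp B)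

theorem main (a : G.U ⟶ G.R) (ha : a ≫ G.s = 𝟙 G.U) [IsIso (a ≫ G.t)] :
    IsIso (pullback.lift (G.t ≫ a) (𝟙 G.R) (((Category.assoc _ _ _).trans (congrArg (G.t ≫ ·) ha)).trans ((Category.comp_id _).trans (Category.id_comp _).symm)) ≫ G.c) ∧
      G.e ≫ (pullback.lift (G.t ≫ a) (𝟙 G.R) (((Category.assoc _ _ _).trans (congrArg (G.t ≫ ·) ha)).trans ((Category.comp_id _).trans (Category.id_comp _).symm)) ≫ G.c) = a := by
  have hcomp : (G.t ≫ a) ≫ G.s = 𝟙 G.R ≫ G.t := by
    rw [Category.assoc, ha, Category.comp_id, Category.id_comp]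
  change IsIso (comp G (G.t ≫ a) (𝟙 G.R) hcomp) ∧ G.e ≫ comp G (G.t ≫ a) (𝟙 G.R) hcomp = a
  set τ := a ≫ G.t with hτ
  set L := comp G (G.t ≫ a) (𝟙 G.R) hcomp with hL
  have hLt : L ≫ G.t = G.t ≫ τ := by
    rw [hL, comp_tgt, Category.assoc]
  -- the inverse arrow family
  let b : G.U ⟶ G.R := inv τ ≫ a ≫ G.i
  have hbs : b ≫ G.s = 𝟙 G.U := by
    simp only [b, Category.assoc, G.i_s]
    exact IsIso.inv_hom_id τ
  have hbt : b ≫ G.t = inv τ := by
    simp only [b, Category.assoc, G.i_t, ha, Category.comp_id]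
  have hcomp' : (G.t ≫ b) ≫ G.s = 𝟙 G.R ≫ G.t := by
    rw [Category.assoc, hbs, Category.comp_id, Category.id_comp]
  let L' := comp G (G.t ≫ b) (𝟙 G.R) hcomp'
  have hL't : L' ≫ G.t = G.t ≫ inv τ := by
    simp only [L']
    rw [comp_tgt, Category.assoc, hbt]
  constructor
  · refine ⟨L', ?_, ?_⟩
    · -- L ≫ L' = 𝟙
      simp only [L']
      rw [precomp]
      have e1 : L ≫ G.t ≫ b = (G.t ≫ a) ≫ G.i := by
        rw [← Category.assoc, hLt]
        simp only [b, Category.assoc]
        rw [IsIso.hom_inv_id_assoc]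
      rw [comp_congr G _ e1 (Category.comp_id L)
        (by rw [Category.assoc, Category.assoc, G.i_s, hLt, hτ])]
      have key := inv_comp_comp G (G.t ≫ a) (𝟙 G.R) hcomp
        (by rw [comp_tgt, Category.assoc (G.t ≫ a) G.i G.s, G.i_s])
      exact (comp_congr G _ rfl hL _).trans key
    · -- L' ≫ L = 𝟙
      rw [hL, precomp]
      set α : G.R ⟶ G.R := G.t ≫ inv τ ≫ a with hα
      have hαt : α ≫ G.t = 𝟙 G.R ≫ G.t := by
        rw [hα, Category.assoc, Category.assoc, ← hτ, IsIso.inv_hom_id, Category.comp_id,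
          Category.id_comp]
      have hαi : (α ≫ G.i) ≫ G.s = 𝟙 G.R ≫ G.t := by
        rw [Category.assoc, G.i_s, hαt]
      have e1 : L' ≫ G.t ≫ a = α := by
        rw [← Category.assoc, hL't, Category.assoc]
      have e2 : L' ≫ 𝟙 G.R = comp G (α ≫ G.i) (𝟙 G.R) hαi := by
        rw [Category.comp_id]
        simp only [L']
        exact comp_congr G _ (by simp only [hα, b, Category.assoc]) rfl _
      rw [comp_congr G _ e1 e2 (by rw [comp_tgt, Category.assoc α G.i G.t, G.i_t])]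
      exact comp_inv_comp' G α (𝟙 G.R) hαt hαi _
  · rw [hL, precomp]
    have e1 : G.e ≫ G.t ≫ a = a := by rw [← Category.assoc, G.e_t, Category.id_comp]
    rw [comp_congr G _ e1 (Category.comp_id G.e) (by rw [ha, G.e_t])]
    apply comp_unit
    rw [← Category.assoc, ha, Category.id_comp]

end GpdTr

end Groth.Agent.S10145.Aux

namespace Groth.Agent.S10145

/-- Let `(U, R, s, t, c)` be a groupoid in algebraic spaces over `B` whose object space is `U = Spec k`,
and let `r : Spec k ⟶ R` be such that `s ∘ r` and `t ∘ r` are automorphisms of `Spec k`; write `a =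
r ∘ (s ∘ r)⁻¹`, so that `s ∘ a = id` and `t ∘ a` is an automorphism. Then `R ⟶ R`, `f ↦ c(a ∘ t ∘ f,
f)`, is an automorphism of `R` mapping `e` to `a` (the point `r`). -/
theorem result (S : Scheme.{u}) (B : AlgSp.Sp S) (hB : AlgSp.IsAlgSpace B)
    (G : AlgSp.GroupoidSp B) (hR : AlgSp.IsAlgSpace G.R) (k : Type u) [Field k]
    (σ : Spec (CommRingCat.of k) ⟶ S) (eU : G.U ≅ (AlgSp.yon S).obj (Over.mk σ))
    (a : G.U ⟶ G.R) (ha : a ≫ G.s = 𝟙 G.U) [IsIso (a ≫ G.t)] :
    IsIso (pullback.lift (G.t ≫ a) (𝟙 G.R) (((Category.assoc _ _ _).trans (congrArg (G.t ≫ ·) ha)).trans ((Category.comp_id _).trans (Category.id_comp _).symm)) ≫ G.c) ∧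
      G.e ≫ (pullback.lift (G.t ≫ a) (𝟙 G.R) (((Category.assoc _ _ _).trans (congrArg (G.t ≫ ·) ha)).trans ((Category.comp_id _).trans (Category.id_comp _).symm)) ≫ G.c) = a := by
  exact Aux.GpdTr.main G a ha

end Groth.Agent.S10145
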