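import Groth.Statements.S10148
import Groth.Agent.Lib.Helper15LinTopComplete
import Mathlib.RingTheory.Henselian
import Mathlib.Topology.Algebra.Polynomial
import Mathlib.Algebra.Ring.GeomSum

set_option autoImplicit false
universe u
open LinTop

namespace Groth.Agent.S10148

open Topology Filter Polynomial Groth.Agent.Lib.Helper15

/-- Let A be a weakly admissible topological ring (linearly topologized, Hausdorff and complete, having
a weak ideal of definition) and let I be a weak ideal of definition of A, that is, an open ideal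
consisting of topologically nilpotent elements. Then (A, I) is a henselian pair. -/
theorem result
    (A : Type u) [CommRing A] [UniformSpace A] [IsUniformAddGroup A] [IsTopologicalRing A]
    (hA : LinTop.IsWeaklyAdmissible A) (I : Ideal A) (hI : LinTop.IsWeakIdealOfDefinition A I) :
    HenselianRing A I := by
  obtain ⟨⟨hlin, -⟩, hT2, hcs⟩ := hA
  obtain ⟨hIo, hInil⟩ := hI
  have hna : NonarchimedeanAddGroup A := nonarchimedeanAddGroup_of_isLinearTopology
  have hIcl : IsClosed (I : Set A) := isClosed_of_isOpen hIo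
  -- geometric series
  have hunit : ∀ v ∈ I, IsUnit (1 - v) := by
    intro v hv
    have htend : Tendsto (fun n : ℕ => v ^ n) atTop (𝓝 0) := hInil v hv
    have hsum : Summable (fun n : ℕ => v ^ n) := by
      apply NonarchimedeanAddGroup.summable_of_tendsto_cofinite_zero
      rw [Nat.cofinite_eq_atTop]
      exact htend
    have hlim := hsum.hasSum.tendsto_sum_nat
    have h1 : Tendsto (fun N => (1 - v) * ∑ n ∈ Finset.range N, v ^ n) atTop
        (𝓝 ((1 - v) * ∑' n, v ^ n)) := hlim.const_mul (1 - v)
    have h2 : Tendsto (fun N => (1 - v) * ∑ n ∈ Finset.range N, v ^ n) atTop (𝓝 1) := by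
      have h3 : (fun N => (1 - v) * ∑ n ∈ Finset.range N, v ^ n) = fun N => 1 - v ^ N := by
        funext N
        exact mul_neg_geom_sum v N
      rw [h3]
      have h4 := (tendsto_const_nhds (x := (1 : A))).sub htend
      simpa using h4
    exact IsUnit.of_mul_eq_one _ (tendsto_nhds_unique h1 h2)
  have hjac : I ≤ Ideal.jacobson ⊥ := by
    intro x hx
    rw [Ideal.mem_jacobson_bot]
    intro y
    have h5 : x * y + 1 = 1 - (-(x * y)) := by ring
    rw [h5]
    exact hunit _ (I.neg_mem (I.mul_mem_right y hx))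
  refine ⟨hjac, ?_⟩
  intro f _ a₀ h₁ h₂
  classical
  let f' := derivative f
  let c : ℕ → A := fun n => Nat.recOn n a₀ fun _ b => b - f.eval b * Ring.inverse (f'.eval b)
  have hc : ∀ n, c (n + 1) = c n - f.eval (c n) * Ring.inverse (f'.eval (c n)) := by
    intro n
    simp only [c]
  have hc_mod : ∀ n, c n ≡ a₀ [SMOD I] := by
    intro n
    induction n with
    | zero => rfl
    | succ n ih =>
      rw [hc, sub_eq_add_neg, ← add_zero a₀]
      refine ih.add ?_
      rw [SModEq.zero, Ideal.neg_mem_iff]
      refine I.mul_mem_right _ ?_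
      rw [← SModEq.zero] at h₁ ⊢
      exact (ih.eval f).trans h₁
  have hf'c : ∀ n, IsUnit (f'.eval (c n)) := by
    intro n
    have := isLocalHom_of_le_jacobson_bot I hjac
    apply IsUnit.of_map (Ideal.Quotient.mk I)
    convert h₂ using 1
    exact SModEq.def.mp ((hc_mod n).eval _)
  set K : Ideal A := Ideal.span {f.eval a₀} with hK
  have hfcK : ∀ n, f.eval (c n) ∈ K ^ (n + 1) := by
    intro n
    induction n with
    | zero =>
      rw [zero_add, pow_one]
      exact Ideal.subset_span rfl
    | succ n ih =>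
      obtain ⟨k, hk⟩ := exists_mul_sq_add_linear_part_eq_eval_add f (c n)
        (-(f.eval (c n) * Ring.inverse (f'.eval (c n))))
      rw [hc, sub_eq_add_neg, ← hk]
      have h6 : k * (-(f.eval (c n) * Ring.inverse (f'.eval (c n)))) ^ 2 +
          eval (c n) (derivative f) * (-(f.eval (c n) * Ring.inverse (f'.eval (c n)))) +
          eval (c n) f =
          (k * Ring.inverse (f'.eval (c n)) ^ 2) * (f.eval (c n)) ^ 2 +
          f.eval (c n) * (1 - f'.eval (c n) * Ring.inverse (f'.eval (c n))) := by ring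
      rw [h6, Ring.mul_inverse_cancel _ (hf'c n), sub_self, mul_zero, add_zero]
      refine Ideal.mul_mem_left _ _ ?_
      have h7 : (f.eval (c n)) ^ 2 ∈ (K ^ (n + 1)) ^ 2 := Ideal.pow_mem_pow ih 2
      rw [← pow_mul] at h7
      exact Ideal.pow_le_pow_right (by omega) h7
  have hKtend : ∀ J : Ideal A, IsOpen (J : Set A) → ∃ N, ∀ n, N ≤ n → K ^ (n + 1) ≤ J := by
    intro J hJ
    obtain ⟨N, hN⟩ := isTopologicallyNilpotent_iff.1 (hInil _ h₁) J hJ
    refine ⟨N, fun n hn => ?_⟩
    rw [hK, Ideal.span_singleton_pow, Ideal.span_singleton_le_iff_mem]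
    obtain ⟨m, rfl⟩ := Nat.exists_eq_add_of_le hn
    have : f.eval a₀ ^ (N + m + 1) = f.eval a₀ ^ N * f.eval a₀ ^ (m + 1) := by ring
    rw [this]
    exact J.mul_mem_right _ hN
  have htendK : ∀ (u : ℕ → A), (∀ n, u n ∈ K ^ (n + 1)) → Tendsto u atTop (𝓝 0) := by
    intro u hu
    rw [(IsLinearTopology.hasBasis_open_ideal (R := A)).tendsto_right_iff]
    intro J hJ
    obtain ⟨N, hN⟩ := hKtend J hJ
    filter_upwards [eventually_ge_atTop N] with n hn
    exact hN n hn (hu n)
  have hfc_tend : Tendsto (fun n => f.eval (c n)) atTop (𝓝 0) := htendK _ hfcK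
  have hdiff_tend : Tendsto (fun n => c (n + 1) - c n) atTop (𝓝 0) := by
    apply htendK
    intro n
    rw [hc]
    have : c n - f.eval (c n) * Ring.inverse (f'.eval (c n)) - c n =
        -(f.eval (c n) * Ring.inverse (f'.eval (c n))) := by ring
    rw [this]
    exact (Ideal.neg_mem_iff _).2 (Ideal.mul_mem_right _ _ (hfcK n))
  have hcauchy : CauchySeq c :=
    NonarchimedeanAddGroup.cauchySeq_of_tendsto_sub_nhds_zero hdiff_tend
  obtain ⟨a, ha⟩ := cauchySeq_tendsto_of_complete hcauchy
  refine ⟨a, ?_, ?_⟩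
  · have h8 : Tendsto (fun n => f.eval (c n)) atTop (𝓝 (f.eval a)) :=
      (f.continuous.tendsto a).comp ha
    exact tendsto_nhds_unique h8 hfc_tend
  · have h9 : Tendsto (fun n => c n - a₀) atTop (𝓝 (a - a₀)) := ha.sub_const a₀
    exact hIcl.mem_of_tendsto h9 (Eventually.of_forall fun n => SModEq.sub_mem.1 (hc_mod n))

end Groth.Agent.S10148
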