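import Groth.Statements.S10155
import Groth.Agent.Lib.Helper15LinTopComplete

set_option autoImplicit false
universe u v
open LinTop

namespace Groth.Agent.S10155

open Topology Filter Uniformity Groth.Agent.Lib.Helper15

/-- Let φ : A → B be a taut homomorphism of linearly topologized rings with dense image. Assume A is
Hausdorff and complete with a countable fundamental system of open ideals and B is Hausdorff. Then φ
is surjective and open, so that B is the quotient of A by the closed ideal ker φ with the quotient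
topology, and B is complete. -/
theorem result
    (A : Type u) [CommRing A] [UniformSpace A] [IsUniformAddGroup A] [IsTopologicalRing A]
    [IsLinearTopology A A] [T2Space A] [CompleteSpace A] (hA : (nhds (0 : A)).IsCountablyGenerated)
    (B : Type v) [CommRing B] [UniformSpace B] [IsUniformAddGroup B] [IsTopologicalRing B]
    [IsLinearTopology B B] [T2Space B]
    (φ : A →+* B) (hφ : LinTop.IsTaut φ) (hd : DenseRange φ) :
    Function.Surjective φ ∧ IsOpenQuotientMap φ ∧ CompleteSpace B := by
  classical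
  obtain ⟨hc, h2, h3⟩ := hφ
  have hna : NonarchimedeanAddGroup A := nonarchimedeanAddGroup_of_isLinearTopology
  obtain ⟨I, hIo, hIb⟩ :=
    (IsLinearTopology.hasBasis_open_ideal (R := A)).exists_antitone_subbasis
  have hIanti : ∀ m n, m ≤ n → I n ≤ I m := fun m n h => hIb.antitone h
  have hItend : ∀ (ys : ℕ → A) (n : ℕ), (∀ k, ys k ∈ I (n + k)) → Tendsto ys atTop (𝓝 0) := by
    intro ys n hys
    rw [hIb.toHasBasis.tendsto_right_iff]
    intro m _
    filter_upwards [eventually_ge_atTop m] with k hk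
    exact hIanti m (n + k) (by omega) (hys k)
  have hIsum : ∀ (ys : ℕ → A) (n : ℕ), (∀ k, ys k ∈ I (n + k)) → Summable ys := by
    intro ys n hys
    apply NonarchimedeanAddGroup.summable_of_tendsto_cofinite_zero
    rw [Nat.cofinite_eq_atTop]
    exact hItend ys n hys
  set J : ℕ → Ideal B := fun n => ((I n).map φ).closure with hJdef
  have hJo : ∀ n, IsOpen (J n : Set B) := fun n => h2 (I n) (hIo n)
  have hJanti : ∀ m n, m ≤ n → J n ≤ J m := fun m n h =>
    Lib.Helper15.closure_mono (Ideal.map_mono (hIanti m n h))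
  have hJb : ∀ U ∈ 𝓝 (0 : B), ∃ n, (J n : Set B) ⊆ U := by
    intro U hU
    obtain ⟨I', hI'o, hI'U⟩ := h3 U hU
    obtain ⟨n, -, hn⟩ := hIb.toHasBasis.mem_iff.1 (hI'o.mem_nhds I'.zero_mem)
    have hn' : I n ≤ I' := hn
    have h4 : J n ≤ (I'.map φ).closure := Lib.Helper15.closure_mono (Ideal.map_mono hn')
    exact ⟨n, subset_trans h4 hI'U⟩
  have hdense : ∀ (L : Ideal B), IsOpen (L : Set B) → ∀ b : B, ∃ a : A, b - φ a ∈ L := by
    intro L hL b
    have ho : IsOpen {y : B | b - y ∈ L} := hL.preimage (continuous_const.sub continuous_id)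
    obtain ⟨a, ha⟩ := hd.exists_mem_open ho ⟨b, by simp⟩
    exact ⟨a, ha⟩
  have hstep : ∀ (I₁ I₂ : Ideal A), IsOpen (I₂ : Set A) → ∀ b ∈ (I₁.map φ).closure,
      ∃ a ∈ I₁, b - φ a ∈ (I₂.map φ).closure := by
    intro I₁ I₂ hI₂ b hb
    have hJ₂o : IsOpen (((I₂.map φ).closure : Ideal B) : Set B) := h2 I₂ hI₂
    obtain ⟨c, hc', d, hd', rfl⟩ := Submodule.mem_sup.1 (closure_le_sup_of_isOpen _ hJ₂o hb)
    have key : ∀ c ∈ I₁.map φ, ∃ a ∈ I₁, c - φ a ∈ (I₂.map φ).closure := by
      intro c hc'
      refine Submodule.span_induction ?_ ?_ ?_ ?_ hc'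
      · rintro _ ⟨i, hi, rfl⟩
        exact ⟨i, hi, by simp⟩
      · exact ⟨0, I₁.zero_mem, by simp⟩
      · rintro x y _ _ ⟨a, ha, hxa⟩ ⟨a', ha', hya'⟩
        refine ⟨a + a', I₁.add_mem ha ha', ?_⟩
        have : x + y - φ (a + a') = (x - φ a) + (y - φ a') := by rw [map_add]; ring
        rw [this]
        exact Ideal.add_mem _ hxa hya'
      · rintro r x _ ⟨a, ha, hxa⟩
        obtain ⟨a', ha'⟩ := hdense _ hJ₂o r
        refine ⟨a' * a, I₁.mul_mem_left _ ha, ?_⟩
        have : r • x - φ (a' * a) = r * (x - φ a) + (r - φ a') * φ a := by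
          rw [map_mul, smul_eq_mul]; ring
        rw [this]
        exact Ideal.add_mem _ (Ideal.mul_mem_left _ _ hxa) (Ideal.mul_mem_right _ _ ha')
    obtain ⟨a, ha, hca⟩ := key c hc'
    refine ⟨a, ha, ?_⟩
    have : c + d - φ a = (c - φ a) + d := by ring
    rw [this]
    exact Ideal.add_mem _ hca hd'
  have hlift : ∀ n, ∀ b ∈ J n, ∃ a ∈ I n, φ a = b := by
    intro n b hb
    obtain ⟨ys, hys, hrem⟩ := exists_seq_of_step (fun k (x : B) => x ∈ J (n + k))
      (fun k (y : A) => y ∈ I (n + k)) (fun y => φ y)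
      (fun k x hx => by
        obtain ⟨a, ha, h⟩ := hstep (I (n + k)) (I (n + (k + 1))) (hIo _) x hx
        exact ⟨a, ha, h⟩) b (by simpa using hb)
    have hsum : Summable ys := hIsum ys n hys
    have hlim := hsum.hasSum.tendsto_sum_nat
    refine ⟨∑' k, ys k, ?_, ?_⟩
    · refine (isClosed_of_isOpen (hIo n)).mem_of_tendsto hlim (Eventually.of_forall fun N => ?_)
      exact Submodule.sum_mem _ (fun k _ => hIanti n (n + k) (by omega) (hys k))
    · have h1 : Tendsto (fun N => φ (∑ k ∈ Finset.range N, ys k)) atTop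
          (𝓝 (φ (∑' k, ys k))) := (hc.tendsto _).comp hlim
      have h2' : Tendsto (fun N => φ (∑ k ∈ Finset.range N, ys k)) atTop (𝓝 b) := by
        have h3' : Tendsto (fun N => b - ∑ k ∈ Finset.range N, φ (ys k)) atTop (𝓝 0) := by
          rw [tendsto_def]
          intro U hU
          obtain ⟨m, hm⟩ := hJb U hU
          rw [mem_atTop_sets]
          exact ⟨m, fun N hN => hm (hJanti m (n + N) (by omega) (hrem N))⟩
        have h5 := (tendsto_const_nhds (x := b)).sub h3'
        simpa [map_sum] using h5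
      exact tendsto_nhds_unique h1 h2'
  have hsurj : Function.Surjective φ := by
    intro b
    obtain ⟨a₀, ha₀⟩ := hdense (J 0) (hJo 0) b
    obtain ⟨a₁, -, ha₁⟩ := hlift 0 _ ha₀
    exact ⟨a₀ + a₁, by rw [map_add, ha₁]; ring⟩
  have hopen : IsOpenMap φ := by
    rw [IsTopologicalAddGroup.isOpenMap_iff_nhds_zero]
    intro S hS
    rw [Filter.mem_map] at hS
    obtain ⟨n, -, hn⟩ := hIb.toHasBasis.mem_iff.1 hS
    refine Filter.mem_of_superset ((hJo n).mem_nhds (J n).zero_mem) ?_
    intro b hb
    obtain ⟨a, ha, rfl⟩ := hlift n b hb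
    exact hn ha
  refine ⟨hsurj, ⟨hsurj, hc, hopen⟩, ?_⟩
  have hcg : (𝓝 (0 : B)).IsCountablyGenerated := by
    have hb : (𝓝 (0 : B)).HasBasis (fun _ : ℕ => True) (fun n => (J n : Set B)) := by
      constructor
      intro U
      constructor
      · intro hU
        obtain ⟨n, hn⟩ := hJb U hU
        exact ⟨n, trivial, hn⟩
      · rintro ⟨n, -, hn⟩
        exact Filter.mem_of_superset ((hJo n).mem_nhds (J n).zero_mem) hn
    exact hb.isCountablyGenerated
  have hucg : (𝓤 B).IsCountablyGenerated := IsUniformAddGroup.uniformity_countably_generated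
  refine UniformSpace.complete_of_convergent_controlled_sequences
    (fun n => {p : B × B | p.2 - p.1 ∈ J n}) ?_ ?_
  · intro n
    rw [uniformity_eq_comap_nhds_zero B]
    exact Filter.preimage_mem_comap ((hJo n).mem_nhds (J n).zero_mem)
  · intro u hu
    have hd1 : ∀ n, ∃ d ∈ I n, φ d = u (n + 1) - u n :=
      fun n => hlift n _ (hu n n (n + 1) le_rfl (Nat.le_succ n))
    choose d hdI hdφ using hd1
    obtain ⟨a₀, ha₀⟩ := hsurj (u 0)
    have hφa : ∀ N, φ (a₀ + ∑ k ∈ Finset.range N, d k) = u N := by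
      intro N
      induction N with
      | zero => simpa using ha₀
      | succ N ih =>
        rw [Finset.sum_range_succ, ← add_assoc, map_add, ih, hdφ]
        ring
    have hsum : Summable d := hIsum d 0 (fun k => by simpa using hdI k)
    refine ⟨φ (a₀ + ∑' k, d k), ?_⟩
    have h6 := (hc.tendsto _).comp
      ((tendsto_const_nhds (x := a₀)).add hsum.hasSum.tendsto_sum_nat)
    have h7 : u = (fun N => φ (a₀ + ∑ k ∈ Finset.range N, d k)) := by
      funext N
      exact (hφa N).symm
    rw [h7]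
    exact h6

end Groth.Agent.S10155
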