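import Groth.Statements.S10156
import Groth.Agent.Lib.Helper15LinTop

set_option autoImplicit false
universe u v w
open LinTop

namespace Groth.Agent.S10156

/-- Given pre-adic rings A, B, C and continuous ring maps ψ : B → C and φ : A → B, adicness of the
composite A → C implies that ψ is adic. -/
theorem result
    (A : Type u) [CommRing A] [TopologicalSpace A] [IsTopologicalRing A] (hA : LinTop.IsPreadic A)
    (B : Type v) [CommRing B] [TopologicalSpace B] [IsTopologicalRing B] (hB : LinTop.IsPreadic B)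
    (C : Type w) [CommRing C] [TopologicalSpace C] [IsTopologicalRing C] (hC : LinTop.IsPreadic C)
    (φ : A →+* B) (ψ : B →+* C) (hφ : Continuous φ) (hψ : Continuous ψ)
    (h : LinTop.IsAdicHom (ψ.comp φ)) : LinTop.IsAdicHom ψ := by
  obtain ⟨J₀, hJ₀⟩ := hB
  obtain ⟨I, hI, hK⟩ := h
  have hJ₀' := isAdic_iff.1 hJ₀
  have hK' := isAdic_iff.1 hK
  -- a power of `φ(I)B` lies in `J₀`
  obtain ⟨n, -, hn⟩ := hI.2 ((J₀.comap φ : Ideal A) : Set A)
    ((Lib.Helper15.isOpen_comap φ hφ (by simpa using hJ₀'.1 1)).mem_nhds (Ideal.zero_mem _))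
  have h1 : (I.map φ) ^ n ≤ J₀ := by
    rw [← Ideal.map_pow, Ideal.map_le_iff_le_comap]
    exact hn
  have h2 : (J₀ ⊔ I.map φ) ^ n ≤ J₀ :=
    (Lib.Helper15.sup_pow_le_sup_pow _ _ n).trans (sup_le le_rfl h1)
  have hJ : IsAdic (J₀ ⊔ I.map φ) := Lib.Helper15.isAdic_of_le_of_pow_le hJ₀ le_sup_left h2
  refine ⟨J₀ ⊔ I.map φ, Lib.Helper15.isIdealOfDefinition_of_isAdic hJ, ?_⟩
  -- a power of `ψ(J₀)C` lies in `K`
  have hKo : IsOpen ((I.map (ψ.comp φ) : Ideal C) : Set C) := by simpa using hK'.1 1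
  obtain ⟨m, hm⟩ := hJ₀'.2 (((I.map (ψ.comp φ)).comap ψ : Ideal B) : Set B)
    ((Lib.Helper15.isOpen_comap ψ hψ hKo).mem_nhds (Ideal.zero_mem _))
  have h3 : (J₀.map ψ) ^ m ≤ I.map (ψ.comp φ) := by
    rw [← Ideal.map_pow, Ideal.map_le_iff_le_comap]
    exact hm
  have h4 : (J₀ ⊔ I.map φ).map ψ = J₀.map ψ ⊔ I.map (ψ.comp φ) := by
    rw [Ideal.map_sup, Ideal.map_map]
  rw [h4]
  exact Lib.Helper15.isAdic_of_le_of_pow_le hK le_sup_right
    ((Lib.Helper15.sup_pow_le_pow_sup _ _ m).trans (sup_le h3 le_rfl))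

end Groth.Agent.S10156
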