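import Groth.Statements.S10157
import Groth.Agent.Lib.Helper15LinTop

set_option autoImplicit false
universe u v
open LinTop

namespace Groth.Agent.S10157

/-- A continuous adic homomorphism φ : A → B between pre-adic topological rings is taut. -/
theorem result
    (A : Type u) [CommRing A] [TopologicalSpace A] [IsTopologicalRing A] (hA : LinTop.IsPreadic A)
    (B : Type v) [CommRing B] [TopologicalSpace B] [IsTopologicalRing B] (hB : LinTop.IsPreadic B)
    (φ : A →+* B) (hφ : Continuous φ) (h : LinTop.IsAdicHom φ) : LinTop.IsTaut φ := by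
  obtain ⟨I₀, hI₀⟩ := hA
  obtain ⟨I, hI, hK⟩ := h
  have hIad : IsAdic I := Lib.Helper15.isAdic_of_isIdealOfDefinition hI₀ hI
  have hK' := isAdic_iff.1 hK
  have hI' := isAdic_iff.1 hIad
  refine ⟨hφ, ?_, ?_⟩
  · intro I' hI'o
    obtain ⟨n, hn⟩ := hI'.2 (I' : Set A) (hI'o.mem_nhds I'.zero_mem)
    have h1 : (I.map φ) ^ n ≤ I'.map φ := by
      rw [← Ideal.map_pow]
      exact Ideal.map_mono hn
    exact Lib.Helper15.isOpen_of_le (hK'.1 n) (h1.trans (Lib.Helper15.le_closure _))
  · intro U hU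
    obtain ⟨n, hn⟩ := hK'.2 U hU
    refine ⟨I ^ n, hI'.1 n, subset_trans ?_ hn⟩
    rw [Ideal.map_pow, ← Ideal.coe_closure, Lib.Helper15.closure_eq_of_isOpen (hK'.1 n)]

end Groth.Agent.S10157
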