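import Groth.Statements.S10159
import Groth.Agent.Lib.Helper15LinTop
import Groth.Agent.S10165

set_option autoImplicit false
universe u
open LinTop

namespace Groth.Agent.S10159

open Topology Groth.Agent.Lib.Helper15 in
theorem isTaut_of_adic_source {A' B : Type*} [CommRing A'] [TopologicalSpace A']
    [IsTopologicalRing A'] [CommRing B] [TopologicalSpace B] [IsTopologicalRing B]
    (φ : A' →+* B) (I : Ideal A') (hI : IsAdic I)
    (h1 : ∀ n : ℕ, IsOpen (closure (((I.map φ) ^ n : Ideal B) : Set B)))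
    (h2 : ∀ U ∈ 𝓝 (0 : B), ∃ n : ℕ, closure (((I.map φ) ^ n : Ideal B) : Set B) ⊆ U) :
    LinTop.IsTaut φ := by
  have hI' := isAdic_iff.1 hI
  refine ⟨?_, ?_, ?_⟩
  · apply continuous_of_continuousAt_zero φ
    rw [ContinuousAt, map_zero]
    intro U hU
    obtain ⟨n, hn⟩ := h2 U hU
    rw [Filter.mem_map]
    refine Filter.mem_of_superset ((hI'.1 n).mem_nhds (Ideal.zero_mem _)) ?_
    intro a ha
    apply hn
    apply subset_closure
    rw [← Ideal.map_pow]
    exact Ideal.mem_map_of_mem φ ha
  · intro I' hI'o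
    obtain ⟨n, hn⟩ := hI'.2 (I' : Set A') (hI'o.mem_nhds I'.zero_mem)
    have h3 : ((I.map φ) ^ n).closure ≤ (I'.map φ).closure := by
      apply Lib.Helper15.closure_mono
      rw [← Ideal.map_pow]
      exact Ideal.map_mono hn
    exact isOpen_of_le (I := ((I.map φ) ^ n).closure) (h1 n) h3
  · intro U hU
    obtain ⟨n, hn⟩ := h2 U hU
    refine ⟨I ^ n, hI'.1 n, ?_⟩
    rw [Ideal.map_pow]
    exact hn

open Topology Groth.Agent.Lib.Helper15 in
theorem isWeaklyPreadic_of_isPreadic {A' : Type*} [CommRing A'] [TopologicalSpace A']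
    [IsTopologicalRing A'] (h : LinTop.IsPreadic A') :
    IsLinearTopology A' A' ∧ LinTop.IsWeaklyPreadic A' := by
  obtain ⟨I, hI⟩ := h
  have hlin : IsLinearTopology A' A' := by
    have := I.isLinearTopology
    rw [← (show _ = I.adicTopology from hI)] at this
    exact this
  have hI' := isAdic_iff.1 hI
  refine ⟨hlin, hlin, I, fun n => ?_, fun U hU => ?_⟩
  · rw [← Ideal.coe_closure, closure_eq_of_isOpen (hI'.1 n)]
    exact hI'.1 n
  · obtain ⟨n, hn⟩ := hI'.2 U hU
    refine ⟨n, ?_⟩
    rw [← Ideal.coe_closure, closure_eq_of_isOpen (hI'.1 n)]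
    exact hn

/-- For a ring A carrying a linear topology, the following four conditions are equivalent: (1) A is
weakly pre-adic; (2) there exist a pre-adic topological ring A' and a taut continuous ring
homomorphism A' → A (A' is taken in the universe of A, which suffices since A with an adic topology
serves); (3) A has an ideal of definition, and for at least one ideal of definition I every closure
cl(I^n) with n ≥ 1 is open; (4) A has an ideal of definition, and for each of its ideals of
definition I every closure cl(I^n) with n ≥ 1 is open. -/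
theorem result
    (A : Type u) [CommRing A] [TopologicalSpace A] [IsTopologicalRing A] [IsLinearTopology A A] :
    List.TFAE [LinTop.IsWeaklyPreadic A,
      ∃ (A' : Type u) (_ : CommRing A') (_ : TopologicalSpace A') (_ : IsTopologicalRing A')
        (φ : A' →+* A), LinTop.IsPreadic A' ∧ LinTop.IsTaut φ,
      LinTop.IsPreadmissible A ∧ ∃ I : Ideal A, LinTop.IsIdealOfDefinition A I ∧
        ∀ n : ℕ, 0 < n → IsOpen (closure ((I ^ n : Ideal A) : Set A)),
      LinTop.IsPreadmissible A ∧ ∀ I : Ideal A, LinTop.IsIdealOfDefinition A I →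
        ∀ n : ℕ, 0 < n → IsOpen (closure ((I ^ n : Ideal A) : Set A))] := by
  tfae_have 1 → 2 := by
    rintro ⟨-, I, h1, h2⟩
    refine ⟨A, inferInstance, I.adicTopology, I.nonarchimedean.toIsTopologicalRing,
      RingHom.id A, ⟨I, rfl⟩, ?_⟩
    refine @isTaut_of_adic_source A A _ I.adicTopology I.nonarchimedean.toIsTopologicalRing
      _ _ _ (RingHom.id A) I rfl ?_ ?_
    · intro n
      rw [Ideal.map_id]
      exact h1 n
    · intro U hU
      rw [Ideal.map_id]
      exact h2 U hU
  tfae_have 2 → 1 := by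
    rintro ⟨A', i1, i2, i3, φ, hpre, htaut⟩
    obtain ⟨hlin, hw⟩ := isWeaklyPreadic_of_isPreadic hpre
    exact Groth.Agent.S10165.result A' A φ htaut hw
  tfae_have 1 → 4 := by
    rintro ⟨hlin, I, h1, h2⟩
    refine ⟨⟨hlin, I.closure, Lib.Helper15.isIdealOfDefinition_closure h1 h2⟩, ?_⟩
    intro I' hI' n _
    obtain ⟨k, hk⟩ := h2 (I' : Set A) (hI'.1.mem_nhds I'.zero_mem)
    have h3 : (I ^ (k * n)).closure ≤ (I' ^ n).closure := by
      apply Lib.Helper15.closure_mono
      rw [pow_mul]
      exact Ideal.pow_right_mono (fun a ha => hk (subset_closure ha)) n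
    exact Lib.Helper15.isOpen_of_le (I := (I ^ (k * n)).closure) (h1 (k * n)) h3
  tfae_have 4 → 3 := by
    rintro ⟨hpre, h⟩
    obtain ⟨I, hI⟩ := hpre.2
    exact ⟨hpre, I, hI, h I hI⟩
  tfae_have 3 → 1 := by
    rintro ⟨hpre, I, hI, h⟩
    refine ⟨hpre.1, I, fun n => ?_, fun U hU => ?_⟩
    · rcases Nat.eq_zero_or_pos n with rfl | hn
      · simp
      · exact h n hn
    · obtain ⟨K, hK, hKU⟩ := Lib.Helper15.exists_isOpen_ideal_subset hU
      obtain ⟨n, -, hn⟩ := hI.2 (K : Set A) (hK.mem_nhds K.zero_mem)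
      refine ⟨n, subset_trans ?_ hKU⟩
      exact closure_minimal hn (Lib.Helper15.isClosed_of_isOpen hK)
  tfae_finish

end Groth.Agent.S10159
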