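import Groth.Statements.S10164
import Groth.Agent.Lib.Helper15LinTopComplete

set_option autoImplicit false
universe u
open LinTop

namespace Groth.Agent.S10164

open Topology Groth.Agent.Lib.Helper15

/-- lifting a finite generating set of the image of `I` in a quotient -/
theorem exists_finset_of_fg_map_mk {A : Type*} [CommRing A] (I L : Ideal A)
    (hfg : (I.map (Ideal.Quotient.mk L)).FG) :
    ∃ s : Finset A, (s : Set A) ⊆ I ∧ I ≤ Ideal.span (s : Set A) ⊔ L := by
  classical
  obtain ⟨t, ht⟩ := hfg
  have hsurj : Function.Surjective (Ideal.Quotient.mk L) := Ideal.Quotient.mk_surjective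
  have hlift : ∀ b ∈ t, ∃ a ∈ I, Ideal.Quotient.mk L a = b := by
    intro b hb
    have : b ∈ I.map (Ideal.Quotient.mk L) := by
      rw [← ht]
      exact Ideal.subset_span hb
    exact (Ideal.mem_map_iff_of_surjective _ hsurj).1 this
  choose! lift hliftI hliftb using hlift
  refine ⟨t.image lift, ?_, ?_⟩
  · intro a ha
    simp only [Finset.coe_image, Set.mem_image, Finset.mem_coe] at ha
    obtain ⟨b, hb, rfl⟩ := ha
    exact hliftI b hb
  · intro x hx
    have h1 : Ideal.Quotient.mk L x ∈ (Ideal.span ((t.image lift : Finset A) : Set A)).map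
        (Ideal.Quotient.mk L) := by
      rw [Ideal.map_span]
      have h2 : (Ideal.Quotient.mk L) '' ((t.image lift : Finset A) : Set A) = (t : Set (A ⧸ L)) := by
        ext b
        simp only [Finset.coe_image, Set.mem_image, Finset.mem_coe]
        constructor
        · rintro ⟨a, ⟨b', hb', rfl⟩, rfl⟩
          rw [hliftb b' hb']
          exact hb'
        · intro hb
          exact ⟨lift b, ⟨b, hb, rfl⟩, hliftb b hb⟩
      rw [h2]
      have h3 : Ideal.span (t : Set (A ⧸ L)) = I.map (Ideal.Quotient.mk L) := ht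
      rw [h3]
      exact Ideal.mem_map_of_mem _ hx
    obtain ⟨y, hy, hyx⟩ := (Ideal.mem_map_iff_of_surjective _ hsurj).1 h1
    have h4 : x - y ∈ L := by
      rw [← Ideal.Quotient.eq]
      exact hyx.symm
    have : x = y + (x - y) := by ring
    rw [this]
    exact Submodule.add_mem_sup hy h4

/-- Let A be weakly adic and I an ideal of definition of A with I/I₂ finitely generated, where I₂
denotes the closure of I^2 (here: I maps onto a finitely generated ideal of A/I₂). Then A is adic,
and some finitely generated ideal of A is an ideal of definition. -/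
theorem result
    (A : Type u) [CommRing A] [UniformSpace A] [IsUniformAddGroup A] [IsTopologicalRing A] (hA : LinTop.IsWeaklyAdic A)
    (I : Ideal A) (hI : LinTop.IsIdealOfDefinition A I)
    (hfg : (I.map (Ideal.Quotient.mk ((I ^ 2).closure))).FG) :
    LinTop.IsAdicRing A ∧ ∃ J : Ideal A, LinTop.IsIdealOfDefinition A J ∧ J.FG := by
  obtain ⟨⟨hlin, I₀, h1, h2⟩, hT2, hc⟩ := hA
  have := hlin
  -- the closures of the powers of `I` are open and form a basis
  have hIo : ∀ n : ℕ, IsOpen (((I ^ n).closure : Ideal A) : Set A) := by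
    intro n
    obtain ⟨k, hk⟩ := h2 (I : Set A) (hI.1.mem_nhds I.zero_mem)
    have h3 : (I₀ ^ (k * n)).closure ≤ (I ^ n).closure := by
      apply Lib.Helper15.closure_mono
      rw [pow_mul]
      exact Ideal.pow_right_mono (fun a ha => hk (subset_closure ha)) n
    exact isOpen_of_le (I := (I₀ ^ (k * n)).closure) (h1 (k * n)) h3
  have hIb : ∀ U ∈ 𝓝 (0 : A), ∃ n : ℕ, (((I ^ n).closure : Ideal A) : Set A) ⊆ U := by
    intro U hU
    obtain ⟨K, hK, hKU⟩ := exists_isOpen_ideal_subset hU
    obtain ⟨n, -, hn⟩ := hI.2 (K : Set A) (hK.mem_nhds K.zero_mem)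
    exact ⟨n, subset_trans (closure_minimal hn (isClosed_of_isOpen hK)) hKU⟩
  have hmulcl : ∀ a b : ℕ, (I ^ a).closure * (I ^ b).closure ≤ (I ^ (a + b)).closure := by
    intro a b
    rw [pow_add]
    exact closure_mul_closure_le _ _
  have hanti : ∀ {a b : ℕ}, a ≤ b → (I ^ b).closure ≤ (I ^ a).closure := fun h =>
    Lib.Helper15.closure_mono (Ideal.pow_le_pow_right h)
  obtain ⟨s, hsI, hIs⟩ := exists_finset_of_fg_map_mk I (I ^ 2).closure hfg
  set J := Ideal.span (s : Set A) with hJ
  have hJI : J ≤ I := Ideal.span_le.2 hsI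
  -- step 2
  have step2 : ∀ n : ℕ, I ^ n ≤ J ^ n ⊔ (I ^ (n + 1)).closure := by
    intro n
    induction n with
    | zero => simp
    | succ n ih =>
      rw [pow_succ I n]
      refine (Ideal.mul_mono ih hIs).trans ?_
      rw [Ideal.sup_mul, Ideal.mul_sup, Ideal.mul_sup]
      refine sup_le (sup_le ?_ ?_) (sup_le ?_ ?_)
      · rw [← pow_succ]
        exact le_sup_left
      · refine le_trans ?_ le_sup_right
        refine (Ideal.mul_mono ((Ideal.pow_right_mono hJI n).trans (le_closure _)) le_rfl).trans ?_
        exact hmulcl n 2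
      · refine le_trans ?_ le_sup_right
        refine (Ideal.mul_mono le_rfl (hJI.trans (le_closure I))).trans ?_
        have := hmulcl (n + 1) 1
        rw [pow_one] at this
        exact this
      · refine le_trans ?_ le_sup_right
        exact (hmulcl (n + 1) 2).trans (hanti (by omega))
  -- step 3
  have step3 : ∀ k n : ℕ, (I ^ n).closure ≤ J ^ n ⊔ (I ^ (n + k)).closure := by
    intro k
    induction k with
    | zero => intro n; exact le_sup_right
    | succ k ih =>
      intro n
      refine (ih n).trans (sup_le le_sup_left ?_)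
      refine (closure_le_sup_of_isOpen (I ^ (n + k)) (hIo (n + k + 1))).trans ?_
      refine sup_le ((step2 (n + k)).trans (sup_le ?_ le_sup_right)) le_sup_right
      exact (Ideal.pow_le_pow_right (Nat.le_add_right n k)).trans le_sup_left
  have hcl : ∀ n : ℕ, (J ^ n).closure = (I ^ n).closure := by
    intro n
    apply le_antisymm (Lib.Helper15.closure_mono (Ideal.pow_right_mono hJI n))
    intro x hx
    rw [Lib.Helper15.mem_closure_iff]
    intro K hK
    obtain ⟨m, hm⟩ := hIb (K : Set A) (hK.mem_nhds K.zero_mem)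
    have h5 : (I ^ (n + m)).closure ≤ K := fun a ha => hm (hanti (Nat.le_add_left m n) ha)
    exact sup_le_sup_left h5 _ (step3 m n hx)
  have hJad : IsAdic J := by
    apply isAdic_of_fg_of_closure_pow_basis J ⟨s, rfl⟩
    · intro n
      rw [← Ideal.coe_closure, hcl n]
      exact hIo n
    · intro U hU
      obtain ⟨n, hn⟩ := hIb U hU
      refine ⟨n, ?_⟩
      rw [← Ideal.coe_closure, hcl n]
      exact hn
  exact ⟨⟨⟨J, hJad⟩, hT2, hc⟩, J, isIdealOfDefinition_of_isAdic hJad, ⟨s, rfl⟩⟩

end Groth.Agent.S10164
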