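import Groth.Statements.S10167
import Groth.Agent.Lib.Helper15LinTop

set_option autoImplicit false
universe u v
open LinTop

namespace Groth.Agent.S10167

/-- Let φ : A → B be a taut homomorphism of linearly topologized rings such that for every open ideal I
of A the induced ring map A/I → B/J, where J denotes the closure of φ(I)B, is faithfully flat. If B
has a weak ideal of definition (B is weakly pre-admissible), then so does A. -/
theorem result
    (A : Type u) [CommRing A] [TopologicalSpace A] [IsTopologicalRing A] [IsLinearTopology A A]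
    (B : Type v) [CommRing B] [TopologicalSpace B] [IsTopologicalRing B] [IsLinearTopology B B]
    (φ : A →+* B) (hφ : LinTop.IsTautFFlat φ) (hB : LinTop.IsWeaklyPreadmissible B) :
    LinTop.IsWeaklyPreadmissible A := by
  obtain ⟨hc, h2, h3⟩ := hφ.1
  obtain ⟨-, K, hKo, hKn⟩ := hB
  obtain ⟨I, hIo, hIK⟩ := h3 (K : Set B) (hKo.mem_nhds K.zero_mem)
  refine ⟨inferInstance, I, hIo, ?_⟩
  intro f hf
  rw [Lib.Helper15.isTopologicallyNilpotent_iff]
  intro I' hI'
  have hfK : φ f ∈ K := hIK (subset_closure (Ideal.mem_map_of_mem φ hf))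
  obtain ⟨n, hn⟩ := Lib.Helper15.isTopologicallyNilpotent_iff.1 (hKn _ hfK)
    (I'.map φ).closure (h2 I' hI')
  refine ⟨n, Lib.Helper15.mem_of_map_mem_closure hφ hI' ?_⟩
  rw [map_pow]
  exact hn

end Groth.Agent.S10167
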