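import Groth.Statements.S10168
import Groth.Agent.Lib.Helper15LinTop

set_option autoImplicit false
universe u v
open LinTop

namespace Groth.Agent.S10168

/-- Let φ : A → B be a taut homomorphism of linearly topologized rings such that for every open ideal I
of A, with J the closure of φ(I)B, the induced map A/I → B/J is faithfully flat. If B is
pre-admissible, then A is pre-admissible. -/
theorem result
    (A : Type u) [CommRing A] [TopologicalSpace A] [IsTopologicalRing A] [IsLinearTopology A A]
    (B : Type v) [CommRing B] [TopologicalSpace B] [IsTopologicalRing B] [IsLinearTopology B B]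
    (φ : A →+* B) (hφ : LinTop.IsTautFFlat φ) (hB : LinTop.IsPreadmissible B) :
    LinTop.IsPreadmissible A := by
  obtain ⟨hc, h2, h3⟩ := hφ.1
  obtain ⟨-, K, hKo, hKn⟩ := hB
  obtain ⟨I, hIo, hIK⟩ := h3 (K : Set B) (hKo.mem_nhds K.zero_mem)
  refine ⟨inferInstance, I, hIo, ?_⟩
  intro U hU
  obtain ⟨I', hI', hI'U⟩ := Lib.Helper15.exists_isOpen_ideal_subset hU
  obtain ⟨n, hn, hnK⟩ := hKn _ ((h2 I' hI').mem_nhds (subset_closure (Ideal.zero_mem _)))
  refine ⟨n, hn, subset_trans ?_ hI'U⟩
  intro a ha
  apply Lib.Helper15.mem_of_map_mem_closure hφ hI'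
  apply hnK
  have h4 : (I.map φ) ^ n ≤ K ^ n :=
    Ideal.pow_right_mono (fun b hb => hIK (subset_closure hb)) n
  apply h4
  rw [← Ideal.map_pow]
  exact Ideal.mem_map_of_mem φ ha

end Groth.Agent.S10168
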