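import Groth.Statements.S10169
import Groth.Agent.Lib.Helper15LinTop

set_option autoImplicit false
universe u v
open LinTop

namespace Groth.Agent.S10169

/-- Let φ : A → B be a taut homomorphism of linearly topologized rings such that for every open ideal I
of A the induced ring map A/I → B/J, where J denotes the closure of φ(I)B, is faithfully flat. Weak
pre-adicness then descends: when B is weakly pre-adic, A is as well. -/
theorem result
    (A : Type u) [CommRing A] [TopologicalSpace A] [IsTopologicalRing A] [IsLinearTopology A A]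
    (B : Type v) [CommRing B] [TopologicalSpace B] [IsTopologicalRing B] [IsLinearTopology B B]
    (φ : A →+* B) (hφ : LinTop.IsTautFFlat φ) (hB : LinTop.IsWeaklyPreadic B) :
    LinTop.IsWeaklyPreadic A := by
  obtain ⟨hc, h2, h3⟩ := hφ.1
  obtain ⟨-, K, hKo, hKb⟩ := hB
  -- choose `I` open with `J(I) ⊆ closure K`
  obtain ⟨I, hIo, hIK⟩ := h3 (closure ((K ^ 1 : Ideal B) : Set B))
    ((hKo 1).mem_nhds (subset_closure (Ideal.zero_mem _)))
  have hIK' : (I.map φ).closure ≤ K.closure := by
    intro b hb
    have := hIK hb
    rw [pow_one] at this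
    exact this
  refine ⟨inferInstance, I, fun n => ?_, fun U hU => ?_⟩
  · -- closure (I^n) is open
    obtain ⟨m, hm⟩ := hKb _ ((h2 I hIo).mem_nhds (subset_closure (Ideal.zero_mem _)))
    have hKm : K ^ m ≤ (I.map φ).closure := fun b hb => hm (subset_closure hb)
    have hL : (K ^ (m * n)).closure ≤ ((I.map φ) ^ n).closure := by
      apply Lib.Helper15.closure_le_of_isClosed _ (Lib.Helper15.isClosed_closure _)
      rw [pow_mul]
      exact (Ideal.pow_right_mono hKm n).trans (Lib.Helper15.closure_pow_le _ n)
    obtain ⟨I'', hI''o, hI''⟩ := h3 (closure ((K ^ (m * n) : Ideal B) : Set B))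
      ((hKo (m * n)).mem_nhds (subset_closure (Ideal.zero_mem _)))
    have hsub : I'' ≤ (I ^ n).closure := by
      intro x hx
      rw [Lib.Helper15.mem_closure_iff]
      intro I' hI'
      have hao : IsOpen ((I ^ n ⊔ I' : Ideal A) : Set A) :=
        Lib.Helper15.isOpen_of_le hI' le_sup_right
      apply Lib.Helper15.mem_of_map_mem_closure hφ hao
      have h5 : φ x ∈ ((I.map φ) ^ n).closure :=
        hL (hI'' (subset_closure (Ideal.mem_map_of_mem φ hx)))
      have h6 : ((I.map φ) ^ n).closure ≤ ((I ^ n ⊔ I').map φ).closure := by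
        apply Lib.Helper15.closure_mono
        rw [← Ideal.map_pow]
        exact Ideal.map_mono le_sup_left
      exact h6 h5
    exact Lib.Helper15.isOpen_of_le hI''o hsub
  · -- basis
    obtain ⟨I', hI', hI'U⟩ := Lib.Helper15.exists_isOpen_ideal_subset hU
    obtain ⟨n, hn⟩ := hKb _ ((h2 I' hI').mem_nhds (subset_closure (Ideal.zero_mem _)))
    refine ⟨n, subset_trans ?_ hI'U⟩
    apply closure_minimal _ (Lib.Helper15.isClosed_of_isOpen hI')
    intro a ha
    apply Lib.Helper15.mem_of_map_mem_closure hφ hI'
    apply hn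
    have h7 : (I.map φ) ^ n ≤ (K ^ n).closure :=
      (Ideal.pow_right_mono ((Lib.Helper15.le_closure _).trans hIK') n).trans
        (Lib.Helper15.closure_pow_le K n)
    apply h7
    rw [← Ideal.map_pow]
    exact Ideal.mem_map_of_mem φ ha

end Groth.Agent.S10169
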