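import Groth.Statements.S10170
import Groth.Agent.Lib.Helper15LinTopComplete
import Groth.Agent.S10159

set_option autoImplicit false
universe u v
open LinTop

namespace Groth.Agent.S10170

open Topology Groth.Agent.Lib.Helper15

/-- a finitely generated ideal below `I.map φ ⊔ L` is below `(span s).map φ ⊔ L` for a finite
subset `s` of `I` -/
theorem exists_finset_of_fg_le_map_sup {A B : Type*} [CommRing A] [CommRing B] (φ : A →+* B)
    (I : Ideal A) (L N : Ideal B) (hN : N.FG) (h : N ≤ I.map φ ⊔ L) :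
    ∃ s : Finset A, (s : Set A) ⊆ I ∧ N ≤ (Ideal.span (s : Set A)).map φ ⊔ L := by
  classical
  have hc := (Submodule.fg_iff_compact N).1 hN
  rw [CompleteLattice.isCompactElement_iff_le_of_directed_sSup_le] at hc
  let S : Set (Ideal B) :=
    {K | ∃ s : Finset A, (s : Set A) ⊆ I ∧ K = (Ideal.span (s : Set A)).map φ ⊔ L}
  have hne : S.Nonempty := ⟨_, ∅, by simp, rfl⟩
  have hdir : DirectedOn (· ≤ ·) S := by
    rintro _ ⟨s₁, hs₁, rfl⟩ _ ⟨s₂, hs₂, rfl⟩
    refine ⟨_, ⟨s₁ ∪ s₂, ?_, rfl⟩, ?_, ?_⟩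
    · rw [Finset.coe_union]
      exact Set.union_subset hs₁ hs₂
    · exact sup_le_sup_right (Ideal.map_mono (Ideal.span_mono (by simp))) _
    · exact sup_le_sup_right (Ideal.map_mono (Ideal.span_mono (by simp))) _
  have hle : N ≤ sSup S := by
    refine h.trans (sup_le ?_ ?_)
    · rw [Ideal.map_le_iff_le_comap]
      intro x hx
      have hmem : (Ideal.span (({x} : Finset A) : Set A)).map φ ⊔ L ∈ S :=
        ⟨{x}, by simpa using hx, rfl⟩
      exact le_sSup hmem (le_sup_left (α := Ideal B)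
        (Ideal.mem_map_of_mem φ (Ideal.subset_span (by simp))))
    · have hmem : (Ideal.span ((∅ : Finset A) : Set A)).map φ ⊔ L ∈ S := ⟨∅, by simp, rfl⟩
      exact le_sup_right.trans (le_sSup hmem)
  obtain ⟨K, ⟨s, hs, rfl⟩, hK⟩ := hc S hne hdir hle
  exact ⟨s, hs, hK⟩

/-- Let φ : A → B be a taut homomorphism of linearly topologized rings such that for every open ideal I
of A the induced ring map A/I → B/J, where J denotes the closure of φ(I)B, is faithfully flat.
Suppose A is Hausdorff and complete, and B is adic with some finitely generated ideal of definition.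
Then A is adic, and some finitely generated ideal of A is an ideal of definition. -/
theorem result
    (A : Type u) [CommRing A] [UniformSpace A] [IsUniformAddGroup A] [IsTopologicalRing A] [IsLinearTopology A A] [T2Space A] [CompleteSpace A]
    (B : Type v) [CommRing B] [UniformSpace B] [IsUniformAddGroup B] [IsTopologicalRing B] (hB : LinTop.IsAdicRing B)
    (hJ : ∃ J : Ideal B, LinTop.IsIdealOfDefinition B J ∧ J.FG)
    (φ : A →+* B) (hφ : LinTop.IsTautFFlat φ) :
    LinTop.IsAdicRing A ∧ ∃ I : Ideal A, LinTop.IsIdealOfDefinition A I ∧ I.FG := by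
  obtain ⟨hc, h2, h3⟩ := hφ.1
  obtain ⟨J₀, hJ₀, hJ₀fg⟩ := hJ
  obtain ⟨⟨J, hJad⟩, -, -⟩ := hB
  have hJ₀ad : IsAdic J₀ := isAdic_of_isIdealOfDefinition hJad hJ₀
  obtain ⟨hlinB, -⟩ := Groth.Agent.S10159.isWeaklyPreadic_of_isPreadic (A' := B) ⟨J, hJad⟩
  have hJ' := isAdic_iff.1 hJ₀ad
  -- the first approximation
  have hI₁o : IsOpen ((J₀.comap φ : Ideal A) : Set A) := isOpen_comap φ hc hJ₀.1
  obtain ⟨k, hk⟩ := hJ'.2 _ ((h2 _ hI₁o).mem_nhds (subset_closure (Ideal.zero_mem _)))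
  have hk' : J₀ ^ k ≤ ((J₀.comap φ).map φ).closure := hk
  obtain ⟨I', hI'o, hI'⟩ := h3 ((J₀ ^ (k + 1) : Ideal B) : Set B)
    ((hJ'.1 (k + 1)).mem_nhds (Ideal.zero_mem _))
  have hI'' : (I'.map φ).closure ≤ J₀ ^ (k + 1) := hI'
  have h4 : J₀ ^ k ≤ (J₀.comap φ).map φ ⊔ J₀ ^ (k + 1) :=
    hk'.trans ((closure_le_sup_of_isOpen _ (h2 I' hI'o)).trans (sup_le_sup_left hI'' _))
  obtain ⟨s, hs, hsle⟩ := exists_finset_of_fg_le_map_sup φ (J₀.comap φ) (J₀ ^ (k + 1)) (J₀ ^ k)
    (hJ₀fg.pow) h4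
  set I : Ideal A := Ideal.span (s : Set A) with hIdef
  have hIle : I.map φ ≤ J₀ := by
    rw [Ideal.map_le_iff_le_comap, hIdef, Ideal.span_le]
    exact hs
  -- `J₀ ^ k` is contained in `IB + J₀ ^ (k + m)` for all `m`
  have h5 : ∀ m : ℕ, J₀ ^ k ≤ I.map φ ⊔ J₀ ^ (k + m + 1) := by
    intro m
    induction m with
    | zero => exact hsle
    | succ m ih =>
      refine hsle.trans (sup_le le_sup_left ?_)
      rw [pow_succ']
      refine (Ideal.mul_mono_right ih).trans ?_
      rw [Ideal.mul_sup]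
      refine sup_le (Ideal.mul_le_right.trans le_sup_left) ?_
      rw [← pow_succ']
      exact le_sup_right
  have h6 : J₀ ^ k ≤ (I.map φ).closure := by
    intro x hx
    rw [Lib.Helper15.mem_closure_iff]
    intro L hL
    obtain ⟨n, hn⟩ := hJ'.2 (L : Set B) (hL.mem_nhds L.zero_mem)
    have h7 : J₀ ^ (k + n + 1) ≤ L :=
      (Ideal.pow_le_pow_right (by omega : n ≤ k + n + 1)).trans hn
    exact (sup_le_sup_left h7 _) (h5 n hx)
  have hA1 : ∀ n : ℕ, IsOpen (closure ((I ^ n : Ideal A) : Set A)) := by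
    intro n
    have hL : J₀ ^ (k * n) ≤ ((I.map φ) ^ n).closure := by
      rw [pow_mul]
      exact (Ideal.pow_right_mono h6 n).trans (closure_pow_le _ n)
    obtain ⟨I'', hI''o, hI''⟩ := h3 ((J₀ ^ (k * n) : Ideal B) : Set B)
      ((hJ'.1 (k * n)).mem_nhds (Ideal.zero_mem _))
    have hsub : I'' ≤ (I ^ n).closure := by
      intro x hx
      rw [Lib.Helper15.mem_closure_iff]
      intro I₂ hI₂
      have hao : IsOpen ((I ^ n ⊔ I₂ : Ideal A) : Set A) := isOpen_of_le hI₂ le_sup_right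
      apply mem_of_map_mem_closure hφ hao
      have h8 : φ x ∈ ((I.map φ) ^ n).closure :=
        hL (hI'' (subset_closure (Ideal.mem_map_of_mem φ hx)))
      have h9 : ((I.map φ) ^ n).closure ≤ ((I ^ n ⊔ I₂).map φ).closure := by
        apply Lib.Helper15.closure_mono
        rw [← Ideal.map_pow]
        exact Ideal.map_mono le_sup_left
      exact h9 h8
    exact isOpen_of_le hI''o hsub
  have hA2 : ∀ U ∈ 𝓝 (0 : A), ∃ n : ℕ, closure ((I ^ n : Ideal A) : Set A) ⊆ U := by
    intro U hU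
    obtain ⟨I₂, hI₂, hI₂U⟩ := exists_isOpen_ideal_subset hU
    obtain ⟨n, hn⟩ := hJ'.2 _ ((h2 I₂ hI₂).mem_nhds (subset_closure (Ideal.zero_mem _)))
    refine ⟨n, subset_trans ?_ hI₂U⟩
    apply closure_minimal _ (isClosed_of_isOpen hI₂)
    intro a ha
    apply mem_of_map_mem_closure hφ hI₂
    apply hn
    have h10 : (I.map φ) ^ n ≤ J₀ ^ n := Ideal.pow_right_mono hIle n
    apply h10
    rw [← Ideal.map_pow]
    exact Ideal.mem_map_of_mem φ ha
  have hAd : IsAdic I := isAdic_of_fg_of_closure_pow_basis I ⟨s, rfl⟩ hA1 hA2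
  exact ⟨⟨⟨I, hAd⟩, inferInstance, inferInstance⟩, I, isIdealOfDefinition_of_isAdic hAd, ⟨s, rfl⟩⟩

end Groth.Agent.S10170
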