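import Groth.Statements.S10173
import Groth.Agent.Lib.Helper15ModuleCompletion

set_option autoImplicit false
universe u v
open LinTop

namespace Groth.Agent.S10173

open Topology Filter UniformSpace Groth.Agent.Lib.Helper15

/-- Let R be a commutative ring, I a finitely generated ideal and M a topological R-module (additive
uniform structure, each scalar acting uniformly continuously) having an open submodule M' whose
topology is the I-adic one, i.e. the I^n M' are open in M and form a fundamental system of
neighbourhoods of 0. Then the separated completion M^ has an open submodule whose topology is I-adic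
in the same sense, and for every n ≥ 1 the map M → M^/I^n M^ is surjective with kernel I^n M,
identifying M^/I^n M^ with M/I^n M. -/
theorem result
    {R : Type u} [CommRing R] (I : Ideal R) (hI : I.FG)
    {M : Type v} [AddCommGroup M] [Module R M] [UniformSpace M] [IsUniformAddGroup M]
    [UniformContinuousConstSMul R M]
    (M' : Submodule R M) (hopen : ∀ n : ℕ, IsOpen ((I ^ n • M' : Submodule R M) : Set M))
    (hbasis : ∀ U ∈ nhds (0 : M), ∃ n : ℕ, ((I ^ n • M' : Submodule R M) : Set M) ⊆ U) :
    (∃ M'' : Submodule R (UniformSpace.Completion M),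
        (∀ n : ℕ, IsOpen ((I ^ n • M'' : Submodule R (UniformSpace.Completion M)) :
          Set (UniformSpace.Completion M))) ∧
        ∀ U ∈ nhds (0 : UniformSpace.Completion M), ∃ n : ℕ,
          ((I ^ n • M'' : Submodule R (UniformSpace.Completion M)) :
            Set (UniformSpace.Completion M)) ⊆ U) ∧
      ∀ n : ℕ, 0 < n →
        Function.Surjective ((QuotientAddGroup.mk' (I ^ n • ⊤ : Submodule R (UniformSpace.Completion M)).toAddSubgroup).comp
          (UniformSpace.Completion.toCompl : M →+ UniformSpace.Completion M)) ∧
        ((QuotientAddGroup.mk' (I ^ n • ⊤ : Submodule R (UniformSpace.Completion M)).toAddSubgroup).comp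
          (UniformSpace.Completion.toCompl : M →+ UniformSpace.Completion M)).ker = (I ^ n • ⊤ : Submodule R M).toAddSubgroup := by
  classical
  have hkey : ∀ n : ℕ, (I ^ n • hatSubmodule M' : Submodule R (Completion M)) =
      hatSubmodule (I ^ n • M') := by
    intro n
    apply le_antisymm (smul_hatSubmodule_le _ _)
    obtain ⟨T, hT⟩ := hI.pow (n := n)
    have h := hatSubmodule_smul_le T (fun k => I ^ k • M')
      (fun m k h => Submodule.smul_mono_left (Ideal.pow_le_pow_right h))
      (fun k => by
        rw [hT, ← Submodule.mul_smul, ← pow_add]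
        exact hopen (n + k))
      hopen hbasis
    rw [hT] at h
    simpa [Ideal.one_eq_top, Submodule.top_smul] using h
  have hbasisM : (𝓝 (0 : M)).HasBasis (fun _ : ℕ => True)
      (fun k => ((I ^ k • M' : Submodule R M).toAddSubgroup : Set M)) := by
    constructor
    intro U
    constructor
    · intro hU
      obtain ⟨k, hk⟩ := hbasis U hU
      exact ⟨k, trivial, hk⟩
    · rintro ⟨k, -, hk⟩
      exact Filter.mem_of_superset ((hopen k).mem_nhds (Submodule.zero_mem _)) hk
  have hsub : ∀ n : ℕ, hatSubgroup (I ^ n • M' : Submodule R M).toAddSubgroup ≤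
      (I ^ n • ⊤ : Submodule R (Completion M)).toAddSubgroup := by
    intro n x hx
    have hx' : x ∈ hatSubmodule (I ^ n • M') := (mem_hatSubmodule_iff _).2 hx
    rw [← hkey] at hx'
    exact Submodule.smul_mono le_rfl le_top hx'
  refine ⟨⟨hatSubmodule M', fun n => ?_, fun U hU => ?_⟩, fun n hn => ⟨?_, ?_⟩⟩
  · rw [hkey]
    exact isOpen_hatSubmodule (hopen n)
  · obtain ⟨k, -, hk⟩ := (hasBasis_hatSubgroup hbasisM).mem_iff.1 hU
    refine ⟨k, ?_⟩
    rw [hkey]
    intro x hx
    exact hk ((mem_hatSubmodule_iff _).1 hx)
  · intro q
    obtain ⟨x, rfl⟩ := QuotientAddGroup.mk_surjective q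
    obtain ⟨m, hm⟩ := exists_sub_mem_hatSubgroup
      (U := (I ^ n • M' : Submodule R M).toAddSubgroup) (hopen n) x
    refine ⟨m, ?_⟩
    change (QuotientAddGroup.mk (m : Completion M) : Completion M ⧸ _) = QuotientAddGroup.mk x
    rw [QuotientAddGroup.eq]
    have h1 : -(m : Completion M) + x = x - (m : Completion M) := by abel
    rw [h1]
    exact hsub n hm
  · ext m
    rw [AddMonoidHom.mem_ker]
    change (QuotientAddGroup.mk (m : Completion M) : Completion M ⧸ _) = 0 ↔ _
    rw [QuotientAddGroup.eq_zero_iff]
    constructor
    · intro hm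
      have hm' : (m : Completion M) ∈ (I ^ n • ⊤ : Submodule R (Completion M)) := hm
      have h2 : (I ^ n • ⊤ : Submodule R (Completion M)) ≤ hatSubmodule (I ^ n • ⊤) := by
        have := smul_hatSubmodule_le (I ^ n) (⊤ : Submodule R M)
        rw [hatSubmodule_top] at this
        exact this
      have h3 := (mem_hatSubmodule_iff _).1 (h2 hm')
      have hopen' : IsOpen (((I ^ n • ⊤ : Submodule R M).toAddSubgroup : AddSubgroup M) : Set M) :=
        AddSubgroup.isOpen_mono (H₁ := (I ^ n • M' : Submodule R M).toAddSubgroup)
          (H₂ := (I ^ n • ⊤ : Submodule R M).toAddSubgroup)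
          (Submodule.smul_mono le_rfl le_top) (hopen n)
      exact (coe_mem_hatSubgroup_iff (AddSubgroup.isClosed_of_isOpen _ hopen')).1 h3
    · intro hm
      have hm' : m ∈ (I ^ n • ⊤ : Submodule R M) := hm
      have h4 : (m : Completion M) ∈ (I ^ n • ⊤ : Submodule R M).map (coeLin (R := R)) :=
        ⟨m, hm', rfl⟩
      rw [Submodule.map_smul''] at h4
      exact Submodule.smul_mono le_rfl le_top h4

end Groth.Agent.S10173
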