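import Groth.Statements.S10181
import Mathlib

set_option autoImplicit false
universe u
open CategoryTheory CategoryTheory.Limits AlgebraicGeometry Topology TopologicalSpace
open AlgSp

namespace Groth.Agent.S10181


open CategoryTheory.Limits Opposite MorphismProperty

variable {S : Scheme.{u}}

/-- a representable map from a scheme separated over `S` to a sheaf is separated. -/
lemma repWith_isSeparated_of_separated {F : AlgSp.Sp S} {U : Over S}
    (a : (AlgSp.yon S).obj U ⟶ F) (ha : AlgSp.Representable a) [IsSeparated U.hom] :
    AlgSp.RepWith @IsSeparated a := by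
  refine ⟨ha, fun T V g pr' w sq => ?_⟩
  obtain ⟨pr, rfl⟩ := (AlgSp.yon S).map_surjective pr'
  change IsSeparated w.left
  haveI : Mono (prod.lift w pr) := by
    constructor
    intro Z x x' hxx
    apply (AlgSp.yon S).map_injective
    apply sq.hom_ext
    · rw [← Functor.map_comp, ← Functor.map_comp]
      congr 1
      have := congrArg (fun m => m ≫ prod.snd) hxx
      simpa only [Category.assoc, prod.lift_snd] using this
    · rw [← Functor.map_comp, ← Functor.map_comp]
      congr 1
      have := congrArg (fun m => m ≫ prod.fst) hxx
      simpa only [Category.assoc, prod.lift_fst] using this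
  haveI : Mono (prod.lift w pr).left := inferInstance
  have h1 : IsSeparated (prod.fst : T ⨯ U ⟶ T).left := by
    rw [← Over.prodLeftIsoPullback_hom_fst]
    infer_instance
  have h2 : w.left = (prod.lift w pr).left ≫ (prod.fst : T ⨯ U ⟶ T).left := by
    rw [← Over.comp_left, prod.lift_fst]
  rw [h2]
  infer_instance



/-- Let X be an algebraic space over a scheme S and a : h_U ⟶ X a representable etale map from a scheme
U over S whose underlying scheme is separated. Then a is (representable and) separated, and the
scheme R = U ×_X U representing the fibre product h_U ×_X h_U is separated. -/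
theorem result {S : Scheme.{u}} (X : AlgSp.Space S) {U : Over S}
    (a : (AlgSp.yon S).obj U ⟶ X.obj) (ha : AlgSp.RepWith @Etale a) [U.left.IsSeparated] :
    AlgSp.RepWith @IsSeparated a ∧
      ∀ (R : Over S) (s t : R ⟶ U), IsPullback ((AlgSp.yon S).map t) ((AlgSp.yon S).map s) a a →
        R.left.IsSeparated := by
  haveI : IsSeparated U.hom := inferInstance
  have h1 := repWith_isSeparated_of_separated a ha.1
  refine ⟨h1, fun R s t hR => ?_⟩
  haveI : IsSeparated s.left := h1.2 a _ s hR
  refine ⟨?_⟩
  rw [← terminal.comp_from s.left]
  infer_instance

end Groth.Agent.S10181
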