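import Groth.Statements.S10183
import Mathlib
import Groth.Agent.S10176
import Groth.Agent.S10265

set_option autoImplicit false
universe u
open CategoryTheory CategoryTheory.Limits AlgebraicGeometry Topology TopologicalSpace
open AlgSp

namespace Groth.Agent.S10183


variable {S : Scheme.{u}}



/-- Let X be an algebraic space over a scheme S, a : h_U ⟶ X a representable etale map from a scheme U
over S, and R a scheme over S with h_R = h_U ×_X h_U whose two projections s, t : R ⟶ U are
quasi-compact (for instance if a is quasi-compact). Then the maps |U| → |X| and |R| → |X| have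
finite fibres. -/
theorem result {S : Scheme.{u}} (X : AlgSp.Space S) {R U : Over S}
    (a : (AlgSp.yon S).obj U ⟶ X.obj) (ha : AlgSp.RepWith @Etale a) (s t : R ⟶ U)
    (hR : IsPullback ((AlgSp.yon S).map t) ((AlgSp.yon S).map s) a a)
    [QuasiCompact s.left] [QuasiCompact t.left] (x : AlgSp.Points X.obj) :
    (AlgSp.Points.ofPt a ⁻¹' {x}).Finite ∧
      (AlgSp.Points.ofPt ((AlgSp.yon S).map t ≫ a) ⁻¹' {x}).Finite := by
  haveI : Etale s.left := ha.2 _ _ _ hR
  haveI : Etale t.left := ha.2 _ _ _ hR.flip
  haveI : LocallyQuasiFinite s.left := Groth.Agent.S10265.locallyQuasiFinite_of_unramified s.left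
  haveI : LocallyQuasiFinite t.left := Groth.Agent.S10265.locallyQuasiFinite_of_unramified t.left
  have h1 : (AlgSp.Points.ofPt a ⁻¹' {x}).Finite := by
    by_cases hne : ∃ u0, AlgSp.Points.ofPt a u0 = x
    · obtain ⟨u0, hu0⟩ := hne
      refine ((s.left.finite_preimage_singleton u0).image t.left).subset ?_
      intro u hu
      have hu' : AlgSp.Points.ofPt a u = x := hu
      obtain ⟨r, hr1, hr2⟩ := Groth.Agent.S10176.exists_point_of_isPullback_yon hR u u0
        (hu'.trans hu0.symm)
      exact ⟨r, hr2, hr1⟩
    · have : AlgSp.Points.ofPt a ⁻¹' {x} = ∅ := by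
        ext u
        simp only [Set.mem_preimage, Set.mem_singleton_iff, Set.mem_empty_iff_false, iff_false]
        exact fun hu => hne ⟨u, hu⟩
      rw [this]
      exact Set.finite_empty
  refine ⟨h1, ?_⟩
  refine (t.left.finite_preimage h1).subset ?_
  intro r hr
  have hr' : AlgSp.Points.ofPt ((AlgSp.yon S).map t ≫ a) r = x := hr
  rw [Groth.Agent.S10176.ofPt_map_comp] at hr'
  exact hr'

end Groth.Agent.S10183
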