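import Groth.Statements.S10184
import Mathlib
import Groth.Agent.Lib.Helper12DiagAff

set_option autoImplicit false
universe u
open CategoryTheory CategoryTheory.Limits AlgebraicGeometry Topology TopologicalSpace
open AlgSp

namespace Groth.Agent.S10184


open Groth.Agent.Lib.Helper12.AbsProd Groth.Agent.Lib.Helper12.DiagAff
variable {S : Scheme.{u}}



/-- Let X be an algebraic space over a scheme S such that for all affine schemes U, V over S mapping to
X, every scheme P over S representing h_U ×_X h_V is quasi-compact. Then X is quasi-separated over
S. (The published statement is about absolute quasi-separatedness, over the integers, which this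
hypothesis also gives and which implies quasi-separatedness over S.) -/
theorem result {S : Scheme.{u}} (X : AlgSp.Space S)
    (h : ∀ (U V P : Over S) (a : (AlgSp.yon S).obj U ⟶ X.obj) (b : (AlgSp.yon S).obj V ⟶ X.obj)
      (fst : P ⟶ U) (snd : P ⟶ V),
      IsAffine U.left → IsAffine V.left →
      IsPullback ((AlgSp.yon S).map fst) ((AlgSp.yon S).map snd) a b → CompactSpace ↥P.left) :
    AlgSp.IsQuasiSeparatedSp X.obj := by
  refine repWith_diag_of_affine @QuasiCompact X.property.diag
    (fun U V E a b eU eV hU hV sq => ?_)
  haveI := hU
  haveI := hV
  exact quasiCompact_prod_lift eU eV (h U V E a b eU eV hU hV sq)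

end Groth.Agent.S10184
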