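import Groth.Statements.S10186
import Mathlib
import Groth.Agent.Lib.Helper12DiagAff

set_option autoImplicit false
universe u
open CategoryTheory CategoryTheory.Limits AlgebraicGeometry Topology TopologicalSpace
open AlgSp

namespace Groth.Agent.S10186


open Groth.Agent.Lib.Helper12.AbsProd Groth.Agent.Lib.Helper12.DiagAff
variable {S : Scheme.{u}}



/-- Let X be an algebraic space over a scheme S such that for all affine schemes U, V over S mapping to
X and every scheme P over S representing h_U ×_X h_V, the scheme P is affine and the ring map from
the tensor product over the integers of the global sections of U and V to the global sections of P,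
induced by the two projections, is surjective. Then X is separated over S. (The published statement
concerns absolute separatedness, over the integers, which this hypothesis also gives and which
implies separatedness over S.) -/
theorem result {S : Scheme.{u}} (X : AlgSp.Space S)
    (h : ∀ (U V P : Over S) (a : (AlgSp.yon S).obj U ⟶ X.obj) (b : (AlgSp.yon S).obj V ⟶ X.obj)
      (fst : P ⟶ U) (snd : P ⟶ V),
      IsAffine U.left → IsAffine V.left →
      IsPullback ((AlgSp.yon S).map fst) ((AlgSp.yon S).map snd) a b →
        IsAffine P.left ∧ Function.Surjective
          (Algebra.TensorProduct.productMap fst.left.appTop.hom.toIntAlgHom snd.left.appTop.hom.toIntAlgHom)) :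
    AlgSp.IsSeparatedSp X.obj := by
  refine repWith_diag_of_affine @IsClosedImmersion X.property.diag
    (fun U V E a b eU eV hU hV sq => ?_)
  haveI := hU
  haveI := hV
  obtain ⟨h1, h2⟩ := h U V E a b eU eV hU hV sq
  exact isClosedImmersion_prod_lift eU eV h1 h2

end Groth.Agent.S10186
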