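import Groth.Statements.S10187
import Mathlib
import Groth.Agent.Lib.Helper12DiagAff

set_option autoImplicit false
universe u
open CategoryTheory CategoryTheory.Limits AlgebraicGeometry Topology TopologicalSpace
open AlgSp

namespace Groth.Agent.S10187


open Groth.Agent.Lib.Helper12.AbsProd Groth.Agent.Lib.Helper12.DiagAff
variable {S : Scheme.{u}}

/-- over a separated base the comparison of the relative product with the absolute product is a
closed immersion. -/
lemma isClosedImmersion_lift_of_isSeparated {U V B T : Scheme.{u}} (p : U ⟶ B) (q : V ⟶ B)
    (i : B ⟶ T) [IsSeparated i] (tU : U ⟶ T) (tV : V ⟶ T) (hU : tU = p ≫ i) (hV : tV = q ≫ i)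
    (w : pullback.fst p q ≫ tU = pullback.snd p q ≫ tV) :
    IsClosedImmersion (pullback.lift (pullback.fst p q) (pullback.snd p q) w) := by
  subst hU hV
  have h := pullback_map_diagonal_isPullback p q i
  have e : pullback.lift (pullback.fst p q) (pullback.snd p q) w =
      pullback.map p q (p ≫ i) (q ≫ i) (𝟙 _) (𝟙 _) i (Category.comp_id _).symm
        (Category.comp_id _).symm := by
    apply pullback.hom_ext
    · rw [pullback.lift_fst, pullback.lift_fst, Category.comp_id]
    · rw [pullback.lift_snd, pullback.lift_snd, Category.comp_id]
  rw [e]
  exact MorphismProperty.of_isPullback (P := @IsClosedImmersion) h inferInstance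

instance isClosedImmersion_prodToAbs [S.IsSeparated] (U V : Over S) :
    IsClosedImmersion (prodToAbs U V) := by
  have h : prodToAbs U V = (Over.prodLeftIsoPullback U V).hom ≫
      absLift (pullback.fst U.hom V.hom) (pullback.snd U.hom V.hom) := by
    rw [comp_absLift]
    unfold prodToAbs
    congr 1
    · exact (Over.prodLeftIsoPullback_hom_fst U V).symm
    · exact (Over.prodLeftIsoPullback_hom_snd U V).symm
  rw [h]
  haveI : IsClosedImmersion (absLift (pullback.fst U.hom V.hom) (pullback.snd U.hom V.hom)) :=
    isClosedImmersion_lift_of_isSeparated U.hom V.hom (terminal.from S) _ _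
      (terminal.hom_ext _ _) (terminal.hom_ext _ _) _
  infer_instance



/-- Let S be a separated scheme and X an algebraic space over S whose diagonal over S is a closed
immersion. Then for all affine schemes U, V over S mapping to X and every scheme P over S
representing h_U ×_X h_V, the scheme P is affine and the ring map from the tensor product over the
integers of the global sections of U and V to the global sections of P, induced by the projections,
is surjective. (The published statement uses absolute separatedness of X; over a separated base this
agrees with separatedness over S, and without a hypothesis on S the relative notion does not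
suffice: take X = h_S for an affine line with doubled origin S and U, V the two copies of the line.) -/
theorem result {S : Scheme.{u}} [S.IsSeparated]
    (X : AlgSp.Space S) (hX : AlgSp.IsSeparatedSp X.obj) (U V P : Over S) (a : (AlgSp.yon S).obj U ⟶ X.obj) (b : (AlgSp.yon S).obj V ⟶ X.obj)
      (fst : P ⟶ U) (snd : P ⟶ V)
    (hU : IsAffine U.left) (hV : IsAffine V.left)
    (h : IsPullback ((AlgSp.yon S).map fst) ((AlgSp.yon S).map snd) a b) :
    IsAffine P.left ∧ Function.Surjective
          (Algebra.TensorProduct.productMap fst.left.appTop.hom.toIntAlgHom snd.left.appTop.hom.toIntAlgHom) := by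
  haveI := hU
  haveI := hV
  haveI hci : IsClosedImmersion (prod.lift fst snd).left :=
    Groth.Agent.S9920.property_of_repWith_diag hX h
  have h3 : IsClosedImmersion (absLift fst.left snd.left) := by
    rw [← prod_lift_left_prodToAbs]
    infer_instance
  exact (isClosedImmersion_absLift_iff _ _).1 h3

end Groth.Agent.S10187
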