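import Groth.Statements.S10188
import Mathlib

set_option autoImplicit false
universe u
open CategoryTheory CategoryTheory.Limits AlgebraicGeometry Topology TopologicalSpace
open AlgSp

namespace Groth.Agent.S10188





/-- Let P be a property of schemes that is local in the etale topology (for every scheme V and every
etale covering family of V, V has P if and only if all members have P), and let X be an algebraic
space over a scheme S. Then X has P etale locally (some surjective etale chart from a scheme with P)
if and only if every scheme admitting a representable etale map to X has P. -/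
theorem result {S : Scheme.{u}} (P : Scheme.{u} → Prop)
    (hP : ∀ (V : Scheme.{u}) (𝒰 : Scheme.Cover.{u} (Scheme.precoverage @Etale) V), P V ↔ ∀ i, P (𝒰.X i))
    (X : AlgSp.Space S) :
    AlgSp.EtaleLocally P X.obj ↔
      ∀ (U : Over S) (a : (AlgSp.yon S).obj U ⟶ X.obj), AlgSp.RepWith @Etale a → P U.left := by
  constructor
  · rintro ⟨U0, p, hpe, hps, hPU0⟩ U a ha
    obtain ⟨W, w1, w2', sq⟩ := hpe.1 a
    obtain ⟨w2, rfl⟩ := (AlgSp.yon S).map_surjective w2'
    haveI : Etale w1.left := hpe.2 _ _ _ sq
    haveI : Surjective w1.left := hps.2 _ _ _ sq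
    haveI : Etale w2.left := ha.2 _ _ _ sq.flip
    let 𝒰0 : Scheme.Cover.{u} (Scheme.precoverage @Etale) U0.left :=
      (Scheme.coverOfIsIso.{u, u} (P := @Etale) (𝟙 U0.left)).add w2.left
    have hPW : P W.left := (hP U0.left 𝒰0).1 hPU0 none
    let 𝒰1 : Scheme.Cover.{u} (Scheme.precoverage @Etale) U.left :=
      Scheme.Cover.mkOfCovers PUnit.{u + 1} (fun _ => W.left) (fun _ => w1.left)
        (fun x => ⟨⟨⟩, w1.left.surjective x⟩) (fun _ => inferInstance)
    exact (hP U.left 𝒰1).2 (fun _ => hPW)
  · intro h
    obtain ⟨U, p, hpe, hps⟩ := X.property.atlas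
    exact ⟨U, p, hpe, hps, h U p hpe⟩

end Groth.Agent.S10188
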