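import Groth.Statements.S10190
import Mathlib
import Groth.Agent.S10176
import Groth.Agent.S10177

set_option autoImplicit false
universe u
open CategoryTheory CategoryTheory.Limits AlgebraicGeometry Topology TopologicalSpace
open AlgSp

namespace Groth.Agent.S10190





/-- For an algebraic space X over a scheme S, the set of codimension 0 points of X (points x of |X| such
that, for some representable etale h_U ⟶ X from a scheme U and some point u of U mapping to x, the
local ring of U at u has dimension 0) is dense in |X|. -/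
theorem result {S : Scheme.{u}} (X : AlgSp.Space S) :
    Dense {x : AlgSp.Points X.obj |
      AlgSp.HasAt (fun U u => ringKrullDim ↥(U.presheaf.stalk u) = 0) X.obj x} := by
  obtain ⟨A, a, hae, has⟩ := X.property.atlas
  rw [dense_iff_inter_open]
  rintro O hO ⟨x₀, hx₀⟩
  obtain ⟨u₀, rfl⟩ := Groth.Agent.S10177.surjective_ofPt a has x₀
  have hO' : IsOpen (AlgSp.Points.ofPt a ⁻¹' O) := hO.preimage (AlgSp.Points.continuous_ofPt a)
  obtain ⟨W, hW, hu₀W, hWO⟩ : ∃ W : A.left.Opens, W ∈ A.left.affineOpens ∧ u₀ ∈ W ∧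
      W ≤ (⟨_, hO'⟩ : A.left.Opens) :=
    TopologicalSpace.Opens.isBasis_iff_nbhd.1 A.left.isBasis_affineOpens
      (show u₀ ∈ (⟨_, hO'⟩ : A.left.Opens) from hx₀)
  have hW' : IsAffineOpen W := hW
  haveI : Nontrivial Γ(A.left, W) := @Scheme.component_nontrivial A.left W ⟨⟨u₀, hu₀W⟩⟩
  obtain ⟨M, hM⟩ := Ideal.exists_maximal Γ(A.left, W)
  haveI := hM.isPrime
  obtain ⟨𝔭, h𝔭, -⟩ := Ideal.exists_minimalPrimes_le (bot_le : (⊥ : Ideal Γ(A.left, W)) ≤ M)
  haveI : 𝔭.IsPrime := h𝔭.1.1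
  let y : PrimeSpectrum Γ(A.left, W) := ⟨𝔭, h𝔭.1.1⟩
  have hy : hW'.fromSpec y ∈ W := by
    have h : hW'.fromSpec y ∈ Set.range hW'.fromSpec := ⟨y, rfl⟩
    rw [hW'.range_fromSpec] at h
    exact h
  have hloc := hW'.isLocalization_stalk' y hy
  letI := TopCat.Presheaf.algebra_section_stalk A.left.presheaf ⟨hW'.fromSpec y, hy⟩
  have hdim : ringKrullDim ↥(A.left.presheaf.stalk (hW'.fromSpec y)) = 0 := by
    have h1 := @IsLocalization.AtPrime.ringKrullDim_eq_height _ _ 𝔭 _
      ↥(A.left.presheaf.stalk (hW'.fromSpec y)) _ _ hloc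
    rw [h1, Ideal.height_eq_zero_iff.2 h𝔭]
    rfl
  exact ⟨AlgSp.Points.ofPt a (hW'.fromSpec y), hWO hy, A, a, _, hae, rfl, hdim⟩

end Groth.Agent.S10190
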