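import Groth.Statements.S10191
import Mathlib
import Groth.Agent.S9922
import Groth.Agent.S9908
import Groth.Agent.S10301
import Groth.Agent.S10177

set_option autoImplicit false
universe u
open CategoryTheory CategoryTheory.Limits AlgebraicGeometry Topology TopologicalSpace
open AlgSp

namespace Groth.Agent.S10191





/-- Let i : Z ⟶ X be an immersion of algebraic spaces over a scheme S (a morphism representable by
immersions of schemes). Then |i| : |Z| → |X| is a homeomorphism onto its image, and this image is a
locally closed subset of |X|. -/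
theorem result {S : Scheme.{u}} {Z X : AlgSp.Space S} (i : Z ⟶ X)
    (hi : AlgSp.RepWith @IsImmersion i.hom) :
    IsEmbedding (AlgSp.Points.map i.hom) ∧ IsLocallyClosed (Set.range (AlgSp.Points.map i.hom)) := by
  obtain ⟨U, p, hpe, hps⟩ := X.property.atlas
  obtain ⟨W, w, pr, sq⟩ := hi.1 p
  haveI : IsImmersion w.left := hi.2 p pr w sq
  have hpre : AlgSp.RepWith @Etale pr :=
    MorphismProperty.of_isPullback (P := AlgSp.RepWith @Etale) sq.flip hpe
  have hprs : AlgSp.RepWith @Surjective pr :=
    MorphismProperty.of_isPullback (P := AlgSp.RepWith @Surjective) sq.flip hps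
  have hinj : Function.Injective (AlgSp.Points.map i.hom) :=
    Groth.Agent.S10301.injective_map_of_repWith (P := @IsImmersion)
      (fun _ _ g hg => by haveI : IsImmersion g := hg; exact g.isEmbedding.injective) i.hom hi
  have hq := Groth.Agent.S10177.isQuotientMap_ofPt p hpe hps
  have hopen := Groth.Agent.S10176.isOpenMap_ofPt p hpe
  have hcomm : ∀ y : ↥W.left, AlgSp.Points.map i.hom (AlgSp.Points.ofPt pr y) =
      AlgSp.Points.ofPt p (w.left y) := by
    intro y
    rw [AlgSp.Points.map_ofPt, sq.w, Groth.Agent.S10176.ofPt_map_comp]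
  refine ⟨⟨⟨?_⟩, hinj⟩, ?_⟩
  · refine le_antisymm (continuous_iff_le_induced.1 (AlgSp.Points.continuous_map i.hom)) ?_
    intro A hA
    rw [isOpen_induced_iff]
    have hA' : IsOpen (AlgSp.Points.ofPt pr ⁻¹' A) := hA.preimage (AlgSp.Points.continuous_ofPt pr)
    obtain ⟨O, hO, hOA⟩ := w.left.isEmbedding.isInducing.isOpen_iff.1 hA'
    refine ⟨AlgSp.Points.ofPt p '' O, hopen O hO, ?_⟩
    ext z
    constructor
    · rintro ⟨u0, hu0, hz⟩
      obtain ⟨y, hy1, hy2⟩ := Groth.Agent.S10175.exists_point_of_isPullback sq.flip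
        (AlgSp.Points.ofScheme U u0) z (by rw [← AlgSp.Points.ofPt_eq_map_ofScheme]; exact hz)
      obtain ⟨y0, rfl⟩ := (AlgSp.Points.schemeHomeo W).surjective y
      have h1 : w.left y0 = u0 := by
        apply (AlgSp.Points.schemeHomeo U).injective
        rw [← AlgSp.Points.map_yon_map_apply]
        exact hy1
      have h2 : y0 ∈ AlgSp.Points.ofPt pr ⁻¹' A := by
        rw [← hOA]
        show w.left y0 ∈ O
        rw [h1]
        exact hu0
      have h3 : AlgSp.Points.ofPt pr y0 = z := by
        rw [AlgSp.Points.ofPt_eq_map_ofScheme]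
        exact hy2
      rw [← h3]
      exact h2
    · intro hz
      obtain ⟨y, rfl⟩ := Groth.Agent.S10177.surjective_ofPt pr hprs z
      have hy : y ∈ w.left ⁻¹' O := by rw [hOA]; exact hz
      exact ⟨w.left y, hy, (hcomm y).symm⟩
  · rw [isLocallyClosed_iff_isOpen_coborder, ← hq.isOpen_preimage,
      ← coborder_preimage hopen hq.continuous, ← isLocallyClosed_iff_isOpen_coborder]
    have h1 := Groth.Agent.S9908.preimage_ofPt_map_image sq Set.univ
    rw [Set.image_univ, Set.preimage_univ, Set.image_univ] at h1
    rw [h1]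
    exact w.left.isLocallyClosed_range

end Groth.Agent.S10191
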