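import Groth.Statements.S10193
import Mathlib
import Groth.Agent.S9927
import Groth.Agent.S9928
import Groth.Agent.S9908
import Groth.Agent.Lib.Helper12OpenSub2

set_option autoImplicit false
universe u
open CategoryTheory CategoryTheory.Limits AlgebraicGeometry Topology TopologicalSpace
open AlgSp

namespace Groth.Agent.S10193





/-- Let X, Y be algebraic spaces over a scheme S, i : Z ⟶ X a closed subspace (a morphism representable
by closed immersions) and assume Y is reduced. Then a morphism f : Y ⟶ X factors through Z if and
only if |f|(|Y|) is contained in |Z|. -/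
theorem result {S : Scheme.{u}} {X Y Z : AlgSp.Space S}
    (i : Z ⟶ X) (hi : AlgSp.RepWith @IsClosedImmersion i.hom) (hY : AlgSp.IsReducedSp Y.obj) (f : Y ⟶ X) :
    (∃ g : Y ⟶ Z, g ≫ i = f) ↔
      Set.range (AlgSp.Points.map f.hom) ⊆ Set.range (AlgSp.Points.map i.hom) := by
  constructor
  · rintro ⟨g, rfl⟩
    rintro _ ⟨y, rfl⟩
    exact ⟨AlgSp.Points.map g.hom y, by
      show _ = AlgSp.Points.map (g.hom ≫ i.hom) y
      rw [AlgSp.Points.map_comp]⟩
  · intro hsub
    have sqP := IsPullback.of_hasPullback f.hom i.hom
    have hfst : AlgSp.RepWith @IsClosedImmersion (pullback.fst f.hom i.hom) :=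
      MorphismProperty.of_isPullback (P := AlgSp.RepWith @IsClosedImmersion) sqP.flip hi
    haveI : Mono (pullback.fst f.hom i.hom) :=
      Groth.Agent.S9928.mono_of_repWith @IsClosedImmersion
        (fun X Y g hg => by haveI : IsClosedImmersion g := hg; infer_instance) _ hfst
    obtain ⟨V, p, hpe, hps, hV⟩ := hY
    haveI : IsReduced V.left := hV
    obtain ⟨W, w, pr, sq⟩ := hfst.1 p
    haveI : IsClosedImmersion w.left := hfst.2 p pr w sq
    have hrange : Set.range (AlgSp.Points.map (pullback.fst f.hom i.hom)) = Set.univ := by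
      rw [Groth.Agent.Lib.Helper12.OpenSub.range_map_fst_of_isPullback sqP, Set.eq_univ_iff_forall]
      intro y
      exact hsub ⟨y, rfl⟩
    haveI : Surjective w.left := by
      constructor
      have h1 := Groth.Agent.S9908.preimage_ofPt_map_image sq Set.univ
      rw [Set.image_univ, Set.preimage_univ, Set.image_univ, hrange, Set.preimage_univ] at h1
      rw [← Set.range_eq_univ]
      exact h1.symm
    haveI : IsIso w.left := isIso_of_isClosedImmersion_of_surjective w.left
    haveI : IsIso ((Over.forget S).map w) := (inferInstance : IsIso w.left)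
    haveI : IsIso w := isIso_of_reflects_iso w (Over.forget S)
    haveI : Epi p := Groth.Agent.S9927.epi_of_repWith p hpe hps
    have hfac : ((AlgSp.yon S).map (inv w) ≫ pr) ≫ pullback.fst f.hom i.hom = p := by
      rw [Category.assoc, sq.w, ← Functor.map_comp_assoc, IsIso.inv_hom_id,
        CategoryTheory.Functor.map_id, Category.id_comp]
    haveI : Epi (pullback.fst f.hom i.hom) := epi_of_epi_fac hfac
    haveI : IsIso (pullback.fst f.hom i.hom) := isIso_of_mono_of_epi _
    refine ⟨ObjectProperty.homMk (inv (pullback.fst f.hom i.hom) ≫ pullback.snd f.hom i.hom), ?_⟩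
    apply ObjectProperty.hom_ext
    show (inv (pullback.fst f.hom i.hom) ≫ pullback.snd f.hom i.hom) ≫ i.hom = f.hom
    rw [Category.assoc, ← pullback.condition, IsIso.inv_hom_id_assoc]

end Groth.Agent.S10193
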