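import Groth.Statements.S10196
import Mathlib
import Groth.Agent.Lib.Helper12OpenSub2
import Groth.Agent.S9872

set_option autoImplicit false
universe u
open CategoryTheory CategoryTheory.Limits AlgebraicGeometry Topology TopologicalSpace
open AlgSp

namespace Groth.Agent.S10196


lemma isPullback_of_comp_mono {C : Type*} [Category C] {P A B X' X : C} {fst : P ⟶ A} {snd : P ⟶ B}
    {f : A ⟶ X'} {g : B ⟶ X'} (i : X' ⟶ X) [Mono i] (sq : IsPullback fst snd (f ≫ i) (g ≫ i)) :
    IsPullback fst snd f g :=
  IsPullback.of_isLimit' ⟨by rw [← cancel_mono i, Category.assoc, Category.assoc]; exact sq.w⟩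
    (PullbackCone.IsLimit.mk _
      (fun s => sq.lift s.fst s.snd (by rw [← Category.assoc, s.condition, Category.assoc]))
      (fun s => sq.lift_fst _ _ _) (fun s => sq.lift_snd _ _ _)
      (fun s m h1 h2 => sq.hom_ext (by rw [h1, sq.lift_fst]) (by rw [h2, sq.lift_snd])))



/-- Let X be an algebraic space over a scheme S, a : h_U ⟶ X a representable etale map from a scheme U
over S, and X' ⟶ X the open subspace whose image in |X| is the (open) image of U. Then a factors
through a representable etale and surjective a' : h_U ⟶ X', and if R is a scheme over S with h_R =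
h_U ×_X h_U then also h_R = h_U ×_{X'} h_U and (U, R, a') is a presentation of X'. -/
theorem result {S : Scheme.{u}} {X X' : AlgSp.Space S} {U : Over S}
    (a : (AlgSp.yon S).obj U ⟶ X.obj) (ha : AlgSp.RepWith @Etale a)
    (j : X' ⟶ X) (hj : AlgSp.RepWith @IsOpenImmersion j.hom)
    (himage : Set.range (AlgSp.Points.map j.hom) = Set.range (AlgSp.Points.ofPt a)) :
    ∃ a' : (AlgSp.yon S).obj U ⟶ X'.obj, a' ≫ j.hom = a ∧ AlgSp.RepWith @Etale a' ∧ AlgSp.RepWith @Surjective a' ∧
      ∀ (R : Over S) (s t : R ⟶ U), IsPullback ((AlgSp.yon S).map t) ((AlgSp.yon S).map s) a a →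
        AlgSp.IsPresentation s t a' := by
  haveI : Mono j.hom := Groth.Agent.Lib.Helper12.LargestOpen.mono_of_open j.hom hj
  have hsub : Set.range (AlgSp.Points.map a) ⊆ Set.range (AlgSp.Points.map j.hom) := by
    rintro _ ⟨y, rfl⟩
    obtain ⟨u, rfl⟩ := (AlgSp.Points.schemeHomeo U).surjective y
    rw [himage]
    refine ⟨u, ?_⟩
    rw [AlgSp.Points.ofPt_eq_map_ofScheme a]
    rfl
  obtain ⟨a', ha'⟩ := (Groth.Agent.S10194.exists_factor_iff j.hom hj a).2 hsub
  have sqa : IsPullback (𝟙 _) a' a j.hom := by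
    have := Groth.Agent.Lib.Helper12.LargestOpen.isPullback_id_of_mono a' j.hom
    rw [ha'] at this
    exact this
  have hae : AlgSp.RepWith @Etale a' :=
    MorphismProperty.of_isPullback (P := AlgSp.RepWith @Etale) sqa ha
  have hinj : Function.Injective (AlgSp.Points.map j.hom) :=
    Groth.Agent.Lib.Helper12.LargestOpen.injective_map_of_open j.hom hj
  have hsurj : Function.Surjective (AlgSp.Points.map a') := by
    intro x'
    have h1 : AlgSp.Points.map j.hom x' ∈ Set.range (AlgSp.Points.ofPt a) := by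
      rw [← himage]; exact ⟨x', rfl⟩
    obtain ⟨u, hu⟩ := h1
    refine ⟨AlgSp.Points.ofPt (𝟙 _) u, hinj ?_⟩
    rw [← AlgSp.Points.map_comp, ha', AlgSp.Points.map_ofPt, Category.id_comp, hu]
  have has : AlgSp.RepWith @Surjective a' :=
    Groth.Agent.S9906.repWith_surjective_of_surjective_map a' hae.1 hsurj
  refine ⟨a', ha', hae, has, ?_⟩
  intro R s t sq
  have sq' : IsPullback ((AlgSp.yon S).map t) ((AlgSp.yon S).map s) a' a' := by
    apply isPullback_of_comp_mono j.hom
    rw [ha']
    exact sq
  exact ⟨(Groth.Agent.S9872.result S X'.obj X'.property a' hae has s t sq').1, hae, has, sq'⟩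

end Groth.Agent.S10196
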