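import Groth.Statements.S10197
import Mathlib
import Groth.Agent.Lib.Helper12ZarGlue2
import Groth.Agent.Lib.Helper12OpenSub2
import Groth.Agent.Lib.Helper12LargestOpen

set_option autoImplicit false
universe u
open CategoryTheory CategoryTheory.Limits AlgebraicGeometry Topology TopologicalSpace
open AlgSp

namespace Groth.Agent.S10197


open Groth.Agent.Lib.Helper12 TopologicalSpace in
lemma aux {S : Scheme.{u}} (X : AlgSp.Space S) :
    ∃ W : Opens (AlgSp.Points X.obj),
      (OpenSub.obj X.obj (W : Set (AlgSp.Points X.obj))).obj.IsRepresentable ∧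
      ∀ V : Opens (AlgSp.Points X.obj),
        (OpenSub.obj X.obj (V : Set (AlgSp.Points X.obj))).obj.IsRepresentable → V ≤ W := by
  set W : Opens (AlgSp.Points X.obj) := sSup {V : Opens (AlgSp.Points X.obj) |
    (OpenSub.obj X.obj (V : Set (AlgSp.Points X.obj))).obj.IsRepresentable} with hWdef
  refine ⟨W, ?_, fun V hV => le_sSup hV⟩
  obtain ⟨U, p, hpe, hps⟩ := X.property.atlas
  let ι : Type u := {u : ↥U.left // AlgSp.Points.ofPt p u ∈ W}
  have hch : ∀ i : ι, ∃ V : Opens (AlgSp.Points X.obj),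
      (OpenSub.obj X.obj (V : Set (AlgSp.Points X.obj))).obj.IsRepresentable ∧
        AlgSp.Points.ofPt p i.1 ∈ V := by
    intro i
    obtain ⟨V, hV, hiV⟩ := Opens.mem_sSup.1 i.2
    exact ⟨V, hV, hiV⟩
  choose V hVrep hiV using hch
  have hrep : ∀ i, ∃ (Xs : Over S),
      Nonempty ((AlgSp.yon S).obj Xs ≅ OpenSub.obj X.obj (V i : Set (AlgSp.Points X.obj))) := by
    intro i
    obtain ⟨Xs, ⟨e⟩⟩ := (hVrep i).has_representation
    exact ⟨Xs, ⟨AlgSp.isoOfRepresentableBy e⟩⟩
  choose Xs he using hrep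
  let e : ∀ i, (AlgSp.yon S).obj (Xs i) ≅ OpenSub.obj X.obj (V i : Set (AlgSp.Points X.obj)) :=
    fun i => (he i).some
  let j := OpenSub.incl X.obj (W : Set (AlgSp.Points X.obj))
  have hj : AlgSp.RepWith @IsOpenImmersion j := OpenSub.repWith_incl W.2
  have hrj : Set.range (AlgSp.Points.map j) = (W : Set (AlgSp.Points X.obj)) :=
    OpenSub.range_map_incl _
  let jA : ∀ i, OpenSub.obj X.obj (V i : Set (AlgSp.Points X.obj)) ⟶ X.obj :=
    fun i => OpenSub.incl X.obj (V i : Set (AlgSp.Points X.obj))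
  have hjA : ∀ i, AlgSp.RepWith @IsOpenImmersion (jA i) := fun i => OpenSub.repWith_incl (V i).2
  have hrA : ∀ i, Set.range (AlgSp.Points.map (jA i)) = (V i : Set (AlgSp.Points X.obj)) :=
    fun i => OpenSub.range_map_incl _
  have hsub : ∀ i, Set.range (AlgSp.Points.map (jA i)) ⊆ Set.range (AlgSp.Points.map j) := by
    intro i
    rw [hrA, hrj]
    exact fun x hx => Opens.mem_sSup.2 ⟨V i, hVrep i, hx⟩
  have hk : ∀ i, ∃ k : OpenSub.obj X.obj (V i : Set (AlgSp.Points X.obj)) ⟶
      OpenSub.obj X.obj (W : Set (AlgSp.Points X.obj)),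
      k ≫ j = jA i ∧ AlgSp.RepWith @IsOpenImmersion k :=
    fun i => LargestOpen.factor_open j hj (jA i) (hjA i) (hsub i)
  choose k hkj hko using hk
  have hinj : Function.Injective (AlgSp.Points.map j) := LargestOpen.injective_map_of_open _ hj
  let f : ∀ i, (AlgSp.yon S).obj (Xs i) ⟶ OpenSub.obj X.obj (W : Set (AlgSp.Points X.obj)) :=
    fun i => (e i).hom ≫ k i
  have hf : ∀ i, AlgSp.RepWith @IsOpenImmersion (f i) := fun i =>
    (MorphismProperty.cancel_left_of_respectsIso (AlgSp.RepWith @IsOpenImmersion)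
      (e i).hom (k i)).2 (hko i)
  have hs : ZarGlue.JointlySurjective hf := by
    intro T g t
    have hx : AlgSp.Points.map j (AlgSp.Points.ofPt g t) ∈ W := by
      have h1 : AlgSp.Points.map j (AlgSp.Points.ofPt g t) ∈
        Set.range (AlgSp.Points.map j) := ⟨_, rfl⟩
      rw [hrj] at h1
      exact h1
    obtain ⟨u, hu⟩ := Groth.Agent.S10177.surjective_ofPt p hps
      (AlgSp.Points.map j (AlgSp.Points.ofPt g t))
    let i : ι := ⟨u, by rw [hu]; exact hx⟩
    refine ⟨i, ZarGlue.mem_range_of_mem_range_map (f i) g _ _ ((hf i).rep.isPullback g) t ?_⟩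
    have h1 : AlgSp.Points.map j (AlgSp.Points.ofPt g t) ∈
        Set.range (AlgSp.Points.map (jA i)) := by
      rw [hrA, ← hu]; exact hiV i
    obtain ⟨a, ha⟩ := h1
    refine ⟨AlgSp.Points.map (e i).inv a, hinj ?_⟩
    have hfi : (e i).inv ≫ f i ≫ j = jA i := by
      show (e i).inv ≫ ((e i).hom ≫ k i) ≫ j = jA i
      rw [Category.assoc, Iso.inv_hom_id_assoc, hkj i]
    rw [← AlgSp.Points.map_comp, ← AlgSp.Points.map_comp, hfi, ha]
  obtain ⟨W₀, e₀, -, -, -⟩ := ZarGlue.exists_iso hf hs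
  exact ⟨W₀, ⟨AlgSp.representableByOfIso e₀⟩⟩



/-- An algebraic space X over a scheme S has a largest open subspace which is a scheme: there is an open
subspace X' ⟶ X whose underlying sheaf is representable by a scheme over S, through which every open
subspace of X with representable underlying sheaf factors. -/
theorem result {S : Scheme.{u}} (X : AlgSp.Space S) :
    ∃ (X' : AlgSp.Space S) (j : X' ⟶ X), AlgSp.RepWith @IsOpenImmersion j.hom ∧ X'.obj.obj.IsRepresentable ∧
      ∀ (X'' : AlgSp.Space S) (j'' : X'' ⟶ X), AlgSp.RepWith @IsOpenImmersion j''.hom →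
        X''.obj.obj.IsRepresentable → ∃ k : X'' ⟶ X', k ≫ j = j'' := by
  obtain ⟨W, hWrep, hWmax⟩ := aux X
  refine ⟨⟨_, Groth.Agent.Lib.Helper12.OpenSub.isAlgSpace_obj X.property W.2⟩,
    ObjectProperty.homMk (Groth.Agent.Lib.Helper12.OpenSub.incl X.obj _),
    Groth.Agent.Lib.Helper12.OpenSub.repWith_incl W.2, hWrep, ?_⟩
  intro X'' j'' hj'' hrep''
  have hopen := Groth.Agent.Lib.Helper12.OpenSub.isOpen_range_of_open j''.hom hj''
  obtain ⟨e, he⟩ := Groth.Agent.Lib.Helper12.OpenSub.iso_of_range_eq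
    (Groth.Agent.Lib.Helper12.OpenSub.incl X.obj (Set.range (AlgSp.Points.map j''.hom)))
    (Groth.Agent.Lib.Helper12.OpenSub.repWith_incl hopen) j''.hom hj''
    (Groth.Agent.Lib.Helper12.OpenSub.range_map_incl _)
  have hV : (Groth.Agent.Lib.Helper12.OpenSub.obj X.obj
      (Set.range (AlgSp.Points.map j''.hom))).obj.IsRepresentable := by
    obtain ⟨Xs, ⟨r⟩⟩ := hrep''.has_representation
    exact ⟨Xs, ⟨AlgSp.representableByOfIso (AlgSp.isoOfRepresentableBy r ≪≫ e.symm)⟩⟩
  have hle := hWmax ⟨_, hopen⟩ hV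
  obtain ⟨g, hg⟩ := (Groth.Agent.S10194.exists_factor_iff
    (Groth.Agent.Lib.Helper12.OpenSub.incl X.obj (W : Set (AlgSp.Points X.obj)))
    (Groth.Agent.Lib.Helper12.OpenSub.repWith_incl W.2) j''.hom).2 (by
      rw [Groth.Agent.Lib.Helper12.OpenSub.range_map_incl]
      exact hle)
  exact ⟨ObjectProperty.homMk g, by ext1; exact hg⟩

end Groth.Agent.S10197
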