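import Groth.Statements.S10203
import Mathlib
import Groth.Agent.S10176
import Groth.Agent.S10177
import Groth.Agent.S0116

set_option autoImplicit false
universe u
open CategoryTheory CategoryTheory.Limits AlgebraicGeometry Topology TopologicalSpace
open AlgSp

namespace Groth.Agent.S10203


open TopologicalSpace



/-- If X is a quasi-compact, locally Noetherian algebraic space over a scheme S, then |X| is a
Noetherian topological space. -/
theorem result {S : Scheme.{u}} (X : AlgSp.Space S)
    (hqc : AlgSp.IsQuasiCompactSp X.obj) (hX : AlgSp.IsLocNoethSp X.obj) :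
    NoetherianSpace (AlgSp.Points X.obj) := by
  obtain ⟨U1, p1, hp1e, hp1s, hU1⟩ := hqc
  obtain ⟨U2, p2, hp2e, hp2s, hU2⟩ := hX
  haveI : CompactSpace ↥U1.left := hU1
  haveI : IsLocallyNoetherian U2.left := hU2
  obtain ⟨W, w1, w2', sq⟩ := hp2e.1 p1
  obtain ⟨w2, rfl⟩ := (AlgSp.yon S).map_surjective w2'
  haveI : Etale w1.left := hp2e.2 _ _ _ sq
  haveI : Surjective w1.left := hp2s.2 _ _ _ sq
  haveI : Etale w2.left := hp1e.2 _ _ _ sq.flip
  haveI : IsLocallyNoetherian W.left := LocallyOfFiniteType.isLocallyNoetherian w2.left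
  haveI : IsLocallyNoetherian U1.left := Groth.Agent.S0116.result w1.left
  haveI : IsNoetherian U1.left := { }
  exact noetherianSpace_of_surjective (AlgSp.Points.ofPt p1) (AlgSp.Points.continuous_ofPt p1)
    (Groth.Agent.S10177.surjective_ofPt p1 hp1s)

end Groth.Agent.S10203
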