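import Groth.Statements.S10205
import Mathlib
import Groth.Agent.S10198
import Groth.Agent.S9927
import Groth.Agent.S10265
import Groth.Agent.Lib.Helper12PointQuot
import Groth.Agent.Lib.Helper12QSep

set_option autoImplicit false
universe u
open CategoryTheory CategoryTheory.Limits AlgebraicGeometry Topology TopologicalSpace
open AlgSp

namespace Groth.Agent.S10205





/-- Let X be an algebraic space over a scheme S, k a field with a structure morphism Spec k ⟶ S, and p :
h_{Spec k} ⟶ X a surjective etale map. If the diagonal of X over S is quasi-compact, then X ≅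
h_{Spec k'} for a field k' over S, where p corresponds to a finite etale morphism Spec k ⟶ Spec k'
over S (that is, k is a finite separable extension of k'). (The published statement assumes X
quasi-separated in the absolute sense; the argument only uses that Spec k ×_X Spec k is
quasi-compact, which already follows from quasi-compactness of the diagonal over S since Spec k ×_S
Spec k is affine.) -/
theorem result {S : Scheme.{u}} (X : AlgSp.Space S)
    (hX : AlgSp.IsQuasiSeparatedSp X.obj) (k : Type u) [Field k] (str : Spec (CommRingCat.of k) ⟶ S)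
    (p : (AlgSp.yon S).obj (Over.mk str) ⟶ X.obj) (hp : AlgSp.RepWith @Etale p) (hs : AlgSp.RepWith @Surjective p) :
    ∃ (k' : Type u) (_ : Field k') (str' : Spec (CommRingCat.of k') ⟶ S)
      (e : (AlgSp.yon S).obj (Over.mk str') ≅ X.obj) (c : Over.mk str ⟶ Over.mk str'),
      (AlgSp.yon S).map c ≫ e.hom = p ∧ IsFinite c.left ∧ Etale c.left := by
  let q : AlgSp.FieldPt X.obj := ⟨k, str, (AlgSp.J S).uliftYonedaEquiv p⟩
  have hq : q.toHom = p := Equiv.symm_apply_apply _ _
  obtain ⟨G, pr2, pr1', sq⟩ := hp.1 p
  obtain ⟨pr1, rfl⟩ := (AlgSp.yon S).map_surjective pr1'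
  haveI : Etale pr1.left := hp.2 _ _ pr1 sq.flip
  haveI : IsAffine (Over.mk str).left := (inferInstance : IsAffine (Spec (CommRingCat.of k)))
  -- the self-product of `Spec k` over `S` is compact
  obtain ⟨V, hV, hsV, -⟩ : ∃ V : S.Opens, V ∈ S.affineOpens ∧
      str (IsLocalRing.closedPoint k) ∈ V ∧ V ≤ ⊤ :=
    TopologicalSpace.Opens.isBasis_iff_nbhd.1 S.isBasis_affineOpens
      (TopologicalSpace.Opens.mem_top _)
  have hrange : Set.range (Over.mk str).hom ⊆ Set.range V.ι := by
    rw [V.range_ι]
    rintro _ ⟨x, rfl⟩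
    have hx : x = IsLocalRing.closedPoint k :=
      (inferInstance : Subsingleton (PrimeSpectrum k)).elim _ _
    rw [hx]
    exact hsV
  haveI : CompactSpace ↥(Over.mk str ⨯ Over.mk str).left :=
    Groth.Agent.S10198.compactSpace_prod_of_factor V hV
      (IsOpenImmersion.lift V.ι (Over.mk str).hom hrange) (IsOpenImmersion.lift_fac _ _ _)
  have sqD := Groth.Agent.Lib.Helper12.QSep.isPullback_diag p p pr1 pr2 sq
  haveI : QuasiCompact (prod.lift pr1 pr2).left := hX.2 _ _ _ sqD
  haveI : CompactSpace ↥G.left := QuasiCompact.compactSpace_of_compactSpace (prod.lift pr1 pr2).left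
  haveI : QuasiSeparatedSpace ↥q.pt.left :=
    (inferInstance : QuasiSeparatedSpace ↥(Spec (CommRingCat.of k)))
  haveI : IsLocallyArtinian q.pt.left :=
    (inferInstance : IsLocallyArtinian (Spec (CommRingCat.of k)))
  have hfin : IsFinite pr1.left := by
    haveI : LocallyQuasiFinite pr1.left := Groth.Agent.S10265.locallyQuasiFinite_of_unramified _
    haveI : QuasiCompact pr1.left := quasiCompact_of_compactSpace (Y := q.pt.left) _
    exact IsFinite.of_locallyQuasiFinite (Y := q.pt.left) pr1.left
  haveI := hfin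
  have sq' : IsPullback ((AlgSp.yon S).map pr1) ((AlgSp.yon S).map pr2) q.toHom q.toHom := by
    rw [hq]; exact sq
  obtain ⟨p₀, -, hmono, π, hπ, hπfin⟩ :=
    Groth.Agent.Lib.Helper12.PointQuot.exists_mono_fieldPt q pr1 pr2 sq'
  rw [hq] at hπ
  haveI := hmono
  haveI : Epi p := Groth.Agent.S9927.epi_of_repWith p hp hs
  haveI : Epi p₀.toHom := epi_of_epi_fac hπ
  haveI : IsIso p₀.toHom := isIso_of_mono_of_epi _
  refine ⟨p₀.K, inferInstance, p₀.str, asIso p₀.toHom, π, hπ, hπfin, ?_⟩
  have h1 : AlgSp.RepWith @Etale ((AlgSp.yon S).map π) := by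
    have h2 : (AlgSp.yon S).map π = p ≫ inv p₀.toHom := by
      rw [← hπ, Category.assoc, IsIso.hom_inv_id, Category.comp_id]
    rw [h2]
    exact MorphismProperty.comp_mem _ _ _ hp (MorphismProperty.of_isIso _ _)
  exact (AlgSp.repWith_yon_map_iff _ _).1 h1

end Groth.Agent.S10205
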