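import Groth.Statements.S10206
import Mathlib
import Groth.Agent.S10205
import Groth.Agent.Lib.Helper12OpenImage
import Groth.Agent.Lib.Helper12MonoField
import Groth.Agent.Lib.Helper12ZarGlue
import Groth.Agent.Lib.Helper12ZarGlue2

set_option autoImplicit false
universe u
open CategoryTheory CategoryTheory.Limits AlgebraicGeometry Topology TopologicalSpace
open AlgSp

namespace Groth.Agent.S10206


/-- the two projections of a fibre product of charts over a sheaf are jointly monic on the
underlying schemes. -/
lemma mono_pullback_lift {S : Scheme.{u}} {X : AlgSp.Sp S} {A B R : Over S}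
    {a : (AlgSp.yon S).obj A ⟶ X} {b : (AlgSp.yon S).obj B ⟶ X} {s : R ⟶ A} {t : R ⟶ B}
    (sq : IsPullback ((AlgSp.yon S).map s) ((AlgSp.yon S).map t) a b) {Z : Scheme.{u}}
    (cA : A.left ⟶ Z) (cB : B.left ⟶ Z) (h : s.left ≫ cA = t.left ≫ cB) :
    Mono (pullback.lift s.left t.left h) := by
  refine ⟨fun {T} g₁ g₂ hg => ?_⟩
  have h1 : g₁ ≫ s.left = g₂ ≫ s.left := by
    have := congrArg (fun m => m ≫ pullback.fst cA cB) hg
    simpa only [Category.assoc, pullback.lift_fst] using this
  have h2 : g₁ ≫ t.left = g₂ ≫ t.left := by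
    have := congrArg (fun m => m ≫ pullback.snd cA cB) hg
    simpa only [Category.assoc, pullback.lift_snd] using this
  have hw : g₂ ≫ R.hom = g₁ ≫ R.hom := by
    rw [← Over.w s, ← Category.assoc, ← h1, Category.assoc]
  let G₁ : Over.mk (g₁ ≫ R.hom) ⟶ R := Over.homMk g₁ rfl
  let G₂ : Over.mk (g₁ ≫ R.hom) ⟶ R := Over.homMk g₂ hw
  have e : (AlgSp.yon S).map G₁ = (AlgSp.yon S).map G₂ := by
    apply sq.hom_ext
    · rw [← Functor.map_comp, ← Functor.map_comp]
      congr 1
      exact Over.OverMorphism.ext h1
    · rw [← Functor.map_comp, ← Functor.map_comp]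
      congr 1
      exact Over.OverMorphism.ext h2
  exact congrArg (fun m => m.left) ((AlgSp.yon S).map_injective e)



/-- Let X be an algebraic space over a scheme S and X ⟶ h_{Spec k} an etale morphism of algebraic spaces
over S, where k is a field and Spec k is given a structure morphism to S. Then X is a scheme (its
underlying sheaf is representable by a scheme over S). -/
theorem result {S : Scheme.{u}} (X : AlgSp.Space S)
    (k : Type u) [Field k] (str : Spec (CommRingCat.of k) ⟶ S)
    (f : X.obj ⟶ (AlgSp.yon S).obj (Over.mk str)) (hf : AlgSp.IsEtaleMor f) :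
    X.obj.obj.IsRepresentable := by
  obtain ⟨U, a, hae, has⟩ := X.property.atlas
  obtain ⟨c₀, hc₀⟩ := (AlgSp.yon S).map_surjective (a ≫ f)
  have hc₀e : Etale c₀.left := (AlgSp.repWith_yon_map_iff _ _).1 (by rw [hc₀]; exact hf a hae)
  haveI := hc₀e
  let q : U.left → AlgSp.FieldPt X.obj := fun u => AlgSp.FieldPt.ofPt a u
  let ιu : ∀ u : U.left, (q u).pt ⟶ U := fun u => Over.homMk (U.left.fromSpecResidueField u) rfl
  have hq : ∀ u : U.left, (q u).toHom = (AlgSp.yon S).map (ιu u) ≫ a := fun u =>
    AlgSp.FieldPt.toHom_ofPt a u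
  have hιe : ∀ u : U.left, Etale (ιu u).left := fun u => by
    haveI : Mono (ιu u).left := (inferInstance : Mono (U.left.fromSpecResidueField u))
    haveI : IsOpenImmersion (ιu u).left :=
      Groth.Agent.Lib.Helper12.MonoField.isOpenImmersion_of_mono_of_etale_field k (ιu u).left
        c₀.left
    infer_instance
  have hqe : ∀ u : U.left, AlgSp.RepWith @Etale (q u).toHom := fun u => by
    rw [hq u]
    exact MorphismProperty.comp_mem _ _ _ ((AlgSp.repWith_yon_map_iff _ _).2 (hιe u)) hae
  choose hW p hp hpe hps using fun u : U.left =>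
    Groth.Agent.Lib.Helper12.OpenImage.exists_chart_onto_image (q u).toHom (hqe u)
  let Xu : U.left → AlgSp.Space S := fun u =>
    ⟨Groth.Agent.Lib.Helper12.OpenSub.obj X.obj (Set.range (AlgSp.Points.ofPt (q u).toHom)),
      Groth.Agent.Lib.Helper12.OpenSub.isAlgSpace_obj X.property (hW u)⟩
  have hqs : ∀ u : U.left, AlgSp.IsQuasiSeparatedSp (Xu u).obj := by
    intro u
    haveI : IsAffine (q u).pt.left :=
      (inferInstance : IsAffine (Spec (CommRingCat.of (q u).K)))
    obtain ⟨R, s, t', sq⟩ := (hpe u).1 (p u)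
    obtain ⟨t, rfl⟩ := (AlgSp.yon S).map_surjective t'
    -- the structure morphism to `Spec k`
    obtain ⟨cu, hcudef⟩ : ∃ cu : (q u).pt ⟶ Over.mk str, cu = ιu u ≫ c₀ := ⟨_, rfl⟩
    have hcu : (AlgSp.yon S).map cu = (q u).toHom ≫ f := by
      rw [hcudef, hq u, Category.assoc, ← hc₀, ← Functor.map_comp]
    haveI : Etale cu.left := by
      rw [hcudef]
      show Etale ((ιu u).left ≫ c₀.left)
      haveI := hιe u
      infer_instance
    have hst : t ≫ cu = s ≫ cu := by
      apply (AlgSp.yon S).map_injective
      rw [Functor.map_comp, Functor.map_comp, hcu, ← hp u, ← Category.assoc, ← Category.assoc,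
        ← Category.assoc, ← Category.assoc, sq.w]
    have hst' : t.left ≫ cu.left = s.left ≫ cu.left := by
      rw [← Over.comp_left, ← Over.comp_left, hst]
    haveI : Mono (pullback.lift t.left s.left hst') := mono_pullback_lift sq cu.left cu.left hst'
    -- finiteness
    haveI : CompactSpace ↥(q u).pt.left :=
      (inferInstance : CompactSpace ↥(Spec (CommRingCat.of (q u).K)))
    haveI : QuasiSeparatedSpace ↥(q u).pt.left :=
      (inferInstance : QuasiSeparatedSpace ↥(Spec (CommRingCat.of (q u).K)))
    haveI : IsLocallyArtinian (Over.mk str).left :=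
      (inferInstance : IsLocallyArtinian (Spec (CommRingCat.of k)))
    haveI : QuasiSeparatedSpace ↥(Over.mk str).left :=
      (inferInstance : QuasiSeparatedSpace ↥(Spec (CommRingCat.of k)))
    haveI : LocallyQuasiFinite cu.left := Groth.Agent.S10265.locallyQuasiFinite_of_unramified _
    haveI : QuasiCompact cu.left := quasiCompact_of_compactSpace _
    haveI : IsFinite cu.left := IsFinite.of_locallyQuasiFinite cu.left
    have hPfin : (Set.univ : Set ↥(pullback cu.left cu.left)).Finite := by
      have := (pullback.fst cu.left cu.left).finite_preimage_singleton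
        ((⊥ : PrimeSpectrum (q u).K) : ↥(q u).pt.left)
      refine this.subset (fun y _ => ?_)
      exact (inferInstance : Subsingleton (PrimeSpectrum (q u).K)).elim _ _
    haveI : Finite ↥(pullback cu.left cu.left) := Set.finite_univ_iff.1 hPfin
    haveI : Finite ↥R.left :=
      Finite.of_injective _ (pullback.lift t.left s.left hst').injective
    haveI : CompactSpace ↥R.left := inferInstance
    haveI : QuasiCompact s.left := quasiCompact_of_compactSpace _
    have hqc := Groth.Agent.Lib.Helper12.OpenImage.repWith_quasiCompact_of_self (p u) (hpe u)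
      (hps u) s t sq
    exact Groth.Agent.Lib.Helper12.OpenImage.isQuasiSeparatedSp_of_chart (Xu u).property.diag
      (p u) hqc (hpe u) (hps u)
  choose k' fk' str' e c hc using fun u : U.left =>
    Groth.Agent.S10205.result (Xu u) (hqs u) (q u).K (q u).str (p u) (hpe u) (hps u)
  let Y : U.left → Over S := fun u => Over.mk (str' u)
  let g : ∀ u : U.left, (AlgSp.yon S).obj (Y u) ⟶ X.obj := fun u =>
    (e u).hom ≫ Groth.Agent.Lib.Helper12.OpenSub.incl X.obj
      (Set.range (AlgSp.Points.ofPt (q u).toHom))
  have hg : ∀ u : U.left, AlgSp.RepWith @IsOpenImmersion (g u) := fun u =>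
    MorphismProperty.comp_mem _ _ _ (MorphismProperty.of_isIso _ _)
      (Groth.Agent.Lib.Helper12.OpenSub.repWith_incl (hW u))
  have hjs : Groth.Agent.Lib.Helper12.ZarGlue.JointlySurjective hg := by
    intro T γ t
    obtain ⟨u, hu⟩ := Groth.Agent.S10177.surjective_ofPt a has (AlgSp.Points.ofPt γ t)
    refine ⟨u, ?_⟩
    refine Groth.Agent.Lib.Helper12.ZarGlue.mem_range_of_mem_range_map (g u) γ _ _
      ((hg u).rep.isPullback γ) t ?_
    rw [← hu]
    refine ⟨AlgSp.Points.map (e u).inv (AlgSp.Points.ofPt (p u)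
      ((⊥ : PrimeSpectrum (q u).K) : ↥(q u).pt.left)), ?_⟩
    rw [← AlgSp.Points.map_comp, ← Category.assoc, Iso.inv_hom_id, Category.id_comp,
      AlgSp.Points.map_ofPt, hp u, AlgSp.Points.ofPt_toHom]
    rfl
  obtain ⟨W, e', -⟩ := Groth.Agent.Lib.Helper12.ZarGlue.exists_iso hg hjs
  exact (AlgSp.representableByOfIso e').isRepresentable

end Groth.Agent.S10206
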