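import Groth.Statements.S10208
import Mathlib
import Groth.Agent.S10212

set_option autoImplicit false
universe u
open CategoryTheory CategoryTheory.Limits AlgebraicGeometry Topology TopologicalSpace
open AlgSp

namespace Groth.Agent.S10208


open CategoryTheory.Limits Opposite MorphismProperty

variable {S : Scheme.{u}}

/-- chart criterion for étale morphisms (general sheaves). -/
lemma isEtaleMor_of_chart_square {X Y : AlgSp.Sp S} (hY : AlgSp.IsAlgSpace Y) (f : X ⟶ Y)
    {U V : Over S}
    (a : (AlgSp.yon S).obj U ⟶ X) (ha : AlgSp.RepWith @Etale a) (has : AlgSp.RepWith @Surjective a)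
    (b : (AlgSp.yon S).obj V ⟶ Y) (hb : AlgSp.RepWith @Etale b) (h : U ⟶ V) [Etale h.left]
    (w : a ≫ f = (AlgSp.yon S).map h ≫ b) : AlgSp.IsEtaleMor f := by
  intro W φ hφ
  obtain ⟨W1, w1, φ1', sq⟩ := ha.1 φ
  obtain ⟨φ1, rfl⟩ := (AlgSp.yon S).map_surjective φ1'
  haveI : Etale w1.left := ha.2 _ _ w1 sq
  haveI : Surjective w1.left := has.2 _ _ w1 sq
  haveI : Etale φ1.left := hφ.2 _ _ φ1 sq.flip
  refine Groth.Agent.S10212.repWith_etale_of_comp_surjective_etale w1 (φ ≫ f)
    (hY.representable_from_yon _) ?_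
  have e1 : (AlgSp.yon S).map w1 ≫ φ ≫ f = (AlgSp.yon S).map (φ1 ≫ h) ≫ b := by
    rw [← Category.assoc, ← sq.w, Category.assoc, w, Functor.map_comp, Category.assoc]
  rw [e1]
  refine (AlgSp.RepWith @Etale).comp_mem _ _ ((AlgSp.repWith_yon_map_iff _ _).2 ?_) hb
  rw [Over.comp_left]
  exact (inferInstance : Etale (φ1.left ≫ h.left))



/-- Let f : X ⟶ Y be a morphism of algebraic spaces over a scheme S. Suppose there is a commutative
square with a : h_U ⟶ X representable etale and surjective, b : h_V ⟶ Y representable etale, and an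
etale morphism of schemes h : U ⟶ V over S with a ≫ f = h_h ≫ b. Then f is etale. -/
theorem result {S : Scheme.{u}} {X Y : AlgSp.Space S} (f : X ⟶ Y) {U V : Over S}
    (a : (AlgSp.yon S).obj U ⟶ X.obj) (ha : AlgSp.RepWith @Etale a) (has : AlgSp.RepWith @Surjective a)
    (b : (AlgSp.yon S).obj V ⟶ Y.obj) (hb : AlgSp.RepWith @Etale b) (h : U ⟶ V) [Etale h.left]
    (w : a ≫ f.hom = (AlgSp.yon S).map h ≫ b) :
    AlgSp.IsEtaleMor f.hom := by
  exact isEtaleMor_of_chart_square Y.property f.hom a ha has b hb h w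

end Groth.Agent.S10208
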