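import Groth.Statements.S10213
import Mathlib

set_option autoImplicit false
universe u
open CategoryTheory CategoryTheory.Limits AlgebraicGeometry Topology TopologicalSpace
open AlgSp

namespace Groth.Agent.S10213


variable {S : Scheme.{u}}



/-- For an algebraic space X over a scheme S there is a surjective etale map h_U ⟶ X where U is a
disjoint union of affine schemes, each of which maps into an affine open of S. -/
theorem result {S : Scheme.{u}} (X : AlgSp.Space S) :
    ∃ (ι : Type u) (V : ι → Scheme.{u}) (_ : ∀ i, IsAffine (V i)) (q : (∐ V) ⟶ S)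
      (p : (AlgSp.yon S).obj (Over.mk q) ⟶ X.obj),
      AlgSp.RepWith @Etale p ∧ AlgSp.RepWith @Surjective p ∧
        ∀ i, ∃ W : S.Opens, IsAffineOpen W ∧ ∀ v : ↥(V i), (Sigma.ι V i ≫ q) v ∈ W := by
  obtain ⟨U, p, hpe, hps⟩ := X.property.atlas
  have hex : ∀ u : ↥U.left, ∃ (W : S.Opens) (V : U.left.Opens), IsAffineOpen W ∧ IsAffineOpen V ∧
      u ∈ V ∧ V ≤ U.hom ⁻¹ᵁ W := by
    intro u
    obtain ⟨W, hW, huW, -⟩ := TopologicalSpace.Opens.isBasis_iff_nbhd.1 (S.isBasis_affineOpens)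
      (show U.hom u ∈ (⊤ : S.Opens) from trivial)
    obtain ⟨V, hV, huV, hVW⟩ := TopologicalSpace.Opens.isBasis_iff_nbhd.1
      (U.left.isBasis_affineOpens) (show u ∈ U.hom ⁻¹ᵁ W from huW)
    exact ⟨W, V, hW, hV, huV, hVW⟩
  choose W V hW hV huV hVW using hex
  let V' : ↥U.left → Scheme.{u} := fun u => (V u).toScheme
  haveI hVaff : ∀ i, IsAffine (V' i) := fun i => hV i
  let d : (∐ V') ⟶ U.left := Sigma.desc (fun u => (V u).ι)
  haveI hdet : Etale d := IsZariskiLocalAtSource.sigmaDesc (P := @Etale) (fun u => inferInstance)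
  haveI hdsurj : Surjective d := by
    constructor
    intro x
    refine ⟨Sigma.ι V' x ⟨x, huV x⟩, ?_⟩
    rw [← Scheme.Hom.comp_apply, Sigma.ι_desc]
    rfl
  let D : Over.mk (d ≫ U.hom) ⟶ U := Over.homMk d rfl
  refine ⟨↥U.left, V', hVaff, d ≫ U.hom, (AlgSp.yon S).map D ≫ p, ?_, ?_, ?_⟩
  · exact (AlgSp.RepWith @Etale).comp_mem _ _ ((AlgSp.repWith_yon_map_iff _ _).2 hdet) hpe
  · exact (AlgSp.RepWith @Surjective).comp_mem _ _ ((AlgSp.repWith_yon_map_iff _ _).2 hdsurj) hps
  · intro i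
    refine ⟨W i, hW i, fun v => ?_⟩
    rw [← Category.assoc, Sigma.ι_desc]
    exact hVW i v.2

end Groth.Agent.S10213
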