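import Groth.Statements.S10214
import Mathlib
import Groth.Agent.Lib.Helper12OpenSub2
import Groth.Agent.S10196

set_option autoImplicit false
universe u
open CategoryTheory CategoryTheory.Limits AlgebraicGeometry Topology TopologicalSpace
open AlgSp

namespace Groth.Agent.S10214





/-- Every algebraic space X over a scheme S has a Zariski covering by open subspaces X_i such that each
X_i has a surjective etale map from an affine scheme; moreover the affine schemes may be taken to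
map into affine opens of S. -/
theorem result {S : Scheme.{u}} (X : AlgSp.Space S) :
    ∃ (ι : Type u) (Xi : ι → AlgSp.Space S) (j : ∀ i, Xi i ⟶ X),
      AlgSp.IsZarCover (fun i => (Xi i).obj) (fun i => (j i).hom) ∧
        ∀ i, ∃ (U : Over S) (p : (AlgSp.yon S).obj U ⟶ (Xi i).obj), IsAffine U.left ∧
          AlgSp.RepWith @Etale p ∧ AlgSp.RepWith @Surjective p ∧
          ∃ W : S.Opens, IsAffineOpen W ∧ ∀ v : ↥U.left, U.hom v ∈ W := by
  obtain ⟨U, p, hpe, hps⟩ := X.property.atlas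
  -- local choices
  have hch : ∀ u : ↥U.left, ∃ (W : S.Opens) (V : U.left.Opens), IsAffineOpen W ∧ IsAffineOpen V ∧
      u ∈ V ∧ ∀ v ∈ V, U.hom v ∈ W := by
    intro u
    obtain ⟨W, hW, huW, -⟩ := TopologicalSpace.Opens.isBasis_iff_nbhd.mp S.isBasis_affineOpens
      (show U.hom u ∈ (⊤ : S.Opens) from trivial)
    obtain ⟨V, hV, huV, hVW⟩ := TopologicalSpace.Opens.isBasis_iff_nbhd.mp
      U.left.isBasis_affineOpens (show u ∈ U.hom ⁻¹ᵁ W from huW)
    exact ⟨W, V, hW, hV, huV, fun v hv => hVW hv⟩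
  choose W V hW hV huV hVW using hch
  let Uo : ↥U.left → Over S := fun u => Over.mk ((V u).ι ≫ U.hom)
  let io : ∀ u, Uo u ⟶ U := fun u => Over.homMk (V u).ι rfl
  let a : ∀ u, (AlgSp.yon S).obj (Uo u) ⟶ X.obj := fun u => (AlgSp.yon S).map (io u) ≫ p
  have ha : ∀ u, AlgSp.RepWith @Etale (a u) := fun u =>
    (AlgSp.RepWith @Etale).comp_mem _ _
      ((AlgSp.repWith_yon_map_iff _ _).2 (by show Etale (V u).ι; infer_instance)) hpe
  have hopen : ∀ u, IsOpen (Set.range (AlgSp.Points.ofPt (a u))) := fun u => by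
    rw [← Set.image_univ]
    exact Groth.Agent.S10176.isOpenMap_ofPt (a u) (ha u) _ isOpen_univ
  let Xi : ↥U.left → AlgSp.Space S := fun u =>
    ⟨Groth.Agent.Lib.Helper12.OpenSub.obj X.obj (Set.range (AlgSp.Points.ofPt (a u))),
      Groth.Agent.Lib.Helper12.OpenSub.isAlgSpace_obj X.property (hopen u)⟩
  let j : ∀ u, Xi u ⟶ X := fun u =>
    ObjectProperty.homMk (Groth.Agent.Lib.Helper12.OpenSub.incl X.obj _)
  have hj : ∀ u, AlgSp.RepWith @IsOpenImmersion (j u).hom := fun u =>
    Groth.Agent.Lib.Helper12.OpenSub.repWith_incl (hopen u)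
  have hr : ∀ u, Set.range (AlgSp.Points.map (j u).hom) = Set.range (AlgSp.Points.ofPt (a u)) :=
    fun u => Groth.Agent.Lib.Helper12.OpenSub.range_map_incl _
  refine ⟨↥U.left, Xi, j, ⟨hj, fun x => ?_⟩, fun u => ?_⟩
  · obtain ⟨u, rfl⟩ := Groth.Agent.S10177.surjective_ofPt p hps x
    refine ⟨u, ?_⟩
    rw [hr u]
    have hmem : u ∈ Set.range (V u).ι := by rw [(V u).range_ι]; exact huV u
    obtain ⟨v, hv⟩ := hmem
    refine ⟨v, ?_⟩
    show AlgSp.Points.ofPt ((AlgSp.yon S).map (io u) ≫ p) v = _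
    rw [Groth.Agent.S10509.ofPt_yon_map_comp]
    congr 1
  · obtain ⟨a', -, hae, has, -⟩ := Groth.Agent.S10196.result (a u) (ha u) (j u) (hj u) (hr u)
    refine ⟨Uo u, a', hV u, hae, has, W u, hW u, fun v => ?_⟩
    have hv : (V u).ι v ∈ V u := by
      have h2 : (V u).ι v ∈ Set.range (V u).ι := ⟨v, rfl⟩
      rw [(V u).range_ι] at h2; exact h2
    exact hVW u _ hv

end Groth.Agent.S10214
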