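import Groth.Statements.S10216
import Groth.Agent.Lib.Helper9SpPoint7

set_option autoImplicit false
universe u
open CategoryTheory CategoryTheory.Limits AlgebraicGeometry Topology TopologicalSpace
open AlgSp

namespace Groth.Agent.S10216

/-- Let φ : U ⟶ X be an etale morphism of algebraic spaces over a scheme S, take a geometric point x̄ :
Spec k ⟶ X of X whose image in |X| is x, and let u ∈ |U| with φ(u) = x. Then there is a geometric
point ū : Spec k ⟶ U (with the same field k) lying over u and with φ ∘ ū = x̄. -/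
theorem result {S : Scheme.{u}} {U X : AlgSp.Space S} (φ : U ⟶ X)
    (hφ : AlgSp.IsEtaleMor φ.hom) (xbar : AlgSp.FieldPt X.obj) (hx : xbar.IsGeometric)
    (u : AlgSp.Points U.obj) (hu : AlgSp.Points.map φ.hom u = AlgSp.Points.mk xbar) :
    ∃ ubar : (AlgSp.yon S).obj xbar.pt ⟶ U.obj,
      ubar ≫ φ.hom = xbar.toHom ∧ AlgSp.Points.ofPt ubar (IsLocalRing.closedPoint xbar.K) = u := by
  obtain ⟨V, b, hb, hbs⟩ := U.property.atlas
  obtain ⟨z, hz⟩ := Groth.Agent.S9906.surjective_map_of_repWith b hbs u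
  obtain ⟨v, rfl⟩ := (AlgSp.Points.schemeEquiv V).surjective z
  have hbv : AlgSp.Points.ofPt b v = u := by
    rw [AlgSp.Points.ofPt_eq_map_ofScheme]
    exact hz
  have hbφ : AlgSp.RepWith @Etale (b ≫ φ.hom) := hφ b hb
  let E : AlgSp.EtOver X.obj := AlgSp.EtOver.mk (b ≫ φ.hom) hbφ
  have hv : AlgSp.Points.ofPt E.obj.hom v = AlgSp.Points.mk xbar := by
    change AlgSp.Points.ofPt (b ≫ φ.hom) v = _
    rw [← AlgSp.Points.map_ofPt, hbv]
    exact hu
  obtain ⟨l, hl⟩ := Groth.Agent.Lib.Helper9.SpPoint.exists_lift_of_ofPt_eq_mk' xbar hx E v hv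
  refine ⟨(AlgSp.yon S).map l.1 ≫ b, ?_, ?_⟩
  · rw [Category.assoc]
    exact l.2
  · have h1 := Groth.Agent.Lib.Helper9.SpPoint.ofPt_yon_map_comp (T := xbar.pt) (T' := V) l.1 b
      (default : Spec (CommRingCat.of xbar.K))
    have h2 : (IsLocalRing.closedPoint xbar.K : PrimeSpectrum xbar.K) =
        (default : Spec (CommRingCat.of xbar.K)) := Subsingleton.elim _ _
    rw [h2]
    refine h1.trans ?_
    rw [← hbv]
    exact congrArg (AlgSp.Points.ofPt b) hl

end Groth.Agent.S10216
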