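import Groth.Statements.S10220
import Groth.Agent.S10219
import Groth.Agent.Lib.Helper9SpPoint2

set_option autoImplicit false
universe u
open CategoryTheory CategoryTheory.Limits AlgebraicGeometry Topology TopologicalSpace
open AlgSp

namespace Groth.Agent.S10220

/-- Let X be an algebraic space over a scheme S and a : F ⟶ G a map of sheaves of sets on the small
etale site of X. Then a is injective (a monomorphism) if and only if the induced map on stalks F_x̄
→ G_x̄ is injective for every geometric point x̄ of X, and a is surjective (an epimorphism of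
sheaves) if and only if all these stalk maps are surjective. -/
theorem result {S : Scheme.{u}} (X : AlgSp.Space S) {F G : AlgSp.EtSh X.obj (Type (u + 1))} (a : F ⟶ G) :
    (Mono a ↔ ∀ p : AlgSp.FieldPt X.obj, p.IsGeometric →
        Function.Injective ((AlgSp.stalkEtFunctor (Type (u + 1)) p).map a)) ∧
    (Epi a ↔ ∀ p : AlgSp.FieldPt X.obj, p.IsGeometric →
        Function.Surjective ((AlgSp.stalkEtFunctor (Type (u + 1)) p).map a)) := by
  have key : ∀ (Q : ∀ {A B : Type (u + 1)}, (A → B) → Prop),
      (∀ p : AlgSp.FieldPt X.obj, p.IsGeometric →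
        Q ((AlgSp.stalkEtFunctor (Type (u + 1)) p).map a)) →
      ∀ Φ ∈ Groth.Agent.Lib.Helper9.SpPoint.geomPoints X,
        Q (Φ.presheafFiber.map a.hom) := by
    intro Q h Φ hΦ
    obtain ⟨p, hp, hfib⟩ := hΦ
    obtain ⟨fib, cof, ism, js⟩ := Φ
    dsimp only at hfib
    subst hfib
    exact h p hp
  constructor
  · constructor
    · intro hM p hp
      obtain ⟨⟨hlim, -⟩, -⟩ := Groth.Agent.S10219.result X p hp
      haveI := hlim
      haveI := hM
      haveI : (AlgSp.stalkEtFunctor (Type (u + 1)) p).PreservesMonomorphisms := inferInstance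
      have hM' : Mono ((AlgSp.stalkEtFunctor (Type (u + 1)) p).map a) := Functor.map_mono _ a
      exact (mono_iff_injective _).1 hM'
    · intro h
      haveI : Presheaf.IsLocallyInjective (AlgSp.etTop X.obj) a.hom :=
        Groth.Agent.Lib.Helper9.SpPoint.isLocallyInjective_of_points.{u}
          (Groth.Agent.Lib.Helper9.SpPoint.geomPoints X)
          (Groth.Agent.Lib.Helper9.SpPoint.geomPoints_detect X) a.hom
          (key (fun f => Function.Injective f) h)
      exact Sheaf.mono_of_isLocallyInjective a
  · constructor
    · intro hE p hp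
      obtain ⟨⟨-, hcolim⟩, -⟩ := Groth.Agent.S10219.result X p hp
      haveI := hcolim
      haveI := hE
      haveI : (AlgSp.stalkEtFunctor (Type (u + 1)) p).PreservesEpimorphisms := inferInstance
      have hE' : Epi ((AlgSp.stalkEtFunctor (Type (u + 1)) p).map a) := Functor.map_epi _ a
      exact (epi_iff_surjective _).1 hE'
    · intro h
      haveI : Presheaf.IsLocallySurjective (AlgSp.etTop X.obj) a.hom :=
        Groth.Agent.Lib.Helper9.SpPoint.isLocallySurjective_of_points.{u}
          (Groth.Agent.Lib.Helper9.SpPoint.geomPoints X)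
          (Groth.Agent.Lib.Helper9.SpPoint.geomPoints_detect X) a.hom
          (key (fun f => Function.Surjective f) h)
      exact Sheaf.epi_of_isLocallySurjective' a

end Groth.Agent.S10220
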