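import Groth.Statements.S10222
import Groth.Agent.Lib.Helper9SpPoint7
import Groth.Agent.Lib.Helper9RedStalk

set_option autoImplicit false
universe u
open CategoryTheory CategoryTheory.Limits AlgebraicGeometry Topology TopologicalSpace
open AlgSp

namespace Groth.Agent.S10222

/-- (1) if and only if (2): an algebraic space X over a scheme S is reduced if and only if at each x ∈
|X| the local ring of X is reduced, the latter meaning that for some scheme U, some representable
etale h_U ⟶ X and some point u of U mapping to x, the local ring of U at u is reduced. (The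
assertions about global sections in the published statement are not part of this row.) -/
theorem result {S : Scheme.{u}} (X : AlgSp.Space S) :
    AlgSp.IsReducedSp X.obj ↔
      ∀ x : AlgSp.Points X.obj, AlgSp.HasAt (fun U u => _root_.IsReduced ↥(U.presheaf.stalk u)) X.obj x := by
  constructor
  · rintro ⟨U₀, a₀, ha, hs, hred⟩ x
    haveI : AlgebraicGeometry.IsReduced U₀.left := hred
    obtain ⟨z, hz⟩ := Groth.Agent.S9906.surjective_map_of_repWith a₀ hs x
    obtain ⟨t, rfl⟩ := (AlgSp.Points.schemeEquiv U₀).surjective z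
    refine ⟨U₀, a₀, t, ha, ?_, inferInstance⟩
    rw [AlgSp.Points.ofPt_eq_map_ofScheme]
    exact hz
  · intro h
    obtain ⟨U₀, a₀, ha, hs⟩ := X.property.atlas
    refine ⟨U₀, a₀, ha, hs, ?_⟩
    let A₀ : AlgSp.EtOver X.obj := AlgSp.EtOver.mk a₀ ha
    apply (config := { allowSynthFailures := true }) AlgebraicGeometry.isReduced_of_isReduced_stalk
    intro u₀
    obtain ⟨U, a, u, hau, hux, hQ⟩ := h (AlgSp.Points.ofPt a₀ u₀)
    let A : AlgSp.EtOver X.obj := AlgSp.EtOver.mk a hau
    obtain ⟨p, hp, l, hl⟩ := Groth.Agent.Lib.Helper9.SpPoint.exists_geometric_lift A₀ u₀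
    have hmk : AlgSp.Points.mk p = AlgSp.Points.ofPt a₀ u₀ := by
      rw [← hl]
      exact (Groth.Agent.Lib.Helper9.SpPoint.ofPt_lift p A₀ l _).symm
    obtain ⟨l', hl'⟩ := Groth.Agent.Lib.Helper9.SpPoint.exists_lift_of_ofPt_eq_mk' p hp A u
      (hux.trans hmk.symm)
    let P : AlgSp.EtOver X.obj := AlgSp.EtOver.prodObj A₀ A
    let w : p.pt ⟶ P.obj.left := A.property.1.lift' l'.1 l.1 (by rw [l.2, l'.2])
    have hw1 : w ≫ (AlgSp.EtOver.prodFst A₀ A).hom.left = l.1 :=
      Functor.relativelyRepresentable.lift'_snd _ _ _ _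
    have hw2 : w ≫ (AlgSp.EtOver.prodSnd A₀ A).hom.left = l'.1 :=
      Functor.relativelyRepresentable.lift'_fst _ _ _ _
    let z : P.obj.left.left := w.left (default : Spec (CommRingCat.of p.K))
    have hz1 : (AlgSp.EtOver.prodFst A₀ A).hom.left.left z = u₀ := by
      rw [← hl]
      exact congrArg (fun k : p.pt ⟶ A₀.obj.left => k.left (default : Spec (CommRingCat.of p.K))) hw1
    have hz2 : (AlgSp.EtOver.prodSnd A₀ A).hom.left.left z = u := by
      rw [← hl']
      exact congrArg (fun k : p.pt ⟶ A.obj.left => k.left (default : Spec (CommRingCat.of p.K))) hw2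
    haveI := AlgSp.EtOver.etale_left (AlgSp.EtOver.prodFst A₀ A)
    haveI := AlgSp.EtOver.etale_left (AlgSp.EtOver.prodSnd A₀ A)
    have hzred : _root_.IsReduced (P.obj.left.left.presheaf.stalk z) := by
      apply Groth.Agent.Lib.Helper9.RedStalk.isReduced_stalk_of_etale
        (AlgSp.EtOver.prodSnd A₀ A).hom.left.left z
      rw [hz2]
      exact hQ
    have := (Groth.Agent.Lib.Helper9.RedStalk.isReduced_stalk_iff_of_etale
      (AlgSp.EtOver.prodFst A₀ A).hom.left.left z).1 hzred
    rw [hz1] at this
    exact this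

end Groth.Agent.S10222
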