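import Groth.Statements.S10225
import Groth.Agent.Lib.Helper3OEtShH
import Mathlib

set_option autoImplicit false
set_option linter.style.haveILetI false
universe u
open CategoryTheory CategoryTheory.Limits AlgebraicGeometry Topology TopologicalSpace
open AlgSp

namespace Groth.Agent.S10225

/-- Let X be an algebraic space over a scheme S and x̄ a geometric point of X lying over x ∈ |X|. Then
the local ring of X at x is reduced (for some etale chart h_U ⟶ X and some point u of U over x, the
local ring of U at u is reduced) if and only if the etale local ring of X at x̄ is reduced; in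
particular the latter does not depend on the choice of x̄ over x. -/
theorem result {S : Scheme.{u}} (X : AlgSp.Space S) (p : AlgSp.FieldPt X.obj) (hp : p.IsGeometric) :
    AlgSp.HasAt (fun U u => _root_.IsReduced ↥(U.presheaf.stalk u)) X.obj (AlgSp.Points.mk p) ↔
      _root_.IsReduced ↥(AlgSp.OEtStalk p) := by
  open Groth.Agent.Lib.Helper3.OEtSh Groth.Agent.Lib.Helper9.SpPoint in
  constructor
  · rintro ⟨U, a, u, ha, hau, hred⟩
    obtain ⟨l, hl⟩ := exists_lift_of_ofPt_eq_mk' p hp (EtOver.mk a ha) u hau
    subst hl
    exact (isReduced_iff X p hp (EtOver.mk a ha) l).2 hred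
  · intro h
    obtain ⟨E, ⟨l⟩⟩ := exists_nbhd X p hp
    exact ⟨E.obj.left, E.obj.hom, l.1.left (default : Spec (CommRingCat.of p.K)), E.property,
      ofPt_lift p E l default, (isReduced_iff X p hp E l).1 h⟩

end Groth.Agent.S10225
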