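import Groth.Statements.S10226
import Groth.Agent.Lib.Helper3OEtShH
import Mathlib

set_option autoImplicit false
set_option linter.style.haveILetI false
universe u
open CategoryTheory CategoryTheory.Limits AlgebraicGeometry Topology TopologicalSpace
open AlgSp

namespace Groth.Agent.S10226

/-- Let X be a Noetherian algebraic space over a scheme S (quasi-compact, with quasi-compact diagonal
over S, and locally Noetherian) and x̄ a geometric point of X. Then the etale local ring of X at x̄
is a Noetherian local ring. -/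
theorem result {S : Scheme.{u}} (X : AlgSp.Space S)
    (hqc : AlgSp.IsQuasiCompactSp X.obj) (hqs : AlgSp.IsQuasiSeparatedSp X.obj) (hX : AlgSp.IsLocNoethSp X.obj)
    (p : AlgSp.FieldPt X.obj) (hp : p.IsGeometric) :
    IsNoetherianRing ↥(AlgSp.OEtStalk p) ∧ IsLocalRing ↥(AlgSp.OEtStalk p) := by
  open Groth.Agent.Lib.Helper3.OEtSh Groth.Agent.Lib.Helper9.SpPoint in
  refine ⟨?_, isLocalRing X p hp⟩
  obtain ⟨U, a, ha, hs, hU⟩ := hX
  haveI : IsAlgClosed p.K := hp
  haveI : IsSepClosed p.K := inferInstance
  obtain ⟨x₀, hx₀⟩ := exists_lift_atlas p a ha hs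
  let l : (FieldPt.liftsTo p).obj (EtOver.mk a ha) := ⟨x₀, hx₀⟩
  rw [isNoetherianRing_iff X p hp (EtOver.mk a ha) l]
  haveI : IsLocallyNoetherian U.left := hU
  change IsNoetherianRing ↥(U.left.presheaf.stalk _)
  infer_instance

end Groth.Agent.S10226
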