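import Groth.Statements.S10227
import Groth.Agent.Lib.Helper3OEtShI
import Mathlib

set_option autoImplicit false
set_option linter.style.haveILetI false
universe u
open CategoryTheory CategoryTheory.Limits AlgebraicGeometry Topology TopologicalSpace
open AlgSp

namespace Groth.Agent.S10227

/-- (1) ⇔ (4) ⇔ (5): let X be an algebraic space over a scheme S and x ∈ |X|. The following are
equivalent: for every scheme U, every etale h_U ⟶ X and every point u of U over x, the local ring of
U at u has a unique minimal prime; for every such (U, u), the local ring of U at u is geometrically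
unibranch; for every geometric point x̄ over x, the etale local ring of X at x̄ has a unique minimal
prime. -/
theorem result {S : Scheme.{u}} (X : AlgSp.Space S) (x : AlgSp.Points X.obj) :
    ((∀ (U : Over S) (a : (AlgSp.yon S).obj U ⟶ X.obj) (u : ↥U.left),
        AlgSp.RepWith @Etale a → AlgSp.Points.ofPt a u = x → CAlgX.HasUniqueMinimalPrime ↥(U.left.presheaf.stalk u)) ↔
      (∀ (U : Over S) (a : (AlgSp.yon S).obj U ⟶ X.obj) (u : ↥U.left),
        AlgSp.RepWith @Etale a → AlgSp.Points.ofPt a u = x → CAlg2.IsGeomUnibranch ↥(U.left.presheaf.stalk u))) ∧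
    ((∀ (U : Over S) (a : (AlgSp.yon S).obj U ⟶ X.obj) (u : ↥U.left),
        AlgSp.RepWith @Etale a → AlgSp.Points.ofPt a u = x → CAlgX.HasUniqueMinimalPrime ↥(U.left.presheaf.stalk u)) ↔
      ∀ p : AlgSp.FieldPt X.obj, p.IsGeometric → AlgSp.Points.mk p = x →
        CAlgX.HasUniqueMinimalPrime ↥(AlgSp.OEtStalk p)) := by
  open Groth.Agent.Lib.Helper3.OEtSh Groth.Agent.Lib.Helper9.SpPoint in
  have h13 : (∀ (U : Over S) (a : (AlgSp.yon S).obj U ⟶ X.obj) (u : ↥U.left),
        AlgSp.RepWith @Etale a → AlgSp.Points.ofPt a u = x →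
          CAlgX.HasUniqueMinimalPrime ↥(U.left.presheaf.stalk u)) →
      ∀ p : AlgSp.FieldPt X.obj, p.IsGeometric → AlgSp.Points.mk p = x →
        CAlgX.HasUniqueMinimalPrime ↥(AlgSp.OEtStalk p) := by
    intro h p hp hpx
    rw [hasUniqueMinimalPrime_iff_encard]
    apply le_antisymm
    · refine encard_minimalPrimes_le X p hp 1 ?_
      intro E l
      have h1 := h E.obj.left E.obj.hom (l.1.left (default : Spec (CommRingCat.of p.K)))
        E.property ((ofPt_lift p E l default).trans hpx)
      rw [hasUniqueMinimalPrime_iff_encard] at h1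
      rw [h1]
      rfl
    · exact one_le_encard_minimalPrimes X p hp
  have h32 : (∀ p : AlgSp.FieldPt X.obj, p.IsGeometric → AlgSp.Points.mk p = x →
        CAlgX.HasUniqueMinimalPrime ↥(AlgSp.OEtStalk p)) →
      ∀ (U : Over S) (a : (AlgSp.yon S).obj U ⟶ X.obj) (u : ↥U.left),
        AlgSp.RepWith @Etale a → AlgSp.Points.ofPt a u = x →
          CAlg2.IsGeomUnibranch ↥(U.left.presheaf.stalk u) := by
    intro h U a u ha hau
    obtain ⟨p, hp, l, hl, hpx⟩ := exists_geometric_chart_point X a ha u
    have h1 := (hasUniqueMinimalPrime_iff X p hp (EtOver.mk a ha) l).1 (h p hp (hpx.trans hau))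
    rw [hl] at h1
    exact h1
  have h21 : (∀ (U : Over S) (a : (AlgSp.yon S).obj U ⟶ X.obj) (u : ↥U.left),
        AlgSp.RepWith @Etale a → AlgSp.Points.ofPt a u = x →
          CAlg2.IsGeomUnibranch ↥(U.left.presheaf.stalk u)) →
      ∀ (U : Over S) (a : (AlgSp.yon S).obj U ⟶ X.obj) (u : ↥U.left),
        AlgSp.RepWith @Etale a → AlgSp.Points.ofPt a u = x →
          CAlgX.HasUniqueMinimalPrime ↥(U.left.presheaf.stalk u) := by
    intro h U a u ha hau
    obtain ⟨p, hp, l, hl, hpx⟩ := exists_geometric_chart_point X a ha u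
    have h0 := h U a u ha hau
    rw [← hl] at h0
    have h1 := hasUniqueMinimalPrime_stalk X p hp (EtOver.mk a ha) l
      ((hasUniqueMinimalPrime_iff X p hp (EtOver.mk a ha) l).2 h0)
    rw [hl] at h1
    exact h1
  exact ⟨⟨fun h => h32 (h13 h), h21⟩, ⟨h13, fun h => h21 (h32 h)⟩⟩

end Groth.Agent.S10227
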