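import Groth.Statements.S10228
import Mathlib
import Groth.Prelude.Def_AlgSpDec
import Groth.Agent.S9878
import Groth.Agent.S10174

set_option autoImplicit false
universe u
open CategoryTheory CategoryTheory.Limits AlgebraicGeometry Topology TopologicalSpace
open AlgSp

namespace Groth.Agent.S10228


open CategoryTheory.Limits Opposite MorphismProperty Groth.Agent.S13210 Groth.Agent.S9878

variable {S : Scheme.{u}}

/-- every point of a coproduct of fppf sheaves comes from one of the summands. -/
lemma exists_point_of_cofan {ι : Type*} {F : ι → AlgSp.Sp S} (c : Cofan F) (hc : IsColimit c)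
    (x : AlgSp.Points c.pt) : ∃ (i : ι) (y : AlgSp.Points (F i)), AlgSp.Points.map (c.inj i) y = x := by
  obtain ⟨p, rfl⟩ := AlgSp.Points.mk_surjective x
  obtain ⟨W, hd, hcov, hW⟩ := exists_clopen_decomposition c hc p.toHom
  let s : ↥p.pt.left := IsLocalRing.closedPoint p.K
  have hs : s ∈ ⨆ i, W i := by rw [hcov]; trivial
  obtain ⟨i, hi⟩ := TopologicalSpace.Opens.mem_iSup.1 hs
  obtain ⟨a, sq⟩ := hW i
  refine ⟨i, AlgSp.Points.ofPt a ⟨s, hi⟩, ?_⟩
  rw [AlgSp.Points.map_ofPt, sq.w, Groth.Agent.S10176.ofPt_map_comp, AlgSp.Points.ofPt_toHom]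



/-- An algebraic space that is the coproduct of finitely many quasi-compact algebraic spaces is
quasi-compact: if X_i (i in a finite type) are quasi-compact algebraic spaces over a scheme S and
the underlying sheaf of the algebraic space X is a coproduct of the underlying sheaves of the X_i
(given by a colimit cofan of fppf sheaves whose cone point is the sheaf of X), then X is
quasi-compact. -/
theorem result {S : Scheme.{u}} {ι : Type u} [Finite ι] (Xi : ι → AlgSp.Space S)
    (X : AlgSp.Space S) (c : Cofan fun i => (Xi i).obj) (hc : IsColimit c) (hX : c.pt = X.obj)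
    (hqc : ∀ i, AlgSp.IsQuasiCompactSp (Xi i).obj) :
    AlgSp.IsQuasiCompactSp X.obj := by
  obtain ⟨Xo, Xp⟩ := X
  dsimp only at hX
  subst hX
  rw [Groth.Agent.S10174.isQuasiCompactSp_iff Xp]
  haveI : ∀ i, CompactSpace (AlgSp.Points (Xi i).obj) := fun i =>
    (Groth.Agent.S10174.isQuasiCompactSp_iff (Xi i).property).1 (hqc i)
  have huniv : (Set.univ : Set (AlgSp.Points c.pt)) =
      ⋃ i, Set.range (AlgSp.Points.map (c.inj i)) := by
    ext x
    simp only [Set.mem_univ, Set.mem_iUnion, Set.mem_range, true_iff]
    obtain ⟨i, y, hy⟩ := exists_point_of_cofan c hc x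
    exact ⟨i, y, hy⟩
  refine ⟨?_⟩
  rw [huniv]
  exact isCompact_iUnion (fun i => isCompact_range (AlgSp.Points.continuous_map _))

end Groth.Agent.S10228
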