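import Groth.Statements.S1023
import Mathlib
import Groth.Agent.Lib.Helper1PC16
set_option maxHeartbeats 400000
-- import your own Groth.Agent.* helpers here

set_option autoImplicit false
universe u
open CategoryTheory CategoryTheory.Limits AlgebraicGeometry
attribute [local instance] HasDerivedCategory.standard
open Perf

namespace Groth.Agent.S1023

open Pretriangulated in
/-- Let the scheme X be quasi-compact and quasi-separated, P a perfect object of D(O_X), E ∈ D_QCoh(O_X)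
and a ∈ ℤ. Then the morphisms P[-i] ⟶ E vanish for all sufficiently negative i if and only if the
morphisms P[-i] ⟶ τ_{≤ a}E vanish for all sufficiently negative i. -/
theorem result (X : Scheme.{u}) [CompactSpace ↥X] [QuasiSeparatedSpace ↥X]
    (P : DCoh.D X) (hP : DCoh.IsPerfect P) (E : DCoh.D X) (hE : DCoh.IsQCohD E) (a : ℤ) :
    (∃ N : ℤ, ∀ i : ℤ, i ≤ N → ∀ φ : P⟦-i⟧ ⟶ E, φ = 0) ↔
    (∃ N : ℤ, ∀ i : ℤ, i ≤ N → ∀ φ : P⟦-i⟧ ⟶ ((DerivedCategory.TStructure.t : CategoryTheory.Triangulated.TStructure (DCoh.D X)).truncLE a).obj E, φ = 0) := by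
  obtain ⟨_, c, _, hc⟩ := Groth.Agent.Lib.Helper1.SPL.exists_isGE_isLE_of_isPerfect P hP
  set t : Triangulated.TStructure (DCoh.D X) := DerivedCategory.TStructure.t with ht
  have hT := t.triangleLEGE_distinguished a (a+1) rfl E
  have hG : t.IsGE ((t.truncGE (a+1)).obj E) (a+1) := inferInstance
  have hQ : ∀ i : ℤ, i ≤ a - c → t.IsLE (P⟦-i⟧) a := fun i hi => by
    have : t.IsLE P c := hc
    have := t.isLE_shift P c (-i) (c + i) (by omega)
    exact t.isLE_of_le _ (c+i) a (by omega)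
  have key1 : ∀ i, i ≤ a - c → ∀ φ : P⟦-i⟧ ⟶ E,
      ∃ ψ : P⟦-i⟧ ⟶ (t.truncLE a).obj E, φ = ψ ≫ (t.truncLEι a).app E := by
    intro i hi φ
    have := hQ i hi
    exact Triangle.coyoneda_exact₂ _ hT φ
      (t.zero_of_isLE_of_isGE _ a (a+1) (by omega) inferInstance hG)
  have key2 : ∀ i, i ≤ a - c → ∀ ψ : P⟦-i⟧ ⟶ (t.truncLE a).obj E,
      ψ ≫ (t.truncLEι a).app E = 0 → ψ = 0 := by
    intro i hi ψ hψ
    have := hQ i hi
    obtain ⟨g, hg⟩ := Triangle.coyoneda_exact₂ _ (inv_rot_of_distTriang _ hT) ψ hψ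
    have : g = 0 := t.zero_of_isLE_of_isGE _ a (a+2) (by omega) inferInstance
      (t.isGE_shift ((t.truncGE (a+1)).obj E) (a+1) (-1) (a+2))
    rw [hg, this]
    exact zero_comp
  constructor
  · rintro ⟨N, hN⟩
    exact ⟨min N (a - c), fun i hi ψ => key2 i (by omega) ψ (hN i (by omega) _)⟩
  · rintro ⟨N, hN⟩
    refine ⟨min N (a - c), fun i hi φ => ?_⟩
    obtain ⟨ψ, rfl⟩ := key1 i (by omega) φ
    rw [hN i (by omega) ψ, zero_comp]

end Groth.Agent.S1023
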