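import Groth.Statements.S10230
import Groth.Agent.Lib.Helper9SpPoint6

set_option autoImplicit false
universe u
open CategoryTheory CategoryTheory.Limits AlgebraicGeometry Topology TopologicalSpace
open AlgSp

namespace Groth.Agent.S10230

/-- Let X be an algebraic space over a scheme S and F a subsheaf of the final object of the small etale
topos of X, i.e. a sheaf of sets all of whose section sets have at most one element. Then there is a
unique open W of |X| with F = h_W: for every U etale over X, F(U) is nonempty if and only if U ⟶ X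
maps |U| into W. -/
theorem result {S : Scheme.{u}} (X : AlgSp.Space S)
    (F : AlgSp.EtSh X.obj (Type (u + 1))) (hF : ∀ E : AlgSp.EtOver X.obj, Subsingleton (F.obj.obj (Opposite.op E))) :
    ∃! W : Set (AlgSp.Points X.obj), IsOpen W ∧
      ∀ E : AlgSp.EtOver X.obj, Nonempty (F.obj.obj (Opposite.op E)) ↔ Set.range (AlgSp.Points.ofPt E.obj.hom) ⊆ W := by
  -- every open of |X| is a union of images of charts contained in it
  have hbasis : ∀ W' : Set (AlgSp.Points X.obj), IsOpen W' → ∀ x ∈ W',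
      ∃ E : AlgSp.EtOver X.obj, x ∈ Set.range (AlgSp.Points.ofPt E.obj.hom) ∧
        Set.range (AlgSp.Points.ofPt E.obj.hom) ⊆ W' := by
    intro W' hW' x hx
    obtain ⟨U₀, a₀, ha, hs⟩ := X.property.atlas
    obtain ⟨z, hz⟩ := Groth.Agent.S9906.surjective_map_of_repWith a₀ hs x
    obtain ⟨t, rfl⟩ := (AlgSp.Points.schemeEquiv U₀).surjective z
    have hz' : AlgSp.Points.ofPt a₀ t = x := by
      rw [AlgSp.Points.ofPt_eq_map_ofScheme]
      exact hz
    let A₀ : AlgSp.EtOver X.obj := AlgSp.EtOver.mk a₀ ha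
    let Wo : U₀.left.Opens := ⟨AlgSp.Points.ofPt a₀ ⁻¹' W', hW'.preimage (AlgSp.Points.continuous_ofPt a₀)⟩
    have hE : ∀ y : Wo, AlgSp.Points.ofPt (Groth.Agent.Lib.Helper9.SpEt.openObj X.obj A₀ Wo).obj.hom y =
        AlgSp.Points.ofPt a₀ y.1 :=
      fun y => Groth.Agent.Lib.Helper9.SpPoint.ofPt_yon_map_comp
        (AlgSp.EtOver.homOfEtale (U := U₀) (Scheme.Etale.mk Wo.ι)) a₀ y
    refine ⟨Groth.Agent.Lib.Helper9.SpEt.openObj X.obj A₀ Wo, ⟨⟨t, ?_⟩, ?_⟩, ?_⟩
    · change AlgSp.Points.ofPt a₀ t ∈ W'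
      rw [hz']
      exact hx
    · exact (hE ⟨t, _⟩).trans hz'
    · rintro _ ⟨y, rfl⟩
      have hy : AlgSp.Points.ofPt a₀ (y : Wo).1 ∈ W' := (y : Wo).2
      exact (hE y).symm ▸ hy
  let W : Set (AlgSp.Points X.obj) :=
    ⋃ (E : AlgSp.EtOver X.obj) (_ : Nonempty (F.obj.obj (Opposite.op E))),
      Set.range (AlgSp.Points.ofPt E.obj.hom)
  have hW : IsOpen W := isOpen_iUnion fun V => isOpen_iUnion fun _ =>
    (Groth.Agent.Lib.Helper9.SpPoint.isOpenMap_ofPt V).isOpen_range
  have hWprop : ∀ E : AlgSp.EtOver X.obj, Nonempty (F.obj.obj (Opposite.op E)) ↔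
      Set.range (AlgSp.Points.ofPt E.obj.hom) ⊆ W := by
    intro E
    constructor
    · intro hne y hy
      simp only [W, Set.mem_iUnion]
      exact ⟨E, hne, hy⟩
    · intro hsub
      let T : Sieve E :=
        { arrows := fun Y _ => Nonempty (F.obj.obj (Opposite.op Y))
          downward_closed := by
            rintro Y Z g ⟨s⟩ k
            exact ⟨F.obj.map k.op s⟩ }
      have hT : T ∈ AlgSp.etTop X.obj E := by
        apply Groth.Agent.Lib.Helper9.SpPoint.geomPoints_detect'
        intro p hp x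
        have hxW : AlgSp.Points.mk p ∈ W := by
          rw [← Groth.Agent.Lib.Helper9.SpPoint.ofPt_lift p E x
            (default : Spec (CommRingCat.of p.K))]
          exact hsub ⟨_, rfl⟩
        simp only [W, Set.mem_iUnion, Set.mem_range] at hxW
        obtain ⟨E', ⟨s'⟩, e', he'⟩ := hxW
        obtain ⟨x'⟩ := Groth.Agent.Lib.Helper9.SpPoint.exists_lift_of_ofPt_eq_mk p hp E' e' he'
        let w : p.pt ⟶ (AlgSp.EtOver.prodObj E E').obj.left :=
          E'.property.1.lift' x'.1 x.1 (by rw [x.2, x'.2])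
        have hw1 : w ≫ (AlgSp.EtOver.prodFst E E').hom.left = x.1 :=
          Functor.relativelyRepresentable.lift'_snd _ _ _ _
        have hw : (AlgSp.yon S).map w ≫ (AlgSp.EtOver.prodObj E E').obj.hom = p.toHom := by
          rw [← AlgSp.EtOver.w (AlgSp.EtOver.prodFst E E'), ← Category.assoc, ← Functor.map_comp, hw1]
          exact x.2
        exact ⟨AlgSp.EtOver.prodObj E E', AlgSp.EtOver.prodFst E E',
          ⟨F.obj.map (AlgSp.EtOver.prodSnd E E').op s'⟩, ⟨w, hw⟩, Subtype.ext hw1⟩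
      have hsh := (isSheaf_iff_isSheaf_of_type _ _).1 F.2 T hT
      let fam : Presieve.FamilyOfElements F.obj T.arrows := fun Y g hg => Classical.choice hg
      have hcomp : fam.Compatible := by
        intro Y₁ Y₂ Z g₁ g₂ f₁ f₂ h₁ h₂ _
        exact (hF Z).elim _ _
      exact ⟨hsh.amalgamate fam hcomp⟩
  refine ⟨W, ⟨hW, hWprop⟩, ?_⟩
  rintro W' ⟨hW', hW'prop⟩
  ext x
  constructor
  · intro hx
    obtain ⟨E, hxE, hEW⟩ := hbasis W' hW' x hx
    exact (hWprop E).1 ((hW'prop E).2 hEW) hxE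
  · intro hx
    obtain ⟨E, hxE, hEW⟩ := hbasis W hW x hx
    exact (hW'prop E).1 ((hWprop E).2 hEW) hxE

end Groth.Agent.S10230
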