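import Groth.Statements.S10232
import Groth.Agent.Lib.Helper3OEtShH
import Groth.Agent.Lib.Helper9SpPoint6
import Mathlib

set_option autoImplicit false
set_option linter.style.haveILetI false
universe u
open CategoryTheory CategoryTheory.Limits AlgebraicGeometry Topology TopologicalSpace
open AlgSp

namespace Groth.Agent.S10232

/-- Let X be an algebraic space over a scheme S and x ∈ |X|. Then X is regular at x (for some etale
chart h_U ⟶ X and some point u of U over x, the local ring of U at u is regular) if and only if the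
etale local ring of X at x̄ is regular for every geometric point x̄ lying over x, if and only if it
is regular for some geometric point x̄ lying over x. -/
theorem result {S : Scheme.{u}} (X : AlgSp.Space S) (x : AlgSp.Points X.obj) :
    (AlgSp.HasAt (fun U u => IsRegularLocalRing ↥(U.presheaf.stalk u)) X.obj x ↔
      ∀ p : AlgSp.FieldPt X.obj, p.IsGeometric → AlgSp.Points.mk p = x → IsRegularLocalRing ↥(AlgSp.OEtStalk p)) ∧
    (AlgSp.HasAt (fun U u => IsRegularLocalRing ↥(U.presheaf.stalk u)) X.obj x ↔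
      ∃ p : AlgSp.FieldPt X.obj, p.IsGeometric ∧ AlgSp.Points.mk p = x ∧ IsRegularLocalRing ↥(AlgSp.OEtStalk p)) := by
  open Groth.Agent.Lib.Helper3.OEtSh Groth.Agent.Lib.Helper9.SpPoint in
  have h1 : AlgSp.HasAt (fun U u => IsRegularLocalRing ↥(U.presheaf.stalk u)) X.obj x →
      ∀ p : AlgSp.FieldPt X.obj, p.IsGeometric → AlgSp.Points.mk p = x →
        IsRegularLocalRing ↥(AlgSp.OEtStalk p) := by
    rintro ⟨U, a, u, ha, hau, hreg⟩ p hp hpx
    obtain ⟨l, hl⟩ := exists_lift_of_ofPt_eq_mk' p hp (EtOver.mk a ha) u (hau.trans hpx.symm)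
    subst hl
    exact (isRegularLocalRing_iff X p hp (EtOver.mk a ha) l).2 hreg
  have h2 : (∃ p : AlgSp.FieldPt X.obj, p.IsGeometric ∧ AlgSp.Points.mk p = x ∧
      IsRegularLocalRing ↥(AlgSp.OEtStalk p)) →
      AlgSp.HasAt (fun U u => IsRegularLocalRing ↥(U.presheaf.stalk u)) X.obj x := by
    rintro ⟨p, hp, hpx, hreg⟩
    obtain ⟨E, ⟨l⟩⟩ := exists_nbhd X p hp
    exact ⟨E.obj.left, E.obj.hom, l.1.left (default : Spec (CommRingCat.of p.K)), E.property,
      (ofPt_lift p E l default).trans hpx, (isRegularLocalRing_iff X p hp E l).1 hreg⟩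
  have h3 : (∀ p : AlgSp.FieldPt X.obj, p.IsGeometric → AlgSp.Points.mk p = x →
      IsRegularLocalRing ↥(AlgSp.OEtStalk p)) →
      ∃ p : AlgSp.FieldPt X.obj, p.IsGeometric ∧ AlgSp.Points.mk p = x ∧
        IsRegularLocalRing ↥(AlgSp.OEtStalk p) := by
    intro h
    obtain ⟨p, hp, hpx⟩ := exists_geometric_over x
    exact ⟨p, hp, hpx, h p hp hpx⟩
  exact ⟨⟨h1, fun h => h2 (h3 h)⟩, ⟨fun h => h3 (h1 h), h2⟩⟩

end Groth.Agent.S10232
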