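import Groth.Statements.S10233
import Mathlib
import Groth.Agent.S9876
import Groth.Agent.Lib.Helper12SubSp
import Groth.Agent.Lib.Helper12ImmDescent

set_option autoImplicit false
universe u
open CategoryTheory CategoryTheory.Limits AlgebraicGeometry Topology TopologicalSpace
open AlgSp

namespace Groth.Agent.S10233





/-- Let X be an algebraic space over a scheme S with a presentation (U, R, s, t, p), and let i' : Z' ⟶ U
be an immersion of schemes that is R-invariant, meaning that one locally closed subscheme R' of R is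
at the same time the inverse image of Z' under s and under t. Then Z' descends to a locally closed
subspace of X: there is a morphism of algebraic spaces i : Z ⟶ X representable by immersions
together with a map h_{Z'} ⟶ Z making h_{Z'} the fibre product Z ×_X h_U; moreover i is a closed
(resp. open) immersion when i' is. -/
theorem result {S : Scheme.{u}} (X : AlgSp.Space S) {R U : Over S} (s t : R ⟶ U)
    (p : (AlgSp.yon S).obj U ⟶ X.obj) (hp : AlgSp.IsPresentation s t p)
    {Z' R' : Scheme.{u}} (i' : Z' ⟶ U.left) [IsImmersion i'] (k : R' ⟶ R.left) (s' t' : R' ⟶ Z')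
    (hs : IsPullback k s' s.left i') (ht : IsPullback k t' t.left i') :
    ∃ (Z : AlgSp.Space S) (i : Z ⟶ X) (q : (AlgSp.yon S).obj (Over.mk (i' ≫ U.hom)) ⟶ Z.obj),
      AlgSp.RepWith @IsImmersion i.hom ∧
      IsPullback q ((AlgSp.yon S).map (Over.homMk i' rfl : Over.mk (i' ≫ U.hom) ⟶ U)) i.hom p ∧
      (IsClosedImmersion i' → AlgSp.RepWith @IsClosedImmersion i.hom) ∧
      (IsOpenImmersion i' → AlgSp.RepWith @IsOpenImmersion i.hom) := by
  obtain ⟨z, hz⟩ : ∃ z : Over.mk (i' ≫ U.hom) ⟶ U, z = Over.homMk i' rfl := ⟨_, rfl⟩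
  have hzl : z.left = i' := by rw [hz]; rfl
  haveI : IsImmersion z.left := by rw [hzl]; infer_instance
  haveI : Mono z.left := inferInstance
  have hinv : ∀ (A : Over S) (a : A ⟶ Over.mk (i' ≫ U.hom)) (b : A ⟶ U),
      (AlgSp.yon S).map (a ≫ z) ≫ p = (AlgSp.yon S).map b ≫ p →
      ∃ b' : A ⟶ Over.mk (i' ≫ U.hom), b' ≫ z = b := by
    intro A a b hab
    obtain ⟨ρ, hρ⟩ := (AlgSp.yon S).map_surjective (hp.isPullback.lift _ _ hab)
    have hρ1 : ρ ≫ t = a ≫ z := by
      apply (AlgSp.yon S).map_injective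
      rw [Functor.map_comp, hρ, hp.isPullback.lift_fst]
    have hρ2 : ρ ≫ s = b := by
      apply (AlgSp.yon S).map_injective
      rw [Functor.map_comp, hρ, hp.isPullback.lift_snd]
    have hw : ρ.left ≫ t.left = a.left ≫ i' := by
      rw [← Over.comp_left, hρ1, Over.comp_left, hzl]
    have hb'l : (ht.lift ρ.left a.left hw ≫ s') ≫ i' = b.left := by
      rw [Category.assoc, ← hs.w, ← Category.assoc, ht.lift_fst, ← Over.comp_left, hρ2]
    refine ⟨Over.homMk (ht.lift ρ.left a.left hw ≫ s') ?_, ?_⟩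
    · show (ht.lift ρ.left a.left hw ≫ s') ≫ (i' ≫ U.hom) = A.hom
      rw [← Category.assoc, hb'l, Over.w b]
    · apply Over.OverMorphism.ext
      rw [Over.comp_left, hzl]
      exact hb'l
  obtain ⟨Z, i, q, sqZ, hmono⟩ :=
    Groth.Agent.Lib.Helper12.SubSp.exists_subspace p hp.etale z hinv
  have himm : AlgSp.RepWith @IsImmersion i :=
    Groth.Agent.Lib.Helper12.ImmDescent.repWith_isImmersion_of_chart i p hp.etale hp.surjective q _
      sqZ ((AlgSp.repWith_yon_map_iff _ _).2 inferInstance)
  have hZ : AlgSp.IsAlgSpace Z := by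
    rw [← AlgSp.isAlgSpaceP_obj_iff]
    refine Groth.Agent.S9876.result S X Z.obj i.hom ?_
    intro T ξ
    obtain ⟨b, snd, fst, sq⟩ := himm.1 (ObjectProperty.homMk ξ : (AlgSp.yon S).obj T ⟶ X.obj)
    exact ⟨b, snd, fst.hom, sq.map (sheafToPresheaf _ _)⟩
  rw [← hz]
  refine ⟨⟨Z, hZ⟩, ObjectProperty.homMk i, q, himm, sqZ, fun hc => ?_, fun ho => ?_⟩
  · haveI : IsClosedImmersion z.left := by rw [hzl]; exact hc
    exact Groth.Agent.Lib.Helper12.ClosedDescent.repWith_isClosedImmersion_of_chart i p hp.etale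
      hp.surjective q _ sqZ ((AlgSp.repWith_yon_map_iff _ _).2 inferInstance)
  · haveI : IsOpenImmersion z.left := by rw [hzl]; exact ho
    exact Groth.Agent.Lib.Helper12.ImmDescent.repWith_isOpenImmersion_of_chart i p hp.etale
      hp.surjective q _ sqZ ((AlgSp.repWith_yon_map_iff _ _).2 inferInstance)

end Groth.Agent.S10233
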