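import Groth.Statements.S10239
import Groth.Agent.Lib.Helper3OEtShI
import Mathlib

set_option autoImplicit false
set_option linter.style.haveILetI false
universe u
open CategoryTheory CategoryTheory.Limits AlgebraicGeometry Topology TopologicalSpace
open AlgSp

namespace Groth.Agent.S10239

/-- (1) ⇔ (4) ⇔ (5): let X be an algebraic space over a scheme S, x ∈ |X| and n ≥ 1 an integer. The
following are equivalent: (1) for every scheme U, etale h_U ⟶ X and u ∈ U over x the local ring of U
at u has at most n minimal primes, and for some such (U, u) exactly n; (4) for every such (U, u) the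
number of geometric branches of U at u is n; (5) for every geometric point x̄ over x the etale local
ring of X at x̄ has exactly n minimal primes. -/
theorem result {S : Scheme.{u}} (X : AlgSp.Space S) (x : AlgSp.Points X.obj)
    (n : ℕ) (hn : 1 ≤ n) :
    (((∀ (U : Over S) (a : (AlgSp.yon S).obj U ⟶ X.obj) (u : ↥U.left),
        AlgSp.RepWith @Etale a → AlgSp.Points.ofPt a u = x → (minimalPrimes ↥(U.left.presheaf.stalk u)).encard ≤ n) ∧
        AlgSp.HasAt (fun U u => (minimalPrimes ↥(U.presheaf.stalk u)).encard = n) X.obj x) ↔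
      (∀ (U : Over S) (a : (AlgSp.yon S).obj U ⟶ X.obj) (u : ↥U.left),
        AlgSp.RepWith @Etale a → AlgSp.Points.ofPt a u = x → Brnch.numGeomBranchesAt U.left u = n)) ∧
    ((∀ (U : Over S) (a : (AlgSp.yon S).obj U ⟶ X.obj) (u : ↥U.left),
        AlgSp.RepWith @Etale a → AlgSp.Points.ofPt a u = x → Brnch.numGeomBranchesAt U.left u = n) ↔
      ∀ p : AlgSp.FieldPt X.obj, p.IsGeometric → AlgSp.Points.mk p = x →
        (minimalPrimes ↥(AlgSp.OEtStalk p)).encard = n) := by
  open Groth.Agent.Lib.Helper3.OEtSh Groth.Agent.Lib.Helper9.SpPoint in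
  have h13 : ((∀ (U : Over S) (a : (AlgSp.yon S).obj U ⟶ X.obj) (u : ↥U.left),
        AlgSp.RepWith @Etale a → AlgSp.Points.ofPt a u = x →
          (minimalPrimes ↥(U.left.presheaf.stalk u)).encard ≤ n) ∧
        AlgSp.HasAt (fun U u => (minimalPrimes ↥(U.presheaf.stalk u)).encard = n) X.obj x) →
      ∀ p : AlgSp.FieldPt X.obj, p.IsGeometric → AlgSp.Points.mk p = x →
        (minimalPrimes ↥(AlgSp.OEtStalk p)).encard = n := by
    rintro ⟨ha, U, a, u, hrep, hau, hcard⟩ p hp hpx
    apply le_antisymm
    · refine encard_minimalPrimes_le X p hp n ?_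
      intro E l
      exact ha E.obj.left E.obj.hom (l.1.left (default : Spec (CommRingCat.of p.K)))
        E.property ((ofPt_lift p E l default).trans hpx)
    · obtain ⟨l, hl⟩ := exists_lift_of_ofPt_eq_mk' p hp (EtOver.mk a hrep) u (hau.trans hpx.symm)
      have h1 := encard_stalk_le X p hp (EtOver.mk a hrep) l
      rw [hl] at h1
      exact hcard.symm.le.trans h1
  have h32 : (∀ p : AlgSp.FieldPt X.obj, p.IsGeometric → AlgSp.Points.mk p = x →
        (minimalPrimes ↥(AlgSp.OEtStalk p)).encard = n) →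
      ∀ (U : Over S) (a : (AlgSp.yon S).obj U ⟶ X.obj) (u : ↥U.left),
        AlgSp.RepWith @Etale a → AlgSp.Points.ofPt a u = x → Brnch.numGeomBranchesAt U.left u = n := by
    intro h U a u ha hau
    obtain ⟨p, hp, l, hl, hpx⟩ := exists_geometric_chart_point X a ha u
    have h1 := encard_minimalPrimes_OEtStalk X p hp (EtOver.mk a ha) l
    rw [hl, h p hp (hpx.trans hau)] at h1
    exact h1.symm
  have h23 : (∀ (U : Over S) (a : (AlgSp.yon S).obj U ⟶ X.obj) (u : ↥U.left),
        AlgSp.RepWith @Etale a → AlgSp.Points.ofPt a u = x → Brnch.numGeomBranchesAt U.left u = n) →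
      ∀ p : AlgSp.FieldPt X.obj, p.IsGeometric → AlgSp.Points.mk p = x →
        (minimalPrimes ↥(AlgSp.OEtStalk p)).encard = n := by
    intro h p hp hpx
    obtain ⟨E, ⟨l⟩⟩ := exists_nbhd X p hp
    rw [encard_minimalPrimes_OEtStalk X p hp E l]
    exact h E.obj.left E.obj.hom (l.1.left (default : Spec (CommRingCat.of p.K)))
      E.property ((ofPt_lift p E l default).trans hpx)
  have h21 : (∀ (U : Over S) (a : (AlgSp.yon S).obj U ⟶ X.obj) (u : ↥U.left),
        AlgSp.RepWith @Etale a → AlgSp.Points.ofPt a u = x → Brnch.numGeomBranchesAt U.left u = n) →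
      ((∀ (U : Over S) (a : (AlgSp.yon S).obj U ⟶ X.obj) (u : ↥U.left),
        AlgSp.RepWith @Etale a → AlgSp.Points.ofPt a u = x →
          (minimalPrimes ↥(U.left.presheaf.stalk u)).encard ≤ n) ∧
        AlgSp.HasAt (fun U u => (minimalPrimes ↥(U.presheaf.stalk u)).encard = n) X.obj x) := by
    intro h
    have ha : ∀ (U : Over S) (a : (AlgSp.yon S).obj U ⟶ X.obj) (u : ↥U.left),
        AlgSp.RepWith @Etale a → AlgSp.Points.ofPt a u = x →
          (minimalPrimes ↥(U.left.presheaf.stalk u)).encard ≤ n := by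
      intro U a u hrep hau
      obtain ⟨p, hp, l, hl, hpx⟩ := exists_geometric_chart_point X a hrep u
      have h1 := encard_stalk_le X p hp (EtOver.mk a hrep) l
      rw [hl, h23 h p hp (hpx.trans hau)] at h1
      exact h1
    refine ⟨ha, ?_⟩
    obtain ⟨p, hp, hpx⟩ := exists_geometric_over x
    obtain ⟨E, l, hE⟩ := exists_nbhd_encard_ge X p hp n (h23 h p hp hpx).symm.le
    have hx' : Points.ofPt E.obj.hom (l.1.left (default : Spec (CommRingCat.of p.K))) = x :=
      (ofPt_lift p E l default).trans hpx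
    exact ⟨E.obj.left, E.obj.hom, l.1.left (default : Spec (CommRingCat.of p.K)), E.property, hx',
      le_antisymm (ha E.obj.left E.obj.hom _ E.property hx') hE⟩
  exact ⟨⟨fun h => h32 (h13 h), h21⟩, ⟨h23, h32⟩⟩

end Groth.Agent.S10239
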