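import Groth.Statements.S10242
import Groth.Agent.Lib.Helper9SpGlob

set_option autoImplicit false
universe u
open CategoryTheory CategoryTheory.Limits AlgebraicGeometry Topology TopologicalSpace
open AlgSp

namespace Groth.Agent.S10242

/-- Let X be a reduced algebraic space over a scheme S. Then the ring of global sections of the
structure sheaf of X (on the small etale site) is reduced, and if a global section f satisfies X =
V(f), meaning that its restriction to every scheme U etale over X has empty non-vanishing locus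
D(f|_U), then f = 0. -/
theorem result {S : Scheme.{u}} (X : AlgSp.Space S) (hX : AlgSp.IsReducedSp X.obj) :
    _root_.IsReduced ↥(AlgSp.gsectEt (AlgSp.OEt X.obj)) ∧
      ∀ f : ↥(AlgSp.gsectEt (AlgSp.OEt X.obj)),
        (∀ E : AlgSp.EtOver X.obj,
            E.obj.left.left.basicOpen ((limit.π (AlgSp.OEt X.obj).obj (Opposite.op E)) f).down = ⊥) →
          f = 0 := by
  obtain ⟨U₀, a₀, ha, hs, hred⟩ := hX
  haveI : AlgebraicGeometry.IsReduced U₀.left := hred
  let A₀ : AlgSp.EtOver X.obj := AlgSp.EtOver.mk a₀ ha
  let π : ↥(AlgSp.gsectEt (AlgSp.OEt X.obj)) →+* Γ(U₀.left, ⊤) :=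
    (ULift.ringEquiv.{u, u + 1} (R := Γ(U₀.left, ⊤))).toRingHom.comp
      (limit.π (AlgSp.OEt X.obj).obj (Opposite.op A₀)).hom
  have hπ : Function.Injective π := by
    rw [injective_iff_map_eq_zero]
    intro a h
    apply Groth.Agent.Lib.Helper9.SpGlob.gsect_eq_zero a a₀ ha hs
    exact ULift.ext _ _ h
  constructor
  · exact isReduced_of_injective π hπ
  · intro f hf
    apply Groth.Agent.Lib.Helper9.SpGlob.gsect_eq_zero f a₀ ha hs
    have h1 := hf A₀
    have h2 := (AlgebraicGeometry.basicOpen_eq_bot_iff (X := U₀.left) _).1 h1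
    exact ULift.ext _ _ h2

end Groth.Agent.S10242
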