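import Groth.Statements.S10245
import Mathlib
import Groth.Agent.Lib.Helper11ActGrpd
import Groth.Agent.Lib.Helper11QFAff
import Groth.Agent.Lib.Helper11FfgEq2
import Groth.Agent.Lib.Helper11FfgMain
import Groth.Agent.Lib.Helper12QuotSh

set_option autoImplicit false
universe u
open CategoryTheory CategoryTheory.Limits MonoidalCategory CartesianMonoidalCategory MonObj AlgebraicGeometry Topology TopologicalSpace
open AlgSp

namespace Groth.Agent.S10245
open Groth.Agent.Lib.Helper11.ActGrpd Groth.Agent.Lib.Helper11.Ffg Groth.Agent.Lib.Helper11.GQ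

theorem orbitsAffine {S : Scheme.{u}} (G X : Over S) [GrpObj G]
    (a : AlgGrp.Action G X) (hG : Mor2.IsFinLocFree G.hom)
    (hfree : ∀ (T : Over S) (g : T ⟶ G) (x : T ⟶ X), lift g x ≫ a.act = x → g = toUnit T ≫ η[G])
    (h3 : IsAffineHom X.hom ∨ (∃ (R : CommRingCat.{u}) (i : X.left ⟶ Spec R), IsOpenImmersion i) ∨
      UniversallyInjective G.hom) : OrbitsAffine (grpd a hfree) := by
  intro x
  change ∃ V : X.left.Opens, IsAffineOpen V ∧
    (tA a).base '' ((sA (G := G) (X := X)).base ⁻¹' {x}) ⊆ (V : Set X.left)
  obtain ⟨f1, f2, f3⟩ := hG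
  haveI : IsFinite (sA (G := G) (X := X)) :=
    inferInstanceAs (IsFinite (pullback.snd G.hom X.hom))
  rcases h3 with h | ⟨R, i, hi⟩ | h
  · obtain ⟨W, hW, hxW, -⟩ :=
      exists_isAffineOpen_mem_and_subset (x := X.hom.base x) (U := ⊤) trivial
    refine ⟨X.hom ⁻¹ᵁ W, hW.preimage X.hom, ?_⟩
    rintro _ ⟨r, hr, rfl⟩
    have e : (tA a ≫ X.hom).base r = (sA (G := G) (X := X) ≫ X.hom).base r := by rw [hst a]
    have hr' : (sA (G := G) (X := X)).base r = x := hr
    change X.hom.base ((tA a).base r) ∈ W
    have e' : X.hom.base ((tA a).base r) = X.hom.base x := by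
      rw [← hr']
      exact e
    rw [e']
    exact hxW
  · have hfin : ((tA a).base '' ((sA (G := G) (X := X)).base ⁻¹' {x})).Finite :=
      (Scheme.Hom.finite_preimage_singleton sA x).image _
    exact Groth.Agent.Lib.Helper11.QFAff.exists_affine_of_finite_of_isOpenImmersion i _ hfin
  · haveI : UniversallyInjective (sA (G := G) (X := X)) :=
      MorphismProperty.pullback_snd (P := @UniversallyInjective) G.hom X.hom h
    obtain ⟨W, hW, hxW, -⟩ := exists_isAffineOpen_mem_and_subset (x := x) (U := ⊤) trivial
    refine ⟨W, hW, ?_⟩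
    rintro _ ⟨r, hr, rfl⟩
    have hr' : (sA (G := G) (X := X)).base r = x := hr
    have e1 : (sA (G := G) (X := X)).base ((eA (G := G) (X := X)).base x) = x := by
      have := congrArg (fun f => f.base x) (eA_s (G := G) (X := X))
      simpa using this
    have e2 : r = (eA (G := G) (X := X)).base x :=
      (sA (G := G) (X := X)).injective (hr'.trans e1.symm)
    have e3 : (tA a).base ((eA (G := G) (X := X)).base x) = x := by
      have := congrArg (fun f => f.base x) (eA_t a)
      simpa using this
    rw [e2, e3]
    exact hxW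


/-- Let G ⟶ S be a finite locally free group scheme over a scheme S acting on a scheme X over S by a : G
×_S X ⟶ X, freely on T-valued points for every S-scheme T. Assume one of the following: the
structure morphism X ⟶ S is affine; X admits an open immersion into some affine scheme; G ⟶ S is
radicial (universally injective). Then the fppf quotient sheaf X/G is a scheme M: there is q : X ⟶ M
over S exhibiting h_M as the quotient of h_X by the projection and the action G ×_S X ⇉ X in fppf
sheaves; moreover the square formed by the action, the projection and q is cartesian (G ×_S X ≅ X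
×_M X) and X ⟶ M has sections fppf locally on M, so that X ⟶ X/G is an fppf G-torsor. (The published
statement also allows X ⟶ S quasi-affine, projective or quasi-projective, or X an open subscheme of
Proj of a graded ring; those cases are not covered by this row.) -/
theorem result {S : Scheme.{u}} (G X : Over S) [GrpObj G]
    (a : AlgGrp.Action G X) (hG : Mor2.IsFinLocFree G.hom)
    (hfree : ∀ (T : Over S) (g : T ⟶ G) (x : T ⟶ X), lift g x ≫ a.act = x → g = toUnit T ≫ η[G])
    (h3 : IsAffineHom X.hom ∨ (∃ (R : CommRingCat.{u}) (i : X.left ⟶ Spec R), IsOpenImmersion i) ∨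
      UniversallyInjective G.hom) :
    ∃ (M : Over S) (q : X ⟶ M), QuotSh.IsQuotient Scheme.fppfPrecoverage (snd G X) a.act q ∧
      IsPullback a.act.left (snd G X).left q.left q.left ∧
      NonAbH1.IsLocallyTrivialFor Scheme.fppfPrecoverage (Over.mk q.left) := by
  have hb := orbitsAffine G X a hG hfree h3
  obtain ⟨f1, f2, f3⟩ := hG
  haveI : IsFinite (grpd a hfree).s := inferInstanceAs (IsFinite (pullback.snd G.hom X.hom))
  haveI : Flat (grpd a hfree).s := inferInstanceAs (Flat (pullback.snd G.hom X.hom))
  haveI : LocallyOfFinitePresentation (grpd a hfree).s :=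
    inferInstanceAs (LocallyOfFinitePresentation (pullback.snd G.hom X.hom))
  haveI : Mono (grpd a hfree).j := mono_j_grpd a hfree
  haveI : Fact (OrbitsAffine (grpd a hfree)) := ⟨hb⟩
  have hq := isGQ_quotMap (grpd a hfree) hb
  obtain ⟨pY, hpY⟩ := hq.exists_desc X.hom (hst a)
  obtain ⟨g1, g2, g3⟩ := isFinLocFree_quotMap (grpd a hfree) hb
  have hpb : IsPullback a.act.left (snd G X).left (quotMap (grpd a hfree) hb)
      (quotMap (grpd a hfree) hb) := isPullback_quotMap (grpd a hfree) hb
  haveI : Surjective (quotMap (grpd a hfree) hb) := ⟨hq.surj⟩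
  refine ⟨Over.mk pY, Over.homMk (quotMap (grpd a hfree) hb) hpY, ?_, hpb, ?_⟩
  · apply Groth.Agent.Lib.Helper12.QuotShLib.isQuotient_of_isKernelPair
    · refine IsPullback.of_map (Over.forget S) ?_ hpb.flip
      apply Over.OverMorphism.ext
      simp only [Over.comp_left, Over.homMk_left]
      exact hpb.w.symm
    · exact (quotMap (grpd a hfree) hb).singleton_mem_fppfPrecoverage
  · refine ⟨Presieve.singleton (quotMap (grpd a hfree) hb),
      (quotMap (grpd a hfree) hb).singleton_mem_fppfPrecoverage, ?_⟩
    rintro S' f ⟨⟩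
    exact ⟨𝟙 _, Category.id_comp _⟩

end Groth.Agent.S10245
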