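import Groth.Statements.S10246
import Mathlib
import Groth.Agent.S9872
import Groth.Agent.S9927

set_option autoImplicit false
universe u
open CategoryTheory CategoryTheory.Limits AlgebraicGeometry Topology TopologicalSpace
open AlgSp

namespace Groth.Agent.S10246


/-- a morphism to an affine scheme with prescribed map on global sections. -/
lemma exists_hom_of_ringHom {Y T : Scheme.{u}} [IsAffine T] (ψ : Γ(T, ⊤) →+* Γ(Y, ⊤)) :
    ∃ g : Y ⟶ T, g.appTop.hom = ψ := by
  refine ⟨Y.toSpecΓ ≫ Spec.map (CommRingCat.ofHom ψ) ≫ T.isoSpec.inv, ?_⟩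
  have h1 : T.isoSpec.inv.appTop ≫ (Scheme.ΓSpecIso Γ(T, ⊤)).hom = 𝟙 _ := by
    rw [← Scheme.toSpecΓ_appTop, ← Scheme.Hom.comp_appTop]
    have : T.toSpecΓ ≫ T.isoSpec.inv = 𝟙 T := T.isoSpec.hom_inv_id
    rw [this]; rfl
  simp only [Scheme.Hom.comp_appTop, Scheme.toSpecΓ_appTop, CommRingCat.hom_comp]
  have h2 : (Spec.map (CommRingCat.ofHom ψ)).appTop ≫ (Scheme.ΓSpecIso Γ(Y, ⊤)).hom =
      (Scheme.ΓSpecIso Γ(T, ⊤)).hom ≫ CommRingCat.ofHom ψ :=
    Scheme.ΓSpecIso_naturality (CommRingCat.ofHom ψ)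
  have h3 : T.isoSpec.inv.appTop ≫ (Spec.map (CommRingCat.ofHom ψ)).appTop ≫
      (Scheme.ΓSpecIso Γ(Y, ⊤)).hom = CommRingCat.ofHom ψ := by
    rw [h2, ← Category.assoc, h1, Category.id_comp]
  have h4 := congrArg CommRingCat.Hom.hom h3
  simp only [CommRingCat.hom_comp, CommRingCat.hom_ofHom] at h4
  exact h4




/-- Let X be an algebraic space over a terminal base scheme (so that morphisms over the base are all
morphisms) and T an affine scheme. Then f ↦ f♯ is a bijection from morphisms X ⟶ T to ring maps Γ(T,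
O_T) ⟶ Γ(X, O_X), where Γ(X, O_X) is the ring of global sections of the structure sheaf on the small
etale site and f♯ is characterised by: for every scheme U etale over X, following f♯ by the
restriction Γ(X, O_X) ⟶ Γ(U, O_U) gives the map on global sections of the induced morphism U ⟶ T. -/
theorem result {S : Scheme.{u}} (hS : IsTerminal S) (X : AlgSp.Space S)
    (T : Over S) [IsAffine T.left] (φ : Γ(T.left, ⊤) →+* ↥(AlgSp.gsectEt (AlgSp.OEt X.obj))) :
    ∃! f : X.obj ⟶ (AlgSp.yon S).obj T,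
      ∀ (E : AlgSp.EtOver X.obj) (r : Γ(T.left, ⊤)),
        ((limit.π (AlgSp.OEt X.obj).obj (Opposite.op E)) (φ r)).down =
          ((AlgSp.yon S).preimage (E.obj.hom ≫ f)).left.appTop r := by
  classical
  -- the ring maps φ_E
  let φE : ∀ E : AlgSp.EtOver X.obj, Γ(T.left, ⊤) →+* Γ(E.obj.left.left, ⊤) := fun E =>
    (ULift.ringEquiv : ULift.{u + 1} Γ(E.obj.left.left, ⊤) ≃+* _).toRingHom.comp
      ((limit.π (AlgSp.OEt X.obj).obj (Opposite.op E)).hom.comp φ)
  have hφE_apply : ∀ E r, φE E r =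
      ((limit.π (AlgSp.OEt X.obj).obj (Opposite.op E)) (φ r)).down := fun _ _ => rfl
  -- naturality
  have hnat : ∀ {E E' : AlgSp.EtOver X.obj} (g : E ⟶ E') (r : Γ(T.left, ⊤)),
      g.hom.left.left.appTop.hom (φE E' r) = φE E r := by
    intro E E' g r
    have h1 := limit.w (AlgSp.OEt X.obj).obj g.op
    have h2 : ((AlgSp.OEt X.obj).obj.map g.op)
        ((limit.π (AlgSp.OEt X.obj).obj (Opposite.op E')) (φ r)) =
        (limit.π (AlgSp.OEt X.obj).obj (Opposite.op E)) (φ r) := by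
      rw [← h1]; rfl
    rw [hφE_apply, hφE_apply, ← h2]
    rfl
  -- the morphisms F_E
  have hF : ∀ E : AlgSp.EtOver X.obj, ∃ F : E.obj.left ⟶ T, F.left.appTop.hom = φE E := by
    intro E
    obtain ⟨g, hg⟩ := exists_hom_of_ringHom (Y := E.obj.left.left) (T := T.left) (φE E)
    exact ⟨Over.homMk g (hS.hom_ext _ _), hg⟩
  choose F hF using hF
  have hFnat : ∀ {E E' : AlgSp.EtOver X.obj} (g : E ⟶ E'), g.hom.left ≫ F E' = F E := by
    intro E E' g
    apply Over.OverMorphism.ext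
    apply ext_of_isAffine
    apply CommRingCat.hom_ext
    ext r
    rw [Over.comp_left, Scheme.Hom.comp_appTop, CommRingCat.hom_comp, RingHom.comp_apply, hF, hF]
    exact hnat g r
  -- an atlas and its relation
  obtain ⟨U, a, hae, has⟩ := X.property.atlas
  obtain ⟨R, s, t', sq0⟩ := hae.1 a
  obtain ⟨t, rfl⟩ := (AlgSp.yon S).map_surjective t'
  obtain ⟨-, ⟨hcolim⟩⟩ := Groth.Agent.S9872.result S X.obj X.property a hae has s t sq0
  haveI hepi : Epi a := Groth.Agent.S9927.epi_of_repWith a hae has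
  have het : Etale t.left := hae.2 a _ t sq0.flip
  have haeR : AlgSp.RepWith @Etale ((AlgSp.yon S).map t ≫ a) :=
    (AlgSp.repWith_isMultiplicative (S := S) @Etale).comp_mem _ _
      ((AlgSp.repWith_yon_map_iff _ _).2 het) hae
  let EU : AlgSp.EtOver X.obj := AlgSp.EtOver.mk a hae
  let ER : AlgSp.EtOver X.obj := AlgSp.EtOver.mk ((AlgSp.yon S).map t ≫ a) haeR
  let tR : ER ⟶ EU := AlgSp.EtOver.homMk t rfl
  let sR : ER ⟶ EU := AlgSp.EtOver.homMk s sq0.w.symm
  have hcoeq : (AlgSp.yon S).map t ≫ (AlgSp.yon S).map (F EU) =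
      (AlgSp.yon S).map s ≫ (AlgSp.yon S).map (F EU) := by
    rw [← Functor.map_comp, ← Functor.map_comp]
    have h1 : t ≫ F EU = F ER := hFnat tR
    have h2 : s ≫ F EU = F ER := hFnat sR
    rw [h1, h2]
  obtain ⟨f, hf⟩ : ∃ f : X.obj ⟶ (AlgSp.yon S).obj T, a ≫ f = (AlgSp.yon S).map (F EU) :=
    ⟨Cofork.IsColimit.desc hcolim _ hcoeq, Cofork.IsColimit.π_desc hcolim⟩
  -- compatibility with every object of the small etale site
  have key : ∀ E : AlgSp.EtOver X.obj, E.obj.hom ≫ f = (AlgSp.yon S).map (F E) := by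
    intro E
    obtain ⟨W, w2, w1', sqW⟩ := E.property.1 a
    obtain ⟨w1, rfl⟩ := (AlgSp.yon S).map_surjective w1'
    -- sqW : IsPullback (yon w1) (yon w2) E.obj.hom a
    have hw1e : Etale w1.left := hae.2 E.obj.hom _ w1 sqW.flip
    have hw1s : Surjective w1.left := has.2 E.obj.hom _ w1 sqW.flip
    haveI : Epi ((AlgSp.yon S).map w1) :=
      Groth.Agent.S9927.epi_of_repWith _ ((AlgSp.repWith_yon_map_iff _ _).2 hw1e)
        ((AlgSp.repWith_yon_map_iff _ _).2 hw1s)
    have hEW : AlgSp.RepWith @Etale ((AlgSp.yon S).map w1 ≫ E.obj.hom) :=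
      (AlgSp.repWith_isMultiplicative (S := S) @Etale).comp_mem _ _
        ((AlgSp.repWith_yon_map_iff _ _).2 hw1e) E.property
    let EW : AlgSp.EtOver X.obj := AlgSp.EtOver.mk ((AlgSp.yon S).map w1 ≫ E.obj.hom) hEW
    let w1E : EW ⟶ E := AlgSp.EtOver.homMk w1 rfl
    let w2E : EW ⟶ EU := AlgSp.EtOver.homMk w2 sqW.w.symm
    have h1 : w1 ≫ F E = F EW := hFnat w1E
    have h2 : w2 ≫ F EU = F EW := hFnat w2E
    rw [← cancel_epi ((AlgSp.yon S).map w1), ← Category.assoc, sqW.w, Category.assoc, hf,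
      ← Functor.map_comp, ← Functor.map_comp, h1, h2]
  refine ⟨f, fun E r => ?_, fun f' hf' => ?_⟩
  · have h1 : (AlgSp.yon S).preimage (E.obj.hom ≫ f) = F E :=
      (AlgSp.yon S).map_injective (by rw [Functor.map_preimage]; exact key E)
    rw [h1, ← hφE_apply]
    exact (congrArg (fun ψ : Γ(T.left, ⊤) →+* Γ(E.obj.left.left, ⊤) => ψ r) (hF E)).symm
  · rw [← cancel_epi a, hf]
    have h1 : (AlgSp.yon S).preimage (a ≫ f') = F EU := by
      apply Over.OverMorphism.ext
      apply ext_of_isAffine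
      apply CommRingCat.hom_ext
      ext r
      rw [hF]
      exact (hf' EU r).symm
    rw [← h1, Functor.map_preimage]

end Groth.Agent.S10246
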