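import Groth.Statements.S10247
import Groth.Agent.Lib.Helper9SpEt

set_option autoImplicit false
universe u
open CategoryTheory CategoryTheory.Limits AlgebraicGeometry Topology TopologicalSpace
open AlgSp

namespace Groth.Agent.S10247

/-- Let X be an algebraic space over a scheme S. Together with its structure sheaf O_X, the small etale
site of X is a locally ringed site: for every scheme U etale over X and every global function f on U
there is a covering sieve of U in the small etale site along each of whose arrows f or 1 - f pulls
back to a unit, and whenever 0 = 1 holds in the ring of global functions of U the empty sieve covers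
U. -/
theorem result {S : Scheme.{u}} (X : AlgSp.Space S) :
    ModSite.IsLocallyRinged (AlgSp.etTop X.obj) (AlgSp.OEt X.obj) := by
  have hunit : ∀ (Y : Scheme.{u}) (r : Γ(Y, ⊤)), (∀ y : Y, y ∈ Y.basicOpen r) → IsUnit r := by
    intro Y r h
    apply RingedSpace.isUnit_of_isUnit_germ
    intro y hy
    exact (Y.mem_basicOpen_top r y).1 (h y)
  have hup : ∀ {R : Type u} [CommRing R] (a : R), IsUnit a → IsUnit (ULift.up.{u + 1} a) := by
    intro R _ a ha
    exact ha.map (ULift.ringEquiv.{u, u + 1} (R := R)).symm
  constructor
  · intro U f
    let s : Γ(U.obj.left.left, ⊤) := f.down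
    let T : Sieve U :=
      { arrows := fun V g =>
          (∀ y : V.obj.left.left, g.hom.left.left y ∈ U.obj.left.left.basicOpen s) ∨
          (∀ y : V.obj.left.left, g.hom.left.left y ∈ U.obj.left.left.basicOpen (1 - s))
        downward_closed := by
          rintro V V' g (h | h) k
          · exact Or.inl fun y => h (k.hom.left.left y)
          · exact Or.inr fun y => h (k.hom.left.left y) }
    refine ⟨T, ?_, ?_⟩
    · rw [Groth.Agent.Lib.Helper9.SpEt.mem_etTop_iff]
      intro x
      have hx : x ∈ U.obj.left.left.basicOpen s ∨ x ∈ U.obj.left.left.basicOpen (1 - s) := by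
        rw [Scheme.mem_basicOpen_top, Scheme.mem_basicOpen_top, map_sub, map_one]
        exact IsLocalRing.isUnit_or_isUnit_one_sub_self _
      rcases hx with hx | hx
      · refine ⟨Groth.Agent.Lib.Helper9.SpEt.openObj X.obj U (U.obj.left.left.basicOpen s),
          Groth.Agent.Lib.Helper9.SpEt.openHom X.obj U _, ⟨x, hx⟩, Or.inl ?_, rfl⟩
        intro y
        exact y.2
      · refine ⟨Groth.Agent.Lib.Helper9.SpEt.openObj X.obj U (U.obj.left.left.basicOpen (1 - s)),
          Groth.Agent.Lib.Helper9.SpEt.openHom X.obj U _, ⟨x, hx⟩, Or.inr ?_, rfl⟩
        intro y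
        exact y.2
    · rintro V g (h | h)
      · left
        change IsUnit (ULift.up.{u + 1} (g.hom.left.left.appTop.hom s))
        apply hup
        apply hunit
        intro y
        rw [← Scheme.preimage_basicOpen_top]
        exact h y
      · right
        change IsUnit (ULift.up.{u + 1} (g.hom.left.left.appTop.hom (1 - s)))
        apply hup
        apply hunit
        intro y
        rw [← Scheme.preimage_basicOpen_top]
        exact h y
  · intro U h01
    rw [Groth.Agent.Lib.Helper9.SpEt.mem_etTop_iff]
    intro x
    exfalso
    have h01' : (0 : Γ(U.obj.left.left, ⊤)) = 1 := congrArg ULift.down h01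
    have h2 := congrArg (U.obj.left.left.presheaf.germ ⊤ x trivial).hom h01'
    rw [map_zero, map_one] at h2
    exact zero_ne_one h2

end Groth.Agent.S10247
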