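import Groth.Statements.S10248
import Groth.Agent.Lib.Helper9SpPoint8
import Groth.Agent.Lib.Helper9EtDim

set_option autoImplicit false
universe u
open CategoryTheory CategoryTheory.Limits AlgebraicGeometry Topology TopologicalSpace
open AlgSp

namespace Groth.Agent.S10248

/-- (1) ⇔ (2): let X be an algebraic space over a scheme S, x ∈ |X| and d ∈ {0, 1, 2, …, ∞}. The local
ring of X at x has dimension d in the sense that some etale chart h_U ⟶ X from a scheme U and some
point u of U over x have a local ring of Krull dimension d, if and only if for every scheme U, every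
representable etale h_U ⟶ X and every point u of U mapping to x the local ring of U at u has Krull
dimension d. In particular the dimension of the local ring of an etale chart at a point over x does
not depend on the chart. -/
theorem result {S : Scheme.{u}} (X : AlgSp.Space S)
    (x : AlgSp.Points X.obj) (d : WithBot ℕ∞) :
    AlgSp.HasAt (fun U u => ringKrullDim ↥(U.presheaf.stalk u) = d) X.obj x ↔
      ∀ (U : Over S) (a : (AlgSp.yon S).obj U ⟶ X.obj) (u : ↥U.left),
        AlgSp.RepWith @Etale a → AlgSp.Points.ofPt a u = x → ringKrullDim ↥(U.left.presheaf.stalk u) = d := by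
  have key : ∀ (U U' : Over S) (a : (AlgSp.yon S).obj U ⟶ X.obj) (a' : (AlgSp.yon S).obj U' ⟶ X.obj)
      (u : ↥U.left) (u' : ↥U'.left), AlgSp.RepWith @Etale a → AlgSp.RepWith @Etale a' →
      AlgSp.Points.ofPt a u = AlgSp.Points.ofPt a' u' →
      ringKrullDim ↥(U.left.presheaf.stalk u) = ringKrullDim ↥(U'.left.presheaf.stalk u') := by
    intro U U' a a' u u' ha ha' h
    let A : AlgSp.EtOver X.obj := AlgSp.EtOver.mk a ha
    let A' : AlgSp.EtOver X.obj := AlgSp.EtOver.mk a' ha'
    obtain ⟨z, hz1, hz2⟩ := Groth.Agent.Lib.Helper9.SpPoint.exists_common_refinement A A' u u' h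
    haveI := AlgSp.EtOver.etale_left (AlgSp.EtOver.prodFst A A')
    haveI := AlgSp.EtOver.etale_left (AlgSp.EtOver.prodSnd A A')
    have h1 := Groth.Agent.Lib.Helper9.EtDim.ringKrullDim_stalk_eq_of_etale
      (AlgSp.EtOver.prodFst A A').hom.left.left z
    have h2 := Groth.Agent.Lib.Helper9.EtDim.ringKrullDim_stalk_eq_of_etale
      (AlgSp.EtOver.prodSnd A A').hom.left.left z
    rw [hz1] at h1
    rw [hz2] at h2
    exact h1.symm.trans h2
  constructor
  · rintro ⟨U₀, a₀, u₀, ha₀, hu₀, hd⟩ U a u ha hu
    rw [← hd]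
    exact key U U₀ a a₀ u u₀ ha ha₀ (hu.trans hu₀.symm)
  · intro h
    obtain ⟨U₀, a₀, ha, hs⟩ := X.property.atlas
    obtain ⟨z, hz⟩ := Groth.Agent.S9906.surjective_map_of_repWith a₀ hs x
    obtain ⟨t, rfl⟩ := (AlgSp.Points.schemeEquiv U₀).surjective z
    have ht : AlgSp.Points.ofPt a₀ t = x := by
      rw [AlgSp.Points.ofPt_eq_map_ofScheme]
      exact hz
    exact ⟨U₀, a₀, t, ha, ht, h U₀ a₀ t ha ht⟩

end Groth.Agent.S10248
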