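import Groth.Statements.S10249
import Groth.Agent.Lib.Helper9SpPoint8
import Groth.Agent.Lib.Helper9EtDim

set_option autoImplicit false
universe u
open CategoryTheory CategoryTheory.Limits AlgebraicGeometry Topology TopologicalSpace
open AlgSp

namespace Groth.Agent.S10249

/-- Let X and Y be algebraic spaces over a scheme S, f : X ⟶ Y an etale morphism and x ∈ |X| with image
y ∈ |Y|. Then (1) X at x and Y at y have the same dimension: for every d, some etale chart h_U ⟶ X
from a scheme U and some point u of U over x have local dimension d (of the topological space U at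
u) if and only if the same holds for Y at y; and (2) the local rings of X at x and of Y at y have
the same Krull dimension, in the same some-chart sense with the Krull dimension of the local ring of
U at u. -/
theorem result {S : Scheme.{u}} {X Y : AlgSp.Space S} (f : X ⟶ Y)
    (hf : AlgSp.IsEtaleMor f.hom) (x : AlgSp.Points X.obj) :
    (∀ d : WithBot ℕ∞,
        AlgSp.HasAt (fun U u => FlatMor.localDim ↥U u = d) X.obj x ↔
          AlgSp.HasAt (fun U u => FlatMor.localDim ↥U u = d) Y.obj (AlgSp.Points.map f.hom x)) ∧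
    (∀ d : WithBot ℕ∞,
        AlgSp.HasAt (fun U u => ringKrullDim ↥(U.presheaf.stalk u) = d) X.obj x ↔
          AlgSp.HasAt (fun U u => ringKrullDim ↥(U.presheaf.stalk u) = d) Y.obj (AlgSp.Points.map f.hom x)) := by
  have key : ∀ Q : (∀ U : Scheme.{u}, ↥U → Prop),
      (∀ {W V : Scheme.{u}} (g : W ⟶ V) [Etale g] (w : ↥W), Q W w ↔ Q V (g w)) →
      (AlgSp.HasAt Q X.obj x ↔ AlgSp.HasAt Q Y.obj (AlgSp.Points.map f.hom x)) := by
    intro Q hQ
    constructor
    · rintro ⟨U, a, u, ha, hux, hq⟩
      refine ⟨U, a ≫ f.hom, u, hf a ha, ?_, hq⟩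
      rw [← AlgSp.Points.map_ofPt, hux]
    · rintro ⟨V, b, v, hb, hv, hq⟩
      obtain ⟨U₀, a₀, ha, hs⟩ := X.property.atlas
      obtain ⟨z, hz⟩ := Groth.Agent.S9906.surjective_map_of_repWith a₀ hs x
      obtain ⟨t, rfl⟩ := (AlgSp.Points.schemeEquiv U₀).surjective z
      have ht : AlgSp.Points.ofPt a₀ t = x := by
        rw [AlgSp.Points.ofPt_eq_map_ofScheme]
        exact hz
      refine ⟨U₀, a₀, t, ha, ht, ?_⟩
      let A : AlgSp.EtOver Y.obj := AlgSp.EtOver.mk (a₀ ≫ f.hom) (hf a₀ ha)
      let B : AlgSp.EtOver Y.obj := AlgSp.EtOver.mk b hb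
      have hAB : AlgSp.Points.ofPt A.obj.hom t = AlgSp.Points.ofPt B.obj.hom v := by
        change AlgSp.Points.ofPt (a₀ ≫ f.hom) t = AlgSp.Points.ofPt b v
        rw [← AlgSp.Points.map_ofPt, ht, hv]
      obtain ⟨z, hz1, hz2⟩ := Groth.Agent.Lib.Helper9.SpPoint.exists_common_refinement A B t v hAB
      haveI := AlgSp.EtOver.etale_left (AlgSp.EtOver.prodFst A B)
      haveI := AlgSp.EtOver.etale_left (AlgSp.EtOver.prodSnd A B)
      have h1 := hQ (AlgSp.EtOver.prodFst A B).hom.left.left z
      have h2 := hQ (AlgSp.EtOver.prodSnd A B).hom.left.left z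
      rw [hz1] at h1
      rw [hz2] at h2
      exact h1.1 (h2.2 hq)
  refine ⟨fun d => key (fun U u => FlatMor.localDim ↥U u = d) ?_,
    fun d => key (fun U u => ringKrullDim ↥(U.presheaf.stalk u) = d) ?_⟩
  · intro W V g _ w
    change FlatMor.localDim ↥W w = d ↔ FlatMor.localDim ↥V (g w) = d
    rw [Groth.Agent.Lib.Helper9.EtDim.localDim_eq_of_etale g w]
  · intro W V g _ w
    change ringKrullDim ↥(W.presheaf.stalk w) = d ↔ ringKrullDim ↥(V.presheaf.stalk (g w)) = d
    rw [Groth.Agent.Lib.Helper9.EtDim.ringKrullDim_stalk_eq_of_etale g w]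

end Groth.Agent.S10249
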