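import Groth.Statements.S10250
import Groth.Agent.Lib.Helper9SpPoint8
import Groth.Agent.Lib.Helper9EtDim

set_option autoImplicit false
universe u
open CategoryTheory CategoryTheory.Limits AlgebraicGeometry Topology TopologicalSpace
open AlgSp

namespace Groth.Agent.S10250

/-- Let f : X ⟶ Y be an etale and surjective morphism of algebraic spaces over a scheme S. Then X and Y
have the same dimension (the dimension of an algebraic space being the supremum of the Krull
dimensions of the schemes etale over it). -/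
theorem result {S : Scheme.{u}} {X Y : AlgSp.Space S} (f : X ⟶ Y)
    (hf : AlgSp.IsEtaleMor f.hom) (hs : AlgSp.IsSurjectiveMor f.hom) :
    AlgSp.dim X.obj = AlgSp.dim Y.obj := by
  unfold AlgSp.dim
  apply le_antisymm
  · refine iSup_le fun U => iSup_le fun a => iSup_le fun ha => ?_
    exact le_iSup_of_le U (le_iSup_of_le (a ≫ f.hom) (le_iSup_of_le (hf a ha) le_rfl))
  · refine iSup_le fun V => iSup_le fun b => iSup_le fun hb => ?_
    rw [Groth.Agent.Lib.Helper9.EtDim.topologicalKrullDim_le_iff]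
    intro v
    obtain ⟨x, hx⟩ := hs (AlgSp.Points.ofPt b v)
    obtain ⟨U₀, a₀, ha, hsur⟩ := X.property.atlas
    obtain ⟨z, hz⟩ := Groth.Agent.S9906.surjective_map_of_repWith a₀ hsur x
    obtain ⟨t, rfl⟩ := (AlgSp.Points.schemeEquiv U₀).surjective z
    have ht : AlgSp.Points.ofPt a₀ t = x := by
      rw [AlgSp.Points.ofPt_eq_map_ofScheme]
      exact hz
    let A : AlgSp.EtOver Y.obj := AlgSp.EtOver.mk (a₀ ≫ f.hom) (hf a₀ ha)
    let B : AlgSp.EtOver Y.obj := AlgSp.EtOver.mk b hb
    have hAB : AlgSp.Points.ofPt A.obj.hom t = AlgSp.Points.ofPt B.obj.hom v := by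
      change AlgSp.Points.ofPt (a₀ ≫ f.hom) t = AlgSp.Points.ofPt b v
      rw [← AlgSp.Points.map_ofPt, ht, hx]
    obtain ⟨z, hz1, hz2⟩ := Groth.Agent.Lib.Helper9.SpPoint.exists_common_refinement A B t v hAB
    haveI := AlgSp.EtOver.etale_left (AlgSp.EtOver.prodFst A B)
    haveI := AlgSp.EtOver.etale_left (AlgSp.EtOver.prodSnd A B)
    have h1 := Groth.Agent.Lib.Helper9.EtDim.ringKrullDim_stalk_eq_of_etale
      (AlgSp.EtOver.prodFst A B).hom.left.left z
    have h2 := Groth.Agent.Lib.Helper9.EtDim.ringKrullDim_stalk_eq_of_etale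
      (AlgSp.EtOver.prodSnd A B).hom.left.left z
    rw [hz1] at h1
    rw [hz2] at h2
    have h3 : ringKrullDim ↥(V.left.presheaf.stalk v) = ringKrullDim ↥(U₀.left.presheaf.stalk t) :=
      h2.symm.trans h1
    rw [h3]
    refine le_trans ?_ (le_iSup_of_le U₀ (le_iSup_of_le a₀ (le_iSup_of_le ha le_rfl)))
    exact (Groth.Agent.Lib.Helper9.EtDim.topologicalKrullDim_le_iff U₀.left _).1 le_rfl t

end Groth.Agent.S10250
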