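import Groth.Statements.S10256
import Groth.Agent.Lib.Helper9SpPoint5

set_option autoImplicit false
universe u
open CategoryTheory CategoryTheory.Limits AlgebraicGeometry Topology TopologicalSpace
open AlgSp

namespace Groth.Agent.S10256

/-- Let X be an algebraic space over a scheme S, F an abelian sheaf on the small etale site of X and x ∈
|X|. Then x lies in the support of F, in the sense that the stalk F_x̄ is nonzero for some geometric
point x̄ over x, if and only if x is the image of a point u of some U etale over X lying in the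
support of some section σ ∈ F(U), i.e. such that σ does not restrict to zero on any V ⟶ U whose
image contains u. (The published definition of the support allows any, equivalently some, geometric
point over x; this row uses the existential form and does not assert that the two readings agree.) -/
theorem result {S : Scheme.{u}} (X : AlgSp.Space S) (F : AlgSp.AbEt X.obj)
    (x : AlgSp.Points X.obj) :
    (∃ p : AlgSp.FieldPt X.obj, p.IsGeometric ∧ AlgSp.Points.mk p = x ∧ ¬ IsZero (AlgSp.stalkEt p F)) ↔
      ∃ (U : AlgSp.EtOver X.obj) (σ : ↥(F.obj.obj (Opposite.op U))) (u : ↥U.obj.left.left),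
        AlgSp.Points.ofPt U.obj.hom u = x ∧
          ∀ (V : AlgSp.EtOver X.obj) (φ : V ⟶ U), (F.obj.map φ.op).hom σ = 0 →
            u ∉ Set.range (fun v => φ.hom.left.left v) := by
  constructor
  · rintro ⟨p, hp, hx, hnz⟩
    have hns : ¬ Subsingleton ↥(AlgSp.stalkEt p F) :=
      fun h => hnz (AddCommGrpCat.isZero_of_subsingleton _)
    rw [not_subsingleton_iff_nontrivial] at hns
    obtain ⟨a, ha⟩ := exists_ne (0 : ↥(AlgSp.stalkEt p F))
    obtain ⟨U, l, σ, hσ⟩ := Groth.Agent.Lib.Helper9.SpPoint.germ_surjective X F p hp a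
    refine ⟨U, σ, l.1.left (default : Spec (CommRingCat.of p.K)), ?_, ?_⟩
    · rw [Groth.Agent.Lib.Helper9.SpPoint.ofPt_lift]
      exact hx
    · rintro V φ h0 ⟨v, hv⟩
      apply ha
      rw [← hσ, Groth.Agent.Lib.Helper9.SpPoint.germ_eq_zero_iff_mem X F U σ p hp l]
      exact ⟨V, φ, v, h0, hv⟩
  · rintro ⟨U, σ, u, hx, hu⟩
    obtain ⟨p, hp, l, hl⟩ := Groth.Agent.Lib.Helper9.SpPoint.exists_geometric_lift U u
    refine ⟨p, hp, ?_, ?_⟩
    · rw [← hx, ← hl, Groth.Agent.Lib.Helper9.SpPoint.ofPt_lift]
    · intro hz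
      haveI := AddCommGrpCat.subsingleton_of_isZero hz
      have h0 : (AlgSp.stalkEtι p F ⟨U, l⟩).hom σ = 0 := Subsingleton.elim _ _
      rw [Groth.Agent.Lib.Helper9.SpPoint.germ_eq_zero_iff_mem X F U σ p hp l] at h0
      obtain ⟨V, φ, v, h0', hv⟩ := h0
      exact hu V φ h0' ⟨v, hv.trans hl⟩

end Groth.Agent.S10256
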