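import Groth.Statements.S10257
import Groth.Agent.Lib.Helper9SpPoint6

set_option autoImplicit false
universe u
open CategoryTheory CategoryTheory.Limits AlgebraicGeometry Topology TopologicalSpace
open AlgSp

namespace Groth.Agent.S10257

/-- Let X be an algebraic space over a scheme S and O' a sheaf of commutative rings on the small etale
site of X. Then the support of O', the set of points x ∈ |X| such that the stalk O'_x̄ is not the
zero ring for some geometric point x̄ over x, is closed in |X|. (The published definition of the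
support allows any, equivalently some, geometric point over x; this row uses the existential form
and does not assert that the two readings agree.) -/
theorem result {S : Scheme.{u}} (X : AlgSp.Space S)
    (O' : AlgSp.EtSh X.obj CommRingCat.{u + 1}) :
    IsClosed {x : AlgSp.Points X.obj |
      ∃ p : AlgSp.FieldPt X.obj, p.IsGeometric ∧ AlgSp.Points.mk p = x ∧ Nontrivial ↥(AlgSp.stalkEt p O')} := by
  haveI : HasColimitsOfSize.{u, u} CommRingCat.{u + 1} :=
    hasColimitsOfSizeShrink.{u, u, u + 1, u + 1} _
  haveI : PreservesFilteredColimitsOfSize.{u, u} (forget CommRingCat.{u + 1}) :=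
    preservesFilteredColimitsOfSize_shrink.{u, u + 1, u, u + 1} _
  let W : Set (AlgSp.Points X.obj) :=
    ⋃ (V : AlgSp.EtOver X.obj) (_ : (1 : ↥(O'.obj.obj (Opposite.op V))) = 0),
      Set.range (AlgSp.Points.ofPt V.obj.hom)
  have hW : IsOpen W := isOpen_iUnion fun V => isOpen_iUnion fun _ =>
    (Groth.Agent.Lib.Helper9.SpPoint.isOpenMap_ofPt V).isOpen_range
  have key : {x : AlgSp.Points X.obj |
      ∃ p : AlgSp.FieldPt X.obj, p.IsGeometric ∧ AlgSp.Points.mk p = x ∧
        Nontrivial ↥(AlgSp.stalkEt p O')} = Wᶜ := by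
    ext x
    constructor
    · rintro ⟨p, hp, hx, hnt⟩ hxW
      simp only [W, Set.mem_iUnion, Set.mem_range] at hxW
      obtain ⟨V, h10, v, hv⟩ := hxW
      obtain ⟨l⟩ := Groth.Agent.Lib.Helper9.SpPoint.exists_lift_of_ofPt_eq_mk p hp V v
        (hv.trans hx.symm)
      have h1 : (AlgSp.stalkEtι p O' ⟨V, l⟩).hom 1 = (AlgSp.stalkEtι p O' ⟨V, l⟩).hom 0 :=
        congrArg _ h10
      rw [map_one, map_zero] at h1
      exact one_ne_zero h1
    · intro hxW
      obtain ⟨p, hp, hx⟩ := Groth.Agent.Lib.Helper9.SpPoint.exists_geometric_over x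
      refine ⟨p, hp, hx, ?_⟩
      by_contra hnt
      rw [not_nontrivial_iff_subsingleton] at hnt
      apply hxW
      obtain ⟨⟨fib, cof, ism, js⟩, rfl⟩ := Groth.Agent.Lib.Helper9.SpPoint.main X p hp
      let Φ : GrothendieckTopology.Point.{u} (AlgSp.etTop X.obj) :=
        ⟨AlgSp.FieldPt.liftsTo p, cof, ism, js⟩
      obtain ⟨N⟩ := cof.nonempty
      have h1 : Φ.toPresheafFiber N.1 N.2 O'.obj 1 = Φ.toPresheafFiber N.1 N.2 O'.obj 0 :=
        Subsingleton.elim (α := ↥(AlgSp.stalkEt p O')) _ _
      rw [GrothendieckTopology.Point.toPresheafFiber_eq_iff'] at h1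
      obtain ⟨V, φ, y, hy, h10⟩ := h1
      rw [map_one, map_zero] at h10
      simp only [W, Set.mem_iUnion, Set.mem_range]
      refine ⟨V, h10, y.1.left (default : Spec (CommRingCat.of p.K)), ?_⟩
      rw [Groth.Agent.Lib.Helper9.SpPoint.ofPt_lift]
      exact hx
  rw [key]
  exact hW.isClosed_compl

end Groth.Agent.S10257
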