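import Groth.Statements.S10266
import Mathlib
import Groth.Agent.S10208

set_option autoImplicit false
universe u
open CategoryTheory CategoryTheory.Limits AlgebraicGeometry
open AlgSp

namespace Groth.Agent.S10266


open CategoryTheory.Limits Opposite MorphismProperty

variable {S : Scheme.{u}}



/-- A morphism of algebraic spaces that is locally of finite presentation, flat and unramified is etale. -/
theorem result {S : Scheme.{u}} {X Y : AlgSp.Space S} (f : X ⟶ Y)
    (h1 : AlgSp.LocP @LocallyOfFinitePresentation f.hom) (h2 : AlgSp.LocP @Flat f.hom)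
    (h3 : AlgSp.LocP (@LocallyOfFiniteType ⊓ @FormallyUnramified) f.hom) :
    AlgSp.IsEtaleMor f.hom := by
  obtain ⟨U, p, hp, hps⟩ := X.property.atlas
  obtain ⟨V, q, hq, hqs⟩ := Y.property.atlas
  obtain ⟨U1, u1, ψ', sq⟩ := hq.1 (p ≫ f.hom)
  obtain ⟨ψ, rfl⟩ := (AlgSp.yon S).map_surjective ψ'
  haveI : Etale u1.left := hq.2 _ _ u1 sq
  haveI : Surjective u1.left := hqs.2 _ _ u1 sq
  have ha : AlgSp.RepWith @Etale ((AlgSp.yon S).map u1 ≫ p) :=
    (AlgSp.RepWith @Etale).comp_mem _ _ ((AlgSp.repWith_yon_map_iff _ _).2 inferInstance) hp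
  have has : AlgSp.RepWith @Surjective ((AlgSp.yon S).map u1 ≫ p) :=
    (AlgSp.RepWith @Surjective).comp_mem _ _ ((AlgSp.repWith_yon_map_iff _ _).2 inferInstance) hps
  have hw : ((AlgSp.yon S).map u1 ≫ p) ≫ f.hom = (AlgSp.yon S).map ψ ≫ q := by
    rw [Category.assoc, sq.w]
  haveI : LocallyOfFinitePresentation ψ.left := h1 _ _ ψ ha hq hw
  haveI : Flat ψ.left := h2 _ _ ψ ha hq hw
  haveI : FormallyUnramified ψ.left := (h3 _ _ ψ ha hq hw).2
  haveI : Etale ψ.left := Etale.of_formallyUnramified_of_flat ψ.left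
  exact Groth.Agent.S10208.isEtaleMor_of_chart_square Y.property f.hom _ ha has q hq ψ hw

end Groth.Agent.S10266
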