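import Groth.Statements.S10269
import Mathlib
import Groth.Agent.Lib.Helper12ProperLoc

set_option autoImplicit false
universe u
open CategoryTheory CategoryTheory.Limits AlgebraicGeometry
open AlgSp

namespace Groth.Agent.S10269





/-- A finite morphism of algebraic spaces is integral; an integral morphism locally of finite type is
finite. -/
theorem result {S : Scheme.{u}} {X Y : AlgSp.Space S} (f : X ⟶ Y) :
    (AlgSp.IsFiniteMor f.hom → AlgSp.IsIntegralMor f.hom) ∧
    (AlgSp.IsIntegralMor f.hom → AlgSp.LocP @LocallyOfFiniteType f.hom → AlgSp.IsFiniteMor f.hom) := by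
  constructor
  · intro h Z hZ g
    obtain ⟨W, i, fst, sq, hW, hi⟩ := h hZ g
    haveI : IsFinite i.left := hi
    exact ⟨W, i, fst, sq, hW, inferInstance⟩
  · intro h hl Z hZ g
    obtain ⟨W, i, fst, sq, hW, hi⟩ := h hZ g
    refine ⟨W, i, fst, sq, hW, ?_⟩
    have hli : AlgSp.LocP @LocallyOfFiniteType ((AlgSp.yon S).map i) :=
      Groth.Agent.Lib.Helper12.Proper.locP_lft_baseChange X.property Y.property
        (AlgSp.IsAlgSpace.yon_obj Z) sq hl
    exact (IsFinite.iff_isIntegralHom_and_locallyOfFiniteType _).2 ⟨hi, AlgSp.locP_yon_map hli⟩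

end Groth.Agent.S10269
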