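import Groth.Statements.S10270
import Mathlib
import Groth.Agent.Lib.Helper12ProperLoc

set_option autoImplicit false
universe u
open CategoryTheory CategoryTheory.Limits AlgebraicGeometry
open AlgSp

namespace Groth.Agent.S10270





/-- A morphism of algebraic spaces is integral if and only if it is affine and universally closed. -/
theorem result {S : Scheme.{u}} {X Y : AlgSp.Space S} (f : X ⟶ Y) :
    AlgSp.IsIntegralMor f.hom ↔ (AlgSp.IsAffineMor f.hom ∧ AlgSp.IsUnivClosedMor f.hom) := by
  constructor
  · intro h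
    refine ⟨fun Z hZ g => ?_,
      Groth.Agent.Lib.Helper12.ProperLoc.isUnivClosedMor_of_isIntegralMor f h⟩
    obtain ⟨W, i, fst, sq, hW, -⟩ := h hZ g
    exact ⟨W, i, fst, sq, hW⟩
  · intro h
    obtain ⟨ha, hc⟩ := h
    intro Z hZ g
    obtain ⟨W, i, fst, sq, hW⟩ := ha hZ g
    refine ⟨W, i, fst, sq, hW, ?_⟩
    have hci : AlgSp.IsUnivClosedMor ((AlgSp.yon S).map i) :=
      Groth.Agent.Lib.Helper12.Proper.isUnivClosedMor_baseChange sq hc
    haveI : UniversallyClosed i.left := (AlgSp.repWith_yon_map_iff _ _).1
      (Groth.Agent.S9922.repWith_universallyClosed_of_isUnivClosedMor _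
        (AlgSp.representable_yon_map i) hci)
    haveI : IsAffine W.left := hW
    haveI : IsAffine Z.left := hZ
    exact IsIntegralHom.iff_universallyClosed_and_isAffineHom.2 ⟨inferInstance, inferInstance⟩

end Groth.Agent.S10270
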