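import Groth.Statements.S10281
import Groth.Agent.Lib.Helper9SchImageQcC
import Groth.Agent.Lib.Helper12Proper
import Groth.Agent.S10278
import Groth.Agent.S9925
import Groth.Agent.S10301
import Groth.Agent.S9937
import Groth.Agent.S9985
import Groth.Agent.S9953
import Groth.Agent.S9915
import Groth.Agent.S9907
import Groth.Agent.S9874

set_option autoImplicit false
universe u
open CategoryTheory CategoryTheory.Limits AlgebraicGeometry
open AlgSp

namespace Groth.Agent.S10281

/-- The scheme theoretic image of a space proper over B in a space separated and locally of finite type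
over B is proper over B, and the source surjects onto it. -/
theorem result {S : Scheme.{u}} {X Y Z B : AlgSp.Space S} (h : X ⟶ Y) (f : X ⟶ B)
    (g : Y ⟶ B) (comm : h ≫ g = f) (hf : AlgSp.IsProperMor f.hom) (hg : AlgSp.IsSeparatedMor g.hom)
    (hg' : AlgSp.LocP @LocallyOfFiniteType g.hom) (i : Z ⟶ Y) (hZ : AlgSp.IsSchImage h.hom i.hom)
    (h' : X ⟶ Z) (fac : h' ≫ i = h) :
    AlgSp.IsProperMor (i ≫ g).hom ∧ AlgSp.IsSurjectiveMor h'.hom := by
  obtain ⟨hA, -⟩ := Groth.Agent.S10278.result h f g comm hg
  obtain ⟨hhuc, hhcl⟩ := hA hf.2.2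
  have hhqc : AlgSp.IsQuasiCompactMor h.hom := Groth.Agent.S9925.result h hhuc
  have hdense := Groth.Agent.Lib.Helper9.SchImageQc.range_subset_closure X.property Y.property
    h.hom hhqc i.hom hZ
  rw [hhcl.closure_eq] at hdense
  have hinj : Function.Injective (AlgSp.Points.map i.hom) :=
    Groth.Agent.S10301.injective_map_of_repWith (P := @IsClosedImmersion)
      (fun _ _ g hg => by haveI : IsClosedImmersion g := hg; exact g.isClosedEmbedding.injective)
      i.hom hZ.1
  have hfac : h'.hom ≫ i.hom = h.hom := by rw [← fac]; rfl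
  have hsurj : AlgSp.IsSurjectiveMor h'.hom := by
    intro z
    obtain ⟨x, hx⟩ := hdense ⟨z, rfl⟩
    refine ⟨x, hinj ?_⟩
    rw [← AlgSp.Points.map_comp, hfac, hx]
  have htri : h' ≫ (i ≫ g) = f := by rw [← Category.assoc, fac, comm]
  refine ⟨⟨?_, ⟨?_, ?_⟩, ?_⟩, hsurj⟩
  · exact Groth.Agent.Lib.Helper12.Proper.isSeparatedMor_comp i.hom g.hom
      (Groth.Agent.S9937.result i hZ.1) hg
  · refine Groth.Agent.S9985.result @LocallyOfFiniteType (Or.inl rfl) i g
      (Groth.Agent.S9953.result i ?_) hg'
    exact (AlgSp.repWith_iff _ _).2 ⟨hZ.1.1, fun U V g fst snd sq => by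
      haveI : IsClosedImmersion snd.left := hZ.1.2 g fst snd sq
      exact (inferInstance : IsImmersion snd.left)⟩
  · exact Groth.Agent.S9915.result h' f (i ≫ g) htri hsurj hf.2.1.2
  · intro T T' hT t fst snd sq
    have hT' : AlgSp.IsAlgSpace T' :=
      Groth.Agent.S9874.isAlgSpace_of_isPullback B.property.diag Z.property hT sq
    have sqX := IsPullback.of_hasPullback h'.hom fst
    have big := sqX.paste_vert sq
    have e : h'.hom ≫ (i ≫ g).hom = f.hom := by rw [← htri]; rfl
    rw [e] at big
    have hcl : IsClosedMap (AlgSp.Points.map (pullback.snd h'.hom fst ≫ snd)) :=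
      hf.2.2 hT t _ _ big
    have hs : Function.Surjective (AlgSp.Points.map (pullback.snd h'.hom fst)) :=
      Groth.Agent.S9907.result h' (Y' := ⟨T', hT'⟩) ⟨fst⟩ (pullback.fst h'.hom fst)
        (pullback.snd h'.hom fst) sqX hsurj
    intro C hC
    have himg : AlgSp.Points.map snd '' C = AlgSp.Points.map (pullback.snd h'.hom fst ≫ snd) ''
        (AlgSp.Points.map (pullback.snd h'.hom fst) ⁻¹' C) := by
      ext y
      constructor
      · rintro ⟨c, hc, rfl⟩
        obtain ⟨x, rfl⟩ := hs c
        exact ⟨x, hc, AlgSp.Points.map_comp _ _ _⟩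
      · rintro ⟨x, hx, rfl⟩
        exact ⟨_, hx, (AlgSp.Points.map_comp _ _ _).symm⟩
    rw [himg]
    exact hcl _ (hC.preimage (AlgSp.Points.continuous_map _))

end Groth.Agent.S10281
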