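import Groth.Statements.S10285
import Groth.Agent.Lib.Helper9SepDomExtC

set_option autoImplicit false
universe u
open CategoryTheory CategoryTheory.Limits AlgebraicGeometry
open AlgSp

namespace Groth.Agent.S10285

/-- For a separated morphism of algebraic spaces the two forms of the existence part of the valuative
criterion (with and without extensions) agree. -/
theorem result {S : Scheme.{u}} {X Y : AlgSp.Space S} (f : X ⟶ Y)
    (hf : AlgSp.IsSeparatedMor f.hom) : AlgSp.ExistVC f.hom ↔ AlgSp.ExistVCStrict f.hom := by
  constructor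
  · intro h sq
    obtain ⟨e, he⟩ := h sq
    exact Groth.Agent.Lib.Helper9.SepDomExt.hasLift_of_domExt_of_separated X.property Y.property
      f.hom hf sq e he
  · intro h sq
    obtain ⟨l, hl1, hl2⟩ := h sq
    have hcomm : (algebraMap sq.A sq.K).comp (RingHom.id sq.A) =
        (RingHom.id sq.K).comp (algebraMap sq.A sq.K) := by
      rw [RingHom.comp_id, RingHom.id_comp]
    have hloc : IsLocalHom (RingHom.id sq.A) := ⟨fun _ h => h⟩
    let e : sq.DomExt := AlgSp.ValSq.DomExt.mk sq.A sq.K (RingHom.id _) (RingHom.id _) hcomm hloc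
    refine ⟨e, (AlgSp.yon S).map
      (Over.homMk (Spec.map (CommRingCat.ofHom e.φ)) rfl : e.ptA' ⟶ sq.ptA) ≫ l, ?_, ?_⟩
    · rw [← hl1, ← Category.assoc, ← Category.assoc, ← Functor.map_comp, ← Functor.map_comp]
      congr 2
      apply Over.OverMorphism.ext
      simp only [Over.comp_left, Over.homMk_left]
      rw [← Spec.map_comp, ← Spec.map_comp]
      rfl
    · rw [Category.assoc, hl2]

end Groth.Agent.S10285
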