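import Groth.Statements.S10286
-- import your own Groth.Agent.* helpers here

set_option autoImplicit false
universe u
open CategoryTheory CategoryTheory.Limits AlgebraicGeometry
open AlgSp

namespace Groth.Agent.S10286

/-- The existence and uniqueness parts of the valuative criterion are stable under base change. -/
theorem result {S : Scheme.{u}} {X Y Z X' : AlgSp.Space S} (f : X ⟶ Y) (g : Z ⟶ Y)
    (fst : X' ⟶ X) (f' : X' ⟶ Z) (sq : IsPullback fst.hom f'.hom f.hom g.hom) :
    (AlgSp.ExistVC f.hom → AlgSp.ExistVC f'.hom) ∧ (AlgSp.UniqVC f.hom → AlgSp.UniqVC f'.hom) := by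
  constructor
  · intro hE sq'
    let sq₀ : AlgSp.ValSq f.hom :=
      { A := sq'.A, K := sq'.K, str := sq'.str, top := sq'.top ≫ fst.hom, bot := sq'.bot ≫ g.hom,
        comm := by rw [Category.assoc, sq.w, ← Category.assoc, sq'.comm, Category.assoc] }
    obtain ⟨e, l, hl1, hl2⟩ := hE sq₀
    let e' : sq'.DomExt :=
      { A' := e.A', K' := e.K', φ := e.φ, ψ := e.ψ, comm := e.comm, isLocalHom := e.isLocalHom }
    refine ⟨e', ?_⟩
    have hw : l ≫ f.hom = ((AlgSp.yon S).map (Over.homMk (Spec.map (CommRingCat.ofHom e'.φ)) rfl :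
        e'.ptA' ⟶ sq'.ptA) ≫ sq'.bot) ≫ g.hom := by
      rw [Category.assoc]
      exact hl2
    refine ⟨sq.lift l _ hw, ?_, ?_⟩
    · apply sq.hom_ext
      · rw [Category.assoc, sq.lift_fst, Category.assoc]
        exact hl1
      · rw [Category.assoc, sq.lift_snd, Category.assoc, sq'.comm]
        rw [← Category.assoc, ← Category.assoc, ← Functor.map_comp, ← Functor.map_comp]
        congr 2
        ext1
        simp only [Over.comp_left, Over.homMk_left]
        rw [← Spec.map_comp, ← Spec.map_comp, ← CommRingCat.ofHom_comp, ← CommRingCat.ofHom_comp,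
          e.comm]
    · exact sq.lift_snd _ _ _
  · intro hU sq' l l' h1 h2 h1' h2'
    let sq₀ : AlgSp.ValSq f.hom :=
      { A := sq'.A, K := sq'.K, str := sq'.str, top := sq'.top ≫ fst.hom, bot := sq'.bot ≫ g.hom,
        comm := by rw [Category.assoc, sq.w, ← Category.assoc, sq'.comm, Category.assoc] }
    apply sq.hom_ext
    · refine hU sq₀ (l ≫ fst.hom) (l' ≫ fst.hom) ?_ ?_ ?_ ?_
      · rw [← Category.assoc]
        exact congrArg (· ≫ fst.hom) h1
      · rw [Category.assoc, sq.w, ← Category.assoc]
        exact congrArg (· ≫ g.hom) h2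
      · rw [← Category.assoc]
        exact congrArg (· ≫ fst.hom) h1'
      · rw [Category.assoc, sq.w, ← Category.assoc]
        exact congrArg (· ≫ g.hom) h2'
    · rw [h2, h2']

end Groth.Agent.S10286
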