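import Groth.Statements.S10287
-- import your own Groth.Agent.* helpers here

set_option autoImplicit false
universe u
open CategoryTheory CategoryTheory.Limits AlgebraicGeometry
open AlgSp

namespace Groth.Agent.S10287

/-- The existence and uniqueness parts of the valuative criterion are stable under composition. -/
theorem result {S : Scheme.{u}} {X Y Z : AlgSp.Space S} (f : X ⟶ Y) (g : Y ⟶ Z) :
    (AlgSp.ExistVC f.hom → AlgSp.ExistVC g.hom → AlgSp.ExistVC (f ≫ g).hom) ∧
    (AlgSp.UniqVC f.hom → AlgSp.UniqVC g.hom → AlgSp.UniqVC (f ≫ g).hom) := by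
  constructor
  · intro hEf hEg sq
    let sqg : AlgSp.ValSq g.hom :=
      { A := sq.A, K := sq.K, str := sq.str, top := sq.top ≫ f.hom, bot := sq.bot,
        comm := by
          rw [Category.assoc, ← ObjectProperty.FullSubcategory.comp_hom]
          exact sq.comm }
    obtain ⟨e₁, l₁, h11, h12⟩ := hEg sqg
    let sqf : AlgSp.ValSq f.hom :=
      { A := e₁.A', K := e₁.K', str := Spec.map (CommRingCat.ofHom e₁.φ) ≫ sq.str,
        top := (AlgSp.yon S).map (Over.homMk (Spec.map (CommRingCat.ofHom e₁.ψ)) (by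
          change Spec.map _ ≫ Spec.map _ ≫ _ = Spec.map _ ≫ Spec.map _ ≫ _
          rw [← Spec.map_comp_assoc, ← Spec.map_comp_assoc, ← CommRingCat.ofHom_comp,
            ← CommRingCat.ofHom_comp, e₁.comm]) : e₁.ptK' ⟶ sq.ptK) ≫ sq.top,
        bot := l₁,
        comm := by
          rw [Category.assoc]
          exact h11.symm }
    obtain ⟨e₂, l₂, h21, h22⟩ := hEf sqf
    let e : sq.DomExt :=
      { A' := e₂.A', K' := e₂.K', φ := e₂.φ.comp e₁.φ, ψ := e₂.ψ.comp e₁.ψ,
        comm := by
          rw [← RingHom.comp_assoc, e₂.comm, RingHom.comp_assoc, RingHom.comp_assoc]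
          congr 1
          exact e₁.comm
        isLocalHom := by
          have := e₁.isLocalHom
          have := e₂.isLocalHom
          exact RingHom.isLocalHom_comp e₂.φ e₁.φ }
    refine ⟨e, ?_⟩
    let α : e.ptA' ⟶ e₂.ptA' := Over.homMk (𝟙 _) (by
      change 𝟙 _ ≫ Spec.map _ ≫ Spec.map _ ≫ _ = Spec.map _ ≫ _
      rw [Category.id_comp, ← Spec.map_comp_assoc, ← CommRingCat.ofHom_comp])
    refine ⟨(AlgSp.yon S).map α ≫ l₂, ?_, ?_⟩
    · let β : e.ptK' ⟶ e₂.ptK' := Over.homMk (𝟙 _) (by
        change 𝟙 _ ≫ Spec.map _ ≫ Spec.map _ ≫ Spec.map _ ≫ _ = Spec.map _ ≫ Spec.map _ ≫ _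
        rw [Category.id_comp]
        congr 1
        rw [← Spec.map_comp_assoc, ← CommRingCat.ofHom_comp])
      have hβ : (Over.homMk (Spec.map (CommRingCat.ofHom (algebraMap e.A' e.K'))) rfl :
          e.ptK' ⟶ e.ptA') ≫ α = β ≫ (Over.homMk (Spec.map (CommRingCat.ofHom
            (algebraMap e₂.A' e₂.K'))) rfl : e₂.ptK' ⟶ e₂.ptA') := by
        ext1
        simp only [Over.comp_left, Over.homMk_left, α, β, Category.comp_id, Category.id_comp]
      rw [← Category.assoc, ← Functor.map_comp, hβ, Functor.map_comp, Category.assoc, h21]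
      change _ ≫ _ ≫ _ ≫ sq.top = _
      rw [← Category.assoc, ← Category.assoc, ← Functor.map_comp, ← Functor.map_comp]
      congr 2
      ext1
      simp only [Over.comp_left, Over.homMk_left, β, Category.id_comp]
      rw [← Spec.map_comp, ← CommRingCat.ofHom_comp]
    · change ((AlgSp.yon S).map α ≫ l₂) ≫ f.hom ≫ g.hom = _
      rw [Category.assoc, ← Category.assoc l₂, h22]
      change _ ≫ (_ ≫ l₁) ≫ _ = _
      rw [Category.assoc, h12]
      rw [← Category.assoc, ← Category.assoc, ← Functor.map_comp, ← Functor.map_comp]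
      congr 2
      ext1
      simp only [Over.comp_left, Over.homMk_left, α, Category.id_comp]
      rw [← Spec.map_comp, ← CommRingCat.ofHom_comp]
  · intro hUf hUg sq l l' h1 h2 h1' h2'
    let sqg : AlgSp.ValSq g.hom :=
      { A := sq.A, K := sq.K, str := sq.str, top := sq.top ≫ f.hom, bot := sq.bot,
        comm := by
          rw [Category.assoc, ← ObjectProperty.FullSubcategory.comp_hom]
          exact sq.comm }
    have hfl : l ≫ f.hom = l' ≫ f.hom := by
      refine hUg sqg (l ≫ f.hom) (l' ≫ f.hom) ?_ ?_ ?_ ?_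
      · rw [← Category.assoc]
        exact congrArg (· ≫ f.hom) h1
      · rw [Category.assoc, ← ObjectProperty.FullSubcategory.comp_hom]
        exact h2
      · rw [← Category.assoc]
        exact congrArg (· ≫ f.hom) h1'
      · rw [Category.assoc, ← ObjectProperty.FullSubcategory.comp_hom]
        exact h2'
    let sqf : AlgSp.ValSq f.hom :=
      { A := sq.A, K := sq.K, str := sq.str, top := sq.top, bot := l ≫ f.hom,
        comm := by
          rw [← Category.assoc]
          exact congrArg (· ≫ f.hom) h1.symm }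
    exact hUf sqf l l' h1 rfl h1' hfl.symm

end Groth.Agent.S10287
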