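import Groth.Statements.S10291
import Mathlib
import Groth.Agent.S9900

set_option autoImplicit false
universe u
open CategoryTheory CategoryTheory.Limits AlgebraicGeometry
open AlgSp

namespace Groth.Agent.S10291





/-- A quasi-separated morphism of algebraic spaces satisfying the uniqueness part of the valuative
criterion is separated. -/
theorem result {S : Scheme.{u}} {X Y : AlgSp.Space S} (f : X ⟶ Y)
    (hqs : AlgSp.IsQuasiSeparatedMor f.hom) (hu : AlgSp.UniqVC f.hom) : AlgSp.IsSeparatedMor f.hom := by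
  obtain ⟨hrep, hlft, hmono, hsep, -⟩ := Groth.Agent.S9900.result f
  refine ⟨hrep, fun T W g pr w psq => ?_⟩
  haveI : LocallyOfFiniteType w.left := hlft.2 g pr w psq
  haveI : Mono w.left := hmono.2 g pr w psq
  haveI : IsSeparated w.left := hsep.2 g pr w psq
  haveI : QuasiCompact w.left := hqs.2 g pr w psq
  have hpa : pr = (AlgSp.yon S).map w ≫ g ≫ pullback.fst f.hom f.hom := by
    have := psq.w =≫ pullback.fst f.hom f.hom
    rwa [Category.assoc, pullback.diagonal_fst, Category.comp_id, Category.assoc] at this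
  have hpb : pr = (AlgSp.yon S).map w ≫ g ≫ pullback.snd f.hom f.hom := by
    have := psq.w =≫ pullback.snd f.hom f.hom
    rwa [Category.assoc, pullback.diagonal_snd, Category.comp_id, Category.assoc] at this
  have hex : ValuativeCriterion.Existence w.left := by
    intro Sq
    have hi₁ : Sq.i₁ ≫ W.hom =
        Spec.map (CommRingCat.ofHom (algebraMap Sq.R Sq.K)) ≫ Sq.i₂ ≫ T.hom := by
      have h := Sq.commSq.w =≫ T.hom
      rw [Category.assoc, Category.assoc, Over.w w] at h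
      exact h
    let i₂' : Over.mk (Sq.i₂ ≫ T.hom) ⟶ T := Over.homMk Sq.i₂ rfl
    let jj : Over.mk (Spec.map (CommRingCat.ofHom (algebraMap Sq.R Sq.K)) ≫ Sq.i₂ ≫ T.hom) ⟶
        Over.mk (Sq.i₂ ≫ T.hom) :=
      Over.homMk (Spec.map (CommRingCat.ofHom (algebraMap Sq.R Sq.K))) rfl
    let i₁' : Over.mk (Spec.map (CommRingCat.ofHom (algebraMap Sq.R Sq.K)) ≫ Sq.i₂ ≫ T.hom) ⟶ W :=
      Over.homMk Sq.i₁ hi₁
    have hcomm' : i₁' ≫ w = jj ≫ i₂' := Over.OverMorphism.ext Sq.commSq.w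
    have e : (AlgSp.yon S).map jj ≫ (AlgSp.yon S).map i₂' =
        (AlgSp.yon S).map i₁' ≫ (AlgSp.yon S).map w := by
      rw [← Functor.map_comp, ← Functor.map_comp, hcomm']
    obtain ⟨l₁, hl₁⟩ : ∃ l₁ : (AlgSp.yon S).obj (Over.mk (Sq.i₂ ≫ T.hom)) ⟶ X.obj,
        l₁ = (AlgSp.yon S).map i₂' ≫ g ≫ pullback.fst f.hom f.hom := ⟨_, rfl⟩
    obtain ⟨l₂, hl₂⟩ : ∃ l₂ : (AlgSp.yon S).obj (Over.mk (Sq.i₂ ≫ T.hom)) ⟶ X.obj,
        l₂ = (AlgSp.yon S).map i₂' ≫ g ≫ pullback.snd f.hom f.hom := ⟨_, rfl⟩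
    have hj1 : (AlgSp.yon S).map jj ≫ l₁ = (AlgSp.yon S).map i₁' ≫ pr := by
      rw [hl₁, hpa]
      simpa only [Category.assoc] using e =≫ (g ≫ pullback.fst f.hom f.hom)
    have hj2 : (AlgSp.yon S).map jj ≫ l₂ = (AlgSp.yon S).map i₁' ≫ pr := by
      rw [hl₂, hpb]
      simpa only [Category.assoc] using e =≫ (g ≫ pullback.snd f.hom f.hom)
    have hf12 : l₁ ≫ f.hom = l₂ ≫ f.hom := by
      rw [hl₁, hl₂]
      simp only [Category.assoc, pullback.condition]
    let vsq : AlgSp.ValSq f.hom :=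
      { A := Sq.R, K := Sq.K, str := Sq.i₂ ≫ T.hom, top := (AlgSp.yon S).map i₁' ≫ pr,
        bot := l₁ ≫ f.hom, comm := by rw [← hj1, Category.assoc] }
    have huniq : l₁ = l₂ := hu vsq l₁ l₂ hj1 rfl hj2 hf12.symm
    have hd : l₁ ≫ pullback.diagonal f.hom = (AlgSp.yon S).map i₂' ≫ g := by
      apply pullback.hom_ext
      · rw [Category.assoc, pullback.diagonal_fst, Category.comp_id, hl₁, Category.assoc]
      · rw [Category.assoc, pullback.diagonal_snd, Category.comp_id, huniq, hl₂, Category.assoc]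
    obtain ⟨s, hs⟩ := (AlgSp.yon S).map_surjective (psq.lift l₁ ((AlgSp.yon S).map i₂') hd)
    have hsw : s ≫ w = i₂' := by
      apply (AlgSp.yon S).map_injective
      rw [Functor.map_comp, hs, psq.lift_snd]
    have hsl : s.left ≫ w.left = Sq.i₂ := by
      rw [← Over.comp_left, hsw]; rfl
    refine ⟨⟨⟨s.left, ?_, hsl⟩⟩⟩
    rw [← cancel_mono w.left, Category.assoc, hsl, Sq.commSq.w]
  haveI : UniversallyClosed w.left := UniversallyClosed.of_valuativeCriterion w.left hex
  haveI : IsProper w.left := { }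
  exact (IsClosedImmersion.iff_isProper_and_mono w.left).2 ⟨inferInstance, inferInstance⟩

end Groth.Agent.S10291
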