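import Groth.Statements.S9867
import Groth.Agent.Lib.Helper12Descent
import Groth.Agent.Lib.Helper12Flat
import Mathlib.AlgebraicGeometry.Morphisms.FlatRank

set_option autoImplicit false
open CategoryTheory CategoryTheory.Limits AlgebraicGeometry Opposite
universe u
open Desc

namespace Groth.Agent.S9867

lemma finLocFree_descends {A X Y Z : Scheme.{u}} {fst : A ⟶ X} {snd : A ⟶ Y} {f : X ⟶ Z}
    {g : Y ⟶ Z} (h : IsPullback fst snd f g)
    (hf : (@Surjective ⊓ @Flat ⊓ @QuasiCompact : MorphismProperty Scheme.{u}) f)
    (hfst : Mor2.IsFinLocFree fst) : Mor2.IsFinLocFree g := by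
  obtain ⟨h1, h2, h3⟩ := hfst
  have hfsurj : Surjective f := hf.1.1
  have hfflat : Flat f := hf.1.2
  refine ⟨(Lib.Helper12.descendsAlong_isFinite).of_isPullback h hf h1, ?_,
    MorphismProperty.of_isPullback_of_descendsAlong (P := @LocallyOfFinitePresentation)
      (Q := @Surjective ⊓ @Flat ⊓ @QuasiCompact) h hf h3⟩
  have hs1 : Flat snd := MorphismProperty.of_isPullback (P := @Flat) h hfflat
  have hs2 : Surjective snd := MorphismProperty.of_isPullback (P := @Surjective) h hfsurj
  have hs3 : Flat (snd ≫ g) := by
    rw [← h.w]
    infer_instance
  exact Lib.Helper12.flat_of_comp_of_flat_of_surjective snd g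


/-- Being finite locally free (finite, flat and locally of finite presentation), and being finite
locally free of a given degree d, are fpqc local on the base; the descent directions, stated as
descent along surjective flat quasi-compact morphisms: if the base change of f along such a morphism
is finite locally free then so is f, and if moreover that base change has constant rank d (Mathlib's
rank function of a finite flat morphism) then f has constant rank d. (With Zariski-locality on the
target these give the statements for arbitrary fpqc coverings; stability under base change is the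
other direction.) -/
theorem result :
    MorphismProperty.DescendsAlong (fun _ _ f => Mor2.IsFinLocFree f : MorphismProperty Scheme.{u})
      (@Surjective ⊓ @Flat ⊓ @QuasiCompact : MorphismProperty Scheme.{u}) ∧
    ∀ d : ℕ, MorphismProperty.DescendsAlong (fun _ _ f => Mor2.IsFinLocFreeOfDeg d f : MorphismProperty Scheme.{u})
      (@Surjective ⊓ @Flat ⊓ @QuasiCompact : MorphismProperty Scheme.{u}) := by
  refine ⟨⟨fun h hf hfst => finLocFree_descends h hf hfst⟩, fun d => ⟨?_⟩⟩
  intro A X Y Z fst snd f g h hf hfst
  obtain ⟨h1, h2⟩ := hfst
  have hg := finLocFree_descends h hf h1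
  refine ⟨hg, fun y => ?_⟩
  have hfsurj : Surjective f := hf.1.1
  obtain ⟨x, rfl⟩ := f.surjective y
  have hgfin : IsFinite g := hg.1
  have hgflat : Flat g := hg.2.1
  rw [← Scheme.Hom.finrank_of_isPullback _ _ _ _ h.flip x]
  exact h2 x

end Groth.Agent.S9867
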