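import Groth.Statements.S9943
import Mathlib
import Groth.Agent.Lib.Helper15AffDescSp

set_option autoImplicit false
universe u
open CategoryTheory CategoryTheory.Limits AlgebraicGeometry
open AlgSp

namespace Groth.Agent.S9943

/-- (4) ⇒ (2): being affine descends along a surjective etale base change from a scheme. -/
theorem result {S : Scheme.{u}} {X Y : AlgSp.Space S} (f : X ⟶ Y) (V : Over S)
    (p : (AlgSp.yon S).obj V ⟶ Y.obj) (hp : AlgSp.RepWith @Etale p) (hps : AlgSp.RepWith @Surjective p)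
    {P : AlgSp.Sp S} (fst : P ⟶ X.obj) (snd : P ⟶ (AlgSp.yon S).obj V) (sq : IsPullback fst snd f.hom p)
    (h : AlgSp.IsAffineMor snd) : AlgSp.IsAffineMor f.hom := by
  intro Z hZ g
  have : IsAffine Z.left := hZ
  -- the etale chart of `Z`
  obtain ⟨T₁, pr, t, sqT⟩ := hp.1 g
  have : Etale pr.left := hp.2 _ _ pr sqT
  have : Surjective pr.left := hps.2 _ _ pr sqT
  -- an affine refinement
  obtain ⟨T₂, r, hT₂, hrs, hrP⟩ :=
    Groth.Agent.Lib.Helper15AffDescSp.exists_affine_refinement pr.left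
  let T' : Over S := Over.mk (r ≫ T₁.hom)
  let rO : T' ⟶ T₁ := Over.homMk r rfl
  let pT : T' ⟶ Z := rO ≫ pr
  have hpT : pT.left = r ≫ pr.left := rfl
  have : IsAffine T'.left := hT₂
  have : Surjective pT.left := by rw [hpT]; exact hrs
  have : Flat pT.left := by rw [hpT]; exact hrP @Flat inferInstance
  have : LocallyOfFinitePresentation pT.left := by
    rw [hpT]; exact hrP @LocallyOfFinitePresentation inferInstance
  -- the base change of `snd` to `T'` is an affine scheme
  obtain ⟨X', x', fst', sqX', hX'⟩ := h hT₂ ((AlgSp.yon S).map rO ≫ t)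
  have : IsAffine X'.left := hX'
  have sqX := sqX'.paste_horiz sq
  have hw0 : ((AlgSp.yon S).map rO ≫ t) ≫ p = (AlgSp.yon S).map pT ≫ g := by
    rw [Category.assoc, sqT.w, ← Category.assoc, ← Functor.map_comp]
  rw [hw0] at sqX
  have sqE := IsPullback.of_hasPullback f.hom g
  have hw : (fst' ≫ fst) ≫ f.hom = ((AlgSp.yon S).map x' ≫ (AlgSp.yon S).map pT) ≫ g := by
    rw [sqX.w, Category.assoc]
  have sqθ : IsPullback (sqE.lift _ _ hw) ((AlgSp.yon S).map x')
      (pullback.snd f.hom g) ((AlgSp.yon S).map pT) := by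
    refine IsPullback.of_right ?_ (sqE.lift_snd _ _ hw) sqE
    rw [sqE.lift_fst]
    exact sqX
  obtain ⟨W₀, hW₀, -, c, hc, hce⟩ := Groth.Agent.Lib.Helper15AffDescSp.exists_affine_rep sqθ
  refine ⟨Groth.Agent.Lib.Helper15EffDescB.Wobj W₀, Groth.Agent.Lib.Helper15EffDescB.wmap W₀,
    c ≫ pullback.fst f.hom g, ?_, hW₀⟩
  exact IsPullback.of_iso sqE (asIso c).symm (Iso.refl _) (Iso.refl _) (Iso.refl _)
    (by simp) (by simp [hce]) (by simp) (by simp)

end Groth.Agent.S9943
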