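import Groth.Statements.S10293
import Mathlib
import Groth.Agent.Lib.Helper15RepWithChart
import Groth.Agent.S9943
import Groth.Agent.S9941
import Groth.Agent.S9867

set_option autoImplicit false
universe u
open CategoryTheory CategoryTheory.Limits AlgebraicGeometry
open AlgSp

namespace Groth.Agent.S10293

/-- (3) ⇒ (1): being finite locally free descends along a surjective etale base change from a scheme. -/
theorem result {S : Scheme.{u}} {X Y : AlgSp.Space S} (f : X ⟶ Y) (V : Over S)
    (p : (AlgSp.yon S).obj V ⟶ Y.obj) (hp : AlgSp.RepWith @Etale p) (hps : AlgSp.RepWith @Surjective p)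
    {P : AlgSp.Sp S} (fst : P ⟶ X.obj) (snd : P ⟶ (AlgSp.yon S).obj V) (sq : IsPullback fst snd f.hom p)
    (h : AlgSp.IsFinLocFreeMor snd) : AlgSp.IsFinLocFreeMor f.hom := by
  -- `P` is representable
  obtain ⟨W, w, a, sqa⟩ := h.1 (𝟙 ((AlgSp.yon S).obj V))
  have hw : AlgSp.finLocFree w.left := h.2 _ _ w sqa
  have sq' : IsPullback (a ≫ fst) ((AlgSp.yon S).map w) f.hom p := by
    have := sqa.paste_horiz sq
    rwa [Category.id_comp] at this
  -- `snd` is affine
  have hsndAff : AlgSp.IsAffineMor snd := by
    intro Z hZ g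
    obtain ⟨W', i, fst', sqW'⟩ := h.1 g
    have hi : AlgSp.finLocFree i.left := h.2 _ _ i sqW'
    have : IsFinite i.left := hi.1
    have : IsAffine Z.left := hZ
    exact ⟨W', i, fst', sqW', isAffine_of_isAffineHom i.left⟩
  have hAff : AlgSp.IsAffineMor f.hom := Groth.Agent.S9943.result f V p hp hps fst snd sq hsndAff
  have hrep : AlgSp.Representable f.hom := (Groth.Agent.S9941.result f hAff).1
  -- descent of the property
  have hZar : IsZariskiLocalAtTarget (AlgSp.finLocFree : MorphismProperty Scheme.{u}) := by
    have e : (AlgSp.finLocFree : MorphismProperty Scheme.{u}) =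
        (@IsFinite ⊓ ((@Flat : MorphismProperty Scheme.{u}) ⊓ @LocallyOfFinitePresentation) :
          MorphismProperty Scheme.{u}) := by
      ext X Y f
      exact Iff.rfl
    rw [e]
    infer_instance
  have hfpqc : (AlgSp.finLocFree : MorphismProperty Scheme.{u}).DescendsAlong
      (@Surjective ⊓ @Flat ⊓ @QuasiCompact : MorphismProperty Scheme.{u}) :=
    Groth.Agent.S9867.result.1
  have hfppf : (AlgSp.finLocFree : MorphismProperty Scheme.{u}).DescendsAlong
      (@Surjective ⊓ @Flat ⊓ @LocallyOfFinitePresentation : MorphismProperty Scheme.{u}) :=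
    inferInstance
  exact Groth.Agent.Lib.Helper15RepWithChart.repWith_of_chart_of_descendsAlong f.hom hrep p hp hps
    (a ≫ fst) w sq' AlgSp.finLocFree hfppf hw

end Groth.Agent.S10293
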