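import Groth.Statements.S10294
import Mathlib
import Groth.Agent.S10267
import Groth.Agent.S9948
import Groth.Agent.S9947
import Groth.Agent.Lib.Helper12LocPCases

set_option autoImplicit false
universe u
open CategoryTheory CategoryTheory.Limits AlgebraicGeometry
open AlgSp

namespace Groth.Agent.S10294


lemma lfp_of_lft_of_isLocallyNoetherian {X Y : Scheme.{u}} (f : X ⟶ Y) [LocallyOfFiniteType f]
    [IsLocallyNoetherian Y] : LocallyOfFinitePresentation f := by
  rw [HasRingHomProperty.iff_appLE (P := @LocallyOfFinitePresentation)]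
  intro U V e
  have h : (f.appLE U.1 V.1 e).hom.FiniteType :=
    HasRingHomProperty.appLE (P := @LocallyOfFiniteType) f inferInstance U V e
  haveI : IsNoetherianRing Γ(Y, U.1) := IsLocallyNoetherian.component_noetherian U
  exact RingHom.FinitePresentation.of_finiteType.1 h

lemma split_iff {S : Scheme.{u}} {X Y : AlgSp.Sp S} (f : X ⟶ Y) :
    AlgSp.RepWith AlgSp.finLocFree f ↔ (AlgSp.RepWith @IsFinite f ∧ AlgSp.RepWith @Flat f ∧
      AlgSp.RepWith @LocallyOfFinitePresentation f) := by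
  constructor
  · intro h
    exact ⟨⟨h.1, fun _ _ g fst snd sq => (h.2 g fst snd sq).1⟩,
      ⟨h.1, fun _ _ g fst snd sq => (h.2 g fst snd sq).2.1⟩,
      ⟨h.1, fun _ _ g fst snd sq => (h.2 g fst snd sq).2.2⟩⟩
  · rintro ⟨h1, h2, h3⟩
    exact ⟨h1.1, fun _ _ g fst snd sq => ⟨h1.2 g fst snd sq, h2.2 g fst snd sq, h3.2 g fst snd sq⟩⟩



/-- Finite locally free is the same as finite, flat and locally of finite presentation; over a locally
Noetherian target it is the same as finite and flat. -/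
theorem result {S : Scheme.{u}} {X Y : AlgSp.Space S} (f : X ⟶ Y) :
    (AlgSp.IsFinLocFreeMor f.hom ↔
      (AlgSp.IsFiniteMor f.hom ∧ AlgSp.LocP @Flat f.hom ∧ AlgSp.LocP @LocallyOfFinitePresentation f.hom)) ∧
    (AlgSp.IsLocNoethSp Y.obj →
      (AlgSp.IsFinLocFreeMor f.hom ↔ (AlgSp.IsFiniteMor f.hom ∧ AlgSp.LocP @Flat f.hom))) := by
  have part1 : AlgSp.IsFinLocFreeMor f.hom ↔
      (AlgSp.IsFiniteMor f.hom ∧ AlgSp.LocP @Flat f.hom ∧
        AlgSp.LocP @LocallyOfFinitePresentation f.hom) := by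
    constructor
    · intro h
      obtain ⟨h1, h2, h3⟩ := (split_iff f.hom).1 h
      exact ⟨(Groth.Agent.S10267.result f).2.2 h1,
        (Groth.Agent.S9948.result @Flat (.inr (.inr (.inl rfl))) f h.1).2 h2,
        (Groth.Agent.S9948.result @LocallyOfFinitePresentation (.inr (.inl rfl)) f h.1).2 h3⟩
    · rintro ⟨hfin, hfl, hlfp⟩
      have h1 := (Groth.Agent.S10267.result f).2.1 hfin
      exact (split_iff f.hom).2 ⟨h1,
        (Groth.Agent.S9948.result @Flat (.inr (.inr (.inl rfl))) f h1.1).1 hfl,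
        (Groth.Agent.S9948.result @LocallyOfFinitePresentation (.inr (.inl rfl)) f h1.1).1 hlfp⟩
  refine ⟨part1, fun hY => ⟨fun h => ⟨(part1.1 h).1, (part1.1 h).2.1⟩, ?_⟩⟩
  rintro ⟨hfin, hfl⟩
  refine part1.2 ⟨hfin, hfl, ?_⟩
  have h1 := (Groth.Agent.S10267.result f).2.1 hfin
  obtain ⟨V, p, hpe, hps, hV⟩ := hY
  obtain ⟨W, w, fst, sq⟩ := h1.1 p
  haveI : IsFinite w.left := h1.2 p fst w sq
  haveI : IsLocallyNoetherian V.left := hV
  have hw : LocallyOfFinitePresentation w.left := lfp_of_lft_of_isLocallyNoetherian w.left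
  have hg := Groth.Agent.Lib.Helper12.LocPCases.good_lfp.{u}
  haveI := hg.comp
  exact Groth.Agent.S9947.locP_of_chart @LocallyOfFinitePresentation hg.hEt hg.hsrc hg.hcancel
    Y.property f.hom fst p w
    (MorphismProperty.of_isPullback (P := AlgSp.RepWith @Etale) sq.flip hpe)
    (MorphismProperty.of_isPullback (P := AlgSp.RepWith @Surjective) sq.flip hps)
    hpe sq.w hw

end Groth.Agent.S10294
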