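import Groth.Statements.S9905
import Mathlib
import Groth.Agent.S9903

set_option autoImplicit false
universe u
open CategoryTheory CategoryTheory.Limits AlgebraicGeometry
open AlgSp

namespace Groth.Agent.S9905


open CategoryTheory.Limits MorphismProperty

variable {S : Scheme.{u}}

lemma aux (D Q : MorphismProperty Scheme.{u}) [D.IsStableUnderBaseChange] [IsZariskiLocalAtTarget D]
    (hDQ : ∀ {U V : Over S} (g : U ⟶ V),
      AlgSp.RepWith D (pullback.diagonal ((AlgSp.yon S).map g)) ↔ Q g.left)
    {X Y : AlgSp.Sp S} (hX : AlgSp.Representable (Limits.diag X)) (f : X ⟶ Y)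
    (hf : AlgSp.Representable f) :
    AlgSp.RepWith D (pullback.diagonal f) ↔ AlgSp.RepWith Q f := by
  constructor
  · intro h
    exact ⟨hf, fun U V g fst snd sq => (hDQ snd).1 (S9903.stable_diagonal D sq h)⟩
  · intro h
    refine S9903.repWith_diagonal_of_affine D hX f ?_
    intro Z _ g P fst snd sq
    obtain ⟨W, w, fst', sq'⟩ := hf g
    have hw : Q w.left := h.2 g fst' w sq'
    have h1 : (AlgSp.RepWith (S := S) D).diagonal ((AlgSp.yon S).map w) := (hDQ w).2 hw
    have e : snd = (sq.isoIsPullback _ _ sq').hom ≫ (AlgSp.yon S).map w := by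
      rw [IsPullback.isoIsPullback_hom_snd]
    change (AlgSp.RepWith (S := S) D).diagonal snd
    rw [e, (AlgSp.RepWith (S := S) D).diagonal.cancel_left_of_respectsIso]
    exact h1



/-- For a morphism of algebraic spaces representable by schemes, separated in the diagonal sense agrees
with separated in the representable sense, and likewise for quasi-separated. -/
theorem result {S : Scheme.{u}} {X Y : AlgSp.Space S} (f : X ⟶ Y)
    (hf : AlgSp.Representable f.hom) :
    (AlgSp.IsSeparatedMor f.hom ↔ AlgSp.RepWith @IsSeparated f.hom) ∧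
    (AlgSp.IsQuasiSeparatedMor f.hom ↔ AlgSp.RepWith @QuasiSeparated f.hom) := by
  exact ⟨aux @IsClosedImmersion @IsSeparated (fun g => AlgSp.isSeparatedMor_yon_map_iff g)
      X.property.diag f.hom hf,
    aux @QuasiCompact @QuasiSeparated (fun g => AlgSp.isQuasiSeparatedMor_yon_map_iff g)
      X.property.diag f.hom hf⟩

end Groth.Agent.S9905
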