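import Groth.Statements.S10296
import Groth.Agent.S10267
import Groth.Agent.S10272
import Groth.Agent.S9905

set_option autoImplicit false
universe u
open CategoryTheory CategoryTheory.Limits AlgebraicGeometry
open AlgSp

namespace Groth.Agent.S10296

/-- The induced morphism from the normalization of X in Y to any integral Z -> X through which Y -> X
factors is the normalization of Z in Y. -/
theorem result {S : Scheme.{u}} {Y X X' Z : AlgSp.Space S} (f : Y ⟶ X)
    (hqc : AlgSp.IsQuasiCompactMor f.hom) (hqs : AlgSp.IsQuasiSeparatedMor f.hom) (ν : X' ⟶ X) (f' : Y ⟶ X')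
    (hn : AlgSp.IsRelNormalization f.hom ν.hom f'.hom) (π : Z ⟶ X) (hπ : AlgSp.IsIntegralMor π.hom) (g : Y ⟶ Z)
    (hg : g ≫ π = f) (h : X' ⟶ Z) (h1 : f' ≫ h = g) (h2 : h ≫ π = ν) :
    AlgSp.IsRelNormalization g.hom h.hom f'.hom := by
  obtain ⟨hfac, hνint, huniv⟩ := hn
  -- `π` is separated
  have hπrep : AlgSp.RepWith @IsIntegralHom π.hom := (Groth.Agent.S10267.result π).1.1 hπ
  have hπsep : AlgSp.IsSeparatedMor π.hom := by
    refine ((Groth.Agent.S9905.result π hπrep.rep).1).2 ?_
    refine MorphismProperty.relative_monotone (F := AlgSp.yon S) ?_ _ hπrep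
    intro A B k hk
    have : IsIntegralHom k.left := hk
    change IsSeparated k.left
    infer_instance
  -- `h` is integral
  have hhint : AlgSp.IsIntegralMor h.hom := by
    refine (Groth.Agent.S10272.result h π hπsep).2 ?_
    rw [h2]; exact hνint
  refine ⟨congrArg (fun k => k.hom) h1, hhint, ?_⟩
  intro W hW π' g' hπ' hg'
  -- composite `π' ≫ π` is integral
  have hcomp : AlgSp.IsIntegralMor (π' ≫ π.hom) := by
    let Wsp : AlgSp.Space S := ⟨W, hW⟩
    let π'' : Wsp ⟶ Z := ObjectProperty.homMk π'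
    have h1' : AlgSp.RepWith @IsIntegralHom π''.hom := (Groth.Agent.S10267.result π'').1.1 hπ'
    haveI hinv : (MorphismProperty.inverseImage (@IsIntegralHom.{u}) (Over.forget S)).IsStableUnderComposition :=
      MorphismProperty.IsStableUnderComposition.inverseImage _
    haveI : (AlgSp.RepWith (S := S) @IsIntegralHom.{u}).IsStableUnderComposition :=
      MorphismProperty.relative_isStableUnderComposition _
    have h2' : AlgSp.RepWith @IsIntegralHom (π'' ≫ π).hom :=
      MorphismProperty.comp_mem _ _ _ h1' hπrep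
    exact (Groth.Agent.S10267.result (π'' ≫ π)).1.2 h2'
  have hgf : g' ≫ (π' ≫ π.hom) = f.hom := by
    rw [← Category.assoc, hg', ← hg]; rfl
  obtain ⟨h', ⟨hh'1, hh'2⟩, hh'u⟩ := huniv hW (π' ≫ π.hom) g' hcomp hgf
  -- the uniqueness for `(Z, π, g)`
  have hgπ : g.hom ≫ π.hom = f.hom := congrArg (fun k => k.hom) hg
  obtain ⟨h₀, _, hh₀u⟩ := huniv Z.property π.hom g.hom hπ hgπ
  have e1 : h' ≫ π' = h₀ := hh₀u _ ⟨by rw [← Category.assoc, hh'1, hg'], by
    rw [Category.assoc]; exact hh'2⟩
  have e2 : h.hom = h₀ := hh₀u _ ⟨congrArg (fun k => k.hom) h1, congrArg (fun k => k.hom) h2⟩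
  refine ⟨h', ⟨hh'1, e1.trans e2.symm⟩, ?_⟩
  intro h'' ⟨hh''1, hh''2⟩
  refine hh'u h'' ⟨hh''1, ?_⟩
  rw [← Category.assoc, hh''2]; exact congrArg (fun k => k.hom) h2

end Groth.Agent.S10296
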