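import Groth.Statements.S10298
import Groth.Agent.S10267

set_option autoImplicit false
universe u
open CategoryTheory CategoryTheory.Limits AlgebraicGeometry
open AlgSp

namespace Groth.Agent.S10298

/-- For a quasi-compact quasi-separated morphism of schemes, the relative normalization of schemes is
the normalization in the sense of algebraic spaces. -/
theorem result {S : Scheme.{u}} {V U N : Over S} (g : V ⟶ U)
    [QuasiCompact g.left] [QuasiSeparated g.left] (f' : V ⟶ N) (ν : N ⟶ U)
    (e : N.left ≅ g.left.normalization) (he1 : f'.left ≫ e.hom = g.left.toNormalization)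
    (he2 : e.hom ≫ g.left.fromNormalization = ν.left) :
    AlgSp.IsRelNormalization ((AlgSp.yon S).map g) ((AlgSp.yon S).map ν) ((AlgSp.yon S).map f') := by
  -- basic identities
  have hfν : f'.left ≫ ν.left = g.left := by
    rw [← he2, ← Category.assoc, he1, Scheme.Hom.toNormalization_fromNormalization]
  have hfν' : f' ≫ ν = g := Over.OverMorphism.ext hfν
  haveI hνint : IsIntegralHom ν.left := by rw [← he2]; infer_instance
  haveI hbc : (MorphismProperty.inverseImage (@IsIntegralHom.{u}) (Over.forget S)).IsStableUnderBaseChange :=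
    AlgSp.inverseImage_forget_isStableUnderBaseChange (S := S) (@IsIntegralHom.{u})
  have hνrep : AlgSp.RepWith @IsIntegralHom ((AlgSp.yon S).map ν) :=
    MorphismProperty.relative_map (P := MorphismProperty.inverseImage (@IsIntegralHom.{u}) (Over.forget S))
      (F := AlgSp.yon S) hνint
  let hU : AlgSp.Space S := ⟨(AlgSp.yon S).obj U, AlgSp.IsAlgSpace.yon_obj U⟩
  let hN : AlgSp.Space S := ⟨(AlgSp.yon S).obj N, AlgSp.IsAlgSpace.yon_obj N⟩
  let νs : hN ⟶ hU := ObjectProperty.homMk ((AlgSp.yon S).map ν)
  refine ⟨by rw [← Functor.map_comp, hfν'], (Groth.Agent.S10267.result νs).1.2 hνrep, ?_⟩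
  intro Z hZ π γ hπ hγ
  let Zs : AlgSp.Space S := ⟨Z, hZ⟩
  let πs : Zs ⟶ hU := ObjectProperty.homMk π
  have hπrep : AlgSp.RepWith @IsIntegralHom π := (Groth.Agent.S10267.result πs).1.1 hπ
  -- `Z` is representable
  obtain ⟨T, t, fst, sqT⟩ := hπrep.1 (𝟙 ((AlgSp.yon S).obj U))
  haveI htint : IsIntegralHom t.left := hπrep.2 _ _ t sqT
  haveI : IsIso fst := by
    have := sqT.flip
    exact (IsPullback.isIso_snd_of_isIso sqT.flip : IsIso fst)
  have hfstπ : fst ≫ π = (AlgSp.yon S).map t := by rw [sqT.w, Category.comp_id]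
  obtain ⟨γ', hγ'⟩ := (AlgSp.yon S).map_surjective (γ ≫ inv fst)
  have hγ't : γ' ≫ t = g := by
    apply (AlgSp.yon S).map_injective
    rw [Functor.map_comp, hγ', Category.assoc, ← hfstπ, IsIso.inv_hom_id_assoc, hγ]
  have H : g.left = γ'.left ≫ t.left := by rw [← Over.comp_left, hγ't]
  -- the descended morphism
  obtain ⟨k, hkl⟩ : ∃ k : N ⟶ T, k.left = e.hom ≫ g.left.normalizationDesc γ'.left t.left H := by
    refine ⟨Over.homMk (e.hom ≫ g.left.normalizationDesc γ'.left t.left H) ?_, rfl⟩
    rw [← Over.w t, Category.assoc, ← Category.assoc (g.left.normalizationDesc γ'.left t.left H),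
      Scheme.Hom.normalizationDesc_comp, ← Category.assoc, he2, Over.w ν]
  have hk1 : f' ≫ k = γ' := by
    apply Over.OverMorphism.ext
    rw [Over.comp_left, hkl, ← Category.assoc, he1, Scheme.Hom.toNormalization_normalizationDesc]
  have hk2 : k ≫ t = ν := by
    apply Over.OverMorphism.ext
    rw [Over.comp_left, hkl, Category.assoc, Scheme.Hom.normalizationDesc_comp, he2]
  refine ⟨(AlgSp.yon S).map k ≫ fst, ⟨?_, ?_⟩, ?_⟩
  · rw [← Category.assoc, ← Functor.map_comp, hk1, hγ', Category.assoc, IsIso.inv_hom_id,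
      Category.comp_id]
  · rw [Category.assoc, hfstπ, ← Functor.map_comp, hk2]
  · intro h'' ⟨hh1, hh2⟩
    obtain ⟨k'', hk''⟩ := (AlgSp.yon S).map_surjective (h'' ≫ inv fst)
    have hk''1 : f' ≫ k'' = γ' := by
      apply (AlgSp.yon S).map_injective
      rw [Functor.map_comp, hk'', ← Category.assoc, hh1, hγ']
    have hk''2 : k'' ≫ t = ν := by
      apply (AlgSp.yon S).map_injective
      rw [Functor.map_comp, hk'', Category.assoc, ← hfstπ, IsIso.inv_hom_id_assoc, hh2]
    have hkk : k'' = k := by
      apply Over.OverMorphism.ext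
      rw [hkl]
      have h3 : e.inv ≫ k''.left = g.left.normalizationDesc γ'.left t.left H := by
        refine Scheme.Hom.normalization.hom_ext g.left _ _ t.left ?_ ?_
          (Scheme.Hom.normalizationDesc_comp _ _ _ _)
        · rw [Scheme.Hom.toNormalization_normalizationDesc, ← he1, Category.assoc,
            Iso.hom_inv_id_assoc, ← Over.comp_left, hk''1]
        · rw [Category.assoc, ← Over.comp_left, hk''2, ← he2, Iso.inv_hom_id_assoc]
      rw [← h3, Iso.hom_inv_id_assoc]
    rw [← hkk, hk'', Category.assoc, IsIso.inv_hom_id, Category.comp_id]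

end Groth.Agent.S10298
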