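import Groth.Statements.S10302
import Groth.Agent.Lib.Helper9SpChart
import Groth.Agent.Lib.Helper9EtDim2

set_option autoImplicit false
universe u
open CategoryTheory CategoryTheory.Limits AlgebraicGeometry
open AlgSp

namespace Groth.Agent.S10302

/-- A flat morphism of algebraic spaces maps points of codimension 0 to points of codimension 0. -/
theorem result {S : Scheme.{u}} {X Y : AlgSp.Space S} (f : X ⟶ Y) (hf : AlgSp.LocP @Flat f.hom)
    (x : AlgSp.Points X.obj) (hx : AlgSp.HasAt (fun U u => ringKrullDim ↥(U.presheaf.stalk u) = 0) X.obj x) :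
    AlgSp.HasAt (fun U u => ringKrullDim ↥(U.presheaf.stalk u) = 0) Y.obj (AlgSp.Points.map f.hom x) := by
  obtain ⟨U, a, u, ha, hux, hd⟩ := hx
  obtain ⟨V, b, hb, hbs⟩ := Y.property.atlas
  obtain ⟨W, e', k, z, het, hWa, hcomm, hz1⟩ :=
    Groth.Agent.Lib.Helper9.SpPoint.exists_chart_diagram_atlas f.hom a ha u b hb hbs
  have hk : Flat k.left := hf ((AlgSp.yon S).map e' ≫ a) b k hWa hb hcomm
  haveI : Etale e'.left := het
  have h1 := Groth.Agent.Lib.Helper9.EtDim.ringKrullDim_stalk_eq_of_etale e'.left z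
  have h2 := Groth.Agent.Lib.Helper9.EtDim.ringKrullDim_stalk_le_of_flat k.left z
  rw [hz1, hd] at h1
  rw [h1] at h2
  refine ⟨V, b, k.left z, hb, ?_, le_antisymm h2 ringKrullDim_nonneg_of_nontrivial⟩
  rw [← hux, AlgSp.Points.map_ofPt, ← hz1, ← Groth.Agent.Lib.Helper9.SpPoint.ofPt_yon_map_comp,
    ← Groth.Agent.Lib.Helper9.SpPoint.ofPt_yon_map_comp, ← hcomm, Category.assoc]

end Groth.Agent.S10302
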