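import Groth.Statements.S10316
import Groth.Agent.Lib.Helper9ResTrdeg

set_option autoImplicit false
universe u
open CategoryTheory CategoryTheory.Limits AlgebraicGeometry
open AlgSp

namespace Groth.Agent.S10316

/-- For X -> Y locally quasi-finite and Y -> Z locally of finite type, the transcendence degree of x
over Z equals that of its image y over Z. -/
theorem result {S : Scheme.{u}} {X Y Z : AlgSp.Space S} (f : X ⟶ Y) (g : Y ⟶ Z)
    (hf : AlgSp.LocP (@LocallyQuasiFinite ⊓ @LocallyOfFiniteType) f.hom) (hg : AlgSp.LocP @LocallyOfFiniteType g.hom)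
    (x : AlgSp.Points X.obj) (r : Cardinal.{u}) :
    AlgSp.HasAtMor (fun _ _ h u => Dual3.resTrdeg h u = r) (f ≫ g).hom x ↔
      AlgSp.HasAtMor (fun _ _ h u => Dual3.resTrdeg h u = r) g.hom (AlgSp.Points.map f.hom x) := by
  constructor
  · rintro ⟨U, W, a, c, m, u, ha, hc, hcomm, hux, hr⟩
    obtain ⟨V₀, b₀, hb₀, hs₀⟩ := Y.property.atlas
    obtain ⟨v₀, hv₀⟩ := Groth.Agent.Lib.Helper9.SpPoint.exists_atlas_point b₀ hs₀
      (AlgSp.Points.map f.hom x)
    have hpt : AlgSp.Points.ofPt (b₀ ≫ g.hom) v₀ = AlgSp.Points.ofPt c (m.left u) := by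
      rw [← AlgSp.Points.map_ofPt, hv₀, ← Groth.Agent.Lib.Helper9.SpPoint.ofPt_yon_map_comp,
        ← hcomm, ← AlgSp.Points.map_ofPt, hux]
      exact (AlgSp.Points.map_comp f.hom g.hom x).symm
    obtain ⟨V, e, k, v, het, hVb, hcommV, hv1, hv2⟩ :=
      Groth.Agent.Lib.Helper9.SpPoint.exists_chart_diagram g.hom b₀ hb₀ v₀ c hc (m.left u) hpt
    have hpt2 : AlgSp.Points.ofPt (a ≫ f.hom) u =
        AlgSp.Points.ofPt ((AlgSp.yon S).map e ≫ b₀) v := by
      rw [← AlgSp.Points.map_ofPt, hux, Groth.Agent.Lib.Helper9.SpPoint.ofPt_yon_map_comp, hv1, hv₀]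
    obtain ⟨T, e', k', z, het', hTa, hcommT, hz1, hz2⟩ :=
      Groth.Agent.Lib.Helper9.SpPoint.exists_chart_diagram f.hom a ha u
        ((AlgSp.yon S).map e ≫ b₀) hVb v hpt2
    refine ⟨V, W, (AlgSp.yon S).map e ≫ b₀, c, k, v, hVb, hc, hcommV, ?_, ?_⟩
    · rw [Groth.Agent.Lib.Helper9.SpPoint.ofPt_yon_map_comp, hv1, hv₀]
    · have hk' := hf ((AlgSp.yon S).map e' ≫ a) ((AlgSp.yon S).map e ≫ b₀) k' hTa hVb hcommT
      haveI : LocallyQuasiFinite k'.left := hk'.1
      haveI : Etale e'.left := het'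
      haveI : LocallyQuasiFinite e'.left :=
        Groth.Agent.Lib.Helper3.IrrTop.locallyQuasiFinite_of_unramified _
      have h1 : Dual3.resTrdeg (k'.left ≫ k.left) z = Dual3.resTrdeg k.left (k'.left z) :=
        Groth.Agent.Lib.Helper9.ResTrdeg.resTrdeg_comp_of_lqf_left _ _ _
      have h2 : Dual3.resTrdeg (e'.left ≫ m.left) z = Dual3.resTrdeg m.left (e'.left z) :=
        Groth.Agent.Lib.Helper9.ResTrdeg.resTrdeg_comp_of_lqf_left _ _ _
      have h3 : Dual3.resTrdeg (k' ≫ k).left z = Dual3.resTrdeg (e' ≫ m).left z :=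
        Groth.Agent.Lib.Helper9.ResTrdeg.resTrdeg_eq_of_charts c hc c hc (k' ≫ k) (e' ≫ m) (by
          have hcomm2 : a ≫ f.hom ≫ g.hom = (AlgSp.yon S).map m ≫ c := hcomm
          rw [Functor.map_comp, Category.assoc, ← hcommV, ← Category.assoc, ← hcommT,
            Functor.map_comp, Category.assoc, Category.assoc, Category.assoc, hcomm2]) z
      change Dual3.resTrdeg k.left v = r
      rw [← hz2, ← h1]
      refine Eq.trans h3 ?_
      change Dual3.resTrdeg (e'.left ≫ m.left) z = r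
      rw [h2, hz1]
      exact hr
  · rintro ⟨V, W, b, c, k, v, hb, hc, hcomm, hvy, hr⟩
    obtain ⟨U₀, a₀, ha₀, hs₀⟩ := X.property.atlas
    obtain ⟨u₀, hu₀⟩ := Groth.Agent.Lib.Helper9.SpPoint.exists_atlas_point a₀ hs₀ x
    have hpt : AlgSp.Points.ofPt (a₀ ≫ f.hom) u₀ = AlgSp.Points.ofPt b v := by
      rw [← AlgSp.Points.map_ofPt, hu₀, hvy]
    obtain ⟨T, e, k', z, het, hTa, hcommT, hz1, hz2⟩ :=
      Groth.Agent.Lib.Helper9.SpPoint.exists_chart_diagram f.hom a₀ ha₀ u₀ b hb v hpt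
    refine ⟨T, W, (AlgSp.yon S).map e ≫ a₀, c, k' ≫ k, z, hTa, hc, ?_, ?_, ?_⟩
    · change ((AlgSp.yon S).map e ≫ a₀) ≫ f.hom ≫ g.hom = _
      rw [← Category.assoc, hcommT, Category.assoc, hcomm, Functor.map_comp, Category.assoc]
    · rw [Groth.Agent.Lib.Helper9.SpPoint.ofPt_yon_map_comp, hz1, hu₀]
    · have hk' := hf ((AlgSp.yon S).map e ≫ a₀) b k' hTa hb hcommT
      haveI : LocallyQuasiFinite k'.left := hk'.1
      change Dual3.resTrdeg (k'.left ≫ k.left) z = r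
      rw [Groth.Agent.Lib.Helper9.ResTrdeg.resTrdeg_comp_of_lqf_left, hz2]
      exact hr

end Groth.Agent.S10316
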