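import Groth.Statements.S10318
import Groth.Agent.Lib.Helper9ResTrdeg2

set_option autoImplicit false
universe u
open CategoryTheory CategoryTheory.Limits AlgebraicGeometry
open AlgSp

namespace Groth.Agent.S10318

/-- Over a Jacobson algebraic space, a finite type point of a space locally of finite type over it has
transcendence degree 0 over its image. -/
theorem result {S : Scheme.{u}} {X Y : AlgSp.Space S} (f : X ⟶ Y)
    (hf : AlgSp.LocP @LocallyOfFiniteType f.hom) (hY : AlgSp.EtaleLocally (fun U => JacobsonSpace ↥U) Y.obj)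
    (x : AlgSp.Points X.obj) (hx : AlgSp.HasAt (fun U u => IsClosed ({u} : Set ↥U)) X.obj x) :
    AlgSp.HasAtMor (fun _ _ h u => Dual3.resTrdeg h u = 0) f.hom x := by
  obtain ⟨U, a, u, ha, hux, hcl⟩ := hx
  obtain ⟨V₀, b₀, hb₀, hs₀, hJ⟩ := hY
  obtain ⟨T, e, k, z, het, hTa, hcomm, hz1⟩ :=
    Groth.Agent.Lib.Helper9.SpPoint.exists_chart_diagram_atlas f.hom a ha u b₀ hb₀ hs₀
  refine ⟨T, V₀, (AlgSp.yon S).map e ≫ a, b₀, k, z, hTa, hb₀, hcomm, ?_, ?_⟩
  · rw [Groth.Agent.Lib.Helper9.SpPoint.ofPt_yon_map_comp, hz1, hux]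
  · haveI : LocallyOfFiniteType k.left := hf _ _ k hTa hb₀ hcomm
    haveI : JacobsonSpace V₀.left := hJ
    haveI : Etale e.left := het
    haveI : LocallyQuasiFinite e.left :=
      Groth.Agent.Lib.Helper3.IrrTop.locallyQuasiFinite_of_unramified _
    exact Groth.Agent.Lib.Helper9.ResTrdeg.resTrdeg_eq_zero_of_isClosed k.left z
      (Groth.Agent.Lib.Helper9.ResTrdeg.isClosed_singleton_of_lqf e.left z (by rw [hz1]; exact hcl))

end Groth.Agent.S10318
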