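import Groth.Statements.S10319
import Groth.Agent.Lib.Helper9ResTrdeg

set_option autoImplicit false
universe u
open CategoryTheory CategoryTheory.Limits AlgebraicGeometry
open AlgSp

namespace Groth.Agent.S10319

/-- Transcendence degrees at a point add up along a composition of morphisms locally of finite type. -/
theorem result {S : Scheme.{u}} {X Y Z : AlgSp.Space S} (f : X ⟶ Y) (g : Y ⟶ Z)
    (hf : AlgSp.LocP @LocallyOfFiniteType f.hom) (hg : AlgSp.LocP @LocallyOfFiniteType g.hom)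
    (x : AlgSp.Points X.obj) (r₁ r₂ : Cardinal.{u})
    (h1 : AlgSp.HasAtMor (fun _ _ h u => Dual3.resTrdeg h u = r₁) f.hom x)
    (h2 : AlgSp.HasAtMor (fun _ _ h u => Dual3.resTrdeg h u = r₂) g.hom (AlgSp.Points.map f.hom x)) :
    AlgSp.HasAtMor (fun _ _ h u => Dual3.resTrdeg h u = r₁ + r₂) (f ≫ g).hom x := by
  obtain ⟨U, V, a, b, h, u, ha, hb, hcomm, hux, hr1⟩ := h1
  obtain ⟨V', W', b', c', k, v', hb', hc', hcomm', hvy, hr2⟩ := h2
  have hpt : AlgSp.Points.ofPt (a ≫ f.hom) u = AlgSp.Points.ofPt b' v' := by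
    rw [← AlgSp.Points.map_ofPt, hux, hvy]
  obtain ⟨T, e, k', z, het, hTa, hcomm'', hz1, hz2⟩ :=
    Groth.Agent.Lib.Helper9.SpPoint.exists_chart_diagram f.hom a ha u b' hb' v' hpt
  haveI : Etale e.left := het
  haveI : LocallyQuasiFinite e.left :=
    Groth.Agent.Lib.Helper3.IrrTop.locallyQuasiFinite_of_unramified _
  refine ⟨T, W', (AlgSp.yon S).map e ≫ a, c', k' ≫ k, z, hTa, hc', ?_, ?_, ?_⟩
  · change ((AlgSp.yon S).map e ≫ a) ≫ f.hom ≫ g.hom = _
    rw [← Category.assoc, hcomm'', Category.assoc, hcomm', Functor.map_comp, Category.assoc]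
  · rw [Groth.Agent.Lib.Helper9.SpPoint.ofPt_yon_map_comp, hz1, hux]
  · change Dual3.resTrdeg (k'.left ≫ k.left) z = r₁ + r₂
    rw [Groth.Agent.Lib.Helper9.ResTrdeg.resTrdeg_comp, hz2, hr2]
    have h3 : Dual3.resTrdeg (e ≫ h).left z = Dual3.resTrdeg k'.left z :=
      Groth.Agent.Lib.Helper9.ResTrdeg.resTrdeg_eq_of_charts b hb b' hb' (e ≫ h) k' (by
        rw [Functor.map_comp, Category.assoc, ← hcomm, ← Category.assoc, hcomm'']) z
    have h4 : Dual3.resTrdeg (e.left ≫ h.left) z = Dual3.resTrdeg h.left (e.left z) :=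
      Groth.Agent.Lib.Helper9.ResTrdeg.resTrdeg_comp_of_lqf_left _ _ _
    rw [← h3]
    change r₂ + Dual3.resTrdeg (e.left ≫ h.left) z = r₁ + r₂
    rw [h4, hz1, hr1, add_comm]

end Groth.Agent.S10319
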