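import Groth.Statements.S10325
import Groth.Agent.Lib.Helper13AffCrit
import Groth.Agent.Lib.Helper9SigmaFinite

set_option autoImplicit false
universe u
open CategoryTheory CategoryTheory.Limits AlgebraicGeometry
open AlgSp

namespace Groth.Agent.S10325

/-- A finite disjoint union of algebraic spaces finite over Y is finite over Y. -/
theorem result {S : Scheme.{u}} {n : ℕ} (X : Fin n → AlgSp.Space S) (Y : AlgSp.Space S)
    (g : ∀ i, X i ⟶ Y) (hg : ∀ i, AlgSp.IsFiniteMor (g i).hom) (c : Cofan fun i => (X i).obj) (hc : IsColimit c)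
    (d : c.pt ⟶ Y.obj) (hd : ∀ i, c.inj i ≫ d = (g i).hom) : AlgSp.IsFiniteMor d := by
  classical
  intro Z hZ gz
  choose W t fst hpb hWa hfin using fun i => hg i hZ gz
  -- reindex the colimit cofan over `ULift (Fin n)`
  have hc' : IsColimit (Cofan.mk c.pt (fun j : ULift.{u} (Fin n) => c.inj j.down)) :=
    mkCofanColimit _ (fun s => Cofan.IsColimit.desc hc (fun i => s.inj ⟨i⟩))
      (fun s j => by
        show c.inj j.down ≫ _ = _
        rw [Cofan.IsColimit.fac])
      (fun s m hm => by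
        apply Cofan.IsColimit.hom_ext hc
        intro i
        rw [Cofan.IsColimit.fac]
        exact hm ⟨i⟩)
  -- the disjoint union
  have hcw : Limits.Sigma.desc (fun j : ULift.{u} (Fin n) => (t j.down).left) ≫ Z.hom =
      (Groth.Agent.Lib.Helper12.OpenCoverSp.sigmaOver (fun j : ULift.{u} (Fin n) => W j.down)).hom := by
    apply Limits.Sigma.hom_ext
    intro j
    rw [Limits.Sigma.ι_desc_assoc, Over.w]
    simp [Groth.Agent.Lib.Helper12.OpenCoverSp.sigmaOver]
  obtain ⟨cZ, hcZdef⟩ : ∃ cZ : Groth.Agent.Lib.Helper12.OpenCoverSp.sigmaOver (fun j : ULift.{u} (Fin n) => W j.down) ⟶ Z,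
      cZ = Over.homMk (Limits.Sigma.desc (fun j : ULift.{u} (Fin n) => (t j.down).left)) hcw :=
    ⟨_, rfl⟩
  have hcZ : ∀ j : ULift.{u} (Fin n),
      Groth.Agent.Lib.Helper12.OpenCoverSp.sigmaι (fun j : ULift.{u} (Fin n) => W j.down) j ≫ cZ = t j.down := by
    intro j
    apply Over.OverMorphism.ext
    rw [hcZdef, Over.comp_left]
    simp only [Groth.Agent.Lib.Helper12.OpenCoverSp.sigmaι, Over.homMk_left]
    exact Limits.Sigma.ι_desc _ _
  haveI : ∀ j : ULift.{u} (Fin n), IsAffine (W j.down).left := fun j => hWa j.down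
  haveI : IsAffine Z.left := hZ
  have hZ'a : IsAffine (Groth.Agent.Lib.Helper12.OpenCoverSp.sigmaOver (fun j : ULift.{u} (Fin n) => W j.down)).left := by
    show IsAffine (∐ fun j : ULift.{u} (Fin n) => (W j.down).left)
    infer_instance
  have hcZfin : IsFinite cZ.left := by
    rw [hcZdef]
    exact Groth.Agent.Lib.Helper9.SigmaFinite.isFinite_sigmaDesc
      (fun j : ULift.{u} (Fin n) => (W j.down).left) (fun j => (t j.down).left)
      (fun j => hfin j.down)
  -- the maps to the fibre product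
  have hw : ∀ j : ULift.{u} (Fin n),
      (fst j.down ≫ c.inj j.down) ≫ d = (AlgSp.yon S).map (t j.down) ≫ gz := by
    intro j
    rw [Category.assoc, hd]
    exact (hpb j.down).w
  obtain ⟨inj, hinj⟩ : ∃ inj : ∀ j : ULift.{u} (Fin n),
      (AlgSp.yon S).obj (W j.down) ⟶ pullback d gz,
      inj = fun j => pullback.lift _ _ (hw j) := ⟨_, rfl⟩
  have hinj1 : ∀ j, inj j ≫ pullback.fst d gz = fst j.down ≫ c.inj j.down := by
    intro j; rw [hinj]; exact pullback.lift_fst _ _ _
  have hinj2 : ∀ j, inj j ≫ pullback.snd d gz = (AlgSp.yon S).map (t j.down) := by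
    intro j; rw [hinj]; exact pullback.lift_snd _ _ _
  have sqj : ∀ j : ULift.{u} (Fin n),
      IsPullback (fst j.down) (inj j) (c.inj j.down) (pullback.fst d gz) := by
    intro j
    refine (IsPullback.of_right ?_ (hinj1 j) (IsPullback.of_hasPullback d gz).flip).flip
    rw [hinj2, hd]
    exact (hpb j.down).flip
  obtain ⟨hcP⟩ := Groth.Agent.Lib.Helper12.CoprodSp.cofan_pullback _ hc' (pullback.fst d gz) (fun j => fst j.down) inj sqj
  -- compare the two colimits
  let e := IsColimit.coconePointUniqueUpToIso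
    (Groth.Agent.Helper13AffCrit.isColimitSigma (fun j : ULift.{u} (Fin n) => W j.down)) hcP
  have he : ∀ j : ULift.{u} (Fin n),
      (AlgSp.yon S).map (Groth.Agent.Lib.Helper12.OpenCoverSp.sigmaι (fun j : ULift.{u} (Fin n) => W j.down) j) ≫ e.hom = inj j :=
    fun j => IsColimit.comp_coconePointUniqueUpToIso_hom
      (Groth.Agent.Helper13AffCrit.isColimitSigma (fun j : ULift.{u} (Fin n) => W j.down)) hcP ⟨j⟩
  have he2 : e.hom ≫ pullback.snd d gz = (AlgSp.yon S).map cZ := by
    apply Groth.Agent.Helper13AffCrit.sigma_hom_ext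
    intro j
    rw [← Category.assoc, he, hinj2, ← Functor.map_comp, hcZ]
  refine ⟨Groth.Agent.Lib.Helper12.OpenCoverSp.sigmaOver (fun j : ULift.{u} (Fin n) => W j.down), cZ, e.hom ≫ pullback.fst d gz,
    ?_, hZ'a, hcZfin⟩
  refine (IsPullback.of_hasPullback d gz).of_iso' e (Iso.refl _) (Iso.refl _) (Iso.refl _)
    ?_ ?_ ?_ ?_
  · simp
  · simp [he2]
  · simp
  · simp

end Groth.Agent.S10325
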