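import Groth.Statements.S10326
import Mathlib
import Groth.Agent.Lib.Helper12NoethDescent

set_option autoImplicit false
universe u
open CategoryTheory CategoryTheory.Limits AlgebraicGeometry
open AlgSp

namespace Groth.Agent.S10326





/-- Every scheme etale over a locally Noetherian algebraic space has quasi-compact opens with finitely
many irreducible components. -/
theorem result {S : Scheme.{u}} (X : AlgSp.Space S)
    (hX : AlgSp.IsLocNoethSp X.obj) (U : Over S) (a : (AlgSp.yon S).obj U ⟶ X.obj) (ha : AlgSp.RepWith @Etale a)
    (W : U.left.Opens) (hW : IsCompact (W : Set ↥U.left)) : (irreducibleComponents ↥W).Finite := by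
  obtain ⟨V, p, hpe, hps, hV⟩ := hX
  have sq := hpe.rep.isPullback' a
  haveI : Etale (hpe.rep.snd a).left := hpe.property_snd a
  haveI : Surjective (hpe.rep.snd a).left := hps.2 a _ _ (hpe.rep.isPullback a)
  haveI : Etale (hpe.rep.fst' a).left := ha.2 p _ _ sq.flip
  haveI : IsLocallyNoetherian V.left := hV
  haveI : IsLocallyNoetherian (hpe.rep.pullback a).left :=
    LocallyOfFiniteType.isLocallyNoetherian (hpe.rep.fst' a).left
  haveI : IsLocallyNoetherian U.left :=
    Groth.Agent.Lib.Helper12.NoethDescent.isLocallyNoetherian_of_flat_lfp_surjective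
      (hpe.rep.snd a).left
  haveI : IsLocallyNoetherian W.toScheme := isLocallyNoetherian_of_isOpenImmersion W.ι
  haveI : CompactSpace W.toScheme := isCompact_iff_compactSpace.1 hW
  haveI : IsNoetherian W.toScheme := {}
  haveI : TopologicalSpace.NoetherianSpace W.toScheme := IsNoetherian.noetherianSpace
  exact TopologicalSpace.NoetherianSpace.finite_irreducibleComponents (α := W.toScheme)

end Groth.Agent.S10326
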