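import Groth.Statements.S1033
import Mathlib.Algebra.Homology.DerivedCategory.Ext.ExactSequences
import Mathlib.Algebra.Homology.DerivedCategory.Fractions
-- import your own Groth.Agent.* helpers here

set_option autoImplicit false
universe w v u
open CategoryTheory CategoryTheory.Abelian
open CohDer

namespace Groth.Agent.S1033

open CategoryTheory.Limits

lemma epi_f_zero {A : Type u} [Category.{v} A] [Abelian A] {X' X : CochainComplex A ℤ} (s : X' ⟶ X) [QuasiIso s]
    (h1 : X'.d 0 1 = 0) (h2 : X.d 0 1 = 0) (h3 : X.d (-1) 0 = 0) : Epi (s.f 0) := by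
  have i1 := X'.isIso_iCycles 0 1 (by simp) h1
  have i2 := X.isIso_iCycles 0 1 (by simp) h2
  have i3 := X.isIso_homologyπ (-1) 0 (by simp) h3
  have e : s.f 0 ≫ inv (X.iCycles 0) ≫ X.homologyπ 0 =
      inv (X'.iCycles 0) ≫ X'.homologyπ 0 ≫ HomologicalComplex.homologyMap s 0 := by
    rw [HomologicalComplex.homologyπ_naturality, ← Category.assoc, ← Category.assoc]
    congr 1
    rw [IsIso.comp_inv_eq, Category.assoc, HomologicalComplex.cyclesMap_i, IsIso.inv_hom_id_assoc]
  have h4 : Epi (s.f 0 ≫ inv (X.iCycles 0) ≫ X.homologyπ 0) := by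
    rw [e]
    infer_instance
  have h5 : s.f 0 = (s.f 0 ≫ inv (X.iCycles 0) ≫ X.homologyπ 0) ≫
      inv (inv (X.iCycles 0) ≫ X.homologyπ 0) := by
    simp
  rw [h5]
  infer_instance

open DerivedCategory in
lemma exists_epi_comp_eq_zero {A : Type u} [Category.{v} A] [Abelian A] [HasExt.{w} A]
    {B C : A} {n : ℕ} (x : Ext B C (n + 1)) :
    ∃ (B' : A) (π : B' ⟶ B), Epi π ∧ (Ext.mk₀ π).comp x (zero_add (n + 1)) = 0 := by
  let _ := HasDerivedCategory.standard A
  let X : CochainComplex A ℤ := (HomologicalComplex.single A (ComplexShape.up ℤ) 0).obj B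
  let Y₀ : CochainComplex A ℤ := (HomologicalComplex.single A (ComplexShape.up ℤ) 0).obj C
  let m : ℤ := ((n + 1 : ℕ) : ℤ)
  let Y : CochainComplex A ℤ := Y₀⟦m⟧
  let e : (Q.obj Y₀)⟦m⟧ ≅ Q.obj Y := ((Q.commShiftIso m).app Y₀).symm
  let f : Q.obj X ⟶ Q.obj Y := x.hom ≫ e.hom
  have hXle : X.IsStrictlyLE 0 := by dsimp [X]; infer_instance
  obtain ⟨X', hX', s, hs, g, hf⟩ := right_fac_of_isStrictlyLE f 0
  have hsq : QuasiIso s := by rwa [← isIso_Q_map_iff_quasiIso]
  have hd' : X'.d 0 1 = 0 := (X'.isZero_of_isStrictlyLE 0 1 (by lia)).eq_of_tgt _ _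
  have hd : X.d 0 1 = 0 := (X.isZero_of_isStrictlyLE 0 1 (by lia)).eq_of_tgt _ _
  have hd2 : X.d (-1) 0 = 0 :=
    (HomologicalComplex.isZero_single_obj_X (ComplexShape.up ℤ) 0 B (-1) (by lia)).eq_of_src _ _
  have hepi : Epi (s.f 0) := epi_f_zero s hd' hd hd2
  let π : X'.X 0 ⟶ B := s.f 0 ≫ (HomologicalComplex.singleObjXSelf (ComplexShape.up ℤ) 0 B).hom
  refine ⟨X'.X 0, π, ?_, ?_⟩
  · dsimp [π]; infer_instance
  · let j : (HomologicalComplex.single A (ComplexShape.up ℤ) 0).obj (X'.X 0) ⟶ X' :=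
      HomologicalComplex.mkHomFromSingle (𝟙 _) (fun k hk => by
        obtain rfl : k = 1 := by simpa using hk.symm
        rw [hd', comp_zero])
    have hjs : j ≫ s = (HomologicalComplex.single A (ComplexShape.up ℤ) 0).map π := by
      apply HomologicalComplex.from_single_hom_ext
      rw [HomologicalComplex.single_map_f_self, HomologicalComplex.comp_f,
        HomologicalComplex.mkHomFromSingle_f]
      simp only [π, Category.assoc, Iso.hom_inv_id, Category.comp_id]
    have hjg : j ≫ g = 0 := by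
      apply HomologicalComplex.from_single_hom_ext
      apply IsZero.eq_of_tgt
      dsimp [Y, Y₀]
      exact HomologicalComplex.isZero_single_obj_X (ComplexShape.up ℤ) 0 C _ (by dsimp [m]; lia)
    have key : Q.map ((HomologicalComplex.single A (ComplexShape.up ℤ) 0).map π) ≫ f = 0 := by
      rw [hf, ← hjs, Functor.map_comp, Category.assoc, IsIso.hom_inv_id_assoc, ← Functor.map_comp, hjg,
        Functor.map_zero]
    apply Ext.ext
    rw [Ext.comp_hom, Ext.mk₀_hom, Ext.zero_hom, ShiftedHom.mk₀_comp]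
    have hx : x.hom = f ≫ e.inv := ((Iso.comp_inv_eq e).2 rfl).symm
    rw [hx]
    change Q.map ((HomologicalComplex.single A (ComplexShape.up ℤ) 0).map π) ≫ f ≫ _ = 0
    rw [reassoc_of% key, zero_comp]

/-- Let A be an abelian category (with Ext groups in some universe) and p ≥ 0. If Extᵖ(B, C) = 0 for all
objects B, C, then Extⁱ(B, C) = 0 for all i ≥ p and all B, C. -/
theorem result {A : Type u} [Category.{v} A] [Abelian A] [HasExt.{w} A] (p : ℕ)
    (h : ∀ (B C : A) (x : Ext B C p), x = 0) (i : ℕ) (hi : p ≤ i) (B C : A) (x : Ext B C i) : x = 0 := by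
  obtain ⟨k, rfl⟩ := Nat.exists_eq_add_of_le hi
  clear hi
  induction k generalizing B C with
  | zero => exact h B C x
  | succ k ih =>
    obtain ⟨B', π, hπ, hx⟩ := exists_epi_comp_eq_zero (n := p + k) x
    let S := ShortComplex.mk (kernel.ι π) π (kernel.condition π)
    have hS : S.ShortExact :=
      { exact := ShortComplex.exact_of_f_is_kernel _ (kernelIsKernel π)
        mono_f := by dsimp [S]; infer_instance
        epi_g := hπ }
    obtain ⟨x₁, hx₁⟩ := Ext.contravariant_sequence_exact₃ hS C x hx (n₀ := p + k) (by lia)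
    rw [← hx₁, ih _ _ x₁, Ext.comp_zero]

end Groth.Agent.S1033
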