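import Groth.Statements.S9966
import Mathlib
import Groth.Agent.S10192
import Groth.Agent.S10496
import Groth.Agent.Lib.Helper12SchImage2
import Groth.Agent.Lib.Helper12ZarGlue2

set_option autoImplicit false
universe u
open CategoryTheory CategoryTheory.Limits AlgebraicGeometry
open AlgSp

namespace Groth.Agent.S9966


variable {S : Scheme.{u}}

open Groth.Agent.Lib.Helper12 in
/-- a morphism from a reduced sheaf whose image lies in the image of a closed immersion factors
through the closed immersion. -/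
lemma exists_factor_of_reduced {F Y Z' : AlgSp.Sp S} (hF : AlgSp.IsReducedSp F) (g : F ⟶ Y)
    (i' : Z' ⟶ Y) (hi' : AlgSp.RepWith @IsClosedImmersion i')
    (hsub : Set.range (AlgSp.Points.map g) ⊆ Set.range (AlgSp.Points.map i')) :
    ∃ k : F ⟶ Z', k ≫ i' = g := by
  obtain ⟨U, u, hue, hus, hUred⟩ := hF
  haveI : IsReduced U.left := hUred
  haveI : Epi u := Groth.Agent.S9927.epi_of_repWith u hue hus
  haveI : Mono i' := SchImage2.mono_of_closedImmersion hi'
  obtain ⟨W, w, fstW, sqW⟩ := hi'.1 (u ≫ g)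
  haveI : IsClosedImmersion w.left := hi'.2 _ _ w sqW
  haveI : Surjective w.left := ⟨fun x => by
    refine ZarGlue.mem_range_of_mem_range_map i' (u ≫ g) fstW w sqW x (hsub ?_)
    rw [← AlgSp.Points.map_ofPt]
    exact ⟨_, rfl⟩⟩
  haveI : IsIso w.left := isIso_of_isClosedImmersion_of_surjective w.left
  haveI : IsIso ((Over.forget S).map w) := ‹IsIso w.left›
  haveI : IsIso w := isIso_of_reflects_iso w (Over.forget S)
  obtain ⟨k, hk, -⟩ := ClosedDescent.exists_factor_of_epi u ((AlgSp.yon S).map (inv w) ≫ fstW) g i'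
    (by
      rw [Category.assoc, sqW.w, ← Category.assoc, ← Functor.map_comp, IsIso.inv_hom_id,
        (AlgSp.yon S).map_id, Category.id_comp])
  exact ⟨k, hk⟩



/-- The scheme theoretic image of a morphism from a reduced algebraic space is the reduced induced
structure on the closure of its image. -/
theorem result {S : Scheme.{u}} {X Y Z : AlgSp.Space S} (f : X ⟶ Y) (i : Z ⟶ Y)
    (hX : AlgSp.IsReducedSp X.obj) (hZ : AlgSp.IsSchImage f.hom i.hom) :
    AlgSp.IsRedInduced (closure (Set.range (AlgSp.Points.map f.hom))) i.hom := by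
  obtain ⟨Z₁, i₁, hi₁, hrange₁, hred₁⟩ := Groth.Agent.S10192.result Y
    (closure (Set.range (AlgSp.Points.map f.hom))) isClosed_closure
  have hSI₁ : AlgSp.IsSchImage f.hom i₁.hom := by
    refine ⟨hi₁, exists_factor_of_reduced hX f.hom i₁.hom hi₁ ?_, ?_⟩
    · rw [hrange₁]; exact subset_closure
    · intro Z' i' hZ' hi' hf''
      obtain ⟨f'', hf''⟩ := hf''
      refine exists_factor_of_reduced hred₁ i₁.hom i' hi' ?_
      rw [hrange₁]
      have hcl : IsClosed (Set.range (AlgSp.Points.map i')) := by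
        rw [← Set.image_univ]
        exact Groth.Agent.S10496.isClosedMap_map_of_closedImmersion
          (ObjectProperty.homMk i' : (⟨Z', hZ'⟩ : AlgSp.Space S) ⟶ Y) hi' _ isClosed_univ
      refine closure_minimal ?_ hcl
      rw [← hf'']
      rintro _ ⟨x, rfl⟩
      rw [AlgSp.Points.map_comp]
      exact ⟨_, rfl⟩
  obtain ⟨ε, hε⟩ := Groth.Agent.Lib.Helper12.SchImage2.isSchImage_unique Z.property Z₁.property
    hZ hSI₁
  refine ⟨hZ.1, ?_, ?_⟩
  · rw [← hrange₁, ← hε]
    ext y
    constructor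
    · rintro ⟨x, rfl⟩
      rw [AlgSp.Points.map_comp]
      exact ⟨_, rfl⟩
    · rintro ⟨x, rfl⟩
      refine ⟨AlgSp.Points.map ε.inv x, ?_⟩
      rw [← AlgSp.Points.map_comp, Iso.inv_hom_id_assoc]
  · obtain ⟨U₁, u₁, hue, hus, hUred⟩ := hred₁
    exact ⟨U₁, u₁ ≫ ε.inv, (AlgSp.RepWith @Etale).comp_mem _ _ hue (MorphismProperty.of_isIso _ _),
      (AlgSp.RepWith @Surjective).comp_mem _ _ hus (MorphismProperty.of_isIso _ _), hUred⟩

end Groth.Agent.S9966
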