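import Groth.Statements.S10333
import Groth.Agent.S10267
import Groth.Agent.S10192
import Groth.Agent.S9966

set_option autoImplicit false
universe u
open CategoryTheory CategoryTheory.Limits AlgebraicGeometry
open AlgSp

namespace Groth.Agent.S10333

/-- Let f : Y -> X be a morphism of algebraic spaces over S that is quasi-compact and quasi-separated,
and X' -> X the normalization of X in Y (an integral morphism through which f factors, initial among
such factorizations). If Y is reduced then X' is reduced. -/
theorem result {S : Scheme.{u}} {Y X X' : AlgSp.Space S} (f : Y ⟶ X)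
    (hqc : AlgSp.IsQuasiCompactMor f.hom) (hqs : AlgSp.IsQuasiSeparatedMor f.hom) (ν : X' ⟶ X) (f' : Y ⟶ X')
    (hn : AlgSp.IsRelNormalization f.hom ν.hom f'.hom) (hY : AlgSp.IsReducedSp Y.obj) :
    AlgSp.IsReducedSp X'.obj := by
  obtain ⟨hfac, hνint, huniv⟩ := hn
  -- the reduction of `X'`
  obtain ⟨R, r, hrcl, hrrange, hRred⟩ := Groth.Agent.S10192.result X' Set.univ isClosed_univ
  haveI : Mono r.hom := Groth.Agent.Lib.Helper12.SchImage2.mono_of_closedImmersion hrcl
  -- `f'` factors through it
  obtain ⟨g, hg⟩ := Groth.Agent.S9966.exists_factor_of_reduced hY f'.hom r.hom hrcl (by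
    rw [hrrange]; exact Set.subset_univ _)
  -- `r ≫ ν` is integral
  have hrint : AlgSp.RepWith @IsIntegralHom r.hom := by
    refine MorphismProperty.relative_monotone (F := AlgSp.yon S) ?_ _ hrcl
    intro A B k hk
    have : IsClosedImmersion k.left := hk
    change IsIntegralHom k.left
    infer_instance
  have hνrep : AlgSp.RepWith @IsIntegralHom ν.hom := (Groth.Agent.S10267.result ν).1.1 hνint
  have hcomp : AlgSp.IsIntegralMor (r ≫ ν).hom := by
    have hinv : (MorphismProperty.inverseImage (@IsIntegralHom.{u}) (Over.forget S)).IsStableUnderComposition :=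
      MorphismProperty.IsStableUnderComposition.inverseImage _
    have : (AlgSp.RepWith (S := S) @IsIntegralHom.{u}).IsStableUnderComposition :=
      MorphismProperty.relative_isStableUnderComposition _
    have h2' : AlgSp.RepWith @IsIntegralHom (r ≫ ν).hom :=
      MorphismProperty.comp_mem _ _ _ hrint hνrep
    exact (Groth.Agent.S10267.result (r ≫ ν)).1.2 h2'
  have hgf : g ≫ (r ≫ ν).hom = f.hom := by
    change g ≫ r.hom ≫ ν.hom = f.hom
    rw [← Category.assoc, hg, hfac]
  obtain ⟨h, ⟨hh1, hh2⟩, -⟩ := huniv R.property (r ≫ ν).hom g hcomp hgf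
  -- uniqueness for `(X', ν, f')`
  have hνint' : AlgSp.IsIntegralMor ν.hom := hνint
  obtain ⟨h₀, _, hh₀u⟩ := huniv X'.property ν.hom f'.hom hνint' hfac
  have e1 : h ≫ r.hom = h₀ := hh₀u _ ⟨by rw [← Category.assoc, hh1, hg], by
    rw [Category.assoc]; exact hh2⟩
  have e2 : 𝟙 X'.obj = h₀ := hh₀u _ ⟨Category.comp_id _, Category.id_comp _⟩
  have hsplit : h ≫ r.hom = 𝟙 X'.obj := e1.trans e2.symm
  -- `r` is an isomorphism
  haveI : IsIso r.hom := by
    refine ⟨⟨h, ?_, hsplit⟩⟩
    rw [← cancel_mono r.hom, Category.assoc, hsplit, Category.comp_id, Category.id_comp]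
  obtain ⟨U, u, hue, hus, hUred⟩ := hRred
  refine ⟨U, u ≫ r.hom, ?_, ?_, hUred⟩
  · exact (MorphismProperty.cancel_right_of_respectsIso (AlgSp.RepWith @Etale) u r.hom).2 hue
  · exact (MorphismProperty.cancel_right_of_respectsIso (AlgSp.RepWith @Surjective) u r.hom).2 hus

end Groth.Agent.S10333
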