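import Groth.Statements.S10336
import Mathlib
import Groth.Agent.Lib.Helper12ZarGlue2

set_option autoImplicit false
universe u
open CategoryTheory CategoryTheory.Limits AlgebraicGeometry
open AlgSp

namespace Groth.Agent.S10336


instance finLocFree_local : IsZariskiLocalAtTarget AlgSp.finLocFree.{u} := by
  have : AlgSp.finLocFree.{u} = Min.min (α := MorphismProperty Scheme.{u}) @IsFinite
      (Min.min (α := MorphismProperty Scheme.{u}) @Flat @LocallyOfFinitePresentation) := by
    ext X Y f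
    exact Iff.rfl
  rw [this]
  infer_instance



/-- Integrality, finiteness and finite local freeness of a morphism f : X -> Y of algebraic spaces over
S can be checked on the restrictions of f over the members of a Zariski covering of Y by open
subspaces. -/
theorem result {S : Scheme.{u}} {X Y : AlgSp.Space S} (f : X ⟶ Y) {ι : Type u}
    (Yi : ι → AlgSp.Space S) (j : ∀ i, Yi i ⟶ Y) (hj : AlgSp.IsZarCover (fun i => (Yi i).obj) (fun i => (j i).hom))
    (Xi : ι → AlgSp.Sp S) (p : ∀ i, Xi i ⟶ X.obj) (q : ∀ i, Xi i ⟶ (Yi i).obj)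
    (sq : ∀ i, IsPullback (p i) (q i) f.hom (j i).hom) :
    ((∀ i, AlgSp.IsIntegralMor (q i)) → AlgSp.IsIntegralMor f.hom) ∧
    ((∀ i, AlgSp.IsFiniteMor (q i)) → AlgSp.IsFiniteMor f.hom) ∧
    ((∀ i, AlgSp.IsFinLocFreeMor (q i)) → AlgSp.IsFinLocFreeMor f.hom) := by
  have key : ∀ (P : MorphismProperty Scheme.{u}) [IsZariskiLocalAtTarget P],
      (∀ i, AlgSp.RepWith P (q i)) → AlgSp.RepWith P f.hom :=
    fun P _ h => Groth.Agent.Lib.Helper12.ZarGlue.repWith_of_zarCover P f.hom _ _ hj Xi p q sq h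
  refine ⟨fun h => ?_, fun h => ?_, fun h => ?_⟩
  · have h1 : ∀ i, AlgSp.RepWith @IsIntegralHom (q i) := fun i =>
      Groth.Agent.Lib.Helper12.ZarGlue.repWith_of_affine _ (q i) (fun Z hZ g => by
        obtain ⟨W, k, fst, sq', -, hW⟩ := h i hZ g
        exact ⟨W, k, fst, sq', hW⟩)
    have h2 := key @IsIntegralHom h1
    intro Z hZ g
    obtain ⟨W, snd, fst, sq'⟩ := h2.1 g
    haveI : IsIntegralHom snd.left := h2.2 g fst snd sq'
    haveI := hZ
    exact ⟨W, snd, fst, sq', isAffine_of_isAffineHom snd.left, inferInstance⟩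
  · have h1 : ∀ i, AlgSp.RepWith @IsFinite (q i) := fun i =>
      Groth.Agent.Lib.Helper12.ZarGlue.repWith_of_affine _ (q i) (fun Z hZ g => by
        obtain ⟨W, k, fst, sq', -, hW⟩ := h i hZ g
        exact ⟨W, k, fst, sq', hW⟩)
    have h2 := key @IsFinite h1
    intro Z hZ g
    obtain ⟨W, snd, fst, sq'⟩ := h2.1 g
    haveI : IsFinite snd.left := h2.2 g fst snd sq'
    haveI := hZ
    exact ⟨W, snd, fst, sq', isAffine_of_isAffineHom snd.left, inferInstance⟩
  · exact key AlgSp.finLocFree h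

end Groth.Agent.S10336
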