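import Groth.Statements.S10344
import Mathlib
import Groth.Agent.Lib.Helper12QcPoint
import Groth.Agent.Lib.Helper12LocPNbhd

set_option autoImplicit false
universe u
open CategoryTheory CategoryTheory.Limits AlgebraicGeometry Topology TopologicalSpace
open AlgSp

namespace Groth.Agent.S10344





/-- Let S be a scheme, Y and X algebraic spaces over S, and f : Y ⟶ X a flat morphism, and let x' ⤳ x be
a specialization in |X|, where x' is represented by a monomorphism Spec k ⟶ X which is representable
quasi-compact (for instance X decent). Then generalizations lift along f at x: every y ∈ |Y| over x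
has a generization y' over x'. -/
theorem result {S : Scheme.{u}} {X Y : AlgSp.Space S} (f : Y ⟶ X)
    (hf : AlgSp.LocP @Flat f.hom) (x x' : AlgSp.Points X.obj) (h : x' ⤳ x)
    (hx' : ∃ p : AlgSp.FieldPt X.obj, AlgSp.Points.mk p = x' ∧ Mono p.toHom ∧ AlgSp.RepWith @QuasiCompact p.toHom)
    (y : AlgSp.Points Y.obj) (hy : AlgSp.Points.map f.hom y = x) :
    ∃ y' : AlgSp.Points Y.obj, y' ⤳ y ∧ AlgSp.Points.map f.hom y' = x' := by
  obtain ⟨p, hp, -, hq⟩ := hx'
  obtain ⟨V, U, b, a, hh, v, hbe, hae, hcomm, hv⟩ :=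
    Groth.Agent.Lib.Helper12.LocPNbhd.exists_chart Y.property X.property f.hom y
  haveI : Flat hh.left := hf b a hh hbe hae hcomm
  have hu : AlgSp.Points.ofPt a (hh.left v) = x := by
    rw [← Groth.Agent.S10176.ofPt_map_comp, ← hcomm, ← AlgSp.Points.map_ofPt, hv, hy]
  obtain ⟨u', hu'1, hu'2⟩ :=
    Groth.Agent.Lib.Helper12.QcPoint.exists_generization x x' h p hp hq a hae (hh.left v) hu
  have hgen : GeneralizingMap hh.left := Flat.generalizingMap _
  obtain ⟨v', hv'1, hv'2⟩ := hgen (a := v) (b := u') hu'1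
  refine ⟨AlgSp.Points.ofPt b v', ?_, ?_⟩
  · rw [← hv]
    exact hv'1.map (AlgSp.Points.continuous_ofPt b)
  · rw [AlgSp.Points.map_ofPt, hcomm, Groth.Agent.S10176.ofPt_map_comp, hv'2, hu'2]

end Groth.Agent.S10344
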