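import Groth.Statements.S10347
import Groth.Agent.Lib.Helper9SpChart
import Groth.Agent.Lib.Helper9EtDim2

set_option autoImplicit false
universe u
open CategoryTheory CategoryTheory.Limits AlgebraicGeometry Topology TopologicalSpace
open AlgSp

namespace Groth.Agent.S10347

/-- For a locally quasi-finite morphism f : X ⟶ Y of algebraic spaces over a scheme S (locally
quasi-finite and locally of finite type, etale locally on source and target), dim X ≤ dim Y. -/
theorem result {S : Scheme.{u}} {X Y : AlgSp.Space S} (f : X ⟶ Y)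
    (hf : AlgSp.LocP (@LocallyQuasiFinite ⊓ @LocallyOfFiniteType) f.hom) :
    AlgSp.dim X.obj ≤ AlgSp.dim Y.obj := by
  unfold AlgSp.dim
  refine iSup_le fun U => iSup_le fun a => iSup_le fun ha => ?_
  rw [Groth.Agent.Lib.Helper9.EtDim.topologicalKrullDim_le_iff]
  intro u
  obtain ⟨V, b, hb, hbs⟩ := Y.property.atlas
  obtain ⟨W, e', k, z, het, hWa, hcomm, hz1⟩ :=
    Groth.Agent.Lib.Helper9.SpPoint.exists_chart_diagram_atlas f.hom a ha u b hb hbs
  have hk := hf ((AlgSp.yon S).map e' ≫ a) b k hWa hb hcomm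
  haveI : LocallyQuasiFinite k.left := hk.1
  haveI : Etale e'.left := het
  have h1 := Groth.Agent.Lib.Helper9.EtDim.ringKrullDim_stalk_eq_of_etale e'.left z
  have h2 := Groth.Agent.Lib.Helper9.EtDim.ringKrullDim_stalk_le_of_locallyQuasiFinite k.left z
  rw [hz1] at h1
  rw [← h1]
  refine h2.trans ?_
  refine le_trans ?_ (le_iSup_of_le V (le_iSup_of_le b (le_iSup_of_le hb le_rfl)))
  exact (Groth.Agent.Lib.Helper9.EtDim.topologicalKrullDim_le_iff V.left _).1 le_rfl _

end Groth.Agent.S10347
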