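import Groth.Statements.S10373
import Mathlib
import Groth.Agent.Lib.Helper12ResidualFactor2

set_option autoImplicit false
universe u
open CategoryTheory CategoryTheory.Limits AlgebraicGeometry Topology TopologicalSpace
open AlgSp

namespace Groth.Agent.S10373





/-- Let S be a scheme, Y and X algebraic spaces over S, and f : Y ⟶ X a morphism with Y reduced and
|f|(|Y|) ⊆ {x}, where x ∈ |X| is represented by a monomorphism Spec k ⟶ X which is representable
quasi-compact (for instance X decent). Then f factors through Spec k ⟶ X. -/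
theorem result {S : Scheme.{u}} {Y X : AlgSp.Space S} (f : Y ⟶ X)
    (x : AlgSp.Points X.obj) (p : AlgSp.FieldPt X.obj) (hp : AlgSp.Points.mk p = x) (hm : Mono p.toHom)
    (hq : AlgSp.RepWith @QuasiCompact p.toHom) (hY : AlgSp.EtaleLocally (fun U => IsReduced U) Y.obj)
    (hf : ∀ y : AlgSp.Points Y.obj, AlgSp.Points.map f.hom y = x) :
    ∃ g : Y.obj ⟶ (AlgSp.yon S).obj p.pt, g ≫ p.toHom = f.hom := by
  let Z : AlgSp.Space S := ⟨(AlgSp.yon S).obj p.pt, AlgSp.IsAlgSpace.yon_obj _⟩
  let i : Z ⟶ X := ObjectProperty.homMk p.toHom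
  haveI : Mono i.hom := hm
  have hxi : x ∈ Set.range (AlgSp.Points.map i.hom) := by
    refine ⟨AlgSp.Points.ofScheme p.pt (⊥ : PrimeSpectrum p.K), ?_⟩
    show AlgSp.Points.map p.toHom (AlgSp.Points.ofScheme p.pt _) = _
    rw [← AlgSp.Points.ofPt_eq_map_ofScheme, AlgSp.Points.ofPt_toHom, hp]
  have hfin : ∀ (V : Over S) (b : (AlgSp.yon S).obj V ⟶ X.obj), IsAffine V.left →
      AlgSp.RepWith @Etale b → (AlgSp.Points.ofPt b ⁻¹' {x}).Finite := by
    intro V b hV hb
    haveI := hV
    haveI : CompactSpace ↥V.left := inferInstance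
    rw [← hp]
    exact Groth.Agent.Lib.Helper12.QcPoint.finite_fibre_of_quasiCompact p hq b hb
  obtain ⟨k, hk⟩ := Groth.Agent.Lib.Helper12.ResidualFactor.exists_factor_of_finite_fibres i f x hf
    hxi hY hfin
  exact ⟨k.hom, congrArg (fun t => t.hom) hk⟩

end Groth.Agent.S10373
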