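import Groth.Statements.S10349
import Mathlib
import Groth.Agent.S10356
import Groth.Agent.S10177

set_option autoImplicit false
universe u
open CategoryTheory CategoryTheory.Limits AlgebraicGeometry Topology TopologicalSpace
open AlgSp

namespace Groth.Agent.S10349


/-- an etale morphism between spectra of fields is finite. -/
lemma isFinite_of_etale_fields {k k' : Type u} [Field k] [Field k']
    (c : Spec (CommRingCat.of k) ⟶ Spec (CommRingCat.of k')) [Etale c] : IsFinite c := by
  obtain ⟨φ, rfl⟩ := Spec.map_surjective c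
  have h1 : φ.hom.Etale := (HasRingHomProperty.Spec_iff (P := @Etale)).1 inferInstance
  rw [IsFinite.SpecMap_iff]
  algebraize [φ.hom]
  haveI : Algebra.Etale k' k := h1
  haveI : Module.Free k' k := Module.Free.of_divisionRing k' k
  exact Algebra.FormallyUnramified.finite_of_free k' k



/-- Let S be a scheme, X a decent algebraic space over S, k a field over S and p : h_{Spec k} ⟶ X a
surjective etale map. Then X ≅ h_{Spec k'} for a field k' over S, and p corresponds to a finite
etale morphism Spec k ⟶ Spec k' over S, so that k is a finite separable extension of k'. -/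
theorem result {S : Scheme.{u}} (X : AlgSp.Space S)
    (hX : AlgSp.IsDecent X.obj) (k : Type u) [Field k] (str : Spec (CommRingCat.of k) ⟶ S)
    (p : (AlgSp.yon S).obj (Over.mk str) ⟶ X.obj) (hp : AlgSp.RepWith @Etale p) (hs : AlgSp.RepWith @Surjective p) :
    ∃ (k' : Type u) (_ : Field k') (str' : Spec (CommRingCat.of k') ⟶ S)
      (e : (AlgSp.yon S).obj (Over.mk str') ≅ X.obj) (c : Over.mk str ⟶ Over.mk str'),
      (AlgSp.yon S).map c ≫ e.hom = p ∧ IsFinite c.left ∧ Etale c.left := by
  have hr : AlgSp.EtaleLocally (fun U => IsReduced U) X.obj :=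
    ⟨Over.mk str, p, hp, hs, (inferInstance : IsReduced (Spec (CommRingCat.of k)))⟩
  haveI : Nonempty (AlgSp.Points X.obj) :=
    ⟨AlgSp.Points.ofPt p ((⊥ : PrimeSpectrum k) : ↥(Over.mk str).left)⟩
  haveI : Subsingleton (AlgSp.Points X.obj) := by
    refine ⟨fun a b => ?_⟩
    obtain ⟨s, rfl⟩ := Groth.Agent.S10177.surjective_ofPt p hs a
    obtain ⟨t, rfl⟩ := Groth.Agent.S10177.surjective_ofPt p hs b
    congr 1
    exact (inferInstance : Subsingleton (PrimeSpectrum k)).elim _ _
  obtain ⟨k', _, str', ⟨e⟩⟩ := Groth.Agent.S10356.result X hX hr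
  obtain ⟨c, hc⟩ := (AlgSp.yon S).map_surjective (p ≫ e.inv)
  have hce : AlgSp.RepWith @Etale ((AlgSp.yon S).map c) := by
    rw [hc]
    exact (MorphismProperty.cancel_right_of_respectsIso (AlgSp.RepWith @Etale) p e.inv).2 hp
  haveI : Etale c.left := (AlgSp.repWith_yon_map_iff _ _).1 hce
  refine ⟨k', inferInstance, str', e, c, ?_, ?_, inferInstance⟩
  · rw [hc, Category.assoc, Iso.inv_hom_id, Category.comp_id]
  · exact isFinite_of_etale_fields c.left

end Groth.Agent.S10349
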