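import Groth.Statements.S10352
import Mathlib
import Groth.Agent.Lib.Helper12DecentPoint
import Groth.Agent.Lib.Helper12RelFibre

set_option autoImplicit false
universe u
open CategoryTheory CategoryTheory.Limits AlgebraicGeometry Topology TopologicalSpace
open AlgSp

namespace Groth.Agent.S10352





/-- Let S be a scheme, X and Y algebraic spaces over S, and f : X ⟶ Y an etale morphism. If Y is decent
then X is decent. -/
theorem result {S : Scheme.{u}} {X Y : AlgSp.Space S} (f : X ⟶ Y)
    (hf : AlgSp.IsEtaleMor f.hom) (hY : AlgSp.IsDecent Y.obj) : AlgSp.IsDecent X.obj := by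
  intro x
  obtain ⟨V, b, v, hV, hb, hv⟩ :=
    Groth.Agent.Lib.Helper12.DecentPoint.exists_affine_chart X.property x
  haveI := hV
  obtain ⟨q, hqy, hqm, hqq⟩ := hY (AlgSp.Points.map f.hom x)
  have hbf : AlgSp.RepWith @Etale (b ≫ f.hom) := hf b hb
  obtain ⟨R, s, t₀, sqR⟩ := hb.1 b
  obtain ⟨t, rfl⟩ := (AlgSp.yon S).map_surjective t₀
  obtain ⟨R', s', t₀', sqR'⟩ := hbf.1 (b ≫ f.hom)
  obtain ⟨t', rfl⟩ := (AlgSp.yon S).map_surjective t₀'
  have hcond : (AlgSp.yon S).map t ≫ (b ≫ f.hom) = (AlgSp.yon S).map s ≫ (b ≫ f.hom) := by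
    rw [← Category.assoc, ← Category.assoc, sqR.w]
  obtain ⟨m, hm⟩ := (AlgSp.yon S).map_surjective (sqR'.lift _ _ hcond)
  have hmt : m ≫ t' = t := by
    apply (AlgSp.yon S).map_injective
    rw [Functor.map_comp, hm, sqR'.lift_fst]
  have hms : m ≫ s' = s := by
    apply (AlgSp.yon S).map_injective
    rw [Functor.map_comp, hm, sqR'.lift_snd]
  haveI : Mono m := by
    refine ⟨fun {T} g h hgh => ?_⟩
    apply (AlgSp.yon S).map_injective
    apply sqR.hom_ext
    · rw [← Functor.map_comp, ← Functor.map_comp, ← hmt, ← Category.assoc, ← Category.assoc, hgh]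
    · rw [← Functor.map_comp, ← Functor.map_comp, ← hms, ← Category.assoc, ← Category.assoc, hgh]
  haveI : Mono m.left := (Over.forget S).map_mono m
  -- the fibre of `V` over `q` in `Y`
  obtain ⟨F, fK, fV₀, sqF⟩ := hbf.1 q.toHom
  obtain ⟨fV, rfl⟩ := (AlgSp.yon S).map_surjective fV₀
  haveI : QuasiCompact fV.left := hqq.2 _ _ fV sqF.flip
  haveI : Etale fK.left := hbf.2 _ _ fK sqF
  haveI : LocallyQuasiFinite fK.left := Groth.Agent.S10265.locallyQuasiFinite_of_unramified _
  haveI : CompactSpace ↥V.left := inferInstance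
  haveI : CompactSpace ↥F.left := QuasiCompact.compactSpace_of_compactSpace fV.left
  haveI : QuasiSeparatedSpace ↥q.pt.left :=
    (inferInstance : QuasiSeparatedSpace ↥(Spec (CommRingCat.of q.K)))
  haveI : QuasiCompact fK.left := quasiCompact_of_compactSpace _
  have hF : (Set.univ : Set ↥F.left).Finite := by
    have := fK.left.finite_preimage_singleton ((⊥ : PrimeSpectrum q.K) : ↥q.pt.left)
    refine this.subset (fun y _ => ?_)
    exact (inferInstance : Subsingleton (PrimeSpectrum q.K)).elim _ _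
  have hRfib := Groth.Agent.Lib.Helper12.RelFibre.finite_relation_fibre q (b ≫ f.hom) hbf fK fV sqF
    hF s' t' sqR'
  refine Groth.Agent.Lib.Helper12.DecentPoint.exists_qc_mono_point X.property x
    b hb v hv s t sqR ?_ ?_
  · refine (hRfib.preimage (m.left.injective.injOn)).subset ?_
    rintro r ⟨-, hr⟩
    rw [Set.mem_preimage, Set.mem_preimage, Set.mem_singleton_iff,
      Groth.Agent.S10176.ofPt_map_comp, ← Scheme.Hom.comp_apply, ← Over.comp_left, hmt, hr,
      ← AlgSp.Points.map_ofPt, hv, hqy]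
  · intro V' b' hV' hb'
    haveI := hV'
    haveI : CompactSpace ↥V'.left := inferInstance
    refine (Groth.Agent.Lib.Helper12.QcPoint.finite_fibre_of_quasiCompact q hqq (b' ≫ f.hom)
      (hf b' hb')).subset ?_
    intro v' hv'
    rw [Set.mem_preimage, Set.mem_singleton_iff] at hv' ⊢
    rw [← AlgSp.Points.map_ofPt, hv', hqy]

end Groth.Agent.S10352
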