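import Groth.Statements.S10357
import Mathlib
import Groth.Agent.Lib.Helper12ClosedPt

set_option autoImplicit false
universe u
open CategoryTheory CategoryTheory.Limits AlgebraicGeometry Topology TopologicalSpace
open AlgSp

namespace Groth.Agent.S10357





/-- Let S be a scheme, X a decent algebraic space over S, and Spec k ⟶ X a morphism over S from the
spectrum of a field whose image in S is a closed point s with k algebraic over κ(s). Then the image
point of |X| is closed. Here Spec k ⟶ S is written as Spec k ⟶ Spec κ(s) ⟶ S for a ring map φ : κ(s)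
→ k, integral since k is algebraic over κ(s). -/
theorem result {S : Scheme.{u}} (X : AlgSp.Space S)
    (hX : AlgSp.IsDecent X.obj) (s : ↥S) (hs : IsClosed ({s} : Set ↥S)) (k : Type u) [Field k]
    (φ : S.residueField s ⟶ CommRingCat.of k) (hφ : φ.hom.IsIntegral)
    (p : (AlgSp.yon S).obj (Over.mk (Spec.map φ ≫ S.fromSpecResidueField s)) ⟶ X.obj)
    (t : ↥(Spec (CommRingCat.of k))) :
    IsClosed ({AlgSp.Points.ofPt p t} : Set (AlgSp.Points X.obj)) := by
  obtain ⟨A, a, hae, has⟩ := X.property.atlas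
  obtain ⟨q, hq, -, hqc⟩ := hX (AlgSp.Points.ofPt p t)
  have hfib : IsClosed (AlgSp.Points.ofPt a ⁻¹' {AlgSp.Points.ofPt p t}) := by
    rw [TopologicalSpace.IsOpenCover.isClosed_iff_coe_preimage (iSup_affineOpens_eq_top A.left)]
    intro O
    let V : Over S := Over.mk (O.1.ι ≫ A.hom)
    let ιO : V ⟶ A := Over.homMk O.1.ι rfl
    haveI : IsAffine V.left := O.2
    haveI : CompactSpace ↥V.left := inferInstance
    have hb : AlgSp.RepWith @Etale ((AlgSp.yon S).map ιO ≫ a) :=
      MorphismProperty.comp_mem _ _ _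
        ((AlgSp.repWith_yon_map_iff _ _).2 (by show Etale O.1.ι; infer_instance)) hae
    have hfin : (AlgSp.Points.ofPt ((AlgSp.yon S).map ιO ≫ a) ⁻¹'
        {AlgSp.Points.ofPt p t}).Finite := by
      rw [← hq]
      exact Groth.Agent.Lib.Helper12.QcPoint.finite_fibre_of_quasiCompact q hqc _ hb
    have hpt : ∀ o ∈ (AlgSp.Points.ofPt ((AlgSp.yon S).map ιO ≫ a) ⁻¹' {AlgSp.Points.ofPt p t}),
        IsClosed ({o} : Set ↥V.left) := fun o ho =>
      Groth.Agent.Lib.Helper12.ClosedPt.isClosed_singleton_of_integral _ hb o s hs k φ hφ p t ho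
    have hcl := hfin.isClosed_biUnion hpt
    rw [Set.biUnion_of_singleton] at hcl
    have hset : (Subtype.val ⁻¹' (AlgSp.Points.ofPt a ⁻¹' {AlgSp.Points.ofPt p t}) :
        Set ↥(O.1 : A.left.Opens)) = (show Set ↥(O.1 : A.left.Opens) from
          AlgSp.Points.ofPt ((AlgSp.yon S).map ιO ≫ a) ⁻¹' {AlgSp.Points.ofPt p t}) := by
      ext o
      simp only [Set.mem_preimage, Set.mem_singleton_iff]
      rw [Groth.Agent.S10176.ofPt_map_comp]
      rfl
    rw [hset]
    exact hcl
  have hopen := Groth.Agent.S10176.isOpenMap_ofPt a hae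
  have hsurj := Groth.Agent.S10177.surjective_ofPt a has
  have himg : ({AlgSp.Points.ofPt p t} : Set (AlgSp.Points X.obj))ᶜ =
      AlgSp.Points.ofPt a '' (AlgSp.Points.ofPt a ⁻¹' {AlgSp.Points.ofPt p t})ᶜ := by
    rw [← Set.preimage_compl, Set.image_preimage_eq _ hsurj]
  rw [← isOpen_compl_iff, himg]
  exact hopen _ hfib.isOpen_compl

end Groth.Agent.S10357
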