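import Groth.Statements.S10359
import Mathlib
import Groth.Agent.S10340
import Groth.Agent.S10176
import Groth.Agent.Lib.Helper12ClosedImm
import Groth.Agent.Lib.Helper12AtlasDescent
import Groth.Agent.Lib.Helper12Descent
import Groth.Agent.Lib.Helper12QcPoint

set_option autoImplicit false
universe u
open CategoryTheory CategoryTheory.Limits AlgebraicGeometry Topology TopologicalSpace
open AlgSp

namespace Groth.Agent.S10359





/-- On a decent algebraic space X over a scheme S every closed point x of |X| is represented by a closed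
immersion Spec k ⟶ X, where k is a field. -/
theorem result {S : Scheme.{u}} (X : AlgSp.Space S)
    (hX : AlgSp.IsDecent X.obj) (x : AlgSp.Points X.obj) (hx : IsClosed ({x} : Set (AlgSp.Points X.obj))) :
    ∃ p : AlgSp.FieldPt X.obj, AlgSp.Points.mk p = x ∧ AlgSp.RepWith @IsClosedImmersion p.toHom := by
  obtain ⟨p, hp, hm, hqc⟩ := hX x
  refine ⟨p, hp, ?_⟩
  haveI := Groth.Agent.Lib.Helper12.descendsAlong_isClosedImmersion.{u}
  obtain ⟨A, a, hae, has⟩ := X.property.atlas
  obtain ⟨FA, sndA, fstA', sqA⟩ := (X.property.representable_from_yon p.toHom) a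
  obtain ⟨fstA, rfl⟩ := (AlgSp.yon S).map_surjective fstA'
  refine Groth.Agent.Lib.Helper12.AtlasDescent.repWith_of_atlas @IsClosedImmersion p.toHom
    (X.property.representable_from_yon _) a hae has ((AlgSp.yon S).map fstA) sndA sqA ?_
  haveI : Mono ((AlgSp.yon S).map sndA) := sqA.mono_snd_of_mono
  haveI : Mono sndA := (AlgSp.yon S).mono_of_mono_map inferInstance
  haveI : Mono sndA.left := (Over.forget S).map_mono sndA
  haveI : Etale fstA.left := hae.2 _ _ fstA sqA.flip
  haveI : IsReduced FA.left :=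
    (Groth.Agent.Lib.Helper12.MonoField.discrete_reduced_of_etale_field p.K fstA.left).2
  -- the image of `sndA` is the fibre over `x`
  have hfib : ∀ f : ↥FA.left, AlgSp.Points.ofPt a (sndA.left f) = x := by
    intro f
    rw [← Groth.Agent.S10176.ofPt_map_comp, ← sqA.w, Groth.Agent.S10176.ofPt_map_comp,
      AlgSp.Points.ofPt_toHom, hp]
  have hCcl : IsClosed (AlgSp.Points.ofPt a ⁻¹' {x}) :=
    hx.preimage (AlgSp.Points.continuous_ofPt a)
  apply Groth.Agent.Lib.Helper12.ClosedImm.isClosedImmersion_of_mono_of_locally_single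
  intro c
  by_cases hc : AlgSp.Points.ofPt a c = x
  · obtain ⟨A₀, hA₀, hcA₀, -⟩ : ∃ A₀ : A.left.Opens, A₀ ∈ A.left.affineOpens ∧ c ∈ A₀ ∧ A₀ ≤ ⊤ :=
      TopologicalSpace.Opens.isBasis_iff_nbhd.1 A.left.isBasis_affineOpens
        (TopologicalSpace.Opens.mem_top c)
    let V : Over S := Over.mk (A₀.ι ≫ A.hom)
    let j : V ⟶ A := Over.homMk A₀.ι rfl
    haveI : IsAffine V.left := hA₀
    haveI : CompactSpace ↥V.left := inferInstance
    have hb : AlgSp.RepWith @Etale ((AlgSp.yon S).map j ≫ a) :=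
      MorphismProperty.comp_mem _ _ _
        ((AlgSp.repWith_yon_map_iff _ _).2 (by show Etale A₀.ι; infer_instance)) hae
    have hfin : (AlgSp.Points.ofPt ((AlgSp.yon S).map j ≫ a) ⁻¹' {x}).Finite := by
      rw [← hp]
      exact Groth.Agent.Lib.Helper12.QcPoint.finite_fibre_of_quasiCompact p hqc _ hb
    let T : Set ↥A.left := (j.left '' (AlgSp.Points.ofPt ((AlgSp.yon S).map j ≫ a) ⁻¹' {x})) \ {c}
    have hTfin : T.Finite := (hfin.image _).subset Set.diff_subset
    have hTmem : ∀ c' : ↥A.left, c' ∈ A₀ → AlgSp.Points.ofPt a c' = x → c' ≠ c → c' ∈ T := by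
      intro c' h1 h2 h3
      refine ⟨⟨⟨c', h1⟩, ?_, rfl⟩, h3⟩
      rw [Set.mem_preimage, Set.mem_singleton_iff, Groth.Agent.S10176.ofPt_map_comp]
      exact h2
    have hTfib : ∀ c' ∈ T, AlgSp.Points.ofPt a c' = x ∧ c' ≠ c := by
      rintro c' ⟨⟨v, hv, rfl⟩, h3⟩
      rw [Set.mem_preimage, Set.mem_singleton_iff, Groth.Agent.S10176.ofPt_map_comp] at hv
      exact ⟨hv, h3⟩
    have hcT : c ∉ closure T := by
      rw [← Set.biUnion_of_singleton T, hTfin.closure_biUnion]
      simp only [Set.mem_iUnion, not_exists]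
      intro c' hc' hmem
      have hs : c' ⤳ c := specializes_iff_mem_closure.2 hmem
      obtain ⟨h2, h3⟩ := hTfib c' hc'
      exact h3 (Groth.Agent.S10340.result X hX a hae c c' (hc.trans h2.symm) hs).symm
    refine ⟨A₀ ⊓ ⟨(closure T)ᶜ, isClosed_closure.isOpen_compl⟩, ⟨hcA₀, hcT⟩, Or.inr ⟨?_, ?_⟩⟩
    · rintro f ⟨hf1, hf2⟩
      by_contra hne
      exact hf2 (subset_closure (hTmem _ hf1 (hfib f) hne))
    · intro hcU
      have hset : ({⟨c, hcU⟩} : Set ↥(A₀ ⊓ ⟨(closure T)ᶜ, isClosed_closure.isOpen_compl⟩ :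
          A.left.Opens)) = Subtype.val ⁻¹' (closure ({c} : Set ↥A.left)) := by
        ext y
        simp only [Set.mem_singleton_iff, Set.mem_preimage]
        constructor
        · intro h; rw [h]; exact subset_closure rfl
        · intro h
          apply Subtype.ext
          by_contra hne
          have hyC : AlgSp.Points.ofPt a y.1 = x :=
            (hCcl.closure_subset_iff.2 (Set.singleton_subset_iff.2 hc)) h
          exact y.2.2 (subset_closure (hTmem _ y.2.1 hyC hne))
      have hcl : IsClosed (Subtype.val ⁻¹' (closure ({c} : Set ↥A.left)) :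
          Set ↥(A₀ ⊓ ⟨(closure T)ᶜ, isClosed_closure.isOpen_compl⟩ : A.left.Opens)) :=
        isClosed_closure.preimage continuous_subtype_val
      rw [← hset] at hcl
      exact hcl
  · refine ⟨⟨(AlgSp.Points.ofPt a ⁻¹' {x})ᶜ, hCcl.isOpen_compl⟩, hc, Or.inl ?_⟩
    intro f hf
    exact hf (hfib f)

end Groth.Agent.S10359
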