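import Groth.Statements.S10358
import Mathlib
import Groth.Agent.S10357
import Groth.Agent.S10359
import Groth.Agent.S9928
import Groth.Agent.Lib.Helper12ResidualFactor

set_option autoImplicit false
universe u
open CategoryTheory CategoryTheory.Limits AlgebraicGeometry Topology TopologicalSpace
open AlgSp

namespace Groth.Agent.S10358





/-- Let S be a scheme, X a decent algebraic space over S, and Spec k ⟶ X a morphism over S from the
spectrum of a field whose image in S is a closed point s with k finite over κ(s) (Spec k ⟶ S written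
through a ring map φ : κ(s) → k). Then Spec k ⟶ X is finite; if moreover φ is bijective (k = κ(s))
it is a closed immersion. -/
theorem result {S : Scheme.{u}} (X : AlgSp.Space S)
    (hX : AlgSp.IsDecent X.obj) (s : ↥S) (hs : IsClosed ({s} : Set ↥S)) (k : Type u) [Field k]
    (φ : S.residueField s ⟶ CommRingCat.of k) (hφ : φ.hom.Finite)
    (p : (AlgSp.yon S).obj (Over.mk (Spec.map φ ≫ S.fromSpecResidueField s)) ⟶ X.obj) :
    AlgSp.RepWith @IsFinite p ∧
      (Function.Bijective φ.hom → AlgSp.RepWith @IsClosedImmersion p) := by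
  have hxcl : IsClosed ({AlgSp.Points.ofPt p (IsLocalRing.closedPoint k)} :
      Set (AlgSp.Points X.obj)) :=
    Groth.Agent.S10357.result X hX s hs k φ hφ.to_isIntegral p (IsLocalRing.closedPoint k)
  obtain ⟨p₀, hp₀, hci⟩ := Groth.Agent.S10359.result X hX _ hxcl
  let Z : AlgSp.Space S := ⟨(AlgSp.yon S).obj p₀.pt, AlgSp.IsAlgSpace.yon_obj _⟩
  let i : Z ⟶ X := ObjectProperty.homMk p₀.toHom
  haveI : Mono i.hom := Groth.Agent.S9928.mono_of_repWith @IsClosedImmersion
    (fun _ _ f hf => by haveI : IsClosedImmersion f := hf; infer_instance) p₀.toHom hci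
  have hx : AlgSp.Points.ofPt p ((⊥ : PrimeSpectrum k) :
      ↥(Over.mk (Spec.map φ ≫ S.fromSpecResidueField s)).left) ∈
      Set.range (AlgSp.Points.map i.hom) := by
    refine ⟨AlgSp.Points.ofScheme p₀.pt (IsLocalRing.closedPoint p₀.K), ?_⟩
    show AlgSp.Points.map p₀.toHom _ = _
    rw [← AlgSp.Points.ofPt_eq_map_ofScheme, AlgSp.Points.ofPt_toHom, hp₀]
    congr 1
    exact (inferInstance : Subsingleton (PrimeSpectrum k)).elim _ _
  obtain ⟨d, hd⟩ := Groth.Agent.Lib.Helper12.ResidualFactor.exists_factor_fieldPoint i k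
    (Spec.map φ ≫ S.fromSpecResidueField s) p hx
  obtain ⟨δ, rfl⟩ := (AlgSp.yon S).map_surjective d
  have hd' : (AlgSp.yon S).map δ ≫ p₀.toHom = p := hd
  haveI : IsClosedImmersion (S.fromSpecResidueField s) :=
    isClosed_singleton_iff_isClosedImmersion.mp hs
  haveI : IsAffine p₀.pt.left := (inferInstance : IsAffine (Spec (CommRingCat.of p₀.K)))
  haveI : IsSeparated p₀.pt.hom := inferInstance
  have hw : δ.left ≫ p₀.pt.hom = Spec.map φ ≫ S.fromSpecResidueField s := Over.w δ
  constructor
  · haveI : IsFinite (Spec.map φ) := (IsFinite.SpecMap_iff φ).2 hφ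
    haveI : IsFinite (δ.left ≫ p₀.pt.hom) := by rw [hw]; infer_instance
    haveI : IsFinite δ.left := IsFinite.of_comp δ.left p₀.pt.hom
    rw [← hd']
    refine MorphismProperty.comp_mem _ _ _ ((AlgSp.repWith_yon_map_iff _ _).2 ‹IsFinite δ.left›) ?_
    exact (AlgSp.repWith_iff _ _).2 ⟨hci.1, fun U V g fst snd sq => by
      haveI : IsClosedImmersion snd.left := hci.2 g fst snd sq
      exact (inferInstance : IsFinite snd.left)⟩
  · intro hbij
    haveI : IsIso φ := by
      rw [ConcreteCategory.isIso_iff_bijective]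
      exact hbij
    haveI : IsClosedImmersion (δ.left ≫ p₀.pt.hom) := by rw [hw]; infer_instance
    haveI : IsClosedImmersion δ.left := IsClosedImmersion.of_comp δ.left p₀.pt.hom
    rw [← hd']
    exact MorphismProperty.comp_mem _ _ _
      ((AlgSp.repWith_yon_map_iff _ _).2 ‹IsClosedImmersion δ.left›) hci

end Groth.Agent.S10358
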