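import Groth.Statements.S10389
import Mathlib
import Groth.Agent.Lib.Helper12ResidualFactor2
import Groth.Agent.Lib.Helper12QcPoint

set_option autoImplicit false
universe u
open CategoryTheory CategoryTheory.Limits AlgebraicGeometry Topology TopologicalSpace
open AlgSp

namespace Groth.Agent.S10389


/-- a pullback square over two maps through a common monomorphism is a pullback square over the
source of the monomorphism. -/
lemma isPullback_of_comp_mono {C : Type*} [Category C] {P A B K Y : C} {fst : P ⟶ A}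
    {snd : P ⟶ B} {f : A ⟶ K} {g : B ⟶ K} (r : K ⟶ Y) [Mono r]
    (sq : IsPullback fst snd (f ≫ r) (g ≫ r)) : IsPullback fst snd f g :=
  IsPullback.of_isLimit' ⟨by rw [← cancel_mono r, Category.assoc, Category.assoc]; exact sq.w⟩
    (PullbackCone.IsLimit.mk _
      (fun s => sq.lift s.fst s.snd (by
        rw [← Category.assoc, ← Category.assoc, s.condition]))
      (fun s => sq.lift_fst _ _ _) (fun s => sq.lift_snd _ _ _)
      (fun s m h1 h2 => sq.hom_ext (by rw [h1, sq.lift_fst]) (by rw [h2, sq.lift_snd])))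

/-- a scheme finite over the spectrum of a field has finitely many points. -/
lemma finite_of_isFinite_field {G : Scheme.{u}} (K : Type u) [Field K]
    (c : G ⟶ Spec (CommRingCat.of K)) [IsFinite c] : (Set.univ : Set ↥G).Finite := by
  have := c.finite_preimage_singleton ((⊥ : PrimeSpectrum K) : ↥(Spec (CommRingCat.of K)))
  refine this.subset (fun y _ => ?_)
  exact (inferInstance : Subsingleton (PrimeSpectrum K)).elim _ _



/-- Let W = X ×_Y Z be a fibre product of algebraic spaces over a scheme S with projections p, q, and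
let x ∈ |X|, z ∈ |Z| lie over the same point y ∈ |Y|. If y is represented by a monomorphism Spec k ⟶
Y from the spectrum of a field and g : Z ⟶ Y is quasi-finite at z, then the set of points of |W|
mapping to x and to z is finite. (Special case: Y decent and g etale.) -/
theorem result {S : Scheme.{u}} {X Y Z W : AlgSp.Space S} (f : X ⟶ Y)
    (g : Z ⟶ Y) (p : W ⟶ X) (q : W ⟶ Z) (hW : IsPullback p.hom q.hom f.hom g.hom) (x : AlgSp.Points X.obj)
    (z : AlgSp.Points Z.obj) (hxz : AlgSp.Points.map f.hom x = AlgSp.Points.map g.hom z)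
    (hy : ∃ r : AlgSp.FieldPt Y.obj, AlgSp.Points.mk r = AlgSp.Points.map g.hom z ∧ Mono r.toHom)
    (hg : AlgSp.HasAtMor (fun U _ h u => ∃ W : U.Opens, u ∈ W ∧ LocallyQuasiFinite (W.ι ≫ h) ∧ LocallyOfFiniteType (W.ι ≫ h)) g.hom z) :
    {w : AlgSp.Points W.obj | AlgSp.Points.map p.hom w = x ∧ AlgSp.Points.map q.hom w = z}.Finite := by
  obtain ⟨r, hr, hm⟩ := hy
  obtain ⟨U, V, a, b, h, u, ha, hb, hcomm, hau, W₀, huW, hlqf, -⟩ := hg
  obtain ⟨xt, rfl⟩ := AlgSp.Points.mk_surjective x
  obtain ⟨α, hα⟩ : ∃ α, α = xt.toHom := ⟨_, rfl⟩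
  obtain ⟨ut, hutdef⟩ : ∃ ut : AlgSp.FieldPt Z.obj, ut = AlgSp.FieldPt.ofPt a u := ⟨_, rfl⟩
  have hut : AlgSp.Points.mk ut = z := by rw [hutdef]; exact hau
  obtain ⟨β, hβ⟩ : ∃ β, β = ut.toHom := ⟨_, rfl⟩
  -- the residual monomorphism
  let Zr : AlgSp.Space S := ⟨(AlgSp.yon S).obj r.pt, AlgSp.IsAlgSpace.yon_obj _⟩
  let i : Zr ⟶ Y := ObjectProperty.homMk r.toHom
  haveI : Mono i.hom := hm
  have hri : AlgSp.Points.mk r ∈ Set.range (AlgSp.Points.map i.hom) := by
    refine ⟨AlgSp.Points.ofScheme r.pt (⊥ : PrimeSpectrum r.K), ?_⟩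
    show AlgSp.Points.map r.toHom (AlgSp.Points.ofScheme r.pt _) = _
    rw [← AlgSp.Points.ofPt_eq_map_ofScheme, AlgSp.Points.ofPt_toHom]
  -- factor the two field points through the residual monomorphism
  obtain ⟨dK', hdK⟩ := Groth.Agent.Lib.Helper12.ResidualFactor.exists_factor_fieldPoint i xt.K
    xt.str (α ≫ f.hom) (by
      rw [← AlgSp.Points.map_ofPt, hα, AlgSp.Points.ofPt_toHom, hxz, ← hr]
      exact hri)
  obtain ⟨c', hc⟩ := Groth.Agent.Lib.Helper12.ResidualFactor.exists_factor_fieldPoint i ut.K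
    ut.str (β ≫ g.hom) (by
      rw [← AlgSp.Points.map_ofPt, hβ, AlgSp.Points.ofPt_toHom, hut, ← hr]
      exact hri)
  obtain ⟨dK, rfl⟩ := (AlgSp.yon S).map_surjective dK'
  obtain ⟨c, rfl⟩ := (AlgSp.yon S).map_surjective c'
  change (AlgSp.yon S).map dK ≫ r.toHom = α ≫ f.hom at hdK
  change (AlgSp.yon S).map c ≫ r.toHom = β ≫ g.hom at hc
  -- `c` is a finite morphism
  haveI hcfin : IsFinite c.left := by
    obtain ⟨FV, sndV, prV', sqV⟩ := hb.1 r.toHom
    obtain ⟨prV, rfl⟩ := (AlgSp.yon S).map_surjective prV'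
    haveI : Etale sndV.left := hb.2 _ _ sndV sqV
    subst hutdef
    let ιu : (AlgSp.FieldPt.ofPt a u).pt ⟶ U := Over.homMk (U.left.fromSpecResidueField u) rfl
    have hβ' : β = (AlgSp.yon S).map ιu ≫ a := by rw [hβ, AlgSp.FieldPt.toHom_ofPt]
    have hcond : (AlgSp.yon S).map (ιu ≫ h) ≫ b = (AlgSp.yon S).map c ≫ r.toHom := by
      rw [hc, hβ', Functor.map_comp, Category.assoc, Category.assoc, hcomm]
    obtain ⟨e, he⟩ := (AlgSp.yon S).map_surjective (sqV.lift _ _ hcond)
    have he1 : e ≫ prV = ιu ≫ h := by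
      apply (AlgSp.yon S).map_injective
      rw [Functor.map_comp, he, sqV.lift_fst]
    have he2 : e ≫ sndV = c := by
      apply (AlgSp.yon S).map_injective
      rw [Functor.map_comp, he, sqV.lift_snd]
    -- the residue field point of `u` factors through `W₀`
    have hrange : Set.range (U.left.fromSpecResidueField u) ⊆ Set.range W₀.ι := by
      rw [Scheme.range_fromSpecResidueField, Scheme.Opens.range_ι]
      exact Set.singleton_subset_iff.2 huW
    have hfac : IsOpenImmersion.lift W₀.ι (U.left.fromSpecResidueField u) hrange ≫ W₀.ι =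
        U.left.fromSpecResidueField u := IsOpenImmersion.lift_fac _ _ _
    haveI : LocallyQuasiFinite
        (IsOpenImmersion.lift W₀.ι (U.left.fromSpecResidueField u) hrange) := by
      haveI : LocallyQuasiFinite
          (IsOpenImmersion.lift W₀.ι (U.left.fromSpecResidueField u) hrange ≫ W₀.ι) := by
        rw [hfac]; infer_instance
      exact LocallyQuasiFinite.of_comp _ W₀.ι
    haveI : LocallyQuasiFinite (U.left.fromSpecResidueField u ≫ h.left) := by
      rw [← hfac, Category.assoc]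
      infer_instance
    have he1' : e.left ≫ prV.left = U.left.fromSpecResidueField u ≫ h.left := by
      have := congrArg (fun t => t.left) he1
      exact this
    haveI : LocallyQuasiFinite e.left := by
      haveI : LocallyQuasiFinite (e.left ≫ prV.left) := by rw [he1']; assumption
      exact LocallyQuasiFinite.of_comp _ prV.left
    haveI : LocallyQuasiFinite sndV.left :=
      Groth.Agent.S10265.locallyQuasiFinite_of_unramified _
    have he2' : e.left ≫ sndV.left = c.left := by
      have := congrArg (fun t => t.left) he2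
      exact this
    haveI : LocallyQuasiFinite c.left := by rw [← he2']; infer_instance
    haveI : IsLocallyArtinian r.pt.left :=
      (inferInstance : IsLocallyArtinian (Spec (CommRingCat.of r.K)))
    haveI : IsAffine (AlgSp.FieldPt.ofPt a u).pt.left :=
      (inferInstance : IsAffine (Spec (CommRingCat.of (AlgSp.FieldPt.ofPt a u).K)))
    haveI : IsAffine r.pt.left := (inferInstance : IsAffine (Spec (CommRingCat.of r.K)))
    haveI : QuasiCompact c.left := inferInstance
    exact IsFinite.of_locallyQuasiFinite c.left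
  -- the scheme `G = Spec K ×_Y Spec κ(u)`
  obtain ⟨G, sndG, fstG', sqG⟩ := (Y.property.representable_from_yon (α ≫ f.hom)) (β ≫ g.hom)
  obtain ⟨fstG, rfl⟩ := (AlgSp.yon S).map_surjective fstG'
  have sqG' : IsPullback ((AlgSp.yon S).map fstG) ((AlgSp.yon S).map sndG)
      ((AlgSp.yon S).map dK) ((AlgSp.yon S).map c) := by
    refine isPullback_of_comp_mono r.toHom ?_
    rw [hdK, hc]
    exact sqG
  haveI : IsFinite fstG.left :=
    ((AlgSp.repWith_yon_map_iff _ _).2 hcfin).2 _ _ fstG sqG'.flip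
  have hGfin : (Set.univ : Set ↥G.left).Finite := finite_of_isFinite_field xt.K fstG.left
  -- the intermediate fibre product `P₁ = Spec K ×_Y Z`
  have T1 := IsPullback.of_hasPullback (α ≫ f.hom) g.hom
  obtain ⟨l1, hl1⟩ : ∃ l1 : pullback (α ≫ f.hom) g.hom ⟶ W.obj,
      l1 = hW.lift (pullback.fst (α ≫ f.hom) g.hom ≫ α) (pullback.snd (α ≫ f.hom) g.hom)
        (by rw [Category.assoc]; exact pullback.condition) := ⟨_, rfl⟩
  have hl1p : l1 ≫ p.hom = pullback.fst (α ≫ f.hom) g.hom ≫ α := by rw [hl1, hW.lift_fst]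
  have hl1q : l1 ≫ q.hom = pullback.snd (α ≫ f.hom) g.hom := by rw [hl1, hW.lift_snd]
  have S1 : IsPullback l1 (pullback.fst (α ≫ f.hom) g.hom) p.hom α := by
    refine IsPullback.of_right ?_ hl1p hW.flip
    rw [hl1q]
    exact T1.flip
  obtain ⟨l2, hl2⟩ : ∃ l2 : (AlgSp.yon S).obj G ⟶ pullback (α ≫ f.hom) g.hom,
      l2 = T1.lift ((AlgSp.yon S).map fstG) ((AlgSp.yon S).map sndG ≫ β)
        (by rw [Category.assoc]; exact sqG.w) := ⟨_, rfl⟩
  have hl2a : l2 ≫ pullback.fst (α ≫ f.hom) g.hom = (AlgSp.yon S).map fstG := by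
    rw [hl2, T1.lift_fst]
  have hl2b : l2 ≫ pullback.snd (α ≫ f.hom) g.hom = (AlgSp.yon S).map sndG ≫ β := by
    rw [hl2, T1.lift_snd]
  have S2 : IsPullback l2 ((AlgSp.yon S).map sndG) (pullback.snd (α ≫ f.hom) g.hom) β := by
    refine IsPullback.of_right ?_ hl2b T1
    rw [hl2a]
    exact sqG
  refine (hGfin.image (AlgSp.Points.ofPt (l2 ≫ l1))).subset ?_
  rintro w ⟨hw1, hw2⟩
  obtain ⟨w1, hw1a, -⟩ := Groth.Agent.S10175.exists_point_of_isPullback S1 w
    (AlgSp.Points.ofScheme xt.pt ((⊥ : PrimeSpectrum xt.K) : ↥xt.pt.left)) (by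
      rw [hw1, ← AlgSp.Points.ofPt_eq_map_ofScheme, hα, AlgSp.Points.ofPt_toHom])
  obtain ⟨w2, hw2a, -⟩ := Groth.Agent.S10175.exists_point_of_isPullback S2 w1
    (AlgSp.Points.ofScheme ut.pt ((⊥ : PrimeSpectrum ut.K) : ↥ut.pt.left)) (by
      rw [← hl1q, AlgSp.Points.map_comp, hw1a, hw2, ← AlgSp.Points.ofPt_eq_map_ofScheme, hβ,
        AlgSp.Points.ofPt_toHom, hut])
  refine ⟨AlgSp.Points.toScheme G w2, trivial, ?_⟩
  rw [AlgSp.Points.ofPt_eq_map_ofScheme, AlgSp.Points.ofScheme_toScheme, AlgSp.Points.map_comp,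
    hw2a, hw1a]

end Groth.Agent.S10389
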