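import Groth.Statements.S10408
import Mathlib
import Groth.Agent.S10389
import Groth.Agent.S10176

set_option autoImplicit false
universe u
open CategoryTheory CategoryTheory.Limits AlgebraicGeometry Topology TopologicalSpace
open AlgSp

namespace Groth.Agent.S10408





/-- (4) ⇒ (2): let S be a scheme and X an algebraic space over S. Suppose x ∈ |X| is a point represented
by a monomorphism Spec k ⟶ X, where k is a field. Then for every etale φ : U ⟶ X with U a scheme and
all u, u' ∈ U over x, the map |U ×_X U| → |U| ×_{|X|} |U| has finite fibre over the point (u, u'). -/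
theorem result {S : Scheme.{u}} (X : AlgSp.Space S) (x : AlgSp.Points X.obj)
    (hx : ∃ p : AlgSp.FieldPt X.obj, AlgSp.Points.mk p = x ∧ Mono p.toHom) {U : Over S}
    (φ : (AlgSp.yon S).obj U ⟶ X.obj) (hφ : AlgSp.RepWith @Etale φ) (u u' : ↥U.left)
    (hu : AlgSp.Points.ofPt φ u = x) (hu' : AlgSp.Points.ofPt φ u' = x) :
    ∀ (R : Over S) (s t : R ⟶ U), IsPullback ((AlgSp.yon S).map t) ((AlgSp.yon S).map s) φ φ →
          {r : ↥R.left | s.left r = u ∧ t.left r = u'}.Finite := by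
  intro R s t sq
  obtain ⟨r, hr, hm⟩ := hx
  let UU : AlgSp.Space S := ⟨(AlgSp.yon S).obj U, AlgSp.IsAlgSpace.yon_obj _⟩
  let RR : AlgSp.Space S := ⟨(AlgSp.yon S).obj R, AlgSp.IsAlgSpace.yon_obj _⟩
  let f : UU ⟶ X := ObjectProperty.homMk φ
  let p : RR ⟶ UU := ObjectProperty.homMk ((AlgSp.yon S).map t)
  let q : RR ⟶ UU := ObjectProperty.homMk ((AlgSp.yon S).map s)
  have hW : IsPullback p.hom q.hom f.hom f.hom := sq
  have hmapu : AlgSp.Points.map f.hom (AlgSp.Points.ofScheme U u) = x := by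
    show AlgSp.Points.map φ (AlgSp.Points.ofScheme U u) = x
    rw [← AlgSp.Points.ofPt_eq_map_ofScheme, hu]
  have hmapu' : AlgSp.Points.map f.hom (AlgSp.Points.ofScheme U u') = x := by
    show AlgSp.Points.map φ (AlgSp.Points.ofScheme U u') = x
    rw [← AlgSp.Points.ofPt_eq_map_ofScheme, hu']
  have hfin := Groth.Agent.S10389.result f f p q hW (AlgSp.Points.ofScheme U u')
    (AlgSp.Points.ofScheme U u) (by rw [hmapu, hmapu'])
    ⟨r, by rw [hr, hmapu], hm⟩
    ⟨U, U, 𝟙 _, φ, 𝟙 U, u, AlgSp.repWith_id _ U, hφ, by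
      rw [(AlgSp.yon S).map_id]; rfl, rfl, ⊤, trivial, by
      show LocallyQuasiFinite ((⊤ : U.left.Opens).ι ≫ 𝟙 U.left)
      rw [Category.comp_id]; infer_instance, by
      show LocallyOfFiniteType ((⊤ : U.left.Opens).ι ≫ 𝟙 U.left)
      rw [Category.comp_id]; infer_instance⟩
  refine (hfin.image (AlgSp.Points.toScheme R)).subset ?_
  rintro ρ ⟨h1, h2⟩
  refine ⟨AlgSp.Points.ofScheme R ρ, ⟨?_, ?_⟩, AlgSp.Points.toScheme_ofScheme R ρ⟩
  · show AlgSp.Points.map ((AlgSp.yon S).map t) (AlgSp.Points.ofScheme R ρ) = _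
    exact (AlgSp.Points.map_yon_map_apply t ρ).trans (congrArg _ h2)
  · show AlgSp.Points.map ((AlgSp.yon S).map s) (AlgSp.Points.ofScheme R ρ) = _
    exact (AlgSp.Points.map_yon_map_apply s ρ).trans (congrArg _ h1)

end Groth.Agent.S10408
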