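import Groth.Statements.S10360
import Mathlib
import Groth.Agent.Lib.Helper12DecentPoint
import Groth.Agent.S10408

set_option autoImplicit false
universe u
open CategoryTheory CategoryTheory.Limits AlgebraicGeometry Topology TopologicalSpace
open AlgSp

namespace Groth.Agent.S10360





/-- (1) ⇔ (4): for an algebraic space X over a scheme S and x ∈ |X|, the fibres over x of |U| → |X| and
|U ×_X U| → |X| are finite for every etale h_U ⟶ X with U affine, if and only if x is represented by
a monomorphism Spec k ⟶ X which is representable quasi-compact. -/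
theorem result {S : Scheme.{u}} (X : AlgSp.Space S)
    (x : AlgSp.Points X.obj) :
    (∀ (U : Over S) (φ : (AlgSp.yon S).obj U ⟶ X.obj), IsAffine U.left → AlgSp.RepWith @Etale φ →
        ∀ (R : Over S) (s t : R ⟶ U), IsPullback ((AlgSp.yon S).map t) ((AlgSp.yon S).map s) φ φ →
          (AlgSp.Points.ofPt φ ⁻¹' {x}).Finite ∧ (AlgSp.Points.ofPt ((AlgSp.yon S).map t ≫ φ) ⁻¹' {x}).Finite) ↔
      ∃ p : AlgSp.FieldPt X.obj, AlgSp.Points.mk p = x ∧ Mono p.toHom ∧ AlgSp.RepWith @QuasiCompact p.toHom := by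
  constructor
  · intro H
    obtain ⟨V, b, v, hV, hb, hv⟩ :=
      Groth.Agent.Lib.Helper12.DecentPoint.exists_affine_chart X.property x
    obtain ⟨R, s, t', sqR⟩ := hb.1 b
    obtain ⟨t, rfl⟩ := (AlgSp.yon S).map_surjective t'
    obtain ⟨-, hR⟩ := H V b hV hb R s t sqR
    refine Groth.Agent.Lib.Helper12.DecentPoint.exists_qc_mono_point X.property x b hb v hv s t sqR
      (hR.subset ?_) ?_
    · rintro r ⟨-, hr⟩
      rw [Set.mem_preimage, Set.mem_singleton_iff, Groth.Agent.S10176.ofPt_map_comp, hr, hv]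
    · intro V' b' hV' hb'
      obtain ⟨R', s', t'', sqR'⟩ := hb'.1 b'
      obtain ⟨t', rfl⟩ := (AlgSp.yon S).map_surjective t''
      exact (H V' b' hV' hb' R' s' t' sqR').1
  · rintro ⟨p, hp, hm, hq⟩ U φ hU hφ R s t sq
    haveI := hU
    haveI : CompactSpace ↥U.left := inferInstance
    have hΦ : (AlgSp.Points.ofPt φ ⁻¹' {x}).Finite := by
      rw [← hp]
      exact Groth.Agent.Lib.Helper12.QcPoint.finite_fibre_of_quasiCompact p hq φ hφ
    refine ⟨hΦ, ?_⟩
    have hfin : (⋃ u ∈ (AlgSp.Points.ofPt φ ⁻¹' {x}), ⋃ u' ∈ (AlgSp.Points.ofPt φ ⁻¹' {x}),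
        {r : ↥R.left | s.left r = u ∧ t.left r = u'}).Finite := by
      refine hΦ.biUnion (fun u hu => hΦ.biUnion (fun u' hu' => ?_))
      exact Groth.Agent.S10408.result X x ⟨p, hp, hm⟩ φ hφ u u' hu hu' R s t sq
    refine hfin.subset ?_
    intro r hr
    rw [Set.mem_preimage, Set.mem_singleton_iff] at hr
    have h1 : AlgSp.Points.ofPt φ (t.left r) = x := by
      rw [← Groth.Agent.S10176.ofPt_map_comp]; exact hr
    have h2 : AlgSp.Points.ofPt φ (s.left r) = x := by
      rw [← Groth.Agent.S10176.ofPt_map_comp, ← sq.w]; exact hr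
    simp only [Set.mem_iUnion]
    exact ⟨s.left r, h2, t.left r, h1, rfl, rfl⟩

end Groth.Agent.S10360
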