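import Groth.Statements.S10365
import Mathlib
import Groth.Agent.S9885
import Groth.Agent.S9948
import Groth.Agent.S9906
import Groth.Agent.S10175
import Groth.Agent.Lib.Helper12LocPCases
import Groth.Agent.Lib.Helper12Flat

set_option autoImplicit false
universe u
open CategoryTheory CategoryTheory.Limits AlgebraicGeometry Topology TopologicalSpace
open AlgSp

namespace Groth.Agent.S10365





/-- Let Z be an algebraic space over a scheme S admitting a surjective flat morphism Spec k ⟶ Z from the
spectrum of a field. Then every morphism Spec k' ⟶ Z from the spectrum of a field is surjective and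
flat. -/
theorem result {S : Scheme.{u}} (Z : AlgSp.Space S)
    (k : Type u) [Field k] (str : Spec (CommRingCat.of k) ⟶ S) (p : (AlgSp.yon S).obj (Over.mk str) ⟶ Z.obj)
    (hpf : AlgSp.LocP @Flat p) (hps : AlgSp.IsSurjectiveMor p)
    (k' : Type u) [Field k'] (str' : Spec (CommRingCat.of k') ⟶ S) (q : (AlgSp.yon S).obj (Over.mk str') ⟶ Z.obj) :
    AlgSp.LocP @Flat q ∧ AlgSp.IsSurjectiveMor q := by
  have hgf := Groth.Agent.Lib.Helper12.LocPCases.good_flat.{u}
  have hrep : AlgSp.Representable p := Z.property.representable_from_yon p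
  haveI := hgf.bc
  haveI := hgf.comp
  haveI := hgf.desc
  have h1 : AlgSp.RepWith @Flat p :=
    (Groth.Agent.S9948.locP_iff_repWith @Flat hgf.hEt Z.property p hrep).1 hpf
  have h3 : AlgSp.RepWith @Surjective p :=
    Groth.Agent.S9906.repWith_surjective_of_surjective_map p hrep hps
  constructor
  · intro U V a b h ha hb hcomm
    obtain ⟨α, rfl⟩ := (AlgSp.yon S).map_surjective a
    haveI : Etale α.left := (AlgSp.repWith_yon_map_iff _ _).1 ha
    obtain ⟨W, w1, w2', sq⟩ := hrep q
    obtain ⟨w2, rfl⟩ := (AlgSp.yon S).map_surjective w2'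
    haveI : Flat w1.left := h1.2 _ _ w1 sq
    haveI : Surjective w1.left := h3.2 _ _ w1 sq
    have hsq : IsPullback (pullback.fst α w1).left (pullback.snd α w1).left α.left w1.left :=
      (IsPullback.of_hasPullback α w1).map (Over.forget S)
    haveI : Flat (pullback.fst α w1).left :=
      MorphismProperty.of_isPullback (P := @Flat) hsq.flip inferInstance
    haveI : Surjective (pullback.fst α w1).left :=
      MorphismProperty.of_isPullback (P := @Surjective) hsq.flip inferInstance
    haveI : Etale (pullback.snd α w1).left :=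
      MorphismProperty.of_isPullback (P := @Etale) hsq inferInstance
    -- `W ⟶ Spec k ⟶ Z` is flat
    haveI : IsIntegral (Over.mk str).left := (inferInstance : IsIntegral (Spec (CommRingCat.of k)))
    haveI : Subsingleton ↥(Over.mk str).left :=
      (inferInstance : Subsingleton (PrimeSpectrum k))
    haveI : Flat w2.left := inferInstance
    have hw2 : AlgSp.LocP @Flat ((AlgSp.yon S).map w2) :=
      Groth.Agent.Lib.Helper12.LocPGen.locP_yon_map_of @Flat hgf.hEt hgf.hcancel w2 inferInstance
    have hcomp : AlgSp.LocP @Flat ((AlgSp.yon S).map w2 ≫ p) :=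
      hgf.locP_comp (AlgSp.IsAlgSpace.yon_obj _) Z.property _ _ hw2 hpf
    have hfl : Flat (pullback.fst α w1 ≫ h).left := by
      refine hcomp ((AlgSp.yon S).map (pullback.snd α w1)) b (pullback.fst α w1 ≫ h)
        ((AlgSp.repWith_yon_map_iff _ _).2 inferInstance) hb ?_
      rw [sq.w, ← Functor.map_comp_assoc, ← pullback.condition, Functor.map_comp_assoc, hcomm,
        Functor.map_comp, Category.assoc]
    rw [Over.comp_left] at hfl
    haveI := hfl
    exact Groth.Agent.Lib.Helper12.flat_of_comp_of_flat_of_surjective (pullback.fst α w1).left h.left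
  · intro z
    have s0 : ↥(Over.mk str).left := (⊥ : PrimeSpectrum k)
    have s0' : ↥(Over.mk str').left := (⊥ : PrimeSpectrum k')
    obtain ⟨y, rfl⟩ := hps z
    obtain ⟨y', hy'⟩ := hps (AlgSp.Points.map q (AlgSp.Points.ofScheme _ s0'))
    refine ⟨AlgSp.Points.ofScheme _ s0', ?_⟩
    rw [← hy']
    congr 1
    apply (AlgSp.Points.schemeHomeo (Over.mk str)).symm.injective
    haveI : Subsingleton ↥(Over.mk str).left :=
      (inferInstance : Subsingleton (PrimeSpectrum k))
    exact Subsingleton.elim _ _

end Groth.Agent.S10365
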