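import Groth.Statements.S10366
import Mathlib
import Groth.Agent.Lib.Helper12Reduced
import Groth.Agent.Lib.Helper12LocPCases
import Groth.Agent.S9947

set_option autoImplicit false
universe u
open CategoryTheory CategoryTheory.Limits AlgebraicGeometry Topology TopologicalSpace
open AlgSp

namespace Groth.Agent.S10366


lemma flat_residueField_of_minimal {A : Type u} [CommRing A] [IsReduced A] (q : Ideal A)
    [q.IsPrime] (hq : q ∈ minimalPrimes A) : Module.Flat A q.ResidueField := by
  haveI : Ring.KrullDimLE 0 (Localization.AtPrime q) := .of_isLocalization _ hq _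
  have hfield : IsField (Localization.AtPrime q) := Ring.KrullDimLE.isField_of_isReduced
  have hmax : IsLocalRing.maximalIdeal (Localization.AtPrime q) = ⊥ :=
    IsLocalRing.isField_iff_maximalIdeal_eq.1 hfield
  have hbij : Function.Bijective (algebraMap (Localization.AtPrime q) q.ResidueField) := by
    constructor
    · rw [RingHom.injective_iff_ker_eq_bot]
      show RingHom.ker (IsLocalRing.residue (Localization.AtPrime q)) = ⊥
      rw [IsLocalRing.ker_residue, hmax]
    · exact IsLocalRing.residue_surjective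
  let e : Localization.AtPrime q ≃ₗ[A] q.ResidueField :=
    LinearEquiv.ofBijective
      ((Algebra.linearMap (Localization.AtPrime q) q.ResidueField).restrictScalars A) hbij
  haveI : Module.Flat A (Localization.AtPrime q) := IsLocalization.flat _ q.primeCompl
  exact Module.Flat.of_linearEquiv e.symm

lemma exists_flat_field_point (X : Scheme.{u}) [IsReduced X] [Nonempty X] :
    ∃ (k : Type u) (_ : Field k) (φ : Spec (CommRingCat.of k) ⟶ X), Flat φ := by
  obtain ⟨x⟩ := ‹Nonempty X›
  obtain ⟨V, hVaff, hxV, -⟩ : ∃ V : X.Opens, V ∈ X.affineOpens ∧ x ∈ V ∧ V ≤ (⊤ : X.Opens) :=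
    TopologicalSpace.Opens.isBasis_iff_nbhd.1 X.isBasis_affineOpens
      (show x ∈ (⊤ : X.Opens) from trivial)
  haveI : Nonempty V := ⟨⟨x, hxV⟩⟩
  haveI : Nontrivial Γ(X, V) := inferInstance
  obtain ⟨m, hm⟩ := Ideal.exists_maximal Γ(X, V)
  haveI := hm.isPrime
  obtain ⟨q, hq, -⟩ := Ideal.exists_minimalPrimes_le (bot_le : (⊥ : Ideal Γ(X, V)) ≤ m)
  haveI := hq.1.1
  have hq' : q ∈ minimalPrimes Γ(X, V) := hq
  haveI := flat_residueField_of_minimal q hq'
  refine ⟨q.ResidueField, inferInstance,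
    Spec.map (CommRingCat.ofHom (algebraMap Γ(X, V) q.ResidueField)) ≫ IsAffineOpen.fromSpec hVaff, ?_⟩
  haveI : Flat (Spec.map (CommRingCat.ofHom (algebraMap Γ(X, V) q.ResidueField))) := by
    rw [HasRingHomProperty.Spec_iff (P := @Flat)]
    exact (RingHom.flat_algebraMap_iff).2 inferInstance
  infer_instance



/-- (1) ⇔ (2): an algebraic space Z over a scheme S is reduced with |Z| a single point if and only if
there is a surjective flat morphism Spec k ⟶ Z from the spectrum of a field. -/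
theorem result {S : Scheme.{u}} (Z : AlgSp.Space S) :
    (AlgSp.EtaleLocally (fun U => IsReduced U) Z.obj ∧ Nonempty (AlgSp.Points Z.obj) ∧ Subsingleton (AlgSp.Points Z.obj)) ↔
      ∃ (k : Type u) (_ : Field k) (str : Spec (CommRingCat.of k) ⟶ S) (p : (AlgSp.yon S).obj (Over.mk str) ⟶ Z.obj),
        AlgSp.LocP @Flat p ∧ AlgSp.IsSurjectiveMor p := by
  have hgf := Groth.Agent.Lib.Helper12.LocPCases.good_flat.{u}
  constructor
  · rintro ⟨⟨U, a, hae, has, hU⟩, ⟨z⟩, hsub⟩
    obtain ⟨u, hu⟩ := Groth.Agent.S10177.surjective_ofPt a has z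
    haveI : IsReduced U.left := hU
    haveI : Nonempty U.left := ⟨u⟩
    obtain ⟨k, _, φ, hφ⟩ := exists_flat_field_point U.left
    let j : Over.mk (φ ≫ U.hom) ⟶ U := Over.homMk φ rfl
    haveI := hgf.comp
    refine ⟨k, inferInstance, φ ≫ U.hom, (AlgSp.yon S).map j ≫ a, ?_, ?_⟩
    · exact hgf.locP_comp (AlgSp.IsAlgSpace.yon_obj U) Z.property _ _
        (Groth.Agent.Lib.Helper12.LocPGen.locP_yon_map_of @Flat hgf.hEt hgf.hcancel j hφ)
        (Groth.Agent.S9947.locP_of_repWith_etale @Flat hgf.hEt a hae)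
    · intro x
      refine ⟨AlgSp.Points.schemeHomeo _ (⊥ : PrimeSpectrum k), Subsingleton.elim _ _⟩
  · rintro ⟨k, _, str, p, hpf, hps⟩
    have hred : AlgSp.IsReducedSp ((AlgSp.yon S).obj (Over.mk str)) :=
      ⟨Over.mk str, 𝟙 _, AlgSp.repWith_id _ _, AlgSp.repWith_id _ _,
        (inferInstance : IsReduced (Spec (CommRingCat.of k)))⟩
    refine ⟨Groth.Agent.Lib.Helper12.Reduced.isReducedSp_of_flat_surjective Z.property p hpf hps hred,
      ⟨AlgSp.Points.map p (AlgSp.Points.schemeHomeo _ (⊥ : PrimeSpectrum k))⟩, ⟨fun x y => ?_⟩⟩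
    obtain ⟨x', rfl⟩ := hps x
    obtain ⟨y', rfl⟩ := hps y
    congr 1
    apply (AlgSp.Points.schemeHomeo (Over.mk str)).symm.injective
    exact Subsingleton.elim (α := PrimeSpectrum k) _ _

end Groth.Agent.S10366
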