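import Groth.Statements.S10367
import Mathlib
import Groth.Agent.Lib.Helper12OnePoint
import Groth.Agent.Lib.Helper12NoethDescent
import Groth.Agent.S10366
import Groth.Agent.S9947

set_option autoImplicit false
universe u
open CategoryTheory CategoryTheory.Limits AlgebraicGeometry Topology TopologicalSpace
open AlgSp

namespace Groth.Agent.S10367


lemma flat_fromSpecStalk' (Y : Scheme.{u}) (y : Y) : Flat (Y.fromSpecStalk y) := by
  obtain ⟨_, ⟨U, hU, rfl⟩, hyU, -⟩ := Y.isBasis_affineOpens.exists_subset_of_mem_open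
    (Set.mem_univ y) isOpen_univ
  rw [← hU.fromSpecStalk_eq_fromSpecStalk hyU]
  delta IsAffineOpen.fromSpecStalk
  have : IsOpenImmersion hU.fromSpec := hU.isOpenImmersion_fromSpec
  have : Flat (Spec.map (Y.presheaf.germ U y hyU)) := by
    rw [HasRingHomProperty.Spec_iff (P := @Flat)]
    let _ := Y.presheaf.algebra_section_stalk ⟨y, hyU⟩
    have := hU.isLocalization_stalk ⟨y, hyU⟩
    have : Module.Flat Γ(Y, U) (Y.presheaf.stalk y) :=
      IsLocalization.flat _ (hU.primeIdealOf ⟨y, hyU⟩).asIdeal.primeCompl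
    exact (RingHom.flat_algebraMap_iff).mpr this
  infer_instance

lemma aux_point {W : Scheme.{u}} (hfield : ∀ w : W, IsField (W.presheaf.stalk w)) (w : W) :
    IsClosedImmersion (W.fromSpecResidueField w) ∧ Flat (W.fromSpecResidueField w) := by
  constructor
  · rw [← isClosed_singleton_iff_isClosedImmersion, ← closure_eq_iff_isClosed]
    apply Set.Subset.antisymm ?_ subset_closure
    intro w' hw'
    have hs : w ⤳ w' := specializes_iff_mem_closure.2 hw'
    have hr : w ∈ Set.range (W.fromSpecStalk w') := by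
      rw [Scheme.range_fromSpecStalk]; exact hs
    obtain ⟨y, hy⟩ := hr
    have hsub : Subsingleton (PrimeSpectrum (W.presheaf.stalk w')) := by
      letI := (hfield w').toField
      infer_instance
    have hy' : y = IsLocalRing.closedPoint (W.presheaf.stalk w') :=
      @Subsingleton.elim _ hsub y (IsLocalRing.closedPoint (W.presheaf.stalk w'))
    rw [hy', Scheme.fromSpecStalk_closedPoint] at hy
    rw [hy]
    rfl
  · have hmax : IsLocalRing.maximalIdeal (W.presheaf.stalk w) = ⊥ :=
      IsLocalRing.isField_iff_maximalIdeal_eq.1 (hfield w)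
    have hbij : Function.Bijective (W.residue w).hom := by
      constructor
      · rw [RingHom.injective_iff_ker_eq_bot]
        show RingHom.ker (IsLocalRing.residue (W.presheaf.stalk w)) = ⊥
        rw [IsLocalRing.ker_residue, hmax]
      · exact IsLocalRing.residue_surjective
    haveI : IsIso (W.residue w) := (ConcreteCategory.isIso_iff_bijective _).2 hbij
    haveI := flat_fromSpecStalk' W w
    unfold Scheme.fromSpecResidueField
    infer_instance



/-- (2) ⇒ (3): if an algebraic space Z over a scheme S admits a surjective flat morphism Spec k ⟶ Z with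
k a field, then it also admits such a morphism which is moreover locally of finite type. -/
theorem result {S : Scheme.{u}} (Z : AlgSp.Space S)
    (k : Type u) [Field k] (str : Spec (CommRingCat.of k) ⟶ S) (p : (AlgSp.yon S).obj (Over.mk str) ⟶ Z.obj)
    (hpf : AlgSp.LocP @Flat p) (hps : AlgSp.IsSurjectiveMor p) :
    ∃ (k' : Type u) (_ : Field k') (str' : Spec (CommRingCat.of k') ⟶ S) (q : (AlgSp.yon S).obj (Over.mk str') ⟶ Z.obj),
      AlgSp.LocP @LocallyOfFiniteType q ∧ AlgSp.LocP @Flat q ∧ AlgSp.IsSurjectiveMor q := by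
  have hgf := Groth.Agent.Lib.Helper12.LocPCases.good_flat.{u}
  have hgt := Groth.Agent.Lib.Helper12.LocPCases.good_lft.{u}
  obtain ⟨-, ⟨z⟩, hsub⟩ := (Groth.Agent.S10366.result Z).2 ⟨k, inferInstance, str, p, hpf, hps⟩
  obtain ⟨W, a, hae, has⟩ := Z.property.atlas
  obtain ⟨-, hfield⟩ :=
    Groth.Agent.Lib.Helper12.OnePoint.isField_stalk_of_etale Z k str p hpf hps a hae
  obtain ⟨w, hw⟩ := Groth.Agent.S10177.surjective_ofPt a has z
  obtain ⟨hci, hfl⟩ := aux_point hfield w
  haveI := hci
  have hlft : LocallyOfFiniteType (W.left.fromSpecResidueField w) := inferInstance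
  let j : Over.mk (W.left.fromSpecResidueField w ≫ W.hom) ⟶ W :=
    Over.homMk (W.left.fromSpecResidueField w) rfl
  refine ⟨W.left.residueField w, inferInstance, W.left.fromSpecResidueField w ≫ W.hom,
    (AlgSp.yon S).map j ≫ a, ?_, ?_, ?_⟩
  · haveI := hgt.comp
    exact hgt.locP_comp (AlgSp.IsAlgSpace.yon_obj W) Z.property _ _
      (Groth.Agent.Lib.Helper12.LocPGen.locP_yon_map_of @LocallyOfFiniteType
        hgt.hEt hgt.hcancel j hlft)
      (Groth.Agent.S9947.locP_of_repWith_etale @LocallyOfFiniteType hgt.hEt a hae)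
  · haveI := hgf.comp
    exact hgf.locP_comp (AlgSp.IsAlgSpace.yon_obj W) Z.property _ _
      (Groth.Agent.Lib.Helper12.LocPGen.locP_yon_map_of @Flat hgf.hEt hgf.hcancel j hfl)
      (Groth.Agent.S9947.locP_of_repWith_etale @Flat hgf.hEt a hae)
  · intro x
    refine ⟨AlgSp.Points.schemeHomeo _ (⊥ : PrimeSpectrum (W.left.residueField w)),
      Subsingleton.elim _ _⟩

end Groth.Agent.S10367
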