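import Groth.Statements.S10368
import Mathlib
import Groth.Agent.Lib.Helper12OnePoint
import Groth.Agent.Lib.Helper12NoethDescent
import Groth.Agent.S10366
import Groth.Agent.S9947

set_option autoImplicit false
universe u
open CategoryTheory CategoryTheory.Limits AlgebraicGeometry Topology TopologicalSpace
open AlgSp

namespace Groth.Agent.S10368


lemma flat_fromSpecStalk' (Y : Scheme.{u}) (y : Y) : Flat (Y.fromSpecStalk y) := by
  obtain ⟨_, ⟨U, hU, rfl⟩, hyU, -⟩ := Y.isBasis_affineOpens.exists_subset_of_mem_open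
    (Set.mem_univ y) isOpen_univ
  rw [← hU.fromSpecStalk_eq_fromSpecStalk hyU]
  delta IsAffineOpen.fromSpecStalk
  have : IsOpenImmersion hU.fromSpec := hU.isOpenImmersion_fromSpec
  have : Flat (Spec.map (Y.presheaf.germ U y hyU)) := by
    rw [HasRingHomProperty.Spec_iff (P := @Flat)]
    let _ := Y.presheaf.algebra_section_stalk ⟨y, hyU⟩
    have := hU.isLocalization_stalk ⟨y, hyU⟩
    have : Module.Flat Γ(Y, U) (Y.presheaf.stalk y) :=
      IsLocalization.flat _ (hU.primeIdealOf ⟨y, hyU⟩).asIdeal.primeCompl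
    exact (RingHom.flat_algebraMap_iff).mpr this
  infer_instance

lemma aux_point {W : Scheme.{u}} (hfield : ∀ w : W, IsField (W.presheaf.stalk w)) (w : W) :
    IsClosedImmersion (W.fromSpecResidueField w) ∧ Flat (W.fromSpecResidueField w) := by
  constructor
  · rw [← isClosed_singleton_iff_isClosedImmersion, ← closure_eq_iff_isClosed]
    apply Set.Subset.antisymm ?_ subset_closure
    intro w' hw'
    have hs : w ⤳ w' := specializes_iff_mem_closure.2 hw'
    have hr : w ∈ Set.range (W.fromSpecStalk w') := by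
      rw [Scheme.range_fromSpecStalk]; exact hs
    obtain ⟨y, hy⟩ := hr
    have hsub : Subsingleton (PrimeSpectrum (W.presheaf.stalk w')) := by
      letI := (hfield w').toField
      infer_instance
    have hy' : y = IsLocalRing.closedPoint (W.presheaf.stalk w') :=
      @Subsingleton.elim _ hsub y (IsLocalRing.closedPoint (W.presheaf.stalk w'))
    rw [hy', Scheme.fromSpecStalk_closedPoint] at hy
    rw [hy]
    rfl
  · have hmax : IsLocalRing.maximalIdeal (W.presheaf.stalk w) = ⊥ :=
      IsLocalRing.isField_iff_maximalIdeal_eq.1 (hfield w)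
    have hbij : Function.Bijective (W.residue w).hom := by
      constructor
      · rw [RingHom.injective_iff_ker_eq_bot]
        show RingHom.ker (IsLocalRing.residue (W.presheaf.stalk w)) = ⊥
        rw [IsLocalRing.ker_residue, hmax]
      · exact IsLocalRing.residue_surjective
    haveI : IsIso (W.residue w) := (ConcreteCategory.isIso_iff_bijective _).2 hbij
    haveI := flat_fromSpecStalk' W w
    unfold Scheme.fromSpecResidueField
    infer_instance

lemma lfp_of_lft_of_isLocallyNoetherian {X Y : Scheme.{u}} (f : X ⟶ Y) [LocallyOfFiniteType f]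
    [IsLocallyNoetherian Y] : LocallyOfFinitePresentation f := by
  rw [HasRingHomProperty.iff_appLE (P := @LocallyOfFinitePresentation)]
  intro U V e
  have h : (f.appLE U.1 V.1 e).hom.FiniteType :=
    HasRingHomProperty.appLE (P := @LocallyOfFiniteType) f inferInstance U V e
  haveI : IsNoetherianRing Γ(Y, U.1) := IsLocallyNoetherian.component_noetherian U
  exact RingHom.FinitePresentation.of_finiteType.1 h



/-- An algebraic space Z over a scheme S is reduced, locally Noetherian and has |Z| a single point if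
and only if there is a locally finitely presented, flat, surjective morphism Spec k ⟶ Z from the
spectrum of a field. -/
theorem result {S : Scheme.{u}} (Z : AlgSp.Space S) :
    (AlgSp.EtaleLocally (fun U => IsReduced U) Z.obj ∧ AlgSp.IsLocNoethSp Z.obj ∧ Nonempty (AlgSp.Points Z.obj) ∧ Subsingleton (AlgSp.Points Z.obj)) ↔
      ∃ (k : Type u) (_ : Field k) (str : Spec (CommRingCat.of k) ⟶ S) (p : (AlgSp.yon S).obj (Over.mk str) ⟶ Z.obj),
        AlgSp.LocP @LocallyOfFinitePresentation p ∧ AlgSp.LocP @Flat p ∧ AlgSp.IsSurjectiveMor p := by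
  have hgf := Groth.Agent.Lib.Helper12.LocPCases.good_flat.{u}
  have hgp := Groth.Agent.Lib.Helper12.LocPCases.good_lfp.{u}
  constructor
  · rintro ⟨hr, ⟨W, a, hae, has, hW⟩, ⟨z⟩, hsub⟩
    obtain ⟨k₀, _, str₀, p₀, hpf₀, hps₀⟩ := (Groth.Agent.S10366.result Z).1 ⟨hr, ⟨z⟩, hsub⟩
    obtain ⟨-, hfield⟩ :=
      Groth.Agent.Lib.Helper12.OnePoint.isField_stalk_of_etale Z k₀ str₀ p₀ hpf₀ hps₀ a hae
    obtain ⟨w, hw⟩ := Groth.Agent.S10177.surjective_ofPt a has z
    obtain ⟨hci, hfl⟩ := aux_point hfield w
    haveI : IsLocallyNoetherian W.left := hW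
    haveI := hci
    have hlfp : LocallyOfFinitePresentation (W.left.fromSpecResidueField w) :=
      lfp_of_lft_of_isLocallyNoetherian _
    let j : Over.mk (W.left.fromSpecResidueField w ≫ W.hom) ⟶ W :=
      Over.homMk (W.left.fromSpecResidueField w) rfl
    refine ⟨W.left.residueField w, inferInstance, W.left.fromSpecResidueField w ≫ W.hom,
      (AlgSp.yon S).map j ≫ a, ?_, ?_, ?_⟩
    · haveI := hgp.comp
      exact hgp.locP_comp (AlgSp.IsAlgSpace.yon_obj W) Z.property _ _
        (Groth.Agent.Lib.Helper12.LocPGen.locP_yon_map_of @LocallyOfFinitePresentation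
          hgp.hEt hgp.hcancel j hlfp)
        (Groth.Agent.S9947.locP_of_repWith_etale @LocallyOfFinitePresentation hgp.hEt a hae)
    · haveI := hgf.comp
      exact hgf.locP_comp (AlgSp.IsAlgSpace.yon_obj W) Z.property _ _
        (Groth.Agent.Lib.Helper12.LocPGen.locP_yon_map_of @Flat hgf.hEt hgf.hcancel j hfl)
        (Groth.Agent.S9947.locP_of_repWith_etale @Flat hgf.hEt a hae)
    · intro x
      refine ⟨AlgSp.Points.schemeHomeo _ (⊥ : PrimeSpectrum (W.left.residueField w)),
        Subsingleton.elim _ _⟩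
  · rintro ⟨k, _, str, p, hlfp, hpf, hps⟩
    obtain ⟨h1, h2, h3⟩ := (Groth.Agent.S10366.result Z).2 ⟨k, inferInstance, str, p, hpf, hps⟩
    refine ⟨h1, ?_, h2, h3⟩
    refine Groth.Agent.Lib.Helper12.NoethDescent.isLocNoethSp_of_flat_lfp_surjective Z.property p
      hlfp hpf hps ?_
    exact ⟨Over.mk str, 𝟙 _, AlgSp.repWith_id _ _, AlgSp.repWith_id _ _,
      (inferInstance : IsLocallyNoetherian (Spec (CommRingCat.of k)))⟩

end Groth.Agent.S10368
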