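import Groth.Statements.S10371
import Mathlib
import Groth.Agent.S10369
import Groth.Agent.S9874
import Groth.Agent.S10175

set_option autoImplicit false
universe u
open CategoryTheory CategoryTheory.Limits AlgebraicGeometry Topology TopologicalSpace
open AlgSp

namespace Groth.Agent.S10371





/-- Two monomorphisms Z ⟶ X, Z' ⟶ X of algebraic spaces over a scheme S with image {x} in |X|, whose
sources admit a locally finitely presented, flat, surjective morphism from the spectrum of a field,
are isomorphic over X. -/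
theorem result {S : Scheme.{u}} (X : AlgSp.Space S) (x : AlgSp.Points X.obj)
    {Z Z' : AlgSp.Space S} (i : Z ⟶ X) (i' : Z' ⟶ X) [Mono i.hom] [Mono i'.hom]
    (hi : Set.range (AlgSp.Points.map i.hom) = {x}) (hi' : Set.range (AlgSp.Points.map i'.hom) = {x})
    (hZ : ∃ (k : Type u) (_ : Field k) (str : Spec (CommRingCat.of k) ⟶ S) (p : (AlgSp.yon S).obj (Over.mk str) ⟶ Z.obj),
        AlgSp.LocP @LocallyOfFinitePresentation p ∧ AlgSp.LocP @Flat p ∧ AlgSp.IsSurjectiveMor p)
    (hZ' : ∃ (k : Type u) (_ : Field k) (str : Spec (CommRingCat.of k) ⟶ S) (p : (AlgSp.yon S).obj (Over.mk str) ⟶ Z'.obj),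
        AlgSp.LocP @LocallyOfFinitePresentation p ∧ AlgSp.LocP @Flat p ∧ AlgSp.IsSurjectiveMor p) :
    ∃ e : Z' ≅ Z, e.hom ≫ i = i' := by
  have sq := IsPullback.of_hasPullback i.hom i'.hom
  have hP : AlgSp.IsAlgSpace (pullback i.hom i'.hom) :=
    Groth.Agent.S9874.isAlgSpace_of_isPullback X.property.diag Z.property Z'.property sq
  let P : AlgSp.Space S := ⟨pullback i.hom i'.hom, hP⟩
  let a : P ⟶ Z := ObjectProperty.homMk (pullback.fst i.hom i'.hom)
  let b : P ⟶ Z' := ObjectProperty.homMk (pullback.snd i.hom i'.hom)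
  haveI : Mono a.hom := inferInstanceAs (Mono (pullback.fst i.hom i'.hom))
  haveI : Mono b.hom := inferInstanceAs (Mono (pullback.snd i.hom i'.hom))
  obtain ⟨z, hz⟩ : ∃ z, AlgSp.Points.map i.hom z = x := by
    have : x ∈ Set.range (AlgSp.Points.map i.hom) := by rw [hi]; rfl
    exact this
  obtain ⟨z', hz'⟩ : ∃ z', AlgSp.Points.map i'.hom z' = x := by
    have : x ∈ Set.range (AlgSp.Points.map i'.hom) := by rw [hi']; rfl
    exact this
  obtain ⟨π, -, -⟩ := Groth.Agent.S10175.exists_point_of_isPullback sq.flip z' z (hz'.trans hz.symm)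
  have hne : ¬ IsEmpty (AlgSp.Points P.obj) := fun h => h.false π
  haveI ha : IsIso a := (Groth.Agent.S10369.result a hZ).resolve_left hne
  haveI hb : IsIso b := (Groth.Agent.S10369.result b hZ').resolve_left hne
  refine ⟨(asIso b).symm ≪≫ asIso a, ?_⟩
  have hw : a ≫ i = b ≫ i' := by
    apply ObjectProperty.hom_ext
    exact sq.w
  simp only [Iso.trans_hom, Iso.symm_hom, asIso_inv, asIso_hom, Category.assoc]
  rw [hw, IsIso.inv_hom_id_assoc]

end Groth.Agent.S10371
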