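import Groth.Statements.S10378
import Groth.Agent.Lib.Helper12LocSepD
import Groth.Agent.Lib.Helper12DecentPoint
import Groth.Agent.S10176

set_option autoImplicit false
universe u
open CategoryTheory CategoryTheory.Limits AlgebraicGeometry Topology TopologicalSpace
open AlgSp

namespace Groth.Agent.S10378

/-- A locally separated algebraic space is decent. Stated for X locally separated over the base scheme S
(diagonal over S representable by immersions), which agrees with the absolute notion because the
diagonal of any scheme is an immersion. -/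
theorem result {S : Scheme.{u}} (X : AlgSp.Space S)
    (hX : AlgSp.IsLocallySeparatedSp X.obj) : AlgSp.IsDecent X.obj := by
  intro x
  obtain ⟨V, b, v, hV, hb, hv⟩ :=
    Groth.Agent.Lib.Helper12.DecentPoint.exists_affine_chart X.property x
  haveI := hV
  obtain ⟨R, s, t', sqR⟩ := hb.1 b
  obtain ⟨t, rfl⟩ := (AlgSp.yon S).map_surjective t'
  refine Groth.Agent.Lib.Helper12.DecentPoint.exists_qc_mono_point X.property x b hb v hv s t sqR
    ?_ ?_
  · exact (Groth.Agent.Lib.Helper12.LocSepD.finite_fibre_of_locallySeparated hX b hb b t s sqR
      v).subset (fun r hr => hr.1)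
  · intro V' b' hV' hb'
    haveI := hV'
    obtain ⟨P, snd, fst', sqP⟩ := hb'.1 b
    obtain ⟨fst, rfl⟩ := (AlgSp.yon S).map_surjective fst'
    have hfin := Groth.Agent.Lib.Helper12.LocSepD.finite_fibre_of_locallySeparated hX b' hb' b
      fst snd sqP v
    refine (hfin.image fst.left).subset ?_
    intro v' hv'
    have e : AlgSp.Points.ofPt b' v' = AlgSp.Points.ofPt b v := by
      rw [hv]; exact hv'
    obtain ⟨r, hr1, hr2⟩ := Groth.Agent.S10176.exists_point_of_isPullback_yon sqP v' v e
    exact ⟨r, hr2, hr1⟩

end Groth.Agent.S10378
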