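import Groth.Statements.S10380
import Mathlib
import Groth.Agent.S13210
import Groth.Agent.S10175

set_option autoImplicit false
universe u
open CategoryTheory CategoryTheory.Limits AlgebraicGeometry Topology TopologicalSpace
open AlgSp

namespace Groth.Agent.S10380





/-- A morphism f : X ⟶ Y of algebraic spaces over a scheme S whose source X is decent is a decent
morphism. -/
theorem result {S : Scheme.{u}} {X Y : AlgSp.Space S} (f : X ⟶ Y)
    (hX : AlgSp.IsDecent X.obj) : AlgSp.IsDecentMor f.hom := by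
  intro T F' g fst snd sq x'
  obtain ⟨p, hp, hm, hq⟩ := hX (AlgSp.Points.map fst x')
  haveI := hm
  obtain ⟨Z, b, a', sqZ⟩ := Y.property.representable_from_yon (p.toHom ≫ f.hom) g
  obtain ⟨a, rfl⟩ := (AlgSp.yon S).map_surjective a'
  obtain ⟨k, hk1, hk2⟩ := sq.exists_lift ((AlgSp.yon S).map a ≫ p.toHom) ((AlgSp.yon S).map b)
    (by rw [Category.assoc]; exact sqZ.w)
  have sqL : IsPullback k ((AlgSp.yon S).map a) fst p.toHom := by
    refine IsPullback.of_right (t := sq.flip) ?_ hk1
    rw [hk2]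
    exact sqZ.flip
  haveI : Mono k := sqL.mono_fst_of_mono
  have hkq : AlgSp.RepWith @QuasiCompact k :=
    MorphismProperty.of_isPullback (P := AlgSp.RepWith @QuasiCompact) sqL.flip hq
  have s0 : ↥p.pt.left := (⊥ : PrimeSpectrum p.K)
  have hx : AlgSp.Points.map fst x' = AlgSp.Points.map p.toHom (AlgSp.Points.ofScheme p.pt s0) := by
    rw [← AlgSp.Points.ofPt_eq_map_ofScheme, AlgSp.Points.ofPt_toHom, hp]
  obtain ⟨z', hz1, hz2⟩ := Groth.Agent.S10175.exists_point_of_isPullback sqL.flip _ _ hx.symm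
  obtain ⟨z, rfl⟩ := (AlgSp.Points.schemeHomeo Z).surjective z'
  refine ⟨AlgSp.FieldPt.ofPt k z, ?_, ?_, ?_⟩
  · rw [← hz2]
    show AlgSp.Points.ofPt k z = _
    rw [AlgSp.Points.ofPt_eq_map_ofScheme]
    rfl
  · rw [AlgSp.FieldPt.toHom_ofPt]
    haveI : Mono (Over.homMk (Z.left.fromSpecResidueField z) rfl :
        Over.mk (Z.left.fromSpecResidueField z ≫ Z.hom) ⟶ Z) :=
      Over.mono_of_mono_left (k := (Over.homMk (Z.left.fromSpecResidueField z) rfl :
        Over.mk (Z.left.fromSpecResidueField z ≫ Z.hom) ⟶ Z))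
        (hk := (inferInstance : Mono (Z.left.fromSpecResidueField z)))
    haveI : (AlgSp.yon S).PreservesMonomorphisms :=
      preservesMonomorphisms_of_preservesLimitsOfShape _
    haveI : Mono ((AlgSp.yon S).map (Over.homMk (Z.left.fromSpecResidueField z) rfl :
        Over.mk (Z.left.fromSpecResidueField z ≫ Z.hom) ⟶ Z)) := (AlgSp.yon S).map_mono _
    exact @mono_comp _ _ _ _ _ _ this _ inferInstance
  · rw [AlgSp.FieldPt.toHom_ofPt]
    refine (AlgSp.RepWith @QuasiCompact).comp_mem _ _ ?_ hkq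
    refine (AlgSp.repWith_yon_map_iff _ _).2 ?_
    show QuasiCompact (Z.left.fromSpecResidueField z)
    haveI : Subsingleton ↥(Spec (Z.left.residueField z)) :=
      (inferInstance : Subsingleton (PrimeSpectrum (Z.left.residueField z)))
    exact ⟨fun U _ _ => (Set.subsingleton_of_subsingleton).isCompact⟩

end Groth.Agent.S10380
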