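import Groth.Statements.S10381
import Mathlib
import Groth.Agent.S10175

set_option autoImplicit false
universe u
open CategoryTheory CategoryTheory.Limits AlgebraicGeometry Topology TopologicalSpace
open AlgSp

namespace Groth.Agent.S10381


open CategoryTheory.Limits Opposite MorphismProperty Groth.Agent.S13210

variable {S : Scheme.{u}}

/-- the source of a decent morphism to a decent sheaf is decent. -/
lemma isDecent_of_isDecentMor {X Y : AlgSp.Sp S} (f : X ⟶ Y) (hf : AlgSp.IsDecentMor f)
    (hY : AlgSp.IsDecent Y) : AlgSp.IsDecent X := by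
  intro x
  obtain ⟨q, hq, hqm, hqc⟩ := hY (AlgSp.Points.map f x)
  haveI := hqm
  have sq := IsPullback.of_hasPullback f q.toHom
  have hP : AlgSp.IsDecent (pullback f q.toHom) := hf q.toHom _ _ sq
  have hx : AlgSp.Points.map f x =
      AlgSp.Points.map q.toHom (AlgSp.Points.ofScheme q.pt (IsLocalRing.closedPoint q.K)) := by
    rw [← AlgSp.Points.ofPt_eq_map_ofScheme, AlgSp.Points.ofPt_toHom, hq]
  obtain ⟨p₀, hp1, -⟩ := Groth.Agent.S10175.exists_point_of_isPullback sq x _ hx
  obtain ⟨p, hp, hpm, hpc⟩ := hP p₀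
  haveI := hpm
  refine ⟨p.map (pullback.fst f q.toHom), ?_, ?_, ?_⟩
  · rw [← AlgSp.Points.map_mk, hp, hp1]
  · rw [AlgSp.FieldPt.toHom_map]
    haveI : Mono (pullback.fst f q.toHom) := pullback.fst_of_mono
    exact @mono_comp _ _ _ _ _ _ hpm _ this
  · rw [AlgSp.FieldPt.toHom_map]
    exact MorphismProperty.comp_mem _ _ _ hpc
      (MorphismProperty.of_isPullback (P := AlgSp.RepWith @QuasiCompact) sq.flip hqc)



/-- If f : X ⟶ Y is a decent morphism of algebraic spaces over a scheme S and Y is decent, then X is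
decent. -/
theorem result {S : Scheme.{u}} {X Y : AlgSp.Space S} (f : X ⟶ Y)
    (hf : AlgSp.IsDecentMor f.hom) (hY : AlgSp.IsDecent Y.obj) : AlgSp.IsDecent X.obj := by
  exact isDecent_of_isDecentMor f.hom hf hY

end Groth.Agent.S10381
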