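import Groth.Statements.S10382
import Mathlib
import Groth.Agent.S10381

set_option autoImplicit false
universe u
open CategoryTheory CategoryTheory.Limits AlgebraicGeometry Topology TopologicalSpace
open AlgSp

namespace Groth.Agent.S10382


open CategoryTheory.Limits Opposite MorphismProperty Groth.Agent.S13210 Groth.Agent.S10381

variable {S : Scheme.{u}}

/-- decent morphisms are stable under base change. -/
lemma isDecentMor_of_isPullback {X Y X' Y' : AlgSp.Sp S} {f : X ⟶ Y} {g : Y' ⟶ Y} {fst : X' ⟶ X}
    {snd : X' ⟶ Y'} (sq : IsPullback fst snd f g) (hf : AlgSp.IsDecentMor f) :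
    AlgSp.IsDecentMor snd := by
  intro T F' t fst' snd' sq'
  exact hf (t ≫ g) (fst' ≫ fst) snd' (sq'.paste_horiz sq)

/-- decent morphisms are stable under composition. -/
lemma isDecentMor_comp {X Y Z : AlgSp.Sp S} (f : X ⟶ Y) (g : Y ⟶ Z) (hf : AlgSp.IsDecentMor f)
    (hg : AlgSp.IsDecentMor g) : AlgSp.IsDecentMor (f ≫ g) := by
  intro T F' t fst snd sq
  have sqb := IsPullback.of_hasPullback g t
  have hY' : AlgSp.IsDecent (pullback g t) := hg t _ _ sqb
  let l : F' ⟶ pullback g t := pullback.lift (fst ≫ f) snd (by rw [Category.assoc]; exact sq.w)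
  have hl1 : l ≫ pullback.fst g t = fst ≫ f := pullback.lift_fst _ _ _
  have hl2 : l ≫ pullback.snd g t = snd := pullback.lift_snd _ _ _
  have sqtop : IsPullback fst l f (pullback.fst g t) := by
    refine IsPullback.of_bot ?_ hl1.symm sqb
    rw [hl2]
    exact sq
  have hl : AlgSp.IsDecentMor l := isDecentMor_of_isPullback sqtop hf
  exact isDecent_of_isDecentMor l hl hY'



/-- The composition of two decent morphisms of algebraic spaces over a scheme S is decent. -/
theorem result {S : Scheme.{u}} {X Y Z : AlgSp.Space S} (f : X ⟶ Y) (g : Y ⟶ Z)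
    (hf : AlgSp.IsDecentMor f.hom) (hg : AlgSp.IsDecentMor g.hom) : AlgSp.IsDecentMor (f ≫ g).hom := by
  exact isDecentMor_comp f.hom g.hom hf hg

end Groth.Agent.S10382
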