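import Groth.Statements.S10383
import Mathlib
import Groth.Agent.S10351

set_option autoImplicit false
universe u
open CategoryTheory CategoryTheory.Limits AlgebraicGeometry Topology TopologicalSpace
open AlgSp

namespace Groth.Agent.S10383


open CategoryTheory.Limits Opposite MorphismProperty Groth.Agent.S13210

variable {S : Scheme.{u}}

/-- a point in the image of a quasi-compact monomorphism from a scheme is decent. -/
lemma exists_decent_fieldPt_of_mono {P : AlgSp.Sp S} {W : Over S} (g : (AlgSp.yon S).obj W ⟶ P)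
    [Mono g] (hg : AlgSp.RepWith @QuasiCompact g) (w₀ : ↥W.left) :
    ∃ q : AlgSp.FieldPt P, AlgSp.Points.mk q = AlgSp.Points.ofPt g w₀ ∧ Mono q.toHom ∧
      AlgSp.RepWith @QuasiCompact q.toHom := by
  refine ⟨AlgSp.FieldPt.ofPt g w₀, rfl, ?_, ?_⟩
  · rw [AlgSp.FieldPt.toHom_ofPt]
    have hm : ∀ {A : Over S} (m : A ⟶ W), Mono m → Mono ((AlgSp.yon S).map m ≫ g) := by
      intro A m hm
      haveI := hm
      haveI : Mono ((AlgSp.yon S).map m) := (AlgSp.yon S).map_mono m
      exact mono_comp _ _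
    apply hm
    have hmono : Mono (W.left.fromSpecResidueField w₀) := inferInstance
    exact @Over.mono_of_mono_left _ _ _ _ _ _ hmono
  · rw [AlgSp.FieldPt.toHom_ofPt]
    refine MorphismProperty.comp_mem _ _ _ ((AlgSp.repWith_yon_map_iff _ _).2 ?_) hg
    change QuasiCompact (W.left.fromSpecResidueField w₀)
    haveI : Finite ↥(Spec (W.left.residueField w₀)) := inferInstance
    exact Groth.Agent.S10351.quasiCompact_of_finite _

/-- the fibre product of two decent sheaves over a sheaf with representable diagonal is decent. -/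
lemma isDecent_of_isPullback {X Y Z P : AlgSp.Sp S} (hY : AlgSp.Representable (Limits.diag Y))
    {f : X ⟶ Y} {g : Z ⟶ Y} {fst : P ⟶ X} {snd : P ⟶ Z} (h : IsPullback fst snd f g)
    (hX : AlgSp.IsDecent X) (hZ : AlgSp.IsDecent Z) : AlgSp.IsDecent P := by
  intro p
  obtain ⟨qx, hqx, hqxm, hqxc⟩ := hX (AlgSp.Points.map fst p)
  obtain ⟨qz, hqz, hqzm, hqzc⟩ := hZ (AlgSp.Points.map snd p)
  haveI := hqxm
  haveI := hqzm
  -- first fibre product
  have sq1 := IsPullback.of_hasPullback qx.toHom fst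
  have hx : AlgSp.Points.map fst p =
      AlgSp.Points.map qx.toHom (AlgSp.Points.ofScheme qx.pt (IsLocalRing.closedPoint qx.K)) := by
    rw [← AlgSp.Points.ofPt_eq_map_ofScheme, AlgSp.Points.ofPt_toHom, hqx]
  obtain ⟨p₁, -, hp₁⟩ := Groth.Agent.S10175.exists_point_of_isPullback sq1 _ p hx.symm
  -- second fibre product
  have sq2 := IsPullback.of_hasPullback qz.toHom (pullback.snd qx.toHom fst ≫ snd)
  have hz : AlgSp.Points.map (pullback.snd qx.toHom fst ≫ snd) p₁ =
      AlgSp.Points.map qz.toHom (AlgSp.Points.ofScheme qz.pt (IsLocalRing.closedPoint qz.K)) := by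
    rw [AlgSp.Points.map_comp, hp₁, ← AlgSp.Points.ofPt_eq_map_ofScheme, AlgSp.Points.ofPt_toHom, hqz]
  obtain ⟨p₂, -, hp₂⟩ := Groth.Agent.S10175.exists_point_of_isPullback sq2 _ p₁ hz.symm
  have big := sq2.flip.paste_horiz (sq1.paste_vert h)
  obtain ⟨W, w, pr, sqW⟩ := (Functor.relativelyRepresentable.of_diag hY (qx.toHom ≫ f))
    (qz.toHom ≫ g)
  let e := sqW.isoIsPullback _ _ big
  haveI : Mono (pullback.snd qx.toHom fst) := pullback.snd_of_mono
  haveI : Mono (pullback.snd qz.toHom (pullback.snd qx.toHom fst ≫ snd)) := pullback.snd_of_mono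
  have hπ₁ : AlgSp.RepWith @QuasiCompact (pullback.snd qx.toHom fst) :=
    MorphismProperty.of_isPullback (P := AlgSp.RepWith @QuasiCompact) sq1 hqxc
  have hπ₂ : AlgSp.RepWith @QuasiCompact
      (pullback.snd qz.toHom (pullback.snd qx.toHom fst ≫ snd)) :=
    MorphismProperty.of_isPullback (P := AlgSp.RepWith @QuasiCompact) sq2 hqzc
  let m : (AlgSp.yon S).obj W ⟶ P :=
    e.hom ≫ pullback.snd qz.toHom (pullback.snd qx.toHom fst ≫ snd) ≫ pullback.snd qx.toHom fst
  haveI : Mono m := mono_comp _ _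
  have hm : AlgSp.RepWith @QuasiCompact m :=
    (MorphismProperty.cancel_left_of_respectsIso (AlgSp.RepWith @QuasiCompact) e.hom _).2
      (MorphismProperty.comp_mem _ _ _ hπ₂ hπ₁)
  obtain ⟨w₀, hw₀⟩ := (AlgSp.Points.schemeHomeo W).surjective (AlgSp.Points.map e.inv p₂)
  obtain ⟨q, hq, hqm, hqc⟩ := exists_decent_fieldPt_of_mono m hm w₀
  refine ⟨q, ?_, hqm, hqc⟩
  rw [hq, AlgSp.Points.ofPt_eq_map_ofScheme]
  have hw₀' : AlgSp.Points.ofScheme W w₀ = AlgSp.Points.map e.inv p₂ := hw₀
  rw [hw₀', ← AlgSp.Points.map_comp]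
  simp only [m, Iso.inv_hom_id_assoc]
  rw [AlgSp.Points.map_comp, hp₂, hp₁]



/-- If X and Z are decent algebraic spaces over a scheme S with morphisms to an algebraic space Y, then
the fibre product X ×_Y Z is decent. -/
theorem result {S : Scheme.{u}} {X Y Z P : AlgSp.Space S} (f : X ⟶ Y) (g : Z ⟶ Y)
    (fst : P ⟶ X) (snd : P ⟶ Z) (h : IsPullback fst.hom snd.hom f.hom g.hom)
    (hX : AlgSp.IsDecent X.obj) (hZ : AlgSp.IsDecent Z.obj) : AlgSp.IsDecent P.obj := by
  exact isDecent_of_isPullback Y.property.diag h hX hZ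

end Groth.Agent.S10383
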