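import Groth.Statements.S10384
import Mathlib
import Groth.Agent.S9912
import Groth.Agent.S10361
import Groth.Agent.Lib.Helper12Proper

set_option autoImplicit false
universe u
open CategoryTheory CategoryTheory.Limits AlgebraicGeometry Topology TopologicalSpace
open AlgSp

namespace Groth.Agent.S10384





/-- Let f : X ⟶ Y be a quasi-compact, etale and surjective morphism of algebraic spaces over a scheme S.
If X is decent then Y is decent. -/
theorem result {S : Scheme.{u}} {X Y : AlgSp.Space S} (f : X ⟶ Y)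
    (hq : AlgSp.IsQuasiCompactMor f.hom) (he : AlgSp.IsEtaleMor f.hom) (hs : AlgSp.IsSurjectiveMor f.hom)
    (hX : AlgSp.IsDecent X.obj) : AlgSp.IsDecent Y.obj := by
  intro y
  obtain ⟨x, rfl⟩ := hs y
  obtain ⟨p, rfl, hm, hpq⟩ := hX x
  let KK : AlgSp.Space S := ⟨(AlgSp.yon S).obj p.pt, AlgSp.IsAlgSpace.yon_obj _⟩
  let pp : KK ⟶ X := ObjectProperty.homMk p.toHom
  have h1 : AlgSp.IsQuasiCompactMor p.toHom :=
    (Groth.Agent.S9912.result pp (X.property.representable_from_yon p.toHom)).1 hpq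
  have h2 : AlgSp.IsQuasiCompactMor (p.toHom ≫ f.hom) :=
    Groth.Agent.Lib.Helper12.Proper.isQuasiCompactMor_comp X.property Y.property p.toHom f.hom h1 hq
  let qq : KK ⟶ Y := ObjectProperty.homMk (p.toHom ≫ f.hom)
  have h3 : AlgSp.RepWith @QuasiCompact (p.toHom ≫ f.hom) :=
    (Groth.Agent.S9912.result qq (Y.property.representable_from_yon (p.toHom ≫ f.hom))).2 h2
  obtain ⟨p₀, hp₀, hm₀, hq₀⟩ := Groth.Agent.S10361.result Y (p.map f.hom)
    (by rw [AlgSp.FieldPt.toHom_map]; exact h3)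
  exact ⟨p₀, hp₀, hm₀, hq₀⟩

end Groth.Agent.S10384
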