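import Groth.Statements.S10385
import Mathlib
import Groth.Agent.Lib.Helper12QcEtale
import Groth.Agent.Lib.Helper12PointQuot

set_option autoImplicit false
universe u
open CategoryTheory CategoryTheory.Limits AlgebraicGeometry Topology TopologicalSpace
open AlgSp

namespace Groth.Agent.S10385





/-- Let S be a scheme, X and Y algebraic spaces over S, and f : X ⟶ Y a quasi-compact, etale and
surjective morphism. If each point of X can be represented by a monomorphism whose source is the
spectrum of a field, then so can each point of Y. -/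
theorem result {S : Scheme.{u}} {X Y : AlgSp.Space S} (f : X ⟶ Y)
    (hq : AlgSp.IsQuasiCompactMor f.hom) (he : AlgSp.IsEtaleMor f.hom) (hs : AlgSp.IsSurjectiveMor f.hom)
    (hX : ∀ x : AlgSp.Points X.obj, ∃ p : AlgSp.FieldPt X.obj, AlgSp.Points.mk p = x ∧ Mono p.toHom)
    (y : AlgSp.Points Y.obj) : ∃ q : AlgSp.FieldPt Y.obj, AlgSp.Points.mk q = y ∧ Mono q.toHom := by
  obtain ⟨x, rfl⟩ := hs y
  obtain ⟨p, rfl, hm⟩ := hX x
  haveI := hm
  have hmap : (p.map f.hom).toHom = p.toHom ≫ f.hom := AlgSp.FieldPt.toHom_map _ _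
  obtain ⟨E, pr2, pr1', sqE⟩ :=
    (Y.property.representable_from_yon (p.map f.hom).toHom) (p.map f.hom).toHom
  obtain ⟨pr1, rfl⟩ := (AlgSp.yon S).map_surjective pr1'
  haveI : IsFinite pr2.left :=
    Groth.Agent.Lib.Helper12.QcEtale.isFinite_selfProduct_of_mono f hq he p pr1 pr2
      (by rw [← hmap]; exact sqE)
  obtain ⟨p₀, hp₀, hmono, -⟩ :=
    Groth.Agent.Lib.Helper12.PointQuot.exists_mono_fieldPt (p.map f.hom) pr2 pr1 sqE.flip
  exact ⟨p₀, hp₀, hmono⟩

end Groth.Agent.S10385
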