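import Groth.Statements.S10386
import Mathlib
import Groth.Agent.S10364
import Groth.Agent.S9874
import Groth.Agent.S10175

set_option autoImplicit false
universe u
open CategoryTheory CategoryTheory.Limits AlgebraicGeometry Topology TopologicalSpace
open AlgSp

namespace Groth.Agent.S10386





/-- (3) ⇒ (1): let S be a scheme, X and Y algebraic spaces over S, and f : X ⟶ Y a morphism such that Z
×_Y X is decent for every affine scheme Z and every Z ⟶ Y. Then f is decent, i.e. T ×_Y X is decent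
for every scheme T over Y. -/
theorem result {S : Scheme.{u}} {X Y : AlgSp.Space S} (f : X ⟶ Y)
    (h : ∀ (Z : Over S) (g : (AlgSp.yon S).obj Z ⟶ Y.obj) (P : AlgSp.Sp S) (fst : P ⟶ X.obj)
      (snd : P ⟶ (AlgSp.yon S).obj Z), IsAffine Z.left → IsPullback fst snd f.hom g → AlgSp.IsDecent P) :
    AlgSp.IsDecentMor f.hom := by
  intro T F' g fst snd sq
  have hF' : AlgSp.IsAlgSpace F' :=
    Groth.Agent.S9874.isAlgSpace_of_isPullback Y.property.diag X.property
      (AlgSp.IsAlgSpace.yon_obj T) sq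
  let TO : T.left.affineOpens → Over S := fun O => Over.mk (O.1.ι ≫ T.hom)
  let ιO : ∀ O : T.left.affineOpens, TO O ⟶ T := fun O => Over.homMk O.1.ι rfl
  have hιO : ∀ O, AlgSp.RepWith @IsOpenImmersion ((AlgSp.yon S).map (ιO O)) := fun O =>
    (AlgSp.repWith_yon_map_iff _ _).2 (by show IsOpenImmersion O.1.ι; infer_instance)
  have hsqO : ∀ O, IsPullback (pullback.fst snd ((AlgSp.yon S).map (ιO O)))
      (pullback.snd snd ((AlgSp.yon S).map (ιO O))) snd ((AlgSp.yon S).map (ιO O)) :=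
    fun O => IsPullback.of_hasPullback _ _
  have hXi : ∀ O, AlgSp.IsAlgSpace (pullback snd ((AlgSp.yon S).map (ιO O))) := fun O =>
    Groth.Agent.S9874.isAlgSpace_of_isPullback (AlgSp.IsAlgSpace.yon_obj T).diag hF'
      (AlgSp.IsAlgSpace.yon_obj _) (hsqO O)
  refine Groth.Agent.S10364.result (⟨F', hF'⟩ : AlgSp.Space S)
    (fun O => (⟨pullback snd ((AlgSp.yon S).map (ιO O)), hXi O⟩ : AlgSp.Space S))
    (fun O => ObjectProperty.homMk (pullback.fst snd ((AlgSp.yon S).map (ιO O)))) ⟨?_, ?_⟩ ?_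
  · intro O
    exact MorphismProperty.of_isPullback (P := AlgSp.RepWith @IsOpenImmersion) (hsqO O).flip (hιO O)
  · intro x
    obtain ⟨t, ht⟩ := (AlgSp.Points.schemeHomeo T).surjective (AlgSp.Points.map snd x)
    obtain ⟨O, hO, htO, -⟩ : ∃ O : T.left.Opens, O ∈ T.left.affineOpens ∧ t ∈ O ∧ O ≤ ⊤ :=
      TopologicalSpace.Opens.isBasis_iff_nbhd.1 T.left.isBasis_affineOpens
        (TopologicalSpace.Opens.mem_top t)
    have e : AlgSp.Points.map snd x = AlgSp.Points.map ((AlgSp.yon S).map (ιO ⟨O, hO⟩))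
        (AlgSp.Points.schemeHomeo (TO ⟨O, hO⟩) ⟨t, htO⟩) := by
      rw [AlgSp.Points.map_yon_map_apply, ← ht]
      rfl
    obtain ⟨p, hp, -⟩ := Groth.Agent.S10175.exists_point_of_isPullback (hsqO ⟨O, hO⟩) x _ e
    exact ⟨⟨O, hO⟩, p, hp⟩
  · intro O
    have hbig : IsPullback (pullback.fst snd ((AlgSp.yon S).map (ιO O)) ≫ fst)
        (pullback.snd snd ((AlgSp.yon S).map (ιO O))) f.hom ((AlgSp.yon S).map (ιO O) ≫ g) :=
      ((hsqO O).flip.paste_vert sq.flip).flip
    haveI : IsAffine (TO O).left := O.2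
    exact h (TO O) _ _ _ _ (inferInstance : IsAffine (TO O).left) hbig

end Groth.Agent.S10386
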