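import Groth.Statements.S10387
import Mathlib
import Groth.Agent.S10386
import Groth.Agent.S9874
import Groth.Agent.S10175
import Groth.Agent.Lib.Helper12DecentDesc

set_option autoImplicit false
universe u
open CategoryTheory CategoryTheory.Limits AlgebraicGeometry Topology TopologicalSpace
open AlgSp

namespace Groth.Agent.S10387





/-- (5) ⇒ (1): let S be a scheme, X and Y algebraic spaces over S, f : X ⟶ Y a morphism, and V ⟶ Y a
surjective etale morphism from a scheme. If the base change V ×_Y X ⟶ V is a decent morphism, then f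
is decent. -/
theorem result {S : Scheme.{u}} {X Y : AlgSp.Space S} (f : X ⟶ Y) {V : Over S}
    (p : (AlgSp.yon S).obj V ⟶ Y.obj) (hp : AlgSp.RepWith @Etale p) (hps : AlgSp.RepWith @Surjective p)
    (X' : AlgSp.Sp S) (fst : X' ⟶ X.obj) (snd : X' ⟶ (AlgSp.yon S).obj V) (hsq : IsPullback fst snd f.hom p)
    (h : AlgSp.IsDecentMor snd) : AlgSp.IsDecentMor f.hom := by
  apply Groth.Agent.S10386.result f
  intro Z g P fstP sndP hZ sqP
  haveI := hZ
  have hP : AlgSp.IsAlgSpace P :=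
    Groth.Agent.S9874.isAlgSpace_of_isPullback Y.property.diag X.property
      (AlgSp.IsAlgSpace.yon_obj Z) sqP
  intro x
  obtain ⟨z, hz⟩ := (AlgSp.Points.schemeHomeo Z).surjective (AlgSp.Points.map sndP x)
  obtain ⟨Z', pr, v', sqZ'⟩ := hp.1 g
  obtain ⟨v₁, rfl⟩ := (AlgSp.yon S).map_surjective v'
  haveI : Surjective pr.left := hps.2 _ _ pr sqZ'
  obtain ⟨z', hz'⟩ := pr.left.surjective z
  obtain ⟨O, hO, hzO, -⟩ : ∃ O : Z'.left.Opens, O ∈ Z'.left.affineOpens ∧ z' ∈ O ∧ O ≤ ⊤ :=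
    TopologicalSpace.Opens.isBasis_iff_nbhd.1 Z'.left.isBasis_affineOpens
      (TopologicalSpace.Opens.mem_top z')
  let Z'' : Over S := Over.mk (O.ι ≫ Z'.hom)
  let ι : Z'' ⟶ Z' := Over.homMk O.ι rfl
  let e : Z'' ⟶ Z := ι ≫ pr
  let v₀ : Z'' ⟶ V := ι ≫ v₁
  have hev : (AlgSp.yon S).map e ≫ g = (AlgSp.yon S).map v₀ ≫ p := by
    show (AlgSp.yon S).map (ι ≫ pr) ≫ g = (AlgSp.yon S).map (ι ≫ v₁) ≫ p
    rw [Functor.map_comp, Functor.map_comp, Category.assoc, Category.assoc, sqZ'.w]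
  have sqP'' : IsPullback (pullback.fst sndP ((AlgSp.yon S).map e))
      (pullback.snd sndP ((AlgSp.yon S).map e)) sndP ((AlgSp.yon S).map e) :=
    IsPullback.of_hasPullback _ _
  have hP'' : AlgSp.IsAlgSpace (pullback sndP ((AlgSp.yon S).map e)) :=
    Groth.Agent.S9874.isAlgSpace_of_isPullback (AlgSp.IsAlgSpace.yon_obj Z).diag hP
      (AlgSp.IsAlgSpace.yon_obj Z'') sqP''
  have big : IsPullback (pullback.fst sndP ((AlgSp.yon S).map e) ≫ fstP)
      (pullback.snd sndP ((AlgSp.yon S).map e)) f.hom ((AlgSp.yon S).map v₀ ≫ p) := by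
    rw [← hev]
    exact (sqP''.flip.paste_vert sqP.flip).flip
  have hw : (pullback.fst sndP ((AlgSp.yon S).map e) ≫ fstP) ≫ f.hom =
      (pullback.snd sndP ((AlgSp.yon S).map e) ≫ (AlgSp.yon S).map v₀) ≫ p := by
    rw [Category.assoc]; exact big.w
  have sqL : IsPullback (hsq.lift _ _ hw) (pullback.snd sndP ((AlgSp.yon S).map e)) snd
      ((AlgSp.yon S).map v₀) := by
    refine IsPullback.of_right (h₁₂ := fst) (v₁₃ := f.hom) (h₂₂ := p) ?_ (hsq.lift_snd _ _ hw) hsq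
    rw [hsq.lift_fst]
    exact big
  have hdec : AlgSp.IsDecent (pullback sndP ((AlgSp.yon S).map e)) :=
    h ((AlgSp.yon S).map v₀) _ _ sqL
  -- a point over `x`
  have e0 : AlgSp.Points.map sndP x = AlgSp.Points.map ((AlgSp.yon S).map e)
      (AlgSp.Points.schemeHomeo Z'' ⟨z', hzO⟩) := by
    rw [AlgSp.Points.map_yon_map_apply, ← hz]
    congr 1
    exact hz'.symm
  obtain ⟨x'', hx'', -⟩ := Groth.Agent.S10175.exists_point_of_isPullback sqP'' x _ e0
  obtain ⟨p'', hp'', -, hqc''⟩ := hdec x''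
  haveI : IsAffine Z''.left := hO
  haveI : QuasiCompact e.left := inferInstance
  have hk : AlgSp.IsQuasiCompactMor (pullback.fst sndP ((AlgSp.yon S).map e)) :=
    Groth.Agent.Lib.Helper12.Proper.isQuasiCompactMor_baseChange sqP''.flip
      (Groth.Agent.Lib.Helper12.DecentDesc.isQuasiCompactMor_yon_map e)
  let PP'' : AlgSp.Space S := ⟨pullback sndP ((AlgSp.yon S).map e), hP''⟩
  let PP : AlgSp.Space S := ⟨P, hP⟩
  let kk : PP'' ⟶ PP := ObjectProperty.homMk (pullback.fst sndP ((AlgSp.yon S).map e))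
  obtain ⟨p₀, hp₀, hm₀, hq₀⟩ :=
    Groth.Agent.Lib.Helper12.DecentDesc.exists_decent_fieldPt_of_qc kk hk p'' hqc''
  refine ⟨p₀, ?_, hm₀, hq₀⟩
  rw [hp₀, hp'']
  exact hx''

end Groth.Agent.S10387
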