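import Groth.Statements.S10401
import Mathlib

set_option autoImplicit false
universe u
open CategoryTheory CategoryTheory.Limits AlgebraicGeometry Topology TopologicalSpace
open AlgSp

namespace Groth.Agent.S10401





/-- If Y is a Jacobson algebraic space and X is an algebraic space that is locally of finite type over
Y, then X is Jacobson. -/
theorem result {S : Scheme.{u}} {X Y : AlgSp.Space S} (hX : AlgSp.EtaleLocally (fun U => JacobsonSpace ↥U) X.obj)
    (f : Y ⟶ X) (hf : AlgSp.LocP @LocallyOfFiniteType f.hom) : AlgSp.EtaleLocally (fun U => JacobsonSpace ↥U) Y.obj := by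
  obtain ⟨U, p, hpe, hps, hU⟩ := hX
  obtain ⟨V, q, hqe, hqs⟩ := Y.property.atlas
  have sq := hpe.rep.isPullback' (q ≫ f.hom)
  have hsnd_e : AlgSp.RepWith @Etale ((AlgSp.yon S).map (hpe.rep.snd (q ≫ f.hom))) :=
    MorphismProperty.of_isPullback (P := AlgSp.RepWith @Etale) sq hpe
  have hsnd_s : AlgSp.RepWith @Surjective ((AlgSp.yon S).map (hpe.rep.snd (q ≫ f.hom))) :=
    MorphismProperty.of_isPullback (P := AlgSp.RepWith @Surjective) sq hps
  have hae : AlgSp.RepWith @Etale ((AlgSp.yon S).map (hpe.rep.snd (q ≫ f.hom)) ≫ q) :=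
    (AlgSp.RepWith @Etale).comp_mem _ _ hsnd_e hqe
  have has : AlgSp.RepWith @Surjective ((AlgSp.yon S).map (hpe.rep.snd (q ≫ f.hom)) ≫ q) :=
    (AlgSp.RepWith @Surjective).comp_mem _ _ hsnd_s hqs
  haveI : LocallyOfFiniteType (hpe.rep.fst' (q ≫ f.hom)).left :=
    hf _ p (hpe.rep.fst' (q ≫ f.hom)) hae hpe (by rw [Category.assoc, sq.w])
  haveI : JacobsonSpace ↥U.left := hU
  exact ⟨_, _, hae, has, LocallyOfFiniteType.jacobsonSpace (hpe.rep.fst' (q ≫ f.hom)).left⟩

end Groth.Agent.S10401
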