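import Groth.Statements.S10402
import Mathlib
import Groth.Agent.Lib.Helper12Jacobson2

set_option autoImplicit false
universe u
open CategoryTheory CategoryTheory.Limits AlgebraicGeometry Topology TopologicalSpace
open AlgSp

namespace Groth.Agent.S10402





/-- Let S be a scheme and X a Jacobson algebraic space over S. Fix a finite type point x of |X|, and let
g : W ⟶ X be locally of finite type, where W is a scheme. If x lies in the image of |W| → |X|, then
some closed point of W is mapped to x. -/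
theorem result {S : Scheme.{u}} (X : AlgSp.Space S) (hX : AlgSp.EtaleLocally (fun U => JacobsonSpace ↥U) X.obj)
    (x : AlgSp.Points X.obj) (hx : AlgSp.HasAt (fun U u => IsClosed ({u} : Set ↥U)) X.obj x) {W : Over S} (g : (AlgSp.yon S).obj W ⟶ X.obj)
    (hg : AlgSp.LocP @LocallyOfFiniteType g) (hxW : x ∈ Set.range (AlgSp.Points.ofPt g)) :
    ∃ w : ↥W.left, IsClosed ({w} : Set ↥W.left) ∧ AlgSp.Points.ofPt g w = x := by
  obtain ⟨U, p, hp, hs, hJ⟩ := hX
  haveI := hJ
  obtain ⟨U', a', u', ha', hu', hcl⟩ := hx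
  obtain ⟨w₀, hw₀⟩ := hxW
  -- `W` is Jacobson
  obtain ⟨P', prW, prU', sq'⟩ := hp.1 g
  obtain ⟨prU, rfl⟩ := (AlgSp.yon S).map_surjective prU'
  haveI : Etale prW.left := hp.2 _ _ prW sq'
  haveI : Surjective prW.left := hs.2 _ _ prW sq'
  have hlft : LocallyOfFiniteType prU.left :=
    hg ((AlgSp.yon S).map prW) p prU ((AlgSp.repWith_yon_map_iff _ _).2 ‹Etale prW.left›) hp
      sq'.w.symm
  haveI := hlft
  haveI : JacobsonSpace ↥P'.left := LocallyOfFiniteType.jacobsonSpace prU.left
  haveI : JacobsonSpace ↥W.left :=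
    Groth.Agent.Lib.Helper12.Jac.jacobsonSpace_of_etale_surjective prW.left
  -- the fibre product with the chart carrying the closed point
  obtain ⟨P, qW, qU', sq⟩ := ha'.1 g
  obtain ⟨qU, rfl⟩ := (AlgSp.yon S).map_surjective qU'
  haveI : Etale qW.left := ha'.2 _ _ qW sq
  haveI : JacobsonSpace ↥P.left := LocallyOfFiniteType.jacobsonSpace qW.left
  obtain ⟨r₀, hr₀1, hr₀2⟩ :=
    Groth.Agent.S10176.exists_point_of_isPullback_yon sq u' w₀ (hu'.trans hw₀.symm)
  have hF : IsClosed (qU.left ⁻¹' {u'}) := hcl.preimage qU.left.continuous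
  obtain ⟨r, hr1, hr2⟩ := nonempty_inter_closedPoints ⟨r₀, hr₀1⟩ hF.isLocallyClosed
  have hw := qW.left.closePoints_subset_preimage_closedPoints hr2
  refine ⟨qW.left r, hw, ?_⟩
  have hr1' : qU.left r = u' := hr1
  rw [← Groth.Agent.S10176.ofPt_map_comp, ← sq.w, Groth.Agent.S10176.ofPt_map_comp, hr1', hu']

end Groth.Agent.S10402
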