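import Groth.Statements.S10403
import Mathlib
import Groth.Agent.Lib.Helper12Jacobson

set_option autoImplicit false
universe u
open CategoryTheory CategoryTheory.Limits AlgebraicGeometry Topology TopologicalSpace
open AlgSp

namespace Groth.Agent.S10403





/-- For a decent Jacobson algebraic space X over a scheme S, the finite type points of |X| are exactly
the closed points. -/
theorem result {S : Scheme.{u}} (X : AlgSp.Space S) (hd : AlgSp.IsDecent X.obj)
    (hX : AlgSp.EtaleLocally (fun U => JacobsonSpace ↥U) X.obj) (x : AlgSp.Points X.obj) :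
    AlgSp.HasAt (fun U u => IsClosed ({u} : Set ↥U)) X.obj x ↔ IsClosed ({x} : Set (AlgSp.Points X.obj)) := by
  obtain ⟨U, p, hp, hs, hJ⟩ := hX
  haveI := hJ
  constructor
  · rintro ⟨U', a', u', ha', hu', hcl⟩
    refine Groth.Agent.Lib.Helper12.Jac.isClosed_singleton_of_fibre_closed hd p hp hs x
      (fun u hu => ?_)
    exact Groth.Agent.Lib.Helper12.Jac.isClosed_of_closed_chart p hp a' ha' u u'
      (hu.trans hu'.symm) hcl
  · intro hx
    have hF : IsClosed (AlgSp.Points.ofPt p ⁻¹' {x}) :=
      hx.preimage (AlgSp.Points.continuous_ofPt p)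
    obtain ⟨u, hu⟩ := Groth.Agent.S10177.surjective_ofPt p hs x
    have hne : (AlgSp.Points.ofPt p ⁻¹' {x}).Nonempty := ⟨u, hu⟩
    obtain ⟨v, hv1, hv2⟩ := nonempty_inter_closedPoints hne hF.isLocallyClosed
    exact ⟨U, p, v, hp, hv1, hv2⟩

end Groth.Agent.S10403
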