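import Groth.Statements.S10404
import Mathlib
import Groth.Agent.S10403
import Groth.Agent.Lib.Helper12Jacobson3

set_option autoImplicit false
universe u
open CategoryTheory CategoryTheory.Limits AlgebraicGeometry Topology TopologicalSpace
open AlgSp

namespace Groth.Agent.S10404





/-- A decent algebraic space X over a scheme S is Jacobson if and only if the topological space |X| is
Jacobson. -/
theorem result {S : Scheme.{u}} (X : AlgSp.Space S) (hd : AlgSp.IsDecent X.obj) :
    AlgSp.EtaleLocally (fun U => JacobsonSpace ↥U) X.obj ↔ JacobsonSpace (AlgSp.Points X.obj) := by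
  constructor
  · rintro ⟨U, p, hp, hs, hJ⟩
    haveI := hJ
    rw [jacobsonSpace_iff_locallyClosed]
    rintro Z ⟨z, hz⟩ hZ
    obtain ⟨u₀, rfl⟩ := Groth.Agent.S10177.surjective_ofPt p hs z
    have hne : (AlgSp.Points.ofPt p ⁻¹' Z).Nonempty := ⟨u₀, hz⟩
    obtain ⟨u, hu1, hu2⟩ := nonempty_inter_closedPoints hne
      (hZ.preimage (AlgSp.Points.continuous_ofPt p))
    refine ⟨AlgSp.Points.ofPt p u, hu1, ?_⟩
    exact (Groth.Agent.S10403.result X hd ⟨U, p, hp, hs, hJ⟩ _).1 ⟨U, p, u, hp, rfl, hu2⟩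
  · intro hJ
    haveI := hJ
    obtain ⟨U, p, hp, hs⟩ := X.property.atlas
    refine ⟨U, p, hp, hs, ?_⟩
    show JacobsonSpace ↥U.left
    rw [TopologicalSpace.IsOpenCover.jacobsonSpace_iff (iSup_affineOpens_eq_top U.left)]
    intro O
    let V : Over S := Over.mk (O.1.ι ≫ U.hom)
    let ιO : V ⟶ U := Over.homMk O.1.ι rfl
    haveI : IsAffine V.left := O.2
    have hb : AlgSp.RepWith @Etale ((AlgSp.yon S).map ιO ≫ p) :=
      MorphismProperty.comp_mem _ _ _
        ((AlgSp.repWith_yon_map_iff _ _).2 (by show Etale O.1.ι; infer_instance)) hp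
    exact Groth.Agent.Lib.Helper12.Jac3.jacobsonSpace_chart X hd ((AlgSp.yon S).map ιO ≫ p) hb

end Groth.Agent.S10404
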