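import Groth.Statements.S10407
import Mathlib
import Groth.Agent.Lib.Helper12MonoPoint

set_option autoImplicit false
universe u
open CategoryTheory CategoryTheory.Limits AlgebraicGeometry Topology TopologicalSpace
open AlgSp

namespace Groth.Agent.S10407





/-- (1) ⇒ (4): let X be an algebraic space over a scheme S, φ : U ⟶ X etale with U a scheme, and u, u' ∈
U points over the same x ∈ |X| such that, with R = U ×_X U, the map |R| → |U| ×_{|X|} |U| has finite
fibre over (u, u'). Then x is represented by a monomorphism Spec k ⟶ X with k a field. -/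
theorem result {S : Scheme.{u}} (X : AlgSp.Space S) {U : Over S}
    (φ : (AlgSp.yon S).obj U ⟶ X.obj) (hφ : AlgSp.RepWith @Etale φ) (u u' : ↥U.left)
    (he : AlgSp.Points.ofPt φ u = AlgSp.Points.ofPt φ u')
    (hfin : ∀ (R : Over S) (s t : R ⟶ U), IsPullback ((AlgSp.yon S).map t) ((AlgSp.yon S).map s) φ φ →
          {r : ↥R.left | s.left r = u ∧ t.left r = u'}.Finite) :
    ∃ p : AlgSp.FieldPt X.obj, AlgSp.Points.mk p = AlgSp.Points.ofPt φ u ∧ Mono p.toHom := by
  obtain ⟨R, s, t', sqR⟩ := hφ.1 φ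
  obtain ⟨t, rfl⟩ := (AlgSp.yon S).map_surjective t'
  obtain ⟨r₀, hr2, hr1⟩ := Groth.Agent.S10176.exists_point_of_isPullback_yon sqR u' u he.symm
  haveI hs : Etale s.left := hφ.2 _ _ s sqR
  haveI ht : Etale t.left := hφ.2 _ _ t sqR.flip
  haveI : LocallyQuasiFinite s.left := Groth.Agent.S10265.locallyQuasiFinite_of_unramified _
  haveI : LocallyQuasiFinite t.left := Groth.Agent.S10265.locallyQuasiFinite_of_unramified _
  obtain ⟨ιr, hιr⟩ : ∃ ιr : Over.mk (R.left.fromSpecResidueField r₀ ≫ R.hom) ⟶ R,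
      ιr = Over.homMk (R.left.fromSpecResidueField r₀) rfl := ⟨_, rfl⟩
  have hleft : ιr.left = R.left.fromSpecResidueField r₀ := by rw [hιr]; rfl
  have hpt : ιr.left (IsLocalRing.closedPoint (R.left.residueField r₀)) = r₀ := by
    rw [hleft]; exact Scheme.fromSpecResidueField_apply _ _
  haveI : LocallyQuasiFinite ιr.left := by rw [hleft]; infer_instance
  haveI : LocallyQuasiFinite (ιr ≫ s).left := by
    show LocallyQuasiFinite (ιr.left ≫ s.left); infer_instance
  haveI : LocallyQuasiFinite (ιr ≫ t).left := by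
    show LocallyQuasiFinite (ιr.left ≫ t.left); infer_instance
  have hab : (AlgSp.yon S).map (ιr ≫ s) ≫ φ = (AlgSp.yon S).map (ιr ≫ t) ≫ φ := by
    rw [Functor.map_comp, Functor.map_comp, Category.assoc, Category.assoc, sqR.w]
  have ha : (ιr ≫ s).left (IsLocalRing.closedPoint (R.left.residueField r₀)) = u := by
    show (ιr.left ≫ s.left) _ = u
    rw [Scheme.Hom.comp_apply, hpt, hr1]
  have hb : (ιr ≫ t).left (IsLocalRing.closedPoint (R.left.residueField r₀)) = u' := by
    show (ιr.left ≫ t.left) _ = u'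
    rw [Scheme.Hom.comp_apply, hpt, hr2]
  obtain ⟨p₀, π, hm, -, -, hp₀⟩ := Groth.Agent.Lib.Helper12.MonoPoint.exists_mono_of_pair φ hφ s t sqR
    (R.left.residueField r₀) (R.left.fromSpecResidueField r₀ ≫ R.hom) (ιr ≫ s) (ιr ≫ t) hab (by
      rw [ha, hb]; exact hfin R s t sqR)
  exact ⟨p₀, by rw [hp₀, ha], hm⟩

end Groth.Agent.S10407
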