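import Groth.Statements.S10409
import Mathlib
import Groth.Agent.Lib.Helper12PointQuot
import Groth.Agent.S9937
import Groth.Agent.S10265

set_option autoImplicit false
universe u
open CategoryTheory CategoryTheory.Limits AlgebraicGeometry Topology TopologicalSpace
open AlgSp

namespace Groth.Agent.S10409





/-- (3) ⇔ (4): for an algebraic space X over a scheme S and x ∈ |X|, there is a monomorphism Spec k ⟶ X
representing x if and only if there is a morphism Spec k' ⟶ X representing x whose
self-fibre-product has etale and quasi-compact projections to Spec k'. -/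
theorem result {S : Scheme.{u}} (X : AlgSp.Space S)
    (x : AlgSp.Points X.obj) :
    (∃ p : AlgSp.FieldPt X.obj, AlgSp.Points.mk p = x ∧ Mono p.toHom) ↔
      ∃ q : AlgSp.FieldPt X.obj, AlgSp.Points.mk q = x ∧
        ∀ (P : AlgSp.Sp S) (fst snd : P ⟶ (AlgSp.yon S).obj q.pt), IsPullback fst snd q.toHom q.toHom →
          AlgSp.RepWith @Etale fst ∧ AlgSp.RepWith @QuasiCompact fst := by
  constructor
  · rintro ⟨p, hp, hm⟩
    refine ⟨p, hp, fun P fst snd sq => ?_⟩
    haveI : IsIso fst := sq.isIso_fst_of_mono
    exact ⟨Groth.Agent.S9937.repWith_of_isIso @Etale fst,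
      Groth.Agent.S9937.repWith_of_isIso @QuasiCompact fst⟩
  · rintro ⟨q, hq, H⟩
    obtain ⟨G, snd, fst', sq⟩ := (X.property.representable_from_yon q.toHom) q.toHom
    obtain ⟨fst, rfl⟩ := (AlgSp.yon S).map_surjective fst'
    obtain ⟨h1, h2⟩ := H _ _ _ sq
    haveI : Etale fst.left := (AlgSp.repWith_yon_map_iff _ _).1 h1
    haveI : QuasiCompact fst.left := (AlgSp.repWith_yon_map_iff _ _).1 h2
    haveI : LocallyQuasiFinite fst.left := Groth.Agent.S10265.locallyQuasiFinite_of_unramified _
    haveI : IsLocallyArtinian q.pt.left :=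
      (inferInstance : IsLocallyArtinian (Spec (CommRingCat.of q.K)))
    haveI : IsFinite fst.left := IsFinite.of_locallyQuasiFinite _
    obtain ⟨p₀, hp₀, hm, -⟩ := Groth.Agent.Lib.Helper12.PointQuot.exists_mono_fieldPt q fst snd sq
    exact ⟨p₀, hp₀.trans hq, hm⟩

end Groth.Agent.S10409
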