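import Groth.Statements.S10410
import Mathlib
import Groth.Agent.Lib.Helper12DecentPoint
import Groth.Agent.Lib.Helper12RelFibre

set_option autoImplicit false
universe u
open CategoryTheory CategoryTheory.Limits AlgebraicGeometry Topology TopologicalSpace
open AlgSp

namespace Groth.Agent.S10410





/-- Let X be an algebraic space over a scheme S, x ∈ |X|, and φ : U ⟶ X etale with U a scheme. Then x
lies in the image of |U| and the fibres of |U| → |X| and |U ×_X U| → |X| over x are finite, if and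
only if x is represented by a monomorphism Spec k ⟶ X such that Spec k ×_X U is a nonempty scheme
finite over k. -/
theorem result {S : Scheme.{u}} (X : AlgSp.Space S) (x : AlgSp.Points X.obj)
    {U : Over S} (φ : (AlgSp.yon S).obj U ⟶ X.obj) (hφ : AlgSp.RepWith @Etale φ) :
    (x ∈ Set.range (AlgSp.Points.ofPt φ) ∧ (AlgSp.Points.ofPt φ ⁻¹' {x}).Finite ∧
        ∀ (R : Over S) (s t : R ⟶ U), IsPullback ((AlgSp.yon S).map t) ((AlgSp.yon S).map s) φ φ →
          (AlgSp.Points.ofPt ((AlgSp.yon S).map t ≫ φ) ⁻¹' {x}).Finite) ↔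
      ∃ p : AlgSp.FieldPt X.obj, AlgSp.Points.mk p = x ∧ Mono p.toHom ∧
        ∀ (T : Over S) (c : T ⟶ p.pt) (snd : (AlgSp.yon S).obj T ⟶ (AlgSp.yon S).obj U),
          IsPullback ((AlgSp.yon S).map c) snd p.toHom φ → Nonempty ↥T.left ∧ IsFinite c.left := by
  constructor
  · rintro ⟨⟨u, hu⟩, hU, hR⟩
    obtain ⟨R, s, t', sqR⟩ := hφ.1 φ
    obtain ⟨t, rfl⟩ := (AlgSp.yon S).map_surjective t'
    have hfinR : {r : ↥R.left | s.left r = u ∧ t.left r = u}.Finite := by
      refine (hR R s t sqR).subset ?_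
      rintro r ⟨-, hr⟩
      rw [Set.mem_preimage, Set.mem_singleton_iff, Groth.Agent.S10176.ofPt_map_comp, hr, hu]
    obtain ⟨p₀, π, hm, -, -, hp₀⟩ :=
      Groth.Agent.Lib.Helper12.MonoPoint.exists_mono_point φ hφ u s t sqR hfinR
    refine ⟨p₀, hp₀.trans hu, hm, ?_⟩
    intro T c snd' sq
    obtain ⟨snd, rfl⟩ := (AlgSp.yon S).map_surjective snd'
    have e : AlgSp.Points.ofPt p₀.toHom ((⊥ : PrimeSpectrum p₀.K) : ↥p₀.pt.left) =
        AlgSp.Points.ofPt φ u := by
      rw [AlgSp.Points.ofPt_toHom, hp₀]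
    obtain ⟨y, -, -⟩ := Groth.Agent.S10176.exists_point_of_isPullback_yon sq _ u e
    refine ⟨⟨y⟩, ?_⟩
    haveI : Etale c.left := hφ.2 _ _ c sq.flip
    haveI : LocallyQuasiFinite c.left := Groth.Agent.S10265.locallyQuasiFinite_of_unramified _
    haveI : Mono ((AlgSp.yon S).map snd) := sq.mono_snd_of_mono
    haveI : Mono snd := (AlgSp.yon S).mono_of_mono_map inferInstance
    haveI : Mono snd.left := (Over.forget S).map_mono snd
    have hinj : Function.Injective snd.left := snd.left.injective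
    have hT : (Set.univ : Set ↥T.left).Finite := by
      refine Set.Finite.of_finite_image (hU.subset ?_) hinj.injOn
      rintro _ ⟨y, -, rfl⟩
      rw [Set.mem_preimage, Set.mem_singleton_iff, ← Groth.Agent.S10176.ofPt_map_comp, ← sq.w,
        Groth.Agent.S10176.ofPt_map_comp, AlgSp.Points.ofPt_toHom, hp₀, hu]
    haveI : CompactSpace ↥T.left := by
      haveI : Finite ↥T.left := Set.finite_univ_iff.1 hT
      infer_instance
    haveI : QuasiSeparatedSpace ↥p₀.pt.left :=
      (inferInstance : QuasiSeparatedSpace ↥(Spec (CommRingCat.of p₀.K)))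
    haveI : IsLocallyArtinian p₀.pt.left :=
      (inferInstance : IsLocallyArtinian (Spec (CommRingCat.of p₀.K)))
    haveI : QuasiCompact c.left := quasiCompact_of_compactSpace _
    exact IsFinite.of_locallyQuasiFinite _
  · rintro ⟨p, hp, hm, H⟩
    obtain ⟨T, c, snd', sq⟩ := hφ.1 p.toHom
    obtain ⟨snd, rfl⟩ := (AlgSp.yon S).map_surjective snd'
    obtain ⟨⟨y⟩, hfin⟩ := H T c _ sq.flip
    haveI := hfin
    have hT : (Set.univ : Set ↥T.left).Finite := by
      have := c.left.finite_preimage_singleton ((⊥ : PrimeSpectrum p.K) : ↥p.pt.left)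
      refine this.subset (fun y _ => ?_)
      exact (inferInstance : Subsingleton (PrimeSpectrum p.K)).elim _ _
    have himg : ∀ y : ↥T.left, AlgSp.Points.ofPt φ (snd.left y) = x := by
      intro y
      rw [← Groth.Agent.S10176.ofPt_map_comp, sq.w, Groth.Agent.S10176.ofPt_map_comp,
        AlgSp.Points.ofPt_toHom, hp]
    refine ⟨⟨snd.left y, himg y⟩, ?_, ?_⟩
    · refine (hT.image snd.left).subset ?_
      intro u hu
      have e : AlgSp.Points.ofPt p.toHom ((⊥ : PrimeSpectrum p.K) : ↥p.pt.left) =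
          AlgSp.Points.ofPt φ u := by
        rw [AlgSp.Points.ofPt_toHom, hp]; exact hu.symm
      obtain ⟨y', -, hy'⟩ := Groth.Agent.S10176.exists_point_of_isPullback_yon sq.flip _ u e
      exact ⟨y', trivial, hy'⟩
    · intro R s t sqR
      rw [← hp]
      exact Groth.Agent.Lib.Helper12.RelFibre.finite_relation_fibre p φ hφ c snd sq hT s t sqR

end Groth.Agent.S10410
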