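import Groth.Statements.S10414
import Mathlib
import Groth.Agent.S10371
import Groth.Agent.Lib.Helper12LocPCases

set_option autoImplicit false
universe u
open CategoryTheory CategoryTheory.Limits AlgebraicGeometry Topology TopologicalSpace
open AlgSp

namespace Groth.Agent.S10414





/-- Let S be a scheme, X an algebraic space over S, x ∈ |X|, and Z_x ⟶ X the residual space of x (a
monomorphism with image {x} from a space which admits a locally finitely presented, flat, surjective
morphism whose source is the spectrum of a field). Then Z_x is isomorphic to Spec k' for some field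
k' if and only if the point x is represented by some monomorphism Spec k ⟶ X. (The decent case, in
which the right side holds at every point, is not part of this row.) -/
theorem result {S : Scheme.{u}} (X : AlgSp.Space S) (x : AlgSp.Points X.obj)
    {Z : AlgSp.Space S} (i : Z ⟶ X) [Mono i.hom] (hi : Set.range (AlgSp.Points.map i.hom) = {x})
    (hZ : ∃ (k : Type u) (_ : Field k) (str : Spec (CommRingCat.of k) ⟶ S) (p : (AlgSp.yon S).obj (Over.mk str) ⟶ Z.obj),
        AlgSp.LocP @LocallyOfFinitePresentation p ∧ AlgSp.LocP @Flat p ∧ AlgSp.IsSurjectiveMor p) :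
    (∃ (k : Type u) (_ : Field k) (str : Spec (CommRingCat.of k) ⟶ S), Nonempty (Z.obj ≅ (AlgSp.yon S).obj (Over.mk str))) ↔
      ∃ p : AlgSp.FieldPt X.obj, AlgSp.Points.mk p = x ∧ Mono p.toHom := by
  have hgf := Groth.Agent.Lib.Helper12.LocPCases.good_flat.{u}
  have hgp := Groth.Agent.Lib.Helper12.LocPCases.good_lfp.{u}
  constructor
  · rintro ⟨k, _, str, ⟨e⟩⟩
    let h : (AlgSp.yon S).obj (Over.mk str) ⟶ X.obj := e.inv ≫ i.hom
    let q : AlgSp.FieldPt X.obj := ⟨k, str, (AlgSp.J S).uliftYonedaEquiv h⟩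
    have hq : q.toHom = h := Equiv.symm_apply_apply _ _
    refine ⟨q, ?_, ?_⟩
    · rw [← AlgSp.Points.ofPt_toHom q (⊥ : PrimeSpectrum k), hq]
      have h1 : AlgSp.Points.ofPt h (⊥ : PrimeSpectrum k) ∈
          Set.range (AlgSp.Points.map i.hom) := by
        refine ⟨AlgSp.Points.ofPt e.inv (⊥ : PrimeSpectrum k), ?_⟩
        rw [AlgSp.Points.map_ofPt]
      rw [hi] at h1
      exact h1
    · rw [hq]
      infer_instance
  · rintro ⟨p, hp, hmono⟩
    let Z' : AlgSp.Space S := ⟨(AlgSp.yon S).obj p.pt, AlgSp.IsAlgSpace.yon_obj _⟩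
    let i' : Z' ⟶ X := ObjectProperty.homMk p.toHom
    haveI : Mono i'.hom := hmono
    have hi' : Set.range (AlgSp.Points.map i'.hom) = {x} := by
      ext y
      constructor
      · rintro ⟨s, rfl⟩
        obtain ⟨s, rfl⟩ := (AlgSp.Points.schemeHomeo p.pt).surjective s
        show AlgSp.Points.map p.toHom (AlgSp.Points.ofScheme p.pt s) = x
        rw [← AlgSp.Points.ofPt_eq_map_ofScheme, AlgSp.Points.ofPt_toHom, hp]
      · rintro rfl
        refine ⟨AlgSp.Points.ofScheme p.pt (⊥ : PrimeSpectrum p.K), ?_⟩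
        show AlgSp.Points.map p.toHom (AlgSp.Points.ofScheme p.pt _) = _
        rw [← AlgSp.Points.ofPt_eq_map_ofScheme, AlgSp.Points.ofPt_toHom, hp]
    have hZ' : ∃ (k : Type u) (_ : Field k) (str : Spec (CommRingCat.of k) ⟶ S)
        (p' : (AlgSp.yon S).obj (Over.mk str) ⟶ Z'.obj),
        AlgSp.LocP @LocallyOfFinitePresentation p' ∧ AlgSp.LocP @Flat p' ∧
          AlgSp.IsSurjectiveMor p' := by
      refine ⟨p.K, inferInstance, p.str, (AlgSp.yon S).map (𝟙 p.pt), ?_, ?_, ?_⟩
      · haveI := hgp.comp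
        exact Groth.Agent.Lib.Helper12.LocPGen.locP_yon_map_of @LocallyOfFinitePresentation
          hgp.hEt hgp.hcancel (𝟙 p.pt) (by rw [Over.id_left]; infer_instance)
      · haveI := hgf.comp
        exact Groth.Agent.Lib.Helper12.LocPGen.locP_yon_map_of @Flat
          hgf.hEt hgf.hcancel (𝟙 p.pt) (by rw [Over.id_left]; infer_instance)
      · intro y
        refine ⟨y, ?_⟩
        rw [CategoryTheory.Functor.map_id, AlgSp.Points.map_id]
    obtain ⟨e, -⟩ := Groth.Agent.S10371.result X x i i' hi hi' hZ hZ'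
    exact ⟨p.K, inferInstance, p.str, ⟨(ObjectProperty.ι _).mapIso e.symm⟩⟩

end Groth.Agent.S10414
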