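import Groth.Statements.S10415
import Mathlib
import Groth.Agent.Lib.Helper12ResidualFactor2
import Groth.Agent.Lib.Helper12NoethConst

set_option autoImplicit false
universe u
open CategoryTheory CategoryTheory.Limits AlgebraicGeometry Topology TopologicalSpace
open AlgSp

namespace Groth.Agent.S10415





/-- Let S be a scheme, Y and X algebraic spaces over S with Y reduced and X locally Noetherian, and f :
Y ⟶ X a morphism with |f|(|Y|) ⊆ {x}. Then f factors through Z_x ⟶ X, where Z_x denotes the residual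
space of X at the point x. -/
theorem result {S : Scheme.{u}} {Y X Z : AlgSp.Space S} (f : Y ⟶ X)
    (x : AlgSp.Points X.obj) (hf : ∀ y : AlgSp.Points Y.obj, AlgSp.Points.map f.hom y = x) (hY : AlgSp.EtaleLocally (fun U => IsReduced U) Y.obj)
    (hX : AlgSp.IsLocNoethSp X.obj) (i : Z ⟶ X) [Mono i.hom] (hi : Set.range (AlgSp.Points.map i.hom) = {x})
    (hZ : ∃ (k : Type u) (_ : Field k) (str : Spec (CommRingCat.of k) ⟶ S) (p : (AlgSp.yon S).obj (Over.mk str) ⟶ Z.obj),
        AlgSp.LocP @LocallyOfFinitePresentation p ∧ AlgSp.LocP @Flat p ∧ AlgSp.IsSurjectiveMor p) :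
    ∃ g : Y ⟶ Z, g ≫ i = f := by
  have hxi : x ∈ Set.range (AlgSp.Points.map i.hom) := by rw [hi]; exact rfl
  obtain ⟨W, U, P, b, a, pr, g, hbe, hbs, hae, has, sq, hP⟩ :=
    Groth.Agent.Lib.Helper12.ResidualFactor.exists_chart_square_reduced f hY
  haveI := hP
  haveI : IsLocallyNoetherian U.left :=
    Groth.Agent.Lib.Helper12.FibreSpec.isLocallyNoetherian_of_chart hX a hae
  refine Groth.Agent.Lib.Helper12.ResidualFactor.exists_factor_of_locally_constant i f x hf hxi
    b hbe hbs a hae has pr g sq (fun t => ?_)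
  have hx : ∀ t' : ↥P.left, AlgSp.Points.ofPt a (g.left t') = x := by
    intro t'
    rw [← Groth.Agent.S10176.ofPt_map_comp, ← sq.w, Groth.Agent.S10176.ofPt_map_comp,
      ← AlgSp.Points.map_ofPt, hf]
  exact Groth.Agent.Lib.Helper12.NoethConst.exists_open_const g.left
    (AlgSp.Points.ofPt a ⁻¹' {x}) hx
    (fun u hu u' hu' hs => Groth.Agent.Lib.Helper12.FibreSpec.eq_of_specializes_of_isLocNoethSp
      hX a hae u u' (hu.trans hu'.symm) hs) t

end Groth.Agent.S10415
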