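import Groth.Statements.S10420
import Mathlib
import Groth.Agent.S10176
import Groth.Agent.Lib.Helper12EqvRelSp

set_option autoImplicit false
universe u
open CategoryTheory CategoryTheory.Limits AlgebraicGeometry Topology TopologicalSpace
open AlgSp

namespace Groth.Agent.S10420


open Groth.Agent.Lib.Helper12.EqvRelSp in
/-- monomorphisms out of a representable sheaf can be tested on `T`-valued points. -/
lemma mono_of_yon {S : Scheme.{u}} {P : Over S} {X : AlgSp.Sp S} (m : (AlgSp.yon S).obj P ⟶ X)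
    (h : ∀ (T : Over S) (α β : T ⟶ P),
      (AlgSp.yon S).map α ≫ m = (AlgSp.yon S).map β ≫ m → α = β) : Mono m := by
  refine ⟨fun {A} x y hxy => hom_ext_yon x y (fun T z => ?_)⟩
  obtain ⟨α, hα⟩ := (AlgSp.yon S).map_surjective (z ≫ x)
  obtain ⟨β, hβ⟩ := (AlgSp.yon S).map_surjective (z ≫ y)
  rw [← hα, ← hβ, h T α β (by rw [hα, hβ, Category.assoc, Category.assoc, hxy])]

/-- the residue field point of a scheme over `S`, as a morphism over `S`. -/
noncomputable abbrev resPt {S : Scheme.{u}} (V : Over S) (v : ↥V.left) :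
    Over.mk (V.left.fromSpecResidueField v ≫ V.hom) ⟶ V :=
  Over.homMk (V.left.fromSpecResidueField v) rfl

instance {S : Scheme.{u}} (V : Over S) (v : ↥V.left) : Mono (resPt V v) := by
  haveI : Mono (resPt V v).left := inferInstanceAs (Mono (V.left.fromSpecResidueField v))
  exact Over.mono_of_mono_left _

/-- the key cancellation: over an elementary etale neighbourhood `(U₁, u₁)`, two `T`-points of
`Spec κ(v)` (for `v` over `u₁`) with the same image in `X` have the same image in `U₁`. -/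
lemma cancel_of_elem {S : Scheme.{u}} {X : AlgSp.Sp S} {x : AlgSp.Points X} {U₁ V : Over S}
    (a₁ : (AlgSp.yon S).obj U₁ ⟶ X) (u₁ : ↥U₁.left) (h₁ : AlgSp.IsElemEtaleNbhd a₁ u₁ x)
    (h : V ⟶ U₁) (v : ↥V.left) (hv : h.left v = u₁) {T : Over S}
    (α β : T ⟶ Over.mk (V.left.fromSpecResidueField v ≫ V.hom))
    (hαβ : (AlgSp.yon S).map α ≫ (AlgSp.yon S).map (resPt V v) ≫ (AlgSp.yon S).map h ≫ a₁ =
      (AlgSp.yon S).map β ≫ (AlgSp.yon S).map (resPt V v) ≫ (AlgSp.yon S).map h ≫ a₁) :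
    α ≫ resPt V v ≫ h = β ≫ resPt V v ≫ h := by
  subst hv
  haveI hm : Mono ((AlgSp.yon S).map (resPt U₁ (h.left v)) ≫ a₁) := by
    have := h₁.mono
    rw [AlgSp.FieldPt.toHom_ofPt] at this
    exact this
  -- the residue field map
  let ρ : Over.mk (V.left.fromSpecResidueField v ≫ V.hom) ⟶
      Over.mk (U₁.left.fromSpecResidueField (h.left v) ≫ U₁.hom) :=
    Over.homMk (Spec.map (h.left.residueFieldMap v)) (by
      dsimp only [Over.mk_hom]
      rw [← Category.assoc, Scheme.Hom.SpecMap_residueFieldMap_fromSpecResidueField,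
        Category.assoc, Over.w h])
  have hρ : resPt V v ≫ h = ρ ≫ resPt U₁ (h.left v) := by
    apply Over.OverMorphism.ext
    exact (Scheme.Hom.SpecMap_residueFieldMap_fromSpecResidueField h.left v).symm
  have h2 : (AlgSp.yon S).map (α ≫ ρ) ≫ ((AlgSp.yon S).map (resPt U₁ (h.left v)) ≫ a₁) =
      (AlgSp.yon S).map (β ≫ ρ) ≫ ((AlgSp.yon S).map (resPt U₁ (h.left v)) ≫ a₁) := by
    rw [← Category.assoc, ← Functor.map_comp, Category.assoc, ← hρ, Functor.map_comp,
      Functor.map_comp, Category.assoc, Category.assoc, hαβ]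
    rw [← Category.assoc ((AlgSp.yon S).map (β ≫ ρ)), ← Functor.map_comp, Category.assoc, ← hρ,
      Functor.map_comp, Functor.map_comp, Category.assoc, Category.assoc]
  have h3 := (cancel_mono _).1 h2
  have h4 := (AlgSp.yon S).map_injective h3
  rw [hρ, ← Category.assoc, h4, Category.assoc]

/-- over an elementary etale neighbourhood `(U₂, u₂)`, two morphisms `V ⟶ U₂` over `X` sending
`v` to `u₂` agree on `Spec κ(v)`. -/
lemma resPt_comp_eq_of_elem {S : Scheme.{u}} {X : AlgSp.Sp S} {x : AlgSp.Points X} {U₂ V : Over S}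
    (a₂ : (AlgSp.yon S).obj U₂ ⟶ X) (u₂ : ↥U₂.left) (h₂ : AlgSp.IsElemEtaleNbhd a₂ u₂ x)
    (h h' : V ⟶ U₂) (hh : (AlgSp.yon S).map h ≫ a₂ = (AlgSp.yon S).map h' ≫ a₂) (v : ↥V.left)
    (hv : h.left v = u₂) (hv' : h'.left v = u₂) :
    resPt V v ≫ h = resPt V v ≫ h' := by
  subst hv
  haveI hm : Mono ((AlgSp.yon S).map (resPt U₂ (h.left v)) ≫ a₂) := by
    have := h₂.mono
    rw [AlgSp.FieldPt.toHom_ofPt] at this
    exact this
  let ρ : Over.mk (V.left.fromSpecResidueField v ≫ V.hom) ⟶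
      Over.mk (U₂.left.fromSpecResidueField (h.left v) ≫ U₂.hom) :=
    Over.homMk (Spec.map (h.left.residueFieldMap v)) (by
      dsimp only [Over.mk_hom]
      rw [← Category.assoc, Scheme.Hom.SpecMap_residueFieldMap_fromSpecResidueField,
        Category.assoc, Over.w h])
  have hρ : resPt V v ≫ h = ρ ≫ resPt U₂ (h.left v) := by
    apply Over.OverMorphism.ext
    exact (Scheme.Hom.SpecMap_residueFieldMap_fromSpecResidueField h.left v).symm
  have hkey : (Spec.map (h'.left.residueFieldMap v) ≫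
      Spec.map (U₂.left.residueFieldCongr hv'.symm).hom) ≫
      U₂.left.fromSpecResidueField (h.left v) = V.left.fromSpecResidueField v ≫ h'.left := by
    rw [Category.assoc, Scheme.residueFieldCongr_fromSpecResidueField,
      Scheme.Hom.SpecMap_residueFieldMap_fromSpecResidueField]
  let ρ' : Over.mk (V.left.fromSpecResidueField v ≫ V.hom) ⟶
      Over.mk (U₂.left.fromSpecResidueField (h.left v) ≫ U₂.hom) :=
    Over.homMk (Spec.map (h'.left.residueFieldMap v) ≫
      Spec.map (U₂.left.residueFieldCongr hv'.symm).hom) (by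
      dsimp only [Over.mk_hom]
      rw [← Category.assoc, hkey, Category.assoc, Over.w h'])
  have hρ' : resPt V v ≫ h' = ρ' ≫ resPt U₂ (h.left v) := by
    apply Over.OverMorphism.ext
    exact hkey.symm
  have h2 : (AlgSp.yon S).map ρ ≫ ((AlgSp.yon S).map (resPt U₂ (h.left v)) ≫ a₂) =
      (AlgSp.yon S).map ρ' ≫ ((AlgSp.yon S).map (resPt U₂ (h.left v)) ≫ a₂) := by
    rw [← Category.assoc, ← Functor.map_comp, ← hρ, ← Category.assoc ((AlgSp.yon S).map ρ'),
      ← Functor.map_comp, ← hρ', Functor.map_comp, Functor.map_comp, Category.assoc,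
      Category.assoc, hh]
  have h3 := (AlgSp.yon S).map_injective ((cancel_mono _).1 h2)
  rw [hρ, hρ', h3]




/-- For a decent algebraic space X over a scheme S and x ∈ |X|, the category of elementary etale
neighbourhoods (U, u) ⟶ (X, x) is cofiltered: two objects are dominated by a third and two parallel
morphisms are equalized from some object (it is nonempty by the existence of elementary etale
neighbourhoods). -/
theorem result {S : Scheme.{u}} (X : AlgSp.Space S) (hX : AlgSp.IsDecent X.obj)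
    (x : AlgSp.Points X.obj) :
    (∀ (U₁ U₂ : Over S) (a₁ : (AlgSp.yon S).obj U₁ ⟶ X.obj) (a₂ : (AlgSp.yon S).obj U₂ ⟶ X.obj) (u₁ : ↥U₁.left)
        (u₂ : ↥U₂.left), AlgSp.IsElemEtaleNbhd a₁ u₁ x → AlgSp.IsElemEtaleNbhd a₂ u₂ x →
        ∃ (U : Over S) (a : (AlgSp.yon S).obj U ⟶ X.obj) (v : ↥U.left) (h₁ : U ⟶ U₁) (h₂ : U ⟶ U₂),
          AlgSp.IsElemEtaleNbhd a v x ∧ (AlgSp.yon S).map h₁ ≫ a₁ = a ∧ (AlgSp.yon S).map h₂ ≫ a₂ = a ∧
            h₁.left v = u₁ ∧ h₂.left v = u₂) ∧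
      (∀ (U₁ U₂ : Over S) (a₁ : (AlgSp.yon S).obj U₁ ⟶ X.obj) (a₂ : (AlgSp.yon S).obj U₂ ⟶ X.obj) (u₁ : ↥U₁.left)
        (u₂ : ↥U₂.left) (b c : U₁ ⟶ U₂), AlgSp.IsElemEtaleNbhd a₁ u₁ x → AlgSp.IsElemEtaleNbhd a₂ u₂ x →
        (AlgSp.yon S).map b ≫ a₂ = a₁ → (AlgSp.yon S).map c ≫ a₂ = a₁ → b.left u₁ = u₂ → c.left u₁ = u₂ →
        ∃ (U : Over S) (a : (AlgSp.yon S).obj U ⟶ X.obj) (v : ↥U.left) (h : U ⟶ U₁),
          AlgSp.IsElemEtaleNbhd a v x ∧ (AlgSp.yon S).map h ≫ a₁ = a ∧ h.left v = u₁ ∧ h ≫ b = h ≫ c) := by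
  refine ⟨?_, ?_⟩
  · intro U₁ U₂ a₁ a₂ u₁ u₂ h₁ h₂
    obtain ⟨W, p₂, p₁', sq⟩ := h₁.etale.1 a₂
    obtain ⟨p₁, rfl⟩ := (AlgSp.yon S).map_surjective p₁'
    have he : AlgSp.Points.ofPt a₁ u₁ = AlgSp.Points.ofPt a₂ u₂ :=
      h₁.ofPt_eq.trans h₂.ofPt_eq.symm
    obtain ⟨v, hv1, hv2⟩ := Groth.Agent.S10176.exists_point_of_isPullback_yon sq u₁ u₂ he
    have hp1 : Etale p₁.left := h₂.etale.2 a₁ _ p₁ sq.flip
    refine ⟨W, (AlgSp.yon S).map p₁ ≫ a₁, v, p₁, p₂, ⟨?_, ?_, ?_⟩, rfl, sq.w.symm, hv1, hv2⟩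
    · exact (AlgSp.repWith_isMultiplicative (S := S) @Etale).comp_mem _ _
        ((AlgSp.repWith_yon_map_iff _ _).2 hp1) h₁.etale
    · rw [Groth.Agent.S10176.ofPt_map_comp, hv1]; exact h₁.ofPt_eq
    · rw [AlgSp.FieldPt.toHom_ofPt]
      apply mono_of_yon
      intro T α β hαβ
      have e1 := cancel_of_elem a₁ u₁ h₁ p₁ v hv1 α β hαβ
      have e2 := cancel_of_elem a₂ u₂ h₂ p₂ v hv2 α β (by rw [← sq.w]; exact hαβ)
      have e3 : (AlgSp.yon S).map (α ≫ resPt W v) = (AlgSp.yon S).map (β ≫ resPt W v) := by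
        apply sq.hom_ext
        · rw [← Functor.map_comp, ← Functor.map_comp, Category.assoc, Category.assoc]
          exact congrArg (fun m => (AlgSp.yon S).map m) e1
        · rw [← Functor.map_comp, ← Functor.map_comp, Category.assoc, Category.assoc]
          exact congrArg (fun m => (AlgSp.yon S).map m) e2
      exact (cancel_mono (resPt W v)).1 ((AlgSp.yon S).map_injective e3)
  · intro U₁ U₂ a₁ a₂ u₁ u₂ b c h₁ h₂ hb hc hbu hcu
    obtain ⟨P, q₂, q₁', sqP⟩ := h₂.etale.1 a₂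
    obtain ⟨q₁, rfl⟩ := (AlgSp.yon S).map_surjective q₁'
    have hq1 : Etale q₁.left := h₂.etale.2 a₂ _ q₁ sqP.flip
    -- the diagonal
    obtain ⟨δ, hδ1, hδ2⟩ : ∃ δ : U₂ ⟶ P, δ ≫ q₁ = 𝟙 _ ∧ δ ≫ q₂ = 𝟙 _ := by
      obtain ⟨δ, hδ⟩ := (AlgSp.yon S).map_surjective (sqP.lift (𝟙 _) (𝟙 _) rfl)
      refine ⟨δ, (AlgSp.yon S).map_injective ?_, (AlgSp.yon S).map_injective ?_⟩
      · rw [Functor.map_comp, hδ, sqP.lift_fst]; exact ((AlgSp.yon S).map_id _).symm
      · rw [Functor.map_comp, hδ, sqP.lift_snd]; exact ((AlgSp.yon S).map_id _).symm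
    have hδe : Etale δ.left := by
      refine MorphismProperty.HasOfPostcompProperty.of_postcomp (W := @Etale) δ.left q₁.left hq1 ?_
      rw [← Over.comp_left, hδ1, Over.id_left]
      infer_instance
    haveI : Mono δ := mono_of_mono_fac hδ1
    -- the pair (b, c)
    obtain ⟨bc, hbc1, hbc2⟩ : ∃ bc : U₁ ⟶ P, bc ≫ q₁ = b ∧ bc ≫ q₂ = c := by
      obtain ⟨bc, hbc⟩ := (AlgSp.yon S).map_surjective
        (sqP.lift ((AlgSp.yon S).map b) ((AlgSp.yon S).map c) (by rw [hb, hc]))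
      refine ⟨bc, (AlgSp.yon S).map_injective ?_, (AlgSp.yon S).map_injective ?_⟩
      · rw [Functor.map_comp, hbc, sqP.lift_fst]
      · rw [Functor.map_comp, hbc, sqP.lift_snd]
    have hPext : ∀ {T : Over S} (m m' : T ⟶ P), m ≫ q₁ = m' ≫ q₁ → m ≫ q₂ = m' ≫ q₂ → m = m' := by
      intro T m m' e1 e2
      apply (AlgSp.yon S).map_injective
      apply sqP.hom_ext
      · rw [← Functor.map_comp, ← Functor.map_comp, e1]
      · rw [← Functor.map_comp, ← Functor.map_comp, e2]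
    -- the equalizer
    obtain ⟨E, e, e', hpb⟩ : ∃ (E : Over S) (e : E ⟶ U₁) (e' : E ⟶ U₂), IsPullback e e' bc δ :=
      ⟨_, _, _, IsPullback.of_hasPullback bc δ⟩
    have hee : Etale e.left := by
      have h0 : (MorphismProperty.inverseImage @Etale (Over.forget S)) δ := hδe
      exact MorphismProperty.of_isPullback (P := MorphismProperty.inverseImage @Etale (Over.forget S))
        hpb.flip h0
    haveI : Mono e := by
      refine ⟨fun {Z} m m' hmm => hpb.hom_ext hmm ?_⟩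
      rw [← cancel_mono δ, Category.assoc, Category.assoc, ← hpb.w, ← Category.assoc, hmm,
        Category.assoc]
    have hcond : e ≫ b = e ≫ c := by
      calc e ≫ b = (e ≫ bc) ≫ q₁ := by rw [Category.assoc, hbc1]
        _ = e' := by rw [hpb.w, Category.assoc, hδ1, Category.comp_id]
        _ = (e ≫ bc) ≫ q₂ := by rw [hpb.w, Category.assoc, hδ2, Category.comp_id]
        _ = e ≫ c := by rw [Category.assoc, hbc2]
    -- the point
    have hι : resPt U₁ u₁ ≫ b = resPt U₁ u₁ ≫ c :=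
      resPt_comp_eq_of_elem a₂ u₂ h₂ b c (by rw [hb, hc]) u₁ hbu hcu
    have hσc : resPt U₁ u₁ ≫ bc = (resPt U₁ u₁ ≫ b) ≫ δ := by
      apply hPext
      · rw [Category.assoc, hbc1, Category.assoc, Category.assoc, hδ1, Category.comp_id]
      · rw [Category.assoc, hbc2, Category.assoc, Category.assoc, hδ2, Category.comp_id, hι]
    obtain ⟨σ, hσ⟩ : ∃ σ : Over.mk (U₁.left.fromSpecResidueField u₁ ≫ U₁.hom) ⟶ E,
        σ ≫ e = resPt U₁ u₁ := ⟨hpb.lift _ _ hσc, hpb.lift_fst _ _ hσc⟩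
    obtain ⟨pt⟩ : Nonempty ↥(Spec (U₁.left.residueField u₁)) := inferInstance
    have hv : e.left (σ.left pt) = u₁ := by
      rw [← Scheme.Hom.comp_apply, ← Over.comp_left, hσ]
      exact Scheme.fromSpecResidueField_apply _ _
    refine ⟨E, (AlgSp.yon S).map e ≫ a₁, σ.left pt, e, ⟨?_, ?_, ?_⟩, rfl, hv, hcond⟩
    · exact (AlgSp.repWith_isMultiplicative (S := S) @Etale).comp_mem _ _
        ((AlgSp.repWith_yon_map_iff _ _).2 hee) h₁.etale
    · rw [Groth.Agent.S10176.ofPt_map_comp, hv]; exact h₁.ofPt_eq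
    · rw [AlgSp.FieldPt.toHom_ofPt]
      apply mono_of_yon
      intro T α β hαβ
      have e1 := cancel_of_elem a₁ u₁ h₁ e (σ.left pt) hv α β hαβ
      rw [← Category.assoc, ← Category.assoc] at e1
      exact (cancel_mono (resPt E (σ.left pt))).1 ((cancel_mono e).1 e1)

end Groth.Agent.S10420
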