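import Groth.Statements.S10422
import Mathlib

set_option autoImplicit false
universe u
open Topology TopologicalSpace TensorProduct
open AlgSp

namespace Groth.Agent.S10422


/-- finitely many field extensions of `k` embed in a common field extension. -/
lemma exists_common_field (k : Type u) [Field k] (K : ℕ → Type u) [∀ n, Field (K n)]
    [∀ n, Algebra k (K n)] (N : ℕ) :
    ∃ (Ω : Type u) (_ : Field Ω) (_ : Algebra k Ω), ∀ n, n ≤ N → Nonempty (K n →ₐ[k] Ω) := by
  induction N with
  | zero =>
    exact ⟨K 0, inferInstance, inferInstance, fun n hn => by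
      obtain rfl : n = 0 := Nat.le_zero.1 hn
      exact ⟨AlgHom.id k _⟩⟩
  | succ N ih =>
    obtain ⟨Ω, _, _, h⟩ := ih
    haveI : Nontrivial (Ω ⊗[k] K (N + 1)) := inferInstance
    obtain ⟨M, hM⟩ := Ideal.exists_maximal (Ω ⊗[k] K (N + 1))
    letI : Field ((Ω ⊗[k] K (N + 1)) ⧸ M) := Ideal.Quotient.field M
    refine ⟨(Ω ⊗[k] K (N + 1)) ⧸ M, inferInstance, inferInstance, fun n hn => ?_⟩
    rcases Nat.lt_or_ge n (N + 1) with hlt | hge
    · obtain ⟨σ⟩ := h n (Nat.lt_succ_iff.1 hlt)
      exact ⟨((Ideal.Quotient.mkₐ k M).comp (Algebra.TensorProduct.includeLeft)).comp σ⟩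
    · obtain rfl : n = N + 1 := le_antisymm hn hge
      exact ⟨(Ideal.Quotient.mkₐ k M).comp (Algebra.TensorProduct.includeRight)⟩



/-- Let A be a ring, k a field, (p_n) a sequence of primes of A which are pairwise distinct, and k →
κ(p_n) field embeddings. Then the closure in Spec(A ⊗ A) of the image of ∐_{n ≠ m} Spec(κ(p_n) ⊗_k
κ(p_m)) meets the diagonal. Here κ(p_n) is any A-algebra K_n which is a field whose structure map
has kernel p_n and whose elements are quotients of images of elements of A. -/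
theorem result (A : Type u) [CommRing A] (k : Type u) [Field k]
    (p : ℕ → PrimeSpectrum A) (hp : Function.Injective p) (K : ℕ → Type u) [∀ n, Field (K n)]
    [∀ n, Algebra A (K n)] [∀ n, Algebra k (K n)]
    (hker : ∀ n, RingHom.ker (algebraMap A (K n)) = (p n).asIdeal)
    (hfrac : ∀ n (x : K n), ∃ a b : A, algebraMap A (K n) b ≠ 0 ∧ x * algebraMap A (K n) b = algebraMap A (K n) a) :
    (closure (⋃ (n : ℕ) (m : ℕ) (_ : n ≠ m),
        Set.range (PrimeSpectrum.comap
          (Algebra.TensorProduct.lift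
            ((Algebra.TensorProduct.includeLeft (R := k) (S := ℤ) (A := K n) (B := K m)).toRingHom.toIntAlgHom.comp
              (Algebra.ofId A (K n)).toRingHom.toIntAlgHom)
            ((Algebra.TensorProduct.includeRight (R := k) (A := K n) (B := K m)).toRingHom.toIntAlgHom.comp
              (Algebra.ofId A (K m)).toRingHom.toIntAlgHom)
            (fun _ _ => Commute.all _ _)).toRingHom)) ∩
      Set.range (PrimeSpectrum.comap (Algebra.TensorProduct.lmul' (S := A) ℤ).toRingHom)).Nonempty := by
  classical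
  by_contra hne
  rw [Set.not_nonempty_iff_eq_empty] at hne
  have hsurj : Function.Surjective (Algebra.TensorProduct.lmul' (S := A) ℤ).toRingHom := fun a =>
    ⟨a ⊗ₜ 1, by simp⟩
  rw [← PrimeSpectrum.zeroLocus_vanishingIdeal_eq_closure,
    range_comap_of_surjective _ _ hsurj, ← PrimeSpectrum.zeroLocus_sup,
    PrimeSpectrum.zeroLocus_empty_iff_eq_top] at hne
  have h1 : (1 : A ⊗[ℤ] A) ∈ (⊤ : Ideal (A ⊗[ℤ] A)) := Submodule.mem_top
  rw [← hne] at h1
  obtain ⟨z, hz, w, hw, hzw⟩ := Submodule.mem_sup.1 h1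
  have hmul : Algebra.TensorProduct.lmul' (S := A) ℤ z = 1 := by
    have h2 := congrArg (Algebra.TensorProduct.lmul' (S := A) ℤ) hzw
    rw [map_add, map_one] at h2
    have hw' : Algebra.TensorProduct.lmul' (S := A) ℤ w = 0 := hw
    rwa [hw', add_zero] at h2
  obtain ⟨s, hs⟩ := TensorProduct.exists_finset z
  obtain ⟨Ω, _, _, hΩ⟩ := exists_common_field k K s.card
  have σ : ∀ n : Fin (s.card + 1), K n →ₐ[k] Ω := fun n => (hΩ n (Nat.lt_succ_iff.1 n.2)).some
  have key : ∀ n m : Fin (s.card + 1),
      (∑ i ∈ s, σ n (algebraMap A (K n) i.1) * σ m (algebraMap A (K m) i.2)) =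
        if n = m then 1 else 0 := by
    intro n m
    split_ifs with hnm
    · subst hnm
      have h3 : (∑ i ∈ s, σ n (algebraMap A (K n) i.1) * σ n (algebraMap A (K n) i.2)) =
          σ n (algebraMap A (K n) (Algebra.TensorProduct.lmul' (S := A) ℤ z)) := by
        rw [hs, map_sum, map_sum, map_sum]
        refine Finset.sum_congr rfl fun i _ => ?_
        rw [Algebra.TensorProduct.lmul'_apply_tmul, map_mul, map_mul]
      rw [h3, hmul, map_one, map_one]
    · have hnm' : (n : ℕ) ≠ (m : ℕ) := fun h => hnm (Fin.ext h)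
      let g : K n ⊗[k] K m →ₐ[k] Ω := Algebra.TensorProduct.productMap (σ n) (σ m)
      let q : PrimeSpectrum (K n ⊗[k] K m) := ⟨RingHom.ker g.toRingHom, RingHom.ker_isPrime _⟩
      have hmem := (PrimeSpectrum.mem_vanishingIdeal _ _).1 hz
        (PrimeSpectrum.comap _ q)
        (Set.mem_iUnion.2 ⟨n, Set.mem_iUnion.2 ⟨m, Set.mem_iUnion.2 ⟨hnm', ⟨q, rfl⟩⟩⟩⟩)
      have h4 : g ((Algebra.TensorProduct.lift
            ((Algebra.TensorProduct.includeLeft (R := k) (S := ℤ) (A := K n) (B := K m)).toRingHom.toIntAlgHom.comp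
              (Algebra.ofId A (K n)).toRingHom.toIntAlgHom)
            ((Algebra.TensorProduct.includeRight (R := k) (A := K n) (B := K m)).toRingHom.toIntAlgHom.comp
              (Algebra.ofId A (K m)).toRingHom.toIntAlgHom)
            (fun _ _ => Commute.all _ _)) z) = 0 := hmem
      rw [hs, map_sum, map_sum] at h4
      rw [← h4]
      refine Finset.sum_congr rfl fun i _ => ?_
      simp [g]
  let Am : Matrix (Fin (s.card + 1)) s Ω := fun n i => σ n (algebraMap A (K n) i.1.1)
  let Bm : Matrix s (Fin (s.card + 1)) Ω := fun i m => σ m (algebraMap A (K m) i.1.2)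
  have hAB : Am * Bm = 1 := by
    ext n m
    rw [Matrix.mul_apply, Matrix.one_apply, ← key n m]
    exact Finset.sum_coe_sort s (fun i => σ n (algebraMap A (K n) i.1) * σ m (algebraMap A (K m) i.2))
  have h5 := Matrix.rank_mul_le_left Am Bm
  rw [hAB, Matrix.rank_one] at h5
  have h6 := Matrix.rank_le_card_width Am
  rw [Fintype.card_coe] at h6
  rw [Fintype.card_fin] at h5
  omega

end Groth.Agent.S10422
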