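import Groth.Statements.S10426
import Mathlib
import Groth.Agent.Lib.Helper12UnivBdd
import Groth.Agent.Lib.Helper12Descent

set_option autoImplicit false
universe u
open CategoryTheory CategoryTheory.Limits AlgebraicGeometry Topology TopologicalSpace
open AlgSp

namespace Groth.Agent.S10426





/-- Let S be a scheme, X and Y algebraic spaces over S, and g : Y ⟶ X a representable morphism; let U be
a scheme, f : U ⟶ X a morphism, and f′ : U ×_X Y ⟶ Y its base change. Assume the image of |U| → |X|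
is contained in the image of |Y| → |X| and that f′ has universally bounded fibres. Then the morphism
f also has universally bounded fibres. -/
theorem result {S : Scheme.{u}} {X Y : AlgSp.Space S} (g : Y ⟶ X)
    (hg : AlgSp.Representable g.hom) {U V : Over S} (f : (AlgSp.yon S).obj U ⟶ X.obj)
    (fst : (AlgSp.yon S).obj V ⟶ (AlgSp.yon S).obj U) (f' : (AlgSp.yon S).obj V ⟶ Y.obj) (h : IsPullback fst f' f g.hom)
    (him : Set.range (AlgSp.Points.ofPt f) ⊆ Set.range (AlgSp.Points.map g.hom)) (hf' : W4dec.HasUnivBddFibres f') :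
    W4dec.HasUnivBddFibres f := by
  obtain ⟨n, hn⟩ := hf'
  refine ⟨n, fun q T c snd sq => ?_⟩
  obtain ⟨sndm, rfl⟩ := (AlgSp.yon S).map_surjective snd
  by_cases hT : IsEmpty ↥T.left
  · exact Groth.Agent.Lib.Helper12.UnivBdd.degLE_of_isEmpty (K := q.K) c.left n
  rw [not_isEmpty_iff] at hT
  obtain ⟨t⟩ := hT
  have e1 : AlgSp.Points.ofPt f (sndm.left t) = AlgSp.Points.mk q := by
    rw [← Groth.Agent.S10176.ofPt_map_comp, ← sq.w, Groth.Agent.S10176.ofPt_map_comp,
      AlgSp.Points.ofPt_toHom]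
  obtain ⟨y, hy⟩ := him ⟨_, e1⟩
  obtain ⟨L, _, strL, a, rfl⟩ := Groth.Agent.S10121.exists_ptOf y
  rw [Groth.Agent.S10121.map_ptOf, Groth.Agent.Lib.Helper12.UnivBdd.mk_eq_ptOf] at hy
  obtain ⟨Ω, _, w, β, β', hβ⟩ := Groth.Agent.S10121.exists_of_ptOf_eq hy
  let p' : AlgSp.FieldPt Y.obj := Groth.Agent.Lib.Helper12.UnivBdd.fpOf w ((AlgSp.yon S).map β ≫ a)
  have hp' : p'.toHom = (AlgSp.yon S).map β ≫ a :=
    Groth.Agent.Lib.Helper12.UnivBdd.fpOf_toHom _ _
  have sqO := IsPullback.of_hasPullback c β'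
  have sqC := sqO.map (AlgSp.yon S)
  have sqL := sqO.map (Over.forget S)
  have big := sqC.flip.paste_vert sq
  have hcomm : p'.toHom ≫ g.hom = (AlgSp.yon S).map β' ≫ q.toHom := by
    rw [hp']
    exact (Category.assoc _ _ _).trans hβ
  obtain ⟨ℓ, hℓ1, hℓ2⟩ : ∃ ℓ : (AlgSp.yon S).obj (pullback c β') ⟶ (AlgSp.yon S).obj V,
      ℓ ≫ fst = (AlgSp.yon S).map (pullback.fst c β') ≫ (AlgSp.yon S).map sndm ∧
      ℓ ≫ f' = (AlgSp.yon S).map (pullback.snd c β') ≫ p'.toHom :=
    ⟨h.lift _ _ (big.w.symm.trans ((congrArg (_ ≫ ·) hcomm.symm).trans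
      (Category.assoc _ _ _).symm)), h.lift_fst _ _ _, h.lift_snd _ _ _⟩
  have D : IsPullback ((AlgSp.yon S).map (pullback.snd c β')) ℓ p'.toHom f' := by
    refine IsPullback.of_bot ?_ hℓ2.symm h.flip
    rw [hℓ1]
    exact hcomm ▸ big
  obtain ⟨hfin, hrank⟩ := hn p' (pullback c β') (pullback.snd c β') ℓ D
  have sqL' : IsPullback (pullback.fst c β').left (pullback.snd c β').left c.left β'.left := sqL
  haveI : IsIntegral q.pt.left := (inferInstance : IsIntegral (Spec (CommRingCat.of q.K)))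
  haveI : Subsingleton ↥q.pt.left := (inferInstance : Subsingleton (PrimeSpectrum q.K))
  haveI : Flat c.left := inferInstance
  haveI : Flat β'.left := inferInstance
  haveI : Surjective β'.left :=
    ⟨fun y => ⟨(IsLocalRing.closedPoint Ω : PrimeSpectrum Ω), Subsingleton.elim _ _⟩⟩
  haveI : IsAffine (Over.mk w).left := (inferInstance : IsAffine (Spec (CommRingCat.of Ω)))
  haveI : IsAffine q.pt.left := (inferInstance : IsAffine (Spec (CommRingCat.of q.K)))
  haveI : IsAffineHom β'.left := inferInstance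
  haveI : QuasiCompact β'.left := inferInstance
  haveI := Groth.Agent.Lib.Helper12.descendsAlong_isFinite.{u}
  have hc : IsFinite c.left :=
    MorphismProperty.of_isPullback_of_descendsAlong (P := @IsFinite)
      (Q := @Surjective ⊓ @Flat ⊓ @QuasiCompact) sqL'.flip
      ⟨⟨inferInstance, inferInstance⟩, inferInstance⟩ hfin
  refine ⟨hc, fun s => ?_⟩
  obtain ⟨y, rfl⟩ := β'.left.surjective s
  rw [← Scheme.Hom.finrank_of_isPullback _ _ _ _ sqL' y]
  exact hrank y

end Groth.Agent.S10426
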