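import Groth.Statements.S10428
import Mathlib
import Groth.Agent.Lib.Helper12CardPts
import Groth.Agent.S10176

set_option autoImplicit false
universe u
open CategoryTheory CategoryTheory.Limits AlgebraicGeometry Topology TopologicalSpace
open AlgSp

namespace Groth.Agent.S10428





/-- Let X be an algebraic space over a scheme S and φ : U ⟶ X a morphism from a scheme with universally
bounded fibres. Then for some integer n, every fibre of |U| → |X| contains at most n elements. -/
theorem result {S : Scheme.{u}} (X : AlgSp.Space S) {U : Over S}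
    (φ : (AlgSp.yon S).obj U ⟶ X.obj) (hφ : W4dec.HasUnivBddFibres φ) :
    ∃ n : ℕ, ∀ x : AlgSp.Points X.obj, (AlgSp.Points.ofPt φ ⁻¹' {x}).encard ≤ n := by
  obtain ⟨n, hn⟩ := hφ
  refine ⟨n, fun x => ?_⟩
  obtain ⟨q, rfl⟩ := AlgSp.Points.mk_surjective x
  obtain ⟨T, c, snd', sq⟩ := X.property.representable_from_yon φ q.toHom
  obtain ⟨pr, rfl⟩ := (AlgSp.yon S).map_surjective snd'
  obtain ⟨hfin, hrank⟩ := hn q T c _ sq.flip
  haveI := hfin
  let s0 : ↥(Spec (CommRingCat.of q.K)) := IsLocalRing.closedPoint q.K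
  obtain ⟨hF, hcard⟩ := Groth.Agent.Lib.Helper12.CardPts.card_le_of_finrank_le
    (K := q.K) c.left n s0 (hrank s0)
  have hsub : AlgSp.Points.ofPt φ ⁻¹' {AlgSp.Points.mk q} ⊆ Set.range pr.left := by
    intro u hu
    obtain ⟨y, hy1, -⟩ := Groth.Agent.S10176.exists_point_of_isPullback_yon sq u s0
      (hu.trans (AlgSp.Points.ofPt_toHom q s0).symm)
    exact ⟨y, hy1⟩
  calc (AlgSp.Points.ofPt φ ⁻¹' {AlgSp.Points.mk q}).encard
      ≤ (Set.range pr.left).encard := Set.encard_le_encard hsub
    _ ≤ ENat.card ↥T.left := by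
        rw [← Set.image_univ, ← Set.encard_univ]
        exact Set.encard_image_le _ _
    _ = (Nat.card ↥T.left : ℕ∞) := ENat.card_eq_coe_natCard _
    _ ≤ n := by exact_mod_cast hcard

end Groth.Agent.S10428
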