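import Groth.Statements.S10430
import Mathlib
import Groth.Agent.Lib.Helper12DecentPoint
import Groth.Agent.Lib.Helper12RelFibre
import Groth.Prelude.Def_W4decUnivBdd

set_option autoImplicit false
universe u
open CategoryTheory CategoryTheory.Limits AlgebraicGeometry Topology TopologicalSpace
open AlgSp

namespace Groth.Agent.S10430





/-- If every etale morphism U ⟶ X from an affine scheme to the algebraic space X has universally bounded
fibres, then X is decent. -/
theorem result {S : Scheme.{u}} (X : AlgSp.Space S)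
    (h : ∀ (U : Over S) (φ : (AlgSp.yon S).obj U ⟶ X.obj), IsAffine U.left → AlgSp.RepWith @Etale φ → W4dec.HasUnivBddFibres φ) :
    AlgSp.IsDecent X.obj := by
  intro x
  obtain ⟨q, rfl⟩ := AlgSp.Points.mk_surjective x
  have key : ∀ (V' : Over S) (b' : (AlgSp.yon S).obj V' ⟶ X.obj), IsAffine V'.left →
      AlgSp.RepWith @Etale b' → ∀ (F : Over S) (fK : F ⟶ q.pt) (fV : F ⟶ V'),
      IsPullback ((AlgSp.yon S).map fV) ((AlgSp.yon S).map fK) b' q.toHom →
      (Set.univ : Set ↥F.left).Finite := by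
    intro V' b' hV' hb' F fK fV sqF
    obtain ⟨n, hn⟩ := h V' b' hV' hb'
    obtain ⟨hfin, -⟩ := hn q F fK ((AlgSp.yon S).map fV) sqF.flip
    haveI := hfin
    have := fK.left.finite_preimage_singleton ((⊥ : PrimeSpectrum q.K) : ↥q.pt.left)
    refine this.subset (fun y _ => ?_)
    exact (inferInstance : Subsingleton (PrimeSpectrum q.K)).elim _ _
  obtain ⟨V, b, v, hV, hb, hv⟩ :=
    Groth.Agent.Lib.Helper12.DecentPoint.exists_affine_chart X.property (AlgSp.Points.mk q)
  obtain ⟨R, s, t', sqR⟩ := hb.1 b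
  obtain ⟨t, rfl⟩ := (AlgSp.yon S).map_surjective t'
  obtain ⟨F, fK, fV', sqF⟩ := hb.1 q.toHom
  obtain ⟨fV, rfl⟩ := (AlgSp.yon S).map_surjective fV'
  have hF := key V b hV hb F fK fV sqF
  have hRfib := Groth.Agent.Lib.Helper12.RelFibre.finite_relation_fibre q b hb fK fV sqF hF s t sqR
  refine Groth.Agent.Lib.Helper12.DecentPoint.exists_qc_mono_point X.property (AlgSp.Points.mk q)
    b hb v hv s t sqR (hRfib.subset ?_) ?_
  · rintro r ⟨-, hr⟩
    rw [Set.mem_preimage, Set.mem_singleton_iff, Groth.Agent.S10176.ofPt_map_comp, hr, hv]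
  · intro V' b' hV' hb'
    obtain ⟨F', fK', fV'', sqF'⟩ := hb'.1 q.toHom
    obtain ⟨fV', rfl⟩ := (AlgSp.yon S).map_surjective fV''
    have hF' := key V' b' hV' hb' F' fK' fV' sqF'
    refine (hF'.image fV'.left).subset ?_
    intro v' hv'
    obtain ⟨y, hy, -⟩ := Groth.Agent.S10176.exists_point_of_isPullback_yon sqF' v'
      ((⊥ : PrimeSpectrum q.K) : ↥q.pt.left) (by rw [AlgSp.Points.ofPt_toHom]; exact hv')
    exact ⟨y, trivial, hy⟩

end Groth.Agent.S10430
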