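import Groth.Statements.S9781
import Groth.Agent.Lib.Helper3EtNbhdA
import Groth.Agent.Lib.Helper3EtNbhdB
import Groth.Agent.Lib.Helper3IndEtHz
import Groth.Agent.Lib.Helper3HzN
import Groth.Agent.Lib.Helper3EtGUN
import Groth.Agent.Lib.Helper20ResFld
import Groth.Agent.S2052
import Mathlib

set_option autoImplicit false
universe u
open Brnch

namespace Groth.Agent.S9781

open AlgebraicGeometry CategoryTheory Limits IsLocalRing Groth.Agent.Lib.Helper3
  Groth.Agent.Lib.Helper3.IndEt Groth.Agent.Lib.Helper3.PuncConn Groth.Agent.Lib.Helper3.EtNbhd in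
-- forward direction: the nilradical of the local ring of an elementary étale neighbourhood of a
-- unibranch point is prime
theorem nilradical_isPrime_of_isEtaleNbhd {U X : Scheme.{u}} (g : U ⟶ X) [Etale g] (u : U)
    (hA : CAlg2.IsUnibranch (X.presheaf.stalk (g u)))
    (hres : Function.Bijective (g.residueFieldMap u)) :
    (nilradical (U.presheaf.stalk u)).IsPrime := by
  letI algAB : Algebra (X.presheaf.stalk (g u)) (U.presheaf.stalk u) :=
    (g.stalkMap u).hom.toAlgebra
  haveI : IsLocalHom (algebraMap (X.presheaf.stalk (g u)) (U.presheaf.stalk u)) :=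
    inferInstanceAs (IsLocalHom (g.stalkMap u).hom)
  have hEE := isEssentiallyEtale_stalkMap g u
  have hstrict : EGA4loc.IsStrictlyEssentiallyEtale (X.presheaf.stalk (g u))
      (U.presheaf.stalk u) := ⟨hEE, hres⟩
  obtain ⟨i, ⟨ε⟩⟩ := Hz.exists_idx (U.presheaf.stalk u) hstrict
  have h1 : CAlgX.HasUniqueMinimalPrime (Hz.Rh (X.presheaf.stalk (g u))) :=
    (Groth.Agent.S2052.result (A := X.presheaf.stalk (g u))
      (Ah := Hz.Rh (X.presheaf.stalk (g u)))).mp hA
  have hnil : (nilradical (Hz.Rh (X.presheaf.stalk (g u)))).IsPrime :=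
    Groth.Agent.S2052.isPrime_nilradical_of_hasUniqueMinimalPrime _ h1
  have hinjL : Function.Injective (Hz.ofL i) := by
    letI := (Hz.ofL i).toAlgebra
    haveI : IsLocalHom (algebraMap i.L (Hz.Rh (X.presheaf.stalk (g u)))) :=
      inferInstanceAs (IsLocalHom (Hz.ofL i))
    haveI : Module.Flat i.L (Hz.Rh (X.presheaf.stalk (g u))) := Hz.flat_over_L i
    haveI : Module.FaithfullyFlat i.L (Hz.Rh (X.presheaf.stalk (g u))) :=
      Module.FaithfullyFlat.of_flat_of_isLocalHom
    exact FaithfulSMul.algebraMap_injective i.L (Hz.Rh (X.presheaf.stalk (g u)))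
  exact EtGU.nilradical_isPrime_of_injective
    ((Hz.ofL i).comp (ε : U.presheaf.stalk u →+* i.L)) (hinjL.comp ε.injective) hnil



open IsLocalRing Groth.Agent.Lib.Helper3 in
-- residue fields: a point of an étale algebra mapping to the closed point of the henselization
-- has trivial residue field extension
theorem bijective_residueField_map_of_hz (R0 A E : Type u) [CommRing R0] [CommRing A]
    [IsLocalRing A] [Algebra R0 A] (P : Ideal R0) [P.IsPrime] [IsLocalization.AtPrime A P]
    [CommRing E] [Algebra R0 E] [Algebra R0 (Hz.Rh A)] [IsScalarTower R0 A (Hz.Rh A)]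
    (g : E →ₐ[R0] Hz.Rh A) (Q : Ideal E) [Q.IsPrime]
    (hQ : Q = (maximalIdeal (Hz.Rh A)).comap g.toRingHom) (φ : R0 →+* E)
    (hφ : φ = algebraMap R0 E) (hPQ : P = Q.comap φ) :
    Function.Bijective (Ideal.ResidueField.map P Q φ hPQ) := by
  refine ⟨RingHom.injective _, ?_⟩
  have key : ∀ e : E, algebraMap E Q.ResidueField e ∈
      (Ideal.ResidueField.map P Q φ hPQ).fieldRange := by
    intro e
    obtain ⟨a, ha⟩ := Hz.exists_sub_mem_maximalIdeal (g e)
    obtain ⟨⟨r, t⟩, hrt⟩ := IsLocalization.surj P.primeCompl a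
    have htQ : φ (t : R0) ∉ Q := by
      intro h
      have : (t : R0) ∈ Q.comap φ := h
      rw [← hPQ] at this
      exact t.2 this
    have hmem : φ (t : R0) * e - φ r ∈ Q := by
      rw [hQ, Ideal.mem_comap]
      show g (φ (t : R0) * e - φ r) ∈ _
      rw [hφ, map_sub, map_mul, g.commutes, g.commutes]
      have h1 : algebraMap R0 (Hz.Rh A) (t : R0) * g e - algebraMap R0 (Hz.Rh A) r =
          algebraMap R0 (Hz.Rh A) (t : R0) * (g e - algebraMap A (Hz.Rh A) a) := by
        rw [IsScalarTower.algebraMap_apply R0 A (Hz.Rh A) r, ← hrt, map_mul,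
          ← IsScalarTower.algebraMap_apply R0 A (Hz.Rh A)]
        ring
      rw [h1]
      exact Ideal.mul_mem_left _ _ ha
    have h2 : algebraMap E Q.ResidueField (φ (t : R0)) * algebraMap E Q.ResidueField e =
        algebraMap E Q.ResidueField (φ r) := by
      have := Ideal.algebraMap_residueField_eq_zero.mpr hmem
      rw [map_sub, map_mul, sub_eq_zero] at this
      exact this
    have h3 : algebraMap E Q.ResidueField (φ (t : R0)) ≠ 0 := by
      intro h
      exact htQ (Ideal.algebraMap_residueField_eq_zero.mp h)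
    have h4 : algebraMap E Q.ResidueField e =
        algebraMap E Q.ResidueField (φ r) / algebraMap E Q.ResidueField (φ (t : R0)) := by
      rw [eq_div_iff h3, mul_comm]
      exact h2
    rw [h4, ← Ideal.ResidueField.map_algebraMap P Q φ hPQ, ← Ideal.ResidueField.map_algebraMap P Q φ hPQ]
    exact div_mem ⟨_, rfl⟩ ⟨_, rfl⟩
  intro z
  obtain ⟨a, b, -, rfl⟩ := IsFractionRing.div_surjective (A := E ⧸ Q) z
  obtain ⟨a', rfl⟩ := Ideal.Quotient.mk_surjective a
  obtain ⟨b', rfl⟩ := Ideal.Quotient.mk_surjective b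
  have ha' := key a'
  have hb' := key b'
  have := div_mem ha' hb'
  rw [IsScalarTower.algebraMap_apply E (E ⧸ Q) Q.ResidueField,
    IsScalarTower.algebraMap_apply E (E ⧸ Q) Q.ResidueField] at this
  exact this

open AlgebraicGeometry CategoryTheory Limits IsLocalRing Groth.Agent.Lib.Helper3
  Groth.Agent.Lib.Helper3.IndEt Groth.Agent.Lib.Helper3.PuncConn Groth.Agent.Lib.Helper3.EtNbhd in
theorem isUnibranch_of_forall_etaleNbhd (X : Scheme.{u}) (x : X)
    (hyp : ∀ (U : Scheme.{u}) (g : U ⟶ X) (u : U), Hens2.IsEtaleNbhd g u x →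
      {Z : Set ↑U | Z ∈ irreducibleComponents ↑U ∧ u ∈ Z}.encard = 1) :
    CAlg2.IsUnibranch (X.presheaf.stalk x) := by
  obtain ⟨V, hV, hxV, -⟩ := TopologicalSpace.Opens.isBasis_iff_nbhd.mp X.isBasis_affineOpens
    (TopologicalSpace.Opens.mem_top x)
  have hV' : IsAffineOpen V := hV
  letI : Algebra Γ(X, V) (X.presheaf.stalk x) :=
    TopCat.Presheaf.algebra_section_stalk X.presheaf ⟨x, hxV⟩
  haveI hloc : IsLocalization.AtPrime (X.presheaf.stalk x) (hV'.primeIdealOf ⟨x, hxV⟩).asIdeal :=
    hV'.isLocalization_stalk ⟨x, hxV⟩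
  rw [Groth.Agent.S2052.result (A := X.presheaf.stalk x) (Ah := Hz.Rh (X.presheaf.stalk x))]
  letI : Algebra Γ(X, V) (Hz.Rh (X.presheaf.stalk x)) :=
    ((algebraMap (X.presheaf.stalk x) (Hz.Rh (X.presheaf.stalk x))).comp
      (algebraMap Γ(X, V) (X.presheaf.stalk x))).toAlgebra
  haveI : IsScalarTower Γ(X, V) (X.presheaf.stalk x) (Hz.Rh (X.presheaf.stalk x)) :=
    IsScalarTower.of_algebraMap_eq (fun _ => rfl)
  have hA : EtPBC.IsIndEtale Γ(X, V) (X.presheaf.stalk x) :=
    isIndEtale_of_factor (factor_of_isLocalization Γ(X, V)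
      (hV'.primeIdealOf ⟨x, hxV⟩).asIdeal.primeCompl (X.presheaf.stalk x))
  have hS : EtPBC.IsIndEtale Γ(X, V) (Hz.Rh (X.presheaf.stalk x)) :=
    isIndEtale_comp Γ(X, V) (X.presheaf.stalk x) (Hz.Rh (X.presheaf.stalk x)) hA
      (isIndEtale_Rh (X.presheaf.stalk x))
  have HF : Obj.Factor Γ(X, V) (Hz.Rh (X.presheaf.stalk x)) := factor_of_isIndEtale hS
  have hcomap : (maximalIdeal (Hz.Rh (X.presheaf.stalk x))).comap
      (algebraMap Γ(X, V) (Hz.Rh (X.presheaf.stalk x))) =
      (hV'.primeIdealOf ⟨x, hxV⟩).asIdeal := by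
    rw [IsScalarTower.algebraMap_eq Γ(X, V) (X.presheaf.stalk x) (Hz.Rh (X.presheaf.stalk x)),
      ← Ideal.comap_comap,
      ((local_hom_TFAE (algebraMap (X.presheaf.stalk x) (Hz.Rh (X.presheaf.stalk x)))).out 0 4
        rfl rfl).mp inferInstance]
    exact IsLocalization.AtPrime.under_maximalIdeal (X.presheaf.stalk x) _
  have hL : LNP (maximalIdeal (Hz.Rh (X.presheaf.stalk x))) := by
    apply lnp_of_factor' Γ(X, V) (Hz.Rh (X.presheaf.stalk x)) HF
    intro E _ _ _ g
    haveI : ((maximalIdeal (Hz.Rh (X.presheaf.stalk x))).comap g.toRingHom).IsPrime :=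
      Ideal.comap_isPrime _ _
    let gU : Spec (CommRingCat.of E) ⟶ X :=
      Spec.map (CommRingCat.ofHom (algebraMap Γ(X, V) E)) ≫ hV'.fromSpec
    have hgU : Etale gU := by
      haveI : Etale (Spec.map (CommRingCat.ofHom (algebraMap Γ(X, V) E))) := by
        rw [HasRingHomProperty.Spec_iff (P := @Etale)]
        exact RingHom.etale_algebraMap.mpr inferInstance
      infer_instance
    let u : Spec (CommRingCat.of E) :=
      ⟨(maximalIdeal (Hz.Rh (X.presheaf.stalk x))).comap g.toRingHom, inferInstance⟩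
    have hPQ : (hV'.primeIdealOf ⟨x, hxV⟩).asIdeal =
        ((maximalIdeal (Hz.Rh (X.presheaf.stalk x))).comap g.toRingHom).comap
          (algebraMap Γ(X, V) E) := by
      rw [← hcomap, Ideal.comap_comap]
      congr 1
      ext r
      exact (g.commutes r).symm
    have hu : gU u = x := by
      have h1 : (Spec.map (CommRingCat.ofHom (algebraMap Γ(X, V) E))) u =
          hV'.primeIdealOf ⟨x, hxV⟩ := by
        apply PrimeSpectrum.ext
        exact hPQ.symm
      show hV'.fromSpec ((Spec.map (CommRingCat.ofHom (algebraMap Γ(X, V) E))) u) = x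
      rw [h1]
      exact hV'.fromSpec_primeIdealOf ⟨x, hxV⟩
    have hres : Function.Bijective (gU.residueFieldMap u) := by
      apply Groth.Agent.Lib.Helper20.ResFld.bijective_residueFieldMap_comp
      · apply Groth.Agent.Lib.Helper20.ResFld.bijective_residueFieldMap_SpecMap
          (CommRingCat.ofHom (algebraMap Γ(X, V) E)) u (hV'.primeIdealOf ⟨x, hxV⟩).asIdeal hPQ
        exact bijective_residueField_map_of_hz Γ(X, V) (X.presheaf.stalk x) E
          (hV'.primeIdealOf ⟨x, hxV⟩).asIdeal g _ rfl _ rfl hPQ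
      · exact Groth.Agent.Lib.Helper20.ResFld.bijective_residueFieldMap_of_isOpenImmersion _ _
    have h1 := hyp (Spec (CommRingCat.of E)) gU u ⟨hgU, hu, hres⟩
    have h2 := unique_minimalPrimes_le_of_encard E u h1
    exact lnp_of_nilradical_isPrime _ (nilradical_isPrime_of_unique _ h2)
  obtain ⟨P0, ⟨hP0, -⟩, huniq⟩ :=
    existsUnique_minimalPrimes_le_of_lnp (maximalIdeal (Hz.Rh (X.presheaf.stalk x))) hL
  exact ⟨P0, hP0, fun P' hP' => huniq P' ⟨hP', le_maximalIdeal hP'.1.1.ne_top⟩⟩

open AlgebraicGeometry CategoryTheory Limits in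
/-- The local ring of X at x is unibranch exactly when, for each étale morphism g : U ⟶ X and point u
over x with trivial residue field extension (an elementary étale neighbourhood), the point u lies on
a single irreducible component of U. -/
theorem result (X : Scheme.{u}) (x : X) :
    CAlg2.IsUnibranch ↑(X.presheaf.stalk x) ↔ ∀ (U : Scheme.{u}) (g : U ⟶ X) (u : U), Hens2.IsEtaleNbhd g u x →
      {Z : Set ↑U | Z ∈ irreducibleComponents ↑U ∧ u ∈ Z}.encard = 1 := by
  constructor
  · intro h U g u hN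
    obtain ⟨hg, hgu, hres⟩ := hN
    haveI := hg
    subst hgu
    apply Groth.Agent.Lib.Helper3.EtNbhd.encard_eq_one_of_nilradical_isPrime
    exact nilradical_isPrime_of_isEtaleNbhd g u h hres
  · exact isUnibranch_of_forall_etaleNbhd X x

end Groth.Agent.S9781
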