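import Groth.Statements.S10441
import Groth.Agent.Lib.Helper3ElemNbD
import Groth.Agent.Lib.Helper3OEtShF
import Groth.Agent.S9753
import Groth.Agent.S9781
import Groth.Agent.S2052
import Groth.Agent.S9235
import Mathlib

set_option autoImplicit false
set_option linter.style.haveILetI false
universe u
open CategoryTheory CategoryTheory.Limits AlgebraicGeometry Topology TopologicalSpace
open AlgSp

namespace Groth.Agent.S10441

/-- For a decent algebraic space X over a scheme S and x ∈ |X|, fix an elementary etale neighbourhood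
(U₀, u₀) of (X, x) and a henselization R of O_{U₀, u₀} (a model of the henselian local ring at x).
The following are equivalent: (1) O_{U, u} has exactly one minimal prime whenever (U, u) is an
elementary etale neighbourhood of (X, x); (2) a unique irreducible component of U passes through u
for all such (U, u); (3) O_{U, u} is unibranch for all such (U, u); (4) R has exactly one minimal
prime. -/
theorem result {S : Scheme.{u}} (X : AlgSp.Space S)
    (hX : AlgSp.IsDecent X.obj) (x : AlgSp.Points X.obj) {U₀ : Over S}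
    (a₀ : (AlgSp.yon S).obj U₀ ⟶ X.obj) (u₀ : ↥U₀.left) (h₀ : AlgSp.IsElemEtaleNbhd a₀ u₀ x)
    (R : Type u) [CommRing R] [IsLocalRing R] [Algebra ↥(U₀.left.presheaf.stalk u₀) R]
    [IsLocalHom (algebraMap ↥(U₀.left.presheaf.stalk u₀) R)] [Hensel.IsHenselization ↥(U₀.left.presheaf.stalk u₀) R] :
    ((∀ (U : Over S) (a : (AlgSp.yon S).obj U ⟶ X.obj) (u : ↥U.left), AlgSp.IsElemEtaleNbhd a u x →
        CAlgX.HasUniqueMinimalPrime ↥(U.left.presheaf.stalk u)) ↔
      (∀ (U : Over S) (a : (AlgSp.yon S).obj U ⟶ X.obj) (u : ↥U.left), AlgSp.IsElemEtaleNbhd a u x →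
        {Z : Set ↥U.left | Z ∈ irreducibleComponents ↥U.left ∧ u ∈ Z}.encard = 1)) ∧
    ((∀ (U : Over S) (a : (AlgSp.yon S).obj U ⟶ X.obj) (u : ↥U.left), AlgSp.IsElemEtaleNbhd a u x →
        {Z : Set ↥U.left | Z ∈ irreducibleComponents ↥U.left ∧ u ∈ Z}.encard = 1) ↔
      (∀ (U : Over S) (a : (AlgSp.yon S).obj U ⟶ X.obj) (u : ↥U.left), AlgSp.IsElemEtaleNbhd a u x →
        CAlg2.IsUnibranch ↥(U.left.presheaf.stalk u))) ∧
    ((∀ (U : Over S) (a : (AlgSp.yon S).obj U ⟶ X.obj) (u : ↥U.left), AlgSp.IsElemEtaleNbhd a u x →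
        CAlg2.IsUnibranch ↥(U.left.presheaf.stalk u)) ↔ CAlgX.HasUniqueMinimalPrime R) := by
  open Groth.Agent.Lib.Helper3.ElemNb Groth.Agent.Lib.Helper3.OEtSh in
  refine ⟨?_, ⟨?_, ?_⟩, ⟨?_, ?_⟩⟩
  · simp only [hasUniqueMinimalPrime_iff_encard, Groth.Agent.S9753.encard_components_eq]
  · intro hC2 U a u hN
    rw [Groth.Agent.S9781.result U.left u]
    intro V k v hk
    exact hC2 (Over.mk (k ≫ U.hom)) _ v (isElemEtaleNbhd_comp a u hN k v hk)
  · intro hC3 U a u hN
    refine (Groth.Agent.S9781.result U.left u).1 (hC3 U a u hN) U.left (𝟙 _) u ⟨inferInstance, rfl, ?_⟩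
    rw [Scheme.residueFieldMap_id]
    exact Function.bijective_id
  · intro hC3
    exact (Groth.Agent.S2052.result (A := ↥(U₀.left.presheaf.stalk u₀)) (Ah := R)).1 (hC3 U₀ a₀ u₀ h₀)
  · intro hC4 U a u hN
    rw [← Groth.Agent.S9235.result, numBranches_eq a a₀ u u₀ hN h₀, Groth.Agent.S9235.result]
    exact (Groth.Agent.S2052.result (A := ↥(U₀.left.presheaf.stalk u₀)) (Ah := R)).2 hC4

end Groth.Agent.S10441
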