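import Groth.Statements.S9752
import Groth.Agent.Lib.Helper3EtNbhdA
import Groth.Agent.Lib.Helper3EtNbhdB
import Groth.Agent.Lib.Helper3EtNbhdC
import Groth.Agent.Lib.Helper3EtNbhdD
import Groth.Agent.Lib.Helper3IndEtHz
import Groth.Agent.Lib.Helper20ResFld
import Groth.Agent.S9781
import Groth.Agent.S9753
import Mathlib

set_option autoImplicit false
universe u
open Brnch

namespace Groth.Agent.S9752

open AlgebraicGeometry CategoryTheory Limits IsLocalRing Groth.Agent.Lib.Helper3
  Groth.Agent.Lib.Helper3.IndEt Groth.Agent.Lib.Helper3.PuncConn Groth.Agent.Lib.Helper3.EtNbhd in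
theorem le_iSup_etale (X : Scheme.{u}) (x : X) :
    Brnch.numBranchesAt X x ≤ ⨆ (U : Scheme.{u}) (g : U ⟶ X) (u : U) (_ : Hens2.IsEtaleNbhd g u x),
      {Z : Set ↑U | Z ∈ irreducibleComponents ↑U ∧ u ∈ Z}.encard := by
  obtain ⟨V, hV, hxV, -⟩ := TopologicalSpace.Opens.isBasis_iff_nbhd.mp X.isBasis_affineOpens
    (TopologicalSpace.Opens.mem_top x)
  have hV' : IsAffineOpen V := hV
  letI : Algebra Γ(X, V) (X.presheaf.stalk x) :=
    TopCat.Presheaf.algebra_section_stalk X.presheaf ⟨x, hxV⟩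
  haveI hloc : IsLocalization.AtPrime (X.presheaf.stalk x) (hV'.primeIdealOf ⟨x, hxV⟩).asIdeal :=
    hV'.isLocalization_stalk ⟨x, hxV⟩
  show Brnch.numBranches (X.presheaf.stalk x) ≤ _
  rw [← Groth.Agent.S9237.result (X.presheaf.stalk x) (Hz.Rh (X.presheaf.stalk x))]
  letI : Algebra Γ(X, V) (Hz.Rh (X.presheaf.stalk x)) :=
    ((algebraMap (X.presheaf.stalk x) (Hz.Rh (X.presheaf.stalk x))).comp (algebraMap Γ(X, V) (X.presheaf.stalk x))).toAlgebra
  haveI : IsScalarTower Γ(X, V) (X.presheaf.stalk x) (Hz.Rh (X.presheaf.stalk x)) :=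
    IsScalarTower.of_algebraMap_eq (fun _ => rfl)
  have hA : EtPBC.IsIndEtale Γ(X, V) (X.presheaf.stalk x) :=
    isIndEtale_of_factor (factor_of_isLocalization Γ(X, V)
      (hV'.primeIdealOf ⟨x, hxV⟩).asIdeal.primeCompl (X.presheaf.stalk x))
  have hS : EtPBC.IsIndEtale Γ(X, V) (Hz.Rh (X.presheaf.stalk x)) :=
    isIndEtale_comp Γ(X, V) (X.presheaf.stalk x) (Hz.Rh (X.presheaf.stalk x)) hA
      (isIndEtale_Rh (X.presheaf.stalk x))
  have HF : Obj.Factor Γ(X, V) (Hz.Rh (X.presheaf.stalk x)) := factor_of_isIndEtale hS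
  have hcomap : (maximalIdeal (Hz.Rh (X.presheaf.stalk x))).comap (algebraMap Γ(X, V) (Hz.Rh (X.presheaf.stalk x))) =
      (hV'.primeIdealOf ⟨x, hxV⟩).asIdeal := by
    rw [IsScalarTower.algebraMap_eq Γ(X, V) (X.presheaf.stalk x) (Hz.Rh (X.presheaf.stalk x)), ← Ideal.comap_comap,
      ((local_hom_TFAE (algebraMap (X.presheaf.stalk x) (Hz.Rh (X.presheaf.stalk x)))).out 0 4 rfl rfl).mp inferInstance]
    exact IsLocalization.AtPrime.under_maximalIdeal (X.presheaf.stalk x) _
  rw [← ENat.forall_natCast_le_iff_le]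
  intro n hn
  obtain ⟨t, hts, htn⟩ := Set.exists_subset_encard_eq (s := minimalPrimes (Hz.Rh (X.presheaf.stalk x))) (k := (n : ℕ∞)) hn
  have htfin : t.Finite := Set.finite_of_encard_eq_coe htn
  have hcard : (htfin.toFinset.card : ℕ∞) = n := by
    rw [← htfin.encard_eq_coe_toFinset_card, htn]
  obtain ⟨E, _, _, _, g, hle⟩ := exists_etale_card_le Γ(X, V) (Hz.Rh (X.presheaf.stalk x)) HF htfin.toFinset
    (fun P hP => hts (htfin.mem_toFinset.mp hP)) (maximalIdeal (Hz.Rh (X.presheaf.stalk x)))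
    (fun P hP => le_maximalIdeal (hts (htfin.mem_toFinset.mp hP)).1.1.ne_top)
  rw [hcard] at hle
  haveI : ((maximalIdeal (Hz.Rh (X.presheaf.stalk x))).comap g.toRingHom).IsPrime := Ideal.comap_isPrime _ _
  let gU : Spec (CommRingCat.of E) ⟶ X :=
    Spec.map (CommRingCat.ofHom (algebraMap Γ(X, V) E)) ≫ hV'.fromSpec
  have hgU : Etale gU := by
    haveI : Etale (Spec.map (CommRingCat.ofHom (algebraMap Γ(X, V) E))) := by
      rw [HasRingHomProperty.Spec_iff (P := @Etale)]
      exact RingHom.etale_algebraMap.mpr inferInstance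
    infer_instance
  let u : Spec (CommRingCat.of E) := ⟨(maximalIdeal (Hz.Rh (X.presheaf.stalk x))).comap g.toRingHom, inferInstance⟩
  have hu : gU u = x := by
    have h1 : (Spec.map (CommRingCat.ofHom (algebraMap Γ(X, V) E))) u =
        hV'.primeIdealOf ⟨x, hxV⟩ := by
      apply PrimeSpectrum.ext
      rw [← hcomap]
      show ((maximalIdeal (Hz.Rh (X.presheaf.stalk x))).comap g.toRingHom).comap (algebraMap Γ(X, V) E) = _
      rw [Ideal.comap_comap]
      congr 1
      ext r
      exact g.commutes r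
    show hV'.fromSpec ((Spec.map (CommRingCat.ofHom (algebraMap Γ(X, V) E))) u) = x
    rw [h1]
    exact hV'.fromSpec_primeIdealOf ⟨x, hxV⟩
  have hPQ : (hV'.primeIdealOf ⟨x, hxV⟩).asIdeal =
      ((maximalIdeal (Hz.Rh (X.presheaf.stalk x))).comap g.toRingHom).comap
        (algebraMap Γ(X, V) E) := by
    rw [← hcomap, Ideal.comap_comap]
    congr 1
    ext r
    exact (g.commutes r).symm
  have hres : Function.Bijective (gU.residueFieldMap u) := by
    apply Groth.Agent.Lib.Helper20.ResFld.bijective_residueFieldMap_comp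
    · apply Groth.Agent.Lib.Helper20.ResFld.bijective_residueFieldMap_SpecMap
        (CommRingCat.ofHom (algebraMap Γ(X, V) E)) u (hV'.primeIdealOf ⟨x, hxV⟩).asIdeal hPQ
      exact Groth.Agent.S9781.bijective_residueField_map_of_hz Γ(X, V) (X.presheaf.stalk x) E
        (hV'.primeIdealOf ⟨x, hxV⟩).asIdeal g _ rfl _ rfl hPQ
    · exact Groth.Agent.Lib.Helper20.ResFld.bijective_residueFieldMap_of_isOpenImmersion _ _
  refine hle.trans ((encard_minimalPrimes_le_encard_components E u).trans ?_)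
  exact le_iSup_of_le (Spec (CommRingCat.of E)) (le_iSup_of_le gU (le_iSup_of_le u
    (le_iSup_of_le ⟨hgU, hu, hres⟩ le_rfl)))

open AlgebraicGeometry CategoryTheory Limits in
/-- For a point x of a scheme X, the branch count of X at x (in ℕ∞) is the least upper bound, taken over
all elementary étale neighbourhoods (U, u) → (X, x) (g : U ⟶ X étale with g u = x and trivial
residue field extension), of how many irreducible components of U contain u. -/
theorem result (X : Scheme.{u}) (x : X) :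
    Brnch.numBranchesAt X x = ⨆ (U : Scheme.{u}) (g : U ⟶ X) (u : U) (_ : Hens2.IsEtaleNbhd g u x),
      {Z : Set ↑U | Z ∈ irreducibleComponents ↑U ∧ u ∈ Z}.encard := by
  apply le_antisymm (le_iSup_etale X x)
  refine iSup_le fun U => iSup_le fun g => iSup_le fun u => iSup_le fun h => ?_
  obtain ⟨hg, hgu, hres⟩ := h
  haveI := hg
  subst hgu
  rw [Groth.Agent.S9753.encard_components_eq]
  letI := (g.stalkMap u).hom.toAlgebra
  haveI : IsLocalHom (algebraMap (X.presheaf.stalk (g u)) (U.presheaf.stalk u)) :=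
    inferInstanceAs (IsLocalHom (g.stalkMap u).hom)
  exact Groth.Agent.Lib.Helper3.EtNbhd.card_minimalPrimes_le_numBranches
    (X.presheaf.stalk (g u)) (U.presheaf.stalk u)
    ⟨Groth.Agent.Lib.Helper3.EtNbhd.isEssentiallyEtale_stalkMap g u, hres⟩

end Groth.Agent.S9752
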