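import Groth.Statements.S10442
import Groth.Agent.Lib.Helper3ElemNbD
import Groth.Agent.S9753
import Groth.Agent.S9752
import Groth.Agent.S9237
import Mathlib

set_option autoImplicit false
set_option linter.style.haveILetI false
universe u
open CategoryTheory CategoryTheory.Limits AlgebraicGeometry Topology TopologicalSpace
open AlgSp

namespace Groth.Agent.S10442

/-- For a decent algebraic space X over a scheme S, x ∈ |X| and n ≥ 1, fix an elementary etale
neighbourhood (U₀, u₀) of (X, x) and a henselization R of O_{U₀, u₀} (a model of the henselian local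
ring at x). The following are equivalent: (1) over all elementary etale neighbourhoods (U, u) of (X,
x), O_{U, u} has at most n minimal primes, with the value n attained; (2) the same for the number of
irreducible components of U through u; (3) the same for the branch number of U at u; (4) R has
exactly n minimal primes. -/
theorem result {S : Scheme.{u}} (X : AlgSp.Space S)
    (hX : AlgSp.IsDecent X.obj) (x : AlgSp.Points X.obj) (n : ℕ) (hn : 1 ≤ n) {U₀ : Over S}
    (a₀ : (AlgSp.yon S).obj U₀ ⟶ X.obj) (u₀ : ↥U₀.left) (h₀ : AlgSp.IsElemEtaleNbhd a₀ u₀ x)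
    (R : Type u) [CommRing R] [IsLocalRing R] [Algebra ↥(U₀.left.presheaf.stalk u₀) R]
    [IsLocalHom (algebraMap ↥(U₀.left.presheaf.stalk u₀) R)] [Hensel.IsHenselization ↥(U₀.left.presheaf.stalk u₀) R] :
    (((∀ (U : Over S) (a : (AlgSp.yon S).obj U ⟶ X.obj) (u : ↥U.left), AlgSp.IsElemEtaleNbhd a u x →
        (minimalPrimes ↥(U.left.presheaf.stalk u)).encard ≤ n) ∧
      (∃ (U : Over S) (a : (AlgSp.yon S).obj U ⟶ X.obj) (u : ↥U.left), AlgSp.IsElemEtaleNbhd a u x ∧
        (minimalPrimes ↥(U.left.presheaf.stalk u)).encard = n)) ↔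
     ((∀ (U : Over S) (a : (AlgSp.yon S).obj U ⟶ X.obj) (u : ↥U.left), AlgSp.IsElemEtaleNbhd a u x →
        {Z : Set ↥U.left | Z ∈ irreducibleComponents ↥U.left ∧ u ∈ Z}.encard ≤ n) ∧
      (∃ (U : Over S) (a : (AlgSp.yon S).obj U ⟶ X.obj) (u : ↥U.left), AlgSp.IsElemEtaleNbhd a u x ∧
        {Z : Set ↥U.left | Z ∈ irreducibleComponents ↥U.left ∧ u ∈ Z}.encard = n))) ∧
    (((∀ (U : Over S) (a : (AlgSp.yon S).obj U ⟶ X.obj) (u : ↥U.left), AlgSp.IsElemEtaleNbhd a u x →
        {Z : Set ↥U.left | Z ∈ irreducibleComponents ↥U.left ∧ u ∈ Z}.encard ≤ n) ∧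
      (∃ (U : Over S) (a : (AlgSp.yon S).obj U ⟶ X.obj) (u : ↥U.left), AlgSp.IsElemEtaleNbhd a u x ∧
        {Z : Set ↥U.left | Z ∈ irreducibleComponents ↥U.left ∧ u ∈ Z}.encard = n)) ↔
     ((∀ (U : Over S) (a : (AlgSp.yon S).obj U ⟶ X.obj) (u : ↥U.left), AlgSp.IsElemEtaleNbhd a u x →
        Brnch.numBranchesAt U.left u ≤ n) ∧
      (∃ (U : Over S) (a : (AlgSp.yon S).obj U ⟶ X.obj) (u : ↥U.left), AlgSp.IsElemEtaleNbhd a u x ∧
        Brnch.numBranchesAt U.left u = n))) ∧
    (((∀ (U : Over S) (a : (AlgSp.yon S).obj U ⟶ X.obj) (u : ↥U.left), AlgSp.IsElemEtaleNbhd a u x →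
        Brnch.numBranchesAt U.left u ≤ n) ∧
      (∃ (U : Over S) (a : (AlgSp.yon S).obj U ⟶ X.obj) (u : ↥U.left), AlgSp.IsElemEtaleNbhd a u x ∧
        Brnch.numBranchesAt U.left u = n)) ↔
     (minimalPrimes R).encard = n) := by
  open Groth.Agent.Lib.Helper3.ElemNb in
  -- number of components through a point is at most the number of branches
  have hge : ∀ (V : Scheme.{u}) (v : V),
      {Z : Set ↥V | Z ∈ irreducibleComponents ↥V ∧ v ∈ Z}.encard ≤ Brnch.numBranchesAt V v := by
    intro V v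
    rw [Groth.Agent.S9752.result V v]
    refine le_iSup_of_le V (le_iSup_of_le (𝟙 V) (le_iSup_of_le v (le_iSup_of_le ⟨inferInstance, rfl, ?_⟩ le_rfl)))
    rw [Scheme.residueFieldMap_id]
    exact Function.bijective_id
  -- the number of branches is the same for all elementary etale neighbourhoods
  have hb : ∀ (U : Over S) (a : (AlgSp.yon S).obj U ⟶ X.obj) (u : ↥U.left),
      AlgSp.IsElemEtaleNbhd a u x → Brnch.numBranchesAt U.left u = (minimalPrimes R).encard := by
    intro U a u hN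
    change Brnch.numBranches ↥(U.left.presheaf.stalk u) = _
    rw [numBranches_eq a a₀ u u₀ hN h₀, ← Groth.Agent.S9237.result ↥(U₀.left.presheaf.stalk u₀) R]
    rfl
  refine ⟨?_, ⟨?_, ?_⟩, ⟨?_, ?_⟩⟩
  · simp only [Groth.Agent.S9753.encard_components_eq]
  · rintro ⟨hle, U, a, u, hN, hc⟩
    have hle' : ∀ (U : Over S) (a : (AlgSp.yon S).obj U ⟶ X.obj) (u : ↥U.left),
        AlgSp.IsElemEtaleNbhd a u x → Brnch.numBranchesAt U.left u ≤ n := by
      intro U a u hN
      rw [Groth.Agent.S9752.result U.left u]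
      refine iSup_le fun V => iSup_le fun k => iSup_le fun v => iSup_le fun hk => ?_
      exact hle (Over.mk (k ≫ U.hom)) _ v (isElemEtaleNbhd_comp a u hN k v hk)
    refine ⟨hle', U, a, u, hN, le_antisymm (hle' U a u hN) ?_⟩
    rw [← hc]
    exact hge U.left u
  · rintro ⟨hle, U, a, u, hN, hnb⟩
    refine ⟨fun U a u hN => (hge U.left u).trans (hle U a u hN), ?_⟩
    by_contra hcon
    push Not at hcon
    have hlt : Brnch.numBranchesAt U.left u ≤ ((n - 1 : ℕ) : ℕ∞) := by
      rw [Groth.Agent.S9752.result U.left u]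
      refine iSup_le fun V => iSup_le fun k => iSup_le fun v => iSup_le fun hk => ?_
      have hN' := isElemEtaleNbhd_comp a u hN k v hk
      have h1 := (hge V v).trans (hle (Over.mk (k ≫ U.hom)) _ v hN')
      have h2 := hcon (Over.mk (k ≫ U.hom)) _ v hN'
      have h3 : {Z : Set ↥V | Z ∈ irreducibleComponents ↥V ∧ v ∈ Z}.encard < ((n - 1 : ℕ) : ℕ∞) + 1 := by
        have : ((n - 1 : ℕ) : ℕ∞) + 1 = (n : ℕ∞) := by
          have h4 : (n - 1) + 1 = n := Nat.sub_add_cancel hn
          exact_mod_cast congrArg (Nat.cast : ℕ → ℕ∞) h4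
        rw [this]
        exact lt_of_le_of_ne h1 h2
      exact (ENat.lt_natCast_add_one_iff).1 h3
    rw [hnb, Nat.cast_le] at hlt
    omega
  · rintro ⟨hle, U, a, u, hN, hnb⟩
    rw [← hb U a u hN]
    exact hnb
  · intro hD4
    exact ⟨fun U a u hN => ((hb U a u hN).trans hD4).le, U₀, a₀, u₀, h₀, (hb U₀ a₀ u₀ h₀).trans hD4⟩

end Groth.Agent.S10442
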