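import Groth.Statements.S1046
import Groth.Agent.Lib.Helper17GammaZSupp
-- import your own Groth.Agent.* helpers here

set_option autoImplicit false
universe u
open CategoryTheory CategoryTheory.Limits AlgebraicGeometry
attribute [local instance] HasDerivedCategory.standard
open Perf

namespace Groth.Agent.S1046

/-- Let U ⊆ X be an open subscheme with quasi-compact inclusion and T = X ∖ U. Assuming O_X-modules have
enough injectives (true, not recorded), for every bounded below E ∈ D(O_X) with quasi-coherent
cohomology sheaves, the derived sections with support RΓ_T(E) (right derived functor of F ↦ ker(F →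
j_*(F|_U))) has quasi-coherent cohomology sheaves, all supported on T. -/
theorem result (X : Scheme.{u}) (U : X.Opens) [QuasiCompact U.ι] [EnoughInjectives X.Modules]
    (E : DerivedCategory.Plus X.Modules) (hE : DCoh.IsQCohD E.obj) :
    DCoh.IsQCohD ((DCoh.RgammaZPlus U.ι).obj E).obj ∧
    ∀ i : ℤ, CohB1.support (DCoh.HD ((DCoh.RgammaZPlus U.ι).obj E).obj i) ⊆ (U : Set X)ᶜ := by
  haveI : HasInjectiveResolutions X.Modules := inferInstance
  constructor
  · intro i
    exact Groth.Agent.Lib.Helper17.PlusSerre.prop_homology_rightDerivedFunctorPlus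
      (DCoh.gammaZ U.ι) (fun M : X.Modules => M.IsQuasicoherent)
      (fun M : X.Modules => M.IsQuasicoherent)
      (fun N hN j => by
        haveI : N.IsQuasicoherent := hN
        exact Groth.Agent.Lib.Helper17.GammaZ.isQuasicoherent_rightDerived_gammaZ U.ι N j)
      E hE i
  · intro i
    apply Groth.Agent.Lib.Helper17.GammaZSupp.support_subset_of_isZero_restrict
    haveI : WSerre.IsWeakSerre
        (fun M : X.Modules => IsZero ((Scheme.Modules.restrictFunctor U.ι).obj M)) :=
      Groth.Agent.Lib.Helper17.QCSerre.isWeakSerre_isZero_obj (Scheme.Modules.restrictFunctor U.ι)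
    exact Groth.Agent.Lib.Helper17.PlusSerre.prop_homology_rightDerivedFunctorPlus
      (DCoh.gammaZ U.ι) (⊤ : ObjectProperty X.Modules)
      (fun M : X.Modules => IsZero ((Scheme.Modules.restrictFunctor U.ι).obj M))
      (fun N _ j =>
        Groth.Agent.Lib.Helper17.GammaZSupp.isZero_restrict_rightDerived_gammaZ U N j)
      E (fun _ => trivial) i

end Groth.Agent.S1046
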