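import Groth.Statements.S10465
import Mathlib
import Groth.Agent.Lib.Helper12FieldBC3

set_option autoImplicit false
universe u
open CategoryTheory CategoryTheory.Limits AlgebraicGeometry Topology TopologicalSpace
open AlgSp

namespace Groth.Agent.S10465


open TensorProduct in
/-- a common field extension of two extensions of `k`. -/
lemma exists_compositum (k K k' : Type u) [Field k] [Field K] [Field k'] [Algebra k K] [Algebra k k'] :
    ∃ (Ω : Type u) (_ : Field Ω) (_ : Algebra k Ω) (_ : Algebra k' Ω) (_ : IsScalarTower k k' Ω),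
      Nonempty (K →ₐ[k] Ω) := by
  obtain ⟨m, hm⟩ := Ideal.exists_maximal (K ⊗[k] k')
  letI : Field ((K ⊗[k] k') ⧸ m) := Ideal.Quotient.field m
  letI alg' : Algebra k' ((K ⊗[k] k') ⧸ m) :=
    ((Ideal.Quotient.mk m).comp (Algebra.TensorProduct.includeRight : k' →ₐ[k] K ⊗[k] k').toRingHom).toAlgebra
  refine ⟨(K ⊗[k] k') ⧸ m, inferInstance, inferInstance, alg', ?_, ?_⟩
  · refine IsScalarTower.of_algebraMap_eq' ?_
    ext c
    rw [RingHom.comp_apply, RingHom.algebraMap_toAlgebra, RingHom.comp_apply]
    simp only [AlgHom.toRingHom_eq_coe, RingHom.coe_coe, AlgHom.commutes]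
    rfl
  · exact ⟨(Ideal.Quotient.mkₐ k m).comp (Algebra.TensorProduct.includeLeft : K →ₐ[k] K ⊗[k] k')⟩



/-- For a field extension k'/k and an algebraic space X over k, geometric connectedness of X over k is
equivalent to geometric connectedness of its base change X_{k'} over k' (the base changes of X_{k'}
to extensions K of k' being the base changes X_K of X, geometric connectedness of X_{k'} over k'
reads: |X_K| is connected for every field K over k'). -/
theorem result (k : Type u) [Field k] (X : AlgSp.Space (Spec (CommRingCat.of k))) (k' : Type u) [Field k'] [Algebra k k'] :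
    (∀ (K : Type u) [Field K] [Algebra k K], ConnectedSpace (AlgSp.Points (X.obj ⨯ (AlgSp.yon (Spec (CommRingCat.of k))).obj (Over.mk (Spec.map (CommRingCat.ofHom (algebraMap k K))))))) ↔
      ∀ (K : Type u) [Field K] [Algebra k K] [Algebra k' K] [IsScalarTower k k' K],
        ConnectedSpace (AlgSp.Points (X.obj ⨯ (AlgSp.yon (Spec (CommRingCat.of k))).obj (Over.mk (Spec.map (CommRingCat.ofHom (algebraMap k K)))))) := by
  constructor
  · intro h K _ _ _ _
    exact h K
  · intro h K _ _
    obtain ⟨Ω, _, _, _, _, ⟨φ⟩⟩ := exists_compositum k K k'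
    haveI := h Ω
    let g : Groth.Agent.Lib.Helper12.FieldBC.ptK k Ω ⟶ Groth.Agent.Lib.Helper12.FieldBC.ptK k K :=
      Over.homMk (Spec.map (CommRingCat.ofHom φ.toRingHom)) (by
        change Spec.map _ ≫ Spec.map _ = Spec.map _
        rw [← Spec.map_comp, ← CommRingCat.ofHom_comp, AlgHom.toRingHom_eq_coe,
          AlgHom.comp_algebraMap])
    exact (Groth.Agent.Lib.Helper12.FieldBC.surjective_map_prod_map X.obj K Ω g).connectedSpace
      (AlgSp.Points.continuous_map _)

end Groth.Agent.S10465
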