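import Groth.Statements.S10468
import Groth.Agent.Lib.Helper5SpCCC

set_option autoImplicit false
universe u
open CategoryTheory CategoryTheory.Limits AlgebraicGeometry Topology TopologicalSpace
open AlgSp

namespace Groth.Agent.S10468

/-- Let k be a field with separable algebraic closure k̄ and X an algebraic space over k. Then X is
geometrically connected if and only if X_{k̄} is connected. -/
theorem result (k : Type u) [Field k] (X : AlgSp.Space (Spec (CommRingCat.of k)))
    (kbar : Type u) [Field kbar] [Algebra k kbar] [IsSepClosure k kbar] :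
    (∀ (K : Type u) [Field K] [Algebra k K], ConnectedSpace (AlgSp.Points (X.obj ⨯ (AlgSp.yon (Spec (CommRingCat.of k))).obj (Over.mk (Spec.map (CommRingCat.ofHom (algebraMap k K))))))) ↔ ConnectedSpace (AlgSp.Points (X.obj ⨯ (AlgSp.yon (Spec (CommRingCat.of k))).obj (Over.mk (Spec.map (CommRingCat.ofHom (algebraMap k kbar)))))) := by
  constructor
  · intro h
    exact h kbar
  · intro h K _ _
    haveI := h
    haveI : IsSepClosed kbar := IsSepClosure.sep_closed k
    obtain ⟨Ω, _, i₁, i₂, hi⟩ :=
      AlgSp.FieldPt.exists_amalgamation (algebraMap k K) (algebraMap k kbar)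
    letI : Algebra k Ω := (i₁.comp (algebraMap k K)).toAlgebra
    letI : Algebra kbar Ω := i₂.toAlgebra
    let g₂ : Groth.Agent.Lib.Helper12.FieldBC.ptK k Ω ⟶ Groth.Agent.Lib.Helper12.FieldBC.ptK k kbar :=
      Over.homMk (Spec.map (CommRingCat.ofHom i₂)) (by
        change Spec.map (CommRingCat.ofHom i₂) ≫ Spec.map (CommRingCat.ofHom (algebraMap k kbar)) =
          Spec.map (CommRingCat.ofHom (i₁.comp (algebraMap k K)))
        rw [← Spec.map_comp, ← CommRingCat.ofHom_comp, hi])
    let g₁ : Groth.Agent.Lib.Helper12.FieldBC.ptK k Ω ⟶ Groth.Agent.Lib.Helper12.FieldBC.ptK k K :=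
      Over.homMk (Spec.map (CommRingCat.ofHom i₁)) (by
        change Spec.map (CommRingCat.ofHom i₁) ≫ Spec.map (CommRingCat.ofHom (algebraMap k K)) =
          Spec.map (CommRingCat.ofHom (i₁.comp (algebraMap k K)))
        rw [← Spec.map_comp, ← CommRingCat.ofHom_comp])
    haveI : ConnectedSpace (AlgSp.Points (X.obj ⨯ (AlgSp.yon (Spec (CommRingCat.of k))).obj
        (Groth.Agent.Lib.Helper12.FieldBC.ptK k Ω))) :=
      Groth.Agent.Lib.Helper5.SpCC.connectedSpace_of_injective_connectedComponentsMap
        (AlgSp.Points.continuous_map _)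
        (Groth.Agent.Lib.Helper12.FieldBC.surjective_map_prod_map X.obj kbar Ω g₂)
        (Groth.Agent.Lib.Helper5.SpCC.bijective_prod_map X.obj kbar Ω g₂ rfl).1
    exact (Groth.Agent.Lib.Helper12.FieldBC.surjective_map_prod_map X.obj K Ω g₁).connectedSpace
      (AlgSp.Points.continuous_map _)

end Groth.Agent.S10468
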