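import Groth.Statements.S10475
import Mathlib
import Groth.Agent.Lib.Helper12GeomRed
import Groth.Agent.S2521

set_option autoImplicit false
universe u
open CategoryTheory CategoryTheory.Limits AlgebraicGeometry Topology TopologicalSpace
open AlgSp

namespace Groth.Agent.S10475





/-- Let k be a perfect field and X a reduced algebraic space over k. Then X is geometrically reduced
over k (geometrically reduced at every point). -/
theorem result (k : Type u) [Field k] [PerfectField k]
    (X : AlgSp.Space (Spec (CommRingCat.of k))) (hX : AlgSp.EtaleLocally (fun U => IsReduced U) X.obj) (x : AlgSp.Points X.obj) :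
    (∃ (U : Over (Spec (CommRingCat.of k))) (a : (AlgSp.yon (Spec (CommRingCat.of k))).obj U ⟶ X.obj) (u : ↥U.left),
      AlgSp.RepWith @Etale a ∧ AlgSp.Points.ofPt a u = x ∧ FBase.IsGeomReducedAt U.hom u) := by
  obtain ⟨U, a, hae, has, hU⟩ := hX
  obtain ⟨u, hu⟩ := Groth.Agent.S10177.surjective_ofPt a has x
  refine ⟨U, a, u, hae, hu, ?_⟩
  haveI : IsReduced U.left := hU
  have hg : Spec.map (CommRingCat.ofHom (algebraMap k k)) = 𝟙 _ := by
    rw [Algebra.algebraMap_self]
    exact Spec.map_id _
  haveI : IsIso (Spec.map (CommRingCat.ofHom (algebraMap k k))) := by rw [hg]; infer_instance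
  haveI : IsIso (FBase.bcπ U.hom k) := by
    unfold FBase.bcπ
    exact pullback_fst_iso_of_right_iso _ _
  haveI : IsReduced (FBase.bc U.hom k) := isReduced_of_isOpenImmersion (FBase.bcπ U.hom k)
  refine Groth.Agent.S2521.result (Ω := k) U.hom u ((inv (FBase.bcπ U.hom k)) u) ?_ ?_
  · rw [← Scheme.Hom.comp_apply, IsIso.inv_hom_id]; rfl
  · unfold FBase.IsReducedAt
    infer_instance

end Groth.Agent.S10475
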