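import Groth.Statements.S10476
import Mathlib
import Groth.Agent.Lib.Helper12GeomRed
import Groth.Agent.Lib.Helper12FieldBC

set_option autoImplicit false
universe u
open CategoryTheory CategoryTheory.Limits AlgebraicGeometry Topology TopologicalSpace
open AlgSp

namespace Groth.Agent.S10476





/-- (1) ⇔ (2): let k be a field of characteristic p > 0 and X an algebraic space over k. Then X is
geometrically reduced over k exactly when X_K is reduced for all field extensions K of k. -/
theorem result (k : Type u) [Field k] (p : ℕ) [Fact p.Prime] [CharP k p]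
    (X : AlgSp.Space (Spec (CommRingCat.of k))) :
    (∀ x : AlgSp.Points X.obj, (∃ (U : Over (Spec (CommRingCat.of k))) (a : (AlgSp.yon (Spec (CommRingCat.of k))).obj U ⟶ X.obj) (u : ↥U.left),
      AlgSp.RepWith @Etale a ∧ AlgSp.Points.ofPt a u = x ∧ FBase.IsGeomReducedAt U.hom u)) ↔
      ∀ (K : Type u) [Field K] [Algebra k K], AlgSp.EtaleLocally (fun U => IsReduced U) (X.obj ⨯ (AlgSp.yon (Spec (CommRingCat.of k))).obj (Over.mk (Spec.map (CommRingCat.ofHom (algebraMap k K))))) := by
  obtain ⟨U, a, hae, has⟩ := X.property.atlas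
  constructor
  · intro h K _ _
    refine Groth.Agent.Lib.Helper12.FieldBC.isReducedSp_bc_of_isReduced K a hae has ?_
    haveI : ∀ x' : ↥(FBase.bc U.hom K), _root_.IsReduced ((FBase.bc U.hom K).presheaf.stalk x') := by
      intro x'
      obtain ⟨U₁, a₁, u₁, ha₁, hu₁, hg₁⟩ := h (AlgSp.Points.ofPt a ((FBase.bcπ U.hom K) x'))
      have := (Groth.Agent.Lib.Helper12.GeomRed.isGeomReducedAt_iff_of_ofPt_eq a₁ a ha₁ hae u₁
        ((FBase.bcπ U.hom K) x') hu₁).1 hg₁
      exact this K x' rfl
    exact isReduced_of_isReduced_stalk _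
  · intro h x
    obtain ⟨u, hu⟩ := Groth.Agent.S10177.surjective_ofPt a has x
    refine ⟨U, a, u, hae, hu, ?_⟩
    intro K _ _ x' _
    haveI : IsReduced (FBase.bc U.hom K) :=
      Groth.Agent.Lib.Helper12.FieldBC.isReduced_bc_of_isReducedSp K (h K) a hae
    infer_instance

end Groth.Agent.S10476
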