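import Groth.Statements.S10479
import Mathlib
import Groth.Agent.Lib.Helper12GeomRed
import Groth.Agent.Lib.Helper12FieldBC
import Groth.Agent.Lib.Helper12FieldBC2

set_option autoImplicit false
universe u
open CategoryTheory CategoryTheory.Limits AlgebraicGeometry Topology TopologicalSpace
open AlgSp

namespace Groth.Agent.S10479





/-- Let k be a field, X an algebraic space over k, K/k a field extension, x a point of X and x' a point
of X_K lying over x. Then X is geometrically reduced at x (over k) if and only if X_K is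
geometrically reduced at x' (over K). -/
theorem result (k : Type u) [Field k] (X : AlgSp.Space (Spec (CommRingCat.of k))) (K : Type u) [Field K] [Algebra k K]
    (x : AlgSp.Points X.obj) (x' : AlgSp.Points (X.obj ⨯ (AlgSp.yon (Spec (CommRingCat.of k))).obj (Over.mk (Spec.map (CommRingCat.ofHom (algebraMap k K))))))
    (hx' : AlgSp.Points.map (Limits.prod.fst : (X.obj ⨯ (AlgSp.yon (Spec (CommRingCat.of k))).obj (Over.mk (Spec.map (CommRingCat.ofHom (algebraMap k K))))) ⟶ X.obj) x' = x) :
    (∃ (U : Over (Spec (CommRingCat.of k))) (a : (AlgSp.yon (Spec (CommRingCat.of k))).obj U ⟶ X.obj) (u : ↥U.left),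
      AlgSp.RepWith @Etale a ∧ AlgSp.Points.ofPt a u = x ∧ FBase.IsGeomReducedAt U.hom u) ↔
      ∃ (U' : Over (Spec (CommRingCat.of k))) (a' : (AlgSp.yon (Spec (CommRingCat.of k))).obj U' ⟶ (X.obj ⨯ (AlgSp.yon (Spec (CommRingCat.of k))).obj (Over.mk (Spec.map (CommRingCat.ofHom (algebraMap k K))))))
        (q : U' ⟶ Over.mk (Spec.map (CommRingCat.ofHom (algebraMap k K)))) (u' : ↥U'.left),
        AlgSp.RepWith @Etale a' ∧ a' ≫ Limits.prod.snd = (AlgSp.yon (Spec (CommRingCat.of k))).map q ∧
          AlgSp.Points.ofPt a' u' = x' ∧ FBase.IsGeomReducedAt q.left u' := by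
  constructor
  · rintro ⟨U, a, u, ha, hu, hg⟩
    obtain ⟨u', hu'1, hu'2⟩ := Groth.Agent.Lib.Helper12.FieldBC.exists_point_chartK a K u x'
      (hx'.trans hu.symm)
    refine ⟨Groth.Agent.Lib.Helper12.FieldBC.bcOver U K, Groth.Agent.Lib.Helper12.FieldBC.chartK a K,
      Groth.Agent.Lib.Helper12.FieldBC.bcQ U K, u',
      Groth.Agent.Lib.Helper12.FieldBC.repWith_chartK _ a ha K, prod.lift_snd _ _, hu'1, ?_⟩
    refine (Groth.Agent.Lib.Helper12.FieldBC.isGeomReducedAt_bc_iff U.hom K u').1 ?_
    rw [hu'2]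
    exact hg
  · rintro ⟨U', a', q, u', ha', hq, hu', hg'⟩
    obtain ⟨U, a, hae, has⟩ := X.property.atlas
    obtain ⟨u, hu⟩ := Groth.Agent.S10177.surjective_ofPt a has x
    obtain ⟨uK, huK1, huK2⟩ := Groth.Agent.Lib.Helper12.FieldBC.exists_point_chartK a K u x'
      (hx'.trans hu.symm)
    refine ⟨U, a, u, hae, hu, ?_⟩
    have hcK := Groth.Agent.Lib.Helper12.FieldBC.repWith_chartK _ a hae K
    have sq := ha'.rep.isPullback' (Groth.Agent.Lib.Helper12.FieldBC.chartK a K)
    have h1 : Etale (ha'.rep.snd (Groth.Agent.Lib.Helper12.FieldBC.chartK a K)).left :=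
      ha'.property_snd _
    have h2 : Etale (ha'.rep.fst' (Groth.Agent.Lib.Helper12.FieldBC.chartK a K)).left :=
      hcK.2 a' _ _ sq.flip
    obtain ⟨w, hw1, hw2⟩ := Groth.Agent.S10176.exists_point_of_isPullback_yon sq u' uK
      (hu'.trans huK1.symm)
    have hcomm : ha'.rep.fst' (Groth.Agent.Lib.Helper12.FieldBC.chartK a K) ≫ q =
        ha'.rep.snd (Groth.Agent.Lib.Helper12.FieldBC.chartK a K) ≫
          Groth.Agent.Lib.Helper12.FieldBC.bcQ U K := by
      apply (AlgSp.yon _).map_injective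
      rw [Functor.map_comp, Functor.map_comp, ← hq, ← Category.assoc, sq.w, Category.assoc,
        prod.lift_snd]
    have hcomm' := congrArg (fun t => t.left) hcomm
    simp only [Over.comp_left] at hcomm'
    have e1 := Groth.Agent.Lib.Helper12.GeomRed.isGeomReducedAt_iff_of_etale
      (ha'.rep.fst' (Groth.Agent.Lib.Helper12.FieldBC.chartK a K)).left q.left w
    have e2 := Groth.Agent.Lib.Helper12.GeomRed.isGeomReducedAt_iff_of_etale
      (ha'.rep.snd (Groth.Agent.Lib.Helper12.FieldBC.chartK a K)).left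
      (Groth.Agent.Lib.Helper12.FieldBC.bcQ U K).left w
    rw [hw1] at e1
    rw [hw2] at e2
    rw [hcomm'] at e1
    have h3 := e2.1 (e1.2 hg')
    have h4 := (Groth.Agent.Lib.Helper12.FieldBC.isGeomReducedAt_bc_iff U.hom K uK).2 h3
    rwa [huK2] at h4

end Groth.Agent.S10479
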