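import Groth.Statements.S10481
import Mathlib
import Groth.Agent.Lib.Helper12GeomRed

set_option autoImplicit false
universe u
open CategoryTheory CategoryTheory.Limits AlgebraicGeometry Topology TopologicalSpace
open AlgSp

namespace Groth.Agent.S10481


open Groth.Agent.Lib.Helper12.GeomRed in
/-- core of S10481: with a chart `h : U ⟶ V` of `f` etale near `u`. -/
lemma core {k : Type u} [Field k] {U V : Over (Spec (CommRingCat.of k))} (h : U ⟶ V) (u : ↥U.left)
    (W : U.left.Opens) (huW : u ∈ W) (hEt : Etale (W.ι ≫ h.left)) :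
    FBase.IsGeomReducedAt U.hom u ↔ FBase.IsGeomReducedAt V.hom (h.left u) := by
  let W' : Over (Spec (CommRingCat.of k)) := Over.mk (W.ι ≫ U.hom)
  let j : W' ⟶ U := Over.homMk W.ι rfl
  have hj : Etale j.left := (inferInstance : Etale W.ι)
  have hjh : Etale (j ≫ h).left := hEt
  have e1 := isGeomReducedAt_iff_of_etale_over j hj ⟨u, huW⟩
  have e2 := isGeomReducedAt_iff_of_etale_over (j ≫ h) hjh ⟨u, huW⟩
  exact e1.symm.trans e2



/-- Let k be a field, f : X ⟶ Y a morphism of algebraic spaces over k and x a point of X at which f is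
etale. Then X is geometrically reduced at x if and only if Y is geometrically reduced at the image
of x. -/
theorem result (k : Type u) [Field k] {X Y : AlgSp.Space (Spec (CommRingCat.of k))} (f : X ⟶ Y)
    (x : AlgSp.Points X.obj)
    (he : AlgSp.HasAtMor (fun U _ h u => ∃ W : U.Opens, u ∈ W ∧ Etale (W.ι ≫ h)) f.hom x) :
    (∃ (U : Over (Spec (CommRingCat.of k))) (a : (AlgSp.yon (Spec (CommRingCat.of k))).obj U ⟶ X.obj) (u : ↥U.left),
      AlgSp.RepWith @Etale a ∧ AlgSp.Points.ofPt a u = x ∧ FBase.IsGeomReducedAt U.hom u) ↔ (∃ (U : Over (Spec (CommRingCat.of k))) (a : (AlgSp.yon (Spec (CommRingCat.of k))).obj U ⟶ Y.obj) (u : ↥U.left),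
      AlgSp.RepWith @Etale a ∧ AlgSp.Points.ofPt a u = (AlgSp.Points.map f.hom x) ∧ FBase.IsGeomReducedAt U.hom u) := by
  obtain ⟨U, V, a, b, h, u, ha, hb, hcomm, hu, W, huW, hEt⟩ := he
  have hbu : AlgSp.Points.ofPt b (h.left u) = AlgSp.Points.map f.hom x := by
    rw [← hu, AlgSp.Points.map_ofPt, hcomm, Groth.Agent.S10176.ofPt_map_comp]
  have hc := core h u W huW hEt
  constructor
  · rintro ⟨U₁, a₁, u₁, ha₁, hu₁, hg₁⟩
    refine ⟨V, b, h.left u, hb, hbu, hc.1 ?_⟩
    exact (Groth.Agent.Lib.Helper12.GeomRed.isGeomReducedAt_iff_of_ofPt_eq a₁ a ha₁ ha u₁ u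
      (hu₁.trans hu.symm)).1 hg₁
  · rintro ⟨V₁, b₁, v₁, hb₁, hv₁, hg₁⟩
    refine ⟨U, a, u, ha, hu, hc.2 ?_⟩
    exact (Groth.Agent.Lib.Helper12.GeomRed.isGeomReducedAt_iff_of_ofPt_eq b₁ b hb₁ hb v₁ (h.left u)
      (hv₁.trans hbu.symm)).1 hg₁

end Groth.Agent.S10481
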