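import Groth.Statements.S10482
import Mathlib
import Groth.Prelude.Def_AlgSpDec

set_option autoImplicit false
universe u
open CategoryTheory CategoryTheory.Limits AlgebraicGeometry Topology TopologicalSpace
open AlgSp

namespace Groth.Agent.S10482





/-- (1) ⇔ (2): let k be a field and X an algebraic space over k. Then X is locally quasi-finite over k
if and only if X is locally of finite type over k of dimension at most 0. (The published statement
says dimension 0; dimension at most 0 is used so that the empty space, whose dimension is the bottom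
element, is covered by both sides.) -/
theorem result (k : Type u) [Field k] (X : AlgSp.Space (Spec (CommRingCat.of k))) (p : X.obj ⟶ (AlgSp.yon (Spec (CommRingCat.of k))).obj (Over.mk (𝟙 _))) :
    AlgSp.LocP (@LocallyQuasiFinite ⊓ @LocallyOfFiniteType : MorphismProperty Scheme.{u}) p ↔ AlgSp.LocP @LocallyOfFiniteType p ∧ AlgSp.dim X.obj ≤ 0 := by
  constructor
  · intro hp
    refine ⟨fun U V a b h ha hb e => (hp a b h ha hb e).2, ?_⟩
    refine iSup_le fun U => iSup_le fun a => iSup_le fun ha => ?_
    obtain ⟨h, hh⟩ := (AlgSp.yon (Spec (CommRingCat.of k))).map_surjective (a ≫ p)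
    have hq := (hp a (𝟙 _) h ha (AlgSp.repWith_id @Etale _) (by rw [hh, Category.comp_id])).1
    haveI : LocallyQuasiFinite h.left := hq
    haveI : IsLocallyArtinian (Spec (CommRingCat.of k)) :=
      Scheme.isLocallyArtinianScheme_Spec.2 (inferInstanceAs (IsArtinianRing k))
    haveI : IsLocallyArtinian U.left :=
      IsLocallyArtinian.of_locallyQuasiFinite (Y := Spec (CommRingCat.of k)) h.left
    exact topologicalKrullDim_zero_of_discreteTopology _
  · rintro ⟨hlft, hdim⟩ U V a b h ha hb e
    have h1 : LocallyOfFiniteType h.left := hlft a b h ha hb e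
    refine ⟨?_, h1⟩
    obtain ⟨b₀, rfl⟩ := (AlgSp.yon (Spec (CommRingCat.of k))).map_surjective b
    haveI : Etale b₀.left := (AlgSp.repWith_yon_map_iff _ _).1 hb
    haveI : IsLocallyNoetherian (Spec (CommRingCat.of k)) := inferInstance
    haveI : IsLocallyNoetherian V.left :=
      LocallyOfFiniteType.isLocallyNoetherian (Y := Spec (CommRingCat.of k)) b₀.left
    haveI : IsLocallyNoetherian U.left := LocallyOfFiniteType.isLocallyNoetherian h.left
    have hU : topologicalKrullDim ↥U.left ≤ 0 := by
      refine le_trans ?_ hdim
      exact le_iSup_of_le U (le_iSup_of_le a (le_iSup_of_le ha le_rfl))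
    haveI : IsLocallyArtinian U.left := IsLocallyArtinian.of_topologicalKrullDim_le_zero hU
    rw [locallyQuasiFinite_iff_isDiscrete_preimage_singleton]
    intro x
    exact DiscreteTopology.isDiscrete

end Groth.Agent.S10482
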