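import Groth.Statements.S10489
import Groth.Agent.Lib.Helper6SmRegSch

set_option autoImplicit false
universe u
open CategoryTheory CategoryTheory.Limits AlgebraicGeometry Topology TopologicalSpace
open AlgSp

namespace Groth.Agent.S10489

/-- Let k be a field and X an algebraic space which is smooth over k. Then X is regular as an algebraic
space. -/
theorem result (k : Type u) [Field k] (X : AlgSp.Space (Spec (CommRingCat.of k))) (p : X.obj ⟶ (AlgSp.yon (Spec (CommRingCat.of k))).obj (Over.mk (𝟙 _))) (hp : AlgSp.LocP @Smooth p) :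
    AlgSp.EtaleLocally (fun U => IsLocallyNoetherian U ∧ ∀ u : ↥U, IsRegularLocalRing ↥(U.presheaf.stalk u)) X.obj := by
  have hterm : ∀ {S : Scheme.{u}} {F : AlgSp.Sp S}
      (φ ψ : F ⟶ (AlgSp.yon S).obj (Over.mk (𝟙 S))), φ = ψ := by
    intro S F φ ψ
    apply Sheaf.hom_ext
    ext T x
    apply ULift.ext
    exact Over.mkIdTerminal.hom_ext _ _
  obtain ⟨U, a, hae, has⟩ := X.property.atlas
  let h : U ⟶ Over.mk (𝟙 (Spec (CommRingCat.of k))) := Over.homMk U.hom (by simp)
  have hsm : Smooth h.left := hp a (𝟙 _) h hae (AlgSp.repWith_id _ _) (hterm _ _)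
  have hsm' : Smooth U.hom := hsm
  refine ⟨U, a, hae, has, ?_, ?_⟩
  · exact LocallyOfFiniteType.isLocallyNoetherian U.hom
  · intro u
    exact Groth.Agent.Lib.Helper6.SmRegSch.isRegularLocalRing_stalk_of_smooth_over_field k U.left
      U.hom u

end Groth.Agent.S10489
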