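import Groth.Statements.S10494
import Groth.Agent.Lib.Helper9SpPoint7

set_option autoImplicit false
universe u
open CategoryTheory CategoryTheory.Limits AlgebraicGeometry Topology TopologicalSpace
open AlgSp

namespace Groth.Agent.S10494

/-- Let X be an integral algebraic space over a scheme S. Then Γ(X, O_X) is a domain. -/
theorem result {S : Scheme.{u}} (X : AlgSp.Space S)
    (hX : AlgSp.IsIntegralSp X.obj) : IsDomain ↥(AlgSp.gsectEt (AlgSp.OEt X.obj)) := by
  obtain ⟨⟨U₀, a₀, ha, hs, hred⟩, -, hirr⟩ := hX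
  haveI : AlgebraicGeometry.IsReduced U₀.left := hred
  haveI := hirr
  let A₀ : AlgSp.EtOver X.obj := AlgSp.EtOver.mk a₀ ha
  let comp : ↥(AlgSp.gsectEt (AlgSp.OEt X.obj)) →+* Γ(U₀.left, ⊤) :=
    (ULift.ringEquiv.{u, u + 1} (R := Γ(U₀.left, ⊤))).toRingHom.comp
      (limit.π (AlgSp.OEt X.obj).obj (Opposite.op A₀)).hom
  have hcomp0 : ∀ f, comp f = 0 → f = 0 := by
    intro f h
    apply Groth.Agent.Lib.Helper9.SpGlob.gsect_eq_zero f a₀ ha hs
    exact ULift.ext _ _ h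
  have hne : Nonempty U₀.left := by
    obtain ⟨x⟩ := (inferInstance : Nonempty (AlgSp.Points X.obj))
    obtain ⟨z, hz⟩ := Groth.Agent.S9906.surjective_map_of_repWith a₀ hs x
    obtain ⟨t, rfl⟩ := (AlgSp.Points.schemeEquiv U₀).surjective z
    exact ⟨t⟩
  haveI : Nonempty (⊤ : U₀.left.Opens) := by
    obtain ⟨t⟩ := hne
    exact ⟨⟨t, trivial⟩⟩
  haveI : Nontrivial Γ(U₀.left, ⊤) := Scheme.component_nontrivial U₀.left ⊤
  haveI : Nontrivial ↥(AlgSp.gsectEt (AlgSp.OEt X.obj)) := comp.domain_nontrivial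
  refine @NoZeroDivisors.to_isDomain _ _ _ ⟨fun {f g} hfg => ?_⟩
  by_contra hcon
  push Not at hcon
  obtain ⟨hf, hg⟩ := hcon
  have hf' : comp f ≠ 0 := fun h => hf (hcomp0 f h)
  have hg' : comp g ≠ 0 := fun h => hg (hcomp0 g h)
  have hDf : ((U₀.left.basicOpen (comp f) : U₀.left.Opens) : Set U₀.left).Nonempty := by
    rw [Set.nonempty_iff_ne_empty]
    intro h
    exact hf' ((AlgebraicGeometry.basicOpen_eq_bot_iff _).1 (SetLike.coe_injective h))
  have hDg : ((U₀.left.basicOpen (comp g) : U₀.left.Opens) : Set U₀.left).Nonempty := by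
    rw [Set.nonempty_iff_ne_empty]
    intro h
    exact hg' ((AlgebraicGeometry.basicOpen_eq_bot_iff _).1 (SetLike.coe_injective h))
  have hopen := Groth.Agent.Lib.Helper9.SpPoint.isOpenMap_ofPt A₀
  have hWf : IsOpen (AlgSp.Points.ofPt a₀ '' ((U₀.left.basicOpen (comp f) : U₀.left.Opens) : Set U₀.left)) :=
    hopen _ (U₀.left.basicOpen (comp f)).isOpen
  have hWg : IsOpen (AlgSp.Points.ofPt a₀ '' ((U₀.left.basicOpen (comp g) : U₀.left.Opens) : Set U₀.left)) :=
    hopen _ (U₀.left.basicOpen (comp g)).isOpen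
  obtain ⟨x, ⟨u, hu, hux⟩, ⟨u', hu', hu'x⟩⟩ :=
    nonempty_preirreducible_inter hWf hWg (hDf.image _) (hDg.image _)
  obtain ⟨p, hp, l, hl⟩ := Groth.Agent.Lib.Helper9.SpPoint.exists_geometric_lift A₀ u
  have hmk : AlgSp.Points.mk p = x := by
    rw [← hux, ← hl]
    exact (Groth.Agent.Lib.Helper9.SpPoint.ofPt_lift p A₀ l _).symm
  obtain ⟨l', hl'⟩ := Groth.Agent.Lib.Helper9.SpPoint.exists_lift_of_ofPt_eq_mk' p hp A₀ u'
    (hu'x.trans hmk.symm)
  let P : AlgSp.EtOver X.obj := AlgSp.EtOver.prodObj A₀ A₀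
  let w : p.pt ⟶ P.obj.left := A₀.property.1.lift' l'.1 l.1 (by rw [l.2, l'.2])
  have hw1 : w ≫ (AlgSp.EtOver.prodFst A₀ A₀).hom.left = l.1 :=
    Functor.relativelyRepresentable.lift'_snd _ _ _ _
  have hw2 : w ≫ (AlgSp.EtOver.prodSnd A₀ A₀).hom.left = l'.1 :=
    Functor.relativelyRepresentable.lift'_fst _ _ _ _
  let z : P.obj.left.left := w.left (default : Spec (CommRingCat.of p.K))
  have hz1 : (AlgSp.EtOver.prodFst A₀ A₀).hom.left.left z = u := by
    rw [← hl]
    exact congrArg (fun k : p.pt ⟶ A₀.obj.left => k.left (default : Spec (CommRingCat.of p.K))) hw1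
  have hz2 : (AlgSp.EtOver.prodSnd A₀ A₀).hom.left.left z = u' := by
    rw [← hl']
    exact congrArg (fun k : p.pt ⟶ A₀.obj.left => k.left (default : Spec (CommRingCat.of p.K))) hw2
  have hfP := Groth.Agent.Lib.Helper9.SpPoint.gsect_compat f (AlgSp.EtOver.prodFst A₀ A₀)
  have hgP := Groth.Agent.Lib.Helper9.SpPoint.gsect_compat g (AlgSp.EtOver.prodSnd A₀ A₀)
  have hzf : z ∈ P.obj.left.left.basicOpen
      ((limit.π (AlgSp.OEt X.obj).obj (Opposite.op P)) f).down := by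
    rw [hfP]
    have hpre := Scheme.preimage_basicOpen_top (AlgSp.EtOver.prodFst A₀ A₀).hom.left.left (comp f)
    have hmem : z ∈ (AlgSp.EtOver.prodFst A₀ A₀).hom.left.left ⁻¹ᵁ U₀.left.basicOpen (comp f) := by
      change (AlgSp.EtOver.prodFst A₀ A₀).hom.left.left z ∈ U₀.left.basicOpen (comp f)
      rw [hz1]
      exact hu
    exact (SetLike.ext_iff.1 hpre z).1 hmem
  have hzg : z ∈ P.obj.left.left.basicOpen
      ((limit.π (AlgSp.OEt X.obj).obj (Opposite.op P)) g).down := by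
    rw [hgP]
    have hpre := Scheme.preimage_basicOpen_top (AlgSp.EtOver.prodSnd A₀ A₀).hom.left.left (comp g)
    have hmem : z ∈ (AlgSp.EtOver.prodSnd A₀ A₀).hom.left.left ⁻¹ᵁ U₀.left.basicOpen (comp g) := by
      change (AlgSp.EtOver.prodSnd A₀ A₀).hom.left.left z ∈ U₀.left.basicOpen (comp g)
      rw [hz2]
      exact hu'
    exact (SetLike.ext_iff.1 hpre z).1 hmem
  have hzfg : z ∈ P.obj.left.left.basicOpen
      (((limit.π (AlgSp.OEt X.obj).obj (Opposite.op P)) f).down *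
        ((limit.π (AlgSp.OEt X.obj).obj (Opposite.op P)) g).down) := by
    exact (SetLike.ext_iff.1 (Scheme.basicOpen_mul P.obj.left.left _ _) z).2 ⟨hzf, hzg⟩
  have h0 : ((limit.π (AlgSp.OEt X.obj).obj (Opposite.op P)) f).down *
      ((limit.π (AlgSp.OEt X.obj).obj (Opposite.op P)) g).down = 0 := by
    have h1 : (limit.π (AlgSp.OEt X.obj).obj (Opposite.op P)) (f * g) = 0 := by
      rw [hfg, map_zero]
    rw [map_mul] at h1
    exact congrArg ULift.down h1
  rw [h0] at hzfg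
  exact (SetLike.ext_iff.1 (Scheme.basicOpen_zero P.obj.left.left ⊤) z).1 hzfg

end Groth.Agent.S10494
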