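import Groth.Statements.S10497
import Groth.Agent.Lib.Helper5SpDecBC

set_option autoImplicit false
universe u
open CategoryTheory CategoryTheory.Limits AlgebraicGeometry Topology TopologicalSpace
open AlgSp

namespace Groth.Agent.S10497

/-- Let k be a field and X a decent algebraic space over k. Then all base changes X_K to field
extensions K of k are integral exactly when X is geometrically reduced over k and every |X_K| is
irreducible. -/
theorem result (k : Type u) [Field k] (X : AlgSp.Space (Spec (CommRingCat.of k))) (hX : AlgSp.IsDecent X.obj) :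
    (∀ (K : Type u) [Field K] [Algebra k K], AlgSp.IsIntegralSp (X.obj ⨯ (AlgSp.yon (Spec (CommRingCat.of k))).obj (Over.mk (Spec.map (CommRingCat.ofHom (algebraMap k K)))))) ↔
      (∀ x : AlgSp.Points X.obj, (∃ (U : Over (Spec (CommRingCat.of k))) (a : (AlgSp.yon (Spec (CommRingCat.of k))).obj U ⟶ X.obj) (u : ↥U.left),
      AlgSp.RepWith @Etale a ∧ AlgSp.Points.ofPt a u = x ∧ FBase.IsGeomReducedAt U.hom u)) ∧
        ∀ (K : Type u) [Field K] [Algebra k K], IrreducibleSpace (AlgSp.Points (X.obj ⨯ (AlgSp.yon (Spec (CommRingCat.of k))).obj (Over.mk (Spec.map (CommRingCat.ofHom (algebraMap k K)))))) := by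
  obtain ⟨U, a, hae, has⟩ := X.property.atlas
  have hdec : ∀ (K : Type u) [Field K] [Algebra k K], AlgSp.IsDecent (X.obj ⨯
      (AlgSp.yon (Spec (CommRingCat.of k))).obj
        (Over.mk (Spec.map (CommRingCat.ofHom (algebraMap k K))))) := by
    intro K _ _
    haveI : IsAffineHom (Groth.Agent.Lib.Helper5.SpCC.ptStr k K).left := by
      show IsAffineHom (Spec.map (CommRingCat.ofHom (algebraMap k K)))
      infer_instance
    exact Groth.Agent.Lib.Helper5.SpDecBC.isDecent_of_isPullback_yon
      (Groth.Agent.Lib.Helper5.SpCC.ptStr k K)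
      (Groth.Agent.Lib.Helper5.SpCC.isPullback_prod_fst X.obj K
        ((IsTerminal.isTerminalObj (AlgSp.yon _) _ Over.mkIdTerminal).from X.obj)) hX
  have hred : (∀ x : AlgSp.Points X.obj, (∃ (U : Over (Spec (CommRingCat.of k)))
      (a : (AlgSp.yon (Spec (CommRingCat.of k))).obj U ⟶ X.obj) (u : ↥U.left),
      AlgSp.RepWith @Etale a ∧ AlgSp.Points.ofPt a u = x ∧ FBase.IsGeomReducedAt U.hom u)) ↔
      ∀ (K : Type u) [Field K] [Algebra k K], AlgSp.EtaleLocally (fun U => IsReduced U)
        (X.obj ⨯ (AlgSp.yon (Spec (CommRingCat.of k))).obj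
          (Over.mk (Spec.map (CommRingCat.ofHom (algebraMap k K))))) := by
    constructor
    · intro h K _ _
      refine Groth.Agent.Lib.Helper12.FieldBC.isReducedSp_bc_of_isReduced K a hae has ?_
      haveI : ∀ x' : ↥(FBase.bc U.hom K),
          _root_.IsReduced ((FBase.bc U.hom K).presheaf.stalk x') := by
        intro x'
        obtain ⟨U₁, a₁, u₁, ha₁, hu₁, hg₁⟩ := h (AlgSp.Points.ofPt a ((FBase.bcπ U.hom K) x'))
        have := (Groth.Agent.Lib.Helper12.GeomRed.isGeomReducedAt_iff_of_ofPt_eq a₁ a ha₁ hae u₁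
          ((FBase.bcπ U.hom K) x') hu₁).1 hg₁
        exact this K x' rfl
      exact isReduced_of_isReduced_stalk _
    · intro h x
      obtain ⟨u, hu⟩ := Groth.Agent.S10177.surjective_ofPt a has x
      refine ⟨U, a, u, hae, hu, ?_⟩
      intro K _ _ x' _
      haveI : IsReduced (FBase.bc U.hom K) :=
        Groth.Agent.Lib.Helper12.FieldBC.isReduced_bc_of_isReducedSp K (h K) a hae
      infer_instance
  constructor
  · intro h
    exact ⟨hred.2 (fun K _ _ => (h K).1), fun K _ _ => (h K).2.2⟩
  · rintro ⟨h1, h2⟩ K _ _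
    exact ⟨hred.1 h1 K, hdec K, h2 K⟩

end Groth.Agent.S10497
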