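import Groth.Statements.S16442
import Groth.Agent.Lib.Helper3HzP
import Groth.Agent.Lib.Helper3ShN
import Groth.Agent.Lib.Helper3EtNbhdD
import Mathlib

set_option autoImplicit false
universe u
open EGA4loc

namespace Groth.Agent.S16442

open IsLocalRing Groth.Agent.Lib.Helper3 in
-- finitely many elements of a strict henselization lie in the image of a local, injective map
-- from an essentially étale local algebra
theorem sh_exhaust' (R : Type u) [CommRing R] [IsLocalRing R] (S : Type u) [CommRing S]
    [IsLocalRing S] [Algebra R S] [IsLocalHom (algebraMap R S)]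
    [Hensel.IsStrictHenselization R S] (s : Finset S) :
    ∃ (L : Type u) (_ : CommRing L) (_ : IsLocalRing L) (_ : Algebra R L)
      (_ : EGA4loc.IsEssentiallyEtale R L) (f : L →ₐ[R] S),
      Function.Injective f ∧ IsLocalHom f.toRingHom ∧ ∀ x ∈ s, x ∈ f.range := by
  classical
  obtain ⟨Ω, _, _, _, _, _, ⟨e⟩⟩ := HzP.sh_exists_model R S
  obtain ⟨i, x', hx'⟩ := Sh.exists_ofL_fin (fun k : Fin s.card => e (s.equivFin.symm k))
  have hinj : Function.Injective (Sh.ofL i) := by
    letI := (Sh.ofL i).toAlgebra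
    haveI : IsLocalHom (algebraMap i.L (Sh.Rsh R Ω)) := inferInstanceAs (IsLocalHom (Sh.ofL i))
    haveI := Sh.isStrictHenselization_L (R := R) (Ω := Ω) i
    haveI : Module.FaithfullyFlat i.L (Sh.Rsh R Ω) := HzP.sh_faithfullyFlat i.L (Sh.Rsh R Ω)
    exact FaithfulSMul.algebraMap_injective i.L (Sh.Rsh R Ω)
  refine ⟨i.L, inferInstance, inferInstance, inferInstance, i.isEssentiallyEtale,
    (e.symm : Sh.Rsh R Ω →ₐ[R] S).comp (Sh.ofLₐ i), ?_, ?_, ?_⟩
  · intro a b hab
    apply hinj
    exact e.symm.injective hab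
  · refine ⟨fun a ha => ?_⟩
    have h1 : IsUnit (e.symm (Sh.ofL i a)) := ha
    have h2 : IsUnit (e (e.symm (Sh.ofL i a))) := h1.map e
    rw [AlgEquiv.apply_symm_apply] at h2
    exact isUnit_of_map_unit (Sh.ofL i) a h2
  · intro x hx
    refine ⟨x' (s.equivFin ⟨x, hx⟩), ?_⟩
    change e.symm (Sh.ofL i (x' (s.equivFin ⟨x, hx⟩))) = x
    rw [hx', Equiv.symm_apply_apply, AlgEquiv.symm_apply_apply]

/-- Let A be a reduced local ring with finitely many minimal prime ideals, S a strict henselization of
A, and D an A-subalgebra of S which is a local ring dominated by S (local inclusion) and essentially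
of finite type over A. Then D is contained in some A-subalgebra E of S which is a local ring and an
essentially etale local A-algebra. -/
theorem result
    (A S : Type u) [CommRing A] [IsLocalRing A] [IsReduced A] (hmin : (minimalPrimes A).Finite)
    [CommRing S] [IsLocalRing S] [Algebra A S] [IsLocalHom (algebraMap A S)]
    [Hensel.IsStrictHenselization A S] (D : Subalgebra A S) [IsLocalRing D]
    [IsLocalHom (algebraMap D S)] [Algebra.EssFiniteType A D] :
    ∃ E : Subalgebra A S, D ≤ E ∧ ∃ _ : IsLocalRing E, EGA4loc.IsEssentiallyEtale A E := by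
  classical
  obtain ⟨σ, hσ⟩ := (Algebra.essFiniteType_iff (R := A) (S := D)).mp inferInstance
  obtain ⟨L, _, _, _, hL, f, hfinj, hfloc, hf⟩ := sh_exhaust' A S (σ.image (fun d : D => (d : S)))
  let ε : L ≃ₐ[A] f.range := AlgEquiv.ofInjective f hfinj
  have hloc : IsLocalRing f.range := ε.toRingEquiv.isLocalRing
  have hadj : ∀ t : D, t ∈ Algebra.adjoin A (σ : Set D) → (t : S) ∈ f.range := by
    intro t ht
    induction ht using Algebra.adjoin_induction with
    | mem x hx => exact hf _ (Finset.mem_image_of_mem _ hx)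
    | algebraMap r => exact f.range.algebraMap_mem r
    | add x y _ _ hx hy => exact f.range.add_mem hx hy
    | mul x y _ _ hx hy => exact f.range.mul_mem hx hy
  refine ⟨f.range, ?_, hloc, ?_⟩
  · intro d hd
    obtain ⟨t, ht, htu, hdt⟩ := hσ ⟨d, hd⟩
    obtain ⟨a, ha'⟩ := hadj t ht
    obtain ⟨b, hb'⟩ := hadj _ hdt
    have ha : f a = (t : S) := ha'
    have hb : f b = d * (t : S) := hb'
    have htS : IsUnit (t : S) := htu.map (algebraMap D S)
    have haL : IsUnit a := by
      haveI := hfloc
      apply isUnit_of_map_unit f.toRingHom a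
      show IsUnit (f a)
      rw [ha]
      exact htS
    obtain ⟨a₂, ha₂⟩ := haL.exists_right_inv
    refine ⟨b * a₂, ?_⟩
    have h2 : (t : S) * f a₂ = 1 := by
      rw [← ha, ← map_mul, ha₂, map_one]
    show f (b * a₂) = d
    rw [map_mul, hb, mul_assoc, h2, mul_one]
  · obtain ⟨C, _, _, q, _, hEt, hq, ⟨e⟩⟩ := hL
    exact ⟨C, inferInstance, inferInstance, q, inferInstance, hEt, hq, ⟨ε.symm.trans e⟩⟩

end Groth.Agent.S16442
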