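import Groth.Statements.S10498
import Groth.Agent.Lib.Helper3EtRed
import Groth.Agent.S16442
import Mathlib

set_option autoImplicit false
universe u
open TensorProduct
open Hensel

namespace Groth.Agent.S10498

-- base change along a field extension of a localization of an étale algebra stays reduced
theorem isReduced_localization_tensor (k A K C : Type u) [Field k] [CommRing A] [Algebra k A]
    [Field K] [Algebra k K] [CommRing C] [Algebra A C] [Algebra k C] [IsScalarTower k A C]
    [Algebra.Etale A C] (hA : IsReduced (A ⊗[k] K)) (M : Submonoid C) :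
    IsReduced (Localization M ⊗[k] K) := by
  haveI := hA
  haveI h2 : IsReduced ((A ⊗[k] K) ⊗[A] C) :=
    Groth.Agent.Lib.Helper3.EtRed.isReduced_of_etale (A ⊗[k] K) ((A ⊗[k] K) ⊗[A] C)
  let e1 : (A ⊗[k] K) ⊗[A] C ≃ₐ[A] C ⊗[k] K :=
    (Algebra.TensorProduct.comm A (A ⊗[k] K) C).trans
      (Algebra.TensorProduct.cancelBaseChange k A A C K)
  haveI h3 : IsReduced (C ⊗[k] K) :=
    isReduced_of_injective e1.symm.toRingEquiv e1.symm.injective
  letI := Algebra.TensorProduct.rightAlgebra (R := C) (A := Localization M) (B := C ⊗[k] K)
  haveI hloc := IsLocalization.tensorRight (R := C) (S := C ⊗[k] K) (Localization M) M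
  haveI h4 : IsReduced (Localization M ⊗[C] (C ⊗[k] K)) :=
    isReduced_localizationPreserves (Algebra.algebraMapSubmonoid (C ⊗[k] K) M) _ h3
  let e2 : Localization M ⊗[C] (C ⊗[k] K) ≃ₐ[C] Localization M ⊗[k] K :=
    Algebra.TensorProduct.cancelBaseChange k C C (Localization M) K
  exact isReduced_of_injective e2.symm.toRingEquiv e2.symm.injective

-- tensoring an injective algebra map with a field extension stays injective
theorem map_injective (k K L R : Type u) [Field k] [Field K] [Algebra k K] [CommRing L]
    [Algebra k L] [CommRing R] [Algebra k R] (f : L →ₐ[k] R) (hf : Function.Injective f) :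
    Function.Injective (Algebra.TensorProduct.map (AlgHom.id k K) f) := by
  have h1 : ((Algebra.TensorProduct.map (AlgHom.id k K) f) : K ⊗[k] L → K ⊗[k] R) =
      LinearMap.lTensor K f.toLinearMap := by
    ext x
    induction x using TensorProduct.induction_on with
    | zero => simp
    | tmul a b => simp
    | add x y hx hy => simp only [map_add, hx, hy]
  rw [h1]
  exact Module.Flat.lTensor_preserves_injective_linearMap _ hf

/-- (1) ⇔ (2): let k be a field, A a local k-algebra and R a strict henselization of A. Then A is
geometrically reduced over k (K ⊗_k A reduced for every field extension K of k) if and only if R is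
geometrically reduced over k. -/
theorem result (k : Type u) [Field k]
    (A : Type u) [CommRing A] [IsLocalRing A] [Algebra k A]
    (R : Type u) [CommRing R] [IsLocalRing R] [Algebra A R] [IsLocalHom (algebraMap A R)]
    [Hensel.IsStrictHenselization A R] [Algebra k R] [IsScalarTower k A R] :
    (∀ (K : Type u) [Field K] [Algebra k K], IsReduced (TensorProduct k K A)) ↔
      ∀ (K : Type u) [Field K] [Algebra k K], IsReduced (TensorProduct k K R) := by
  classical
  constructor
  · intro h K _ _
    constructor
    intro z hz
    obtain ⟨T, rfl⟩ := TensorProduct.exists_finset z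
    obtain ⟨L, _, _, _, hL, f, hfinj, -, hf⟩ :=
      Groth.Agent.S16442.sh_exhaust' A R (T.image Prod.snd)
    letI : Algebra k L := Algebra.compHom L (algebraMap k A)
    haveI : IsScalarTower k A L := IsScalarTower.of_algebraMap_eq (fun x => rfl)
    -- `K ⊗ L` is reduced
    have hKL : IsReduced (K ⊗[k] L) := by
      obtain ⟨C, _, _, q, _, hEt, -, ⟨e⟩⟩ := hL
      letI : Algebra k C := Algebra.compHom C (algebraMap k A)
      haveI : IsScalarTower k A C := IsScalarTower.of_algebraMap_eq (fun x => rfl)
      haveI : IsScalarTower k A (Localization.AtPrime q) :=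
        IsScalarTower.of_algebraMap_eq (fun x => by
          rw [IsScalarTower.algebraMap_apply k C (Localization.AtPrime q),
            IsScalarTower.algebraMap_apply A C (Localization.AtPrime q)]
          rfl)
      have hAK : IsReduced (A ⊗[k] K) :=
        haveI := h K
        isReduced_of_injective (Algebra.TensorProduct.comm k A K).toRingEquiv
          (Algebra.TensorProduct.comm k A K).injective
      have h1 := isReduced_localization_tensor k A K C hAK q.primeCompl
      let ε : K ⊗[k] L ≃ₐ[k] Localization.AtPrime q ⊗[k] K :=
        (Algebra.TensorProduct.comm k K L).trans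
          (Algebra.TensorProduct.congr (e.restrictScalars k) AlgEquiv.refl)
      exact isReduced_of_injective ε.toRingEquiv ε.injective
    have hFinj := map_injective k K L R (f.restrictScalars k) hfinj
    have hl : ∀ r ∈ T.image Prod.snd, ∃ l : L, f l = r := fun r hr => hf r hr
    choose! l hl using hl
    have hz' : Algebra.TensorProduct.map (AlgHom.id k K) (f.restrictScalars k)
        (∑ i ∈ T, i.1 ⊗ₜ[k] l i.2) = ∑ i ∈ T, i.1 ⊗ₜ[k] i.2 := by
      rw [map_sum]
      refine Finset.sum_congr rfl (fun i hi => ?_)
      rw [Algebra.TensorProduct.map_tmul]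
      show i.1 ⊗ₜ[k] f (l i.2) = _
      rw [hl i.2 (Finset.mem_image_of_mem _ hi)]
    rw [← hz'] at hz ⊢
    have hnil : IsNilpotent (∑ i ∈ T, i.1 ⊗ₜ[k] l i.2 : K ⊗[k] L) := by
      obtain ⟨n, hn⟩ := hz
      exact ⟨n, hFinj (by rw [map_pow, hn, map_zero])⟩
    rw [hKL.eq_zero _ hnil, map_zero]
  · intro h K _ _
    haveI := h K
    haveI : Module.FaithfullyFlat A R := Groth.Agent.Lib.Helper3.HzP.sh_faithfullyFlat A R
    have hinj : Function.Injective (IsScalarTower.toAlgHom k A R) :=
      FaithfulSMul.algebraMap_injective A R
    have hG := map_injective k K A R (IsScalarTower.toAlgHom k A R) hinj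
    exact isReduced_of_injective
      (Algebra.TensorProduct.map (AlgHom.id k K) (IsScalarTower.toAlgHom k A R)) hG

end Groth.Agent.S10498
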