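import Groth.Statements.S10506
import Mathlib
import Groth.Agent.Lib.Helper12LocPCases

set_option autoImplicit false
universe u
open CategoryTheory CategoryTheory.Limits AlgebraicGeometry
open AlgSp

namespace Groth.Agent.S10506





/-- The base change of an fpqc covering of an algebraic space `X` by algebraic spaces along a morphism
of algebraic spaces `X' ⟶ X` is an fpqc covering of `X'`; the base changes `X' ×_X X_i ⟶ X'` are
given as pullback squares of sheaves whose corners `X'_i` are algebraic spaces. -/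
theorem result {S : Scheme.{u}} {X X' : AlgSp.Space S} (a : X' ⟶ X) {ι : Type u}
    (Xi : ι → AlgSp.Space S) (g : ∀ i, Xi i ⟶ X) (Xi' : ι → AlgSp.Space S) (q : ∀ i, Xi' i ⟶ X')
    (p : ∀ i, Xi' i ⟶ Xi i) (sq : ∀ i, IsPullback (q i).hom (p i).hom a.hom (g i).hom)
    (h : AlgSp.IsFpqcCover (fun i => (Xi i).obj) (fun i => (g i).hom)) :
    AlgSp.IsFpqcCover (fun i => (Xi' i).obj) (fun i => (q i).hom) := by
  obtain ⟨hfl, hcov⟩ := h
  refine ⟨fun i => ?_, fun Z hZ k => ?_⟩
  · exact Groth.Agent.Lib.Helper12.LocPCases.good_flat.locP_baseChange (Xi i).property X.property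
      X'.property (sq i).flip (hfl i)
  · obtain ⟨m, W, c, hW, hc, hsurj, hl⟩ := hcov Z hZ (k ≫ a.hom)
    refine ⟨m, W, c, hW, hc, hsurj, fun j => ?_⟩
    obtain ⟨i, l, hl'⟩ := hl j
    obtain ⟨l', h1, h2⟩ := (sq i).exists_lift ((AlgSp.yon S).map (c j) ≫ k) l
      (by rw [Category.assoc, hl'])
    exact ⟨i, l', h1⟩

end Groth.Agent.S10506
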