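import Groth.Statements.S10507
import Mathlib
import Groth.Agent.Lib.Helper12LocPCases

set_option autoImplicit false
universe u
open CategoryTheory CategoryTheory.Limits AlgebraicGeometry
open AlgSp

namespace Groth.Agent.S10507





/-- If `{X_i ⟶ X}` is an fpqc covering of the algebraic space `X` by algebraic spaces and each `X_i` has
an fpqc covering `{X_ij ⟶ X_i}` by algebraic spaces, then the composites `X_ij ⟶ X_i ⟶ X`, indexed
by the pairs `(i, j)`, form an fpqc covering of `X`. -/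
theorem result {S : Scheme.{u}} (X : AlgSp.Space S) {ι : Type u}
    (Xi : ι → AlgSp.Space S) (g : ∀ i, Xi i ⟶ X) (κ : ι → Type u) (Xij : ∀ i, κ i → AlgSp.Space S)
    (gij : ∀ i j, Xij i j ⟶ Xi i)
    (h : AlgSp.IsFpqcCover (fun i => (Xi i).obj) (fun i => (g i).hom))
    (hij : ∀ i, AlgSp.IsFpqcCover (fun j => (Xij i j).obj) (fun j => (gij i j).hom)) :
    AlgSp.IsFpqcCover (fun r : Σ i, κ i => (Xij r.1 r.2).obj) (fun r => (gij r.1 r.2 ≫ g r.1).hom) := by
  obtain ⟨hfl, hcov⟩ := h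
  refine ⟨fun r => ?_, fun Z hZ k => ?_⟩
  · exact Groth.Agent.Lib.Helper12.LocPCases.good_flat.locP_comp (Xi r.1).property X.property
      (gij r.1 r.2).hom (g r.1).hom ((hij r.1).1 r.2) (hfl r.1)
  · obtain ⟨m, W, c, hW, hc, hsurj, hl⟩ := hcov Z hZ k
    choose i l hl' using hl
    have key : ∀ j : Fin m, ∃ (m' : ℕ) (W' : Fin m' → Over S) (c' : ∀ t, W' t ⟶ W j),
        (∀ t, IsAffine (W' t).left) ∧ (∀ t, Flat (c' t).left) ∧
        (∀ z : ↥(W j).left, ∃ t, z ∈ Set.range (c' t).left) ∧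
        ∀ t, ∃ (κ0 : κ (i j)) (l' : (AlgSp.yon S).obj (W' t) ⟶ (Xij (i j) κ0).obj),
          l' ≫ (gij (i j) κ0).hom = (AlgSp.yon S).map (c' t) ≫ l j :=
      fun j => (hij (i j)).2 (W j) (hW j) (l j)
    choose m' W' c' hW' hc' hsurj' hl'' using key
    let e : Fin (∑ j, m' j) ≃ Σ j : Fin m, Fin (m' j) := finSigmaFinEquiv.symm
    refine ⟨∑ j, m' j, fun n => W' (e n).1 (e n).2, fun n => c' (e n).1 (e n).2 ≫ c (e n).1,
      fun n => hW' _ _, fun n => ?_, fun z => ?_, fun n => ?_⟩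
    · haveI := hc' (e n).1 (e n).2
      haveI := hc (e n).1
      rw [Over.comp_left]
      infer_instance
    · obtain ⟨j, y, rfl⟩ := hsurj z
      obtain ⟨t, y', rfl⟩ := hsurj' j y
      obtain ⟨n, hn⟩ : ∃ n, e n = ⟨j, t⟩ := ⟨e.symm ⟨j, t⟩, e.apply_symm_apply _⟩
      have aux : ∀ r : (Σ j : Fin m, Fin (m' j)), r = ⟨j, t⟩ →
          (c j).left ((c' j t).left y') ∈ Set.range ⇑(c' r.1 r.2 ≫ c r.1).left := by
        rintro _ rfl
        exact ⟨y', by rw [Over.comp_left, Scheme.Hom.comp_apply]⟩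
      exact ⟨n, aux (e n) hn⟩
    · obtain ⟨κ0, l', h1⟩ := hl'' (e n).1 (e n).2
      refine ⟨⟨i (e n).1, κ0⟩, l', ?_⟩
      show l' ≫ (gij (i (e n).1) κ0).hom ≫ (g (i (e n).1)).hom = _
      rw [← Category.assoc, h1, Category.assoc, hl', Functor.map_comp, Category.assoc]

end Groth.Agent.S10507
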