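import Groth.Statements.S10508
import Mathlib
import Groth.Agent.Lib.Helper12LocPCases
import Groth.Agent.S10505
import Groth.Agent.S10506
import Groth.Agent.S10507
import Groth.Agent.S9947
import Groth.Agent.S9906

set_option autoImplicit false
universe u
open CategoryTheory CategoryTheory.Limits AlgebraicGeometry
open AlgSp

namespace Groth.Agent.S10508





/-- Let `X` be an algebraic space over `S`, `{X_i ⟶ X}` a family of morphisms of algebraic spaces and
`h_U ⟶ X` a representable etale, representable surjective map from a scheme `U` over `S`, with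
pullback squares of sheaves exhibiting algebraic spaces `U_i` as `U ×_X X_i`. Then `{X_i ⟶ X}` is an
fpqc covering of `X` if and only if `{U_i ⟶ h_U}` is an fpqc covering of `h_U`. -/
theorem result {S : Scheme.{u}} (X : AlgSp.Space S) {ι : Type u}
    (Xi : ι → AlgSp.Space S) (g : ∀ i, Xi i ⟶ X) {U : Over S} (p : (AlgSp.yon S).obj U ⟶ X.obj)
    (hp : AlgSp.RepWith @Etale p) (hps : AlgSp.RepWith @Surjective p)
    (Ui : ι → AlgSp.Space S) (q : ∀ i, (Ui i).obj ⟶ (AlgSp.yon S).obj U) (p' : ∀ i, Ui i ⟶ Xi i)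
    (sq : ∀ i, IsPullback (q i) (p' i).hom p (g i).hom) :
    AlgSp.IsFpqcCover (fun i => (Xi i).obj) (fun i => (g i).hom) ↔
      AlgSp.IsFpqcCover (fun i => (Ui i).obj) q := by
  have hgood := Groth.Agent.Lib.Helper12.LocPCases.good_flat.{u}
  have hgood' := Groth.Agent.Lib.Helper12.LocPCases.good_lfp.{u}
  let UU : AlgSp.Space S := ⟨(AlgSp.yon S).obj U, AlgSp.IsAlgSpace.yon_obj U⟩
  let pp : UU ⟶ X := ObjectProperty.homMk p
  constructor
  · intro h
    exact Groth.Agent.S10506.result (X := X) (X' := UU) pp Xi g Ui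
      (fun i => ObjectProperty.homMk (q i)) p' sq h
  · intro hU
    have hpcov : AlgSp.IsFpqcCover (fun _ : PUnit.{u + 1} => UU.obj) (fun _ => pp.hom) := by
      refine Groth.Agent.S10505.result X (fun _ : PUnit.{u + 1} => UU) (fun _ => pp) ⟨fun _ => ⟨?_, ?_⟩, ?_⟩
      · exact Groth.Agent.S9947.locP_of_repWith_etale _ hgood.hEt p hp
      · exact Groth.Agent.S9947.locP_of_repWith_etale _ hgood'.hEt p hp
      · intro x
        exact ⟨PUnit.unit, Groth.Agent.S9906.surjective_map_of_repWith p hps x⟩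
    have hcomp := Groth.Agent.S10507.result X (fun _ : PUnit.{u + 1} => UU) (fun _ => pp)
      (fun _ => ι) (fun _ i => Ui i) (fun _ i => ObjectProperty.homMk (q i)) hpcov (fun _ => hU)
    refine ⟨fun i => ?_, fun Z hZ k => ?_⟩
    · haveI := hgood.desc
      exact Groth.Agent.Lib.Helper12.LocPGen.locP_of_target_cover' @Flat hgood.hcancel (g i).hom U p
        hp hps (p' i).hom (q i) (sq i).flip (hU.1 i)
    · obtain ⟨m, W, c, hW, hc, hsurj, hl⟩ := hcomp.2 Z hZ k
      refine ⟨m, W, c, hW, hc, hsurj, fun j => ?_⟩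
      obtain ⟨r, l, hl'⟩ := hl j
      refine ⟨r.2, l ≫ (p' r.2).hom, ?_⟩
      rw [Category.assoc, ← (sq r.2).w]
      exact hl'

end Groth.Agent.S10508
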