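import Groth.Statements.S1051
import Mathlib.CategoryTheory.Triangulated.Triangulated
import Mathlib.Tactic.Ring
import Mathlib.Tactic.Linarith
import Mathlib.Algebra.Homology.HomologicalComplex
-- import your own Groth.Agent.* helpers here

set_option autoImplicit false
universe v u
open CategoryTheory
open CohDer

namespace Groth.Agent.S1051

open CategoryTheory.Pretriangulated CategoryTheory.Limits

section
variable {D : Type u} [Category.{v} D] [Preadditive D] [Limits.HasZeroObject D] [HasShift D ℤ]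
    [∀ n : ℤ, (shiftFunctor D n).Additive] [Pretriangulated D] (X : ChainComplex D ℕ)

/-- state at level `k`: an object with a map to `X k` -/
abbrev St (k : ℕ) := Σ Y : D, (Y ⟶ X.X k)

open Classical in
/-- a lift of the differential, if there is one -/
noncomputable def bOf (k : ℕ) (s : St X k) : X.X (k + 1) ⟶ s.1 :=
  if h : ∃ b : X.X (k + 1) ⟶ s.1, b ≫ s.2 = X.d (k + 1) k then h.choose else 0

lemma bOf_spec (k : ℕ) (s : St X k) (h : ∃ b : X.X (k + 1) ⟶ s.1, b ≫ s.2 = X.d (k + 1) k) :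
    bOf X k s ≫ s.2 = X.d (k + 1) k := by
  rw [bOf, dif_pos h]
  exact h.choose_spec

/-- the next state -/
noncomputable def step (k : ℕ) (s : St X k) : St X (k + 1) :=
  ⟨(distinguished_cocone_triangle₁ (bOf X k s)).choose,
    (distinguished_cocone_triangle₁ (bOf X k s)).choose_spec.choose⟩

noncomputable def cOf (k : ℕ) (s : St X k) : s.1 ⟶ (step X k s).1⟦(1 : ℤ)⟧ :=
  (distinguished_cocone_triangle₁ (bOf X k s)).choose_spec.choose_spec.choose

lemma step_dist (k : ℕ) (s : St X k) :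
    Triangle.mk (step X k s).2 (bOf X k s) (cOf X k s) ∈ distTriang D :=
  (distinguished_cocone_triangle₁ (bOf X k s)).choose_spec.choose_spec.choose_spec

/-- the tower of states -/
noncomputable def build : ∀ k, St X k
  | 0 => ⟨X.X 0, 𝟙 _⟩
  | k + 1 => step X k (build k)

variable (n : ℕ)
  (hX : ∀ i j : ℕ, j + 2 < i → i ≤ n →
    ∀ φ : (shiftFunctor D ((i : ℤ) - j - 2)).obj (X.X i) ⟶ X.X j, φ = 0)

include hX in
/-- vanishing of maps from shifted `X i` to the `Y j` -/
lemma vanish (j : ℕ) : ∀ (i : ℕ) (m : ℤ), j + 2 < i → i ≤ n → m = (i : ℤ) - j - 2 →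
    ∀ φ : (shiftFunctor D m).obj (X.X i) ⟶ (build X j).1, φ = 0 := by
  induction j with
  | zero =>
    intro i m hij hin hm φ
    subst hm
    exact hX i 0 hij hin φ
  | succ j ih =>
    intro i m hij hin hm φ
    have h1 : φ ≫ (build X (j + 1)).2 = 0 := by
      subst hm
      exact hX i (j + 1) hij hin _
    obtain ⟨g, hg⟩ : ∃ g : ((shiftFunctor D m).obj (X.X i))⟦(1 : ℤ)⟧ ⟶ (build X j).1,
        φ⟦(1 : ℤ)⟧' = g ≫ cOf X j (build X j) :=
      Triangle.coyoneda_exact₁ _ (step_dist X j (build X j)) (φ⟦(1 : ℤ)⟧') (by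
        show φ⟦(1 : ℤ)⟧' ≫ ((build X (j + 1)).2)⟦(1 : ℤ)⟧' = 0
        rw [← Functor.map_comp, h1, Functor.map_zero])
    have h2 : ((shiftFunctorAdd' D m 1 (m + 1) rfl).app (X.X i)).hom ≫ g = 0 :=
      ih i (m + 1) (by omega) hin (by rw [hm]; push_cast; ring) _
    have h3 : g = 0 := by
      rw [← cancel_epi ((shiftFunctorAdd' D m 1 (m + 1) rfl).app (X.X i)).hom, h2, comp_zero]
    apply (shiftFunctor D (1 : ℤ)).map_injective
    rw [hg, h3, zero_comp, Functor.map_zero]
    rfl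

include hX in
/-- existence of the lifts -/
lemma exists_lift (k : ℕ) (hk : k < n) :
    ∃ b : X.X (k + 1) ⟶ (build X k).1, b ≫ (build X k).2 = X.d (k + 1) k := by
  induction k with
  | zero => exact ⟨X.d 1 0, Category.comp_id _⟩
  | succ k ih =>
    have hb : bOf X k (build X k) ≫ (build X k).2 = X.d (k + 1) k :=
      bOf_spec X k (build X k) (ih (by omega))
    have h0 : X.d (k + 1 + 1) (k + 1) ≫ bOf X k (build X k) = 0 := by
      have h1 : (X.d (k + 1 + 1) (k + 1) ≫ bOf X k (build X k)) ≫ (build X k).2 = 0 := by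
        rw [Category.assoc, hb, HomologicalComplex.d_comp_d]
      cases k with
      | zero =>
        exact (Category.comp_id (X.d (0 + 1 + 1) (0 + 1) ≫ bOf X 0 (build X 0))).symm.trans h1
      | succ k =>
        obtain ⟨g, hg⟩ : ∃ g : (X.X (k + 1 + 1 + 1))⟦(1 : ℤ)⟧ ⟶ (build X k).1,
            (X.d (k + 1 + 1 + 1) (k + 1 + 1) ≫ bOf X (k + 1) (build X (k + 1)))⟦(1 : ℤ)⟧' =
              g ≫ cOf X k (build X k) :=
          Triangle.coyoneda_exact₁ _ (step_dist X k (build X k)) _ (by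
            show (X.d (k + 1 + 1 + 1) (k + 1 + 1) ≫ bOf X (k + 1) (build X (k + 1)))⟦(1 : ℤ)⟧' ≫
              ((build X (k + 1)).2)⟦(1 : ℤ)⟧' = 0
            rw [← Functor.map_comp, h1, Functor.map_zero])
        have h3 : g = 0 := vanish X n hX k (k + 1 + 1 + 1) 1 (by omega) (by omega)
          (by push_cast; ring) g
        apply (shiftFunctor D (1 : ℤ)).map_injective
        rw [hg, h3, zero_comp, Functor.map_zero]
        rfl
    obtain ⟨b, hb'⟩ : ∃ b : X.X (k + 1 + 1) ⟶ (build X (k + 1)).1,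
        X.d (k + 1 + 1) (k + 1) = b ≫ (build X (k + 1)).2 :=
      Triangle.coyoneda_exact₂ _ (step_dist X k (build X k)) (X.d (k + 1 + 1) (k + 1)) h0
    exact ⟨b, hb'.symm⟩

end

open CategoryTheory.Pretriangulated in
/-- Let X be a chain complex in a triangulated category D and n a natural number; consider the finite
complex Xₙ → Xₙ₋₁ → … → X₀. If every morphism Xᵢ[i - j - 2] ⟶ Xⱼ with j + 2 < i ≤ n vanishes, then
there is a Postnikov system for it: objects Yₖ (k ≤ n), an isomorphism Y₀ ⟶ X₀, and for each k < n a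
distinguished triangle Yₖ₊₁ ⟶ Xₖ₊₁ ⟶ Yₖ ⟶ Yₖ₊₁[1] such that Xₖ₊₁ ⟶ Yₖ ⟶ Xₖ is the differential of X. -/
theorem result {D : Type u} [Category.{v} D] [Preadditive D] [Limits.HasZeroObject D] [HasShift D ℤ]
    [∀ n : ℤ, (shiftFunctor D n).Additive] [Pretriangulated D] [IsTriangulated D]
    (X : ChainComplex D ℕ) (n : ℕ)
    (hX : ∀ i j : ℕ, j + 2 < i → i ≤ n → ∀ φ : (shiftFunctor D ((i : ℤ) - j - 2)).obj (X.X i) ⟶ X.X j, φ = 0) :
    ∃ (Y : ℕ → D) (a : ∀ k, Y k ⟶ X.X k) (b : ∀ k, X.X (k + 1) ⟶ Y k) (c : ∀ k, Y k ⟶ (shiftFunctor D (1 : ℤ)).obj (Y (k + 1))),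
      IsIso (a 0) ∧ ∀ k, k < n → Triangle.mk (a (k + 1)) (b k) (c k) ∈ distinguishedTriangles ∧ b k ≫ a k = X.d (k + 1) k := by
  refine ⟨fun k => (build X k).1, fun k => (build X k).2, fun k => bOf X k (build X k),
    fun k => cOf X k (build X k), ?_, fun k hk => ⟨step_dist X k (build X k), ?_⟩⟩
  · show IsIso (𝟙 (X.X 0))
    infer_instance
  · exact bOf_spec X k (build X k) (exists_lift X n hX k hk)

end Groth.Agent.S1051
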