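import Groth.Statements.S1053
import Mathlib.Algebra.Homology.DerivedCategory.KProjective
import Mathlib.Algebra.Homology.Embedding.CochainComplex
import Mathlib.Algebra.Homology.DerivedCategory.HomologySequence
-- import your own Groth.Agent.* helpers here

set_option autoImplicit false
universe w v u
open CategoryTheory CategoryTheory.Limits
open CohDer

namespace Groth.Agent.S1053

/-- Let P and K be cochain complexes in an abelian category with P bounded, consisting of projective
objects and zero in degrees below n, and with Hⁱ(K) = 0 for all i ≥ n. Then every morphism P ⟶ K in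
the homotopy category and every morphism P ⟶ K in the derived category is zero. -/
theorem result {A : Type u} [Category.{v} A] [Abelian A] [HasDerivedCategory.{w} A]
    (P K : CochainComplex A ℤ) (n b : ℤ) [P.IsStrictlyGE n] [P.IsStrictlyLE b] (hP : ∀ i : ℤ, Projective (P.X i))
    (hK : ∀ i : ℤ, n ≤ i → IsZero (K.homology i)) :
    (∀ φ : (HomotopyCategory.quotient A (ComplexShape.up ℤ)).obj P ⟶ (HomotopyCategory.quotient A (ComplexShape.up ℤ)).obj K, φ = 0) ∧
    (∀ φ : DerivedCategory.Q.obj P ⟶ DerivedCategory.Q.obj K, φ = 0) := by
  have hKP : P.IsKProjective := CochainComplex.isKProjective_of_projective P b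
  have hKle : K.IsLE (n - 1) := by
    rw [CochainComplex.isLE_iff]
    intro i hi
    rw [HomologicalComplex.exactAt_iff_isZero_homology]
    exact hK i (by lia)
  -- chain maps from P to truncLE vanish
  have hchain : ∀ g : P ⟶ K.truncLE (n - 1), g = 0 := by
    intro g
    ext i
    by_cases hi : i < n
    · exact (P.isZero_of_isStrictlyGE n i hi).eq_of_src _ _
    · exact ((K.truncLE (n - 1)).isZero_of_isStrictlyLE (n - 1) i (by lia)).eq_of_tgt _ _
  have hD : ∀ φ : DerivedCategory.Qh.obj ((HomotopyCategory.quotient A (ComplexShape.up ℤ)).obj P) ⟶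
      DerivedCategory.Qh.obj ((HomotopyCategory.quotient A (ComplexShape.up ℤ)).obj K), φ = 0 := by
    intro φ
    have hι : IsIso (DerivedCategory.Qh.map ((HomotopyCategory.quotient A (ComplexShape.up ℤ)).map (K.ιTruncLE (n - 1)))) := by
      rw [DerivedCategory.isIso_Qh_map_iff]
      rw [HomotopyCategory.quotient_map_mem_quasiIso_iff]
      rw [HomologicalComplex.mem_quasiIso_iff]
      infer_instance
    obtain ⟨g, hg⟩ := (CochainComplex.IsKProjective.Qh_map_bijective P
      ((HomotopyCategory.quotient A (ComplexShape.up ℤ)).obj (K.truncLE (n - 1)))).surjective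
      (φ ≫ inv (DerivedCategory.Qh.map ((HomotopyCategory.quotient A (ComplexShape.up ℤ)).map (K.ιTruncLE (n - 1)))))
    obtain ⟨g', rfl⟩ := (HomotopyCategory.quotient A (ComplexShape.up ℤ)).map_surjective g
    rw [hchain g', Functor.map_zero, Functor.map_zero] at hg
    have := hg.symm
    rw [← cancel_mono (inv (DerivedCategory.Qh.map ((HomotopyCategory.quotient A (ComplexShape.up ℤ)).map (K.ιTruncLE (n - 1))))), this, zero_comp]
  refine ⟨fun φ => ?_, fun φ => ?_⟩
  · apply (CochainComplex.IsKProjective.Qh_map_bijective P _).injective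
    rw [hD (DerivedCategory.Qh.map φ), Functor.map_zero]
  · have := hD ((DerivedCategory.quotientCompQhIso A).hom.app P ≫ φ ≫ (DerivedCategory.quotientCompQhIso A).inv.app K)
    rw [← cancel_epi ((DerivedCategory.quotientCompQhIso A).hom.app P),
      ← cancel_mono ((DerivedCategory.quotientCompQhIso A).inv.app K), Category.assoc, this]
    simp

end Groth.Agent.S1053
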