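import Groth.Statements.S10533
import Mathlib
import Groth.Agent.Lib.Helper15FpqcRepWith
import Groth.Agent.Lib.Helper12AffineDescent

set_option autoImplicit false
universe u
open CategoryTheory CategoryTheory.Limits AlgebraicGeometry
open AlgSp

namespace Groth.Agent.S10533

/-- The property of morphisms of algebraic spaces over S given by f is affine (every base change to an
affine scheme is an affine scheme) is fpqc local on the base: for an fpqc covering of an algebraic
space Y by algebraic spaces Y_i, a morphism f : X ⟶ Y of algebraic spaces and cartesian squares X_i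
= Y_i ×_Y X, f has the property if and only if every X_i ⟶ Y_i has it. -/
theorem result (S : Scheme.{u}) :
    AlgSp.IsLocalOnBase (AlgSp.IsFpqcCover (S := S)) AlgSp.IsAffineMor := by
  have e : (AlgSp.IsAffineMor : MorphismProperty (AlgSp.Sp S)) = AlgSp.RepWith @IsAffineHom := by
    ext F G f
    refine Iff.trans ?_ (Groth.Agent.Lib.Helper15FpqcRepWith.affine_family_iff_repWith @IsAffineHom
      le_rfl f)
    constructor
    · intro h Z hZ g
      obtain ⟨W, i, fst, sq, hW⟩ := h hZ g
      have : IsAffine Z.left := hZ
      have : IsAffine W.left := hW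
      exact ⟨W, i, fst, sq, hW, (inferInstance : IsAffineHom i.left)⟩
    · intro h Z hZ g
      obtain ⟨W, i, fst, sq, hW, -⟩ := h hZ g
      exact ⟨W, i, fst, sq, hW⟩
  rw [e]
  exact Groth.Agent.Lib.Helper15FpqcRepWith.isLocalOnBase_fpqc_repWith @IsAffineHom le_rfl
    Groth.Agent.Lib.Helper12.descendsAlong_isAffineHom

end Groth.Agent.S10533
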