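import Groth.Statements.S10540
import Mathlib
import Groth.Agent.Lib.Helper15FpqcRepWith
import Groth.Agent.Lib.Helper12Descent

set_option autoImplicit false
universe u
open CategoryTheory CategoryTheory.Limits AlgebraicGeometry
open AlgSp

namespace Groth.Agent.S10540

/-- The property of morphisms of algebraic spaces over S given by f is finite (every base change to an
affine scheme is an affine scheme finite over it) is fpqc local on the base: for an fpqc covering of
an algebraic space Y by algebraic spaces Y_i, a morphism f : X ⟶ Y of algebraic spaces and cartesian
squares X_i = Y_i ×_Y X, f has the property if and only if every X_i ⟶ Y_i has it. -/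
theorem result (S : Scheme.{u}) :
    AlgSp.IsLocalOnBase (AlgSp.IsFpqcCover (S := S)) AlgSp.IsFiniteMor := by
  have e : (AlgSp.IsFiniteMor : MorphismProperty (AlgSp.Sp S)) = AlgSp.RepWith @IsFinite := by
    ext F G f
    exact Groth.Agent.Lib.Helper15FpqcRepWith.affine_family_iff_repWith @IsFinite
      (fun _ _ f hf => by
        have : IsFinite f := hf
        exact (inferInstance : IsAffineHom f)) f
  rw [e]
  exact Groth.Agent.Lib.Helper15FpqcRepWith.isLocalOnBase_fpqc_repWith @IsFinite
    (fun _ _ f hf => by
      have : IsFinite f := hf
      exact (inferInstance : IsAffineHom f))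
    Groth.Agent.Lib.Helper12.descendsAlong_isFinite

end Groth.Agent.S10540
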