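import Groth.Statements.S10551
import Mathlib
import Groth.Agent.S9962

set_option autoImplicit false
universe u
open CategoryTheory CategoryTheory.Limits AlgebraicGeometry
open AlgSp

namespace Groth.Agent.S10551


open MorphismProperty



/-- The property of morphisms of algebraic spaces over S given by f is open (the induced map on spaces
of points is open) is fppf local on the source: for a morphism f : X ⟶ Y of algebraic spaces and a
fppf covering of X by algebraic spaces X_i, f has the property if and only if every composite X_i ⟶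
X ⟶ Y has it. -/
theorem result (S : Scheme.{u}) :
    AlgSp.IsLocalOnSource (AlgSp.IsFppfCover (S := S)) AlgSp.IsOpenMor := by
  intro ι X Xi g hX hXi hcov Y f hY
  have hopen : ∀ i, IsOpenMap (AlgSp.Points.map (g i)) := fun i =>
    Groth.Agent.S9962.isUnivOpenMor_of_flat_lfp (hXi i) hX (g i) (hcov.1 i).1 (hcov.1 i).2
      hX (𝟙 X) (𝟙 _) (g i) IsPullback.of_id_fst
  constructor
  · intro hf i
    change IsOpenMap (AlgSp.Points.map (g i ≫ f))
    have e : AlgSp.Points.map (g i ≫ f) = AlgSp.Points.map f ∘ AlgSp.Points.map (g i) :=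
      funext (fun x => AlgSp.Points.map_comp _ _ x)
    rw [e]
    exact IsOpenMap.comp hf (hopen i)
  · intro h
    change IsOpenMap (AlgSp.Points.map f)
    intro W hW
    have e : AlgSp.Points.map f '' W =
        ⋃ i, AlgSp.Points.map (g i ≫ f) '' (AlgSp.Points.map (g i) ⁻¹' W) := by
      ext y
      constructor
      · rintro ⟨x, hx, rfl⟩
        obtain ⟨i, xi, rfl⟩ := hcov.2 x
        exact Set.mem_iUnion.2 ⟨i, xi, hx, AlgSp.Points.map_comp _ _ xi⟩
      · intro hy
        obtain ⟨i, xi, hxi, rfl⟩ := Set.mem_iUnion.1 hy
        exact ⟨_, hxi, (AlgSp.Points.map_comp _ _ xi).symm⟩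
    rw [e]
    exact isOpen_iUnion fun i => h i _ (hW.preimage (AlgSp.Points.continuous_map (g i)))

end Groth.Agent.S10551
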