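import Groth.Statements.S10560
import Mathlib
import Groth.Agent.Lib.Helper15FppfSrc2
import Groth.Agent.S10554

set_option autoImplicit false
universe u
open CategoryTheory CategoryTheory.Limits AlgebraicGeometry
open AlgSp

namespace Groth.Agent.S10560

/-- Let f : X ⟶ Y and q : Y ⟶ B be morphisms of algebraic spaces over S with f surjective, flat and
locally of finite presentation. If f ≫ q is smooth then q is smooth; if f ≫ q is etale then q is
etale. -/
theorem result {S : Scheme.{u}} {X Y B : AlgSp.Space S} (f : X ⟶ Y) (q : Y ⟶ B)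
    (hs : AlgSp.IsSurjectiveMor f.hom) (hfl : AlgSp.LocP @Flat f.hom)
    (hfp : AlgSp.LocP @LocallyOfFinitePresentation f.hom) :
    (AlgSp.LocP @Smooth (f ≫ q).hom → AlgSp.LocP @Smooth q.hom) ∧
    (AlgSp.IsEtaleMor (f ≫ q).hom → AlgSp.IsEtaleMor q.hom) := by
  have hcov : AlgSp.IsFppfCover (fun _ : PUnit.{u+1} => X.obj) (fun _ => f.hom) :=
    ⟨fun _ => ⟨hfl, hfp⟩, fun x => ⟨PUnit.unit, hs x⟩⟩
  refine ⟨fun h => ?_, fun h => ?_⟩
  · exact Groth.Agent.Lib.Helper15FppfSrc2.locP_of_fppf_cover @Smooth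
      (fun f R hR H => Groth.Agent.Lib.Helper15FppfSrc2.smooth_desc f R hR H)
      (fun _ : PUnit.{u+1} => X.obj) (fun _ => f.hom) Y.property
      (fun _ => X.property) hcov q.hom (fun _ => h)
  · apply Groth.Agent.S10554.isEtaleMor_of_locP B.property
    exact Groth.Agent.Lib.Helper15FppfSrc2.locP_of_fppf_cover @Etale
      (fun f R hR H => Groth.Agent.Lib.Helper15FppfSrc2.etale_desc f R hR H)
      (fun _ : PUnit.{u+1} => X.obj) (fun _ => f.hom) Y.property
      (fun _ => X.property) hcov q.hom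
      (fun _ => Groth.Agent.Lib.Helper12.SrcLocal.locP_etale_of_isEtaleMor _ h)


end Groth.Agent.S10560
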