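import Groth.Statements.S10573
import Mathlib
import Groth.Agent.Lib.Helper12TopDescent
import Groth.Agent.S10175

set_option autoImplicit false
universe u
open CategoryTheory CategoryTheory.Limits AlgebraicGeometry
open AlgSp

namespace Groth.Agent.S10573





/-- Let {g_i : T_i ⟶ T} be a family of algebraic spaces over S forming an fpqc covering, and let W_i ⊂
|T_i| be open subsets (open subspaces) such that for all i, j the two projections T_i ×_T T_j ⟶ T_i,
T_j pull W_i and W_j back to the same subset of |T_i ×_T T_j|. Then there is a unique open subset W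
⊂ |T| with g_i⁻¹(W) = W_i for every i. -/
theorem result {S : Scheme.{u}} {ι : Type u} {T : AlgSp.Space S}
    (Ti : ι → AlgSp.Space S) (g : ∀ i, Ti i ⟶ T)
    (hg : AlgSp.IsFpqcCover (fun i => (Ti i).obj) (fun i => (g i).hom))
    (Wi : ∀ i, Set (AlgSp.Points (Ti i).obj)) (hW : ∀ i, IsOpen (Wi i))
    (hc : ∀ i j, AlgSp.Points.map (pullback.fst (g i).hom (g j).hom) ⁻¹' Wi i =
      AlgSp.Points.map (pullback.snd (g i).hom (g j).hom) ⁻¹' Wi j) :
    ∃! W : TopologicalSpace.Opens (AlgSp.Points T.obj), ∀ i, AlgSp.Points.map (g i).hom ⁻¹' (W : Set (AlgSp.Points T.obj)) = Wi i := by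
  obtain ⟨κ, Wk, w, ik, l, hl, hsurj, hfinal⟩ :=
    Groth.Agent.Lib.Helper12.TopDescent.exists_fpqc_family (fun i => (Ti i).obj)
      (fun i => (g i).hom) hg.2 T.property (𝟙 T.obj)
  -- joint surjectivity of the covering
  have hjs : ∀ x : AlgSp.Points T.obj, ∃ i t, AlgSp.Points.map (g i).hom t = x := by
    intro x
    obtain ⟨k, t, rfl⟩ := hsurj x
    refine ⟨ik k, AlgSp.Points.map (l k) t, ?_⟩
    rw [← AlgSp.Points.map_comp, hl k, Category.comp_id]
  -- the compatibility on points
  have hcomp : ∀ i j (t : AlgSp.Points (Ti i).obj) (t' : AlgSp.Points (Ti j).obj),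
      AlgSp.Points.map (g i).hom t = AlgSp.Points.map (g j).hom t' → t' ∈ Wi j → t ∈ Wi i := by
    intro i j t t' e ht'
    obtain ⟨p, hp1, hp2⟩ := Groth.Agent.S10175.exists_point_of_isPullback
      (IsPullback.of_hasPullback (g i).hom (g j).hom) t t' e
    have h1 : p ∈ AlgSp.Points.map (pullback.snd (g i).hom (g j).hom) ⁻¹' Wi j := by
      rw [Set.mem_preimage, hp2]; exact ht'
    rw [← hc i j, Set.mem_preimage, hp1] at h1
    exact h1
  let W₀ : Set (AlgSp.Points T.obj) := ⋃ i, AlgSp.Points.map (g i).hom '' Wi i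
  have hpre : ∀ i, AlgSp.Points.map (g i).hom ⁻¹' W₀ = Wi i := by
    intro i
    ext t
    constructor
    · intro ht
      obtain ⟨j, t', ht', e⟩ := Set.mem_iUnion.1 ht
      exact hcomp i j t t' e.symm ht'
    · intro ht
      exact Set.mem_iUnion.2 ⟨i, t, ht, rfl⟩
  have hopen : IsOpen W₀ := by
    rw [← isClosed_compl_iff]
    refine hfinal _ (fun k => ?_)
    rw [Set.preimage_compl, isClosed_compl_iff]
    have e : AlgSp.Points.map (w k) ⁻¹' W₀ = AlgSp.Points.map (l k) ⁻¹' Wi (ik k) := by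
      rw [← hpre (ik k), ← Set.preimage_comp]
      congr 1
      funext t
      show AlgSp.Points.map (w k) t = AlgSp.Points.map (g (ik k)).hom (AlgSp.Points.map (l k) t)
      rw [← AlgSp.Points.map_comp, hl k, Category.comp_id]
    rw [e]
    exact (hW (ik k)).preimage (AlgSp.Points.continuous_map (l k))
  refine ⟨⟨W₀, hopen⟩, hpre, ?_⟩
  intro W' hW'
  ext x
  obtain ⟨i, t, rfl⟩ := hjs x
  have h1 : t ∈ AlgSp.Points.map (g i).hom ⁻¹' (W' : Set (AlgSp.Points T.obj)) ↔
      t ∈ AlgSp.Points.map (g i).hom ⁻¹' W₀ := by rw [hW' i, hpre i]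
  exact h1

end Groth.Agent.S10573
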