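import Groth.Statements.S10621
import Mathlib
import Groth.Agent.Lib.Helper12EtaleLift2
import Groth.Agent.S9874
import Groth.Agent.S10177

set_option autoImplicit false
universe u
open CategoryTheory CategoryTheory.Limits AlgebraicGeometry
open AlgSp

namespace Groth.Agent.S10621





/-- For a morphism f : X ⟶ Y of algebraic spaces over S, these conditions are equivalent: f is formally
unramified (lifting along square-zero thickenings of affine schemes); for every scheme U with a
representable etale U ⟶ X, every scheme V with a representable etale V ⟶ Y and every compatible U ⟶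
V, the morphism of schemes U ⟶ V is formally unramified; and this holds as soon as it holds for one
such diagram in which both charts are moreover surjective. Formal unramifiedness of a morphism of
schemes is Mathlib's FormallyUnramified (formally unramified ring maps on affine opens, no
finite-type condition), which agrees with the lifting definition used here. -/
theorem result {S : Scheme.{u}} {X Y : AlgSp.Space S} (f : X ⟶ Y) :
    (AlgSp.IsFormallyUnramifiedMor f.hom ↔ AlgSp.LocP @FormallyUnramified f.hom) ∧
    (∀ (U V : Over S) (a : (AlgSp.yon S).obj U ⟶ X.obj) (b : (AlgSp.yon S).obj V ⟶ Y.obj) (h : U ⟶ V),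
      AlgSp.RepWith @Etale a → AlgSp.RepWith @Surjective a → AlgSp.RepWith @Etale b → AlgSp.RepWith @Surjective b →
      a ≫ f.hom = (AlgSp.yon S).map h ≫ b → FormallyUnramified h.left → AlgSp.IsFormallyUnramifiedMor f.hom) := by
  have hchart : ∀ (U V : Over S) (a : (AlgSp.yon S).obj U ⟶ X.obj) (b : (AlgSp.yon S).obj V ⟶ Y.obj)
      (h : U ⟶ V), AlgSp.RepWith @Etale a → AlgSp.RepWith @Surjective a → AlgSp.RepWith @Etale b →
      AlgSp.RepWith @Surjective b → a ≫ f.hom = (AlgSp.yon S).map h ≫ b →
      FormallyUnramified h.left → AlgSp.IsFormallyUnramifiedMor f.hom := by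
    intro U V a b h ha has hb _ hcomm hh
    haveI := hh
    have h1 : AlgSp.IsFormallyUnramifiedMor ((AlgSp.yon S).map h) :=
      Groth.Agent.Lib.Helper12.EtaleLift2.isFormallyUnramifiedMor_yon_map h
    have hbE := Groth.Agent.Lib.Helper12.EtaleLift.isFormallyEtaleMor_of_repWith_etale b hb
    have hbU := ((Groth.Agent.Lib.Helper15.isFormallyEtaleMor_iff b).1 hbE).2
    have h2 : AlgSp.IsFormallyUnramifiedMor (a ≫ f.hom) := by
      rw [hcomm]
      exact Groth.Agent.Lib.Helper15.isFormallyUnramifiedMor_comp _ _ h1 hbU
    exact Groth.Agent.Lib.Helper12.EtaleLift2.isFormallyUnramifiedMor_of_comp_etale_surj a f.hom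
      ha has h2
  refine ⟨⟨?_, ?_⟩, hchart⟩
  · intro hf U V a b h ha hb hcomm
    have haE := Groth.Agent.Lib.Helper12.EtaleLift.isFormallyEtaleMor_of_repWith_etale a ha
    have haU := ((Groth.Agent.Lib.Helper15.isFormallyEtaleMor_iff a).1 haE).2
    have h2 : AlgSp.IsFormallyUnramifiedMor ((AlgSp.yon S).map h ≫ b) := by
      rw [← hcomm]
      exact Groth.Agent.Lib.Helper15.isFormallyUnramifiedMor_comp _ _ haU hf
    exact Groth.Agent.Lib.Helper12.EtaleLift2.formallyUnramified_of_yon_map h
      (Groth.Agent.Lib.Helper15.isFormallyUnramifiedMor_of_comp _ _ h2)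
  · intro hL
    obtain ⟨V, b, hbe, hbs⟩ := Y.property.atlas
    have hXV : AlgSp.IsAlgSpace (pullback f.hom b) :=
      Groth.Agent.S9874.isAlgSpace_of_isPullback Y.property.diag X.property
        (AlgSp.IsAlgSpace.yon_obj V) (IsPullback.of_hasPullback f.hom b)
    obtain ⟨U, a0, hae, has⟩ := hXV.atlas
    have hpr1 : AlgSp.RepWith @Etale (pullback.fst f.hom b) :=
      MorphismProperty.of_isPullback (P := AlgSp.RepWith @Etale)
        (IsPullback.of_hasPullback f.hom b).flip hbe
    have hpr1s : AlgSp.RepWith @Surjective (pullback.fst f.hom b) :=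
      MorphismProperty.of_isPullback (P := AlgSp.RepWith @Surjective)
        (IsPullback.of_hasPullback f.hom b).flip hbs
    obtain ⟨h, hh⟩ := (AlgSp.yon S).map_surjective (a0 ≫ pullback.snd f.hom b)
    have hae' : AlgSp.RepWith @Etale (a0 ≫ pullback.fst f.hom b) :=
      (AlgSp.RepWith @Etale).comp_mem _ _ hae hpr1
    have has' : AlgSp.RepWith @Surjective (a0 ≫ pullback.fst f.hom b) :=
      (AlgSp.RepWith @Surjective).comp_mem _ _ has hpr1s
    have hcomm : (a0 ≫ pullback.fst f.hom b) ≫ f.hom = (AlgSp.yon S).map h ≫ b := by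
      rw [Category.assoc, pullback.condition, ← Category.assoc, hh]
    exact hchart U V _ b h hae' has' hbe hbs hcomm (hL _ b h hae' hbe hcomm)

end Groth.Agent.S10621
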