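import Groth.Statements.S10624
import Mathlib
import Groth.Agent.Lib.Helper12InfGlue

set_option autoImplicit false
universe u
open CategoryTheory CategoryTheory.Limits AlgebraicGeometry
open AlgSp

namespace Groth.Agent.S10624





/-- Let f : X ⟶ Y be a formally unramified morphism of algebraic spaces over S and let j : T ⟶ T' be a
first order thickening of algebraic spaces (not necessarily affine schemes) with a : T ⟶ X, b : T' ⟶
Y and a ≫ f = j ≫ b. Then any two morphisms l, l' : T' ⟶ X with j ≫ l = a = j ≫ l' and l ≫ f = b =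
l' ≫ f are equal. -/
theorem result {S : Scheme.{u}} {X Y : AlgSp.Space S} (f : X ⟶ Y)
    (hf : AlgSp.IsFormallyUnramifiedMor f.hom) {T T' : AlgSp.Space S} (j : T ⟶ T') (hj : AlgSp.IsFOThickMor j.hom)
    (a : T ⟶ X) (b : T' ⟶ Y) (w : a ≫ f = j ≫ b)
    (l l' : T' ⟶ X) (h1 : j ≫ l = a) (h2 : l ≫ f = b) (h3 : j ≫ l' = a) (h4 : l' ≫ f = b) : l = l' := by
  apply ObjectProperty.hom_ext
  apply Groth.Agent.Lib.Helper12.InfGlue.hom_ext_of_affine_charts T'.property
  intro V c hV hc
  obtain ⟨W, snd, fst, sq⟩ := hj.1.1 c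
  have hthick := hj.1.2 c fst snd sq
  have hsq0 : AlgSp.sqZero snd.left := hj.2 c fst snd hV hc sq
  haveI : IsClosedImmersion snd.left := hthick.1
  haveI : IsAffine V.left := hV
  have e1 : j.hom ≫ l.hom = a.hom := congrArg (·.hom) h1
  have e2 : l.hom ≫ f.hom = b.hom := congrArg (·.hom) h2
  have e3 : j.hom ≫ l'.hom = a.hom := congrArg (·.hom) h3
  have e4 : l'.hom ≫ f.hom = b.hom := congrArg (·.hom) h4
  apply Groth.Agent.Lib.Helper12.InfGlue.uniq_of_affine snd f.hom hf hsq0
  · rw [← Category.assoc, ← sq.w, Category.assoc, e1, ← Category.assoc, ← sq.w, Category.assoc, e3]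
  · rw [Category.assoc, Category.assoc, e2, e4]

end Groth.Agent.S10624
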