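import Groth.Statements.S10625
import Mathlib
import Groth.Agent.Lib.Helper12InfGlue2

set_option autoImplicit false
universe u
open CategoryTheory CategoryTheory.Limits AlgebraicGeometry
open AlgSp

namespace Groth.Agent.S10625





/-- Take a formally etale morphism f : X ⟶ Y of algebraic spaces over S and let j : T ⟶ T' be a first
order thickening of algebraic spaces (not necessarily affine schemes) with a : T ⟶ X, b : T' ⟶ Y and
a ≫ f = j ≫ b. Then there is exactly one l : T' ⟶ X with j ≫ l = a and l ≫ f = b. -/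
theorem result {S : Scheme.{u}} {X Y : AlgSp.Space S} (f : X ⟶ Y)
    (hf : AlgSp.IsFormallyEtaleMor f.hom) {T T' : AlgSp.Space S} (j : T ⟶ T') (hj : AlgSp.IsFOThickMor j.hom)
    (a : T ⟶ X) (b : T' ⟶ Y) (w : a ≫ f = j ≫ b) :
    ∃! l : T' ⟶ X, j ≫ l = a ∧ l ≫ f = b := by
  have hfU : AlgSp.IsFormallyUnramifiedMor f.hom := fun sq l l' h1 h2 h3 h4 =>
    (hf sq).unique ⟨h1, h2⟩ ⟨h3, h4⟩
  have hfS : AlgSp.IsFormallySmoothMor f.hom := fun sq => (hf sq).exists
  have w' : a.hom ≫ f.hom = j.hom ≫ b.hom := congrArg (·.hom) w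
  have HU : Groth.Agent.Lib.Helper12.InfGlue2.UniqLocLifts j.hom f.hom a.hom b.hom := by
    intro V c hV hc l0 l0' h h'
    obtain ⟨W, snd, fst, sq⟩ := hj.1.1 c
    have hthick := hj.1.2 c fst snd sq
    have hsq0 : AlgSp.sqZero snd.left := hj.2 c fst snd hV hc sq
    haveI : IsClosedImmersion snd.left := hthick.1
    haveI : IsAffine V.left := hV
    rw [Groth.Agent.Lib.Helper12.InfGlue2.isLocLift_iff_of_isPullback c fst snd sq] at h h'
    exact Groth.Agent.Lib.Helper12.InfGlue.uniq_of_affine snd f.hom hfU hsq0 l0 l0'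
      (h.1.trans h'.1.symm) (h.2.trans h'.2.symm)
  have HE : Groth.Agent.Lib.Helper12.InfGlue2.ExistsLocLifts j.hom f.hom a.hom b.hom := by
    intro V c hV hc
    obtain ⟨W, snd, fst, sq⟩ := hj.1.1 c
    have hthick := hj.1.2 c fst snd sq
    have hsq0 : AlgSp.sqZero snd.left := hj.2 c fst snd hV hc sq
    haveI : IsClosedImmersion snd.left := hthick.1
    haveI : IsAffine V.left := hV
    obtain ⟨l0, h1, h2⟩ := Groth.Agent.Lib.Helper12.InfGlue.exists_lift_of_affine snd f.hom hfS hsq0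
      (fst ≫ a.hom) (c ≫ b.hom) (by rw [Category.assoc, w', ← Category.assoc, sq.w, Category.assoc])
    exact ⟨l0, (Groth.Agent.Lib.Helper12.InfGlue2.isLocLift_iff_of_isPullback c fst snd sq l0).2
      ⟨h1, h2⟩⟩
  obtain ⟨l0, ⟨h1, h2⟩, hu⟩ := Groth.Agent.Lib.Helper12.InfGlue2.exists_unique_glue T'.property
    hj.1.1 HU HE
  refine ⟨ObjectProperty.homMk l0, ⟨?_, ?_⟩, ?_⟩
  · apply ObjectProperty.hom_ext
    exact h1
  · apply ObjectProperty.hom_ext
    exact h2
  · rintro l' ⟨e1, e2⟩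
    apply ObjectProperty.hom_ext
    exact hu l'.hom ⟨congrArg (·.hom) e1, congrArg (·.hom) e2⟩

end Groth.Agent.S10625
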