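import Groth.Statements.S10627
import Mathlib
import Groth.Agent.Lib.Helper12EtaleLift3
import Groth.Agent.S9874
import Groth.Agent.S10177
import Groth.Agent.S10208
import Groth.Agent.S10210
import Groth.Agent.S1489

set_option autoImplicit false
universe u
open CategoryTheory CategoryTheory.Limits AlgebraicGeometry
open AlgSp

namespace Groth.Agent.S10627





/-- A morphism f : X ⟶ Y of algebraic spaces over S is etale if and only if it is locally of finite
presentation and formally etale (lifting sense). -/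
theorem result {S : Scheme.{u}} {X Y : AlgSp.Space S} (f : X ⟶ Y) :
    AlgSp.IsEtaleMor f.hom ↔ AlgSp.LocP @LocallyOfFinitePresentation f.hom ∧ AlgSp.IsFormallyEtaleMor f.hom := by
  constructor
  · intro hf
    refine ⟨?_, Groth.Agent.Lib.Helper12.EtaleLift3.isFormallyEtaleMor_of_isEtaleMor X.property
      f.hom hf⟩
    intro U V a b h ha hb hcomm
    let XU : AlgSp.Space S := ⟨(AlgSp.yon S).obj U, AlgSp.IsAlgSpace.yon_obj U⟩
    let YV : AlgSp.Space S := ⟨(AlgSp.yon S).obj V, AlgSp.IsAlgSpace.yon_obj V⟩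
    let φ : XU ⟶ YV := ObjectProperty.homMk ((AlgSp.yon S).map h)
    let β : YV ⟶ Y := ObjectProperty.homMk b
    let γ : XU ⟶ Y := ObjectProperty.homMk (a ≫ f.hom)
    have hw : φ ≫ β = γ := by
      apply ObjectProperty.hom_ext
      exact hcomm.symm
    have hγ : AlgSp.IsEtaleMor γ.hom := by
      intro W ψ hψ
      have h1 : AlgSp.RepWith @Etale (ψ ≫ a) := (AlgSp.RepWith @Etale).comp_mem _ _ hψ ha
      have h2 := hf (ψ ≫ a) h1
      rwa [Category.assoc] at h2
    have hβ : AlgSp.IsEtaleMor β.hom := by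
      intro W ψ hψ
      exact (AlgSp.RepWith @Etale).comp_mem _ _ hψ hb
    have hφ : AlgSp.IsEtaleMor ((AlgSp.yon S).map h) := Groth.Agent.S10210.result φ β γ hw hγ hβ
    haveI : Etale h.left := (AlgSp.isEtaleMor_yon_map_iff h).1 hφ
    infer_instance
  · rintro ⟨hL, hF⟩
    obtain ⟨V, b, hbe, hbs⟩ := Y.property.atlas
    have hXV : AlgSp.IsAlgSpace (pullback f.hom b) :=
      Groth.Agent.S9874.isAlgSpace_of_isPullback Y.property.diag X.property
        (AlgSp.IsAlgSpace.yon_obj V) (IsPullback.of_hasPullback f.hom b)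
    obtain ⟨U, a0, hae, has⟩ := hXV.atlas
    have hpr1 : AlgSp.RepWith @Etale (pullback.fst f.hom b) :=
      MorphismProperty.of_isPullback (P := AlgSp.RepWith @Etale)
        (IsPullback.of_hasPullback f.hom b).flip hbe
    have hpr1s : AlgSp.RepWith @Surjective (pullback.fst f.hom b) :=
      MorphismProperty.of_isPullback (P := AlgSp.RepWith @Surjective)
        (IsPullback.of_hasPullback f.hom b).flip hbs
    obtain ⟨h, hh⟩ := (AlgSp.yon S).map_surjective (a0 ≫ pullback.snd f.hom b)
    have hae' : AlgSp.RepWith @Etale (a0 ≫ pullback.fst f.hom b) :=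
      (AlgSp.RepWith @Etale).comp_mem _ _ hae hpr1
    have has' : AlgSp.RepWith @Surjective (a0 ≫ pullback.fst f.hom b) :=
      (AlgSp.RepWith @Surjective).comp_mem _ _ has hpr1s
    have hcomm : (a0 ≫ pullback.fst f.hom b) ≫ f.hom = (AlgSp.yon S).map h ≫ b := by
      rw [Category.assoc, pullback.condition, ← Category.assoc, hh]
    have hlfp : LocallyOfFinitePresentation h.left := hL _ b h hae' hbe hcomm
    have haE := Groth.Agent.Lib.Helper12.EtaleLift.isFormallyEtaleMor_of_repWith_etale _ hae'
    have hbE := Groth.Agent.Lib.Helper12.EtaleLift.isFormallyEtaleMor_of_repWith_etale b hbe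
    have hbU := ((Groth.Agent.Lib.Helper15.isFormallyEtaleMor_iff b).1 hbE).2
    have h2 : AlgSp.IsFormallyEtaleMor ((AlgSp.yon S).map h ≫ b) := by
      rw [← hcomm]
      exact Groth.Agent.Lib.Helper15.isFormallyEtaleMor_comp _ _ haE hF
    have h2' := (Groth.Agent.Lib.Helper15.isFormallyEtaleMor_iff _).1 h2
    have hfe : MoreMor.IsFormallyEtaleHom h.left := by
      apply Groth.Agent.Lib.Helper12.EtaleLift3.isFormallyEtaleHom_of_yon_map h
      rw [Groth.Agent.Lib.Helper15.isFormallyEtaleMor_iff]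
      exact ⟨Groth.Agent.Lib.Helper15.isFormallySmoothMor_of_comp _ _ hbU h2'.1,
        Groth.Agent.Lib.Helper15.isFormallyUnramifiedMor_of_comp _ _ h2'.2⟩
    haveI : Etale h.left := (Groth.Agent.S1489.result h.left).2 ⟨hlfp, hfe⟩
    exact Groth.Agent.S10208.result f _ hae' has' b hbe h hcomm

end Groth.Agent.S10627
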