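import Groth.Statements.S10630
import Mathlib
import Groth.Agent.Lib.Helper12InfGlue2

set_option autoImplicit false
universe u
open CategoryTheory CategoryTheory.Limits AlgebraicGeometry
open AlgSp

namespace Groth.Agent.S10630





/-- (1) ⇔ (3): let h : Z ⟶ X be a morphism of algebraic spaces over S and let i : Z ⟶ Z', h' : Z' ⟶ X be
a first order thickening of Z over X (i ≫ h' = h). Then (i, h') is a universal first order
thickening of Z over X if and only if for every first order thickening j : T ⟶ T' of schemes over S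
with T' affine, every a : T ⟶ Z and b : T' ⟶ X with j ≫ b = a ≫ h, there is exactly one a' : T' ⟶ Z'
with j ≫ a' = a ≫ i and a' ≫ h' = b. -/
theorem result {S : Scheme.{u}} {Z Z' X : AlgSp.Space S} (h : Z ⟶ X) (i : Z ⟶ Z')
    (h' : Z' ⟶ X) (hi : AlgSp.IsFOThickMor i.hom) (w : i ≫ h' = h) :
    AlgSp.IsUnivFOThick h.hom i.hom h'.hom ↔
      ∀ (T T' : Over S) (j : T ⟶ T'), IsAffine T'.left → AlgSp.IsFOThickMor ((AlgSp.yon S).map j) →
        ∀ (a : (AlgSp.yon S).obj T ⟶ Z.obj) (b : (AlgSp.yon S).obj T' ⟶ X.obj),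
          (AlgSp.yon S).map j ≫ b = a ≫ h.hom →
          ∃! a' : (AlgSp.yon S).obj T' ⟶ Z'.obj, (AlgSp.yon S).map j ≫ a' = a ≫ i.hom ∧ a' ≫ h'.hom = b := by
  constructor
  · rintro ⟨-, -, hU⟩ T T' j hT' hj a b hjb
    exact hU (AlgSp.IsAlgSpace.yon_obj T) (AlgSp.IsAlgSpace.yon_obj T') _ a b hj hjb
  · intro H
    refine ⟨hi, congrArg (·.hom) w, ?_⟩
    intro T T' hT hT' j a b hj hjb
    -- the affine test problem attached to a chart
    have key : ∀ (V W : Over S) (c : (AlgSp.yon S).obj V ⟶ T') (fst : (AlgSp.yon S).obj W ⟶ T)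
        (snd : W ⟶ V), IsAffine V.left → AlgSp.RepWith @Etale c →
        IsPullback fst ((AlgSp.yon S).map snd) j c →
        ∃! a' : (AlgSp.yon S).obj V ⟶ Z'.obj,
          (AlgSp.yon S).map snd ≫ a' = fst ≫ a ≫ i.hom ∧ a' ≫ h'.hom = c ≫ b := by
      intro V W c fst snd hV hc sq
      have hthick : AlgSp.IsFOThickMor ((AlgSp.yon S).map snd) := by
        refine ⟨(AlgSp.isThickMor_yon_map_iff snd).2 (hj.1.2 c fst snd sq), ?_⟩
        intro V2 W2 b2 fst2 snd2 hV2 hb2 sq2
        exact hj.2 (b2 ≫ c) (fst2 ≫ fst) snd2 hV2 (MorphismProperty.comp_mem _ _ _ hb2 hc)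
          (sq2.paste_horiz sq)
      have := H W V snd hV hthick (fst ≫ a) (c ≫ b) (by
        rw [← Category.assoc, ← sq.w, Category.assoc, hjb, Category.assoc])
      simpa only [Category.assoc] using this
    have HU : Groth.Agent.Lib.Helper12.InfGlue2.UniqLocLifts j h'.hom (a ≫ i.hom) b := by
      intro V c hV hc l0 l0' hl hl'
      obtain ⟨W, snd, fst, sq⟩ := hj.1.1 c
      rw [Groth.Agent.Lib.Helper12.InfGlue2.isLocLift_iff_of_isPullback c fst snd sq] at hl hl'
      exact (key V W c fst snd hV hc sq).unique hl hl'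
    have HE : Groth.Agent.Lib.Helper12.InfGlue2.ExistsLocLifts j h'.hom (a ≫ i.hom) b := by
      intro V c hV hc
      obtain ⟨W, snd, fst, sq⟩ := hj.1.1 c
      obtain ⟨l0, hl0, -⟩ := key V W c fst snd hV hc sq
      exact ⟨l0, (Groth.Agent.Lib.Helper12.InfGlue2.isLocLift_iff_of_isPullback c fst snd sq l0).2
        hl0⟩
    exact Groth.Agent.Lib.Helper12.InfGlue2.exists_unique_glue hT' hj.1.1 HU HE

end Groth.Agent.S10630
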