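import Groth.Statements.S10631
import Mathlib
import Groth.Agent.S10625

set_option autoImplicit false
universe u
open CategoryTheory CategoryTheory.Limits AlgebraicGeometry
open AlgSp

namespace Groth.Agent.S10631





/-- Consider morphisms Z ⟶ Y ⟶ X of algebraic spaces over S. If (i : Z ⟶ Z', h' : Z' ⟶ Y) is, over Y, a
universal first order thickening of Z and g : Y ⟶ X is formally etale, then (i, h' ≫ g) is, over X,
a universal first order thickening of Z. -/
theorem result {S : Scheme.{u}} {Z Z' Y X : AlgSp.Space S} (hZ : Z ⟶ Y) (g : Y ⟶ X)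
    (i : Z ⟶ Z') (h' : Z' ⟶ Y) (HU : AlgSp.IsUnivFOThick hZ.hom i.hom h'.hom) (hg : AlgSp.IsFormallyEtaleMor g.hom) :
    AlgSp.IsUnivFOThick (hZ ≫ g).hom i.hom (h' ≫ g).hom := by
  obtain ⟨hi, hw, hU⟩ := HU
  refine ⟨hi, ?_, ?_⟩
  · change i.hom ≫ h'.hom ≫ g.hom = hZ.hom ≫ g.hom
    rw [← Category.assoc, hw]
  · intro T T' hT hT' j a b hj hjb
    have hjb' : j ≫ b = a ≫ hZ.hom ≫ g.hom := hjb
    obtain ⟨bY, ⟨hb1, hb2⟩, hbu⟩ := Groth.Agent.S10625.result (X := Y) (Y := X) g hg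
      (T := ⟨T, hT⟩) (T' := ⟨T', hT'⟩) (ObjectProperty.homMk j) hj
      (ObjectProperty.homMk (a ≫ hZ.hom)) (ObjectProperty.homMk b) (by
        apply ObjectProperty.hom_ext
        change (a ≫ hZ.hom) ≫ g.hom = j ≫ b
        rw [Category.assoc, hjb'])
    have hb1' : j ≫ bY.hom = a ≫ hZ.hom := congrArg (·.hom) hb1
    have hb2' : bY.hom ≫ g.hom = b := congrArg (·.hom) hb2
    obtain ⟨a', ⟨ha1, ha2⟩, hau⟩ := hU hT hT' j a bY.hom hj hb1'
    refine ⟨a', ⟨ha1, ?_⟩, ?_⟩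
    · change a' ≫ h'.hom ≫ g.hom = b
      rw [← Category.assoc, ha2, hb2']
    · rintro a'' ⟨h1, h2⟩
      have h2' : a'' ≫ h'.hom ≫ g.hom = b := h2
      apply hau
      refine ⟨h1, ?_⟩
      have := hbu (ObjectProperty.homMk (a'' ≫ h'.hom)) ⟨?_, ?_⟩
      · exact congrArg (·.hom) this
      · apply ObjectProperty.hom_ext
        change j ≫ a'' ≫ h'.hom = a ≫ hZ.hom
        rw [← Category.assoc, h1, Category.assoc, hw]
      · apply ObjectProperty.hom_ext
        change (a'' ≫ h'.hom) ≫ g.hom = b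
        rw [Category.assoc, h2']

end Groth.Agent.S10631
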