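import Groth.Statements.S10632
import Mathlib
import Groth.Agent.Lib.Helper12EtaleLift3
import Groth.Agent.S10625

set_option autoImplicit false
universe u
open CategoryTheory CategoryTheory.Limits AlgebraicGeometry
open AlgSp

namespace Groth.Agent.S10632





/-- Let e : Z ⟶ Y be an etale morphism of algebraic spaces over S, hY : Y ⟶ X, and let (iY : Y ⟶ Y', hY'
: Y' ⟶ X) be a universal first order thickening of Y over X. Let e' : Z' ⟶ Y' be etale with iZ : Z ⟶
Z' making Z = Y ×_{Y'} Z' a pullback square. Then (iZ, e' ≫ hY') is a universal first order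
thickening of Z over X. -/
theorem result {S : Scheme.{u}} {Z Y Y' Z' X : AlgSp.Space S} (e : Z ⟶ Y)
    (he : AlgSp.IsEtaleMor e.hom) (hY : Y ⟶ X) (iY : Y ⟶ Y') (hY' : Y' ⟶ X)
    (HU : AlgSp.IsUnivFOThick hY.hom iY.hom hY'.hom) (iZ : Z ⟶ Z') (e' : Z' ⟶ Y') (he' : AlgSp.IsEtaleMor e'.hom)
    (sq : IsPullback e.hom iZ.hom iY.hom e'.hom) :
    AlgSp.IsUnivFOThick (e ≫ hY).hom iZ.hom (e' ≫ hY').hom := by
  have he'E := Groth.Agent.Lib.Helper12.EtaleLift3.isFormallyEtaleMor_of_isEtaleMor Z'.property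
    e'.hom he'
  have hw1 : iZ.hom ≫ e'.hom ≫ hY'.hom = e.hom ≫ hY.hom := by
    rw [← Category.assoc, ← sq.w, Category.assoc, HU.2.1]
  refine ⟨⟨MorphismProperty.of_isPullback (P := AlgSp.RepWith AlgSp.thick) sq HU.1.1, ?_⟩, hw1, ?_⟩
  · intro V W b fst snd hV hb sqb
    exact HU.1.2 (b ≫ e'.hom) (fst ≫ e.hom) snd hV (he' b hb) (sqb.paste_horiz sq)
  · intro T T' hT hT' j a b hj hw
    have hw' : j ≫ b = (a ≫ e.hom) ≫ hY.hom := by
      rw [Category.assoc]
      exact hw
    obtain ⟨a1, ⟨h11, h12⟩, hu1⟩ := HU.2.2 hT hT' j (a ≫ e.hom) b hj hw'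
    let Ts : AlgSp.Space S := ⟨T, hT⟩
    let T's : AlgSp.Space S := ⟨T', hT'⟩
    let js : Ts ⟶ T's := ObjectProperty.homMk j
    let as : Ts ⟶ Z' := ObjectProperty.homMk (a ≫ iZ.hom)
    let bs : T's ⟶ Y' := ObjectProperty.homMk a1
    have hws : as ≫ e' = js ≫ bs := by
      apply ObjectProperty.hom_ext
      change (a ≫ iZ.hom) ≫ e'.hom = j ≫ a1
      rw [Category.assoc, ← sq.w, ← Category.assoc, h11]
    obtain ⟨l, ⟨hl1, hl2⟩, hlu⟩ := Groth.Agent.S10625.result e' he'E js hj as bs hws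
    refine ⟨l.hom, ⟨congrArg (·.hom) hl1, ?_⟩, ?_⟩
    · have := congrArg (·.hom) hl2
      change l.hom ≫ e'.hom ≫ hY'.hom = b
      rw [← Category.assoc]
      exact (congrArg (· ≫ hY'.hom) this).trans h12
    · rintro l' ⟨h1', h2'⟩
      have h3 : l' ≫ e'.hom = a1 := by
        apply hu1
        refine ⟨?_, ?_⟩
        · rw [← Category.assoc, h1', Category.assoc, ← sq.w, Category.assoc]
        · rw [Category.assoc]
          exact h2'
      have := hlu (ObjectProperty.homMk l') ⟨by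
        apply ObjectProperty.hom_ext
        exact h1', by
        apply ObjectProperty.hom_ext
        exact h3⟩
      exact congrArg (·.hom) this

end Groth.Agent.S10632
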