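import Groth.Statements.S10636
import Mathlib
import Groth.Agent.Lib.Helper12UnivThickUnram

set_option autoImplicit false
universe u
open CategoryTheory CategoryTheory.Limits AlgebraicGeometry
open AlgSp

namespace Groth.Agent.S10636





/-- Take a formally unramified morphism h : Z ⟶ X of algebraic spaces over S and let (i : Z ⟶ Z', h' :
Z' ⟶ X) be a universal first order thickening of Z over X. Then h' is formally unramified. -/
theorem result {S : Scheme.{u}} {Z Z' X : AlgSp.Space S} (h : Z ⟶ X)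
    (hh : AlgSp.IsFormallyUnramifiedMor h.hom) (i : Z ⟶ Z') (h' : Z' ⟶ X) (HU : AlgSp.IsUnivFOThick h.hom i.hom h'.hom) :
    AlgSp.IsFormallyUnramifiedMor h'.hom := by
  apply Groth.Agent.Lib.Helper12.UnivThickUnram.isFormallyUnramifiedMor_of_uniq i.hom h'.hom HU.1
    Z'.property
  intro T T' j hj a a' a'' e1 e2 e3
  have hw : (AlgSp.yon S).map j ≫ (a' ≫ h'.hom) = a ≫ h.hom := by
    rw [← Category.assoc, e1, Category.assoc, HU.2.1]
  exact (HU.2.2 (AlgSp.IsAlgSpace.yon_obj T) (AlgSp.IsAlgSpace.yon_obj T') ((AlgSp.yon S).map j) a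
    (a' ≫ h'.hom) hj hw).unique ⟨e1, rfl⟩ ⟨e2, e3.symm⟩

end Groth.Agent.S10636
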