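import Groth.Statements.S10644
import Groth.Agent.Lib.Helper9SpWhereInj
import Groth.Agent.Lib.Helper9SpWhere2
import Groth.Agent.Lib.Helper12Proper
import Groth.Agent.Lib.Helper12LocPCases
import Groth.Agent.S10261
import Groth.Agent.S10265
import Groth.Agent.S10266
import Groth.Agent.S10194
import Groth.Agent.S9906

set_option autoImplicit false
universe u
open CategoryTheory CategoryTheory.Limits AlgebraicGeometry
open AlgSp

namespace Groth.Agent.S10644

open AlgSp

variable {S : Scheme.{u}}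

/-- the second projection `X ×_Y X ⟶ X` followed by a universally closed `X ⟶ Z` is closed as soon as
`Y ⟶ Z` is separated. -/
lemma isClosedMap_snd_comp {X Y Z : AlgSp.Space S} (f : X ⟶ Y) (q : Y ⟶ Z)
    (hp3 : AlgSp.IsUnivClosedMor (f ≫ q).hom) (hq3 : AlgSp.IsSeparatedMor q.hom) :
    IsClosedMap (AlgSp.Points.map (pullback.snd f.hom f.hom ≫ (f ≫ q).hom)) := by
  have sq := pullback_map_diagonal_isPullback f.hom f.hom q.hom
  have hm : AlgSp.RepWith @IsClosedImmersion
      (pullback.map f.hom f.hom (f.hom ≫ q.hom) (f.hom ≫ q.hom) (𝟙 _) (𝟙 _) q.hom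
        (Category.id_comp _).symm (Category.id_comp _).symm) :=
    MorphismProperty.of_isPullback (P := AlgSp.RepWith @IsClosedImmersion) sq hq3
  have h1 := Groth.Agent.Lib.Helper12.Proper.isClosedMap_of_repWith_isClosedImmersion _ hm
  have h2 : IsClosedMap (AlgSp.Points.map (pullback.snd (f.hom ≫ q.hom) (f.hom ≫ q.hom))) :=
    hp3 X.property (f ≫ q).hom (pullback.fst _ _) (pullback.snd _ _)
      (IsPullback.of_hasPullback (f.hom ≫ q.hom) (f.hom ≫ q.hom))
  have h3 : IsClosedMap (AlgSp.Points.map (f ≫ q).hom) :=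
    hp3 Z.property (𝟙 _) (𝟙 _) _ (IsPullback.of_horiz_isIso ⟨by simp⟩)
  have e : AlgSp.Points.map (pullback.snd f.hom f.hom ≫ (f ≫ q).hom) =
      AlgSp.Points.map (f ≫ q).hom ∘ AlgSp.Points.map (pullback.snd (f.hom ≫ q.hom) (f.hom ≫ q.hom)) ∘
        AlgSp.Points.map (pullback.map f.hom f.hom (f.hom ≫ q.hom) (f.hom ≫ q.hom) (𝟙 _) (𝟙 _) q.hom
        (Category.id_comp _).symm (Category.id_comp _).symm) := by
    funext x
    simp only [Function.comp_apply]
    rw [← AlgSp.Points.map_comp, ← AlgSp.Points.map_comp]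
    congr 1
    rw [← Category.assoc, pullback.lift_snd, Category.comp_id]
  rw [e]
  exact h3.comp (h2.comp h1)

/-- a morphism of sheaves which is an isomorphism is bijective on points. -/
lemma points_map_bijective_of_isIso {F G : AlgSp.Sp S} (a : F ⟶ G) [IsIso a] :
    Function.Bijective (AlgSp.Points.map a) := by
  refine Function.bijective_iff_has_inverse.2 ⟨AlgSp.Points.map (inv a), fun x => ?_, fun y => ?_⟩
  · rw [← AlgSp.Points.map_comp, IsIso.hom_inv_id, AlgSp.Points.map_id]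
  · rw [← AlgSp.Points.map_comp, IsIso.inv_hom_id, AlgSp.Points.map_id]

theorem main {X Y Z : AlgSp.Space S}
    (f : X ⟶ Y) (q : Y ⟶ Z)
    (hp1 : AlgSp.LocP @LocallyOfFinitePresentation (f ≫ q).hom) (hp2 : AlgSp.LocP @Flat (f ≫ q).hom)
    (hp3 : AlgSp.IsUnivClosedMor (f ≫ q).hom) (hq1 : AlgSp.LocP @LocallyOfFiniteType q.hom)
    (hq2 : AlgSp.IsClosedMor q.hom) (hq3 : AlgSp.IsSeparatedMor q.hom) :
    ∃ (W : AlgSp.Space S) (w : W ⟶ Z), AlgSp.RepWith @IsOpenImmersion w.hom ∧
      ∀ (Z' : AlgSp.Space S) (g : Z' ⟶ Z),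
        (∃ k : Z' ⟶ W, k ≫ w = g) ↔
          ∀ (Y' : AlgSp.Space S) (gY : Y' ⟶ Y) (q' : Y' ⟶ Z'),
            IsPullback gY.hom q'.hom q.hom g.hom →
            ∀ (X' : AlgSp.Space S) (gX : X' ⟶ X) (f' : X' ⟶ Y'),
              IsPullback gX.hom f'.hom f.hom gY.hom →
                IsIso f'.hom := by
  have sqXX := IsPullback.of_hasPullback f.hom f.hom
  have hXX : AlgSp.IsAlgSpace (pullback f.hom f.hom) :=
    Groth.Agent.S9874.isAlgSpace_of_isPullback Y.property.diag X.property X.property sqXX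
  let XX : AlgSp.Space S := ⟨_, hXX⟩
  let pr0 : XX ⟶ X := ObjectProperty.homMk (pullback.fst f.hom f.hom)
  let pr1 : XX ⟶ X := ObjectProperty.homMk (pullback.snd f.hom f.hom)
  have hlft : AlgSp.LocP @LocallyOfFiniteType (f ≫ q).hom := fun U V a b h ha hb hc => by
    haveI := hp1 a b h ha hb hc
    infer_instance
  have hcl : AlgSp.IsClosedMor (f ≫ q).hom :=
    hp3 Z.property (𝟙 _) (𝟙 _) _ (IsPullback.of_horiz_isIso ⟨by simp⟩)
  have hcl2 : AlgSp.IsClosedMor (pr1 ≫ f ≫ q).hom := isClosedMap_snd_comp f q hp3 hq3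
  obtain ⟨W₁, w₁, hw₁, fac₁⟩ :=
    Groth.Agent.Lib.Helper9.SpWhere.main10643 f (f ≫ q) q rfl hp1 hp2 hcl hq1 hq2
  obtain ⟨W₂, w₂, hw₂, fac₂⟩ :=
    Groth.Agent.Lib.Helper9.SpWhereInj.main10640 f (f ≫ q) q rfl XX pr0 pr1 sqXX hlft hcl hcl2
  have sqW := IsPullback.of_hasPullback w₁.hom w₂.hom
  have hW : AlgSp.IsAlgSpace (pullback w₁.hom w₂.hom) :=
    Groth.Agent.S9874.isAlgSpace_of_isPullback Z.property.diag W₁.property W₂.property sqW
  let W : AlgSp.Space S := ⟨_, hW⟩
  let w : W ⟶ Z := ObjectProperty.homMk (pullback.fst w₁.hom w₂.hom ≫ w₁.hom)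
  refine ⟨W, w, ?_, fun Z' g => ?_⟩
  · have h1 : AlgSp.RepWith @IsOpenImmersion (pullback.fst w₁.hom w₂.hom) :=
      MorphismProperty.of_isPullback (P := AlgSp.RepWith @IsOpenImmersion) sqW.flip hw₂
    exact (AlgSp.repWith_isMultiplicative (S := S) @IsOpenImmersion).comp_mem _ _ h1 hw₁
  · have e : (∃ k : Z' ⟶ W, k ≫ w = g) ↔
        (∃ k : Z' ⟶ W₁, k ≫ w₁ = g) ∧ (∃ k : Z' ⟶ W₂, k ≫ w₂ = g) := by
      constructor
      · rintro ⟨k, rfl⟩
        refine ⟨⟨k ≫ ObjectProperty.homMk (pullback.fst w₁.hom w₂.hom), ?_⟩,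
          ⟨k ≫ ObjectProperty.homMk (pullback.snd w₁.hom w₂.hom), ?_⟩⟩
        · rw [Category.assoc]; rfl
        · rw [Category.assoc]
          congr 1
          ext1
          exact pullback.condition.symm
      · rintro ⟨⟨k₁, h1⟩, ⟨k₂, h2⟩⟩
        have hc : k₁.hom ≫ w₁.hom = k₂.hom ≫ w₂.hom := by
          have := congrArg (fun m => m.hom) (h1.trans h2.symm)
          exact this
        refine ⟨ObjectProperty.homMk (pullback.lift k₁.hom k₂.hom hc), ?_⟩
        ext1
        change pullback.lift k₁.hom k₂.hom hc ≫ pullback.fst w₁.hom w₂.hom ≫ w₁.hom = g.hom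
        rw [pullback.lift_fst_assoc, ← h1]
        rfl
    rw [e, fac₁, fac₂]
    constructor
    · rintro ⟨H1, H2⟩ Y' gY q' sq1 X' gX f' sq2
      obtain ⟨hs, hfl⟩ := H1 Y' gY q' sq1 X' gX f' sq2
      obtain ⟨hun, hinj⟩ := H2 Y' gY q' sq1 X' gX f' sq2
      have hbig : IsPullback gX.hom (f' ≫ q').hom (f ≫ q).hom g.hom := sq2.paste_vert sq1
      have hp' : AlgSp.LocP @LocallyOfFinitePresentation (f' ≫ q').hom :=
        Groth.Agent.Lib.Helper12.LocPCases.good_lfp.locP_baseChange X.property Z.property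
          Z'.property hbig hp1
      have hq' : AlgSp.LocP @LocallyOfFiniteType q'.hom :=
        Groth.Agent.Lib.Helper12.LocPCases.good_lft.locP_baseChange Y.property Z.property
          Z'.property sq1 hq1
      have hfp : AlgSp.LocP @LocallyOfFinitePresentation f'.hom :=
        Groth.Agent.Lib.Helper9.SpFlatLocus.locP_lfp_of_comp f' q' hp' hq'
      have het : AlgSp.IsEtaleMor f'.hom := Groth.Agent.S10266.result f' hfp hfl hun
      have hoi := Groth.Agent.S10261.result f' het hinj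
      have hsj := Groth.Agent.S9906.repWith_surjective_of_surjective_map f'.hom hoi.1 hs
      exact Groth.Agent.S10194.isIso_of_repWith_openImmersion_surjective f'.hom hoi hsj
    · intro H
      have key : ∀ (Y' : AlgSp.Space S) (gY : Y' ⟶ Y) (q' : Y' ⟶ Z'),
          IsPullback gY.hom q'.hom q.hom g.hom →
          ∀ (X' : AlgSp.Space S) (gX : X' ⟶ X) (f' : X' ⟶ Y'),
            IsPullback gX.hom f'.hom f.hom gY.hom →
              (AlgSp.IsSurjectiveMor f'.hom ∧ AlgSp.LocP @Flat f'.hom) ∧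
              (AlgSp.LocP (@LocallyOfFiniteType ⊓ @FormallyUnramified) f'.hom ∧
                AlgSp.IsUnivInjectiveMor f'.hom) := by
        intro Y' gY q' sq1 X' gX f' sq2
        haveI : IsIso f'.hom := H Y' gY q' sq1 X' gX f' sq2
        have het : AlgSp.IsEtaleMor f'.hom := by
          intro U φ hφ
          exact (MorphismProperty.cancel_right_of_respectsIso (AlgSp.RepWith @Etale) φ f'.hom).2 hφ
        obtain ⟨-, -, hfl, -, -, hun⟩ := Groth.Agent.S10265.result f' het
        refine ⟨⟨(points_map_bijective_of_isIso f'.hom).2, hfl⟩, hun, ?_⟩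
        intro T T' hT t a b sqT
        haveI : IsIso b := sqT.isIso_snd_of_isIso
        exact (points_map_bijective_of_isIso b).1
      exact ⟨fun Y' gY q' sq1 X' gX f' sq2 => (key Y' gY q' sq1 X' gX f' sq2).1,
        fun Y' gY q' sq1 X' gX f' sq2 => (key Y' gY q' sq1 X' gX f' sq2).2⟩



/-- For morphisms f : X ⟶ Y, p : X ⟶ Z and q : Y ⟶ Z of algebraic spaces over S with f ≫ q = p, where p
is flat, universally closed and locally of finite presentation and q is closed, separated and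
locally of finite type, there is an open subspace W of Z with the following property: a morphism of
algebraic spaces g : Z' ⟶ Z factors through W exactly when the base change X' ⟶ Y' of f along g is
an isomorphism. Here the base change of f along g is any f' : X' ⟶ Y' obtained from pullback squares
Y' = Y ×_Z Z' and X' = X ×_Y Y' of algebraic spaces over S, and W ⊂ Z is given as a representable
open immersion w : W ⟶ Z. -/
theorem result {S : Scheme.{u}} {X Y Z : AlgSp.Space S}
    (f : X ⟶ Y) (p : X ⟶ Z) (q : Y ⟶ Z) (hc : f ≫ q = p)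
    (hp1 : AlgSp.LocP @LocallyOfFinitePresentation p.hom) (hp2 : AlgSp.LocP @Flat p.hom)
    (hp3 : AlgSp.IsUnivClosedMor p.hom) (hq1 : AlgSp.LocP @LocallyOfFiniteType q.hom)
    (hq2 : AlgSp.IsClosedMor q.hom) (hq3 : AlgSp.IsSeparatedMor q.hom) :
    ∃ (W : AlgSp.Space S) (w : W ⟶ Z), AlgSp.RepWith @IsOpenImmersion w.hom ∧
      ∀ (Z' : AlgSp.Space S) (g : Z' ⟶ Z),
        (∃ k : Z' ⟶ W, k ≫ w = g) ↔
          ∀ (Y' : AlgSp.Space S) (gY : Y' ⟶ Y) (q' : Y' ⟶ Z'),
            IsPullback gY.hom q'.hom q.hom g.hom →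
            ∀ (X' : AlgSp.Space S) (gX : X' ⟶ X) (f' : X' ⟶ Y'),
              IsPullback gX.hom f'.hom f.hom gY.hom →
                IsIso f'.hom := by
  subst hc
  exact main f q hp1 hp2 hp3 hq1 hq2 hq3

end Groth.Agent.S10644
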