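import Groth.Statements.S10659
import Mathlib
import Groth.Agent.Lib.Helper12QuotSh

set_option autoImplicit false
universe u
open CategoryTheory CategoryTheory.Limits AlgebraicGeometry
open AlgSp

namespace Groth.Agent.S10659


/-- the two-member family `{g, 𝟙}`. -/
def pairObj (U X : Scheme.{u}) : Bool → Scheme.{u}
  | true => U
  | false => X

/-- the two-member family `{g, 𝟙}`. -/
def pairHom {U X : Scheme.{u}} (g : U ⟶ X) : ∀ b, pairObj U X b ⟶ X
  | true => g
  | false => 𝟙 X

/-- a property etale local on the target is stable under base change along etale morphisms. -/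
lemma pullbackSnd_of_etale (P : MorphismProperty Scheme.{u})
    [P.IsLocalAtTarget Scheme.etalePrecoverage] {Y X U : Scheme.{u}} (f : Y ⟶ X) (g : U ⟶ X)
    [Etale g] (hf : P f) : P (pullback.snd f g) := by
  have hR : Presieve.ofArrows (pairObj U X) (pairHom g) ∈ Scheme.etalePrecoverage X := by
    unfold Scheme.etalePrecoverage
    rw [Scheme.ofArrows_mem_precoverage_iff]
    refine ⟨fun x => ⟨false, x, rfl⟩, fun b => ?_⟩
    cases b
    · exact (inferInstance : Etale (𝟙 X))
    · exact (inferInstance : Etale g)
  exact MorphismProperty.IsLocalAtTarget.pullbackSnd (P := P) (K := Scheme.etalePrecoverage) hR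
    (Presieve.ofArrows.mk (f := pairHom g) true) hf

/-- descent along one etale surjective morphism. -/
lemma of_pullbackSnd_of_etale_surjective (P : MorphismProperty Scheme.{u})
    [P.IsLocalAtTarget Scheme.etalePrecoverage] {Y X U : Scheme.{u}} (f : Y ⟶ X) (g : U ⟶ X)
    [Etale g] [Surjective g] (h : P (pullback.snd f g)) : P f := by
  refine MorphismProperty.IsLocalAtTarget.of_forall_pullbackSnd (P := P)
    (K := Scheme.etalePrecoverage) (R := Presieve.singleton g)
    (Groth.Agent.Lib.Helper12.QuotShLib.singleton_mem_etalePrecoverage g) ?_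
  intro V g' _ hg'
  cases hg'
  exact h




/-- For a property P of morphisms of schemes that is etale local on the target (local for the etale
precoverage) and a representable morphism f : X ⟶ Y of algebraic spaces over S: if for one scheme V
with a representable etale surjective b : h_V ⟶ Y and one pullback square of f along b with corner
h_W the projection W ⟶ V has P, then f has P etale locally on the target in the representable sense,
i.e. every such projection along every etale h_V ⟶ Y has P. (The published statement also asserts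
the converse direction and that, for X and Y representable, the condition is equivalent to f having
P; this row states only that one surjective etale chart suffices.) -/
theorem result {S : Scheme.{u}} (P : MorphismProperty Scheme.{u}) [P.IsLocalAtTarget Scheme.etalePrecoverage]
    {X Y : AlgSp.Space S} (f : X ⟶ Y) (hf : AlgSp.Representable f.hom)
    {V W : Over S} (b : (AlgSp.yon S).obj V ⟶ Y.obj) (hb1 : AlgSp.RepWith @Etale b) (hb2 : AlgSp.RepWith @Surjective b)
    (fst : (AlgSp.yon S).obj W ⟶ X.obj) (snd : W ⟶ V)
    (sq : IsPullback fst ((AlgSp.yon S).map snd) f.hom b) (hP : P snd.left) :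
    AlgSp.RepLocT P f.hom := by
  refine ⟨hf, fun V' W' b' fst' snd' hb' sq' => ?_⟩
  obtain ⟨V'', p', p, sqV⟩ := hb1.1 b'
  obtain ⟨p₀, rfl⟩ := (AlgSp.yon S).map_surjective p
  haveI hp'e : Etale p'.left := hb1.2 b' _ p' sqV
  haveI hp's : Surjective p'.left := hb2.2 b' _ p' sqV
  haveI hp₀e : Etale p₀.left := hb'.2 b _ p₀ sqV.flip
  have sqW := IsPullback.of_hasPullback snd' p'
  obtain ⟨m', hm'⟩ : ∃ m' : pullback snd' p' ⟶ W', m' = pullback.fst snd' p' := ⟨_, rfl⟩
  obtain ⟨s'', hs''⟩ : ∃ s'' : pullback snd' p' ⟶ V'', s'' = pullback.snd snd' p' := ⟨_, rfl⟩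
  rw [← hm', ← hs''] at sqW
  have big : IsPullback ((AlgSp.yon S).map m' ≫ fst') ((AlgSp.yon S).map s'') f.hom
      ((AlgSp.yon S).map p' ≫ b') := (sqW.map (AlgSp.yon S)).paste_horiz sq'
  rw [← sqV.w] at big
  have bigw : ((AlgSp.yon S).map m' ≫ fst') ≫ f.hom =
      ((AlgSp.yon S).map s'' ≫ (AlgSp.yon S).map p₀) ≫ b := by
    rw [Category.assoc _ _ b]; exact big.w
  obtain ⟨m, hm⟩ := (AlgSp.yon S).map_surjective (sq.lift _ _ bigw)
  have hm1 : (AlgSp.yon S).map m ≫ fst = (AlgSp.yon S).map m' ≫ fst' := by
    rw [hm, sq.lift_fst]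
  have hm2 : (AlgSp.yon S).map m ≫ (AlgSp.yon S).map snd =
      (AlgSp.yon S).map s'' ≫ (AlgSp.yon S).map p₀ := by
    rw [hm, sq.lift_snd]
  rw [← hm1] at big
  have left : IsPullback ((AlgSp.yon S).map m) ((AlgSp.yon S).map s'') ((AlgSp.yon S).map snd)
      ((AlgSp.yon S).map p₀) := IsPullback.of_right big hm2 sq
  have leftS : IsPullback m s'' snd p₀ :=
    IsPullback.of_map (AlgSp.yon S) ((AlgSp.yon S).map_injective (by
      rw [Functor.map_comp, Functor.map_comp]; exact hm2)) left
  have h1 : P s''.left := by
    have hL := leftS.map (Over.forget S)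
    simp only [Over.forget_obj, Over.forget_map] at hL
    have hP1 : P (pullback.snd snd.left p₀.left) := pullbackSnd_of_etale P snd.left p₀.left hP
    have e : pullback.snd snd.left p₀.left = hL.isoPullback.inv ≫ s''.left := by
      rw [IsPullback.isoPullback_inv_snd]
    rw [e] at hP1
    exact (P.cancel_left_of_respectsIso _ _).1 hP1
  have sqWL := sqW.map (Over.forget S)
  simp only [Over.forget_obj, Over.forget_map] at sqWL
  apply of_pullbackSnd_of_etale_surjective P snd'.left p'.left
  have e : pullback.snd snd'.left p'.left = sqWL.isoPullback.inv ≫ s''.left := by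
    rw [IsPullback.isoPullback_inv_snd]
  rw [e]
  exact (P.cancel_left_of_respectsIso _ _).2 h1

end Groth.Agent.S10659
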