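import Groth.Statements.S10661
import Groth.Agent.S8905
import Groth.Agent.S10660
import Groth.Agent.S5003
import Groth.Agent.Lib.Helper12NoethDescent
-- import your own Groth.Agent.* helpers here

set_option autoImplicit false
universe u
open CategoryTheory CategoryTheory.Limits AlgebraicGeometry
open AlgSp

namespace Groth.Agent.S10661

/-- every étale chart of a locally Noetherian sheaf is a locally Noetherian scheme -/
theorem isLocallyNoetherian_chart {S : Scheme.{u}} {X : AlgSp.Sp S} (hX : AlgSp.IsLocNoethSp X)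
    {V : Over S} (b : (AlgSp.yon S).obj V ⟶ X) (hb : AlgSp.RepWith @Etale b) :
    IsLocallyNoetherian V.left := by
  obtain ⟨U, p, hpe, hps, hU⟩ := hX
  obtain ⟨U', pr, h', sq⟩ := hpe.1 b
  obtain ⟨h, rfl⟩ := (AlgSp.yon S).map_surjective h'
  have : Etale pr.left := hpe.2 _ _ pr sq
  have : Surjective pr.left := hps.2 _ _ pr sq
  have : Etale h.left := hb.2 _ _ h sq.flip
  have : IsLocallyNoetherian U.left := hU
  have : IsLocallyNoetherian U'.left := LocallyOfFiniteType.isLocallyNoetherian h.left
  exact Groth.Agent.Lib.Helper12.NoethDescent.isLocallyNoetherian_of_flat_lfp_surjective pr.left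

/-- quasi-regular immersions into a locally Noetherian space are Koszul-regular -/
theorem koszul_of_quasi {S : Scheme.{u}} {Z X : AlgSp.Space S} (i : Z ⟶ X)
    (hX : AlgSp.IsLocNoethSp X.obj) (h : AlgSp.IsRegImmMor RegImm.Kind.quasi i.hom) :
    AlgSp.IsRegImmMor RegImm.Kind.koszul i.hom := by
  obtain ⟨h1, h2⟩ := h
  refine ⟨h1, fun V W b fst snd hb sq => ?_⟩
  have : IsLocallyNoetherian V.left := isLocallyNoetherian_chart hX b hb
  exact (Groth.Agent.S8905.result snd.left).1
    ((Groth.Agent.S5003.result snd.left).2 (h2 b fst snd hb sq))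


/-- For an immersion i : Z ⟶ X of algebraic spaces over S with X locally Noetherian (some etale
surjective chart is a locally Noetherian scheme), the three conditions Koszul-regular immersion,
H_1-regular immersion and quasi-regular immersion on i are equivalent. -/
theorem result {S : Scheme.{u}} {Z X : AlgSp.Space S} (i : Z ⟶ X) (hi : AlgSp.RepWith @IsImmersion i.hom)
    (hX : AlgSp.IsLocNoethSp X.obj) :
    (AlgSp.IsRegImmMor RegImm.Kind.koszul i.hom ↔ AlgSp.IsRegImmMor RegImm.Kind.h1 i.hom) ∧
      (AlgSp.IsRegImmMor RegImm.Kind.h1 i.hom ↔ AlgSp.IsRegImmMor RegImm.Kind.quasi i.hom) := by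
  have h := Groth.Agent.S10660.result i hi
  refine ⟨⟨h.1, fun hh => koszul_of_quasi i hX (h.2 hh)⟩, ⟨h.2, fun hq => h.1 (koszul_of_quasi i hX hq)⟩⟩

end Groth.Agent.S10661
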