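import Groth.Statements.S8654
import Groth.Agent.Lib.Helper13KzConcat
-- import your own Groth.Agent.* helpers here

set_option autoImplicit false
universe u
open CategoryTheory CategoryTheory.Limits AlgebraicGeometry
open RegImm

namespace Groth.Agent.S8654

/-- Let i : Y ⟶ X and j : Z ⟶ Y be Koszul-regular immersions (not necessarily closed). Then the
composite Z ⟶ X is a Koszul-regular immersion. -/
theorem result {X Y Z : Scheme.{u}} (i : Y ⟶ X) (j : Z ⟶ Y)
    (hi : RegImm.IsRegularImmersion .koszul i) (hj : RegImm.IsRegularImmersion .koszul j) :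
    RegImm.IsRegularImmersion .koszul (j ≫ i) := by
  obtain ⟨him, hiat⟩ := hi
  obtain ⟨hjm, hjat⟩ := hj
  have := him
  have := hjm
  refine ⟨inferInstance, fun z => ?_⟩
  obtain ⟨U, hU, hcl, rs, hrs, hker⟩ := hiat (j z)
  obtain ⟨V, hV, hclV, rs', hrs', hker'⟩ := hjat z
  obtain ⟨U', h1, h2, ks, -, h3, h4⟩ := Groth.Agent.Helper13KzConcat.comp_at i j z rs.length
    rs'.length ⟨U, hU, hcl, rs, rfl, hrs, hker⟩ ⟨V, hV, hclV, rs', rfl, hrs', hker'⟩
  exact ⟨U', h1, h2, ks, h3, h4⟩

end Groth.Agent.S8654
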