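import Groth.Statements.S10663
import Mathlib
import Groth.Agent.Lib.Helper13H1Comp
import Groth.Agent.S8654
-- import your own Groth.Agent.* helpers here

set_option autoImplicit false
universe u
open CategoryTheory CategoryTheory.Limits AlgebraicGeometry
open AlgSp

namespace Groth.Agent.S10663

/-- composition of regular immersions of algebraic spaces from the scheme-level composition -/
theorem comp_general {S : Scheme.{u}} (k1 k2 k3 : RegImm.Kind)
    (hcomp : ∀ {A B C : Scheme.{u}} (o : B ⟶ C) (n : A ⟶ B), RegImm.IsRegularImmersion k2 o →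
      RegImm.IsRegularImmersion k1 n → RegImm.IsRegularImmersion k3 (n ≫ o))
    {Z Y X : AlgSp.Sp S} (i : Z ⟶ Y) (j : Y ⟶ X) (hi : AlgSp.IsRegImmMor k1 i)
    (hj : AlgSp.IsRegImmMor k2 j) : AlgSp.IsRegImmMor k3 (i ≫ j) := by
  refine ⟨MorphismProperty.comp_mem _ _ _ hi.1 hj.1, fun V W b fst snd hb sq => ?_⟩
  obtain ⟨V1, pr, h1, sq1⟩ := hj.1 b
  have hpr : RegImm.IsRegularImmersion k2 pr.left := hj.2 b h1 pr hb sq1
  have hh1 : AlgSp.RepWith @Etale h1 :=
    MorphismProperty.of_isPullback (P := AlgSp.RepWith @Etale) sq1.flip hb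
  obtain ⟨l', hl'⟩ : ∃ l' : (AlgSp.yon S).obj W ⟶ (AlgSp.yon S).obj V1,
      l' = sq1.lift (fst ≫ i) ((AlgSp.yon S).map snd) (by rw [Category.assoc]; exact sq.w) :=
    ⟨_, rfl⟩
  have hl1 : l' ≫ h1 = fst ≫ i := by rw [hl', sq1.lift_fst]
  have hl2 : l' ≫ (AlgSp.yon S).map pr = (AlgSp.yon S).map snd := by rw [hl', sq1.lift_snd]
  obtain ⟨l, rfl⟩ := (AlgSp.yon S).map_surjective l'
  have top : IsPullback fst ((AlgSp.yon S).map l) i h1 := by
    refine IsPullback.of_bot ?_ hl1.symm sq1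
    rw [hl2]
    exact sq
  have hl : RegImm.IsRegularImmersion k1 l.left := hi.2 h1 fst l hh1 top
  have e : l ≫ pr = snd := (AlgSp.yon S).map_injective (by rw [Functor.map_comp]; exact hl2)
  have := hcomp pr.left l.left hpr hl
  rw [← Over.comp_left, e] at this
  exact this

/-- For immersions i : Z ⟶ Y and j : Y ⟶ X of algebraic spaces over S, the composite i ≫ j is
Koszul-regular when i and j both are; likewise for H_1-regular; and it is quasi-regular when i is
H_1-regular and j quasi-regular. -/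
theorem result {S : Scheme.{u}} {Z Y X : AlgSp.Space S} (i : Z ⟶ Y) (j : Y ⟶ X)
    (hi : AlgSp.RepWith @IsImmersion i.hom) (hj : AlgSp.RepWith @IsImmersion j.hom) :
    (AlgSp.IsRegImmMor RegImm.Kind.koszul i.hom → AlgSp.IsRegImmMor RegImm.Kind.koszul j.hom →
        AlgSp.IsRegImmMor RegImm.Kind.koszul (i ≫ j).hom) ∧
      (AlgSp.IsRegImmMor RegImm.Kind.h1 i.hom → AlgSp.IsRegImmMor RegImm.Kind.h1 j.hom →
        AlgSp.IsRegImmMor RegImm.Kind.h1 (i ≫ j).hom) ∧
      (AlgSp.IsRegImmMor RegImm.Kind.h1 i.hom → AlgSp.IsRegImmMor RegImm.Kind.quasi j.hom →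
        AlgSp.IsRegImmMor RegImm.Kind.quasi (i ≫ j).hom) := by
  refine ⟨fun h1 h2 => ?_, fun h1 h2 => ?_, fun h1 h2 => ?_⟩
  · exact comp_general .koszul .koszul .koszul
      (fun o n ho hn => Groth.Agent.S8654.result o n ho hn) i.hom j.hom h1 h2
  · exact comp_general .h1 .h1 .h1
      (fun o n ho hn => Groth.Agent.Helper13H1Comp.comp .h1 (Or.inl rfl) o n ho hn) i.hom j.hom h1 h2
  · exact comp_general .h1 .quasi .quasi
      (fun o n ho hn => Groth.Agent.Helper13H1Comp.comp .quasi (Or.inr rfl) o n ho hn) i.hom j.hom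
      h1 h2

end Groth.Agent.S10663
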