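import Groth.Statements.S10664
import Mathlib
import Groth.Agent.Lib.Helper13EtDescA
import Groth.Agent.S8656
-- import your own Groth.Agent.* helpers here

set_option autoImplicit false
universe u
open CategoryTheory CategoryTheory.Limits AlgebraicGeometry
open AlgSp

namespace Groth.Agent.S10664

/-- For a local complete intersection (Koszul) morphism f : X ⟶ Y of algebraic spaces over S, a smooth g
: P ⟶ Y, an etale e : U ⟶ X and a representable immersion i : U ⟶ P with i ≫ g = e ≫ f, the
immersion i is Koszul-regular as an immersion of algebraic spaces. -/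
theorem result {S : Scheme.{u}} {X Y P U : AlgSp.Space S} (f : X ⟶ Y) (g : P ⟶ Y) (e : U ⟶ X) (i : U ⟶ P)
    (hc : i ≫ g = e ≫ f) (hf : AlgSp.IsLCIMor f.hom) (hg : AlgSp.LocP @Smooth g.hom)
    (he : AlgSp.IsEtaleMor e.hom) (hi : AlgSp.RepWith @IsImmersion i.hom) :
    AlgSp.IsRegImmMor RegImm.Kind.koszul i.hom := by
  refine ⟨hi.1, fun V W b fst snd hb sq => ?_⟩
  haveI : IsImmersion snd.left := hi.2 b fst snd sq
  obtain ⟨Y0, y, hye, hys⟩ := Y.2.atlas
  obtain ⟨V', π, κ', sqV⟩ := hye.1 (b ≫ g.hom)
  obtain ⟨κ, rfl⟩ := (AlgSp.yon S).map_surjective κ'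
  haveI : Etale π.left := hye.2 _ _ π sqV
  haveI : Surjective π.left := hys.2 _ _ π sqV
  have hπb : AlgSp.RepWith @Etale ((AlgSp.yon S).map π ≫ b) :=
    (AlgSp.RepWith @Etale).comp_mem _ _ ((AlgSp.repWith_yon_map_iff _ _).2 inferInstance) hb
  haveI hκ : Smooth κ.left := hg ((AlgSp.yon S).map π ≫ b) y κ hπb hye
    (by rw [Category.assoc]; exact sqV.w.symm)
  have hsq : IsPullback (pullback.fst snd π).left (pullback.snd snd π).left snd.left π.left :=
    (IsPullback.of_hasPullback snd π).map (Over.forget S)
  haveI : Etale (pullback.fst snd π).left :=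
    MorphismProperty.of_isPullback (P := @Etale) hsq.flip inferInstance
  haveI : IsImmersion (pullback.snd snd π).left :=
    MorphismProperty.of_isPullback (P := @IsImmersion) hsq inferInstance
  have hfst : AlgSp.RepWith @Etale fst :=
    MorphismProperty.of_isPullback (P := AlgSp.RepWith @Etale) sq.flip hb
  have hfe : AlgSp.RepWith @Etale (fst ≫ e.hom) := he fst hfst
  have ha : AlgSp.RepWith @Etale ((AlgSp.yon S).map (pullback.fst snd π) ≫ fst ≫ e.hom) :=
    (AlgSp.RepWith @Etale).comp_mem _ _ ((AlgSp.repWith_yon_map_iff _ _).2 inferInstance) hfe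
  have hc' : e.hom ≫ f.hom = i.hom ≫ g.hom := by
    have := congrArg (fun t => t.hom) hc
    exact this.symm
  have comm' : ((AlgSp.yon S).map (pullback.fst snd π) ≫ fst ≫ e.hom) ≫ f.hom =
      (AlgSp.yon S).map (pullback.snd snd π ≫ κ) ≫ y := by
    rw [Category.assoc, Category.assoc, hc', ← Category.assoc fst, sq.w, Category.assoc,
      ← Category.assoc, ← Functor.map_comp, pullback.condition, Functor.map_comp,
      Functor.map_comp, Category.assoc, Category.assoc, sqV.w]
  have hl := hf _ y (pullback.snd snd π ≫ κ) ha hye comm'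
  have hj := Groth.Agent.S8656.result ((pullback.snd snd π ≫ κ).left) hl κ.left
    (pullback.snd snd π).left (Over.comp_left _ _ _ _ _).symm
  exact Groth.Agent.Helper13EtDesc.isRegularImmersion_of_qcCov .koszul (by decide) snd.left π.left
    (Groth.Agent.Helper13EtDesc.qcCov_of_etale π.left) (pullback.snd snd π).left
    (pullback.fst snd π).left hsq hj

end Groth.Agent.S10664
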