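import Groth.Statements.S10665
import Mathlib
import Groth.Agent.Lib.Helper13LciSmD
import Groth.Agent.S10210

set_option autoImplicit false
universe u
open CategoryTheory CategoryTheory.Limits AlgebraicGeometry
open AlgSp

namespace Groth.Agent.S10665





/-- A Koszul-regular immersion between algebraic spaces over S (representable, Koszul-regular immersion
on every etale scheme chart of the target) is a local complete intersection morphism (Koszul at
every point, etale locally on source and target). -/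
theorem result {S : Scheme.{u}} {X Y : AlgSp.Space S} (i : X ⟶ Y) (hi : AlgSp.IsRegImmMor RegImm.Kind.koszul i.hom) :
    AlgSp.IsLCIMor i.hom := by
  intro U V a b h ha hb comm
  obtain ⟨W, snd, fst, sq⟩ := hi.1 b
  have hreg : RegImm.IsRegularImmersion .koszul snd.left := hi.2 b fst snd hb sq
  have hfst : AlgSp.RepWith @Etale fst :=
    MorphismProperty.of_isPullback (P := AlgSp.RepWith @Etale) sq.flip hb
  obtain ⟨l', hl1, hl2⟩ : ∃ l', l' ≫ fst = a ∧ l' ≫ (AlgSp.yon S).map snd = (AlgSp.yon S).map h :=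
    ⟨sq.lift a ((AlgSp.yon S).map h) comm, sq.lift_fst _ _ _, sq.lift_snd _ _ _⟩
  obtain ⟨l, rfl⟩ := (AlgSp.yon S).map_surjective l'
  have hl : l ≫ snd = h := (AlgSp.yon S).map_injective (by rw [Functor.map_comp]; exact hl2)
  have hEt : ∀ {F G : AlgSp.Sp S} (φ : F ⟶ G), AlgSp.RepWith @Etale φ → AlgSp.IsEtaleMor φ :=
    fun φ hφ T ψ hψ => MorphismProperty.comp_mem _ _ _ hψ hφ
  let Us : AlgSp.Space S := ⟨(AlgSp.yon S).obj U, AlgSp.IsAlgSpace.yon_obj U⟩
  let Ws : AlgSp.Space S := ⟨(AlgSp.yon S).obj W, AlgSp.IsAlgSpace.yon_obj W⟩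
  have hlE : AlgSp.IsEtaleMor ((AlgSp.yon S).map l) :=
    Groth.Agent.S10210.result (X := Us) (Y := Ws) (Z := X) (ObjectProperty.homMk ((AlgSp.yon S).map l))
      (ObjectProperty.homMk fst) (ObjectProperty.homMk a)
      (by apply ObjectProperty.hom_ext; exact hl1) (hEt a ha) (hEt fst hfst)
  haveI : Etale l.left := (AlgSp.isEtaleMor_yon_map_iff l).1 hlE
  have h1 : Groth.Agent.Lib.Helper5.LciLocal.LciMor l.left :=
    Groth.Agent.Helper13SmKR.lciMor_of_smooth l.left
  have h2 : Groth.Agent.Lib.Helper5.LciLocal.LciMor snd.left :=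
    Groth.Agent.Helper13SmKR.lciMor_of_isRegularImmersion snd.left hreg
  have h3 := Groth.Agent.Helper13SmKR.lciMor_comp l.left snd.left h1 h2
  rw [← Over.comp_left, hl] at h3
  exact fun x => Groth.Agent.Helper13SmKR.isKoszulAt_of_lciMor h.left h3 x

end Groth.Agent.S10665
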