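import Groth.Statements.S10666
import Mathlib
import Groth.Agent.Lib.Helper13EtDescB
-- import your own Groth.Agent.* helpers here

set_option autoImplicit false
universe u
open CategoryTheory CategoryTheory.Limits AlgebraicGeometry
open AlgSp

namespace Groth.Agent.S10666

/-- For morphisms f : X ⟶ Y, p : X ⟶ Z, q : Y ⟶ Z of algebraic spaces over S with f ≫ q = p: if q is
smooth and p is a local complete intersection morphism, then so is f. -/
theorem result {S : Scheme.{u}} {X Y Z : AlgSp.Space S} (f : X ⟶ Y) (p : X ⟶ Z) (q : Y ⟶ Z) (hc : f ≫ q = p)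
    (hq : AlgSp.LocP @Smooth q.hom) (hp : AlgSp.IsLCIMor p.hom) :
    AlgSp.IsLCIMor f.hom := by
  intro U V a b h ha hb comm
  obtain ⟨Z0, z, hze, hzs⟩ := Z.2.atlas
  obtain ⟨V', π, κ', sqV⟩ := hze.1 (b ≫ q.hom)
  obtain ⟨κ, rfl⟩ := (AlgSp.yon S).map_surjective κ'
  haveI : Etale π.left := hze.2 _ _ π sqV
  haveI : Surjective π.left := hzs.2 _ _ π sqV
  have hπb : AlgSp.RepWith @Etale ((AlgSp.yon S).map π ≫ b) :=
    (AlgSp.RepWith @Etale).comp_mem _ _ ((AlgSp.repWith_yon_map_iff _ _).2 inferInstance) hb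
  haveI hκ : Smooth κ.left := hq ((AlgSp.yon S).map π ≫ b) z κ hπb hze
    (by rw [Category.assoc]; exact sqV.w.symm)
  have hsq : IsPullback (pullback.fst h π).left (pullback.snd h π).left h.left π.left :=
    (IsPullback.of_hasPullback h π).map (Over.forget S)
  haveI : Etale (pullback.fst h π).left :=
    MorphismProperty.of_isPullback (P := @Etale) hsq.flip inferInstance
  have hfa : AlgSp.RepWith @Etale ((AlgSp.yon S).map (pullback.fst h π) ≫ a) :=
    (AlgSp.RepWith @Etale).comp_mem _ _ ((AlgSp.repWith_yon_map_iff _ _).2 inferInstance) ha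
  have hpq : p.hom = f.hom ≫ q.hom := by rw [← hc]; rfl
  have comm' : ((AlgSp.yon S).map (pullback.fst h π) ≫ a) ≫ p.hom =
      (AlgSp.yon S).map (pullback.snd h π ≫ κ) ≫ z := by
    rw [hpq, Category.assoc, ← Category.assoc a, comm, Category.assoc, ← Category.assoc,
      ← Functor.map_comp, pullback.condition, Functor.map_comp, Functor.map_comp, Category.assoc,
      Category.assoc, sqV.w]
  have hl := hp ((AlgSp.yon S).map (pullback.fst h π) ≫ a) z (pullback.snd h π ≫ κ) hfa hze comm'
  have h1 := Groth.Agent.Helper13SmKR.lciMor_of_isKoszulAt _ hl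
  rw [Over.comp_left] at h1
  have h2 := Groth.Agent.Helper13SmKR.lciMor_of_comp_of_smooth (pullback.snd h π).left κ.left h1
  have h3 := Groth.Agent.Helper13EtDesc.lciMor_of_flat_surjective_open h.left π.left
    π.left.isOpenMap (pullback.snd h π).left (pullback.fst h π).left hsq h2
  exact fun x => Groth.Agent.Helper13SmKR.isKoszulAt_of_lciMor h.left h3 x

end Groth.Agent.S10666
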