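import Groth.Statements.S10687
import Groth.Agent.Lib.Helper5SpGorB

set_option autoImplicit false
universe u
open CategoryTheory CategoryTheory.Limits AlgebraicGeometry
open AlgSp

namespace Groth.Agent.S10687

open Groth.Agent.Lib.Helper5.SpGorA Groth.Agent.Lib.Helper5.SpGorB in

/-- For morphisms f : X ⟶ Y and g : Y ⟶ Z between algebraic spaces over S whose fibres, and those of f ≫
g, are locally Noetherian, and a point x of |X|: (1) if g is Gorenstein at the image of x and f is
Gorenstein at x itself, then so is f ≫ g at x; (2) if f ≫ g is Gorenstein at x and f is flat there,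
then f is Gorenstein at x and g at the image of x. Here f is Gorenstein at x when in every etale
chart diagram through x the top arrow is Gorenstein at the point over x (flat there, with Gorenstein
local ring of its fibre), and the fibres of a morphism are locally Noetherian when every fibre over
a field point (pullback in fppf sheaves) is a locally Noetherian algebraic space. -/
theorem result {S : Scheme.{u}} {X Y Z : AlgSp.Space S} (f : X ⟶ Y) (g : Y ⟶ Z)
    (hf : ∀ (k : AlgSp.FieldPt Y.obj) (Xk : AlgSp.Sp S) (a : Xk ⟶ X.obj) (b : Xk ⟶ (AlgSp.yon S).obj k.pt),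
        IsPullback a b f.hom k.toHom → AlgSp.IsLocNoethSp Xk)
    (hg : ∀ (k : AlgSp.FieldPt Z.obj) (Xk : AlgSp.Sp S) (a : Xk ⟶ Y.obj) (b : Xk ⟶ (AlgSp.yon S).obj k.pt),
        IsPullback a b g.hom k.toHom → AlgSp.IsLocNoethSp Xk)
    (hfg : ∀ (k : AlgSp.FieldPt Z.obj) (Xk : AlgSp.Sp S) (a : Xk ⟶ X.obj) (b : Xk ⟶ (AlgSp.yon S).obj k.pt),
        IsPullback a b (f ≫ g).hom k.toHom → AlgSp.IsLocNoethSp Xk)
    (x : AlgSp.Points X.obj) :
    (AlgSp.LocPAt (fun h u => Dual3.IsGorensteinAt h u) f.hom x → AlgSp.LocPAt (fun h u => Dual3.IsGorensteinAt h u) g.hom (AlgSp.Points.map f.hom x) →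
        AlgSp.LocPAt (fun h u => Dual3.IsGorensteinAt h u) (f ≫ g).hom x) ∧
      (AlgSp.LocPAt (fun h u => Dual3.IsGorensteinAt h u) (f ≫ g).hom x → AlgSp.IsFlatAtMor f.hom x →
        AlgSp.LocPAt (fun h u => Dual3.IsGorensteinAt h u) f.hom x ∧ AlgSp.LocPAt (fun h u => Dual3.IsGorensteinAt h u) g.hom (AlgSp.Points.map f.hom x)) := by
  classical
  have HFf := chartFibLN_of_fibres X.property Y.property f.hom hf
  have HFg := chartFibLN_of_fibres Y.property Z.property g.hom hg
  have HFfg := chartFibLN_of_fibres X.property Z.property (f ≫ g).hom hfg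
  obtain ⟨U, V, W, a, b, c, μ, k, u, ha, hb, hc, -, hc1, hc2, hx⟩ :=
    exists_diagram_comp X.property Y.property Z.property f.hom g.hom x
  have hc3 : a ≫ (f ≫ g).hom = (AlgSp.yon S).map (μ ≫ k) ≫ c := by
    change a ≫ f.hom ≫ g.hom = _
    rw [← Category.assoc, hc1, Category.assoc, hc2, ← Category.assoc, ← Functor.map_comp]
  have hpt2 : AlgSp.Points.ofPt b (μ.left u) = AlgSp.Points.map f.hom x := by
    rw [ofPt_target f.hom a b μ u hc1, hx]
  have key := Groth.Agent.S3627.result U.left V.left W.left μ.left k.left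
    (HFf a b μ ha hb hc1) (HFg b c k hb hc hc2)
    (by have := HFfg a c (μ ≫ k) ha hc hc3; rwa [Over.comp_left] at this) u
  constructor
  · intro H1 H2
    have G1 := H1 a b μ u ha hb hc1 hx
    have G2 := H2 b c k (μ.left u) hb hc hc2 hpt2
    have G3 := key.1 G1 G2
    refine (locPAt_gor_iff X.property Z.property (f ≫ g).hom HFfg a c (μ ≫ k) u ha hc hc3 hx).mpr ?_
    rw [Over.comp_left]
    exact G3
  · intro H Hfl
    have G3 := H a c (μ ≫ k) u ha hc hc3 hx
    rw [Over.comp_left] at G3
    have Gfl := Hfl a b μ u ha hb hc1 hx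
    obtain ⟨G1, G2⟩ := key.2 G3 Gfl
    exact ⟨(locPAt_gor_iff X.property Y.property f.hom HFf a b μ u ha hb hc1 hx).mpr G1,
      (locPAt_gor_iff Y.property Z.property g.hom HFg b c k (μ.left u) hb hc hc2 hpt2).mpr G2⟩

end Groth.Agent.S10687
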