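import Groth.Statements.S10688
import Groth.Agent.Lib.Helper5SpGorC

set_option autoImplicit false
universe u
open CategoryTheory CategoryTheory.Limits AlgebraicGeometry
open AlgSp

namespace Groth.Agent.S10688

open Groth.Agent.Lib.Helper5.SpGorA Groth.Agent.Lib.Helper5.SpGorB Groth.Agent.Lib.Helper5.SpGorC
  Groth.Agent.Lib.Helper9.SpPoint in

/-- For a morphism f : X ⟶ Y between algebraic spaces over S with locally Noetherian fibres, g : Y' ⟶ Y
locally of finite type, f' : X' ⟶ Y' the base change (a pullback square of algebraic spaces) with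
projection g' : X' ⟶ X, and x' a point of |X'| with image x: (1) if f is Gorenstein at x then so is
f' at x'; (2) when f is flat at x, Gorensteinness of f' at x' implies that of f at x; (3) the same
conclusion holds if instead g is flat at the image of x' and f' is Gorenstein at x'. Here f is
Gorenstein at x when in every etale chart diagram through x the top arrow is Gorenstein at the point
over x (flat there, with Gorenstein local ring of its fibre), and the fibres of a morphism are
locally Noetherian when every fibre over a field point (pullback in fppf sheaves) is a locally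
Noetherian algebraic space. -/
theorem result {S : Scheme.{u}} {X Y X' Y' : AlgSp.Space S} (f : X ⟶ Y) (g : Y' ⟶ Y) (g' : X' ⟶ X) (f' : X' ⟶ Y')
    (hsq : IsPullback g'.hom f'.hom f.hom g.hom)
    (hf : ∀ (k : AlgSp.FieldPt Y.obj) (Xk : AlgSp.Sp S) (a : Xk ⟶ X.obj) (b : Xk ⟶ (AlgSp.yon S).obj k.pt),
        IsPullback a b f.hom k.toHom → AlgSp.IsLocNoethSp Xk)
    (hg : AlgSp.LocP @LocallyOfFiniteType g.hom) (x' : AlgSp.Points X'.obj) :
    (AlgSp.LocPAt (fun h u => Dual3.IsGorensteinAt h u) f.hom (AlgSp.Points.map g'.hom x') → AlgSp.LocPAt (fun h u => Dual3.IsGorensteinAt h u) f'.hom x') ∧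
      (AlgSp.IsFlatAtMor f.hom (AlgSp.Points.map g'.hom x') → AlgSp.LocPAt (fun h u => Dual3.IsGorensteinAt h u) f'.hom x' →
        AlgSp.LocPAt (fun h u => Dual3.IsGorensteinAt h u) f.hom (AlgSp.Points.map g'.hom x')) ∧
      (AlgSp.IsFlatAtMor g.hom (AlgSp.Points.map f'.hom x') → AlgSp.LocPAt (fun h u => Dual3.IsGorensteinAt h u) f'.hom x' →
        AlgSp.LocPAt (fun h u => Dual3.IsGorensteinAt h u) f.hom (AlgSp.Points.map g'.hom x')) := by
  classical
  have HFf := chartFibLN_of_fibres X.property Y.property f.hom hf
  have HFf' := chartFibLN_of_fibres X'.property Y'.property f'.hom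
    (fibres_baseChange f.hom g.hom g'.hom f'.hom hsq hf)
  obtain ⟨U, V, W, a, b, h, b', k, a'', p, ha, hb, hb', ha'', hc, hk, h1, h2, hp⟩ :=
    exists_diagram_baseChange X.property Y.property Y'.property f.hom g.hom g'.hom f'.hom hsq x'
  have hsch : IsPullback (pullback.fst h k).left (pullback.snd h k).left h.left k.left :=
    (IsPullback.of_hasPullback h k).map (Over.forget S)
  haveI : LocallyOfFiniteType k.left := hg b' b k hb' hb hk
  have hx : AlgSp.Points.ofPt a ((pullback.fst h k).left p) = AlgSp.Points.map g'.hom x' := by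
    rw [← ofPt_yon_map_comp, ← h1, ← AlgSp.Points.map_ofPt, hp]
  have hy : AlgSp.Points.ofPt b' ((pullback.snd h k).left p) = AlgSp.Points.map f'.hom x' := by
    rw [ofPt_target f'.hom a'' b' (pullback.snd h k) p h2, hp]
  have key := Groth.Agent.S3625.result U.left V.left (pullback h k).left W.left h.left k.left
    (pullback.snd h k).left (pullback.fst h k).left hsch (HFf a b h ha hb hc) p
  have E1 := locPAt_gor_iff X.property Y.property f.hom HFf a b h ((pullback.fst h k).left p)
    ha hb hc hx
  have E2 := locPAt_gor_iff X'.property Y'.property f'.hom HFf' a'' b' (pullback.snd h k) p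
    ha'' hb' h2 hp
  refine ⟨fun H => E2.mpr (key.1 (E1.mp H)), fun Hfl H => ?_, fun Hfl H => ?_⟩
  · exact E1.mpr (key.2.1 (Hfl a b h _ ha hb hc hx) (E2.mp H))
  · exact E1.mpr (key.2.2 (Hfl b' b k _ hb' hb hk hy) (E2.mp H))

end Groth.Agent.S10688
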