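import Groth.Statements.S10691
import Groth.Agent.Lib.Helper5SpGorE

set_option autoImplicit false
universe u
open CategoryTheory CategoryTheory.Limits AlgebraicGeometry
open AlgSp

namespace Groth.Agent.S10691

open Groth.Agent.Lib.Helper5.SpGorE Groth.Agent.Lib.Helper9.SpPoint in

/-- For locally Noetherian algebraic spaces X, Y over S and a flat morphism f : X ⟶ Y, with X Gorenstein
(some etale surjective scheme chart is a Gorenstein scheme): f is Gorenstein at every point of |X|,
and for every point x of |X| the etale local ring of Y at a geometric point over f(x), presented as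
a strict henselization R of the local ring of an etale scheme chart V of Y at a point v over f(x),
is a Gorenstein local ring. Here f is Gorenstein at x when in every etale chart diagram through x
the top arrow is Gorenstein at the point over x (flat there, with Gorenstein local ring of its
fibre), and the fibres of a morphism are locally Noetherian when every fibre over a field point
(pullback in fppf sheaves) is a locally Noetherian algebraic space. -/
theorem result {S : Scheme.{u}} {X Y : AlgSp.Space S} (f : X ⟶ Y) (hf : AlgSp.LocP @Flat f.hom)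
    (hX1 : AlgSp.IsLocNoethSp X.obj) (hY1 : AlgSp.IsLocNoethSp Y.obj)
    (hX2 : AlgSp.EtaleLocally Dual3.IsGorenstein X.obj) :
    (∀ x : AlgSp.Points X.obj, AlgSp.LocPAt (fun h u => Dual3.IsGorensteinAt h u) f.hom x) ∧
      ∀ (x : AlgSp.Points X.obj) (V : Over S) (b : (AlgSp.yon S).obj V ⟶ Y.obj), AlgSp.RepWith @Etale b →
        ∀ (v : ↥V.left), AlgSp.Points.ofPt b v = AlgSp.Points.map f.hom x →
          ∀ (R : Type u) [CommRing R] [IsLocalRing R] [Algebra ↥(V.left.presheaf.stalk v) R]
            [IsLocalHom (algebraMap ↥(V.left.presheaf.stalk v) R)]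
            [Hensel.IsStrictHenselization ↥(V.left.presheaf.stalk v) R],
            LocCoh.IsGorensteinLocalRing R := by
  classical
  have main : ∀ ⦃U V : Over S⦄ (a : (AlgSp.yon S).obj U ⟶ X.obj) (b : (AlgSp.yon S).obj V ⟶ Y.obj)
      (h : U ⟶ V), AlgSp.RepWith @Etale a → AlgSp.RepWith @Etale b →
      a ≫ f.hom = (AlgSp.yon S).map h ≫ b →
      Dual3.IsGorensteinMor h.left ∧
        ∀ u : U.left, LocCoh.IsGorensteinLocalRing (V.left.presheaf.stalk (h.left u)) := by
    intro U V a b h ha hb hc
    haveI : IsLocallyNoetherian V.left :=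
      Groth.Agent.Lib.Helper12.FibreSpec.isLocallyNoetherian_of_chart hY1 b hb
    haveI : Flat h.left := hf a b h ha hb hc
    exact Groth.Agent.S3624.result U.left V.left h.left (isGorenstein_of_chart hX2 a ha)
  refine ⟨fun x U V a b h u ha hb hc _ => (main a b h ha hb hc).1 u, ?_⟩
  intro x V b hb v hv R _ _ _ _ _
  haveI : IsLocallyNoetherian V.left :=
    Groth.Agent.Lib.Helper12.FibreSpec.isLocallyNoetherian_of_chart hY1 b hb
  obtain ⟨U₀, a₀, ha₀, has₀⟩ := X.property.atlas
  obtain ⟨u₀, hu₀⟩ := exists_atlas_point a₀ has₀ x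
  have hpt : AlgSp.Points.ofPt (a₀ ≫ f.hom) u₀ = AlgSp.Points.ofPt b v := by
    rw [hv, ← AlgSp.Points.map_ofPt, hu₀]
  obtain ⟨U, eU, μ, z, heU, ha, hcμ, hz1, hz2⟩ :=
    exists_chart_diagram f.hom a₀ ha₀ u₀ b hb v hpt
  have hG := (main _ b μ ha hb hcμ).2 z
  rw [hz2] at hG
  exact (gor_sh_iff (V.left.presheaf.stalk v) R).mpr hG

end Groth.Agent.S10691
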