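import Groth.Statements.S10702
import Mathlib
import Groth.Agent.S9927
import Groth.Agent.S9906

set_option autoImplicit false
universe u
open CategoryTheory CategoryTheory.Limits AlgebraicGeometry
open AlgSp

namespace Groth.Agent.S10702


open Groth.Agent.Lib.Helper9

lemma isPullback_of_exists_unique' {E : Type*} [Category* E] {P X Y Z : E} {fst : P ⟶ X}
    {snd : P ⟶ Y} {f : X ⟶ Z} {g : Y ⟶ Z} (w : fst ≫ f = snd ≫ g)
    (hex : ∀ {W : E} (a : W ⟶ X) (b : W ⟶ Y), a ≫ f = b ≫ g →
      ∃ l : W ⟶ P, l ≫ fst = a ∧ l ≫ snd = b)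
    (huniq : ∀ {W : E} (l l' : W ⟶ P), l ≫ fst = l' ≫ fst → l ≫ snd = l' ≫ snd → l = l') :
    IsPullback fst snd f g :=
  IsPullback.of_isLimit' ⟨w⟩ (PullbackCone.IsLimit.mk _
    (fun s => (hex s.fst s.snd s.condition).choose)
    (fun s => (hex s.fst s.snd s.condition).choose_spec.1)
    (fun s => (hex s.fst s.snd s.condition).choose_spec.2)
    (fun s m h₁ h₂ => huniq _ _
      (h₁.trans (hex s.fst s.snd s.condition).choose_spec.1.symm)
      (h₂.trans (hex s.fst s.snd s.condition).choose_spec.2.symm)))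

/-- In a topos, if the left square and the outer rectangle are cartesian and the bottom left map is
an epimorphism, then the right square is cartesian. -/
lemma isPullback_right_of_epi {E : Type*} [Category* E] [ToposLike E] {A B C D E' F : E}
    {ac : A ⟶ C} {ab : A ⟶ B} {cd : C ⟶ D} {bd : B ⟶ D} {ce : C ⟶ E'} {df : D ⟶ F} {ef : E' ⟶ F}
    (hl : IsPullback ac ab cd bd) (hcomm : cd ≫ df = ce ≫ ef)
    (hout : IsPullback (ac ≫ ce) ab ef (bd ≫ df)) [Epi bd] : IsPullback ce cd ef df := by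
  have huniq : ∀ {W : E} (l l' : W ⟶ C), l ≫ ce = l' ≫ ce → l ≫ cd = l' ≫ cd → l = l' := by
    intro W l l' h1 h2
    obtain ⟨W', e1, he1, b, hb⟩ : ∃ (W' : E) (e : W' ⟶ W) (_ : Epi e) (y : W' ⟶ B),
        e ≫ (l ≫ cd) = y ≫ bd :=
      ⟨pullback (l ≫ cd) bd, pullback.fst (l ≫ cd) bd,
        ToposLike.epi_of_isPullback (IsPullback.of_hasPullback (l ≫ cd) bd) inferInstance,
        pullback.snd (l ≫ cd) bd, pullback.condition⟩
    have w1 : (e1 ≫ l) ≫ cd = b ≫ bd := by rw [Category.assoc, hb]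
    have w2 : (e1 ≫ l') ≫ cd = b ≫ bd := by rw [Category.assoc, ← h2, hb]
    have e : hl.lift _ _ w1 = hl.lift _ _ w2 := by
      apply hout.hom_ext
      · rw [← Category.assoc, ← Category.assoc, hl.lift_fst, hl.lift_fst, Category.assoc,
          Category.assoc, h1]
      · rw [hl.lift_snd, hl.lift_snd]
    rw [← cancel_epi e1, ← hl.lift_fst _ _ w1, e, hl.lift_fst]
  refine isPullback_of_exists_unique' hcomm.symm ?_ huniq
  intro W e d hed
  obtain ⟨W', e1, he1, b, hb⟩ : ∃ (W' : E) (e : W' ⟶ W) (_ : Epi e) (y : W' ⟶ B),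
      e ≫ d = y ≫ bd :=
    ⟨pullback d bd, pullback.fst d bd,
      ToposLike.epi_of_isPullback (IsPullback.of_hasPullback d bd) inferInstance,
      pullback.snd d bd, pullback.condition⟩
  have w : (e1 ≫ e) ≫ ef = b ≫ bd ≫ df := by
    rw [Category.assoc, hed, ← Category.assoc, hb, Category.assoc]
  have hc1 : (hout.lift _ _ w ≫ ac) ≫ ce = e1 ≫ e := by
    rw [Category.assoc, hout.lift_fst]
  have hc2 : (hout.lift _ _ w ≫ ac) ≫ cd = e1 ≫ d := by
    rw [Category.assoc, hl.w, ← Category.assoc, hout.lift_snd, hb]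
  obtain ⟨c, hc⟩ := ToposLike.exists_desc_of_epi e1 he1 (hout.lift _ _ w ≫ ac) (by
    intro W'' a1 a2 h12
    apply huniq
    · rw [Category.assoc a1, Category.assoc a2, hc1, ← Category.assoc, ← Category.assoc, h12]
    · rw [Category.assoc a1, Category.assoc a2, hc2, ← Category.assoc, ← Category.assoc, h12])
  refine ⟨c, ?_, ?_⟩
  · rw [← cancel_epi e1, ← Category.assoc, hc, hc1]
  · rw [← cancel_epi e1, ← Category.assoc, hc, hc2]

/-- a surjective étale morphism of algebraic spaces is an epimorphism of sheaves. -/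
lemma epi_of_isEtaleMor_of_isSurjectiveMor {S : Scheme.{u}} {B D : AlgSp.Sp S}
    (hB : AlgSp.IsAlgSpace B) (hD : AlgSp.IsAlgSpace D) (f : B ⟶ D)
    (hs : AlgSp.IsSurjectiveMor f) (he : AlgSp.IsEtaleMor f) : Epi f := by
  obtain ⟨V, p, hpe, hps⟩ := hB.atlas
  have h1 : AlgSp.RepWith @Etale (p ≫ f) := he p hpe
  have h2 : AlgSp.RepWith @Surjective (p ≫ f) := by
    refine Groth.Agent.S9906.repWith_surjective_of_surjective_map _ h1.1 ?_
    intro x
    obtain ⟨y, hy⟩ := hs x
    obtain ⟨z, hz⟩ := Groth.Agent.S9906.surjective_map_of_repWith p hps y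
    exact ⟨z, by rw [AlgSp.Points.map_comp, hz, hy]⟩
  haveI := Groth.Agent.S9927.epi_of_repWith (p ≫ f) h1 h2
  exact epi_of_epi p f



/-- Consider a commutative diagram of algebraic spaces over `S` with top row `A → C → E`, bottom row `B
→ D → F` and vertical maps `A → B`, `C → D`, `E → F`. If the left square and the outer rectangle are
cartesian and `B → D` is surjective etale, then the right square is cartesian. -/
theorem result {S : Scheme.{u}} {A B C D E F : AlgSp.Space S} (ac : A ⟶ C) (ab : A ⟶ B)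
    (cd : C ⟶ D) (bd : B ⟶ D) (ce : C ⟶ E) (df : D ⟶ F) (ef : E ⟶ F)
    (hl : IsPullback ac.hom ab.hom cd.hom bd.hom) (hcomm : cd ≫ df = ce ≫ ef)
    (hout : IsPullback (ac ≫ ce).hom ab.hom ef.hom (bd ≫ df).hom) (hsurj : AlgSp.IsSurjectiveMor bd.hom)
    (het : AlgSp.IsEtaleMor bd.hom) : IsPullback ce.hom cd.hom ef.hom df.hom := by
  haveI : Epi bd.hom :=
    epi_of_isEtaleMor_of_isSurjectiveMor B.property D.property bd.hom hsurj het
  exact isPullback_right_of_epi hl (congrArg (fun m => m.hom) hcomm) hout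

end Groth.Agent.S10702
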