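import Groth.Statements.S10723
import Mathlib
import Groth.Agent.Lib.Helper14GlueRing

set_option autoImplicit false
universe u
open TensorProduct
open EtAlg

namespace Groth.Agent.S10723

/-- Glueing along a glueing pair detects morphisms of affine schemes that are flat and of finite
presentation, stated for coordinate rings. Let `(R → R', f)` be a glueing pair and `φ : A → B` a
homomorphism of `R`-algebras with `A`, `B` glueable as `R`-modules (so `Spec A`, `Spec B` are affine
and glueable over `Spec R`). Then `φ` is flat and of finite presentation if and only if `A_f → B_f`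
and `R' ⊗_R A → R' ⊗_R B` are. -/
theorem result (R : Type u) [CommRing R] (R' : Type u) [CommRing R'] [Algebra R R'] (f : R)
    (hRR' : EtGlue.IsGlueingPair R R' f) (A B : Type u) [CommRing A] [Algebra R A] [CommRing B] [Algebra R B]
    (hA : EtGlue.IsGlueable R R' f A) (hB : EtGlue.IsGlueable R R' f B) (φ : A →ₐ[R] B) :
    (φ.toRingHom.Flat ∧ φ.toRingHom.FinitePresentation) ↔
      ((Localization.awayMap φ.toRingHom (algebraMap R A f)).Flat ∧ (Localization.awayMap φ.toRingHom (algebraMap R A f)).FinitePresentation) ∧
        ((Algebra.TensorProduct.map (AlgHom.id R R') φ).toRingHom.Flat ∧ (Algebra.TensorProduct.map (AlgHom.id R R') φ).toRingHom.FinitePresentation) := by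
  constructor
  · rintro ⟨h, h'⟩
    exact ⟨⟨RingHom.Flat.propertyIsLocal.localizationAwayPreserves _ _ _ _ h,
        RingHom.finitePresentation_localizationPreserves.away _ _ _ _ h'⟩,
      ⟨Groth.Agent.Lib.Helper16.tensorMap_of_isStableUnderBaseChange
        RingHom.Flat.isStableUnderBaseChange R' φ h,
      Groth.Agent.Lib.Helper16.tensorMap_of_isStableUnderBaseChange
        RingHom.finitePresentation_isStableUnderBaseChange R' φ h'⟩⟩
  · rintro ⟨⟨h1, h1'⟩, ⟨h2, h2'⟩⟩
    let _ : Algebra A B := φ.toRingHom.toAlgebra
    have : IsScalarTower R A B := IsScalarTower.of_algebraMap_eq' (by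
      ext r
      simp [RingHom.algebraMap_toAlgebra])
    have hφ : IsScalarTower.toAlgHom R A B = φ := by ext; rfl
    rw [← hφ] at h2 h2'
    have hflat : Module.Flat A B :=
      Groth.Agent.Lib.Helper14GlueRing.flat_of_loc_of_tensor hRR' hA h1 h2
    exact ⟨hflat,
      Groth.Agent.Lib.Helper14GlueRing.finitePresentation_of_loc_of_tensor hRR'.1 h1' h2'⟩

end Groth.Agent.S10723
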