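import Groth.Statements.S10724
import Mathlib
import Groth.Agent.Lib.Helper14GlueRing
import Groth.Agent.Lib.Helper14GlueRingUnr

set_option autoImplicit false
universe u
open TensorProduct
open EtAlg

namespace Groth.Agent.S10724

/-- Glueing along a glueing pair detects etale morphisms of affine schemes, stated for coordinate rings.
Let `(R → R', f)` be a glueing pair and `φ : A → B` a homomorphism of `R`-algebras with `A`, `B`
glueable as `R`-modules (so `Spec A`, `Spec B` are affine and glueable over `Spec R`). Then `φ` is
etale if and only if `A_f → B_f` and `R' ⊗_R A → R' ⊗_R B` are. -/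
theorem result (R : Type u) [CommRing R] (R' : Type u) [CommRing R'] [Algebra R R'] (f : R)
    (hRR' : EtGlue.IsGlueingPair R R' f) (A B : Type u) [CommRing A] [Algebra R A] [CommRing B] [Algebra R B]
    (hA : EtGlue.IsGlueable R R' f A) (hB : EtGlue.IsGlueable R R' f B) (φ : A →ₐ[R] B) :
    φ.toRingHom.Etale ↔ (Localization.awayMap φ.toRingHom (algebraMap R A f)).Etale ∧ (Algebra.TensorProduct.map (AlgHom.id R R') φ).toRingHom.Etale := by
  constructor
  · intro h
    exact ⟨RingHom.Etale.propertyIsLocal.localizationAwayPreserves _ _ _ _ h,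
      Groth.Agent.Lib.Helper16.tensorMap_of_isStableUnderBaseChange
        RingHom.Etale.isStableUnderBaseChange R' φ h⟩
  · rintro ⟨h1, h2⟩
    rw [RingHom.Etale.iff_flat_and_formallyUnramified] at h1 h2 ⊢
    obtain ⟨h1f, h1u, h1p⟩ := h1
    obtain ⟨h2f, h2u, h2p⟩ := h2
    let _ : Algebra A B := φ.toRingHom.toAlgebra
    have : IsScalarTower R A B := IsScalarTower.of_algebraMap_eq' (by
      ext r
      simp [RingHom.algebraMap_toAlgebra])
    have hφ : IsScalarTower.toAlgHom R A B = φ := by ext; rfl
    rw [← hφ] at h2f h2u h2p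
    have hflat : Module.Flat A B :=
      Groth.Agent.Lib.Helper14GlueRing.flat_of_loc_of_tensor hRR' hA h1f h2f
    have hfp : Algebra.FinitePresentation A B :=
      Groth.Agent.Lib.Helper14GlueRing.finitePresentation_of_loc_of_tensor hRR'.1 h1p h2p
    have hun : Algebra.FormallyUnramified A B :=
      Groth.Agent.Lib.Helper14GlueRing.formallyUnramified_of_loc_of_tensor hRR'.1 h1u h2u
    exact ⟨hflat, hun, hfp⟩

end Groth.Agent.S10724
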