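import Groth.Statements.S10727
import Groth.Agent.Lib.Helper16BL

set_option autoImplicit false
universe u
open TensorProduct
open EtAlg

namespace Groth.Agent.S10727

open Groth.Agent.Lib.Helper16

section

variable {R : Type u} [CommRing R] {R' : Type u} [CommRing R'] [Algebra R R'] {f : R}
  {A₁ : Type u} [CommRing A₁] [Algebra R A₁] {A' : Type u} [CommRing A'] [Algebra R A']
  [Algebra R' A'] [IsScalarTower R R' A']
  (φ : Localization.Away (algebraMap R A' f) ≃ₐ[R'] R' ⊗[R] A₁)

/-- the glued algebra as a subalgebra of `A' × A₁` -/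
def glueAlg : Subalgebra R (A' × A₁) where
  carrier := {p | algebraMap A' (Localization.Away (algebraMap R A' f)) p.1 =
    φ.symm ((1 : R') ⊗ₜ[R] p.2)}
  mul_mem' := by
    intro a b ha hb
    change _ = _ at ha hb ⊢
    rw [Prod.fst_mul, Prod.snd_mul, map_mul, ha, hb, ← map_mul,
      Algebra.TensorProduct.tmul_mul_tmul, mul_one]
  add_mem' := by
    intro a b ha hb
    change _ = _ at ha hb ⊢
    rw [Prod.fst_add, Prod.snd_add, map_add, ha, hb, TensorProduct.tmul_add, map_add]
  algebraMap_mem' := by
    intro r
    change _ = _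
    rw [Prod.algebraMap_apply]
    change algebraMap A' (Localization.Away (algebraMap R A' f)) (algebraMap R A' r) =
      φ.symm ((1 : R') ⊗ₜ[R] (algebraMap R A₁ r))
    have e1 : (1 : R') ⊗ₜ[R] (algebraMap R A₁ r) =
        algebraMap R' (R' ⊗[R] A₁) (algebraMap R R' r) := by
      rw [Algebra.TensorProduct.algebraMap_apply, Algebra.algebraMap_eq_smul_one,
        TensorProduct.tmul_smul, TensorProduct.smul_tmul', Algebra.algebraMap_self,
        RingHom.id_apply, Algebra.smul_def, mul_one]
    rw [e1, AlgEquiv.commutes]
    exact (congrArg (algebraMap A' (Localization.Away (algebraMap R A' f)))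
      (IsScalarTower.algebraMap_apply R R' A' r)).trans
      (IsScalarTower.algebraMap_apply R' A' (Localization.Away (algebraMap R A' f))
        (algebraMap R R' r)).symm

end


section

variable {R : Type u} [CommRing R] {R' : Type u} [CommRing R'] [Algebra R R'] {f : R}
  {A₁ : Type u} [CommRing A₁] [Algebra R A₁] {A' : Type u} [CommRing A'] [Algebra R A']
  [Algebra R' A'] [IsScalarTower R R' A']
  (φ : Localization.Away (algebraMap R A' f) ≃ₐ[R'] R' ⊗[R] A₁)

/-- first projection, as an algebra map -/
def q₁ : glueAlg φ →ₐ[R] A' := (AlgHom.fst R A' A₁).comp (glueAlg φ).val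

/-- second projection, as an algebra map -/
def q₂ : glueAlg φ →ₐ[R] A₁ := (AlgHom.snd R A' A₁).comp (glueAlg φ).val

theorem q_spec (a : glueAlg φ) :
    algebraMap A' (Localization.Away (algebraMap R A' f)) (q₁ φ a) =
      φ.symm ((1 : R') ⊗ₜ[R] (q₂ φ a)) := a.2

/-- the localization map of `A'` as an `R'`-linear map -/
noncomputable def lamA : A' →ₗ[R'] Localization.Away (algebraMap R A' f) :=
  (IsScalarTower.toAlgHom R' A' (Localization.Away (algebraMap R A' f))).toLinearMap

instance lamA_isLocalizedModule :
    IsLocalizedModule (Submonoid.powers (algebraMap R R' f)) (lamA (R := R) (R' := R') (f := f) (A' := A')) := by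
  have : IsLocalization (Algebra.algebraMapSubmonoid A' (Submonoid.powers (algebraMap R R' f)))
      (Localization.Away (algebraMap R A' f)) := by
    rw [Algebra.algebraMapSubmonoid, Submonoid.map_powers,
      ← IsScalarTower.algebraMap_apply R R' A']
    exact Localization.isLocalization
  exact isLocalizedModule_iff_isLocalization.mpr this

theorem isGluePullback : IsGluePullback (lamA (R := R) (R' := R') (f := f) (A' := A'))
    φ.toLinearEquiv (q₁ φ).toLinearMap (q₂ φ).toLinearMap where
  spec := fun m => q_spec φ m
  inj := by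
    intro m h1 h2
    apply Subtype.ext
    apply Prod.ext
    · exact h1
    · exact h2
  surj := by
    intro m' m₁ h
    exact ⟨⟨(m', m₁), h⟩, rfl, rfl⟩

end


/-- Glueing affine schemes along a glueing pair, stated for their coordinate rings. Let `(R → R', f)` be
a glueing pair, `A₁` an `R`-algebra in which `f` is invertible, `A'` an `R'`-algebra and `φ : A'_f ≅
R' ⊗_R A₁` an isomorphism of `R'`-algebras. Then there is an `R`-algebra `A`, glueable as an
`R`-module, with isomorphisms `A_f ≅ A₁` of `R`-algebras and `R' ⊗_R A ≅ A'` of `R'`-algebras under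
which `φ` is the canonical identification `(R' ⊗_R A)_f = R' ⊗_R A_f`. (The published statement is
that base change is an equivalence between affine schemes over `Spec R` that are glueable and
triples of affine schemes over `Spec R_f`, `Spec R'_f`, `Spec R'` with cartesian squares; this row
states only that every such triple arises, on coordinate rings.) -/
theorem result (R : Type u) [CommRing R] (R' : Type u) [CommRing R'] [Algebra R R']
    (f : R) (hRR' : EtGlue.IsGlueingPair R R' f) (A₁ : Type u) [CommRing A₁] [Algebra R A₁]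
    (h₁ : IsUnit (algebraMap R A₁ f)) (A' : Type u) [CommRing A'] [Algebra R A'] [Algebra R' A']
    [IsScalarTower R R' A'] (φ : Localization.Away (algebraMap R A' f) ≃ₐ[R'] R' ⊗[R] A₁) :
    ∃ (A : Type u) (_ : CommRing A) (_ : Algebra R A) (_ : EtGlue.IsGlueable R R' f A)
      (e₁ : Localization.Away (algebraMap R A f) ≃ₐ[R] A₁) (e' : R' ⊗[R] A ≃ₐ[R'] A'),
      ∀ a : A, φ (algebraMap A' (Localization.Away (algebraMap R A' f)) (e' ((1 : R') ⊗ₜ[R] a))) =
        (1 : R') ⊗ₜ[R] e₁ (algebraMap A (Localization.Away (algebraMap R A f)) a) := by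
  classical
  have hf : Function.Bijective fun x : A₁ => f • x := by
    obtain ⟨u, hu⟩ := h₁
    have : (fun x : A₁ => f • x) = fun x => (u : A₁) * x := by
      funext x; rw [Algebra.smul_def, hu]
    rw [this]
    exact Units.mulLeft_bijective u
  have hP := isGluePullback φ
  have hloc : IsLocalizedModule (Submonoid.powers f) (q₂ φ).toLinearMap := hP.isLocalizedModule hf
  have hgl : EtGlue.IsGlueable R R' f (glueAlg φ) := hP.isGlueable hRR' hf
  let ε : R' ⊗[R] (glueAlg φ) →ₐ[R'] A' :=
    Algebra.TensorProduct.lift (Algebra.ofId R' A') (q₁ φ) (fun _ _ => Commute.all _ _)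
  have hε : ∀ x, ε x = (q₁ φ).toLinearMap.liftBaseChange R' x := by
    intro x
    induction x using TensorProduct.induction_on with
    | zero => simp
    | tmul a b =>
      rw [LinearMap.liftBaseChange_tmul, Algebra.TensorProduct.lift_tmul, Algebra.smul_def]
      rfl
    | add a b ha hb => rw [map_add, map_add, ha, hb]
  have hεbij : Function.Bijective ε := by
    have : (ε : _ → _) = (q₁ φ).toLinearMap.liftBaseChange R' := funext hε
    rw [this]
    exact ⟨hP.lift_injective hRR' hf, hP.lift_surjective hRR'.1 hf⟩
  letI : Algebra (glueAlg φ) A₁ := (q₂ φ).toRingHom.toAlgebra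
  haveI : IsScalarTower R (glueAlg φ) A₁ := IsScalarTower.of_algebraMap_eq' (by
    ext r
    exact ((q₂ φ).commutes r).symm)
  have hlin : (IsScalarTower.toAlgHom R (glueAlg φ) A₁).toLinearMap = (q₂ φ).toLinearMap := by
    ext a; rfl
  haveI : IsLocalization.Away (algebraMap R (glueAlg φ) f) A₁ := by
    have h3 : IsLocalization (Algebra.algebraMapSubmonoid (glueAlg φ) (Submonoid.powers f)) A₁ :=
      isLocalizedModule_iff_isLocalization.mp (by rw [hlin]; exact hloc)
    rwa [Algebra.algebraMapSubmonoid, Submonoid.map_powers] at h3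
  let e₁ : Localization.Away (algebraMap R (glueAlg φ) f) ≃ₐ[R] A₁ :=
    (IsLocalization.algEquiv (Submonoid.powers (algebraMap R (glueAlg φ) f))
      (Localization.Away (algebraMap R (glueAlg φ) f)) A₁).restrictScalars R
  refine ⟨glueAlg φ, inferInstance, inferInstance, hgl, e₁, AlgEquiv.ofBijective ε hεbij, ?_⟩
  intro a
  have h4 : e₁ (algebraMap (glueAlg φ) (Localization.Away (algebraMap R (glueAlg φ) f)) a) =
      q₂ φ a := by
    change IsLocalization.algEquiv (Submonoid.powers (algebraMap R (glueAlg φ) f))
      (Localization.Away (algebraMap R (glueAlg φ) f)) A₁ (algebraMap _ _ a) = _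
    rw [AlgEquiv.commutes]
    rfl
  have h5 : (AlgEquiv.ofBijective ε hεbij) ((1 : R') ⊗ₜ[R] a) = q₁ φ a := by
    rw [AlgEquiv.ofBijective_apply, hε, LinearMap.liftBaseChange_tmul, one_smul]
    rfl
  rw [h4, h5, q_spec, AlgEquiv.apply_symm_apply]

end Groth.Agent.S10727
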