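import Groth.Statements.S1075
import Groth.Agent.Lib.Helper17KInjD5
import Mathlib.Algebra.Homology.Factorizations.CM5a
-- import your own Groth.Agent.* helpers here

set_option autoImplicit false
universe w v u
open CategoryTheory CategoryTheory.Limits
open CohDer

namespace Groth.Agent.S1075

/-- In D(A), for A abelian with enough injectives and countable products, every sequence of
bounded-below objects has a product, so derived limits of such sequences exist. -/
theorem result {A : Type u} [Category.{v} A] [Abelian A] [HasDerivedCategory.{w} A]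
    [HasLimitsOfShape (Discrete ℕ) A] [EnoughInjectives A]
    (K : ℕ → DerivedCategory A) (hK : ∀ n, ∃ a : ℤ, (K n).IsGE a) : HasProduct K := by
  open Groth.Agent.Lib.Helper17.KInj Groth.Agent.Lib.Helper17.QProd in
  have hres : ∀ n, ∃ (I : CochainComplex A ℤ), I.IsKInjective ∧
      Nonempty ((DerivedCategory.Q : _ ⥤ DerivedCategory A).obj I ≅ K n) := fun n => by
    obtain ⟨a, ha⟩ := hK n
    obtain ⟨L, _, ⟨e⟩⟩ := DerivedCategory.exists_iso_Q_obj_of_isGE (K n) a
    obtain ⟨I, i, hi, hI, hIa⟩ :=
      CochainComplex.Plus.modelCategoryQuillen.exists_quasiIso_injective L a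
    exact ⟨I, CochainComplex.isKInjective_of_injective I a,
      ⟨(asIso (DerivedCategory.Q.map i)).symm ≪≫ e.symm⟩⟩
  choose I hI e using hres
  haveI := hI
  haveI : HasProduct (fun n => (DerivedCategory.Q : _ ⥤ DerivedCategory A).obj (I n)) :=
    ⟨⟨⟨_, isLimitQProdCxOfIsKInjective I⟩⟩⟩
  exact hasProduct_of_equiv_of_iso (fun n => (DerivedCategory.Q : _ ⥤ DerivedCategory A).obj (I n))
    K (Equiv.refl _) (fun n => (e n).some.symm)

end Groth.Agent.S1075
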