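import Groth.Statements.S10760
import Mathlib
import Groth.Agent.Lib.Helper12Proper
import Groth.Agent.S9874
import Groth.Agent.S9915
import Groth.Agent.S9926
import Groth.Agent.S10175

set_option autoImplicit false
universe u
open CategoryTheory CategoryTheory.Limits AlgebraicGeometry
open AlgSp

namespace Groth.Agent.S10760


open Groth.Agent.Lib.Helper12.Proper



/-- Let f : X ⟶ Y be a morphism of algebraic spaces over S that is locally of finite type, and let i : Z
⟶ X, i' : Z' ⟶ X be closed subspaces (representable closed immersions) with the same image in |X|.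
If the composite Z ⟶ Y is proper, then so is Z' ⟶ Y. (That properness of every closed subspace with
support T implies properness of the reduced one, and that this implies properness of some closed
subspace with support T, is immediate.) -/
theorem result {S : Scheme.{u}} {X Y Z Z' : AlgSp.Space S}
    (f : X ⟶ Y) (hf : AlgSp.LocP @LocallyOfFiniteType f.hom)
    (i : Z ⟶ X) (i' : Z' ⟶ X)
    (hi : AlgSp.RepWith @IsClosedImmersion i.hom) (hi' : AlgSp.RepWith @IsClosedImmersion i'.hom)
    (heq : Set.range (AlgSp.Points.map i.hom) = Set.range (AlgSp.Points.map i'.hom))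
    (hZ : AlgSp.IsProperMor (i ≫ f).hom) :
    AlgSp.IsProperMor (i' ≫ f).hom := by
  have sqW := IsPullback.of_hasPullback i.hom i'.hom
  have hW : AlgSp.IsAlgSpace (pullback i.hom i'.hom) :=
    Groth.Agent.S9874.isAlgSpace_of_isPullback X.property.diag Z.property Z'.property sqW
  have hw2 : AlgSp.RepWith @IsClosedImmersion (pullback.snd i.hom i'.hom) :=
    MorphismProperty.of_isPullback (P := AlgSp.RepWith @IsClosedImmersion) sqW hi
  have hw1 : AlgSp.RepWith @IsClosedImmersion (pullback.fst i.hom i'.hom) :=
    MorphismProperty.of_isPullback (P := AlgSp.RepWith @IsClosedImmersion) sqW.flip hi'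
  have hsurj : Function.Surjective (AlgSp.Points.map (pullback.snd i.hom i'.hom)) := by
    intro z'
    have hz' : AlgSp.Points.map i'.hom z' ∈ Set.range (AlgSp.Points.map i.hom) := by
      rw [heq]; exact ⟨z', rfl⟩
    obtain ⟨z, hz⟩ := hz'
    obtain ⟨w, -, hw⟩ := Groth.Agent.S10175.exists_point_of_isPullback sqW z z' hz
    exact ⟨w, hw⟩
  have hcond : pullback.fst i.hom i'.hom ≫ (i ≫ f).hom =
      pullback.snd i.hom i'.hom ≫ (i' ≫ f).hom := by
    show pullback.fst i.hom i'.hom ≫ i.hom ≫ f.hom = pullback.snd i.hom i'.hom ≫ i'.hom ≫ f.hom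
    rw [← Category.assoc, pullback.condition, Category.assoc]
  have hprop : AlgSp.IsProperMor (pullback.snd i.hom i'.hom ≫ (i' ≫ f).hom) := by
    rw [← hcond]
    exact isProperMor_comp Z.property Y.property _ _
      (isProperMor_of_isClosedImmersion Z.property _ hw1) hZ
  have hsep : AlgSp.IsSeparatedMor (i' ≫ f).hom :=
    (Groth.Agent.S9926.result (X := ⟨pullback i.hom i'.hom, hW⟩) (Y := Z') (B := Y)
      (ObjectProperty.homMk (pullback.snd i.hom i'.hom))
      (ObjectProperty.homMk (pullback.snd i.hom i'.hom ≫ (i' ≫ f).hom)) (i' ≫ f) rfl hsurj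
      (isUnivClosedMor_of_isClosedImmersion _ hw2)).2 hprop.1
  refine ⟨hsep, ⟨?_, ?_⟩, ?_⟩
  · exact locP_lft_comp X.property Y.property i'.hom f.hom
      (locP_lft_of_isClosedImmersion X.property i'.hom hi') hf
  · exact Groth.Agent.S9915.isQuasiCompactMor_of_surjective_triangle Z'.property Y.property
      (pullback.snd i.hom i'.hom) (i' ≫ f).hom hsurj hprop.2.1.2
  · exact Groth.Agent.S9926.isUnivClosedMor_of_surjective_comp Z'.property Y.property
      (pullback.snd i.hom i'.hom) (i' ≫ f).hom hsurj hprop.2.2

end Groth.Agent.S10760
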