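import Groth.Statements.S10762
import Groth.Agent.S9964
import Groth.Agent.S10281
import Groth.Agent.S9922

set_option autoImplicit false
universe u
open CategoryTheory CategoryTheory.Limits AlgebraicGeometry
open AlgSp

namespace Groth.Agent.S10762

/-- Let B be an algebraic space over S, let a : X ⟶ B and b : Y ⟶ B be locally of finite type with b
separated, and let f : X ⟶ Y be a morphism over B. If i : Z ⟶ X is a closed subspace with Z ⟶ B
proper, then the image of |Z| under |f| is a closed subset of |Y| which underlies a closed subspace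
Z' ⟶ Y with Z' ⟶ B proper. -/
theorem result {S : Scheme.{u}} {X Y B Z : AlgSp.Space S}
    (a : X ⟶ B) (b : Y ⟶ B) (f : X ⟶ Y) (hcomm : f ≫ b = a)
    (ha : AlgSp.LocP @LocallyOfFiniteType a.hom) (hb : AlgSp.LocP @LocallyOfFiniteType b.hom)
    (hbs : AlgSp.IsSeparatedMor b.hom)
    (i : Z ⟶ X) (hi : AlgSp.RepWith @IsClosedImmersion i.hom) (hZ : AlgSp.IsProperMor (i ≫ a).hom) :
    IsClosed (AlgSp.Points.map f.hom '' Set.range (AlgSp.Points.map i.hom)) ∧
      ∃ (Z' : AlgSp.Space S) (i' : Z' ⟶ Y), AlgSp.RepWith @IsClosedImmersion i'.hom ∧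
        Set.range (AlgSp.Points.map i'.hom) = AlgSp.Points.map f.hom '' Set.range (AlgSp.Points.map i.hom) ∧
        AlgSp.IsProperMor (i' ≫ b).hom := by
  obtain ⟨Z', i', hZ'⟩ := Groth.Agent.S9964.result (i ≫ f)
  obtain ⟨f', hf'⟩ := hZ'.2.1
  have comm : (i ≫ f) ≫ b = i ≫ a := by rw [Category.assoc, hcomm]
  have hfac : (⟨f'⟩ : Z ⟶ Z') ≫ i' = i ≫ f := by
    ext : 1
    exact hf'
  obtain ⟨hprop, hsurj⟩ := Groth.Agent.S10281.result (i ≫ f) (i ≫ a) b comm hZ hbs hb i' hZ'
    ⟨f'⟩ hfac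
  have hf'' : f' ≫ i'.hom = i.hom ≫ f.hom := hf'
  have hrange : Set.range (AlgSp.Points.map i'.hom) =
      AlgSp.Points.map f.hom '' Set.range (AlgSp.Points.map i.hom) := by
    ext p
    constructor
    · rintro ⟨z', rfl⟩
      obtain ⟨z, rfl⟩ := hsurj z'
      refine ⟨AlgSp.Points.map i.hom z, ⟨z, rfl⟩, ?_⟩
      change _ = AlgSp.Points.map i'.hom (AlgSp.Points.map f' z)
      rw [← AlgSp.Points.map_comp, ← AlgSp.Points.map_comp, hf'']
    · rintro ⟨_, ⟨z, rfl⟩, rfl⟩
      refine ⟨AlgSp.Points.map f' z, ?_⟩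
      rw [← AlgSp.Points.map_comp, ← AlgSp.Points.map_comp, hf'']
  have huc : AlgSp.RepWith @UniversallyClosed i'.hom := by
    refine ⟨hZ'.1.1, fun T W g pr w sq => ?_⟩
    haveI : IsClosedImmersion w.left := hZ'.1.2 g pr w sq
    change UniversallyClosed w.left
    infer_instance
  have hcl : IsClosed (Set.range (AlgSp.Points.map i'.hom)) :=
    (Groth.Agent.S9922.isClosedMap_map_of_repWith i'.hom huc).isClosed_range
  refine ⟨?_, Z', i', hZ'.1, hrange, hprop⟩
  rw [← hrange]
  exact hcl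

end Groth.Agent.S10762
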