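import Groth.Statements.S10765
import Groth.Agent.Lib.Helper9ProperUnion
import Groth.Agent.S10192
import Groth.Agent.S10193
import Groth.Agent.S10760

set_option autoImplicit false
universe u
open CategoryTheory CategoryTheory.Limits AlgebraicGeometry
open AlgSp

namespace Groth.Agent.S10765

/-- Let f : X ⟶ Y be a morphism of algebraic spaces over S that is locally of finite type and let i_k :
Z_k ⟶ X, for k ranging over a finite index set, be closed subspaces with each Z_k ⟶ Y proper. Then
there is a closed subspace W ⟶ X whose image in |X| is the union of the images of the |Z_k| and with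
W ⟶ Y proper; that is, a finite union of closed subsets proper over Y is proper over Y. -/
theorem result {S : Scheme.{u}} {X Y : AlgSp.Space S}
    (f : X ⟶ Y) (hf : AlgSp.LocP @LocallyOfFiniteType f.hom)
    {n : ℕ} (Z : Fin n → AlgSp.Space S) (i : ∀ k, Z k ⟶ X)
    (hi : ∀ k, AlgSp.RepWith @IsClosedImmersion (i k).hom) (hZ : ∀ k, AlgSp.IsProperMor (i k ≫ f).hom) :
    ∃ (W : AlgSp.Space S) (j : W ⟶ X), AlgSp.RepWith @IsClosedImmersion j.hom ∧
      Set.range (AlgSp.Points.map j.hom) = ⋃ k, Set.range (AlgSp.Points.map (i k).hom) ∧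
      AlgSp.IsProperMor (j ≫ f).hom := by
  have hcl : ∀ k, IsClosed (Set.range (AlgSp.Points.map (i k).hom)) := fun k =>
    (Groth.Agent.Lib.Helper12.Proper.isClosedMap_of_repWith_isClosedImmersion (i k).hom
      (hi k)).isClosed_range
  have hT : IsClosed (⋃ k, Set.range (AlgSp.Points.map (i k).hom)) :=
    isClosed_iUnion_of_finite hcl
  obtain ⟨W, j, hj1, hj2, hj3⟩ := Groth.Agent.S10192.result X _ hT
  have H : ∀ k, ∃ (Z' : AlgSp.Space S) (i' : Z' ⟶ X) (h : Z' ⟶ W),
      AlgSp.RepWith @IsClosedImmersion i'.hom ∧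
      Set.range (AlgSp.Points.map i'.hom) = Set.range (AlgSp.Points.map (i k).hom) ∧
      h ≫ j = i' ∧ AlgSp.IsProperMor (i' ≫ f).hom := by
    intro k
    obtain ⟨Z', i', hi'1, hi'2, hi'3⟩ := Groth.Agent.S10192.result X _ (hcl k)
    have hprop : AlgSp.IsProperMor (i' ≫ f).hom :=
      Groth.Agent.S10760.result f hf (i k) i' (hi k) hi'1 hi'2.symm (hZ k)
    obtain ⟨h, hh⟩ := (Groth.Agent.S10193.result j hj1 hi'3 i').2
      (by rw [hi'2, hj2]; exact Set.subset_iUnion (fun k => Set.range (AlgSp.Points.map (i k).hom)) k)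
    exact ⟨Z', i', h, hi'1, hi'2, hh, hprop⟩
  choose Z' i' h hi'1 hi'2 hh hprop using H
  have hjsep : AlgSp.IsSeparatedMor j.hom := Groth.Agent.S9937.result j hj1
  have hhuc : ∀ k, AlgSp.IsUnivClosedMor (h k).hom := fun k => by
    obtain ⟨hA, -⟩ := Groth.Agent.S10278.result (h k) (i' k) j (hh k) hjsep
    exact (hA (Groth.Agent.Lib.Helper12.Proper.isUnivClosedMor_of_isClosedImmersion _ (hi'1 k))).1
  have hinj : Function.Injective (AlgSp.Points.map j.hom) :=
    Groth.Agent.S10301.injective_map_of_repWith (P := @IsClosedImmersion)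
      (fun _ _ g hg => by haveI : IsClosedImmersion g := hg; exact g.isClosedEmbedding.injective)
      j.hom hj1
  have hjs : ∀ w : AlgSp.Points W.obj, ∃ k x, AlgSp.Points.map (h k).hom x = w := by
    intro w
    have hw : AlgSp.Points.map j.hom w ∈ ⋃ k, Set.range (AlgSp.Points.map (i k).hom) := by
      rw [← hj2]; exact ⟨w, rfl⟩
    obtain ⟨k, hk⟩ := Set.mem_iUnion.1 hw
    rw [← hi'2 k] at hk
    obtain ⟨x, hx⟩ := hk
    refine ⟨k, x, hinj ?_⟩
    have e : (h k).hom ≫ j.hom = (i' k).hom := by rw [← hh k]; rfl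
    rw [← AlgSp.Points.map_comp, e, hx]
  have htri : ∀ k, h k ≫ (j ≫ f) = i' k ≫ f := fun k => by rw [← Category.assoc, hh k]
  refine ⟨W, j, hj1, hj2, ?_, ⟨?_, ?_⟩, ?_⟩
  · exact Groth.Agent.Lib.Helper9.ProperUnion.isSeparatedMor_of_jointly_surjective Z' h (j ≫ f) hjs
      hhuc (fun k => by rw [htri k]; exact (hprop k).1)
  · refine Groth.Agent.S9985.result @LocallyOfFiniteType (Or.inl rfl) j f
      (Groth.Agent.S9953.result j ?_) hf
    exact (AlgSp.repWith_iff _ _).2 ⟨hj1.1, fun U V g fst snd sq => by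
      haveI : IsClosedImmersion snd.left := hj1.2 g fst snd sq
      exact (inferInstance : IsImmersion snd.left)⟩
  · refine Groth.Agent.Lib.Helper9.ProperUnion.isQuasiCompactMor_of_jointly_surjective W.property
      Y.property (fun k => (h k).hom) (j ≫ f).hom hjs (fun k => ?_)
    have := (hprop k).2.1.2
    rw [← htri k] at this
    exact this
  · refine Groth.Agent.Lib.Helper9.ProperUnion.isUnivClosedMor_of_jointly_surjective_comp
      (fun k => (h k).hom) (j ≫ f).hom hjs (fun k => ?_)
    have := (hprop k).2.2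
    rw [← htri k] at this
    exact this

end Groth.Agent.S10765
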