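import Groth.Statements.S1079
import Mathlib.CategoryTheory.Triangulated.Opposite.Pretriangulated
import Mathlib.CategoryTheory.Idempotents.Basic
import Mathlib.CategoryTheory.Limits.Shapes.Opposites.Products
-- import your own Groth.Agent.* helpers here

set_option autoImplicit false
universe v u
open CategoryTheory CategoryTheory.Limits
open CohDer

namespace Groth.Agent.S1079

open Pretriangulated

section
variable {D : Type u} [Category.{v} D] [Preadditive D] [Limits.HasZeroObject D] [HasShift D ℤ]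
    [∀ n : ℤ, (shiftFunctor D n).Additive] [Pretriangulated D]

/-- A split monomorphism in a pretriangulated category has a complement given by its cone. -/
theorem exists_complement_of_split_mono {T T' : D} (s : T ⟶ T') (l : T' ⟶ T) (hsl : s ≫ l = 𝟙 T) :
    ∃ (Y : D) (q : T' ⟶ Y) (j : Y ⟶ T'), j ≫ q = 𝟙 Y ∧ q ≫ j = 𝟙 T' - l ≫ s := by
  obtain ⟨Y, q, δ, hT⟩ := distinguished_cocone_triangle s
  have hδ : δ = 0 := by
    have h1 : δ ≫ s⟦(1 : ℤ)⟧' = 0 := comp_distTriang_mor_zero₃₁ _ hT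
    have h2 : s⟦(1 : ℤ)⟧' ≫ l⟦(1 : ℤ)⟧' = 𝟙 _ := by
      rw [← CategoryTheory.Functor.map_comp, hsl, CategoryTheory.Functor.map_id]
    calc δ = δ ≫ s⟦(1 : ℤ)⟧' ≫ l⟦(1 : ℤ)⟧' := by rw [h2, Category.comp_id]
      _ = 0 := by rw [← Category.assoc, h1, zero_comp]
  obtain ⟨j0, hj0⟩ : ∃ j0 : Y ⟶ T', 𝟙 Y = j0 ≫ q :=
    Triangle.coyoneda_exact₃ _ hT (𝟙 Y) (by
      show 𝟙 Y ≫ δ = 0
      rw [hδ, comp_zero])
  have hj0' : j0 ≫ q = 𝟙 Y := hj0.symm
  have hsq : s ≫ q = 0 := comp_distTriang_mor_zero₁₂ _ hT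
  obtain ⟨g, hg⟩ : ∃ g : T' ⟶ T, 𝟙 T' - q ≫ j0 = g ≫ s :=
    Triangle.coyoneda_exact₂ _ hT (𝟙 T' - q ≫ j0) (by
      show (𝟙 T' - q ≫ j0) ≫ q = 0
      rw [Preadditive.sub_comp, Category.id_comp, Category.assoc, hj0', Category.comp_id, sub_self])
  refine ⟨Y, q, j0 ≫ (𝟙 T' - l ≫ s), ?_, ?_⟩
  · rw [Category.assoc, Preadditive.sub_comp, Category.id_comp, Category.assoc, hsq, comp_zero,
      sub_zero, hj0']
  · have h3 : (𝟙 T' - q ≫ j0) ≫ (𝟙 T' - l ≫ s) = 0 := by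
      rw [hg, Category.assoc, Preadditive.comp_sub, Category.comp_id, ← Category.assoc s l s, hsl,
        Category.id_comp, sub_self, comp_zero]
    rw [Preadditive.sub_comp, Category.id_comp, sub_eq_zero] at h3
    rw [← Category.assoc]
    exact h3.symm

theorem isIdempotentComplete_of_hasCoproducts [HasColimitsOfShape (Discrete ℕ) D] :
    IsIdempotentComplete D := by
  refine ⟨fun X e he => ?_⟩
  let K : ℕ → D := fun _ => X
  let ι : ∀ n : ℕ, X ⟶ ∐ K := fun n => Sigma.ι K n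
  let π0 : ∐ K ⟶ X := Sigma.desc (fun n => Nat.casesOn n (𝟙 X) (fun _ => 0))
  have hι0 : ι 0 ≫ π0 = 𝟙 X := Sigma.ι_desc _ _
  have hιs : ∀ n, ι (n + 1) ≫ π0 = 0 := fun n => Sigma.ι_desc _ _
  let s : ∐ K ⟶ ∐ K := Sigma.desc (fun n => (𝟙 X - e) ≫ ι n + e ≫ ι (n + 1))
  let l : ∐ K ⟶ ∐ K := Sigma.desc (fun n =>
    Nat.casesOn n ((𝟙 X - e) ≫ ι 0) (fun m => (𝟙 X - e) ≫ ι (m + 1) + e ≫ ι m))
  have hs : ∀ n, ι n ≫ s = (𝟙 X - e) ≫ ι n + e ≫ ι (n + 1) := fun n => Sigma.ι_desc _ _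
  have hl0 : ι 0 ≫ l = (𝟙 X - e) ≫ ι 0 := Sigma.ι_desc _ _
  have hls : ∀ m, ι (m + 1) ≫ l = (𝟙 X - e) ≫ ι (m + 1) + e ≫ ι m := fun m => Sigma.ι_desc _ _
  have e1 : (𝟙 X - e) ≫ (𝟙 X - e) = 𝟙 X - e := by
    simp only [Preadditive.sub_comp, Preadditive.comp_sub, Category.id_comp, Category.comp_id, he]
    abel
  have e2 : (𝟙 X - e) ≫ e = 0 := by
    simp only [Preadditive.sub_comp, Category.id_comp, he, sub_self]
  have e3 : e ≫ (𝟙 X - e) = 0 := by
    simp only [Preadditive.comp_sub, Category.comp_id, he, sub_self]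
  have e1' : ∀ {Z : D} (f : X ⟶ Z), (𝟙 X - e) ≫ (𝟙 X - e) ≫ f = (𝟙 X - e) ≫ f := fun f => by
    rw [← Category.assoc, e1]
  have e2' : ∀ {Z : D} (f : X ⟶ Z), (𝟙 X - e) ≫ e ≫ f = 0 := fun f => by
    rw [← Category.assoc, e2, zero_comp]
  have e3' : ∀ {Z : D} (f : X ⟶ Z), e ≫ (𝟙 X - e) ≫ f = 0 := fun f => by
    rw [← Category.assoc, e3, zero_comp]
  have he' : ∀ {Z : D} (f : X ⟶ Z), e ≫ e ≫ f = e ≫ f := fun f => by
    rw [← Category.assoc, he]
  have hsplit : ∀ {Z : D} (f : X ⟶ Z), (𝟙 X - e) ≫ f + e ≫ f = f := fun f => by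
    rw [← Preadditive.add_comp, sub_add_cancel, Category.id_comp]
  have hsl : s ≫ l = 𝟙 _ := by
    refine Sigma.hom_ext _ _ (fun n => ?_)
    show ι n ≫ s ≫ l = ι n ≫ 𝟙 _
    rw [← Category.assoc, hs, Category.comp_id]
    cases n with
    | zero =>
      simp only [hl0, hls, Preadditive.comp_add, Preadditive.add_comp, Category.assoc, e1', e2',
        e3', he', zero_add, add_zero, hsplit]
    | succ m =>
      simp only [hls, Preadditive.comp_add, Preadditive.add_comp, Category.assoc, e1', e2',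
        e3', he', zero_add, add_zero, hsplit]
  have hlsid : l ≫ s = 𝟙 _ - π0 ≫ e ≫ ι 0 := by
    refine Sigma.hom_ext _ _ (fun n => ?_)
    show ι n ≫ l ≫ s = ι n ≫ (𝟙 _ - π0 ≫ e ≫ ι 0)
    rw [Preadditive.comp_sub, Category.comp_id]
    cases n with
    | zero =>
      rw [← Category.assoc, hl0, ← Category.assoc (ι 0) π0, hι0, Category.id_comp,
        Category.assoc, hs, Preadditive.comp_add, e1', e2', add_zero, Preadditive.sub_comp,
        Category.id_comp]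
    | succ m =>
      rw [← Category.assoc, hls, ← Category.assoc (ι (m + 1)) π0, hιs, zero_comp, sub_zero]
      simp only [hs, Preadditive.comp_add, Preadditive.add_comp, Category.assoc, e1', e2',
        e3', he', zero_add, add_zero, hsplit]
  obtain ⟨Y, q, j, hjq, hqj⟩ := exists_complement_of_split_mono s l hsl
  rw [hlsid, sub_sub_cancel] at hqj
  have hj : j ≫ π0 ≫ e ≫ ι 0 = j := by
    rw [← hqj, ← Category.assoc, hjq, Category.id_comp]
  refine ⟨Y, j ≫ π0, ι 0 ≫ q, ?_, ?_⟩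
  · calc (j ≫ π0) ≫ ι 0 ≫ q = (j ≫ π0 ≫ e ≫ ι 0) ≫ π0 ≫ ι 0 ≫ q := by rw [hj, Category.assoc]
      _ = j ≫ π0 ≫ e ≫ (ι 0 ≫ π0) ≫ ι 0 ≫ q := by simp only [Category.assoc]
      _ = (j ≫ π0 ≫ e ≫ ι 0) ≫ q := by rw [hι0, Category.id_comp]; simp only [Category.assoc]
      _ = 𝟙 Y := by rw [hj, hjq]
  · calc (ι 0 ≫ q) ≫ j ≫ π0 = ι 0 ≫ (q ≫ j) ≫ π0 := by simp only [Category.assoc]
      _ = (ι 0 ≫ π0) ≫ e ≫ (ι 0 ≫ π0) := by rw [hqj]; simp only [Category.assoc]
      _ = e := by rw [hι0, Category.id_comp, Category.comp_id]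

end

open Pretriangulated.Opposite in
/-- A pretriangulated category which has countable coproducts, or countable products, is Karoubian
(idempotent complete). -/
theorem result {D : Type u} [Category.{v} D] [Preadditive D] [Limits.HasZeroObject D] [HasShift D ℤ]
    [∀ n : ℤ, (shiftFunctor D n).Additive] [Pretriangulated D]
    (h : HasColimitsOfShape (Discrete ℕ) D ∨ HasLimitsOfShape (Discrete ℕ) D) : IsIdempotentComplete D := by
  rcases h with h | h
  · exact isIdempotentComplete_of_hasCoproducts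
  · rw [← CategoryTheory.Idempotents.isIdempotentComplete_iff_opposite]
    haveI : HasColimitsOfShape (Discrete ℕ) Dᵒᵖ := inferInstance
    exact isIdempotentComplete_of_hasCoproducts

end Groth.Agent.S1079
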