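import Groth.Statements.S10822
import Groth.Agent.Lib.Helper4ProjCone2

set_option autoImplicit false
set_option linter.style.haveILetI false
universe u
open AlgebraicGeometry Topology TopologicalSpace
open Variety

namespace Groth.Agent.S10822

/-- Let k be a field, X an irreducible closed subset of projective n-space over k of positive dimension,
and f a homogeneous polynomial in n + 1 variables whose zero set V_+(f) is nonempty and does not
contain X. Then X meets V_+(f), and every irreducible component C of X ∩ V_+(f) has dim C + 1 = dim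
X, i.e. codimension 1 in X (all maximal chains of irreducible closed subsets of X have length dim
X). -/
theorem result (k : Type u) [Field k] (n d : ℕ)
    (X : Set (ProjectiveSpectrum (CohB1.polyGrading n k))) (hXc : IsClosed X) (hXi : IsIrreducible X)
    (hXd : 0 < topologicalKrullDim ↥X)
    (f : MvPolynomial (Fin (n + 1)) k) (hf : f.IsHomogeneous d)
    (hV : (ProjectiveSpectrum.zeroLocus (CohB1.polyGrading n k)
      ({f} : Set (MvPolynomial (Fin (n + 1)) k))).Nonempty)
    (hX : ¬ X ⊆ ProjectiveSpectrum.zeroLocus (CohB1.polyGrading n k)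
      ({f} : Set (MvPolynomial (Fin (n + 1)) k))) :
    (X ∩ ProjectiveSpectrum.zeroLocus (CohB1.polyGrading n k)
        ({f} : Set (MvPolynomial (Fin (n + 1)) k))).Nonempty ∧
      ∀ C ∈ irreducibleComponents ↥(X ∩ ProjectiveSpectrum.zeroLocus (CohB1.polyGrading n k)
          ({f} : Set (MvPolynomial (Fin (n + 1)) k))),
        topologicalKrullDim ↥C + 1 = topologicalKrullDim ↥X := by
  classical
  obtain ⟨x, hx⟩ := Groth.Agent.Lib.Helper4.ProjCone.exists_eq_Ici_of_isIrreducible
    (CohB1.polyGrading n k) X hXc hXi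
  subst hx
  have hs : ∀ g ∈ ({f} : Set (MvPolynomial (Fin (n + 1)) k)),
      ∃ e, g ∈ CohB1.polyGrading n k e := by
    rintro _ rfl
    exact ⟨d, (MvPolynomial.mem_homogeneousSubmodule _ _).mpr hf⟩
  haveI : x.asHomogeneousIdeal.toIdeal.IsPrime := x.isPrime
  have hxfin := Groth.Agent.Lib.Helper4.ProjCone.coheight_ne_top k n x
  have hfx : f ∉ x.asHomogeneousIdeal.toIdeal := by
    intro hfx
    apply hX
    intro y hy
    rw [ProjectiveSpectrum.mem_zeroLocus, Set.singleton_subset_iff]
    exact (Set.mem_Ici.mp hy) hfx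
  have hfirr : f ∈ (HomogeneousIdeal.irrelevant (CohB1.polyGrading n k)).toIdeal := by
    obtain ⟨z, hz⟩ := hV
    rw [ProjectiveSpectrum.mem_zeroLocus, Set.singleton_subset_iff] at hz
    exact Groth.Agent.Lib.Helper4.ProjCone.le_irrelevant k n z hz
  rw [Groth.Agent.Lib.Helper4.ProjCone.topologicalKrullDim_Ici] at hXd
  obtain ⟨a, ha⟩ := ENat.ne_top_iff_exists.mp hxfin
  rw [← ha] at hXd
  have ha1 : 1 ≤ a := by
    have : (0 : ℕ) < a := by exact_mod_cast hXd
    omega
  refine ⟨?_, ?_⟩
  · have hprime : (HomogeneousIdeal.irrelevant (CohB1.polyGrading n k)).toIdeal.IsPrime :=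
      (Groth.Agent.Lib.Helper4.ProjCone.irrelevant_isMaximal k n).isPrime
    have hJle : x.asHomogeneousIdeal.toIdeal ⊔ Ideal.span {f} ≤
        (HomogeneousIdeal.irrelevant (CohB1.polyGrading n k)).toIdeal := by
      refine sup_le (Groth.Agent.Lib.Helper4.ProjCone.le_irrelevant k n x) ?_
      rw [Ideal.span_singleton_le_iff_mem]
      exact hfirr
    obtain ⟨q, hq, hqle⟩ := Ideal.exists_minimalPrimes_le hJle
    haveI : q.IsPrime := hq.1.1
    have heq := Groth.Agent.Lib.Helper4.ProjCone.ringKrullDim_quotient_eq_add_one k (n + 1)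
      x.asHomogeneousIdeal.toIdeal q f hfx hq
    rw [Groth.Agent.Lib.Helper4.ProjCone.ringKrullDim_quotient_eq_coheight_add_one] at heq
    obtain ⟨e, he⟩ := Groth.Agent.Lib.Helper4.ProjCone.exists_nat_of_add_eq
      (Groth.Agent.Lib.Helper4.ProjCone.height_add_dim k (n + 1) q)
    rw [he, ← ha] at heq
    have h1 : a + 1 = e + 1 := by exact_mod_cast heq
    have h3 : 1 ≤ e := by omega
    have hrel := Groth.Agent.Lib.Helper4.ProjCone.not_irrelevant_le_of_one_le_dim k n q hqle (by
      rw [he]
      exact_mod_cast h3)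
    obtain ⟨y, _, hyZ⟩ := Groth.Agent.Lib.Helper4.ProjCone.exists_point_of_minimalPrimes k n x
      {f} hs q hq hrel
    exact ⟨y, hyZ⟩
  · intro C hC
    obtain ⟨y, hyZ, hymin, hdimC⟩ :=
      Groth.Agent.Lib.Helper4.ProjCone.exists_minimal_of_mem_irreducibleComponents
        (CohB1.polyGrading n k) _
        (Groth.Agent.Lib.Helper4.ProjCone.isClosed_Ici_inter k n x {f}) C hC
    have hmp := Groth.Agent.Lib.Helper4.ProjCone.mem_minimalPrimes_of_minimal k n x y
      {f} hs hyZ hymin
    have heq := Groth.Agent.Lib.Helper4.ProjCone.ringKrullDim_quotient_eq_add_one k (n + 1)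
      x.asHomogeneousIdeal.toIdeal y.asHomogeneousIdeal.toIdeal f hfx hmp
    rw [Groth.Agent.Lib.Helper4.ProjCone.ringKrullDim_quotient_eq_coheight_add_one,
      Groth.Agent.Lib.Helper4.ProjCone.ringKrullDim_quotient_eq_coheight_add_one] at heq
    rw [Groth.Agent.Lib.Helper4.ProjCone.topologicalKrullDim_Ici, hdimC]
    have hyfin := Groth.Agent.Lib.Helper4.ProjCone.coheight_ne_top k n y
    obtain ⟨b, hb⟩ := ENat.ne_top_iff_exists.mp hyfin
    rw [← ha, ← hb] at heq ⊢
    have h1 : a + 1 = b + 1 + 1 := by exact_mod_cast heq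
    have h2 : b + 1 = a := by omega
    exact_mod_cast h2

end Groth.Agent.S10822
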