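import Groth.Statements.S10823
import Groth.Agent.Lib.Helper4ProjCone2

set_option autoImplicit false
set_option linter.style.haveILetI false
universe u
open AlgebraicGeometry Topology TopologicalSpace
open Variety

namespace Groth.Agent.S10823

/-- Let k be a field, X an irreducible closed subset of projective n-space over k, and f_1, …, f_r
nonzero homogeneous polynomials of positive degrees in n + 1 variables. Then every irreducible
component C of X ∩ V_+(f_1, …, f_r) has codimension at most r in X, i.e. dim X ≤ dim C + r, and if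
dim X ≥ r the intersection is nonempty. -/
theorem result (k : Type u) [Field k] (n r : ℕ)
    (X : Set (ProjectiveSpectrum (CohB1.polyGrading n k))) (hXc : IsClosed X) (hXi : IsIrreducible X)
    (f : Fin r → MvPolynomial (Fin (n + 1)) k) (d : Fin r → ℕ)
    (hf : ∀ i, (f i).IsHomogeneous (d i)) (hd : ∀ i, 0 < d i) (hf0 : ∀ i, f i ≠ 0) :
    (∀ C ∈ irreducibleComponents ↥(X ∩ ProjectiveSpectrum.zeroLocus (CohB1.polyGrading n k) (Set.range f)),
        topologicalKrullDim ↥X ≤ topologicalKrullDim ↥C + (r : WithBot ℕ∞)) ∧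
      ((r : WithBot ℕ∞) ≤ topologicalKrullDim ↥X →
        (X ∩ ProjectiveSpectrum.zeroLocus (CohB1.polyGrading n k) (Set.range f)).Nonempty) := by
  classical
  obtain ⟨x, hx⟩ := Groth.Agent.Lib.Helper4.ProjCone.exists_eq_Ici_of_isIrreducible
    (CohB1.polyGrading n k) X hXc hXi
  subst hx
  have hs : ∀ g ∈ Set.range f, ∃ e, g ∈ CohB1.polyGrading n k e := by
    rintro _ ⟨i, rfl⟩
    exact ⟨d i, (MvPolynomial.mem_homogeneousSubmodule _ _).mpr (hf i)⟩
  have hcoe : ((Finset.univ.image f : Finset (MvPolynomial (Fin (n + 1)) k)) :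
      Set (MvPolynomial (Fin (n + 1)) k)) = Set.range f := by
    rw [Finset.coe_image, Finset.coe_univ, Set.image_univ]
  have hcard : (Finset.univ.image f).card ≤ r := by
    refine Finset.card_image_le.trans ?_
    rw [Finset.card_univ, Fintype.card_fin]
  haveI : x.asHomogeneousIdeal.toIdeal.IsPrime := x.isPrime
  have hxfin := Groth.Agent.Lib.Helper4.ProjCone.coheight_ne_top k n x
  refine ⟨?_, ?_⟩
  · intro C hC
    obtain ⟨y, hyZ, hymin, hdimC⟩ :=
      Groth.Agent.Lib.Helper4.ProjCone.exists_minimal_of_mem_irreducibleComponents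
        (CohB1.polyGrading n k) _
        (Groth.Agent.Lib.Helper4.ProjCone.isClosed_Ici_inter k n x (Set.range f)) C hC
    have hmp := Groth.Agent.Lib.Helper4.ProjCone.mem_minimalPrimes_of_minimal k n x y
      (Set.range f) hs hyZ hymin
    rw [← hcoe] at hmp
    have hle := Groth.Agent.Lib.Helper4.ProjCone.ringKrullDim_quotient_le_add_card k (n + 1)
      x.asHomogeneousIdeal.toIdeal y.asHomogeneousIdeal.toIdeal _ hmp
    rw [Groth.Agent.Lib.Helper4.ProjCone.ringKrullDim_quotient_eq_coheight_add_one,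
      Groth.Agent.Lib.Helper4.ProjCone.ringKrullDim_quotient_eq_coheight_add_one] at hle
    rw [Groth.Agent.Lib.Helper4.ProjCone.topologicalKrullDim_Ici, hdimC]
    have hyfin := Groth.Agent.Lib.Helper4.ProjCone.coheight_ne_top k n y
    obtain ⟨a, ha⟩ := ENat.ne_top_iff_exists.mp hxfin
    obtain ⟨b, hb⟩ := ENat.ne_top_iff_exists.mp hyfin
    rw [← ha, ← hb] at hle ⊢
    have h1 : a + 1 ≤ b + 1 + (Finset.univ.image f).card := by exact_mod_cast hle
    have h2 : a ≤ b + r := by omega
    exact_mod_cast h2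
  · intro hr
    rw [Groth.Agent.Lib.Helper4.ProjCone.topologicalKrullDim_Ici] at hr
    have hprime : (HomogeneousIdeal.irrelevant (CohB1.polyGrading n k)).toIdeal.IsPrime :=
      (Groth.Agent.Lib.Helper4.ProjCone.irrelevant_isMaximal k n).isPrime
    have hJle : x.asHomogeneousIdeal.toIdeal ⊔ Ideal.span (Set.range f) ≤
        (HomogeneousIdeal.irrelevant (CohB1.polyGrading n k)).toIdeal := by
      refine sup_le (Groth.Agent.Lib.Helper4.ProjCone.le_irrelevant k n x) ?_
      rw [Ideal.span_le]
      rintro _ ⟨i, rfl⟩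
      exact HomogeneousIdeal.mem_irrelevant_of_mem _ (hd i)
        ((MvPolynomial.mem_homogeneousSubmodule _ _).mpr (hf i))
    obtain ⟨q, hq, hqle⟩ := Ideal.exists_minimalPrimes_le hJle
    haveI : q.IsPrime := hq.1.1
    have hq' := hq
    rw [← hcoe] at hq'
    have hle := Groth.Agent.Lib.Helper4.ProjCone.ringKrullDim_quotient_le_add_card k (n + 1)
      x.asHomogeneousIdeal.toIdeal q _ hq'
    rw [Groth.Agent.Lib.Helper4.ProjCone.ringKrullDim_quotient_eq_coheight_add_one] at hle
    obtain ⟨e, he⟩ := Groth.Agent.Lib.Helper4.ProjCone.exists_nat_of_add_eq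
      (Groth.Agent.Lib.Helper4.ProjCone.height_add_dim k (n + 1) q)
    obtain ⟨a, ha⟩ := ENat.ne_top_iff_exists.mp hxfin
    rw [he, ← ha] at hle
    rw [← ha] at hr
    have h1 : a + 1 ≤ e + (Finset.univ.image f).card := by exact_mod_cast hle
    have h2 : r ≤ a := by exact_mod_cast hr
    have h3 : 1 ≤ e := by omega
    have hrel := Groth.Agent.Lib.Helper4.ProjCone.not_irrelevant_le_of_one_le_dim k n q hqle (by
      rw [he]
      exact_mod_cast h3)
    obtain ⟨y, _, hyZ⟩ := Groth.Agent.Lib.Helper4.ProjCone.exists_point_of_minimalPrimes k n x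
      (Set.range f) hs q hq hrel
    exact ⟨y, hyZ⟩

end Groth.Agent.S10823
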