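import Groth.Statements.S10825
import Mathlib
-- import your own Groth.Agent.* helpers here

set_option autoImplicit false
universe u
open Topology
open CAlg

namespace Groth.Agent.S10825

/-- norm of an integral element is ± a power of the constant coefficient of its minimal polynomial -/
lemma norm_dvd_aux
    (A B K L : Type u) [CommRing A] [IsDomain A] [CommRing B] [IsDomain B] [Algebra A B]
    [Field K] [Field L] [Algebra A K] [IsFractionRing A K] [Algebra B L] [IsFractionRing B L]
    [Algebra A L] [Algebra K L] [IsScalarTower A B L] [IsScalarTower A K L]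
    [FiniteDimensional K L] [Algebra.IsIntegral A B] [IsIntegrallyClosed A]
    (b : B) (a : A) (ha : algebraMap A K a = Algebra.norm K (algebraMap B L b)) :
    algebraMap A B a ∈ Ideal.span ({b} : Set B) := by
  set β := algebraMap B L b with hβ
  have hbint : IsIntegral A b := Algebra.IsIntegral.isIntegral b
  have hβint : IsIntegral A β := hbint.map (IsScalarTower.toAlgHom A B L)
  have hβK : IsIntegral K β := hβint.tower_top
  set μ := minpoly A β with hμ
  have hmin : minpoly K β = μ.map (algebraMap A K) :=
    minpoly.isIntegrallyClosed_eq_field_fractions' K hβint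
  -- the norm formula
  have hnorm : Algebra.norm K β =
      ((-1) ^ (IntermediateField.adjoin.powerBasis hβK).dim * algebraMap A K (μ.coeff 0)) ^
        Module.finrank (IntermediateField.adjoin K {β}) L := by
    rw [Algebra.norm_eq_norm_adjoin K β]
    congr 1
    rw [← IntermediateField.adjoin.powerBasis_gen hβK,
      Algebra.PowerBasis.norm_gen_eq_coeff_zero_minpoly,
      IntermediateField.adjoin.powerBasis_gen, IntermediateField.minpoly_gen, hmin,
      Polynomial.coeff_map]
  set d := (IntermediateField.adjoin.powerBasis hβK).dim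
  set e := Module.finrank (IntermediateField.adjoin K {β}) L with he
  have hepos : 0 < e := Module.finrank_pos
  have ha' : a = ((-1) ^ d * μ.coeff 0) ^ e := by
    apply IsFractionRing.injective A K
    rw [ha, hnorm]
    simp
  -- μ₀ ∈ (b)
  have hroot : Polynomial.aeval b μ = 0 := by
    apply IsFractionRing.injective B L
    rw [map_zero, ← Polynomial.aeval_algebraMap_apply]
    exact minpoly.aeval A β
  have hμ0 : algebraMap A B (μ.coeff 0) ∈ Ideal.span ({b} : Set B) := by
    have h1 := Polynomial.divX_mul_X_add μ
    have h2 : Polynomial.aeval b (μ.divX * Polynomial.X + Polynomial.C (μ.coeff 0)) = 0 := by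
      rw [h1]; exact hroot
    rw [map_add, map_mul, Polynomial.aeval_X, Polynomial.aeval_C] at h2
    have h3 : algebraMap A B (μ.coeff 0) = -(Polynomial.aeval b μ.divX) * b := by
      linear_combination h2
    rw [h3]
    exact Ideal.mul_mem_left _ _ (Ideal.mem_span_singleton_self b)
  rw [ha', map_pow, map_mul]
  exact Ideal.pow_mem_of_mem _ (Ideal.mul_mem_left _ _ hμ0) e hepos


/-- elements of `A` in `bB` lie in every prime containing the norm -/
lemma comap_span_le
    (A B K L : Type u) [CommRing A] [IsDomain A] [CommRing B] [IsDomain B] [Algebra A B]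
    [Field K] [Field L] [Algebra A K] [IsFractionRing A K] [Algebra B L] [IsFractionRing B L]
    [Algebra A L] [Algebra K L] [IsScalarTower A B L] [IsScalarTower A K L]
    [FiniteDimensional K L] [Algebra.IsIntegral A B] [IsIntegrallyClosed A]
    (b : B) (a : A) (ha : algebraMap A K a = Algebra.norm K (algebraMap B L b))
    (p : Ideal A) [p.IsPrime] (hap : a ∈ p) :
    (Ideal.span ({b} : Set B)).comap (algebraMap A B) ≤ p := by
  intro x hx
  rw [Ideal.mem_comap, Ideal.mem_span_singleton'] at hx
  obtain ⟨c, hc⟩ := hx
  -- norm of c lies in A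
  have hcint : IsIntegral A (algebraMap B L c) :=
    (Algebra.IsIntegral.isIntegral c).map (IsScalarTower.toAlgHom A B L)
  have hNc : IsIntegral A (Algebra.norm K (algebraMap B L c)) := Algebra.isIntegral_norm K hcint
  obtain ⟨a', ha'⟩ := IsIntegrallyClosed.isIntegral_iff.mp hNc
  have hn : 0 < Module.finrank K L := Module.finrank_pos
  have hxn : x ^ Module.finrank K L = a' * a := by
    apply IsFractionRing.injective A K
    rw [map_pow, map_mul, ha, ha', ← map_mul, ← map_mul, hc, ← Algebra.norm_algebraMap,
      ← IsScalarTower.algebraMap_apply, IsScalarTower.algebraMap_apply A B L]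
  have : x ^ Module.finrank K L ∈ p := by
    rw [hxn]; exact Ideal.mul_mem_left _ _ hap
  exact Ideal.IsPrime.mem_of_pow_mem ‹_› _ this


lemma tkd_zeroLocus (R : Type u) [CommRing R] (s : Set R) :
    topologicalKrullDim ↥(PrimeSpectrum.zeroLocus s) =
      Order.krullDim ↥(PrimeSpectrum.zeroLocus s) := by
  rw [← PrimeSpectrum.zeroLocus_span s]
  set I := Ideal.span s
  rw [← ringKrullDim_quotient I, ← PrimeSpectrum.topologicalKrullDim_eq_ringKrullDim]
  have hr : Set.range (PrimeSpectrum.comap (Ideal.Quotient.mk I)) =
      PrimeSpectrum.zeroLocus (I : Set R) := by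
    rw [_root_.range_comap_of_surjective _ _ Ideal.Quotient.mk_surjective, Ideal.mk_ker]
  rw [← hr]
  have hemb := PrimeSpectrum.isClosedEmbedding_comap_of_surjective (R ⧸ I) (Ideal.Quotient.mk I)
    Ideal.Quotient.mk_surjective
  exact (IsHomeomorph.topologicalKrullDim_eq _
    hemb.isEmbedding.toHomeomorph.isHomeomorph).symm

/-- Let A → B be an injective integral homomorphism of integral domains with fraction fields K and L, L
a finite extension of K, and A integrally closed. For b in B the norm N_{L/K}(b) lies in A; if a
denotes this element of A, then the image of the closed set V(b) of Spec B under Spec B → Spec A is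
exactly V(a), and V(b) and V(a) have the same dimension. -/
theorem result
    (A B K L : Type u) [CommRing A] [IsDomain A] [CommRing B] [IsDomain B] [Algebra A B]
    [Field K] [Field L] [Algebra A K] [IsFractionRing A K] [Algebra B L] [IsFractionRing B L]
    [Algebra A L] [Algebra K L] [IsScalarTower A B L] [IsScalarTower A K L]
    [FiniteDimensional K L] [Algebra.IsIntegral A B] [IsIntegrallyClosed A]
    (hinj : Function.Injective (algebraMap A B))
    (b : B) (a : A) (ha : algebraMap A K a = Algebra.norm K (algebraMap B L b)) :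
    PrimeSpectrum.comap (algebraMap A B) '' PrimeSpectrum.zeroLocus ({b} : Set B) =
        PrimeSpectrum.zeroLocus ({a} : Set A) ∧
      topologicalKrullDim ↥(PrimeSpectrum.zeroLocus ({b} : Set B)) =
        topologicalKrullDim ↥(PrimeSpectrum.zeroLocus ({a} : Set A)) := by
  have h1 : PrimeSpectrum.comap (algebraMap A B) '' PrimeSpectrum.zeroLocus ({b} : Set B) =
        PrimeSpectrum.zeroLocus ({a} : Set A) := by
    ext p
    constructor
    · rintro ⟨q, hq, rfl⟩
      rw [PrimeSpectrum.mem_zeroLocus, Set.singleton_subset_iff] at hq ⊢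
      change algebraMap A B a ∈ q.asIdeal
      have := norm_dvd_aux A B K L b a ha
      exact (Ideal.span_le.mpr (Set.singleton_subset_iff.mpr hq)) this
    · intro hp
      rw [PrimeSpectrum.mem_zeroLocus, Set.singleton_subset_iff] at hp
      obtain ⟨Q, hQ, hQprime, hQcomap⟩ := Ideal.exists_ideal_over_prime_of_isIntegral p.asIdeal
        (Ideal.span {b}) (comap_span_le A B K L b a ha p.asIdeal hp)
      refine ⟨⟨Q, hQprime⟩, ?_, PrimeSpectrum.ext hQcomap⟩
      rw [PrimeSpectrum.mem_zeroLocus, Set.singleton_subset_iff]
      exact hQ (Ideal.mem_span_singleton_self b)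
  refine ⟨h1, ?_⟩
  rw [tkd_zeroLocus, tkd_zeroLocus]
  apply le_antisymm
  · let g : ↥(PrimeSpectrum.zeroLocus ({b} : Set B)) → ↥(PrimeSpectrum.zeroLocus ({a} : Set A)) :=
      fun q => ⟨PrimeSpectrum.comap (algebraMap A B) q.1, by rw [← h1]; exact ⟨q.1, q.2, rfl⟩⟩
    apply Order.krullDim_le_of_strictMono g
    intro q q' hqq'
    have hlt : q.1.asIdeal < q'.1.asIdeal := hqq'
    obtain ⟨x, hxq', hxq⟩ := SetLike.exists_of_lt hlt
    exact Ideal.comap_lt_comap_of_integral_mem_sdiff (R := A) hlt.le ⟨hxq', hxq⟩
      (Algebra.IsIntegral.isIntegral x)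
  · rw [Order.krullDim]
    apply iSup_le
    intro l
    let l' : LTSeries (PrimeSpectrum A) := l.map Subtype.val (fun _ _ h => h)
    obtain ⟨q0, hq0, hq0p⟩ : l.head.1 ∈ PrimeSpectrum.comap (algebraMap A B) ''
        PrimeSpectrum.zeroLocus ({b} : Set B) := by
      rw [h1]; exact l.head.2
    have : q0.asIdeal.LiesOver (RelSeries.head l').asIdeal := by
      constructor
      have : RelSeries.head l' = l.head.1 := rfl
      rw [this, ← hq0p]
      rfl
    obtain ⟨L, hlen, hhead, -⟩ := Ideal.exists_ltSeries_of_hasGoingUp l' q0.asIdeal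
    have hmem : ∀ i, L i ∈ PrimeSpectrum.zeroLocus ({b} : Set B) := fun i => by
      have hle : L.head ≤ L i := LTSeries.head_le L i
      rw [PrimeSpectrum.mem_zeroLocus, Set.singleton_subset_iff] at hq0 ⊢
      apply hle
      rw [hhead]
      exact hq0
    let L' : LTSeries ↥(PrimeSpectrum.zeroLocus ({b} : Set B)) :=
      ⟨L.length, fun i => ⟨L i, hmem i⟩, fun i => L.step i⟩
    have hlen' : L'.length = l.length := hlen
    rw [← hlen']
    exact Order.LTSeries.length_le_krullDim L'

end Groth.Agent.S10825
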