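import Groth.Statements.S10830
-- import your own Groth.Agent.* helpers here

set_option autoImplicit false
universe u
open Topology TopologicalSpace
open TopDim

namespace Groth.Agent.S10830

/-- In an irreducible topological space X of finite Krull dimension, every proper closed subset Y has
strictly smaller Krull dimension than X. -/
theorem result (X : Type u) [TopologicalSpace X]
    [IrreducibleSpace X] (hfin : topologicalKrullDim X ≠ ⊤) (Y : Set X) (hY : IsClosed Y) (hYX : Y ≠ Set.univ) :
    topologicalKrullDim ↥Y < topologicalKrullDim X := by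
  unfold topologicalKrullDim at hfin ⊢
  have hne : Order.krullDim (IrreducibleCloseds X) ≠ ⊥ := by
    rw [Order.krullDim_ne_bot_iff]
    exact ⟨⟨Set.univ, IrreducibleSpace.isIrreducible_univ X, isClosed_univ⟩⟩
  obtain ⟨n, hn⟩ : ∃ n : ℕ, Order.krullDim (IrreducibleCloseds X) = (n : WithBot ℕ∞) := by
    obtain ⟨a, ha⟩ := WithBot.ne_bot_iff_exists.mp hne
    have ha' : a ≠ ⊤ := by
      rintro rfl
      exact hfin ha.symm
    obtain ⟨n, hn⟩ := ENat.ne_top_iff_exists.mp ha'
    exact ⟨n, by rw [← ha, ← hn]; rfl⟩
  rw [hn, Order.krullDim_lt_coe_iff]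
  intro q
  let T : IrreducibleCloseds X := ⟨Set.univ, IrreducibleSpace.isIrreducible_univ X, isClosed_univ⟩
  let q' : LTSeries (IrreducibleCloseds X) :=
    q.map (IrreducibleCloseds.map Subtype.val continuous_subtype_val)
      (IrreducibleCloseds.map_strictMono_of_isInducing Topology.IsInducing.subtypeVal)
  have hlast : q'.last < T := by
    rw [← SetLike.coe_ssubset_coe]
    refine ⟨Set.subset_univ _, fun hcon => hYX ?_⟩
    apply Set.eq_univ_of_univ_subset
    refine (hcon : (Set.univ : Set X) ⊆ (q'.last : Set X)).trans ?_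
    rw [LTSeries.last_map]
    change closure (Subtype.val '' _) ⊆ Y
    apply closure_minimal _ hY
    rintro _ ⟨y, _, rfl⟩
    exact y.2
  have h2 := Order.LTSeries.length_le_krullDim (q'.snoc T hlast)
  rw [hn] at h2
  have h3 : (q'.snoc T hlast).length = q.length + 1 := by
    simp [q']
  rw [h3] at h2
  have h4 : q.length + 1 ≤ n := by exact_mod_cast h2
  omega

end Groth.Agent.S10830
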