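import Groth.Statements.S10831
-- import your own Groth.Agent.* helpers here

set_option autoImplicit false
universe u
open Topology TopologicalSpace
open TopDim

namespace Groth.Agent.S10831

theorem isIrreducible_preimage_val {X : Type u} [TopologicalSpace X] {Y Z : Set X}
    (hZ : IsIrreducible Z) (hZY : Z ⊆ Y) :
    IsIrreducible ((↑) ⁻¹' Z : Set Y) := by
  obtain ⟨⟨z, hz⟩, hpre⟩ := hZ
  refine ⟨⟨⟨z, hZY hz⟩, hz⟩, ?_⟩
  rintro U V ⟨U', hU', rfl⟩ ⟨V', hV', rfl⟩ ⟨a, ha, haU⟩ ⟨b, hb, hbV⟩
  obtain ⟨c, hc, hcU, hcV⟩ := hpre U' V' hU' hV' ⟨a, ha, haU⟩ ⟨b, hb, hbV⟩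
  exact ⟨⟨c, hZY hc⟩, hc, hcU, hcV⟩

/-- The Krull dimension of a topological space is the supremum of the Krull dimensions of its
irreducible components. -/
theorem result (X : Type u) [TopologicalSpace X] :
    topologicalKrullDim X = ⨆ Y ∈ irreducibleComponents X, topologicalKrullDim ↥Y := by
  apply le_antisymm
  · unfold topologicalKrullDim
    rw [Order.krullDim]
    apply iSup_le
    intro p
    obtain ⟨Y, hY, hle⟩ :=
      exists_mem_irreducibleComponents_subset_of_isIrreducible _ p.last.isIrreducible
    refine le_trans ?_ (le_iSup₂ (f := fun (Y : Set X) (_ : Y ∈ irreducibleComponents X) =>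
      Order.krullDim (IrreducibleCloseds ↥Y)) Y hY)
    have hsub : ∀ i, ((p i : IrreducibleCloseds X) : Set X) ⊆ Y := fun i =>
      (show ((p i : IrreducibleCloseds X) : Set X) ⊆ (p.last : Set X) from
        p.strictMono.monotone (Fin.le_last i)).trans hle
    let q : LTSeries (IrreducibleCloseds ↥Y) :=
      { length := p.length
        toFun := fun i => ⟨(↑) ⁻¹' ((p i : IrreducibleCloseds X) : Set X),
          isIrreducible_preimage_val (p i).isIrreducible (hsub i),
          (p i).isClosed.preimage continuous_subtype_val⟩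
        step := by
          intro i
          have h : p i.castSucc < p i.succ := p.step i
          change (_ : IrreducibleCloseds ↥Y) < _
          rw [← SetLike.coe_ssubset_coe] at h ⊢
          obtain ⟨h1, h2⟩ := h
          refine ⟨fun y hy => h1 hy, fun hcon => h2 fun x hx => ?_⟩
          exact hcon (a := ⟨x, hsub _ hx⟩) hx }
    exact Order.LTSeries.length_le_krullDim q
  · exact iSup₂_le fun Y _ => topologicalKrullDim_subspace_le X Y

end Groth.Agent.S10831
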