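import Groth.Statements.S10832
import Mathlib
import Groth.Agent.S2256
import Groth.Agent.S2261
import Groth.Agent.Lib.Helper7TopDim

set_option autoImplicit false
universe u
open CategoryTheory AlgebraicGeometry Topology
open Variety

namespace Groth.Agent.S10832


/-- A scheme locally of finite type over a field is locally Noetherian. -/
lemma isLocallyNoetherian_of_lft (k : Type u) [Field k] {X : Scheme.{u}}
    (f : X ⟶ Spec (CommRingCat.of k)) [LocallyOfFiniteType f] : IsLocallyNoetherian X := by
  refine ⟨fun U => ?_⟩
  have h := HasRingHomProperty.appLE (P := @LocallyOfFiniteType) f inferInstance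
    ⟨⊤, isAffineOpen_top _⟩ U le_top
  let e := (Scheme.ΓSpecIso (.of k)).commRingCatIsoToRingEquiv
  have hN : IsNoetherianRing Γ(Spec (.of k), ⊤) :=
    isNoetherianRing_of_ringEquiv k e.symm
  algebraize [(f.appLE ⊤ U.1 le_top).hom]
  exact Algebra.FiniteType.isNoetherianRing Γ(Spec (.of k), ⊤) Γ(X, U.1)



/-- For a nonempty scheme X of finite type over a field k the following are equivalent: X has Krull
dimension 0; X is affine with ring of global sections finite over k and equal to the product of all
its local rings via the germ maps; the underlying space of X is discrete; the underlying space of X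
is finite. -/
theorem result (k : Type u) [Field k] {X : Scheme.{u}} [Nonempty X]
    (f : X ⟶ Spec (CommRingCat.of k)) [LocallyOfFiniteType f] [QuasiCompact f] :
    [topologicalKrullDim ↥X = 0,
      IsAffine X ∧ f.appTop.hom.Finite ∧
        Function.Bijective (fun s : Γ(X, ⊤) => fun x : X => X.presheaf.germ ⊤ x trivial s),
      DiscreteTopology ↥X,
      Finite ↥X].TFAE := by
  have hLN : IsLocallyNoetherian X := isLocallyNoetherian_of_lft k f
  have hJ : JacobsonSpace X := LocallyOfFiniteType.jacobsonSpace f
  have hC : CompactSpace X := QuasiCompact.compactSpace_of_compactSpace f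
  tfae_have 1 → 4 := by
    intro h
    have : IsLocallyArtinian X := .of_topologicalKrullDim_le_zero h.le
    have : DiscreteTopology X := inferInstance
    exact finite_of_compact_of_discrete
  tfae_have 4 → 3 := by
    intro h
    infer_instance
  tfae_have 3 → 4 := by
    intro h
    exact finite_of_compact_of_discrete
  tfae_have 4 → 2 := by
    intro h
    obtain ⟨h1, h2⟩ := Groth.Agent.S2256.result k X f h
    have : DiscreteTopology X := inferInstance
    exact ⟨h1, h2, Groth.Agent.S2261.bijective_germs X⟩
  tfae_have 2 → 1 := by
    rintro ⟨h1, h2, -⟩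
    apply le_antisymm
    · algebraize [f.appTop.hom]
      let e := (Scheme.ΓSpecIso (.of k)).commRingCatIsoToRingEquiv
      have hF : IsField Γ(Spec (.of k), ⊤) := MulEquiv.isField (Field.toIsField k) e.toMulEquiv
      let _ : Field Γ(Spec (.of k), ⊤) := hF.toField
      have : Module.Finite Γ(Spec (.of k), ⊤) Γ(X, ⊤) := h2
      have hA : IsArtinianRing Γ(X, ⊤) :=
        IsArtinianRing.of_finite Γ(Spec (.of k), ⊤) Γ(X, ⊤)
      have : DiscreteTopology (Spec Γ(X, ⊤)) := inferInstanceAs (DiscreteTopology (PrimeSpectrum Γ(X, ⊤)))
      have : DiscreteTopology X := X.isoSpec.hom.homeomorph.symm.discreteTopology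
      exact topologicalKrullDim_zero_of_discreteTopology X
    · exact Groth.Agent.Lib.Helper7.TopDim.topologicalKrullDim_nonneg
  tfae_finish

end Groth.Agent.S10832
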