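import Groth.Statements.S10833
import Groth.Agent.Lib.Helper28FGDim
-- import your own Groth.Agent.* helpers here

set_option autoImplicit false
universe u
open Variety

namespace Groth.Agent.S10833
open Groth.Agent.Lib.Helper28

/-- Let k be a field and A a k-algebra of finite type that is an integral domain. Then every chain of
prime ideals of A admitting no refinement — it starts at the zero ideal, ends at a maximal ideal,
and no prime ideal lies strictly between two consecutive members — has length equal to the Krull
dimension of A. -/
theorem result (k A : Type u) [Field k] [CommRing A]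
    [IsDomain A] [Algebra k A] [Algebra.FiniteType k A] (c : LTSeries (PrimeSpectrum A))
    (h0 : c.head.asIdeal = ⊥) (hmax : c.last.asIdeal.IsMaximal)
    (hsat : ∀ i : Fin c.length, c i.castSucc ⋖ c i.succ) :
    (c.length : WithBot ℕ∞) = ringKrullDim A := by
  obtain ⟨n, φ, hφ⟩ := Algebra.FiniteType.iff_quotient_mvPolynomial''.mp
    (inferInstance : Algebra.FiniteType k A)
  have hk : LocCoh.IsCohenMacaulayRing k := isCohenMacaulayRing_of_field k
  have hS : LocCoh.IsCohenMacaulayRing (MvPolynomial (Fin n) k) :=
    isCohenMacaulayRing_mvPolynomial_fin n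
  have hφ' : Function.Surjective φ.toRingHom := hφ
  have hsm := comap_strictMono_of_surjective φ.toRingHom hφ'
  let s := c.map (PrimeSpectrum.comap φ.toRingHom) hsm
  have hs_sat : ∀ i : Fin s.length, s i.castSucc ⋖ s i.succ :=
    fun i => comap_covBy_of_surjective _ hφ' (hsat i)
  have h1 := height_last_eq_head_add_length_of_saturated
    (fun h => height_eq_succ_of_covBy_of_isCohenMacaulayRing h) s hs_sat
  have hlast : s.last = PrimeSpectrum.comap φ.toRingHom c.last := LTSeries.last_map c _ hsm
  have hhead : s.head = PrimeSpectrum.comap φ.toRingHom c.head := LTSeries.head_map c _ hsm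
  have hlastmax : s.last.asIdeal.IsMaximal := by
    rw [hlast]
    exact Ideal.comap_isMaximal_of_surjective φ.toRingHom hφ'
  rw [height_eq_of_isMaximal_mvPolynomial_fin k n _ hlastmax] at h1
  have hlen : s.length = c.length := rfl
  rw [hlen] at h1
  apply le_antisymm
  · exact Order.LTSeries.length_le_krullDim c
  · unfold ringKrullDim Order.krullDim
    refine iSup_le (fun c' => ?_)
    let s' := c'.map (PrimeSpectrum.comap φ.toRingHom) hsm
    have h2 := height_head_add_length_le_height_last s'
    have hhead' : s'.head = PrimeSpectrum.comap φ.toRingHom c'.head := LTSeries.head_map c' _ hsm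
    have h3 : s.head.asIdeal.height ≤ s'.head.asIdeal.height := by
      apply Ideal.height_mono
      rw [hhead, hhead']
      apply Ideal.comap_mono
      rw [h0]
      exact bot_le
    have hpl : s'.last.asIdeal.IsPrime := s'.last.2
    have h4 : s'.last.asIdeal.height ≤ n := by
      have h5 := Ideal.height_le_ringKrullDim_of_ne_top hpl.ne_top
      rw [MvPolynomial.ringKrullDim_of_isNoetherianRing, ringKrullDim_eq_zero_of_field,
        zero_add, Nat.card_eq_fintype_card, Fintype.card_fin] at h5
      exact_mod_cast h5
    have hlen' : s'.length = c'.length := rfl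
    rw [hlen'] at h2
    have h6 : s.head.asIdeal.height + c'.length ≤ s.head.asIdeal.height + c.length := by
      rw [← h1]
      exact le_trans (le_trans (add_le_add h3 le_rfl) h2) h4
    have hph : s.head.asIdeal.IsPrime := s.head.2
    have hfin : s.head.asIdeal.height ≠ ⊤ := Ideal.height_ne_top_of_isPrime
    have h7 : (c'.length : ℕ∞) ≤ c.length := (ENat.add_le_add_iff_left hfin).mp h6
    exact_mod_cast h7

end Groth.Agent.S10833
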