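import Groth.Statements.S10834
import Groth.Agent.Lib.Helper28Hypersurface
-- import your own Groth.Agent.* helpers here

set_option autoImplicit false
universe u
open CAlg

namespace Groth.Agent.S10834
open Groth.Agent.Lib.Helper28

/-- Let A be a Noetherian ring whose localizations at all prime ideals are regular local rings, and f an
element of A generating a prime ideal, so that A/(f) is an integral domain (an integral hypersurface
in the regular affine scheme Spec A). Then A/(f) is normal (integrally closed in its fraction field)
if and only if it is regular in codimension 1, i.e. its localization at every prime at which the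
local ring has dimension 1 is a regular local ring. -/
theorem result (A : Type u) [CommRing A]
    [IsNoetherianRing A] (hreg : ∀ (p : Ideal A) (_ : p.IsPrime), IsRegularLocalRing (Localization.AtPrime p))
    (f : A) (hf : (Ideal.span ({f} : Set A)).IsPrime) :
    IsIntegrallyClosed (A ⧸ Ideal.span ({f} : Set A)) ↔
      ∀ q : PrimeSpectrum (A ⧸ Ideal.span ({f} : Set A)),
        ringKrullDim (Localization.AtPrime q.asIdeal) = 1 →
          IsRegularLocalRing (Localization.AtPrime q.asIdeal) := by
  have hdomB : IsDomain (A ⧸ Ideal.span ({f} : Set A)) := Ideal.Quotient.isDomain _
  constructor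
  · intro hic q hdim
    have : IsIntegrallyClosed (Localization.AtPrime q.asIdeal) :=
      isIntegrallyClosed_of_isLocalization _ q.asIdeal.primeCompl
        q.asIdeal.primeCompl_le_nonZeroDivisors
    exact isRegularLocalRing_of_isIntegrallyClosed_of_dim_le_one (le_of_eq hdim)
  · intro h
    apply isIntegrallyClosed_of_hasRk_one_of_hasSk_two
    · intro q hq hht
      rcases lt_or_eq_of_le hht with hlt | heq
      · have h0 : q.height = 0 := Order.lt_one_iff.mp hlt
        have hmin : q ∈ minimalPrimes (A ⧸ Ideal.span ({f} : Set A)) :=
          Ideal.height_eq_zero_iff.mp h0
        rw [IsDomain.minimalPrimes_eq_singleton_bot, Set.mem_singleton_iff] at hmin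
        apply isRegularLocalRing_of_maximalIdeal_eq_bot
        rw [← Localization.AtPrime.map_eq_maximalIdeal]
        have hle : q ≤ (⊥ : Ideal (Localization.AtPrime q)).comap
            (algebraMap (A ⧸ Ideal.span ({f} : Set A)) (Localization.AtPrime q)) := by
          intro x hx
          have hx0 : x = 0 := by
            rw [hmin] at hx
            exact hx
          rw [hx0]
          simp
        exact eq_bot_iff.mpr (Ideal.map_le_iff_le_comap.mpr hle)
      · apply h ⟨q, hq⟩
        rw [IsLocalization.AtPrime.ringKrullDim_eq_height q (Localization.AtPrime q)]
        change ((q.height : ℕ∞) : WithBot ℕ∞) = 1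
        rw [heq]
        rfl
    · rw [hasSk_self_iff]
      intro q hq
      rw [depth_localization_quotient_span_singleton_eq_height hreg f q]
      exact min_le_right _ _

end Groth.Agent.S10834
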