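import Groth.Statements.S10835
import Mathlib
import Groth.Agent.Lib.Helper16HyperModel
import Groth.Agent.Lib.Helper4BirIso
import Groth.Agent.Lib.Helper6BcBridge
-- import your own Groth.Agent.* helpers here

set_option autoImplicit false
set_option linter.style.haveILetI false
set_option linter.unusedSectionVars false
universe u
open CategoryTheory AlgebraicGeometry
attribute [local instance] Curv2.stalkAlgebra
open Variety

namespace Groth.Agent.S10835

open Groth.Agent.Lib.Helper16.HyperModel

/-- the local rings of a scheme locally of finite type over a field are essentially of finite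
type. -/
theorem essFiniteType_stalk (k : Type u) [Field k] (X : Scheme.{u})
    [X.Over (Spec (CommRingCat.of k))] [LocallyOfFiniteType (X ↘ Spec (CommRingCat.of k))]
    (x : X) : Algebra.EssFiniteType k (X.presheaf.stalk x) := by
  obtain ⟨R, _, _, ι, _, hι, z, rfl⟩ := Groth.Agent.Lib.Helper6.BcBridge.exists_chart k X x
  have h1 : LocallyOfFiniteType (Spec.map (CommRingCat.ofHom (algebraMap k R))) := by
    rw [← hι]
    infer_instance
  rw [HasRingHomProperty.Spec_iff (P := @LocallyOfFiniteType)] at h1
  haveI : Algebra.FiniteType k R := by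
    rw [CommRingCat.hom_ofHom] at h1
    exact RingHom.finiteType_algebraMap.mp h1
  exact (Algebra.EssFiniteType.iff_of_algEquiv
    (Groth.Agent.Lib.Helper6.BcBridge.stalkAlgEquiv k X ι hι z)).mpr inferInstance

/-- the map from `k` to the local ring of `Spec k` at a point -/
noncomputable def tau (k : Type u) [Field k] (pt : ↥(Spec (CommRingCat.of k))) :
    CommRingCat.of k ⟶ (Spec (CommRingCat.of k)).presheaf.stalk pt :=
  (Scheme.ΓSpecIso (CommRingCat.of k)).inv ≫
    (Spec (CommRingCat.of k)).presheaf.germ ⊤ pt trivial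

theorem tau_eq (k : Type u) [Field k] (pt : ↥(Spec (CommRingCat.of k))) :
    tau k pt = StructureSheaf.toStalk k pt := by
  rfl

theorem toStalk_hom_ext (k : Type u) [Field k] (pt : PrimeSpectrum k) {A : CommRingCat.{u}}
    (a b : ((Spec.structureSheaf k).presheaf.stalk pt : CommRingCat.{u}) ⟶ A)
    (h : StructureSheaf.toStalk k pt ≫ a = StructureSheaf.toStalk k pt ≫ b) : a = b := by
  ext1
  exact IsLocalization.ringHom_ext pt.asIdeal.primeCompl (congrArg CommRingCat.Hom.hom h)

theorem tau_hom_ext (k : Type u) [Field k] (pt : ↥(Spec (CommRingCat.of k))) {A : CommRingCat.{u}}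
    (a b : (Spec (CommRingCat.of k)).presheaf.stalk pt ⟶ A) (h : tau k pt ≫ a = tau k pt ≫ b) :
    a = b :=
  toStalk_hom_ext k pt a b h

theorem tau_stalkMap (k : Type u) [Field k] (Z : Scheme.{u}) [Z.Over (Spec (CommRingCat.of k))]
    (z : Z) :
    tau k ((Z ↘ Spec (CommRingCat.of k)) z) ≫ (Z ↘ Spec (CommRingCat.of k)).stalkMap z =
      CommRingCat.ofHom (Curv2.stalkMap k Z z) := by
  have h1 : CommRingCat.ofHom (Curv2.stalkMap k Z z) =
      (Scheme.ΓSpecIso (CommRingCat.of k)).inv ≫ (Z ↘ Spec (CommRingCat.of k)).appTop ≫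
        Z.presheaf.germ ⊤ z trivial := by
    ext c
    rfl
  rw [h1]
  unfold tau
  have h2 := Scheme.Hom.germ_stalkMap (Z ↘ Spec (CommRingCat.of k)) ⊤ z trivial
  rw [Category.assoc]
  exact congrArg (fun m => (Scheme.ΓSpecIso (CommRingCat.of k)).inv ≫ m) h2

theorem tau_stalkSpecializes (k : Type u) [Field k] (pt pt' : ↥(Spec (CommRingCat.of k)))
    (h : pt ⤳ pt') :
    tau k pt' ≫ (Spec (CommRingCat.of k)).presheaf.stalkSpecializes h = tau k pt := by
  unfold tau
  have h2 := TopCat.Presheaf.germ_stalkSpecializes (Spec (CommRingCat.of k)).presheaf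
    (U := ⊤) (hy := trivial) h
  rw [Category.assoc]
  exact congrArg (fun m => (Scheme.ΓSpecIso (CommRingCat.of k)).inv ≫ m) h2


/-- Let k be a field and X an integral scheme of finite type over k whose function field admits a
transcendence basis s_1, …, s_d over k over which it is separable algebraic (this holds whenever the
function field is a separable extension of k in the sense of field theory, e.g. for k perfect, and
then d = dim X). Then some nonempty open subscheme of X is isomorphic, over k, to a nonempty open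
subscheme of Spec k[T_1, …, T_d][T]/(g) for a monic polynomial g over k[T_1, …, T_d] which is
irreducible and separable over the fraction field k(T_1, …, T_d). -/
theorem result (k : Type u) [Field k]
    (X : Scheme.{u}) [X.Over (Spec (CommRingCat.of k))] [IsIntegral X]
    [LocallyOfFiniteType (X ↘ Spec (CommRingCat.of k))] [QuasiCompact (X ↘ Spec (CommRingCat.of k))]
    (d : ℕ) (s : Fin d → X.presheaf.stalk (genericPoint X)) (hs : IsTranscendenceBasis k s)
    (hsep : Algebra.IsSeparable ↥(IntermediateField.adjoin k (Set.range s)) (X.presheaf.stalk (genericPoint X))) :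
    ∃ (g : Polynomial (MvPolynomial (Fin d) k)), g.Monic ∧
      Irreducible (g.map (algebraMap (MvPolynomial (Fin d) k) (FractionRing (MvPolynomial (Fin d) k)))) ∧
      (g.map (algebraMap (MvPolynomial (Fin d) k) (FractionRing (MvPolynomial (Fin d) k)))).Separable ∧
      ∃ (U : X.Opens) (V : (Spec (CommRingCat.of (AdjoinRoot g))).Opens) (e : (U : Scheme.{u}) ≅ (V : Scheme.{u})),
        (U : Set X).Nonempty ∧ (V : Set (Spec (CommRingCat.of (AdjoinRoot g)))).Nonempty ∧
        e.hom ≫ V.ι ≫ Spec.map (CommRingCat.ofHom (algebraMap k (AdjoinRoot g))) =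
          U.ι ≫ (X ↘ Spec (CommRingCat.of k)) := by
  haveI := essFiniteType_stalk k X (genericPoint X)
  obtain ⟨g, hmonic, hirr, hsep', ψ, hψinj, hψsurj⟩ :=
    exists_hypersurface_model k (X.presheaf.stalk (genericPoint X)) d s hs hsep
  refine ⟨g, hmonic, hirr, hsep', ?_⟩
  haveI : IsDomain (AdjoinRoot g) := hψinj.isDomain ψ.toRingHom
  letI iBK : Algebra (AdjoinRoot g) (X.presheaf.stalk (genericPoint X)) := ψ.toRingHom.toAlgebra
  haveI : FaithfulSMul (AdjoinRoot g) (X.presheaf.stalk (genericPoint X)) :=
    (faithfulSMul_iff_algebraMap_injective _ _).mpr hψinj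
  haveI : IsFractionRing (AdjoinRoot g) (X.presheaf.stalk (genericPoint X)) :=
    IsFractionRing.of_field _ _ hψsurj
  haveI hFT : Algebra.FiniteType k (AdjoinRoot g) := by
    have : Algebra.FiniteType k (Polynomial (MvPolynomial (Fin d) k)) := inferInstance
    exact Algebra.FiniteType.of_surjective
      ((AdjoinRoot.mkₐ g).restrictScalars k) (AdjoinRoot.mk_surjective)
  haveI hlft : LocallyOfFiniteType
      (Spec.map (CommRingCat.ofHom (algebraMap k (AdjoinRoot g)))) := by
    rw [HasRingHomProperty.Spec_iff (P := @LocallyOfFiniteType), CommRingCat.hom_ofHom]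
    exact RingHom.finiteType_algebraMap.mpr hFT
  haveI : IsDomain ↑(CommRingCat.of (AdjoinRoot g)) := inferInstanceAs (IsDomain (AdjoinRoot g))
  letI iBF : Algebra (AdjoinRoot g) (Spec (CommRingCat.of (AdjoinRoot g))).functionField :=
    instAlgebraCarrierFunctionFieldSpec (CommRingCat.of (AdjoinRoot g))
  haveI : IsFractionRing (AdjoinRoot g) (Spec (CommRingCat.of (AdjoinRoot g))).functionField :=
    functionField_isFractionRing_of_affine (CommRingCat.of (AdjoinRoot g))
  let e : (Spec (CommRingCat.of (AdjoinRoot g))).functionField ≃+*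
      X.presheaf.stalk (genericPoint X) :=
    (IsLocalization.algEquiv (nonZeroDivisors (AdjoinRoot g))
      (Spec (CommRingCat.of (AdjoinRoot g))).functionField
      (X.presheaf.stalk (genericPoint X))).toRingEquiv
  letI iY : (Spec (CommRingCat.of (AdjoinRoot g))).Over (Spec (CommRingCat.of k)) :=
    ⟨Spec.map (CommRingCat.ofHom (algebraMap k (AdjoinRoot g)))⟩
  have hpt : (X ↘ Spec (CommRingCat.of k)) (genericPoint X) =
      (Spec.map (CommRingCat.ofHom (algebraMap k (AdjoinRoot g))))
        (genericPoint (Spec (CommRingCat.of (AdjoinRoot g)))) :=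
    Subsingleton.elim (α := PrimeSpectrum k) _ _
  have hY : ∀ c : k, Curv2.stalkMap k (Spec (CommRingCat.of (AdjoinRoot g)))
      (genericPoint (Spec (CommRingCat.of (AdjoinRoot g)))) c =
      algebraMap (AdjoinRoot g) (Spec (CommRingCat.of (AdjoinRoot g))).functionField
        (algebraMap k (AdjoinRoot g) c) := by
    intro c
    have hnat := Scheme.ΓSpecIso_inv_naturality (CommRingCat.ofHom (algebraMap k (AdjoinRoot g)))
    have h3 := congr($hnat c)
    change ((Spec (CommRingCat.of (AdjoinRoot g))).presheaf.germ ⊤ _ trivial).hom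
      ((Spec.map (CommRingCat.ofHom (algebraMap k (AdjoinRoot g)))).appTop.hom
        ((Scheme.ΓSpecIso (CommRingCat.of k)).inv.hom c)) = _
    have h4 : (Spec.map (CommRingCat.ofHom (algebraMap k (AdjoinRoot g)))).appTop.hom
        ((Scheme.ΓSpecIso (CommRingCat.of k)).inv.hom c) =
        (Scheme.ΓSpecIso (CommRingCat.of (AdjoinRoot g))).inv.hom
          (algebraMap k (AdjoinRoot g) c) := h3.symm
    rw [h4]
    rfl
  let θ : (Spec (CommRingCat.of (AdjoinRoot g))).presheaf.stalk
      (genericPoint (Spec (CommRingCat.of (AdjoinRoot g)))) ≅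
      X.presheaf.stalk (genericPoint X) := e.toCommRingCatIso
  have hθ : (Spec.map (CommRingCat.ofHom (algebraMap k (AdjoinRoot g)))).stalkMap
      (genericPoint (Spec (CommRingCat.of (AdjoinRoot g)))) ≫ θ.hom =
      (Spec (CommRingCat.of k)).presheaf.stalkSpecializes (Inseparable.of_eq hpt).specializes ≫
        (X ↘ Spec (CommRingCat.of k)).stalkMap (genericPoint X) := by
    apply tau_hom_ext k
    rw [← Category.assoc, ← Category.assoc, tau_stalkSpecializes]
    have h1 := tau_stalkMap k (Spec (CommRingCat.of (AdjoinRoot g)))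
      (genericPoint (Spec (CommRingCat.of (AdjoinRoot g))))
    have h2 := tau_stalkMap k X (genericPoint X)
    rw [h2]
    refine (congrArg (fun m => m ≫ θ.hom) h1).trans ?_
    ext c
    change e (Curv2.stalkMap k (Spec (CommRingCat.of (AdjoinRoot g)))
      (genericPoint (Spec (CommRingCat.of (AdjoinRoot g)))) c) = Curv2.stalkMap k X (genericPoint X) c
    rw [hY c]
    change (IsLocalization.algEquiv (nonZeroDivisors (AdjoinRoot g))
      (Spec (CommRingCat.of (AdjoinRoot g))).functionField
      (X.presheaf.stalk (genericPoint X))) (algebraMap (AdjoinRoot g) _ _) = _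
    rw [AlgEquiv.commutes]
    exact ψ.commutes c
  obtain ⟨P, hP⟩ := Groth.Agent.Lib.Helper4.BirIso.birationalOver_of_stalk_iso
    (X ↘ Spec (CommRingCat.of k)) (Spec.map (CommRingCat.ofHom (algebraMap k (AdjoinRoot g))))
    (genericPoint X) (genericPoint (Spec (CommRingCat.of (AdjoinRoot g)))) hpt θ hθ
  exact ⟨P.source, P.target, P.iso, P.dense_source.nonempty, P.dense_target.nonempty, hP⟩

end Groth.Agent.S10835
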