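import Groth.Statements.S10836
import Mathlib
-- import your own Groth.Agent.* helpers here

set_option autoImplicit false
universe u
open Coh

namespace Groth.Agent.S10836

theorem semilocal_aux (A : Type u) [CommRing A] (Z : Set (PrimeSpectrum A)) (hZ : Z.Finite)
    (S : Submonoid A) (hS : ∀ s : A, s ∈ S ↔ ∀ p ∈ Z, s ∉ p.asIdeal) :
    Finite (MaximalSpectrum (Localization S)) := by
  classical
  haveI : Finite ↥Z := hZ.to_subtype
  have hdisj : ∀ p ∈ Z, Disjoint (S : Set A) (p.asIdeal : Set A) := by
    intro p hp
    rw [Set.disjoint_left]
    intro s hs hsp
    exact (hS s).mp hs p hp hsp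
  have key : ∀ m : MaximalSpectrum (Localization S), ∃ p : ↥Z,
      Ideal.comap (algebraMap A (Localization S)) m.asIdeal ≤ p.1.asIdeal := by
    intro m
    haveI := m.isMaximal.isPrime
    set I := Ideal.comap (algebraMap A (Localization S)) m.asIdeal with hI
    haveI hIprime : I.IsPrime := Ideal.comap_isPrime _ _
    have hsub : (I : Set A) ⊆ ⋃ p ∈ ((hZ.toFinset : Finset (PrimeSpectrum A)) : Set (PrimeSpectrum A)),
        (p.asIdeal : Set A) := by
      intro a ha
      by_contra hcon
      have haS : a ∈ S := by
        rw [hS]
        intro p hp hap
        apply hcon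
        simp only [Set.mem_iUnion]
        exact ⟨p, by simpa using hp, hap⟩
      have hunit : IsUnit (algebraMap A (Localization S) a) :=
        IsLocalization.map_units (Localization S) ⟨a, haS⟩
      exact m.isMaximal.ne_top (Ideal.eq_top_of_isUnit_mem _ ha hunit)
    obtain ⟨p, hp, hIp⟩ := (Ideal.subset_union_prime (R := A) (f := fun p : PrimeSpectrum A => p.asIdeal)
      (⟨I, hIprime⟩ : PrimeSpectrum A) ⟨I, hIprime⟩ (fun i _ _ _ => i.isPrime)).mp hsub
    exact ⟨⟨p, by simpa using hp⟩, hIp⟩
  choose φ hφ using key
  apply Finite.of_injective φ
  intro m₁ m₂ h12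
  have hm : ∀ m : MaximalSpectrum (Localization S),
      m.asIdeal = Ideal.map (algebraMap A (Localization S)) (φ m).1.asIdeal := by
    intro m
    haveI hprime : (Ideal.map (algebraMap A (Localization S)) (φ m).1.asIdeal).IsPrime :=
      IsLocalization.isPrime_of_isPrime_disjoint S (Localization S) _ (φ m).1.isPrime
        (hdisj _ (φ m).2)
    apply m.isMaximal.eq_of_le hprime.ne_top
    rw [← IsLocalization.map_under S (Localization S) m.asIdeal]
    exact Ideal.map_mono (hφ m)
  apply MaximalSpectrum.ext
  rw [hm m₁, hm m₂, h12]

/-- Let A be a commutative ring, M a finitely generated projective A-module whose rank at every prime is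
r, and Z a finite set of prime ideals of A. Then there is an element s of A outside every prime of Z
such that the localized module M_s has a basis of r elements over A_s. (The published statement is
for a finite locally free module of constant rank r on a scheme and a finite set of points inside an
affine open Spec A, and produces a basic open D(s) containing the points on which the module is free
of rank r; its argument begins by replacing the scheme with Spec A, and this row states that case.) -/
theorem result (A : Type u) [CommRing A]
    (M : Type u) [AddCommGroup M] [Module A M] [Module.Finite A M] [Module.Projective A M] (r : ℕ)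
    (hr : ∀ p : PrimeSpectrum A, Module.rankAtStalk M p = r)
    (Z : Set (PrimeSpectrum A)) (hZ : Z.Finite) :
    ∃ s : A, (∀ p ∈ Z, s ∉ p.asIdeal) ∧
      Nonempty (Module.Basis (Fin r) (Localization.Away s) (LocalizedModule (Submonoid.powers s) M)) := by
  classical
  set S : Submonoid A := ⨅ p ∈ Z, p.asIdeal.primeCompl with hSdef
  have hS : ∀ s : A, s ∈ S ↔ ∀ p ∈ Z, s ∉ p.asIdeal := by
    intro s
    simp only [hSdef, Submonoid.mem_iInf]
    rfl
  haveI := semilocal_aux A Z hZ S hS
  haveI : Module.FinitePresentation A M := Module.finitePresentation_of_projective A M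
  haveI : Module.Finite (Localization S) (LocalizedModule S M) :=
    Module.Finite.of_isLocalizedModule S (LocalizedModule.mkLinearMap S M)
  have rk : ∀ P : MaximalSpectrum (Localization S),
      Module.finrank (Localization S ⧸ P.1)
        (TensorProduct (Localization S) (Localization S ⧸ P.1) (LocalizedModule S M)) = r := by
    intro P
    haveI := P.isMaximal
    letI : Field (Localization S ⧸ P.1) := Ideal.Quotient.field P.1
    have h1 := Module.rankAtStalk_eq_finrank_of_free (R := Localization S ⧸ P.1)
      (M := TensorProduct (Localization S) (Localization S ⧸ P.1) (LocalizedModule S M))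
    have h2 := congrFun h1 (⊥ : PrimeSpectrum (Localization S ⧸ P.1))
    rw [Pi.natCast_def] at h2
    have h2' : Module.rankAtStalk
        (TensorProduct (Localization S) (Localization S ⧸ P.1) (LocalizedModule S M))
        (⊥ : PrimeSpectrum (Localization S ⧸ P.1)) =
        Module.finrank (Localization S ⧸ P.1)
          (TensorProduct (Localization S) (Localization S ⧸ P.1) (LocalizedModule S M)) := h2
    rw [← h2', Module.rankAtStalk_baseChange,
      Module.rankAtStalk_isBaseChange
        (IsLocalizedModule.isBaseChange S (Localization S) (LocalizedModule.mkLinearMap S M)), hr]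
  obtain ⟨b⟩ := Module.nonempty_basis_of_flat_of_finrank_eq (Localization S) (LocalizedModule S M) r rk
  obtain ⟨s, hs, b', -⟩ := Module.FinitePresentation.exists_basis_localizedModule_powers S
    (LocalizedModule.mkLinearMap S M) (Localization S) b
  exact ⟨s, (hS s).mp hs, ⟨b'⟩⟩

end Groth.Agent.S10836
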