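import Groth.Statements.S10837
import Mathlib.AlgebraicGeometry.Morphisms.UniversallyOpen
-- import your own Groth.Agent.* helpers here

set_option autoImplicit false
universe u
open CategoryTheory AlgebraicGeometry Topology
open Mor

namespace Groth.Agent.S10837

/-- an open map of prime spectra is generalizing -/
theorem generalizingMap_comap_of_isOpenMap {B A : Type*} [CommRing B] [CommRing A] (φ : B →+* A)
    (h : IsOpenMap (PrimeSpectrum.comap φ)) : GeneralizingMap (PrimeSpectrum.comap φ) := by
  intro p q' hq'
  let I : Ideal A := q'.asIdeal.map φ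
  let S : Submonoid A := p.asIdeal.primeCompl ⊔ (q'.asIdeal.primeCompl.map φ)
  have hdisj : Disjoint (I : Set A) (S : Set A) := by
    rw [Set.disjoint_left]
    intro a haI haS
    obtain ⟨t, ht, c, hc, rfl⟩ := Submonoid.mem_sup.mp haS
    obtain ⟨b, hb, rfl⟩ := hc
    have hopen : IsOpen (PrimeSpectrum.comap φ '' (PrimeSpectrum.basicOpen t : Set (PrimeSpectrum A))) :=
      h _ (PrimeSpectrum.basicOpen t).isOpen
    have hmem : PrimeSpectrum.comap φ p ∈
        PrimeSpectrum.comap φ '' (PrimeSpectrum.basicOpen t : Set (PrimeSpectrum A)) :=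
      ⟨p, ht, rfl⟩
    obtain ⟨p'', hp'', hpq⟩ := hq'.mem_open hopen hmem
    have hI : I ≤ p''.asIdeal := by
      rw [Ideal.map_le_iff_le_comap, ← hpq]
      exact le_rfl
    rcases p''.isPrime.mem_or_mem (hI haI) with h1 | h1
    · exact hp'' h1
    · apply hb
      rw [← hpq]
      exact h1
  obtain ⟨p', hp', hIp', hdisj'⟩ := Ideal.exists_le_prime_disjoint I S hdisj
  refine ⟨⟨p', hp'⟩, ?_, ?_⟩
  · change (⟨p', hp'⟩ : PrimeSpectrum A) ⤳ p
    rw [← PrimeSpectrum.le_iff_specializes]
    intro a ha
    by_contra hna
    exact Set.disjoint_left.mp hdisj' ha (Submonoid.mem_sup_left hna)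
  · ext b
    constructor
    · intro hb
      by_contra hnb
      exact Set.disjoint_left.mp hdisj' hb (Submonoid.mem_sup_right ⟨b, hnb, rfl⟩)
    · intro hb
      exact hIp' (Ideal.mem_map_of_mem φ hb)

/-- For a morphism of schemes f : X → Y which is open as a map of topological spaces, generalizations
lift along f: every generalization of f(x) is the image of a generalization of x. -/
theorem result {X Y : Scheme.{u}} (f : X ⟶ Y) (hf : IsOpenMap f.base) :
    GeneralizingMap f.base := by
  change topologically GeneralizingMap f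
  replace hf : topologically IsOpenMap f := hf
  wlog hY : ∃ R, Y = Spec R
  · rw [IsZariskiLocalAtTarget.iff_of_openCover (P := topologically GeneralizingMap) Y.affineCover]
    intro i
    dsimp only [Scheme.Cover.pullbackHom]
    refine this _ ?_ ⟨_, rfl⟩
    exact IsZariskiLocalAtTarget.of_isPullback (P := topologically IsOpenMap)
      (iY := Y.affineCover.f i) (IsPullback.of_hasPullback ..) hf
  obtain ⟨R, rfl⟩ := hY
  wlog hX : ∃ S, X = Spec S
  · rw [IsZariskiLocalAtSource.iff_of_openCover (P := topologically GeneralizingMap) X.affineCover]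
    intro i
    refine this _ _ ?_ ⟨_, rfl⟩
    exact IsZariskiLocalAtSource.comp (P := topologically IsOpenMap) hf _
  obtain ⟨S, rfl⟩ := hX
  obtain ⟨φ, rfl⟩ := Spec.map_surjective f
  exact generalizingMap_comap_of_isOpenMap φ.hom hf

end Groth.Agent.S10837
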