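import Groth.Statements.S10838
import Groth.Agent.S10837
import Groth.Agent.Lib.Helper7Dim
-- import your own Groth.Agent.* helpers here

set_option autoImplicit false
universe u
open CategoryTheory AlgebraicGeometry Topology
open Mor

namespace Groth.Agent.S10838

/-- For a morphism of schemes f : X → Y which is open as a map of topological spaces, the Krull
dimension of the image f(X) (with the subspace topology from Y) is at most the Krull dimension of X. -/
theorem result {X Y : Scheme.{u}} (f : X ⟶ Y) (hf : IsOpenMap f.base) :
    topologicalKrullDim ↥(Set.range f.base) ≤ topologicalKrullDim ↥X := by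
  have hgen : GeneralizingMap f.base := Groth.Agent.S10837.result f hf
  have hopen : IsOpen (Set.range f.base) := hf.isOpen_range
  haveI : QuasiSober ↥(Set.range f.base) :=
    hopen.isOpenEmbedding_subtypeVal.quasiSober
  apply Groth.Agent.Lib.Helper7.topologicalKrullDim_le_of_generalizingMap
    (Set.rangeFactorization f.base) Set.rangeFactorization_surjective
  intro x y' hy'
  rw [subtype_specializes_iff] at hy'
  obtain ⟨a, ha, hfa⟩ := hgen hy'
  exact ⟨a, ha, Subtype.ext hfa⟩

end Groth.Agent.S10838
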