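import Groth.Statements.S10840
import Groth.Agent.Lib.Helper4ProjCone6

set_option autoImplicit false
universe u
open AlgebraicGeometry Topology
open Variety

namespace Groth.Agent.S10840

/-- For a field k and nonzero homogeneous polynomials f, g of positive degrees in three variables, the
common zero set V_+(f, g) in the projective plane over k is zero-dimensional as a topological
subspace exactly when f and g are coprime, i.e. their only common divisors are the non-zero
constants. -/
theorem result (k : Type u) [Field k] (n m : ℕ)
    (f g : MvPolynomial (Fin 3) k) (hf : f.IsHomogeneous n) (hg : g.IsHomogeneous m)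
    (hn : 0 < n) (hm : 0 < m) (hf0 : f ≠ 0) (hg0 : g ≠ 0) :
    topologicalKrullDim ↥(ProjectiveSpectrum.zeroLocus (CohB1.polyGrading 2 k)
        ({f, g} : Set (MvPolynomial (Fin 3) k))) = 0 ↔ IsRelPrime f g := by
  have hcl : IsClosed (ProjectiveSpectrum.zeroLocus (CohB1.polyGrading 2 k)
      ({f, g} : Set (MvPolynomial (Fin 3) k))) := ProjectiveSpectrum.isClosed_zeroLocus _ _
  constructor
  · intro hdim d hdf hdg
    by_contra hdu
    obtain ⟨y, hyZ, hy⟩ :=
      Groth.Agent.Lib.Helper4.ProjCone.exists_mem_zeroLocus_pair_of_common_divisor k 2 n f g hf hf0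
        d hdf hdg hdu (by norm_num)
    have h2 := Groth.Agent.Lib.Helper4.ProjCone.coheight_le_topologicalKrullDim
      (CohB1.polyGrading 2 k) _ hcl y hyZ
    rw [hdim] at h2
    have h3 : Order.coheight y ≤ 0 := by exact_mod_cast h2
    have h4 : Order.coheight y = 0 := le_antisymm h3 bot_le
    rw [h4] at hy
    norm_num at hy
  · intro hrp
    have hco : ∀ z ∈ ProjectiveSpectrum.zeroLocus (CohB1.polyGrading 2 k)
        ({f, g} : Set (MvPolynomial (Fin 3) k)), Order.coheight z = 0 := by
      intro z hz
      have h1 := Groth.Agent.Lib.Helper4.ProjCone.coheight_add_two_le_of_isRelPrime k 2 f g hf0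
        hrp z hz
      obtain ⟨c, hc⟩ := ENat.ne_top_iff_exists.mp
        (Groth.Agent.Lib.Helper4.ProjCone.coheight_ne_top k 2 z)
      rw [← hc] at h1 ⊢
      have h2 : c + 2 ≤ 2 := by exact_mod_cast h1
      have h3 : c = 0 := by omega
      rw [h3]
      rfl
    have hne := Groth.Agent.Lib.Helper4.ProjCone.zeroLocus_pair_nonempty k 2 n m hn hm f g hf hg
      le_rfl
    apply le_antisymm
    · have := Groth.Agent.Lib.Helper4.ProjCone.topologicalKrullDim_le_of_forall_coheight_le
        (CohB1.polyGrading 2 k) _ hcl 0 (fun z hz => (hco z hz).le)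
      exact this
    · obtain ⟨z, hz⟩ := hne
      have := Groth.Agent.Lib.Helper4.ProjCone.coheight_le_topologicalKrullDim
        (CohB1.polyGrading 2 k) _ hcl z hz
      rw [hco z hz] at this
      exact this

end Groth.Agent.S10840
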