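import Groth.Statements.S10841
import Groth.Agent.Lib.Helper4VarDim7

set_option autoImplicit false
set_option linter.style.haveILetI false
universe u
open CategoryTheory AlgebraicGeometry Topology
open Variety

namespace Groth.Agent.S10841

/-- Let k be a field, X an irreducible scheme of finite type over k, and f : Y → X a morphism over k
from a scheme Y of finite type over k whose image contains the generic point of X. Then dim Y ≥ dim
X. -/
theorem result (k : Type u) [Field k] {X Y : Scheme.{u}}
    (p : X ⟶ Spec (CommRingCat.of k)) (q : Y ⟶ Spec (CommRingCat.of k))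
    [LocallyOfFiniteType p] [QuasiCompact p] [LocallyOfFiniteType q] [QuasiCompact q]
    [IrreducibleSpace ↥X] (f : Y ⟶ X) (hf : f ≫ p = q)
    (hη : genericPoint ↥X ∈ Set.range f.base) :
    topologicalKrullDim ↥X ≤ topologicalKrullDim ↥Y := by
  letI : X.Over (Spec (CommRingCat.of k)) := ⟨p⟩
  letI : Y.Over (Spec (CommRingCat.of k)) := ⟨q⟩
  haveI : LocallyOfFiniteType (X ↘ Spec (CommRingCat.of k)) := ‹LocallyOfFiniteType p›
  haveI : LocallyOfFiniteType (Y ↘ Spec (CommRingCat.of k)) := ‹LocallyOfFiniteType q›
  obtain ⟨y, hy⟩ := hη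
  have h1 : topologicalKrullDim X =
      ((Groth.Agent.Lib.Helper4.VarDim.trdegNat k X (genericPoint X) : ℕ) : WithBot ℕ∞) :=
    Groth.Agent.Lib.Helper4.VarDim.topologicalKrullDim_eq_of_irreducible k X _
      (Groth.Agent.Lib.Helper4.VarDim.trdeg_eq_trdegNat k X _)
  have h2 := Groth.Agent.Lib.Helper4.VarDim.trdegNat_le_of_hom k f hf y
  have h3 := Groth.Agent.Lib.Helper4.VarDim.trdegNat_le_topologicalKrullDim k Y y
  rw [h1]
  refine le_trans ?_ h3
  have hy' : f y = genericPoint X := hy
  rw [hy'] at h2
  exact_mod_cast h2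

end Groth.Agent.S10841
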