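import Groth.Statements.S10842
import Mathlib.AlgebraicGeometry.AffineScheme
import Mathlib.RingTheory.Localization.LocalizationLocalization
import Mathlib.RingTheory.IntegralClosure.IntegrallyClosed
-- import your own Groth.Agent.* helpers here

set_option autoImplicit false
set_option linter.style.haveILetI false
universe u
open CategoryTheory AlgebraicGeometry
open Variety

namespace Groth.Agent.S10842

/-- localizing an integrally closed local domain `A_m` further at `p ≤ m` -/
theorem domain_and_closed_of_le {A : Type*} [CommRing A] (p m : Ideal A) [p.IsPrime] [m.IsPrime]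
    (hpm : p ≤ m) (Sm Sp : Type*) [CommRing Sm] [CommRing Sp] [Algebra A Sm] [Algebra A Sp]
    [IsLocalization.AtPrime Sm m] [IsLocalization.AtPrime Sp p]
    [IsDomain Sm] [IsIntegrallyClosed Sm] : IsDomain Sp ∧ IsIntegrallyClosed Sp := by
  have hle : m.primeCompl ≤ p.primeCompl := fun a ha hap => ha (hpm hap)
  letI : Algebra Sm Sp := IsLocalization.localizationAlgebraOfSubmonoidLe Sm Sp _ _ hle
  haveI : IsScalarTower A Sm Sp :=
    IsLocalization.localization_isScalarTower_of_submonoid_le Sm Sp _ _ hle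
  haveI : IsLocalization (p.primeCompl.map (algebraMap A Sm)) Sp :=
    IsLocalization.isLocalization_of_submonoid_le Sm Sp _ _ hle
  have hN : p.primeCompl.map (algebraMap A Sm) ≤ nonZeroDivisors Sm := by
    rintro _ ⟨a, ha, rfl⟩
    rw [mem_nonZeroDivisors_iff_ne_zero]
    intro h0
    obtain ⟨⟨s, hs⟩, hsa⟩ := (IsLocalization.map_eq_zero_iff m.primeCompl Sm a).mp h0
    have : s * a ∈ p := by rw [hsa]; exact p.zero_mem
    rcases (inferInstance : p.IsPrime).mem_or_mem this with h1 | h1
    · exact hs (hpm h1)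
    · exact ha h1
  exact ⟨IsLocalization.isDomain_of_le_nonZeroDivisors Sp hN,
    isIntegrallyClosed_of_isLocalization Sp _ hN⟩

/-- A quasi-compact scheme whose local rings at all closed points are integrally closed domains is
normal, i.e. all of its local rings are integrally closed domains. -/
theorem result (X : Scheme.{u}) [CompactSpace ↥X]
    (h : ∀ x : X, IsClosed ({x} : Set X) →
      IsDomain (X.presheaf.stalk x) ∧ IsIntegrallyClosed (X.presheaf.stalk x)) :
    Pi1.IsNormalScheme X := by
  intro x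
  obtain ⟨z, hzx, hz⟩ := IsClosed.exists_closed_singleton (isClosed_closure (s := ({x} : Set X)))
    ⟨x, subset_closure rfl⟩
  have hspec : x ⤳ z := specializes_iff_mem_closure.mpr hzx
  obtain ⟨hzD, hzC⟩ := h z hz
  obtain ⟨_, ⟨U, hU : IsAffineOpen U, rfl⟩, hzU, -⟩ :=
    X.isBasis_affineOpens.exists_subset_of_mem_open (Set.mem_univ z) isOpen_univ
  have hxU : x ∈ U := hspec.mem_open U.isOpen hzU
  letI := X.presheaf.algebra_section_stalk ⟨z, hzU⟩
  letI := X.presheaf.algebra_section_stalk ⟨x, hxU⟩
  haveI := hU.isLocalization_stalk ⟨z, hzU⟩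
  haveI := hU.isLocalization_stalk ⟨x, hxU⟩
  have hle : (hU.primeIdealOf ⟨x, hxU⟩).asIdeal ≤ (hU.primeIdealOf ⟨z, hzU⟩).asIdeal := by
    have h1 : (⟨x, hxU⟩ : U) ⤳ ⟨z, hzU⟩ := (subtype_specializes_iff _ _).mpr hspec
    have h2 : hU.primeIdealOf ⟨x, hxU⟩ ⤳ hU.primeIdealOf ⟨z, hzU⟩ :=
      h1.map hU.isoSpec.hom.continuous
    exact (PrimeSpectrum.le_iff_specializes _ _).mpr h2
  exact domain_and_closed_of_le _ _ hle (X.presheaf.stalk z) (X.presheaf.stalk x)

end Groth.Agent.S10842
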