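import Groth.Statements.S10843
import Groth.Agent.Lib.Helper5IntDim
-- import your own Groth.Agent.* helpers here

set_option autoImplicit false
universe u
open CAlg

namespace Groth.Agent.S10843

theorem dim_eq_of_finite_injective (k A : Type u) [Field k] [CommRing A] [Algebra k A] (s : ℕ)
    (φ : MvPolynomial (Fin s) k →ₐ[k] A) (hfin : φ.toRingHom.Finite) (hinj : Function.Injective φ) :
    ringKrullDim A = (s : WithBot ℕ∞) := by
  algebraize [φ.toRingHom]
  haveI : Algebra.IsIntegral (MvPolynomial (Fin s) k) A := Algebra.IsIntegral.of_finite _ _
  rw [Groth.Agent.Lib.Helper5.ringKrullDim_eq_of_isIntegral_of_injective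
    (MvPolynomial (Fin s) k) A hinj, MvPolynomial.ringKrullDim_of_isNoetherianRing,
    ringKrullDim_eq_zero_of_field]
  simp

/-- For a field k, a nonzero finitely generated k-algebra A and a natural number d, the algebra A has
Krull dimension d exactly when some injective k-algebra map from the polynomial ring in d variables
over k to A makes A a finite module over that polynomial ring. -/
theorem result (k A : Type u) [Field k]
    [CommRing A] [Nontrivial A] [Algebra k A] [Algebra.FiniteType k A] (d : ℕ) :
    ringKrullDim A = (d : WithBot ℕ∞) ↔
      ∃ φ : MvPolynomial (Fin d) k →ₐ[k] A, φ.toRingHom.Finite ∧ Function.Injective φ := by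
  constructor
  · intro h
    obtain ⟨s, g, hinj, hfin⟩ := exists_finite_inj_algHom_of_fg k A
    have h2 := dim_eq_of_finite_injective k A s g hfin hinj
    rw [h] at h2
    have hsd : d = s := by exact_mod_cast h2
    subst hsd
    exact ⟨g, hfin, hinj⟩
  · rintro ⟨φ, hfin, hinj⟩
    exact dim_eq_of_finite_injective k A d φ hfin hinj

end Groth.Agent.S10843
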