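import Groth.Statements.S10849
import Mathlib
-- import your own Groth.Agent.* helpers here

set_option autoImplicit false
set_option linter.style.haveILetI false
set_option linter.unusedSectionVars false
universe u
open VbP1

namespace Groth.Agent.S10849
open Polynomial LaurentPolynomial

section Reduce
variable {k : Type u} [Field k] {ι : Type} [Fintype ι] [DecidableEq ι]

/-- row degree. -/
noncomputable def rowdeg (B : Matrix ι ι k[X]) (i : ι) : ℕ :=
  Finset.univ.sup (fun j => (B i j).natDegree)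

lemma natDegree_le_rowdeg (B : Matrix ι ι k[X]) (i j : ι) : (B i j).natDegree ≤ rowdeg B i :=
  Finset.le_sup (f := fun j => (B i j).natDegree) (Finset.mem_univ j)

/-- leading coefficient matrix. -/
noncomputable def lead (B : Matrix ι ι k[X]) : Matrix ι ι k :=
  fun i j => (B i j).coeff (rowdeg B i)

lemma det_updateRow_one (i₀ : ι) (v : ι → k[X]) :
    ((1 : Matrix ι ι k[X]).updateRow i₀ v).det = v i₀ := by
  have h := Matrix.det_updateRow_sum (1 : Matrix ι ι k[X]) i₀ v
  have hv : (∑ l, v l • (1 : Matrix ι ι k[X]) l) = v := by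
    ext j
    simp [Finset.sum_apply, Matrix.one_apply]
  rw [hv] at h
  rw [h]; simp

lemma natDegree_lt_of_coeff_eq_zero {f : k[X]} {n : ℕ} (hn : 0 < n) (h1 : f.natDegree ≤ n)
    (h2 : f.coeff n = 0) : f.natDegree < n := by
  rcases lt_or_eq_of_le h1 with h | h
  · exact h
  · exfalso
    rw [← h] at h2
    have : f = 0 := leadingCoeff_eq_zero.1 h2
    rw [this, natDegree_zero] at h
    omega

open Classical in
lemma exists_smaller (B : Matrix ι ι k[X]) (hB : B.det ≠ 0) (hL : (lead B).det = 0) :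
    ∃ P : Matrix ι ι k[X], IsUnit P ∧ ∑ i, rowdeg (P * B) i < ∑ i, rowdeg B i := by
  obtain ⟨c, hc0, hc⟩ := Matrix.exists_vecMul_eq_zero_iff.2 hL
  have hsupp : (Finset.univ.filter (fun i => c i ≠ 0)).Nonempty := by
    by_contra h
    rw [Finset.not_nonempty_iff_eq_empty] at h
    apply hc0
    ext i
    by_contra hi
    have : i ∈ Finset.univ.filter (fun i => c i ≠ 0) := by simp; exact hi
    rw [h] at this
    simp at this
  obtain ⟨i₀, hi₀mem, hi₀max⟩ := Finset.exists_max_image _ (fun i => rowdeg B i) hsupp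
  have hci₀ : c i₀ ≠ 0 := (Finset.mem_filter.1 hi₀mem).2
  have hmax : ∀ i, c i ≠ 0 → rowdeg B i ≤ rowdeg B i₀ := fun i hi => hi₀max i (by simp [hi])
  let v : ι → k[X] := fun i => monomial (rowdeg B i₀ - rowdeg B i) (c i)
  let P : Matrix ι ι k[X] := (1 : Matrix ι ι k[X]).updateRow i₀ v
  have hdetP : P.det = Polynomial.C (c i₀) := by
    rw [det_updateRow_one]
    simp [v]
  have hPunit : IsUnit P :=
    (Matrix.isUnit_iff_isUnit_det _).2 (by rw [hdetP]; exact isUnit_C.2 (IsUnit.mk0 _ hci₀))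
  have hrow_ne : ∀ i, i ≠ i₀ → ∀ j, (P * B) i j = B i j := by
    intro i hi j
    simp [P, Matrix.mul_apply, Matrix.updateRow_ne hi, Matrix.one_apply]
  have hrow₀ : ∀ j, (P * B) i₀ j = ∑ i, v i * B i j := by
    intro j
    simp [P, Matrix.mul_apply, Matrix.updateRow_self]
  have hdeg₀ : ∀ j, ((P * B) i₀ j).natDegree ≤ rowdeg B i₀ := by
    intro j
    rw [hrow₀]
    apply natDegree_sum_le_of_forall_le
    intro i _
    by_cases hci : c i = 0
    · simp [v, hci]
    · refine le_trans natDegree_mul_le ?_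
      have h1 : (v i).natDegree ≤ rowdeg B i₀ - rowdeg B i := natDegree_monomial_le _
      have h2 := natDegree_le_rowdeg B i j
      have h3 := hmax i hci
      omega
  have hcoeff₀ : ∀ j, ((P * B) i₀ j).coeff (rowdeg B i₀) = 0 := by
    intro j
    rw [hrow₀, finsetSum_coeff]
    have : ∀ i, (v i * B i j).coeff (rowdeg B i₀) = c i * lead B i j := by
      intro i
      by_cases hci : c i = 0
      · simp [v, hci]
      · have h3 := hmax i hci
        obtain ⟨a, ha⟩ : ∃ a, rowdeg B i₀ = rowdeg B i + a :=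
          ⟨rowdeg B i₀ - rowdeg B i, by omega⟩
        have hv : v i = monomial a (c i) := by
          have e : rowdeg B i₀ - rowdeg B i = a := by omega
          simp only [v, e]
        rw [hv, ha, coeff_monomial_mul]
        rfl
    simp_rw [this]
    have := congrFun hc j
    simpa [Matrix.vecMul, dotProduct] using this
  have hPB : (P * B).det ≠ 0 := by
    rw [Matrix.det_mul]
    exact mul_ne_zero ((Matrix.isUnit_iff_isUnit_det _).1 hPunit).ne_zero hB
  refine ⟨P, hPunit, ?_⟩
  have hpos : 0 < rowdeg B i₀ := by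
    by_contra h0
    have h0' : rowdeg B i₀ = 0 := by omega
    apply hPB
    apply Matrix.det_eq_zero_of_row_eq_zero i₀
    intro j
    have h1 := hdeg₀ j
    have h2 := hcoeff₀ j
    rw [h0'] at h1 h2
    rw [eq_C_of_natDegree_le_zero h1, h2, map_zero]
  apply Finset.sum_lt_sum
  · intro i _
    by_cases hi : i = i₀
    · rw [hi]
      exact Finset.sup_le (fun j _ => hdeg₀ j)
    · apply le_of_eq
      unfold rowdeg
      simp_rw [hrow_ne i hi]
  · refine ⟨i₀, Finset.mem_univ _, ?_⟩
    unfold rowdeg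
    rw [Finset.sup_lt_iff (by exact hpos)]
    intro j _
    exact natDegree_lt_of_coeff_eq_zero hpos (hdeg₀ j) (hcoeff₀ j)

lemma reduce : ∀ (s : ℕ) (B : Matrix ι ι k[X]), B.det ≠ 0 → ∑ i, rowdeg B i = s →
    ∃ P : Matrix ι ι k[X], IsUnit P ∧ (lead (P * B)).det ≠ 0 := by
  intro s
  induction s using Nat.strong_induction_on with
  | _ s ih =>
    intro B hB hs
    by_cases hL : (lead B).det = 0
    · obtain ⟨P, hP, hlt⟩ := exists_smaller B hB hL
      have hPB : (P * B).det ≠ 0 := by
        rw [Matrix.det_mul]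
        exact mul_ne_zero ((Matrix.isUnit_iff_isUnit_det _).1 hP).ne_zero hB
      obtain ⟨P', hP', hL'⟩ := ih _ (hs ▸ hlt) (P * B) hPB rfl
      exact ⟨P' * P, hP'.mul hP, by rwa [Matrix.mul_assoc]⟩
    · exact ⟨1, isUnit_one, by rwa [one_mul]⟩

end Reduce


section Factor
variable {k : Type u} [Field k] {ι : Type} [Fintype ι] [DecidableEq ι]

/-- the reflected matrix. -/
noncomputable def Qmat (B : Matrix ι ι k[X]) : Matrix ι ι k[X] :=
  fun i j => ∑ m ∈ Finset.range (rowdeg B i + 1), monomial (rowdeg B i - m) ((B i j).coeff m)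

lemma Qmat_coeff_zero (B : Matrix ι ι k[X]) (i j : ι) : (Qmat B i j).coeff 0 = lead B i j := by
  unfold Qmat lead
  rw [finsetSum_coeff]
  simp only [coeff_monomial]
  rw [Finset.sum_eq_single (rowdeg B i)]
  · simp
  · intro m hm hne
    have : m < rowdeg B i + 1 := Finset.mem_range.1 hm
    rw [if_neg (by omega)]
  · intro h
    exact absurd (Finset.mem_range.2 (Nat.lt_succ_self _)) h

lemma toLaurent_eq (B : Matrix ι ι k[X]) (i j : ι) :
    toLaurent (B i j) = T (rowdeg B i) * invert (toLaurent (Qmat B i j)) := by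
  unfold Qmat
  rw [map_sum, map_sum, Finset.mul_sum]
  conv_lhs =>
    rw [as_sum_range' (B i j) (rowdeg B i + 1)
      (Nat.lt_succ_of_le (natDegree_le_rowdeg B i j)), map_sum]
  apply Finset.sum_congr rfl
  intro m hm
  have hm' : m ≤ rowdeg B i := Nat.lt_succ_iff.1 (Finset.mem_range.1 hm)
  rw [toLaurent_C_mul_T, toLaurent_C_mul_T, map_mul, invert_C, invert_T, mul_left_comm, ← T_add]
  congr 2
  push_cast [hm']
  ring

lemma isUnit_of_toLaurent (q : k[X]) (hq : IsUnit (toLaurent q)) (h0 : q.coeff 0 ≠ 0) :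
    IsUnit q := by
  obtain ⟨r, hr⟩ := hq.exists_right_inv
  obtain ⟨N, r₀, hr₀⟩ := exists_T_pow r
  have h1 : q * r₀ = X ^ N := by
    apply toLaurent_injective
    rw [map_mul, hr₀, ← mul_assoc, hr, one_mul, toLaurent_X_pow]
  have hdvd : q ∣ X ^ N := ⟨r₀, h1.symm⟩
  obtain ⟨i, _, hi⟩ := (dvd_prime_pow prime_X N).1 hdvd
  rcases Nat.eq_zero_or_pos i with h | h
  · rw [h, pow_zero] at hi
    exact associated_one_iff_isUnit.1 hi
  · exfalso
    apply h0
    have : X ∣ q := (dvd_pow_self X h.ne').trans hi.symm.dvd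
    exact X_dvd_iff.1 this

lemma factor (B : Matrix ι ι k[X]) (hBu : IsUnit (B.map toLaurent).det) (hL : (lead B).det ≠ 0) :
    IsUnit (Qmat B) ∧ B.map toLaurent = Matrix.diagonal (fun i => (T (rowdeg B i) : k[T;T⁻¹])) *
      ((Qmat B).map toLaurent).map invert := by
  have heq : B.map toLaurent = Matrix.diagonal (fun i => (T (rowdeg B i) : k[T;T⁻¹])) *
      ((Qmat B).map toLaurent).map invert := by
    apply Matrix.ext
    intro i j
    rw [Matrix.diagonal_mul, Matrix.map_apply, Matrix.map_apply, Matrix.map_apply]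
    exact toLaurent_eq B i j
  refine ⟨?_, heq⟩
  rw [Matrix.isUnit_iff_isUnit_det]
  apply isUnit_of_toLaurent
  · have h1 : (((Qmat B).map toLaurent).map invert).det = invert (toLaurent (Qmat B).det) := by
      rw [RingHom.map_det, AlgEquiv.map_det]
      rfl
    rw [heq, Matrix.det_mul, h1] at hBu
    have h2 := isUnit_of_mul_isUnit_right hBu
    exact (MulEquiv.isUnit_map (invert (R := k))).1 h2
  · have : (Qmat B).det.coeff 0 = (lead B).det := by
      rw [coeff_zero_eq_eval_zero, ← coe_evalRingHom, RingHom.map_det]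
      congr 1
      ext i j
      simp [← coeff_zero_eq_eval_zero, Qmat_coeff_zero]
    rw [this]
    exact hL

end Factor


section Main
variable {k : Type u} [Field k] {ι : Type} [Fintype ι] [DecidableEq ι]

lemma exists_clear (A : Matrix ι ι k[T;T⁻¹]) :
    ∃ (N : ℕ) (A₀ : Matrix ι ι k[X]), A₀.map toLaurent = (T N : k[T;T⁻¹]) • A := by
  choose nn f' hf' using fun (p : ι × ι) => exists_T_pow (A p.1 p.2)
  refine ⟨Finset.univ.sup nn,
    Matrix.of (fun i j => f' (i, j) * X ^ (Finset.univ.sup nn - nn (i, j))), ?_⟩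
  apply Matrix.ext
  intro i j
  have hle : nn (i, j) ≤ Finset.univ.sup nn := Finset.le_sup (Finset.mem_univ _)
  rw [Matrix.map_apply, Matrix.of_apply, Matrix.smul_apply, map_mul, hf' (i, j), toLaurent_X_pow,
    smul_eq_mul,
    mul_assoc, ← T_add, mul_comm]
  congr 2
  push_cast [hle]
  ring

lemma birkhoff (A : Matrix ι ι k[T;T⁻¹]) (hA : IsUnit A) :
    ∃ (P Q : Matrix ι ι k[X]) (d : ι → ℤ), IsUnit P ∧ IsUnit Q ∧
      A = P.map toLaurent * Matrix.diagonal (fun i => (T (d i) : k[T;T⁻¹])) *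
        (Q.map toLaurent).map invert := by
  obtain ⟨N, A₀, hA₀⟩ := exists_clear A
  have hA₀u : IsUnit (A₀.map toLaurent).det := by
    rw [hA₀, Matrix.det_smul]
    exact ((isUnit_T (N : ℤ)).pow _).mul ((Matrix.isUnit_iff_isUnit_det _).1 hA)
  have hA₀det : A₀.det ≠ 0 := by
    intro h
    have : (A₀.map toLaurent).det = toLaurent A₀.det := by
      rw [RingHom.map_det]; rfl
    rw [this, h, map_zero] at hA₀u
    exact not_isUnit_zero hA₀u
  obtain ⟨P, hP, hL⟩ := reduce _ A₀ hA₀det rfl
  have hP' : (↑(hP.unit⁻¹) : Matrix ι ι k[X]) * P = 1 := hP.val_inv_mul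
  have hBu : IsUnit ((P * A₀).map toLaurent).det := by
    rw [Matrix.map_mul, Matrix.det_mul]
    refine IsUnit.mul ?_ hA₀u
    have : (P.map toLaurent).det = toLaurent P.det := by rw [RingHom.map_det]; rfl
    rw [this]
    exact ((Matrix.isUnit_iff_isUnit_det _).1 hP).map toLaurent
  obtain ⟨hQ, heq⟩ := factor (P * A₀) hBu hL
  refine ⟨(↑(hP.unit⁻¹) : Matrix ι ι k[X]), Qmat (P * A₀),
    fun i => (rowdeg (P * A₀) i : ℤ) - N, Units.isUnit _, hQ, ?_⟩
  have hD : Matrix.diagonal (fun i => (T ((rowdeg (P * A₀) i : ℤ) - N) : k[T;T⁻¹])) =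
      (T (-(N:ℤ)) : k[T;T⁻¹]) •
        Matrix.diagonal (fun i => (T (rowdeg (P * A₀) i) : k[T;T⁻¹])) := by
    rw [← Matrix.diagonal_smul]
    congr 1
    funext i
    rw [Pi.smul_apply, smul_eq_mul, ← T_add]
    congr 1
    ring
  rw [hD, Matrix.mul_smul, Matrix.smul_mul, Matrix.mul_assoc, ← heq, Matrix.map_mul,
    ← Matrix.mul_assoc, ← Matrix.map_mul, hP', Matrix.map_one _ (map_zero _) (map_one _), one_mul,
    hA₀, smul_smul, ← T_add]
  simp

end Main



/-- Let k be a field and n a natural number. For every invertible n × n matrix A with entries in the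
Laurent polynomial ring k[T, T⁻¹] there are matrices P and Q over k[T], invertible over k[T], and
integers d_1 ≥ d_2 ≥ … ≥ d_n (indexed by Fin n, antitone) such that A = P · diag(T^{d_i}) · Q⁻,
where Q⁻ is obtained from Q by the substitution T ↦ T⁻¹ (so Q⁻ is invertible over k[T⁻¹]). -/
theorem result (k : Type u) [Field k] (n : ℕ)
    (A : Matrix (Fin n) (Fin n) (LaurentPolynomial k)) (hA : IsUnit A) :
    ∃ (P Q : Matrix (Fin n) (Fin n) (Polynomial k)) (d : Fin n → ℤ),
      IsUnit P ∧ IsUnit Q ∧ Antitone d ∧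
        A = P.map Polynomial.toLaurent * Matrix.diagonal (fun i => LaurentPolynomial.T (d i)) *
          (Q.map Polynomial.toLaurent).map LaurentPolynomial.invert := by
  obtain ⟨P, Q, d, hP, hQ, hA'⟩ := birkhoff A hA
  let σ : Equiv.Perm (Fin n) := Tuple.sort (fun i => - d i)
  have hmono : Monotone ((fun i => - d i) ∘ σ) := Tuple.monotone_sort _
  refine ⟨P.submatrix (Equiv.refl _) σ, Q.submatrix σ (Equiv.refl _), d ∘ σ, ?_, ?_, ?_, ?_⟩
  · exact (Matrix.isUnit_submatrix_equiv (Equiv.refl _) σ).2 hP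
  · exact (Matrix.isUnit_submatrix_equiv σ (Equiv.refl _)).2 hQ
  · intro i j hij
    have := hmono hij
    simp only [Function.comp] at this ⊢
    linarith
  · rw [hA']
    have h1 : (P.submatrix (Equiv.refl _) σ).map toLaurent =
        (P.map toLaurent).submatrix (Equiv.refl _) σ := rfl
    have h2 : ((Q.submatrix σ (Equiv.refl _)).map toLaurent).map invert =
        ((Q.map toLaurent).map invert).submatrix σ (Equiv.refl _) := rfl
    have h3 : Matrix.diagonal (fun i => (T ((d ∘ σ) i) : k[T;T⁻¹])) =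
        (Matrix.diagonal (fun i => (T (d i) : k[T;T⁻¹]))).submatrix σ σ := by
      rw [Matrix.submatrix_diagonal_equiv]
      rfl
    rw [h1, h2, h3, Matrix.submatrix_mul_equiv, Matrix.submatrix_mul_equiv]
    rfl

end Groth.Agent.S10849
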