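import Groth.Statements.S10853
import Mathlib

set_option autoImplicit false
universe u
open FinCond

namespace Groth.Agent.S10853

open AlgebraicGeometry CategoryTheory TopologicalSpace Opposite

/-- Lift of a ring map from a finitely presented algebra into a stalk to a ring map into the sections over an affine open neighbourhood. -/
lemma exists_lift_of_finitePresentation {X : Scheme.{u}} {R A : CommRingCat.{u}}
    {x : X} {U : X.Opens} (hxU : x ∈ U)
    (φ : A ⟶ X.presheaf.stalk x) (φRA : R ⟶ A) (φRX : R ⟶ Γ(X, U))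
    (hφRA : RingHom.FinitePresentation φRA.hom)
    (e : φRA ≫ φ = φRX ≫ X.presheaf.germ U x hxU) :
    ∃ (V : X.Opens) (hxV : x ∈ V) (φ' : A ⟶ Γ(X, V)) (i : V ≤ U), IsAffineOpen V ∧
      φ = φ' ≫ X.presheaf.germ V x hxV ∧ φRX ≫ X.presheaf.map i.hom.op = φRA ≫ φ' := by
  classical
  letI := φRA.hom.toAlgebra
  obtain ⟨n, π, hπ, s, hs⟩ := hφRA
  -- choose sections representing the images of the variables
  choose W hxW g hg using fun i : Fin n ↦ X.presheaf.exists_germ_eq (φ (π (MvPolynomial.X i)))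
  let W₀ : X.Opens := (Finset.univ.inf W) ⊓ U
  have hxW₀ : x ∈ W₀ := by
    rw [← SetLike.mem_coe, TopologicalSpace.Opens.coe_inf, TopologicalSpace.Opens.coe_finset_inf]
    exact ⟨by simpa using fun i ↦ hxW i, hxU⟩
  have hW₀i : ∀ i, W₀ ≤ W i := fun i ↦ inf_le_left.trans (Finset.inf_le (Finset.mem_univ i))
  have hW₀U : W₀ ≤ U := inf_le_right
  let ψ₀ : MvPolynomial (Fin n) R →+* Γ(X, W₀) :=
    MvPolynomial.eval₂Hom (φRX ≫ X.presheaf.map (homOfLE hW₀U).op).hom
      (fun i ↦ X.presheaf.map (homOfLE (hW₀i i)).op (g i))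
  have hψ₀ : (X.presheaf.germ W₀ x hxW₀).hom.comp ψ₀ = φ.hom.comp π.toRingHom := by
    apply MvPolynomial.ringHom_ext
    · intro r
      have h1 : φ (π (MvPolynomial.C r)) = (φRA ≫ φ) r := by
        have : π (MvPolynomial.C r) = φRA r := π.commutes r
        rw [this]; rfl
      simp only [RingHom.coe_comp, Function.comp_apply, ψ₀, MvPolynomial.coe_eval₂Hom,
        MvPolynomial.eval₂_C, AlgHom.toRingHom_eq_coe, RingHom.coe_coe]
      rw [h1, e]
      simp only [CommRingCat.hom_comp, RingHom.coe_comp, Function.comp_apply]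
      exact X.presheaf.germ_res_apply (homOfLE hW₀U) x hxW₀ _
    · intro i
      simp only [RingHom.coe_comp, Function.comp_apply, ψ₀, MvPolynomial.coe_eval₂Hom,
        MvPolynomial.eval₂_X, AlgHom.toRingHom_eq_coe, RingHom.coe_coe]
      rw [← hg i]
      exact X.presheaf.germ_res_apply (homOfLE (hW₀i i)) x hxW₀ _
  -- kill the relations
  have hzero : ∀ r : s, ∃ (W' : X.Opens) (_ : x ∈ W') (i : W' ≤ W₀),
      X.presheaf.map (homOfLE i).op (ψ₀ r) = 0 := by
    intro r
    have h0 : X.presheaf.germ W₀ x hxW₀ (ψ₀ r) = X.presheaf.germ W₀ x hxW₀ 0 := by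
      have := congrArg (fun f ↦ f (r : MvPolynomial (Fin n) R)) hψ₀
      simp only [RingHom.coe_comp, Function.comp_apply] at this
      rw [map_zero]
      refine this.trans ?_
      have hr : π.toRingHom r = 0 := by
        have : (r : MvPolynomial (Fin n) R) ∈ RingHom.ker π.toRingHom := by
          rw [← hs]; exact Ideal.subset_span r.2
        exact this
      rw [hr, map_zero]
    obtain ⟨W', hxW', i1, i2, h⟩ := X.presheaf.germ_eq x hxW₀ hxW₀ _ _ h0
    refine ⟨W', hxW', i1.le, ?_⟩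
    rw [map_zero] at h
    exact h
  choose W' hxW' hW'le hW'zero using hzero
  let V₀ : X.Opens := (Finset.univ.inf W') ⊓ W₀
  have hxV₀ : x ∈ V₀ := by
    rw [← SetLike.mem_coe, TopologicalSpace.Opens.coe_inf, TopologicalSpace.Opens.coe_finset_inf]
    exact ⟨by simpa using fun i ↦ hxW' i, hxW₀⟩
  obtain ⟨_, ⟨V, hV, rfl⟩, hxV, hVV₀⟩ :=
    X.isBasis_affineOpens.exists_subset_of_mem_open hxV₀ V₀.2
  have hVV₀' : V ≤ V₀ := hVV₀
  have hVW₀ : V ≤ W₀ := hVV₀'.trans inf_le_right
  have hVW' : ∀ r : s, V ≤ W' r :=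
    fun r ↦ hVV₀'.trans (inf_le_left.trans (Finset.inf_le (Finset.mem_univ r)))
  let ψ₁ : MvPolynomial (Fin n) R →+* Γ(X, V) :=
    (X.presheaf.map (homOfLE hVW₀).op).hom.comp ψ₀
  have hψ₁ : RingHom.ker π.toRingHom ≤ RingHom.ker ψ₁ := by
    rw [← hs, Ideal.span_le]
    intro r hr
    show ψ₁ r = 0
    have h1 : X.presheaf.map (homOfLE (hVW' ⟨r, hr⟩)).op
        (X.presheaf.map (homOfLE (hW'le ⟨r, hr⟩)).op (ψ₀ r)) = 0 := by
      rw [hW'zero ⟨r, hr⟩, map_zero]
    rw [← h1]
    show (X.presheaf.map (homOfLE hVW₀).op) (ψ₀ r) = _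
    rw [← ConcreteCategory.comp_apply, ← Functor.map_comp]
    rfl
  let φ'₀ : A →+* Γ(X, V) := RingHom.liftOfSurjective π.toRingHom hπ ⟨ψ₁, hψ₁⟩
  have hφ'₀ : ∀ p, φ'₀ (π p) = ψ₁ p := fun p ↦
    RingHom.liftOfRightInverse_comp_apply _ _ _ _ _
  refine ⟨V, hxV, CommRingCat.ofHom φ'₀, hVW₀.trans hW₀U, hV, ?_, ?_⟩
  · ext a
    obtain ⟨p, rfl⟩ := hπ a
    show φ (π p) = X.presheaf.germ V x hxV (φ'₀ (π p))
    rw [hφ'₀]
    show _ = X.presheaf.germ V x hxV ((X.presheaf.map (homOfLE hVW₀).op) (ψ₀ p))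
    rw [X.presheaf.germ_res_apply (homOfLE hVW₀) x hxV]
    have := congrArg (fun f ↦ f p) hψ₀
    exact this.symm
  · ext r
    show (X.presheaf.map (homOfLE (hVW₀.trans hW₀U)).op) (φRX r) = φ'₀ (φRA r)
    have : φRA r = π (MvPolynomial.C r) := (π.commutes r).symm
    rw [this, hφ'₀]
    show _ = (X.presheaf.map (homOfLE hVW₀).op) (ψ₀ (MvPolynomial.C r))
    simp only [ψ₀, MvPolynomial.coe_eval₂Hom, MvPolynomial.eval₂_C]
    show _ = (X.presheaf.map (homOfLE hVW₀).op) ((X.presheaf.map (homOfLE hW₀U).op) (φRX r))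
    rw [← ConcreteCategory.comp_apply (X.presheaf.map (homOfLE hW₀U).op), ← Functor.map_comp]
    rfl

set_option backward.isDefEq.respectTransparency.types false in

open AlgebraicGeometry CategoryTheory in
/-- Let S be a scheme, X an S-scheme and Y an S-scheme locally of finite presentation over S. Let x be a
point of X and y a point of Y over the same point of S, and let φ : O_{Y,y} → O_{X,x} be a local
homomorphism compatible with the two homomorphisms from the local ring of S. Then there exist an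
open neighbourhood U of x and an S-morphism U → Y whose composite with the canonical morphism Spec
O_{X,x} → U equals Spec φ followed by the canonical morphism Spec O_{Y,y} → Y (so it sends x to y
and induces φ on local rings). No condition is imposed on X or S. (The published statement assumes
only that Y is locally of finite presentation over S at the point y; this row assumes it
everywhere.) -/
theorem result
    {X Y S : Scheme.{u}} (sX : X ⟶ S) (sY : Y ⟶ S) [LocallyOfFinitePresentation sY]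
    {x : X} {y : Y} (e : sX x = sY y)
    (φ : Y.presheaf.stalk y ⟶ X.presheaf.stalk x) [IsLocalHom φ.hom]
    (h : sY.stalkMap y ≫ φ =
      S.presheaf.stalkSpecializes (Inseparable.of_eq e).specializes ≫ sX.stalkMap x) :
    ∃ (U : X.Opens) (hxU : x ∈ U) (f : U.toScheme ⟶ Y),
      Spec.map φ ≫ Y.fromSpecStalk y = U.fromSpecStalkOfMem x hxU ≫ f ∧
        f ≫ sY = U.ι ≫ sX := by
  obtain ⟨_, ⟨U, hU, rfl⟩, hxU, -⟩ :=
    S.isBasis_affineOpens.exists_subset_of_mem_open (Set.mem_univ (sX x)) isOpen_univ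
  have hyU : sY y ∈ U := e ▸ hxU
  obtain ⟨_, ⟨V : Y.Opens, hV, rfl⟩, hyV, iVU⟩ :=
    Y.isBasis_affineOpens.exists_subset_of_mem_open hyU (sY ⁻¹ᵁ U).2
  have : sY.appLE U V iVU ≫ Y.presheaf.germ V y hyV ≫ φ =
      sX.app U ≫ X.presheaf.germ (sX ⁻¹ᵁ U) x hxU := by
    rw [Scheme.Hom.appLE, Category.assoc, Y.presheaf.germ_res_assoc,
      ← Scheme.Hom.germ_stalkMap_assoc, h]
    simp
  obtain ⟨W, hxW, φ', i, hW, h₁, h₂⟩ :=
    exists_lift_of_finitePresentation (R := Γ(S, U)) (A := Γ(Y, V)) (U := sX ⁻¹ᵁ U) (x := x) hxU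
    (Y.presheaf.germ _ y hyV ≫ φ) (sY.appLE U V iVU) (sX.app U)
    (sY.finitePresentation_appLE hU hV _) this
  refine ⟨W, hxW, W.toSpecΓ ≫ Spec.map φ' ≫ hV.fromSpec, ?_, ?_⟩
  · rw [W.fromSpecStalkOfMem_toSpecΓ_assoc x hxW, ← Spec.map_comp_assoc, ← h₁,
      Spec.map_comp, Category.assoc, ← IsAffineOpen.fromSpecStalk,
      IsAffineOpen.fromSpecStalk_eq_fromSpecStalk]
  · simp only [Category.assoc]
    rw [← IsAffineOpen.SpecMap_appLE_fromSpec sY hU hV iVU, ← Spec.map_comp_assoc, ← h₂,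
      ← Scheme.Hom.appLE, ← hW.isoSpec_hom, IsAffineOpen.SpecMap_appLE_fromSpec sX hU hW i,
      ← Iso.eq_inv_comp, IsAffineOpen.isoSpec_inv_ι_assoc]

end Groth.Agent.S10853
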