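import Groth.Statements.S10854
import Mathlib
import Groth.Agent.S10853

set_option autoImplicit false
universe u
open FinCond

namespace Groth.Agent.S10854

open AlgebraicGeometry CategoryTheory CategoryTheory.Limits TopologicalSpace Opposite

/-- Two maps from a finite type algebra into sections, with the same germs at `x`, agree on a
smaller neighbourhood of `x`. -/
lemma exists_res_eq_of_finiteType {X : Scheme.{u}} {R A : CommRingCat.{u}} {x : X} {W : X.Opens}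
    (hxW : x ∈ W) (φRA : R ⟶ A) (hφ : φRA.hom.FiniteType) (α β : A ⟶ Γ(X, W))
    (hαβ : φRA ≫ α = φRA ≫ β)
    (hgerm : α ≫ X.presheaf.germ W x hxW = β ≫ X.presheaf.germ W x hxW) :
    ∃ (U : X.Opens) (_ : x ∈ U) (i : U ≤ W),
      α ≫ X.presheaf.map (homOfLE i).op = β ≫ X.presheaf.map (homOfLE i).op := by
  classical
  have hess := RingHom.FiniteType.essFiniteType hφ
  have key : ∀ t : A, ∃ (W' : X.Opens) (_ : x ∈ W') (i : W' ≤ W),
      X.presheaf.map (homOfLE i).op (α t) = X.presheaf.map (homOfLE i).op (β t) := by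
    intro t
    have h0 : X.presheaf.germ W x hxW (α t) = X.presheaf.germ W x hxW (β t) :=
      congrArg (fun f ↦ f.hom t) hgerm
    obtain ⟨W', hxW', i1, i2, h⟩ := X.presheaf.germ_eq x hxW hxW _ _ h0
    exact ⟨W', hxW', i1.le, h⟩
  choose W' hxW' hW'le hW'eq using key
  let U : X.Opens := (hess.finset.inf W') ⊓ W
  have hxU : x ∈ U := by
    rw [← SetLike.mem_coe, TopologicalSpace.Opens.coe_inf, TopologicalSpace.Opens.coe_finset_inf]
    exact ⟨by simpa using fun t _ ↦ hxW' t, hxW⟩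
  have hUW : U ≤ W := inf_le_right
  refine ⟨U, hxU, hUW, ?_⟩
  ext1
  apply hess.ext
  · rw [← CommRingCat.hom_comp, ← CommRingCat.hom_comp, ← Category.assoc, ← Category.assoc, hαβ]
  · intro t ht
    have hUW' : U ≤ W' t := inf_le_left.trans (Finset.inf_le ht)
    have h1 := congrArg (X.presheaf.map (homOfLE hUW').op) (hW'eq t)
    have h2 : ∀ a : Γ(X, W), X.presheaf.map (homOfLE hUW').op
        (X.presheaf.map (homOfLE (hW'le t)).op a) = X.presheaf.map (homOfLE hUW).op a := by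
      intro a
      rw [← ConcreteCategory.comp_apply, ← Functor.map_comp]
      rfl
    rw [h2, h2] at h1
    exact h1

set_option backward.isDefEq.respectTransparency.types false in
/-- Uniqueness of spreading out when the target is locally of finite type over a base. -/
lemma spread_out_unique_of_locallyOfFiniteType {X Y S : Scheme.{u}} (sY : Y ⟶ S)
    [LocallyOfFiniteType sY] {x : X} (f g : X ⟶ Y) (hfg : f ≫ sY = g ≫ sY) (e : f x = g x)
    (H : f.stalkMap x =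
      Y.presheaf.stalkSpecializes (Inseparable.of_eq e.symm).specializes ≫ g.stalkMap x) :
    ∃ (U : X.Opens), x ∈ U ∧ U.ι ≫ f = U.ι ≫ g := by
  obtain ⟨_, ⟨S₀, hS₀, rfl⟩, hxS₀, -⟩ :=
    S.isBasis_affineOpens.exists_subset_of_mem_open (Set.mem_univ (sY (f x))) isOpen_univ
  obtain ⟨_, ⟨V : Y.Opens, hV, rfl⟩, hxV, hVS₀⟩ :=
    Y.isBasis_affineOpens.exists_subset_of_mem_open hxS₀ (sY ⁻¹ᵁ S₀).2
  have hxV' : g x ∈ V := e ▸ hxV
  let W : X.Opens := f ⁻¹ᵁ V ⊓ g ⁻¹ᵁ V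
  have hxW : x ∈ W := ⟨hxV, hxV'⟩
  have hWf : W ≤ f ⁻¹ᵁ V := inf_le_left
  have hWg : W ≤ g ⁻¹ᵁ V := inf_le_right
  have hαβ : sY.appLE S₀ V hVS₀ ≫ f.appLE V W hWf = sY.appLE S₀ V hVS₀ ≫ g.appLE V W hWg := by
    rw [Scheme.Hom.appLE_comp_appLE, Scheme.Hom.appLE_comp_appLE]
    congr 1
  have hgerm : f.appLE V W hWf ≫ X.presheaf.germ W x hxW =
      g.appLE V W hWg ≫ X.presheaf.germ W x hxW := by
    simp only [Scheme.Hom.appLE, Category.assoc, X.presheaf.germ_res', ← Scheme.Hom.germ_stalkMap, H]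
    simp only [TopCat.Presheaf.germ_stalkSpecializes_assoc, Scheme.Hom.germ_stalkMap]
  obtain ⟨U, hxU, hUW, hU⟩ := exists_res_eq_of_finiteType hxW (sY.appLE S₀ V hVS₀)
    (sY.finiteType_appLE hS₀ hV hVS₀) (f.appLE V W hWf) (g.appLE V W hWg) hαβ hgerm
  refine ⟨U, hxU, ?_⟩
  rw [← Scheme.Hom.resLE_comp_ι _ (hUW.trans hWf), ← Scheme.Hom.resLE_comp_ι _ (hUW.trans hWg)]
  congr 1
  have : IsAffine V := hV
  suffices ∀ (U₀ V₀) (eU : U = U₀) (eV : V = V₀),
      f.appLE V₀ U₀ (eU ▸ eV ▸ hUW.trans hWf) =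
        g.appLE V₀ U₀ (eU ▸ eV ▸ hUW.trans hWg) by
    rw [← cancel_mono V.toScheme.isoSpec.hom]
    simp only [Scheme.isoSpec, asIso_hom, Scheme.toSpecΓ_naturality,
      Scheme.Hom.app_eq_appLE, Scheme.Hom.resLE_appLE]
    congr 2
    apply this <;> simp
  rintro U V rfl rfl
  rw [Scheme.Hom.appLE_map] at hU
  rw [Scheme.Hom.appLE_map] at hU
  exact hU

set_option backward.isDefEq.respectTransparency.types false in
/-- Uniqueness of spreading out, `fromSpecStalk` form. -/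
lemma spread_out_unique_of_locallyOfFiniteType' {X Y S : Scheme.{u}} (sY : Y ⟶ S)
    [LocallyOfFiniteType sY] {x : X} (f g : X ⟶ Y) (hfg : f ≫ sY = g ≫ sY)
    (e : X.fromSpecStalk x ≫ f = X.fromSpecStalk x ≫ g) :
    ∃ (U : X.Opens), x ∈ U ∧ U.ι ≫ f = U.ι ≫ g := by
  fapply spread_out_unique_of_locallyOfFiniteType sY f g hfg
  · simpa using congr($e (IsLocalRing.closedPoint _))
  · apply Spec.map_injective
    rw [← cancel_mono (Y.fromSpecStalk _)]
    simpa [Scheme.SpecMap_stalkSpecializes_fromSpecStalk]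

/-- value at the closed point of `fromSpecStalkOfMem`. -/
lemma fromSpecStalkOfMem_closedPoint {X : Scheme.{u}} (U : X.Opens) (x : X) (hxU : x ∈ U) :
    (U.fromSpecStalkOfMem x hxU)
      (IsLocalRing.closedPoint (X.presheaf.stalk x) : ↥(Spec (X.presheaf.stalk x))) = ⟨x, hxU⟩ := by
  apply U.ι.isOpenEmbedding.injective
  have h1 : (U.fromSpecStalkOfMem x hxU ≫ U.ι)
      (IsLocalRing.closedPoint (X.presheaf.stalk x) : ↥(Spec (X.presheaf.stalk x))) = x := by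
    rw [Scheme.Opens.fromSpecStalkOfMem_ι]
    exact Scheme.fromSpecStalk_closedPoint
  exact h1

set_option backward.isDefEq.respectTransparency.types false in
/-- `fromSpecStalk` of an open subscheme in terms of `fromSpecStalkOfMem`. -/
lemma fromSpecStalk_eq {X : Scheme.{u}} (U : X.Opens) (x : X) (hxU : x ∈ U) :
    U.toScheme.fromSpecStalk ⟨x, hxU⟩ =
      Spec.map (U.ι.stalkMap ⟨x, hxU⟩) ≫ U.fromSpecStalkOfMem x hxU := by
  simp [Scheme.Opens.fromSpecStalkOfMem]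

/-- the spread-out morphism sends `x` to `y`. -/
lemma map_point {X Y : Scheme.{u}} {x : X} {y : Y}
    (φ : Y.presheaf.stalk y ⟶ X.presheaf.stalk x) [IsLocalHom φ.hom]
    (U₁ : X.Opens) (hxU₁ : x ∈ U₁) (f : U₁.toScheme ⟶ Y)
    (hf1 : Spec.map φ ≫ Y.fromSpecStalk y = U₁.fromSpecStalkOfMem x hxU₁ ≫ f) :
    f (⟨x, hxU₁⟩ : U₁.toScheme) = y := by
  let cp : ↥(Spec (X.presheaf.stalk x)) := IsLocalRing.closedPoint (X.presheaf.stalk x)
  have h2 : (U₁.fromSpecStalkOfMem x hxU₁ ≫ f) cp = y := by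
    rw [← hf1, Scheme.Hom.comp_apply]
    have h3 : (Spec.map φ) cp = IsLocalRing.closedPoint (Y.presheaf.stalk y) :=
      Spec_closedPoint (f := φ)
    rw [h3]
    exact Scheme.fromSpecStalk_closedPoint
  have h4 : (U₁.fromSpecStalkOfMem x hxU₁) cp = ⟨x, hxU₁⟩ :=
    fromSpecStalkOfMem_closedPoint U₁ x hxU₁
  rw [← h4]
  exact h2

set_option backward.isDefEq.respectTransparency.types false in
/-- one half of the construction: on a neighbourhood of `x` in `U₁`, `f` lands in `V₁` and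
`g ∘ f` is the inclusion. -/
lemma step {X Y S : Scheme.{u}} (sX : X ⟶ S) (sY : Y ⟶ S) [LocallyOfFiniteType sX]
    {x : X} {y : Y} (φ : Y.presheaf.stalk y ⟶ X.presheaf.stalk x)
    [IsLocalHom φ.hom]
    (ψ : X.presheaf.stalk x ⟶ Y.presheaf.stalk y) (hψφ : ψ ≫ φ = 𝟙 _)
    (U₁ : X.Opens) (hxU₁ : x ∈ U₁) (f : U₁.toScheme ⟶ Y)
    (hf1 : Spec.map φ ≫ Y.fromSpecStalk y = U₁.fromSpecStalkOfMem x hxU₁ ≫ f)
    (hf2 : f ≫ sY = U₁.ι ≫ sX)
    (V₁ : Y.Opens) (hyV₁ : y ∈ V₁) (g : V₁.toScheme ⟶ X)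
    (hg1 : Spec.map ψ ≫ X.fromSpecStalk x = V₁.fromSpecStalkOfMem y hyV₁ ≫ g)
    (hg2 : g ≫ sX = V₁.ι ≫ sY) :
    ∃ (A : Scheme.{u}) (kA : A ⟶ U₁.toScheme) (_ : IsOpenImmersion kA) (FA : A ⟶ V₁.toScheme)
      (a₀ : A), kA a₀ = ⟨x, hxU₁⟩ ∧ kA ≫ f = FA ≫ V₁.ι ∧ FA ≫ g = kA ≫ U₁.ι := by
  have hfx : f (⟨x, hxU₁⟩ : U₁.toScheme) = y := map_point φ U₁ hxU₁ f hf1
  let W : U₁.toScheme.Opens := f ⁻¹ᵁ V₁
  let x₁ : U₁.toScheme := ⟨x, hxU₁⟩
  have hx₁W : x₁ ∈ W := by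
    show f x₁ ∈ V₁
    rw [hfx]; exact hyV₁
  let f_W : W.toScheme ⟶ V₁.toScheme := f.resLE V₁ W le_rfl
  have hf_W : f_W ≫ V₁.ι = W.ι ≫ f := Scheme.Hom.resLE_comp_ι _ _
  let a : W.toScheme ⟶ X := f_W ≫ g
  let b : W.toScheme ⟶ X := W.ι ≫ U₁.ι
  have hab : a ≫ sX = b ≫ sX := by
    show (f_W ≫ g) ≫ sX = (W.ι ≫ U₁.ι) ≫ sX
    rw [Category.assoc, hg2, ← Category.assoc, hf_W, Category.assoc, hf2, Category.assoc]
  let p : W.toScheme := ⟨x₁, hx₁W⟩
  -- the canonical map from the local scheme at `p`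
  let θ : Spec (W.toScheme.presheaf.stalk p) ⟶ Spec (X.presheaf.stalk x) :=
    Spec.map (W.ι.stalkMap p) ≫ Spec.map (U₁.ι.stalkMap x₁)
  have hFp : W.toScheme.fromSpecStalk p ≫ W.ι = θ ≫ U₁.fromSpecStalkOfMem x hxU₁ := by
    calc W.toScheme.fromSpecStalk p ≫ W.ι
        = Spec.map (W.ι.stalkMap p) ≫ U₁.toScheme.fromSpecStalk x₁ :=
          (Scheme.SpecMap_stalkMap_fromSpecStalk W.ι (x := p)).symm
      _ = Spec.map (W.ι.stalkMap p) ≫ Spec.map (U₁.ι.stalkMap x₁) ≫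
            U₁.fromSpecStalkOfMem x hxU₁ := by rw [fromSpecStalk_eq U₁ x hxU₁]; rfl
      _ = θ ≫ U₁.fromSpecStalkOfMem x hxU₁ := (Category.assoc _ _ _).symm
  have hb : W.toScheme.fromSpecStalk p ≫ b = θ ≫ X.fromSpecStalk x := by
    show W.toScheme.fromSpecStalk p ≫ W.ι ≫ U₁.ι = _
    rw [← Category.assoc, hFp, Category.assoc, Scheme.Opens.fromSpecStalkOfMem_ι]
  have hFf : W.toScheme.fromSpecStalk p ≫ f_W =
      θ ≫ Spec.map φ ≫ V₁.fromSpecStalkOfMem y hyV₁ := by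
    rw [← cancel_mono V₁.ι]
    simp only [Category.assoc]
    rw [hf_W, ← Category.assoc, hFp, Category.assoc, ← hf1,
      Scheme.Opens.fromSpecStalkOfMem_ι]
  have ha : W.toScheme.fromSpecStalk p ≫ a = θ ≫ X.fromSpecStalk x := by
    show W.toScheme.fromSpecStalk p ≫ f_W ≫ g = _
    rw [← Category.assoc, hFf]
    simp only [Category.assoc]
    rw [← hg1, ← Spec.map_comp_assoc, hψφ, Spec.map_id, Category.id_comp]
  obtain ⟨W', hpW', hW'⟩ := spread_out_unique_of_locallyOfFiniteType' sX a b hab (ha.trans hb.symm)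
  refine ⟨W'.toScheme, W'.ι ≫ W.ι, inferInstance, W'.ι ≫ f_W, ⟨p, hpW'⟩, rfl, ?_, ?_⟩
  · rw [Category.assoc, Category.assoc, hf_W]
  · rw [Category.assoc, Category.assoc]
    exact hW'

set_option backward.isDefEq.respectTransparency.types false in

open AlgebraicGeometry CategoryTheory in
/-- Let S be a scheme and X, Y two S-schemes locally of finite presentation over S. Let x be a point of
X and y a point of Y over the same point of S, and let φ : O_{Y,y} → O_{X,x} be an isomorphism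
compatible with the two homomorphisms from the local ring of S. Then there exist open neighbourhoods
U of x and V of y and an S-isomorphism f : U → V whose composite with Spec O_{X,x} → U and V → Y
equals Spec φ followed by Spec O_{Y,y} → Y. (The published statement assumes the finiteness
conditions only at the points x and y; this row assumes them everywhere.) -/
theorem result
    {X Y S : Scheme.{u}} (sX : X ⟶ S) (sY : Y ⟶ S)
    [LocallyOfFinitePresentation sX] [LocallyOfFinitePresentation sY]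
    {x : X} {y : Y} (e : sX x = sY y)
    (φ : Y.presheaf.stalk y ⟶ X.presheaf.stalk x) [IsIso φ]
    (h : sY.stalkMap y ≫ φ =
      S.presheaf.stalkSpecializes (Inseparable.of_eq e).specializes ≫ sX.stalkMap x) :
    ∃ (U : X.Opens) (hxU : x ∈ U) (V : Y.Opens) (f : U.toScheme ⟶ V.toScheme), IsIso f ∧
      Spec.map φ ≫ Y.fromSpecStalk y = U.fromSpecStalkOfMem x hxU ≫ f ≫ V.ι ∧
        f ≫ V.ι ≫ sY = U.ι ≫ sX := by
  haveI : IsLocalHom φ.hom := isLocalHom_of_isIso φ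
  let ψ : X.presheaf.stalk x ⟶ Y.presheaf.stalk y := inv φ
  haveI : IsLocalHom ψ.hom := isLocalHom_of_isIso ψ
  have h' : sX.stalkMap x ≫ ψ =
      S.presheaf.stalkSpecializes (Inseparable.of_eq e.symm).specializes ≫ sY.stalkMap y := by
    have h1 : S.presheaf.stalkSpecializes (Inseparable.of_eq e.symm).specializes ≫
        S.presheaf.stalkSpecializes (Inseparable.of_eq e).specializes = 𝟙 _ := by
      rw [TopCat.Presheaf.stalkSpecializes_comp, TopCat.Presheaf.stalkSpecializes_refl]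
    calc sX.stalkMap x ≫ ψ = (S.presheaf.stalkSpecializes (Inseparable.of_eq e.symm).specializes ≫
          S.presheaf.stalkSpecializes (Inseparable.of_eq e).specializes) ≫ sX.stalkMap x ≫ ψ := by
          rw [h1, Category.id_comp]
      _ = S.presheaf.stalkSpecializes (Inseparable.of_eq e.symm).specializes ≫
          (sY.stalkMap y ≫ φ) ≫ ψ := by
          rw [h]; simp only [Category.assoc]
      _ = _ := by simp [ψ]
  obtain ⟨U₁, hxU₁, f, hf1, hf2⟩ := Groth.Agent.S10853.result sX sY e φ h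
  obtain ⟨V₁, hyV₁, g, hg1, hg2⟩ := Groth.Agent.S10853.result sY sX e.symm ψ h'
  obtain ⟨A, kA, hkA, FA, a₀, ha₀, hA1, hA2⟩ := step sX sY φ ψ (by simp [ψ]) U₁ hxU₁ f hf1 hf2
    V₁ hyV₁ g hg1 hg2
  obtain ⟨B, lB, hlB, GB, b₀, hb₀, hB1, hB2⟩ := step sY sX ψ φ (by simp [ψ]) V₁ hyV₁ g hg1 hg2
    U₁ hxU₁ f hf1 hf2
  -- the two fibre products
  let P := pullback FA lB
  let Q := pullback GB kA
  let π₁ : P ⟶ A := pullback.fst FA lB
  let π₂ : P ⟶ B := pullback.snd FA lB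
  let ρ₁ : Q ⟶ B := pullback.fst GB kA
  let ρ₂ : Q ⟶ A := pullback.snd GB kA
  have hπ : π₁ ≫ FA = π₂ ≫ lB := pullback.condition
  have hρ : ρ₁ ≫ GB = ρ₂ ≫ kA := pullback.condition
  have hPQ : π₂ ≫ GB = π₁ ≫ kA := by
    rw [← cancel_mono U₁.ι]
    simp only [Category.assoc]
    rw [← hB1, ← Category.assoc, ← hπ, Category.assoc, hA2]
  have hQP : ρ₂ ≫ FA = ρ₁ ≫ lB := by
    rw [← cancel_mono V₁.ι]
    simp only [Category.assoc]
    rw [← hA1, ← Category.assoc, ← hρ, Category.assoc, hB2]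
  let α : P ⟶ Q := pullback.lift π₂ π₁ hPQ
  let β : Q ⟶ P := pullback.lift ρ₂ ρ₁ hQP
  have hβ1 : β ≫ π₁ = ρ₂ := pullback.lift_fst _ _ _
  have hβ2 : β ≫ π₂ = ρ₁ := pullback.lift_snd _ _ _
  have hα1 : α ≫ ρ₁ = π₂ := pullback.lift_fst _ _ _
  have hα2 : α ≫ ρ₂ = π₁ := pullback.lift_snd _ _ _
  have hαβ : α ≫ β = 𝟙 P := by
    apply pullback.hom_ext
    · show (α ≫ β) ≫ π₁ = 𝟙 P ≫ π₁
      rw [Category.assoc, hβ1, hα2, Category.id_comp]
    · show (α ≫ β) ≫ π₂ = 𝟙 P ≫ π₂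
      rw [Category.assoc, hβ2, hα1, Category.id_comp]
  have hβα : β ≫ α = 𝟙 Q := by
    apply pullback.hom_ext
    · show (β ≫ α) ≫ ρ₁ = 𝟙 Q ≫ ρ₁
      rw [Category.assoc, hα1, hβ2, Category.id_comp]
    · show (β ≫ α) ≫ ρ₂ = 𝟙 Q ≫ ρ₂
      rw [Category.assoc, hα2, hβ1, Category.id_comp]
  let jP : P ⟶ X := π₁ ≫ kA ≫ U₁.ι
  let jQ : Q ⟶ Y := ρ₁ ≫ lB ≫ V₁.ι
  haveI : IsOpenImmersion π₁ := inferInstanceAs (IsOpenImmersion (pullback.fst FA lB))
  haveI : IsOpenImmersion ρ₁ := inferInstanceAs (IsOpenImmersion (pullback.fst GB kA))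
  haveI : IsOpenImmersion jP := inferInstanceAs (IsOpenImmersion (π₁ ≫ kA ≫ U₁.ι))
  haveI : IsOpenImmersion jQ := inferInstanceAs (IsOpenImmersion (ρ₁ ≫ lB ≫ V₁.ι))
  -- a point of `P` over `x`
  have hFAa₀ : FA a₀ = lB b₀ := by
    apply V₁.ι.isOpenEmbedding.injective
    have h1 : (FA ≫ V₁.ι) a₀ = y := by
      rw [← hA1, Scheme.Hom.comp_apply, ha₀]
      exact map_point φ U₁ hxU₁ f hf1
    have h2 : V₁.ι (lB b₀) = y := by
      rw [hb₀]; rfl
    exact h1.trans h2.symm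
  obtain ⟨p₀, hp₀, -⟩ := Scheme.Pullback.exists_preimage_pullback a₀ b₀ hFAa₀
  have hxU : x ∈ jP.opensRange := by
    refine ⟨p₀, ?_⟩
    show (π₁ ≫ kA ≫ U₁.ι) p₀ = x
    rw [Scheme.Hom.comp_apply, Scheme.Hom.comp_apply]
    have : π₁ p₀ = a₀ := hp₀
    rw [this, ha₀]
    rfl
  let F : jP.opensRange.toScheme ⟶ jQ.opensRange.toScheme :=
    jP.isoOpensRange.inv ≫ α ≫ jQ.isoOpensRange.hom
  have hFι : F ≫ jQ.opensRange.ι = jP.isoOpensRange.inv ≫ π₁ ≫ kA ≫ f := by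
    show (jP.isoOpensRange.inv ≫ α ≫ jQ.isoOpensRange.hom) ≫ jQ.opensRange.ι = _
    simp only [Category.assoc, Scheme.Hom.isoOpensRange_hom_ι]
    show jP.isoOpensRange.inv ≫ α ≫ ρ₁ ≫ lB ≫ V₁.ι = _
    rw [← Category.assoc α, hα1, ← Category.assoc π₂, ← hπ, Category.assoc, ← hA1]
  refine ⟨jP.opensRange, hxU, jQ.opensRange, F, ?_, ?_, ?_⟩
  · haveI : IsIso α := ⟨β, hαβ, hβα⟩
    infer_instance
  · rw [hFι]
    have hζ : jP.opensRange.fromSpecStalkOfMem x hxU ≫ jP.isoOpensRange.inv ≫ π₁ ≫ kA =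
        U₁.fromSpecStalkOfMem x hxU₁ := by
      rw [← cancel_mono U₁.ι]
      simp only [Category.assoc]
      rw [Scheme.Opens.fromSpecStalkOfMem_ι]
      show jP.opensRange.fromSpecStalkOfMem x hxU ≫ jP.isoOpensRange.inv ≫ jP = _
      rw [Scheme.Hom.isoOpensRange_inv_comp, Scheme.Opens.fromSpecStalkOfMem_ι]
    rw [hf1, ← hζ]
    simp only [Category.assoc]
  · rw [← Category.assoc, hFι]
    simp only [Category.assoc]
    rw [hf2]
    show jP.isoOpensRange.inv ≫ jP ≫ sX = _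
    rw [Scheme.Hom.isoOpensRange_inv_comp_assoc]

end Groth.Agent.S10854
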