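import Groth.Statements.S10855
import Groth.Agent.Lib.Helper20IdealComap

set_option autoImplicit false
universe u
open BlowUp

namespace Groth.Agent.S10855

theorem comap_span_singleton_of_equiv {R S : Type*} [CommRing R] [CommRing S] (e : R ≃+* S) (g : S →+* R)
    (hg : ∀ y, g y = e.symm y) (x : R) : (Ideal.span {x}).comap g = Ideal.span {e x} := by
  ext y
  rw [Ideal.mem_comap, Ideal.mem_span_singleton', Ideal.mem_span_singleton']
  constructor
  · rintro ⟨a, ha⟩
    refine ⟨e a, ?_⟩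
    rw [← map_mul, ha, hg, e.apply_symm_apply]
  · rintro ⟨b, hb⟩
    refine ⟨e.symm b, ?_⟩
    rw [← hb, hg, map_mul, e.symm_apply_apply]

theorem eq_span_singleton_of_comap {R S : Type*} [CommRing R] [CommRing S] (e : R ≃+* S) (g : S →+* R)
    (hg : ∀ y, g y = e.symm y) (𝔠 : Ideal R) (s : S) (h : 𝔠.comap g = Ideal.span {s}) :
    𝔠 = Ideal.span {e.symm s} := by
  ext z
  have h1 : z ∈ 𝔠 ↔ e z ∈ 𝔠.comap g := by
    rw [Ideal.mem_comap, hg, e.symm_apply_apply]
  rw [h1, h, Ideal.mem_span_singleton', Ideal.mem_span_singleton']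
  constructor
  · rintro ⟨a, ha⟩
    refine ⟨e.symm a, ?_⟩
    rw [← map_mul, ha, e.symm_apply_apply]
  · rintro ⟨b, hb⟩
    refine ⟨e b, ?_⟩
    rw [← hb, map_mul, e.apply_symm_apply]

open nonZeroDivisors in
theorem mem_nonZeroDivisors_map_equiv {R S : Type*} [CommRing R] [CommRing S] (e : R ≃+* S) {x : R}
    (hx : x ∈ R⁰) : e x ∈ S⁰ := by
  rw [← MulEquivClass.map_nonZeroDivisors e]
  exact Submonoid.mem_map_of_mem _ hx

open nonZeroDivisors in
theorem mem_nonZeroDivisors_map_flat {R S : Type*} [CommRing R] [CommRing S] (ψ : R →+* S) (hψ : ψ.Flat)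
    {x : R} (hx : x ∈ R⁰) : ψ x ∈ S⁰ := by
  letI := ψ.toAlgebra
  haveI : Module.Flat R S := hψ
  have h1 : IsSMulRegular R x := (isRegular_iff_mem_nonZeroDivisors.2 hx).left.isSMulRegular
  have h2 : IsSMulRegular S (algebraMap R S x) := h1.of_flat
  rw [mem_nonZeroDivisors_iff_right]
  intro y hy
  apply h2
  change ψ x * y = ψ x * 0
  rw [mul_zero, mul_comm, hy]

open AlgebraicGeometry CategoryTheory in
/-- Let f : X → Y be a flat morphism of schemes and 𝓘 the quasi-coherent ideal sheaf of an effective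
Cartier divisor on Y (near every point generated on an affine open by one non-zero-divisor). Then
the inverse image ideal sheaf of 𝓘 on X is again the ideal of an effective Cartier divisor: the
subscheme f⁻¹(Z) is an effective Cartier divisor on X. (The published corollary also identifies this
divisor with the pullback of Z as a divisor; that clause is not included here.) -/
theorem result {X Y : Scheme.{u}} (f : X ⟶ Y) [Flat f]
    (𝓘 : Y.IdealSheafData) (hD : BlowUp.IsEffCartierIdeal 𝓘) :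
    BlowUp.IsEffCartierIdeal (𝓘.comap f) := by
  intro x
  obtain ⟨V, hxV, f₀, hf₀, hVI⟩ := hD (f x)
  obtain ⟨U, hU, hxU, hUV⟩ := exists_isAffineOpen_mem_and_subset (x := x) (U := f ⁻¹ᵁ V.1) hxV
  have hV : IsAffineOpen V.1 := V.2
  let WU : X.affineOpens :=
    ⟨hU.fromSpec ''ᵁ ⊤, (isAffineOpen_top _).image_of_isOpenImmersion hU.fromSpec⟩
  let WV : Y.affineOpens :=
    ⟨hV.fromSpec ''ᵁ ⊤, (isAffineOpen_top _).image_of_isOpenImmersion hV.fromSpec⟩
  have hWV : WV = V := Subtype.ext (by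
    change hV.fromSpec ''ᵁ ⊤ = V.1
    rw [Scheme.Hom.image_top_eq_opensRange, hV.opensRange_fromSpec])
  have hWU : WU.1 = U := by
    change hU.fromSpec ''ᵁ ⊤ = U
    rw [Scheme.Hom.image_top_eq_opensRange, hU.opensRange_fromSpec]
  obtain ⟨f₁, hf₁, hI₁⟩ : ∃ f₁ : Γ(Y, WV.1), f₁ ∈ nonZeroDivisors Γ(Y, WV.1) ∧
      𝓘.ideal WV = Ideal.span {f₁} := by
    rw [hWV]; exact ⟨f₀, hf₀, hVI⟩
  have key := Groth.Agent.Lib.Helper20.IdealComap.ideal_comap_eq f 𝓘 hU hV hUV
  let eV : Γ(Y, WV.1) ≃+* Γ(Spec Γ(Y, V.1), ⊤) := (hV.fromSpec.appIso ⊤).commRingCatIsoToRingEquiv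
  let eU : Γ(X, WU.1) ≃+* Γ(Spec Γ(X, U), ⊤) := (hU.fromSpec.appIso ⊤).commRingCatIsoToRingEquiv
  let ψ := (Spec.map (f.appLE V.1 U hUV)).appTop.hom
  have hψ : ψ.Flat := by
    haveI : Flat (Spec.map (f.appLE V.1 U hUV)) :=
      (HasRingHomProperty.Spec_iff (P := @Flat)).2 (f.flat_appLE hV hU hUV)
    have h := (Spec.map (f.appLE V.1 U hUV)).flat_appLE (isAffineOpen_top _) (isAffineOpen_top _) le_top
    have e : (Spec.map (f.appLE V.1 U hUV)).appLE ⊤ ⊤ le_top = (Spec.map (f.appLE V.1 U hUV)).appTop := by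
      simp [Scheme.Hom.appLE, Scheme.Hom.appTop]
    rw [e] at h
    exact h
  have h1 : (𝓘.ideal WV).comap (hV.fromSpec.appIso ⊤).inv.hom = Ideal.span {eV f₁} := by
    rw [hI₁]
    exact comap_span_singleton_of_equiv eV _ (fun _ => rfl) f₁
  rw [h1, Ideal.map_span, Set.image_singleton] at key
  refine ⟨WU, hWU ▸ hxU, eU.symm (ψ (eV f₁)), ?_, ?_⟩
  · exact mem_nonZeroDivisors_map_equiv eU.symm
      (mem_nonZeroDivisors_map_flat ψ hψ (mem_nonZeroDivisors_map_equiv eV hf₁))
  · exact eq_span_singleton_of_comap eU _ (fun _ => rfl) _ _ key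

end Groth.Agent.S10855
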