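import Groth.Statements.S10860
import Mathlib.AlgebraicGeometry.ZariskisMainTheorem
-- import your own Groth.Agent.* helpers here

set_option autoImplicit false
universe u
open Mor

namespace Groth.Agent.S10860

open CategoryTheory AlgebraicGeometry in
/-- For a proper morphism f : X → Y, the set V of points of Y with finite fibre is open, and f
restricted over V is finite (stated as the existence of an open subscheme of Y whose underlying set
is exactly V and over which f is finite). -/
theorem result {X Y : Scheme.{u}} (f : X ⟶ Y) [IsProper f] :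
    ∃ U : Y.Opens, (U : Set Y) = {y : Y | (f.base ⁻¹' {y}).Finite} ∧ IsFinite (f ∣_ U) := by
  have key : ∀ (V : Y.Opens) (y : V.toScheme),
      ((f ∣_ V) ⁻¹' {y}) = (f ⁻¹ᵁ V).ι ⁻¹' (f ⁻¹' {V.ι y}) := by
    intro V y
    ext x
    simp only [Set.mem_preimage, Set.mem_singleton_iff]
    rw [← V.ι.isOpenEmbedding.injective.eq_iff]
    have h := congr($(morphismRestrict_ι f V) x)
    simp only [Scheme.Hom.comp_apply] at h
    rw [h]
  have hopen : IsOpen {y : Y | (f.base ⁻¹' {y}).Finite} := by
    rw [isOpen_iff_forall_mem_open]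
    intro y hy
    obtain ⟨V, hyV, hV⟩ := exists_isFinite_morphismRestrict_of_finite_preimage_singleton f y hy
    refine ⟨V, ?_, V.2, hyV⟩
    intro y' hy'
    have hfin := Scheme.Hom.finite_preimage_singleton (f ∣_ V) (⟨y', hy'⟩ : V.toScheme)
    rw [key] at hfin
    have himg : f.base ⁻¹' {y'} = (f ⁻¹ᵁ V).ι '' ((f ⁻¹ᵁ V).ι ⁻¹' (f ⁻¹' {y'})) := by
      rw [Set.image_preimage_eq_inter_range]
      symm
      apply Set.inter_eq_left.mpr
      intro x hx
      simp only [Scheme.Opens.range_ι]
      change f x ∈ V
      rw [show f x = y' from hx]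
      exact hy'
    change (f.base ⁻¹' {y'}).Finite
    rw [himg]
    exact hfin.image _
  refine ⟨⟨_, hopen⟩, rfl, ?_⟩
  have : LocallyQuasiFinite (f ∣_ (⟨_, hopen⟩ : Y.Opens)) := by
    apply LocallyQuasiFinite.of_finite_preimage_singleton
    intro y
    rw [key]
    exact (y.2 : (f.base ⁻¹' {y.1}).Finite).preimage
      (Scheme.Hom.isOpenEmbedding _).injective.injOn
  exact .of_isProper_of_locallyQuasiFinite _

end Groth.Agent.S10860
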