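import Groth.Statements.S10868
import Mathlib.AlgebraicGeometry.Morphisms.Proper
import Mathlib.AlgebraicGeometry.QuasiAffine
-- import your own Groth.Agent.* helpers here

set_option autoImplicit false
universe u
open Mor

namespace Groth.Agent.S10868

open CategoryTheory AlgebraicGeometry in
/-- f : X → Y is a finite morphism exactly when it is proper and quasi-affine (quasi-compact, with the
inverse image of every affine open subscheme of Y a quasi-affine scheme). -/
theorem result {X Y : Scheme.{u}} (f : X ⟶ Y) :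
    IsFinite f ↔ IsProper f ∧ Mor2.IsQuasiAffine f := by
  constructor
  · intro hf
    refine ⟨inferInstance, inferInstance, fun V hV => ?_⟩
    haveI : IsAffine (f ⁻¹ᵁ V : Scheme.{u}) := hV.preimage f
    infer_instance
  · rintro ⟨hp, -, hq⟩
    rw [IsFinite.iff_isProper_and_isAffineHom]
    refine ⟨hp, ⟨fun V hV => ?_⟩⟩
    haveI : Scheme.IsQuasiAffine (f ⁻¹ᵁ V : Scheme.{u}) := hq V hV
    haveI : IsAffine (V : Scheme.{u}) := hV
    let W : Scheme.{u} := (f ⁻¹ᵁ V : Scheme.{u})
    let j : W ⟶ Spec Γ(W, ⊤) := W.toSpecΓ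
    have hnat : (f ∣_ V) ≫ (V : Scheme.{u}).toSpecΓ = j ≫ Spec.map (f ∣_ V).appTop :=
      Scheme.toSpecΓ_naturality (f ∣_ V)
    haveI : IsProper (j ≫ Spec.map (f ∣_ V).appTop) := by
      rw [← hnat]; infer_instance
    haveI : IsProper j := IsProper.of_comp j (Spec.map (f ∣_ V).appTop)
    haveI : IsClosedImmersion j := .of_isPreimmersion j j.isClosedMap.isClosed_range
    exact isAffine_of_isAffineHom j

end Groth.Agent.S10868
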