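import Groth.Statements.S1087
import Mathlib
import Groth.Agent.Lib.Helper21FilD7

set_option autoImplicit false
universe v u
open CategoryTheory CategoryTheory.Limits Opposite
open FilD

namespace Groth.Agent.S1087

open Groth.Agent.Lib.Helper21.FilD

/-- Let K be a cochain complex of finite filtered objects of an abelian category such that Hⁿ(grᵖ K) = 0
for all p and all n < a. Then there is a filtered quasi-isomorphism K ⟶ L with Lⁿ = 0 for all n < a. -/
theorem result {A : Type u} [Category.{v} A] [Abelian A] (K : CochainComplex (FilD.FilF A) ℤ) (a : ℤ)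
    (hK : ∀ (p n : ℤ), n < a → IsZero (((FilD.grCx p).obj K).homology n)) :
    ∃ (L : CochainComplex (FilD.FilF A) ℤ) (φ : K ⟶ L), L.IsStrictlyGE a ∧ FilD.IsFilteredQuasiIso φ := by
  classical
  let K' := toB K
  have hexact : ∀ i, i < a → K'.ExactAt i := by
    intro i hi
    refine exactAt_of_level K' i (fun t => ?_)
    rw [HomologicalComplex.exactAt_iff_isZero_homology]
    exact level_homology_isZero K i (fun p => hK p i hi) t.unop
  have hGE : K'.IsGE a := (K'.isGE_iff a).2 hexact
  have hqis : QuasiIso (K'.πTruncGE a) := inferInstance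
  -- strictness of `d^{a-1}`
  have hstrict : IsStrict (K.d (a - 1) a) := by
    let S : ShortComplex (FilF A) := ShortComplex.mk (K.d (a - 1 - 1) (a - 1)) (K.d (a - 1) a)
      (K.d_comp_d _ _ _)
    have hS : ∀ p : ℤ, (S.map (grF A p)).Exact := by
      intro p
      have h1 : ((grCx p).obj K).ExactAt (a - 1) := by
        rw [HomologicalComplex.exactAt_iff_isZero_homology]
        exact hK p (a - 1) (by omega)
      rw [HomologicalComplex.exactAt_iff' _ (a - 1 - 1) (a - 1) a (by simp) (by simp)] at h1
      exact h1
    exact isStrict_g_of_gr_exact S hS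
  have hM : ∀ n, IsFinFil A ((K'.truncGE a).X n) := by
    intro n
    rcases lt_trichotomy n a with hn | hn | hn
    · exact (IsFinFil A).prop_of_isZero ((K'.truncGE a).isZero_of_isStrictlyGE a n hn)
    · subst hn
      have h1 : IsFinFil A (cokernel (K.d (n - 1) n).hom) := isFinFil_cokernel _ hstrict
      have hcolim := K'.opcyclesIsCokernel (n - 1) n (by simp)
      have e : K'.opcycles n ≅ cokernel (K.d (n - 1) n).hom :=
        IsColimit.coconePointUniqueUpToIso hcolim (colimit.isColimit _)
      exact isFinFil_of_iso ((K'.truncGEXIsoOpcycles n).trans e).symm h1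
    · exact isFinFil_of_iso (K'.truncGEXIso a n hn).symm (K.X n).property
  refine ⟨liftCx _ hM, liftHomTo _ hM K (K'.πTruncGE a), ?_, ?_⟩
  · rw [CochainComplex.isStrictlyGE_iff]
    intro i hi
    exact isZero_of_isZero_obj _ ((K'.truncGE a).isZero_of_isStrictlyGE a i hi)
  · intro p
    have hlev := (HomologicalComplex.quasiIso_iff_evaluation (K'.πTruncGE a)).1 hqis
    exact quasiIso_gr_of_level (K'.πTruncGE a) p (fun n => mono_step_toB K p n)
      (fun n => (hM n).1 _) (hlev (op (p + 1))) (hlev (op p))

end Groth.Agent.S1087
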