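import Groth.Statements.S10870
import Mathlib
import Groth.Agent.Lib.Helper25DetRing2
import Groth.Agent.Lib.Helper28BE3
import Groth.Agent.Lib.Helper13McCoy
import Groth.Agent.Lib.Helper5IntDim
-- import your own Groth.Agent.* helpers here

set_option autoImplicit false
universe u
open CAlgX

namespace Groth.Agent.S10870


open W4bk4grassmannian in
theorem genMatrix_eq_map (k K : Type u) [Field k] [Field K] [Algebra k K] (n m : ℕ) :
    genMatrix K n m = (Matrix.of fun (i : Fin n) (j : Fin m) =>
      (MvPolynomial.X (i, j) : MvPolynomial (Fin n × Fin m) k)).map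
        (MvPolynomial.map (algebraMap k K)) := by
  ext i j
  simp [genMatrix]

theorem minorIdeal_eq_bot_of_rows_lt {R : Type u} [CommRing R] {n m : ℕ}
    (M : Matrix (Fin n) (Fin m) R) (r : ℕ) (hr : n < r) :
    CAlgX.minorIdeal M r = ⊥ := by
  rw [eq_bot_iff]
  unfold CAlgX.minorIdeal
  rw [Ideal.span_le]
  rintro _ ⟨⟨f, g⟩, rfl⟩
  obtain ⟨i, j, hij, hg⟩ := Fintype.exists_ne_map_eq_of_card_lt f (by simp; omega)
  have : Matrix.det (M.submatrix f g) = 0 :=
    Matrix.det_zero_of_row_eq hij (by ext k; simp [Matrix.submatrix_apply, hg])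
  simp [this]

attribute [local instance] MvPolynomial.algebraMvPolynomial in
theorem comap_map_eq (k K : Type u) [Field k] [Field K] [Algebra k K] (σ : Type) 
    (I : Ideal (MvPolynomial σ k)) :
    (I.map (MvPolynomial.map (algebraMap k K) : MvPolynomial σ k →+* MvPolynomial σ K)).comap
      (MvPolynomial.map (algebraMap k K)) = I := by
  have hbc := (Algebra.isPushout_iff k (MvPolynomial σ k) K (MvPolynomial σ K)).mp inferInstance
  have : Module.Free (MvPolynomial σ k) (MvPolynomial σ K) := hbc.free
  exact Ideal.comap_map_eq_self_of_faithfullyFlat (A := MvPolynomial σ k) (B := MvPolynomial σ K) I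

attribute [local instance] MvPolynomial.algebraMvPolynomial in
theorem isIntegral_map (k K : Type u) [Field k] [Field K] [Algebra k K] [Algebra.IsAlgebraic k K]
    (σ : Type) :
    (MvPolynomial.map (algebraMap k K) : MvPolynomial σ k →+* MvPolynomial σ K).IsIntegral := by
  intro f
  have : IsIntegral (MvPolynomial σ k) f :=
    MvPolynomial.isIntegral_iff_isIntegral_coeff.mpr fun n =>
      (Algebra.IsAlgebraic.isIntegral (K := k) (A := K)).isIntegral _
  exact this

/-- For a field k and 0 ≤ r ≤ min(n, m), the affine determinantal scheme of n × m matrices of rank at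
most r over k — the spectrum of the polynomial ring on the entries of the generic n × m matrix
modulo the ideal of its (r+1) × (r+1) minors — has dimension r(m + n − r). -/
theorem result (k : Type u) [Field k] (n m r : ℕ) (hr : r ≤ min n m) :
    ringKrullDim (MvPolynomial (Fin n × Fin m) k ⧸ CAlgX.minorIdeal (Matrix.of fun (i : Fin n) (j : Fin m) => (MvPolynomial.X (i, j) : MvPolynomial (Fin n × Fin m) k)) (r + 1)) =
      ((r * (m + n - r) : ℕ) : WithBot ℕ∞) := by
  set M : Matrix (Fin n) (Fin m) (MvPolynomial (Fin n × Fin m) k) :=
    Matrix.of fun (i : Fin n) (j : Fin m) => (MvPolynomial.X (i, j) : MvPolynomial (Fin n × Fin m) k)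
    with hM
  by_cases hlt : r < min n m
  · -- base change to the algebraic closure
    have hn : r + 1 ≤ n := by omega
    have hm : r + 1 ≤ m := by omega
    let K := AlgebraicClosure k
    let φ : MvPolynomial (Fin n × Fin m) k →+* MvPolynomial (Fin n × Fin m) K :=
      MvPolynomial.map (algebraMap k K)
    have hJ : CAlgX.minorIdeal (W4bk4grassmannian.genMatrix K n m) (r + 1) =
        (CAlgX.minorIdeal M (r + 1)).map φ := by
      rw [genMatrix_eq_map k K n m]
      exact Groth.Agent.Lib.Helper28.BE.minorIdeal_map φ M (r + 1)
    obtain ⟨-, hdim⟩ := Groth.Agent.Lib.Helper25.DetRing.cm_dim_detRing K (d := m) (r := n)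
      (t := r + 1) (by omega) (by omega) (by omega) hn hm
    let f : MvPolynomial (Fin n × Fin m) k →+*
        (MvPolynomial (Fin n × Fin m) K ⧸ CAlgX.minorIdeal (W4bk4grassmannian.genMatrix K n m) (r + 1)) :=
      (Ideal.Quotient.mk _).comp φ
    have hf : f.IsIntegral :=
      RingHom.IsIntegral.trans _ _ (isIntegral_map k K _)
        (RingHom.isIntegral_of_surjective _ Ideal.Quotient.mk_surjective)
    have hker : RingHom.ker f = CAlgX.minorIdeal M (r + 1) := by
      rw [← RingHom.comap_ker, Ideal.mk_ker, hJ]
      exact comap_map_eq k K _ _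
    have h1 := Groth.Agent.Lib.Helper5.ringKrullDim_eq_ringKrullDim_quotient_ker_of_isIntegral f hf
    rw [hker] at h1
    rw [← h1, hdim]
    have h4 : (r + 1 - 1) * (n + m - (r + 1) + 1) = r * (m + n - r) := by
      have h2 : r + 1 - 1 = r := by omega
      have h3 : n + m - (r + 1) + 1 = m + n - r := by omega
      rw [h2, h3]
    rw [h4]
  · have hreq : r = min n m := by omega
    have hbot : CAlgX.minorIdeal M (r + 1) = ⊥ := by
      rcases Nat.le_total n m with h | h
      · exact minorIdeal_eq_bot_of_rows_lt M _ (by omega)
      · exact Groth.Agent.Helper13McCoy.minorIdeal_eq_bot_of_lt M _ (by omega)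
    rw [hbot, ringKrullDim_eq_of_ringEquiv (RingEquiv.quotientBot _),
      MvPolynomial.ringKrullDim_of_isNoetherianRing, ringKrullDim_eq_zero_of_field, zero_add,
      Nat.card_eq_fintype_card, Fintype.card_prod, Fintype.card_fin, Fintype.card_fin]
    have : r * (m + n - r) = n * m := by
      rcases Nat.le_total n m with h | h
      · have : r = n := by omega
        subst this
        have : m + r - r = m := by omega
        rw [this]
      · have : r = m := by omega
        subst this
        have : r + n - r = n := by omega
        rw [this, mul_comm]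
    rw [this]

end Groth.Agent.S10870
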