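import Groth.Statements.S10871
import Mathlib
-- import your own Groth.Agent.* helpers here

set_option autoImplicit false
universe u
open AlgebraicGeometry
open Curves

namespace Groth.Agent.S10871

open nonZeroDivisors in
theorem alg_aux (A : Type u) [CommRing A] [IsDedekindDomain A] (I : Ideal A) (hI0 : I ≠ ⊥)
    (q : Ideal A) [q.IsPrime] :
    ∃ a ∈ I, ∃ c : A, c ∉ q ∧ ∀ x ∈ I, ∃ d : A, c * x = a * d := by
  classical
  by_contra hcon
  push Not at hcon
  have hinj : Function.Injective (algebraMap A (FractionRing A)) :=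
    IsFractionRing.injective A (FractionRing A)
  have hJ0 : (I : FractionalIdeal A⁰ (FractionRing A)) ≠ 0 := by
    rw [FractionalIdeal.coeIdeal_ne_zero]
    exact hI0
  have h1 : (1 : FractionRing A) ∈
      (I : FractionalIdeal A⁰ (FractionRing A)) * (I : FractionalIdeal A⁰ (FractionRing A))⁻¹ := by
    rw [FractionalIdeal.coe_ideal_mul_inv I hI0]
    exact FractionalIdeal.one_mem_one _
  have hC : ∃ c ∈ q, algebraMap A (FractionRing A) c = 1 := by
    refine FractionalIdeal.mul_induction_on (C := fun r => ∃ c ∈ q, algebraMap A (FractionRing A) c = r)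
      h1 ?_ ?_
    · intro i hi j hj
      obtain ⟨a, ha, rfl⟩ := (FractionalIdeal.mem_coeIdeal _).mp hi
      have hij : algebraMap A (FractionRing A) a * j ∈
          (I : FractionalIdeal A⁰ (FractionRing A)) * (I : FractionalIdeal A⁰ (FractionRing A))⁻¹ :=
        FractionalIdeal.mul_mem_mul hi hj
      rw [FractionalIdeal.coe_ideal_mul_inv I hI0] at hij
      obtain ⟨c, hc⟩ := (FractionalIdeal.mem_one_iff _).mp hij
      refine ⟨c, ?_, hc⟩
      by_contra hcq
      obtain ⟨x, hx, hxd⟩ := hcon a ha c hcq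
      have hjx := (FractionalIdeal.mem_inv_iff hJ0).mp hj (algebraMap A (FractionRing A) x)
        ((FractionalIdeal.mem_coeIdeal _).mpr ⟨x, hx, rfl⟩)
      obtain ⟨d, hd⟩ := (FractionalIdeal.mem_one_iff _).mp hjx
      apply hxd d
      apply hinj
      rw [map_mul, map_mul, hc, hd]
      ring
    · rintro x y ⟨c, hc, rfl⟩ ⟨c', hc', rfl⟩
      exact ⟨c + c', q.add_mem hc hc', map_add _ _ _⟩
  obtain ⟨c, hc, hc1⟩ := hC
  have : c = 1 := hinj (by rw [hc1, map_one])
  rw [this] at hc
  exact (Ideal.IsPrime.ne_top ‹_›) ((Ideal.eq_top_iff_one q).mpr hc)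

/-- Every open subscheme of the spectrum of a Dedekind domain is affine. -/
theorem result (A : Type u) [CommRing A] [IsDedekindDomain A]
    (U : (Spec (CommRingCat.of A)).Opens) : IsAffineOpen U := by
  classical
  set Us : Set (PrimeSpectrum A) :=
    (show Set (PrimeSpectrum A) from (U : Set ↥(Spec (CommRingCat.of A)))) with hUs
  have hUsopen : IsOpen Us := U.2
  set I : Ideal A := PrimeSpectrum.vanishingIdeal (Usᶜ) with hI
  have hUc : Usᶜ = PrimeSpectrum.zeroLocus (I : Set A) := by
    rw [hI, PrimeSpectrum.zeroLocus_vanishingIdeal_eq_closure, IsClosed.closure_eq]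
    exact hUsopen.isClosed_compl
  have hmemU : ∀ p : PrimeSpectrum A, p ∈ Us ↔ ¬ ((I : Set A) ⊆ p.asIdeal) := by
    intro p
    rw [← PrimeSpectrum.mem_zeroLocus, ← hUc, Set.mem_compl_iff, not_not]
  by_cases hI0 : I = ⊥
  · have : U = ⊥ := by
      apply TopologicalSpace.Opens.ext
      apply Set.eq_empty_of_forall_notMem
      intro p hp
      apply (hmemU p).mp hp
      rw [hI0]
      intro y hy
      rw [SetLike.mem_coe, Ideal.mem_bot] at hy
      rw [hy]
      exact p.asIdeal.zero_mem
    rw [this]
    exact isAffineOpen_bot _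
  have hι : IsAffineHom U.ι := by
    apply isAffineHom_of_forall_exists_isAffineOpen
    intro x
    haveI : (PrimeSpectrum.asIdeal (x : PrimeSpectrum A)).IsPrime := (x : PrimeSpectrum A).isPrime
    obtain ⟨a, ha, c, hc, hac⟩ := alg_aux A I hI0 (PrimeSpectrum.asIdeal (x : PrimeSpectrum A))
    refine ⟨PrimeSpectrum.basicOpen c, hc, IsAffineOpen.Spec_basicOpen (R := CommRingCat.of A) c, ?_⟩
    apply U.ι.isAffineOpen_iff_of_isOpenImmersion.mp
    rw [Scheme.Hom.image_preimage_eq_opensRange_inf, Scheme.Opens.opensRange_ι]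
    have hset : ∀ p : PrimeSpectrum A, (p ∈ Us ∧ c ∉ p.asIdeal) ↔ a * c ∉ p.asIdeal := by
      intro p
      rw [hmemU]
      constructor
      · rintro ⟨hpU, hpc⟩ hacp
        apply hpU
        intro y hy
        rcases p.isPrime.mem_or_mem hacp with hap | hcp
        · obtain ⟨d, hd⟩ := hac y hy
          have : c * y ∈ p.asIdeal := by
            rw [hd]
            exact Ideal.mul_mem_right _ _ hap
          exact (p.isPrime.mem_or_mem this).resolve_left hpc
        · exact absurd hcp hpc
      · intro hacp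
        refine ⟨fun hIp => hacp (Ideal.mul_mem_right _ _ (hIp ha)), fun hcp => hacp (Ideal.mul_mem_left _ _ hcp)⟩
    have : U ⊓ PrimeSpectrum.basicOpen c = PrimeSpectrum.basicOpen (a * c) := by
      apply TopologicalSpace.Opens.ext
      ext p
      exact hset p
    rw [this]
    exact IsAffineOpen.Spec_basicOpen (R := CommRingCat.of A) (a * c)
  exact isAffine_of_isAffineHom U.ι

end Groth.Agent.S10871
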