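import Groth.Statements.S10879
import Mathlib

set_option autoImplicit false
universe u
open CategoryTheory AlgebraicGeometry
open FlatMor

namespace Groth.Agent.S10879

open CategoryTheory.Limits

/-- `Spec 𝒪_{X,x} ⟶ X` is flat. -/
theorem flat_fromSpecStalk (X : Scheme.{u}) (x : X) : Flat (X.fromSpecStalk x) := by
  obtain ⟨_, ⟨U, hU, rfl⟩, hxU, -⟩ :=
    X.isBasis_affineOpens.exists_subset_of_mem_open (Set.mem_univ x) isOpen_univ
  rw [← hU.fromSpecStalk_eq_fromSpecStalk hxU]
  dsimp [IsAffineOpen.fromSpecStalk]
  have : Flat (Spec.map (X.presheaf.germ U x hxU)) := by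
    rw [Flat.SpecMap_iff]
    letI : Algebra Γ(X, U) (X.presheaf.stalk x) := (X.presheaf.germ U x hxU).hom.toAlgebra
    haveI := hU.isLocalization_stalk ⟨x, hxU⟩
    show Module.Flat Γ(X, U) (X.presheaf.stalk x)
    exact IsLocalization.flat _ (hU.primeIdealOf ⟨x, hxU⟩).asIdeal.primeCompl
  infer_instance

/-- flat + separated + iso at the generic point (integral source) implies mono -/
theorem mono_of_flat {X' X : Scheme.{u}} [IsIntegral X'] [IsIntegral X]
    (f : X' ⟶ X) [IsSeparated f] (hK : IsIso (f.stalkMap (genericPoint X'))) [Flat f] : Mono f := by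
  let g : Spec (X'.presheaf.stalk (genericPoint X')) ⟶ X' := X'.fromSpecStalk (genericPoint X')
  have hfield : IsField (X'.presheaf.stalk (genericPoint X')) :=
    Field.toIsField (X'.functionField)
  letI : Field (X'.presheaf.stalk (genericPoint X')) := hfield.toField
  have hfin : Finite (Spec (X'.presheaf.stalk (genericPoint X'))) := by
    have : Subsingleton (PrimeSpectrum (X'.presheaf.stalk (genericPoint X'))) := inferInstance
    exact (Finite.of_subsingleton : Finite (PrimeSpectrum (X'.presheaf.stalk (genericPoint X'))))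
  have hqc : QuasiCompact g := ⟨fun _ _ _ ↦ (Set.toFinite _).isCompact⟩
  have hgflat : Flat g := flat_fromSpecStalk X' _
  have hgstd : IsSchemeTheoreticallyDominant g := by
    rw [isSchemeTheoreticallyDominant_iff_isDominant, isDominant_iff, denseRange_iff_closure_range,
      Set.eq_univ_iff_forall]
    intro y
    have h1 : genericPoint X' ∈ Set.range g := ⟨_, Scheme.fromSpecStalk_closedPoint⟩
    have h2 : y ∈ closure ({genericPoint X'} : Set X') := by
      rw [(genericPoint_spec X').def]; trivial
    exact closure_mono (Set.singleton_subset_iff.mpr h1) h2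
  have hmono : Mono (g ≫ f) := by
    have : g ≫ f = Spec.map (f.stalkMap (genericPoint X')) ≫ X.fromSpecStalk _ :=
      (Scheme.SpecMap_stalkMap_fromSpecStalk f).symm
    rw [this]
    infer_instance
  let p₁ := pullback.fst f f
  let p₂ := pullback.snd f f
  let k₁ := pullback.fst p₁ g
  have hk₁ : IsSchemeTheoreticallyDominant k₁ := inferInstance
  have hk₁flat : Flat (k₁ ≫ p₂) := inferInstance
  let k₂ := pullback.fst (k₁ ≫ p₂) g
  have hk₂ : IsSchemeTheoreticallyDominant k₂ := inferInstance
  let k := k₂ ≫ k₁
  have hk : IsSchemeTheoreticallyDominant k := inferInstance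
  let a₁ := k₂ ≫ pullback.snd p₁ g
  let a₂ := pullback.snd (k₁ ≫ p₂) g
  have ha₁ : a₁ ≫ g = k ≫ p₁ := by
    show (k₂ ≫ pullback.snd p₁ g) ≫ g = (k₂ ≫ k₁) ≫ p₁
    rw [Category.assoc, Category.assoc, ← pullback.condition]
  have ha₂ : a₂ ≫ g = k ≫ p₂ := by
    show pullback.snd (k₁ ≫ p₂) g ≫ g = (pullback.fst (k₁ ≫ p₂) g ≫ k₁) ≫ p₂
    rw [← pullback.condition, Category.assoc]
  have ha : a₁ = a₂ := by
    rw [← cancel_mono (g ≫ f), ← Category.assoc, ← Category.assoc, ha₁, ha₂, Category.assoc,
      Category.assoc]
    show k ≫ pullback.fst f f ≫ f = k ≫ pullback.snd f f ≫ f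
    rw [pullback.condition]
  have hkp : k ≫ p₁ = k ≫ p₂ := by rw [← ha₁, ← ha₂, ha]
  have hfac : (k ≫ p₁) ≫ pullback.diagonal f = k := by
    apply pullback.hom_ext
    · simp only [Category.assoc, pullback.diagonal_fst, Category.comp_id]
      rfl
    · simp only [Category.assoc, pullback.diagonal_snd, Category.comp_id]
      exact hkp
  have hΔ : IsIso (pullback.diagonal f) := by
    rw [IsClosedImmersion.isIso_iff_ker_eq_bot, ← le_bot_iff]
    have h1 := Scheme.Hom.le_ker_comp (k ≫ p₁) (pullback.diagonal f)
    rw [hfac, Scheme.Hom.ker_eq_bot k] at h1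
    exact h1
  exact (pullback.isIso_diagonal_iff f).mp hΔ


/-- Take integral schemes X' and X and a separated surjective morphism f : X' → X which is birational in
the sense that the induced map of function fields (the stalk map of f at the generic point of X') is
an isomorphism, and suppose f is affine (e.g. a normalization) or locally of finite presentation
(e.g. a blow-up of a Noetherian integral scheme). Then f is flat exactly when it is an isomorphism. -/
theorem result {X' X : Scheme.{u}} [IsIntegral X'] [IsIntegral X]
    (f : X' ⟶ X) [Surjective f] [IsSeparated f] (hK : IsIso (f.stalkMap (genericPoint X')))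
    (h : IsAffineHom f ∨ LocallyOfFinitePresentation f) :
    Flat f ↔ IsIso f := by
  constructor
  · intro hflat
    have hmono : Mono f := mono_of_flat f hK
    rcases h with h | h
    · exact Flat.isIso_of_surjective_of_mono f
    · have : IsOpenImmersion f := IsOpenImmersion.of_flat_of_mono f
      rw [isIso_iff_isOpenImmersion_and_surjective]
      exact ⟨this, inferInstance⟩
  · intro h
    infer_instance

end Groth.Agent.S10879
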