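import Groth.Statements.S1088
import Mathlib
import Groth.Agent.Lib.Helper21FilD7

set_option autoImplicit false
universe v u
open CategoryTheory CategoryTheory.Limits Opposite
open FilD

namespace Groth.Agent.S1088

open Groth.Agent.Lib.Helper21.FilD

/-- Let K be a cochain complex of finite filtered objects of an abelian category such that Hⁿ(grᵖ K) = 0
for all p and all n > b. Then there is a filtered quasi-isomorphism M ⟶ K with Mⁿ = 0 for all n > b. -/
theorem result {A : Type u} [Category.{v} A] [Abelian A] (K : CochainComplex (FilD.FilF A) ℤ) (b : ℤ)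
    (hK : ∀ (p n : ℤ), b < n → IsZero (((FilD.grCx p).obj K).homology n)) :
    ∃ (M : CochainComplex (FilD.FilF A) ℤ) (φ : M ⟶ K), M.IsStrictlyLE b ∧ FilD.IsFilteredQuasiIso φ := by
  classical
  let K' := toB K
  have hexact : ∀ i, b < i → K'.ExactAt i := by
    intro i hi
    refine exactAt_of_level K' i (fun t => ?_)
    rw [HomologicalComplex.exactAt_iff_isZero_homology]
    exact level_homology_isZero K i (fun p => hK p i hi) t.unop
  have hLE : K'.IsLE b := (K'.isLE_iff b).2 hexact
  have hqis : QuasiIso (K'.ιTruncLE b) := inferInstance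
  have hM : ∀ n, IsFinFil A ((K'.truncLE b).X n) := by
    intro n
    rcases lt_trichotomy n b with hn | hn | hn
    · exact isFinFil_of_iso (K'.truncLEXIso b n hn).symm (K.X n).property
    · subst hn
      have h1 : IsFinFil A (kernel (K.d n (n + 1)).hom) := isFinFil_kernel _
      have hlim := K'.cyclesIsKernel n (n + 1) (by simp)
      have e : K'.cycles n ≅ kernel (K.d n (n + 1)).hom :=
        IsLimit.conePointUniqueUpToIso hlim (limit.isLimit _)
      exact isFinFil_of_iso ((K'.truncLEXIsoCycles n).trans e).symm h1
    · exact (IsFinFil A).prop_of_isZero ((K'.truncLE b).isZero_of_isStrictlyLE b n hn)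
  refine ⟨liftCx _ hM, liftHomFrom _ hM K (K'.ιTruncLE b), ?_, ?_⟩
  · rw [CochainComplex.isStrictlyLE_iff]
    intro i hi
    exact isZero_of_isZero_obj _ ((K'.truncLE b).isZero_of_isStrictlyLE b i hi)
  · intro p
    have hlev := (HomologicalComplex.quasiIso_iff_evaluation (K'.ιTruncLE b)).1 hqis
    exact quasiIso_gr_of_level (K'.ιTruncLE b) p (fun n => (hM n).1 _)
      (fun n => mono_step_toB K p n) (hlev (op (p + 1))) (hlev (op p))

end Groth.Agent.S1088
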