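import Groth.Statements.S10880
import Mathlib
import Groth.Agent.Lib.Helper10DVRFibre5
-- import your own Groth.Agent.* helpers here

set_option autoImplicit false
universe u
open CategoryTheory AlgebraicGeometry
open FlatMor

namespace Groth.Agent.S10880

/-- Let R be a discrete valuation ring and X a locally Noetherian scheme over Spec R whose
scheme-theoretic special fibre is reduced and such that every maximal point of the special fibre
lies in the closure of the generic fibre, i.e. the generic fibre is dense in X. Then X is flat over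
R. -/
theorem result (R : Type u) [CommRing R] [IsDomain R]
    [IsDiscreteValuationRing R] {X : Scheme.{u}} (f : X ⟶ Spec (CommRingCat.of R)) [IsLocallyNoetherian X]
    (hred : IsReduced (f.fiber (IsLocalRing.closedPoint R)))
    (hdense : Dense (f.base ⁻¹' {genericPoint (Spec (CommRingCat.of R))})) : Flat f := by
  classical
  open Groth.Agent.Lib.Helper10.DVRFibre in
  obtain ⟨π, hπ⟩ := IsDiscreteValuationRing.exists_irreducible R
  have hgp : genericPoint (Spec (CommRingCat.of R)) = genPt R :=
    genericPoint_eq_bot_of_affine (CommRingCat.of R)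
  rw [hgp] at hdense
  haveI := hred
  apply flat_of_forall_exists_affine
  intro x
  have key : ∀ U : X.Opens, IsAffineOpen U → phi f U π ∈ nonZeroDivisors Γ(X, U) →
      (phi f U).Flat := by
    intro U hU h
    letI : Algebra R Γ(X, U) := (phi f U).toAlgebra
    exact flat_of_mem_nonZeroDivisors hπ h
  by_cases hx : f x = genPt R
  · -- generic fibre: π is invertible nearby
    have hxG : x ∈ X.basicOpen (gOf f π) := by
      show x ∈ (X.basicOpen (gOf f π) : Set X)
      rw [coe_basicOpen_gOf f hπ]
      exact hx
    obtain ⟨_, ⟨U, hU, rfl⟩, hxU, hUG⟩ :=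
      X.isBasis_affineOpens.exists_subset_of_mem_open hxG (X.basicOpen (gOf f π)).isOpen
    refine ⟨U, hU, hxU, key U hU ?_⟩
    have hUG' : U ≤ X.basicOpen (gOf f π) := hUG
    have h1 : IsUnit (X.presheaf.map (homOfLE (X.basicOpen_le (gOf f π))).op (gOf f π)) :=
      X.toRingedSpace.isUnit_res_basicOpen (gOf f π)
    have h2 : phi f U π = X.presheaf.map (homOfLE hUG').op
        (X.presheaf.map (homOfLE (X.basicOpen_le (gOf f π))).op (gOf f π)) := by
      rw [← map_gOf f (π := π) U, ← CommRingCat.comp_apply, ← Functor.map_comp]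
      rfl
    rw [h2]
    exact (h1.map _).mem_nonZeroDivisors
  · obtain ⟨W, hW, hxW⟩ := exists_affineOpen_mem x
    haveI : IsNoetherianRing Γ(X, W) := IsLocallyNoetherian.component_noetherian ⟨W, hW⟩
    have hy : (IsLocalRing.closedPoint R).asIdeal = Ideal.span {π} := hπ.maximalIdeal_eq
    haveI : (IsLocalRing.closedPoint R).asIdeal.IsMaximal := IsLocalRing.maximalIdeal.isMaximal R
    haveI : _root_.IsReduced (Γ(X, W) ⧸ Ideal.span {phi f W π}) :=
      isReduced_quotient_of_isReduced_fiber f (IsLocalRing.closedPoint R) π hy hW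
    obtain ⟨s, hxs, h1, -, -⟩ := exists_basicOpen_nzd_reduced hW (phi f W π)
      (notMem_minimalPrimes_of_dense f hπ hdense hW) x hxW
      (notMem_basicOpen_phi f hπ hx)
    refine ⟨X.basicOpen s, hW.basicOpen s, hxs, key _ (hW.basicOpen s) ?_⟩
    rw [phi_basicOpen]
    exact h1

end Groth.Agent.S10880
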