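import Groth.Statements.S10881
import Mathlib
import Groth.Agent.S2082
import Groth.Agent.Lib.Helper5RLR3
import Groth.Agent.Lib.Helper28Catenary

set_option autoImplicit false
universe u
open CategoryTheory AlgebraicGeometry
open FlatMor

namespace Groth.Agent.S10881
open CategoryTheory AlgebraicGeometry IsLocalRing TopologicalSpace


/-- Algebraic core: a local injective hom of regular local rings `R → S` such that `S` is a
localization of an integral `R`-subalgebra is flat. -/
theorem flat_core (R S : Type u) [CommRing R] [CommRing S] [IsRegularLocalRing R]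
    [IsRegularLocalRing S] [Algebra R S] [IsLocalHom (algebraMap R S)]
    (hinj : Function.Injective (algebraMap R S))
    (T : Set S) (hT : ∀ t ∈ T, IsIntegral R t)
    (hsurj : ∀ s : S, ∃ a ∈ Algebra.adjoin R T, ∃ b ∈ Algebra.adjoin R T, IsUnit b ∧ s * b = a) :
    Module.Flat R S := by
  haveI : IsDomain S := Groth.Agent.Lib.Helper5.isDomain_of_isRegularLocalRing S
  haveI : IsDomain R := Groth.Agent.Lib.Helper5.isDomain_of_isRegularLocalRing R
  haveI : IsIntegrallyClosed R := Groth.Agent.Lib.Helper28.isIntegrallyClosed_of_isRegularLocalRing R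
  haveI : LocCoh.IsCohenMacaulayLocalRing S :=
    Groth.Agent.Lib.Helper5.isCohenMacaulayLocalRing_of_isRegularLocalRing S
  let D : Subalgebra R S := Algebra.adjoin R T
  haveI : Algebra.IsIntegral R D := Algebra.IsIntegral.adjoin hT
  haveI : FaithfulSMul R D := by
    rw [faithfulSMul_iff_algebraMap_injective]
    intro a b hab
    apply hinj
    have := congrArg (D.val) hab
    simpa using this
  haveI : Algebra.HasGoingDown R D := inferInstance
  let n : Ideal D := (maximalIdeal S).comap (algebraMap D S)
  haveI : n.IsPrime := Ideal.comap_isPrime _ _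
  haveI : IsLocalization.AtPrime S n := by
    constructor
    refine ⟨?_, ?_, ?_⟩
    · rintro ⟨y, hy⟩
      have : algebraMap D S y ∉ maximalIdeal S := hy
      simpa using this
    · intro s
      obtain ⟨a, ha, b, hb, hbu, hab⟩ := hsurj s
      refine ⟨⟨⟨a, ha⟩, ⟨⟨b, hb⟩, ?_⟩⟩, ?_⟩
      · change algebraMap D S ⟨b, hb⟩ ∉ maximalIdeal S
        simpa using hbu
      · exact hab
    · intro x y hxy
      refine ⟨1, ?_⟩
      have : x = y := Subtype.ext hxy
      simp [this]
  haveI : Module.Flat D S := IsLocalization.flat S n.primeCompl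
  haveI : Algebra.HasGoingDown D S := Algebra.HasGoingDown.of_flat
  haveI : Algebra.HasGoingDown R S := Algebra.HasGoingDown.trans R D S
  apply Groth.Agent.S2082.result
  have h1 := Ideal.height_eq_height_add_of_liesOver_of_hasGoingDown (R := R) (S := S)
    (maximalIdeal R) (maximalIdeal S)
  set I : Ideal S := (maximalIdeal R).map (algebraMap R S) with hI
  have hIle : I ≤ maximalIdeal S := by
    rw [hI, Ideal.map_le_iff_le_comap]
    exact le_of_eq (Ideal.LiesOver.over (p := maximalIdeal R) (P := maximalIdeal S))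
  haveI : Nontrivial (S ⧸ I) := by
    apply Ideal.Quotient.nontrivial_iff.mpr
    intro h
    exact (maximalIdeal.isMaximal S).ne_top (top_le_iff.mp (h ▸ hIle))
  have hmax : maximalIdeal (S ⧸ I) = (maximalIdeal S).map (Ideal.Quotient.mk I) := by
    symm
    apply IsLocalRing.eq_maximalIdeal
    rcases Ideal.map_eq_top_or_isMaximal_of_surjective (Ideal.Quotient.mk I)
      Ideal.Quotient.mk_surjective (maximalIdeal.isMaximal S) with h | h
    · exfalso
      have h2 : (Ideal.map (Ideal.Quotient.mk I) (maximalIdeal S)).comap (Ideal.Quotient.mk I)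
          = maximalIdeal S := by
        rw [Ideal.comap_map_of_surjective _ Ideal.Quotient.mk_surjective]
        simp only [sup_eq_left]
        rw [← RingHom.ker_eq_comap_bot, Ideal.mk_ker]
        exact hIle
      rw [h, Ideal.comap_top] at h2
      exact (maximalIdeal.isMaximal S).ne_top h2.symm
    · exact h
  rw [← maximalIdeal_height_eq_ringKrullDim, ← maximalIdeal_height_eq_ringKrullDim,
    ← maximalIdeal_height_eq_ringKrullDim, hmax, h1]
  push_cast
  rfl



/-- The local ring at the generic point of an irreducible component, if a domain, is a field. -/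
theorem maximalIdeal_eq_bot_of_irreducibleComponent {Y : Scheme.{u}} (η : Y)
    [IsDomain (Y.presheaf.stalk η)]
    (hη : closure {η} ∈ irreducibleComponents (Y : Type u)) :
    IsLocalRing.maximalIdeal (Y.presheaf.stalk η) = ⊥ := by
  have hgen : ∀ y' : Y, y' ⤳ η → y' = η := by
    intro y' h
    have h1 : closure ({η} : Set Y) ⊆ closure {y'} := by
      apply closure_minimal _ isClosed_closure
      rw [Set.singleton_subset_iff]
      exact h.mem_closure
    have h2 : closure ({y'} : Set Y) ⊆ closure {η} :=
      hη.le_of_ge (isIrreducible_singleton.closure) h1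
    have h3 : η ⤳ y' := by
      rw [specializes_iff_mem_closure]
      exact h2 (subset_closure rfl)
    exact (h.antisymm h3).eq
  have hsub : ∀ p q : Spec (Y.presheaf.stalk η), p = q := by
    intro p q
    have hp : (Y.fromSpecStalk η) p ∈ Set.range (Y.fromSpecStalk η) := ⟨p, rfl⟩
    have hq : (Y.fromSpecStalk η) q ∈ Set.range (Y.fromSpecStalk η) := ⟨q, rfl⟩
    rw [Scheme.range_fromSpecStalk] at hp hq
    have e : (Y.fromSpecStalk η) p = (Y.fromSpecStalk η) q := (hgen _ hp).trans (hgen _ hq).symm
    exact (Y.fromSpecStalk η).isEmbedding.injective e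
  have := hsub ⟨maximalIdeal _, inferInstance⟩ ⟨⊥, Ideal.isPrime_bot⟩
  exact congrArg PrimeSpectrum.asIdeal this

/-- A section whose germ at `η` vanishes and a domain stalk at a specialization `y` of `η`:
the germ at `y` vanishes. -/
theorem germ_eq_zero_of_specializes {Y : Scheme.{u}} {V : Y.Opens} (hV : IsAffineOpen V)
    (y η : Y) (hy : y ∈ V) (hη : η ∈ V) (hs : η ⤳ y) [IsDomain (Y.presheaf.stalk y)]
    (g : Γ(Y, V)) (h0 : Y.presheaf.germ V η hη g = 0) : Y.presheaf.germ V y hy g = 0 := by
  have h0' : Y.presheaf.germ V η hη g = Y.presheaf.germ V η hη 0 := by rw [h0, map_zero]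
  obtain ⟨W, hηW, iU, iV, e⟩ := TopCat.Presheaf.germ_eq Y.presheaf η hη hη g 0 h0'
  rw [map_zero] at e
  obtain ⟨h, hW, hηh⟩ := hV.exists_basicOpen_le (V := W) ⟨η, hηW⟩ hη
  have hDV : Y.basicOpen h ≤ V := Y.basicOpen_le h
  have hloc := hV.isLocalization_basicOpen h
  have hres : Y.presheaf.map (homOfLE hDV).op g = 0 := by
    have : Y.presheaf.map (homOfLE hDV).op g = Y.presheaf.map (homOfLE hW).op
        (Y.presheaf.map iU.op g) := by
      rw [← ConcreteCategory.comp_apply, ← Functor.map_comp]
      rfl
    rw [this, e, map_zero]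
  have hres' : algebraMap Γ(Y, V) Γ(Y, Y.basicOpen h) g = 0 := hres
  rw [IsLocalization.map_eq_zero_iff (Submonoid.powers h)] at hres'
  obtain ⟨⟨_, n, rfl⟩, hn⟩ := hres'
  have h1 := congrArg (Y.presheaf.germ V y hy).hom hn
  rw [map_mul, map_pow, map_zero] at h1
  rcases mul_eq_zero.mp h1 with h2 | h2
  · exfalso
    have h3 : (Y.presheaf.germ V y hy).hom h = 0 := pow_eq_zero_iff (M₀ := Y.presheaf.stalk y) (n := n) (by
      intro hn0
      subst hn0
      simp at h2) |>.mp h2
    have h3' : Y.presheaf.germ V y hy h = Y.presheaf.germ V y hy 0 := by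
      rw [map_zero]; exact h3
    obtain ⟨W', hyW', iU', iV', e'⟩ := TopCat.Presheaf.germ_eq Y.presheaf y hy hy h 0 h3'
    rw [map_zero] at e'
    have hηW' : η ∈ W' := hs.mem_open W'.2 hyW'
    have h4 : Y.presheaf.germ V η hη h = 0 := by
      rw [← TopCat.Presheaf.germ_res_apply Y.presheaf iU' η hηW' h, e', map_zero]
    have h5 := (Scheme.mem_basicOpen Y h η hη).1 hηh
    rw [h4] at h5
    exact not_isUnit_zero h5
  · exact h2

theorem stalkMap_injective {X Y : Scheme.{u}} (f : X ⟶ Y)
    (hY : ∀ y : Y, IsRegularLocalRing (Y.presheaf.stalk y))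
    (hdom : ∀ Z ∈ irreducibleComponents (X : Type u),
      closure (f.base '' Z) ∈ irreducibleComponents (Y : Type u))
    (x : X) : Function.Injective (f.stalkMap x) := by
  have hZ := irreducibleComponent_mem_irreducibleComponents x
  have hirr : IsIrreducible (irreducibleComponent x) := isIrreducible_irreducibleComponent
  have hcl : IsClosed (irreducibleComponent x) := isClosed_irreducibleComponent
  set ξ := hirr.genericPoint with hξdef
  have hξ : closure {ξ} = irreducibleComponent x := by
    have := hirr.isGenericPoint_genericPoint_closure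
    rw [hcl.closure_eq] at this
    exact this
  have hξx : ξ ⤳ x := by
    rw [specializes_iff_mem_closure, hξ]
    exact mem_irreducibleComponent
  have hη : closure {f ξ} ∈ irreducibleComponents (Y : Type u) := by
    have := hdom _ hZ
    convert this using 1
    rw [← hξ]
    apply subset_antisymm
    · apply closure_mono
      rintro _ rfl
      exact ⟨ξ, subset_closure rfl, rfl⟩
    · apply closure_minimal _ isClosed_closure
      refine (image_closure_subset_closure_image f.continuous).trans ?_
      simp
  haveI : IsDomain (Y.presheaf.stalk (f ξ)) :=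
    haveI := hY (f ξ)
    Groth.Agent.Lib.Helper5.isDomain_of_isRegularLocalRing _
  haveI : IsDomain (Y.presheaf.stalk (f x)) :=
    haveI := hY (f x)
    Groth.Agent.Lib.Helper5.isDomain_of_isRegularLocalRing _
  have hbot := maximalIdeal_eq_bot_of_irreducibleComponent (f ξ) hη
  have hinjξ : ∀ r : Y.presheaf.stalk (f ξ), f.stalkMap ξ r = 0 → r = 0 := by
    intro r hr
    have hK : RingHom.ker (f.stalkMap ξ).hom ≠ ⊤ := RingHom.ker_ne_top _
    have := IsLocalRing.le_maximalIdeal hK
    rw [hbot] at this
    exact (Ideal.mem_bot).1 (this hr)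
  obtain ⟨V, hV : IsAffineOpen V, hxV, -⟩ :=
    (Opens.isBasis_iff_nbhd.mp Y.isBasis_affineOpens) (Opens.mem_top (f x))
  have hfs : f ξ ⤳ f x := hξx.map f.continuous
  have hξV : f ξ ∈ V := hfs.mem_open V.2 hxV
  apply hV.stalkMap_injective f x hxV
  intro g hg
  rw [Scheme.Hom.germ_stalkMap_apply] at hg
  have hg' : X.presheaf.germ (f ⁻¹ᵁ V) x hxV (f.app V g) = X.presheaf.germ (f ⁻¹ᵁ V) x hxV 0 := by
    rw [hg, map_zero]
  obtain ⟨W, hxW, iU, iV, e⟩ := TopCat.Presheaf.germ_eq X.presheaf x hxV hxV _ 0 hg'
  rw [map_zero] at e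
  have hξW : ξ ∈ W := hξx.mem_open W.2 hxW
  have h1 : X.presheaf.germ (f ⁻¹ᵁ V) ξ hξV (f.app V g) = 0 := by
    rw [← TopCat.Presheaf.germ_res_apply X.presheaf iU ξ hξW, e, map_zero]
  rw [← Scheme.Hom.germ_stalkMap_apply] at h1
  have h2 := hinjξ _ h1
  exact germ_eq_zero_of_specializes hV (f x) (f ξ) hxV hξV hfs g h2



/-- A finite morphism f : X → Y between regular schemes (locally Noetherian with regular local rings)
under which each irreducible component of X dominates some irreducible component of Y is flat, hence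
finite locally free. (The published statement asks only that f be dominant; for X the disjoint union
of the affine line and a point, mapped to the affine line Y by the identity and the inclusion of a
closed point, f is finite and dominant between regular schemes but not flat, and the published
argument uses injectivity of the local ring maps, which holds exactly under the component-wise
dominance assumed here.) -/
theorem result {X Y : Scheme.{u}} (f : X ⟶ Y) [IsFinite f]
    [IsLocallyNoetherian X] [IsLocallyNoetherian Y]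
    (hX : ∀ x : X, IsRegularLocalRing (X.presheaf.stalk x))
    (hY : ∀ y : Y, IsRegularLocalRing (Y.presheaf.stalk y))
    (hdom : ∀ Z ∈ irreducibleComponents (X : Type u), closure (f.base '' Z) ∈ irreducibleComponents (Y : Type u)) :
    Flat f := by
  rw [Flat.iff_flat_stalkMap]
  intro x
  letI : Algebra (Y.presheaf.stalk (f x)) (X.presheaf.stalk x) := (f.stalkMap x).hom.toAlgebra
  haveI := hX x
  haveI := hY (f x)
  haveI : IsLocalHom (algebraMap (Y.presheaf.stalk (f x)) (X.presheaf.stalk x)) :=
    inferInstanceAs (IsLocalHom (f.stalkMap x).hom)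
  change Module.Flat (Y.presheaf.stalk (f x)) (X.presheaf.stalk x)
  obtain ⟨V, hV : IsAffineOpen V, hxV, -⟩ :=
    (Opens.isBasis_iff_nbhd.mp Y.isBasis_affineOpens) (Opens.mem_top (f x))
  have hU : IsAffineOpen (f ⁻¹ᵁ V) := hV.preimage f
  apply flat_core _ _ (stalkMap_injective f hY hdom x)
    (Set.range (X.presheaf.germ (f ⁻¹ᵁ V) x hxV))
  · rintro _ ⟨b, rfl⟩
    have hint : (f.app V).hom.IsIntegral := IsIntegralHom.isIntegral_app f V hV
    obtain ⟨p, hp, he⟩ := hint b
    refine ⟨p.map (Y.presheaf.germ V (f x) hxV).hom, hp.map _, ?_⟩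
    rw [Polynomial.eval₂_map]
    have hcomp : (algebraMap (Y.presheaf.stalk (f x)) (X.presheaf.stalk x)).comp
        (Y.presheaf.germ V (f x) hxV).hom =
        (X.presheaf.germ (f ⁻¹ᵁ V) x hxV).hom.comp (f.app V).hom := by
      ext a
      exact Scheme.Hom.germ_stalkMap_apply f V x hxV a
    rw [hcomp, ← Polynomial.hom_eval₂, he, map_zero]
  · intro s
    letI : Algebra Γ(X, f ⁻¹ᵁ V) (X.presheaf.stalk x) :=
      TopCat.Presheaf.algebra_section_stalk X.presheaf ⟨x, hxV⟩
    have hloc : IsLocalization.AtPrime (X.presheaf.stalk x)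
      (hU.primeIdealOf ⟨x, hxV⟩).asIdeal := hU.isLocalization_stalk ⟨x, hxV⟩
    obtain ⟨⟨b, m⟩, hbm⟩ := IsLocalization.surj (hU.primeIdealOf ⟨x, hxV⟩).asIdeal.primeCompl s
    refine ⟨X.presheaf.germ (f ⁻¹ᵁ V) x hxV b, Algebra.subset_adjoin ⟨b, rfl⟩,
      X.presheaf.germ (f ⁻¹ᵁ V) x hxV m.1, Algebra.subset_adjoin ⟨m.1, rfl⟩, ?_, hbm⟩
    exact IsLocalization.map_units (X.presheaf.stalk x) m

end Groth.Agent.S10881
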