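import Groth.Statements.S10883
import Mathlib
import Groth.Agent.Lib.Helper28DetSm4
-- import your own Groth.Agent.* helpers here

set_option autoImplicit false
universe u
open CAlgX

namespace Groth.Agent.S10883

/-- Let k be a field and 0 < r < min(n, m), and let B be the coordinate ring of the affine determinantal
scheme of n × m matrices of rank at most r over k (polynomial ring on the entries of the generic
matrix modulo its (r+1) × (r+1) minors). A prime P of B is a smooth point over k (the localization
B_P is formally smooth over k) exactly when it corresponds to a matrix of rank exactly r, i.e. when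
P does not contain the image of the ideal generated by the r × r minors. -/
theorem result (k : Type u) [Field k] (n m r : ℕ) (hr0 : 0 < r)
    (hr : r < min n m)
    (P : PrimeSpectrum (MvPolynomial (Fin n × Fin m) k ⧸ CAlgX.minorIdeal (Matrix.of fun (i : Fin n) (j : Fin m) => (MvPolynomial.X (i, j) : MvPolynomial (Fin n × Fin m) k)) (r + 1))) :
    P ∈ Algebra.smoothLocus k (MvPolynomial (Fin n × Fin m) k ⧸ CAlgX.minorIdeal (Matrix.of fun (i : Fin n) (j : Fin m) => (MvPolynomial.X (i, j) : MvPolynomial (Fin n × Fin m) k)) (r + 1)) ↔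
      ¬ (CAlgX.minorIdeal (Matrix.of fun (i : Fin n) (j : Fin m) => (MvPolynomial.X (i, j) : MvPolynomial (Fin n × Fin m) k)) r).map
          (Ideal.Quotient.mk (CAlgX.minorIdeal (Matrix.of fun (i : Fin n) (j : Fin m) => (MvPolynomial.X (i, j) : MvPolynomial (Fin n × Fin m) k)) (r + 1))) ≤ P.asIdeal := by
  constructor
  · intro hP hle
    exact Groth.Agent.Lib.Helper28.DetSm.not_formallySmooth_atPrime (k := k) (n := n) (m := m)
      (r := r) (by omega) (by omega) P.asIdeal hle hP
  · intro hnle
    have hex : ∃ fg : (Fin r → Fin n) × (Fin r → Fin m),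
        Ideal.Quotient.mk (CAlgX.minorIdeal (Groth.Agent.Lib.Helper28.DetSm.genM k n m) (r + 1))
          (Matrix.det ((Groth.Agent.Lib.Helper28.DetSm.genM k n m).submatrix fg.1 fg.2)) ∉
            P.asIdeal := by
      by_contra hcon0
      have hcon : ∀ fg : (Fin r → Fin n) × (Fin r → Fin m),
          Ideal.Quotient.mk (CAlgX.minorIdeal (Groth.Agent.Lib.Helper28.DetSm.genM k n m) (r + 1))
            (Matrix.det ((Groth.Agent.Lib.Helper28.DetSm.genM k n m).submatrix fg.1 fg.2)) ∈
              P.asIdeal := fun fg => by_contra fun h => hcon0 ⟨fg, h⟩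
      apply hnle
      rw [Ideal.map_le_iff_le_comap]
      unfold CAlgX.minorIdeal
      rw [Ideal.span_le]
      rintro _ ⟨fg, rfl⟩
      exact hcon fg
    obtain ⟨⟨F, G⟩, hFG⟩ := hex
    have hfg : (CAlgX.minorIdeal (Groth.Agent.Lib.Helper28.DetSm.genM k n m) (r + 1)).FG :=
      Submodule.fg_span (Set.finite_range _)
    have : Algebra.FinitePresentation k (MvPolynomial (Fin n × Fin m) k ⧸
        CAlgX.minorIdeal (Groth.Agent.Lib.Helper28.DetSm.genM k n m) (r + 1)) :=
      Algebra.FinitePresentation.quotient hfg
    exact (Algebra.basicOpen_subset_smoothLocus_iff.mpr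
      (Groth.Agent.Lib.Helper28.DetSm.formallySmooth_away F G)) hFG

end Groth.Agent.S10883
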