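import Groth.Statements.S10885
import Groth.Agent.Lib.Helper4VarDim9
open Groth.Agent.Lib.Helper4.VarDim

set_option autoImplicit false
set_option linter.style.haveILetI false
universe u
open CategoryTheory AlgebraicGeometry
open Variety

namespace Groth.Agent.S10885

/-- Let Y be a scheme of finite type over a field k, r ≥ 0, and f : X → Y a morphism of finite type
whose fibre over every maximal point of Y has dimension at least r. Then dim X ≥ r + dim Y. -/
theorem result (k : Type u) [Field k] {X Y : Scheme.{u}}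
    (q : Y ⟶ Spec (CommRingCat.of k)) [LocallyOfFiniteType q] [QuasiCompact q]
    (f : X ⟶ Y) [LocallyOfFiniteType f] [QuasiCompact f] (r : ℕ)
    (hfib : ∀ η : Y, (∀ y : Y, y ⤳ η → y = η) → (r : WithBot ℕ∞) ≤ topologicalKrullDim (f.base ⁻¹' {η})) :
    (r : WithBot ℕ∞) + topologicalKrullDim Y ≤ topologicalKrullDim X := by
  letI : Y.Over (Spec (CommRingCat.of k)) := ⟨q⟩
  letI : X.Over (Spec (CommRingCat.of k)) := ⟨f ≫ q⟩
  haveI : LocallyOfFiniteType (Y ↘ Spec (CommRingCat.of k)) := ‹LocallyOfFiniteType q›
  haveI : LocallyOfFiniteType (X ↘ Spec (CommRingCat.of k)) :=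
    inferInstanceAs (LocallyOfFiniteType (f ≫ q))
  by_cases hY : Nonempty Y
  swap
  · rw [not_nonempty_iff] at hY
    rw [topologicalKrullDim_eq_bot_of_isEmpty (T := Y), WithBot.add_bot]
    exact bot_le
  haveI : CompactSpace Y := QuasiCompact.compactSpace_of_compactSpace q
  obtain ⟨η, hη, hdY⟩ := exists_trdegNat_eq_topologicalKrullDim k Y
  have hmax : ∀ y : Y, y ⤳ η → y = η := fun y hy => eq_of_specializes_generic η y hη hy
  have hr := hfib η hmax
  haveI : QuasiSober (f.base ⁻¹' {η}) :=
    (f.fiberHomeo η).symm.isClosedEmbedding.quasiSober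
  have hfη : ∀ t : f.base ⁻¹' {η}, trdegNat k Y η ≤ trdegNat k X t.1 := by
    intro t
    have h1 := trdegNat_le_of_hom k f rfl t.1
    have h2 : f t.1 = η := t.2
    rwa [h2] at h1
  obtain ⟨t, ht⟩ := exists_le_rank_of_le_topologicalKrullDim
    (fun t : f.base ⁻¹' {η} => trdegNat k X t.1 - trdegNat k Y η) (by
      intro t t' hsp hne
      have h1 := trdegNat_lt_of_specializes k X t.1 t'.1 (hsp.map continuous_subtype_val)
        (fun h => hne (Subtype.ext h))
      have h2 := hfη t'
      simp only
      omega) r hr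
  have h3 := trdegNat_le_topologicalKrullDim k X t.1
  refine le_trans ?_ h3
  rw [hdY]
  have h4 := hfη t
  simp only at ht
  have h5 : r + trdegNat k Y η ≤ trdegNat k X t.1 := by omega
  exact_mod_cast h5

end Groth.Agent.S10885
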