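import Groth.Statements.S10884
import Groth.Agent.Lib.Helper4VarDim11
import Groth.Agent.S10885
open Groth.Agent.Lib.Helper4.VarDim

set_option autoImplicit false
set_option linter.style.haveILetI false
universe u
open CategoryTheory AlgebraicGeometry
open Variety

namespace Groth.Agent.S10884

/-- Let Y be a scheme of finite type over a field k and f : X → Y a dominant morphism of finite type all
of whose non-empty fibres have dimension r. Then dim X = r + dim Y. -/
theorem result (k : Type u) [Field k] {X Y : Scheme.{u}}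
    (q : Y ⟶ Spec (CommRingCat.of k)) [LocallyOfFiniteType q] [QuasiCompact q]
    (f : X ⟶ Y) [LocallyOfFiniteType f] [QuasiCompact f] (hdom : DenseRange f.base) (r : ℕ)
    (hfib : ∀ y : Y, (f.base ⁻¹' {y}).Nonempty → topologicalKrullDim (f.base ⁻¹' {y}) = r) :
    topologicalKrullDim X = (r : WithBot ℕ∞) + topologicalKrullDim Y := by
  letI : Y.Over (Spec (CommRingCat.of k)) := ⟨q⟩
  letI : X.Over (Spec (CommRingCat.of k)) := ⟨f ≫ q⟩
  haveI : LocallyOfFiniteType (Y ↘ Spec (CommRingCat.of k)) := ‹LocallyOfFiniteType q›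
  haveI : LocallyOfFiniteType (X ↘ Spec (CommRingCat.of k)) :=
    inferInstanceAs (LocallyOfFiniteType (f ≫ q))
  apply le_antisymm
  · refine topologicalKrullDim_le_of_forall_trdegNat_le' k X _ fun x => ?_
    letI : (f.fiber (f x)).Over (Spec (CommRingCat.of (Y.residueField (f x)))) :=
      ⟨f.fiberToSpecResidueField (f x)⟩
    haveI : LocallyOfFiniteType
        ((f.fiber (f x)) ↘ Spec (CommRingCat.of (Y.residueField (f x)))) :=
      locallyOfFiniteType_fiberToSpecResidueField f (f x)
    have h1 := trdegNat_eq_add_fiber k f rfl (f x) (f.asFiber x) x (f.fiberι_asFiber x)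
    have h2 := trdegNat_le_topologicalKrullDim (Y.residueField (f x)) (f.fiber (f x))
      (f.asFiber x)
    have h3 : topologicalKrullDim (f.fiber (f x)) = topologicalKrullDim (f.base ⁻¹' {f x}) :=
      IsHomeomorph.topologicalKrullDim_eq _ (f.fiberHomeo (f x)).isHomeomorph
    rw [h3, hfib (f x) ⟨x, rfl⟩] at h2
    have h4 := trdegNat_le_topologicalKrullDim k Y (f x)
    have h5 : trdegNat (Y.residueField (f x)) (f.fiber (f x)) (f.asFiber x) ≤ r := by
      exact_mod_cast h2
    rw [h1]
    calc ((trdegNat k Y (f x) + trdegNat (Y.residueField (f x)) (f.fiber (f x)) (f.asFiber x) : ℕ) :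
          WithBot ℕ∞)
        = ((trdegNat (Y.residueField (f x)) (f.fiber (f x)) (f.asFiber x) : ℕ) : WithBot ℕ∞) +
            ((trdegNat k Y (f x) : ℕ) : WithBot ℕ∞) := by push_cast; rw [add_comm]
      _ ≤ (r : WithBot ℕ∞) + topologicalKrullDim Y := by
          gcongr
  · refine Groth.Agent.S10885.result k q f r fun η hmax => ?_
    haveI : IsLocallyNoetherian X :=
      LocallyOfFiniteType.isLocallyNoetherian (X ↘ Spec (CommRingCat.of k))
    haveI : QuasiCompact (X ↘ Spec (CommRingCat.of k)) :=
      inferInstanceAs (QuasiCompact (f ≫ q))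
    haveI : CompactSpace X :=
      QuasiCompact.compactSpace_of_compactSpace (X ↘ Spec (CommRingCat.of k))
    haveI : IsNoetherian X := {}
    have hfin : (irreducibleComponents X).Finite := finite_irreducibleComponents_of_isNoetherian
    obtain ⟨x, hx⟩ := mem_range_of_denseRange hfin f.base f.continuous hdom η hmax
    exact (hfib η ⟨x, hx⟩).ge

end Groth.Agent.S10884
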