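import Groth.Statements.S10886
import Mathlib
import Groth.Agent.S10830
import Groth.Agent.Lib.Helper7TopDim
-- import your own Groth.Agent.* helpers here

set_option autoImplicit false
universe u
open CategoryTheory AlgebraicGeometry
open Curves

namespace Groth.Agent.S10886

/-- In an irreducible Noetherian scheme of dimension one every constructible subset is either a finite
set of closed points or the complement of such a set; in particular it is open or closed. -/
theorem result {X : Scheme.{u}} [IsNoetherian X]
    [IrreducibleSpace X] (hX : topologicalKrullDim X = 1) (s : Set X) (hs : Topology.IsConstructible s) :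
    (s.Finite ∧ (∀ x ∈ s, IsClosed ({x} : Set X))) ∨ (sᶜ.Finite ∧ ∀ x ∈ sᶜ, IsClosed ({x} : Set X)) := by
  have key : ∀ C : Set X, IsClosed C → C ≠ Set.univ →
      C.Finite ∧ ∀ x ∈ C, IsClosed ({x} : Set X) := by
    intro C hC hne
    have hlt := Groth.Agent.S10830.result X (by rw [hX]; exact ne_of_beq_false rfl) C hC hne
    rw [hX] at hlt
    have hle : topologicalKrullDim C ≤ 0 :=
      Groth.Agent.Lib.Helper7.TopDim.le_zero_of_lt_one _ hlt
    have hcl : ∀ x : C, IsClosed ({x} : Set C) :=
      Groth.Agent.Lib.Helper7.TopDim.isClosed_singleton_of_dim_le_zero hle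
    constructor
    · rcases isEmpty_or_nonempty C with hE | hN
      · exact Set.finite_coe_iff.mp inferInstance
      · have h0 : topologicalKrullDim C = 0 :=
          le_antisymm hle Groth.Agent.Lib.Helper7.TopDim.topologicalKrullDim_nonneg
        exact Set.finite_coe_iff.mp
          ((Groth.Agent.Lib.Helper7.TopDim.dim_eq_zero_iff_finite_discrete.mp h0).1)
    · intro x hx
      have h2 := hC.isClosedEmbedding_subtypeVal.isClosedMap _ (hcl ⟨x, hx⟩)
      simpa using h2
  induction hs using Topology.IsConstructible.empty_union_induction with
  | open_retrocompact U hUo _ =>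
    by_cases hU : U = ∅
    · left
      subst hU
      simp
    · right
      refine key Uᶜ hUo.isClosed_compl ?_
      intro h
      apply hU
      rw [← compl_compl U, h, Set.compl_univ]
  | union s hs t ht hs' ht' =>
    rcases hs' with ⟨h1, h2⟩ | ⟨h1, h2⟩
    · rcases ht' with ⟨h3, h4⟩ | ⟨h3, h4⟩
      · left
        exact ⟨h1.union h3, fun x hx => hx.elim (h2 x) (h4 x)⟩
      · right
        rw [Set.compl_union]
        exact ⟨h3.subset Set.inter_subset_right, fun x hx => h4 x hx.2⟩
    · right
      rw [Set.compl_union]
      exact ⟨h1.subset Set.inter_subset_left, fun x hx => h2 x hx.1⟩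
  | compl s hs hs' =>
    rcases hs' with h | h
    · right
      rwa [compl_compl]
    · left
      exact h

end Groth.Agent.S10886
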