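import Groth.Statements.S10887
import Mathlib
import Groth.Agent.Lib.Helper10CurveFlat
import Groth.Agent.Lib.Helper10DedFlat
-- import your own Groth.Agent.* helpers here

set_option autoImplicit false
universe u
open CategoryTheory AlgebraicGeometry
open FlatMor

namespace Groth.Agent.S10887

/-- (i) ⇔ (iii): let Y be a Dedekind scheme — an integral Noetherian scheme of dimension at most one all
of whose local rings are regular — and f : X → Y a morphism of schemes with X reduced. Then f is
flat if and only if every irreducible component of X dominates Y. (Without reducedness only the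
forward implication holds.) -/
theorem result {X Y : Scheme.{u}} [IsIntegral Y]
    [IsNoetherian Y] (hreg : ∀ y : Y, IsRegularLocalRing (Y.presheaf.stalk y)) (hdim : topologicalKrullDim Y ≤ 1)
    (f : X ⟶ Y) [IsReduced X] :
    Flat f ↔ ∀ Z ∈ irreducibleComponents (X : Type u), Dense (f.base '' Z) := by
  constructor
  · intro hf Z hZ
    exact Groth.Agent.Lib.Helper10.DedFlat.dense_image_of_flat f Z hZ
  · intro h
    apply Groth.Agent.Lib.Helper10.DedFlat.flat_of_maximal_points f
    · intro y
      haveI := hreg y
      apply Groth.Agent.Lib.Helper10.DedFlat.isPrincipalIdealRing_of_regular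
      rw [ringKrullDim_stalk_eq_coheight]
      have := Groth.Agent.Lib.Helper10.CurveFlat.coheight_le_of_topologicalKrullDim_le Y 1
        (by exact_mod_cast hdim) y
      exact_mod_cast this
    · intro ξ hmax
      have hZ := Groth.Agent.Lib.Helper10.DedFlat.closure_mem_irreducibleComponents_of_max hmax
      have hd := h _ hZ
      have h1 : f.base '' closure {ξ} ⊆ closure {f ξ} := by
        refine (image_closure_subset_closure_image f.continuous).trans ?_
        rw [Set.image_singleton]
      have h2 : closure ({f ξ} : Set Y) = Set.univ := by
        apply Set.eq_univ_of_univ_subset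
        rw [← hd.closure_eq]
        exact closure_minimal h1 isClosed_closure
      have h3 : IsGenericPoint (f ξ) (Set.univ : Set Y) := h2
      exact h3.eq (genericPoint_spec Y)

end Groth.Agent.S10887
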