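import Groth.Statements.S10888
import Groth.Agent.Lib.Helper3IsoFibB
import Mathlib

set_option autoImplicit false
universe u
open CategoryTheory AlgebraicGeometry
open FlatMor

namespace Groth.Agent.S10888

/-- Let g : X → S and h : Y → S be proper and of finite presentation with g flat, and f : X → Y a
morphism over S. Then the locus U of points of S over which the fibre morphism X_s → Y_s is an
isomorphism is an open subset of S, and f restricts to an isomorphism over U. -/
theorem result {X Y S : Scheme.{u}} (g : X ⟶ S) (h : Y ⟶ S)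
    [IsProper g] [LocallyOfFinitePresentation g] [Flat g] [IsProper h] [LocallyOfFinitePresentation h]
    (f : X ⟶ Y) (w : f ≫ h = g) :
    ∃ U : S.Opens, (∀ s : S, s ∈ U ↔ ∃ e : g.fiber s ≅ h.fiber s, e.hom ≫ h.fiberι s = g.fiberι s ≫ f) ∧
      IsIso (f ∣_ (h ⁻¹ᵁ U)) := by
  subst w
  have hFM1 : ∀ s, CohIII.fiberMapOver f (f ≫ h) h rfl s ≫ h.fiberι s = (f ≫ h).fiberι s ≫ f :=
    fun s => Limits.pullback.lift_fst _ _ _
  have key : ∀ s : S, (∃ e : (f ≫ h).fiber s ≅ h.fiber s,
      e.hom ≫ h.fiberι s = (f ≫ h).fiberι s ≫ f) ↔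
      IsIso (CohIII.fiberMapOver f (f ≫ h) h rfl s) := by
    intro s
    constructor
    · rintro ⟨e, he⟩
      have : e.hom = CohIII.fiberMapOver f (f ≫ h) h rfl s := by
        rw [← cancel_mono (h.fiberι s), he, hFM1]
      rw [← this]
      infer_instance
    · intro hs
      exact ⟨asIso (CohIII.fiberMapOver f (f ≫ h) h rfl s), hFM1 s⟩
  have hex : ∀ s : S, IsIso (CohIII.fiberMapOver f (f ≫ h) h rfl s) →
      ∃ U : S.Opens, s ∈ U ∧ IsIso (f ∣_ (h ⁻¹ᵁ U)) := fun s hs => by
    haveI := hs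
    exact Groth.Agent.Lib.Helper3.IsoFib.exists_isIso_morphismRestrict_of_fibre_iso f h s
  choose Us hUs1 hUs2 using
    (fun i : {s : S // IsIso (CohIII.fiberMapOver f (f ≫ h) h rfl s)} => hex i.1 i.2)
  refine ⟨⨆ i, Us i, fun s => ?_, ?_⟩
  · rw [key]
    constructor
    · intro hs
      obtain ⟨i, hi⟩ := TopologicalSpace.Opens.mem_iSup.mp hs
      haveI := hUs2 i
      exact Groth.Agent.Lib.Helper3.IsoFib.isIso_fiberMapOver_of_isIso_morphismRestrict f h
        (Us i) s hi
    · intro hs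
      exact TopologicalSpace.Opens.mem_iSup.mpr ⟨⟨s, hs⟩, hUs1 ⟨s, hs⟩⟩
  · refine Groth.Agent.Lib.Helper3.IsoFib.isIso_morphismRestrict_of_forall_exists f _
      (fun y hy => ?_)
    obtain ⟨i, hi⟩ := TopologicalSpace.Opens.mem_iSup.mp (show h y ∈ ⨆ i, Us i from hy)
    exact ⟨h ⁻¹ᵁ Us i, hi, hUs2 i⟩

end Groth.Agent.S10888
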