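import Groth.Statements.S10889
import Groth.Agent.Lib.Helper3QFinDim
import Groth.Agent.Lib.Helper3FlatFibDim
import Mathlib

set_option autoImplicit false
universe u
open CategoryTheory AlgebraicGeometry
open FlatMor

namespace Groth.Agent.S10889

open Groth.Agent.Lib.Helper3.FlatFibDim Groth.Agent.Lib.Helper3.DimCons
  Groth.Agent.Lib.Helper3.QFinDim in
theorem aux {X Y : Scheme.{u}} (f : X ⟶ Y) [IsProper f] [Flat f]
    [LocallyOfFinitePresentation f] :
    IsClopen {y : Y | topologicalKrullDim (f.base ⁻¹' {y}) = 0} ∧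
      ∀ U : Y.Opens, (U : Set Y) ⊆ {y : Y | topologicalKrullDim (f.base ⁻¹' {y}) = 0} →
        IsFinite (f ∣_ U) := by
  have hdim : ∀ y : Y, topologicalKrullDim (f.base ⁻¹' {y}) = topologicalKrullDim ↥(f.fiber y) :=
    fun y => (IsHomeomorph.topologicalKrullDim_eq _ (f.fiberHomeo y).isHomeomorph).symm
  let E : ℕ → Set Y := fun m => {y : Y | (m : WithBot ℕ∞) ≤ topologicalKrullDim ↥(f.fiber y)}
  have hEopen : ∀ m, IsOpen (E m) := fun m => isOpen_setOf_le_fibre_dim f m
  have hEclosed : ∀ m, IsClosed (E m) := by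
    intro m
    have : E m = f.base '' {x : X | (m : WithBot ℕ∞) ≤ FlatMor.fibreDimAt f x} := by
      ext y
      exact natCast_le_fibre_dim_iff f y m
    rw [this]
    exact f.isClosedMap _ (isClosed_setOf_le_fibreDimAt f m)
  have hV : {y : Y | topologicalKrullDim (f.base ⁻¹' {y}) = 0} = E 0 \ E 1 := by
    ext y
    simp only [Set.mem_ofPred_eq, Set.mem_sdiff, E]
    rw [hdim, succ_le_iff_not_le, not_not, Nat.cast_zero]
    exact ⟨fun h => ⟨h.ge, h.le⟩, fun h => le_antisymm h.2 h.1⟩
  refine ⟨?_, ?_⟩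
  · rw [hV]
    exact ⟨(hEclosed 0).sdiff (hEopen 1), (hEopen 0).sdiff (hEclosed 1)⟩
  · intro U hUV
    haveI : LocallyQuasiFinite (f ∣_ U) := by
      rw [← Scheme.Hom.quasiFiniteLocus_eq_top_iff]
      apply top_le_iff.mp
      intro x' _
      have hx' : f.base ((f ⁻¹ᵁ U).ι x') ∈ U := x'.2
      have h0 : topologicalKrullDim ↥(f.fiber (f.base ((f ⁻¹ᵁ U).ι x'))) = 0 := by
        rw [← hdim]; exact hUV hx'
      have h1 : f.QuasiFiniteAt ((f ⁻¹ᵁ U).ι x') := by
        rw [quasiFiniteAt_iff_fibreDimAt_le_zero]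
        exact (Groth.Agent.Lib.Helper7.TopDim.localDim_le_dim _).trans h0.le
      have h2 : ((f ⁻¹ᵁ U).ι ≫ f).QuasiFiniteAt x' :=
        Scheme.Hom.quasiFiniteAt_comp_iff_of_isOpenImmersion.mpr h1
      rw [← morphismRestrict_ι f U] at h2
      exact Scheme.Hom.quasiFiniteAt_comp_iff.mp h2
    exact IsFinite.of_isProper_of_locallyQuasiFinite _

/-- Let f : X → Y be proper, flat and of finite presentation, and let V be the set of points of Y whose
fibre is (non-empty and) zero-dimensional. Then V is a clopen subset of Y, and over every open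
subset of V the restriction of f is finite, hence finite locally free. -/
theorem result {X Y : Scheme.{u}} (f : X ⟶ Y) [IsProper f] [Flat f]
    [LocallyOfFinitePresentation f] :
    IsClopen {y : Y | topologicalKrullDim (f.base ⁻¹' {y}) = 0} ∧
      ∀ U : Y.Opens, (U : Set Y) ⊆ {y : Y | topologicalKrullDim (f.base ⁻¹' {y}) = 0} → IsFinite (f ∣_ U) := by
  exact aux f

end Groth.Agent.S10889
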