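import Groth.Statements.S10891
import Mathlib
-- import your own Groth.Agent.* helpers here

set_option autoImplicit false
universe u
open CAlg

namespace Groth.Agent.S10891

open MvPolynomial in
theorem monomial_two {k : Type u} [Field k] (d : Fin 2 →₀ ℕ) (c : k) :
    monomial d c = C c * ((X 0 : MvPolynomial (Fin 2) k) ^ d 0 * X 1 ^ d 1) := by
  rw [monomial_eq, Finsupp.prod_fintype _ _ (fun i => by simp), Fin.prod_univ_two]

open MvPolynomial in
theorem sigma_monomial {k : Type u} [Field k] (a : ℕ) (ζ : k) (d : Fin 2 →₀ ℕ) (c : k) :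
    aeval (fun i : Fin 2 => if i = 0 then C ζ⁻¹ * X 0
        else C (ζ⁻¹ ^ a) * (X 1 : MvPolynomial (Fin 2) k)) (monomial d c) =
      monomial d (c * ζ⁻¹ ^ (d 0 + a * d 1)) := by
  rw [aeval_monomial, Finsupp.prod_fintype _ _ (fun i => by simp), Fin.prod_univ_two,
    monomial_two]
  simp only [if_true, Fin.isValue, one_ne_zero, if_false]
  rw [mul_pow, mul_pow, ← map_pow, ← map_pow, ← pow_mul, algebraMap_eq, map_mul, pow_add,
    map_mul]
  ring

/-- Let k be a field containing a primitive r-th root of unity ζ and 0 < a < r. The cyclic group of r-th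
roots of unity acts on k[X, Y] through the generator X ↦ ζ⁻¹ X, Y ↦ ζ^(−a) Y, and the ring of
invariants of this action is generated as a k-algebra by the monomials X^i Y^j with 0 ≤ i, j ≤ r,
(i, j) ≠ (r, r) and i + a·j ≡ 0 (mod r). (The printed statement writes n for the order of the group,
which the surrounding section calls r.) -/
theorem result (k : Type u) [Field k] (r a : ℕ) (ha : 0 < a) (har : a < r)
    (ζ : k) (hζ : IsPrimitiveRoot ζ r) (p : MvPolynomial (Fin 2) k) :
    MvPolynomial.aeval (fun i : Fin 2 => if i = 0 then MvPolynomial.C ζ⁻¹ * MvPolynomial.X 0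
        else MvPolynomial.C (ζ⁻¹ ^ a) * (MvPolynomial.X 1 : MvPolynomial (Fin 2) k)) p = p ↔
      p ∈ Algebra.adjoin k {q : MvPolynomial (Fin 2) k | ∃ i j : ℕ, i ≤ r ∧ j ≤ r ∧ ¬ (i = r ∧ j = r) ∧
        r ∣ i + a * j ∧ q = MvPolynomial.X 0 ^ i * MvPolynomial.X 1 ^ j} := by
  classical
  have hr : 0 < r := by omega
  set σ : MvPolynomial (Fin 2) k →ₐ[k] MvPolynomial (Fin 2) k :=
    MvPolynomial.aeval (fun i : Fin 2 => if i = 0 then MvPolynomial.C ζ⁻¹ * MvPolynomial.X 0
        else MvPolynomial.C (ζ⁻¹ ^ a) * (MvPolynomial.X 1 : MvPolynomial (Fin 2) k)) with hσ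
  set Sgen : Set (MvPolynomial (Fin 2) k) :=
    {q : MvPolynomial (Fin 2) k | ∃ i j : ℕ, i ≤ r ∧ j ≤ r ∧ ¬ (i = r ∧ j = r) ∧
        r ∣ i + a * j ∧ q = MvPolynomial.X 0 ^ i * MvPolynomial.X 1 ^ j} with hSgen
  have hw : ∀ n : ℕ, ζ⁻¹ ^ n = 1 ↔ r ∣ n := fun n => hζ.inv.pow_eq_one_iff_dvd n
  -- σ on monomials X^i Y^j
  have hσmon : ∀ i j : ℕ, r ∣ i + a * j →
      σ (MvPolynomial.X 0 ^ i * MvPolynomial.X 1 ^ j) = MvPolynomial.X 0 ^ i * MvPolynomial.X 1 ^ j := by
    intro i j hij
    rw [map_mul, map_pow, map_pow, hσ, MvPolynomial.aeval_X, MvPolynomial.aeval_X]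
    simp only [if_true, Fin.isValue, one_ne_zero, if_false]
    rw [mul_pow, mul_pow, ← map_pow, ← map_pow, ← pow_mul]
    have : MvPolynomial.C (ζ⁻¹ ^ i) * MvPolynomial.X 0 ^ i *
        (MvPolynomial.C (ζ⁻¹ ^ (a * j)) * (MvPolynomial.X 1 : MvPolynomial (Fin 2) k) ^ j) =
        MvPolynomial.C (ζ⁻¹ ^ (i + a * j)) * (MvPolynomial.X 0 ^ i * MvPolynomial.X 1 ^ j) := by
      rw [pow_add, map_mul]
      ring
    rw [this, (hw _).mpr hij, map_one, one_mul]
  constructor
  · intro hp
    -- coefficients
    have hsupp : ∀ d ∈ p.support, r ∣ d 0 + a * d 1 := by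
      intro d hd
      have hc : MvPolynomial.coeff d p ≠ 0 := MvPolynomial.mem_support_iff.mp hd
      have h1 : MvPolynomial.coeff d (σ p) = MvPolynomial.coeff d p * ζ⁻¹ ^ (d 0 + a * d 1) := by
        conv_lhs => rw [p.as_sum, map_sum]
        rw [MvPolynomial.coeff_sum]
        simp only [hσ, sigma_monomial, MvPolynomial.coeff_monomial]
        rw [Finset.sum_ite_eq' p.support d, if_pos hd]
      rw [hp] at h1
      have h2 : ζ⁻¹ ^ (d 0 + a * d 1) = 1 := by
        have := mul_left_cancel₀ hc (show MvPolynomial.coeff d p * ζ⁻¹ ^ (d 0 + a * d 1) =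
          MvPolynomial.coeff d p * 1 by rw [mul_one]; exact h1.symm)
        exact this
      exact (hw _).mp h2
    have hmono : ∀ N : ℕ, ∀ i j : ℕ, i + j = N → r ∣ i + a * j →
        (MvPolynomial.X 0 ^ i * MvPolynomial.X 1 ^ j : MvPolynomial (Fin 2) k) ∈
          Algebra.adjoin k Sgen := by
      intro N
      induction N using Nat.strong_induction_on with
      | _ N ih =>
        intro i j hN hij
        by_cases hi : r ≤ i
        · have h1 : (MvPolynomial.X 0 ^ i * MvPolynomial.X 1 ^ j : MvPolynomial (Fin 2) k) =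
              (MvPolynomial.X 0 ^ r * MvPolynomial.X 1 ^ 0) *
                (MvPolynomial.X 0 ^ (i - r) * MvPolynomial.X 1 ^ j) := by
            rw [pow_zero, mul_one, ← mul_assoc, ← pow_add, Nat.add_sub_cancel' hi]
          rw [h1]
          refine Subalgebra.mul_mem _ (Algebra.subset_adjoin
            ⟨r, 0, le_rfl, Nat.zero_le _, by omega, by simp, rfl⟩) ?_
          refine ih (i - r + j) (by omega) (i - r) j rfl ?_
          have : i + a * j = r + (i - r + a * j) := by omega
          rw [this] at hij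
          exact (Nat.dvd_add_right (dvd_refl r)).mp hij
        · by_cases hj : r ≤ j
          · have h1 : (MvPolynomial.X 0 ^ i * MvPolynomial.X 1 ^ j : MvPolynomial (Fin 2) k) =
                (MvPolynomial.X 0 ^ 0 * MvPolynomial.X 1 ^ r) *
                  (MvPolynomial.X 0 ^ i * MvPolynomial.X 1 ^ (j - r)) := by
              rw [pow_zero, one_mul, mul_left_comm, ← pow_add, Nat.add_sub_cancel' hj]
            rw [h1]
            refine Subalgebra.mul_mem _ (Algebra.subset_adjoin
              ⟨0, r, Nat.zero_le _, le_rfl, by omega, by simp, rfl⟩) ?_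
            refine ih (i + (j - r)) (by omega) i (j - r) rfl ?_
            have : i + a * j = a * r + (i + a * (j - r)) := by
              have : a * j = a * r + a * (j - r) := by
                rw [← Nat.mul_add, Nat.add_sub_cancel' hj]
              omega
            rw [this] at hij
            exact (Nat.dvd_add_right (Dvd.intro_left a rfl)).mp hij
          · exact Algebra.subset_adjoin ⟨i, j, by omega, by omega, by omega, hij, rfl⟩
    rw [p.as_sum]
    refine Subalgebra.sum_mem _ (fun d hd => ?_)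
    rw [monomial_two]
    refine Subalgebra.mul_mem _ ?_ (hmono _ _ _ rfl (hsupp d hd))
    exact Subalgebra.algebraMap_mem _ _
  · intro hp
    have hle : Algebra.adjoin k Sgen ≤ AlgHom.equalizer σ (AlgHom.id k _) := by
      rw [Algebra.adjoin_le_iff]
      rintro q ⟨i, j, -, -, -, hij, rfl⟩
      exact hσmon i j hij
    exact hle hp

end Groth.Agent.S10891
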