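import Groth.Statements.S10892
import Groth.Agent.Lib.Helper20AbsCurve

set_option autoImplicit false
universe u
open CategoryTheory AlgebraicGeometry
open Curves

namespace Groth.Agent.S10892

section Helpers
set_option linter.style.haveILetI false
open TopologicalSpace Opposite nonZeroDivisors Mero Groth.Agent.Lib.Helper20.Kmod
  Groth.Agent.Lib.Helper20.DivDepth Groth.Agent.Lib.Helper20.AbsCurve

variable {C : Scheme.{u}}

/-- the support of a divisor on an absolute curve is a finite set of closed points. -/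
theorem finite_supp [IsNoetherian C]
    (hC : ∀ x : C, IsClosed ({x} : Set C) → ringKrullDim (C.presheaf.stalk x) = 1)
    (D : Divisor C) :
    (supp D).Finite ∧ ∀ x : C, ¬ IsClosed ({x} : Set C) → D.1 x = 1 := by
  have hnc : ∀ x : C, ¬ IsClosed ({x} : Set C) → D.1 x = 1 := by
    intro x hx
    by_contra h
    have h1 := Groth.Agent.S10851.result D x h
    have h0 := ringKrullDim_stalk_le_zero_of_not_isClosed hC x hx
    have h10 : (1 : WithBot ℕ∞) ≤ 0 := h1.trans h0
    exact absurd h10 (by decide)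
  refine ⟨?_, hnc⟩
  choose U hU hxU a b ha hb f hf hab using fun x => exists_local_rep D x
  obtain ⟨F, hF⟩ := isCompact_univ.elim_finite_subcover (fun x => ((U x : C.Opens) : Set C))
    (fun x => (U x).isOpen) (fun x _ => Set.mem_iUnion.2 ⟨x, hxU x⟩)
  have hsub : supp D ⊆ ⋃ x ∈ F,
      ({y : C | ∃ hy : y ∈ U x, ringKrullDim (C.presheaf.stalk y) = 1 ∧
        ¬ IsUnit (C.presheaf.germ (U x) y hy (a x))} ∪
       {y : C | ∃ hy : y ∈ U x, ringKrullDim (C.presheaf.stalk y) = 1 ∧
        ¬ IsUnit (C.presheaf.germ (U x) y hy (b x))}) := by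
    intro y hy
    obtain ⟨x, hxF, hyU⟩ := Set.mem_iUnion₂.1 (hF (Set.mem_univ y))
    have hyU' : y ∈ U x := hyU
    refine Set.mem_iUnion₂.2 ⟨x, hxF, ?_⟩
    have hycl : IsClosed ({y} : Set C) := by
      by_contra hncl
      exact hy (hnc y hncl)
    have hdim := hC y hycl
    by_contra hcon
    rw [Set.mem_union, not_or] at hcon
    obtain ⟨h1, h2⟩ := hcon
    have hua : IsUnit (C.presheaf.germ (U x) y hyU' (a x)) := by
      by_contra h; exact h1 ⟨hyU', hdim, h⟩
    have hub : IsUnit (C.presheaf.germ (U x) y hyU' (b x)) := by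
      by_contra h; exact h2 ⟨hyU', hdim, h⟩
    apply hy
    rw [hf x ⟨y, hyU'⟩]
    exact mk_eq_one_of_isUnit _ _ _ hua hub (rep_apply (a x) (b x) (f x) (hab x) ⟨y, hyU'⟩)
  refine (Set.Finite.biUnion F.finite_toSet fun x _ => ?_).subset hsub
  haveI : IsNoetherianRing Γ(C, U x) := IsLocallyNoetherian.component_noetherian ⟨U x, hU x⟩
  exact (finite_setOf_not_isUnit_germ (hU x) (a x) (ha x)).union
    (finite_setOf_not_isUnit_germ (hU x) (b x) (hb x))

/-- a finite set of closed points is closed. -/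
theorem isClosed_of_finite_of_forall_isClosed (T : Set C) (hT : T.Finite)
    (h : ∀ y ∈ T, IsClosed ({y} : Set C)) : IsClosed T := by
  have : T = ⋃ y ∈ T, ({y} : Set C) := (Set.biUnion_of_singleton T).symm
  rw [this]
  exact hT.isClosed_biUnion h

/-- a family of germs trivial outside a finite set of closed points is a divisor. -/
theorem mem_divisorGroup_of_finite [IsNoetherian C]
    (hC : ∀ x : C, IsClosed ({x} : Set C) → ringKrullDim (C.presheaf.stalk x) = 1)
    (g : ∀ x : C, Mero.Germ C x) (hfin : {x : C | g x ≠ 1}.Finite)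
    (hnc : ∀ x : C, ¬ IsClosed ({x} : Set C) → g x = 1) : g ∈ Mero.divisorGroup C := by
  intro x
  obtain ⟨u, hu⟩ := QuotientGroup.mk_surjective (g x)
  obtain ⟨ax, bx, hab⟩ := exists_rep_of_unit x u
  obtain ⟨Wa, hxWa, a, haR, haeq⟩ := ax.2
  obtain ⟨Wb, hxWb, b, hbR, hbeq⟩ := bx.2
  let S' : Set C := {y : C | g y ≠ 1} \ {x}
  have hS'cl : IsClosed S' := by
    apply isClosed_of_finite_of_forall_isClosed S' (hfin.subset Set.sdiff_subset)
    intro y hy
    by_contra hncl
    exact hy.1 (hnc y hncl)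
  let W0 : C.Opens := Wa ⊓ Wb ⊓ ⟨S'ᶜ, hS'cl.isOpen_compl⟩
  have hxW0 : x ∈ W0 := ⟨⟨hxWa, hxWb⟩, fun h => h.2 rfl⟩
  obtain ⟨W, hW, hxW, hWW0⟩ :=
    (TopologicalSpace.Opens.isBasis_iff_nbhd.mp C.isBasis_affineOpens) hxW0
  have hWWa : W ≤ Wa := fun y hy => (hWW0 hy).1.1
  have hWWb : W ≤ Wb := fun y hy => (hWW0 hy).1.2
  set a' : Γ(C, W) := C.presheaf.map (homOfLE hWWa).op a with ha'
  set b' : Γ(C, W) := C.presheaf.map (homOfLE hWWb).op b with hb'
  have ha'R : a' ∈ regSub C W := regSub_res (homOfLE hWWa) haR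
  have hb'R : b' ∈ regSub C W := regSub_res (homOfLE hWWb) hbR
  have ha'n : a' ∈ Γ(C, W)⁰ := Groth.Agent.S8898.mem_nonZeroDivisors_of_germ a' ha'R
  have hb'n : b' ∈ Γ(C, W)⁰ := Groth.Agent.S8898.mem_nonZeroDivisors_of_germ b' hb'R
  haveI : IsNoetherianRing Γ(C, W) := IsLocallyNoetherian.component_noetherian ⟨W, hW⟩
  let T : Set C := {y : C | ∃ hy : y ∈ W, ringKrullDim (C.presheaf.stalk y) = 1 ∧
        ¬ IsUnit (C.presheaf.germ W y hy a')} ∪
       {y : C | ∃ hy : y ∈ W, ringKrullDim (C.presheaf.stalk y) = 1 ∧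
        ¬ IsUnit (C.presheaf.germ W y hy b')}
  have hTfin : T.Finite := (finite_setOf_not_isUnit_germ hW a' ha'n).union
    (finite_setOf_not_isUnit_germ hW b' hb'n)
  have hTdim : ∀ y ∈ T, ringKrullDim (C.presheaf.stalk y) = 1 := by
    rintro y (⟨_, h, _⟩ | ⟨_, h, _⟩) <;> exact h
  have hT'cl : IsClosed (T \ {x}) := by
    apply isClosed_of_finite_of_forall_isClosed _ (hTfin.subset Set.sdiff_subset)
    intro y hy
    by_contra hncl
    have h0 := ringKrullDim_stalk_le_zero_of_not_isClosed hC y hncl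
    rw [hTdim y hy.1] at h0
    exact absurd h0 (by decide)
  let W' : C.Opens := W ⊓ ⟨(T \ {x})ᶜ, hT'cl.isOpen_compl⟩
  have hxW' : x ∈ W' := ⟨hxW, fun h => h.2 rfl⟩
  have hW'W : W' ≤ W := inf_le_left
  set a'' : Γ(C, W') := C.presheaf.map (homOfLE hW'W).op a' with ha''
  set b'' : Γ(C, W') := C.presheaf.map (homOfLE hW'W).op b' with hb''
  have ha''R : a'' ∈ regSub C W' := regSub_res (homOfLE hW'W) ha'R
  have hb''R : b'' ∈ regSub C W' := regSub_res (homOfLE hW'W) hb'R
  obtain ⟨f, hf⟩ := exists_local_unit (⟨a'', ha''R⟩ : regSub C W') ⟨b'', hb''R⟩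
  refine ⟨W', hxW', f, ?_⟩
  intro y
  have hrep := rep_apply a'' b'' f hf y
  have hga : C.presheaf.germ W' y.1 y.2 a'' = C.presheaf.germ W y.1 (hW'W y.2) a' := by
    rw [ha'', TopCat.Presheaf.germ_res_apply]
  have hgb : C.presheaf.germ W' y.1 y.2 b'' = C.presheaf.germ W y.1 (hW'W y.2) b' := by
    rw [hb'', TopCat.Presheaf.germ_res_apply]
  by_cases hyx : y.1 = x
  · obtain ⟨y, hy⟩ := y
    simp only at hyx
    subst hyx
    rw [← hu]
    congr 1
    apply Units.ext
    have hbu : IsUnit (algebraMap (C.presheaf.stalk y) (KStalk C y) bx.1) :=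
      IsLocalization.map_units (KStalk C y) bx
    apply hbu.mul_left_injective
    change _ * _ = _ * _
    rw [hab]
    have h1 : C.presheaf.germ W' y hy a'' = ax.1 := by
      rw [hga, ha', TopCat.Presheaf.germ_res_apply]; exact haeq
    have h2 : C.presheaf.germ W' y hy b'' = bx.1 := by
      rw [hgb, hb', TopCat.Presheaf.germ_res_apply]; exact hbeq
    rw [← h1, ← h2]
    exact (rep_apply a'' b'' f hf ⟨y, hy⟩).symm
  · have hg1 : g y.1 = 1 := by
      by_contra hne
      exact (hWW0 (hW'W y.2)).2 ⟨hne, hyx⟩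
    rw [hg1]
    symm
    have hyT : y.1 ∉ T := fun h => y.2.2 ⟨h, hyx⟩
    have hunit : ∀ (c : Γ(C, W)), c ∈ regSub C W →
        (¬ ∃ hy : y.1 ∈ W, ringKrullDim (C.presheaf.stalk y.1) = 1 ∧
          ¬ IsUnit (C.presheaf.germ W y.1 hy c)) → IsUnit (C.presheaf.germ W y.1 (hW'W y.2) c) := by
      intro c hc hnot
      by_cases hycl : IsClosed ({y.1} : Set C)
      · by_contra hnu
        exact hnot ⟨hW'W y.2, hC y.1 hycl, hnu⟩
      · exact isUnit_of_mem_nonZeroDivisors_of_krullDim_le_zero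
          (ringKrullDim_stalk_le_zero_of_not_isClosed hC y.1 hycl) _ (hc ⟨y.1, hW'W y.2⟩)
    have hua : IsUnit (C.presheaf.germ W' y.1 y.2 a'') := by
      rw [hga]; exact hunit a' ha'R fun h => hyT (Or.inl h)
    have hub : IsUnit (C.presheaf.germ W' y.1 y.2 b'') := by
      rw [hgb]; exact hunit b' hb'R fun h => hyT (Or.inr h)
    exact mk_eq_one_of_isUnit _ _ _ hua hub hrep

end Helpers

/-- On an absolute curve C (Noetherian, local rings at closed points one-dimensional) the map sending a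
divisor to its germs at the closed points is an isomorphism from Div(C) onto the direct sum over the
closed points x of the groups K_{C,x}^× / O_{C,x}^× (K_{C,x} the total ring of fractions of the
local ring). With divisors realised as families of germs, this says: a family of germs is a divisor
exactly when it is trivial outside a finite set of closed points. -/
theorem result {C : Scheme.{u}} [IsNoetherian C]
    (hC : ∀ x : C, IsClosed ({x} : Set C) → ringKrullDim (C.presheaf.stalk x) = 1)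
    (g : ∀ x : C, Mero.Germ C x) :
    g ∈ Mero.divisorGroup C ↔ ({x : C | g x ≠ 1}.Finite ∧ ∀ x : C, ¬ IsClosed ({x} : Set C) → g x = 1) := by
  constructor
  · intro hg
    exact finite_supp hC ⟨g, hg⟩
  · rintro ⟨h1, h2⟩
    exact mem_divisorGroup_of_finite hC g h1 h2

end Groth.Agent.S10892
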