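import Groth.Statements.S5098
import Groth.Agent.Lib.Helper20DivDepth

set_option autoImplicit false
universe u
open CategoryTheory CategoryTheory.Limits AlgebraicGeometry TopologicalSpace
open Mero

namespace Groth.Agent.S5098

set_option linter.style.haveILetI false
open Groth.Agent.Lib.Helper20.Kmod Groth.Agent.Lib.Helper20.DivDepth Groth.Agent.Lib.Helper2.QCoh
open nonZeroDivisors

variable {X : Scheme.{u}}

theorem isEffective_of_depth_one [IsLocallyNoetherian X] (D : Divisor X)
    (H : ∀ x : X, LocCoh.depth (X.presheaf.stalk x) (X.presheaf.stalk x) = 1 → IsEffectiveAt D x) :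
    IsEffective D := by
  intro x
  obtain ⟨U, hU, hxU, a, b, ha, hb, f, hf, hab⟩ := exists_local_rep D x
  have hbreg : b ∈ regSub X U := fun y => Groth.Agent.S8898.germ_mem_nonZeroDivisors hU b hb y
  set J : Ideal Γ(X, U) := Submodule.colon (Ideal.span {b} : Submodule Γ(X, U) Γ(X, U)) {a} with hJ
  have hJmem : ∀ s : Γ(X, U), s ∈ J ↔ s * a ∈ Ideal.span {b} := fun s => by
    simp only [hJ, Submodule.mem_colon_singleton, smul_eq_mul]
  have hJtop : J = ⊤ := by
    by_contra hne
    obtain ⟨p, hp⟩ := Ideal.nonempty_minimalPrimes hne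
    haveI : p.IsPrime := hp.1.1
    let P : PrimeSpectrum Γ(X, U) := ⟨p, inferInstance⟩
    have hyU : hU.fromSpec P ∈ U := fromSpec_mem hU P
    have hPy : hU.primeIdealOf ⟨hU.fromSpec P, hyU⟩ = P := primeIdealOf_fromSpec hU P
    have hdepth := depth_eq_one_of_mem_minimalPrimes hU a b hb (hU.fromSpec P) hyU
      (by rw [hPy]; exact hp)
    have hE := H _ hdepth
    have hmem := mem_span_of_isEffectiveAt _ _ _ (germ_mem_regStalk ⟨hU.fromSpec P, hyU⟩ hbreg)
      (rep_apply a b f hab ⟨hU.fromSpec P, hyU⟩) D (hf ⟨hU.fromSpec P, hyU⟩) hE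
    obtain ⟨s, hs, hsa⟩ := (germ_mem_span_iff hU _ hyU a b).1 hmem
    rw [hPy] at hs
    exact hs (hp.1.2 ((hJmem s).2 hsa))
  have hab' : a ∈ Ideal.span {b} := by
    have h1 : (1 : Γ(X, U)) ∈ J := hJtop ▸ Submodule.mem_top
    rw [hJmem, one_mul] at h1
    exact h1
  obtain ⟨c, hc⟩ := Ideal.mem_span_singleton'.1 hab'
  refine isEffectiveAt_of_mem_span _ _ _ (germ_mem_regStalk ⟨x, hxU⟩ hbreg)
    (rep_apply a b f hab ⟨x, hxU⟩) D (hf ⟨x, hxU⟩) (Groth.Agent.S8863.result X x)
    (Groth.Agent.S8898.germ_mem_nonZeroDivisors hU a ha ⟨x, hxU⟩) ?_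
  rw [Ideal.mem_span_singleton']
  exact ⟨X.presheaf.germ U x hxU c, by rw [← map_mul, hc]⟩

theorem isEffectiveAt_of_eq_one (D : Divisor X) (x : X) (h : D.1 x = 1) : IsEffectiveAt D x := by
  refine ⟨1, ?_⟩
  rw [h, eq_comm, QuotientGroup.eq_one_iff]
  refine ⟨1, ?_⟩
  apply Units.ext
  simp

theorem eq_one_of_isEffectiveAt_inv (D : Divisor X) (x : X) (h1 : IsEffectiveAt D x)
    (h2 : IsEffectiveAt D⁻¹ x) : D.1 x = 1 := by
  obtain ⟨c, hc⟩ := h1
  obtain ⟨c', hc'⟩ := h2
  have hinv : (D⁻¹).1 x = (D.1 x)⁻¹ := rfl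
  rw [hinv, hc] at hc'
  have h3 : (QuotientGroup.mk ((IsLocalization.map_units (KStalk X x) c).unit *
      (IsLocalization.map_units (KStalk X x) c').unit) : Germ X x) = 1 := by
    rw [QuotientGroup.mk_mul, ← hc', mul_inv_cancel]
  rw [QuotientGroup.eq_one_iff] at h3
  obtain ⟨u, hu⟩ := h3
  have h4 : algebraMap (X.presheaf.stalk x) (KStalk X x) u.1 =
      algebraMap (X.presheaf.stalk x) (KStalk X x) (c.1 * c'.1) := by
    rw [map_mul]
    exact congrArg Units.val hu
  have h5 : u.1 = c.1 * c'.1 := algebraMap_KStalk_injective x h4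
  have hcu : IsUnit c.1 := isUnit_of_mul_isUnit_left (h5 ▸ u.isUnit)
  rw [hc, QuotientGroup.eq_one_iff]
  refine ⟨hcu.unit, ?_⟩
  apply Units.ext
  rfl


/-- General form, for divisors on a scheme that need not be integral: let X be a locally Noetherian
scheme and D a divisor on X. If the germ of D is effective (resp. trivial) at every point x whose
local ring O_{X,x} has depth 1, then D is effective (resp. D is the unit divisor, in the
multiplicative notation used here). -/
theorem result (X : Scheme.{u}) [IsLocallyNoetherian X] (D : Mero.Divisor X) :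
    ((∀ x : ↥X, LocCoh.depth ↑(X.presheaf.stalk x) ↑(X.presheaf.stalk x) = 1 → Mero.IsEffectiveAt D x) →
        Mero.IsEffective D) ∧
      ((∀ x : ↥X, LocCoh.depth ↑(X.presheaf.stalk x) ↑(X.presheaf.stalk x) = 1 → D.1 x = 1) → D = 1) := by
  refine ⟨isEffective_of_depth_one D, fun H => ?_⟩
  have h1 : IsEffective D :=
    isEffective_of_depth_one D fun x hx => isEffectiveAt_of_eq_one D x (H x hx)
  have h2 : IsEffective D⁻¹ :=
    isEffective_of_depth_one D⁻¹ fun x hx => isEffectiveAt_of_eq_one D⁻¹ x (by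
      change (D.1 x)⁻¹ = 1
      rw [H x hx, inv_one])
  apply Subtype.ext
  funext x
  exact eq_one_of_isEffectiveAt_inv D x (h1 x) (h2 x)

end Groth.Agent.S5098
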