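import Groth.Statements.S10894
import Groth.Agent.S10892
import Groth.Agent.S5098

set_option autoImplicit false
universe u
open CategoryTheory AlgebraicGeometry
open Curves

namespace Groth.Agent.S10894

/-- On an absolute curve C (Noetherian, local rings at closed points one-dimensional) every divisor D is
a difference of two effective divisors each supported inside the support of D (divisors are written
multiplicatively, so the difference is D₁ · D₂⁻¹). -/
theorem result {C : Scheme.{u}} [IsNoetherian C]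
    (hC : ∀ x : C, IsClosed ({x} : Set C) → ringKrullDim (C.presheaf.stalk x) = 1) (D : Mero.Divisor C) :
    ∃ D₁ D₂ : Mero.Divisor C, Mero.IsEffective D₁ ∧ Mero.IsEffective D₂ ∧ D = D₁ * D₂⁻¹ ∧
      Mero.supp D₁ ⊆ Mero.supp D ∧ Mero.supp D₂ ⊆ Mero.supp D := by
  classical
  obtain ⟨hfin, hnc⟩ := Groth.Agent.S10892.finite_supp hC D
  choose u hu using fun x : C => QuotientGroup.mk_surjective (D.1 x)
  choose a b hab using fun x : C => Groth.Agent.Lib.Helper20.AbsCurve.exists_rep_of_unit x (u x)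
  let g₁ : ∀ x : C, Mero.Germ C x := fun x =>
    if D.1 x = 1 then 1 else QuotientGroup.mk (IsLocalization.map_units (Mero.KStalk C x) (a x)).unit
  let g₂ : ∀ x : C, Mero.Germ C x := fun x =>
    if D.1 x = 1 then 1 else QuotientGroup.mk (IsLocalization.map_units (Mero.KStalk C x) (b x)).unit
  have hg₁ : ∀ x, D.1 x = 1 → g₁ x = 1 := fun x h => if_pos h
  have hg₂ : ∀ x, D.1 x = 1 → g₂ x = 1 := fun x h => if_pos h
  have hg₁' : ∀ x, D.1 x ≠ 1 →
      g₁ x = QuotientGroup.mk (IsLocalization.map_units (Mero.KStalk C x) (a x)).unit := fun x h => if_neg h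
  have hg₂' : ∀ x, D.1 x ≠ 1 →
      g₂ x = QuotientGroup.mk (IsLocalization.map_units (Mero.KStalk C x) (b x)).unit := fun x h => if_neg h
  have hs₁ : {x : C | g₁ x ≠ 1} ⊆ Mero.supp D := fun x hx h => hx (hg₁ x h)
  have hs₂ : {x : C | g₂ x ≠ 1} ⊆ Mero.supp D := fun x hx h => hx (hg₂ x h)
  have hm₁ : g₁ ∈ Mero.divisorGroup C :=
    Groth.Agent.S10892.mem_divisorGroup_of_finite hC g₁ (hfin.subset hs₁)
      fun x hx => hg₁ x (hnc x hx)
  have hm₂ : g₂ ∈ Mero.divisorGroup C :=
    Groth.Agent.S10892.mem_divisorGroup_of_finite hC g₂ (hfin.subset hs₂)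
      fun x hx => hg₂ x (hnc x hx)
  refine ⟨⟨g₁, hm₁⟩, ⟨g₂, hm₂⟩, ?_, ?_, ?_, hs₁, hs₂⟩
  · intro x
    by_cases h : D.1 x = 1
    · exact Groth.Agent.S5098.isEffectiveAt_of_eq_one _ x (hg₁ x h)
    · exact ⟨a x, hg₁' x h⟩
  · intro x
    by_cases h : D.1 x = 1
    · exact Groth.Agent.S5098.isEffectiveAt_of_eq_one _ x (hg₂ x h)
    · exact ⟨b x, hg₂' x h⟩
  · apply Subtype.ext
    funext x
    change D.1 x = g₁ x * (g₂ x)⁻¹
    by_cases h : D.1 x = 1
    · rw [hg₁ x h, hg₂ x h, h, inv_one]; exact (mul_one (1 : Mero.Germ C x)).symm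
    · rw [hg₁' x h, hg₂' x h, ← hu x, ← QuotientGroup.mk_inv, ← QuotientGroup.mk_mul]
      congr 1
      rw [eq_mul_inv_iff_mul_eq]
      apply Units.ext
      rw [Units.val_mul]
      exact hab x

end Groth.Agent.S10894
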