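import Groth.Statements.S10895
import Groth.Agent.Lib.Helper20EtLocalSch
import Groth.Agent.Lib.Helper20FlatCI
import Groth.Agent.Lib.Helper20OnePtIso

set_option autoImplicit false
universe u
open CategoryTheory AlgebraicGeometry
open FlatMor

namespace Groth.Agent.S10895

/-- A closed immersion of finite presentation which is flat at a point x is an isomorphism over some
open neighbourhood of the image of x. -/
theorem result {X Y : Scheme.{u}} (f : X ⟶ Y) [IsClosedImmersion f]
    [LocallyOfFinitePresentation f] (x : X) (hflat : (f.stalkMap x).hom.Flat) :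
    ∃ V : Y.Opens, f.base x ∈ V ∧ IsIso (f ∣_ V) := by
  have hunr : FormallyUnramified f := inferInstance
  have H1 : (f.stalkMap x).hom.FormallyUnramified := FormallyUnramified.stalkMap f x
  obtain ⟨U, hxU, hU⟩ := Groth.Agent.Lib.Helper20.EtLocal.exists_etale_nbhd f x H1 hflat
  have hopen : IsOpen (Set.range (U.ι ≫ f)) := (U.ι ≫ f).isOpenMap.isOpen_range
  let V : Y.Opens := ⟨Set.range (U.ι ≫ f), hopen⟩
  have hfV : ∀ z : X, f z ∈ V ↔ z ∈ U := by
    intro z
    constructor
    · rintro ⟨u, hu⟩
      have : f (U.ι u) = f z := by rw [← Scheme.Hom.comp_apply]; exact hu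
      rw [← f.isEmbedding.injective this]
      exact u.2
    · intro hz
      exact ⟨⟨z, hz⟩, by rw [Scheme.Hom.comp_apply]; rfl⟩
  refine ⟨V, (hfV x).mpr hxU, ?_⟩
  have h1 : IsClosedImmersion (f ∣_ V) := inferInstance
  have h3 : Surjective (f ∣_ V) := by
    apply Groth.Agent.Lib.Helper20.OnePt.surjective_morphismRestrict_of_subset_range
    rintro _ ⟨u, rfl⟩
    exact ⟨U.ι u, by rw [Scheme.Hom.comp_apply]⟩
  have h2 : Flat (f ∣_ V) := by
    apply Flat.of_stalkMap
    intro z
    have hz : (f ⁻¹ᵁ V).ι z ∈ U := (hfV _).mp z.2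
    have := Groth.Agent.Lib.Helper20.EtLocal.flat_stalkMap_of_nbhd f _ U hz
    exact (RingHom.Flat.respectsIso.arrow_mk_iso_iff (morphismRestrictStalkMap f V z)).mpr this
  exact Groth.Agent.Lib.Helper20.FlatCI.isIso_of_isClosedImmersion_of_flat_of_surjective _

end Groth.Agent.S10895
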