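import Groth.Statements.S10898
import Mathlib.RingTheory.KrullDimension.Polynomial
import Mathlib.RingTheory.Ideal.KrullsHeightTheorem
-- import your own Groth.Agent.* helpers here

set_option autoImplicit false
universe u
open Polynomial
open WDiv

namespace Groth.Agent.S10898

/-- Let A be a Noetherian integral domain and P a prime ideal of height 1 of the polynomial ring A[X].
Then either P meets A in 0 only, or its contraction p = P ∩ A is a prime of height 1 of A and P is
the extension p·A[X]. (The published lemma also assumes A regular in codimension 1; that hypothesis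
is not used for this assertion.) -/
theorem result (A : Type u) [CommRing A] [IsDomain A]
    [IsNoetherianRing A] (P : Ideal A[X]) [P.IsPrime] (hP : P.height = 1) :
    P.comap (C : A →+* A[X]) = ⊥ ∨
      ((P.comap (C : A →+* A[X])).height = 1 ∧ P = (P.comap (C : A →+* A[X])).map C) := by
  by_cases hp : P.comap (C : A →+* A[X]) = ⊥
  · exact Or.inl hp
  right
  set p := P.comap (C : A →+* A[X]) with hpdef
  haveI : p.IsPrime := Ideal.comap_isPrime _ _
  have hle : p.map C ≤ P := Ideal.map_comap_le
  have hQne : p.map (C : A →+* A[X]) ≠ ⊥ := by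
    intro h0
    apply hp
    rw [eq_bot_iff]
    intro a ha
    have : (C a : A[X]) ∈ p.map (C : A →+* A[X]) := Ideal.mem_map_of_mem _ ha
    rw [h0, Ideal.mem_bot, C_eq_zero] at this
    exact this
  have hQ1 : (1 : ℕ∞) ≤ (p.map (C : A →+* A[X])).height := by
    rw [ENat.one_le_iff_ne_zero, Ne, Ideal.height_eq_zero_iff_eq_bot]
    exact hQne
  haveI : (p.map (C : A →+* A[X])).IsPrime := Ideal.isPrime_map_C_of_isPrime
  have hQP : p.map (C : A →+* A[X]) = P :=
    Ideal.eq_of_le_of_height_le (I := p.map (C : A →+* A[X])) hle (by rw [hP]; exact hQ1)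
  refine ⟨?_, hQP.symm⟩
  haveI : P.LiesOver p := ⟨rfl⟩
  have hadd := Ideal.height_eq_height_add_of_liesOver_of_hasGoingDown p P
  have hple : p.height ≤ 1 := by
    rw [← hP, hadd]
    exact le_self_add
  have hp1 : (1 : ℕ∞) ≤ p.height := by
    rw [ENat.one_le_iff_ne_zero, Ne, Ideal.height_eq_zero_iff_eq_bot]
    exact hp
  exact le_antisymm hple hp1

end Groth.Agent.S10898
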