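import Groth.Statements.S10899
import Groth.Agent.S10898
import Mathlib.RingTheory.DedekindDomain.Dvr
import Mathlib.RingTheory.Localization.Algebra
import Mathlib.RingTheory.Localization.LocalizationLocalization
import Mathlib.RingTheory.DiscreteValuationRing.TFAE

set_option autoImplicit false
universe u
open Polynomial
open WDiv

namespace Groth.Agent.S10899

attribute [local instance] Polynomial.algebra in
theorem case1 (A : Type u) [CommRing A] [IsDomain A] [IsNoetherianRing A]
    (P : Ideal A[X]) [P.IsPrime] (hPne : P ≠ ⊥) (h0 : P.comap (C : A →+* A[X]) = ⊥) :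
    IsDiscreteValuationRing (Localization.AtPrime P) := by
  have hnf : ¬ IsField (Localization.AtPrime P) :=
    IsLocalization.AtPrime.not_isField A[X] hPne (Localization.AtPrime P)
  let K := FractionRing A
  haveI hloc : IsLocalization ((nonZeroDivisors A).map (C : A →+* A[X])) K[X] :=
    Polynomial.isLocalization (nonZeroDivisors A) K
  have hMle : (nonZeroDivisors A).map (C : A →+* A[X]) ≤ P.primeCompl := by
    rintro _ ⟨a, ha, rfl⟩
    intro haP
    have : a ∈ P.comap (C : A →+* A[X]) := haP
    rw [h0, Ideal.mem_bot] at this
    exact nonZeroDivisors.ne_zero ha this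
  have hunits : ∀ y : ((nonZeroDivisors A).map (C : A →+* A[X])),
      IsUnit (algebraMap A[X] (Localization.AtPrime P) y) := fun y =>
    IsLocalization.map_units (Localization.AtPrime P) (⟨y.1, hMle y.2⟩ : P.primeCompl)
  letI : Algebra K[X] (Localization.AtPrime P) :=
    RingHom.toAlgebra (IsLocalization.lift hunits)
  haveI : IsScalarTower A[X] K[X] (Localization.AtPrime P) :=
    IsScalarTower.of_algebraMap_eq fun x => (IsLocalization.lift_eq hunits x).symm
  haveI : IsLocalization (P.primeCompl.map (algebraMap A[X] K[X])) (Localization.AtPrime P) :=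
    IsLocalization.isLocalization_of_submonoid_le _ _ _ P.primeCompl hMle
  have hinj : Function.Injective (algebraMap A[X] K[X]) :=
    IsLocalization.injective K[X] (M := (nonZeroDivisors A).map (C : A →+* A[X])) (by
      rintro _ ⟨a, ha, rfl⟩
      exact mem_nonZeroDivisors_of_ne_zero (by simpa using nonZeroDivisors.ne_zero ha))
  have hle : P.primeCompl.map (algebraMap A[X] K[X]) ≤ nonZeroDivisors K[X] := by
    rintro _ ⟨f, hf, rfl⟩
    apply mem_nonZeroDivisors_of_ne_zero
    rw [Ne, map_eq_zero_iff _ hinj]
    rintro rfl
    exact hf P.zero_mem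
  have hded : IsDedekindDomain (Localization.AtPrime P) :=
    IsLocalization.isDedekindDomain K[X] hle (Localization.AtPrime P)
  exact ((IsDiscreteValuationRing.TFAE (Localization.AtPrime P) hnf).out 0 2).mpr hded

theorem case2 (A : Type u) [CommRing A] [IsDomain A] [IsNoetherianRing A]
    (hR1 : ∀ (p : Ideal A) [p.IsPrime], p.height = 1 →
      IsDiscreteValuationRing (Localization.AtPrime p))
    (P : Ideal A[X]) [P.IsPrime] (hPne : P ≠ ⊥)
    (hp1 : (P.comap (C : A →+* A[X])).height = 1)
    (hPeq : P = (P.comap (C : A →+* A[X])).map C) :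
    IsDiscreteValuationRing (Localization.AtPrime P) := by
  have hnf : ¬ IsField (Localization.AtPrime P) :=
    IsLocalization.AtPrime.not_isField A[X] hPne (Localization.AtPrime P)
  haveI : (P.comap (C : A →+* A[X])).IsPrime := Ideal.comap_isPrime _ _
  haveI hdvr : IsDiscreteValuationRing (Localization.AtPrime (P.comap (C : A →+* A[X]))) :=
    hR1 _ hp1
  refine ((IsDiscreteValuationRing.TFAE (Localization.AtPrime P) hnf).out 0 4).mpr ?_
  have hunits : ∀ y : (P.comap (C : A →+* A[X])).primeCompl,
      IsUnit (((algebraMap A[X] (Localization.AtPrime P)).comp (C : A →+* A[X])) y) := fun y =>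
    IsLocalization.map_units (Localization.AtPrime P) (⟨C y.1, y.2⟩ : P.primeCompl)
  have hcomp : (IsLocalization.lift hunits).comp
      (algebraMap A (Localization.AtPrime (P.comap (C : A →+* A[X])))) =
      (algebraMap A[X] (Localization.AtPrime P)).comp (C : A →+* A[X]) :=
    IsLocalization.lift_comp hunits
  have hmax : IsLocalRing.maximalIdeal (Localization.AtPrime P) =
      (IsLocalRing.maximalIdeal (Localization.AtPrime (P.comap (C : A →+* A[X])))).map
        (IsLocalization.lift hunits) := by
    rw [← Localization.AtPrime.map_eq_maximalIdeal, ← Localization.AtPrime.map_eq_maximalIdeal,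
      Ideal.map_map, hcomp, ← Ideal.map_map, ← hPeq]
  rw [hmax]
  haveI : (IsLocalRing.maximalIdeal
      (Localization.AtPrime (P.comap (C : A →+* A[X])))).IsPrincipal :=
    IsPrincipalIdealRing.principal _
  infer_instance

/-- Let A be a Noetherian integral domain which is regular in codimension 1, i.e. whose localization at
every prime ideal of height 1 is a discrete valuation ring. Then the polynomial ring A[X] is regular
in codimension 1 as well: its localization at every prime ideal of height 1 is a discrete valuation
ring. -/
theorem result (A : Type u) [CommRing A]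
    [IsDomain A] [IsNoetherianRing A]
    (hR1 : ∀ (p : Ideal A) [p.IsPrime], p.height = 1 → IsDiscreteValuationRing (Localization.AtPrime p))
    (P : Ideal A[X]) [P.IsPrime] (hP : P.height = 1) :
    IsDiscreteValuationRing (Localization.AtPrime P) := by
  have hPne : P ≠ ⊥ := Ideal.ne_bot_of_height_eq_one hP
  have hnf : ¬ IsField (Localization.AtPrime P) :=
    IsLocalization.AtPrime.not_isField A[X] hPne (Localization.AtPrime P)
  rcases Groth.Agent.S10898.result A P hP with h0 | ⟨hp1, hPeq⟩
  · exact case1 A P hPne h0
  · exact case2 A hR1 P hPne hp1 hPeq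

end Groth.Agent.S10899
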