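import Groth.Statements.S1090
import Mathlib
import Groth.Agent.Lib.Helper21FilD5

set_option autoImplicit false
universe v u
open CategoryTheory CategoryTheory.Limits Opposite
open FilD

namespace Groth.Agent.S1090

/-- Let A be an abelian category with enough injectives, f : X ⟶ Y a morphism of finite filtered
objects, and X[0] ⟶ I, Y[0] ⟶ J filtered quasi-isomorphisms into complexes of filtered injective
objects vanishing in negative degrees. Then there is a morphism of complexes I ⟶ J making the
evident square with f[0] commute. -/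
theorem result {A : Type u} [Category.{v} A] [Abelian A] [EnoughInjectives A] {X Y : FilD.FilF A} (f : X ⟶ Y)
    (I : CochainComplex (FilD.FilF A) ℤ) [I.IsStrictlyGE 0] (hI : ∀ n, FilD.IsFilteredInjective (I.X n))
    (a : (CochainComplex.singleFunctor (FilD.FilF A) 0).obj X ⟶ I) (ha : FilD.IsFilteredQuasiIso a)
    (J : CochainComplex (FilD.FilF A) ℤ) [J.IsStrictlyGE 0] (hJ : ∀ n, FilD.IsFilteredInjective (J.X n))
    (b : (CochainComplex.singleFunctor (FilD.FilF A) 0).obj Y ⟶ J) (hb : FilD.IsFilteredQuasiIso b) :
    ∃ φ : I ⟶ J, a ≫ φ = (CochainComplex.singleFunctor (FilD.FilF A) 0).map f ≫ b := by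
  obtain ⟨β, hβ⟩ := (Groth.Agent.Lib.Helper21.FilD.bijective_precomp J 0 hJ a ha).2
    ((HomotopyCategory.quotient (FilD.FilF A) (ComplexShape.up ℤ)).map
      ((CochainComplex.singleFunctor (FilD.FilF A) 0).map f ≫ b))
  obtain ⟨φ, rfl⟩ := (HomotopyCategory.quotient _ _).map_surjective β
  refine ⟨φ, ?_⟩
  replace hβ : (HomotopyCategory.quotient (FilD.FilF A) (ComplexShape.up ℤ)).map (a ≫ φ) =
      (HomotopyCategory.quotient (FilD.FilF A) (ComplexShape.up ℤ)).map
        ((CochainComplex.singleFunctor (FilD.FilF A) 0).map f ≫ b) := by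
    rw [Functor.map_comp]; exact hβ
  have h := HomotopyCategory.homotopyOfEq _ _ hβ
  have hzero : ∀ i j, h.hom i j = 0 := by
    intro i j
    by_cases hi : i = 0
    · subst hi
      by_cases hj : j + 1 = 0
      · have hj' : j = -1 := by omega
        subst hj'
        exact (J.isZero_of_isStrictlyGE 0 (-1) (by omega)).eq_of_tgt _ _
      · exact h.zero _ _ hj
    · exact (HomologicalComplex.isZero_single_obj_X (ComplexShape.up ℤ) 0 X i hi).eq_of_src _ _
  ext n : 1
  have hc := h.comm n
  rw [dNext_eq _ (show (ComplexShape.up ℤ).Rel n (n + 1) from rfl),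
    prevD_eq _ (show (ComplexShape.up ℤ).Rel (n - 1) n by simp), hzero, hzero, comp_zero,
    zero_comp, zero_add, zero_add] at hc
  exact hc

end Groth.Agent.S1090
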