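import Groth.Statements.S10903
import Groth.Agent.Lib.Helper28Unmixed
-- import your own Groth.Agent.* helpers here

set_option autoImplicit false
universe u
open CInt

namespace Groth.Agent.S10903
open Groth.Agent.Lib.Helper28

/-- Let k be a field, S = k[x_0, …, x_n], and f_1, …, f_r with r ≤ n homogeneous polynomials of positive
degrees whose ideal J = (f_1, …, f_r) has height r — the subscheme of P^n_k cut out by the
hypersurfaces f_i = 0 has codimension r, an ideal-theoretic complete intersection. Then J is
saturated with respect to the irrelevant ideal (x_0, …, x_n): an element g of S such that, for each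
i, x_i^m g ∈ J for some m, already lies in J. Hence J is the full homogeneous ideal of that
subscheme (a global complete intersection). -/
theorem result (k : Type u) [Field k] (n r : ℕ)
    (hr : r ≤ n) (f : Fin r → MvPolynomial (Fin (n + 1)) k) (d : Fin r → ℕ)
    (hf : ∀ i, (f i).IsHomogeneous (d i)) (hd : ∀ i, 0 < d i)
    (hJ : (Ideal.span (Set.range f)).height = r) (g : MvPolynomial (Fin (n + 1)) k)
    (hg : ∀ i : Fin (n + 1), ∃ m : ℕ, MvPolynomial.X i ^ m * g ∈ Ideal.span (Set.range f)) :
    g ∈ Ideal.span (Set.range f) := by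
  by_contra hgJ
  have hk : LocCoh.IsCohenMacaulayRing k := isCohenMacaulayRing_of_field k
  have hS : LocCoh.IsCohenMacaulayRing (MvPolynomial (Fin (n + 1)) k) :=
    isCohenMacaulayRing_mvPolynomial_fin (n + 1)
  set xs : List (MvPolynomial (Fin (n + 1)) k) := List.ofFn f with hxs
  have hof : Ideal.ofList xs = Ideal.span (Set.range f) := by
    unfold Ideal.ofList
    congr 1
    ext x
    simp [hxs, List.mem_ofFn]
  have hlen : xs.length = r := by simp [hxs]
  -- the class of `g` is a nonzero element of the quotient
  set z : MvPolynomial (Fin (n + 1)) k ⧸ (Ideal.ofList xs • ⊤ :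
      Submodule (MvPolynomial (Fin (n + 1)) k) (MvPolynomial (Fin (n + 1)) k)) :=
    Submodule.Quotient.mk g with hz
  have hsm : (Ideal.ofList xs • ⊤ :
      Submodule (MvPolynomial (Fin (n + 1)) k) (MvPolynomial (Fin (n + 1)) k)) =
      Ideal.span (Set.range f) := by
    rw [smul_eq_mul, Ideal.mul_top, hof]
  have hz0 : z ≠ 0 := by
    intro h
    rw [hz, Submodule.Quotient.mk_eq_zero, hsm] at h
    exact hgJ h
  obtain ⟨P, hPass, hPle⟩ := exists_le_isAssociatedPrime_of_isNoetherianRing
    (MvPolynomial (Fin (n + 1)) k) z hz0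
  have hPp : P.IsPrime := hPass.isPrime
  have hXP : ∀ i, (MvPolynomial.X i : MvPolynomial (Fin (n + 1)) k) ∈ P := by
    intro i
    obtain ⟨m, hm⟩ := hg i
    have : MvPolynomial.X i ^ m ∈ P := by
      apply hPle
      rw [Submodule.mem_colon_singleton, Submodule.mem_bot, hz, ← Submodule.Quotient.mk_smul,
        Submodule.Quotient.mk_eq_zero, hsm, smul_eq_mul]
      exact hm
    exact hPp.mem_of_pow_mem m this
  have h1 := natCast_le_height_of_forall_X_mem (k := k) (n + 1) P hXP
  have h2 := height_eq_length_of_mem_associatedPrimes_quot_ofList xs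
    (by rw [hof, hJ, hlen]) hPass
  rw [h2, hlen] at h1
  have : n + 1 ≤ r := by exact_mod_cast h1
  omega

end Groth.Agent.S10903
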