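import Groth.Statements.S10904
import Groth.Agent.Lib.Helper4HilbFunA
import Groth.Agent.Lib.Helper4HilbFunC

set_option autoImplicit false
universe u
open Polynomial
open ProjDeg

namespace Groth.Agent.S10904

/-- Let k be a field, R = k[X_0, …, X_n] graded by degree, I a homogeneous prime ideal of R, f a
homogeneous element of degree d ≥ 1 not in I, and I' = I + (f). Let P be the Hilbert polynomial of
R/I and Q that of R/I': rational polynomials whose value at every large integer m is the k-dimension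
of the degree-m piece, i.e. dim R_m − dim (I ∩ R_m). Assume P has degree at least 1, i.e. the
projective variety V(I) ⊆ P^n_k has dimension ≥ 1. Then Q has degree deg P − 1, and the degrees of
the projective schemes, (degree of the Hilbert polynomial)! times its leading coefficient, satisfy
deg V(I') = d · deg V(I). (The published statement has no dimension hypothesis; for V(I) a single
point the left side is 0 and the right side is d · deg V(I) ≠ 0, and the printed proof uses dim
V(I') = dim V(I) − 1.) -/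
theorem result (k : Type u) [Field k] (n : ℕ)
    (I : Ideal (MvPolynomial (Fin (n + 1)) k)) (hIh : I.IsHomogeneous (CohB1.polyGrading n k)) [I.IsPrime]
    (f : MvPolynomial (Fin (n + 1)) k) (d : ℕ) (hd : 0 < d) (hf : f.IsHomogeneous d) (hfI : f ∉ I)
    (P Q : ℚ[X])
    (hP : ∃ m₀ : ℕ, ∀ m : ℕ, m₀ ≤ m → P.eval (m : ℚ) =
      (Module.finrank k ↥(CohB1.polyGrading n k m) : ℚ) -
        Module.finrank k ↥(Submodule.restrictScalars k I ⊓ CohB1.polyGrading n k m))
    (hQ : ∃ m₀ : ℕ, ∀ m : ℕ, m₀ ≤ m → Q.eval (m : ℚ) =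
      (Module.finrank k ↥(CohB1.polyGrading n k m) : ℚ) -
        Module.finrank k ↥(Submodule.restrictScalars k (I ⊔ Ideal.span {f}) ⊓ CohB1.polyGrading n k m))
    (hdim : 1 ≤ P.natDegree) :
    Q.natDegree + 1 = P.natDegree ∧
      (Q.natDegree.factorial : ℚ) * Q.leadingCoeff =
        d * ((P.natDegree.factorial : ℚ) * P.leadingCoeff) := by
  classical
  obtain ⟨mP, hP⟩ := hP
  obtain ⟨mQ, hQ⟩ := hQ
  have hfm : f ∈ MvPolynomial.homogeneousSubmodule (Fin (n + 1)) k d :=
    (MvPolynomial.mem_homogeneousSubmodule _ _).mpr hf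
  have hreg : ∀ g, f * g ∈ I → g ∈ I := fun g hg =>
    (Ideal.IsPrime.mem_or_mem inferInstance hg).resolve_left hfI
  have hPe : ∀ m, mP ≤ m → P.eval (m : ℚ) = (Groth.Agent.Lib.Helper4.HilbFun.hilb I m : ℚ) := by
    intro m hm
    rw [hP m hm, Groth.Agent.Lib.Helper4.HilbFun.finrank_eq_hilb_add I m]
    push_cast
    ring
  have hQe : ∀ m, mQ ≤ m → Q.eval (m : ℚ) =
      (Groth.Agent.Lib.Helper4.HilbFun.hilb (I ⊔ Ideal.span {f}) m : ℚ) := by
    intro m hm
    rw [hQ m hm, Groth.Agent.Lib.Helper4.HilbFun.finrank_eq_hilb_add (I ⊔ Ideal.span {f}) m]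
    push_cast
    ring
  have hkey : ∀ m, max (mP + d) mQ ≤ m →
      Q.eval (m : ℚ) = (P - P.comp (X - C (d : ℚ))).eval (m : ℚ) := by
    intro m hm
    have hdm : d ≤ m := le_trans (le_trans (Nat.le_add_left d mP) (le_max_left _ _)) hm
    have h1 : mP ≤ m := le_trans (le_trans (Nat.le_add_right mP d) (le_max_left _ _)) hm
    have h2 : mP ≤ m - d := by
      have := le_trans (le_max_left (mP + d) mQ) hm
      omega
    have h3 : mQ ≤ m := le_trans (le_max_right _ _) hm
    rw [hQe m h3, eval_sub, eval_comp, eval_sub, eval_X, eval_C, hPe m h1, ← Nat.cast_sub hdm,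
      hPe (m - d) h2, Groth.Agent.Lib.Helper4.HilbFun.hilb_eq_add I hIh f d hfm hreg m hdm]
    push_cast
    ring
  have hQeq : Q = P - P.comp (X - C (d : ℚ)) := by
    apply Polynomial.eq_of_infinite_eval_eq
    refine Set.infinite_of_injective_forall_mem
      (f := fun m : ℕ => ((m + max (mP + d) mQ : ℕ) : ℚ)) ?_ ?_
    · intro a b hab
      have hab' : ((a + max (mP + d) mQ : ℕ) : ℚ) = ((b + max (mP + d) mQ : ℕ) : ℚ) := hab
      have : a + max (mP + d) mQ = b + max (mP + d) mQ := by exact_mod_cast hab'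
      omega
    · intro m
      exact hkey _ (Nat.le_add_left _ _)
  obtain ⟨D, hD⟩ : ∃ D, P.natDegree = D + 1 := ⟨P.natDegree - 1, by omega⟩
  have hd0 : (d : ℚ) ≠ 0 := by exact_mod_cast hd.ne'
  have hnat := Groth.Agent.Lib.Helper4.HilbFun.natDegree_sub_comp P (d : ℚ) hd0 D hD
  have hlc := Groth.Agent.Lib.Helper4.HilbFun.leadingCoeff_sub_comp P (d : ℚ) hd0 D hD
  rw [hQeq, hnat, hlc, hD]
  refine ⟨rfl, ?_⟩
  rw [Nat.factorial_succ]
  push_cast
  ring

end Groth.Agent.S10904
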