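import Groth.Statements.S10907
import Groth.Agent.Lib.Helper4HilbFunA
import Groth.Agent.Lib.Helper4HilbFunB
import Groth.Agent.Lib.Helper4HilbFunC

set_option autoImplicit false
set_option linter.style.haveILetI false
universe u
open Polynomial
open ProjDeg

namespace Groth.Agent.S10907

/-- Let k be a field, R = k[X_0, …, X_n] graded by degree, and I a homogeneous ideal whose Hilbert
polynomial P (a rational polynomial with P(m) = dim_k R_m − dim_k (I ∩ R_m) for all large m) is
nonzero, i.e. the projective scheme V_+(I) ⊆ P^n_k is nonempty. Then the Krull dimension of R/I (the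
affine cone) equals deg P + 1; the dimension of V_+(I) itself is deg P. -/
theorem result (k : Type u) [Field k]
    (n : ℕ) (I : Ideal (MvPolynomial (Fin (n + 1)) k)) (hIh : I.IsHomogeneous (CohB1.polyGrading n k))
    (P : ℚ[X]) (hP0 : P ≠ 0)
    (hP : ∃ m₀ : ℕ, ∀ m : ℕ, m₀ ≤ m → P.eval (m : ℚ) =
      (Module.finrank k ↥(CohB1.polyGrading n k m) : ℚ) -
        Module.finrank k ↥(Submodule.restrictScalars k I ⊓ CohB1.polyGrading n k m)) :
    ringKrullDim (MvPolynomial (Fin (n + 1)) k ⧸ I) = (P.natDegree : WithBot ℕ∞) + 1 := by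
  classical
  obtain ⟨m₀, hP⟩ := hP
  have hPe : ∀ m, m₀ ≤ m → P.eval (m : ℚ) = (Groth.Agent.Lib.Helper4.HilbFun.hilb I m : ℚ) := by
    intro m hm
    rw [hP m hm, Groth.Agent.Lib.Helper4.HilbFun.finrank_eq_hilb_add I m]
    push_cast
    ring
  -- if the Hilbert function vanishes eventually then `P = 0`
  have hzero : ∀ N : ℕ, (∀ m, N ≤ m → Groth.Agent.Lib.Helper4.HilbFun.hilb I m = 0) → False := by
    intro N hN
    apply hP0
    apply Polynomial.eq_zero_of_infinite_isRoot
    refine Set.infinite_of_injective_forall_mem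
      (f := fun m : ℕ => ((m + max m₀ N : ℕ) : ℚ)) ?_ ?_
    · intro a b hab
      have hab' : ((a + max m₀ N : ℕ) : ℚ) = ((b + max m₀ N : ℕ) : ℚ) := hab
      have : a + max m₀ N = b + max m₀ N := by exact_mod_cast hab'
      omega
    · intro m
      change P.IsRoot _
      rw [Polynomial.IsRoot.def,
        hPe _ (le_trans (le_max_left m₀ N) (Nat.le_add_left _ _)),
        hN _ (le_trans (le_max_right m₀ N) (Nat.le_add_left _ _))]
      simp
  by_cases hI : I = ⊤
  · exfalso
    subst hI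
    exact hzero 0 (fun m _ => Groth.Agent.Lib.Helper4.HilbFun.hilb_top k n m)
  haveI : Nontrivial (MvPolynomial (Fin (n + 1)) k ⧸ I) := Ideal.Quotient.nontrivial_iff.mpr hI
  have hbot : ringKrullDim (MvPolynomial (Fin (n + 1)) k ⧸ I) ≠ ⊥ := by
    intro h
    have h0 := ringKrullDim_nonneg_of_nontrivial (R := MvPolynomial (Fin (n + 1)) k ⧸ I)
    rw [h] at h0
    exact absurd h0 (by decide)
  have hle : ringKrullDim (MvPolynomial (Fin (n + 1)) k ⧸ I) ≤ ((n + 1 : ℕ) : WithBot ℕ∞) := by
    refine (ringKrullDim_le_of_surjective (Ideal.Quotient.mk I)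
      Ideal.Quotient.mk_surjective).trans ?_
    rw [MvPolynomial.ringKrullDim_of_isNoetherianRing, ringKrullDim_eq_zero_of_field]
    simp
  obtain ⟨d, hd⟩ : ∃ d : ℕ, ringKrullDim (MvPolynomial (Fin (n + 1)) k ⧸ I) = d := by
    generalize ringKrullDim (MvPolynomial (Fin (n + 1)) k ⧸ I) = x at hbot hle
    induction x using WithBot.recBotCoe with
    | bot => exact absurd rfl hbot
    | coe a =>
      have ha : a ≤ ((n + 1 : ℕ) : ℕ∞) := by exact_mod_cast hle
      obtain ⟨d, rfl⟩ := ENat.ne_top_iff_exists.mp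
        (ne_top_of_le_ne_top (ENat.natCast_ne_top (n + 1)) ha)
      exact ⟨d, rfl⟩
  rcases Nat.eq_zero_or_pos d with hd0 | hdpos
  · exfalso
    subst hd0
    obtain ⟨N, hN⟩ := Groth.Agent.Lib.Helper4.HilbFun.hilb_eq_zero_of_dim_le_zero k n I hIh
      (by rw [hd]; exact_mod_cast le_refl 0)
    exact hzero N hN
  obtain ⟨e, rfl⟩ : ∃ e, d = e + 1 := ⟨d - 1, by omega⟩
  -- upper bound
  obtain ⟨K, hK⟩ := Groth.Agent.Lib.Helper4.HilbFun.exists_hilb_le k n e I hIh hd.le
  have hup : P.natDegree ≤ e := by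
    apply Groth.Agent.Lib.Helper4.HilbFun.natDegree_le_of_abs_eval_le P e (K : ℚ) m₀
    intro m hm
    rw [hPe m hm, abs_of_nonneg (by positivity)]
    exact_mod_cast hK m
  -- lower bound
  have hlow : e ≤ P.natDegree := by
    have hc : (0 : ℚ) < 1 / (e.factorial : ℚ) := by positivity
    apply Groth.Agent.Lib.Helper4.HilbFun.le_natDegree_of_le_eval P e (1 / (e.factorial : ℚ)) hc m₀
    intro m hm
    rw [hPe m hm]
    have h1 := Groth.Agent.Lib.Helper4.HilbFun.choose_le_hilb I (e + 1) hd m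
    have h2 : (e + 1 + m - 1).choose m = (e + m).choose e := by
      have : e + 1 + m - 1 = e + m := by omega
      rw [this]
      exact (Nat.choose_symm_add (a := e) (b := m)).symm
    rw [h2] at h1
    have h3 := Nat.pow_le_choose (α := ℚ) e (e + m)
    have h4 : e + m + 1 - e = m + 1 := by omega
    rw [h4] at h3
    have h5 : (m : ℚ) ^ e ≤ ((m + 1 : ℕ) : ℚ) ^ e := by
      apply pow_le_pow_left₀ (by positivity)
      push_cast
      linarith
    have h6 : (1 / (e.factorial : ℚ)) * (m : ℚ) ^ e ≤ ((m + 1 : ℕ) : ℚ) ^ e / (e.factorial : ℚ) := by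
      rw [one_div, inv_mul_eq_div]
      exact div_le_div_of_nonneg_right h5 (by positivity)
    calc (1 / (e.factorial : ℚ)) * (m : ℚ) ^ e ≤ ((m + 1 : ℕ) : ℚ) ^ e / (e.factorial : ℚ) := h6
      _ ≤ (((e + m).choose e : ℕ) : ℚ) := h3
      _ ≤ (Groth.Agent.Lib.Helper4.HilbFun.hilb I m : ℚ) := by exact_mod_cast h1
  have hdeg : P.natDegree = e := le_antisymm hup hlow
  rw [hd, hdeg]
  push_cast
  rfl

end Groth.Agent.S10907
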