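import Groth.Statements.S10906
import Groth.Agent.S10907
import Groth.Agent.Lib.Helper4HilbMultA
import Groth.Agent.Lib.Helper4HilbMultB
import Groth.Agent.Lib.Helper4HilbMultC
import Groth.Agent.Lib.Helper27ProjHypConn

set_option autoImplicit false
set_option linter.style.haveILetI false
universe u
open Polynomial
open ProjDeg

namespace Groth.Agent.S10906

/-- Let k be a field, R = k[X_0, …, X_n] graded by degree, I a homogeneous ideal with Hilbert polynomial
P (a rational polynomial with P(m) = dim_k R_m − dim_k (I ∩ R_m) for all large m), and p_1, …, p_r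
the minimal prime ideals over I, listed without repetition, with Hilbert polynomials Q_i; put t =
deg P. Defining the degree of V(J) as (degree of its Hilbert polynomial)! times the leading
coefficient and the multiplicity of the component V(p_i) in Y = V(I) as the length of (R/I)_{p_i}
over R_{p_i}, the degree of Y is the sum, over the components of top dimension (those i with deg Q_i
= t), of multiplicity times degree: deg Y = Σ_{deg Q_i = t} i(Y_i; Y) · deg V(p_i). -/
theorem result (k : Type u) [Field k] (n : ℕ)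
    (I : Ideal (MvPolynomial (Fin (n + 1)) k)) (hIh : I.IsHomogeneous (CohB1.polyGrading n k))
    (P : ℚ[X])
    (hP : ∃ m₀ : ℕ, ∀ m : ℕ, m₀ ≤ m → P.eval (m : ℚ) =
      (Module.finrank k ↥(CohB1.polyGrading n k m) : ℚ) -
        Module.finrank k ↥(Submodule.restrictScalars k I ⊓ CohB1.polyGrading n k m))
    (r : ℕ) (p : Fin r → Ideal (MvPolynomial (Fin (n + 1)) k)) [hp : ∀ i, (p i).IsPrime] (hpinj : Function.Injective p)
    (hpmin : ∀ q : Ideal (MvPolynomial (Fin (n + 1)) k), q ∈ I.minimalPrimes ↔ ∃ i, q = p i)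
    (Qp : Fin r → ℚ[X])
    (hQp : ∀ i, ∃ m₀ : ℕ, ∀ m : ℕ, m₀ ≤ m → (Qp i).eval (m : ℚ) =
      (Module.finrank k ↥(CohB1.polyGrading n k m) : ℚ) -
        Module.finrank k ↥(Submodule.restrictScalars k (p i) ⊓ CohB1.polyGrading n k m)) :
    (P.natDegree.factorial : ℚ) * P.leadingCoeff =
      ∑ i : Fin r, if (Qp i).natDegree = P.natDegree then
        ((Qp i).natDegree.factorial : ℚ) * (Qp i).leadingCoeff *
          (Module.length (Localization.AtPrime (p i))
            (LocalizedModule (p i).primeCompl (MvPolynomial (Fin (n + 1)) k ⧸ I))).toNat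
      else 0 := by
  classical
  obtain ⟨m₀, hP⟩ := hP
  have hPe : ∀ m, m₀ ≤ m → P.eval (m : ℚ) = (Groth.Agent.Lib.Helper4.HilbFun.hilb I m : ℚ) := by
    intro m hm
    rw [hP m hm, Groth.Agent.Lib.Helper4.HilbFun.finrank_eq_hilb_add I m]
    push_cast
    ring
  obtain ⟨t, ht⟩ : ∃ t, P.natDegree = t := ⟨_, rfl⟩
  have hL : ((Groth.Agent.Lib.Helper4.HilbFun.mult t I : ℤ) : ℚ) =
      (t.factorial : ℚ) * P.leadingCoeff := by
    rw [Groth.Agent.Lib.Helper4.HilbFun.mult_eq_of_hilbertPoly I P t ht.le m₀ hPe, ← ht]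
    rfl
  -- the dimension of `R/I`
  have hdimI : ringKrullDim (MvPolynomial (Fin (n + 1)) k ⧸ I) ≤ ((t + 1 : ℕ) : WithBot ℕ∞) := by
    by_cases hP0 : P = 0
    · by_cases hI : I = ⊤
      · subst hI
        haveI : Subsingleton (MvPolynomial (Fin (n + 1)) k ⧸ (⊤ : Ideal (MvPolynomial (Fin (n + 1)) k))) :=
          Ideal.Quotient.subsingleton_iff.mpr rfl
        rw [ringKrullDim_eq_bot_of_subsingleton]
        exact bot_le
      haveI : Nontrivial (MvPolynomial (Fin (n + 1)) k ⧸ I) := Ideal.Quotient.nontrivial_iff.mpr hI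
      have hbot : ringKrullDim (MvPolynomial (Fin (n + 1)) k ⧸ I) ≠ ⊥ := by
        intro h
        have h0 := ringKrullDim_nonneg_of_nontrivial (R := MvPolynomial (Fin (n + 1)) k ⧸ I)
        rw [h] at h0
        exact absurd h0 (by decide)
      have hle : ringKrullDim (MvPolynomial (Fin (n + 1)) k ⧸ I) ≤ ((n + 1 : ℕ) : WithBot ℕ∞) := by
        refine (ringKrullDim_le_of_surjective (Ideal.Quotient.mk I)
          Ideal.Quotient.mk_surjective).trans ?_
        rw [MvPolynomial.ringKrullDim_of_isNoetherianRing, ringKrullDim_eq_zero_of_field]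
        simp
      obtain ⟨d, hd⟩ : ∃ d : ℕ, ringKrullDim (MvPolynomial (Fin (n + 1)) k ⧸ I) = d := by
        generalize ringKrullDim (MvPolynomial (Fin (n + 1)) k ⧸ I) = x at hbot hle
        induction x using WithBot.recBotCoe with
        | bot => exact absurd rfl hbot
        | coe a =>
          have ha : a ≤ ((n + 1 : ℕ) : ℕ∞) := by exact_mod_cast hle
          obtain ⟨d, rfl⟩ := ENat.ne_top_iff_exists.mp
            (ne_top_of_le_ne_top (ENat.natCast_ne_top (n + 1)) ha)
          exact ⟨d, rfl⟩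
      have h1 := Groth.Agent.Lib.Helper4.HilbFun.choose_le_hilb I d hd m₀
      have h2 : (Groth.Agent.Lib.Helper4.HilbFun.hilb I m₀ : ℚ) = 0 := by
        rw [← hPe m₀ le_rfl, hP0]
        simp
      have h3 : Groth.Agent.Lib.Helper4.HilbFun.hilb I m₀ = 0 := by exact_mod_cast h2
      rw [h3] at h1
      have h4 : d = 0 := by
        by_contra hne
        have : 0 < (d + m₀ - 1).choose m₀ := Nat.choose_pos (by omega)
        omega
      rw [hd, h4]
      exact_mod_cast Nat.zero_le (t + 1)
    · rw [Groth.Agent.S10907.result k n I hIh P hP0 ⟨m₀, hP⟩, ht]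
      push_cast
      exact le_rfl
  -- the minimal primes cover the primes of top dimension
  have hcov : ∀ q : Ideal (MvPolynomial (Fin (n + 1)) k), q.IsPrime → I ≤ q →
      ringKrullDim (MvPolynomial (Fin (n + 1)) k ⧸ q) = ((t + 1 : ℕ) : WithBot ℕ∞) →
        ∃ i, q = p i := by
    intro q hq hIq hdq
    obtain ⟨q₀, hq₀min, hq₀le⟩ := Ideal.exists_minimalPrimes_le hIq
    haveI := hq₀min.1.1
    have hdq₀ : ringKrullDim (MvPolynomial (Fin (n + 1)) k ⧸ q₀) =
        ((t + 1 : ℕ) : WithBot ℕ∞) := by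
      apply le_antisymm
      · exact (Groth.Agent.Lib.Helper4.HilbFun.ringKrullDim_quotient_anti hq₀min.1.2).trans hdimI
      · rw [← hdq]
        exact Groth.Agent.Lib.Helper4.HilbFun.ringKrullDim_quotient_anti hq₀le
    have heq := Groth.Agent.Lib.Helper4.HilbFun.eq_of_le_of_dim_eq q₀ q hq₀le (t + 1) hdq₀ hdq
    rw [← heq]
    exact (hpmin q₀).mp hq₀min
  obtain ⟨-, hsum⟩ := Groth.Agent.Lib.Helper4.HilbFun.mult_eq_sum k n I hIh t hdimI p hpinj hcov
  rw [ht, ← hL, hsum, Int.cast_sum]
  apply Finset.sum_congr rfl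
  intro i _
  obtain ⟨mi, hQi⟩ := hQp i
  have hQe : ∀ m, mi ≤ m →
      (Qp i).eval (m : ℚ) = (Groth.Agent.Lib.Helper4.HilbFun.hilb (p i) m : ℚ) := by
    intro m hm
    rw [hQi m hm, Groth.Agent.Lib.Helper4.HilbFun.finrank_eq_hilb_add (p i) m]
    push_cast
    ring
  have hlen : (Module.length (Localization.AtPrime (p i))
      (LocalizedModule (p i).primeCompl (MvPolynomial (Fin (n + 1)) k ⧸ I))) =
      Groth.Agent.Lib.Helper4.HilbFun.locLength I (p i) := rfl
  rw [hlen]
  by_cases hQ0 : Qp i = 0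
  · have hz : Groth.Agent.Lib.Helper4.HilbFun.mult t (p i) = 0 := by
      apply Groth.Agent.Lib.Helper4.HilbFun.mult_eq_zero_of_evZero
      refine ⟨mi, fun m hm => ?_⟩
      have h1 := hQe m hm
      rw [hQ0] at h1
      rw [Groth.Agent.Lib.Helper4.HilbFun.hfun_apply]
      have h2 : (Groth.Agent.Lib.Helper4.HilbFun.hilb (p i) m : ℚ) = 0 := by
        rw [← h1]
        simp
      exact_mod_cast h2
    rw [hz, hQ0]
    simp
  · have hpih : (p i).IsHomogeneous (CohB1.polyGrading n k) :=
      Groth.Agent.Lib.Helper27ProjHypConn.isHomogeneous_of_mem_minimalPrimes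
        (CohB1.polyGrading n k) hIh ((hpmin (p i)).mpr ⟨i, rfl⟩)
    have hdi := Groth.Agent.S10907.result k n (p i) hpih (Qp i) hQ0 ⟨mi, hQi⟩
    by_cases hdeg : (Qp i).natDegree = t
    · have hc : ringKrullDim (MvPolynomial (Fin (n + 1)) k ⧸ p i) =
          ((t + 1 : ℕ) : WithBot ℕ∞) := by
        rw [hdi, hdeg]
        push_cast
        rfl
      rw [if_pos hdeg, if_pos hc, Int.cast_mul,
        Groth.Agent.Lib.Helper4.HilbFun.mult_eq_of_hilbertPoly (p i) (Qp i) t hdeg.le mi hQe,
        Polynomial.leadingCoeff, hdeg]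
      push_cast
      ring
    · have hc : ¬ ringKrullDim (MvPolynomial (Fin (n + 1)) k ⧸ p i) =
          ((t + 1 : ℕ) : WithBot ℕ∞) := by
        intro h
        rw [hdi] at h
        apply hdeg
        have h2 : (((Qp i).natDegree + 1 : ℕ) : WithBot ℕ∞) = ((t + 1 : ℕ) : WithBot ℕ∞) := by
          rw [← h]
          push_cast
          rfl
        have h3 : (Qp i).natDegree + 1 = t + 1 := by exact_mod_cast h2
        omega
      rw [if_neg hdeg, if_neg hc]
      rfl

end Groth.Agent.S10906
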