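import Groth.Statements.S10905
import Groth.Agent.S10904
import Groth.Agent.S10906
import Groth.Agent.S10907
import Groth.Agent.Lib.Helper4ProjCone
import Groth.Agent.Lib.Helper4HilbFunA
import Groth.Agent.Lib.Helper4HilbFunB
import Groth.Agent.Lib.Helper27ProjHypConn

set_option autoImplicit false
set_option linter.style.haveILetI false
universe u
open Polynomial
open ProjDeg

namespace Groth.Agent.S10905

/-- Let k be a field, R = k[X_0, …, X_n] graded by degree, I a homogeneous prime ideal whose Hilbert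
polynomial P (a rational polynomial with P(m) = dim_k R_m − dim_k (I ∩ R_m) for all large m) has
degree ≥ 1, so that Y = V(I) is a projective variety of dimension ≥ 1; let f ∉ I be homogeneous of
degree d ≥ 1, I' = I + (f), and p_1, …, p_r the minimal prime ideals over I' (listed without
repetition), with Hilbert polynomials Q_i. Define the degree of V(J) as (degree of its Hilbert
polynomial)! times the leading coefficient, and the intersection multiplicity of I and (f) at p_i as
the length of (R/I')_{p_i} over R_{p_i}. Then d · deg Y = Σ_i deg V(p_i) · i(I, (f); p_i). (The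
published statement has no dimension hypothesis; for Y a single point the only minimal prime over I'
is the irrelevant ideal, whose Hilbert polynomial is 0, so the right side vanishes while the left
side does not.) -/
theorem result (k : Type u) [Field k] (n : ℕ)
    (I : Ideal (MvPolynomial (Fin (n + 1)) k)) (hIh : I.IsHomogeneous (CohB1.polyGrading n k)) [I.IsPrime]
    (f : MvPolynomial (Fin (n + 1)) k) (d : ℕ) (hd : 0 < d) (hf : f.IsHomogeneous d) (hfI : f ∉ I)
    (P : ℚ[X])
    (hP : ∃ m₀ : ℕ, ∀ m : ℕ, m₀ ≤ m → P.eval (m : ℚ) =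
      (Module.finrank k ↥(CohB1.polyGrading n k m) : ℚ) -
        Module.finrank k ↥(Submodule.restrictScalars k I ⊓ CohB1.polyGrading n k m))
    (hdim : 1 ≤ P.natDegree)
    (r : ℕ) (p : Fin r → Ideal (MvPolynomial (Fin (n + 1)) k)) [hp : ∀ i, (p i).IsPrime] (hpinj : Function.Injective p)
    (hpmin : ∀ q : Ideal (MvPolynomial (Fin (n + 1)) k), q ∈ (I ⊔ Ideal.span {f}).minimalPrimes ↔ ∃ i, q = p i)
    (Qp : Fin r → ℚ[X])
    (hQp : ∀ i, ∃ m₀ : ℕ, ∀ m : ℕ, m₀ ≤ m → (Qp i).eval (m : ℚ) =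
      (Module.finrank k ↥(CohB1.polyGrading n k m) : ℚ) -
        Module.finrank k ↥(Submodule.restrictScalars k (p i) ⊓ CohB1.polyGrading n k m)) :
    (d : ℚ) * ((P.natDegree.factorial : ℚ) * P.leadingCoeff) =
      ∑ i : Fin r, ((Qp i).natDegree.factorial : ℚ) * (Qp i).leadingCoeff *
        (Module.length (Localization.AtPrime (p i))
          (LocalizedModule (p i).primeCompl (MvPolynomial (Fin (n + 1)) k ⧸ (I ⊔ Ideal.span {f})))).toNat := by
  classical
  have hfm : f ∈ MvPolynomial.homogeneousSubmodule (Fin (n + 1)) k d :=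
    (MvPolynomial.mem_homogeneousSubmodule _ _).mpr hf
  have hreg : ∀ g, f * g ∈ I → g ∈ I := fun g hg =>
    (Ideal.IsPrime.mem_or_mem inferInstance hg).resolve_left hfI
  have hI'h : (I ⊔ Ideal.span {f}).IsHomogeneous (CohB1.polyGrading n k) := by
    refine hIh.sup (Ideal.homogeneous_span _ _ ?_)
    rintro _ rfl
    exact ⟨d, hfm⟩
  -- the Hilbert polynomial of `I + (f)`
  obtain ⟨mP, hP'⟩ := hP
  have hPe : ∀ m, mP ≤ m → P.eval (m : ℚ) = (Groth.Agent.Lib.Helper4.HilbFun.hilb I m : ℚ) := by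
    intro m hm
    rw [hP' m hm, Groth.Agent.Lib.Helper4.HilbFun.finrank_eq_hilb_add I m]
    push_cast
    ring
  have hQ : ∃ m₀ : ℕ, ∀ m : ℕ, m₀ ≤ m → (P - P.comp (X - C (d : ℚ))).eval (m : ℚ) =
      (Module.finrank k ↥(CohB1.polyGrading n k m) : ℚ) -
        Module.finrank k ↥(Submodule.restrictScalars k (I ⊔ Ideal.span {f}) ⊓
          CohB1.polyGrading n k m) := by
    refine ⟨mP + d, fun m hm => ?_⟩
    have hdm : d ≤ m := by omega
    have h1 : mP ≤ m := by omega
    have h2 : mP ≤ m - d := by omega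
    rw [Groth.Agent.Lib.Helper4.HilbFun.finrank_eq_hilb_add (I ⊔ Ideal.span {f}) m,
      eval_sub, eval_comp, eval_sub, eval_X, eval_C, hPe m h1, ← Nat.cast_sub hdm,
      hPe (m - d) h2, Groth.Agent.Lib.Helper4.HilbFun.hilb_eq_add I hIh f d hfm hreg m hdm]
    push_cast
    ring
  have hP : ∃ m₀ : ℕ, ∀ m : ℕ, m₀ ≤ m → P.eval (m : ℚ) =
      (Module.finrank k ↥(CohB1.polyGrading n k m) : ℚ) -
        Module.finrank k ↥(Submodule.restrictScalars k I ⊓ CohB1.polyGrading n k m) :=
    ⟨mP, hP'⟩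
  obtain ⟨hdegQ, hdegree⟩ := Groth.Agent.S10904.result k n I hIh f d hd hf hfI P
    (P - P.comp (X - C (d : ℚ))) hP hQ hdim
  have h906 := Groth.Agent.S10906.result k n (I ⊔ Ideal.span {f}) hI'h
    (P - P.comp (X - C (d : ℚ))) hQ r p hpinj hpmin Qp hQp
  rw [← hdegree, h906]
  apply Finset.sum_congr rfl
  intro i _
  have hP0 : P ≠ 0 := by
    rintro rfl
    simp at hdim
  have hdimI := Groth.Agent.S10907.result k n I hIh P hP0 hP
  have hpimin : p i ∈ (I ⊔ Ideal.span {f}).minimalPrimes := (hpmin (p i)).mpr ⟨i, rfl⟩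
  have hstep := Groth.Agent.Lib.Helper4.ProjCone.ringKrullDim_quotient_eq_add_one k (n + 1) I (p i)
    f hfI hpimin
  obtain ⟨D, hD⟩ : ∃ D, P.natDegree = D + 1 := ⟨P.natDegree - 1, by omega⟩
  have hdimpi : ringKrullDim (MvPolynomial (Fin (n + 1)) k ⧸ p i) = ((D + 1 : ℕ) : WithBot ℕ∞) := by
    have h1 : ((D + 1 + 1 : ℕ) : WithBot ℕ∞) =
        ringKrullDim (MvPolynomial (Fin (n + 1)) k ⧸ p i) + 1 := by
      rw [← hstep, hdimI, hD]
      push_cast
      rfl
    exact Groth.Agent.Lib.Helper4.ProjCone.withBot_add_one_cancel h1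
  obtain ⟨mi, hQi⟩ := hQp i
  have hQe : ∀ m, mi ≤ m →
      (Qp i).eval (m : ℚ) = (Groth.Agent.Lib.Helper4.HilbFun.hilb (p i) m : ℚ) := by
    intro m hm
    rw [hQi m hm, Groth.Agent.Lib.Helper4.HilbFun.finrank_eq_hilb_add (p i) m]
    push_cast
    ring
  have hQ0 : Qp i ≠ 0 := by
    intro h0
    have h1 := Groth.Agent.Lib.Helper4.HilbFun.choose_le_hilb (p i) (D + 1) hdimpi mi
    have h2 : (Groth.Agent.Lib.Helper4.HilbFun.hilb (p i) mi : ℚ) = 0 := by
      rw [← hQe mi le_rfl, h0]
      simp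
    have h3 : Groth.Agent.Lib.Helper4.HilbFun.hilb (p i) mi = 0 := by exact_mod_cast h2
    rw [h3] at h1
    have : 0 < (D + 1 + mi - 1).choose mi := Nat.choose_pos (by omega)
    omega
  have hpih : (p i).IsHomogeneous (CohB1.polyGrading n k) :=
    Groth.Agent.Lib.Helper27ProjHypConn.isHomogeneous_of_mem_minimalPrimes
      (CohB1.polyGrading n k) hI'h hpimin
  have hdi := Groth.Agent.S10907.result k n (p i) hpih (Qp i) hQ0 ⟨mi, hQi⟩
  have hdegeq : (Qp i).natDegree = (P - P.comp (X - C (d : ℚ))).natDegree := by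
    rw [hdimpi] at hdi
    have h2 : ((D + 1 : ℕ) : WithBot ℕ∞) = (((Qp i).natDegree + 1 : ℕ) : WithBot ℕ∞) := by
      rw [hdi]
      push_cast
      rfl
    have h3 : D + 1 = (Qp i).natDegree + 1 := by exact_mod_cast h2
    omega
  rw [if_pos hdegeq]

end Groth.Agent.S10905
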