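import Groth.Statements.S10908
import Mathlib
-- import your own Groth.Agent.* helpers here

set_option autoImplicit false
set_option linter.style.haveILetI false
set_option linter.unusedSectionVars false
universe u
open ProjDeg

namespace Groth.Agent.S10908

open CategoryTheory Opposite TopologicalSpace

lemma val_mk {A : Type u} [CommRing A] [IsDomain A] (P : Ideal A) [P.IsPrime] (a : A)
    (s : P.primeCompl) :
    algebraMap (Localization.AtPrime P) (FractionRing A) (Localization.mk a s) *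
      algebraMap A (FractionRing A) (s : A) = algebraMap A (FractionRing A) a := by
  rw [Localization.mk_eq_mk',
    IsScalarTower.algebraMap_apply A (Localization.AtPrime P) (FractionRing A) (s : A), ← map_mul,
    IsLocalization.mk'_spec, ← IsScalarTower.algebraMap_apply]

lemma mem_of_mul_mem {R A : Type u} [CommRing R] [CommRing A] [IsDomain A] [Algebra R A]
    (𝒜 : ℕ → Submodule R A) [GradedAlgebra 𝒜] {j e : ℕ} {c s : A} (hs : s ∈ 𝒜 j) (hs0 : s ≠ 0)
    (h : c * s ∈ 𝒜 (j + e)) : c ∈ 𝒜 e := by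
  classical
  have h1 : ∀ l, l ≠ e → (DirectSum.decompose 𝒜 c l : A) = 0 := by
    intro l hl
    have h2 : (DirectSum.decompose 𝒜 (c * s) (l + j) : A) = (DirectSum.decompose 𝒜 c l : A) * s :=
      DirectSum.coe_decompose_mul_add_of_right_mem 𝒜 hs
    have h3 : (DirectSum.decompose 𝒜 (c * s) (l + j) : A) = 0 :=
      DirectSum.decompose_of_mem_ne 𝒜 h (by omega)
    rw [h3] at h2
    exact (mul_eq_zero.mp h2.symm).resolve_right hs0
  have h4 : c = (DirectSum.decompose 𝒜 c e : A) := by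
    conv_lhs => rw [← DirectSum.sum_support_decompose 𝒜 c]
    rw [Finset.sum_eq_single e (fun l _ hl => h1 l hl) (fun he => by
      rw [DFinsupp.notMem_support_iff] at he
      rw [he]
      rfl)]
  rw [h4]
  exact SetLike.coe_mem _


/-- Let S be a Noetherian graded integral domain, graded by the natural numbers as an algebra over a
ring R, generated by its degree-one part over S_0 (S_1 S_i = S_{i+1}) with S_1 ≠ 0, and integrally
closed in its field of fractions (so that X = Proj S is projectively normal). Then for every d ≥ 0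
the canonical map from S_d to the global sections of the twisting sheaf O_X(d), sending a to the
section a/1, is bijective. (The underlying lemma: every global section of O_X(d) is an element of
the homogeneous fraction ring integral over S.) (The published corollary takes the degree-zero part
to be a finitely generated algebra over a field; this row assumes only that the ring is Noetherian,
which is all the argument uses.) -/
theorem result {R A : Type u} [CommRing R] [CommRing A] [IsDomain A]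
    [IsNoetherianRing A] [Algebra R A] (𝒜 : ℕ → Submodule R A) [GradedAlgebra 𝒜]
    (hgen : ∀ i : ℕ, 𝒜 1 * 𝒜 i = 𝒜 (i + 1)) (h1 : 𝒜 1 ≠ ⊥) (hint : IsIntegrallyClosed A) (d : ℕ) :
    Function.Bijective (fun a : ↥(𝒜 d) => Twist.globalOf 𝒜 a) := by
  classical
  let ι := algebraMap A (FractionRing A)
  have hι : Function.Injective ι := IsFractionRing.injective A (FractionRing A)
  obtain ⟨g, hg, hg0⟩ := Submodule.exists_mem_ne_zero_of_ne_bot h1
  have hgirr : g ∈ HomogeneousIdeal.irrelevant 𝒜 :=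
    HomogeneousIdeal.mem_irrelevant_of_mem 𝒜 (by norm_num) hg
  -- the generic point
  let x₀ : ProjectiveSpectrum 𝒜 := ⟨⊥, by
    rw [HomogeneousIdeal.toIdeal_bot]; exact Ideal.isPrime_bot, fun hle => hg0 (by
      have h2 : g ∈ (⊥ : HomogeneousIdeal 𝒜).toIdeal := hle hgirr
      rw [HomogeneousIdeal.toIdeal_bot] at h2
      exact h2)⟩
  have hx₀ : ∀ a : A, a ∈ x₀.asHomogeneousIdeal → a = 0 := by
    intro a ha
    have h2 : a ∈ (⊥ : HomogeneousIdeal 𝒜).toIdeal := ha
    rw [HomogeneousIdeal.toIdeal_bot] at h2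
    exact h2
  have hx₀V : ∀ (V : Opens (ProjectiveSpectrum.top 𝒜)) (x : ProjectiveSpectrum.top 𝒜),
      x ∈ V → x₀ ∈ V := by
    intro V x hxV
    by_contra hx₀V
    have hcl : IsClosed ((V : Set (ProjectiveSpectrum.top 𝒜))ᶜ) := V.isOpen.isClosed_compl
    obtain ⟨T, hT⟩ := (ProjectiveSpectrum.isClosed_iff_zeroLocus 𝒜 _).mp hcl
    have h0 : x₀ ∈ ProjectiveSpectrum.zeroLocus 𝒜 T := by
      rw [← hT]; exact hx₀V
    have h2 : x ∉ ProjectiveSpectrum.zeroLocus 𝒜 T := by
      rw [← hT]; exact fun h => h hxV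
    apply h2
    have h0' : T ⊆ x₀.asHomogeneousIdeal := h0
    show T ⊆ x.asHomogeneousIdeal
    intro t ht
    rw [hx₀ t (h0' ht)]
    exact zero_mem _
  -- values of sections in the fraction field
  have key : ∀ f : Twist.sectN (𝒜 := 𝒜) (d : ℤ) (op ⊤), ∃ q : FractionRing A,
      ∀ x : ProjectiveSpectrum.top 𝒜,
      (algebraMap (Twist.Loc 𝒜 x) (FractionRing A) ((f.1 ⟨x, trivial⟩).1) = q ∧
       ∃ (i j : ℕ) (a : A) (s : A), a ∈ 𝒜 i ∧ s ∈ 𝒜 j ∧ s ∉ x.asHomogeneousIdeal ∧
        ((i : ℤ) = j + d ∨ a = 0) ∧ q * ι s = ι a) := by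
    intro f
    refine ⟨algebraMap (Twist.Loc 𝒜 x₀) (FractionRing A) ((f.1 ⟨x₀, trivial⟩).1), fun x => ?_⟩
    haveI hxp : x.asHomogeneousIdeal.toIdeal.IsPrime := x.isPrime
    haveI hx₀p : x₀.asHomogeneousIdeal.toIdeal.IsPrime := x₀.isPrime
    obtain ⟨V, hxV, i, i', j, a, s, s_nin, hdeg, w⟩ := f.2 ⟨x, trivial⟩
    have hx₀V' := hx₀V V x hxV
    have w1 : (f.1 ⟨x, trivial⟩).1 = Localization.mk a.1 ⟨s.1, s_nin ⟨x, hxV⟩⟩ := w ⟨x, hxV⟩
    have w0 : (f.1 ⟨x₀, trivial⟩).1 = Localization.mk a.1 ⟨s.1, s_nin ⟨x₀, hx₀V'⟩⟩ :=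
      w ⟨x₀, hx₀V'⟩
    have hs0 : ι s.1 ≠ 0 := by
      intro h
      have : s.1 = 0 := hι (h.trans (map_zero _).symm)
      exact s_nin ⟨x, hxV⟩ (by rw [this]; exact zero_mem _)
    have e1 := val_mk x.asHomogeneousIdeal.toIdeal a.1 ⟨s.1, s_nin ⟨x, hxV⟩⟩
    have e0 := val_mk x₀.asHomogeneousIdeal.toIdeal a.1 ⟨s.1, s_nin ⟨x₀, hx₀V'⟩⟩
    rw [← w1] at e1
    rw [← w0] at e0
    refine ⟨?_, i', j, a.1, s.1, a.2, s.2, s_nin ⟨x, hxV⟩, hdeg, e0⟩
    exact mul_right_cancel₀ hs0 (e1.trans e0.symm)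
  constructor
  · -- injectivity
    intro a a' haa'
    haveI hx₀p : x₀.asHomogeneousIdeal.toIdeal.IsPrime := x₀.isPrime
    have h2 := congrArg (fun f : Twist.sectN (𝒜 := 𝒜) (d : ℤ) (op ⊤) => (f.1 ⟨x₀, trivial⟩).1) haa'
    have e1 := val_mk x₀.asHomogeneousIdeal.toIdeal a.1 1
    have e2 := val_mk x₀.asHomogeneousIdeal.toIdeal a'.1 1
    have h3 : Localization.mk a.1 (1 : x₀.asHomogeneousIdeal.toIdeal.primeCompl) =
        Localization.mk a'.1 1 := h2
    rw [h3, e2] at e1
    exact Subtype.ext (hι e1.symm)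
  · -- surjectivity
    intro f
    obtain ⟨q, hkey⟩ := key f
    obtain ⟨-, i₀, j₀, a₀, s₀, ha₀, hs₀, hs₀x, hdeg₀, hq₀⟩ := hkey x₀
    have hs₀0 : s₀ ≠ 0 := fun h => hs₀x (by rw [h]; exact zero_mem _)
    -- it suffices to find `q₀ ∈ 𝒜 d` with `ι q₀ = q`
    suffices hsuff : ∃ q₀ : A, q₀ ∈ 𝒜 d ∧ ι q₀ = q by
      obtain ⟨q₀, hq₀d, hq₀q⟩ := hsuff
      refine ⟨⟨q₀, hq₀d⟩, ?_⟩
      apply Subtype.ext
      funext x
      haveI hxp : x.1.asHomogeneousIdeal.toIdeal.IsPrime := x.1.isPrime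
      apply Subtype.ext
      apply IsFractionRing.injective (Twist.Loc 𝒜 x.1) (FractionRing A)
      have e1 := val_mk x.1.asHomogeneousIdeal.toIdeal q₀ 1
      rw [OneMemClass.coe_one, map_one, mul_one] at e1
      have e2 := (hkey x.1).1
      exact e1.trans (hq₀q.trans e2.symm)
    by_cases ha₀0 : a₀ = 0
    · refine ⟨0, zero_mem _, ?_⟩
      rw [ha₀0, map_zero] at hq₀
      have hιs : ι s₀ ≠ 0 := fun h => hs₀0 (hι (h.trans (map_zero _).symm))
      rw [map_zero]
      exact ((mul_eq_zero.mp hq₀).resolve_right hιs).symm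
    have hdeg₀' : i₀ = j₀ + d := by
      rcases hdeg₀ with h | h
      · exact_mod_cast h
      · exact absurd h ha₀0
    -- the ideal of denominators
    let D : Ideal A :=
      { carrier := {b | q * ι b ∈ Set.range ι}
        add_mem' := by
          rintro b b' ⟨c, hc⟩ ⟨c', hc'⟩
          exact ⟨c + c', by rw [map_add, map_add, mul_add, hc, hc']⟩
        zero_mem' := ⟨0, by rw [map_zero, mul_zero]⟩
        smul_mem' := by
          rintro r b ⟨c, hc⟩
          exact ⟨r * c, by rw [smul_eq_mul, map_mul, map_mul, mul_left_comm, hc]⟩ }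
    let T : Set A := {s | ∃ j, s ∈ 𝒜 j ∧ s ∈ D}
    have hThom : (Ideal.span T).IsHomogeneous 𝒜 :=
      Ideal.homogeneous_span 𝒜 T fun s ⟨j, hs, _⟩ => ⟨j, hs⟩
    have hTD : Ideal.span T ≤ D := Ideal.span_le.mpr fun s ⟨_, _, hs⟩ => hs
    have hrad : (HomogeneousIdeal.irrelevant 𝒜).toIdeal ≤ (Ideal.span T).radical := by
      rw [Ideal.IsHomogeneous.radical_eq hThom]
      refine le_sInf fun J ⟨hJhom, hTJ, hJprime⟩ => ?_
      by_contra hirr
      let y : ProjectiveSpectrum 𝒜 := ⟨⟨J, hJhom⟩, hJprime, fun h => hirr h⟩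
      obtain ⟨-, i, j, a, s, ha, hs, hsy, hdeg, hq⟩ := hkey y
      exact hsy (hTJ (Ideal.subset_span ⟨j, hs, ⟨a, hq.symm⟩⟩))
    obtain ⟨N, hN⟩ := Ideal.exists_pow_le_of_le_radical_of_fg hrad (IsNoetherian.noetherian _)
    have hpow : ∀ m, ∀ a ∈ 𝒜 m, a ∈ (HomogeneousIdeal.irrelevant 𝒜).toIdeal ^ m := by
      intro m
      induction m with
      | zero =>
        intro a _
        rw [pow_zero, Ideal.one_eq_top]
        exact Submodule.mem_top
      | succ m ih =>
        intro a ha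
        rw [← hgen m] at ha
        refine Submodule.mul_induction_on ha (fun b hb c hc => ?_) (fun b c hb hc => add_mem hb hc)
        rw [pow_succ']
        exact Ideal.mul_mem_mul (HomogeneousIdeal.mem_irrelevant_of_mem 𝒜 (by norm_num) hb)
          (ih c hc)
    have hD : ∀ m, N ≤ m → ∀ b ∈ 𝒜 m, b ∈ D := fun m hm b hb =>
      hTD (hN (Ideal.pow_le_pow_right hm (hpow m b hb)))
    -- the ideal generated by the elements of degree at least `N`
    let J : Ideal A := Ideal.span {b | ∃ m, N ≤ m ∧ b ∈ 𝒜 m}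
    have hJq : ∀ b ∈ J, ∃ c ∈ J, q * ι b = ι c := by
      intro b hb
      induction hb using Submodule.span_induction with
      | mem b hb =>
        obtain ⟨m, hm, hbm⟩ := hb
        obtain ⟨c, hc⟩ := hD m hm b hbm
        refine ⟨c, Ideal.subset_span ⟨d + m, by omega, ?_⟩, hc.symm⟩
        have h2 : c * s₀ = a₀ * b := by
          apply hι
          rw [map_mul, map_mul, hc, ← hq₀]
          ring
        refine mem_of_mul_mem 𝒜 hs₀ hs₀0 (?_ : c * s₀ ∈ 𝒜 (j₀ + (d + m)))
        rw [h2, ← add_assoc, ← hdeg₀']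
        exact SetLike.mul_mem_graded ha₀ hbm
      | zero => exact ⟨0, zero_mem _, by rw [map_zero, mul_zero]⟩
      | add b b' _ _ hb hb' =>
        obtain ⟨c, hc, hqc⟩ := hb
        obtain ⟨c', hc', hqc'⟩ := hb'
        exact ⟨c + c', add_mem hc hc', by rw [map_add, map_add, mul_add, hqc, hqc']⟩
      | smul r b _ hb =>
        obtain ⟨c, hc, hqc⟩ := hb
        exact ⟨r * c, Ideal.mul_mem_left _ _ hc, by
          rw [smul_eq_mul, map_mul, map_mul, mul_left_comm, hqc]⟩
    have hgN : g ^ N ∈ J := by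
      refine Ideal.subset_span ⟨N, le_rfl, ?_⟩
      have := SetLike.pow_mem_graded N hg
      rwa [smul_eq_mul, mul_one] at this
    have hint' : IsIntegral A q := by
      refine isIntegral_of_smul_mem_submodule (R := A) (A := FractionRing A) (M := FractionRing A)
        (Submodule.map (Algebra.linearMap A (FractionRing A)) J) ?_ ?_ q ?_
      · intro h
        have h2 : ι (g ^ N) ∈ Submodule.map (Algebra.linearMap A (FractionRing A)) J :=
          Submodule.mem_map_of_mem hgN
        rw [h, Submodule.mem_bot] at h2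
        exact pow_ne_zero N hg0 (hι (h2.trans (map_zero _).symm))
      · exact Submodule.FG.map _ (IsNoetherian.noetherian J)
      · rintro _ ⟨b, hb, rfl⟩
        obtain ⟨c, hc, hqc⟩ := hJq b hb
        exact ⟨c, hc, hqc.symm⟩
    obtain ⟨q₀, hq₀q⟩ := IsIntegrallyClosed.algebraMap_eq_of_integral hint'
    refine ⟨q₀, ?_, hq₀q⟩
    have h2 : q₀ * s₀ = a₀ := by
      apply hι
      rw [map_mul, hq₀q, hq₀]
    refine mem_of_mul_mem 𝒜 hs₀ hs₀0 (?_ : q₀ * s₀ ∈ 𝒜 (j₀ + d))
    rw [h2, ← hdeg₀']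
    exact ha₀

end Groth.Agent.S10908
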