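import Groth.Statements.S10912
import Mathlib
import Groth.Agent.Lib.Helper16OrdOpen
-- import your own Groth.Agent.* helpers here

set_option autoImplicit false
set_option linter.style.haveILetI false
set_option linter.unusedSectionVars false
universe u
open CategoryTheory CategoryTheory.Limits AlgebraicGeometry TopologicalSpace
open WDiv

namespace Groth.Agent.S10912

open Helper16OrdOpen


/-- Let X be an integral Noetherian separated scheme which is regular in codimension 1, and U a nonempty
open subscheme whose complement has codimension at least 2: every point not in U has coheight ≥ 2 in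
the specialization order. Then restriction identifies the divisor class groups of X and U;
concretely, since all points of coheight 1 lie in U, a Weil divisor D on X (integer-valued function
with finite support inside the coheight-1 points) is the divisor of a nonzero rational function on X
if and only if its restriction to U is the divisor of a nonzero rational function on U. -/
theorem result (X : Scheme.{u}) [IsIntegral X]
    [IsNoetherian X] [X.IsSeparated]
    (hR1 : ∀ x : ↥X, Order.coheight x = 1 → IsDiscreteValuationRing ↑(X.presheaf.stalk x))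
    (U : X.Opens) [Nonempty U] (hcod : ∀ x : ↥X, x ∉ U → 2 ≤ Order.coheight x)
    (D : ↥X → ℤ) (hD : ∀ x, Order.coheight x ≠ 1 → D x = 0) (hfin : {x | D x ≠ 0}.Finite) :
    (∃ f : ↑X.functionField, f ≠ 0 ∧ ∀ x : ↥X, Order.coheight x = 1 → Scheme.ord f x = D x) ↔
      ∃ g : ↑(U : Scheme.{u}).functionField, g ≠ 0 ∧
        ∀ u : ↥(U : Scheme.{u}), Order.coheight u = 1 → Scheme.ord g u = D u.1 := by
  have hco : ∀ u : ↥(U : Scheme.{u}), Order.coheight (U.ι u) = Order.coheight u :=
    fun u => coheight_eq_of_isOpenImmersion U.ι
  have hιu : ∀ u : ↥(U : Scheme.{u}), U.ι u = u.1 := fun u => rfl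
  constructor
  · rintro ⟨f, hf, hfD⟩
    refine ⟨ψ U.ι f, (map_ne_zero_iff _ (ψ_bijective U.ι).1).mpr hf, fun u hu => ?_⟩
    have h1 : Order.coheight (U.ι u) = 1 := by rw [hco]; exact hu
    rw [ord_ψ U.ι u hu (hR1 _ h1) f, hfD _ h1, hιu]
  · rintro ⟨g, hg, hgD⟩
    obtain ⟨f, rfl⟩ := (ψ_bijective U.ι).2 g
    refine ⟨f, fun h0 => hg (by rw [h0, map_zero]), fun x hx => ?_⟩
    have hxU : x ∈ U := by
      by_contra hxU
      have := hcod x hxU
      rw [hx] at this
      exact absurd this (by decide)
    let u₀ : ↥(U : Scheme.{u}) := ⟨x, hxU⟩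
    have hu : Order.coheight u₀ = 1 := by
      rw [← hco u₀]; exact hx
    have := hgD u₀ hu
    rw [ord_ψ U.ι u₀ hu (hR1 _ hx) f] at this
    exact this

end Groth.Agent.S10912
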