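import Groth.Statements.S10914
import Groth.Agent.Lib.Helper4IrrFib

set_option autoImplicit false
set_option linter.style.haveILetI false
universe u
open CategoryTheory CategoryTheory.Limits AlgebraicGeometry TopologicalSpace
open ProjDeg

namespace Groth.Agent.S10914

/-- Let k be a field, X and Y reduced schemes proper over k and f : X → Y a k-morphism with (i) f
surjective, (ii) every fibre X_y over a closed point y irreducible, (iii) all these fibres of the
same dimension m, and (iv) Y irreducible. Then X is irreducible and dim X = dim Y + m. (The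
published statement takes X, Y projective over k and f projective; its proof uses only that f is a
closed map and upper semicontinuity of fibre dimension, i.e. properness.) -/
theorem result (k : Type u) [Field k] {X Y : Scheme.{u}}
    (pX : X ⟶ Spec (CommRingCat.of k)) (pY : Y ⟶ Spec (CommRingCat.of k)) [IsProper pX] [IsProper pY]
    [IsReduced X] [IsReduced Y] (f : X ⟶ Y) (hf : f ≫ pY = pX) (hsurj : Function.Surjective f)
    [IrreducibleSpace ↥Y] (m : ℕ)
    (hirr : ∀ y : ↥Y, IsClosed ({y} : Set ↥Y) → IrreducibleSpace ↥(f.fiber y))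
    (hdim : ∀ y : ↥Y, IsClosed ({y} : Set ↥Y) → topologicalKrullDim ↥(f.fiber y) = m) :
    IrreducibleSpace ↥X ∧ topologicalKrullDim ↥X = topologicalKrullDim ↥Y + m := by
  letI : X.Over (Spec (CommRingCat.of k)) := ⟨pX⟩
  letI : Y.Over (Spec (CommRingCat.of k)) := ⟨pY⟩
  haveI : LocallyOfFiniteType (X ↘ Spec (CommRingCat.of k)) :=
    (inferInstance : LocallyOfFiniteType pX)
  haveI : LocallyOfFiniteType (Y ↘ Spec (CommRingCat.of k)) :=
    (inferInstance : LocallyOfFiniteType pY)
  haveI := Groth.Agent.Lib.Helper4.DimFormula.locallyOfFiniteType_of_over k f hf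
  haveI : CompactSpace X := QuasiCompact.compactSpace_of_compactSpace pX
  haveI : CompactSpace Y := QuasiCompact.compactSpace_of_compactSpace pY
  haveI : IsProper (f ≫ pY) := by rw [hf]; infer_instance
  haveI : IsProper f := IsProper.of_comp f pY
  have hcl : IsClosedMap f.base := f.isClosedMap
  have hirr' : ∀ y : ↥Y, IsClosed ({y} : Set ↥Y) → IsIrreducible (f.base ⁻¹' {y}) := by
    intro y hy
    haveI := hirr y hy
    have h1 : IsIrreducible (Set.univ : Set ↥(f.fiber y)) :=
      (irreducibleSpace_def _).mp inferInstance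
    have h2 := h1.image (fun x => ((f.fiberHomeo y x : ↥(f.base ⁻¹' {y})) : ↥X))
      ((continuous_subtype_val.comp (f.fiberHomeo y).continuous).continuousOn)
    convert h2 using 1
    ext x
    constructor
    · intro hx
      exact ⟨(f.fiberHomeo y).symm ⟨x, hx⟩, Set.mem_univ _, by simp⟩
    · rintro ⟨x', -, rfl⟩
      exact (f.fiberHomeo y x').2
  have hdim' : ∀ y : ↥Y, IsClosed ({y} : Set ↥Y) →
      topologicalKrullDim ↥(f.base ⁻¹' {y}) = m := by
    intro y hy
    rw [← hdim y hy]
    exact (IsHomeomorph.topologicalKrullDim_eq _ (f.fiberHomeo y).isHomeomorph).symm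
  have res := Groth.Agent.Lib.Helper4.IrrFib.irreducibleSpace_of_isClosedMap k f hf m hirr' hdim' hcl
  exact ⟨res.1, by rw [res.2, add_comm]⟩

end Groth.Agent.S10914
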