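import Groth.Statements.S10918
import Groth.Agent.Lib.Helper28ProjNormal
-- import your own Groth.Agent.* helpers here

set_option autoImplicit false
universe u
open CInt

namespace Groth.Agent.S10918
open Groth.Agent.Lib.Helper28

attribute [local instance] MvPolynomial.gradedAlgebra

/-- Let k be a field, S = k[x_0, …, x_n], and f_1, …, f_r with r < n homogeneous polynomials of positive
degrees whose ideal J has height r, so that Y = V_+(J) ⊆ P^n_k is a global complete intersection of
dimension n − r ≥ 1 with homogeneous coordinate ring S' = S/J. Suppose Y is normal, expressed on the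
affine cone: for every prime ideal Q of S' not containing all the classes of the x_i (every point of
the cone Spec S' other than the vertex), the localization S'_Q is an integrally closed domain. Then
S' is an integrally closed domain, i.e. Y is projectively normal. -/
theorem result
    (k : Type u) [Field k] (n r : ℕ) (hr : r < n) (f : Fin r → MvPolynomial (Fin (n + 1)) k) (d : Fin r → ℕ)
    (hf : ∀ i, (f i).IsHomogeneous (d i)) (hd : ∀ i, 0 < d i)
    (hJ : (Ideal.span (Set.range f)).height = r)
    (hnorm : ∀ (Q : Ideal (MvPolynomial (Fin (n + 1)) k ⧸ Ideal.span (Set.range f))) [Q.IsPrime],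
      (∃ i, Ideal.Quotient.mk (Ideal.span (Set.range f)) (MvPolynomial.X i) ∉ Q) →
        IsDomain (Localization.AtPrime Q) ∧ IsIntegrallyClosed (Localization.AtPrime Q)) :
    IsDomain (MvPolynomial (Fin (n + 1)) k ⧸ Ideal.span (Set.range f)) ∧
      IsIntegrallyClosed (MvPolynomial (Fin (n + 1)) k ⧸ Ideal.span (Set.range f)) := by
  classical
  have hk : LocCoh.IsCohenMacaulayRing k := isCohenMacaulayRing_of_field k
  have hS : LocCoh.IsCohenMacaulayRing (MvPolynomial (Fin (n + 1)) k) :=
    isCohenMacaulayRing_mvPolynomial_fin (n + 1)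
  set xs : List (MvPolynomial (Fin (n + 1)) k) := List.ofFn f with hxs
  have hof : Ideal.span (Set.range f) = Ideal.ofList xs := by
    unfold Ideal.ofList
    congr 1
    ext x
    simp [hxs, List.mem_ofFn]
  have hlen : xs.length = r := by simp [hxs]
  have hhom := isHomogeneous_span_range f d hf
  have hcc : ∀ a ∈ Ideal.span (Set.range f), MvPolynomial.constantCoeff a = 0 := by
    intro a ha
    have hle : Ideal.span (Set.range f) ≤ RingHom.ker (MvPolynomial.constantCoeff
        (R := k) (σ := Fin (n + 1))) := by
      rw [Ideal.span_le]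
      rintro x ⟨i, rfl⟩
      rw [SetLike.mem_coe, RingHom.mem_ker, MvPolynomial.constantCoeff_eq]
      apply (hf i).coeff_eq_zero
      simp only [map_zero]
      exact (hd i).ne
    exact hle ha
  obtain ⟨hCM, hht⟩ := isCohenMacaulayRing_quotient_of_eq_ofList xs (Ideal.span (Set.range f)) hof
    (by rw [hJ, hlen])
  have hht2 : (Ideal.ofList xs).height = xs.length := by rw [← hof, hJ, hlen]
  generalize hJdef : Ideal.span (Set.range f) = J at *
  have hN : IsNoetherianRing (MvPolynomial (Fin (n + 1)) k ⧸ J) := inferInstance
  -- Step A: all local rings are normal domains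
  have hA : ∀ (p : Ideal (MvPolynomial (Fin (n + 1)) k ⧸ J)) [p.IsPrime],
      IsDomain (Localization.AtPrime p) ∧ IsIntegrallyClosed (Localization.AtPrime p) := by
    rw [forall_isIntegrallyClosed_localization_iff_hasRk_one_and_hasSk_two]
    constructor
    · intro p hp hpht
      by_cases hex : ∃ i, Ideal.Quotient.mk J (MvPolynomial.X i) ∉ p
      · obtain ⟨hdom, hic⟩ := hnorm p hex
        apply isRegularLocalRing_of_isIntegrallyClosed_of_dim_le_one
        rw [IsLocalization.AtPrime.ringKrullDim_eq_height p (Localization.AtPrime p)]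
        exact_mod_cast hpht
      · exfalso
        push Not at hex
        have h1 := natCast_le_height_of_forall_X_mem (k := k) (n + 1)
          (p.comap (Ideal.Quotient.mk J)) (fun i => by rw [Ideal.mem_comap]; exact hex i)
        rw [← hht p, hlen] at h1
        have h2 : p.height + (r : ℕ∞) ≤ 1 + r := add_le_add hpht le_rfl
        have h3 : ((n + 1 : ℕ) : ℕ∞) ≤ ((1 + r : ℕ) : ℕ∞) := by
          refine le_trans h1 (le_trans h2 ?_)
          push_cast
          exact le_rfl
        have : n + 1 ≤ 1 + r := by exact_mod_cast h3
        omega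
    · rw [hasSk_self_iff]
      intro p hp
      have h1 := (hCM.isCohenMacaulayLocalRing_localization p).supportDim_eq_depth
      rw [Module.supportDim_self_eq_ringKrullDim,
        IsLocalization.AtPrime.ringKrullDim_eq_height p (Localization.AtPrime p)] at h1
      rw [← h1]
      exact min_le_right _ _
  -- Step B: the vertex
  let φ : (MvPolynomial (Fin (n + 1)) k ⧸ J) →+* k :=
    Ideal.Quotient.lift J MvPolynomial.constantCoeff hcc
  have hQ0 : (RingHom.ker φ).IsPrime := RingHom.ker_isPrime φ
  obtain ⟨hdomQ0, hicQ0⟩ := hA (RingHom.ker φ)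
  have hinj : Function.Injective (algebraMap (MvPolynomial (Fin (n + 1)) k ⧸ J)
      (Localization.AtPrime (RingHom.ker φ))) := by
    apply IsLocalization.injective (Localization.AtPrime (RingHom.ker φ))
      (M := (RingHom.ker φ).primeCompl)
    intro s hs
    rw [mem_nonZeroDivisors_iff_right]
    intro z hz
    obtain ⟨s', rfl⟩ := Ideal.Quotient.mk_surjective s
    obtain ⟨g, rfl⟩ := Ideal.Quotient.mk_surjective z
    by_contra hg
    rw [← map_mul, Ideal.Quotient.eq_zero_iff_mem] at hz
    rw [Ideal.Quotient.eq_zero_iff_mem] at hg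
    rw [hof] at hz hg
    rw [mul_comm] at hz
    obtain ⟨P, hP, hsP⟩ := exists_mem_minimalPrimes_of_mul_mem xs hht2 hz hg
    rw [← hof] at hP
    have := constantCoeff_eq_zero_of_mem_minimalPrimes hhom hP hsP
    apply hs
    rw [SetLike.mem_coe, RingHom.mem_ker]
    exact this
  have hdom : IsDomain (MvPolynomial (Fin (n + 1)) k ⧸ J) :=
    Function.Injective.isDomain _ hinj
  refine ⟨hdom, ?_⟩
  apply IsIntegrallyClosed.of_localization_maximal
  intro p _ hp
  exact (hA p).2

end Groth.Agent.S10918
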