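import Groth.Statements.S10926
import Groth.Agent.S10925
import Groth.Agent.Lib.Helper2BoxPicC
import Groth.Agent.Lib.Helper17ProjFormulaD
import Groth.Agent.Lib.Helper23SecTw6

set_option autoImplicit false
universe u
open CategoryTheory CategoryTheory.Limits AlgebraicGeometry
open PicF

namespace Groth.Agent.S10926

/-- Let k be an algebraically closed field, Y an integral scheme of finite type over k, f : X → Y flat
and projective (f = i ≫ pr for a closed immersion i : X → P^n_Y) with every fibre X_y integral, and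
L, M invertible O_X-modules whose pullbacks to each fibre X_y are isomorphic. Then there is an
invertible O_Y-module E with L ≅ M ⊗ f^*E. -/
theorem result (k : Type u) [Field k] [IsAlgClosed k]
    {X Y : Scheme.{u}} (g : Y ⟶ Spec (CommRingCat.of k)) [LocallyOfFiniteType g] [QuasiCompact g]
    [IsIntegral Y] (n : ℕ) (i : X ⟶ CohB1.ProjSpaceOver n Y) [IsClosedImmersion i]
    (f : X ⟶ Y) (hf : f = i ≫ CohB1.ProjSpaceOver.toBase n Y) [Flat f]
    (hint : ∀ y : Y, IsIntegral (f.fiber y))
    (L M : X.Modules) (hL : PicF.IsInvertible L) (hM : PicF.IsInvertible M)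
    (hLM : ∀ y : Y, Nonempty ((Scheme.Modules.pullback (f.fiberι y)).obj L ≅ (Scheme.Modules.pullback (f.fiberι y)).obj M)) :
    ∃ E : Y.Modules, PicF.IsInvertible E ∧
      Nonempty (L ≅ CohB1.tensorMod M ((Scheme.Modules.pullback f).obj E)) := by
  open Groth.Agent.Lib.Helper23.RestrTensor Groth.Agent.Lib.Helper2.TrivFibA
    Groth.Agent.Lib.Helper21.ModTensor6 Groth.Agent.Lib.Helper2.BoxPicC in
  obtain ⟨M', hM', ⟨e1⟩, ⟨e2⟩⟩ := Groth.Agent.Lib.Helper17.ProjFormulaD.nonempty_inverse M hM
  have hE : PicF.IsInvertible (CohB1.tensorMod L M') :=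
    Groth.Agent.Lib.Helper23.SecTw.isInvertible_tensorMod hL hM'
  have htriv : ∀ y : Y, Nonempty ((Scheme.Modules.pullback (f.fiberι y)).obj (CohB1.tensorMod L M') ≅
      Coh.structureModule (f.fiber y)) := by
    intro y
    obtain ⟨a⟩ := hLM y
    exact ⟨pullbackTensorIso L M' (f.fiberι y) ≪≫ PicGrp.tensorModIso a (Iso.refl _) ≪≫
      (pullbackTensorIso M M' (f.fiberι y)).symm ≪≫
      (Scheme.Modules.pullback (f.fiberι y)).mapIso e1 ≪≫
      Groth.Agent.Lib.Helper1.Fib.pullbackUnitIso' (f.fiberι y)⟩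
  obtain ⟨hN, hiso⟩ := Groth.Agent.S10925.result k g n i f hf hint (CohB1.tensorMod L M') hE htriv
  haveI := hiso
  refine ⟨(Scheme.Modules.pushforward f).obj (CohB1.tensorMod L M'), hN, ?_⟩
  let c := asIso ((Scheme.Modules.pullbackPushforwardAdjunction f).counit.app (CohB1.tensorMod L M'))
  exact ⟨(rightUnitIso L).symm ≪≫ PicGrp.tensorModIso (Iso.refl L) e2.symm ≪≫
    (assocIso' L M' M).symm ≪≫ Groth.Agent.Lib.Helper21.ModTensor5.brdApp X.sheaf (CohB1.tensorMod L M') M ≪≫
    PicGrp.tensorModIso (Iso.refl M) c.symm⟩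

end Groth.Agent.S10926
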