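import Groth.Statements.S10927
import Mathlib
import Groth.Agent.Lib.Helper11KPts
import Groth.Agent.Lib.Helper11Orbit
import Groth.Agent.Lib.Helper11SubGrp
import Groth.Agent.Lib.Helper25Cartier
import Groth.Agent.Lib.Helper12Cart
import Groth.Agent.S8009

set_option autoImplicit false
universe u
open CategoryTheory CategoryTheory.Limits MonoidalCategory CartesianMonoidalCategory MonObj GrpObj AlgebraicGeometry
open Variety

namespace Groth.Agent.S10927

open Groth.Agent.Lib.Helper11KPts Groth.Agent.Lib.Helper11Orbit Groth.Agent.Lib.Helper12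
  Groth.Agent.Lib.Helper11SubGrp

/-- the stabilizer of a rational point as a group object -/
theorem exists_stabilizer {S : Scheme.{u}} {G X : Over S} [GrpObj G] (a : AlgGrp.Action G X)
    (x : 𝟙_ (Over S) ⟶ X) :
    ∃ (Go : Over S) (_ : GrpObj Go) (i : Go ⟶ G), IsMonHom i ∧
      IsPullback i (toUnit Go) (a.orbitMap x) x := by
  have hsq : IsPullback (pullback.fst (a.orbitMap x) x) (toUnit _) (a.orbitMap x) x := by
    have := IsPullback.of_hasPullback (a.orbitMap x) x
    rwa [toUnit_unique (pullback.snd (a.orbitMap x) x) (toUnit _)] at this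
  have hxmono : Mono x := by
    have : x ≫ toUnit X = 𝟙 _ := toUnit_unique _ _
    exact mono_of_mono_fac this
  have hmono : Mono (pullback.fst (a.orbitMap x) x) := inferInstance
  obtain ⟨inst, hinst⟩ := exists_grpObj_of_pred (pullback.fst (a.orbitMap x) x)
    (fun T g => g ≫ a.orbitMap x = toUnit T ≫ x)
    (fun T g => by
      constructor
      · rintro ⟨z, rfl⟩
        rw [Category.assoc, hsq.w, ← Category.assoc]
        congr 1
        exact toUnit_unique _ _
      · intro h
        exact ⟨hsq.lift g (toUnit T) h, hsq.lift_fst _ _ _⟩)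
    (by
      rw [comp_orbitMap, act_one])
    (fun T g₁ g₂ h₁ h₂ => by
      rw [comp_orbitMap] at h₁ h₂ ⊢
      rw [act_mul, h₂, h₁])
    (fun T g h => by
      rw [comp_orbitMap] at h ⊢
      have := act_mul a g⁻¹ g (toUnit T ≫ x)
      rw [inv_mul_cancel, act_one, h] at this
      exact this.symm)
  exact ⟨_, inst, _, hinst, hsq⟩


/-- Let k be an algebraically closed field of characteristic zero, G a group variety over k (an
integral, separated k-group scheme of finite type) and X a homogeneous space for G: a k-variety
(integral, separated, of finite type over k) with an action of G such that G(k) acts transitively on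
X(k). Then for every k-point x of X the orbit map G → X, g ↦ g · x, is smooth. -/
theorem result (k : Type u) [Field k] [IsAlgClosed k] [CharZero k]
    (G X : Over (Spec (CommRingCat.of k))) [GrpObj G] (a : AlgGrp.Action G X)
    [IsIntegral G.left] [IsSeparated G.hom] [LocallyOfFiniteType G.hom] [QuasiCompact G.hom]
    [IsIntegral X.left] [IsSeparated X.hom] [LocallyOfFiniteType X.hom] [QuasiCompact X.hom]
    (htrans : ∀ x x' : 𝟙_ (Over (Spec (CommRingCat.of k))) ⟶ X,
      ∃ σ : 𝟙_ (Over (Spec (CommRingCat.of k))) ⟶ G, CartesianMonoidalCategory.lift σ x ≫ a.act = x')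
    (x : 𝟙_ (Over (Spec (CommRingCat.of k))) ⟶ X) :
    Smooth (a.orbitMap x).left := by
  have hcX : CompactSpace ↥X.left := QuasiCompact.compactSpace_of_compactSpace X.hom
  have hcG : CompactSpace ↥G.left := QuasiCompact.compactSpace_of_compactSpace G.hom
  have hnX : IsLocallyNoetherian X.left := LocallyOfFiniteType.isLocallyNoetherian X.hom
  have hqsX : QuasiSeparatedSpace ↥X.left := inferInstance
  have hqc : QuasiCompact (a.orbitMap x).left := inferInstance
  have hlft : LocallyOfFiniteType ((a.orbitMap x).left ≫ X.hom) := by rw [Over.w]; infer_instance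
  have hlft' : LocallyOfFiniteType (a.orbitMap x).left :=
    locallyOfFiniteType_of_comp (a.orbitMap x).left X.hom
  have hlfp : LocallyOfFinitePresentation (a.orbitMap x).left := inferInstance
  have hJ : JacobsonSpace ↥X.left := LocallyOfFiniteType.jacobsonSpace X.hom
  have hsurj : Surjective (a.orbitMap x).left := by
    have hcons : Topology.IsConstructible (Set.range (a.orbitMap x).left) := by
      rw [← Set.image_univ]
      exact (a.orbitMap x).left.isConstructible_image Topology.IsConstructible.univ
    have huniv := eq_univ_of_isConstructible hcons (by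
      intro y hy
      obtain ⟨p, hp1, hp2⟩ := exists_point_of_closedPoint (K := k) X.hom y hy
      have hp1' : p ≫ X.hom = 𝟙 _ := by
        rw [hp1, Algebra.algebraMap_self]
        exact Spec.map_id _
      obtain ⟨σ, hσ⟩ := htrans x (Over.homMk p hp1')
      refine ⟨σ.left (IsLocalRing.closedPoint k), ?_⟩
      rw [← Scheme.Hom.comp_apply, ← Over.comp_left, comp_orbitMap,
        toUnit_unique (toUnit (𝟙_ (Over (Spec (CommRingCat.of k))))) (𝟙 _), Category.id_comp, hσ]
      exact hp2 _)
    exact ⟨fun y => by rw [← Set.mem_range, huniv]; trivial⟩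
  have hflat : Flat (a.orbitMap x).left := flat_orbitMap_of_surjective k a x hsurj
  obtain ⟨Go, instGo, i, hi, hGo⟩ := exists_stabilizer a x
  have hQ := (Groth.Agent.S8009.result k G X Go a x i hGo).mpr ⟨hflat, hsurj⟩
  obtain ⟨-, -, -, hpb⟩ := hQ
  have hxlft : LocallyOfFiniteType x.left := by
    have : LocallyOfFiniteType (x.left ≫ X.hom) := by
      rw [Over.w]
      change LocallyOfFiniteType (𝟙 (Spec (CommRingCat.of k)))
      infer_instance
    exact locallyOfFiniteType_of_comp x.left X.hom
  have hilft : LocallyOfFiniteType i.left :=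
    MorphismProperty.of_isPullback (P := @LocallyOfFiniteType) (hGo.map (Over.forget _)).flip hxlft
  have hGolft : LocallyOfFiniteType Go.hom := by rw [← Over.w i]; infer_instance
  have hGosm : Smooth Go.hom := Groth.Agent.Lib.Helper25.Cart.smooth_of_charZero Go
  have hfst : Smooth (fst G Go).left := by
    change Smooth (pullback.fst G.hom Go.hom)
    infer_instance
  have sq : IsPullback (fst G Go).left ((G ◁ i) ≫ μ[G]).left (a.orbitMap x).left
      (a.orbitMap x).left := hpb.map (Over.forget _)
  exact MorphismProperty.of_isPullback_of_descendsAlong (P := @Smooth)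
    (Q := @Surjective ⊓ @Flat ⊓ @QuasiCompact) sq ⟨⟨hsurj, hflat⟩, hqc⟩ hfst

end Groth.Agent.S10927
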