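import Groth.Statements.S10933
import Mathlib
import Groth.Agent.Lib.Helper28ExtSelf
import Groth.Agent.S0563
import Groth.Agent.Lib.Helper5RLR
-- import your own Groth.Agent.* helpers here

set_option autoImplicit false
universe u
open CategoryTheory
open CAlg

namespace Groth.Agent.S10933
open CategoryTheory Groth.Agent.Lib.Helper28

/-- Let A be a (Noetherian) regular local ring, M a finitely generated A-module and d a natural number.
Then the projective dimension of M equals d if and only if Ext^j_A(M, A) = 0 for every j > d and
Ext^d_A(M, A) ≠ 0. (Projective dimension valued in WithBot ℕ∞, the zero module having projective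
dimension ⊥.) -/
theorem result (A : Type u) [CommRing A] [IsRegularLocalRing A]
    (M : Type u) [AddCommGroup M] [Module A M] [Module.Finite A M] (d : ℕ) :
    projectiveDimension (ModuleCat.of A M) = (d : WithBot ℕ∞) ↔
      ((∀ j : ℕ, d < j → Subsingleton (Abelian.Ext (ModuleCat.of A M) (ModuleCat.of A A) j)) ∧
        Nontrivial (Abelian.Ext (ModuleCat.of A M) (ModuleCat.of A A) d)) := by
  obtain ⟨n, hn⟩ := Groth.Agent.Lib.Helper5.exists_nat_ringKrullDim_eq A
  have hpd := Groth.Agent.S0563.result A n hn M
  constructor
  · intro h
    have hle : HasProjectiveDimensionLT (ModuleCat.of A M) (d + 1) := by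
      have : projectiveDimension (ModuleCat.of A M) ≤ d := h.le
      rwa [projectiveDimension_le_iff] at this
    refine ⟨fun j hj => HasProjectiveDimensionLT.subsingleton (ModuleCat.of A M) (d + 1) j
      (by omega) _, ?_⟩
    by_contra hnt
    rw [not_nontrivial_iff_subsingleton] at hnt
    cases d with
    | zero =>
      -- `M` is projective and nonzero, hence free of positive rank: `Hom(M, A) ≠ 0`
      rw [zero_add, Groth.Agent.Lib.Helper21.PdLoc.pdLT_one_iff] at hle
      have hfree : Module.Free A M := Module.free_of_flat_of_isLocalRing
      have hne : ¬ Subsingleton M := by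
        intro hs
        have : projectiveDimension (ModuleCat.of A M) = ⊥ := by
          rw [projectiveDimension_eq_bot_iff, ModuleCat.isZero_iff_subsingleton]
          exact hs
        rw [this] at h
        exact absurd h (by simp)
      rw [not_subsingleton_iff_nontrivial] at hne
      let b := Module.Free.chooseBasis A M
      have hι : Nonempty (Module.Free.ChooseBasisIndex A M) := b.index_nonempty
      obtain ⟨i⟩ := hι
      have h0 : (Abelian.Ext.mk₀ (ModuleCat.ofHom (b.coord i)) :
          Abelian.Ext (ModuleCat.of A M) (ModuleCat.of A A) 0) = Abelian.Ext.mk₀ 0 :=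
        Subsingleton.elim _ _
      have h1 := (Abelian.Ext.mk₀_bijective _ _).1 h0
      have h2 : b.coord i (b i) = 0 := by
        have := congrArg (fun f => f.hom (b i)) h1
        simpa using this
      rw [Module.Basis.coord_apply, Module.Basis.repr_self, Finsupp.single_eq_same] at h2
      exact one_ne_zero h2
    | succ k =>
      have hk : HasProjectiveDimensionLT (ModuleCat.of A M) (k + 1) := by
        refine hasProjectiveDimensionLT_of_forall_subsingleton_ext_self M k (n + 1) hpd ?_
        intro i hi
        by_cases hik : i = k + 1
        · rw [hik]; exact hnt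
        · exact HasProjectiveDimensionLT.subsingleton (ModuleCat.of A M) (k + 1 + 1) i (by omega) _
      have hlt := (projectiveDimension_lt_iff (X := ModuleCat.of A M) (n := k + 1)).mpr hk
      rw [h] at hlt
      exact lt_irrefl _ hlt
  · rintro ⟨h1, h2⟩
    have hle : HasProjectiveDimensionLT (ModuleCat.of A M) (d + 1) :=
      hasProjectiveDimensionLT_of_forall_subsingleton_ext_self M d (n + 1) hpd h1
    have hle' : projectiveDimension (ModuleCat.of A M) ≤ d := by
      rwa [projectiveDimension_le_iff]
    refine le_antisymm hle' ?_
    by_contra hlt
    rw [not_le, projectiveDimension_lt_iff] at hlt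
    have := HasProjectiveDimensionLT.subsingleton (ModuleCat.of A M) d d le_rfl (ModuleCat.of A A)
    exact not_subsingleton _ this

end Groth.Agent.S10933
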