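import Groth.Statements.S10935
import Mathlib
import Groth.Agent.Lib.Helper10CurveFlat
import Groth.Agent.Lib.Helper10DedFlat2
import Groth.Agent.Lib.Helper23UnitStalk
-- import your own Groth.Agent.* helpers here

set_option autoImplicit false
universe u
open CategoryTheory CategoryTheory.Limits AlgebraicGeometry
open FlatMor

namespace Groth.Agent.S10935

/-- Let Y be an integral, regular (every local ring a regular local ring), one-dimensional scheme with
generic point η, X a Noetherian scheme and f : X → Y a morphism. Then f is flat if and only if every
associated point x of X — a point such that the maximal ideal of O_{X,x} is an associated prime of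
O_{X,x} — satisfies f(x) = η. -/
theorem result {X Y : Scheme.{u}} (f : X ⟶ Y)
    [IsIntegral Y] (hreg : ∀ y : Y, IsRegularLocalRing (Y.presheaf.stalk y))
    (hY : topologicalKrullDim ↥Y = 1) [IsNoetherian X] :
    Flat f ↔ ∀ x : X, Curv2.IsAssPoint (Coh.structureModule X) x → f.base x = genericPoint ↥Y := by
  haveI : IsLocallyNoetherian X := inferInstance
  have hpid : ∀ y : Y, IsPrincipalIdealRing (Y.presheaf.stalk y) := by
    intro y
    haveI := hreg y
    apply Groth.Agent.Lib.Helper10.DedFlat.isPrincipalIdealRing_of_regular
    rw [ringKrullDim_stalk_eq_coheight]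
    have := Groth.Agent.Lib.Helper10.CurveFlat.coheight_le_of_topologicalKrullDim_le Y 1
      (by exact_mod_cast hY.le) y
    exact_mod_cast this
  constructor
  · intro hf x hx
    rw [Groth.Agent.Lib.Helper23.UnitStalk.isAssPoint_structureModule_iff] at hx
    exact Groth.Agent.Lib.Helper10.DedFlat.map_eq_genericPoint_of_flat_of_ass f x hx
  · intro h
    apply Groth.Agent.Lib.Helper10.DedFlat.flat_of_assPoints f hpid
    intro ξ hξ
    exact h ξ ((Groth.Agent.Lib.Helper23.UnitStalk.isAssPoint_structureModule_iff ξ).mpr hξ)

end Groth.Agent.S10935
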