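import Groth.Statements.S10941
import Groth.Agent.Lib.Helper3CompDim
import Groth.Agent.Lib.Helper3EquiDim
import Groth.Agent.Lib.Helper3LocDimBC
import Groth.Agent.Lib.Helper6GenFib
import Groth.Agent.S7798
import Mathlib

set_option autoImplicit false
universe u
open CategoryTheory CategoryTheory.Limits AlgebraicGeometry
open FlatMor

namespace Groth.Agent.S10941

set_option linter.style.haveILetI false

open Groth.Agent.Lib.Helper4.DimFormula Groth.Agent.Lib.Helper4.FibDim
  Groth.Agent.Lib.Helper4.VarDim Groth.Agent.Lib.Helper3.CompDim in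
/-- irreducible lft over a field: `dim` is a natural number and all local dimensions equal it. -/
theorem exists_nat_dim_eq (k : Type u) [Field k] {Z : Scheme.{u}}
    (q : Z ⟶ Spec (CommRingCat.of k)) [LocallyOfFiniteType q] [IrreducibleSpace Z] :
    ∃ e : ℕ, topologicalKrullDim Z = (e : WithBot ℕ∞) ∧
      ∀ z : Z, FlatMor.localDim Z z = (e : WithBot ℕ∞) := by
  refine ⟨ptTrdeg q (genericPoint Z), Groth.Agent.S7798.dim_eq_ptTrdeg_genericPoint k q, ?_⟩
  letI : Z.Over (Spec (CommRingCat.of k)) := ⟨q⟩
  haveI : LocallyOfFiniteType (Z ↘ Spec (CommRingCat.of k)) := ‹LocallyOfFiniteType q›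
  rw [← Groth.Agent.Lib.Helper3.EquiDim.forall_dim_irreducibleComponents_eq_iff k Z]
  intro T hT
  rw [irreducibleComponents_eq_singleton, Set.mem_singleton_iff] at hT
  subst hT
  rw [← Groth.Agent.S7798.dim_eq_ptTrdeg_genericPoint k q]
  exact ((Homeomorph.Set.univ Z).isHomeomorph.topologicalKrullDim_eq)


theorem eq_of_add_eq (a : WithBot ℕ∞) (e n : ℕ)
    (h : ((e + n : ℕ) : WithBot ℕ∞) = a + (e : WithBot ℕ∞)) : a = (n : WithBot ℕ∞) := by
  induction a using WithBot.recBotCoe with
  | bot => simp at h
  | coe m =>
    induction m using ENat.recTopCoe with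
    | top =>
      exfalso
      have h1 : (((e + n : ℕ) : ℕ∞) : WithBot ℕ∞) = ((⊤ + (e : ℕ∞) : ℕ∞) : WithBot ℕ∞) := h
      rw [WithBot.coe_inj] at h1
      simp at h1
    | coe m =>
      have h1 : ((e + n : ℕ) : WithBot ℕ∞) = ((m + e : ℕ) : WithBot ℕ∞) := by
        refine h.trans ?_
        push_cast
        rfl
      have h2 : e + n = m + e := by exact_mod_cast h1
      have : m = n := by omega
      subst this
      rfl

/-- transfer of irreducibility along a homeomorphism. -/
theorem irreducibleSpace_of_homeomorph {A B : Type*} [TopologicalSpace A] [TopologicalSpace B]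
    (h : A ≃ₜ B) [IrreducibleSpace B] : IrreducibleSpace A := by
  rw [irreducibleSpace_def]
  have := (IrreducibleSpace.isIrreducible_univ B).image h.symm h.symm.continuous.continuousOn
  rwa [Set.image_univ, h.symm.surjective.range_eq] at this

/-- Let k be a field, X, Y and Y' schemes of finite type over k with Y irreducible, f : X → Y a flat
k-morphism and n a natural number such that every irreducible component of X has dimension dim Y +
n. Let g : Y' → Y be a k-morphism and f' : X ×_Y Y' → Y' the base change of f. Then for every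
irreducible closed subset V of Y', every irreducible component of the preimage of V under f' (with
the subspace topology) has dimension dim V + n. In particular (Y' = Y) every irreducible component
of f⁻¹(V) has dimension dim V + n for every irreducible closed V ⊆ Y. -/
theorem result (k : Type u) [Field k]
    {X Y Y' : Scheme.{u}} (qX : X ⟶ Spec (CommRingCat.of k)) (qY : Y ⟶ Spec (CommRingCat.of k))
    (qY' : Y' ⟶ Spec (CommRingCat.of k))
    [LocallyOfFiniteType qX] [QuasiCompact qX] [LocallyOfFiniteType qY] [QuasiCompact qY]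
    [LocallyOfFiniteType qY'] [QuasiCompact qY']
    [IrreducibleSpace ↥Y] (f : X ⟶ Y) (hf : f ≫ qY = qX) [Flat f] (n : ℕ)
    (hX : ∀ Z : Set ↥X, Z ∈ irreducibleComponents ↥X →
      topologicalKrullDim ↥Z = topologicalKrullDim ↥Y + (n : WithBot ℕ∞))
    (g : Y' ⟶ Y) (hg : g ≫ qY = qY')
    (V : Set ↥Y') (hV : IsClosed V) (hVirr : IsIrreducible V)
    (W : Set ↥((pullback.snd f g).base ⁻¹' V))
    (hW : W ∈ irreducibleComponents ↥((pullback.snd f g).base ⁻¹' V)) :
    topologicalKrullDim ↥W = topologicalKrullDim ↥V + (n : WithBot ℕ∞) := by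
  subst hf
  subst hg
  open Groth.Agent.Lib.Helper4.DimFormula Groth.Agent.Lib.Helper4.FibDim
    Groth.Agent.Lib.Helper4.VarDim Groth.Agent.Lib.Helper3.CompDim
    Groth.Agent.Lib.Helper3.EquiDim Groth.Agent.Lib.Helper3.LocDimBC in
  have main : topologicalKrullDim ↥W = topologicalKrullDim ↥V + (n : WithBot ℕ∞) := by
    have hK : IsField (CommRingCat.of k) := Field.toIsField k
    haveI : LocallyOfFiniteType f := locallyOfFiniteType_of_comp f qY
    obtain ⟨eY, hdY, hlY⟩ := exists_nat_dim_eq k qY
    -- local dimensions of `X`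
    have hlX : ∀ x : X, FlatMor.localDim X x = ((eY + n : ℕ) : WithBot ℕ∞) := by
      letI : X.Over (Spec (CommRingCat.of k)) := ⟨f ≫ qY⟩
      haveI : LocallyOfFiniteType (X ↘ Spec (CommRingCat.of k)) :=
        ‹LocallyOfFiniteType (f ≫ qY)›
      rw [← forall_dim_irreducibleComponents_eq_iff k X]
      intro Z hZ
      rw [hX Z hZ, hdY]
      push_cast
      rfl
    -- fibre dimensions of `f`
    have hfd : ∀ x : X, FlatMor.fibreDimAt f x = (n : WithBot ℕ∞) := by
      intro x
      have h := (localDim_le_add_of_field hK f qY x).2 (Flat.stalkMap f x)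
      rw [hlX, hlY] at h
      exact eq_of_add_eq _ eY n h
    -- base change to `Y'`
    have sq := IsPullback.of_hasPullback f g
    have hfd' : ∀ p : ↥(pullback f g), FlatMor.fibreDimAt (pullback.snd f g) p = (n : WithBot ℕ∞) := by
      intro p
      rw [fibreDimAt_eq_of_isPullback f g (pullback.fst f g) (pullback.snd f g) sq p]
      exact hfd _
    -- the closed subscheme on `V`
    let Vc : TopologicalSpace.Closeds Y' := ⟨V, hV⟩
    let I := Scheme.IdealSheafData.vanishingIdeal Vc
    let ι : I.subscheme ⟶ Y' := I.subschemeι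
    have hrange : Set.range ι = V := by
      show Set.range I.subschemeι = V
      rw [Scheme.IdealSheafData.range_subschemeι, Scheme.IdealSheafData.coe_support_vanishingIdeal]
      rfl
    let hV' : I.subscheme ≃ₜ V :=
      (ι.isEmbedding.toHomeomorph).trans (Homeomorph.setCongr hrange)
    haveI : IrreducibleSpace V := Subtype.irreducibleSpace hVirr
    haveI : IrreducibleSpace I.subscheme := irreducibleSpace_of_homeomorph hV'
    haveI : LocallyOfFiniteType (ι ≫ g ≫ qY) := inferInstance
    obtain ⟨eV, hdV, hlV⟩ := exists_nat_dim_eq k (ι ≫ g ≫ qY)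
    have hdV' : topologicalKrullDim V = (eV : WithBot ℕ∞) := by
      rw [← hdV]
      exact (hV'.isHomeomorph.topologicalKrullDim_eq).symm
    -- base change to the closed subscheme
    let f'' := pullback.snd (pullback.snd f g) ι
    let j := pullback.fst (pullback.snd f g) ι
    have sq2 := IsPullback.of_hasPullback (pullback.snd f g) ι
    haveI : LocallyOfFiniteType (pullback.snd f g) := inferInstance
    haveI : Flat f'' := inferInstance
    haveI : LocallyOfFiniteType f'' := inferInstance
    have hfd'' : ∀ p, FlatMor.fibreDimAt f'' p = (n : WithBot ℕ∞) := by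
      intro p
      rw [fibreDimAt_eq_of_isPullback (pullback.snd f g) ι j f'' sq2 p]
      exact hfd' _
    have hlP : ∀ p, FlatMor.localDim ↥(pullback (pullback.snd f g) ι) p =
        ((eV + n : ℕ) : WithBot ℕ∞) := by
      intro p
      have h := (localDim_le_add_of_field hK f'' (ι ≫ g ≫ qY) p).2 (Flat.stalkMap f'' p)
      rw [h, hfd'', hlV]
      push_cast
      exact add_comm _ _
    -- all irreducible components of the base change have dimension `eV + n`
    have hcomp : ∀ Z ∈ irreducibleComponents ↥(pullback (pullback.snd f g) ι),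
        topologicalKrullDim Z = ((eV + n : ℕ) : WithBot ℕ∞) := by
      letI : (pullback (pullback.snd f g) ι).Over (Spec (CommRingCat.of k)) :=
        ⟨f'' ≫ ι ≫ g ≫ qY⟩
      haveI : LocallyOfFiniteType ((pullback (pullback.snd f g) ι) ↘ Spec (CommRingCat.of k)) :=
        inferInstanceAs (LocallyOfFiniteType (f'' ≫ ι ≫ g ≫ qY))
      rw [forall_dim_irreducibleComponents_eq_iff k (pullback (pullback.snd f g) ι)]
      exact hlP
    -- homeomorphism with the preimage
    have hjr : Set.range j = (pullback.snd f g).base ⁻¹' V := by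
      rw [← hrange]
      exact Scheme.Pullback.range_fst (pullback.snd f g) ι
    let hP : ↥(pullback (pullback.snd f g) ι) ≃ₜ ↥((pullback.snd f g).base ⁻¹' V) :=
      (j.isEmbedding.toHomeomorph).trans (Homeomorph.setCongr hjr)
    have h1 := Groth.Agent.Lib.Helper6.GenFib.preimage_mem_irreducibleComponents hP W hW
    have h2 := Groth.Agent.Lib.Helper6.GenFib.topologicalKrullDim_preimage_homeomorph hP W
    rw [← h2, hcomp _ h1, hdV']
    push_cast
    rfl
  exact main

end Groth.Agent.S10941
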