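import Groth.Statements.S10942
import Groth.Agent.Lib.Helper21RelExtSS

set_option autoImplicit false
universe u
open CategoryTheory AlgebraicGeometry Opposite
open Coherent

namespace Groth.Agent.S10942

open Groth.Agent.Lib.Helper21 Groth.Agent.Lib.Helper21.RelExt Groth.Agent.Lib.Helper21.RelExtSS
  Groth.Agent.Lib.Helper21.ModTensor3 Groth.Agent.Lib.Helper21.ModTensor5

/-- `DCoh.sheafHom F ≅ ModSite.sheafHom F`. -/
noncomputable def sheafHomIso {X : Scheme.{u}} (F : ModSite.Mod X.sheaf) [DCoh.HasSheafHom F]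
    [ModSite.HasSheafHom (O := X.sheaf) F] :
    (DCoh.sheafHom F : ModSite.Mod X.sheaf ⥤ ModSite.Mod X.sheaf) ≅
      ModSite.sheafHom (O := X.sheaf) F :=
  let e : tL X.sheaf F ≅ tR X.sheaf F := (brd X.sheaf).app F
  let adj₁ : tL X.sheaf F ⊣ (DCoh.sheafHom F : ModSite.Mod X.sheaf ⥤ ModSite.Mod X.sheaf) :=
    DCoh.sheafHomAdj F
  let adj₂ : tL X.sheaf F ⊣ ModSite.sheafHom (O := X.sheaf) F :=
    (ModSite.sheafHomAdj (O := X.sheaf) F).ofNatIsoLeft e.symm
  adj₁.rightAdjointUniq adj₂

theorem surjective_of_iso {X : Scheme.{u}} {A B : ModSite.Mod X.sheaf} (φ : A ≅ B)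
    (U V : (TopologicalSpace.Opens X)ᵒᵖ) (i : V ⟶ U)
    (h : Function.Surjective (B.val.map i).hom) : Function.Surjective (A.val.map i).hom := by
  intro s
  obtain ⟨t, ht⟩ := h ((φ.hom.val.app U).hom s)
  refine ⟨(φ.inv.val.app V).hom t, ?_⟩
  have h1 : (A.val.map i).hom ((φ.inv.val.app V).hom t) =
      (φ.inv.val.app U).hom ((B.val.map i).hom t) :=
    (PresheafOfModules.naturality_apply φ.inv.val i t).symm
  rw [h1, ht]
  have h2 : (φ.hom ≫ φ.inv).val.app U = 𝟙 _ := by rw [φ.hom_inv_id]; rfl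
  exact congrArg (fun m => m.hom s) h2

/-- Let X be a scheme, F an O_X-module for which the internal Hom functor Hom(F, -) exists (as the right
adjoint of F ⊗ -; always true) and I an injective object of the category of O_X-modules. Then the
O_X-module Hom(F, I) is flasque: for all opens U ⊆ V of X the restriction map Hom(F, I)(V) → Hom(F,
I)(U) is surjective. -/
theorem result (X : Scheme.{u}) (F I : X.Modules)
    [DCoh.HasSheafHom F] (hI : Injective I) (U V : X.Opens) (hUV : U ≤ V) :
    Function.Surjective (((DCoh.sheafHom F).obj I).val.map (homOfLE hUV).op).hom := by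
  haveI : ModSite.HasSheafHom (O := X.sheaf) F := hasSheafHom F
  haveI : @Injective (ModSite.Mod X.sheaf) _ I := hI
  have h1 : CohCx.IsTotallyAcyclic
      (ModSite.toAb ((ModSite.sheafHom (O := X.sheaf) F).obj I)) :=
    Groth.Agent.S6150.result X.sheaf F I
  have h2 := isFlasque_of_isTotallyAcyclic _ h1
  refine surjective_of_iso ((sheafHomIso F).app I) (op U) (op V) (homOfLE hUV).op ?_
  have h3 := h2.epi (homOfLE hUV).op
  rw [AddCommGrpCat.epi_iff_surjective] at h3
  exact h3

end Groth.Agent.S10942
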