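import Groth.Statements.S10944
import Mathlib.AlgebraicGeometry.Morphisms.UniversallyOpen

set_option autoImplicit false
universe u
open CategoryTheory AlgebraicGeometry
open FlatMor

namespace Groth.Agent.S10944

/-- Let f : X → Y be a flat morphism of Noetherian schemes and Y' an irreducible component of Y. Then
f⁻¹(Y') is the union of the irreducible components Z of X with f(Z) ⊆ Y'. -/
theorem result {X Y : Scheme.{u}}
    [IsNoetherian X] [IsNoetherian Y] (f : X ⟶ Y) [Flat f]
    (Y' : Set ↥Y) (hY' : Y' ∈ irreducibleComponents ↥Y) :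
    f.base ⁻¹' Y' = ⋃₀ {Z : Set ↥X | Z ∈ irreducibleComponents ↥X ∧ f.base '' Z ⊆ Y'} := by
  have hgen : GeneralizingMap f.base := Flat.generalizingMap f
  have hY'closed : IsClosed Y' := isClosed_of_mem_irreducibleComponents Y' hY'
  have hY'irr : IsIrreducible Y' := hY'.1
  apply Set.Subset.antisymm
  · intro x hx
    obtain ⟨η, hη⟩ := QuasiSober.sober hY'irr hY'closed
    have hspec : η ⤳ f.base x := by
      rw [specializes_iff_mem_closure, hη.def]
      exact hx
    obtain ⟨x', hx'x, hx'η⟩ := hgen hspec
    set Z := irreducibleComponent x' with hZ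
    have hZmem : Z ∈ irreducibleComponents ↥X := irreducibleComponent_mem_irreducibleComponents x'
    have hZclosed : IsClosed Z := isClosed_of_mem_irreducibleComponents Z hZmem
    have hx'Z : x' ∈ Z := mem_irreducibleComponent
    have hxZ : x ∈ Z := hx'x.mem_closed hZclosed hx'Z
    obtain ⟨ξ, hξ⟩ := QuasiSober.sober hZmem.1 hZclosed
    have hξx' : ξ ⤳ x' := by
      rw [specializes_iff_mem_closure, hξ.def]; exact hx'Z
    have hfξ : f.base ξ ⤳ η := by
      rw [← hx'η]; exact hξx'.map f.base.hom.continuous
    have hY'le : Y' ≤ closure {f.base ξ} := by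
      rw [← hη.def]
      exact closure_minimal (Set.singleton_subset_iff.mpr (specializes_iff_mem_closure.mp hfξ))
        isClosed_closure
    have hle : closure {f.base ξ} ≤ Y' :=
      hY'.2 (isIrreducible_singleton.closure) hY'le
    refine ⟨Z, ⟨hZmem, ?_⟩, hxZ⟩
    rw [← hξ.def]
    refine (image_closure_subset_closure_image f.base.hom.continuous).trans ?_
    rw [Set.image_singleton]
    exact hle
  · rintro x ⟨Z, ⟨-, hZ⟩, hxZ⟩
    exact hZ ⟨x, hxZ, rfl⟩

end Groth.Agent.S10944
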