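import Groth.Statements.S10945
import Mathlib
-- import your own Groth.Agent.* helpers here

set_option autoImplicit false
universe u
open CategoryTheory AlgebraicGeometry Opposite
open Coherent

namespace Groth.Agent.S10945
open CategoryTheory.Limits


/-- a morphism into the middle of a short exact sequence is epi as soon as it covers sub and quotient -/
theorem epi_coprod_desc {C : Type*} [Category C] [Abelian C] (S : ShortComplex C) (hS : S.ShortExact)
    {P Q : C} (a : P ⟶ S.X₁) [Epi a] (c : Q ⟶ S.X₂) [Epi (c ≫ S.g)] :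
    Epi (coprod.desc (a ≫ S.f) c) := by
  haveI := hS.epi_g
  apply Preadditive.epi_of_cancel_zero
  intro D h hh
  have h1 : (a ≫ S.f) ≫ h = 0 := by
    have := congrArg (fun φ => coprod.inl ≫ φ) hh
    rw [← Category.assoc, coprod.inl_desc, comp_zero] at this
    exact this
  have h2 : c ≫ h = 0 := by
    have := congrArg (fun φ => coprod.inr ≫ φ) hh
    rw [← Category.assoc, coprod.inr_desc, comp_zero] at this
    exact this
  have h3 : S.f ≫ h = 0 := by
    rw [Category.assoc] at h1
    exact (cancel_epi a).1 (h1.trans comp_zero.symm)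
  have h4 : S.g ≫ hS.exact.desc h h3 = h := hS.exact.g_desc h h3
  have h5 : (c ≫ S.g) ≫ hS.exact.desc h h3 = 0 := by
    rw [Category.assoc, h4, h2]
  have h6 : hS.exact.desc h h3 = 0 := (cancel_epi (c ≫ S.g)).1 (h5.trans comp_zero.symm)
  rw [← h4, h6, comp_zero]

/-- the compatible family of restrictions of a global section -/
noncomputable def sectionsOfTop {X : Scheme.{u}} (M : X.Modules) (m : M.val.obj (op ⊤)) : M.sections :=
  PresheafOfModules.sectionsMk (M := M.val) (fun U => M.val.map (homOfLE (le_top : U.unop ≤ ⊤)).op m) (by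
    intro U V i
    rw [← PresheafOfModules.map_comp_apply]  
    rfl)

/-- Let X be a scheme and 0 → F' → F → F'' → 0 a short exact sequence of O_X-modules whose map on global
sections Γ(X, F) → Γ(X, F'') is surjective. If F' and F'' are generated by global sections (each is
a quotient of a free O_X-module), then F is generated by global sections. -/
theorem result (X : Scheme.{u})
    (S : ShortComplex X.Modules) (hS : S.ShortExact)
    (hsurj : Function.Surjective (S.g.val.app (op ⊤)).hom)
    (h1 : Curv2.IsGloballyGenerated S.X₁) (h3 : Curv2.IsGloballyGenerated S.X₃) :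
    Curv2.IsGloballyGenerated S.X₂ := by
  obtain ⟨I₁, p1, hp1⟩ := h1
  obtain ⟨I₃, p3, hp3⟩ := h3
  -- lift the generators of `S.X₃`
  have hlift : ∀ i : I₃, ∃ t : S.X₂.val.obj (op ⊤),
      (S.g.val.app (op ⊤)).hom t = (S.X₃.freeHomEquiv p3 i).1 (op ⊤) := fun i => hsurj _
  choose t ht using hlift
  let τ : I₃ → S.X₂.sections := fun i => sectionsOfTop S.X₂ (t i)
  let q : SheafOfModules.free I₃ ⟶ S.X₂ := S.X₂.freeHomEquiv.symm τ
  have hq : q ≫ S.g = p3 := by
    apply S.X₃.freeHomEquiv.injective
    funext i
    refine (SheafOfModules.freeHomEquiv_comp_apply q S.g i).trans ?_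
    have hqi : S.X₂.freeHomEquiv q i = τ i := congrFun (S.X₂.freeHomEquiv.apply_symm_apply τ) i
    refine (congrArg (SheafOfModules.sectionsMap S.g) hqi).trans ?_
    apply PresheafOfModules.sections_ext
    intro U
    show (S.g.val.app U).hom (S.X₂.val.map (homOfLE (le_top : U.unop ≤ ⊤)).op (t i)) = _
    have hnat := PresheafOfModules.naturality_apply S.g.val (homOfLE (le_top : U.unop ≤ ⊤)).op (t i)
    rw [hnat, ht i]
    exact PresheafOfModules.sections_property (S.X₃.freeHomEquiv p3 i) _
  have hqg : Epi (q ≫ S.g) := hq ▸ hp3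
  have hepi := @epi_coprod_desc _ _ _ S hS _ _ p1 hp1 q hqg
  refine ⟨I₁ ⊕ I₃, (SheafOfModules.freeSumIso I₁ I₃).inv ≫ coprod.desc (p1 ≫ S.f) q, ?_⟩
  exact @epi_comp _ _ _ _ _ _ inferInstance _ hepi

end Groth.Agent.S10945
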