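import Groth.Statements.S10946
import Mathlib
import Groth.Agent.Lib.Helper27QCohVanish

set_option autoImplicit false
universe u
open CategoryTheory AlgebraicGeometry
open Coherent

namespace Groth.Agent.S10946

/-- Let X be a Noetherian separated scheme and n a natural number such that H^i(X, F) = 0 for all
coherent O_X-modules F and all i > n. Then H^i(X, G) = 0 for all quasi-coherent O_X-modules G and
all i > n. -/
theorem result (X : Scheme.{u}) [IsNoetherian X]
    [X.IsSeparated] (n : ℕ)
    (h : ∀ F : X.Modules, Coh.IsCoh F → ∀ i : ℕ, n < i → Subsingleton (Coh.HH X F i))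
    (G : X.Modules) (hG : Coh.IsQCoh G) (i : ℕ) (hi : n < i) :
    Subsingleton (Coh.HH X G i) := by
  classical
  haveI : CompactSpace X := inferInstance
  haveI : QuasiSeparatedSpace X := inferInstance
  have hd : ∀ V W : X.Opens, IsAffineOpen V → IsAffineOpen W → IsAffineOpen (V ⊓ W) := by
    intro V W hV hW
    have : IsSeparated (Limits.terminal.from X) := Scheme.IsSeparated.isSeparated_terminal_from
    have h : IsAffineHom (Limits.pullback.diagonal (Limits.terminal.from X)) := inferInstance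
    exact isAffineHom_diagonal_iff.mp h ⊤ (isAffineOpen_top _) V (by simp) W (by simp) hV hW
  obtain ⟨t, U, hU, hcov⟩ : ∃ (t : ℕ) (U : Fin t → X.Opens),
      (∀ i, IsAffineOpen (U i)) ∧ ⨆ i, U i = ⊤ := by
    have hx : ∀ x : X, ∃ V : X.Opens, IsAffineOpen V ∧ x ∈ V := fun x => by
      obtain ⟨V, hV, hxV, -⟩ := AlgebraicGeometry.exists_isAffineOpen_mem_and_subset
        (X := X) (x := x) (U := ⊤) trivial
      exact ⟨V, hV, hxV⟩
    choose V hV hxV using hx
    obtain ⟨T, hT⟩ := isCompact_univ.elim_finite_subcover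
      (fun x : X => ((V x : X.Opens) : Set X))
      (fun x => (V x).2)
      (fun x _ => Set.mem_iUnion.2 ⟨x, hxV x⟩)
    refine ⟨T.card, fun i => V (T.equivFin.symm i : X), fun i => hV _, ?_⟩
    rw [eq_top_iff]
    intro x _
    obtain ⟨y, hy⟩ := Set.mem_iUnion.1 (hT (Set.mem_univ x))
    obtain ⟨hyT, hxy⟩ := Set.mem_iUnion.1 hy
    refine TopologicalSpace.Opens.mem_iSup.2 ⟨T.equivFin ⟨y, hyT⟩, ?_⟩
    simpa using hxy
  refine Groth.Agent.Lib.Helper27QCohVanish.vanishing_of_generating t U hU hcov hd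
    (fun P => Coh.IsCoh P) n (fun P hP => ⟨hP.1, fun i hi => h P hP i hi⟩) ?_ G hG i hi
  intro F hFq hFt
  exact ⟨F, 𝟙 F, ⟨hFq, hFt⟩, inferInstance⟩

end Groth.Agent.S10946
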