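import Groth.Statements.S10947
import Mathlib
import Groth.Agent.S0010
import Groth.Agent.Lib.Helper27QProjCover2
import Groth.Agent.Lib.Helper27SuppDimVan
import Groth.Agent.Lib.Helper27SerreVan
import Groth.Agent.Lib.Helper23ResProp
import Groth.Agent.Lib.Helper23PB2
import Groth.Agent.Lib.Helper23VeryAmple3
import Groth.Agent.Lib.Helper21HZB9
import Groth.Agent.Lib.Helper4DevD

set_option autoImplicit false
universe u
open CategoryTheory AlgebraicGeometry
open Coherent

namespace Groth.Agent.S10947

/-- Let k be a field and X a quasi-projective scheme over k, given with an immersion ι : X → P^N_k into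
a projective space. If n is a natural number with H^i(X, E) = 0 for all finite locally free
O_X-modules E and all i > n, then H^i(X, F) = 0 for all coherent O_X-modules F (quasi-coherent of
finite type) and all i > n. -/
theorem result
    (k : Type u) [Field k] (N : ℕ) {X : Scheme.{u}} (ι : X ⟶ CohB1.ProjSpace N k) [IsImmersion ι]
    (n : ℕ) (h : ∀ E : X.Modules, FlatMod.IsFinLocFree E → ∀ i : ℕ, n < i → Subsingleton (Coh.HH X E i))
    (F : X.Modules) (hF : Coh.IsCoh F) (i : ℕ) (hi : n < i) :
    Subsingleton (Coh.HH X F i) := by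
  classical
  have hN := Groth.Agent.Lib.Helper27QProjCover.isNoetherian_projSpace N k
  haveI : IsLocallyNoetherian (CohB1.ProjSpace N k) := hN.toIsLocallyNoetherian
  haveI : IsLocallyNoetherian X := LocallyOfFiniteType.isLocallyNoetherian ι
  have hNs : TopologicalSpace.NoetherianSpace (CohB1.ProjSpace N k) :=
    IsNoetherian.noetherianSpace (X := CohB1.ProjSpace N k)
  haveI hXN : TopologicalSpace.NoetherianSpace X := ι.isEmbedding.isInducing.noetherianSpace
  haveI : CompactSpace X := inferInstance
  -- ampleness of the pulled back O(1)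
  have hamp : CohB1.IsAmple ((Scheme.Modules.pullback ι).obj (Twist.twistProjSpace N k 1)) := by
    refine Groth.Agent.Lib.Helper23.PB.isAmple_pullback_of_quasiAffine ι _
      (Groth.Agent.Lib.Helper23.VeryAmple3.isAmple_twistProjSpace (n := N) (R := k)) ?_
    intro A hA
    haveI : IsAffine (A : Scheme.{u}) := hA
    haveI : IsImmersion (ι ∣_ A) := MorphismProperty.of_isPullback
      (isPullback_morphismRestrict ι A).flip inferInstance
    haveI : TopologicalSpace.NoetherianSpace ((ι ⁻¹ᵁ A : X.Opens) : Scheme.{u}) :=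
      (ι ⁻¹ᵁ A).ι.isEmbedding.isInducing.noetherianSpace
    haveI : CompactSpace ((ι ⁻¹ᵁ A : X.Opens) : Scheme.{u}) := inferInstance
    exact Scheme.IsQuasiAffine.of_isImmersion (ι ∣_ A)
  -- separatedness
  have hp := Groth.Agent.Lib.Helper27ProjSpaceFibres.isProper_projSpace_toSpec N k
  haveI : IsSeparated (ι ≫ CohB1.ProjSpace.toSpec N k) := inferInstance
  have hd : ∀ V W : X.Opens, IsAffineOpen V → IsAffineOpen W → IsAffineOpen (V ⊓ W) :=
    fun V W hV hW => Groth.Agent.Lib.Helper27SuppDimVan.isAffineOpen_inf_of_isSeparated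
      (ι ≫ CohB1.ProjSpace.toSpec N k) V W hV hW
  -- finite affine cover
  obtain ⟨t, U, hU, hcov⟩ : ∃ (t : ℕ) (U : Fin t → X.Opens),
      (∀ i, IsAffineOpen (U i)) ∧ ⨆ i, U i = ⊤ := by
    have hx : ∀ x : X, ∃ V : X.Opens, IsAffineOpen V ∧ x ∈ V := fun x => by
      obtain ⟨V, hV, hxV, -⟩ := AlgebraicGeometry.exists_isAffineOpen_mem_and_subset
        (X := X) (x := x) (U := ⊤) trivial
      exact ⟨V, hV, hxV⟩
    choose V hV hxV using hx
    obtain ⟨T, hT⟩ := isCompact_univ.elim_finite_subcover
      (fun x : X => ((V x : X.Opens) : Set X))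
      (fun x => (V x).2)
      (fun x _ => Set.mem_iUnion.2 ⟨x, hxV x⟩)
    refine ⟨T.card, fun i => V (T.equivFin.symm i : X), fun i => hV _, ?_⟩
    rw [eq_top_iff]
    intro x _
    obtain ⟨y, hy⟩ := Set.mem_iUnion.1 (hT (Set.mem_univ x))
    obtain ⟨hyT, hxy⟩ := Set.mem_iUnion.1 hy
    refine TopologicalSpace.Opens.mem_iSup.2 ⟨T.equivFin ⟨y, hyT⟩, ?_⟩
    simpa using hxy
  have key : ∀ j : ℕ, ∀ i : ℕ, n < i → t ≤ i + j → ∀ F : X.Modules, Coh.IsCoh F →
      Subsingleton (Coh.HH X F i) := by
    intro j
    induction j with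
    | zero =>
      intro i _ hti F hF
      haveI : Coh.IsQCoh F := hF.1
      exact Groth.Agent.S0010.result X t U hU hcov hd F i (by omega)
    | succ j ih =>
      intro i hi hti F hF
      obtain ⟨E, π, hE, hπ⟩ :=
        Groth.Agent.Lib.Helper23.ResProp.hasResolutionProperty_of_isAmple _ hamp F hF.1 hF.2
      have hEc := Groth.Agent.Lib.Helper21.HZB.isCoh_of_isFinLocFree E hE
      have hK := Groth.Agent.Lib.Helper4.Dev.isCoh_kernel π hEc hF
      let S : ShortComplex X.Modules :=
        ShortComplex.mk (Limits.kernel.ι π) π (Limits.kernel.condition π)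
      have hS : S.ShortExact :=
        { exact := ShortComplex.exact_kernel π
          mono_f := (inferInstance : Mono (Limits.kernel.ι π))
          epi_g := hπ }
      exact Groth.Agent.Lib.Helper27SerreVan.subsingleton_of_shortExact S hS i
        (h E hE i hi) (ih (i + 1) (by omega) (by omega) _ hK)
  exact key t i hi (by omega) F hF

end Groth.Agent.S10947
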