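import Groth.Statements.S10948
import Mathlib
import Groth.Agent.S0816
import Groth.Agent.S0988
import Groth.Agent.Lib.Helper4DevD
import Groth.Agent.Lib.Helper27CoprodFin
import Groth.Agent.Lib.Helper20FreeSec

set_option autoImplicit false
universe u
open CategoryTheory AlgebraicGeometry
open Coherent

namespace Groth.Agent.S10948

open CategoryTheory CategoryTheory.Limits AlgebraicGeometry TopologicalSpace Opposite
open Groth.Agent.Lib.Helper4.Dev Groth.Agent.Lib.Helper23.QCohLocal Groth.Agent.Lib.Helper2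
  Groth.Agent.Lib.Helper23.FinType Groth.Agent.Lib.Helper23.Extend Groth.Agent.Lib.Helper6
  Groth.Agent.Lib.Helper27CoprodFin Groth.Agent.S0988

section abelian

variable {𝒜 ℬ : Type*} [Category 𝒜] [Abelian 𝒜] [Category ℬ] [Abelian ℬ]

/-- pushout of an isomorphism (after an exact functor) is an isomorphism -/
theorem isIso_map_inr_cokernel (R : 𝒜 ⥤ ℬ) [R.Additive] [PreservesFiniteLimits R]
    [PreservesFiniteColimits R] {F' P O : 𝒜} (ι : F' ⟶ P) (φ' : F' ⟶ O) [Mono ι]
    [IsIso (R.map ι)] :
    IsIso (R.map (biprod.inr ≫ cokernel.π (biprod.lift ι (-φ')))) := by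
  set g : F' ⟶ P ⊞ O := biprod.lift ι (-φ') with hg
  set π := cokernel.π g with hπ
  have h1 : g ≫ π = 0 := cokernel.condition g
  have hfst : g ≫ biprod.fst = ι := biprod.lift_fst _ _
  have h3 : ι ≫ (biprod.inl ≫ π) = φ' ≫ (biprod.inr ≫ π) := by
    have h4 : g = ι ≫ biprod.inl + (-φ') ≫ biprod.inr := biprod.lift_eq
    have h1' : (ι ≫ biprod.inl + (-φ') ≫ biprod.inr) ≫ π = 0 := by rw [← h4]; exact h1
    rw [Preadditive.add_comp, Preadditive.neg_comp, Preadditive.neg_comp, Category.assoc,
      Category.assoc, add_neg_eq_zero] at h1'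
    exact h1'
  haveI : Mono g := mono_of_mono_fac hfst
  haveI hepi : Epi (R.map (biprod.inr ≫ π)) := by
    have h5 : R.map π = (R.map biprod.fst ≫ inv (R.map ι) ≫ R.map φ' + R.map biprod.snd) ≫
        R.map (biprod.inr ≫ π) := by
      have h6 : R.map (biprod.inl ≫ π) = inv (R.map ι) ≫ R.map φ' ≫ R.map (biprod.inr ≫ π) := by
        rw [← cancel_epi (R.map ι), ← R.map_comp, h3, IsIso.hom_inv_id_assoc, R.map_comp]
      have h7 : π = biprod.fst ≫ (biprod.inl ≫ π) + biprod.snd ≫ (biprod.inr ≫ π) := by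
        rw [← Category.assoc, ← Category.assoc, ← Preadditive.add_comp, biprod.total,
          Category.id_comp]
      conv_lhs => rw [h7]
      rw [R.map_add, R.map_comp, R.map_comp biprod.snd, h6, Preadditive.add_comp]
      simp only [Category.assoc]
    haveI : Epi (R.map π) := inferInstance
    exact epi_of_epi_fac h5.symm
  haveI hmono : Mono (R.map (biprod.inr ≫ π)) := by
    apply Preadditive.mono_of_cancel_zero
    intro T t ht
    have hS : (ShortComplex.mk g π h1).Exact := ShortComplex.exact_cokernel g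
    have hS' := hS.map R
    haveI : Mono (R.map g) := inferInstance
    haveI : Mono ((ShortComplex.mk g π h1).map R).f := by
      change Mono (R.map g); infer_instance
    have ht' : (t ≫ R.map biprod.inr) ≫ ((ShortComplex.mk g π h1).map R).g = 0 := by
      change (t ≫ R.map biprod.inr) ≫ R.map π = 0
      rw [Category.assoc, ← R.map_comp]; exact ht
    have hl := hS'.lift_f (t ≫ R.map biprod.inr) ht'
    obtain ⟨s, hl'⟩ : ∃ s : T ⟶ R.obj F', s ≫ R.map g = t ≫ R.map biprod.inr := ⟨_, hl⟩
    have h8 : s ≫ R.map ι = 0 := by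
      rw [← hfst, R.map_comp, ← Category.assoc, hl', Category.assoc, ← R.map_comp,
        biprod.inr_fst, R.map_zero, comp_zero]
    have h9 : s = 0 := by
      rw [← cancel_mono (R.map ι), h8, zero_comp]
    rw [h9, zero_comp] at hl'
    have h10 : t = t ≫ R.map ((biprod.inr : O ⟶ P ⊞ O) ≫ biprod.snd) := by
      rw [biprod.inr_snd, R.map_id, Category.comp_id]
    rw [h10, R.map_comp, ← Category.assoc, ← hl', zero_comp]
  exact isIso_of_mono_of_epi _

end abelian


attribute [local instance] Abelian.hasFiniteBiproducts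

theorem ι_sigmaπ {X : Scheme.{u}} {r : ℕ} (f : Fin r → X.Modules) (k j : Fin r) :
    Sigma.ι f k ≫ sigmaπ f j = if h : k = j then eqToHom (by rw [h]) else 0 := by
  have h1 : Sigma.ι f k = biproduct.ι f k ≫ (biproduct.isoCoproduct f).hom := by
    rw [biproduct.isoCoproduct_hom, biproduct.ι_desc]
  rw [h1, sigmaπ, Category.assoc, Iso.hom_inv_id_assoc, biproduct.ι_π]

/-- a coherent module with prescribed sections over an open, isomorphic to `O_X` there -/
theorem exists_module_with_sections (X : Scheme.{u}) [IsNoetherian X] (V : X.Opens) {r : ℕ}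
    (e : Fin r → Γ(X, V)) :
    ∃ (M : X.Modules) (m : Fin r → (Coh.structureModule X ⟶ M)) (b : Coh.structureModule X ⟶ M),
      Coh.IsCoh M ∧ IsIso ((Scheme.Modules.restrictFunctor V.ι).map b) ∧
      ∀ k, (Scheme.Modules.restrictFunctor V.ι).map (m k) =
        homOfSection (Coh.structureModule X) V (e k) ≫
          (Scheme.Modules.restrictFunctor V.ι).map b := by
  haveI : IsLocallyNoetherian X := inferInstance
  let O := Coh.structureModule X
  have hO : Coh.IsCoh O := Groth.Agent.Lib.Helper28.HomSh.isCoh_structureModule' X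
  haveI : O.IsQuasicoherent := hO.1
  haveI : SheafOfModules.IsFiniteType (R := X.ringCatSheaf) O := hO.2
  let fO : Fin r → X.Modules := fun _ => O
  let P : X.Modules := ∐ fO
  have hP : Coh.IsCoh P := ⟨isQuasicoherent_sigma fO (fun _ => hO.1),
    isFiniteType_sigma fO (fun _ => hO.1) (fun _ => hO.2)⟩
  let Rj := Scheme.Modules.restrictFunctor V.ι
  let φV : Rj.obj P ⟶ Rj.obj O :=
    ∑ k, Rj.map (sigmaπ fO k) ≫ homOfSection O V (e k)
  obtain ⟨F', ι, φ', hι, hF', hiso, hcomp⟩ := Groth.Agent.S0816.result X P O hP hO V φV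
  haveI := hι
  haveI := hiso
  haveI : P.IsQuasicoherent := hP.1
  haveI : SheafOfModules.IsFiniteType (R := X.ringCatSheaf) P := hP.2
  have hPO : Coh.IsCoh (P ⊞ O : X.Modules) := ⟨isQuasicoherent_biprod P O, isFiniteType_biprod' P O⟩
  let g : F' ⟶ P ⊞ O := biprod.lift ι (-φ')
  let M : X.Modules := cokernel g
  let a : P ⟶ M := biprod.inl ≫ cokernel.π g
  let b : O ⟶ M := biprod.inr ≫ cokernel.π g
  have hM : Coh.IsCoh M := isCoh_cokernel g hF' hPO
  haveI : Rj.Additive := (Scheme.Modules.restrictAdjunction V.ι).left_adjoint_additive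
  haveI : PreservesFiniteLimits Rj := inferInstance
  haveI : PreservesFiniteColimits Rj := inferInstance
  have hb : IsIso (Rj.map b) := isIso_map_inr_cokernel Rj ι φ'
  have hab : ι ≫ a = φ' ≫ b := by
    have h1 : g ≫ cokernel.π g = 0 := cokernel.condition g
    have h4 : g = ι ≫ biprod.inl + (-φ') ≫ biprod.inr := biprod.lift_eq
    have h1' : (ι ≫ biprod.inl + (-φ') ≫ biprod.inr) ≫ cokernel.π g = 0 := by rw [← h4]; exact h1
    rw [Preadditive.add_comp, Preadditive.neg_comp, Preadditive.neg_comp, Category.assoc,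
      Category.assoc, add_neg_eq_zero] at h1'
    exact h1'
  have hRa : Rj.map a = φV ≫ Rj.map b := by
    rw [← cancel_epi (Rj.map ι), ← Rj.map_comp, hab, Rj.map_comp, hcomp, Category.assoc]
  refine ⟨M, fun k => Sigma.ι fO k ≫ a, b, hM, hb, fun k => ?_⟩
  rw [Rj.map_comp, hRa, ← Category.assoc]
  congr 1
  change Rj.map (Sigma.ι fO k) ≫ (∑ j, Rj.map (sigmaπ fO j) ≫ homOfSection O V (e j)) = _
  rw [Preadditive.comp_sum, Finset.sum_eq_single k]
  · rw [← Category.assoc, ← Rj.map_comp, ι_sigmaπ, dif_pos rfl, eqToHom_refl, Rj.map_id,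
      Category.id_comp]
  · intro j _ hjk
    rw [← Category.assoc, ← Rj.map_comp, ι_sigmaπ, dif_neg (Ne.symm hjk), Rj.map_zero, zero_comp]
  · intro h; exact absurd (Finset.mem_univ k) h


theorem app_one_eq {X : Scheme.{u}} (V : X.Opens) {M : X.Modules}
    (mk b : Coh.structureModule X ⟶ M) (ek : Γ(X, V))
    (h : (Scheme.Modules.restrictFunctor V.ι).map mk =
      homOfSection (Coh.structureModule X) V ek ≫ (Scheme.Modules.restrictFunctor V.ι).map b) :
    mk.app V (1 : Γ(X, V)) = b.app V ek := by
  let O := Coh.structureModule X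
  let W : X.Opens := V.ι ''ᵁ ⊤
  have hWV : W ≤ V := V.ι_image_le ⊤
  have hVW : V ≤ W := le_of_eq V.ι_image_top.symm
  have h1 : mk.app W (1 : Γ(X, W)) = b.app W ((1 : Γ(X, W)) • res O hWV ek) := by
    have := congrArg (fun k => (k.app ⊤).hom (1 : Γ(X, W))) h
    exact this
  rw [one_smul] at h1
  have h2 := congrArg (res M hVW) h1
  have e1 : res M hVW (mk.app W (1 : Γ(X, W))) = mk.app V (res O hVW (1 : Γ(X, W))) :=
    (app_map mk (homOfLE hVW) _).symm
  have e2 : res M hVW (b.app W (res O hWV ek)) = b.app V (res O hVW (res O hWV ek)) :=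
    (app_map b (homOfLE hVW) _).symm
  rw [e1, e2, res_res, Groth.Agent.Lib.Helper23.SubSh.res_id] at h2
  have hone : res O hVW (1 : Γ(X, W)) = (1 : Γ(X, V)) :=
    map_one (X.presheaf.map (homOfLE hVW).op).hom
  rw [hone] at h2
  exact h2


/-- injectivity on sections over an affine open and a torsion cokernel (with denominators
invertible at `y`) imply bijectivity on stalks at `y` -/
theorem stalkL_bijective_of_generic {Y : Scheme.{u}} {U : Y.Opens} (hU : IsAffineOpen U)
    {H N : Y.Modules} [H.IsQuasicoherent] [N.IsQuasicoherent] (p : H ⟶ N)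
    (hinj : Function.Injective (p.app U)) (y : Y) (hy : y ∈ U)
    (htors : ∀ n : Γ(N, U), ∃ t : Γ(Y, U), y ∈ Y.basicOpen t ∧ ∃ m : Γ(H, U), p.app U m = t • n) :
    Function.Bijective (stalkL p y) := by
  constructor
  · rw [injective_iff_map_eq_zero]
    intro x hx
    obtain ⟨s, m, hs, hsm⟩ := QCoh.exists_smul_eq_germ hU H y hy x
    rw [Scheme.mem_basicOpen Y s y hy] at hs
    have h1 : stalkL p y (Y.presheaf.germ U y hy s • x) = 0 := by rw [map_smul, hx, smul_zero]
    rw [hsm, stalkL_germ] at h1
    obtain ⟨t, ht, htm⟩ := QCoh.exists_smul_eq_zero_of_germ_eq_zero hU N y hy _ h1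
    rw [Scheme.mem_basicOpen Y t y hy] at ht
    rw [← Scheme.Modules.Hom.app_smul] at htm
    have h2 : t • m = 0 := hinj (htm.trans (map_zero _).symm)
    have h3 : Y.presheaf.germ U y hy t • H.presheaf.germ U y hy m = 0 := by
      rw [← QCoh.germ_smul, h2, map_zero]
    have h4 : H.presheaf.germ U y hy m = 0 := by
      have := congrArg (fun z => (ht.unit⁻¹ : (Y.presheaf.stalk y)ˣ).1 • z) h3
      simpa [smul_smul] using this
    rw [h4] at hsm
    have := congrArg (fun z => (hs.unit⁻¹ : (Y.presheaf.stalk y)ˣ).1 • z) hsm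
    simpa [smul_smul] using this
  · intro z
    obtain ⟨s, a, hs, hsa⟩ := QCoh.exists_smul_eq_germ hU N y hy z
    rw [Scheme.mem_basicOpen Y s y hy] at hs
    obtain ⟨t, ht, m, hm⟩ := htors a
    rw [Scheme.mem_basicOpen Y t y hy] at ht
    refine ⟨(ht.unit⁻¹ : (Y.presheaf.stalk y)ˣ).1 • (hs.unit⁻¹ : (Y.presheaf.stalk y)ˣ).1 •
      H.presheaf.germ U y hy m, ?_⟩
    have key : ∀ (a b c d : Y.presheaf.stalk y), a * c = 1 → b * d = 1 → a * b * c * d = 1 := by
      intro a b c d h1 h2
      calc a * b * c * d = (a * c) * (b * d) := by ring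
        _ = 1 := by rw [h1, h2, one_mul]
    rw [map_smul, map_smul, stalkL_germ, hm, QCoh.germ_smul, ← hsa, smul_smul, smul_smul,
      smul_smul, key _ _ _ _ (IsUnit.val_inv_mul ht) (IsUnit.val_inv_mul hs), one_smul]

theorem exists_indep_torsion (A B : Type u) [CommRing A] [IsDomain A] [CommRing B] [Algebra A B]
    [Module.Finite A B] (hinj : Function.Injective (algebraMap A B)) :
    ∃ (r : ℕ) (e : Fin r → B), 0 < r ∧ LinearIndependent A e ∧
      ∀ b : B, ∃ a : A, a ≠ 0 ∧ a • b ∈ Submodule.span A (Set.range e) := by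
  classical
  obtain ⟨s, hs, hli⟩ := exists_set_linearIndependent_of_isDomain A B
  have hfin : Module.rank A B < Cardinal.aleph0 := Module.rank_lt_aleph0 A B
  have hsfin : s.Finite := by
    rw [← Cardinal.lt_aleph0_iff_set_finite, hs]; exact hfin
  haveI : Fintype s := hsfin.fintype
  let r := Fintype.card s
  let eqv : Fin r ≃ s := (Fintype.equivFin s).symm
  let e : Fin r → B := fun i => (eqv i : B)
  have hrange : Set.range e = s := by
    ext b
    constructor
    · rintro ⟨i, rfl⟩; exact (eqv i).2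
    · intro hb; exact ⟨eqv.symm ⟨b, hb⟩, by simp [e]⟩
  have hlin : LinearIndependent A e := by
    have h1 : LinearIndependent A (fun x : s => (x : B)) := hli
    exact h1.comp eqv eqv.injective
  have htors : ∀ b : B, ∃ a : A, a ≠ 0 ∧ a • b ∈ Submodule.span A (Set.range e) := by
    rw [hrange]
    have h1 := rank_quotient_add_rank_of_isDomain (Submodule.span A s)
    rw [rank_span_set hli, hs] at h1
    have h2 : Module.rank A (B ⧸ Submodule.span A s) = 0 := by
      have h3 : Module.rank A (B ⧸ Submodule.span A s) + Module.rank A B = 0 + Module.rank A B := by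
        rw [h1, zero_add]
      exact Cardinal.eq_of_add_eq_add_right h3 hfin
    rw [rank_eq_zero_iff] at h2
    intro b
    obtain ⟨a, ha, hab⟩ := h2 (Submodule.Quotient.mk b)
    refine ⟨a, ha, ?_⟩
    rwa [← Submodule.Quotient.mk_smul, Submodule.Quotient.mk_eq_zero] at hab
  refine ⟨r, e, ?_, hlin, htors⟩
  by_contra hr
  have hr0 : r = 0 := Nat.eq_zero_of_not_pos hr
  obtain ⟨a, ha, hab⟩ := htors 1
  have hempty : Set.range e = ∅ := by
    rw [Set.range_eq_empty_iff]
    rw [hr0]; exact Fin.isEmpty'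
  rw [hempty, Submodule.span_empty, Submodule.mem_bot, Algebra.smul_def, mul_one] at hab
  exact ha (hinj (hab.trans (map_zero _).symm))


open Groth.Agent.Lib.Helper20 in

/-- Let f : X → Y be a finite surjective morphism of integral Noetherian schemes. Then there are an
integer r ≥ 1, a coherent O_X-module M (quasi-coherent of finite type) and a morphism of O_Y-modules
α : O_Y^r → f_*M (O_Y^r the free O_Y-module on r generators) such that the map induced by α on
stalks of the underlying abelian sheaves at the generic point of Y is an isomorphism. -/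
theorem result
    {X Y : Scheme.{u}} [IsIntegral X] [IsNoetherian X] [IsIntegral Y] [IsNoetherian Y]
    (f : X ⟶ Y) [IsFinite f] [Surjective f] :
    ∃ (r : ℕ) (M : X.Modules) (α : (SheafOfModules.free (ULift.{u} (Fin r)) : Y.Modules) ⟶
        (Scheme.Modules.pushforward f).obj M),
      0 < r ∧ Coh.IsCoh M ∧
      IsIso ((TopCat.Presheaf.stalkFunctor AddCommGrpCat.{u} (genericPoint ↥Y)).map
        ((SheafOfModules.toSheaf Y.ringCatSheaf).map α).hom) := by
  classical
  obtain ⟨_, ⟨W, hW, rfl⟩, hηW, -⟩ := Y.isBasis_affineOpens.exists_subset_of_mem_open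
    (Set.mem_univ (genericPoint Y)) isOpen_univ
  let V : X.Opens := f ⁻¹ᵁ W
  have hV : IsAffineOpen V := hW.preimage f
  haveI : Nonempty W := ⟨⟨genericPoint Y, hηW⟩⟩
  haveI : IsDomain Γ(Y, W) := inferInstance
  let φ : Γ(Y, W) →+* Γ(X, V) := (f.app W).hom
  letI : Algebra Γ(Y, W) Γ(X, V) := φ.toAlgebra
  haveI : Module.Finite Γ(Y, W) Γ(X, V) := IsFinite.finite_app f W hW
  haveI := IsSchemeTheoreticallyDominant.of_isDominant f
  have hφinj : Function.Injective (algebraMap Γ(Y, W) Γ(X, V)) := f.app_injective W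
  obtain ⟨r, e, hr, hlin, htorsB⟩ := exists_indep_torsion Γ(Y, W) Γ(X, V) hφinj
  -- reindex by `ULift (Fin r)`
  let e' : ULift.{u} (Fin r) → Γ(X, V) := fun k => e k.down
  have hlin' : LinearIndependent Γ(Y, W) e' := hlin.comp _ ULift.down_injective
  have hrange : Set.range e' = Set.range e :=
    Function.Surjective.range_comp ULift.down_surjective e
  obtain ⟨M, m, b, hM, hiso, hm⟩ := exists_module_with_sections X V e
  haveI : M.IsQuasicoherent := hM.1
  have hbV : Function.Bijective (b.app V) := by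
    have h1 : IsoOn b V := by
      have := (isIso_restrict_iff V.ι b).1 hiso
      rwa [Scheme.Opens.opensRange_ι] at this
    haveI := h1 V le_rfl
    exact (ConcreteCategory.isIso_iff_bijective (b.app V)).1 inferInstance
  let N : Y.Modules := (Scheme.Modules.pushforward f).obj M
  haveI : N.IsQuasicoherent := isQuasicoherent_pushforward f M
  let t : ULift.{u} (Fin r) → N.sections := fun k =>
    SheafOfModules.pushforwardSections f.toRingCatSheafHom (M.unitHomEquiv (m k.down))
  let α : (SheafOfModules.free (ULift.{u} (Fin r)) : Y.Modules) ⟶ N := N.freeHomEquiv.symm t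
  have htk : ∀ k, FreeSec.ev (Opposite.op W) (t k) = (m k.down).app V (1 : Γ(X, V)) := by
    intro k
    rfl
  have hform : ∀ c : ULift.{u} (Fin r) →₀ Γ(Y, W),
      Scheme.Modules.Hom.app α W (Finsupp.linearCombination Γ(Y, W)
        (fun k => FreeSec.ev (Opposite.op W)
          (SheafOfModules.freeSection (R := Y.ringCatSheaf) k)) c) =
      b.app V (Finsupp.linearCombination Γ(Y, W) e' c) := by
    intro c
    have h1 := FreeSec.freeHomEquiv_symm_app_linearCombination (Opposite.op W) t c
    refine h1.trans ?_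
    rw [Finsupp.linearCombination_apply, Finsupp.linearCombination_apply, Finsupp.sum,
      Finsupp.sum]
    refine (Finset.sum_congr rfl (fun k _ => ?_)).trans (map_sum (b.app V).hom _ _).symm
    rw [htk k, app_one_eq V (m k.down) b (e k.down) (hm k.down)]
    change φ (c k) • b.app V (e k.down) = b.app V (φ (c k) * e k.down)
    exact (Scheme.Modules.Hom.app_smul b (φ (c k)) (e k.down)).symm
  haveI : (SheafOfModules.free (ULift.{u} (Fin r)) : Y.Modules).IsQuasicoherent := inferInstance
  have hinj : Function.Injective (Scheme.Modules.Hom.app α W) := by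
    intro x x' hxx
    obtain ⟨c, rfl⟩ := FreeSec.exists_eq_linearCombination (S := Y.ringCatSheaf)
      (Opposite.op W) (ULift.{u} (Fin r)) x
    obtain ⟨c', rfl⟩ := FreeSec.exists_eq_linearCombination (S := Y.ringCatSheaf)
      (Opposite.op W) (ULift.{u} (Fin r)) x'
    have h1 := (hform c).symm.trans (hxx.trans (hform c'))
    have h2 := hbV.1 h1
    rw [hlin' h2]
  have htors : ∀ n : Γ(N, W), ∃ s : Γ(Y, W), genericPoint Y ∈ Y.basicOpen s ∧
      ∃ x : Γ((SheafOfModules.free (ULift.{u} (Fin r)) : Y.Modules), W),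
        Scheme.Modules.Hom.app α W x = s • n := by
    intro n
    obtain ⟨b₀, hb₀⟩ := hbV.2 n
    obtain ⟨a, ha, hab⟩ := htorsB b₀
    rw [← hrange, Finsupp.mem_span_range_iff_exists_finsupp] at hab
    obtain ⟨c, hc⟩ := hab
    refine ⟨a, ?_, _, (hform c).trans ?_⟩
    · have hne : Y.basicOpen a ≠ ⊥ := fun h => ha ((basicOpen_eq_bot_iff a).1 h)
      have hne' := (Opens.ne_bot_iff_nonempty _).1 hne
      exact ((genericPoint_spec Y).mem_open_set_iff (Y.basicOpen a).isOpen).2 (by simpa using hne')
    · rw [Finsupp.linearCombination_apply, hc, ← hb₀]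
      change b.app V (φ a • b₀) = φ a • b.app V b₀
      exact Scheme.Modules.Hom.app_smul b (φ a) b₀
  have hbij := stalkL_bijective_of_generic hW α hinj (genericPoint Y) hηW htors
  refine ⟨r, M, α, hr, hM, ?_⟩
  exact (ConcreteCategory.isIso_iff_bijective _).2 hbij

end Groth.Agent.S10948
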