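import Groth.Statements.S10953
import Mathlib.AlgebraicGeometry.Morphisms.Separated
import Mathlib.AlgebraicGeometry.PullbackCarrier

set_option autoImplicit false
universe u
open RedSep

namespace Groth.Agent.S10953

open AlgebraicGeometry CategoryTheory in
theorem aux {X S : Scheme.{u}} [IsAffine S] (f : X ⟶ S) (U : X.Opens) (hU : IsAffineOpen U) :
    IsClosedImmersion (Limits.pullback.diagonal f ∣_
      ((Limits.pullback.fst f f ⁻¹ᵁ U) ⊓ (Limits.pullback.snd f f ⁻¹ᵁ U))) := by
  set W : (Limits.pullback f f).Opens :=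
    (Limits.pullback.fst f f ⁻¹ᵁ U) ⊓ (Limits.pullback.snd f f ⁻¹ᵁ U) with hW
  haveI : IsAffine (U : Scheme.{u}) := hU
  -- W is affine
  have hWaff : IsAffineOpen W := by
    let j := Limits.pullback.map (U.ι ≫ f) (U.ι ≫ f) f f U.ι U.ι (𝟙 S) (by simp) (by simp)
    have hj : j.opensRange = W := by
      apply TopologicalSpace.Opens.ext
      have := Scheme.Pullback.range_map (U.ι ≫ f) (U.ι ≫ f) f f U.ι U.ι (𝟙 S) (by simp) (by simp)
      simp only [Scheme.Opens.range_ι] at this
      exact this
    rw [← hj]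
    exact isAffineOpen_opensRange j
  haveI : IsAffine (W : Scheme.{u}) := hWaff
  -- preimage of W under the diagonal is U
  have hpre : Limits.pullback.diagonal f ⁻¹ᵁ W = U := by
    rw [hW, Scheme.Hom.preimage_inf, ← Scheme.Hom.comp_preimage, ← Scheme.Hom.comp_preimage]
    simp
  -- the map W → U
  have hrange : Set.range ((W.ι ≫ Limits.pullback.fst f f)) ⊆ Set.range U.ι := by
    rintro _ ⟨w, rfl⟩
    rw [Scheme.Opens.range_ι]
    exact w.2.1
  let h' : (W : Scheme.{u}) ⟶ (U : Scheme.{u}) :=
    IsOpenImmersion.lift U.ι (W.ι ≫ Limits.pullback.fst f f) hrange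
  have hh' : h' ≫ U.ι = W.ι ≫ Limits.pullback.fst f f := IsOpenImmersion.lift_fac _ _ _
  have hcomp : (Limits.pullback.diagonal f ∣_ W) ≫ h' = (X.isoOfEq hpre).hom := by
    rw [← cancel_mono U.ι, Category.assoc, hh', Scheme.isoOfEq_hom_ι,
      morphismRestrict_ι_assoc]
    simp
  haveI : IsClosedImmersion ((Limits.pullback.diagonal f ∣_ W) ≫ h') := by
    rw [hcomp]; infer_instance
  exact IsClosedImmersion.of_comp _ h'

open AlgebraicGeometry CategoryTheory in
/-- For a morphism of schemes f : X → S to an affine scheme S such that any two points of X with the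
same image in S lie in one common affine open subset of X, the morphism f is separated. -/
theorem result {X S : Scheme.{u}} [IsAffine S] (f : X ⟶ S)
    (h : ∀ x y : X, f x = f y → ∃ U : X.Opens, IsAffineOpen U ∧ x ∈ U ∧ y ∈ U) :
    IsSeparated f := by
  refine ⟨?_⟩
  apply IsZariskiLocalAtTarget.of_iSup_eq_top (P := @IsClosedImmersion)
    (fun U : {U : X.Opens // IsAffineOpen U} =>
      (Limits.pullback.fst f f ⁻¹ᵁ U.1) ⊓ (Limits.pullback.snd f f ⁻¹ᵁ U.1))
  · -- the opens cover
    rw [eq_top_iff]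
    intro z _
    have hz : f (Limits.pullback.fst f f z) = f (Limits.pullback.snd f f z) := by
      rw [← Scheme.Hom.comp_apply, ← Scheme.Hom.comp_apply, Limits.pullback.condition]
    obtain ⟨U, hU, hx, hy⟩ := h _ _ hz
    rw [TopologicalSpace.Opens.mem_iSup]
    exact ⟨⟨U, hU⟩, hx, hy⟩
  · rintro ⟨U, hU⟩
    exact aux f U hU

end Groth.Agent.S10953
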