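import Groth.Statements.S10956
import Mathlib.RingTheory.Kaehler.TensorProduct

set_option autoImplicit false
universe u
open scoped TensorProduct
open CAlg

namespace Groth.Agent.S10956

attribute [local instance] Algebra.TensorProduct.rightAlgebra in
theorem aux (R A B : Type u) [CommRing R] [CommRing A] [CommRing B]
    [Algebra R A] [Algebra R B] :
    ∃ r : Ω[(A ⊗[R] B)⁄R] →ₗ[A ⊗[R] B] ((A ⊗[R] B) ⊗[A] Ω[A⁄R]),
      (∀ (a : A) (b : B), r (KaehlerDifferential.D R (A ⊗[R] B) (a ⊗ₜ[R] b)) =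
          ((1 : A) ⊗ₜ[R] b) ⊗ₜ[A] KaehlerDifferential.D R A a) ∧
        Function.Bijective (fun ω : Ω[(A ⊗[R] B)⁄R] =>
          (r ω, KaehlerDifferential.map R A (A ⊗[R] B) (A ⊗[R] B) ω)) := by
  have hr : ∀ (a : A) (b : B),
      ((KaehlerDifferential.tensorKaehlerEquiv R B A (A ⊗[R] B)).symm.toLinearMap ∘ₗ
        KaehlerDifferential.map R B (A ⊗[R] B) (A ⊗[R] B))
        (KaehlerDifferential.D R (A ⊗[R] B) (a ⊗ₜ[R] b)) =
          ((1 : A) ⊗ₜ[R] b) ⊗ₜ[A] KaehlerDifferential.D R A a := by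
    intro a b
    rw [LinearMap.comp_apply, KaehlerDifferential.map_D]
    simp only [Algebra.algebraMap_self, RingHom.id_apply, LinearEquiv.coe_coe]
    rw [KaehlerDifferential.tensorKaehlerEquiv_symm_D_tmul']
    rfl
  refine ⟨(KaehlerDifferential.tensorKaehlerEquiv R B A (A ⊗[R] B)).symm.toLinearMap ∘ₗ
      KaehlerDifferential.map R B (A ⊗[R] B) (A ⊗[R] B), hr, ?_⟩
  set r := (KaehlerDifferential.tensorKaehlerEquiv R B A (A ⊗[R] B)).symm.toLinearMap ∘ₗ
      KaehlerDifferential.map R B (A ⊗[R] B) (A ⊗[R] B) with hrdef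
  -- r is a retraction of mapBaseChange
  have hone : ∀ ω : Ω[A⁄R], r (KaehlerDifferential.map R R A (A ⊗[R] B) ω) =
      (1 : A ⊗[R] B) ⊗ₜ[A] ω := by
    intro ω
    have hω : ω ∈ Submodule.span A (Set.range (KaehlerDifferential.D R A)) := by
      rw [KaehlerDifferential.span_range_derivation]; trivial
    induction hω using Submodule.span_induction with
    | mem x hx =>
      obtain ⟨a, rfl⟩ := hx
      rw [KaehlerDifferential.map_D]
      have := hr a 1
      rw [Algebra.TensorProduct.algebraMap_apply, Algebra.algebraMap_self, RingHom.id_apply]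
      exact this
    | zero => simp
    | add x y _ _ hx hy => rw [map_add, map_add, hx, hy, TensorProduct.tmul_add]
    | smul a x _ hx =>
      rw [map_smul, ← algebraMap_smul (A ⊗[R] B) a, map_smul, hx, algebraMap_smul,
        TensorProduct.tmul_smul]
  have hretr : ∀ z : (A ⊗[R] B) ⊗[A] Ω[A⁄R],
      r (KaehlerDifferential.mapBaseChange R A (A ⊗[R] B) z) = z := by
    intro z
    induction z using TensorProduct.induction_on with
    | zero => simp
    | add x y hx hy => rw [map_add, map_add, hx, hy]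
    | tmul t ω =>
      rw [KaehlerDifferential.mapBaseChange_tmul, map_smul, hone, TensorProduct.smul_tmul',
        smul_eq_mul, mul_one]
  have hex := KaehlerDifferential.exact_mapBaseChange_map R A (A ⊗[R] B)
  have hsurj : Function.Surjective (KaehlerDifferential.map R A (A ⊗[R] B) (A ⊗[R] B)) :=
    KaehlerDifferential.map_surjective R A (A ⊗[R] B)
  constructor
  · intro ω₁ ω₂ h
    simp only [Prod.mk.injEq] at h
    obtain ⟨h1, h2⟩ := h
    have h3 : KaehlerDifferential.map R A (A ⊗[R] B) (A ⊗[R] B) (ω₁ - ω₂) = 0 := by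
      rw [map_sub, h2, sub_self]
    obtain ⟨z, hz⟩ := (hex (ω₁ - ω₂)).mp h3
    have h4 : r (ω₁ - ω₂) = 0 := by rw [map_sub, h1, sub_self]
    rw [← hz, hretr] at h4
    rw [h4, map_zero] at hz
    exact (sub_eq_zero.mp hz.symm)
  · rintro ⟨x, y⟩
    obtain ⟨ω₀, hω₀⟩ := hsurj y
    refine ⟨ω₀ + KaehlerDifferential.mapBaseChange R A (A ⊗[R] B) (x - r ω₀), ?_⟩
    simp only [Prod.mk.injEq]
    constructor
    · rw [map_add, hretr]; abel
    · rw [map_add, hω₀, (hex _).mpr ⟨_, rfl⟩, add_zero]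


/-- Let R be a commutative ring, A and B commutative R-algebras and T = A ⊗_R B, an A-algebra through
the left factor. There is a T-linear map r from Ω_{T/R} to T ⊗_A Ω_{A/R} sending d(a ⊗ b) to (1 ⊗ b)
⊗ da for all a in A and b in B, and together with the canonical map Ω_{T/R} → Ω_{T/A} it identifies
Ω_{T/R} with the product (T ⊗_A Ω_{A/R}) × Ω_{T/A}. (The published statement is the isomorphism of
(Ω_{A/R} ⊗_R B) ⊕ (A ⊗_R Ω_{B/R}) with Ω_{T/R} matching the exterior differentials; it is stated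
here through the canonical identifications T ⊗_A Ω_{A/R} = Ω_{A/R} ⊗_R B and Ω_{T/A} = A ⊗_R
Ω_{B/R}.) -/
theorem result (R A B : Type u) [CommRing R] [CommRing A] [CommRing B]
    [Algebra R A] [Algebra R B] :
    ∃ r : Ω[(A ⊗[R] B)⁄R] →ₗ[A ⊗[R] B] ((A ⊗[R] B) ⊗[A] Ω[A⁄R]),
      (∀ (a : A) (b : B), r (KaehlerDifferential.D R (A ⊗[R] B) (a ⊗ₜ[R] b)) =
          ((1 : A) ⊗ₜ[R] b) ⊗ₜ[A] KaehlerDifferential.D R A a) ∧
        Function.Bijective (fun ω : Ω[(A ⊗[R] B)⁄R] =>
          (r ω, KaehlerDifferential.map R A (A ⊗[R] B) (A ⊗[R] B) ω)) :=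
  aux R A B

end Groth.Agent.S10956
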