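import Groth.Statements.S10959
import Groth.Agent.Lib.Helper3OrbitA
import Mathlib

set_option autoImplicit false
set_option linter.style.haveILetI false
universe u
open CategoryTheory MonoidalCategory CartesianMonoidalCategory MonObj GrpObj AlgebraicGeometry
open AbVar

namespace Groth.Agent.S10959

open Groth.Agent.Lib.Helper3.Orbit Groth.Agent.Lib.Helper3.AbFibre IsLocalRing

section
variable {K : Type u} [Field K] {A : Over (Spec (CommRingCat.of K))} [GrpObj A]

/-- right translation by a rational point -/
noncomputable def R (x : 𝟙_ (Over (Spec (CommRingCat.of K))) ⟶ A) : A ⟶ A := 𝟙 A * (toUnit A ≫ x)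

lemma R_comp (x y : 𝟙_ (Over (Spec (CommRingCat.of K))) ⟶ A) : R x ≫ R y = R (x * y) := by
  unfold R
  rw [MonObj.comp_mul, Category.comp_id, ← Category.assoc, MonObj.comp_mul, _root_.mul_assoc]
  congr 2
  rw [toUnit_unique (((𝟙 A * (toUnit A ≫ x)) ≫ toUnit A)) (toUnit A)]

lemma R_one : R (1 : 𝟙_ (Over (Spec (CommRingCat.of K))) ⟶ A) = 𝟙 A := by
  unfold R
  rw [MonObj.comp_one, _root_.mul_one]

lemma point_R (z x : 𝟙_ (Over (Spec (CommRingCat.of K))) ⟶ A) : z ≫ R x = z * x := by
  unfold R
  rw [MonObj.comp_mul, Category.comp_id, ← Category.assoc]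
  congr 2
  rw [toUnit_unique (z ≫ toUnit A) (𝟙 _), Category.id_comp]

lemma R_inv_apply (x : 𝟙_ (Over (Spec (CommRingCat.of K))) ⟶ A) (w : A.left) :
    (R x⁻¹).left.base ((R x).left.base w) = w := by
  have h : R x ≫ R x⁻¹ = 𝟙 A := by rw [R_comp, _root_.mul_inv_cancel, R_one]
  exact congr($(h).left.base w)

lemma R_inv_apply' (x : 𝟙_ (Over (Spec (CommRingCat.of K))) ⟶ A) (w : A.left) :
    (R x).left.base ((R x⁻¹).left.base w) = w := by
  have h : R x⁻¹ ≫ R x = 𝟙 A := by rw [R_comp, _root_.inv_mul_cancel, R_one]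
  exact congr($(h).left.base w)

end

/-- Let K be an algebraically closed field and A an abelian variety over K (a group scheme over Spec K
with proper smooth structure morphism and irreducible underlying space). Let Z be a closed subset of
A which is not all of A, and z a K-valued point of A. Then there is a K-valued point x of A such
that the point underlying z lies neither in the translate of Z by x nor in the translate of Z by the
inverse of x; here the translation by x is the morphism A → A given on points by a ↦ a·x, the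
product of the identity and the constant map x in the group of morphisms into A. (The published
statement takes Z to be the support of an effective divisor; this row allows any closed subset other
than A.) -/
theorem result
    (K : Type u) [Field K] [IsAlgClosed K] (A : Over (Spec (CommRingCat.of K)))
    [GrpObj A] [IsProper A.hom] [Smooth A.hom] [IrreducibleSpace A.left]
    (Z : Set A.left) (hZ : IsClosed Z) (hZne : Z ≠ Set.univ)
    (z : 𝟙_ (Over (Spec (CommRingCat.of K))) ⟶ A) :
    ∃ x : 𝟙_ (Over (Spec (CommRingCat.of K))) ⟶ A,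
      Disjoint (Set.range z.left.base)
        ((𝟙 A * (toUnit A ≫ x)).left.base '' Z ∪ (𝟙 A * (toUnit A ≫ x)⁻¹).left.base '' Z) := by
  haveI : LocallyOfFiniteType A.hom := inferInstance
  haveI : JacobsonSpace A.left := LocallyOfFiniteType.jacobsonSpace A.hom
  -- the two morphisms `x ↦ z x⁻¹` and `x ↦ z x`
  let m1 : A ⟶ A := ι[A] ≫ T A z
  let m2 : A ⟶ A := T A z
  haveI : IsIso (T A z).left := inferInstanceAs (IsIso ((Over.forget _).map (T A z)))
  haveI : IsIso m1.left := inferInstanceAs (IsIso ((Over.forget _).map (ι[A] ≫ T A z)))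
  have hZc : (Zᶜ).Nonempty := by
    rw [Set.nonempty_compl]; exact hZne
  have hU1 : IsOpen (m1.left.base ⁻¹' Zᶜ) := hZ.isOpen_compl.preimage m1.left.continuous
  have hU2 : IsOpen (m2.left.base ⁻¹' Zᶜ) := hZ.isOpen_compl.preimage m2.left.continuous
  have hne1 : (m1.left.base ⁻¹' Zᶜ).Nonempty := by
    obtain ⟨w, hw⟩ := hZc
    obtain ⟨v, rfl⟩ := m1.left.homeomorph.surjective w
    exact ⟨v, hw⟩
  have hne2 : (m2.left.base ⁻¹' Zᶜ).Nonempty := by
    obtain ⟨w, hw⟩ := hZc
    obtain ⟨v, rfl⟩ := (T A z).left.homeomorph.surjective w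
    exact ⟨v, hw⟩
  have hne : (m1.left.base ⁻¹' Zᶜ ∩ m2.left.base ⁻¹' Zᶜ).Nonempty :=
    nonempty_preirreducible_inter hU1 hU2 hne1 hne2
  obtain ⟨x₀, ⟨hx1, hx2⟩, hx₀c⟩ := nonempty_inter_closedPoints hne
    (hU1.inter hU2).isLocallyClosed
  let x := ptOf x₀ hx₀c
  refine ⟨x, ?_⟩
  have e1 : (toUnit A ≫ x)⁻¹ = toUnit A ≫ x⁻¹ := (GrpObj.comp_inv _ _).symm
  rw [e1]
  change Disjoint _ ((R x).left.base '' Z ∪ (R x⁻¹).left.base '' Z)
  -- the points `z x⁻¹` and `z x`
  have h1 : (z * x⁻¹).left.base (closedPoint K) = m1.left.base x₀ := by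
    have h : x ≫ m1 = z * x⁻¹ := by
      show x ≫ ι[A] ≫ T A z = _
      rw [← Category.assoc, point_comp_T]
      rfl
    have := congr($(h).left.base (closedPoint K))
    rw [Over.comp_left] at this
    change m1.left.base (x.left.base (closedPoint K)) = _ at this
    rw [ptOf_apply] at this
    exact this.symm
  have h2 : (z * x).left.base (closedPoint K) = m2.left.base x₀ := by
    have h : x ≫ m2 = z * x := point_comp_T A x z
    have := congr($(h).left.base (closedPoint K))
    rw [Over.comp_left] at this
    change m2.left.base (x.left.base (closedPoint K)) = _ at this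
    rw [ptOf_apply] at this
    exact this.symm
  rw [Set.disjoint_left]
  rintro _ ⟨p, rfl⟩ hmem
  have hp : p = closedPoint K := Subsingleton.elim (α := PrimeSpectrum K) _ _
  rw [hp] at hmem
  rcases hmem with ⟨w, hw, hwz⟩ | ⟨w, hw, hwz⟩
  · -- z = w x, so w = z x⁻¹
    have : (R x⁻¹).left.base (z.left.base (closedPoint K)) = w := by
      rw [← hwz, R_inv_apply]
    have h3 : (z ≫ R x⁻¹).left.base (closedPoint K) = w := this
    rw [point_R, h1] at h3
    exact hx1 (h3 ▸ hw)
  · have : (R x).left.base (z.left.base (closedPoint K)) = w := by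
      rw [← hwz, R_inv_apply']
    have h3 : (z ≫ R x).left.base (closedPoint K) = w := this
    rw [point_R, h2] at h3
    exact hx2 (h3 ▸ hw)

end Groth.Agent.S10959
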