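import Groth.Statements.S12215
import Mathlib.RingTheory.Ideal.AssociatedPrime.Localization
-- import your own Groth.Agent.* helpers here

set_option autoImplicit false
universe u
open CategoryTheory CategoryTheory.Limits AlgebraicGeometry
open Divisors

namespace Groth.Agent.S12215

set_option linter.style.haveILetI false

section Alg

variable {R : Type u} [CommRing R] {M : Type u} [AddCommGroup M] [Module R M] (p : Ideal R)
    [p.IsPrime] (R' : Type u) [CommRing R'] [Algebra R R']
    [IsLocalization.AtPrime R' p] (M' : Type u) [AddCommGroup M'] [Module R M'] [Module R' M']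
    [IsScalarTower R R' M'] (f : M →ₗ[R] M') [IsLocalizedModule p.primeCompl f]

include p in
theorem ker_toSpanSingleton_eq_map (m : M) :
    LinearMap.ker (LinearMap.toSpanSingleton R' M' (f m)) =
      ((Submodule.span R {m}).annihilator).map (algebraMap R R') := by
  apply le_antisymm
  · intro r' hr'
    rw [LinearMap.mem_ker, LinearMap.toSpanSingleton_apply] at hr'
    obtain ⟨a, s, rfl⟩ := IsLocalization.exists_mk'_eq p.primeCompl r'
    have h1 : algebraMap R R' a • f m = 0 := by
      have h2 : algebraMap R R' a = algebraMap R R' s * IsLocalization.mk' R' a s := by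
        rw [mul_comm, IsLocalization.mk'_spec]
      rw [h2, mul_smul, hr', smul_zero]
    rw [algebraMap_smul, ← map_smul] at h1
    obtain ⟨t, ht⟩ := (IsLocalizedModule.eq_zero_iff p.primeCompl f).1 h1
    have hta : (t : R) * a ∈ (Submodule.span R {m}).annihilator := by
      rw [Submodule.mem_annihilator_span_singleton, mul_smul]
      exact ht
    have h3 : IsLocalization.mk' R' a s = IsLocalization.mk' R' ((t : R) * a) (t * s) := by
      rw [IsLocalization.mk'_eq_iff_eq]
      simp only [Submonoid.coe_mul]
      congr 1
      ring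
    rw [h3]
    exact (IsLocalization.mk'_mem_map_algebraMap_iff p.primeCompl R' _ _ _).2
      ⟨1, one_mem _, by simpa using hta⟩
  · rw [Ideal.map_le_iff_le_comap]
    intro a ha
    rw [Submodule.mem_annihilator_span_singleton] at ha
    rw [Ideal.mem_comap, LinearMap.mem_ker, LinearMap.toSpanSingleton_apply, algebraMap_smul,
      ← map_smul, ha, map_zero]

/-- in a local ring, `rad I = 𝔪` iff `𝔪` is minimal over `I`. -/
theorem radical_eq_maximalIdeal_iff {S : Type u} [CommRing S] [IsLocalRing S] (I : Ideal S) :
    I.radical = IsLocalRing.maximalIdeal S ↔ IsLocalRing.maximalIdeal S ∈ I.minimalPrimes := by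
  constructor
  · intro h
    refine ⟨⟨inferInstance, h ▸ Ideal.le_radical⟩, ?_⟩
    rintro q ⟨hq, hIq⟩ _
    rw [← h, ← hq.radical]
    exact Ideal.radical_mono hIq
  · intro h
    apply le_antisymm
    · rw [← (inferInstance : (IsLocalRing.maximalIdeal S).IsPrime).radical]
      exact Ideal.radical_mono h.1.2
    · rw [Ideal.radical_eq_sInf]
      refine le_sInf ?_
      rintro q ⟨hIq, hq⟩
      exact h.2 ⟨hq, hIq⟩ (IsLocalRing.le_maximalIdeal hq.ne_top)

include p f in
theorem weakAss_iff [IsLocalRing R'] :
    (∃ m : M, p ∈ (Submodule.span R {m}).annihilator.minimalPrimes) ↔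
      ∃ m' : M', Ideal.radical (LinearMap.ker (LinearMap.toSpanSingleton R' M' m')) =
        IsLocalRing.maximalIdeal R' := by
  have hmax : IsLocalRing.maximalIdeal R' = p.map (algebraMap R R') :=
    (IsLocalization.AtPrime.map_eq_maximalIdeal p R').symm
  constructor
  · rintro ⟨m, hm⟩
    refine ⟨f m, ?_⟩
    rw [ker_toSpanSingleton_eq_map p R' M' f m, hmax]
    exact IsLocalization.AtPrime.radical_map_of_mem_minimalPrimes R' p _ hm
  · rintro ⟨m', hm'⟩
    obtain ⟨⟨m, s⟩, rfl⟩ := IsLocalizedModule.mk'_surjective p.primeCompl f m'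
    refine ⟨m, ?_⟩
    have hker : LinearMap.ker (LinearMap.toSpanSingleton R' M'
        (Function.uncurry (IsLocalizedModule.mk' f) (m, s))) =
        LinearMap.ker (LinearMap.toSpanSingleton R' M' (f m)) := by
      ext r'
      simp only [LinearMap.mem_ker, LinearMap.toSpanSingleton_apply, Function.uncurry_apply_pair]
      have hu : IsUnit (algebraMap R R' s) := IsLocalization.map_units R' s
      have h1 : f m = algebraMap R R' s • IsLocalizedModule.mk' f m s := by
        rw [algebraMap_smul, ← Submonoid.smul_def, IsLocalizedModule.mk'_cancel']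
      constructor
      · intro h
        rw [h1, smul_comm, h, smul_zero]
      · intro h
        rw [h1, smul_comm] at h
        have := congrArg (fun y => ((hu.unit⁻¹ : R'ˣ) : R') • y) h
        simp only [smul_smul, smul_zero] at this
        rwa [← mul_assoc, IsUnit.val_inv_mul, one_mul] at this
    rw [hker, ker_toSpanSingleton_eq_map p R' M' f m, radical_eq_maximalIdeal_iff,
      IsLocalization.minimalPrimes_map p.primeCompl R'] at hm'
    have h2 : Ideal.under R (IsLocalRing.maximalIdeal R') = p :=
      IsLocalization.AtPrime.under_maximalIdeal R' p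
    rw [Set.mem_preimage, h2] at hm'
    exact hm'

end Alg

theorem aux1 (A : CommRingCat.{u}) (M : ModuleCat.{u} A) (x : PrimeSpectrum.Top A) :
    haveI : IsLocalRing ((structurePresheafInCommRingCat A).stalk x) :=
      inferInstanceAs (IsLocalRing ((Spec A).presheaf.stalk (show ↥(Spec A) from x)))
    x.asIdeal ∈ FlatCA.weakAss A M ↔
      ∃ m' : ↑(TopCat.Presheaf.stalk (moduleStructurePresheaf A M).presheaf x),
        Ideal.radical (LinearMap.ker (LinearMap.toSpanSingleton
          ((structurePresheafInCommRingCat A).stalk x)
          ↑(TopCat.Presheaf.stalk (moduleStructurePresheaf A M).presheaf x) m')) =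
        IsLocalRing.maximalIdeal ((structurePresheafInCommRingCat A).stalk x) := by
  haveI : IsLocalRing ((structurePresheafInCommRingCat A).stalk x) :=
      inferInstanceAs (IsLocalRing ((Spec A).presheaf.stalk (show ↥(Spec A) from x)))
  haveI : x.asIdeal.IsPrime := x.isPrime
  haveI : IsLocalization.AtPrime ((structurePresheafInCommRingCat A).stalk x) x.asIdeal :=
    StructureSheaf.IsLocalization.to_stalk A x
  exact weakAss_iff x.asIdeal ((structurePresheafInCommRingCat A).stalk x)
    ↑(TopCat.Presheaf.stalk (moduleStructurePresheaf A M).presheaf x)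
    (StructureSheaf.toStalkₗ A M x)

theorem result (A : CommRingCat.{u}) (M : ModuleCat.{u} A) (p : Spec A) :
    p.asIdeal ∈ FlatCA.weakAss A M ↔ Curv2.IsWeakAssPoint (tilde M) p := by
  exact aux1 A M p

end Groth.Agent.S12215
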