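import Groth.Statements.S8866
import Groth.Agent.Lib.Helper20RegMero
import Groth.Agent.Lib.Helper2FlatOver
import Groth.Agent.S12215

set_option autoImplicit false
universe u
open CategoryTheory CategoryTheory.Limits AlgebraicGeometry TopologicalSpace
open SDiv

namespace Groth.Agent.S8866

set_option linter.style.haveILetI false

open Groth.Agent.Lib.Helper20.RegMero Groth.Agent.Lib.Helper2.QCoh Groth.Agent.Lib.Helper2.FlatOver

/-- in a reduced ring, a prime minimal over the annihilator of an element is a minimal prime. -/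
theorem mem_minimalPrimes_of_isReduced {A : Type*} [CommRing A] [IsReduced A] (m : A) (p : Ideal A)
    (hp : p ∈ (Submodule.span A {m}).annihilator.minimalPrimes) : p ∈ minimalPrimes A := by
  haveI : p.IsPrime := hp.1.1
  have hann : ∀ a : A, a ∈ (Submodule.span A {m}).annihilator ↔ a * m = 0 := fun a => by
    rw [Submodule.mem_annihilator_span_singleton, smul_eq_mul]
  -- a prime `q ≤ p` not containing `m`
  let T : Submonoid A := p.primeCompl ⊔ Submonoid.powers m
  have hdisj : Disjoint ((⊥ : Ideal A) : Set A) (T : Set A) := by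
    rw [Set.disjoint_left]
    intro a ha haT
    rw [SetLike.mem_coe, Ideal.mem_bot] at ha
    subst ha
    obtain ⟨s, hs, _, ⟨n, rfl⟩, hsn⟩ := Submonoid.mem_sup.1 haT
    have hsn' : s * m ^ n = 0 := hsn
    have h1 : (s * m) ^ (n + 1) = 0 := by
      rw [mul_pow, pow_succ, pow_succ, mul_assoc, mul_comm s (m ^ n * m), mul_assoc, mul_comm m s,
        ← mul_assoc (m ^ n), mul_comm (m ^ n) s, hsn', zero_mul, mul_zero]
    have h2 : s * m = 0 := IsReduced.eq_zero _ ⟨n + 1, h1⟩
    exact hs (hp.1.2 ((hann s).2 h2))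
  obtain ⟨q, hq, -, hqT⟩ := Ideal.exists_le_prime_disjoint (⊥ : Ideal A) T hdisj
  obtain ⟨q', hq', hq'q⟩ := Ideal.exists_minimalPrimes_le (show (⊥ : Ideal A) ≤ q from bot_le)
  haveI : q'.IsPrime := hq'.1.1
  have hqp : q ≤ p := by
    intro a ha
    by_contra hap
    exact Set.disjoint_left.1 hqT ha (Submonoid.mem_sup_left (S := p.primeCompl) hap)
  have hmq : m ∉ q := fun hm =>
    Set.disjoint_left.1 hqT hm (Submonoid.mem_sup_right (Submonoid.mem_powers m))
  have hmq' : m ∉ q' := fun hm => hmq (hq'q hm)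
  have hpq' : p ≤ q' := by
    intro x hx
    obtain ⟨k, s, hs, hsk⟩ := Groth.Agent.S8861.exists_pow_mul_mem_of_mem_minimalPrimes hp hx
    have h1 : s * x ^ k * m = 0 := (hann _).1 hsk
    have h2 : s * x ^ k * m ∈ q' := h1 ▸ q'.zero_mem
    rcases Ideal.IsPrime.mem_or_mem ‹q'.IsPrime› h2 with h3 | h3
    · rcases Ideal.IsPrime.mem_or_mem ‹q'.IsPrime› h3 with h4 | h4
      · exact absurd (hqp (hq'q h4)) hs
      · exact Ideal.IsPrime.mem_of_pow_mem ‹q'.IsPrime› k h4
    · exact absurd h3 hmq'
  have : p = q' := le_antisymm hpq' (hq'q.trans hqp)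
  rw [this]
  exact hq'

/-- on a reduced scheme, weakly associated points of the structure sheaf are maximal points. -/
theorem hypA_of_isReduced (X : Scheme.{u}) [IsReduced X] : HypA X := by
  intro x hx
  obtain ⟨_, ⟨U, hU, rfl⟩, hxU, -⟩ :=
    X.isBasis_affineOpens.exists_subset_of_mem_open (Set.mem_univ x) isOpen_univ
  let F := Coh.structureModule X
  haveI : F.IsQuasicoherent := Groth.Agent.Lib.Helper20.OmegaAff.isQuasicoherent_structureModule
  letI : Algebra Γ(X, U) (X.presheaf.stalk x) :=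
    TopCat.Presheaf.algebra_section_stalk X.presheaf (⟨x, hxU⟩ : U)
  haveI : IsLocalization.AtPrime (X.presheaf.stalk x) (hU.primeIdealOf ⟨x, hxU⟩).asIdeal :=
    hU.isLocalization_stalk ⟨x, hxU⟩
  letI := moduleStalkSections F U x hxU
  haveI : IsScalarTower Γ(X, U) (X.presheaf.stalk x) (F.presheaf.stalk x) :=
    ⟨fun a r y => by
      change (X.presheaf.germ U x hxU a * r) • y = X.presheaf.germ U x hxU a • (r • y)
      rw [mul_smul]⟩
  haveI := isLocalizedModule_germ hU F x hxU
  obtain ⟨m, hm⟩ := (Groth.Agent.S12215.weakAss_iff (hU.primeIdealOf ⟨x, hxU⟩).asIdeal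
    (X.presheaf.stalk x) (F.presheaf.stalk x) (germₗ F U x hxU)).2 hx
  let m' : Γ(X, U) := m
  have hann : (Submodule.span Γ(X, U) {m}).annihilator = (Submodule.span Γ(X, U) {m'}).annihilator := by
    ext a
    simp only [Submodule.mem_annihilator_span_singleton]
    exact Iff.rfl
  rw [hann] at hm
  have hmin := mem_minimalPrimes_of_isReduced m' _ hm
  have := Groth.Agent.S2510.isMax_fromSpec_of_mem_minimalPrimes hU (hU.primeIdealOf ⟨x, hxU⟩) hmin
  rwa [hU.fromSpec_primeIdealOf ⟨x, hxU⟩] at this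

theorem result (X : Scheme.{u}) [IsReduced X]
    (hfin : ∀ U : X.Opens, IsCompact (U : Set ↥X) → (irreducibleComponents ↥(U : Scheme.{u})).Finite)
    (L : X.Modules) (hL : PicF.IsInvertible L) : Mero.HasRegularMero L :=
  hasRegularMero (hypA_of_isReduced X) hfin L hL

end Groth.Agent.S8866
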