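import Groth.Statements.S5089
import Groth.Agent.Lib.Helper20MeroDivIso
import Groth.Agent.S8866

set_option autoImplicit false
universe u
open CategoryTheory CategoryTheory.Limits AlgebraicGeometry TopologicalSpace

namespace Groth.Agent.S5089

set_option linter.style.haveILetI false

open Groth.Agent.Lib.Helper20.RegMero Groth.Agent.Lib.Helper20.MeroDivIso

/-- a compact open subset of a space whose irreducible components are locally finite has finitely many
irreducible components. -/
theorem finite_irreducibleComponents_of_locallyFinite {α : Type*} [TopologicalSpace α]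
    (hX : ∀ x : α, ∃ W : Set α, IsOpen W ∧ x ∈ W ∧
      {Z : Set α | Z ∈ irreducibleComponents α ∧ (Z ∩ W).Nonempty}.Finite)
    (U : Set α) (hUo : IsOpen U) (hUc : IsCompact U) : (irreducibleComponents U).Finite := by
  choose W hWo hxW hWfin using hX
  obtain ⟨t, -, htU⟩ := hUc.elim_nhds_subcover W (fun x _ => (hWo x).mem_nhds (hxW x))
  have hS : {Z : Set α | Z ∈ irreducibleComponents α ∧ (Z ∩ U).Nonempty}.Finite := by
    refine (Set.Finite.biUnion t.finite_toSet (fun x _ => hWfin x)).subset ?_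
    rintro Z ⟨hZ, ⟨a, haZ, haU⟩⟩
    obtain ⟨x, hxt, hax⟩ := Set.mem_iUnion₂.1 (htU haU)
    exact Set.mem_biUnion hxt ⟨hZ, ⟨a, haZ, hax⟩⟩
  have hemb : Topology.IsOpenEmbedding (Subtype.val : U → α) := hUo.isOpenEmbedding_subtypeVal
  refine (hS.image fun Z : Set α => (Subtype.val : U → α) ⁻¹' Z).subset ?_
  intro T hT
  have hirr : IsIrreducible (closure ((Subtype.val : U → α) '' T)) :=
    (hT.1.image _ continuous_subtype_val.continuousOn).closure
  obtain ⟨Z, hZ, hTZ⟩ := exists_mem_irreducibleComponents_subset_of_isIrreducible _ hirr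
  have hTsub : T ⊆ (Subtype.val : U → α) ⁻¹' Z := fun a ha =>
    hTZ (subset_closure ⟨a, ha, rfl⟩)
  obtain ⟨a, ha⟩ := hT.1.1
  have hne : (Z ∩ U).Nonempty := ⟨a.1, hTsub ha, a.2⟩
  have hW : IsIrreducible ((Subtype.val : U → α) ⁻¹' Z) := by
    apply hZ.1.preimage hemb
    rw [Subtype.range_coe]
    exact hne
  refine ⟨Z, ⟨hZ, hne⟩, ?_⟩
  exact subset_antisymm (hT.2 hW hTsub) hTsub

theorem result (X : Scheme.{u}) [IsReduced X]
    (hX : ∀ x : ↥X, ∃ W : X.Opens, x ∈ W ∧
      {Z : Set ↥X | Z ∈ irreducibleComponents ↥X ∧ (Z ∩ (W : Set ↥X)).Nonempty}.Finite)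
    (L : X.Modules) (hL : PicF.IsInvertible L) :
    ∃ D : Mero.Divisor X, Nonempty (L ≅ Mero.divMod D) := by
  have hB : HypB X := by
    intro U hU
    refine finite_irreducibleComponents_of_locallyFinite ?_ (U : Set X) U.isOpen hU
    intro x
    obtain ⟨W, hxW, hW⟩ := hX x
    exact ⟨W, W.isOpen, hxW, hW⟩
  have hA : HypA X := Groth.Agent.S8866.hypA_of_isReduced X
  obtain ⟨s, hs⟩ := hasRegularMero hA hB L hL
  exact exists_iso_divMod ⟨Groth.Agent.S8904.part1 X hA hB, hL, hs⟩

end Groth.Agent.S5089
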