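import Groth.Statements.S10961
import Mathlib
import Groth.Agent.Lib.Helper20RegMero
import Groth.Agent.S8904
import Groth.Agent.S8866
import Groth.Agent.S5089
import Groth.Agent.S10856
import Groth.Agent.Lib.Helper20Kmod2

set_option autoImplicit false
universe u
open CategoryTheory AlgebraicGeometry TopologicalSpace
open Mero

namespace Groth.Agent.S10961

open CategoryTheory AlgebraicGeometry TopologicalSpace
open Mero
open Groth.Agent.Lib.Helper20.RegMero Groth.Agent.Lib.Helper20.Kmod

set_option linter.style.haveILetI false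

variable {X : Scheme.{u}}

theorem isMaxPt_of_mem_irreducibleComponents (x : X)
    (h : closure ({x} : Set X) ∈ irreducibleComponents (X : Type u)) : IsMaxPt x := by
  intro y hy
  have h1 : closure ({x} : Set X) ⊆ closure {y} := specializes_iff_closure_subset.1 hy
  have h2 : closure ({y} : Set X) ⊆ closure {x} := h.2 isIrreducible_singleton.closure h1
  exact ((specializes_iff_closure_subset.2 h2).antisymm hy).eq.symm

theorem mem_irreducibleComponents_of_isMaxPt (x : X) (h : IsMaxPt x) :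
    closure ({x} : Set X) ∈ irreducibleComponents (X : Type u) := by
  refine ⟨isIrreducible_singleton.closure, ?_⟩
  intro Z hZ hle
  have hZc : IsIrreducible (closure Z) := hZ.closure
  let z := hZc.genericPoint
  have hz : IsGenericPoint z (closure Z) := hZc.isGenericPoint_genericPoint isClosed_closure
  have htZ : x ∈ closure Z := subset_closure (hle (subset_closure (Set.mem_singleton _)))
  have hzt : z ⤳ x := by
    refine specializes_iff_mem_closure.2 ?_
    rw [hz.def]; exact htZ
  have hzeq : z = x := h _ hzt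
  have h1 : closure Z = closure {x} := by rw [← hz.def, hzeq]
  exact subset_closure.trans h1.le

theorem hypB_of_finite (hfin : (irreducibleComponents (X : Type u)).Finite) : HypB X := by
  intro U hU
  refine Groth.Agent.S5089.finite_irreducibleComponents_of_locallyFinite ?_ (U : Set X) U.isOpen hU
  intro x
  exact ⟨Set.univ, isOpen_univ, trivial, hfin.subset (fun Z hZ => hZ.1)⟩

/-- at a maximal point of a reduced scheme the local ring is a field. -/
theorem isUnit_of_ne_zero [IsReduced X] (x : X) (hx : IsMaxPt x) (c : X.presheaf.stalk x)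
    (hc : c ≠ 0) : IsUnit c := by
  obtain ⟨W, hW, hxW, -⟩ := exists_isAffineOpen_mem_and_subset (x := x) (U := ⊤) trivial
  by_contra hcu
  have hcm : c ∈ IsLocalRing.maximalIdeal (X.presheaf.stalk x) := hcu
  have hN := Groth.Agent.S2510.isNilpotent_of_mem_maximalIdeal_of_isMax hW x hxW hx c hcm
  exact hc (IsReduced.eq_zero _ hN)

theorem isField_stalk [IsReduced X] (x : X) (hx : IsMaxPt x) : IsField (X.presheaf.stalk x) := by
  refine ⟨⟨0, 1, zero_ne_one⟩, mul_comm, fun {a} ha => ?_⟩
  obtain ⟨u, rfl⟩ := isUnit_of_ne_zero x hx a ha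
  exact ⟨↑u⁻¹, u.mul_inv⟩

theorem algebraMap_bijective [IsReduced X] (x : X) (hx : IsMaxPt x) :
    Function.Bijective (algebraMap (X.presheaf.stalk x) (KStalk X x)) := by
  refine ⟨algebraMap_KStalk_injective x, fun q => ?_⟩
  obtain ⟨⟨a, s⟩, hq⟩ := IsLocalization.surj (regStalk X x) q
  have hs0 : (s : X.presheaf.stalk x) ≠ 0 :=
    nonZeroDivisors.ne_zero (regStalk_le_nonZeroDivisors x s.2)
  obtain ⟨u, hu⟩ := isUnit_of_ne_zero x hx _ hs0
  refine ⟨a * ↑u⁻¹, ?_⟩
  have h1 : q * algebraMap (X.presheaf.stalk x) (KStalk X x) (u : X.presheaf.stalk x) =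
      algebraMap _ _ a := by rw [hu]; exact hq
  rw [map_mul, ← h1, mul_assoc, ← map_mul, Units.mul_inv, map_one, mul_one]

/-- two local fractions agreeing at the maximal points agree everywhere. -/
theorem frac_eq_of_generic [IsReduced X] {W W' : X.Opens} (a : Γ(X, W)) (b : regSub X W)
    (a' : Γ(X, W')) (b' : regSub X W')
    (h : ∀ (η : X) (hη : η ∈ W) (hη' : η ∈ W'), IsMaxPt η →
      (LocalizedModule.mk (X.presheaf.germ W η hη a) (regGerm ⟨η, hη⟩ b) : KStalk X η) =
        LocalizedModule.mk (X.presheaf.germ W' η hη' a') (regGerm ⟨η, hη'⟩ b'))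
    (z : X) (hz : z ∈ W) (hz' : z ∈ W') :
    (LocalizedModule.mk (X.presheaf.germ W z hz a) (regGerm ⟨z, hz⟩ b) : KStalk X z) =
      LocalizedModule.mk (X.presheaf.germ W' z hz' a') (regGerm ⟨z, hz'⟩ b') := by
  have hA := Groth.Agent.S8866.hypA_of_isReduced X
  obtain ⟨V, hV, hzV, hVle⟩ := exists_isAffineOpen_mem_and_subset (X := X) (x := z)
    (U := W ⊓ W') ⟨hz, hz'⟩
  have hVW : V ≤ W := fun y hy => (hVle hy).1
  have hVW' : V ≤ W' := fun y hy => (hVle hy).2
  set c : Γ(X, V) := X.presheaf.map (homOfLE hVW').op b'.1 * X.presheaf.map (homOfLE hVW).op a -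
    X.presheaf.map (homOfLE hVW).op b.1 * X.presheaf.map (homOfLE hVW').op a' with hc
  have hgerm : ∀ (y : X) (hy : y ∈ V), X.presheaf.germ V y hy c =
      X.presheaf.germ W' y (hVW' hy) b'.1 * X.presheaf.germ W y (hVW hy) a -
        X.presheaf.germ W y (hVW hy) b.1 * X.presheaf.germ W' y (hVW' hy) a' := by
    intro y hy
    rw [hc, map_sub, map_mul, map_mul, TopCat.Presheaf.germ_res_apply,
      TopCat.Presheaf.germ_res_apply, TopCat.Presheaf.germ_res_apply,
      TopCat.Presheaf.germ_res_apply]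
  have hc0 : c = 0 := by
    apply eq_zero_of_germ_eq_zero hA hV
    intro η hη hmax
    rw [hgerm η hη, sub_eq_zero]
    have h1 := h η (hVW hη) (hVW' hη) hmax
    rw [LocalizedModule.mk_eq] at h1
    obtain ⟨u, hu⟩ := h1
    simp only [Submonoid.smul_def, smul_eq_mul] at hu
    have hu1 : (u : X.presheaf.stalk η) ∈ nonZeroDivisors _ := regStalk_le_nonZeroDivisors η u.2
    exact (mul_cancel_left_mem_nonZeroDivisors hu1).1 hu
  rw [LocalizedModule.mk_eq]
  refine ⟨1, ?_⟩
  have h2 := hgerm z hzV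
  rw [hc0, map_zero] at h2
  simp only [Submonoid.smul_def, smul_eq_mul, one_smul]
  exact (sub_eq_zero.1 h2.symm)

theorem exists_germ_mul_eq {W : X.Opens} (hW : IsAffineOpen W) (x : X) (hxW : x ∈ W)
    (τ : X.presheaf.stalk x) :
    ∃ c a : Γ(X, W), IsUnit (X.presheaf.germ W x hxW c) ∧
      τ * X.presheaf.germ W x hxW c = X.presheaf.germ W x hxW a := by
  letI : Algebra Γ(X, W) (X.presheaf.stalk x) :=
    TopCat.Presheaf.algebra_section_stalk X.presheaf (⟨x, hxW⟩ : W)
  haveI : IsLocalization.AtPrime (X.presheaf.stalk x) (hW.primeIdealOf ⟨x, hxW⟩).asIdeal :=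
    hW.isLocalization_stalk ⟨x, hxW⟩
  obtain ⟨⟨a, c⟩, h⟩ := IsLocalization.surj (hW.primeIdealOf ⟨x, hxW⟩).asIdeal.primeCompl τ
  refine ⟨c.1, a, ?_, h⟩
  rw [← Scheme.mem_basicOpen, Groth.Agent.Lib.Helper2.mem_basicOpen_iff_notMem_primeIdealOf hW x hxW]
  exact c.2

/-- on an affine open, prescribed values at the maximal points are the values of one fraction. -/
theorem exists_frac_of_generic [IsReduced X] (hB : HypB X) {W : X.Opens} (hW : IsAffineOpen W)
    (t : ∀ η : W, IsMaxPt η.1 → KStalk X η.1) :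
    ∃ (a : Γ(X, W)) (b : regSub X W), ∀ (η : W) (hη : IsMaxPt η.1),
      t η hη = LocalizedModule.mk (X.presheaf.germ W η.1 η.2 a) (regGerm η b) := by
  classical
  have hA := Groth.Agent.S8866.hypA_of_isReduced X
  have hfin := Groth.Agent.S8904.finite_isMax W (hB W hW.isCompact)
  have key : ∀ (η : W) (hη : IsMaxPt η.1), ∃ (e c a : Γ(X, W)) (τ : X.presheaf.stalk η.1),
      IsUnit (X.presheaf.germ W η.1 η.2 e) ∧ IsUnit (X.presheaf.germ W η.1 η.2 c) ∧
      (∀ η' : W, IsMaxPt η'.1 → η' ≠ η → X.presheaf.germ W η'.1 η'.2 e = 0) ∧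
      algebraMap _ (KStalk X η.1) τ = t η hη ∧
      τ * X.presheaf.germ W η.1 η.2 c = X.presheaf.germ W η.1 η.2 a := by
    intro η hη
    obtain ⟨e, he1, he2⟩ := exists_sep hB hW η.1 η.2
    obtain ⟨τ, hτ⟩ := (algebraMap_bijective η.1 hη).2 (t η hη)
    obtain ⟨c, a, hc, hca⟩ := exists_germ_mul_eq hW η.1 η.2 τ
    refine ⟨e, c, a, τ, he1, hc, fun η' hη' hne => ?_, hτ, hca⟩
    refine he2 η'.1 η'.2 hη' fun hsp => hne ?_
    exact Subtype.ext (hη η'.1 hsp)
  choose! e c a τ h1 h2 h3 h4 h5 using key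
  obtain ⟨M, hmemM⟩ : ∃ M : Finset {x // x ∈ W}, ∀ η : {x // x ∈ W}, η ∈ M ↔ IsMaxPt η.1 :=
    ⟨hfin.toFinset, fun η => Set.Finite.mem_toFinset hfin⟩
  set bt : Γ(X, W) := ∑ η ∈ M, e η * c η with hbt
  set at' : Γ(X, W) := ∑ η ∈ M, e η * a η with hat
  have hgb : ∀ (η₀ : W), IsMaxPt η₀.1 → X.presheaf.germ W η₀.1 η₀.2 bt =
      X.presheaf.germ W η₀.1 η₀.2 (e η₀) * X.presheaf.germ W η₀.1 η₀.2 (c η₀) := by
    intro η₀ hη₀
    rw [hbt, map_sum, Finset.sum_eq_single η₀, map_mul]
    · intro η hη hne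
      rw [map_mul, h3 η ((hmemM η).1 hη) η₀ hη₀ (Ne.symm hne), zero_mul]
    · intro hnot
      exact absurd ((hmemM η₀).2 hη₀) hnot
  have hga : ∀ (η₀ : W), IsMaxPt η₀.1 → X.presheaf.germ W η₀.1 η₀.2 at' =
      X.presheaf.germ W η₀.1 η₀.2 (e η₀) * X.presheaf.germ W η₀.1 η₀.2 (a η₀) := by
    intro η₀ hη₀
    rw [hat, map_sum, Finset.sum_eq_single η₀, map_mul]
    · intro η hη hne
      rw [map_mul, h3 η ((hmemM η).1 hη) η₀ hη₀ (Ne.symm hne), zero_mul]
    · intro hnot
      exact absurd ((hmemM η₀).2 hη₀) hnot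
  have hbreg : bt ∈ regSub X W := by
    apply mem_regSub_of_isUnit_germ hA hW
    intro η hη hmax
    rw [hgb ⟨η, hη⟩ hmax]
    exact (h1 ⟨η, hη⟩ hmax).mul (h2 ⟨η, hη⟩ hmax)
  refine ⟨at', ⟨bt, hbreg⟩, fun η hη => ?_⟩
  rw [← h4 η hη, Groth.Agent.S10856.algebraMap_eq_mk]
  symm
  rw [Groth.Agent.S10856.mk_eq_mk_one_iff]
  change X.presheaf.germ W η.1 η.2 at' = X.presheaf.germ W η.1 η.2 bt * τ η
  rw [hga η hη, hgb η hη, ← h5 η hη]
  ring

theorem eval_bijective [IsReduced X] (hfin : (irreducibleComponents (X : Type u)).Finite)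
    (U : X.Opens) :
    Function.Bijective (fun s : Γ(Mero.kmod X, U) =>
      fun x : {x : U // closure ({x.1} : Set X) ∈ irreducibleComponents (X : Type u)} =>
        Mero.evalK X U x.1 s) := by
  have hB := hypB_of_finite hfin
  constructor
  · intro s s' hss
    apply kmod_ext
    intro y
    obtain ⟨W, hyW, hWU, a, b, hfrac⟩ := exists_local_frac s y
    obtain ⟨W', hyW', hWU', a', b', hfrac'⟩ := exists_local_frac s' y
    rw [show s.1 y = _ from hfrac ⟨y.1, hyW⟩, show s'.1 y = _ from hfrac' ⟨y.1, hyW'⟩]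
    apply frac_eq_of_generic a b a' b' _ y.1 hyW hyW'
    intro η hη hη' hmax
    rw [← hfrac ⟨η, hη⟩, ← hfrac' ⟨η, hη'⟩]
    exact congrFun hss ⟨⟨η, hWU hη⟩, mem_irreducibleComponents_of_isMaxPt η hmax⟩
  · intro t
    have key : ∀ y : U, ∃ (W : X.Opens) (_ : IsAffineOpen W) (_ : y.1 ∈ W) (hWU : W ≤ U)
        (a : Γ(X, W)) (b : regSub X W), ∀ (η : W) (hη : IsMaxPt η.1),
          t ⟨⟨η.1, hWU η.2⟩, mem_irreducibleComponents_of_isMaxPt η.1 hη⟩ =
            LocalizedModule.mk (X.presheaf.germ W η.1 η.2 a) (regGerm η b) := by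
      intro y
      obtain ⟨W, hW, hyW, hWU⟩ := exists_isAffineOpen_mem_and_subset (X := X) (x := y.1)
        (U := U) y.2
      obtain ⟨a, b, hab⟩ := exists_frac_of_generic hB hW
        (fun η hη => t ⟨⟨η.1, hWU η.2⟩, mem_irreducibleComponents_of_isMaxPt η.1 hη⟩)
      exact ⟨W, hW, hyW, hWU, a, b, hab⟩
    choose W hW hyW hWU a b hab using key
    let f : ∀ y : U, KStalk X y.1 := fun y =>
      LocalizedModule.mk (X.presheaf.germ (W y) y.1 (hyW y) (a y)) (regGerm ⟨y.1, hyW y⟩ (b y))
    have hcompat : ∀ (y : U) (z : X) (hz : z ∈ W y), f ⟨z, hWU y hz⟩ =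
        LocalizedModule.mk (X.presheaf.germ (W y) z hz (a y)) (regGerm ⟨z, hz⟩ (b y)) := by
      intro y z hz
      apply frac_eq_of_generic
      intro η hη hη' hmax
      rw [← hab _ ⟨η, hη⟩ hmax, ← hab _ ⟨η, hη'⟩ hmax]
    have hf : (kLoc X).pred f := fun y =>
      ⟨W y, hyW y, homOfLE (hWU y), a y, b y, fun z => hcompat y z.1 z.2⟩
    refine ⟨(⟨f, hf⟩ : Γ(kmod X, U)), ?_⟩
    funext x
    have hmax := isMaxPt_of_mem_irreducibleComponents x.1.1 x.2
    change f x.1 = t x
    exact (hab x.1 ⟨x.1.1, hyW x.1⟩ hmax).symm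


/-- Let X be a reduced scheme with only finitely many irreducible components, with generic points x_1,
…, x_r, and let U be an open subset of X. Then the ring of sections over U of the sheaf of
meromorphic functions K_X maps bijectively, by evaluation, onto the product of the rings K_{X,x_i}
over those generic points x_i that lie in U; moreover for each generic point x_i the local ring of X
at x_i is a field and maps bijectively onto K_{X,x_i}, so that K_{X,x_i} is the residue field of
x_i. (The hypothesis holds for every Noetherian scheme; for X integral it says that K_X is the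
constant sheaf with value the function field.) -/
theorem result
    (X : Scheme.{u}) [IsReduced X] (hfin : (irreducibleComponents (X : Type u)).Finite) (U : X.Opens) :
    Function.Bijective (fun s : Γ(Mero.kmod X, U) =>
      fun x : {x : U // closure ({x.1} : Set X) ∈ irreducibleComponents (X : Type u)} =>
        Mero.evalK X U x.1 s) ∧
    (∀ x : X, closure ({x} : Set X) ∈ irreducibleComponents (X : Type u) →
      IsField (X.presheaf.stalk x) ∧
        Function.Bijective (algebraMap (X.presheaf.stalk x) (Mero.KStalk X x))) := by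
  refine ⟨eval_bijective hfin U, fun x hx => ?_⟩
  have hmax := isMaxPt_of_mem_irreducibleComponents x hx
  exact ⟨isField_stalk x hmax, algebraMap_bijective x hmax⟩

end Groth.Agent.S10961
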