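import Groth.Statements.S10964
import Mathlib
import Groth.Agent.Lib.Helper23SecTw6
-- import your own Groth.Agent.* helpers here

set_option autoImplicit false
universe u
open CategoryTheory AlgebraicGeometry TopologicalSpace Opposite
open PicF

namespace Groth.Agent.S10964


open Groth.Agent.Lib.Helper23.SecTw Groth.Agent.Lib.Helper6 Groth.Agent.Lib.Helper23.Extend

/-- Let X be a scheme with an open cover (U_i)_{i ∈ ι}. Let L and L' be O_X-modules with sections s_i of
L and s'_i of L' over U_i that generate there (for every open V ⊆ U_i, r ↦ r · s_i|_V is a bijection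
from functions on V onto sections of L over V, and likewise for s'_i), and let η_ij, η'_ij be the
functions on U_i ∩ U_j with s_i = η_ij · s_j and s'_i = η'_ij · s'_j there. Then L and L' are
isomorphic as O_X-modules if and only if there is a family of units u_i of the rings of functions on
the U_i with η'_ij · u_i|_{U_i ∩ U_j} = u_j|_{U_i ∩ U_j} · η_ij for all i, j. (So two invertible
modules trivialised by the cover are isomorphic exactly when their transition cocycles define the
same Čech cohomology class.) -/
theorem result (X : Scheme.{u}) {ι : Type u} (U : ι → X.Opens)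
    (hU : iSup U = ⊤) (L L' : X.Modules) (s : ∀ i : ι, Γ(L, U i)) (s' : ∀ i : ι, Γ(L', U i))
    (hs : ∀ (i : ι) (V : X.Opens) (h : V ≤ U i),
        Function.Bijective (fun r : Γ(X, V) => r • L.presheaf.map (homOfLE h).op (s i)))
    (hs' : ∀ (i : ι) (V : X.Opens) (h : V ≤ U i),
        Function.Bijective (fun r : Γ(X, V) => r • L'.presheaf.map (homOfLE h).op (s' i)))
    (η η' : ∀ i j : ι, Γ(X, U i ⊓ U j))
    (hη : ∀ i j : ι, L.presheaf.map (homOfLE (inf_le_left : U i ⊓ U j ≤ U i)).op (s i) =
        η i j • L.presheaf.map (homOfLE (inf_le_right : U i ⊓ U j ≤ U j)).op (s j))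
    (hη' : ∀ i j : ι, L'.presheaf.map (homOfLE (inf_le_left : U i ⊓ U j ≤ U i)).op (s' i) =
        η' i j • L'.presheaf.map (homOfLE (inf_le_right : U i ⊓ U j ≤ U j)).op (s' j)) :
    Nonempty (L ≅ L') ↔ ∃ u : ∀ i : ι, (Γ(X, U i))ˣ, ∀ i j : ι,
      η' i j * X.presheaf.map (homOfLE (inf_le_left : U i ⊓ U j ≤ U i)).op (u i : Γ(X, U i)) =
        X.presheaf.map (homOfLE (inf_le_right : U i ⊓ U j ≤ U j)).op (u j : Γ(X, U j)) * η i j := by
  have hgen : ∀ i, IsGen L (U i) (s i) := fun i V h => hs i V h
  have hgen' : ∀ i, IsGen L' (U i) (s' i) := fun i V h => hs' i V h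
  have hcov : ∀ x : X, ∃ i, x ∈ U i := by
    intro x
    have : x ∈ (⊤ : X.Opens) := trivial
    rw [← hU] at this
    exact Opens.mem_iSup.1 this
  constructor
  · rintro ⟨Φ⟩
    -- `Φ (s i) = u i • s' i`
    have h1 : ∀ i, ∃ c : Γ(X, U i), c • s' i = Φ.hom.app (U i) (s i) := by
      intro i
      obtain ⟨c, hc⟩ := (hs' i (U i) le_rfl).2 (Φ.hom.app (U i) (s i))
      refine ⟨c, ?_⟩
      have : L'.presheaf.map (homOfLE (le_refl (U i))).op (s' i) = s' i := res_self L' (s' i)
      rw [← this]
      exact hc
    have h2 : ∀ i, ∃ c : Γ(X, U i), c • s i = Φ.inv.app (U i) (s' i) := by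
      intro i
      obtain ⟨c, hc⟩ := (hs i (U i) le_rfl).2 (Φ.inv.app (U i) (s' i))
      refine ⟨c, ?_⟩
      have : L.presheaf.map (homOfLE (le_refl (U i))).op (s i) = s i := res_self L (s i)
      rw [← this]
      exact hc
    choose c hc using h1
    choose d hd using h2
    have hinv1 : ∀ i, Φ.inv.app (U i) (Φ.hom.app (U i) (s i)) = s i := by
      intro i
      have : (Φ.hom ≫ Φ.inv).app (U i) (s i) = s i := by rw [Iso.hom_inv_id]; rfl
      exact this
    have hdc : ∀ i, c i * d i = 1 := by
      intro i
      apply (hs i (U i) le_rfl).1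
      change (c i * d i) • res L le_rfl (s i) = (1 : Γ(X, U i)) • res L le_rfl (s i)
      rw [res_self, one_smul, mul_smul, hd]
      have h3 : Φ.inv.app (U i) (c i • s' i) = c i • Φ.inv.app (U i) (s' i) := Scheme.Modules.Hom.app_smul _ _ _
      rw [← h3, hc, hinv1]
    refine ⟨fun i => ⟨c i, d i, hdc i, by rw [mul_comm]; exact hdc i⟩, fun i j => ?_⟩
    change η' i j * resf inf_le_left (c i) = resf inf_le_right (c j) * η i j
    apply (hs' j (U i ⊓ U j) inf_le_right).1
    change (η' i j * resf inf_le_left (c i)) • res L' inf_le_right (s' j) =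
      (resf inf_le_right (c j) * η i j) • res L' inf_le_right (s' j)
    have e1 : (η' i j * resf inf_le_left (c i)) • res L' inf_le_right (s' j) =
        res L' inf_le_left (Φ.hom.app (U i) (s i)) := by
      rw [mul_comm, mul_smul]
      have := hη' i j
      change res L' inf_le_left (s' i) = η' i j • res L' inf_le_right (s' j) at this
      rw [← this, ← res_smul, hc]
    have e2 : (resf inf_le_right (c j) * η i j) • res L' inf_le_right (s' j) =
        res L' inf_le_left (Φ.hom.app (U i) (s i)) := by
      have h4 : res L' inf_le_left (Φ.hom.app (U i) (s i)) =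
          Φ.hom.app (U i ⊓ U j) (res L inf_le_left (s i)) := (app_map Φ.hom (homOfLE inf_le_left) (s i)).symm
      have h5 := hη i j
      change res L inf_le_left (s i) = η i j • res L inf_le_right (s j) at h5
      have h6 : Φ.hom.app (U i ⊓ U j) (η i j • res L inf_le_right (s j)) =
          η i j • Φ.hom.app (U i ⊓ U j) (res L inf_le_right (s j)) := Scheme.Modules.Hom.app_smul _ _ _
      have h7 : Φ.hom.app (U i ⊓ U j) (res L inf_le_right (s j)) = res L' inf_le_right (Φ.hom.app (U j) (s j)) :=
        app_map Φ.hom (homOfLE inf_le_right) (s j)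
      rw [h4, h5, h6, h7, ← hc j, res_smul, ← mul_smul, mul_comm]
    rw [e1, e2]
  · rintro ⟨u, hu⟩
    have hb' : ∀ i, IsGen L' (U i) ((u i : Γ(X, U i)) • s' i) := by
      intro i V h
      have hb := hs' i V h
      have hunit : IsUnit (resf h (u i : Γ(X, U i))) := (u i).isUnit.map _
      have hfun : (fun r : Γ(X, V) => r • res L' h ((u i : Γ(X, U i)) • s' i)) =
          (fun r : Γ(X, V) => r • res L' h (s' i)) ∘ (fun r : Γ(X, V) => r * resf h (u i : Γ(X, U i))) := by
        funext r
        change _ = (r * resf h (u i : Γ(X, U i))) • res L' h (s' i)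
        rw [res_smul, mul_smul]
      rw [hfun]
      refine hb.comp ?_
      exact (hunit.unit.mulRight_bijective : Function.Bijective (fun r => r * (hunit.unit : Γ(X, V))))
    have hc' : ∀ i j (g : Γ(X, U i ⊓ U j)), res L inf_le_left (s i) = g • res L inf_le_right (s j) →
        res L' inf_le_left ((u i : Γ(X, U i)) • s' i) = g • res L' inf_le_right ((u j : Γ(X, U j)) • s' j) := by
      intro i j g hg
      have h1 : g = η i j := by
        apply (hs j (U i ⊓ U j) inf_le_right).1
        change g • res L inf_le_right (s j) = η i j • res L inf_le_right (s j)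
        have := hη i j
        change res L inf_le_left (s i) = η i j • res L inf_le_right (s j) at this
        rw [← hg, this]
      rw [h1, res_smul, res_smul, ← mul_smul]
      have h2 := hη' i j
      change res L' inf_le_left (s' i) = η' i j • res L' inf_le_right (s' j) at h2
      rw [h2, ← mul_smul]
      congr 1
      have := hu i j
      change η' i j * resf inf_le_left (u i : Γ(X, U i)) = resf inf_le_right (u j : Γ(X, U j)) * η i j at this
      rw [mul_comm, this, mul_comm]
    obtain ⟨Φ, -⟩ := exists_iso_of_frames L L' U hcov s (fun i => (u i : Γ(X, U i)) • s' i) hgen hb' hc'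
    exact ⟨Φ⟩

end Groth.Agent.S10964
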