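import Groth.Statements.S10967
import Groth.Agent.Lib.Helper12QuasiAffineDescent

set_option autoImplicit false
universe u
open CategoryTheory AlgebraicGeometry TopologicalSpace
open MoreMor

namespace Groth.Agent.S10967

/-- Quasi-affine over an affine base: call a morphism f : X → Y quasi-affine when Y has a cover by
affine opens V_i whose preimages f⁻¹(V_i) are quasi-affine schemes (quasi-compact open subschemes of
affine schemes; equivalently quasi-compact with X → Spec Γ(X, O_X) an immersion). If Y is affine and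
f is quasi-affine in this sense, then X is a quasi-affine scheme. -/
theorem result {X Y : Scheme.{u}} [IsAffine Y]
    (f : X ⟶ Y) {ι : Type u} (V : ι → Y.Opens) (hV : iSup V = ⊤) (hVa : ∀ i, IsAffineOpen (V i))
    (hq : ∀ i, Scheme.IsQuasiAffine (↑(f ⁻¹ᵁ V i) : Scheme.{u})) :
    X.IsQuasiAffine := by
  have hqaff : ∀ i, QuasiSeparatedSpace (f ⁻¹ᵁ V i : Scheme.{u}) := fun i => by
    have := hq i
    have h1 : QuasiSeparatedSpace (Spec Γ((f ⁻¹ᵁ V i : Scheme.{u}), ⊤)) := inferInstance
    exact quasiSeparatedSpace_of_quasiSeparated (f ⁻¹ᵁ V i : Scheme.{u}).toSpecΓ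
  have hfqc : QuasiCompact f := by
    rw [HasAffineProperty.iff_of_iSup_eq_top (P := @QuasiCompact)
      (fun i => (⟨V i, hVa i⟩ : Y.affineOpens)) hV]
    intro i
    have := hq i
    change CompactSpace (f ⁻¹ᵁ V i : Scheme.{u})
    infer_instance
  have hfqs : QuasiSeparated f := by
    rw [HasAffineProperty.iff_of_iSup_eq_top (P := @QuasiSeparated)
      (fun i => (⟨V i, hVa i⟩ : Y.affineOpens)) hV]
    intro i
    exact hqaff i
  have hcpt : CompactSpace X := QuasiCompact.compactSpace_of_compactSpace f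
  have hqs : QuasiSeparatedSpace X := quasiSeparatedSpace_of_quasiSeparated f
  suffices IsOpenImmersion X.toSpecΓ by constructor
  let c : Spec Γ(X, ⊤) ⟶ Y := Spec.map f.appTop ≫ inv Y.toSpecΓ
  have hc : c ≫ Y.toSpecΓ = Spec.map f.appTop := by simp [c]
  let 𝒱 : Y.OpenCover := Y.openCoverOfIsOpenCover V hV
  rw [IsZariskiLocalAtTarget.iff_of_openCover (P := @IsOpenImmersion) (𝒱.pullback₁ c)]
  intro i
  obtain ⟨j, rfl⟩ : ∃ j : 𝒱.I₀, j = i := ⟨i, rfl⟩
  change IsOpenImmersion (Limits.pullback.snd X.toSpecΓ (Limits.pullback.fst c (𝒱.f j)))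
  have hiaff : IsAffine (𝒱.X j) := hVa j
  have hqa : (f ⁻¹ᵁ V j : Scheme.{u}).IsQuasiAffine := hq j
  have H : IsPullback (f ⁻¹ᵁ V j).ι (f ∣_ V j) f (𝒱.f j) :=
    (isPullback_morphismRestrict f (V j)).flip
  have hoi : IsOpenImmersion (𝒱.f j) := 𝒱.map_prop j
  have hflat : Flat (𝒱.f j) := inferInstance
  refine Groth.Agent.Lib.Helper12.isOpenImmersion_pullback_snd_toSpecΓ (W := 𝒱.X j)
    (u := 𝒱.f j) H (Limits.pullback.snd c (𝒱.f j)) _ ?_
  rw [← hc, ← Category.assoc, ← Category.assoc, Limits.pullback.condition]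

end Groth.Agent.S10967
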