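import Groth.Statements.S10986
-- import your own Groth.Agent.* helpers here

set_option autoImplicit false
open FunFld

namespace Groth.Agent.S10986

/-- `L(D) · W(C) ⊆ W(C - D)`: if `x ∈ L(D)` and `ω` vanishes on `A(C) + K` then `xω` vanishes on `A(C -
D) + K`. -/
theorem result (k K : Type*) [Field k] [Field K] [Algebra k K]
    (C D : FunFld.Divisor k K) (x : K) (hxD : x ∈ FunFld.L D)
    (hx : ∀ a ∈ FunFld.adele k K, x • a ∈ FunFld.adele k K)
    (ω : Module.Dual k (FunFld.adele k K)) (hω : ω ∈ FunFld.WD C) :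
    FunFld.mulW x hx ω ∈ FunFld.WD (C - D) := by
  unfold FunFld.WD at hω ⊢
  rw [Submodule.mem_dualAnnihilator] at hω ⊢
  intro a ha
  unfold FunFld.mulW
  rw [LinearMap.comp_apply]
  apply hω
  unfold FunFld.ADK at ha ⊢
  rw [Submodule.mem_comap] at ha ⊢
  rw [Submodule.mem_sup] at ha
  obtain ⟨b, hb, c, ⟨y, rfl⟩, hbc⟩ := ha
  rw [Submodule.mem_sup]
  refine ⟨x • b, ?_, x • (FunFld.diag k K y), ⟨x * y, ?_⟩, ?_⟩
  · intro P
    have h1 := hb P
    have h2 := hxD P
    rw [Pi.smul_apply, smul_eq_mul, map_mul]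
    calc P.1 x * P.1 (b P) ≤ WithZero.exp (D P) * WithZero.exp ((C - D) P) :=
          mul_le_mul' h2 h1
      _ = WithZero.exp (C P) := by
          rw [← WithZero.exp_add, Finsupp.sub_apply]; congr 1; ring
  · funext P
    simp [FunFld.diag]
  · have : (adele k K).subtype a = b + (FunFld.diag k K) y := hbc.symm
    show _ = x • ((adele k K).subtype a)
    rw [this, smul_add]

end Groth.Agent.S10986
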