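import Groth.Statements.S1099
import Mathlib
import Groth.Agent.Lib.Helper1CountHomB
set_option maxHeartbeats 400000
-- import your own Groth.Agent.* helpers here

set_option autoImplicit false
universe u
open CategoryTheory CategoryTheory.Limits AlgebraicGeometry Opposite
attribute [local instance] HasDerivedCategory.standard
open Perf

namespace Groth.Agent.S1099

/-- Let the scheme X be quasi-compact and quasi-separated, K ∈ D(O_X) with quasi-coherent cohomology
sheaves whose sections over affine opens are countable, E a perfect object of D(O_X), and U ⊆ X a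
quasi-compact open (restriction to U assumed exact). Then for every i the group of morphisms E|_U ⟶
K|_U[i] in D(O_U) is countable. -/
theorem result (X : Scheme.{u}) [CompactSpace ↥X] [QuasiSeparatedSpace ↥X]
    (K : DCoh.D X) (hK : DCoh.IsQCohD K) (hKc : ∀ V : X.Opens, IsAffineOpen V → ∀ i : ℤ, Countable ((DCoh.HD K i).val.obj (op V)))
    (E : DCoh.D X) (hE : DCoh.IsPerfect E) (U : X.Opens) (hU : IsCompact (U : Set X)) [PreservesFiniteLimits (Scheme.Modules.restrictFunctor U.ι)] (i : ℤ) :
    Countable ((DCoh.restrictD U.ι).obj E ⟶ ((DCoh.restrictD U.ι).obj K)⟦i⟧) := by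
  exact Groth.Agent.Lib.Helper1.CountHom.countable_hom_of_qcqs X E hE U hU _ U.ι
    (Scheme.Opens.opensRange_ι U) _
    (Groth.Agent.Lib.Helper1.PerfHom.isQCohD_shift _
      (Groth.Agent.Lib.Helper1.ExtVan.isQCohD_restrictD U.ι K hK) i)
    ((Groth.Agent.Lib.Helper1.CountHom.CntSec.resD (N := K) hKc U.ι).shift i)

end Groth.Agent.S1099
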