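import Groth.Statements.S11007
import Groth.Agent.Lib.LeadMS2

set_option autoImplicit false
universe u v
open FunFld

namespace Groth.Agent.S11007

/-- In a geometric function field of one variable of characteristic `p > 0`, `kK^p` is the only
intermediate field over which `K` is purely inseparable of degree `p`. The companion assertion about
the natural map on Kähler differentials is not stated. -/
theorem result (k : Type u) (K : Type v) [Field k] [Field K] [Algebra k K] (p : ℕ) [Fact p.Prime] [CharP K p]
    (hK : FunFld.IsFunctionField k K) (hg : FunFld.IsGeometric k K) (K₀ : IntermediateField k K) :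
    (IsPurelyInseparable K₀ K ∧ Module.finrank K₀ K = p) ↔ K₀ = IntermediateField.adjoin k (Set.range fun y : K => y ^ p) := by
  open Groth.Agent.Lib.LeadMS in
  classical
  have hp : Fact p.Prime := inferInstance
  constructor
  · rintro ⟨hpi, hfin⟩
    haveI : CharP K₀ p := (RingHom.charP_iff _ (algebraMap K₀ K).injective p).mpr inferInstance
    haveI : ExpChar K₀ p := ExpChar.prime hp.out
    haveI : FiniteDimensional K₀ K := Module.finite_of_finrank_pos (by rw [hfin]; exact hp.out.pos)
    have hle : Fp k K p ≤ K₀ := by
      rw [IntermediateField.adjoin_le_iff]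
      rintro _ ⟨y, rfl⟩
      have h1 := IsPurelyInseparable.minpoly_natDegree_eq' K₀ p y
      have h2 : (minpoly K₀ y).natDegree ≤ Module.finrank K₀ K := minpoly.natDegree_le y
      rw [h1, hfin] at h2
      have h3 : IsPurelyInseparable.elemExponent K₀ y ≤ 1 := by
        by_contra hlt
        push Not at hlt
        have : p ^ 2 ≤ p ^ IsPurelyInseparable.elemExponent K₀ y :=
          Nat.pow_le_pow_right hp.out.pos hlt
        have h4 : p ^ 2 ≤ p := le_trans this h2
        have h5 := hp.out.one_lt
        nlinarith
      obtain ⟨s, hs⟩ := IsPurelyInseparable.elemExponent_def' K₀ p y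
      have h6 : y ^ p = (y ^ p ^ IsPurelyInseparable.elemExponent K₀ y) ^
          p ^ (1 - IsPurelyInseparable.elemExponent K₀ y) := by
        rw [← pow_mul, ← pow_add, Nat.add_sub_cancel' h3, pow_one]
      show y ^ p ∈ K₀
      rw [h6, ← hs]
      exact pow_mem s.2 _
    have hfp := finrank_Fp hK hg p
    haveI : FiniteDimensional (Fp k K p) K :=
      Module.finite_of_finrank_pos (by rw [hfp]; exact hp.out.pos)
    exact (IntermediateField.eq_of_le_of_finrank_eq' hle (by rw [hfp, hfin])).symm
  · rintro rfl
    refine ⟨?_, finrank_Fp hK hg p⟩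
    haveI : CharP (Fp k K p) p :=
      (RingHom.charP_iff _ (algebraMap (Fp k K p) K).injective p).mpr inferInstance
    haveI : ExpChar (Fp k K p) p := ExpChar.prime hp.out
    exact (isPurelyInseparable_iff_pow_mem (Fp k K p) p).mpr
      (fun x => ⟨1, ⟨⟨x ^ p, pow_mem_Fp p x⟩, by simp⟩⟩)

end Groth.Agent.S11007
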