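import Groth.Statements.S11017
-- import your own Groth.Agent.* helpers here

set_option autoImplicit false
open FunFld

namespace Groth.Agent.S11017

/-- For a Weil differential `ω` with divisor `C`, `ord_P [ω] ≥ e` iff `ω` kills every repartition
concentrated at `P` with `P`-component of order at least `-e`. -/
theorem result (k K : Type*) [Field k] [Field K] [Algebra k K] (ω : Module.Dual k (FunFld.adele k K)) (C : FunFld.Divisor k K) (hω : FunFld.IsDivOf ω C)
    (P : FunFld.Place k K) (e : ℤ) :
    e ≤ C P ↔ ∀ (a : FunFld.Place k K → K) (ha : a ∈ FunFld.adele k K),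
      (∀ Q, Q ≠ P → a Q = 0) → P.1 (a P) ≤ WithZero.exp e → ω ⟨a, ha⟩ = 0 := by
  classical
  constructor
  · intro hle a ha hconc hval
    have hωC : ω ∈ FunFld.WD C := (hω C).mpr le_rfl
    unfold FunFld.WD at hωC
    rw [Submodule.mem_dualAnnihilator] at hωC
    apply hωC
    unfold FunFld.ADK
    rw [Submodule.mem_comap]
    apply Submodule.mem_sup_left
    intro Q
    by_cases hQ : Q = P
    · subst hQ
      exact hval.trans (WithZero.exp_le_exp.mpr hle)
    · show Q.1 (a Q) ≤ _
      rw [hconc Q hQ, map_zero]
      exact zero_le'
  · intro H
    by_contra hlt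
    rw [not_le] at hlt
    have hE : ω ∈ FunFld.WD (C + Finsupp.single P 1) := by
      unfold FunFld.WD
      rw [Submodule.mem_dualAnnihilator]
      intro a ha
      unfold FunFld.ADK at ha
      rw [Submodule.mem_comap, Submodule.mem_sup] at ha
      obtain ⟨b, hb, c, ⟨y, rfl⟩, hbc⟩ := ha
      have hb''mem : (fun Q => if Q = P then b P else 0) ∈ FunFld.adele k K := by
        show ∀ᶠ Q : FunFld.Place k K in Filter.cofinite, Q.1 (if Q = P then b P else 0) ≤ 1
        rw [Filter.eventually_cofinite]
        apply Set.Finite.subset (Set.finite_singleton P)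
        intro Q hQ
        by_contra hQP
        apply hQ
        have hQP' : Q ≠ P := fun h => hQP (by rw [h]; exact Set.mem_singleton P)
        show Q.1 (if Q = P then b P else 0) ≤ 1
        rw [if_neg hQP', map_zero]
        exact zero_le'
      have h1 : ω ⟨fun Q => if Q = P then b P else 0, hb''mem⟩ = 0 := by
        apply H
        · intro Q hQ
          rw [if_neg hQ]
        · rw [if_pos rfl]
          refine (hb P).trans ?_
          rw [WithZero.exp_le_exp, Finsupp.add_apply, Finsupp.single_eq_same]
          omega
      have hωC : ω ∈ FunFld.WD C := (hω C).mpr le_rfl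
      unfold FunFld.WD at hωC
      rw [Submodule.mem_dualAnnihilator] at hωC
      have h2 : ω (a - ⟨fun Q => if Q = P then b P else 0, hb''mem⟩) = 0 := by
        apply hωC
        unfold FunFld.ADK
        rw [Submodule.mem_comap, Submodule.mem_sup]
        refine ⟨b - (fun Q => if Q = P then b P else 0), ?_, FunFld.diag k K y, ⟨y, rfl⟩, ?_⟩
        · intro Q
          show Q.1 (b Q - (if Q = P then b P else 0)) ≤ _
          by_cases hQ : Q = P
          · subst hQ
            rw [if_pos rfl, sub_self, map_zero]
            exact zero_le'
          · rw [if_neg hQ, sub_zero]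
            refine (hb Q).trans ?_
            rw [WithZero.exp_le_exp, Finsupp.add_apply, Finsupp.single_eq_of_ne hQ, add_zero]
        · rw [map_sub]
          show _ = (FunFld.adele k K).subtype a - _
          rw [← hbc]
          show _ = b + (FunFld.diag k K) y - (fun Q => if Q = P then b P else 0)
          abel
      have : ω a = ω (a - ⟨fun Q => if Q = P then b P else 0, hb''mem⟩) +
          ω ⟨fun Q => if Q = P then b P else 0, hb''mem⟩ := by
        rw [← map_add, sub_add_cancel]
      rw [this, h1, h2, add_zero]
    have hle := (hω _).mp hE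
    have := hle P
    rw [Finsupp.add_apply, Finsupp.single_eq_same] at this
    omega

end Groth.Agent.S11017
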