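import Groth.Statements.S11026
import Mathlib
import Groth.Agent.Lib.Helper7FunFldP

set_option autoImplicit false
universe u v
open FunFld

namespace Groth.Agent.S11026

/-- A weakly separable finite extension `K'/k'` of a geometric function field `K/k` (the map `Ω_{K/k} →
Ω_{K'/k'}` injective) is separable over the compositum `k'K`. -/
theorem result (k k' : Type u) (K K' : Type v) [Field k] [Field k'] [Field K] [Field K']
    [Algebra k k'] [Algebra k K] [Algebra K K'] [Algebra k' K'] [Algebra k K']
    [IsScalarTower k k' K'] [IsScalarTower k K K'] [FiniteDimensional K K']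
    (hK : FunFld.IsFunctionField k K) (hg : FunFld.IsGeometric k K)
    (hK' : FunFld.IsFunctionField k' K') (hg' : FunFld.IsGeometric k' K')
    (hw : Function.Injective (KaehlerDifferential.map k k' K K')) :
    Algebra.IsSeparable (IntermediateField.adjoin K (Set.range (algebraMap k' K'))) K' := by
  obtain ⟨t, -, -, hne⟩ := Groth.Agent.Lib.Helper7.FunFldP.exists_sep_var k K hK hg
  have hne' : KaehlerDifferential.D k' K' (algebraMap K K' t) ≠ 0 := by
    rw [← KaehlerDifferential.map_D k k' K K']
    intro h0
    exact hne (hw (h0.trans (map_zero _).symm))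
  have hsep := Groth.Agent.Lib.Helper7.FunFldP.isSeparable_of_D_ne_zero k' K' hK' hg' hne'
  have hle : ∀ y ∈ IntermediateField.adjoin k' ({algebraMap K K' t} : Set K'),
      y ∈ IntermediateField.adjoin K (Set.range (algebraMap k' K')) := by
    intro y hy
    induction hy using IntermediateField.adjoin_induction with
    | mem w hw =>
      rw [Set.mem_singleton_iff.1 hw]
      exact IntermediateField.algebraMap_mem _ t
    | algebraMap r => exact IntermediateField.subset_adjoin K _ ⟨r, rfl⟩
    | add a c _ _ ha hc => exact add_mem ha hc
    | inv a _ ha => exact inv_mem ha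
    | mul a c _ _ ha hc => exact mul_mem ha hc
  let φ : IntermediateField.adjoin k' ({algebraMap K K' t} : Set K') →+*
      IntermediateField.adjoin K (Set.range (algebraMap k' K')) :=
    { toFun := fun y => ⟨y.1, hle y.1 y.2⟩
      map_one' := rfl
      map_mul' := fun _ _ => rfl
      map_zero' := rfl
      map_add' := fun _ _ => rfl }
  letI : Algebra (IntermediateField.adjoin k' ({algebraMap K K' t} : Set K'))
      (IntermediateField.adjoin K (Set.range (algebraMap k' K'))) := φ.toAlgebra
  haveI : IsScalarTower (IntermediateField.adjoin k' ({algebraMap K K' t} : Set K'))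
      (IntermediateField.adjoin K (Set.range (algebraMap k' K'))) K' :=
    .of_algebraMap_eq (fun _ => rfl)
  haveI := hsep
  exact Algebra.isSeparable_tower_top_of_isSeparable
    (IntermediateField.adjoin k' ({algebraMap K K' t} : Set K'))
    (IntermediateField.adjoin K (Set.range (algebraMap k' K'))) K'


end Groth.Agent.S11026
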