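import Groth.Statements.S11030
import Mathlib
import Groth.Agent.Lib.Helper7FunFldP
import Groth.Agent.Lib.Helper7SepPlace3

set_option autoImplicit false
universe u v
open FunFld

namespace Groth.Agent.S11030

/-- In a geometric function field of one variable, a local parameter at a place with separable residue
field is a separating variable: `dt ≠ 0` in `Ω_{K/k}`. (The duality isomorphism `Ω_K ≅ W_K` and the
order of `dt` at `P` are not stated.) -/
theorem result (k : Type u) (K : Type v) [Field k] [Field K] [Algebra k K]
    (hK : FunFld.IsFunctionField k K) (hg : FunFld.IsGeometric k K) (P : FunFld.Place k K)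
    [Algebra.IsSeparable k (IsLocalRing.ResidueField P.O)] (t : K) (ht : P.1 t = WithZero.exp (-1)) :
    KaehlerDifferential.D k K t ≠ 0 := by
  classical
  have hrank := Groth.Agent.S11003.result k K hK hg
  obtain hc | ⟨p, hp, hpk⟩ := CharP.exists' K
  · -- characteristic zero
    have htr : Transcendental k t := by
      intro halg
      obtain ⟨c, hc'⟩ := hK.2 t halg
      have hc0 : c ≠ 0 := by
        rintro rfl
        rw [map_zero] at hc'
        rw [← hc', map_zero] at ht
        exact WithZero.exp_ne_zero ht.symm
      have h1 := Groth.Agent.Lib.LeadFF.place_trivOn P c hc0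
      rw [hc', ht] at h1
      have h2 : (-1 : ℤ) = 0 := WithZero.exp_injective (h1.trans WithZero.exp_zero.symm)
      omega
    haveI := Groth.Agent.Lib.LeadFF.finite_over_adjoin hK htr
    haveI : CharZero (IntermediateField.adjoin k ({t} : Set K)) :=
      (algebraMap (IntermediateField.adjoin k ({t} : Set K)) K).charZero_iff
        (algebraMap (IntermediateField.adjoin k ({t} : Set K)) K).injective |>.2 hc
    haveI : Algebra.IsSeparable (IntermediateField.adjoin k ({t} : Set K)) K :=
      Algebra.IsAlgebraic.isSeparable_of_perfectField
    have htop := Groth.Agent.S11003.span_D_eq_top (k := k) t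
    intro h0
    rw [h0] at htop
    have : Module.finrank K (KaehlerDifferential k K) = 0 := by
      rw [← finrank_top K, ← htop]
      simp
    omega
  · haveI := hp
    intro h0
    exact Groth.Agent.Lib.Helper7.SepPlace.notMem_kKp_of_val P p ht
      ((Groth.Agent.Lib.Helper7.FunFldP.mem_iff_D_eq_zero (k := k) p t).2 h0)


end Groth.Agent.S11030
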