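import Groth.Statements.S11042
import Groth.Agent.Lib.LeadRH9

set_option autoImplicit false
open FunFld

namespace Groth.Agent.S11042

/-- A function field of one variable of genus `g` over a finite field with `q` elements has `N` places
of degree one with `|N - q - 1| ≤ 2 g √q`. -/
theorem result
    (k K : Type*) [Field k] [Finite k] [Field K] [Algebra k K]
    (hK : FunFld.IsFunctionField k K) :
    |(Nat.card {P : FunFld.Place k K // P.deg = 1} : ℝ) - (Nat.card k : ℝ) - 1| ≤
      2 * (FunFld.genus k K : ℝ) * Real.sqrt (Nat.card k : ℝ) := by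
  classical
  obtain ⟨α, -, hα, hpair⟩ := Groth.Agent.Lib.LeadZT.reciprocal_roots hK
  have heq := Groth.Agent.Lib.LeadRH.norm_sq_eq k K hK α hα hpair
  have hnorm : ∀ i, ‖α i‖ = Real.sqrt (Nat.card k : ℝ) := by
    intro i
    rw [← heq i, Real.sqrt_sq (norm_nonneg _)]
  have h1 := Groth.Agent.Lib.LeadZC.Npow_eq_power_sum hK α hα 0
  rw [← Groth.Agent.Lib.LeadZC.card_deg_one hK] at h1
  simp only [zero_add, pow_one] at h1
  have h2 : ((Nat.card {P : FunFld.Place k K // P.deg = 1} : ℝ) - (Nat.card k : ℝ) - 1 : ℝ) =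
      (-(∑ i, α i)).re := by
    have : (-(∑ i, α i)) = ((Nat.card {P : FunFld.Place k K // P.deg = 1} : ℂ) - (Nat.card k : ℂ) - 1) := by
      rw [h1]; ring
    rw [this]
    simp
  rw [h2]
  calc |(-(∑ i, α i)).re| ≤ ‖-(∑ i, α i)‖ := Complex.abs_re_le_norm _
    _ = ‖∑ i, α i‖ := norm_neg _
    _ ≤ ∑ i, ‖α i‖ := norm_sum_le _ _
    _ = 2 * (FunFld.genus k K : ℝ) * Real.sqrt (Nat.card k : ℝ) := by
        rw [Finset.sum_congr rfl (fun i _ => hnorm i), Finset.sum_const, Finset.card_univ,
          Fintype.card_fin, nsmul_eq_mul]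
        push_cast
        ring

end Groth.Agent.S11042
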