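import Groth.Statements.S11043
import Mathlib
-- import your own Groth.Agent.* helpers here

set_option autoImplicit false
open FunFld

namespace Groth.Agent.S11043

theorem prod_roots {n : ℕ} (hn : 0 < n) {ζ : ℂ} (hζ : IsPrimitiveRoot ζ n) (F : ℂ → ℂ) :
    ∏ θ ∈ Polynomial.nthRootsFinset n (1 : ℂ), F θ = ∏ j ∈ Finset.range n, F (ζ ^ j) := by
  classical
  have hinj : Set.InjOn (fun j => ζ ^ j) (Finset.range n : Set ℕ) := by
    intro i hi j hj hij
    exact hζ.pow_inj (by simpa using hi) (by simpa using hj) hij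
  rw [← Finset.prod_image (f := F) hinj]
  congr 1
  ext θ
  rw [Polynomial.mem_nthRootsFinset hn, Finset.mem_image]
  constructor
  · intro h
    haveI : NeZero n := ⟨hn.ne'⟩
    obtain ⟨i, hi, rfl⟩ := hζ.eq_pow_of_pow_eq_one h
    exact ⟨i, Finset.mem_range.mpr hi, rfl⟩
  · rintro ⟨i, _, rfl⟩
    rw [← pow_mul, mul_comm, pow_mul, hζ.pow_eq_one, one_pow]

/-- For positive integers `n`, `d` with `e = gcd(n, d)`, in `ℂ[t]` one has `(1 - t^{nd/e})^e = ∏_{θⁿ =
1} (1 - (θ t)^d)`, the product over the complex `n`-th roots of unity. -/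
theorem result (n d : ℕ) (hn : 0 < n) (hd : 0 < d) :
    ((1 : Polynomial ℂ) - Polynomial.X ^ (n * d / Nat.gcd n d)) ^ Nat.gcd n d =
      ∏ θ ∈ Polynomial.nthRootsFinset n (1 : ℂ),
        (1 - Polynomial.C (θ ^ d) * Polynomial.X ^ d) := by
  have he0 : 0 < Nat.gcd n d := Nat.gcd_pos_of_pos_left d hn
  have hme : n = Nat.gcd n d * (n / Nat.gcd n d) :=
    (Nat.mul_div_cancel' (Nat.gcd_dvd_left n d)).symm
  have hm0 : 0 < n / Nat.gcd n d :=
    Nat.div_pos (Nat.le_of_dvd hn (Nat.gcd_dvd_left n d)) he0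
  obtain ⟨d', hd'⟩ : Nat.gcd n d ∣ d := Nat.gcd_dvd_right n d
  have hcop : Nat.Coprime d' (n / Nat.gcd n d) := by
    have h := Nat.coprime_div_gcd_div_gcd (m := d) (n := n) (by rw [Nat.gcd_comm]; exact he0)
    rw [Nat.gcd_comm d n] at h
    have : d / Nat.gcd n d = d' :=
      Nat.div_eq_of_eq_mul_right he0 hd'
    rwa [this] at h
  have hζ : IsPrimitiveRoot (Complex.exp (2 * Real.pi * Complex.I / n)) n :=
    Complex.isPrimitiveRoot_exp n hn.ne'
  set ζ := Complex.exp (2 * Real.pi * Complex.I / n) with hζdef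
  have hω : IsPrimitiveRoot (ζ ^ d) (n / Nat.gcd n d) := by
    have h1 : ζ ^ d = (ζ ^ Nat.gcd n d) ^ d' := by rw [← pow_mul, ← hd']
    rw [h1]
    exact (hζ.pow hn hme).pow_of_coprime d' hcop
  apply Polynomial.funext
  intro z
  rw [Polynomial.eval_pow, Polynomial.eval_sub, Polynomial.eval_one, Polynomial.eval_pow,
    Polynomial.eval_X, Polynomial.eval_prod]
  simp only [Polynomial.eval_sub, Polynomial.eval_one, Polynomial.eval_mul, Polynomial.eval_C,
    Polynomial.eval_pow, Polynomial.eval_X]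
  rw [prod_roots hn hζ (fun θ => 1 - θ ^ d * z ^ d)]
  have hstep : ∀ E : ℕ, ∏ j ∈ Finset.range ((n / Nat.gcd n d) * E),
      (1 - (ζ ^ j) ^ d * z ^ d) = (1 - (z ^ d) ^ (n / Nat.gcd n d)) ^ E := by
    intro E
    induction E with
    | zero => simp
    | succ E ih =>
      rw [Nat.mul_succ, Finset.prod_range_add, ih, pow_succ]
      congr 1
      have h2 := hω.pow_sub_pow_eq_prod_sub_mul 1 (z ^ d) hm0
      rw [one_pow] at h2
      rw [h2, prod_roots hm0 hω (fun η => 1 - η * z ^ d)]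
      refine Finset.prod_congr rfl (fun a _ => ?_)
      have : (ζ ^ (n / Nat.gcd n d * E + a)) ^ d = (ζ ^ d) ^ a := by
        rw [← pow_mul, mul_comm, pow_mul, pow_add, pow_mul, hω.pow_eq_one, one_pow, one_mul]
      rw [this]
  have hn' : n = (n / Nat.gcd n d) * Nat.gcd n d := by rw [mul_comm]; exact hme
  conv_rhs => rw [hn']
  rw [hstep, ← pow_mul]
  congr 3
  rw [mul_comm n d, Nat.mul_div_assoc d (Nat.gcd_dvd_left n d)]

end Groth.Agent.S11043
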