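import Groth.Statements.S11049
import Mathlib
-- import your own Groth.Agent.* helpers here

set_option autoImplicit false
open CAlg

namespace Groth.Agent.S11049

/-- For `k`-algebras `S ⊆ R` with `R` an integral domain and a nonzero `x ∈ S`, if `R/S` and `R/Rx` are
finite-dimensional over `k` then `dim_k R/Rx = dim_k S/Sx`. (The published statement allows `x = 0`;
then `R` is a field finite over `k` and the two sides are `dim_k R` and `dim_k S`, which differ for
`S = k ⊊ R`; the published proof multiplies by `x` as an injection, so `x ≠ 0` is assumed here.) -/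
theorem result
    (k R : Type*) [Field k] [CommRing R]
    [IsDomain R] [Algebra k R] (S : Subalgebra k R) (x : S) (hx : (x : R) ≠ 0)
    [Module.Finite k (R ⧸ Subalgebra.toSubmodule S)]
    [Module.Finite k (R ⧸ Ideal.span {(x : R)})] :
    Module.finrank k (R ⧸ Ideal.span {(x : R)}) = Module.finrank k (S ⧸ Ideal.span {x}) := by
  classical
  let S' : Submodule k R := Subalgebra.toSubmodule S
  let μ : R →ₗ[k] R := LinearMap.mulLeft k (x : R)
  let P : Submodule k R := S'.map μ
  let Q : Submodule k R := (Ideal.span {(x : R)}).restrictScalars k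
  have hPQ : P ≤ Q := by
    rintro _ ⟨s, hs, rfl⟩
    change (x : R) * s ∈ Ideal.span {(x : R)}
    exact Ideal.mul_mem_right _ _ (Ideal.subset_span rfl)
  have hPS : P ≤ S' := by
    rintro _ ⟨s, hs, rfl⟩
    exact S.mul_mem x.2 hs
  let A : Submodule k (R ⧸ P) := Q.map P.mkQ
  let B : Submodule k (R ⧸ P) := S'.map P.mkQ
  let eA : ((R ⧸ P) ⧸ A) ≃ₗ[k] R ⧸ Q := Submodule.quotientQuotientEquivQuotient P Q hPQ
  let eB : ((R ⧸ P) ⧸ B) ≃ₗ[k] R ⧸ S' := Submodule.quotientQuotientEquivQuotient P S' hPS
  let eQ : (R ⧸ Q) ≃ₗ[k] R ⧸ Ideal.span {(x : R)} :=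
    Submodule.Quotient.restrictScalarsEquiv k (Ideal.span {(x : R)})
  -- A ≅ R/S'
  let α : R →ₗ[k] (R ⧸ P) := P.mkQ ∘ₗ μ
  have hαker : LinearMap.ker α = S' := by
    ext r
    rw [LinearMap.mem_ker, LinearMap.comp_apply, Submodule.mkQ_apply,
      Submodule.Quotient.mk_eq_zero]
    constructor
    · rintro ⟨s, hs, hsr⟩
      have : s = r := mul_left_cancel₀ hx hsr
      rwa [← this]
    · intro hr
      exact ⟨r, hr, rfl⟩
  have hαrange : LinearMap.range α = A := by
    rw [LinearMap.range_comp]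
    congr 1
    ext r
    rw [LinearMap.mem_range]
    change _ ↔ r ∈ Ideal.span {(x : R)}
    rw [Ideal.mem_span_singleton']
    constructor
    · rintro ⟨a, rfl⟩
      exact ⟨a, mul_comm _ _⟩
    · rintro ⟨a, rfl⟩
      exact ⟨a, mul_comm _ _⟩
  let eA' : (R ⧸ S') ≃ₗ[k] A :=
    (Submodule.quotEquivOfEq _ _ hαker.symm).trans
      (α.quotKerEquivRange.trans (LinearEquiv.ofEq _ _ hαrange))
  -- B ≅ S/(x)
  let β : S →ₗ[k] (R ⧸ P) := P.mkQ ∘ₗ S.val.toLinearMap
  have hβker : LinearMap.ker β = (Ideal.span {x}).restrictScalars k := by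
    ext s
    rw [LinearMap.mem_ker, LinearMap.comp_apply, Submodule.mkQ_apply,
      Submodule.Quotient.mk_eq_zero, Submodule.restrictScalars_mem, Ideal.mem_span_singleton']
    constructor
    · rintro ⟨t, ht, hts⟩
      refine ⟨⟨t, ht⟩, ?_⟩
      apply Subtype.ext
      rw [mul_comm]
      exact hts
    · rintro ⟨t, rfl⟩
      refine ⟨t, t.2, ?_⟩
      change (x : R) * t = ((t * x : S) : R)
      rw [mul_comm]
      rfl
  have hβrange : LinearMap.range β = B := by
    rw [LinearMap.range_comp]
    congr 1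
    ext r
    constructor
    · rintro ⟨s, rfl⟩
      exact s.2
    · intro hr
      exact ⟨⟨r, hr⟩, rfl⟩
  let eB' : (S ⧸ Ideal.span {x}) ≃ₗ[k] B :=
    (Submodule.Quotient.restrictScalarsEquiv k (Ideal.span {x})).symm.trans
      ((Submodule.quotEquivOfEq _ _ hβker.symm).trans
        (β.quotKerEquivRange.trans (LinearEquiv.ofEq _ _ hβrange)))
  haveI : Module.Finite k A := Module.Finite.equiv eA'
  haveI : Module.Finite k ((R ⧸ P) ⧸ A) := Module.Finite.equiv (eA.trans eQ).symm
  haveI : Module.Finite k (R ⧸ P) := Module.Finite.of_submodule_quotient A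
  have h1 := Submodule.finrank_quotient_add_finrank A
  have h2 := Submodule.finrank_quotient_add_finrank B
  rw [(eA.trans eQ).finrank_eq, ← eA'.finrank_eq] at h1
  rw [eB.finrank_eq, ← eB'.finrank_eq] at h2
  omega

end Groth.Agent.S11049
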