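import Groth.Statements.S11060
import Groth.Agent.Lib.LeadPN7

set_option autoImplicit false
open FunFld

namespace Groth.Agent.S11060

/-- Over an algebraically closed constant field, a function field of genus `g` with a nonsingular plane
model has `g` a triangular number. Here a projective map is nonsingular at a place when its local
ring there (quotients of polynomials over `k` in the ratios `φᵢ/φⱼ`, `φⱼ` of least order at the
place, with denominator a unit there) is the whole valuation ring. -/
theorem result
    (k K : Type*) [Field k] [IsAlgClosed k] [Field K] [Algebra k K]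
    (hK : FunFld.IsFunctionField k K)
    (h : ∃ x y : K, IntermediateField.adjoin k ({x, y} : Set K) = ⊤ ∧
      ∀ P : FunFld.Place k K, FunFld.IsNonsingularAt ![(1 : K), x, y] P) :
    ∃ m : ℕ, 2 * FunFld.genus k K = m * (m + 1) := by
  obtain ⟨x, y, hxy, hns⟩ := h
  have h1 := Groth.Agent.Lib.LeadPN.two_genus_eq_of_nonsingular hK x y hxy hns
  obtain ⟨l, g, d, -, -, -, -, -, hd⟩ := Groth.Agent.Lib.LeadPN.exists_shear_data hK x y hxy
  rw [hd] at h1
  rcases Nat.lt_or_ge d 2 with hlt | hge
  · interval_cases d
    · refine ⟨1, ?_⟩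
      have : (2 * FunFld.genus k K : ℤ) = 2 := by rw [h1]; norm_num
      omega
    · refine ⟨0, ?_⟩
      have : (2 * FunFld.genus k K : ℤ) = 0 := by rw [h1]; norm_num
      omega
  · refine ⟨d - 2, ?_⟩
    obtain ⟨e, rfl⟩ : ∃ e, d = e + 2 := ⟨d - 2, by omega⟩
    have : (2 * FunFld.genus k K : ℤ) = (e : ℤ) * (e + 1) := by
      rw [h1]; push_cast; ring
    rw [Nat.add_sub_cancel]
    exact_mod_cast this

end Groth.Agent.S11060
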