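import Groth.Statements.S11061
import Groth.Agent.Lib.LeadZC5

set_option autoImplicit false
open FunFld

namespace Groth.Agent.S11061

/-- If `L_K(t) = ∏ (1 - αᵢ t)` is the numerator of the zeta function of a function field of one variable
over a finite field, then the constant-field extension `Kₙ` of degree `n` has `L_{Kₙ}(t) = ∏ (1 -
αᵢⁿ t)`. -/
theorem result
    (k K k' K' : Type*) [Field k] [Finite k] [Field K] [Algebra k K] [Field k'] [Finite k']
    [Field K'] [Algebra k k'] [Algebra K K'] [Algebra k' K'] (hK : FunFld.IsFunctionField k K)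
    (hK' : FunFld.IsFunctionField k' K') (hce : FunFld.IsConstExt k K k' K')
    (α : Fin (2 * FunFld.genus k K) → ℂ)
    (hα : PowerSeries.map (Int.castRingHom ℂ) (FunFld.numerZ k K) =
      ((∏ i, (1 - Polynomial.C (α i) * Polynomial.X) : Polynomial ℂ) : PowerSeries ℂ)) :
    PowerSeries.map (Int.castRingHom ℂ) (FunFld.numerZ k' K') =
      ((∏ i, (1 - Polynomial.C (α i ^ Module.finrank k k') * Polynomial.X) : Polynomial ℂ) :
        PowerSeries ℂ) := by
  classical
  letI : Algebra k K' := ((algebraMap K K').comp (algebraMap k K)).toAlgebra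
  haveI : IsScalarTower k K K' := IsScalarTower.of_algebraMap_eq (fun _ => rfl)
  haveI : IsScalarTower k k' K' := IsScalarTower.of_algebraMap_eq (fun c => hce.1 c)
  haveI : FiniteDimensional k k' := Module.Finite.of_finite
  have h := Groth.Agent.Lib.LeadZC.bijective_of_adjoin (k := k) (k' := k') (K := K) (K' := K')
    hce.2.1 hce.2.2
  have hnpos : 0 < Module.finrank k k' := Module.finrank_pos
  apply Groth.Agent.Lib.LeadZC.numerZ_of_Npow hK'
  intro r
  rw [Groth.Agent.Lib.LeadZC.Npow_constExt h hK hK' (r + 1) (Nat.succ_pos r)]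
  obtain ⟨s, hs⟩ : ∃ s, Module.finrank k k' * (r + 1) = s + 1 :=
    ⟨Module.finrank k k' * (r + 1) - 1, by
      have : 0 < Module.finrank k k' * (r + 1) := Nat.mul_pos hnpos (Nat.succ_pos r)
      omega⟩
  rw [hs, Groth.Agent.Lib.LeadZC.Npow_eq_power_sum hK α hα s, ← hs,
    Module.natCard_eq_pow_finrank (K := k) (V := k')]
  push_cast
  simp only [pow_mul]

end Groth.Agent.S11061
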