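import Groth.Statements.S11062
import Groth.Agent.Lib.LeadZC5

set_option autoImplicit false
open FunFld

namespace Groth.Agent.S11062

/-- With `L_K(t) = ∏ (1 - αᵢ t)` over a finite field with `q` elements, the number of degree-one places
of the constant-field extension `Kₙ/kₙ` of degree `n` is `1 + qⁿ - ∑ αᵢⁿ`. -/
theorem result
    (k K k' K' : Type*) [Field k] [Finite k] [Field K] [Algebra k K] [Field k'] [Finite k']
    [Field K'] [Algebra k k'] [Algebra K K'] [Algebra k' K'] (hK : FunFld.IsFunctionField k K)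
    (hK' : FunFld.IsFunctionField k' K') (hce : FunFld.IsConstExt k K k' K')
    (α : Fin (2 * FunFld.genus k K) → ℂ)
    (hα : PowerSeries.map (Int.castRingHom ℂ) (FunFld.numerZ k K) =
      ((∏ i, (1 - Polynomial.C (α i) * Polynomial.X) : Polynomial ℂ) : PowerSeries ℂ)) :
    (Nat.card {P : FunFld.Place k' K' // P.deg = 1} : ℂ) =
      1 + (Nat.card k : ℂ) ^ Module.finrank k k' - ∑ i, α i ^ Module.finrank k k' := by
  classical
  letI : Algebra k K' := ((algebraMap K K').comp (algebraMap k K)).toAlgebra
  haveI : IsScalarTower k K K' := IsScalarTower.of_algebraMap_eq (fun _ => rfl)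
  haveI : IsScalarTower k k' K' := IsScalarTower.of_algebraMap_eq (fun c => hce.1 c)
  haveI : FiniteDimensional k k' := Module.Finite.of_finite
  have h := Groth.Agent.Lib.LeadZC.bijective_of_adjoin (k := k) (k' := k') (K := K) (K' := K')
    hce.2.1 hce.2.2
  have hnpos : 0 < Module.finrank k k' := Module.finrank_pos
  obtain ⟨r, hr⟩ : ∃ r, Module.finrank k k' = r + 1 := ⟨Module.finrank k k' - 1, by omega⟩
  rw [Groth.Agent.Lib.LeadZC.card_deg_one hK',
    Groth.Agent.Lib.LeadZC.Npow_constExt h hK hK' 1 Nat.one_pos, mul_one, hr]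
  exact Groth.Agent.Lib.LeadZC.Npow_eq_power_sum hK α hα r

end Groth.Agent.S11062
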