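import Groth.Statements.S11079
import Mathlib

set_option autoImplicit false
universe u
open CAlg

namespace Groth.Agent.S11079

open Matrix

section
variable (K L : Type u) [Field K] [Field L] [Algebra K L] [FiniteDimensional K L] (n : ℕ)
  (B : (L ≃ₐ[K] L) → GL (Fin n) L)

/-- the averaging map on vectors -/
noncomputable def b (x : Fin n → L) : Fin n → L :=
  ∑ τ : L ≃ₐ[K] L, (B τ : Matrix (Fin n) (Fin n) L) *ᵥ (fun j => τ (x j))

variable {K L n B}

lemma b_fixed
    (hB : ∀ σ τ : L ≃ₐ[K] L,
      (B σ : Matrix (Fin n) (Fin n) L) * (B τ : Matrix (Fin n) (Fin n) L).map σ = (B (σ * τ) : Matrix (Fin n) (Fin n) L))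
    (σ : L ≃ₐ[K] L) (x : Fin n → L) :
    (B σ : Matrix (Fin n) (Fin n) L) *ᵥ (fun j => σ (b K L n B x j)) = b K L n B x := by
  have h1 : (fun j => σ (b K L n B x j)) =
      ∑ τ : L ≃ₐ[K] L, ((B τ : Matrix (Fin n) (Fin n) L).map σ) *ᵥ (fun j => (σ * τ) (x j)) := by
    funext j
    unfold b
    rw [Finset.sum_apply, map_sum, Finset.sum_apply]
    refine Finset.sum_congr rfl fun τ _ => ?_
    exact RingHom.map_mulVec (σ : L →+* L) _ _ j
  rw [h1, Matrix.mulVec_sum]
  simp only [Matrix.mulVec_mulVec, hB]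
  unfold b
  exact Fintype.sum_equiv (Equiv.mulLeft σ) _ _ (fun τ => rfl)

lemma span_b_eq_top :
    Submodule.span L (Set.range (b K L n B)) = ⊤ := by
  classical
  by_contra hne
  obtain ⟨f, hf0, hf⟩ := Submodule.exists_le_ker_of_lt_top _ (lt_top_iff_ne_top.mpr hne)
  apply hf0
  -- f vanishes on all b x
  have hfb : ∀ x, f (b K L n B x) = 0 := fun x =>
    LinearMap.mem_ker.mp (hf (Submodule.subset_span ⟨x, rfl⟩))
  -- independence of characters
  have hli : LinearIndependent L (fun σ : L ≃ₐ[K] L => (σ : L →ₐ[K] L).toLinearMap) :=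
    (linearIndependent_toLinearMap K L L).comp (fun σ : L ≃ₐ[K] L => (σ : L →ₐ[K] L))
      (fun σ τ h => AlgEquiv.ext fun c => by
        have := DFunLike.congr_fun h c
        simpa using this)
  have hcol : ∀ (τ : L ≃ₐ[K] L) (j : Fin n), f (fun k => (B τ : Matrix (Fin n) (Fin n) L) k j) = 0 := by
    intro τ j
    have := Fintype.linearIndependent_iff.mp hli
      (fun τ => f (fun k => (B τ : Matrix (Fin n) (Fin n) L) k j)) ?_ τ
    · exact this
    · apply LinearMap.ext
      intro c
      have h2 := hfb (Pi.single j c)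
      unfold b at h2
      rw [map_sum] at h2
      rw [LinearMap.sum_apply, LinearMap.zero_apply, ← h2]
      refine Finset.sum_congr rfl fun τ _ => ?_
      have h3 : (B τ : Matrix (Fin n) (Fin n) L) *ᵥ (fun k => τ ((Pi.single j c : Fin n → L) k))
          = (τ c) • (fun k => (B τ : Matrix (Fin n) (Fin n) L) k j) := by
        funext k
        rw [Matrix.mulVec, dotProduct, Finset.sum_eq_single j]
        · simp [mul_comm]
        · intro l _ hl; simp [Pi.single_eq_of_ne hl]
        · intro h; exact absurd (Finset.mem_univ j) h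
      rw [h3, map_smul]
      simp [mul_comm]
  apply LinearMap.ext
  intro v
  have hv : v = ∑ j, ((((B 1)⁻¹ : GL (Fin n) L) : Matrix (Fin n) (Fin n) L) *ᵥ v) j •
      (fun k => (B 1 : Matrix (Fin n) (Fin n) L) k j) := by
    have h0 : v = (B 1 : Matrix (Fin n) (Fin n) L) *ᵥ (((B 1)⁻¹ : GL (Fin n) L) : Matrix (Fin n) (Fin n) L) *ᵥ v := by
      rw [Matrix.mulVec_mulVec, ← Units.val_mul, mul_inv_cancel, Units.val_one, Matrix.one_mulVec]
    conv_lhs => rw [h0]
    funext k
    rw [Finset.sum_apply]
    rw [Matrix.mulVec, dotProduct]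
    refine Finset.sum_congr rfl fun j _ => ?_
    simp [mul_comm]
  rw [hv, map_sum]
  simp only [LinearMap.zero_apply]
  refine Finset.sum_eq_zero fun j _ => ?_
  rw [map_smul, hcol, smul_zero]

end

/-- Let L/K be a finite Galois extension of fields, n a natural number, and B a map from the Galois
group of L over K to the invertible n × n matrices over L such that B(σ) · σ(B(τ)) = B(στ) for all
σ, τ, where σ acts on matrices entrywise and στ is the automorphism applying τ first. Then there is
an invertible matrix A over L with B(σ) = A⁻¹ · σ(A) for every σ; that is, every 1-cocycle of the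
Galois group with values in GL_n(L) is a coboundary. -/
theorem result (K L : Type u) [Field K] [Field L]
    [Algebra K L] [FiniteDimensional K L] [IsGalois K L] (n : ℕ)
    (B : (L ≃ₐ[K] L) → GL (Fin n) L)
    (hB : ∀ σ τ : L ≃ₐ[K] L,
      (B σ : Matrix (Fin n) (Fin n) L) * (B τ : Matrix (Fin n) (Fin n) L).map σ = (B (σ * τ) : Matrix (Fin n) (Fin n) L)) :
    ∃ A : GL (Fin n) L, ∀ σ : L ≃ₐ[K] L,
      (B σ : Matrix (Fin n) (Fin n) L) = ((A⁻¹ : GL (Fin n) L) : Matrix (Fin n) (Fin n) L) * (A : Matrix (Fin n) (Fin n) L).map σ := by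
  classical
  -- extract a basis from the spanning set
  obtain ⟨S, hS, hspan, hli⟩ := exists_linearIndependent L (Set.range (b K L n B))
  rw [span_b_eq_top] at hspan
  let bs : Module.Basis S L (Fin n → L) := Module.Basis.mk hli (by rw [Subtype.range_coe, hspan])
  have : Fintype S := FiniteDimensional.fintypeBasisIndex bs
  have hcard : Fintype.card S = n := by
    rw [← Module.finrank_eq_card_basis bs, Module.finrank_fin_fun]
  let e : Fin n ≃ S := (Fintype.equivFinOfCardEq hcard).symm
  let v : Fin n → (Fin n → L) := fun i => ((e i : S) : Fin n → L)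
  have hvli : LinearIndependent L v := hli.comp e e.injective
  have hvspan : Submodule.span L (Set.range v) = ⊤ := by
    have : Set.range v = S := by
      ext y
      constructor
      · rintro ⟨i, rfl⟩; exact (e i).2
      · intro hy; exact ⟨e.symm ⟨y, hy⟩, by simp [v]⟩
    rw [this, hspan]
  have hvb : ∀ i, ∃ x, b K L n B x = v i := fun i => hS (e i).2
  have hdet : IsUnit ((Pi.basisFun L (Fin n)).det v) :=
    (Module.Basis.is_basis_iff_det (Pi.basisFun L (Fin n))).mp ⟨hvli, hvspan⟩
  rw [Module.Basis.det_apply] at hdet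
  set M : Matrix (Fin n) (Fin n) L := (Pi.basisFun L (Fin n)).toMatrix v with hM
  have hMij : ∀ i j, M i j = v j i := fun i j => by simp [hM, Module.Basis.toMatrix_apply]
  -- key property
  have hkey : ∀ σ : L ≃ₐ[K] L, (B σ : Matrix (Fin n) (Fin n) L) * M.map σ = M := by
    intro σ
    ext i j
    obtain ⟨x, hx⟩ := hvb j
    have := congrFun (b_fixed hB σ x) i
    rw [hx] at this
    rw [hMij, ← this, Matrix.mul_apply, Matrix.mulVec, dotProduct]
    refine Finset.sum_congr rfl fun k _ => ?_
    rw [Matrix.map_apply, hMij]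
  let U : GL (Fin n) L := Matrix.nonsingInvUnit M hdet
  refine ⟨U⁻¹, fun σ => ?_⟩
  rw [inv_inv]
  have hU : (U : Matrix (Fin n) (Fin n) L) = M := rfl
  have hUinv : ((U⁻¹ : GL (Fin n) L) : Matrix (Fin n) (Fin n) L) = M⁻¹ := by
    rw [Matrix.coe_units_inv]; rfl
  rw [hU, hUinv]
  have h1 : M.map σ * (M⁻¹).map σ = 1 := by
    have : (M * M⁻¹).map (σ : L →+* L) = M.map (σ : L →+* L) * (M⁻¹).map (σ : L →+* L) := Matrix.map_mul
    rw [Matrix.mul_nonsing_inv M hdet] at this
    rw [show M.map σ = M.map (σ : L →+* L) from rfl, show (M⁻¹).map σ = (M⁻¹).map (σ : L →+* L) from rfl,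
      ← this]
    exact Matrix.map_one _ (map_zero _) (map_one _)
  calc (B σ : Matrix (Fin n) (Fin n) L) = (B σ : Matrix (Fin n) (Fin n) L) * (M.map σ * (M⁻¹).map σ) := by
        rw [h1, mul_one]
    _ = M * (M⁻¹).map σ := by rw [← mul_assoc, hkey]

end Groth.Agent.S11079
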