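import Groth.Statements.S11080
import Mathlib
-- import your own Groth.Agent.* helpers here

set_option autoImplicit false
universe u
open CAlg

namespace Groth.Agent.S11080

/-- Valuation rings over a curve: let A be a Dedekind domain with fraction field K. A valuation subring
O of K contains A and is different from K if and only if O is the valuation ring of the v-adic
valuation of K at some nonzero prime v of A (equivalently O is the local ring of A at a maximal
ideal, a discrete valuation ring). (The published statement takes A to be the coordinate ring of a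
nonsingular affine curve over an algebraically closed field, which is such a Dedekind domain; its
proof uses only that the local rings of A at nonzero primes are discrete valuation rings and that
nonzero primes are maximal.) -/
theorem result (A K : Type u) [CommRing A]
    [IsDedekindDomain A] [Field K] [Algebra A K] [IsFractionRing A K] (O : ValuationSubring K) :
    ((algebraMap A K).range ≤ O.toSubring ∧ O ≠ ⊤) ↔
      ∃ v : IsDedekindDomain.HeightOneSpectrum A, O = (v.valuation K).valuationSubring := by
  constructor
  · rintro ⟨hA, hO⟩
    let f : A →+* O := (algebraMap A K).codRestrict O.toSubring (fun a => hA ⟨a, rfl⟩)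
    have hf : ∀ a, ((f a : O) : K) = algebraMap A K a := fun a => rfl
    set p : Ideal A := (IsLocalRing.maximalIdeal O).comap f with hp
    have hprime : p.IsPrime := Ideal.comap_isPrime f _
    have hunit : ∀ a : A, a ∉ p → (algebraMap A K a)⁻¹ ∈ O := by
      intro a ha
      have h1 : f a ∉ IsLocalRing.maximalIdeal O := ha
      have h2 : IsUnit (f a) := by
        by_contra h
        exact h1 ((IsLocalRing.mem_maximalIdeal _).mpr h)
      obtain ⟨u, hu⟩ := h2
      have h3 : ((u⁻¹ : Oˣ) : O) * f a = 1 := by rw [← hu]; exact u.inv_mul
      have h4 : (((u⁻¹ : Oˣ) : O) : K) * algebraMap A K a = 1 := by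
        have := congrArg (fun z : O => (z : K)) h3
        simpa [hf] using this
      have h5 : (algebraMap A K a)⁻¹ = (((u⁻¹ : Oˣ) : O) : K) :=
        (eq_inv_of_mul_eq_one_left h4).symm
      rw [h5]
      exact ((u⁻¹ : Oˣ) : O).2
    have hne : p ≠ ⊥ := by
      intro hbot
      apply hO
      rw [eq_top_iff]
      intro x _
      obtain ⟨a, b, hb, rfl⟩ := IsFractionRing.div_surjective (A := A) x
      have hb0 : (b : A) ≠ 0 := nonZeroDivisors.ne_zero hb
      have hbp : (b : A) ∉ p := by
        rw [hbot, Ideal.mem_bot]; exact hb0
      rw [div_eq_mul_inv]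
      exact O.mul_mem _ _ (hA ⟨a, rfl⟩) (hunit _ hbp)
    let v : IsDedekindDomain.HeightOneSpectrum A := ⟨p, hprime, hne⟩
    refine ⟨v, ?_⟩
    have hle : IsDedekindDomain.HeightOneSpectrum.valuationSubringAtPrime K v ≤ O := by
      intro x hx
      have hx1 : v.valuation K x ≤ 1 :=
        IsDedekindDomain.HeightOneSpectrum.valuationSubringAtPrime_le_valuation v hx
      obtain ⟨n, d, hnd⟩ :=
        IsDedekindDomain.HeightOneSpectrum.exists_primeCompl_mul_eq_of_integer v x hx1
      have hd0 : algebraMap A K (d : A) ≠ 0 := by
        intro h0
        have : (d : A) = 0 := (IsFractionRing.injective A K) (by rw [h0, map_zero])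
        exact d.2 (by rw [this]; exact Ideal.zero_mem _)
      have hxeq : x = algebraMap A K n * (algebraMap A K (d : A))⁻¹ := by
        rw [← hnd, mul_assoc, mul_inv_cancel₀ hd0, mul_one]
      rw [hxeq]
      exact O.mul_mem _ _ (hA ⟨n, rfl⟩) (hunit _ d.2)
    have := ValuationSubring.eq_of_le_of_ne_top _ hle hO
    rw [← this]
    exact IsDedekindDomain.HeightOneSpectrum.valuationSubringAtPrime_eq_valuationSubring v
  · rintro ⟨v, rfl⟩
    refine ⟨?_, ?_⟩
    · rintro _ ⟨a, rfl⟩
      exact v.valuation_le_one a
    · simp only [ne_eq, Valuation.valuationSubring_eq_top_iff, not_not]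
      infer_instance

end Groth.Agent.S11080
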