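import Groth.Statements.S11081
import Mathlib
import Groth.Agent.Lib.Helper16TraceChain
-- import your own Groth.Agent.* helpers here

set_option autoImplicit false
set_option linter.style.haveILetI false
set_option linter.unusedSectionVars false
universe u
attribute [local instance] FractionRing.liftAlgebra
open CAlg

namespace Groth.Agent.S11081

open Groth.Agent.Lib.Helper16TraceChain

attribute [local instance] Ideal.Quotient.field

section
variable {A B : Type u} [CommRing A] [CommRing B] [Algebra A B] (p : Ideal A) [p.IsMaximal]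

open Classical in
/-- trace of the class of `y` in the residue field of `Q` (zero if `Q` does not lie over `p`) -/
noncomputable def trQ (y : B) (Q : Ideal B) : A ⧸ p :=
  if h : Q.LiesOver p then
    (haveI := h; Algebra.trace (A ⧸ p) (B ⧸ Q) (Ideal.Quotient.mk Q y)) else 0

theorem trQ_eq (y : B) (Q : Ideal B) [h : Q.LiesOver p] :
    trQ p y Q = Algebra.trace (A ⧸ p) (B ⧸ Q) (Ideal.Quotient.mk Q y) := by
  unfold trQ
  exact dif_pos h

theorem trace_doubleQuot (y : B) (Q : Ideal B) [Q.LiesOver p] :
    Algebra.trace (A ⧸ p) ((B ⧸ p.map (algebraMap A B)) ⧸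
        Q.map (Ideal.Quotient.mk (p.map (algebraMap A B))))
      (Ideal.Quotient.mk _ (Ideal.Quotient.mk _ y)) =
    Algebra.trace (A ⧸ p) (B ⧸ Q) (Ideal.Quotient.mk Q y) := by
  have hle : p.map (algebraMap A B) ≤ Q := Ideal.map_le_of_le_comap (Q.over_def p).le
  rw [Algebra.trace_eq_of_equiv_equiv (RingEquiv.refl (A ⧸ p))
    (DoubleQuot.quotQuotEquivQuotOfLE hle)]
  · rfl
  · refine Ideal.Quotient.ringHom_ext ?_
    ext x
    rfl

end


/-- Let A be a Dedekind domain, B a Dedekind domain which is a finitely generated torsion-free A-algebra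
whose fraction field is separable over that of A (B is the integral closure of A in a finite
separable extension), p a nonzero prime ideal of A and y an element of B. Then the class modulo p of
the trace of y from B to A is the sum over the primes Q of B lying over p of e(Q|p) times the trace,
from B/Q to A/p, of the class of y modulo Q. -/
theorem result (A B : Type u) [CommRing A] [CommRing B]
    [IsDedekindDomain A] [IsDedekindDomain B] [Algebra A B] [Module.Finite A B] [Module.IsTorsionFree A B]
    [Algebra.IsSeparable (FractionRing A) (FractionRing B)]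
    (p : Ideal A) [p.IsMaximal] (hp : p ≠ ⊥) (y : B) :
    Ideal.Quotient.mk p (Algebra.intTrace A B y) =
      ∑ᶠ Q : p.primesOver B,
        Q.1.ramificationIdx A •
          Algebra.trace (A ⧸ p) (B ⧸ Q.1) (Ideal.Quotient.mk Q.1 y) := by
  classical
  set pB : Ideal B := p.map (algebraMap A B) with hpB
  have hpB0 : pB ≠ ⊥ := Ideal.map_ne_bot_of_ne_bot hp
  haveI : Module.Finite (A ⧸ p) (B ⧸ pB) := Module.Finite.of_restrictScalars_finite A _ _
  rw [← Algebra.trace_quotient_eq_of_isDedekindDomain B p y]
  have key : ∀ s : Multiset (Ideal B), (∀ Q ∈ s, Q.IsPrime ∧ Q.LiesOver p) → pB ≤ s.prod →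
      τ (A ⧸ p) (B ⧸ pB) (⊤ : Ideal (B ⧸ pB)) (Ideal.Quotient.mk pB y) =
        τ (A ⧸ p) (B ⧸ pB) (s.prod.map (Ideal.Quotient.mk pB)) (Ideal.Quotient.mk pB y) +
          (s.map (trQ p y)).sum := by
    intro s
    induction s using Multiset.induction_on with
    | empty =>
      intro _ _
      have h1 : Ideal.map (Ideal.Quotient.mk pB) (1 : Ideal B) = ⊤ := by
        rw [Ideal.one_eq_top, Ideal.map_top]
      rw [Multiset.prod_zero, h1]
      simp
    | cons Q s ih =>
      intro hs hle
      rw [Multiset.prod_cons] at hle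
      have hle' : pB ≤ s.prod := hle.trans Ideal.mul_le_right
      obtain ⟨hQp, hQo⟩ := hs Q (Multiset.mem_cons_self Q s)
      rw [ih (fun Q' hQ' => hs Q' (Multiset.mem_cons_of_mem hQ')) hle', Multiset.map_cons,
        Multiset.sum_cons, Multiset.prod_cons]
      have hQ0 : Q ≠ ⊥ := Ideal.ne_bot_of_liesOver_of_ne_bot hp Q
      haveI hQmax : Q.IsMaximal := hQp.isMaximal hQ0
      have hI : s.prod ≠ ⊥ := ne_bot_of_le_ne_bot hpB0 hle'
      have hpBQ : pB ≤ Q := hle.trans Ideal.mul_le_left
      obtain ⟨a, haI, haIQ, hspan⟩ := exists_gen s.prod Q hI hQ0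
      haveI hmmax : (Q.map (Ideal.Quotient.mk pB)).IsMaximal := by
        refine (Ideal.map_eq_top_or_isMaximal_of_surjective _ Ideal.Quotient.mk_surjective
          hQmax).resolve_left fun h => ?_
        have h1 : Ideal.Quotient.mk pB (1 : B) ∈ Q.map (Ideal.Quotient.mk pB) := by
          rw [h]; trivial
        rw [Ideal.mem_quotient_iff_mem hpBQ] at h1
        exact hQmax.ne_top ((Ideal.eq_top_iff_one _).mpr h1)
      have hstep := τ_step (k := A ⧸ p) (R := B ⧸ pB) (s.prod.map (Ideal.Quotient.mk pB))
        ((Q * s.prod).map (Ideal.Quotient.mk pB)) (Ideal.map_mono Ideal.mul_le_right)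
        (Q.map (Ideal.Quotient.mk pB)) (Ideal.Quotient.mk pB a) (Ideal.mem_map_of_mem _ haI)
        (by
          intro h
          rw [Ideal.mem_quotient_iff_mem hle, mul_comm] at h
          exact haIQ h)
        (by
          intro r hr
          obtain ⟨q, hq, rfl⟩ := (Ideal.mem_map_iff_of_surjective _
            Ideal.Quotient.mk_surjective).mp hr
          rw [← map_mul]
          exact Ideal.mem_map_of_mem _ (Ideal.mul_mem_mul hq haI))
        (by
          calc s.prod.map (Ideal.Quotient.mk pB)
              ≤ (Ideal.span {a} ⊔ s.prod * Q).map (Ideal.Quotient.mk pB) := Ideal.map_mono hspan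
            _ = Ideal.span {Ideal.Quotient.mk pB a} ⊔ (Q * s.prod).map (Ideal.Quotient.mk pB) := by
              rw [Ideal.map_sup, Ideal.map_span, Set.image_singleton, mul_comm])
        (Ideal.Quotient.mk pB y)
      rw [hstep, trace_doubleQuot p y Q, trQ_eq p y Q]
      abel
  set s := UniqueFactorizationMonoid.normalizedFactors pB with hs
  have hmem : ∀ Q, Q ∈ s ↔ Q ∈ p.primesOver B :=
    fun Q => (Ideal.mem_primesOver_iff_mem_normalizedFactors B hp).symm
  have hprod : s.prod = pB := Ideal.prod_normalizedFactors_eq_self hpB0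
  have h1 := key s (fun Q hQ => (hmem Q).mp hQ) (by rw [hprod])
  rw [hprod] at h1
  have hbot : ∀ J : Ideal (B ⧸ pB), J = ⊥ →
      τ (A ⧸ p) (B ⧸ pB) J (Ideal.Quotient.mk pB y) = 0 := by
    rintro J rfl
    exact τ_of_subsingleton _
  rw [τ_top, hbot _ (Ideal.map_quotient_self pB), zero_add, Finset.sum_multiset_map_count] at h1
  rw [h1]
  have hset : (p.primesOver B) = ↑s.toFinset := by
    ext Q
    simp [hmem]
  symm
  calc ∑ᶠ Q : p.primesOver B, Q.1.ramificationIdx A •
          Algebra.trace (A ⧸ p) (B ⧸ Q.1) (Ideal.Quotient.mk Q.1 y)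
      = ∑ᶠ Q : p.primesOver B, (fun Q' : Ideal B => s.count Q' • trQ p y Q') Q.1 := by
        refine finsum_congr fun Q => ?_
        show _ = Multiset.count Q.1 s • trQ p y Q.1
        rw [trQ_eq p y Q.1,
          Ideal.IsDedekindDomain.ramificationIdx_eq_normalizedFactors_count p Q.1 hpB0]
    _ = ∑ᶠ Q ∈ p.primesOver B, s.count Q • trQ p y Q :=
        finsum_set_coe_eq_finsum_mem (f := fun Q' : Ideal B => s.count Q' • trQ p y Q')
          (p.primesOver B)
    _ = ∑ Q ∈ s.toFinset, s.count Q • trQ p y Q := by rw [hset, finsum_mem_coe_finset]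

end Groth.Agent.S11081
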