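import Groth.Statements.S11082
import Mathlib
import Groth.Agent.Lib.Helper10KaehlerField
-- import your own Groth.Agent.* helpers here

set_option autoImplicit false
universe u v
open CAlg

namespace Groth.Agent.S11082

/-- Let k be an algebraically closed field, F a field extension of k which is finitely generated as a
field, and x a transcendence basis of F over k indexed by a type ι. Then F is a separable algebraic
extension of the subfield k(x) generated by the family (x is a separating transcendence basis) if
and only if the differentials d(x i) form a basis of the F-vector space of Kähler differentials of F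
over k, i.e. they are linearly independent over F and span it. -/
theorem result (k : Type u) (F : Type v)
    [Field k] [IsAlgClosed k] [Field F] [Algebra k F] (hF : (⊤ : IntermediateField k F).FG)
    {ι : Type v} (x : ι → F) (hx : IsTranscendenceBasis k x) :
    Algebra.IsSeparable (IntermediateField.adjoin k (Set.range x)) F ↔
      (LinearIndependent F (fun i : ι => KaehlerDifferential.D k F (x i)) ∧
        Submodule.span F (Set.range fun i : ι => KaehlerDifferential.D k F (x i)) = ⊤) := by
  haveI : Algebra.EssFiniteType k F := IntermediateField.fg_top_iff.mp hF
  constructor
  · intro hsep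
    obtain ⟨b, hb⟩ :=
      Groth.Agent.Lib.Helper10.KaehlerField.exists_basis_of_isSeparable (k := k) x hx.1
    have hbe : (⇑b : ι → _) = fun i : ι => KaehlerDifferential.D k F (x i) := funext hb
    refine ⟨hbe ▸ b.linearIndependent, hbe ▸ b.span_eq⟩
  · rintro ⟨-, hspan⟩
    set E := IntermediateField.adjoin k (Set.range x) with hE
    haveI : Algebra.EssFiniteType E F := Algebra.EssFiniteType.of_comp k E F
    have hsub : Subsingleton (Ω[F⁄E]) := by
      have hsurj := KaehlerDifferential.map_surjective k E F
      have htop : (⊤ : Submodule F (Ω[F⁄E])) = ⊥ := by
        rw [← LinearMap.range_eq_top.mpr hsurj, ← Submodule.map_top, ← hspan, Submodule.map_span,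
          Submodule.span_eq_bot]
        rintro _ ⟨_, ⟨i, rfl⟩, rfl⟩
        have hxi : x i ∈ E := IntermediateField.subset_adjoin k _ ⟨i, rfl⟩
        have : KaehlerDifferential.D E F (x i) = 0 := by
          have := KaehlerDifferential.D E F |>.map_algebraMap (⟨x i, hxi⟩ : E)
          simpa using this
        simpa using this
      exact (Submodule.subsingleton_iff F).mp (subsingleton_of_bot_eq_top htop.symm)
    haveI : Algebra.FormallyUnramified E F := ⟨hsub⟩
    exact Algebra.FormallyUnramified.isSeparable E F

end Groth.Agent.S11082
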