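import Groth.Statements.S11084
import Mathlib.NumberTheory.RatFunc.Ostrowski

namespace Groth.Agent.S11084

open Polynomial IsDedekindDomain HeightOneSpectrum Valuation WithZero

universe u

section
variable {K Γ : Type*} [Field K] [LinearOrderedCommGroupWithZero Γ] {v : Valuation (RatFunc K) Γ}
  [v.IsNontrivial] [v.IsTrivialOn K]

/-- Ostrowski for `K(X)`, finite case, without assuming discreteness. -/
lemma isEquiv_adic (hle : v RatFunc.X ≤ 1) :
    v.IsEquiv ((RatFunc.valuationIdeal hle).valuation (RatFunc K)) := by
  rw [isEquiv_iff_val_le_one]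
  intro f
  rcases eq_or_ne f 0 with rfl | hf0
  · simp
  · induction f using RatFunc.induction_on with
    | f p q hq0 =>
      have hp0 : p ≠ 0 := by simp_all
      have hlt := RatFunc.valuation_uniformizingPolynomial_lt_one hle
      have hne : v (RatFunc.uniformizingPolynomial hle : RatFunc K) ≠ 0 := by
        simpa using RatFunc.uniformizingPolynomial_ne_zero hle
      have hpos : 0 < v (RatFunc.uniformizingPolynomial hle : RatFunc K) :=
        zero_lt_iff.mpr hne
      simp only [map_div₀, valuation_of_algebraMap, intValuation_def, exp_neg, if_neg hp0,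
        if_neg hq0, div_inv_eq_mul]
      rw [RatFunc.valuation_eq_valuation_uniformizingPolynomial_pow_of_valuation_X_le_one hle hp0,
        RatFunc.valuation_eq_valuation_uniformizingPolynomial_pow_of_valuation_X_le_one hle hq0]
      simp_all [div_le_one₀, inv_mul_le_one₀]
      exact pow_le_pow_iff_right_of_lt_one₀ hpos hlt

end

theorem result (k : Type u) [Field k] [DecidableEq (RatFunc k)]
    (O : ValuationSubring (RatFunc k)) :
    ((algebraMap k (RatFunc k)).range ≤ O.toSubring ∧ O ≠ ⊤) ↔
      ((∃ v : IsDedekindDomain.HeightOneSpectrum (Polynomial k), O = (v.valuation (RatFunc k)).valuationSubring) ∨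
        O = (RatFunc.inftyValuation k).valuationSubring) := by
  constructor
  · rintro ⟨hk, hO⟩
    haveI : O.valuation.IsTrivialOn k := ⟨by
      intro a ha
      have h1 : O.valuation (algebraMap k (RatFunc k) a) ≤ 1 :=
        (O.valuation_le_one_iff _).mpr (hk ⟨a, rfl⟩)
      have h2 : O.valuation (algebraMap k (RatFunc k) a⁻¹) ≤ 1 :=
        (O.valuation_le_one_iff _).mpr (hk ⟨a⁻¹, rfl⟩)
      rw [map_inv₀, map_inv₀] at h2
      have hne : O.valuation (algebraMap k (RatFunc k) a) ≠ 0 := by
        simpa using ha
      have h3 : 1 ≤ O.valuation (algebraMap k (RatFunc k) a) := by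
        rwa [inv_le_one₀ (zero_lt_iff.mpr hne)] at h2
      exact le_antisymm h1 h3⟩
    haveI : O.valuation.IsNontrivial := ⟨by
      obtain ⟨x, hx⟩ : ∃ x, x ∉ O := by
        by_contra h
        push_neg at h
        exact hO (eq_top_iff.mpr fun x _ => h x)
      have hx1 : ¬ O.valuation x ≤ 1 := fun h => hx ((O.valuation_le_one_iff _).mp h)
      refine ⟨x, ?_, ?_⟩
      · intro h0
        exact hx1 (h0 ▸ zero_le')
      · intro h1
        exact hx1 h1.le⟩
    rcases lt_or_ge 1 (O.valuation RatFunc.X) with hlt | hge
    · right
      have := RatFunc.valuation_isEquiv_inftyValuation_of_one_lt_valuation_X (v := O.valuation) hlt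
      rw [isEquiv_iff_valuationSubring, ValuationSubring.valuationSubring_valuation] at this
      exact this
    · left
      refine ⟨RatFunc.valuationIdeal hge, ?_⟩
      have := isEquiv_adic (v := O.valuation) hge
      rw [isEquiv_iff_valuationSubring, ValuationSubring.valuationSubring_valuation] at this
      exact this
  · rintro (⟨v, rfl⟩ | rfl)
    · refine ⟨?_, ?_⟩
      · rintro _ ⟨a, rfl⟩
        show (v.valuation (RatFunc k)) (algebraMap k (RatFunc k) a) ≤ 1
        rw [IsScalarTower.algebraMap_apply k k[X] (RatFunc k)]
        exact v.valuation_le_one _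
      · intro h
        obtain ⟨π, hπ⟩ := v.valuation_exists_uniformizer (RatFunc k)
        have hmem : π⁻¹ ∈ (v.valuation (RatFunc k)).valuationSubring := h ▸ trivial
        rw [mem_valuationSubring_iff, map_inv₀, hπ, ← exp_neg, neg_neg] at hmem
        exact absurd hmem (by simp [← exp_zero])
    · refine ⟨?_, ?_⟩
      · rintro _ ⟨a, rfl⟩
        show (RatFunc.inftyValuation k) (algebraMap k (RatFunc k) a) ≤ 1
        by_cases ha : a = 0
        · simp [ha]
        · rw [RatFunc.algebraMap_eq_C, RatFunc.inftyValuation.C _ ha]
      · intro h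
        have hmem : (RatFunc.X : RatFunc k) ∈ (RatFunc.inftyValuation k).valuationSubring :=
          h ▸ trivial
        rw [mem_valuationSubring_iff, RatFunc.inftyValuation.X] at hmem
        exact absurd hmem (by simp [← exp_zero])

end Groth.Agent.S11084
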