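import Groth.Statements.S11086
import Groth.Agent.Lib.Helper19DiffLoc

set_option autoImplicit false
set_option linter.style.haveILetI false
universe u
attribute [local instance] FractionRing.liftAlgebra
open CAlg

namespace Groth.Agent.S11086

/-- Let A be a Dedekind domain, B a Dedekind domain which is a finitely generated torsion-free A-algebra
with fraction field separable over that of A (the integral closure of A in a finite separable
extension), and S a submonoid of A consisting of non-zero-divisors. Let A_S and B_S be localizations
of A at S and of B at the image of S, with B_S an algebra over A_S compatibly with A and B (so A_S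
is integrally closed and B_S is a Dedekind domain, torsion-free over A_S). Then the ideal of B_S
generated by the different of B over A is the different of B_S over A_S. -/
theorem result (A B : Type u) [CommRing A] [CommRing B]
    [IsDedekindDomain A] [IsDedekindDomain B] [Algebra A B] [Module.Finite A B] [Module.IsTorsionFree A B]
    [Algebra.IsSeparable (FractionRing A) (FractionRing B)]
    (S : Submonoid A) (hS : S ≤ nonZeroDivisors A)
    (Aₛ Bₛ : Type u) [CommRing Aₛ] [CommRing Bₛ] [Algebra A Aₛ] [Algebra B Bₛ] [Algebra Aₛ Bₛ]
    [Algebra A Bₛ] [IsScalarTower A Aₛ Bₛ] [IsScalarTower A B Bₛ]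
    [IsLocalization S Aₛ] [IsLocalization (Algebra.algebraMapSubmonoid B S) Bₛ]
    [IsDomain Aₛ] [IsIntegrallyClosed Aₛ] [IsDedekindDomain Bₛ] [Module.IsTorsionFree Aₛ Bₛ] :
    Ideal.map (algebraMap B Bₛ) (differentIdeal A B) = differentIdeal Aₛ Bₛ := by
  classical
  haveI : IsScalarTower A (FractionRing A) (FractionRing B) :=
    FractionRing.isScalarTower_liftAlgebra A (FractionRing B)
  have hS' : Algebra.algebraMapSubmonoid B S ≤ nonZeroDivisors B :=
    algebraMapSubmonoid_le_nonZeroDivisors_of_faithfulSMul _ hS
  letI : Algebra Aₛ (FractionRing A) :=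
    IsLocalization.localizationAlgebraOfSubmonoidLe Aₛ (FractionRing A) S (nonZeroDivisors A) hS
  haveI : IsScalarTower A Aₛ (FractionRing A) :=
    IsLocalization.localization_isScalarTower_of_submonoid_le Aₛ (FractionRing A) S
      (nonZeroDivisors A) hS
  letI : Algebra Bₛ (FractionRing B) :=
    IsLocalization.localizationAlgebraOfSubmonoidLe Bₛ (FractionRing B)
      (Algebra.algebraMapSubmonoid B S) (nonZeroDivisors B) hS'
  haveI : IsScalarTower B Bₛ (FractionRing B) :=
    IsLocalization.localization_isScalarTower_of_submonoid_le Bₛ (FractionRing B)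
      (Algebra.algebraMapSubmonoid B S) (nonZeroDivisors B) hS'
  haveI : IsFractionRing Aₛ (FractionRing A) :=
    IsFractionRing.isFractionRing_of_isDomain_of_isLocalization S Aₛ (FractionRing A)
  haveI : IsFractionRing Bₛ (FractionRing B) :=
    IsFractionRing.isFractionRing_of_isDomain_of_isLocalization
      (Algebra.algebraMapSubmonoid B S) Bₛ (FractionRing B)
  letI : Algebra Aₛ (FractionRing B) :=
    ((algebraMap (FractionRing A) (FractionRing B)).comp (algebraMap Aₛ (FractionRing A))).toAlgebra
  haveI : IsScalarTower Aₛ (FractionRing A) (FractionRing B) :=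
    IsScalarTower.of_algebraMap_eq fun _ => rfl
  haveI : IsScalarTower Aₛ Bₛ (FractionRing B) := by
    apply IsScalarTower.of_algebraMap_eq'
    apply IsLocalization.ringHom_ext S
    ext a
    simp only [RingHom.coe_comp, Function.comp_apply]
    rw [← IsScalarTower.algebraMap_apply A Aₛ Bₛ, IsScalarTower.algebraMap_apply A B Bₛ,
      ← IsScalarTower.algebraMap_apply B Bₛ (FractionRing B),
      ← IsScalarTower.algebraMap_apply A B (FractionRing B),
      IsScalarTower.algebraMap_apply Aₛ (FractionRing A) (FractionRing B),
      ← IsScalarTower.algebraMap_apply A Aₛ (FractionRing A),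
      ← IsScalarTower.algebraMap_apply A (FractionRing A) (FractionRing B)]
  haveI : Algebra.IsIntegral A B := inferInstance
  haveI : Algebra.IsIntegral Aₛ Bₛ := by
    constructor
    intro c
    obtain ⟨⟨b, ⟨s', s, hs, rfl⟩⟩, hc⟩ := IsLocalization.surj (Algebra.algebraMapSubmonoid B S) c
    simp only at hc
    obtain ⟨u, hu⟩ := (IsLocalization.map_units Aₛ (⟨s, hs⟩ : S)).exists_right_inv
    simp only at hu
    have h0 : algebraMap B Bₛ (algebraMap A B s) = algebraMap Aₛ Bₛ (algebraMap A Aₛ s) := by
      rw [← IsScalarTower.algebraMap_apply A B Bₛ, ← IsScalarTower.algebraMap_apply A Aₛ Bₛ]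
    have h1 : c = algebraMap B Bₛ b * algebraMap Aₛ Bₛ u := by
      rw [← hc, h0, mul_assoc, ← map_mul, hu, map_one, mul_one]
    rw [h1]
    refine IsIntegral.mul ?_ isIntegral_algebraMap
    exact ((Algebra.IsIntegral.isIntegral (R := A) b).map
      (IsScalarTower.toAlgHom A B Bₛ)).tower_top
  have hf : nonZeroDivisors B ≤ Submonoid.comap (algebraMap B Bₛ) (nonZeroDivisors Bₛ) :=
    nonZeroDivisors_le_comap_nonZeroDivisors_of_injective _
      (IsLocalization.injective Bₛ hS')
  exact Groth.Agent.Lib.Helper19DiffLoc.map_differentIdeal_eq (FractionRing A) (FractionRing B) S hf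

end Groth.Agent.S11086
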