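import Groth.Statements.S11087
import Mathlib
import Groth.Agent.Lib.Helper28GeomRed1
import Groth.Agent.Lib.Helper24G0
-- import your own Groth.Agent.* helpers here

set_option autoImplicit false
universe u
attribute [local instance] FractionRing.liftAlgebra
open CAlg

namespace Groth.Agent.S11087

/-- Let A be a complete discrete valuation ring and K a perfect field contained in A such that K → A →
A/m is bijective. Let B be a Dedekind domain which is a finite torsion-free A-algebra with fraction
field separable over that of A (the integral closure of A in a finite separable extension of its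
fraction field). Then for every maximal ideal M of B and every b in B there is exactly one element c
of B which is algebraic over K and congruent to b modulo M; in other words the algebraic closure of
K in B is a subfield mapping isomorphically onto B/M. -/
theorem result (K A B : Type u) [Field K]
    [PerfectField K] [CommRing A] [IsDomain A] [IsDiscreteValuationRing A]
    [IsAdicComplete (IsLocalRing.maximalIdeal A) A]
    [Algebra K A] (hK : Function.Bijective ((IsLocalRing.residue A).comp (algebraMap K A)))
    [CommRing B] [IsDedekindDomain B] [Algebra A B] [Module.Finite A B] [Module.IsTorsionFree A B]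
    [Algebra.IsSeparable (FractionRing A) (FractionRing B)] [Algebra K B] [IsScalarTower K A B]
    (M : Ideal B) [M.IsMaximal] (b : B) :
    ∃! c : B, IsAlgebraic K c ∧ b - c ∈ M := by
  classical
  haveI hH : HenselianRing A (IsLocalRing.maximalIdeal A) := inferInstance
  haveI : HenselianLocalRing A :=
    { is_henselian := fun f hf a₀ h₁ h₂ =>
        hH.is_henselian f hf a₀ h₁ (h₂.map (Ideal.Quotient.mk (IsLocalRing.maximalIdeal A))) }
  haveI : IsLocalRing B :=
    Groth.Agent.Lib.Helper28.GeomRed.isLocalRing_of_finite_of_isDomain A B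
  haveI : HenselianLocalRing B := Groth.Agent.Lib.Helper24G0.henselian_of_finite A B
  have hM : M = IsLocalRing.maximalIdeal B := IsLocalRing.eq_maximalIdeal ‹_›
  haveI : Algebra.IsIntegral A B := Algebra.IsIntegral.of_finite A B
  have hcomap : (IsLocalRing.maximalIdeal A) = M.comap (algebraMap A B) := by
    haveI : (M.comap (algebraMap A B)).IsMaximal :=
      Ideal.isMaximal_comap_of_isIntegral_of_isMaximal M
    exact (IsLocalRing.eq_maximalIdeal ‹(M.comap (algebraMap A B)).IsMaximal›).symm
  -- the coefficient retraction `A → K`
  let e : K ≃+* IsLocalRing.ResidueField A := RingEquiv.ofBijective _ hK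
  let σ : A →+* K := (e.symm : IsLocalRing.ResidueField A →+* K).comp (IsLocalRing.residue A)
  have hσ : ∀ a : A, a - algebraMap K A (σ a) ∈ IsLocalRing.maximalIdeal A := by
    intro a
    have h1 : IsLocalRing.residue A (algebraMap K A (σ a)) = IsLocalRing.residue A a :=
      e.apply_symm_apply _
    rw [← IsLocalRing.residue_eq_zero_iff, map_sub, h1, sub_self]
  have hφσ : ∀ a : A, algebraMap K (B ⧸ M) (σ a) = Ideal.Quotient.mk M (algebraMap A B a) := by
    intro a
    rw [IsScalarTower.algebraMap_apply K B (B ⧸ M), IsScalarTower.algebraMap_apply K A B,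
      Ideal.Quotient.algebraMap_eq]
    symm
    rw [← sub_eq_zero, ← map_sub, ← map_sub, Ideal.Quotient.eq_zero_iff_mem]
    have := hσ a
    rw [hcomap] at this
    exact this
  have hint : ∀ y : B ⧸ M, IsIntegral K y := by
    intro y
    obtain ⟨y, rfl⟩ := Ideal.Quotient.mk_surjective y
    obtain ⟨p, hp, hpy⟩ := Algebra.IsIntegral.isIntegral (R := A) y
    refine ⟨p.map σ, hp.map σ, ?_⟩
    rw [Polynomial.eval₂_map]
    have hcomp : (algebraMap K (B ⧸ M)).comp σ = (Ideal.Quotient.mk M).comp (algebraMap A B) :=
      RingHom.ext hφσ
    rw [hcomp, ← Polynomial.hom_eval₂, hpy, map_zero]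
  set y : B ⧸ M := Ideal.Quotient.mk M b with hy
  set g := minpoly K y with hg
  have hgirr : Irreducible g := minpoly.irreducible (hint y)
  have hgsep : g.Separable := PerfectField.separable_of_irreducible hgirr
  have hgmonic : g.Monic := minpoly.monic (hint y)
  have hmk : ∀ q : Polynomial K,
      Ideal.Quotient.mk M ((q.map (algebraMap K B)).eval b) = Polynomial.aeval y q := by
    intro q
    rw [Polynomial.eval_map, Polynomial.hom_eval₂, Polynomial.aeval_def]
    rfl
  have h1 : (g.map (algebraMap K B)).eval b ∈ IsLocalRing.maximalIdeal B := by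
    rw [← hM, ← Ideal.Quotient.eq_zero_iff_mem, hmk, minpoly.aeval]
  have h2 : IsUnit ((g.map (algebraMap K B)).derivative.eval b) := by
    rw [← IsLocalRing.notMem_maximalIdeal, ← hM, ← Ideal.Quotient.eq_zero_iff_mem,
      Polynomial.derivative_map, hmk]
    exact hgsep.aeval_derivative_ne_zero (minpoly.aeval K y)
  obtain ⟨c, hc, hcb⟩ := HenselianLocalRing.is_henselian (g.map (algebraMap K B))
    (hgmonic.map _) b h1 h2
  have hcalg : IsAlgebraic K c := by
    refine ⟨g, hgmonic.ne_zero, ?_⟩
    rw [Polynomial.aeval_def, ← Polynomial.eval_map]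
    exact hc
  have hbc : b - c ∈ M := by
    rw [hM]
    have := (Ideal.neg_mem_iff _).mpr hcb
    simpa using this
  refine ⟨c, ⟨hcalg, hbc⟩, ?_⟩
  rintro c' ⟨hc'alg, hc'⟩
  by_contra hne
  have hd : IsAlgebraic K (c' - c) := hc'alg.sub hcalg
  have hdM : c' - c ∈ M := by
    have := M.sub_mem hbc hc'
    simpa using this
  have hunit : IsUnit (c' - c) := hd.isIntegral.isUnit (sub_ne_zero.mpr hne)
  exact (Ideal.IsPrime.ne_top inferInstance) (Ideal.eq_top_of_isUnit_mem M hdM hunit)

end Groth.Agent.S11087
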