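import Groth.Statements.S11088
import Mathlib
import Groth.Agent.Lib.Helper28GeomRed1
-- import your own Groth.Agent.* helpers here

set_option autoImplicit false
universe u
attribute [local instance] FractionRing.liftAlgebra
open CAlg

namespace Groth.Agent.S11088

/-- Let A be a complete discrete valuation ring with maximal ideal m and B a Dedekind domain which is a
finite torsion-free A-algebra with fraction field separable over that of A (the integral closure of
A in a finite separable extension). Then for every maximal ideal M of B, with f the degree of B/M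
over A/m, and every nonzero x in B, the multiplicity of m in the ideal generated by the norm of x
equals f times the multiplicity of M in the ideal generated by x: v(N(x)) = f · w(x). -/
theorem result (A B : Type u) [CommRing A] [IsDomain A] [IsDiscreteValuationRing A]
    [IsAdicComplete (IsLocalRing.maximalIdeal A) A]
    [CommRing B] [IsDedekindDomain B] [Algebra A B] [Module.Finite A B] [Module.IsTorsionFree A B]
    [Algebra.IsSeparable (FractionRing A) (FractionRing B)]
    (M : Ideal B) [M.IsMaximal] (x : B) (hx : x ≠ 0) :
    emultiplicity (IsLocalRing.maximalIdeal A) (Ideal.span {Algebra.intNorm A B x}) =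
      (M.inertiaDeg A : ℕ∞) * emultiplicity M (Ideal.span {x}) := by
  classical
  haveI hH : HenselianRing A (IsLocalRing.maximalIdeal A) := inferInstance
  haveI : HenselianLocalRing A :=
    { is_henselian := fun f hf a₀ h₁ h₂ =>
        hH.is_henselian f hf a₀ h₁ (h₂.map (Ideal.Quotient.mk (IsLocalRing.maximalIdeal A))) }
  haveI : IsLocalRing B :=
    Groth.Agent.Lib.Helper28.GeomRed.isLocalRing_of_finite_of_isDomain A B
  have hM : M = IsLocalRing.maximalIdeal B := IsLocalRing.eq_maximalIdeal ‹_›
  set m := IsLocalRing.maximalIdeal A with hm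
  have hm0 : m ≠ ⊥ := IsDiscreteValuationRing.not_a_field A
  haveI : Algebra.IsIntegral A B := Algebra.IsIntegral.of_finite A B
  haveI hLO : M.LiesOver m := by
    constructor
    haveI : (M.under A).IsMaximal := Ideal.isMaximal_comap_of_isIntegral_of_isMaximal M
    exact (IsLocalRing.eq_maximalIdeal ‹(M.under A).IsMaximal›).symm
  have hM0 : M ≠ ⊥ := by
    intro h0
    apply hm0
    have := hLO.over
    rw [this, h0]
    exact Ideal.under_bot A B
  -- uniqueness of primes over m
  have huniq : ∀ Q ∈ m.primesOver B, Q = M := by
    intro Q hQ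
    haveI := hQ.1
    haveI := hQ.2
    haveI : Q.IsMaximal := Ideal.IsMaximal.of_liesOver_isMaximal Q m
    rw [hM]
    exact IsLocalRing.eq_maximalIdeal ‹_›
  have hMmem : M ∈ m.primesOver B := ⟨inferInstance, hLO⟩
  -- m B = M ^ e
  have hmap : Ideal.map (algebraMap A B) m = M ^ M.ramificationIdx A := by
    rw [Ideal.map_algebraMap_eq_finsetProd_pow hm0]
    rw [Finset.prod_eq_single_of_mem M (by simpa using hMmem)]
    intro Q hQ hne
    exact absurd (huniq Q (by simpa using hQ)) hne
  -- e f = n
  have hef : M.ramificationIdx A * M.inertiaDeg A = Module.finrank A B := by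
    haveI : Fintype (m.primesOver B) := Fintype.ofFinite _
    rw [← Ideal.sum_ramification_inertia_eq_finrank m B]
    rw [Fintype.sum_eq_single (⟨M, hMmem⟩ : m.primesOver B)]
    intro Q hne
    exact absurd (Subtype.ext (huniq Q.1 Q.2)) hne
  have he0 : M.ramificationIdx A ≠ 0 := (Ideal.ramificationIdx_pos (R := A) (q := M)).ne'
  obtain ⟨s, hs⟩ := Ideal.exists_relNorm_eq_pow_of_isPrime M m
  have hsf : s = M.inertiaDeg A := by
    have h1 := Ideal.relNorm_algebraMap B m
    rw [hmap, map_pow, hs, ← pow_mul, ← hef] at h1
    have hm1 : m ≠ 1 := by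
      rw [Ideal.one_eq_top]
      exact Ideal.IsPrime.ne_top inferInstance
    have := ((IsLeftCancelMulZero.mul_left_cancel_of_ne_zero hm0).pow_injective hm1) h1
    have h2 : s * M.ramificationIdx A = M.inertiaDeg A * M.ramificationIdx A := by
      rw [this]; ring
    exact Nat.eq_of_mul_eq_mul_right (Nat.pos_of_ne_zero he0) h2
  -- span {x} = M ^ n
  have hnf : ¬ IsField B := by
    intro hf
    exact hM0 (hM ▸ IsLocalRing.isField_iff_maximalIdeal_eq.mp hf)
  have hpow := ((IsDiscreteValuationRing.TFAE B hnf).out 2 6).mp (inferInstance : IsDedekindDomain B)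
  have hx0 : Ideal.span {x} ≠ ⊥ := by
    rwa [Ne, Ideal.span_singleton_eq_bot]
  obtain ⟨n, hn⟩ := hpow _ hx0
  rw [← hM] at hn
  have hMu : ¬ IsUnit M := by
    rw [Ideal.isUnit_iff]
    exact Ideal.IsPrime.ne_top inferInstance
  have hmu : ¬ IsUnit m := by
    rw [Ideal.isUnit_iff]
    exact Ideal.IsPrime.ne_top inferInstance
  rw [← Ideal.relNorm_singleton, hn, map_pow, hs, hsf, ← pow_mul,
    emultiplicity_pow_self hm0 hmu, emultiplicity_pow_self hM0 hMu]
  push_cast
  rfl

end Groth.Agent.S11088
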