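import Groth.Statements.S11090
import Groth.Agent.Lib.Helper12Reduced
import Mathlib

set_option autoImplicit false
set_option linter.style.haveILetI false
universe u
open CategoryTheory CategoryTheory.Limits MonoidalCategory CartesianMonoidalCategory MonObj GrpObj AlgebraicGeometry
open AbVar

namespace Groth.Agent.S11090

/-- Let k be an algebraically closed field and E, E′, E″ elliptic curves over k, i.e. group schemes over
Spec k whose underlying schemes are proper, smooth, integral and one-dimensional. Let φ : E → E′ be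
a homomorphism which is finite, surjective and étale (a separable isogeny) and ψ : E → E″ a
homomorphism such that every k-valued point of E sent to the unit by φ is sent to the unit by ψ.
Then there is a unique homomorphism ρ : E′ → E″ with ψ = ρ ∘ φ. (The published statement prints ψ as
a map from E″ to E and calls it an isogeny; its proof treats ψ as a map from E to E″, as here, and
this row allows any homomorphism ψ, the extra case of trivial ψ being immediate.) -/
theorem result (k : Type u) [Field k] [IsAlgClosed k]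
    (E E' E'' : Over (Spec (CommRingCat.of k)))
    [GrpObj E] [IsProper E.hom] [Smooth E.hom] [IsIntegral E.left] (hE : topologicalKrullDim E.left = 1)
    [GrpObj E'] [IsProper E'.hom] [Smooth E'.hom] [IsIntegral E'.left] (hE' : topologicalKrullDim E'.left = 1)
    [GrpObj E''] [IsProper E''.hom] [Smooth E''.hom] [IsIntegral E''.left] (hE'' : topologicalKrullDim E''.left = 1)
    (φ : E ⟶ E') [IsMonHom φ] [IsFinite φ.left] [Surjective φ.left] [Etale φ.left]
    (ψ : E ⟶ E'') [IsMonHom ψ]
    (hker : ∀ P : 𝟙_ (Over (Spec (CommRingCat.of k))) ⟶ E, P ≫ φ = η[E'] → P ≫ ψ = η[E'']) :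
    ∃! ρ : E' ⟶ E'', IsMonHom ρ ∧ φ ≫ ρ = ψ := by
  let T : Over (Spec (CommRingCat.of k)) := 𝟙_ (Over (Spec (CommRingCat.of k)))
  let P := pullback φ.left φ.left
  let pr₁ : P ⟶ E.left := pullback.fst φ.left φ.left
  let pr₂ : P ⟶ E.left := pullback.snd φ.left φ.left
  haveI : IsReduced P := Groth.Agent.Lib.Helper12.Reduced.isReduced_of_smooth pr₁
  have hP : pr₁ ≫ E.hom = pr₂ ≫ E.hom := by
    rw [← Over.w φ, ← Category.assoc, ← Category.assoc]
    congr 1
    exact pullback.condition
  have hkey : pr₁ ≫ ψ.left = pr₂ ≫ ψ.left := by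
    haveI : LocallyOfFiniteType ((pr₁ ≫ ψ.left) ≫ E''.hom) := by
      rw [Category.assoc, Over.w ψ]
      infer_instance
    refine ext_of_apply_eq E''.hom Set.univ isOpen_univ.isLocallyClosed dense_univ ?_ ?_
    · intro x _ hx
      haveI : LocallyOfFiniteType (pr₁ ≫ E.hom) := inferInstance
      let p : Spec (CommRingCat.of k) ⟶ P := pointOfClosedPoint (pr₁ ≫ E.hom) x hx
      have hp : p ≫ pr₁ ≫ E.hom = 𝟙 _ := pointOfClosedPoint_comp (pr₁ ≫ E.hom) x hx
      have hpx : p.base (IsLocalRing.closedPoint k) = x := pointOfClosedPoint_apply _ _ _ _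
      let y₁ : T ⟶ E := Over.homMk (U := T) (V := E) (p ≫ pr₁) (by
        rw [Category.assoc]; exact hp)
      let y₂ : T ⟶ E := Over.homMk (U := T) (V := E) (p ≫ pr₂) (by
        rw [Category.assoc, ← hP]; exact hp)
      have h12 : y₁ ≫ φ = y₂ ≫ φ := by
        ext
        simp only [Over.comp_left, y₁, y₂, Over.homMk_left, Category.assoc]
        congr 1
        exact pullback.condition
      have hz : (y₁ * y₂⁻¹) ≫ φ = η[E'] := by
        have h1 := map_mul (IsMonHom.monoidHom φ T) y₁ y₂⁻¹
        have h2 := map_inv (IsMonHom.monoidHom φ T) y₂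
        simp only [IsMonHom.monoidHom_apply] at h1 h2
        rw [h1, h2, h12, mul_inv_cancel]
        exact (MonObj.one_eq_one E').symm
      have hz' := hker _ hz
      have hyy : y₁ ≫ ψ = y₂ ≫ ψ := by
        have h1 := map_mul (IsMonHom.monoidHom ψ T) y₁ y₂⁻¹
        have h2 := map_inv (IsMonHom.monoidHom ψ T) y₂
        simp only [IsMonHom.monoidHom_apply] at h1 h2
        rw [h1, h2, MonObj.one_eq_one E'', mul_inv_eq_one] at hz'
        exact hz'
      have h3 := congrArg (fun f => f.left) hyy
      simp only [Over.comp_left, y₁, y₂, Over.homMk_left, Category.assoc] at h3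
      have h4 := congr($(h3).base (IsLocalRing.closedPoint k))
      rw [← hpx]
      exact h4
    · rw [Category.assoc, Category.assoc, Over.w ψ, hP]
  haveI : Flat φ.left := inferInstance
  haveI : QuasiCompact φ.left := inferInstance
  haveI : EffectiveEpi φ.left := inferInstance
  haveI : Epi φ.left := inferInstance
  have hdesc : ∀ {Z : Scheme.{u}} (g₁ g₂ : Z ⟶ E.left), g₁ ≫ φ.left = g₂ ≫ φ.left →
      g₁ ≫ ψ.left = g₂ ≫ ψ.left := by
    intro Z g₁ g₂ hg
    have e1 : pullback.lift g₁ g₂ hg ≫ pr₁ = g₁ := pullback.lift_fst _ _ _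
    have e2 : pullback.lift g₁ g₂ hg ≫ pr₂ = g₂ := pullback.lift_snd _ _ _
    calc g₁ ≫ ψ.left = pullback.lift g₁ g₂ hg ≫ pr₁ ≫ ψ.left := by rw [← Category.assoc, e1]
      _ = pullback.lift g₁ g₂ hg ≫ pr₂ ≫ ψ.left := by rw [hkey]
      _ = g₂ ≫ ψ.left := by rw [← Category.assoc, e2]
  let ρ₀ : E'.left ⟶ E''.left := EffectiveEpi.desc φ.left ψ.left hdesc
  have hρ₀ : φ.left ≫ ρ₀ = ψ.left := EffectiveEpi.fac φ.left ψ.left hdesc
  have hρw : ρ₀ ≫ E''.hom = E'.hom := by
    rw [← cancel_epi φ.left, ← Category.assoc, hρ₀, Over.w ψ, Over.w φ]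
  let ρ : E' ⟶ E'' := Over.homMk ρ₀ hρw
  have hφρ : φ ≫ ρ = ψ := by
    ext
    exact hρ₀
  haveI : Epi φ := (Over.forget _).epi_of_epi_map (by
    show Epi φ.left
    infer_instance)
  have hE : Epi (φ ⊗ₘ φ) := by
    refine (Over.forget _).epi_of_epi_map ?_
    show Epi (φ ⊗ₘ φ).left
    rw [Over.tensorHom_left]
    have hfl : Flat (pullback.map E.hom E.hom E'.hom E'.hom φ.left φ.left (𝟙 _)
        ((Category.comp_id _).trans (Over.w φ).symm) ((Category.comp_id _).trans (Over.w φ).symm)) :=
      MorphismProperty.pullbackMap (P := @Flat) (inferInstance : Flat φ.left)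
        (inferInstance : Flat φ.left) (Over.w φ).symm (Over.w φ).symm
    have hsj : Surjective (pullback.map E.hom E.hom E'.hom E'.hom φ.left φ.left (𝟙 _)
        ((Category.comp_id _).trans (Over.w φ).symm) ((Category.comp_id _).trans (Over.w φ).symm)) :=
      MorphismProperty.pullbackMap (P := @Surjective) (inferInstance : Surjective φ.left)
        (inferInstance : Surjective φ.left) (Over.w φ).symm (Over.w φ).symm
    exact Flat.epi_of_flat_of_surjective _
  have hmon : IsMonHom ρ := by
    refine ⟨?_, ?_⟩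
    · rw [← IsMonHom.one_hom φ, Category.assoc, hφρ]
      exact IsMonHom.one_hom ψ
    · rw [← cancel_epi (φ ⊗ₘ φ), ← Category.assoc, ← IsMonHom.mul_hom φ, Category.assoc, hφρ,
        IsMonHom.mul_hom ψ, ← Category.assoc, tensorHom_comp_tensorHom, hφρ]
  refine ⟨ρ, ⟨hmon, hφρ⟩, ?_⟩
  rintro ρ' ⟨-, hρ'⟩
  rw [← cancel_epi φ, hρ', hφρ]

end Groth.Agent.S11090
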