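import Groth.Statements.S11095
import Groth.Agent.Lib.Helper14GeomIrrB
import Groth.Agent.Lib.Helper14GeomRedB

set_option autoImplicit false
universe u
open CAlg

namespace Groth.Agent.S11095

/-- Let K₀ be a perfect field, K an algebraic extension of K₀ and F₀ a field extension of K₀ such that
K₀ is algebraically closed in F₀. Then the K₀-algebra F₀ ⊗ K is a field; consequently F₀ and K,
embedded in it by x ↦ x ⊗ 1 and y ↦ 1 ⊗ y, are linearly disjoint over K₀. -/
theorem result (K₀ F₀ K : Type u)
    [Field K₀] [PerfectField K₀] [Field F₀] [Algebra K₀ F₀] [Field K] [Algebra K₀ K]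
    [Algebra.IsAlgebraic K₀ K] (h : algebraicClosure K₀ F₀ = ⊥) :
    IsField (TensorProduct K₀ F₀ K) := by
  haveI : Algebra.IsSeparable K₀ K := Algebra.IsAlgebraic.isSeparable_of_perfectField
  haveI : Algebra.IsIntegral K₀ K := inferInstance
  have hmem : ∀ α : F₀, IsSeparable K₀ α → α ∈ Set.range (algebraMap K₀ F₀) := by
    intro α hα
    have h1 : α ∈ algebraicClosure K₀ F₀ :=
      mem_algebraicClosure_iff.mpr hα.isIntegral.isAlgebraic
    rw [h] at h1
    exact IntermediateField.mem_bot.mp h1
  have hprime : (nilradical (TensorProduct K₀ K F₀)).IsPrime :=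
    Groth.Agent.Lib.Helper14.GeomIrr.geomIrr_of_forall_isSeparable_mem hmem K
  haveI hred : IsReduced (TensorProduct K₀ K F₀) :=
    Groth.Agent.Lib.Helper14.GeomRed.isReduced_tensor_of_isSeparable
  haveI : IsDomain (TensorProduct K₀ K F₀) := by
    rw [nilradical_eq_zero] at hprime
    haveI : (⊥ : Ideal (TensorProduct K₀ K F₀)).IsPrime := hprime
    exact IsDomain.of_bot_isPrime _
  letI : Algebra F₀ (TensorProduct K₀ K F₀) := Algebra.TensorProduct.rightAlgebra
  haveI : Algebra.IsIntegral F₀ (TensorProduct K₀ K F₀) :=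
    Groth.Agent.Lib.Helper14.GalPrimes.isIntegral_tensor
  have hfield : IsField (TensorProduct K₀ K F₀) :=
    isField_of_isIntegral_of_isField' (R := F₀) (Field.toIsField F₀)
  exact (Algebra.TensorProduct.comm K₀ F₀ K).toMulEquiv.isField hfield

end Groth.Agent.S11095
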