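import Groth.Statements.S11096
-- import your own Groth.Agent.* helpers here

set_option autoImplicit false
universe u
open Neron

namespace Groth.Agent.S11096

/-- Let a Weierstrass equation have coefficients in a commutative ring R and let I be an ideal with a₃,
a₄, a₆ ∈ I. If the discriminant Δ does not lie in I ^ 2, then a₆ does not lie in I ^ 2 and b₂ does
not lie in I. (For a discrete valuation ring with maximal ideal (π): if π divides a₃, a₄, a₆ and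
v(Δ) = 1, then v(a₆) = 1 and π does not divide b₂.) -/
theorem result {R : Type u} [CommRing R] (W : WeierstrassCurve R)
    (I : Ideal R) (h3 : W.a₃ ∈ I) (h4 : W.a₄ ∈ I) (h6 : W.a₆ ∈ I) (hΔ : W.Δ ∉ I ^ 2) :
    W.a₆ ∉ I ^ 2 ∧ W.b₂ ∉ I := by
  have hb4 : W.b₄ ∈ I := by
    rw [WeierstrassCurve.b₄]
    exact I.add_mem (I.mul_mem_left _ h4) (I.mul_mem_left _ h3)
  have hb6 : W.b₆ ∈ I := by
    rw [WeierstrassCurve.b₆]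
    exact I.add_mem (I.pow_mem_of_mem h3 2 (by norm_num)) (I.mul_mem_left _ h6)
  have hr : -W.a₁ * W.a₃ * W.a₄ + W.a₂ * W.a₃ ^ 2 - W.a₄ ^ 2 ∈ I ^ 2 := by
    have h34 : W.a₃ * W.a₄ ∈ I ^ 2 := by rw [pow_two]; exact Ideal.mul_mem_mul h3 h4
    have h33 : W.a₃ ^ 2 ∈ I ^ 2 := Ideal.pow_mem_pow h3 2
    have h44 : W.a₄ ^ 2 ∈ I ^ 2 := Ideal.pow_mem_pow h4 2
    have e : -W.a₁ * W.a₃ * W.a₄ + W.a₂ * W.a₃ ^ 2 - W.a₄ ^ 2 =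
        -W.a₁ * (W.a₃ * W.a₄) + W.a₂ * W.a₃ ^ 2 - W.a₄ ^ 2 := by ring
    rw [e]
    exact (I ^ 2).sub_mem ((I ^ 2).add_mem ((I ^ 2).mul_mem_left _ h34)
      ((I ^ 2).mul_mem_left _ h33)) h44
  have hrest : -8 * W.b₄ ^ 3 - 27 * W.b₆ ^ 2 + 9 * W.b₂ * W.b₄ * W.b₆ ∈ I ^ 2 := by
    have h1 : W.b₄ ^ 3 ∈ I ^ 2 := by
      have : W.b₄ ^ 3 = W.b₄ * W.b₄ ^ 2 := by ring
      rw [this]
      exact (I ^ 2).mul_mem_left _ (Ideal.pow_mem_pow hb4 2)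
    have h2 : W.b₆ ^ 2 ∈ I ^ 2 := Ideal.pow_mem_pow hb6 2
    have h3' : W.b₄ * W.b₆ ∈ I ^ 2 := by rw [pow_two]; exact Ideal.mul_mem_mul hb4 hb6
    have e : -8 * W.b₄ ^ 3 - 27 * W.b₆ ^ 2 + 9 * W.b₂ * W.b₄ * W.b₆ =
        -8 * W.b₄ ^ 3 - 27 * W.b₆ ^ 2 + 9 * W.b₂ * (W.b₄ * W.b₆) := by ring
    rw [e]
    exact (I ^ 2).add_mem ((I ^ 2).sub_mem ((I ^ 2).mul_mem_left _ h1)
      ((I ^ 2).mul_mem_left _ h2)) ((I ^ 2).mul_mem_left _ h3')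
  have hΔeq : W.Δ = -(W.b₂ ^ 3 * W.a₆) +
      (-(W.b₂ ^ 2) * (-W.a₁ * W.a₃ * W.a₄ + W.a₂ * W.a₃ ^ 2 - W.a₄ ^ 2) +
        (-8 * W.b₄ ^ 3 - 27 * W.b₆ ^ 2 + 9 * W.b₂ * W.b₄ * W.b₆)) := by
    rw [WeierstrassCurve.Δ, WeierstrassCurve.b₈, WeierstrassCurve.b₂]
    ring
  have hmain : W.b₂ ^ 3 * W.a₆ ∉ I ^ 2 := by
    intro hmem
    apply hΔ
    rw [hΔeq]
    exact (I ^ 2).add_mem ((I ^ 2).neg_mem hmem)
      ((I ^ 2).add_mem ((I ^ 2).mul_mem_left _ hr) hrest)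
  constructor
  · intro h6'
    exact hmain ((I ^ 2).mul_mem_left _ h6')
  · intro hb2
    apply hmain
    have : W.b₂ ^ 3 * W.a₆ = W.b₂ ^ 2 * (W.b₂ * W.a₆) := by ring
    rw [this]
    apply (I ^ 2).mul_mem_left
    rw [pow_two]
    exact Ideal.mul_mem_mul hb2 h6

end Groth.Agent.S11096
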