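import Groth.Statements.S17688
import Mathlib
import Groth.Agent.Lib.Helper20MagnetSTD2
import Groth.Agent.S13044

set_option autoImplicit false
universe u
open CategoryTheory CategoryTheory.Limits AlgebraicGeometry MonObj
open Neron

namespace Groth.Agent.S17688

/-- faithful-ness of the generic fibre functor on maps from a flat scheme to a separated scheme -/
theorem eq_of_genericFibre_map_eq (R : Type u) [CommRing R] [IsDomain R]
    (V X : Over (Spec (CommRingCat.of R))) [Flat V.hom] [IsSeparated X.hom] (a b : V ⟶ X)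
    (h : (Neron.genericFibre R).map a = (Neron.genericFibre R).map b) : a = b := by
  have hι : IsSchemeTheoreticallyDominant (Neron.genPt R) :=
    Groth.Agent.S13044.isSchemeTheoreticallyDominant_specMap _
      (IsFractionRing.injective R (FractionRing R))
  have hSTD : IsSchemeTheoreticallyDominant (pullback.fst V.hom (Neron.genPt R)) := inferInstance
  let W : Over (Spec (CommRingCat.of R)) := Over.mk (pullback.fst V.hom (Neron.genPt R) ≫ V.hom)
  let u : W ⟶ V := Over.homMk (pullback.fst V.hom (Neron.genPt R)) rfl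
  have : IsSchemeTheoreticallyDominant u.left := hSTD
  apply Groth.Agent.Lib.Helper20MagnetSTD.over_ext_of_isSchemeTheoreticallyDominant u
  ext1
  have h1 : ((Neron.genericFibre R).map a).left ≫ pullback.fst X.hom (Neron.genPt R) =
      pullback.fst V.hom (Neron.genPt R) ≫ a.left := by
    simp only [Neron.genericFibre, Over.pullback_map_left]
    exact pullback.lift_fst _ _ _
  have h2 : ((Neron.genericFibre R).map b).left ≫ pullback.fst X.hom (Neron.genPt R) =
      pullback.fst V.hom (Neron.genPt R) ≫ b.left := by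
    simp only [Neron.genericFibre, Over.pullback_map_left]
    exact pullback.lift_fst _ _ _
  change pullback.fst V.hom (Neron.genPt R) ≫ a.left = pullback.fst V.hom (Neron.genPt R) ≫ b.left
  rw [← h1, ← h2, h]

theorem exists_mul_eq_one_add (ℓ k : ℕ) (hk : 0 < k) (hℓ : 0 < ℓ) (h : Nat.Coprime ℓ k) :
    ∃ m c : ℕ, ℓ * m = 1 + k * c := by
  rcases Nat.lt_or_ge 1 k with h1 | h1
  · obtain ⟨m, -, hm⟩ := Nat.exists_mul_mod_eq_one_of_coprime h h1
    refine ⟨m, ℓ * m / k, ?_⟩
    have := Nat.div_add_mod (ℓ * m) k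
    omega
  · have hk1 : k = 1 := by omega
    subst hk1
    exact ⟨1, ℓ - 1, by omega⟩


/-- Let R be a discrete valuation ring whose fraction field K has characteristic p > 0, and let U be a
flat, separated, commutative group scheme over Spec R whose generic fibre U_K is annihilated by a
power p^N of p (in the group of endomorphisms of U_K as a K-scheme, the p^N-th power of the identity
is the unit). Then for every prime ℓ invertible in R the ℓ-th power map of U (the ℓ-th power of the
identity in the group of R-morphisms U → U) is an isomorphism. -/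
theorem result
    (R : Type u) [CommRing R] [IsDomain R] [IsDiscreteValuationRing R]
    (p : ℕ) (hp : p.Prime) [CharP (FractionRing R) p]
    (U : Over (Spec (CommRingCat.of R))) [GrpObj U] [IsCommMonObj U] [Flat U.hom] [IsSeparated U.hom]
    (N : ℕ) (hN : (𝟙 (Red.bc (Neron.genPt R) U) : Red.bc (Neron.genPt R) U ⟶ Red.bc (Neron.genPt R) U) ^ (p ^ N) = 1)
    (ℓ : ℕ) (hℓ : ℓ.Prime) (hℓu : IsUnit (ℓ : R)) :
    IsIso ((𝟙 U : U ⟶ U) ^ ℓ) := by
  have hne : ℓ ≠ p := by
    rintro rfl
    have h0 : ((ℓ : ℕ) : FractionRing R) = 0 := CharP.cast_eq_zero _ _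
    have h1 : algebraMap R (FractionRing R) (ℓ : R) = 0 := by
      rw [map_natCast]; exact h0
    have h2 : (ℓ : R) = 0 := (IsFractionRing.injective R (FractionRing R)) (by rw [h1, map_zero])
    rw [h2] at hℓu
    exact not_isUnit_zero hℓu
  have hcop : Nat.Coprime ℓ (p ^ N) :=
    Nat.Coprime.pow_right N ((Nat.coprime_primes hℓ hp).mpr hne)
  obtain ⟨m, c, hmc⟩ := exists_mul_eq_one_add ℓ (p ^ N) (pow_pos hp.pos N) hℓ.pos hcop
  have hkey : ∀ n : ℕ, (∃ c, n = 1 + p ^ N * c) → (𝟙 U : U ⟶ U) ^ n = 𝟙 U := by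
    rintro n ⟨c, rfl⟩
    apply eq_of_genericFibre_map_eq R
    have h1 : (Neron.genericFibre R).map ((𝟙 U : U ⟶ U) ^ (1 + p ^ N * c)) =
        ((Neron.genericFibre R).map (𝟙 U)) ^ (1 + p ^ N * c) :=
      map_pow ((Neron.genericFibre R).homMonoidHom (X := U) (M := U)) (𝟙 U) _
    rw [h1, CategoryTheory.Functor.map_id, pow_add, pow_one, pow_mul]
    have : (𝟙 ((Neron.genericFibre R).obj U) : (Neron.genericFibre R).obj U ⟶ _) ^ p ^ N = 1 := hN
    rw [this, one_pow, _root_.mul_one]
  refine ⟨(𝟙 U : U ⟶ U) ^ m, ?_, ?_⟩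
  · rw [MonObj.comp_pow, Category.comp_id, ← pow_mul]
    exact hkey _ ⟨c, hmc⟩
  · rw [MonObj.comp_pow, Category.comp_id, ← pow_mul]
    exact hkey _ ⟨c, by rw [mul_comm]; exact hmc⟩

end Groth.Agent.S17688
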