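import Groth.Statements.S11103
import Mathlib
import Groth.Agent.S17688
-- import your own Groth.Agent.* helpers here

set_option autoImplicit false
universe u
open CategoryTheory CategoryTheory.Limits AlgebraicGeometry
open Neron

namespace Groth.Agent.S11103

/-- Let R be a Dedekind domain with fraction field K, let R' be a Dedekind domain finite étale over R
(the integral closure of R in a finite unramified extension K' of K), and let N be a Néron model
over Spec R of its generic fibre N_K. Then the base change N' = N ×_R R' is a Néron model over Spec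
R' of its generic fibre N'_{K'}: it is smooth, separated and of finite type over Spec R', and every
K'-morphism from the generic fibre of a smooth R'-scheme to N'_{K'} extends uniquely to an
R'-morphism into N'. (The published statement concerns the Néron model of an elliptic curve with the
mapping property for rational maps; this row allows any N and tests the mapping property on
morphisms from smooth schemes. The property generally fails for ramified extensions.) -/
theorem result (R R' : Type u) [CommRing R] [IsDedekindDomain R]
    [CommRing R'] [IsDedekindDomain R'] [Algebra R R'] [Module.Finite R R'] [Algebra.Etale R R']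
    (N : Over (Spec (CommRingCat.of R)))
    (hN : Neron.IsNeronModelOf R N ((Neron.genericFibre R).obj N) (Iso.refl _)) :
    Neron.IsNeronModelOf R'
      ((Over.pullback (Spec.map (CommRingCat.ofHom (algebraMap R R')))).obj N)
      ((Neron.genericFibre R').obj ((Over.pullback (Spec.map (CommRingCat.ofHom (algebraMap R R')))).obj N))
      (Iso.refl _) := by
  classical
  obtain ⟨hsm, hsep, hft, hqc, hmap⟩ := hN
  haveI := hsm
  haveI := hsep
  haveI := hft
  haveI := hqc
  -- injectivity of `R → R'`
  haveI hflat : Module.Flat R R' := inferInstance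
  haveI hfaith : FaithfulSMul R R' := by
    rw [faithfulSMul_iff_algebraMap_injective]
    rw [injective_iff_map_eq_zero]
    intro r hr
    by_contra hne
    have hreg : IsSMulRegular R' r :=
      Module.IsTorsionFree.isSMulRegular (IsRegular.of_ne_zero hne)
    have h1 : r • (1 : R') = r • (0 : R') := by
      rw [smul_zero, Algebra.smul_def, mul_one, hr]
    exact one_ne_zero (hreg h1)
  haveI : Algebra.IsAlgebraic R R' := Algebra.IsIntegral.isAlgebraic
  letI := FractionRing.liftAlgebra R (FractionRing R')
  haveI : IsScalarTower R (FractionRing R) (FractionRing R') :=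
    FractionRing.isScalarTower_liftAlgebra R (FractionRing R')
  let π : Spec (CommRingCat.of R') ⟶ Spec (CommRingCat.of R) :=
    Spec.map (CommRingCat.ofHom (algebraMap R R'))
  let κ : Spec (CommRingCat.of (FractionRing R')) ⟶ Spec (CommRingCat.of (FractionRing R)) :=
    Spec.map (CommRingCat.ofHom (algebraMap (FractionRing R) (FractionRing R')))
  have hP : IsPullback κ (Neron.genPt R') (Neron.genPt R) π :=
    isPullback_SpecMap_of_isPushout _ _ _ _
      (CommRingCat.isPushout_of_isPushout R (FractionRing R) R' (FractionRing R'))
  haveI hπet : Etale π := by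
    rw [HasRingHomProperty.Spec_iff (P := @Etale)]
    exact RingHom.etale_algebraMap.mpr inferInstance
  set N' : Over (Spec (CommRingCat.of R')) := (Over.pullback π).obj N with hN'
  have hN'hom : N'.hom = pullback.snd N.hom π := rfl
  haveI : Smooth N'.hom := by rw [hN'hom]; infer_instance
  haveI : IsSeparated N'.hom := by rw [hN'hom]; infer_instance
  haveI : LocallyOfFiniteType N'.hom := by rw [hN'hom]; infer_instance
  haveI : QuasiCompact N'.hom := by rw [hN'hom]; infer_instance
  refine ⟨inferInstance, inferInstance, inferInstance, inferInstance, fun Y' hY' => ⟨?_, ?_⟩⟩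
  · -- injectivity
    intro g₁ g₂ h
    haveI := hY'
    simp only [Iso.refl_hom, Category.comp_id] at h
    exact Groth.Agent.S17688.eq_of_genericFibre_map_eq R' Y' N' g₁ g₂ h
  · -- surjectivity
    intro h
    haveI := hY'
    -- `Y'` viewed over `Spec R`
    let Y₀ : Over (Spec (CommRingCat.of R)) := Over.mk (Y'.hom ≫ π)
    have hY₀ : Smooth Y₀.hom := by
      change Smooth (Y'.hom ≫ π)
      infer_instance
    -- the comparison of generic fibres
    let q : pullback (Y'.hom ≫ π) (Neron.genPt R) ⟶ Spec (CommRingCat.of (FractionRing R')) :=
      hP.lift (pullback.snd (Y'.hom ≫ π) (Neron.genPt R))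
        (pullback.fst (Y'.hom ≫ π) (Neron.genPt R) ≫ Y'.hom)
        (by rw [Category.assoc, pullback.condition])
    have hq1 : q ≫ κ = pullback.snd (Y'.hom ≫ π) (Neron.genPt R) := hP.lift_fst _ _ _
    have hq2 : q ≫ Neron.genPt R' = pullback.fst (Y'.hom ≫ π) (Neron.genPt R) ≫ Y'.hom :=
      hP.lift_snd _ _ _
    let θ : pullback (Y'.hom ≫ π) (Neron.genPt R) ⟶ pullback Y'.hom (Neron.genPt R') :=
      pullback.lift (pullback.fst (Y'.hom ≫ π) (Neron.genPt R)) q hq2.symm
    have hθ1 : θ ≫ pullback.fst Y'.hom (Neron.genPt R') =
        pullback.fst (Y'.hom ≫ π) (Neron.genPt R) := pullback.lift_fst _ _ _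
    have hθ2 : θ ≫ pullback.snd Y'.hom (Neron.genPt R') = q := pullback.lift_snd _ _ _
    let θ' : pullback Y'.hom (Neron.genPt R') ⟶ pullback (Y'.hom ≫ π) (Neron.genPt R) :=
      pullback.lift (pullback.fst Y'.hom (Neron.genPt R'))
        (pullback.snd Y'.hom (Neron.genPt R') ≫ κ)
        (by rw [← Category.assoc, pullback.condition, Category.assoc, Category.assoc, hP.w])
    have hθ'1 : θ' ≫ pullback.fst (Y'.hom ≫ π) (Neron.genPt R) =
        pullback.fst Y'.hom (Neron.genPt R') := pullback.lift_fst _ _ _
    have hθ'2 : θ' ≫ pullback.snd (Y'.hom ≫ π) (Neron.genPt R) =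
        pullback.snd Y'.hom (Neron.genPt R') ≫ κ := pullback.lift_snd _ _ _
    have hθθ : θ' ≫ θ = 𝟙 _ := by
      apply pullback.hom_ext
      · rw [Category.assoc, hθ1, hθ'1, Category.id_comp]
      · rw [Category.assoc, hθ2, Category.id_comp]
        apply hP.hom_ext
        · rw [Category.assoc, hq1, hθ'2]
        · rw [Category.assoc, hq2, ← Category.assoc, hθ'1, pullback.condition]
    -- the morphism over `K`
    have hh : h.left ≫ pullback.snd N'.hom (Neron.genPt R') =
        pullback.snd Y'.hom (Neron.genPt R') := Over.w h
    let uL : pullback (Y'.hom ≫ π) (Neron.genPt R) ⟶ pullback N.hom (Neron.genPt R) :=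
      pullback.lift
        (θ ≫ h.left ≫ pullback.fst N'.hom (Neron.genPt R') ≫ pullback.fst N.hom π)
        (pullback.snd (Y'.hom ≫ π) (Neron.genPt R))
        (by
          have e1 : pullback.fst N.hom π ≫ N.hom = pullback.snd N.hom π ≫ π := pullback.condition
          have e2 : pullback.fst N'.hom (Neron.genPt R') ≫ pullback.snd N.hom π =
              pullback.snd N'.hom (Neron.genPt R') ≫ Neron.genPt R' := pullback.condition
          simp only [Category.assoc]
          rw [e1, reassoc_of% e2, reassoc_of% hh, reassoc_of% hθ2, ← hP.w, reassoc_of% hq1])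
    let u : (Neron.genericFibre R).obj Y₀ ⟶ (Neron.genericFibre R).obj N :=
      Over.homMk uL (pullback.lift_snd _ _ _)
    obtain ⟨g₀, hg₀⟩ := (hmap Y₀ hY₀).2 u
    simp only [Iso.refl_hom, Category.comp_id] at hg₀
    have hg₀w : g₀.left ≫ N.hom = Y'.hom ≫ π := Over.w g₀
    let g : Y' ⟶ N' := Over.homMk (pullback.lift g₀.left Y'.hom hg₀w) (pullback.lift_snd _ _ _)
    refine ⟨g, ?_⟩
    simp only [Iso.refl_hom, Category.comp_id]
    ext1
    -- compare the two morphisms into the iterated fibre product
    have hgl : ((Neron.genericFibre R').map g).left ≫ pullback.fst N'.hom (Neron.genPt R') =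
        pullback.fst Y'.hom (Neron.genPt R') ≫ g.left := by
      simp only [Neron.genericFibre, Over.pullback_map_left]
      exact pullback.lift_fst _ _ _
    have hgs : ((Neron.genericFibre R').map g).left ≫ pullback.snd N'.hom (Neron.genPt R') =
        pullback.snd Y'.hom (Neron.genPt R') := Over.w ((Neron.genericFibre R').map g)
    have hg₀l : ((Neron.genericFibre R).map g₀).left ≫ pullback.fst N.hom (Neron.genPt R) =
        pullback.fst (Y'.hom ≫ π) (Neron.genPt R) ≫ g₀.left := by
      simp only [Neron.genericFibre, Over.pullback_map_left]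
      exact pullback.lift_fst _ _ _
    have hkey : pullback.fst Y'.hom (Neron.genPt R') ≫ g₀.left =
        h.left ≫ pullback.fst N'.hom (Neron.genPt R') ≫ pullback.fst N.hom π := by
      have e1 : θ ≫ (pullback.fst Y'.hom (Neron.genPt R') ≫ g₀.left) =
          θ ≫ (h.left ≫ pullback.fst N'.hom (Neron.genPt R') ≫ pullback.fst N.hom π) := by
        rw [← Category.assoc, hθ1, ← hg₀l, hg₀]
        exact pullback.lift_fst _ _ _
      have e2 := congrArg (fun m => θ' ≫ m) e1
      simp only [← Category.assoc, hθθ, Category.id_comp] at e2
      simpa only [Category.assoc] using e2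
    apply pullback.hom_ext
    · apply pullback.hom_ext
      · have : g.left ≫ pullback.fst N.hom π = g₀.left := pullback.lift_fst _ _ _
        simp only [Category.assoc]
        rw [reassoc_of% hgl, this, hkey]
      · have e2 : pullback.fst N'.hom (Neron.genPt R') ≫ pullback.snd N.hom π =
            pullback.snd N'.hom (Neron.genPt R') ≫ Neron.genPt R' := pullback.condition
        simp only [Category.assoc]
        rw [e2, reassoc_of% hgs, reassoc_of% hh]
    · rw [hgs, hh]

end Groth.Agent.S11103
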