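import Groth.Statements.S11108
import Mathlib
import Groth.Agent.Lib.Helper20SmoothSec
import Groth.Agent.Lib.Helper9Hens6

set_option autoImplicit false
universe u
open CategoryTheory AlgebraicGeometry
open Neron

namespace Groth.Agent.S11108

open CategoryTheory AlgebraicGeometry


/-- Let R be a strictly Henselian discrete valuation ring — Henselian with algebraically closed residue
field — and p : X → Spec R a smooth morphism. Then the image of the reduction map from R-valued
points of X to the special fibre is dense in the special fibre: every point of X over the closed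
point of Spec R lies in the closure of the set of points s(𝔪), s a section of p and 𝔪 the closed
point. -/
theorem result (R : Type u) [CommRing R] [IsDomain R]
    [IsDiscreteValuationRing R] [HenselianLocalRing R] [IsAlgClosed (IsLocalRing.ResidueField R)]
    {X : Scheme.{u}} (p : X ⟶ Spec (CommRingCat.of R)) [Smooth p]
    (x : X) (hx : p.base x = IsLocalRing.closedPoint R) :
    x ∈ closure {y : X | ∃ s : Spec (CommRingCat.of R) ⟶ X, s ≫ p = 𝟙 _ ∧
      s.base (IsLocalRing.closedPoint R) = y} := by
  rw [mem_closure_iff]
  intro O hO hxO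
  let U : X.Opens := ⟨O, hO⟩
  have hxU : x ∈ U := hxO
  haveI : Smooth (U.ι ≫ p) := inferInstance
  obtain ⟨S', g, s', hg, hgs, h, hh⟩ :=
    Groth.Agent.Lib.Helper20.SmoothSec.exists_etale_section_of_smooth (U.ι ≫ p) ⟨x, hxU⟩
  haveI := hg
  have hgs' : g s' = IsLocalRing.closedPoint R := by
    rw [hgs]
    exact hx
  obtain ⟨l, hl, hl'⟩ := Scheme.exists_fac_of_etale_of_isSepClosed g
    (Spec.map (CommRingCat.ofHom (IsLocalRing.residue R))) s' (by
      rw [hgs']
      exact (IsLocalRing.PrimeSpectrum.comap_residue _ _).symm)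
  obtain ⟨σ, hσ, hσ'⟩ := Groth.Agent.Lib.Helper9.Hens.exists_section g l hl
  refine ⟨(σ ≫ h ≫ U.ι) (IsLocalRing.closedPoint R), ?_, σ ≫ h ≫ U.ι, ?_, rfl⟩
  · exact ((σ ≫ h) (IsLocalRing.closedPoint R)).2
  · rw [Category.assoc, Category.assoc, hh, hσ]

end Groth.Agent.S11108
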