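import Groth.Statements.S11115
import Groth.Agent.Lib.Helper17MV4
-- import your own Groth.Agent.* helpers here

set_option autoImplicit false
universe u
open CategoryTheory CategoryTheory.Limits AlgebraicGeometry
attribute [local instance] HasDerivedCategory.standard
open Perf

namespace Groth.Agent.S11115

/-- Let f : X ⟶ Y be a quasi-compact quasi-separated morphism of schemes and assume the unbounded
derived direct image Rf_* exists. If F in D(O_X) has cohomology sheaves vanishing below degree n,
then so has Rf_* F. (The published statement restricts F to complexes with quasi-coherent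
cohomology; this row allows any F.) -/
theorem result {X Y : Scheme.{u}} (f : X ⟶ Y) [QuasiCompact f] [QuasiSeparated f] [DCoh.HasRpush f]
    (F : DCoh.D X) (n : ℤ) [F.IsGE n] : ((DCoh.Rpush f).obj F).IsGE n := by
  haveI := Groth.Agent.Lib.Helper17.MV.isGrothendieckAbelian X
  obtain ⟨K, hK, ⟨e⟩⟩ := DerivedCategory.exists_iso_Q_obj_of_isGE F n
  obtain ⟨L, i, hi, hL, hLn⟩ :=
    CochainComplex.Plus.modelCategoryQuillen.exists_quasiIso_injective K n
  haveI : L.IsKInjective := CochainComplex.isKInjective_of_injective L n
  haveI : IsIso ((DerivedCategory.Q : _ ⥤ DCoh.D X).map i) := by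
    rw [DerivedCategory.isIso_Q_map_iff_quasiIso]; exact hi
  have e2 : F ≅ (DerivedCategory.Q : _ ⥤ DCoh.D X).obj L :=
    e ≪≫ asIso ((DerivedCategory.Q : _ ⥤ DCoh.D X).map i)
  have e3 : (DCoh.Rpush f).obj F ≅ (DerivedCategory.Q : _ ⥤ DCoh.D Y).obj
      (((Scheme.Modules.pushforward f).mapHomologicalComplex (ComplexShape.up ℤ)).obj L) :=
    (DCoh.Rpush f).mapIso e2 ≪≫
      Groth.Agent.Lib.Helper17.MV.isoOfKInj (Scheme.Modules.pushforward f) L
  haveI : CochainComplex.IsStrictlyGE (((Scheme.Modules.pushforward f).mapHomologicalComplex (ComplexShape.up ℤ)).obj L) n :=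
    inferInstance
  haveI : ((DerivedCategory.Q : _ ⥤ DCoh.D Y).obj
      (((Scheme.Modules.pushforward f).mapHomologicalComplex (ComplexShape.up ℤ)).obj L)).IsGE n := by
    rw [DerivedCategory.isGE_Q_obj_iff]; infer_instance
  exact DerivedCategory.TStructure.t.isGE_of_iso e3.symm n

end Groth.Agent.S11115
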