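import Groth.Statements.S11121
import Mathlib
import Groth.Agent.Lib.Helper23QCohGen
-- import your own Groth.Agent.* helpers here

set_option autoImplicit false
universe u u'
open CategoryTheory CategoryTheory.Limits AlgebraicGeometry
open QCohCat

namespace Groth.Agent.S11121


open Groth.Agent.Lib.Helper23.QCohGen

/-- Let X be a quasi-compact quasi-separated scheme and F an additive functor from the category QCoh(X)
of quasi-coherent O_X-modules (a full subcategory of all O_X-modules) to an abelian category A with
hom-sets in the same universe as those of QCoh(X). If F preserves small colimits, then F has a right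
adjoint. (The converse, that a left adjoint preserves colimits, is formal and not asserted.) -/
theorem result (X : Scheme.{u}) [CompactSpace X] [QuasiSeparatedSpace X]
    {A : Type u'} [Category.{u} A] [Abelian A] (F : QCohCat.QCoh X ⥤ A) [F.Additive]
    [PreservesColimitsOfSize.{u, u} F] : F.IsLeftAdjoint := by
  have hsep : (ObjectProperty.ofObj (fam X)).IsSeparating := isSeparating_fam
  haveI : WellPowered.{u} (QCohCat.QCoh X) := wellPowered_of_isDetecting hsep.isDetecting
  haveI : WellPowered.{u} (QCohCat.QCoh X)ᵒᵖ := inferInstance
  exact isLeftAdjoint_of_preservesColimits_of_isSeparating hsep F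

end Groth.Agent.S11121
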