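import Groth.Statements.S1113
import Mathlib
import Groth.Agent.Lib.Helper21DTrunc

set_option autoImplicit false
universe w v u
open CategoryTheory CategoryTheory.Limits
open CohDer

namespace Groth.Agent.S1113

open CategoryTheory Limits Pretriangulated DerivedCategory Opposite
open Groth.Agent.S14388 Groth.Agent.Lib.Helper21.DTrunc

/-- Let K : ℕᵒᵖ ⥤ CochainComplex A ℤ be a sequence of cochain maps … → K₂ → K₁ → K₀ in an abelian
category with Hⁱ(K₀) = 0 for i < 0 and such that for every j < n the map Hʲ(Kⱼ₊₁) → Hʲ(Kⱼ) is zero.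
Then in the derived category the composite Kₙ → K₀ factors through the canonical truncation Kₙ →
τ_{≥ n}Kₙ. -/
theorem result {A : Type u} [Category.{v} A] [Abelian A] [HasDerivedCategory.{w} A]
    (K : ℕᵒᵖ ⥤ CochainComplex A ℤ) (n : ℕ)
    (h0 : ∀ i : ℤ, i < 0 → IsZero ((K.obj (Opposite.op 0)).homology i))
    (hz : ∀ j : ℕ, j < n → HomologicalComplex.homologyMap (K.map (homOfLE (Nat.le_succ j)).op) (j : ℤ) = 0) :
    ∃ φ : DerivedCategory.Q.obj ((K.obj (Opposite.op n)).truncGE (n : ℤ)) ⟶ DerivedCategory.Q.obj (K.obj (Opposite.op 0)),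
      DerivedCategory.Q.map ((K.obj (Opposite.op n)).πTruncGE (n : ℤ)) ≫ φ = DerivedCategory.Q.map (K.map (homOfLE (Nat.zero_le n)).op) := by
  have hX0 : (Q.obj (K.obj (op 0))).IsGE 0 :=
    (DerivedCategory.isGE_iff _ 0).mpr
      (fun i hi => (isZero_homologyFunctor_obj_Q_iff _ i).mpr (h0 i hi))
  have hG : ∀ j : ℕ, Q.map (K.map (homOfLE (Nat.zero_le (j + 1))).op) =
      Q.map (K.map (homOfLE (Nat.le_succ j)).op) ≫ Q.map (K.map (homOfLE (Nat.zero_le j)).op) := by
    intro j
    rw [← Q.map_comp, ← K.map_comp, ← op_comp]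
    rfl
  have claim : ∀ j : ℕ, j ≤ n → ∀ m : ℤ, m = (j : ℤ) →
      (tt.truncLTι m).app (Q.obj (K.obj (op j))) ≫ Q.map (K.map (homOfLE (Nat.zero_le j)).op) = 0 := by
    intro j
    induction j with
    | zero =>
      intro _ m hm
      have hm1 : m = 0 := by simpa using hm
      subst hm1
      exact tt.zero_of_isLE_of_isGE _ (-1) 0 (by omega)
        (tt.isLE_of_le _ (0 - 1) (-1) (by omega)) hX0
    | succ j ih =>
      intro hj m hm
      have hm' : m - 1 = (j : ℤ) := by rw [hm]; push_cast; ring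
      have h1 := ih (by omega) (m - 1) hm'
      obtain ⟨ψ, hψ⟩ : ∃ ψ : (tt.truncGE (m - 1)).obj (Q.obj (K.obj (op j))) ⟶ Q.obj (K.obj (op 0)),
          Q.map (K.map (homOfLE (Nat.zero_le j)).op) =
            (tt.truncGEπ (m - 1)).app (Q.obj (K.obj (op j))) ≫ ψ :=
        Triangle.yoneda_exact₂ _
          (tt.triangleLTGE_distinguished (m - 1) (Q.obj (K.obj (op j)))) _ h1
      rw [hG j, hψ, ← Category.assoc, ← Category.assoc]
      have i1 : tt.IsLE ((tt.truncLT m).obj (Q.obj (K.obj (op (j + 1))))) (m - 1) := inferInstance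
      have hb : ((tt.truncLTι m).app (Q.obj (K.obj (op (j + 1)))) ≫
          Q.map (K.map (homOfLE (Nat.le_succ j)).op)) ≫
          (tt.truncGEπ (m - 1)).app (Q.obj (K.obj (op j))) = 0 := by
        apply eq_zero_of_isLE_of_isGE_of_homology (m - 1)
        have hzz : (homologyFunctor A (m - 1)).map
            (Q.map (K.map (homOfLE (Nat.le_succ j)).op)) = 0 := by
          rw [homologyFunctor_map_Q_eq_zero_iff, hm']
          exact hz j (by omega)
        rw [Functor.map_comp, Functor.map_comp, hzz, comp_zero, zero_comp]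
      rw [hb, zero_comp]
  have hn := claim n le_rfl (n : ℤ) rfl
  obtain ⟨ψ, hψ⟩ : ∃ ψ : (tt.truncGE (n : ℤ)).obj (Q.obj (K.obj (op n))) ⟶ Q.obj (K.obj (op 0)),
      Q.map (K.map (homOfLE (Nat.zero_le n)).op) =
        (tt.truncGEπ (n : ℤ)).app (Q.obj (K.obj (op n))) ≫ ψ :=
    Triangle.yoneda_exact₂ _
      (tt.triangleLTGE_distinguished (n : ℤ) (Q.obj (K.obj (op n)))) _ hn
  obtain ⟨e, he⟩ := exists_iso_truncGE (K.obj (op n)) (n : ℤ)
  refine ⟨e.inv ≫ ψ, ?_⟩
  rw [← he, Category.assoc, Iso.hom_inv_id_assoc, ← hψ]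

end Groth.Agent.S1113
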