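import Groth.Statements.S11136
import Mathlib.RingTheory.Invariant.Basic
import Mathlib.RingTheory.Ideal.GoingUp
import Mathlib.RingTheory.Spectrum.Prime.Topology
import Mathlib.RingTheory.Spectrum.Prime.Noetherian
import Mathlib.Topology.NoetherianSpace

set_option autoImplicit false
universe u v
open InvTh

namespace Groth.Agent.S11136

open scoped Pointwise
open TopologicalSpace

/-- In a Noetherian space, connected components are open. -/
theorem isOpen_connectedComponent_of_noetherian {α : Type*} [TopologicalSpace α] [NoetherianSpace α]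
    (x : α) : IsOpen (connectedComponent x) := by
  rw [← isClosed_compl_iff]
  have hcompl : (connectedComponent x)ᶜ =
      ⋃₀ {Z ∈ irreducibleComponents α | Disjoint Z (connectedComponent x)} := by
    ext z
    constructor
    · intro hz
      refine ⟨irreducibleComponent z, ⟨irreducibleComponent_mem_irreducibleComponents z, ?_⟩,
        mem_irreducibleComponent⟩
      rw [Set.disjoint_left]
      intro w hwZ hwC
      apply hz
      have h1 : irreducibleComponent z ⊆ connectedComponent w :=
        isIrreducible_irreducibleComponent.isConnected.isPreconnected.subset_connectedComponent hwZ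
      rw [connectedComponent_eq hwC]
      exact h1 mem_irreducibleComponent
    · rintro ⟨Z, ⟨-, hZ⟩, hzZ⟩ hzC
      exact Set.disjoint_left.mp hZ hzZ hzC
  rw [hcompl, Set.sUnion_eq_biUnion]
  refine Set.Finite.isClosed_biUnion
    ((NoetherianSpace.finite_irreducibleComponents (α := α)).subset fun Z hZ => hZ.1) ?_
  intro Z hZ
  exact isClosed_of_mem_irreducibleComponents Z hZ.1

theorem homeomorph_image_connectedComponent {α β : Type*} [TopologicalSpace α] [TopologicalSpace β]
    (h : α ≃ₜ β) (a : α) : h '' connectedComponent a = connectedComponent (h a) := by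
  apply Set.Subset.antisymm (h.continuous.image_connectedComponent_subset a)
  intro b hb
  have h1 := h.symm.continuous.image_connectedComponent_subset (h a) ⟨b, hb, rfl⟩
  rw [h.symm_apply_apply] at h1
  exact ⟨h.symm b, h1, h.apply_symm_apply b⟩

/-- Let a finite group G act on a Noetherian commutative ring R by ring automorphisms, with ring of
invariants A (A → R injective with image the fixed elements). When the prime spectrum of A is
connected, any two connected components of Spec R are exchanged by some element of G: for all points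
x, y of Spec R there is g in G whose induced self-map of Spec R carries the connected component of x
onto the connected component of y. -/
theorem result
    (A : Type u) (R : Type v) [CommRing A] [CommRing R] [Algebra A R] [IsNoetherianRing R]
    (G : Type u) [Group G] [Finite G] [MulSemiringAction G R] [SMulCommClass G A R]
    [Algebra.IsInvariant A R G] [FaithfulSMul A R]
    [ConnectedSpace (PrimeSpectrum A)] (x y : PrimeSpectrum R) :
    ∃ g : G, PrimeSpectrum.comap (MulSemiringAction.toRingHom G R g) '' connectedComponent x =
      connectedComponent y := by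
  classical
  have hσ : ∀ g h : G, (MulSemiringAction.toRingHom G R g).comp (MulSemiringAction.toRingHom G R h) =
      MulSemiringAction.toRingHom G R (g * h) := by
    intro g h; ext r; exact (mul_smul g h r).symm
  have hσ1 : MulSemiringAction.toRingHom G R 1 = RingHom.id R := by
    ext r; exact one_smul G r
  have hcc : ∀ (g h : G) (Q : PrimeSpectrum R),
      PrimeSpectrum.comap (MulSemiringAction.toRingHom G R h)
        (PrimeSpectrum.comap (MulSemiringAction.toRingHom G R g) Q) =
      PrimeSpectrum.comap (MulSemiringAction.toRingHom G R (g * h)) Q := by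
    intro g h Q
    rw [← PrimeSpectrum.comap_comp_apply, hσ]
  let H : G → (PrimeSpectrum R ≃ₜ PrimeSpectrum R) := fun g =>
    { toFun := PrimeSpectrum.comap (MulSemiringAction.toRingHom G R g)
      invFun := PrimeSpectrum.comap (MulSemiringAction.toRingHom G R g⁻¹)
      left_inv := fun Q => by
        rw [hcc, mul_inv_cancel, hσ1]; rfl
      right_inv := fun Q => by
        rw [hcc, inv_mul_cancel, hσ1]; rfl
      continuous_toFun := PrimeSpectrum.continuous_comap _
      continuous_invFun := PrimeSpectrum.continuous_comap _ }
  have hHH : ∀ (g h : G) (Q : PrimeSpectrum R), H h (H g Q) = H (g * h) Q := hcc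
  have hH1 : ∀ Q : PrimeSpectrum R, H 1 Q = Q := fun Q => by
    change PrimeSpectrum.comap (MulSemiringAction.toRingHom G R 1) Q = Q
    rw [hσ1]; rfl
  let π : PrimeSpectrum R → PrimeSpectrum A := PrimeSpectrum.comap (algebraMap A R)
  have hπH : ∀ (g : G) (Q : PrimeSpectrum R), π (H g Q) = π Q := by
    intro g Q
    change PrimeSpectrum.comap (algebraMap A R)
      (PrimeSpectrum.comap (MulSemiringAction.toRingHom G R g) Q) = _
    rw [← PrimeSpectrum.comap_comp_apply]
    congr 1
    ext a
    exact smul_algebraMap g a
  have hint : Algebra.IsIntegral A R := Algebra.IsInvariant.isIntegral A R G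
  have hπclosed : IsClosedMap π :=
    PrimeSpectrum.isClosedMap_comap_of_isIntegral _ (algebraMap_isIntegral_iff.mpr hint)
  have hπsurj : Function.Surjective π := by
    intro P
    have hker : (⊥ : Ideal R).comap (algebraMap A R) ≤ P.asIdeal := by
      intro a ha
      rw [Ideal.mem_comap, Ideal.mem_bot] at ha
      have h0 : a = 0 := FaithfulSMul.algebraMap_injective A R (ha.trans (map_zero _).symm)
      rw [h0]; exact Ideal.zero_mem _
    obtain ⟨Q, -, hQ, hQP⟩ := Ideal.exists_ideal_over_prime_of_isIntegral P.asIdeal (⊥ : Ideal R) hker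
    exact ⟨⟨Q, hQ⟩, PrimeSpectrum.ext hQP⟩
  have hfib : ∀ Q Q' : PrimeSpectrum R, π Q = π Q' → ∃ g : G, H g Q = Q' := by
    intro Q Q' h
    have h1 : Q.asIdeal.under A = Q'.asIdeal.under A := congrArg PrimeSpectrum.asIdeal h
    obtain ⟨g, hg⟩ := Algebra.IsInvariant.exists_smul_of_under_eq A R G Q.asIdeal Q'.asIdeal h1
    refine ⟨g⁻¹, PrimeSpectrum.ext ?_⟩
    rw [hg, Ideal.pointwise_smul_eq_comap]
    rfl
  -- the union of the translates of the component of `x`
  let T : Set (PrimeSpectrum R) := ⋃ g : G, connectedComponent (H g x)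
  have hTclopen : IsClopen T :=
    isClopen_iUnion_of_finite fun g =>
      ⟨isClosed_connectedComponent, isOpen_connectedComponent_of_noetherian _⟩
  have hTstable : ∀ (k : G) (z : PrimeSpectrum R), z ∈ T → H k z ∈ T := by
    intro k z hz
    obtain ⟨g, hg⟩ := Set.mem_iUnion.mp hz
    refine Set.mem_iUnion.mpr ⟨g * k, ?_⟩
    rw [← hHH, ← homeomorph_image_connectedComponent]
    exact ⟨z, hg, rfl⟩
  have hxT : x ∈ T := Set.mem_iUnion.mpr ⟨1, by rw [hH1]; exact mem_connectedComponent⟩
  have hcompl : (π '' T)ᶜ = π '' Tᶜ := by
    ext P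
    constructor
    · intro hP
      obtain ⟨Q, rfl⟩ := hπsurj P
      exact ⟨Q, fun hQ => hP ⟨Q, hQ, rfl⟩, rfl⟩
    · rintro ⟨Q, hQ, rfl⟩ ⟨Q', hQ', hQQ'⟩
      obtain ⟨g, rfl⟩ := hfib Q' Q hQQ'
      exact hQ (hTstable g Q' hQ')
  have hclopen : IsClopen (π '' T) := by
    refine ⟨hπclosed _ hTclopen.1, ?_⟩
    rw [← isClosed_compl_iff, hcompl]
    exact hπclosed _ hTclopen.2.isClosed_compl
  have huniv : π '' T = Set.univ := by
    rcases isClopen_iff.mp hclopen with h | h
    · have hx : π x ∈ π '' T := ⟨x, hxT, rfl⟩
      rw [h] at hx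
      exact absurd hx (Set.notMem_empty _)
    · exact h
  have hyT : y ∈ T := by
    have : π y ∈ π '' T := huniv ▸ Set.mem_univ _
    obtain ⟨t, ht, hty⟩ := this
    obtain ⟨g, rfl⟩ := hfib t y hty
    exact hTstable g t ht
  obtain ⟨g, hg⟩ := Set.mem_iUnion.mp hyT
  refine ⟨g, ?_⟩
  have := homeomorph_image_connectedComponent (H g) x
  rw [connectedComponent_eq hg] at this
  exact this

end Groth.Agent.S11136
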