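import Groth.Statements.S11137
import Mathlib.RingTheory.Invariant.Basic
import Mathlib.RingTheory.Ideal.GoingUp
import Mathlib.RingTheory.Ideal.GoingDown

set_option autoImplicit false
universe u v
open InvTh

namespace Groth.Agent.S11137

open scoped Pointwise

/-- Let G be a finite group acting by ring automorphisms on a Noetherian commutative ring R, and let A
be its ring of invariants (A → R injective with image the fixed elements), with R module-finite over
A. Then the going-down property holds for the extension A → R. (The published statement also asserts
that G acts transitively on the primes of R over a given prime of A; this row states only the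
going-down assertion.) -/
theorem result
    (A : Type u) (R : Type v) [CommRing A] [CommRing R] [Algebra A R] [IsNoetherianRing R]
    (G : Type u) [Group G] [Finite G] [MulSemiringAction G R] [SMulCommClass G A R]
    [Algebra.IsInvariant A R G] [FaithfulSMul A R] [Module.Finite A R] :
    Algebra.HasGoingDown A R := by
  have hint : Algebra.IsIntegral A R := Algebra.IsInvariant.isIntegral A R G
  constructor
  intro p hp Q hQ hlt
  have hker : (⊥ : Ideal R).comap (algebraMap A R) ≤ p := by
    intro a ha
    rw [Ideal.mem_comap, Ideal.mem_bot] at ha
    have h0 : a = 0 := FaithfulSMul.algebraMap_injective A R (ha.trans (map_zero _).symm)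
    rw [h0]; exact Ideal.zero_mem _
  obtain ⟨Q1, -, hQ1, hQ1p⟩ := Ideal.exists_ideal_over_prime_of_isIntegral p (⊥ : Ideal R) hker
  have hle : Q1.comap (algebraMap A R) ≤ Q.under A := by
    rw [hQ1p]; exact hlt.le
  obtain ⟨Q2, hQ12, hQ2, hQ2q⟩ :=
    Ideal.exists_ideal_over_prime_of_isIntegral_of_isPrime (Q.under A) Q1 hle
  obtain ⟨g, hg⟩ := Algebra.IsInvariant.exists_smul_of_under_eq A R G Q2 Q hQ2q
  refine ⟨g • Q1, ?_, inferInstance, ⟨?_⟩⟩
  · rw [hg]
    exact Ideal.pointwise_smul_le_pointwise_smul_iff.mpr hQ12
  · rw [Ideal.under_smul]
    exact hQ1p.symm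

end Groth.Agent.S11137
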