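import Groth.Statements.S11142
import Mathlib
-- import your own Groth.Agent.* helpers here

set_option autoImplicit false
universe u
open CategoryTheory AlgebraicGeometry
open FlatMor

namespace Groth.Agent.S11142

/-- For a flat morphism f : X → Y between locally Noetherian schemes, the preimage under f of any dense
open subset of Y is dense in X. -/
theorem result (X Y : Scheme.{u}) [IsLocallyNoetherian X]
    [IsLocallyNoetherian Y] (f : X ⟶ Y) [Flat f] (U : Y.Opens) (hU : Dense (U : Set Y)) :
    Dense ((f ⁻¹ᵁ U : X.Opens) : Set X) := by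
  classical
  have hgen : GeneralizingMap f := Flat.generalizingMap (f := f)
  rw [dense_iff_inter_open]
  rintro V hV ⟨x, hxV⟩
  -- Step 1: a maximal generization of x
  obtain ⟨ξ, hξ⟩ := QuasiSober.sober (isIrreducible_irreducibleComponent (x := x))
    isClosed_irreducibleComponent
  have hξx : ξ ⤳ x := by
    rw [specializes_iff_mem_closure, hξ.def]
    exact mem_irreducibleComponent
  have hξV : ξ ∈ V := hξx.mem_open hV hxV
  refine ⟨ξ, hξV, ?_⟩
  change f ξ ∈ U
  -- Step 2: f ξ is the generic point of an irreducible component of Y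
  obtain ⟨η', hη'⟩ := QuasiSober.sober (isIrreducible_irreducibleComponent (x := f ξ))
    isClosed_irreducibleComponent
  have hη'η : η' ⤳ f ξ := by
    rw [specializes_iff_mem_closure, hη'.def]
    exact mem_irreducibleComponent
  obtain ⟨ξ', hξ'ξ, hfξ'⟩ := hgen hη'η
  have hξξ' : ξ ⤳ ξ' := by
    rw [specializes_iff_mem_closure, hξ.def]
    have hmax : Maximal IsIrreducible (irreducibleComponent x) :=
      irreducibleComponent_mem_irreducibleComponents x
    have hsub : irreducibleComponent x ⊆ closure {ξ'} := by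
      rw [← hξ.def]
      exact (specializes_iff_closure_subset.mp hξ'ξ)
    have heq := hmax.eq_of_subset (isIrreducible_singleton.closure) hsub
    rw [heq]
    exact subset_closure rfl
  have hξeq : ξ' = ξ := (hξ'ξ.antisymm hξξ').eq
  have hηgen : closure {f ξ} = irreducibleComponent (f ξ) := by
    rw [← hη'.def, ← hfξ', hξeq]
  -- Step 3
  obtain ⟨O, hO, hηO⟩ : ∃ O : Y.Opens, IsAffineOpen O ∧ f ξ ∈ O := by
    obtain ⟨_, ⟨O, hO, rfl⟩, hη, -⟩ :=
      (Y.isBasis_affineOpens).exists_subset_of_mem_open (Set.mem_univ (f ξ)) isOpen_univ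
    exact ⟨O, hO, hη⟩
  haveI : IsNoetherianRing Γ(Y, O) := IsLocallyNoetherian.component_noetherian ⟨O, hO⟩
  set Os : Set Y := (O : Set Y) with hOs
  haveI : TopologicalSpace.NoetherianSpace ↥Os := noetherianSpace_of_isAffineOpen O hO
  have hW : irreducibleComponent (f ξ) ∈ irreducibleComponents Y :=
    irreducibleComponent_mem_irreducibleComponents (f ξ)
  have hemb : Topology.IsOpenEmbedding (Subtype.val : ↥Os → Y) := O.2.isOpenEmbedding_subtypeVal
  have hWO : (Subtype.val : ↥Os → Y) ⁻¹' (irreducibleComponent (f ξ)) ∈ irreducibleComponents ↥Os :=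
    preimage_mem_irreducibleComponents hW hemb
      ⟨f ξ, mem_irreducibleComponent, ⟨⟨f ξ, hηO⟩, rfl⟩⟩
  have hfin := TopologicalSpace.NoetherianSpace.finite_irreducibleComponents (α := ↥Os)
  have hcl := closure_sUnion_irreducibleComponents_sdiff_singleton hfin _ hWO
  set G : Set ↥Os :=
    (⋃₀ (irreducibleComponents ↥Os \ {(Subtype.val : ↥Os → Y) ⁻¹' irreducibleComponent (f ξ)}))ᶜ with hG
  have hGopen : IsOpen G := by
    rw [hG, isOpen_compl_iff, Set.sUnion_eq_biUnion]
    exact hfin.sdiff.isClosed_biUnion fun W hW ↦ isClosed_of_mem_irreducibleComponents W hW.1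
  have hGsub : G ⊆ (Subtype.val : ↥Os → Y) ⁻¹' irreducibleComponent (f ξ) := by
    rw [← hcl]
    exact subset_closure
  have hGne : G.Nonempty := by
    by_contra h
    rw [Set.not_nonempty_iff_eq_empty] at h
    rw [h, closure_empty] at hcl
    exact (hWO.1.nonempty).ne_empty hcl.symm
  have hGY : IsOpen ((Subtype.val : ↥Os → Y) '' G) := hemb.isOpenMap _ hGopen
  obtain ⟨t, htG, htU⟩ := hU.inter_open_nonempty _ hGY (hGne.image _)
  obtain ⟨t', ht'G, rfl⟩ := htG
  have ht'W : (t' : Y) ∈ irreducibleComponent (f ξ) := hGsub ht'G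
  have hspec : f ξ ⤳ (t' : Y) := by
    rw [specializes_iff_mem_closure, hηgen]
    exact ht'W
  exact hspec.mem_open U.2 htU

end Groth.Agent.S11142
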