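import Groth.Statements.S11143
import Mathlib
-- import your own Groth.Agent.* helpers here

set_option autoImplicit false
universe v v' u u'
open CategoryTheory CategoryTheory.Triangulated Pretriangulated
open CohDer

namespace Groth.Agent.S11143

/-- Let S and T be pretriangulated categories carrying t-structures, F : S ⥤ T a triangulated functor
and G a right adjoint of F. Suppose F is way-out left: for some integer d, F carries objects of S
lying in degrees ≤ 0 to objects of T lying in degrees ≤ d. Then G is way-out right: G carries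
objects of T lying in degrees ≥ 0 to objects of S lying in degrees ≥ -d. -/
theorem result
    {S : Type u} [Category.{v} S] [Limits.HasZeroObject S] [Preadditive S] [HasShift S ℤ]
    [∀ n : ℤ, (shiftFunctor S n).Additive] [Pretriangulated S]
    {T : Type u'} [Category.{v'} T] [Limits.HasZeroObject T] [Preadditive T] [HasShift T ℤ]
    [∀ n : ℤ, (shiftFunctor T n).Additive] [Pretriangulated T]
    (tS : TStructure S) (tT : TStructure T) (F : S ⥤ T) [F.CommShift ℤ] [F.IsTriangulated]
    (G : T ⥤ S) (adj : F ⊣ G) (d : ℤ)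
    (hF : ∀ X : S, tS.IsLE X 0 → tT.IsLE (F.obj X) d) (Y : T) (hY : tT.IsGE Y 0) :
    tS.IsGE (G.obj Y) (-d) := by
  rw [tS.isGE_iff_orthogonal (-d - 1) (-d) (by ring)]
  intro Z f hZ
  haveI : tS.IsLE (Z⟦(-d - 1 : ℤ)⟧) 0 := tS.isLE_shift Z (-d - 1) (-d - 1) 0 (by ring)
  haveI h1 : tT.IsLE (F.obj (Z⟦(-d - 1 : ℤ)⟧)) d := hF _ inferInstance
  haveI h1' : tT.IsLE ((shiftFunctor S (-d - 1 : ℤ) ⋙ F).obj Z) d := h1
  haveI h2 : tT.IsLE ((F.obj Z)⟦(-d - 1 : ℤ)⟧) d :=
    tT.isLE_of_iso ((F.commShiftIso (-d - 1 : ℤ)).app Z) d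
  haveI h3 : tT.IsLE (F.obj Z) (-1) := tT.isLE_of_shift (F.obj Z) (-1) (-d - 1) d (by ring)
  have h4 : (adj.homEquiv Z Y).symm f = 0 := tT.zero _ (-1) 0 (by norm_num)
  have h5 : (adj.homEquiv Z Y).symm (0 : Z ⟶ G.obj Y) = 0 := by
    rw [Adjunction.homEquiv_counit, Functor.map_zero, Limits.zero_comp]
  exact (adj.homEquiv Z Y).symm.injective (h4.trans h5.symm)

end Groth.Agent.S11143
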