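import Groth.Statements.S11153
import Mathlib
import Groth.Agent.Lib.Helper23InjAmp
import Groth.Agent.S6590
-- import your own Groth.Agent.* helpers here

set_option autoImplicit false
universe w v u
open CategoryTheory CategoryTheory.Limits
open CohDer

namespace Groth.Agent.S11153
open ZeroObject Groth.Agent.Lib.Helper23InjAmp


/-- (i) ⇔ (iii): let A be an abelian category with enough injectives and K a bounded below cochain
complex of objects of A. Then K admits a quasi-isomorphism into a bounded complex of injective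
objects of A if and only if there is an integer n₀ such that Hom_{D(A)}(Y[0], K[i]) = 0 for every
object Y of A and every i > n₀. -/
theorem result {A : Type u} [Category.{v} A] [Abelian A]
    [HasDerivedCategory.{w} A] [EnoughInjectives A]
    (K : CochainComplex A ℤ) (a : ℤ) [K.IsStrictlyGE a] :
    (∃ (I : CochainComplex A ℤ) (b c : ℤ) (f : K ⟶ I), I.IsStrictlyGE b ∧ I.IsStrictlyLE c ∧
        (∀ n : ℤ, Injective (I.X n)) ∧ QuasiIso f) ↔
      ∃ n₀ : ℤ, ∀ (Y : A) (i : ℤ), n₀ < i →
        ∀ φ : (DerivedCategory.singleFunctor A 0).obj Y ⟶ (DerivedCategory.Q.obj K)⟦i⟧, φ = 0 := by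
  -- transfer of vanishing along a quasi-iso
  have transfer : ∀ {K L : CochainComplex A ℤ} (f : K ⟶ L) [QuasiIso f] (Y : A) (i : ℤ),
      (∀ φ : (DerivedCategory.singleFunctor A 0).obj Y ⟶ (DerivedCategory.Q.obj K)⟦i⟧, φ = 0) ↔
      (∀ φ : (DerivedCategory.singleFunctor A 0).obj Y ⟶ (DerivedCategory.Q.obj L)⟦i⟧, φ = 0) := by
    intro K L f _ Y i
    have h1 : IsIso (DerivedCategory.Q.map f) := inferInstance
    have h2 : IsIso ((DerivedCategory.Q.map f)⟦i⟧') := inferInstance
    constructor
    · intro h φ
      have := h (φ ≫ inv ((DerivedCategory.Q.map f)⟦i⟧'))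
      rw [← cancel_mono (inv ((DerivedCategory.Q.map f)⟦i⟧')), this, zero_comp]
    · intro h φ
      have := h (φ ≫ (DerivedCategory.Q.map f)⟦i⟧')
      rw [← cancel_mono ((DerivedCategory.Q.map f)⟦i⟧'), this, zero_comp]
  constructor
  · rintro ⟨I, b, c, f, hb, hc, hI, hf⟩
    refine ⟨c, fun Y i hi => ?_⟩
    rw [transfer f Y i]
    have : I.IsKInjective := CochainComplex.isKInjective_of_injective I b
    rw [single_forall_eq_zero_iff Y I i (i - 1) (i + 1) (by lia) rfl]
    intro g _
    exact ⟨0, by rw [zero_comp]; exact ((I.isZero_of_isStrictlyLE c i hi).eq_of_tgt _ _)⟩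
  · rintro ⟨n₀, h⟩
    obtain ⟨J, α, hJ, hJI, -, hα⟩ := Groth.Agent.S6590.result (fun Y : A => Injective Y)
      ⟨0, isZero_zero _, inferInstance⟩
      (fun X => ⟨Injective.under X, Injective.ι X, inferInstance, inferInstance⟩) K a
    let b := max n₀ a
    obtain ⟨h1, h2, h3, h4⟩ := core J a b (le_max_right _ _) hJI (fun Y i hi => by
      rw [← transfer α Y i]
      exact h Y i (lt_of_le_of_lt (le_max_left _ _) hi))
    -- the retraction
    have hK : (J.truncLE b).IsKInjective := CochainComplex.isKInjective_of_injective _ a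
    have hq : QuasiIso (J.ιTruncLE b) := inferInstance
    have hiso : IsIso (DerivedCategory.Q.map (J.ιTruncLE b)) := inferInstance
    obtain ⟨ρh, hρh⟩ := (CochainComplex.IsKInjective.Qh_map_bijective
      ((HomotopyCategory.quotient _ _).obj J) (J.truncLE b)).2
        ((DerivedCategory.quotientCompQhIso A).hom.app J ≫
          inv (DerivedCategory.Q.map (J.ιTruncLE b)) ≫
          (DerivedCategory.quotientCompQhIso A).inv.app (J.truncLE b))
    obtain ⟨ρ, rfl⟩ := (HomotopyCategory.quotient _ _).map_surjective ρh
    have hρ : QuasiIso ρ := by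
      rw [← DerivedCategory.isIso_Q_map_iff_quasiIso]
      have h5 : DerivedCategory.Q.map ρ = inv (DerivedCategory.Q.map (J.ιTruncLE b)) := by
        have := (DerivedCategory.quotientCompQhIso A).hom.naturality ρ
        dsimp at this
        rw [hρh] at this
        simp only [Category.assoc, Iso.inv_hom_id_app, Category.comp_id] at this
        exact ((cancel_epi _).1 this).symm
      rw [h5]
      infer_instance
    exact ⟨J.truncLE b, a, b, α ≫ ρ, h2, h3, h4, inferInstance⟩

end Groth.Agent.S11153
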