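import Groth.Statements.S11154
import Groth.Agent.Lib.LeadMatlis4
import Groth.Agent.Lib.Helper1FlatPull
import Groth.Agent.Lib.Helper20FlatAtDesc
import Groth.Agent.Lib.Helper23QCohLocal

set_option autoImplicit false
universe u
open CategoryTheory CategoryTheory.Limits AlgebraicGeometry
open Coherent

namespace Groth.Agent.S11154

/-- Let X be a locally Noetherian scheme, x a point of X, and k(x) → E an injective hull of the residue
field over the local ring O_{X,x}. Then the direct image along Spec O_{X,x} ⟶ X of the sheaf E~ on
Spec O_{X,x} is an injective O_X-module (an injective object of the category of O_X-modules), and it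
is quasi-coherent. -/
theorem result {X : Scheme.{u}} [IsLocallyNoetherian X]
    (x : X) (E : Type u) [AddCommGroup E] [Module (X.presheaf.stalk x) E]
    (i : IsLocalRing.ResidueField (X.presheaf.stalk x) →ₗ[X.presheaf.stalk x] E)
    (hi : InjHull.IsInjectiveHull i) :
    Injective ((Scheme.Modules.pushforward (X.fromSpecStalk x)).obj
        (tilde (ModuleCat.of (X.presheaf.stalk x) E))) ∧
      Coh.IsQCoh ((Scheme.Modules.pushforward (X.fromSpecStalk x)).obj
        (tilde (ModuleCat.of (X.presheaf.stalk x) E))) := by
  haveI : IsNoetherianRing (X.presheaf.stalk x) := inferInstance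
  have hT : Injective ((tilde.functor (CommRingCat.of (X.presheaf.stalk x))).obj
      (ModuleCat.of (X.presheaf.stalk x) E)) :=
    Groth.Agent.LeadMatlis.injective_tilde (X.presheaf.stalk x) E hi.isInjective
  haveI : Flat (X.fromSpecStalk x) := Groth.Agent.Lib.Helper20.FlatDesc.flat_fromSpecStalk X x
  haveI : PreservesFiniteLimits (Scheme.Modules.pullback (X.fromSpecStalk x)) :=
    Groth.Agent.Lib.Helper1.FlatPull.preservesFiniteLimits_pullback_of_flat (X.fromSpecStalk x)
  haveI : (Scheme.Modules.pullback (X.fromSpecStalk x)).PreservesMonomorphisms :=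
    inferInstance
  constructor
  · haveI hT' : Injective (tilde (ModuleCat.of (X.presheaf.stalk x) E)) := hT
    exact Injective.injective_of_adjoint
      (Scheme.Modules.pullbackPushforwardAdjunction (X.fromSpecStalk x))
      (tilde (ModuleCat.of (X.presheaf.stalk x) E))
  · haveI : QuasiCompact (X.fromSpecStalk x) := inferInstance
    haveI : QuasiSeparated (X.fromSpecStalk x) := inferInstance
    exact Groth.Agent.Lib.Helper23.QCohLocal.isQuasicoherent_pushforward (X.fromSpecStalk x)
      (tilde (ModuleCat.of (X.presheaf.stalk x) E))

end Groth.Agent.S11154
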