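import Groth.Statements.S11159
import Mathlib
-- import your own Groth.Agent.* helpers here

set_option autoImplicit false
universe w v u
open CategoryTheory CategoryTheory.Limits CategoryTheory.Pretriangulated
open CohDer

namespace Groth.Agent.S11159
open ZeroObject Pretriangulated


section

variable {A : Type u} [Category.{v} A] [Abelian A] [HasDerivedCategory.{w} A]

/-- morphisms in the derived category into a K-injective complex lift to chain maps. -/
theorem exists_map_of_isKInjective (K L : CochainComplex A ℤ) [L.IsKInjective]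
    (u : DerivedCategory.Q.obj K ⟶ DerivedCategory.Q.obj L) :
    ∃ g : K ⟶ L, DerivedCategory.Q.map g = u := by
  obtain ⟨ρh, hρh⟩ := (CochainComplex.IsKInjective.Qh_map_bijective
    ((HomotopyCategory.quotient _ _).obj K) L).2
      ((DerivedCategory.quotientCompQhIso A).hom.app K ≫ u ≫
        (DerivedCategory.quotientCompQhIso A).inv.app L)
  obtain ⟨ρ, rfl⟩ := (HomotopyCategory.quotient _ _).map_surjective ρh
  refine ⟨ρ, ?_⟩
  have := (DerivedCategory.quotientCompQhIso A).hom.naturality ρ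
  dsimp at this
  rw [hρh] at this
  simp only [Category.assoc, Iso.inv_hom_id_app, Category.comp_id] at this
  exact ((cancel_epi _).1 this).symm

omit [HasDerivedCategory.{w} A] in
theorem cone_terms {F G : CochainComplex A ℤ} (g : F ⟶ G) (b₁ c₁ b₂ c₂ : ℤ)
    [F.IsStrictlyGE b₁] [F.IsStrictlyLE c₁] [G.IsStrictlyGE b₂] [G.IsStrictlyLE c₂]
    (hF : ∀ n, Injective (F.X n)) (hG : ∀ n, Injective (G.X n)) :
    (CochainComplex.mappingCone g).IsStrictlyGE (min (b₁ - 1) b₂) ∧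
    (CochainComplex.mappingCone g).IsStrictlyLE (max (c₁ - 1) c₂) ∧
    ∀ n, Injective ((CochainComplex.mappingCone g).X n) := by
  refine ⟨?_, ?_, ?_⟩
  · rw [CochainComplex.isStrictlyGE_iff]
    intro i hi
    rw [CochainComplex.mappingCone.isZero_X_iff]
    exact ⟨F.isZero_of_isStrictlyGE b₁ _ (by have := min_le_left (b₁ - 1) b₂; lia),
      G.isZero_of_isStrictlyGE b₂ _ (by have := min_le_right (b₁ - 1) b₂; lia)⟩
  · rw [CochainComplex.isStrictlyLE_iff]
    intro i hi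
    rw [CochainComplex.mappingCone.isZero_X_iff]
    exact ⟨F.isZero_of_isStrictlyLE c₁ _ (by have := le_max_left (c₁ - 1) c₂; lia),
      G.isZero_of_isStrictlyLE c₂ _ (by have := le_max_right (c₁ - 1) c₂; lia)⟩
  · intro n
    have := HomologicalComplex.HasHomotopyCofiber.hasBinaryBiproduct g n (n + 1) rfl
    have := hF (n + 1)
    have := hG n
    exact Injective.of_iso (HomologicalComplex.homotopyCofiber.XIsoBiprod g n (n + 1) rfl).symm
      inferInstance

end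

/-- Let A be an abelian category with enough injectives and X ⟶ Y ⟶ Z ⟶ X⟦1⟧ a distinguished triangle in
D(A). If X and Z are each isomorphic in D(A) to a bounded complex of injective objects of A, then so
is Y. -/
theorem result {A : Type u} [Category.{v} A] [Abelian A]
    [HasDerivedCategory.{w} A] [EnoughInjectives A]
    (T : Triangle (DerivedCategory A)) (hT : T ∈ distTriang (DerivedCategory A))
    (h₁ : (∃ (I : CochainComplex A ℤ) (b c : ℤ), I.IsStrictlyGE b ∧ I.IsStrictlyLE c ∧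
        (∀ n : ℤ, Injective (I.X n)) ∧ Nonempty (T.obj₁ ≅ DerivedCategory.Q.obj I)))
    (h₃ : (∃ (I : CochainComplex A ℤ) (b c : ℤ), I.IsStrictlyGE b ∧ I.IsStrictlyLE c ∧
        (∀ n : ℤ, Injective (I.X n)) ∧ Nonempty (T.obj₃ ≅ DerivedCategory.Q.obj I))) :
    (∃ (I : CochainComplex A ℤ) (b c : ℤ), I.IsStrictlyGE b ∧ I.IsStrictlyLE c ∧
        (∀ n : ℤ, Injective (I.X n)) ∧ Nonempty (T.obj₂ ≅ DerivedCategory.Q.obj I)) := by
  obtain ⟨I₁, b₁, c₁, hb₁, hc₁, hI₁, ⟨e₁⟩⟩ := h₁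
  obtain ⟨I₃, b₃, c₃, hb₃, hc₃, hI₃, ⟨e₃⟩⟩ := h₃
  have hK : I₁.IsKInjective := CochainComplex.isKInjective_of_injective I₁ b₁
  let T' := T.invRotate
  have hT' : T' ∈ distTriang (DerivedCategory A) := inv_rot_of_distTriang T hT
  let a₁ : T'.obj₁ ≅ DerivedCategory.Q.obj (I₃⟦(-1 : ℤ)⟧) :=
    (shiftFunctor _ (-1 : ℤ)).mapIso e₃ ≪≫ ((DerivedCategory.Q.commShiftIso (-1 : ℤ)).app I₃).symm
  let a₂ : T'.obj₂ ≅ DerivedCategory.Q.obj I₁ := e₁
  obtain ⟨g, hg⟩ := exists_map_of_isKInjective (I₃⟦(-1 : ℤ)⟧) I₁ (a₁.inv ≫ T'.mor₁ ≫ a₂.hom)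
  let T'' := DerivedCategory.Q.mapTriangle.obj (CochainComplex.mappingCone.triangle g)
  have hT'' : T'' ∈ distTriang (DerivedCategory A) := by
    rw [DerivedCategory.mem_distTriang_iff]
    exact ⟨_, _, g, ⟨Iso.refl _⟩⟩
  have comm : T'.mor₁ ≫ a₂.hom = a₁.hom ≫ T''.mor₁ := by
    show _ = a₁.hom ≫ DerivedCategory.Q.map g
    rw [hg, Iso.hom_inv_id_assoc]
  let e := isoTriangleOfIso₁₂ T' T'' hT' hT'' a₁ a₂ comm
  have hF1 : (I₃⟦(-1 : ℤ)⟧).IsStrictlyGE (b₃ + 1) := I₃.isStrictlyGE_shift b₃ (-1) (b₃ + 1) (by lia)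
  have hF2 : (I₃⟦(-1 : ℤ)⟧).IsStrictlyLE (c₃ + 1) := I₃.isStrictlyLE_shift c₃ (-1) (c₃ + 1) (by lia)
  obtain ⟨h1, h2, h3⟩ := cone_terms g (b₃ + 1) (c₃ + 1) b₁ c₁ (fun n => hI₃ _) hI₁
  exact ⟨CochainComplex.mappingCone g, _, _, h1, h2, h3, ⟨Triangle.π₃.mapIso e⟩⟩

end Groth.Agent.S11159
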