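import Groth.Statements.S11160
import Mathlib
import Groth.Agent.S6591
-- import your own Groth.Agent.* helpers here

set_option autoImplicit false
universe w w' v v' u u'
open CategoryTheory CategoryTheory.Limits
open CohDer

namespace Groth.Agent.S11160
open ZeroObject


section

variable {A' : Type u'} [Category.{v'} A'] [Abelian A']
    {A : Type u} [Category.{v} A] [Abelian A]
    (ι : A' ⥤ A) [ι.Additive] [PreservesFiniteLimits ι] [ι.Full] [ι.Faithful]

include ι in
theorem injective_of_map (Y' : A') (h : Injective (ι.obj Y')) : Injective Y' where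
  factors {X Z} g f _ := by
    have : Mono (ι.map f) := inferInstance
    refine ⟨ι.preimage (Injective.factorThru (ι.map g) (ι.map f)), ι.map_injective ?_⟩
    rw [Functor.map_comp, Functor.map_preimage, Injective.comp_factorThru]

variable [PreservesFiniteColimits ι] [HasDerivedCategory.{w'} A'] [HasDerivedCategory.{w} A]

open DerivedCategory in
theorem core (X₀ : HomotopyCategory A' (ComplexShape.up ℤ)) (J : CochainComplex A' ℤ)
    [J.IsKInjective]
    [CochainComplex.IsKInjective ((ι.mapHomologicalComplex (ComplexShape.up ℤ)).obj J)] :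
    Function.Bijective (fun f : Qh.obj X₀ ⟶ Qh.obj ((HomotopyCategory.quotient _ _).obj J) =>
      ι.mapDerivedCategory.map f) := by
  let e := ι.mapDerivedCategoryFactorsh
  have h1 := CochainComplex.IsKInjective.Qh_map_bijective X₀ J
  have h2 : Function.Bijective (fun g : X₀ ⟶ (HomotopyCategory.quotient _ _).obj J =>
      (ι.mapHomotopyCategory (ComplexShape.up ℤ)).map g) :=
    ⟨fun _ _ h => (ι.mapHomotopyCategory (ComplexShape.up ℤ)).map_injective h,
      fun g => (ι.mapHomotopyCategory (ComplexShape.up ℤ)).map_surjective g⟩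
  have h3 := CochainComplex.IsKInjective.Qh_map_bijective
    ((ι.mapHomotopyCategory (ComplexShape.up ℤ)).obj X₀)
    ((ι.mapHomologicalComplex (ComplexShape.up ℤ)).obj J)
  have h4 := (Iso.homCongr (e.app X₀).symm (e.app ((HomotopyCategory.quotient _ _).obj J)).symm).bijective
  rw [← Function.Bijective.of_comp_iff _ h1]
  have : (fun f : Qh.obj X₀ ⟶ Qh.obj ((HomotopyCategory.quotient _ _).obj J) =>
      ι.mapDerivedCategory.map f) ∘ Qh.map =
      (Iso.homCongr (e.app X₀).symm (e.app ((HomotopyCategory.quotient _ _).obj J)).symm) ∘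
        Qh.map ∘ (fun g : X₀ ⟶ (HomotopyCategory.quotient _ _).obj J =>
      (ι.mapHomotopyCategory (ComplexShape.up ℤ)).map g) := by
    ext g
    have := e.hom.naturality g
    dsimp at this ⊢
    simp only [Iso.homCongr_apply, Iso.symm_inv, Iso.symm_hom, Iso.app_hom, Iso.app_inv]
    rw [← reassoc_of% this, Iso.hom_inv_id_app]
    exact (Category.comp_id _).symm
  rw [this]
  exact h4.comp (h3.comp h2)

end

/-- Let ι : A' ⥤ A be an exact fully faithful functor of abelian categories whose essential image is
closed under extensions (a thick abelian subcategory), and suppose every object of A' admits a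
monomorphism into an object of A' whose image in A is injective (A' has enough A-injectives). Then
the induced triangulated functor D(A') ⥤ D(A) is fully faithful on cohomologically bounded below
objects. -/
theorem result {A' : Type u'} [Category.{v'} A'] [Abelian A'] [HasDerivedCategory.{w'} A']
    {A : Type u} [Category.{v} A] [Abelian A] [HasDerivedCategory.{w} A]
    (ι : A' ⥤ A) [ι.Additive] [PreservesFiniteLimits ι] [PreservesFiniteColimits ι] [ι.Full] [ι.Faithful]
    (hext : ∀ S : ShortComplex A, S.ShortExact → ι.essImage S.X₁ → ι.essImage S.X₃ → ι.essImage S.X₂)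
    (hinj : ∀ X' : A', ∃ (Y' : A') (i : X' ⟶ Y'), Mono i ∧ Injective (ι.obj Y'))
    (X Y : DerivedCategory A') (a b : ℤ) [X.IsGE a] [Y.IsGE b] :
    Function.Bijective (fun f : X ⟶ Y => ι.mapDerivedCategory.map f) := by
  -- a representative of `Y`
  let K₀ := DerivedCategory.Q.objPreimage Y
  let eY₀ : DerivedCategory.Q.obj K₀ ≅ Y := DerivedCategory.Q.objObjPreimageIso Y
  have hK₀ : K₀.IsGE b := by
    rw [← DerivedCategory.isGE_Q_obj_iff]
    exact DerivedCategory.TStructure.t.isGE_of_iso eY₀.symm b
  obtain ⟨J, α, hJ, hJI, hα⟩ := Groth.Agent.S6591.result (fun Y' : A' => Injective (ι.obj Y'))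
    ⟨0, isZero_zero _, (ι.map_isZero (isZero_zero _)).injective⟩
    (fun X' => by
      obtain ⟨Y', i, hi, hY'⟩ := hinj X'
      exact ⟨Y', i, hY', hi⟩) K₀ b
    (fun n hn => (K₀.exactAt_of_isGE b n hn).isZero_homology)
  have hJinj : ∀ n, Injective (J.X n) := fun n => injective_of_map ι _ (hJI n)
  have hJK : J.IsKInjective := CochainComplex.isKInjective_of_injective J b
  have hιJinj : ∀ n, Injective (((ι.mapHomologicalComplex (ComplexShape.up ℤ)).obj J).X n) := hJI
  have hιJb : CochainComplex.IsStrictlyGE ((ι.mapHomologicalComplex (ComplexShape.up ℤ)).obj J) b :=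
    inferInstance
  have hιJK : CochainComplex.IsKInjective ((ι.mapHomologicalComplex (ComplexShape.up ℤ)).obj J) :=
    CochainComplex.isKInjective_of_injective _ b
  have hQα : IsIso (DerivedCategory.Q.map α) := inferInstance
  let eY : Y ≅ DerivedCategory.Qh.obj ((HomotopyCategory.quotient _ _).obj J) :=
    eY₀.symm ≪≫ asIso (DerivedCategory.Q.map α) ≪≫
      ((DerivedCategory.quotientCompQhIso A').symm.app J)
  let X₀ : HomotopyCategory A' (ComplexShape.up ℤ) :=
    (HomotopyCategory.quotient _ _).obj (DerivedCategory.Q.objPreimage X)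
  let eX : X ≅ DerivedCategory.Qh.obj X₀ :=
    (DerivedCategory.Q.objObjPreimageIso X).symm ≪≫
      ((DerivedCategory.quotientCompQhIso A').symm.app _)
  have hc := core ι X₀ J
  have h5 := (Iso.homCongr eX eY).bijective
  have h6 := (Iso.homCongr (ι.mapDerivedCategory.mapIso eX).symm
    (ι.mapDerivedCategory.mapIso eY).symm).bijective
  have : (fun f : X ⟶ Y => ι.mapDerivedCategory.map f) =
      (Iso.homCongr (ι.mapDerivedCategory.mapIso eX).symm (ι.mapDerivedCategory.mapIso eY).symm) ∘
      (fun f : DerivedCategory.Qh.obj X₀ ⟶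
        DerivedCategory.Qh.obj ((HomotopyCategory.quotient _ _).obj J) =>
          ι.mapDerivedCategory.map f) ∘ (Iso.homCongr eX eY) := by
    ext f
    simp only [Function.comp_apply, Iso.homCongr_apply, Iso.symm_inv, Iso.symm_hom,
      Functor.mapIso_hom, Functor.mapIso_inv]
    simp only [← Functor.map_comp, Category.assoc, Iso.hom_inv_id, Iso.hom_inv_id_assoc,
      Category.comp_id]
  rw [this]
  exact h6.comp (hc.comp h5)

end Groth.Agent.S11160
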