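import Groth.Statements.S11161
import Mathlib
import Groth.Agent.Lib.Helper23EssSurj
-- import your own Groth.Agent.* helpers here

set_option autoImplicit false
universe w w' v v' u u'
open CategoryTheory CategoryTheory.Limits
open CohDer

namespace Groth.Agent.S11161
open ZeroObject Groth.Agent.Lib.Helper23EssSurj


/-- Let ι : A' ⥤ A be an exact fully faithful functor of abelian categories whose essential image is
closed under extensions, and suppose every object of A' admits a monomorphism into an object of A'
whose image in A is injective. Then every object Z of D(A) with H^i(Z) = 0 for i < a and all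
cohomology objects in the essential image of ι is isomorphic to the image under D(A') ⥤ D(A) of a
complex I of objects of A', zero in degrees < a, whose terms are injective in A. -/
theorem result {A' : Type u'} [Category.{v'} A'] [Abelian A'] [HasDerivedCategory.{w'} A']
    {A : Type u} [Category.{v} A] [Abelian A] [HasDerivedCategory.{w} A]
    (ι : A' ⥤ A) [ι.Additive] [PreservesFiniteLimits ι] [PreservesFiniteColimits ι] [ι.Full] [ι.Faithful]
    (hext : ∀ S : ShortComplex A, S.ShortExact → ι.essImage S.X₁ → ι.essImage S.X₃ → ι.essImage S.X₂)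
    (hinj : ∀ X' : A', ∃ (Y' : A') (i : X' ⟶ Y'), Mono i ∧ Injective (ι.obj Y'))
    (Z : DerivedCategory A) (a : ℤ) [Z.IsGE a]
    (hZ : ∀ i : ℤ, ι.essImage ((DerivedCategory.homologyFunctor A i).obj Z)) :
    ∃ (I : CochainComplex A' ℤ), I.IsStrictlyGE a ∧ (∀ n : ℤ, Injective (ι.obj (I.X n))) ∧
      Nonempty (ι.mapDerivedCategory.obj (DerivedCategory.Q.obj I) ≅ Z) := by
  let K₀ := DerivedCategory.Q.objPreimage Z
  let eZ : DerivedCategory.Q.obj K₀ ≅ Z := DerivedCategory.Q.objObjPreimageIso Z
  have hK₀ : K₀.IsGE a := by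
    rw [← DerivedCategory.isGE_Q_obj_iff]
    exact DerivedCategory.TStructure.t.isGE_of_iso eZ.symm a
  have hπ : QuasiIso (K₀.πTruncGE a) := by
    rw [K₀.quasiIso_πTruncGE_iff a]
    exact hK₀
  have hK : ∀ n, ι.essImage ((K₀.truncGE a).homology n) := by
    intro n
    have i1 : (DerivedCategory.homologyFunctor A n).obj (DerivedCategory.Q.obj K₀) ≅
        K₀.homology n := (DerivedCategory.homologyFunctorFactors A n).app K₀
    have i2 : K₀.homology n ≅ (K₀.truncGE a).homology n :=
      asIso (HomologicalComplex.homologyMap (K₀.πTruncGE a) n)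
    exact Functor.essImage.ofIso
      ((DerivedCategory.homologyFunctor A n).mapIso eZ.symm ≪≫ i1 ≪≫ i2) (hZ n)
  obtain ⟨I, α, hI, hIinj, hα⟩ := exists_int ι hext hinj (K₀.truncGE a) a hK
  refine ⟨I, hI, hIinj, ⟨?_⟩⟩
  have h1 : IsIso (DerivedCategory.Q.map α) := inferInstance
  have h2 : IsIso (DerivedCategory.Q.map (K₀.πTruncGE a)) := inferInstance
  exact (ι.mapDerivedCategoryFactors.app I) ≪≫ (asIso (DerivedCategory.Q.map α)).symm ≪≫
    (asIso (DerivedCategory.Q.map (K₀.πTruncGE a))).symm ≪≫ eZ

end Groth.Agent.S11161
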