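import Groth.Statements.S11163
import Groth.Agent.Lib.LeadExtInj5
import Groth.Agent.Lib.LeadMatlis5
import Groth.Agent.Lib.Helper21ExtCartier2
import Groth.Agent.Lib.Helper12SnapG
import Groth.Agent.Lib.Helper17FFaith6
import Groth.Agent.S10942

set_option autoImplicit false
universe u
open CategoryTheory CategoryTheory.Limits AlgebraicGeometry
attribute [local instance] HasDerivedCategory.standard
open Coherent

namespace Groth.Agent.S11163

/-- (i) ⇔ (iv): let X be a locally Noetherian scheme and F a quasi-coherent O_X-module. Then F is an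
injective O_X-module if and only if the sheaf Ext¹_{O_X}(G, F) (the first right derived functor of
the sheaf-Hom functor Hom_{O_X}(G, -), here the right adjoint of G ⊗ -) vanishes for every coherent
O_X-module G. (The binders asserting that G ⊗ - has a right adjoint, that this adjoint is additive
and that O_X-modules have injective resolutions always hold.) -/
theorem result {X : Scheme.{u}} [IsLocallyNoetherian X]
    [HasInjectiveResolutions X.Modules] (F : X.Modules) (hF : Coh.IsQCoh F) :
    Injective F ↔ ∀ (G : X.Modules) [DCoh.HasSheafHom G] [(DCoh.sheafHom G).Additive],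
      Coh.IsCoh G → IsZero (((DCoh.sheafHom G).rightDerived 1).obj F) := by
  constructor
  · intro hinj G _ _ _
    exact Functor.isZero_rightDerived_obj_injective_succ _ 0 F
  · intro H
    haveI : F.IsQuasicoherent := hF
    have Hepi : ∀ I : X.IdealSheafData,
        Epi (Groth.Agent.LeadExtInj.iHomPre (O := X.sheaf) (ClSub.idealModι I) F) := by
      intro I
      have hSH : ∀ M : ModSite.Mod X.sheaf, ModSite.HasSheafHom (O := X.sheaf) M :=
        Groth.Agent.Lib.Helper21.ExtShDelta.hasSheafHom X.sheaf
      have hIR : HasInjectiveResolutions (ModSite.Mod X.sheaf) :=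
        inferInstanceAs (HasInjectiveResolutions X.Modules)
      haveI : DCoh.HasSheafHom (ClSub.quotMod I) :=
        ⟨_, ⟨Groth.Agent.Lib.Helper17.FFaith.tensorLHomAdj (ClSub.quotMod I)⟩⟩
      haveI hAdd : (DCoh.sheafHom (ClSub.quotMod I)).Additive :=
        (DCoh.sheafHomAdj (ClSub.quotMod I)).right_adjoint_additive
      have hz := H (ClSub.quotMod I) (Groth.Agent.Lib.Helper12.Snap.isCoh_quotMod I)
      haveI h3' : ModSite.HasSheafHom (O := X.sheaf) (ClSub.quotMod I : ModSite.Mod X.sheaf) :=
        hSH _
      exact @Groth.Agent.LeadExtInj.epi_iHomPre_of_iso _ _ _ X.sheaf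
        (Groth.Agent.Lib.Helper21.ExtCartier.idealSES I)
        (Groth.Agent.Lib.Helper21.ExtCartier.idealSES_shortExact I) F (hSH _) (hSH _) (hSH _) hIR
        (DCoh.sheafHom (ClSub.quotMod I)) hAdd (Groth.Agent.S10942.sheafHomIso (ClSub.quotMod I)) hz
    apply Groth.Agent.LeadExtZero.injective_of_locally_injective
    intro x
    obtain ⟨_, ⟨W, hW, rfl⟩, hxW, -⟩ :=
      (X.isBasis_affineOpens).exists_subset_of_mem_open (Set.mem_univ x) isOpen_univ
    exact ⟨W, hxW, Groth.Agent.LeadMatlis.injective_restrict_of_injective_sections F hW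
      (Module.Baer.injective (Groth.Agent.LeadExtInj.baer_sections F Hepi hW))⟩

end Groth.Agent.S11163
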