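import Groth.Statements.S11167
import Mathlib
import Groth.Agent.Lib.Helper4DevA
import Groth.Agent.Lib.Helper23UnitStalk

set_option autoImplicit false
universe u
open CategoryTheory CategoryTheory.Limits AlgebraicGeometry
open Coherent

namespace Groth.Agent.S11167

open CategoryTheory CategoryTheory.Limits AlgebraicGeometry TopologicalSpace Opposite
open Groth.Agent.Lib.Helper4.Dev Groth.Agent.Lib.Helper23.UnitStalk Groth.Agent.Lib.Helper23.GenLocus

/-- In a Noetherian ring, the `p`-saturation of an ideal `J` is reached by a single multiplier. -/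
theorem exists_notMem_forall_mul_mem {A : Type*} [CommRing A] [IsNoetherianRing A] (J p : Ideal A)
    [p.IsPrime] : ∃ f, f ∉ p ∧ ∀ a : A, (∃ u, u ∉ p ∧ u * a ∈ J) → f * a ∈ J := by
  classical
  let I : Ideal A := (J.map (algebraMap A (Localization.AtPrime p))).comap (algebraMap A _)
  have hI : ∀ a, a ∈ I ↔ ∃ u ∈ p.primeCompl, u * a ∈ J := fun a => by
    rw [Ideal.mem_comap]
    exact IsLocalization.algebraMap_mem_map_algebraMap_iff p.primeCompl _ J a
  obtain ⟨S, hS⟩ := (IsNoetherian.noetherian I : I.FG)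
  have hb : ∀ b ∈ S, ∃ u ∈ p.primeCompl, u * b ∈ J := fun b hb =>
    (hI b).1 (hS ▸ Submodule.subset_span hb)
  choose! u hu huJ using hb
  refine ⟨∏ b ∈ S, u b, ?_, ?_⟩
  · exact (Submonoid.prod_mem p.primeCompl (fun b hb => hu b hb) : _ ∈ p.primeCompl)
  · rintro a ⟨v, hv, hva⟩
    have haI : a ∈ I := (hI a).2 ⟨v, hv, hva⟩
    rw [← hS] at haI
    refine Submodule.span_induction (p := fun a _ => (∏ b ∈ S, u b) * a ∈ J) ?_ ?_ ?_ ?_ haI
    · intro b hb
      have hb' : b ∈ S := hb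
      rw [← Finset.prod_erase_mul S u hb', mul_assoc]
      exact Ideal.mul_mem_left _ _ (huJ b hb')
    · simp
    · intro x y _ _ hx hy
      rw [mul_add]
      exact Ideal.add_mem _ hx hy
    · intro r x _ hx
      rw [smul_eq_mul, mul_left_comm]
      exact Ideal.mul_mem_left _ _ hx

variable {X : Scheme.{u}}

/-- local sections of `G` -/
abbrev LS (G : X.Modules) := Σ U : X.Opens, (G.presheaf.obj (Opposite.op U) : Type u)

/-- the submodule of the stalk generated by the germs of a family of local sections -/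
noncomputable def gen (G : X.Modules) (𝔖 : Set (LS G)) (x : X) :
    Submodule (X.presheaf.stalk x) (G.presheaf.stalk x) :=
  Submodule.span _ {γ | ∃ q ∈ 𝔖, ∃ hx : x ∈ q.1, G.presheaf.germ q.1 x hx q.2 = γ}

theorem gen_mono {G : X.Modules} {𝔖 𝔖' : Set (LS G)} (h : 𝔖 ⊆ 𝔖') (x : X) :
    gen G 𝔖 x ≤ gen G 𝔖' x :=
  Submodule.span_mono (fun _ ⟨q, hq, hx, e⟩ => ⟨q, h hq, hx, e⟩)

/-- finitely many local sections generate all stalks at the points of `Y` -/
def P (G : X.Modules) (Y : Set X) : Prop :=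
  ∃ 𝔖 : Set (LS G), 𝔖.Finite ∧ ∀ x ∈ Y, gen G 𝔖 x = ⊤

theorem P_union {G : X.Modules} {A B : Set X} (hA : P G A) (hB : P G B) : P G (A ∪ B) := by
  obtain ⟨𝔖, h𝔖, hA⟩ := hA
  obtain ⟨𝔗, h𝔗, hB⟩ := hB
  refine ⟨𝔖 ∪ 𝔗, h𝔖.union h𝔗, ?_⟩
  rintro x (hx | hx)
  · exact eq_top_iff.2 ((hA x hx).ge.trans (gen_mono Set.subset_union_left x))
  · exact eq_top_iff.2 ((hB x hx).ge.trans (gen_mono Set.subset_union_right x))

theorem P_mono {G : X.Modules} {A B : Set X} (h : A ⊆ B) (hB : P G B) : P G A := by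
  obtain ⟨𝔖, h𝔖, hB⟩ := hB
  exact ⟨𝔖, h𝔖, fun x hx => hB x (h hx)⟩

/-- the stalk of `ι : G ⟶ O_X`, with values in the local ring -/
noncomputable def φ {G : X.Modules} (ι : G ⟶ Coh.structureModule X) (x : X) :
    G.presheaf.stalk x →ₗ[X.presheaf.stalk x] X.presheaf.stalk x :=
  (unitStalkEquiv x).symm.toLinearMap ∘ₗ stalkL ι x

theorem φ_germ {G : X.Modules} (ι : G ⟶ Coh.structureModule X) (x : X) (U : X.Opens) (hx : x ∈ U)
    (s : (G.presheaf.obj (Opposite.op U) : Type u)) :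
    φ ι x (G.presheaf.germ U x hx s) = X.presheaf.germ U x hx (ofS U (ι.app U s)) := by
  unfold φ
  rw [LinearMap.comp_apply, stalkL_germ]
  apply (unitStalkEquiv x).injective
  rw [LinearEquiv.coe_coe, LinearEquiv.apply_symm_apply]
  exact (toUnitStalk_germ x U hx (ofS U (ι.app U s))).symm

theorem φ_injective {G : X.Modules} (ι : G ⟶ Coh.structureModule X) [Mono ι] (x : X) :
    Function.Injective (φ ι x) :=
  (unitStalkEquiv x).symm.injective.comp (stalkL_injective_of_mono ι x)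


theorem mem_gen {G : X.Modules} {𝔖 : Set (LS G)} {x : X} (q : LS G) (hq : q ∈ 𝔖) (hx : x ∈ q.1) :
    G.presheaf.germ q.1 x hx q.2 ∈ gen G 𝔖 x :=
  Submodule.subset_span ⟨q, hq, hx, rfl⟩

/-- The local step: around any point `η` finitely many local sections generate the stalks of `G` at all
specializations of `η` in a neighbourhood. -/
theorem local_claim [IsLocallyNoetherian X] {G : X.Modules} (ι : G ⟶ Coh.structureModule X) [Mono ι]
    (η : X) :
    ∃ V' : X.Opens, η ∈ V' ∧ ∃ 𝔖 : Set (LS G), 𝔖.Finite ∧ ∀ y ∈ V', η ⤳ y → gen G 𝔖 y = ⊤ := by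
  classical
  obtain ⟨V, hV, hηV, -⟩ := exists_isAffineOpen_mem_and_subset (x := η) (U := ⊤) trivial
  -- the stalk at `η` is finitely generated
  haveI : Module.Finite (X.presheaf.stalk η) (G.presheaf.stalk η) :=
    Module.Finite.of_injective (φ ι η) (φ_injective ι η)
  obtain ⟨S, hS⟩ := (Module.Finite.fg_top : (⊤ : Submodule (X.presheaf.stalk η) (G.presheaf.stalk η)).FG)
  choose Uγ hUγ sγ hsγ using fun γ : G.presheaf.stalk η => G.presheaf.exists_germ_eq γ
  let W0 : X.Opens := S.inf Uγ ⊓ V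
  have hηW0 : η ∈ W0 := by
    refine ⟨?_, hηV⟩
    change η ∈ ((S.inf Uγ : X.Opens) : Set X)
    rw [Opens.coe_finset_inf, Finset.inf_set_eq_iInter]
    simp only [Function.comp_apply, Set.mem_iInter, SetLike.mem_coe]
    exact fun γ _ => hUγ γ
  obtain ⟨g, hgle, hηg⟩ := hV.exists_basicOpen_le (V := W0) ⟨η, hηW0⟩ hηV
  have hW' : IsAffineOpen (X.basicOpen g) := hV.basicOpen g
  set W' : X.Opens := X.basicOpen g with hW'def
  change η ∈ W' at hηg
  -- the sections over `W'`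
  let t : G.presheaf.stalk η → (G.presheaf.obj (Opposite.op W') : Type u) := fun γ =>
    if h : W' ≤ Uγ γ then G.presheaf.map (homOfLE h).op (sγ γ) else 0
  have ht : ∀ γ ∈ S, G.presheaf.germ W' η hηg (t γ) = γ := by
    intro γ hγ
    have h : W' ≤ Uγ γ := hgle.trans (inf_le_left.trans (Finset.inf_le hγ))
    simp only [t, dif_pos h]
    rw [TopCat.Presheaf.germ_res_apply]
    exact hsγ γ
  let 𝔖 : Set (LS G) := (fun γ => (⟨W', t γ⟩ : LS G)) '' (S : Set (G.presheaf.stalk η))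
  have h𝔖 : 𝔖.Finite := S.finite_toSet.image _
  -- the ring
  haveI : IsNoetherianRing Γ(X, W') := IsLocallyNoetherian.component_noetherian ⟨W', hW'⟩
  let a : G.presheaf.stalk η → Γ(X, W') := fun γ => ofS W' (ι.app W' (t γ))
  let J : Ideal Γ(X, W') := Ideal.span (a '' (S : Set (G.presheaf.stalk η)))
  let p : Ideal Γ(X, W') := (hW'.primeIdealOf ⟨η, hηg⟩).asIdeal
  obtain ⟨f, hfp, hf⟩ := exists_notMem_forall_mul_mem J p
  letI := X.presheaf.algebra_section_stalk (⟨η, hηg⟩ : W')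
  haveI hloc : IsLocalization.AtPrime (X.presheaf.stalk η) p := hW'.isLocalization_stalk ⟨η, hηg⟩
  have hηf : η ∈ X.basicOpen f := by
    rw [Scheme.mem_basicOpen X f η hηg]
    exact (IsLocalization.AtPrime.isUnit_to_map_iff (X.presheaf.stalk η) p f).2 hfp
  refine ⟨X.basicOpen f, hηf, 𝔖, h𝔖, ?_⟩
  intro y hyf hηy
  have hyW' : y ∈ W' := X.basicOpen_le f hyf
  -- images of generators
  have hφS : ∀ γ ∈ S, φ ι η γ = X.presheaf.germ W' η hηg (a γ) := by
    intro γ hγ
    conv_lhs => rw [← ht γ hγ]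
    exact φ_germ ι η W' hηg (t γ)
  have himg : ∀ γ0 : G.presheaf.stalk η, φ ι η γ0 ∈ J.map (algebraMap Γ(X, W') (X.presheaf.stalk η)) := by
    intro γ0
    have h0 : γ0 ∈ Submodule.span (X.presheaf.stalk η) (S : Set (G.presheaf.stalk η)) := by
      rw [hS]; trivial
    refine Submodule.span_induction
      (p := fun γ0 _ => φ ι η γ0 ∈ J.map (algebraMap Γ(X, W') (X.presheaf.stalk η))) ?_ ?_ ?_ ?_ h0
    · intro γ hγ
      rw [hφS γ hγ]
      exact Ideal.mem_map_of_mem _ (Ideal.subset_span ⟨γ, hγ, rfl⟩)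
    · simp
    · intro x z _ _ hx hz
      rw [map_add]
      exact Ideal.add_mem _ hx hz
    · intro r x _ hx
      rw [map_smul, smul_eq_mul]
      exact Ideal.mul_mem_left _ _ hx
  refine eq_top_iff.2 fun γ' _ => ?_
  obtain ⟨W'', hyW'', t', rfl⟩ := G.presheaf.exists_germ_eq γ'
  obtain ⟨h, hhle, hyh⟩ := hW'.exists_basicOpen_le (V := W'' ⊓ X.basicOpen f) ⟨y, ⟨hyW'', hyf⟩⟩ hyW'
  change y ∈ X.basicOpen h at hyh
  have hηh : η ∈ X.basicOpen h := hηy.mem_open (X.basicOpen h).isOpen hyh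
  let t'' : (G.presheaf.obj (Opposite.op (X.basicOpen h)) : Type u) :=
    G.presheaf.map (homOfLE (hhle.trans inf_le_left)).op t'
  have ht'' : G.presheaf.germ (X.basicOpen h) y hyh t'' = G.presheaf.germ W'' y hyW'' t' :=
    TopCat.Presheaf.germ_res_apply _ _ _ _ _
  rw [← ht'']
  let b : Γ(X, X.basicOpen h) := ofS _ (ι.app (X.basicOpen h) t'')
  haveI := hW'.isLocalization_basicOpen h
  obtain ⟨⟨a0, ⟨_, n, rfl⟩⟩, hab⟩ := IsLocalization.surj (Submonoid.powers h) b
  have hab' : b * X.presheaf.map (homOfLE (X.basicOpen_le h)).op (h ^ n) =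
      X.presheaf.map (homOfLE (X.basicOpen_le h)).op a0 := hab
  -- at `η`
  have hbη : X.presheaf.germ (X.basicOpen h) η hηh b ∈
      J.map (algebraMap Γ(X, W') (X.presheaf.stalk η)) := by
    have := himg (G.presheaf.germ (X.basicOpen h) η hηh t'')
    rwa [φ_germ] at this
  have ha0η : algebraMap Γ(X, W') (X.presheaf.stalk η) a0 ∈
      J.map (algebraMap Γ(X, W') (X.presheaf.stalk η)) := by
    have e1 : algebraMap Γ(X, W') (X.presheaf.stalk η) a0 =
        X.presheaf.germ (X.basicOpen h) η hηh (X.presheaf.map (homOfLE (X.basicOpen_le h)).op a0) :=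
      (TopCat.Presheaf.germ_res_apply X.presheaf (homOfLE (X.basicOpen_le h)) η hηh a0).symm
    rw [e1, ← hab', map_mul]
    exact Ideal.mul_mem_right _ _ hbη
  obtain ⟨m, hm, hma⟩ :=
    (IsLocalization.algebraMap_mem_map_algebraMap_iff p.primeCompl (X.presheaf.stalk η) J a0).1 ha0η
  have hfa : f * a0 ∈ J := hf a0 ⟨m, hm, hma⟩
  -- at `y`
  let gy : Γ(X, W') →+* X.presheaf.stalk y := (X.presheaf.germ W' y hyW').hom
  have hfy : IsUnit (gy f) := (Scheme.mem_basicOpen X f y hyW').1 hyf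
  have hhy : IsUnit (gy h) := (Scheme.mem_basicOpen X h y hyW').1 hyh
  have ha0y : gy a0 ∈ J.map gy := by
    have h1 : gy (f * a0) ∈ J.map gy := Ideal.mem_map_of_mem _ hfa
    rw [map_mul] at h1
    exact (Ideal.unit_mul_mem_iff_mem _ hfy).1 h1
  have hby : X.presheaf.germ (X.basicOpen h) y hyh b ∈ J.map gy := by
    have e1 : gy a0 =
        X.presheaf.germ (X.basicOpen h) y hyh (X.presheaf.map (homOfLE (X.basicOpen_le h)).op a0) :=
      (TopCat.Presheaf.germ_res_apply X.presheaf (homOfLE (X.basicOpen_le h)) y hyh a0).symm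
    have e2 : X.presheaf.germ (X.basicOpen h) y hyh
        (X.presheaf.map (homOfLE (X.basicOpen_le h)).op (h ^ n)) = gy h ^ n := by
      rw [TopCat.Presheaf.germ_res_apply X.presheaf (homOfLE (X.basicOpen_le h)) y hyh (h ^ n)]
      exact map_pow gy h n
    rw [e1, ← hab', map_mul, e2] at ha0y
    exact (Ideal.mul_unit_mem_iff_mem _ (hhy.pow n)).1 ha0y
  have hJy : J.map gy ≤ Submodule.map (φ ι y) (gen G 𝔖 y) := by
    rw [Ideal.map_span]
    refine Ideal.span_le.2 ?_
    rintro _ ⟨_, ⟨γ, hγ, rfl⟩, rfl⟩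
    refine ⟨G.presheaf.germ W' y hyW' (t γ), mem_gen (𝔖 := 𝔖) (⟨W', t γ⟩ : LS G) ⟨γ, hγ, rfl⟩ hyW', ?_⟩
    exact φ_germ ι y W' hyW' (t γ)
  obtain ⟨γ1, hγ1, hγ1e⟩ := hJy hby
  have : γ1 = G.presheaf.germ (X.basicOpen h) y hyh t'' := by
    apply φ_injective ι y
    rw [hγ1e, φ_germ]
  rw [← this]
  exact hγ1


/-- Noetherian induction on closed subsets. -/
theorem P_closed [IsNoetherian X] {G : X.Modules} (ι : G ⟶ Coh.structureModule X) [Mono ι]
    (Y : Closeds X) : P G (Y : Set X) := by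
  refine WellFounded.induction (r := ((· < ·) : Closeds X → Closeds X → Prop))
    (C := fun Y : Closeds X => P G (Y : Set X)) wellFounded_lt Y ?_
  intro Y ih
  by_cases hne : (Y : Set X).Nonempty
  swap
  · exact ⟨∅, Set.finite_empty, fun x hx => (hne ⟨x, hx⟩).elim⟩
  by_cases hirr : IsPreirreducible (Y : Set X)
  · have hY : IsIrreducible (Y : Set X) := ⟨hne, hirr⟩
    obtain ⟨η, hη⟩ := QuasiSober.sober hY Y.isClosed
    obtain ⟨V', hηV', 𝔖, h𝔖, hV'⟩ := local_claim ι η
    let Y' : Closeds X := ⟨(Y : Set X) ∩ (V' : Set X)ᶜ, Y.isClosed.inter V'.isOpen.isClosed_compl⟩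
    have hY' : Y' < Y := by
      refine lt_of_le_of_ne (fun x hx => hx.1) ?_
      intro h
      have hηY : η ∈ (Y : Set X) := hη.mem
      have : η ∈ (Y' : Set X) := by rw [h]; exact hηY
      exact this.2 hηV'
    have h1 := ih Y' hY'
    have h2 : P G ((Y : Set X) ∩ V') :=
      ⟨𝔖, h𝔖, fun x hx => hV' x hx.2 (hη.specializes hx.1)⟩
    refine P_mono ?_ (P_union h1 h2)
    intro x hx
    by_cases hxV : x ∈ V'
    · exact Or.inr ⟨hx, hxV⟩
    · exact Or.inl ⟨hx, hxV⟩
  · rw [isPreirreducible_iff_isClosed_union_isClosed] at hirr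
    push Not at hirr
    obtain ⟨z₁, z₂, hz₁, hz₂, hsub, hn1, hn2⟩ := hirr
    let Y₁ : Closeds X := ⟨(Y : Set X) ∩ z₁, Y.isClosed.inter hz₁⟩
    let Y₂ : Closeds X := ⟨(Y : Set X) ∩ z₂, Y.isClosed.inter hz₂⟩
    have hY₁ : Y₁ < Y := by
      refine lt_of_le_of_ne (fun x hx => hx.1) ?_
      intro h
      apply hn1
      intro x hx
      have : x ∈ (Y₁ : Set X) := by rw [h]; exact hx
      exact this.2
    have hY₂ : Y₂ < Y := by
      refine lt_of_le_of_ne (fun x hx => hx.1) ?_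
      intro h
      apply hn2
      intro x hx
      have : x ∈ (Y₂ : Set X) := by rw [h]; exact hx
      exact this.2
    refine P_mono ?_ (P_union (ih Y₁ hY₁) (ih Y₂ hY₂))
    intro x hx
    rcases hsub hx with h | h
    · exact Or.inl ⟨hx, h⟩
    · exact Or.inr ⟨hx, h⟩


/-- Let X be a Noetherian scheme and G ⟶ O_X a sub-O_X-module of the structure sheaf (a sheaf of ideals,
not necessarily quasi-coherent). Then there are finitely many opens U_i of X and finitely many
sections s_{ij} ∈ G(U_i) such that for every point x of X the germs at x of those s_{ij} with x ∈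
U_i generate the stalk G_x as an O_{X,x}-module. -/
theorem result {X : Scheme.{u}} [IsNoetherian X]
    (G : X.Modules) (ι : G ⟶ Coh.structureModule X) [Mono ι] :
    ∃ (m : ℕ) (U : Fin m → X.Opens) (k : Fin m → ℕ)
      (s : (i : Fin m) → Fin (k i) → (G.presheaf.obj (Opposite.op (U i)) : Type u)),
      ∀ x : X, Submodule.span (X.presheaf.stalk x)
          (Set.range (fun p : (Σ i : {i : Fin m // x ∈ U i}, Fin (k i.1)) =>
            (G.presheaf.germ (U p.1.1) x p.1.2) (s p.1.1 p.2))) = ⊤ := by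
  obtain ⟨𝔖, h𝔖, h⟩ := P_closed ι ⊤
  obtain ⟨m, f, -, hf⟩ := h𝔖.fin_param
  refine ⟨m, fun i => (f i).1, fun _ => 1, fun i _ => (f i).2, fun x => ?_⟩
  refine eq_top_iff.2 ((h x trivial).ge.trans ?_)
  refine Submodule.span_le.2 ?_
  rintro _ ⟨q, hq, hx, rfl⟩
  obtain ⟨i, rfl⟩ : ∃ i, f i = q := by rw [← hf] at hq; exact hq
  exact Submodule.subset_span ⟨⟨⟨i, hx⟩, 0⟩, rfl⟩

end Groth.Agent.S11167
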