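import Groth.Statements.S11174
import Groth.Agent.S5155
import Groth.Agent.S5170
import Groth.Agent.S0299
import Groth.Agent.S0303
import Groth.Agent.S0310
import Groth.Agent.S0312
import Groth.Agent.S0313
import Mathlib

set_option autoImplicit false
universe u
open CategoryTheory
open InjHull

namespace Groth.Agent.S11174

open IsLocalRing

section Helpers

variable {A : Type u} [CommRing A] {X : Type u} [AddCommGroup X] [Module A X]

/-- `Hom(A/J, X) ≃ X[J]` -/
lemma length_hom_quotient_eq (J : Ideal A) :
    Module.length A ((A ⧸ J) →ₗ[A] X) = Module.length A (Submodule.torsionBySet A X (J : Set A)) := by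
  have hkill : ∀ (h : (A ⧸ J) →ₗ[A] X), ∀ a ∈ J, a • h 1 = 0 := by
    intro h a ha
    rw [← map_smul]
    have : a • (1 : A ⧸ J) = 0 := by
      rw [Algebra.smul_def, mul_one]
      exact Ideal.Quotient.eq_zero_iff_mem.2 ha
    rw [this, map_zero]
  have hmk : ∀ (h : (A ⧸ J) →ₗ[A] X) (r : A), h (Ideal.Quotient.mk J r) = r • h 1 := by
    intro h r
    rw [← map_smul]
    congr 1
    rw [Algebra.smul_def, mul_one]
    rfl
  let Φ : ((A ⧸ J) →ₗ[A] X) →ₗ[A] Submodule.torsionBySet A X (J : Set A) :=
    LinearMap.codRestrict _ (LinearMap.applyₗ (1 : A ⧸ J)) (fun h => by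
      rw [Submodule.mem_torsionBySet_iff]
      intro a
      exact hkill h a a.2)
  have hΦ : Function.Bijective Φ := by
    constructor
    · intro h h' hh
      have h1 : h 1 = h' 1 := congrArg Subtype.val hh
      apply LinearMap.ext
      intro x
      obtain ⟨r, rfl⟩ := Ideal.Quotient.mk_surjective x
      rw [hmk, hmk, h1]
    · rintro ⟨e, he⟩
      rw [Submodule.mem_torsionBySet_iff] at he
      refine ⟨Submodule.liftQ J (LinearMap.toSpanSingleton A X e) (fun b hb => by
        simpa using he ⟨b, hb⟩), ?_⟩
      apply Subtype.ext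
      show (LinearMap.toSpanSingleton A X e) 1 = e
      simp
  exact (LinearEquiv.ofBijective Φ hΦ).length_eq

end Helpers

/-- Fix a Noetherian local ring A, write m for its maximal ideal and k for its residue field, and let I
be an A-module such that (a) every element of I is killed by some power of m, (b) the A-module
Hom_A(k, I) is isomorphic to k, and (c) there is a decreasing sequence of ideals a_1 ⊇ a_2 ⊇ … of A,
cofinal with the powers of m in both directions (each a_n contains a power of m and each power of m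
contains some a_n), with length_A(A/a_n) = length_A(Hom_A(A/a_n, I)) for every n. Then I is an
injective hull of k: some A-linear map k → I is an essential injection into an injective module. -/
theorem result (A : Type u) [CommRing A] [IsLocalRing A] [IsNoetherianRing A] (I : Type u) [AddCommGroup I] [Module A I] (ha : LocCoh.IsPowerTorsion (IsLocalRing.maximalIdeal A) I) (hb : Nonempty ((IsLocalRing.ResidueField A →ₗ[A] I) ≃ₗ[A] IsLocalRing.ResidueField A)) (a : ℕ → Ideal A) (hanti : Antitone a) (hcof : ∀ n : ℕ, ∃ N : ℕ, IsLocalRing.maximalIdeal A ^ N ≤ a n) (hcof' : ∀ N : ℕ, ∃ n : ℕ, a n ≤ IsLocalRing.maximalIdeal A ^ N) (hlen : ∀ n : ℕ, Module.length A (A ⧸ a n) = Module.length A ((A ⧸ a n) →ₗ[A] I)) : ∃ f : IsLocalRing.ResidueField A →ₗ[A] I, InjHull.IsInjectiveHull f := by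
  obtain ⟨e⟩ := hb
  obtain ⟨E, _, _, f₀, hf₀⟩ := Groth.Agent.S0299.result A (ResidueField A)
  -- Hom(k, I) is simple
  haveI : IsSimpleModule A (ResidueField A) := by
    rw [isSimpleModule_iff_quot_maximal]
    exact ⟨maximalIdeal A, inferInstance, ⟨LinearEquiv.refl _ _⟩⟩
  haveI hs : IsSimpleModule A (ResidueField A →ₗ[A] I) := IsSimpleModule.congr e
  set ι : ResidueField A →ₗ[A] I := e.symm 1 with hι
  have hι0 : ι ≠ 0 := by
    intro h0
    have : e ι = e 0 := by rw [h0]
    rw [hι, e.apply_symm_apply, map_zero] at this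
    exact one_ne_zero this
  have hι1 : ι 1 ≠ 0 := by
    intro h
    apply hι0
    apply Groth.Agent.S5155.hom_ext_one
    rw [h, LinearMap.zero_apply]
  have hιinj : Function.Injective ι := by
    rw [← LinearMap.ker_eq_bot, LinearMap.ker_eq_bot']
    intro c hc
    by_contra hc0
    obtain ⟨b, rfl⟩ := residue_surjective c
    have hbu : IsUnit b := by
      by_contra hb
      exact hc0 ((residue_eq_zero_iff b).2 ((mem_maximalIdeal b).2 hb))
    rw [Groth.Agent.S5155.residue_eq_smul_one, map_smul] at hc
    obtain ⟨b', rfl⟩ := hbu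
    have h5 : ι 1 = (↑b'⁻¹ : A) • ((b' : A) • ι 1) := by
      rw [smul_smul, Units.inv_mul, one_smul]
    exact hι1 (by rw [h5, hc, smul_zero])
  have hess : ∀ N : Submodule A I, N ≠ ⊥ → N ⊓ LinearMap.range ι ≠ ⊥ := by
    intro N hN
    obtain ⟨x, hxN, hx0⟩ := Submodule.exists_mem_ne_zero_of_ne_bot hN
    obtain ⟨c, hc0, hcs⟩ := Groth.Agent.S0310.exists_smul_mem_socle ha hx0
    rw [Submodule.mem_torsionBySet_iff] at hcs
    have hsoc : ∀ d ∈ maximalIdeal A, d • (c • x) = 0 := fun d hd => hcs ⟨d, hd⟩
    obtain ⟨b, hb⟩ := (isSimpleModule_iff_toSpanSingleton_surjective.1 hs).2 ι hι0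
      (Groth.Agent.S5155.socleHom (c • x) hsoc)
    have hb1 : b • ι 1 = c • x := by
      have := LinearMap.congr_fun hb 1
      rwa [Groth.Agent.S5155.socleHom_one] at this
    intro hbot
    have hmem : c • x ∈ N ⊓ LinearMap.range ι :=
      ⟨N.smul_mem c hxN, ⟨b • 1, by rw [map_smul, hb1]⟩⟩
    rw [hbot, Submodule.mem_bot] at hmem
    exact hc0 hmem
  have hιess : InjHull.IsEssentialInj ι := ⟨hιinj, hess⟩
  haveI := hf₀.isInjective
  obtain ⟨g, hg⟩ := Module.Injective.extension_property A E _ _ ι hιinj f₀
  have hginj : Function.Injective g := by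
    apply Groth.Agent.S0303.injective_of_essential hιess g
    rw [hg]
    exact hf₀.injective
  have hEtor := Groth.Agent.S5155.isPowerTorsion_of_hull hf₀.toIsEssentialInj
  have hgsurj : Function.Surjective g := by
    intro y
    obtain ⟨N, hN⟩ := hEtor y
    obtain ⟨n, hn⟩ := hcof' N
    let In : Submodule A I := Submodule.torsionBySet A I ((a n : Ideal A) : Set A)
    let En : Submodule A E := Submodule.torsionBySet A E ((a n : Ideal A) : Set A)
    let h1 : In →ₗ[A] En := LinearMap.codRestrict En (g ∘ₗ In.subtype) (fun x => by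
      rw [Submodule.mem_torsionBySet_iff]
      rintro ⟨c, hc⟩
      show c • g x = 0
      rw [← map_smul]
      have := x.2
      rw [Submodule.mem_torsionBySet_iff] at this
      rw [this ⟨c, hc⟩, map_zero])
    have h1inj : Function.Injective h1 := by
      intro x x' hxx
      have h2 : g x = g x' := congrArg Subtype.val hxx
      exact Subtype.ext (hginj h2)
    obtain ⟨N', hN'⟩ := hcof n
    have hfl : IsFiniteLength A (A ⧸ a n) :=
      IsFiniteLength.of_surjective (Groth.Agent.S0313.isFiniteLength_quotient_pow N')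
        (f := Submodule.factor hN') (Submodule.factor_surjective hN')
    have hlen1 : Module.length A In = Module.length A (A ⧸ a n) := by
      rw [← length_hom_quotient_eq, ← hlen n]
    have hlen2 : Module.length A En = Module.length A (A ⧸ a n) := by
      rw [← length_hom_quotient_eq, Groth.Agent.S5170.length_hom_eq hf₀ _ hfl]
    have hfin : Module.length A In ≠ ⊤ := by
      rw [hlen1, Module.length_ne_top_iff]
      exact hfl
    have h1surj := Groth.Agent.S0312.surjective_of_length_le h1 h1inj hfin (by rw [hlen1, hlen2])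
    have hy : y ∈ En := by
      rw [Submodule.mem_torsionBySet_iff]
      rintro ⟨c, hc⟩
      exact hN c (hn hc)
    obtain ⟨s, hs⟩ := h1surj ⟨y, hy⟩
    exact ⟨s, congrArg Subtype.val hs⟩
  let eq : I ≃ₗ[A] E := LinearEquiv.ofBijective g ⟨hginj, hgsurj⟩
  exact ⟨ι, ⟨hιess, (Module.Baer.of_equiv eq.symm (Module.Baer.of_injective hf₀.isInjective)).injective⟩⟩

end Groth.Agent.S11174
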