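import Groth.Statements.S11178
import Groth.Agent.Lib.Helper10BiDualE
import Groth.Agent.Lib.Helper10HomInjFlatB
-- import your own Groth.Agent.* helpers here

set_option autoImplicit false
universe u
open CategoryTheory
attribute [local instance] HasDerivedCategory.standard
open Dual

namespace Groth.Agent.S11178

/-- The affine form: let A be a Noetherian ring with a dualizing complex ω, and G a cochain complex of
A-modules whose cohomology modules are finite and vanish outside a bounded range of degrees, with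
RHom_A(G, −) existing as a total right derived functor. Then G has finite Tor-dimension (G is
isomorphic in D(A) to a bounded complex of flat modules) if and only if RHom_A(G, ω) has finite
injective dimension (is isomorphic in D(A) to a bounded complex of injective modules). -/
theorem result (A : Type u) [CommRing A] [IsNoetherianRing A] (ω : Dual.D A) (hω : Dual.IsDualizing A ω) (G : DRing.Cx A) [DRing.HasRHomCx G] (hfin : ∀ i : ℤ, Module.Finite A (Dual.HD A (DRing.toD G) i)) (hbdd : ∃ a b : ℤ, ∀ i : ℤ, (i < a ∨ b < i) → Subsingleton (Dual.HD A (DRing.toD G) i)) : DRing.HasFiniteTorDimCx A (DRing.toD G) ↔ DRing.HasFiniteInjDim A ((DRing.RHomCx G).obj ω) := by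
  obtain ⟨R⟩ := Groth.Agent.Lib.Helper5.BiDual.nonempty_res ω hω
  constructor
  · rintro ⟨a, b, F, hF1, hF2, ⟨e⟩⟩
    haveI : DRing.HasRHomCx F := Groth.Agent.Lib.Helper10.LDC.hasRHomCx F
    obtain ⟨f⟩ := Groth.Agent.Lib.Helper10.LDC.nonempty_RHomCx_iso_of_iso G F e.symm
    obtain ⟨i1⟩ := Groth.Agent.Lib.Helper10.BiDualE.nonempty_RHomCx_obj_iso F R.E
    exact ⟨R.a - b, R.b - a, DRing.homCx F R.E,
      Groth.Agent.Lib.Helper10.HomInjFlatB.vanishesOutside_homCx F R.E a b R.a R.b hF1 R.van,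
      Groth.Agent.Lib.Helper10.HomInjFlatB.termwiseInjective_homCx_of_flat F R.E hF2 R.inj,
      ⟨(f.app ω ≪≫ (DRing.RHomCx F).mapIso R.e.symm ≪≫ i1).symm⟩⟩
  · rintro ⟨a, b, I, hI1, hI2, ⟨e⟩⟩
    haveI : DRing.HasRHomCx I := Groth.Agent.Lib.Helper10.LDC.hasRHomCx I
    obtain ⟨i0⟩ := Groth.Agent.Lib.Helper10.BiDualE.nonempty_bidual_iso ω hω G hfin I e
    obtain ⟨i1⟩ := Groth.Agent.Lib.Helper10.BiDualE.nonempty_RHomCx_obj_iso I R.E
    exact ⟨R.a - b, R.b - a, DRing.homCx I R.E,
      Groth.Agent.Lib.Helper10.HomInjFlatB.vanishesOutside_homCx I R.E a b R.a R.b hI1 R.van,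
      Groth.Agent.Lib.Helper10.HomInjFlatB.termwiseFlat_homCx I R.E hI2 R.inj,
      ⟨i1.symm ≪≫ (DRing.RHomCx I).mapIso R.e ≪≫ i0⟩⟩

end Groth.Agent.S11178
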