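import Groth.Statements.S11221
import Mathlib
-- import your own Groth.Agent.* helpers here

set_option autoImplicit false
universe u
open CategoryTheory MonoidalCategory CartesianMonoidalCategory MonObj GrpObj AlgebraicGeometry
open scoped TensorProduct
open AGF

namespace Groth.Agent.S11221.Aux

namespace SinglePole

variable (R : Type u) [CommRing R] [IsDomain R] [IsNoetherianRing R]

lemma eq_bot_of_lt_height_one (p q : Ideal R) [p.IsPrime] [q.IsPrime] (hp : p.height = 1)
    (hqp : q < p) : q = ⊥ := by
  have h1 := Ideal.height_add_one_le_of_lt_of_isPrime hqp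
  rw [hp] at h1
  have hq0 : q.height = 0 := by
    have h2 : q.height + 1 ≤ 0 + 1 := by simpa using h1
    exact le_zero_iff.mp ((ENat.add_le_add_iff_right ENat.one_ne_top).mp h2)
  by_contra hne
  have hlt : (⊥ : Ideal R) < q := bot_lt_iff_ne_bot.mpr hne
  have : (⊥ : Ideal R).IsPrime := Ideal.isPrime_bot
  have h2 := Ideal.height_add_one_le_of_lt_of_isPrime hlt
  rw [hq0] at h2
  simp at h2

theorem main (p : Ideal R) [p.IsPrime] (hp : p.height = 1) :
    ∃ f : FractionRing R, f ∉ Set.range ⇑(algebraMap R (FractionRing R)) ∧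
      ∀ q : Ideal R, q.IsPrime → q.height = 1 → q ≠ p →
        ∃ a b : R, b ∉ q ∧ f * algebraMap R (FractionRing R) b = algebraMap R (FractionRing R) a := by
  have hpbot : p ≠ ⊥ := by
    intro h
    rw [h, Ideal.height_bot] at hp
    exact zero_ne_one hp
  obtain ⟨b, hbp, hb0⟩ := Submodule.exists_mem_ne_zero_of_ne_bot hpbot
  -- `p` is minimal over `(b)`
  have hmin : p ∈ (Module.annihilator R (R ⧸ Ideal.span {b})).minimalPrimes := by
    rw [Ideal.annihilator_quotient]
    refine ⟨⟨inferInstance, (Ideal.span_singleton_le_iff_mem _).mpr hbp⟩, ?_⟩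
    rintro q ⟨hq, hbq⟩ hqp
    by_contra hnot
    have hlt : q < p := lt_of_le_of_ne hqp (fun h => hnot (h ▸ le_refl _))
    have := hq
    have hqbot := eq_bot_of_lt_height_one R p q hp hlt
    rw [hqbot] at hbq
    have : b ∈ (⊥ : Ideal R) := hbq (Ideal.mem_span_singleton_self b)
    exact hb0 ((Ideal.mem_bot).mp this)
  have hass : p ∈ associatedPrimes R (R ⧸ Ideal.span {b}) :=
    Module.associatedPrimes.minimalPrimes_annihilator_subset_associatedPrimes R _ hmin
  obtain ⟨_, x, hx⟩ := (Submodule.isAssociatedPrime_iff).mp hass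
  obtain ⟨a, rfl⟩ := Ideal.Quotient.mk_surjective x
  have hcolon : ∀ r : R, r ∈ p ↔ r * a ∈ Ideal.span {b} := by
    intro r
    rw [hx, Submodule.mem_colon_singleton, Submodule.mem_bot, ← Ideal.Quotient.eq_zero_iff_mem,
      map_mul]
    rfl
  have hab : a ∉ Ideal.span {b} := by
    intro h
    have : (1 : R) ∈ p := (hcolon 1).mpr (by rwa [_root_.one_mul])
    exact (Ideal.IsPrime.ne_top inferInstance) ((Ideal.eq_top_iff_one p).mpr this)
  let K := FractionRing R
  have hbK : algebraMap R K b ≠ 0 := by
    intro h
    exact hb0 ((IsFractionRing.injective R K) (by rw [h, map_zero]))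
  refine ⟨algebraMap R K a / algebraMap R K b, ?_, ?_⟩
  · rintro ⟨r, hr⟩
    apply hab
    rw [Ideal.mem_span_singleton']
    refine ⟨r, ?_⟩
    apply IsFractionRing.injective R K
    rw [map_mul, hr, div_mul_cancel₀ _ hbK]
  · intro q hq hqh hqp
    have := hq
    have hnot : ¬ p ≤ q := by
      intro hle
      have hlt : p < q := lt_of_le_of_ne hle (Ne.symm hqp)
      have := eq_bot_of_lt_height_one R q p hqh hlt
      exact hpbot this
    obtain ⟨s, hsp, hsq⟩ := SetLike.not_le_iff_exists.mp hnot
    obtain ⟨c, hc⟩ := Ideal.mem_span_singleton'.mp ((hcolon s).mp hsp)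
    refine ⟨c, s, hsq, ?_⟩
    rw [div_mul_eq_mul_div, div_eq_iff hbK, ← map_mul, ← map_mul, hc, mul_comm]

end SinglePole

end Groth.Agent.S11221.Aux

namespace Groth.Agent.S11221

/-- Let R be a Noetherian integrally closed domain with fraction field K and let p be a prime ideal of R
of height one. Then there is f ∈ K which is not in R but lies in the local ring R_q ⊆ K of every
height-one prime q ≠ p (f = a/b with b ∉ q): a rational function on Spec R with a pole along V(p)
only. (The published statement is for the coordinate ring of a normal affine variety; this row is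
for any Noetherian integrally closed domain, which is all the argument uses.) -/
theorem result (R : Type u) [CommRing R] [IsDomain R] [IsNoetherianRing R] [IsIntegrallyClosed R]
    (p : Ideal R) [p.IsPrime] (hp : p.height = 1) :
    ∃ f : FractionRing R, f ∉ Set.range ⇑(algebraMap R (FractionRing R)) ∧
      ∀ q : Ideal R, q.IsPrime → q.height = 1 → q ≠ p →
        ∃ a b : R, b ∉ q ∧ f * algebraMap R (FractionRing R) b = algebraMap R (FractionRing R) a := by
  exact Aux.SinglePole.main R p hp

end Groth.Agent.S11221
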