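import Groth.Statements.S11223
import Mathlib
-- import your own Groth.Agent.* helpers here

set_option autoImplicit false
universe u
open CAlg

namespace Groth.Agent.S11223

open MvPolynomial in
attribute [local instance] MvPolynomial.gradedAlgebra in
theorem hc_mul {k : Type u} [Field k] {σ : Type} (f q : MvPolynomial σ k) (m n : ℕ)
    (hf : f.IsHomogeneous m) (h : m ≤ n) :
    homogeneousComponent n (f * q) = f * homogeneousComponent (n - m) q := by
  have := DirectSum.coe_decompose_mul_of_left_mem_of_le (𝒜 := homogeneousSubmodule σ k)
    (b := q) (n := n) ((mem_homogeneousSubmodule _ _).mpr hf) h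
  rw [← decomposition.decompose'_apply, ← decomposition.decompose'_apply]
  exact this

open MvPolynomial in
attribute [local instance] MvPolynomial.gradedAlgebra in
theorem hc_mul_not_le {k : Type u} [Field k] {σ : Type} (f q : MvPolynomial σ k) (m n : ℕ)
    (hf : f.IsHomogeneous m) (h : ¬ m ≤ n) :
    homogeneousComponent n (f * q) = 0 := by
  have := DirectSum.coe_decompose_mul_of_left_mem_of_not_le (𝒜 := homogeneousSubmodule σ k)
    (b := q) (n := n) ((mem_homogeneousSubmodule _ _).mpr hf) h
  rw [← decomposition.decompose'_apply]
  exact this

open MvPolynomial in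
theorem monomial_mem_pow {k : Type u} [Field k] {n : ℕ} (d : Fin n →₀ ℕ) (c : k) :
    monomial d c ∈ (Ideal.span (Set.range (X : Fin n → MvPolynomial (Fin n) k))) ^ d.degree := by
  rw [monomial_eq]
  apply Ideal.mul_mem_left
  rw [Finsupp.degree_apply, ← Finset.prod_pow_eq_pow_sum]
  apply Ideal.prod_mem_prod
  intro i _
  exact Ideal.pow_mem_pow (Ideal.subset_span (Set.mem_range_self i)) _

/-- Let k be a field, let z_1, ..., z_m be homogeneous polynomials of positive degree in the polynomial
ring k[x_1, ..., x_n], and suppose the radical of the ideal (z_1, ..., z_m) is the ideal (x_1, ...,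
x_n) generated by the variables. Then the polynomial ring is integral over the subalgebra generated
by z_1, ..., z_m. (The published statement is over an algebraically closed field; this row takes any
field, which its proof allows.) -/
theorem result (k : Type u) [Field k] (n m : ℕ)
    (z : Fin m → MvPolynomial (Fin n) k) (d : Fin m → ℕ) (hd : ∀ i, 0 < d i)
    (hz : ∀ i, (z i).IsHomogeneous (d i))
    (hrad : (Ideal.span (Set.range z)).radical =
      Ideal.span (Set.range (MvPolynomial.X : Fin n → MvPolynomial (Fin n) k))) :
    Algebra.IsIntegral (Algebra.adjoin k (Set.range z)) (MvPolynomial (Fin n) k) := by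
  classical
  obtain ⟨N, hN⟩ := Ideal.exists_radical_pow_le_of_fg (Ideal.span (Set.range z))
    (IsNoetherian.noetherian _)
  rw [hrad] at hN
  have hzR : ∀ i, z i ∈ Algebra.adjoin k (Set.range z) :=
    fun i => Algebra.subset_adjoin ⟨i, rfl⟩
  -- the finite generating set
  have hfin : {e : Fin n →₀ ℕ | e.degree < N}.Finite := Finsupp.finite_of_degree_lt N
  set gens : Set (MvPolynomial (Fin n) k) :=
    (fun e => MvPolynomial.monomial e (1 : k)) '' {e : Fin n →₀ ℕ | e.degree < N} with hgens
  have hgensfin : gens.Finite := hfin.image _
  set M : Submodule (Algebra.adjoin k (Set.range z)) (MvPolynomial (Fin n) k) :=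
    Submodule.span _ gens with hM
  have hCmem : ∀ (c : k) (x : MvPolynomial (Fin n) k), x ∈ M → MvPolynomial.C c * x ∈ M := by
    intro c x hx
    have : MvPolynomial.C c * x = (algebraMap k (Algebra.adjoin k (Set.range z)) c) • x := by
      rw [Algebra.smul_def]
      rfl
    rw [this]
    exact M.smul_mem _ hx
  have hzmem : ∀ (i : Fin m) (x : MvPolynomial (Fin n) k), x ∈ M → z i * x ∈ M := by
    intro i x hx
    have : z i * x = (⟨z i, hzR i⟩ : Algebra.adjoin k (Set.range z)) • x := by
      rw [Algebra.smul_def]
      rfl
    rw [this]
    exact M.smul_mem _ hx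
  have hmono : ∀ E : ℕ, ∀ (e : Fin n →₀ ℕ) (c : k), e.degree = E →
      MvPolynomial.monomial e c ∈ M := by
    intro E
    induction E using Nat.strong_induction_on with
    | _ E ih =>
      intro e c he
      by_cases hlt : E < N
      · have : MvPolynomial.monomial e c = MvPolynomial.C c * MvPolynomial.monomial e 1 := by
          rw [MvPolynomial.C_mul_monomial, mul_one]
        rw [this]
        exact hCmem c _ (Submodule.subset_span ⟨e, by simpa [he] using hlt, rfl⟩)
      · push Not at hlt
        have hmem : MvPolynomial.monomial e c ∈ Ideal.span (Set.range z) := by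
          apply hN
          apply Ideal.pow_le_pow_right hlt
          rw [← he]
          exact monomial_mem_pow e c
        obtain ⟨g, hg⟩ := (Submodule.mem_span_range_iff_exists_fun _).mp hmem
        have hhom : (MvPolynomial.monomial e c).IsHomogeneous E := by
          rw [← he]
          exact MvPolynomial.isHomogeneous_monomial c rfl
        have h1 : MvPolynomial.monomial e c =
            MvPolynomial.homogeneousComponent E (∑ i, g i • z i) := by
          rw [hg]
          exact (MvPolynomial.homogeneousComponent_eq_self hhom).symm
        rw [h1, map_sum]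
        refine Submodule.sum_mem _ (fun i _ => ?_)
        rw [smul_eq_mul, mul_comm]
        by_cases hle : d i ≤ E
        · rw [hc_mul (z i) (g i) (d i) E (hz i) hle]
          apply hzmem
          -- homogeneous component of degree E - d i < E
          rw [MvPolynomial.homogeneousComponent_apply]
          refine Submodule.sum_mem _ (fun e' he' => ?_)
          have he'deg : e'.degree = E - d i := by
            simpa using (Finset.mem_filter.mp he').2
          exact ih (E - d i) (by have := hd i; omega) e' _ he'deg
        · rw [hc_mul_not_le (z i) (g i) (d i) E (hz i) hle]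
          exact M.zero_mem
  have htop : M = ⊤ := by
    rw [eq_top_iff]
    intro f _
    rw [f.as_sum]
    exact Submodule.sum_mem _ (fun e _ => hmono _ e _ rfl)
  haveI : Module.Finite (Algebra.adjoin k (Set.range z)) (MvPolynomial (Fin n) k) := by
    refine ⟨⟨hgensfin.toFinset, ?_⟩⟩
    rw [Set.Finite.coe_toFinset, ← hM, htop]
  exact Algebra.IsIntegral.of_finite _ _

end Groth.Agent.S11223
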