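import Groth.Statements.S1123
import Mathlib
import Groth.Agent.S12229
import Groth.Agent.Lib.Helper23TruncGE
-- import your own Groth.Agent.* helpers here

set_option autoImplicit false
universe v u
open CategoryTheory CategoryTheory.Limits
open CohDer

namespace Groth.Agent.S1123
open Groth.Agent.Lib.Helper23TruncGE


/-- Let A be an abelian category with enough injectives and S : 0 → A• → B• → C• → 0 a short exact
sequence of cochain complexes all vanishing below degree n. Then there are a short exact sequence T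
: 0 → I₁ → I₂ → I₃ → 0 of complexes of injective objects vanishing below degree n and a morphism of
short exact sequences S ⟶ T whose three components are quasi-isomorphisms. -/
theorem result {A : Type u} [Category.{v} A] [Abelian A] [EnoughInjectives A]
    (S : ShortComplex (CochainComplex A ℤ)) (hS : S.ShortExact) (n : ℤ)
    [S.X₁.IsStrictlyGE n] [S.X₂.IsStrictlyGE n] [S.X₃.IsStrictlyGE n] :
    ∃ (T : ShortComplex (CochainComplex A ℤ)) (φ : S ⟶ T), T.ShortExact ∧
      T.X₁.IsStrictlyGE n ∧ T.X₂.IsStrictlyGE n ∧ T.X₃.IsStrictlyGE n ∧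
      (∀ k : ℤ, Injective (T.X₁.X k) ∧ Injective (T.X₂.X k) ∧ Injective (T.X₃.X k)) ∧
      QuasiIso φ.τ₁ ∧ QuasiIso φ.τ₂ ∧ QuasiIso φ.τ₃ := by
  obtain ⟨S', hS', φ, d, q₁, q₂, q₃, i₁, i₂, i₃, b₁, b₂, b₃, -⟩ :=
    Groth.Agent.S12229.exists_resolution S hS n
  have g₁ : S'.X₁.IsGE n := isGE_of_quasiIso φ.τ₁ n
  have g₂ : S'.X₂.IsGE n := isGE_of_quasiIso φ.τ₂ n
  have g₃ : S'.X₃.IsGE n := isGE_of_quasiIso φ.τ₃ n
  let T : ShortComplex (CochainComplex A ℤ) :=
    ShortComplex.mk (CochainComplex.truncGEMap S'.f n) (CochainComplex.truncGEMap S'.g n)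
      (truncGE_zero S' n)
  let π : S' ⟶ T :=
    { τ₁ := S'.X₁.πTruncGE n
      τ₂ := S'.X₂.πTruncGE n
      τ₃ := S'.X₃.πTruncGE n
      comm₁₂ := CochainComplex.πTruncGE_naturality S'.f n
      comm₂₃ := CochainComplex.πTruncGE_naturality S'.g n }
  have p₁ : QuasiIso (S'.X₁.πTruncGE n) := inferInstance
  have p₂ : QuasiIso (S'.X₂.πTruncGE n) := inferInstance
  have p₃ : QuasiIso (S'.X₃.πTruncGE n) := inferInstance
  refine ⟨T, φ ≫ π, truncGE_shortExact S' hS' n,
    inferInstanceAs ((S'.X₁.truncGE n).IsStrictlyGE n),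
    inferInstanceAs ((S'.X₂.truncGE n).IsStrictlyGE n),
    inferInstanceAs ((S'.X₃.truncGE n).IsStrictlyGE n), fun k => ⟨?_, ?_, ?_⟩, ?_, ?_, ?_⟩
  · exact injective_truncGE_X S'.X₁ i₁ d n k
  · exact injective_truncGE_X S'.X₂ i₂ d n k
  · exact injective_truncGE_X S'.X₃ i₃ d n k
  · show QuasiIso (φ.τ₁ ≫ S'.X₁.πTruncGE n)
    infer_instance
  · show QuasiIso (φ.τ₂ ≫ S'.X₂.πTruncGE n)
    infer_instance
  · show QuasiIso (φ.τ₃ ≫ S'.X₃.πTruncGE n)
    infer_instance

end Groth.Agent.S1123
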