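import Groth.Statements.S11233
import Mathlib
-- import your own Groth.Agent.* helpers here

set_option autoImplicit false
universe u
open CAlg

namespace Groth.Agent.S11233

theorem eval_aeval' {A : Type u} [CommRing A] {m : ℕ} (φ : Fin m → MvPolynomial (Fin m) A)
    (u : Fin m → A) (f : MvPolynomial (Fin m) A) :
    MvPolynomial.eval u (MvPolynomial.aeval φ f) =
      MvPolynomial.eval (fun i => MvPolynomial.eval u (φ i)) f := by
  induction f using MvPolynomial.induction_on with
  | C a => simp
  | add p q hp hq => rw [map_add, map_add, hp, hq, map_add]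
  | mul_X p i hp =>
    rw [map_mul, map_mul, hp, map_mul, MvPolynomial.aeval_X, MvPolynomial.eval_X]

/-- Let k be an algebraically closed field, A an integral domain which is a k-algebra, T an m by m
matrix over A with invertible determinant, and let the additive group k^m act on the polynomial ring
A[y_1, ..., y_m] by the A-algebra maps y_s ↦ y_s + Σ_r h_r T_rs. Then the only invariant polynomials
are the constants: a polynomial fixed by all these substitutions lies in A. -/
theorem result (k : Type u) [Field k] [IsAlgClosed k]
    (A : Type u) [CommRing A] [IsDomain A] [Algebra k A] (m : ℕ) (T : Matrix (Fin m) (Fin m) A)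
    (hT : IsUnit T.det) (f : MvPolynomial (Fin m) A)
    (hf : ∀ h : Fin m → k, MvPolynomial.aeval
      (fun s : Fin m => MvPolynomial.X s + MvPolynomial.C (∑ r : Fin m, algebraMap k A (h r) * T r s)) f = f) :
    ∃ a : A, f = MvPolynomial.C a := by
  classical
  have hinjk : Function.Injective (algebraMap k A) := (algebraMap k A).injective
  haveI : Infinite A := Infinite.of_injective _ hinjk
  set g := MvPolynomial.aeval
    (fun s : Fin m => ∑ r, MvPolynomial.X r * MvPolynomial.C (T r s)) f with hg
  have hgeval : ∀ u : Fin m → A,
      MvPolynomial.eval u g = MvPolynomial.eval (Matrix.vecMul u T) f := by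
    intro u
    rw [hg, eval_aeval']
    have : (fun i => MvPolynomial.eval u (∑ r, MvPolynomial.X r * MvPolynomial.C (T r i))) =
        Matrix.vecMul u T := by
      funext s
      simp [Matrix.vecMul, dotProduct]
    rw [this]
  have hfeval : ∀ h : Fin m → k,
      MvPolynomial.eval (Matrix.vecMul (fun r => algebraMap k A (h r)) T) f =
        MvPolynomial.eval 0 f := by
    intro h
    have := congrArg (MvPolynomial.eval (0 : Fin m → A)) (hf h)
    rw [eval_aeval'] at this
    rw [← this]
    have h2 : (fun i => MvPolynomial.eval (0 : Fin m → A)
        (MvPolynomial.X i + MvPolynomial.C (∑ r, (algebraMap k A) (h r) * T r i))) =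
        Matrix.vecMul (fun r => algebraMap k A (h r)) T := by
      funext s
      simp [Matrix.vecMul, dotProduct]
    rw [h2]
  have hgconst : g = MvPolynomial.C (MvPolynomial.eval 0 f) := by
    apply MvPolynomial.funext_set (fun _ => Set.range (algebraMap k A))
      (fun _ => Set.infinite_range_of_injective hinjk)
    intro x hx
    have : ∃ h : Fin m → k, x = fun r => algebraMap k A (h r) := by
      choose h hh using fun i => hx i (Set.mem_univ i)
      exact ⟨h, funext fun i => (hh i).symm⟩
    obtain ⟨h, rfl⟩ := this
    rw [hgeval, hfeval, MvPolynomial.eval_C]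
  refine ⟨MvPolynomial.eval 0 f, ?_⟩
  apply MvPolynomial.funext
  intro w
  have := hgeval (Matrix.vecMul w T⁻¹)
  rw [Matrix.vecMul_vecMul, Matrix.nonsing_inv_mul T hT, Matrix.vecMul_one] at this
  rw [← this, hgconst, MvPolynomial.eval_C, MvPolynomial.eval_C]

end Groth.Agent.S11233
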