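import Groth.Statements.S11235
import Mathlib
-- import your own Groth.Agent.* helpers here

set_option autoImplicit false
universe u
open CAlg

namespace Groth.Agent.S11235

open Polynomial

/-- Let k be an algebraically closed field, A a commutative k-algebra, α ∈ k, and M a maximal ideal of
the polynomial ring A[x] containing x - α. Let I ⊆ M be an ideal whose zero set in Spec A[x] is
invariant under the automorphisms x ↦ c·x, c ∈ k nonzero (equivalently: the image of I under each
such A-algebra automorphism has the same radical as I). Then there is a maximal ideal of A[x]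
containing I and x. -/
theorem result (k : Type u) [Field k] [IsAlgClosed k]
    (A : Type u) [CommRing A] [Algebra k A] (α : k)
    (M : Ideal (Polynomial A)) (hM : M.IsMaximal)
    (hα : Polynomial.X - Polynomial.C (algebraMap k A α) ∈ M)
    (I : Ideal (Polynomial A)) (hIM : I ≤ M)
    (hI : ∀ c : kˣ, (I.map (Polynomial.aeval (R := A)
      (algebraMap k A (c : k) • (Polynomial.X : Polynomial A)))).radical = I.radical) :
    ∃ N : Ideal (Polynomial A), N.IsMaximal ∧ I ≤ N ∧ Polynomial.X ∈ N := by
  by_cases hα0 : α = 0
  · refine ⟨M, hM, hIM, ?_⟩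
    simpa [hα0] using hα
  haveI := hM
  let κ := Polynomial A ⧸ M
  letI : Field κ := Ideal.Quotient.field M
  let π : Polynomial A →+* κ := Ideal.Quotient.mk M
  have hπ : ∀ g, π g = 0 ↔ g ∈ M := fun g => Ideal.Quotient.eq_zero_iff_mem
  set m : Ideal A := M.comap C with hm
  -- key: I ≤ m.map C
  have key : I ≤ m.map C := by
    intro g hg
    rw [Ideal.mem_map_C_iff]
    intro n
    change C (g.coeff n) ∈ M
    rw [← hπ]
    let gbar : Polynomial κ := g.map (π.comp C)
    suffices h0 : gbar = 0 by
      have := congrArg (fun q => q.coeff n) h0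
      simpa [gbar, Polynomial.coeff_map] using this
    -- infinitely many roots
    let ι : k →+* κ := (π.comp C).comp (algebraMap k A)
    have hιinj : Function.Injective ι := ι.injective
    have hroot : ∀ c : kˣ, gbar.IsRoot (ι ((c : k) * α)) := by
      intro c
      have h1 : Polynomial.aeval (R := A) (algebraMap k A (c : k) • (Polynomial.X : Polynomial A)) g ∈ M := by
        have h2 : Polynomial.aeval (R := A) (algebraMap k A (c : k) • (Polynomial.X : Polynomial A)) g ∈
            (I.map (Polynomial.aeval (R := A)
              (algebraMap k A (c : k) • (Polynomial.X : Polynomial A)))).radical :=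
          Ideal.le_radical (Ideal.mem_map_of_mem _ hg)
        rw [hI c] at h2
        exact (hM.isPrime.radical_le_iff.mpr hIM) h2
      rw [← hπ] at h1
      -- π (aeval (c • X) g) = eval (π (c • X)) gbar
      have h3 : π (Polynomial.aeval (R := A) (algebraMap k A (c : k) • (Polynomial.X : Polynomial A)) g)
          = gbar.eval (π (algebraMap k A (c : k) • (Polynomial.X : Polynomial A))) := by
        rw [Polynomial.aeval_def, Polynomial.hom_eval₂, Polynomial.eval_map]
        rfl
      have hX : π X = π (C (algebraMap k A α)) := by
        rw [← sub_eq_zero, ← map_sub, hπ]; exact hα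
      have h4 : π (algebraMap k A (c : k) • (Polynomial.X : Polynomial A)) = ι ((c : k) * α) := by
        rw [Polynomial.smul_eq_C_mul, map_mul, hX]
        simp [ι, map_mul]
      rw [Polynomial.IsRoot, ← h4, ← h3, h1]
    by_contra hne
    have hfin : (gbar.rootSet κ).Finite := Polynomial.rootSet_finite gbar κ
    have hinf : ((fun c : k => ι (c * α)) '' {c : k | c ≠ 0}).Infinite := by
      haveI : Infinite k := IsAlgClosed.instInfinite
      apply Set.Infinite.image
      · intro c _ c' _ h
        exact mul_right_cancel₀ hα0 (hιinj h)
      · have : {c : k | c ≠ 0} = ({0} : Set k)ᶜ := by ext c; simp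
        rw [this]
        exact (Set.finite_singleton (0 : k)).infinite_compl
    apply hinf
    apply hfin.subset
    rintro _ ⟨c, hc, rfl⟩
    rw [Polynomial.mem_rootSet]
    refine ⟨hne, ?_⟩
    have := hroot (Units.mk0 c hc)
    simpa [Polynomial.IsRoot] using this
  -- now choose N
  have hJ : m.map C ⊔ Ideal.span {X} ≠ (⊤ : Ideal (Polynomial A)) := by
    intro htop
    -- the map g ↦ π (C (g.coeff 0)) kills J
    let ψ : Polynomial A →+* κ := (π.comp C).comp (Polynomial.evalRingHom (0 : A))
    have hker : m.map C ⊔ Ideal.span {X} ≤ RingHom.ker ψ := by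
      rw [sup_le_iff]
      constructor
      · rw [Ideal.map_le_iff_le_comap]
        intro a ha
        rw [Ideal.mem_comap, RingHom.mem_ker]
        simp only [ψ, RingHom.comp_apply, Polynomial.coe_evalRingHom, Polynomial.eval_C]
        exact (hπ _).mpr ha
      · rw [Ideal.span_le, Set.singleton_subset_iff]
        change ψ X = 0
        simp [ψ]
    have h1 : (1 : Polynomial A) ∈ RingHom.ker ψ := hker (htop ▸ Submodule.mem_top)
    rw [RingHom.mem_ker, map_one] at h1
    exact one_ne_zero h1
  obtain ⟨N, hN, hJN⟩ := Ideal.exists_le_maximal _ hJ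
  exact ⟨N, hN, fun g hg => hJN (Ideal.mem_sup_left (key hg)),
    hJN (Ideal.mem_sup_right (Ideal.mem_span_singleton_self X))⟩

end Groth.Agent.S11235
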