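import Groth.Statements.S11238
import Mathlib
-- import your own Groth.Agent.* helpers here

set_option autoImplicit false
set_option linter.style.haveILetI false
set_option linter.unusedSectionVars false
universe u
open AGF

namespace Groth.Agent.S11238
open Polynomial

section Line
variable {k : Type u} [Field k] {n : ℕ}
local notation "R" => MvPolynomial (Fin n) k
local notation "F" => FractionRing (MvPolynomial (Fin n) k)
variable (ev : MvPolynomial (Fin n) k →ₐ[k] k[X])

/-- the ideal of the line. -/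
noncomputable def PP : Ideal R := RingHom.ker ev.toRingHom

instance : (PP ev).IsPrime := RingHom.ker_isPrime _

lemma hS : (PP ev).primeCompl ≤ nonZeroDivisors R := (PP ev).primeCompl_le_nonZeroDivisors

/-- the local ring of the line, inside the fraction field. -/
noncomputable def OO : Subalgebra R F := Localization.subalgebra.ofField F (PP ev).primeCompl (hS ev)

noncomputable instance : IsLocalization (PP ev).primeCompl (OO ev) :=
  Localization.subalgebra.isLocalization_ofField F _ (hS ev)

instance : IsIntegrallyClosed (OO ev) :=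
  isIntegrallyClosed_of_isLocalization (OO ev) (PP ev).primeCompl (hS ev)

/-- restriction to the line, with values in rational functions. -/
noncomputable def gg : R →+* RatFunc k := (algebraMap k[X] (RatFunc k)).comp ev.toRingHom

lemma gg_apply (r : R) : gg ev r = algebraMap k[X] (RatFunc k) (ev r) := rfl

lemma gg_ne_zero {r : R} (hr : ev r ≠ 0) : gg ev r ≠ 0 := by
  intro h
  exact hr ((IsFractionRing.injective k[X] (RatFunc k)) (by rw [map_zero]; exact h))

lemma hgg (y : (PP ev).primeCompl) : IsUnit (gg ev y) := by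
  apply IsUnit.mk0
  apply gg_ne_zero
  intro h
  exact y.2 h

/-- the specialization map on the local ring. -/
noncomputable def ψ₀ : OO ev →+* RatFunc k := IsLocalization.lift (hgg ev)

lemma ψ₀_algebraMap (r : R) : ψ₀ ev (algebraMap R (OO ev) r) = gg ev r :=
  IsLocalization.lift_eq (hgg ev) r

lemma mem_OO (a s : R) (hs : ev s ≠ 0) : algebraMap R F a * (algebraMap R F s)⁻¹ ∈ OO ev :=
  ⟨a, s, (fun h => hs h), rfl⟩

lemma algebraMap_ne_zero' {s : R} (hs : ev s ≠ 0) : algebraMap R F s ≠ 0 := by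
  intro h
  have : s = 0 := (IsFractionRing.injective R F) (by rw [h, map_zero])
  exact hs (by rw [this, map_zero])

lemma ψ₀_val (a s : R) (hs : ev s ≠ 0) :
    ψ₀ ev ⟨algebraMap R F a * (algebraMap R F s)⁻¹, mem_OO ev a s hs⟩ = gg ev a / gg ev s := by
  rw [eq_div_iff (gg_ne_zero ev hs), ← ψ₀_algebraMap ev s, ← ψ₀_algebraMap ev a, ← map_mul]
  congr 1
  apply Subtype.ext
  change algebraMap R F a * (algebraMap R F s)⁻¹ * algebraMap R F s = algebraMap R F a
  rw [mul_assoc, inv_mul_cancel₀ (algebraMap_ne_zero' ev hs), mul_one]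

lemma constF (d : k) : algebraMap k F d = algebraMap R F (MvPolynomial.C d) := by
  rw [IsScalarTower.algebraMap_apply k R F]; rfl

lemma const_mem (d : k) : algebraMap k F d ∈ OO ev := by
  rw [constF]; exact (OO ev).algebraMap_mem _

lemma ψ₀_const (d : k) : ψ₀ ev ⟨algebraMap k F d, const_mem ev d⟩ = algebraMap k (RatFunc k) d := by
  have h1 : (⟨algebraMap k F d, const_mem ev d⟩ : OO ev) = algebraMap R (OO ev) (MvPolynomial.C d) :=
    Subtype.ext (constF d)
  rw [h1, ψ₀_algebraMap, gg_apply]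
  have : ev (MvPolynomial.C d) = C d := by
    have := ev.commutes d
    exact this
  rw [this]
  rfl

lemma inv_mem_OO (z : OO ev) (hz : ψ₀ ev z ≠ 0) : (z : F)⁻¹ ∈ OO ev := by
  obtain ⟨z, a, s, hs, rfl⟩ := z
  have hs' : ev s ≠ 0 := fun h => hs h
  rw [ψ₀_val ev a s hs'] at hz
  have hga : gg ev a ≠ 0 := fun h => hz (by rw [h, zero_div])
  have hea : ev a ≠ 0 := fun h => hga (by rw [gg_apply, h, map_zero])
  change (algebraMap R F a * (algebraMap R F s)⁻¹)⁻¹ ∈ OO ev
  rw [mul_inv, inv_inv, mul_comm]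
  exact mem_OO ev s a hea

lemma poly_mem' (z : F) (hz : z ∈ OO ev) (r : k[X]) :
    ∃ y : OO ev, (y : F) = aeval z r ∧ ψ₀ ev y = aeval (ψ₀ ev ⟨z, hz⟩) r := by
  induction r using Polynomial.induction_on' with
  | add r₁ r₂ h₁ h₂ =>
    obtain ⟨y₁, e₁, f₁⟩ := h₁
    obtain ⟨y₂, e₂, f₂⟩ := h₂
    refine ⟨y₁ + y₂, ?_, ?_⟩
    · rw [map_add, ← e₁, ← e₂]; rfl
    · rw [map_add, map_add, f₁, f₂]
  | monomial j d =>
    refine ⟨⟨algebraMap k F d, const_mem ev d⟩ * ⟨z, hz⟩ ^ j, ?_, ?_⟩
    · rw [aeval_monomial]; rfl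
    · rw [map_mul, map_pow, ψ₀_const, aeval_monomial]

lemma poly_mem (z : F) (hz : z ∈ OO ev) (r : k[X]) :
    ∃ h : aeval z r ∈ OO ev, ψ₀ ev ⟨aeval z r, h⟩ = aeval (ψ₀ ev ⟨z, hz⟩) r := by
  obtain ⟨y, e, f⟩ := poly_mem' ev z hz r
  have h : aeval z r ∈ OO ev := by rw [← e]; exact y.2
  refine ⟨h, ?_⟩
  rw [← f]
  congr 1
  exact Subtype.ext e.symm


lemma exists_line [Infinite k] (p q : R) (hq : q ≠ 0) (hpq : ∀ d : k, p ≠ MvPolynomial.C d * q) :
    ∃ ev : R →ₐ[k] k[X], ev q ≠ 0 ∧ ∀ d : k, ev p ≠ C d * ev q := by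
  obtain ⟨u, hu⟩ : ∃ u : Fin n → k, MvPolynomial.eval u q ≠ 0 := by
    by_contra h
    push Not at h
    exact hq (MvPolynomial.funext (fun u => by rw [h u, map_zero]))
  have hne : (p - MvPolynomial.C (MvPolynomial.eval u p / MvPolynomial.eval u q) * q) * q ≠ 0 :=
    mul_ne_zero (sub_ne_zero.2 (hpq _)) hq
  obtain ⟨w, hw⟩ : ∃ w : Fin n → k, MvPolynomial.eval w
      ((p - MvPolynomial.C (MvPolynomial.eval u p / MvPolynomial.eval u q) * q) * q) ≠ 0 := by
    by_contra h
    push Not at h
    exact hne (MvPolynomial.funext (fun u => by rw [h u, map_zero]))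
  let ev : R →ₐ[k] k[X] := MvPolynomial.aeval (fun i => C (u i) + C (w i - u i) * X)
  have h0 : ∀ f : R, (ev f).eval 0 = MvPolynomial.eval u f := by
    intro f
    have : (Polynomial.evalRingHom (0 : k)).comp ev.toRingHom = MvPolynomial.eval u := by
      apply MvPolynomial.ringHom_ext
      · intro d; simp [ev]
      · intro i; simp [ev]
    exact congrArg (fun g => g f) this
  have h1 : ∀ f : R, (ev f).eval 1 = MvPolynomial.eval w f := by
    intro f
    have : (Polynomial.evalRingHom (1 : k)).comp ev.toRingHom = MvPolynomial.eval w := by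
      apply MvPolynomial.ringHom_ext
      · intro d; simp [ev]
      · intro i; simp [ev]
    exact congrArg (fun g => g f) this
  refine ⟨ev, ?_, ?_⟩
  · intro h
    apply hu
    rw [← h0, h, eval_zero]
  · intro d hd
    have e0 : MvPolynomial.eval u p = d * MvPolynomial.eval u q := by
      rw [← h0, hd, eval_mul, eval_C, h0]
    have hdc : d = MvPolynomial.eval u p / MvPolynomial.eval u q := by
      rw [e0]; field_simp
    have e1 : MvPolynomial.eval w p = d * MvPolynomial.eval w q := by
      rw [← h1, hd, eval_mul, eval_C, h1]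
    apply hw
    rw [map_mul, map_sub, map_mul, MvPolynomial.eval_C, e1, ← hdc, sub_self, zero_mul]


instance : IsFractionRing (OO ev) F :=
  Localization.subalgebra.isFractionRing_ofField F (PP ev).primeCompl (hS ev)

section Field
variable {K : Type u} [Field K] [Algebra k K] (x : K)
  (φ : K →ₐ[k] FractionRing (MvPolynomial (Fin n) k))

lemma hE_of (hφx : φ x ∈ OO ev) (hξtr : Transcendental k (ψ₀ ev ⟨φ x, hφx⟩)) :
    ∀ z ∈ IntermediateField.adjoin k {x}, φ z ∈ OO ev := by
  intro z hz
  obtain ⟨r, s, rfl⟩ := (IntermediateField.mem_adjoin_simple_iff k z).1 hz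
  rw [map_div₀, ← aeval_algHom_apply, ← aeval_algHom_apply]
  by_cases hs : s = 0
  · rw [hs, map_zero, div_zero]; exact (OO ev).zero_mem
  · obtain ⟨h1, _⟩ := poly_mem ev (φ x) hφx r
    obtain ⟨h2, e2⟩ := poly_mem ev (φ x) hφx s
    have h3 : (aeval (φ x) s)⁻¹ ∈ OO ev := by
      apply inv_mem_OO ev ⟨aeval (φ x) s, h2⟩
      rw [e2]
      intro h0
      exact hs ((transcendental_iff.1 hξtr) s h0)
    rw [div_eq_mul_inv]
    exact (OO ev).mul_mem h1 h3

lemma hK_of (halg : Algebra.IsAlgebraic ↥(IntermediateField.adjoin k {x}) K)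
    (hE : ∀ z ∈ IntermediateField.adjoin k {x}, φ z ∈ OO ev) : ∀ y : K, φ y ∈ OO ev := by
  intro y
  let θE : ↥(IntermediateField.adjoin k {x}) →+* OO ev :=
    (φ.toRingHom.comp (algebraMap ↥(IntermediateField.adjoin k {x}) K)).codRestrict
      (OO ev).toSubring (fun z => hE z.1 z.2)
  have hint : IsIntegral (OO ev) (φ.toRingHom y) :=
    IsIntegral.map_of_comp_eq θE φ.toRingHom (by ext z; rfl) ((halg.isAlgebraic y).isIntegral)
  obtain ⟨w, hw⟩ := (IsIntegrallyClosed.isIntegral_iff (K := F)).1 hint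
  have : φ y = (w : F) := hw.symm
  rw [this]
  exact w.2


include φ in
lemma exists_ψ [Infinite k] (hx : Transcendental k x)
    (halg : Algebra.IsAlgebraic ↥(IntermediateField.adjoin k {x}) K) :
    ∃ ψ : K →ₐ[k] RatFunc k, ¬ ∃ c, ψ x = RatFunc.C c := by
  obtain ⟨p, q, hq, hpq⟩ := IsFractionRing.div_surjective (A := MvPolynomial (Fin n) k) (φ x)
  have hq0 : q ≠ 0 := nonZeroDivisors.ne_zero hq
  have hq1 : algebraMap R F q ≠ 0 := by
    intro h
    exact hq0 ((IsFractionRing.injective R F) (by rw [h, map_zero]))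
  have hpq' : ∀ d : k, p ≠ MvPolynomial.C d * q := by
    intro d h
    apply hx
    have : φ x = φ (algebraMap k K d) := by
      rw [← hpq, h, map_mul, mul_div_assoc, div_self hq1, mul_one, φ.commutes, constF]
    rw [φ.injective this]
    exact isAlgebraic_algebraMap d
  obtain ⟨ev, hevq, hevp⟩ := exists_line p q hq0 hpq'
  have hφxeq : φ x = algebraMap R F p * (algebraMap R F q)⁻¹ := by rw [← hpq, div_eq_mul_inv]
  have hφx : φ x ∈ OO ev := by rw [hφxeq]; exact mem_OO ev p q hevq
  have hξ : ψ₀ ev ⟨φ x, hφx⟩ = gg ev p / gg ev q := by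
    have : (⟨φ x, hφx⟩ : OO ev) = ⟨_, mem_OO ev p q hevq⟩ := Subtype.ext hφxeq
    rw [this, ψ₀_val ev p q hevq]
  have hξC : ¬ ∃ c, ψ₀ ev ⟨φ x, hφx⟩ = RatFunc.C c := by
    rintro ⟨c, hc⟩
    rw [hξ, div_eq_iff (gg_ne_zero ev hevq), gg_apply, gg_apply, ← RatFunc.algebraMap_C,
      ← map_mul] at hc
    exact hevp c (IsFractionRing.injective k[X] (RatFunc k) hc)
  have hξtr := RatFunc.transcendental_of_ne_C _ hξC
  have hK := hK_of ev x φ halg (hE_of ev x φ hφx hξtr)
  let θ : K →+* OO ev := φ.toRingHom.codRestrict (OO ev).toSubring hK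
  let ψ : K →ₐ[k] RatFunc k :=
    { (ψ₀ ev).comp θ with
      commutes' := by
        intro d
        have : θ (algebraMap k K d) = ⟨algebraMap k F d, const_mem ev d⟩ :=
          Subtype.ext (φ.commutes d)
        change ψ₀ ev (θ (algebraMap k K d)) = _
        rw [this, ψ₀_const] }
  exact ⟨ψ, hξC⟩

end Field
end Line



/-- Over an algebraically closed field k, a unirational variety of dimension one is rational. Field
form: let K be a finitely generated field extension of k of transcendence degree one (K is algebraic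
over k(x) for some x ∈ K transcendental over k) admitting a k-embedding into a purely transcendental
extension k(t_1, ..., t_n). Then K = k(t) for some t ∈ K transcendental over k. -/
theorem result (k : Type u) [Field k] [IsAlgClosed k]
    (K : Type u) [Field K] [Algebra k K] (hfg : (⊤ : IntermediateField k K).FG)
    (x : K) (hx : Transcendental k x) (halg : Algebra.IsAlgebraic ↥(IntermediateField.adjoin k {x}) K)
    (n : ℕ) (φ : K →ₐ[k] FractionRing (MvPolynomial (Fin n) k)) :
    ∃ t : K, Transcendental k t ∧ IntermediateField.adjoin k {t} = ⊤ := by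
  obtain ⟨ψ, hψ⟩ := exists_ψ x φ hx halg
  have hEne : ψ.fieldRange ≠ ⊥ := by
    intro h
    have hmem : ψ x ∈ ψ.fieldRange := ⟨x, rfl⟩
    rw [h, IntermediateField.mem_bot] at hmem
    obtain ⟨c, hc⟩ := hmem
    exact hψ ⟨c, by rw [← hc, RatFunc.algebraMap_eq_C]⟩
  have hgen : ψ.fieldRange = IntermediateField.adjoin k {RatFunc.Luroth.generator ψ.fieldRange} :=
    RatFunc.Luroth.eq_adjoin_generator
  have htr := RatFunc.Luroth.transcendental_generator hEne
  obtain ⟨t, ht⟩ : ∃ t, ψ t = RatFunc.Luroth.generator ψ.fieldRange :=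
    RatFunc.Luroth.generator_mem (E := ψ.fieldRange)
  refine ⟨t, ?_, ?_⟩
  · intro halg'
    apply htr
    rw [← ht]
    exact halg'.algHom ψ
  · apply IntermediateField.map_injective ψ
    rw [IntermediateField.adjoin_map, Set.image_singleton, ht, ← hgen, AlgHom.fieldRange_eq_map]

end Groth.Agent.S11238
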