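import Groth.Statements.S11239
import Mathlib
-- import your own Groth.Agent.* helpers here

set_option autoImplicit false
universe u
open AGF

namespace Groth.Agent.S11239

/-- Let X be an m × n matrix over a commutative ring, u an upper triangular n × n matrix with ones on
the diagonal, t a diagonal n × n matrix and p ≤ n. For any choice of p rows, the minor of X·t·u
formed with these rows and the first p columns equals (t_11 ⋯ t_pp) times the corresponding minor of
X: the minors on the first p columns are semi-invariant of weight ω_p under right multiplication by
the upper triangular group. (The published statement is for the generic matrix over an algebraically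
closed field; this row states the identity over any commutative ring.) -/
theorem result (R : Type u) [CommRing R] (m n p : ℕ) (hp : p ≤ n)
    (X : Matrix (Fin m) (Fin n) R) (d : Fin n → R) (u : Matrix (Fin n) (Fin n) R)
    (hu1 : ∀ i, u i i = 1) (hu0 : ∀ i j, j < i → u i j = 0) (I : Fin p → Fin m) :
    ((X * Matrix.diagonal d * u).submatrix I (Fin.castLE hp)).det =
      (∏ i : Fin p, d (Fin.castLE hp i)) * (X.submatrix I (Fin.castLE hp)).det := by
  have key : ∀ (g : Fin n → R), (∀ k : Fin n, p ≤ k.val → g k = 0) →
      ∑ k, g k = ∑ k' : Fin p, g (Fin.castLE hp k') := by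
    intro g hg
    have := Finset.sum_map Finset.univ (Fin.castLEEmb hp) g
    simp only [Fin.castLEEmb_apply] at this
    rw [← this]
    symm
    apply Finset.sum_subset (Finset.subset_univ _)
    intro k _ hk
    apply hg
    by_contra hlt
    push Not at hlt
    apply hk
    rw [Finset.mem_map]
    exact ⟨⟨k.val, hlt⟩, Finset.mem_univ _, Fin.ext rfl⟩
  have hmul : (X * Matrix.diagonal d * u).submatrix I (Fin.castLE hp) =
      X.submatrix I (Fin.castLE hp) *
        (Matrix.diagonal d * u).submatrix (Fin.castLE hp) (Fin.castLE hp) := by
    ext i j
    rw [Matrix.submatrix_apply, Matrix.mul_assoc, Matrix.mul_apply, Matrix.mul_apply]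
    rw [key]
    · rfl
    · intro k hk
      have hlt : Fin.castLE hp j < k := by
        rw [Fin.lt_def]
        simp only [Fin.val_castLE]
        omega
      rw [Matrix.diagonal_mul, hu0 k _ hlt, mul_zero, mul_zero]
  have hB : ((Matrix.diagonal d * u).submatrix (Fin.castLE hp) (Fin.castLE hp)).det =
      ∏ i : Fin p, d (Fin.castLE hp i) := by
    rw [Matrix.det_of_upperTriangular]
    · refine Finset.prod_congr rfl (fun i _ => ?_)
      rw [Matrix.submatrix_apply, Matrix.diagonal_mul, hu1, mul_one]
    · intro i j hij
      simp only [id] at hij
      have hlt : Fin.castLE hp j < Fin.castLE hp i := by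
        rw [Fin.lt_def] at hij ⊢
        simpa only [Fin.val_castLE] using hij
      rw [Matrix.submatrix_apply, Matrix.diagonal_mul, hu0 _ _ hlt, mul_zero]
  rw [hmul, Matrix.det_mul, hB, mul_comm]

end Groth.Agent.S11239
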