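import Groth.Statements.S11240
import Mathlib
-- import your own Groth.Agent.* helpers here

set_option autoImplicit false
universe u
open AGF

namespace Groth.Agent.S11240.Aux

namespace MinorTransv
open Matrix

variable (k : Type u) [Field k] (n m p : ℕ)

/-- the generic matrix. -/
noncomputable abbrev gen : Matrix (Fin n) (Fin m) (MvPolynomial (Fin n × Fin m) k) :=
  Matrix.of fun a c => (MvPolynomial.X (a, c) : MvPolynomial (Fin n × Fin m) k)

/-- a generic minor on injective row and column maps does not vanish. -/
lemma gen_minor_ne_zero (I : Fin p → Fin n) (J : Fin p → Fin m) (hI : Function.Injective I)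
    (hJ : Function.Injective J) : ((gen k n m).submatrix I J).det ≠ 0 := by
  classical
  intro h0
  let ev : MvPolynomial (Fin n × Fin m) k →+* k :=
    MvPolynomial.eval fun ac : Fin n × Fin m => if ∃ s, I s = ac.1 ∧ J s = ac.2 then (1 : k) else 0
  have h1 := congrArg ev h0
  rw [RingHom.map_det, map_zero] at h1
  have h2 : ev.mapMatrix ((gen k n m).submatrix I J) = 1 := by
    ext s t
    simp only [RingHom.mapMatrix_apply, Matrix.map_apply, Matrix.submatrix_apply, Matrix.of_apply,
      ev, MvPolynomial.eval_X, Matrix.one_apply]
    by_cases hst : s = t
    · subst hst
      rw [if_pos ⟨s, rfl, rfl⟩, if_pos rfl]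
    · rw [if_neg hst, if_neg]
      rintro ⟨s', hs1, hs2⟩
      exact hst ((hI hs1).symm.trans (hJ hs2))
  rw [h2, Matrix.det_one] at h1
  exact one_ne_zero h1

theorem main (i j : Fin n) (hij : i ≠ j) (I : Fin p ↪o Fin n) (J : Fin p ↪o Fin m) :
    (∀ b : k, ((Matrix.transvection i j (MvPolynomial.C b) * gen k n m).submatrix I J).det =
        ((gen k n m).submatrix I J).det) ↔
      (i ∈ Set.range I → j ∈ Set.range I) := by
  classical
  have hentry : ∀ (b : k) (a : Fin n) (c : Fin m),
      (Matrix.transvection i j (MvPolynomial.C b : MvPolynomial (Fin n × Fin m) k) * gen k n m :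
        Matrix (Fin n) (Fin m) (MvPolynomial (Fin n × Fin m) k)) a c =
        gen k n m a c + if a = i then MvPolynomial.C b * gen k n m j c else 0 := by
    intro b a c
    unfold Matrix.transvection
    rw [Matrix.add_mul, Matrix.one_mul, Matrix.add_apply]
    congr 1
    by_cases ha : a = i
    · subst ha
      rw [if_pos rfl, Matrix.single_mul_apply_same]
    · rw [if_neg ha]
      simp [Matrix.mul_apply, Ne.symm ha]
  by_cases hi : i ∈ Set.range I
  · obtain ⟨s₀, hs₀⟩ := hi
    have hdet : ∀ b : k,
        ((Matrix.transvection i j (MvPolynomial.C b) * gen k n m).submatrix I J).det =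
          ((gen k n m).submatrix I J).det +
            MvPolynomial.C b * ((gen k n m).submatrix (Function.update I s₀ j) J).det := by
      intro b
      have e1 : (Matrix.transvection i j (MvPolynomial.C b) * gen k n m).submatrix I J =
          Matrix.updateRow ((gen k n m).submatrix I J) s₀
            (((gen k n m).submatrix I J) s₀ + (MvPolynomial.C b : MvPolynomial (Fin n × Fin m) k) •
              (fun t => gen k n m j (J t) : Fin p → MvPolynomial (Fin n × Fin m) k)) := by
        refine Matrix.ext fun s t => ?_
        have h1 := hentry b (I s) (J t)
        by_cases hs : s = s₀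
        · subst hs
          rw [Matrix.updateRow_self]
          rw [if_pos hs₀] at h1
          refine h1.trans ?_
          simp
        · rw [Matrix.updateRow_ne hs]
          rw [if_neg (fun h => hs (I.injective (h.trans hs₀.symm))), add_zero] at h1
          exact h1
      have e2 : Matrix.updateRow ((gen k n m).submatrix I J) s₀ (fun t => gen k n m j (J t)) =
          (gen k n m).submatrix (Function.update I s₀ j) J := by
        refine Matrix.ext fun s t => ?_
        by_cases hs : s = s₀
        · subst hs
          rw [Matrix.updateRow_self, Matrix.submatrix_apply, Function.update_self]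
        · rw [Matrix.updateRow_ne hs, Matrix.submatrix_apply, Matrix.submatrix_apply,
            Function.update_of_ne hs]
      rw [e1, Matrix.det_updateRow_add, Matrix.det_updateRow_smul, Matrix.updateRow_eq_self, e2]
    constructor
    · intro h _
      by_contra hj
      have hinj : Function.Injective (Function.update (I : Fin p → Fin n) s₀ j) := by
        intro s t hst
        by_cases hs : s = s₀
        · by_cases ht : t = s₀
          · rw [hs, ht]
          · rw [hs, Function.update_self, Function.update_of_ne ht] at hst
            exact absurd ⟨t, hst.symm⟩ hj
        · by_cases ht : t = s₀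
          · rw [ht, Function.update_self, Function.update_of_ne hs] at hst
            exact absurd ⟨s, hst⟩ hj
          · rw [Function.update_of_ne hs, Function.update_of_ne ht] at hst
            exact I.injective hst
      have h1 := h 1
      rw [hdet, map_one, one_mul] at h1
      have h2 : ((gen k n m).submatrix (Function.update (I : Fin p → Fin n) s₀ j) J).det = 0 := by
        have := h1
        rwa [add_eq_left] at this
      exact gen_minor_ne_zero k n m p _ J hinj J.injective h2
    · intro h b
      obtain ⟨s₁, hs₁⟩ := h ⟨s₀, hs₀⟩
      have hne : s₁ ≠ s₀ := by
        intro h'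
        rw [h'] at hs₁
        exact hij (hs₀.symm.trans hs₁)
      rw [hdet]
      have h2 : ((gen k n m).submatrix (Function.update (I : Fin p → Fin n) s₀ j) J).det = 0 := by
        refine Matrix.det_zero_of_row_eq hne ?_
        funext t
        rw [Matrix.submatrix_apply, Matrix.submatrix_apply, Function.update_of_ne hne,
          Function.update_self, hs₁]
      rw [h2, mul_zero, add_zero]
  · constructor
    · intro _ h
      exact absurd h hi
    · intro _ b
      congr 1
      refine Matrix.ext fun s t => ?_
      have h1 := hentry b (I s) (J t)
      rw [if_neg (fun h => hi ⟨s, h⟩), add_zero] at h1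
      exact h1

end MinorTransv

end Groth.Agent.S11240.Aux

namespace Groth.Agent.S11240

/-- For a single root subgroup: let k be an algebraically closed field and X = (x_ab) the generic n × m
matrix over the polynomial ring k[x_ab]. Let i ≠ j be row indices and let I (rows) and J (columns)
be strictly increasing sequences of length p. The minor of X with rows I and columns J is invariant
under replacing X by (1 + b·E_ij)·X for every b ∈ k (the one-parameter unipotent group adding b
times row j to row i) if and only if j occurs in I whenever i does. (The published statement gives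
the criterion for the group generated by several such root subgroups, which is the conjunction of
these.) -/
theorem result (k : Type u) [Field k] [IsAlgClosed k] (n m p : ℕ)
    (i j : Fin n) (hij : i ≠ j) (I : Fin p ↪o Fin n) (J : Fin p ↪o Fin m) :
    (∀ b : k, ((Matrix.transvection i j (MvPolynomial.C b) *
        (Matrix.of fun a c => (MvPolynomial.X (a, c) : MvPolynomial (Fin n × Fin m) k))).submatrix I J).det =
        ((Matrix.of fun a c => (MvPolynomial.X (a, c) : MvPolynomial (Fin n × Fin m) k)).submatrix I J).det) ↔
      (i ∈ Set.range I → j ∈ Set.range I) := by
  exact Aux.MinorTransv.main k n m p i j hij I J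

end Groth.Agent.S11240
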