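import Groth.Statements.S2955
import Groth.Agent.Lib.Helper8Weyl
import Mathlib.LinearAlgebra.RootSystem.Base

set_option autoImplicit false
open RootPairing
open scoped Pointwise Classical
universe u
open RootD

namespace Groth.Agent.S2955

/-- Let P be a finite crystallographic reduced root pairing over a domain of characteristic zero, with a
base b, and write 2ρ for the sum of the positive roots with respect to b. Then for every simple root
β (an index in the support of b) the reflection in β sends 2ρ to 2ρ − 2β (equivalently, the coroot
of β pairs to 1 with ρ; only the reflection identity is asserted). -/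
theorem result {ι R M N : Type*} [CommRing R] [CharZero R] [IsDomain R] [AddCommGroup M] [Module R M]
    [AddCommGroup N] [Module R N] (P : RootPairing ι R M N) [Finite ι] [P.IsCrystallographic] [P.IsReduced]
    [Fintype ι] (b : P.Base) (j : ι) (hj : j ∈ b.support) :
    P.reflection j (∑ i, if b.IsPos i then P.root i else 0) =
      (∑ i, if b.IsPos i then P.root i else 0) - (2 : R) • P.root j := by
  classical
  have hjpos : b.IsPos j := RootPairing.Base.isPos_of_mem_support hj
  have hnegj : ¬ b.IsPos (P.reflectionPerm j j) := by
    intro h
    exact (RootPairing.Base.IsPos.neg_iff_not b j).mp h hjpos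
  -- the set of positive indices other than `j` is stable under the reflection
  have hstab : ∀ i : ι, (b.IsPos i ∧ i ≠ j) → (b.IsPos (P.reflectionPerm j i) ∧
      P.reflectionPerm j i ≠ j) := by
    rintro i ⟨hi, hij⟩
    refine ⟨hi.reflectionPerm hj hij, fun h => ?_⟩
    have : i = P.reflectionPerm j j := by
      have h' := congrArg (P.reflectionPerm j) h
      rw [← h']
      apply P.root.injective
      simp
    rw [this] at hi
    exact hnegj hi
  have hiff : ∀ i : ι, (b.IsPos i ∧ i ≠ j) ↔ (b.IsPos (P.reflectionPerm j i) ∧
      P.reflectionPerm j i ≠ j) := by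
    intro i
    refine ⟨hstab i, fun h => ?_⟩
    have := hstab _ h
    have hinv : P.reflectionPerm j (P.reflectionPerm j i) = i := by
      apply P.root.injective
      simp
    rwa [hinv] at this
  -- split off the index `j`
  have hsplit : ∀ f : ι → M, (∑ i, if b.IsPos i then f i else 0) =
      (∑ i, if b.IsPos i ∧ i ≠ j then f i else 0) + f j := by
    intro f
    rw [← Finset.add_sum_erase _ _ (Finset.mem_univ j), ← Finset.add_sum_erase (a := j) _
      (fun i => if b.IsPos i ∧ i ≠ j then f i else 0) (Finset.mem_univ j)]
    simp only [hjpos, if_true, ne_eq, not_true_eq_false, and_false, if_false, zero_add]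
    rw [add_comm]
    congr 1
    refine Finset.sum_congr rfl fun i hi => ?_
    have : i ≠ j := Finset.ne_of_mem_erase hi
    simp [this]
  rw [map_sum]
  have h1 : ∀ i, P.reflection j (if b.IsPos i then P.root i else 0) =
      if b.IsPos i then P.root (P.reflectionPerm j i) else 0 := by
    intro i
    split_ifs
    · rw [RootPairing.root_reflectionPerm]
    · rw [map_zero]
  simp_rw [h1]
  rw [hsplit (fun i => P.root (P.reflectionPerm j i)), hsplit (fun i => P.root i)]
  have h2 : (∑ i, if b.IsPos i ∧ i ≠ j then P.root (P.reflectionPerm j i) else 0) =
      ∑ i, if b.IsPos i ∧ i ≠ j then P.root i else 0 := by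
    rw [← Equiv.sum_comp (P.reflectionPerm j) (fun i => if b.IsPos i ∧ i ≠ j then P.root i else 0)]
    refine Finset.sum_congr rfl fun i _ => ?_
    by_cases h : b.IsPos i ∧ i ≠ j
    · rw [if_pos h, if_pos ((hiff i).mp h)]
    · rw [if_neg h, if_neg (fun h' => h ((hiff i).mpr h'))]
  rw [h2]
  simp only [RootPairing.root_reflectionPerm, RootPairing.reflection_apply_self]
  rw [two_smul]
  abel

end Groth.Agent.S2955
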