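import Groth.Statements.S11243
import Groth.Agent.Lib.Helper8Root8
import Mathlib.LinearAlgebra.RootSystem.Base
import Groth.Agent.S2955

set_option autoImplicit false
universe u v w
open RootD

namespace Groth.Agent.S11243

/-- (b), for a connected group, as a statement about its root datum: let P be a finite reduced
crystallographic root pairing over ℤ with weight lattice M, and b a base of P (simple roots,
determining the positive roots). Then there is an additive map h : M → ℤ which is positive on every
positive root (so that h strictly increases along the dominance order) and non-negative on every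
dominant weight, i.e. on every ω ∈ M pairing non-negatively with all simple coroots. (Part (c),
invariance under the component group of a disconnected group, is not stated.) -/
theorem result {ι : Type u} {M : Type v} {N : Type w}
    [Fintype ι] [AddCommGroup M] [AddCommGroup N]
    (P : RootPairing ι ℤ M N) [P.IsReduced] [P.IsCrystallographic] (b : P.Base) :
    ∃ h : M →+ ℤ, (∀ i : ι, b.IsPos i → 0 < h (P.root i)) ∧
      ∀ ω : M, (∀ j ∈ b.support, 0 ≤ P.toLinearMap ω (P.coroot j)) → 0 ≤ h ω := by
  classical
  open Groth.Agent.Lib.Helper8 in
  set rho2 : M := ∑ i, if b.IsPos i then P.root i else 0 with hrho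
  -- value on simple roots
  have hsimple : ∀ k ∈ b.support, P.RootForm rho2 (P.root k) =
      P.RootForm (P.root k) (P.root k) := by
    intro k hk
    have h1 := Groth.Agent.S2955.result P b k hk
    have h2 := P.rootForm_reflection_reflection_apply k rho2 (P.root k)
    rw [show (∑ i, if b.IsPos i then P.root i else 0) = rho2 from rfl] at h1
    rw [h1, RootPairing.reflection_apply_self, map_neg, map_sub, LinearMap.sub_apply,
      map_smul, LinearMap.smul_apply] at h2
    simp only [smul_eq_mul] at h2
    linarith
  -- half of the pairing with a coroot
  have hhalf : ∀ (j : ι) (ω : M), 2 * P.RootForm (P.root j) ω =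
      P.RootForm (P.root j) (P.root j) * P.toLinearMap ω (P.coroot j) := by
    intro j ω
    have h1 := P.rootForm_self_smul_coroot j
    have h2 := congrArg (fun n => P.toLinearMap ω n) h1
    simp only [map_smul, smul_eq_mul, map_nsmul, RootPairing.toLinearMap_apply_apply_Polarization]
      at h2
    rw [h2]; simp
  refine ⟨(P.RootForm rho2).toAddMonoidHom, fun i hi => ?_, fun ω hω => ?_⟩
  · show 0 < P.RootForm rho2 (P.root i)
    refine hi.induction_on_add (p := fun i => 0 < P.RootForm rho2 (P.root i)) ?_ ?_
    · intro k hk
      rw [hsimple k hk]
      exact rootForm_root_pos P k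
    · intro i j k hk hi hj
      rw [hk, map_add, hsimple j hj]
      have := rootForm_root_pos P j
      linarith
  · show 0 ≤ P.RootForm rho2 ω
    rw [hrho, map_sum, LinearMap.sum_apply]
    refine Finset.sum_nonneg fun i _ => ?_
    split_ifs with hi
    · refine hi.induction_on_add (p := fun i => 0 ≤ P.RootForm (P.root i) ω) ?_ ?_
      · intro k hk
        have h1 := hhalf k ω
        have h2 := rootForm_root_pos P k
        have h3 := mul_nonneg h2.le (hω k hk)
        linarith
      · intro i j k hk hi hj
        rw [hk, map_add, LinearMap.add_apply]
        have h1 := hhalf j ω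
        have h2 := rootForm_root_pos P j
        have h3 := mul_nonneg h2.le (hω j hj)
        linarith
    · simp

end Groth.Agent.S11243
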