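import Groth.Statements.S11249
import Mathlib
import Groth.Agent.Lib.Helper24Grass2
-- import your own Groth.Agent.* helpers here

set_option autoImplicit false
universe u
open W4bk4grassmannian

namespace Groth.Agent.S11249.Aux

namespace PluckInj
open W4bk4grassmannian

variable (K : Type u) [Field K] (d n : ℕ)

/-- the matrix `A` with one more column `w`. -/
def aug (A : Matrix (Fin n) (Fin d) K) (w : Fin n → K) : Matrix (Fin n) (Fin (d + 1)) K :=
  fun i => Fin.snoc (α := fun _ => K) (A i) (w i)

lemma aug_transpose (A : Matrix (Fin n) (Fin d) K) (w : Fin n → K) :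
    (aug K d n A w).transpose = Fin.snoc (α := fun _ => Fin n → K) A.transpose w := by
  funext j i
  refine Fin.lastCases ?_ (fun j => ?_) j
  · simp [aug, Matrix.transpose]
  · simp [aug, Matrix.transpose]

lemma indep_of_minor {m : ℕ} (M : Matrix (Fin n) (Fin m) K) (σ : Fin m → Fin n)
    (h : (M.submatrix σ id).det ≠ 0) : LinearIndependent K M.transpose := by
  have hu : IsUnit (M.submatrix σ id) := (Matrix.isUnit_iff_isUnit_det _).mpr (IsUnit.mk0 _ h)
  have h1 := Matrix.linearIndependent_cols_iff_isUnit.mpr hu
  refine LinearIndependent.of_comp (LinearMap.funLeft K K σ) ?_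
  convert h1 using 1
  funext j i
  simp [Matrix.col, LinearMap.funLeft_apply]

lemma mem_span_iff (A : Matrix (Fin n) (Fin d) K) (hA : LinearIndependent K A.transpose)
    (w : Fin n → K) :
    w ∈ Submodule.span K (Set.range A.transpose) ↔
      ∀ σ : Idx (d + 1) n, ((aug K d n A w).submatrix σ.1 id).det = 0 := by
  constructor
  · intro hw σ
    by_contra hne
    have h1 := indep_of_minor K n (aug K d n A w) σ.1 hne
    rw [aug_transpose, linearIndependent_finSnoc] at h1
    exact h1.2 hw
  · intro hall
    by_contra hw
    have h1 : LinearIndependent K (aug K d n A w).transpose := by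
      rw [aug_transpose, linearIndependent_finSnoc]
      exact ⟨hA, hw⟩
    obtain ⟨σ, hσ⟩ := Groth.Agent.Lib.Helper24Grass2.exists_minor_ne_zero _ h1
    exact hσ (hall σ)

lemma det_aug (A : Matrix (Fin n) (Fin d) K) (w : Fin n → K) (σ : Fin (d + 1) → Fin n) :
    ((aug K d n A w).submatrix σ id).det =
      ∑ i : Fin (d + 1), (-1) ^ (i + d : ℕ) * w (σ i) *
        (A.submatrix (σ ∘ i.succAbove) id).det := by
  rw [Matrix.det_succ_column _ (Fin.last d)]
  refine Finset.sum_congr rfl fun i _ => ?_
  have e1 : (aug K d n A w).submatrix σ id i (Fin.last d) = w (σ i) := by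
    simp [aug]
  have e2 : ((aug K d n A w).submatrix σ id).submatrix i.succAbove (Fin.last d).succAbove =
      A.submatrix (σ ∘ i.succAbove) id := by
    funext a b
    simp [aug, Fin.succAbove_last]
  rw [e1, e2]
  simp

theorem main (A A' : Matrix (Fin n) (Fin d) K) (hA : LinearIndependent K A.transpose)
    (hA' : LinearIndependent K A'.transpose) (c : K) (hc : c ≠ 0)
    (h : ∀ θ : Idx d n, (A.submatrix θ.1 id).det = c * (A'.submatrix θ.1 id).det) :
    Submodule.span K (Set.range A.transpose) = Submodule.span K (Set.range A'.transpose) := by
  have key : ∀ (w : Fin n → K) (σ : Idx (d + 1) n),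
      ((aug K d n A w).submatrix σ.1 id).det = c * ((aug K d n A' w).submatrix σ.1 id).det := by
    intro w σ
    rw [det_aug, det_aug, Finset.mul_sum]
    refine Finset.sum_congr rfl fun i _ => ?_
    have := h ⟨σ.1 ∘ i.succAbove, σ.2.comp (Fin.strictMono_succAbove i)⟩
    simp only at this
    rw [this]
    ring
  ext w
  rw [mem_span_iff K d n A hA, mem_span_iff K d n A' hA']
  constructor
  · intro hw σ
    have := hw σ
    rw [key] at this
    exact (mul_eq_zero.mp this).resolve_left hc
  · intro hw σ
    rw [key, hw σ, mul_zero]

end PluckInj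

end Groth.Agent.S11249.Aux

namespace Groth.Agent.S11249

open W4bk4grassmannian in
/-- Injectivity of the Plücker map, in matrix form: let K be a field, A and A' two n × d matrices over K
with linearly independent columns, and suppose there is a nonzero scalar c with det A_θ = c · det
A'_θ for every strictly increasing d-tuple θ of row indices (A_θ the d × d submatrix on the rows θ).
Then the columns of A and of A' span the same subspace of K^n. (The published statement is over an
algebraically closed field; this row allows any field K.) -/
theorem result (K : Type u) [Field K] (d n : ℕ)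
    (A A' : Matrix (Fin n) (Fin d) K) (hA : LinearIndependent K A.transpose)
    (hA' : LinearIndependent K A'.transpose) (c : K) (hc : c ≠ 0)
    (h : ∀ θ : Idx d n, (A.submatrix θ.1 id).det = c * (A'.submatrix θ.1 id).det) :
    Submodule.span K (Set.range A.transpose) = Submodule.span K (Set.range A'.transpose) := by
  exact Aux.PluckInj.main K d n A A' hA hA' c hc h

end Groth.Agent.S11249
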