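import Groth.Statements.S1125
import Groth.Agent.Lib.Helper12Descent
import Groth.Agent.Lib.Helper12PullbackPts
import Mathlib.AlgebraicGeometry.Morphisms.Immersion
import Mathlib.AlgebraicGeometry.Morphisms.UniversallyOpen

set_option autoImplicit false
open CategoryTheory CategoryTheory.Limits AlgebraicGeometry Opposite
universe u
open Desc

namespace Groth.Agent.S1125

/-- If the base change of a morphism along a flat, surjective morphism locally of finite presentation is
an immersion, then the morphism is an immersion. (Single-cover form of the fppf-local statement;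
Zariski-locality on the target gives the covering form.) -/
theorem result :
    MorphismProperty.DescendsAlong (@IsImmersion : MorphismProperty Scheme.{u})
      (@Surjective ⊓ @Flat ⊓ @LocallyOfFinitePresentation : MorphismProperty Scheme.{u}) := by
  constructor
  intro A X Y Z fst snd f g h hf hfst
  obtain ⟨⟨hf1, hf2⟩, hf3⟩ := hf
  have hf1 : Surjective f := hf1
  have hf2 : Flat f := hf2
  have hf3 : LocallyOfFinitePresentation f := hf3
  have hfst : IsImmersion fst := hfst
  -- `f` is an open quotient map
  have hopen : IsOpenMap f := f.isOpenMap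
  have hquot : Topology.IsQuotientMap f := hopen.isQuotientMap f.continuous f.surjective
  -- range of `fst`
  have hrange : Set.range fst = f ⁻¹' (Set.range g) := by
    ext x
    constructor
    · rintro ⟨a, rfl⟩
      exact ⟨snd a, by rw [← Scheme.Hom.comp_apply, ← h.w, Scheme.Hom.comp_apply]⟩
    · rintro ⟨y, hy⟩
      obtain ⟨a, ha, -⟩ := Groth.Agent.Lib.Helper12.exists_preimage_of_isPullback h x y hy.symm
      exact ⟨a, ha⟩
  have hcob : f ⁻¹' (coborder (Set.range g)) = coborder (Set.range fst) := by
    rw [hrange, coborder_preimage hopen f.continuous]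
  have hUopen : IsOpen (coborder (Set.range g)) := by
    rw [← hquot.isOpen_preimage, hcob]
    exact fst.isLocallyClosed_range.isOpen_coborder
  let U : Z.Opens := ⟨coborder (Set.range g), hUopen⟩
  have hgU : Set.range g.base ⊆ Set.range U.ι.base := by
    rw [Scheme.Opens.range_ι]
    exact subset_coborder
  let g' : Y ⟶ U := IsOpenImmersion.lift U.ι g hgU
  have hg' : g' ≫ U.ι = g := IsOpenImmersion.lift_fac _ _ _
  have hfstU : Set.range fst.base ⊆ Set.range (f ⁻¹ᵁ U).ι.base := by
    rw [Scheme.Opens.range_ι]
    change Set.range fst ⊆ f ⁻¹' (coborder (Set.range g))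
    rw [hcob]
    exact subset_coborder
  let fst' : A ⟶ (f ⁻¹ᵁ U) := IsOpenImmersion.lift (f ⁻¹ᵁ U).ι fst hfstU
  have hfst' : fst' ≫ (f ⁻¹ᵁ U).ι = fst := IsOpenImmersion.lift_fac _ _ _
  have hcomm : snd ≫ g' = fst' ≫ (f ∣_ U) := by
    rw [← cancel_mono U.ι, Category.assoc, hg', Category.assoc, morphismRestrict_ι,
      reassoc_of% hfst', h.w]
  have hbig : IsPullback snd (fst' ≫ (f ⁻¹ᵁ U).ι) (g' ≫ U.ι) f := by
    rw [hfst', hg']; exact h.flip
  have htop : IsPullback snd fst' g' (f ∣_ U) :=
    IsPullback.of_bot hbig hcomm (isPullback_morphismRestrict f U)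
  -- `fst'` is a closed immersion
  have hpre : IsPreimmersion fst' := by
    have : IsPreimmersion (fst' ≫ (f ⁻¹ᵁ U).ι) := by rw [hfst']; infer_instance
    exact IsPreimmersion.of_comp fst' (f ⁻¹ᵁ U).ι
  have hclosed : IsClosed (Set.range fst') := by
    have h1 : Set.range fst' = (f ⁻¹ᵁ U).ι ⁻¹' (Set.range fst) := by
      ext x
      constructor
      · rintro ⟨a, rfl⟩
        exact ⟨a, by rw [← hfst', Scheme.Hom.comp_apply]⟩
      · rintro ⟨a, ha⟩
        refine ⟨a, (f ⁻¹ᵁ U).ι.injective ?_⟩
        rw [← Scheme.Hom.comp_apply, hfst', ha]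
    rw [h1, (f ⁻¹ᵁ U).ι.isEmbedding.isInducing.isClosed_iff]
    refine ⟨closure (Set.range fst), isClosed_closure, ?_⟩
    ext x
    constructor
    · intro hx
      have hx1 : (f ⁻¹ᵁ U).ι x ∈ coborder (Set.range fst) := by
        rw [← hcob]; exact x.2
      have : (f ⁻¹ᵁ U).ι x ∈ coborder (Set.range fst) ∩ closure (Set.range fst) := ⟨hx1, hx⟩
      rwa [coborder_inter_closure] at this
    · intro hx
      exact subset_closure hx
  have hci : IsClosedImmersion fst' := IsClosedImmersion.of_isPreimmersion fst' hclosed
  -- descend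
  have hfU : (@Surjective ⊓ @Flat ⊓ @LocallyOfFinitePresentation : MorphismProperty Scheme.{u})
      (f ∣_ U) :=
    ⟨⟨MorphismProperty.of_isPullback (P := @Surjective) (isPullback_morphismRestrict f U).flip hf1,
      inferInstanceAs (Flat (f ∣_ U))⟩,
      MorphismProperty.of_isPullback (P := @LocallyOfFinitePresentation)
        (isPullback_morphismRestrict f U).flip hf3⟩
  have hdesc := Groth.Agent.Lib.Helper12.descendsAlong_isClosedImmersion.{u}
  have hg'ci : IsClosedImmersion g' :=
    (inferInstance : MorphismProperty.DescendsAlong (@IsClosedImmersion :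
      MorphismProperty Scheme.{u})
      (@Surjective ⊓ @Flat ⊓ @LocallyOfFinitePresentation)).of_isPullback htop.flip hfU hci
  change IsImmersion g
  rw [← hg']
  infer_instance

end Groth.Agent.S1125
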