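import Groth.Statements.S11252
import Groth.Agent.Lib.Helper25GrassSMT

set_option autoImplicit false
universe u
open W4bk4grassmannian

namespace Groth.Agent.S11252

open W4bk4grassmannian in
/-- Standard monomial basis for a union of Schubert varieties: let K be an algebraically closed field, 0
< d < n, and I(d,n) the strictly increasing maps Fin d → Fin n ordered entrywise; S = K[X_θ : θ ∈
I(d,n)] is the Plücker polynomial ring and, for τ ∈ I(d,n), J(τ) ⊆ S is the ideal of polynomials
vanishing at the d × d row-minors of every n × d matrix over K whose minors on rows φ ≰ τ are zero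
(the homogeneous ideal of the Schubert variety X(τ) ⊆ G(d,n)). Let τ_1, …, τ_r ∈ I(d,n) and let J =
⋂_i J(τ_i) be the homogeneous ideal of the union ⋃_i X(τ_i). Then the classes in S/J of the
monomials X_{θ_1} ⋯ X_{θ_m} (m ≥ 0) along chains θ_1 ≥ ⋯ ≥ θ_m all of whose members lie below some
τ_i are linearly independent over K and span S/J. -/
theorem result (K : Type u) [Field K] [IsAlgClosed K] (d n : ℕ)
    (hd : 0 < d) (hdn : d < n) (r : ℕ) (τs : Fin r → Idx d n) :
    LinearIndependent K (fun c : (Σ m : ℕ, {c : Fin m → Idx d n // Antitone c ∧ ∃ i, ∀ k, c k ≤ τs i}) =>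
        Ideal.Quotient.mk (⨅ i, schubertVanishing K d n (τs i)) (chainMon K c.2.1)) ∧
      Submodule.span K (Set.range fun c : (Σ m : ℕ, {c : Fin m → Idx d n // Antitone c ∧ ∃ i, ∀ k, c k ≤ τs i}) =>
        Ideal.Quotient.mk (⨅ i, schubertVanishing K d n (τs i)) (chainMon K c.2.1)) = ⊤ := by
  classical
  set J := ⨅ i, schubertVanishing K d n (τs i) with hJ
  have hsm : ∀ (b : K) (p : PlRing K d n),
      b • Ideal.Quotient.mk J p = Ideal.Quotient.mk J (b • p) := by
    intro b p
    exact (map_smul (Ideal.Quotient.mkₐ K J) b p).symm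
  constructor
  · rw [linearIndependent_iff']
    intro s g hsum i hi
    have hmem : ∑ c ∈ s, g c • chainMon K c.2.1 ∈ J := by
      rw [← Ideal.Quotient.eq_zero_iff_mem, map_sum, ← hsum]
      apply Finset.sum_congr rfl
      intro c _
      rw [hsm]
    obtain ⟨j, hj⟩ := i.2.2.2
    have hle : J ≤ schubertVanishing K d n (τs j) := iInf_le _ j
    have hmemj : ∑ c ∈ s, g c • chainMon K c.2.1 ∈ schubertVanishing K d n (τs j) := hle hmem
    refine Groth.Agent.Lib.Helper25.Grass.core_indep K hd (τs j)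
      (fun c : (Σ m : ℕ, {c : Fin m → Idx d n // Antitone c ∧ ∃ i, ∀ k, c k ≤ τs i}) => c.1)
      (fun c => c.2.1) (fun c => c.2.2.1) ?_ s g hmemj i hi hj
    intro i i' h
    rcases i with ⟨m, c, hc⟩
    rcases i' with ⟨m', c', hc'⟩
    simp only [Sigma.mk.injEq] at h
    obtain ⟨rfl, h⟩ := h
    rw [heq_eq_eq] at h
    subst h
    rfl
  · rw [eq_top_iff]
    rintro q -
    obtain ⟨F, rfl⟩ := Ideal.Quotient.mk_surjective q
    obtain ⟨s, a, hs, hFs⟩ := Groth.Agent.Lib.Helper25.Grass.straighten K J
      (le_iInf fun i => Groth.Agent.Lib.Helper25.Grass.plIdealTop_le_schubert K (τs i))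
      (fun c => ∃ i, ∀ k, c.2.1 k ≤ τs i) (by
        intro c hc
        push Not at hc
        rw [hJ, Ideal.mem_iInf]
        intro i
        obtain ⟨k, hk⟩ := hc i
        exact Groth.Agent.Lib.Helper25.Grass.chainMon_mem_of_mem K _ c.2.1 k
          (Groth.Agent.Lib.Helper25.Grass.X_mem_schubert K (τs i) _ hk)) F
    rw [← Ideal.Quotient.mk_eq_mk_iff_sub_mem] at hFs
    rw [hFs, map_sum]
    refine Submodule.sum_mem _ (fun c hc => ?_)
    rw [← hsm]
    refine Submodule.smul_mem _ _ (Submodule.subset_span ?_)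
    exact ⟨⟨c.1, ⟨c.2.1, c.2.2, hs c hc⟩⟩, rfl⟩

end Groth.Agent.S11252
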