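import Groth.Statements.S11253
import Groth.Agent.Lib.Helper25GrassSMT

set_option autoImplicit false
universe u
open W4bk4grassmannian

namespace Groth.Agent.S11253

open W4bk4grassmannian in
/-- Intersections of Schubert varieties are reduced: let K be an algebraically closed field, 0 < d < n,
and I(d,n) the strictly increasing maps Fin d → Fin n ordered entrywise; S = K[X_θ : θ ∈ I(d,n)] is
the Plücker polynomial ring and, for τ ∈ I(d,n), J(τ) ⊆ S is the ideal of polynomials vanishing at
the d × d row-minors of every n × d matrix over K whose minors on rows φ ≰ τ are zero (the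
homogeneous ideal of the Schubert variety X(τ) ⊆ G(d,n)). Then for all w₁, w₂ ∈ I(d,n) the ideal
J(w₁) + J(w₂) of S is radical. -/
theorem result (K : Type u) [Field K] [IsAlgClosed K] (d n : ℕ)
    (hd : 0 < d) (hdn : d < n) (w₁ w₂ : Idx d n) :
    (schubertVanishing K d n w₁ ⊔ schubertVanishing K d n w₂).IsRadical := by
  have h : schubertVanishing K d n w₁ ⊔ schubertVanishing K d n w₂ =
      schubertVanishing K d n (W4bk4grassmannian.inf w₁ w₂) := by
    apply le_antisymm
    · exact sup_le
        (Groth.Agent.Lib.Helper25.Grass.schubert_antitone K (fun t => min_le_left _ _))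
        (Groth.Agent.Lib.Helper25.Grass.schubert_antitone K (fun t => min_le_right _ _))
    · rw [← Groth.Agent.Lib.Helper25.Grass.plIdeal_eq_schubert K hd]
      unfold plIdeal
      rw [Ideal.span_le]
      rintro f (⟨i, j, r, _, rfl⟩ | ⟨φ, hφ, rfl⟩)
      · exact Ideal.mem_sup_left (Groth.Agent.Lib.Helper25.Grass.shuffleRel_mem_schubert K w₁ i j r)
      · by_cases h1 : φ ≤ w₁
        · have h2 : ¬ φ ≤ w₂ := fun h2 => hφ (fun t => le_min (h1 t) (h2 t))
          exact Ideal.mem_sup_right (Groth.Agent.Lib.Helper25.Grass.X_mem_schubert K w₂ φ h2)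
        · exact Ideal.mem_sup_left (Groth.Agent.Lib.Helper25.Grass.X_mem_schubert K w₁ φ h1)
  rw [h]
  exact Groth.Agent.Lib.Helper25.Grass.schubert_isRadical K _

end Groth.Agent.S11253
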