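import Groth.Statements.S11257
import Groth.Agent.Lib.Helper28RegSeqExact
import Groth.Agent.Lib.Helper28DepthLoc
-- import your own Groth.Agent.* helpers here

set_option autoImplicit false
universe u
open W4bk4grassmannian

namespace Groth.Agent.S11257
open Groth.Agent.Lib.Helper28

/-- Let A be a Noetherian local integral domain with maximal ideal m, I and J ideals of A, d ≥ 1, and
f_1, …, f_d ∈ m. Assume depth A/(I+J) ≥ d - 1, depth A/I ≥ d and depth A/J ≥ d (depths of the
quotients as A-modules), that f_1, …, f_d is a regular sequence on A/I and on A/J, and that f_1, …,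
f_{d-1} is a regular sequence on A/(I+J). Then f_1, …, f_d is a regular sequence on A/(I ∩ J). -/
theorem result (A : Type u) [CommRing A] [IsDomain A]
    [IsNoetherianRing A] [IsLocalRing A] (I J : Ideal A) (d : ℕ) (hd : 0 < d) (f : Fin d → A)
    (hf : ∀ k, f k ∈ IsLocalRing.maximalIdeal A)
    (hIJd : ((d - 1 : ℕ) : ℕ∞) ≤ LocCoh.depth A (A ⧸ (I ⊔ J)))
    (hId : (d : ℕ∞) ≤ LocCoh.depth A (A ⧸ I)) (hJd : (d : ℕ∞) ≤ LocCoh.depth A (A ⧸ J))
    (hI : RingTheory.Sequence.IsRegular (A ⧸ I) (List.ofFn f))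
    (hJ : RingTheory.Sequence.IsRegular (A ⧸ J) (List.ofFn f))
    (hIJ : RingTheory.Sequence.IsRegular (A ⧸ (I ⊔ J)) ((List.ofFn f).take (d - 1))) :
    RingTheory.Sequence.IsRegular (A ⧸ (I ⊓ J)) (List.ofFn f) := by
  have hdrop : (List.ofFn f).dropLast = (List.ofFn f).take (d - 1) := by
    rw [List.dropLast_eq_take, List.length_ofFn]
  have hw : RingTheory.Sequence.IsWeaklyRegular (A ⧸ (I ⊓ J)) (List.ofFn f) :=
    isWeaklyRegular_quotient_inf I J (List.ofFn f) hI.toIsWeaklyRegular hJ.toIsWeaklyRegular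
      (hdrop ▸ hIJ.toIsWeaklyRegular)
  have hnt : Nontrivial (A ⧸ (I ⊓ J)) := by
    have h1 : Nontrivial (A ⧸ I) := hI.nontrivial
    have hI' : I ≠ ⊤ := by
      intro e
      have : Subsingleton (A ⧸ I) := Ideal.Quotient.subsingleton_iff.mpr e
      exact not_subsingleton _ this
    exact Ideal.Quotient.nontrivial_iff.mpr (fun e => hI' (top_le_iff.mp (e ▸ inf_le_left)))
  refine isRegular_of_isWeaklyRegular_of_mem (I := IsLocalRing.maximalIdeal A) hw ?_
    maximalIdeal_smul_top_ne_top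
  intro r hr
  obtain ⟨k, rfl⟩ := (List.mem_ofFn' f r).mp hr
  exact hf k

end Groth.Agent.S11257
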