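import Groth.Statements.S1126
import Mathlib.AlgebraicGeometry.Morphisms.FlatDescent
import Mathlib.AlgebraicGeometry.Morphisms.UniversallyInjective
import Mathlib.AlgebraicGeometry.Morphisms.UniversallyOpen

set_option autoImplicit false
open CategoryTheory CategoryTheory.Limits AlgebraicGeometry Opposite
universe u
open Desc

namespace Groth.Agent.S1126

lemma isUnivHomeo_iff {X Y : Scheme.{u}} (f : X ⟶ Y) :
    FlatMor.IsUnivHomeo f ↔ UniversallyInjective f ∧ Surjective f ∧ UniversallyOpen f := by
  constructor
  · intro h
    refine ⟨⟨fun X' Y' i₁ i₂ f' hp => (h i₁ i₂ f' hp).injective⟩,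
      ⟨(h (𝟙 _) (𝟙 _) f IsPullback.of_id_snd).surjective⟩,
      ⟨fun X' Y' i₁ i₂ f' hp => (h i₁ i₂ f' hp).isOpenMap⟩⟩
  · rintro ⟨h1, h2, h3⟩ X' Y' i₁ i₂ f' hp
    have hi : Function.Injective f' := h1.universally_injective i₁ i₂ f' hp
    have ho : IsOpenMap f' := h3.universally_isOpenMap i₁ i₂ f' hp
    have hs : Surjective f' := MorphismProperty.of_isPullback (P := @Surjective) hp.flip h2
    exact ⟨f'.continuous, ho, hi, f'.surjective⟩


/-- If the base change of a morphism along a quasi-compact flat surjective morphism to its target is a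
universal homeomorphism, then the morphism is a universal homeomorphism. (Stated for a single
quasi-compact flat surjective base change; combined with Zariski-locality on the target this gives
the fpqc-local form.) -/
theorem result :
    MorphismProperty.DescendsAlong (FlatMor.IsUnivHomeo.{u})
      (@Surjective ⊓ @Flat ⊓ @QuasiCompact : MorphismProperty Scheme.{u}) := by
  constructor
  intro A X Y Z fst snd f g h hf hfst
  rw [isUnivHomeo_iff] at hfst ⊢
  obtain ⟨h1, h2, h3⟩ := hfst
  exact ⟨MorphismProperty.of_isPullback_of_descendsAlong (P := @UniversallyInjective)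
      (Q := @Surjective ⊓ @Flat ⊓ @QuasiCompact) h hf h1,
    MorphismProperty.of_isPullback_of_descendsAlong (P := @Surjective)
      (Q := @Surjective ⊓ @Flat ⊓ @QuasiCompact) h hf h2,
    MorphismProperty.of_isPullback_of_descendsAlong (P := @UniversallyOpen)
      (Q := @Surjective ⊓ @Flat ⊓ @QuasiCompact) h hf h3⟩

end Groth.Agent.S1126
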