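import Groth.Statements.S11262
import Mathlib
-- import your own Groth.Agent.* helpers here

set_option autoImplicit false
universe u v
open W4bk4grassmannian

namespace Groth.Agent.S11262.Aux

open MvPolynomial

namespace SR

variable {K : Type*} [Field K] {L : Type*} [PartialOrder L]

/-- exponent vectors of the generators -/
def skew (L : Type*) [PartialOrder L] : Set (L →₀ ℕ) :=
  {s | ∃ a b : L, ¬ a ≤ b ∧ ¬ b ≤ a ∧ s = Finsupp.single a 1 + Finsupp.single b 1}

def ChainSupp (d : L →₀ ℕ) : Prop := IsChain (fun a b : L => a ≤ b) (d.support : Set L)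

variable (K L) in
abbrev gens : Set (MvPolynomial L K) :=
  {f : MvPolynomial L K | ∃ a b : L, ¬ a ≤ b ∧ ¬ b ≤ a ∧ f = X a * X b}

lemma gens_eq : gens K L = (fun s => monomial s (1 : K)) '' skew L := by
  ext f
  constructor
  · rintro ⟨a, b, h1, h2, rfl⟩
    refine ⟨_, ⟨a, b, h1, h2, rfl⟩, ?_⟩
    simp [X, monomial_mul]
  · rintro ⟨s, ⟨a, b, h1, h2, rfl⟩, rfl⟩
    exact ⟨a, b, h1, h2, by simp [X, monomial_mul]⟩

lemma exists_skew_le_iff (d : L →₀ ℕ) : (∃ s ∈ skew L, s ≤ d) ↔ ¬ ChainSupp d := by
  classical
  constructor
  · rintro ⟨s, ⟨a, b, h1, h2, rfl⟩, hle⟩ hch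
    have hab : a ≠ b := fun h => h1 (h ▸ le_refl a)
    have ha : a ∈ d.support := by
      have := hle a
      simp only [Finsupp.add_apply, Finsupp.single_apply, if_neg hab.symm, if_true] at this
      rw [Finsupp.mem_support_iff]; omega
    have hb : b ∈ d.support := by
      have := hle b
      simp only [Finsupp.add_apply, Finsupp.single_apply, if_neg hab, if_true] at this
      rw [Finsupp.mem_support_iff]; omega
    rcases hch ha hb hab with h | h
    exacts [h1 h, h2 h]
  · intro h
    unfold ChainSupp IsChain Set.Pairwise at h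
    push Not at h
    obtain ⟨a, ha, b, hb, hab, h1, h2⟩ := h
    refine ⟨_, ⟨a, b, h1, h2, rfl⟩, ?_⟩
    intro c
    simp only [Finsupp.add_apply, Finsupp.single_apply]
    have h1 := Finsupp.mem_support_iff.mp ha
    have h2 := Finsupp.mem_support_iff.mp hb
    split_ifs with hc1 hc2 hc2
    · exact absurd (hc1.trans hc2.symm) hab
    · subst hc1; omega
    · subst hc2; omega
    · omega

lemma mem_I_iff (f : MvPolynomial L K) :
    f ∈ Ideal.span (gens K L) ↔ ∀ d ∈ f.support, ¬ ChainSupp d := by
  rw [gens_eq, mem_ideal_span_monomial_image]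
  exact forall₂_congr fun d _ => exists_skew_le_iff d

variable [Fintype L]

open Classical in
noncomputable def S (L : Type*) [PartialOrder L] [Fintype L] (m : ℕ) : Finset (L →₀ ℕ) :=
  (Finset.univ.finsuppAntidiag m).filter ChainSupp

lemma mem_S {m : ℕ} {d : L →₀ ℕ} : d ∈ S L m ↔ d.degree = m ∧ ChainSupp d := by
  classical
  simp [S, Finsupp.degree_eq_sum]

variable (K) in
noncomputable def fam (m : ℕ) : S L m → (MvPolynomial L K ⧸ Ideal.span (gens K L)) :=
  fun d => (Ideal.Quotient.mkₐ K (Ideal.span (gens K L))) (monomial d.1 1)

lemma linIndep (m : ℕ) : LinearIndependent K (fam K (L := L) m) := by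
  classical
  rw [Fintype.linearIndependent_iff]
  intro c hc d
  have hf : (∑ e : S L m, monomial e.1 (c e) : MvPolynomial L K) ∈ Ideal.span (gens K L) := by
    rw [← Ideal.Quotient.eq_zero_iff_mem, map_sum, ← hc]
    refine Finset.sum_congr rfl fun e _ => ?_
    have : (monomial e.1 (c e) : MvPolynomial L K) = c e • monomial e.1 (1 : K) := by
      rw [smul_monomial, smul_eq_mul, mul_one]
    rw [this, ← Ideal.Quotient.mkₐ_eq_mk K, map_smul]
    rfl
  by_contra hne
  have hsupp : d.1 ∈ (∑ e : S L m, monomial e.1 (c e) : MvPolynomial L K).support := by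
    rw [mem_support_iff, coeff_sum, Finset.sum_eq_single d]
    · simpa using hne
    · intro e _ hed
      rw [coeff_monomial, if_neg]
      exact fun h => hed (Subtype.ext h)
    · intro h; exact absurd (Finset.mem_univ d) h
  exact (mem_I_iff _).mp hf d.1 hsupp (mem_S.mp d.2).2

lemma map_eq_span (m : ℕ) :
    (homogeneousSubmodule L K m).map (Ideal.Quotient.mkₐ K (Ideal.span (gens K L))).toLinearMap =
      Submodule.span K (Set.range (fam K (L := L) m)) := by
  classical
  apply le_antisymm
  · rintro _ ⟨f, hf, rfl⟩
    rw [f.as_sum, map_sum]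
    refine Submodule.sum_mem _ fun d hd => ?_
    have hdeg : d.degree = m := by
      have := hf (mem_support_iff.mp hd)
      rw [Finsupp.degree_eq_weight_one]; exact this
    by_cases hch : ChainSupp d
    · have : monomial d (coeff d f) = coeff d f • monomial d (1 : K) := by
        rw [smul_monomial, smul_eq_mul, mul_one]
      rw [this, map_smul]
      exact Submodule.smul_mem _ _ (Submodule.subset_span ⟨⟨d, mem_S.mpr ⟨hdeg, hch⟩⟩, rfl⟩)
    · have : (Ideal.Quotient.mkₐ K (Ideal.span (gens K L))).toLinearMap (monomial d (coeff d f)) = 0 := by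
        change (Ideal.Quotient.mkₐ K (Ideal.span (gens K L))) (monomial d (coeff d f)) = 0
        rw [Ideal.Quotient.mkₐ_eq_mk, Ideal.Quotient.eq_zero_iff_mem, mem_I_iff]
        intro e he
        have : e = d := by simpa using (support_monomial_subset he)
        subst this; exact hch
      rw [this]; exact zero_mem _
  · rw [Submodule.span_le]; rintro _ ⟨d, rfl⟩
    exact ⟨monomial d.1 1, isHomogeneous_monomial 1 (mem_S.mp d.2).1, rfl⟩

/-- indicator exponent vector -/
noncomputable def oneOn (C : Finset L) : L →₀ ℕ := by
  classical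
  exact Finsupp.onFinset C (fun a => if a ∈ C then 1 else 0)
    (by intro a ha; by_contra h; simp [h] at ha)

lemma oneOn_apply (C : Finset L) (a : L) [Decidable (a ∈ C)] : oneOn C a = if a ∈ C then 1 else 0 := by
  classical
  simp only [oneOn, Finsupp.onFinset_apply]
  congr

lemma card_fiber [DecidableEq L] (C : Finset L) (hC : C.Nonempty) (m : ℕ) (hm : 1 ≤ m) :
    ((Finset.univ.finsuppAntidiag m).filter (fun d : L →₀ ℕ => d.support = C)).card =
      Nat.choose (m - 1) (C.card - 1) := by
  have hCpos : 1 ≤ C.card := Finset.card_pos.mpr hC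
  have hsum : ∀ d : L →₀ ℕ, d.support = C → ∑ a, d a = ∑ a ∈ C, d a := by
    intro d hd
    exact (Finset.sum_subset (Finset.subset_univ C)
      (fun a _ ha => Finsupp.notMem_support_iff.mp (hd ▸ ha))).symm
  have hge : ∀ d : L →₀ ℕ, d.support = C → C.card ≤ ∑ a ∈ C, d a := by
    intro d hd
    rw [Finset.card_eq_sum_ones]
    refine Finset.sum_le_sum fun a ha => ?_
    have := Finsupp.mem_support_iff.mp (hd ▸ ha)
    omega
  by_cases hle : C.card ≤ m
  · have : ((Finset.univ.finsuppAntidiag m).filter (fun d : L →₀ ℕ => d.support = C)).card =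
        (C.finsuppAntidiag (m - C.card)).card := by
      refine Finset.card_nbij' (fun d => d - oneOn C) (fun e => e + oneOn C) ?_ ?_ ?_ ?_
      · intro d hd
        simp only [Finset.coe_filter, Finset.mem_finsuppAntidiag, Finset.subset_univ, and_true,
          Set.mem_ofPred_eq] at hd
        obtain ⟨hdm, hdC⟩ := hd
        simp only [Finset.mem_coe, Finset.mem_finsuppAntidiag]
        constructor
        · have : ∑ a ∈ C, (d - oneOn C) a = ∑ a ∈ C, (d a - 1) := by
            refine Finset.sum_congr rfl fun a ha => ?_
            rw [Finsupp.tsub_apply, oneOn_apply, if_pos ha]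
          rw [this, Finset.sum_tsub_distrib]
          · rw [← hsum d hdC, hdm, ← Finset.card_eq_sum_ones]
          · intro a ha
            have := Finsupp.mem_support_iff.mp (hdC ▸ ha)
            omega
        · intro a ha
          rw [Finsupp.mem_support_iff, Finsupp.tsub_apply] at ha
          rw [← hdC, Finsupp.mem_support_iff]
          omega
      · intro e he
        simp only [Finset.mem_coe, Finset.mem_finsuppAntidiag] at he
        obtain ⟨hem, heC⟩ := he
        have hsupp : (e + oneOn C).support = C := by
          ext a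
          rw [Finsupp.mem_support_iff, Finsupp.add_apply, oneOn_apply]
          constructor
          · intro h
            by_contra ha
            rw [if_neg ha] at h
            have : e a = 0 := Finsupp.notMem_support_iff.mp (fun h' => ha (heC h'))
            omega
          · intro ha; rw [if_pos ha]; omega
        simp only [Finset.coe_filter, Finset.mem_finsuppAntidiag, Finset.subset_univ, and_true,
          Set.mem_ofPred_eq]
        refine ⟨?_, hsupp⟩
        rw [hsum _ hsupp]
        have : ∑ a ∈ C, (e + oneOn C) a = ∑ a ∈ C, (e a + 1) := by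
          refine Finset.sum_congr rfl fun a ha => ?_
          rw [Finsupp.add_apply, oneOn_apply, if_pos ha]
        rw [this, Finset.sum_add_distrib, hem, ← Finset.card_eq_sum_ones]
        omega
      · intro d hd
        simp only [Finset.coe_filter, Finset.mem_finsuppAntidiag, Finset.subset_univ, and_true,
          Set.mem_ofPred_eq] at hd
        obtain ⟨hdm, hdC⟩ := hd
        ext a
        simp only [Finsupp.add_apply, Finsupp.tsub_apply, oneOn_apply]
        split_ifs with ha
        · have := Finsupp.mem_support_iff.mp (hdC ▸ ha)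
          omega
        · omega
      · intro e he
        ext a
        simp only [Finsupp.add_apply, Finsupp.tsub_apply]
        omega
    rw [this, Finset.card_finsuppAntidiag_nat_eq_choose]
    have h1 : C.card + (m - C.card) - 1 = m - 1 := by omega
    have h2 : m - C.card = (m - 1) - (C.card - 1) := by omega
    rw [h1, h2]
    exact Nat.choose_symm (by omega)
  · push Not at hle
    rw [Nat.choose_eq_zero_of_lt (by omega), Finset.card_eq_zero, Finset.filter_eq_empty_iff]
    intro d hd hdC
    simp only [Finset.mem_finsuppAntidiag, Finset.subset_univ, and_true] at hd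
    have := hge d hdC
    rw [← hsum d hdC, hd] at this
    omega

open Classical in
noncomputable def chains (L : Type*) [PartialOrder L] [Fintype L] : Finset (Finset L) :=
  Finset.univ.filter (fun C => C.Nonempty ∧ IsChain (fun a b : L => a ≤ b) (↑C : Set L))

lemma card_S (m : ℕ) (hm : 1 ≤ m) :
    (S L m).card = ∑ C ∈ chains L, Nat.choose (m - 1) (C.card - 1) := by
  classical
  have hmaps : ∀ d ∈ S L m, d.support ∈ chains L := by
    intro d hd
    obtain ⟨hdeg, hch⟩ := mem_S.mp hd
    simp only [chains, Finset.mem_filter, Finset.mem_univ, true_and]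
    refine ⟨?_, hch⟩
    rw [Finsupp.support_nonempty_iff]
    rintro rfl
    simp at hdeg
    omega
  rw [Finset.card_eq_sum_card_fiberwise hmaps]
  refine Finset.sum_congr rfl fun C hC => ?_
  simp only [chains, Finset.mem_filter, Finset.mem_univ, true_and] at hC
  rw [← card_fiber C hC.1 m hm, S, Finset.filter_filter]
  congr 1
  refine Finset.filter_congr fun d _ => ?_
  constructor
  · exact fun h => h.2
  · intro h; refine ⟨?_, h⟩
    unfold ChainSupp; rw [h]; exact hC.2

theorem main (K : Type*) [Field K] (L : Type*) [PartialOrder L] [Fintype L] (m : ℕ) (hm : 1 ≤ m) :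
    Module.finrank K ((MvPolynomial.homogeneousSubmodule L K m).map
        (Ideal.Quotient.mkₐ K (Ideal.span {f : MvPolynomial L K | ∃ a b : L, ¬ a ≤ b ∧ ¬ b ≤ a ∧
          f = MvPolynomial.X a * MvPolynomial.X b})).toLinearMap) =
      ∑ᶠ C : {C : Finset L // C.Nonempty ∧ IsChain (fun a b : L => a ≤ b) (↑C : Set L)},
        Nat.choose (m - 1) (C.1.card - 1) := by
  classical
  rw [map_eq_span, finrank_span_eq_card (linIndep m), Fintype.card_coe, card_S m hm,
    finsum_eq_sum_of_fintype]
  exact Finset.sum_subtype (chains L) (by simp [chains]) _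

end SR

end Groth.Agent.S11262.Aux

namespace Groth.Agent.S11262

/-- Hilbert function of the Stanley–Reisner ring of a finite distributive lattice: let K be a field, L a
finite distributive lattice, R = K[x_α : α ∈ L], I ⊆ R the ideal generated by the products x_α x_β
over the incomparable (skew) pairs α, β, and m ≥ 1. Then the image in R/I of the homogeneous
polynomials of degree m has K-dimension equal to the sum, over the nonempty chains C ⊆ L, of the
binomial coefficient (m - 1 choose |C| - 1). (The published statement is that the degree of R/I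
equals the number of maximal chains of L; this row states the Hilbert function from which that
degree is read off.) -/
theorem result (K : Type u) [Field K] (L : Type v) [DistribLattice L]
    [Fintype L] (m : ℕ) (hm : 1 ≤ m) :
    Module.finrank K ((MvPolynomial.homogeneousSubmodule L K m).map
        (Ideal.Quotient.mkₐ K (Ideal.span {f : MvPolynomial L K | ∃ a b : L, ¬ a ≤ b ∧ ¬ b ≤ a ∧
          f = MvPolynomial.X a * MvPolynomial.X b})).toLinearMap) =
      ∑ᶠ C : {C : Finset L // C.Nonempty ∧ IsChain (fun a b : L => a ≤ b) (↑C : Set L)},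
        Nat.choose (m - 1) (C.1.card - 1) := by
  exact Aux.SR.main K L m hm

end Groth.Agent.S11262
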