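import Groth.Statements.S1127
import Groth.Agent.Lib.Helper12QuasiAffineDescent

set_option autoImplicit false
open CategoryTheory CategoryTheory.Limits AlgebraicGeometry Opposite
universe u
open Desc

namespace Groth.Agent.S1127


open Groth.Agent.Lib.Helper12 in
lemma quasiSeparated_of_isQuasiAffine {X Y : Scheme.{u}} {f : X ⟶ Y} (hf : Mor2.IsQuasiAffine f) :
    QuasiSeparated f := by
  rw [HasAffineProperty.iff_of_iSup_eq_top (P := @QuasiSeparated) (fun U : Y.affineOpens => U)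
    (iSup_affineOpens_eq_top Y)]
  intro U
  have := hf.2 U.1 U.2
  change QuasiSeparatedSpace (f ⁻¹ᵁ U.1 : Scheme.{u})
  have h1 : QuasiSeparatedSpace (Spec Γ((f ⁻¹ᵁ U.1 : Scheme.{u}), ⊤)) := inferInstance
  exact quasiSeparatedSpace_of_quasiSeparated (f ⁻¹ᵁ U.1 : Scheme.{u}).toSpecΓ


/-- If the base change of a morphism along a quasi-compact, flat, surjective morphism is quasi-affine
(quasi-compact, with quasi-affine preimages of affine opens), then the morphism is quasi-affine.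
(The published statement is the fpqc-local form; stated here for a single quasi-compact flat
surjective base change, from which that form follows by Zariski-locality on the target.) -/
theorem result :
    MorphismProperty.DescendsAlong (fun _ _ f => Mor2.IsQuasiAffine f : MorphismProperty Scheme.{u})
      (@Surjective ⊓ @Flat ⊓ @QuasiCompact : MorphismProperty Scheme.{u}) := by
  constructor
  intro A X Y Z fst snd f g h hf hfst
  have hgqc : QuasiCompact g :=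
    (Groth.Agent.Lib.Helper12.descendsAlong_quasiCompact).of_isPullback h hf hfst.1
  have hfstqs : QuasiSeparated fst := quasiSeparated_of_isQuasiAffine hfst
  have hgqs : QuasiSeparated g :=
    (Groth.Agent.Lib.Helper12.descendsAlong_quasiSeparated).of_isPullback h hf hfstqs
  refine ⟨hgqc, fun V hV => ?_⟩
  obtain ⟨⟨hf1, hf2⟩, hf3⟩ := hf
  have hf1 : Surjective f := hf1
  have hf2 : Flat f := hf2
  have hf3 : QuasiCompact f := hf3
  have hVaff : IsAffine (V : Scheme.{u}) := hV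
  have HV := (Scheme.Hom.isPullback_resLE h.flip (US := V) (UT := f ⁻¹ᵁ V) (UX := g ⁻¹ᵁ V)
    le_rfl le_rfl (UY := snd ⁻¹ᵁ (g ⁻¹ᵁ V) ⊓ fst ⁻¹ᵁ (f ⁻¹ᵁ V)) rfl).flip
  rw [Scheme.Hom.resLE_eq_morphismRestrict, Scheme.Hom.resLE_eq_morphismRestrict] at HV
  have hs : Surjective (f ∣_ V) :=
    MorphismProperty.of_isPullback (P := @Surjective) (isPullback_morphismRestrict f V).flip hf1
  have hcpt : CompactSpace (g ⁻¹ᵁ V : Scheme.{u}) :=
    isCompact_iff_compactSpace.mp (g.isCompact_preimage hV.isCompact)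
  have hqs : QuasiSeparatedSpace (g ⁻¹ᵁ V : Scheme.{u}) :=
    quasiSeparatedSpace_of_quasiSeparated (g ∣_ V)
  refine Groth.Agent.Lib.Helper12.isQuasiAffine_of_isPullback HV ?_
  intro W hW
  have hqc' := MorphismProperty.of_isPullback (P := @QuasiCompact) HV.flip
    (inferInstance : QuasiCompact (g ∣_ V))
  have hc := Scheme.Hom.isCompact_preimage (f := Scheme.Hom.resLE fst (f ⁻¹ᵁ V)
    (snd ⁻¹ᵁ g ⁻¹ᵁ V ⊓ fst ⁻¹ᵁ f ⁻¹ᵁ V) inf_le_right) hW.isCompact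
  have key : ∀ O : ((snd ⁻¹ᵁ g ⁻¹ᵁ V ⊓ fst ⁻¹ᵁ f ⁻¹ᵁ V : A.Opens) : Scheme.{u}).Opens,
      O = (snd ⁻¹ᵁ g ⁻¹ᵁ V ⊓ fst ⁻¹ᵁ f ⁻¹ᵁ V).ι ⁻¹ᵁ (fst ⁻¹ᵁ ((f ⁻¹ᵁ V).ι ''ᵁ W)) →
      IsCompact (O : Set ((snd ⁻¹ᵁ g ⁻¹ᵁ V ⊓ fst ⁻¹ᵁ f ⁻¹ᵁ V : A.Opens) : Scheme.{u})) →
      Scheme.IsQuasiAffine (O : Scheme.{u}) := by
    rintro _ rfl hc
    have : CompactSpace (((snd ⁻¹ᵁ g ⁻¹ᵁ V ⊓ fst ⁻¹ᵁ f ⁻¹ᵁ V).ι ⁻¹ᵁ
      (fst ⁻¹ᵁ ((f ⁻¹ᵁ V).ι ''ᵁ W))) : Scheme.{u}) := isCompact_iff_compactSpace.mp hc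
    have := hfst.2 ((f ⁻¹ᵁ V).ι ''ᵁ W) (hW.image_of_isOpenImmersion _)
    exact Scheme.IsQuasiAffine.of_isImmersion
      ((snd ⁻¹ᵁ g ⁻¹ᵁ V ⊓ fst ⁻¹ᵁ f ⁻¹ᵁ V).ι ∣_ (fst ⁻¹ᵁ ((f ⁻¹ᵁ V).ι ''ᵁ W)))
  exact key _ (Scheme.Hom.resLE_preimage fst _ W) hc

end Groth.Agent.S1127
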