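import Groth.Statements.S11277
import Mathlib

set_option autoImplicit false
universe u v
open W4bk4grassmannian

namespace Groth.Agent.S11277

open Polynomial

/-- Homogeneous elements of pairwise distinct degrees summing to zero all vanish. -/
lemma eq_zero_of_sum_eq_zero {K : Type u} [Field K] {R : Type v} [CommRing R] [Algebra K R]
    (𝒜 : ℕ → Submodule K R) [GradedAlgebra 𝒜] (t : Finset ℕ) (d : ℕ → ℕ)
    (hd : Set.InjOn d t) (b : ℕ → R) (hb : ∀ i ∈ t, b i ∈ 𝒜 (d i))
    (hsum : ∑ i ∈ t, b i = 0) : ∀ j ∈ t, b j = 0 := by
  classical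
  intro j hj
  have h1 := congrArg (fun x => ((DirectSum.decompose 𝒜 x) (d j) : R)) hsum
  simp only [DirectSum.decompose_sum, DirectSum.decompose_zero] at h1
  rw [DFinsupp.finsetSum_apply, AddSubmonoidClass.coe_finsetSum] at h1
  rw [Finset.sum_eq_single j] at h1
  · rw [DirectSum.decompose_of_mem_same 𝒜 (hb j hj)] at h1
    simpa using h1
  · intro i hi hij
    rw [DirectSum.decompose_of_mem_ne 𝒜 (hb i hi)]
    intro h
    exact hij (hd hi hj h)
  · intro h
    exact absurd hj h


/-- Let K be a field, R = ⊕_{i ≥ 0} R_i an ℕ-graded commutative K-algebra which is an integral domain,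
and s ∈ R_e a homogeneous element of degree e > 0. Let R_(s) ⊆ R[1/s] be the homogeneous
localization (fractions f / s^k with f homogeneous of degree k e). Then the image of s in R[1/s] is
transcendental over R_(s). -/
theorem result (K : Type u) [Field K] (R : Type v) [CommRing R]
    [IsDomain R] [Algebra K R] (𝒜 : ℕ → Submodule K R) [GradedAlgebra 𝒜] (e : ℕ) (he : 0 < e) (s : R)
    (hs : s ∈ 𝒜 e) :
    Transcendental (HomogeneousLocalization.Away 𝒜 s) (algebraMap R (Localization.Away s) s) := by
  classical
  rintro ⟨p, hp0, hp⟩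
  by_cases hs0 : s = 0
  · have : Subsingleton (HomogeneousLocalization.Away 𝒜 s) :=
      HomogeneousLocalization.subsingleton 𝒜 ⟨1, by simp [hs0]⟩
    exact hp0 (Subsingleton.elim _ _)
  -- choose a common exponent
  have hev : ∀ᶠ n in Filter.atTop, ∀ i ∈ Finset.range (p.natDegree + 1),
      s ^ n • (p.coeff i).val ∈ algebraMap R (Localization.Away s) '' (𝒜 (n • e) : Set R) := by
    rw [Filter.eventually_all_finset]
    intro i _
    exact HomogeneousLocalization.Away.eventually_smul_mem hs (p.coeff i)
  obtain ⟨N, hN⟩ := hev.exists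
  choose! a ha ha' using hN
  -- the relation
  have hrel : algebraMap R (Localization.Away s)
      (∑ i ∈ Finset.range (p.natDegree + 1), a i * s ^ i) = 0 := by
    rw [map_sum]
    have h1 : s ^ N • (aeval (algebraMap R (Localization.Away s) s) p) = 0 := by
      rw [hp, smul_zero]
    rw [aeval_eq_sum_range, Finset.smul_sum] at h1
    rw [← h1]
    refine Finset.sum_congr rfl fun i hi => ?_
    rw [map_mul, map_pow, ha' i hi, Algebra.smul_def (p.coeff i), 
      HomogeneousLocalization.algebraMap_apply, smul_mul_assoc]
  have hinj : Function.Injective (algebraMap R (Localization.Away s)) :=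
    IsLocalization.injective _ (powers_le_nonZeroDivisors_of_noZeroDivisors hs0)
  have hsum : ∑ i ∈ Finset.range (p.natDegree + 1), a i * s ^ i = 0 :=
    hinj (hrel.trans (map_zero _).symm)
  have hzero := eq_zero_of_sum_eq_zero 𝒜 (Finset.range (p.natDegree + 1))
    (fun i => N • e + i • e) (by
      intro i _ j _ hij
      simp only [smul_eq_mul, add_right_inj] at hij
      exact Nat.eq_of_mul_eq_mul_right he hij)
    (fun i => a i * s ^ i) (fun i hi => SetLike.mul_mem_graded (ha i hi)
      (SetLike.pow_mem_graded i hs)) hsum
  -- conclude all coefficients vanish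
  apply hp0
  refine Polynomial.ext fun i => ?_
  rw [coeff_zero]
  by_cases hi : i ∈ Finset.range (p.natDegree + 1)
  · have h1 := hzero i hi
    have h2 : a i = 0 := by
      rcases mul_eq_zero.mp h1 with h | h
      · exact h
      · exact absurd h (pow_ne_zero i hs0)
    have h3 := ha' i hi
    rw [h2, map_zero] at h3
    have hunit : IsUnit (algebraMap R (Localization.Away s) (s ^ N)) := by
      rw [map_pow]
      exact (IsLocalization.Away.algebraMap_isUnit s).pow N
    have h4 : (p.coeff i).val = 0 := by
      rw [Algebra.smul_def] at h3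
      exact (hunit.mul_right_eq_zero).mp h3.symm
    exact HomogeneousLocalization.val_injective _ (h4.trans HomogeneousLocalization.val_zero.symm)
  · rw [Finset.mem_range, not_lt] at hi
    exact coeff_eq_zero_of_natDegree_lt (by omega)

end Groth.Agent.S11277
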