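import Groth.Statements.S11283
import Groth.Agent.Lib.Helper19ExalCompl
import Groth.Agent.Lib.Helper19ComplFlatMap
import Groth.Agent.Lib.Helper19ComplDim

set_option autoImplicit false
universe u
open Deform

namespace Groth.Agent.S11283

/-- Let k be an algebraically closed field, Λ a complete local Noetherian k-algebra with residue field
k, R a local Noetherian Λ-algebra with local structure map and residue field k, and R̂ the
completion of R at its maximal ideal. Let L be a simple R-module (a one-dimensional k-vector space
on which R acts through its residue field) carrying a compatible R̂-module structure. Then inverse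
image of Λ-extensions along R → R̂ induces a bijection o(R̂/Λ) → o(R/Λ) on classes of Λ-extensions
by L: two Λ-extensions of R̂ by L whose inverse images over R are equivalent are equivalent, and
every Λ-extension of R by L is equivalent to the inverse image of one of R̂. -/
theorem result
    {k : Type u} [Field k] [IsAlgClosed k]
    {Λ : Type u} [CommRing Λ] [Algebra k Λ] [IsLocalRing Λ] [IsNoetherianRing Λ]
    [IsAdicComplete (IsLocalRing.maximalIdeal Λ) Λ]
    (hΛ : ∀ a : Λ, ∃ c : k, a - algebraMap k Λ c ∈ IsLocalRing.maximalIdeal Λ)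
    {R : Type u} [CommRing R] [Algebra Λ R] [IsLocalRing R] [IsNoetherianRing R]
    [IsLocalHom (algebraMap Λ R)]
    (hR : ∀ r : R, ∃ c : k, r - algebraMap Λ R (algebraMap k Λ c) ∈ IsLocalRing.maximalIdeal R)
    (L : Type u) [AddCommGroup L] [Module (AdicCompletion (IsLocalRing.maximalIdeal R) R) L] [Module R L]
    [IsScalarTower R (AdicCompletion (IsLocalRing.maximalIdeal R) R) L] [IsSimpleModule R L] :
    (∀ X X' : Exal.Ext Λ (AdicCompletion (IsLocalRing.maximalIdeal R) R) L,
        Nonempty ((X.pullback R).Equiv (X'.pullback R)) → Nonempty (X.Equiv X')) ∧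
    (∀ Y : Exal.Ext Λ R L, ∃ X : Exal.Ext Λ (AdicCompletion (IsLocalRing.maximalIdeal R) R) L,
        Nonempty ((X.pullback R).Equiv Y)) := by
  classical
  have hmax : IsLocalRing.maximalIdeal (AdicCompletion (IsLocalRing.maximalIdeal R) R) =
      (IsLocalRing.maximalIdeal R).map
        (algebraMap R (AdicCompletion (IsLocalRing.maximalIdeal R) R)) :=
    AdicCompletion.maximalIdeal_eq_map
  have hloc : ∀ r ∈ IsLocalRing.maximalIdeal R,
      algebraMap R (AdicCompletion (IsLocalRing.maximalIdeal R) R) r ∈
        IsLocalRing.maximalIdeal (AdicCompletion (IsLocalRing.maximalIdeal R) R) := fun r hr => by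
    rw [hmax]; exact Ideal.mem_map_of_mem _ hr
  have hdense : ∀ (n : ℕ) (x : AdicCompletion (IsLocalRing.maximalIdeal R) R), ∃ r : R,
      x - algebraMap R (AdicCompletion (IsLocalRing.maximalIdeal R) R) r ∈
        IsLocalRing.maximalIdeal (AdicCompletion (IsLocalRing.maximalIdeal R) R) ^ n :=
    fun n x => by
      rw [hmax]
      exact Groth.Agent.Lib.Helper19.exists_sub_of_mem_map_pow (IsLocalRing.maximalIdeal R)
        (IsNoetherian.noetherian _) n x
  have hcomap : ∀ (n : ℕ) (r : R),
      algebraMap R (AdicCompletion (IsLocalRing.maximalIdeal R) R) r ∈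
        IsLocalRing.maximalIdeal (AdicCompletion (IsLocalRing.maximalIdeal R) R) ^ n →
      r ∈ IsLocalRing.maximalIdeal R ^ n := fun n r h => by
    rw [hmax] at h
    have h1 := Groth.Agent.Lib.Helper19.evalₐ_eq_zero_of_mem_map_pow
      (IsLocalRing.maximalIdeal R) n _ h
    rw [AdicCompletion.algebraMap_apply, AdicCompletion.evalₐ_of, Algebra.algebraMap_self,
      RingHom.id_apply] at h1
    exact Ideal.Quotient.eq_zero_iff_mem.1 h1
  have hann : Module.annihilator R L = IsLocalRing.maximalIdeal R :=
    IsLocalRing.eq_maximalIdeal IsSimpleModule.annihilator_isMaximal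
  have hL : ∀ b ∈ IsLocalRing.maximalIdeal R, ∀ z : L, b • z = 0 := fun b hb z => by
    rw [← hann] at hb
    exact Module.mem_annihilator.1 hb z
  have hL' : ∀ b ∈ IsLocalRing.maximalIdeal (AdicCompletion (IsLocalRing.maximalIdeal R) R),
      ∀ z : L, b • z = 0 := by
    intro b hb z
    have hle : (IsLocalRing.maximalIdeal R).map
        (algebraMap R (AdicCompletion (IsLocalRing.maximalIdeal R) R)) ≤
        Module.annihilator (AdicCompletion (IsLocalRing.maximalIdeal R) R) L := by
      rw [Ideal.map_le_iff_le_comap]
      intro r hr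
      rw [Ideal.mem_comap, Module.mem_annihilator]
      intro z
      rw [algebraMap_smul]
      exact hL r hr z
    rw [hmax] at hb
    exact Module.mem_annihilator.1 (hle hb) z
  refine ⟨fun X X' h => ?_, fun Y => ?_⟩
  · exact Groth.Agent.Lib.Helper19.ExalCompl.equiv_of_pullback_equiv hloc hdense hcomap hL' X X' h
  · exact Groth.Agent.Lib.Helper19.ExalCompl.exists_ext_pullback_equiv _ hloc hdense hcomap hL' Y

end Groth.Agent.S11283
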