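import Groth.Statements.S11288
import Mathlib
import Groth.Agent.Lib.Helper7ExalArt

set_option autoImplicit false
universe u
open Deform

namespace Groth.Agent.S11288

/-- Let K be a field, R' a local Artinian K-algebra with residue field K, and t a nonzero element of the
maximal ideal m' of R' with m' t = 0, so that R' → R = R'/(t) is a small extension of R. Then the
extension is trivial, i.e. the projection admits a section which is a K-algebra map, if and only if
t is not in m'^2; equivalently, iff the surjection m'/m'^2 → m_R/m_R^2 induced on cotangent spaces,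
whose kernel is spanned by the class of t, is not bijective. For instance K[t]/(t^(n+1)) →
K[t]/(t^n) is a non-trivial small extension for n ≥ 2. (The published example allows any local
K-algebra with residue field K; the row takes R' Artinian, the case in which the subalgebra
generated by lifts of a basis of the cotangent space maps onto R.) -/
theorem result
    {K : Type u} [Field K]
    {R' : Type u} [CommRing R'] [Algebra K R'] [IsLocalRing R'] [IsArtinianRing R']
    (hres : ∀ a : R', ∃ c : K, a - algebraMap K R' c ∈ IsLocalRing.maximalIdeal R')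
    (t : R') (ht : t ∈ IsLocalRing.maximalIdeal R') (ht0 : t ≠ 0)
    (htm : ∀ a ∈ IsLocalRing.maximalIdeal R', a * t = 0) :
    (∃ s : (R' ⧸ Ideal.span {t}) →ₐ[K] R', ∀ x, Ideal.Quotient.mk (Ideal.span {t}) (s x) = x) ↔
      t ∉ IsLocalRing.maximalIdeal R' ^ 2 := by
  classical
  open IsLocalRing in
  have hkerK : ∀ x : R', Ideal.Quotient.mk (Ideal.span {t}) x = 0 → ∃ c : K, x = algebraMap K R' c * t := by
    intro x hx
    rw [Ideal.Quotient.eq_zero_iff_mem, Ideal.mem_span_singleton'] at hx
    obtain ⟨a, rfl⟩ := hx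
    obtain ⟨c, hc⟩ := hres a
    have h2 := htm _ hc
    rw [sub_mul, sub_eq_zero] at h2
    exact ⟨c, h2⟩
  constructor
  · rintro ⟨s, hs⟩ hsq
    apply ht0
    refine Groth.Agent.Lib.Helper7.ExalLib.gen_eq_zero_of_section (k := K)
      (Ideal.Quotient.mkₐ K (Ideal.span {t})) t (IsLocalRing.maximalIdeal R') ?_ htm ht ?_ s hs hsq
    · intro x hx
      exact hkerK x hx
    · change Ideal.Quotient.mk (Ideal.span {t}) t = 0
      rw [Ideal.Quotient.eq_zero_iff_mem]
      exact Ideal.mem_span_singleton_self t
  · intro htsq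
    set m' := IsLocalRing.maximalIdeal R' with hm'
    let tbar : IsLocalRing.CotangentSpace R' := m'.toCotangent ⟨t, ht⟩
    have htbar : tbar ≠ 0 := by
      intro h
      rw [Ideal.toCotangent_eq_zero] at h
      exact htsq h
    obtain ⟨ℓ, hℓt, -⟩ := Submodule.exists_le_ker_of_notMem (K := IsLocalRing.ResidueField R')
      (p := (⊥ : Submodule (IsLocalRing.ResidueField R') (IsLocalRing.CotangentSpace R'))) (v := tbar)
      (by rwa [Submodule.mem_bot])
    let ℓA : ↥m' →ₗ[R'] IsLocalRing.ResidueField R' := (ℓ.restrictScalars R') ∘ₗ m'.toCotangent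
    have hℓA : ∀ y : ↥m', ℓA y = ℓ (m'.toCotangent y) := fun y => rfl
    let 𝔟 : Ideal R' := Submodule.map m'.subtype (LinearMap.ker ℓA)
    have hmem𝔟 : ∀ x : R', x ∈ 𝔟 ↔ ∃ y : ↥m', ℓA y = 0 ∧ (y : R') = x := by
      intro x
      change x ∈ Submodule.map m'.subtype (LinearMap.ker ℓA) ↔ _
      rw [Submodule.mem_map]
      simp only [LinearMap.mem_ker, Submodule.subtype_apply]
    have h𝔟m : 𝔟 ≤ m' := by
      intro x hx
      obtain ⟨y, -, rfl⟩ := (hmem𝔟 x).1 hx
      exact y.2
    have ht𝔟 : t ∉ 𝔟 := by
      intro h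
      obtain ⟨y, hy, hyt⟩ := (hmem𝔟 t).1 h
      have : y = ⟨t, ht⟩ := Subtype.ext hyt
      rw [this, hℓA] at hy
      exact hℓt hy
    let S : Subalgebra K R' := (⊥ : Subalgebra K (R' ⧸ 𝔟)).comap (Ideal.Quotient.mkₐ K 𝔟)
    have hmemS : ∀ x : R', x ∈ S ↔ ∃ c : K, x - algebraMap K R' c ∈ 𝔟 := by
      intro x
      change Ideal.Quotient.mkₐ K 𝔟 x ∈ (⊥ : Subalgebra K (R' ⧸ 𝔟)) ↔ _
      rw [Algebra.mem_bot]
      constructor
      · rintro ⟨c, hc⟩
        refine ⟨c, ?_⟩
        rw [← Ideal.Quotient.eq]
        exact hc.symm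
      · rintro ⟨c, hc⟩
        refine ⟨c, ?_⟩
        rw [← Ideal.Quotient.eq] at hc
        exact hc.symm
    let g : S →ₐ[K] R' ⧸ Ideal.span {t} := (Ideal.Quotient.mkₐ K (Ideal.span {t})).comp S.val
    have hg : ∀ s : S, g s = Ideal.Quotient.mk (Ideal.span {t}) (s : R') := fun s => rfl
    have hbij : Function.Bijective g := by
      constructor
      · rw [injective_iff_map_eq_zero]
        intro s hs
        rw [hg] at hs
        obtain ⟨c', hc'⟩ := hkerK _ hs
        obtain ⟨c, hc⟩ := (hmemS _).1 s.2
        have hsm : (s : R') ∈ m' := by rw [hc']; exact Ideal.mul_mem_left _ _ ht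
        have hc0 : c = 0 := by
          rw [← Groth.Agent.Lib.Helper7.ExalLib.algebraMap_mem_maximalIdeal_iff (A := R')]
          have := m'.sub_mem hsm (h𝔟m hc)
          rwa [sub_sub_cancel] at this
        rw [hc0, map_zero, sub_zero] at hc
        by_cases hc'0 : c' = 0
        · apply Subtype.ext
          rw [hc', hc'0, map_zero, zero_mul]
          rfl
        · exfalso
          apply ht𝔟
          have h1 : t = algebraMap K R' c'⁻¹ * (s : R') := by
            rw [hc', ← mul_assoc, ← map_mul, inv_mul_cancel₀ hc'0, map_one, one_mul]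
          rw [h1]
          exact Ideal.mul_mem_left _ _ hc
      · intro xbar
        obtain ⟨x, rfl⟩ := Ideal.Quotient.mk_surjective xbar
        obtain ⟨c, hc⟩ := hres x
        obtain ⟨r, hr⟩ := IsLocalRing.residue_surjective (ℓA ⟨_, hc⟩ / ℓ tbar)
        have hy : x - algebraMap K R' c - r * t ∈ m' := m'.sub_mem hc (Ideal.mul_mem_left _ _ ht)
        have hy𝔟 : x - algebraMap K R' c - r * t ∈ 𝔟 := by
          rw [hmem𝔟]
          refine ⟨⟨_, hy⟩, ?_, rfl⟩
          have h1 : (⟨_, hy⟩ : ↥m') = ⟨_, hc⟩ - r • ⟨t, ht⟩ := by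
            apply Subtype.ext
            rfl
          rw [h1, map_sub, map_smul, hℓA ⟨t, ht⟩, Algebra.smul_def]
          change ℓA ⟨_, hc⟩ - IsLocalRing.residue R' r * ℓ tbar = 0
          rw [hr, div_mul_cancel₀ _ hℓt, sub_self]
        have hS : algebraMap K R' c + (x - algebraMap K R' c - r * t) ∈ S := by
          rw [hmemS]
          refine ⟨c, ?_⟩
          rw [add_sub_cancel_left]
          exact hy𝔟
        refine ⟨⟨_, hS⟩, ?_⟩
        rw [hg, Ideal.Quotient.eq]
        have : algebraMap K R' c + (x - algebraMap K R' c - r * t) - x = (-r) * t := by ring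
        rw [this]
        exact Ideal.mul_mem_left _ _ (Ideal.mem_span_singleton_self t)
    let e := AlgEquiv.ofBijective g hbij
    refine ⟨S.val.comp (e.symm : _ →ₐ[K] S), fun x => ?_⟩
    change g (e.symm x) = x
    exact e.apply_symm_apply x


end Groth.Agent.S11288
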