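import Groth.Statements.S11292
import Mathlib
import Groth.Agent.Lib.Helper7ExalBaer
import Groth.Agent.Lib.Helper7ExalSec

set_option autoImplicit false
universe u
open Deform

namespace Groth.Agent.S11292

/-- Let k be an algebraically closed field, Λ and R local Noetherian k-algebras with residue field k,
and Λ → R a local k-algebra homomorphism. Then the relative obstruction space vanishes — every
Λ-extension of R by its residue field k is trivial — if and only if (a) the tangent map t_R → t_Λ is
surjective: every k-derivation of Λ into k extends along Λ → R to a k-derivation of R into k, and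
(b) the obstruction map o(R) → o(Λ) given by inverse image is injective on classes: two k-extensions
of R by k whose inverse images over Λ are equivalent are equivalent (R is less obstructed than Λ).
Here k is the residue field of R, a module over R, Λ and k through the structure maps. -/
theorem result
    {k : Type u} [Field k] [IsAlgClosed k]
    {Λ : Type u} [CommRing Λ] [Algebra k Λ] [IsLocalRing Λ] [IsNoetherianRing Λ]
    (hΛ : ∀ a : Λ, ∃ c : k, a - algebraMap k Λ c ∈ IsLocalRing.maximalIdeal Λ)
    {R : Type u} [CommRing R] [Algebra Λ R] [Algebra k R] [IsScalarTower k Λ R]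
    [IsLocalRing R] [IsNoetherianRing R] [IsLocalHom (algebraMap Λ R)]
    (hR : ∀ r : R, ∃ c : k, r - algebraMap k R c ∈ IsLocalRing.maximalIdeal R) :
    (∀ X : Exal.Ext Λ R (IsLocalRing.ResidueField R), X.IsTrivial) ↔
    ((∀ D : Derivation k Λ (IsLocalRing.ResidueField R),
        ∃ D' : Derivation k R (IsLocalRing.ResidueField R), ∀ a : Λ, D' (algebraMap Λ R a) = D a) ∧
     (∀ Y Y' : Exal.Ext k R (IsLocalRing.ResidueField R),
        Nonempty ((Y.pullback Λ).Equiv (Y'.pullback Λ)) → Nonempty (Y.Equiv Y'))) := by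
  classical
  constructor
  · intro hall
    refine ⟨?_, ?_⟩
    · intro D
      have h1 := hall (Exal.Ext.ofDerivation (C := R) D)
      obtain ⟨D', hD'⟩ := (Groth.Agent.Lib.Helper7.ExalLib.ofDerivation_isTrivial_iff (A := k) (B := Λ) (C := R) D).1 h1
      refine ⟨D', fun a => ?_⟩
      rw [← hD']
      rfl
    · intro Y Y' ⟨θ⟩
      have h1 := Groth.Agent.Lib.Helper7.ExalLib.diff_pullback_isTrivial Λ Y Y' θ
      obtain ⟨X, ⟨e⟩⟩ := Groth.Agent.Lib.Helper7.ExalLib.exists_equiv_of_pullback_isTrivial
        (Groth.Agent.Lib.Helper7.ExalLib.diff Y Y') h1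
      have hX := hall X
      have hXk : X.IsTrivialOver k := by
        obtain ⟨s, hs⟩ := hX
        exact Groth.Agent.Lib.Helper7.ExalLib.isTrivialOver_of_ringHom_section (A := k) X (s : R →+* X.E) hs
          (fun c => by
            have h2 : algebraMap k R c = algebraMap Λ R (algebraMap k Λ c) :=
              IsScalarTower.algebraMap_apply k Λ R c
            rw [h2]
            exact s.commutes _)
      have hZ : (Groth.Agent.Lib.Helper7.ExalLib.diff Y Y').IsTrivial :=
        Groth.Agent.Lib.Helper7.ExalLib.isTrivial_of_equiv e.symm hXk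
      exact Groth.Agent.Lib.Helper7.ExalLib.equiv_of_diff_isTrivial Y Y' hZ
  · rintro ⟨hD, hinj⟩ X
    -- X is trivial over k
    have h1 : ((X.restrictBase k).pullback Λ).IsTrivial :=
      Groth.Agent.Lib.Helper7.ExalLib.pullback_isTrivial_of_equiv (X.restrictBase k) X (Exal.Ext.Equiv.refl _)
    have h3 : (Exal.Ext.trivial k R (IsLocalRing.ResidueField R)).IsTrivial :=
      Groth.Agent.Lib.Helper7.ExalLib.trivial_isTrivial k R _
    have h2 : ((Exal.Ext.trivial k R (IsLocalRing.ResidueField R)).pullback Λ).IsTrivial :=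
      Groth.Agent.Lib.Helper7.ExalLib.pullback_isTrivial_of_isTrivial Λ _ h3
    obtain ⟨θ⟩ := Groth.Agent.Lib.Helper7.ExalLib.equiv_of_isTrivial_of_isTrivial h1 h2
    obtain ⟨e⟩ := hinj _ _ ⟨θ⟩
    have hXk : X.IsTrivialOver k := Groth.Agent.Lib.Helper7.ExalLib.isTrivial_of_equiv e h3
    obtain ⟨D, ⟨eD⟩⟩ := Groth.Agent.Lib.Helper7.ExalLib.exists_equiv_ofDerivation_of_isTrivialOver (A := k) X hXk
    obtain ⟨D', hD'⟩ := hD D
    refine Groth.Agent.Lib.Helper7.ExalLib.isTrivial_of_equiv eD ?_
    rw [Groth.Agent.Lib.Helper7.ExalLib.ofDerivation_isTrivial_iff]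
    refine ⟨D', ?_⟩
    ext a
    exact hD' a


end Groth.Agent.S11292
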