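import Groth.Statements.S11294
import Mathlib
-- import your own Groth.Agent.* helpers here

set_option autoImplicit false
universe u
open Deform

namespace Groth.Agent.S11294

open TrivSqZeroExt in
theorem eps_mul_aux {P : Type u} [CommRing P] (a b : P) :
    (DualNumber.eps : DualNumber P) * (inl a + inr b) = inr a := by
  have hε : (DualNumber.eps : DualNumber P) = inr 1 := rfl
  rw [hε]
  apply TrivSqZeroExt.ext <;> simp

open TrivSqZeroExt in
theorem decomp_aux {P : Type u} [CommRing P] (x : DualNumber P) :
    x = inl (fst x) + inr (snd x) := (TrivSqZeroExt.inl_fst_add_inr_snd_eq x).symm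

open TrivSqZeroExt in
theorem phi_congr {P : Type u} [CommRing P] (J : Ideal P) (φ : J →ₗ[P] (P ⧸ J)) (a a' : P)
    (h : a ∈ J) (h' : a' ∈ J) (e : a = a') : φ ⟨a, h⟩ = φ ⟨a', h'⟩ := by
  subst e; rfl

open TrivSqZeroExt in
/-- Let P be a commutative ring, J an ideal, and P[ε] the ring of dual numbers over P. First-order
embedded deformations of Spec(P/J) in Spec P, namely ideals J' of P[ε] lifting J (the image of J'
under ε ↦ 0 is J) with P[ε]/J' flat over the dual numbers — flatness being replaced by the condition
that every element of P[ε]/J' annihilated by ε is a multiple of ε (equivalent to flatness over k[ε]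
when P is an algebra over a field k) — are in canonical bijection with Hom_P(J, P/J) =
Hom_{P/J}(J/J^2, P/J), the normal module: to φ corresponds the ideal of all a + εb with a in J and b
reducing to φ(a) modulo J. The first clause says this rule defines exactly one ideal for each φ; the
second says an ideal J' is a flat lift of J precisely when its membership is given by this rule for
some φ. (The published statement is the global one, identifying first-order deformations of a closed
subscheme X of an algebraic scheme Y with H^0(X, N_{X/Y}); this row is the affine computation in its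
proof, valid for every commutative ring P.) -/
theorem result (P : Type u) [CommRing P] (J : Ideal P) :
    (∀ φ : J →ₗ[P] (P ⧸ J), ∃! J' : Ideal (DualNumber P),
        ∀ a b : P, (inl a + inr b : DualNumber P) ∈ J' ↔ ∃ h : a ∈ J, Ideal.Quotient.mk J b = φ ⟨a, h⟩) ∧
    (∀ J' : Ideal (DualNumber P),
      (J'.map (TrivSqZeroExt.fstHom P P P) = J ∧
        ∀ m : DualNumber P ⧸ J', Ideal.Quotient.mk J' DualNumber.eps * m = 0 →
          ∃ m' : DualNumber P ⧸ J', m = Ideal.Quotient.mk J' DualNumber.eps * m') ↔
      ∃ φ : J →ₗ[P] (P ⧸ J), ∀ a b : P,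
        (inl a + inr b : DualNumber P) ∈ J' ↔ ∃ h : a ∈ J, Ideal.Quotient.mk J b = φ ⟨a, h⟩) := by
  classical
  have hfst : ∀ a b : P, fst (inl a + inr b : DualNumber P) = a := by intro a b; simp
  have hsnd : ∀ a b : P, snd (inl a + inr b : DualNumber P) = b := by intro a b; simp
  refine ⟨fun φ => ?_, fun J' => ?_⟩
  · -- existence and uniqueness of the ideal attached to φ
    let J'' : Ideal (DualNumber P) :=
      { carrier := {x | ∃ h : fst x ∈ J, Ideal.Quotient.mk J (snd x) = φ ⟨fst x, h⟩}
        zero_mem' := by
          refine ⟨by simp, ?_⟩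
          have : φ ⟨fst (0 : DualNumber P), by simp⟩ = φ 0 := by
            congr 1
          rw [this, map_zero]
          simp
        add_mem' := by
          rintro x y ⟨hx, ex⟩ ⟨hy, ey⟩
          refine ⟨by rw [fst_add]; exact J.add_mem hx hy, ?_⟩
          rw [snd_add, map_add, ex, ey, ← map_add]
          congr 1
        smul_mem' := by
          rintro c x ⟨hx, ex⟩
          refine ⟨by rw [smul_eq_mul, fst_mul]; exact J.mul_mem_left _ hx, ?_⟩
          have h1 : snd (c • x) = fst c * snd x + snd c * fst x := by
            rw [smul_eq_mul, snd_mul]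
            simp [mul_comm]
          have h2 : Ideal.Quotient.mk J (snd c * fst x) = 0 :=
            Ideal.Quotient.eq_zero_iff_mem.mpr (J.mul_mem_left _ hx)
          rw [h1, map_add, h2, add_zero, map_mul, ex]
          have h3 : Ideal.Quotient.mk J (fst c) * φ ⟨fst x, hx⟩ = fst c • φ ⟨fst x, hx⟩ := by
            rw [Algebra.smul_def]
            rfl
          rw [h3, ← map_smul]
          congr 1 }
    have hrule : ∀ a b : P, (inl a + inr b : DualNumber P) ∈ J'' ↔
        ∃ h : a ∈ J, Ideal.Quotient.mk J b = φ ⟨a, h⟩ := by
      intro a b
      change (∃ h : fst (inl a + inr b : DualNumber P) ∈ J,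
        Ideal.Quotient.mk J (snd (inl a + inr b : DualNumber P)) =
          φ ⟨fst (inl a + inr b : DualNumber P), h⟩) ↔ _
      constructor
      · rintro ⟨h, e⟩
        refine ⟨hfst a b ▸ h, ?_⟩
        rw [hsnd] at e
        rw [e]
        exact phi_congr J φ _ _ _ _ (hfst a b)
      · rintro ⟨h, e⟩
        refine ⟨(hfst a b).symm ▸ h, ?_⟩
        rw [hsnd, e]
        exact phi_congr J φ _ _ _ _ (hfst a b).symm
    refine ⟨J'', hrule, ?_⟩
    intro J₁ hJ₁
    ext x
    rw [decomp_aux x, hJ₁, hrule]
  · -- flat lifts correspond to φ
    have hsurj : Function.Surjective (TrivSqZeroExt.fstHom P P P) := by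
      intro a
      exact ⟨inl a, by simp⟩
    constructor
    · rintro ⟨hmap, hflat⟩
      -- elements of J are first components of elements of J'
      have hJ : ∀ a : P, a ∈ J ↔ ∃ b : P, (inl a + inr b : DualNumber P) ∈ J' := by
        intro a
        rw [← hmap, Ideal.mem_map_iff_of_surjective _ hsurj]
        constructor
        · rintro ⟨x, hx, rfl⟩
          refine ⟨snd x, ?_⟩
          have : (inl ((TrivSqZeroExt.fstHom P P P) x) + inr (snd x) : DualNumber P) = x :=
            (decomp_aux x).symm
          rw [this]
          exact hx
        · rintro ⟨b, hb⟩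
          exact ⟨_, hb, by simp⟩
      -- ε c ∈ J' ↔ c ∈ J
      have hε : ∀ c : P, (inr c : DualNumber P) ∈ J' ↔ c ∈ J := by
        intro c
        constructor
        · intro hc
          have h0 : Ideal.Quotient.mk J' DualNumber.eps * Ideal.Quotient.mk J' (inl c) = 0 := by
            rw [← map_mul, Ideal.Quotient.eq_zero_iff_mem]
            have := eps_mul_aux c (0 : P)
            rw [inr_zero, add_zero] at this
            rw [this]
            exact hc
          obtain ⟨m', hm'⟩ := hflat _ h0
          obtain ⟨y, rfl⟩ := Ideal.Quotient.mk_surjective m'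
          rw [← map_mul, Ideal.Quotient.eq, decomp_aux y, eps_mul_aux] at hm'
          rw [hJ]
          refine ⟨- fst y, ?_⟩
          have : (inl c + inr (- fst y) : DualNumber P) = inl c - inr (fst y) := by
            rw [inr_neg, sub_eq_add_neg]
          rw [this]
          exact hm'
        · intro hc
          obtain ⟨b, hb⟩ := (hJ c).mp hc
          have := J'.mul_mem_left DualNumber.eps hb
          rwa [eps_mul_aux] at this
      have hwd : ∀ a b b' : P, (inl a + inr b : DualNumber P) ∈ J' →
          (inl a + inr b' : DualNumber P) ∈ J' → Ideal.Quotient.mk J b = Ideal.Quotient.mk J b' := by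
        intro a b b' h1 h2
        rw [Ideal.Quotient.eq, ← hε]
        have := J'.sub_mem h1 h2
        have e : (inl a + inr b - (inl a + inr b') : DualNumber P) = inr (b - b') := by
          rw [inr_sub]; abel
        rwa [e] at this
      choose! β hβ using fun a => (hJ a).mp
      let φ : J →ₗ[P] (P ⧸ J) :=
        { toFun := fun a => Ideal.Quotient.mk J (β a.1)
          map_add' := by
            intro a₁ a₂
            rw [← map_add]
            apply hwd (a₁.1 + a₂.1)
            · exact hβ _ (J.add_mem a₁.2 a₂.2)
            · have := J'.add_mem (hβ _ a₁.2) (hβ _ a₂.2)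
              have e : (inl a₁.1 + inr (β a₁.1) + (inl a₂.1 + inr (β a₂.1)) : DualNumber P) =
                  inl (a₁.1 + a₂.1) + inr (β a₁.1 + β a₂.1) := by
                rw [inl_add, inr_add]; abel
              rwa [e] at this
          map_smul' := by
            intro r a
            rw [RingHom.id_apply, Algebra.smul_def]
            change Ideal.Quotient.mk J (β (r * a.1)) = Ideal.Quotient.mk J r * Ideal.Quotient.mk J (β a.1)
            rw [← map_mul]
            apply hwd (r * a.1)
            · exact hβ _ (J.mul_mem_left r a.2)
            · have := J'.mul_mem_left (inl r) (hβ _ a.2)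
              have e : (inl r * (inl a.1 + inr (β a.1)) : DualNumber P) =
                  inl (r * a.1) + inr (r * β a.1) := by
                apply TrivSqZeroExt.ext <;> simp
              rwa [e] at this }
      refine ⟨φ, ?_⟩
      intro a b
      constructor
      · intro hab
        have ha : a ∈ J := (hJ a).mpr ⟨b, hab⟩
        exact ⟨ha, hwd a b (β a) hab (hβ a ha)⟩
      · rintro ⟨ha, e⟩
        have e' : Ideal.Quotient.mk J b = Ideal.Quotient.mk J (β a) := e
        rw [Ideal.Quotient.eq, ← hε] at e'
        have := J'.add_mem (hβ a ha) e'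
        have e2 : (inl a + inr (β a) + inr (b - β a) : DualNumber P) = inl a + inr b := by
          rw [inr_sub]; abel
        rwa [e2] at this
    · rintro ⟨φ, hφ⟩
      constructor
      · ext a
        rw [Ideal.mem_map_iff_of_surjective _ hsurj]
        constructor
        · rintro ⟨x, hx, rfl⟩
          rw [decomp_aux x, hφ] at hx
          exact hx.1
        · intro ha
          obtain ⟨b, hb⟩ := Ideal.Quotient.mk_surjective (φ ⟨a, ha⟩)
          exact ⟨inl a + inr b, (hφ a b).mpr ⟨ha, hb⟩, by simp⟩
      · intro m hm
        obtain ⟨x, rfl⟩ := Ideal.Quotient.mk_surjective m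
        rw [← map_mul, Ideal.Quotient.eq_zero_iff_mem, decomp_aux x, eps_mul_aux] at hm
        have hm' : (inl 0 + inr (fst x) : DualNumber P) ∈ J' := by
          rw [inl_zero, zero_add]; exact hm
        obtain ⟨h0, e0⟩ := (hφ 0 (fst x)).mp hm'
        have hφ0 : φ ⟨0, h0⟩ = 0 := by
          have : (⟨0, h0⟩ : J) = 0 := rfl
          rw [this, map_zero]
        rw [hφ0, Ideal.Quotient.eq_zero_iff_mem] at e0
        obtain ⟨a', ha'⟩ := Ideal.Quotient.mk_surjective
          (Ideal.Quotient.mk J (snd x) - φ ⟨fst x, e0⟩)
        refine ⟨Ideal.Quotient.mk J' (inl a'), ?_⟩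
        rw [← map_mul, Ideal.Quotient.eq]
        have e1 : (x - DualNumber.eps * inl a' : DualNumber P) = inl (fst x) + inr (snd x - a') := by
          have := eps_mul_aux a' (0 : P)
          rw [inr_zero, add_zero] at this
          rw [this]
          conv_lhs => rw [decomp_aux x]
          rw [inr_sub]; abel
        rw [e1, hφ]
        refine ⟨e0, ?_⟩
        rw [map_sub, ha']
        abel

end Groth.Agent.S11294
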