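import Groth.Statements.S11306
import Mathlib
-- import your own Groth.Agent.* helpers here

set_option autoImplicit false
universe u
open TensorProduct
open CAlg

namespace Groth.Agent.S11306

/-- Take a Noetherian local domain A, with residue field k and fraction field K, and let M be a finitely
generated A-module. If k ⊗_A M and K ⊗_A M have the same dimension r (over k and over K
respectively), then M is a free A-module of rank r. -/
theorem result (A : Type u) [CommRing A] [IsDomain A]
    [IsNoetherianRing A] [IsLocalRing A] (M : Type u) [AddCommGroup M] [Module A M] [Module.Finite A M] (r : ℕ)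
    (hk : Module.finrank (IsLocalRing.ResidueField A) (IsLocalRing.ResidueField A ⊗[A] M) = r)
    (hK : Module.finrank (FractionRing A) (FractionRing A ⊗[A] M) = r) :
    Module.Free A M ∧ Module.finrank A M = r := by
  classical
  have hfin : Module.finrank (IsLocalRing.ResidueField A) (IsLocalRing.ResidueField A ⊗[A] M) =
      Fintype.card (Fin r) := by rw [hk, Fintype.card_fin]
  let b : Module.Basis (Fin r) (IsLocalRing.ResidueField A) (IsLocalRing.ResidueField A ⊗[A] M) :=
    Module.finBasisOfFinrankEq _ _ hk
  have hsurj := TensorProduct.mk_surjective A M (IsLocalRing.ResidueField A)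
    (IsLocalRing.residue_surjective (R := A))
  choose f hf using fun i => hsurj (b i)
  have hspan : Submodule.span A (Set.range f) = ⊤ :=
    IsLocalRing.span_eq_top_of_tmul_eq_basis f b hf
  let φ : (Fin r → A) →ₗ[A] M := Fintype.linearCombination A f
  have hφsurj : Function.Surjective φ := by
    rw [← LinearMap.range_eq_top, Fintype.range_linearCombination, hspan]
  -- base change to the fraction field
  let ψ : FractionRing A ⊗[A] (Fin r → A) →ₗ[FractionRing A] FractionRing A ⊗[A] M :=
    LinearMap.baseChange (FractionRing A) φ
  have hψsurj : Function.Surjective ψ := by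
    have : (ψ : FractionRing A ⊗[A] (Fin r → A) → FractionRing A ⊗[A] M) =
        LinearMap.lTensor (FractionRing A) φ := by
      ext x; rfl
    rw [this]
    exact LinearMap.lTensor_surjective _ hφsurj
  have hdim : Module.finrank (FractionRing A) (FractionRing A ⊗[A] (Fin r → A)) =
      Module.finrank (FractionRing A) (FractionRing A ⊗[A] M) := by
    rw [hK, Module.finrank_baseChange, Module.finrank_fin_fun]
  have hψinj : Function.Injective ψ :=
    (LinearMap.injective_iff_surjective_of_finrank_eq_finrank hdim).mpr hψsurj
  have hιinj : Function.Injective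
      (LinearMap.rTensor (Fin r → A) (Algebra.linearMap A (FractionRing A))) :=
    Module.Flat.rTensor_preserves_injective_linearMap _
      (IsFractionRing.injective A (FractionRing A))
  have hφinj : Function.Injective φ := by
    rw [← LinearMap.ker_eq_bot, LinearMap.ker_eq_bot']
    intro a ha
    have h1 : ψ (1 ⊗ₜ[A] a) = 0 := by
      change LinearMap.baseChange (FractionRing A) φ (1 ⊗ₜ[A] a) = 0
      rw [LinearMap.baseChange_tmul, ha, TensorProduct.tmul_zero]
    have h2 : (1 : FractionRing A) ⊗ₜ[A] a = 0 := hψinj (by rw [h1, map_zero])
    have h3 : LinearMap.rTensor (Fin r → A) (Algebra.linearMap A (FractionRing A))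
        ((1 : A) ⊗ₜ[A] a) = 0 := by
      rw [LinearMap.rTensor_tmul, Algebra.linearMap_apply, map_one, h2]
    have h4 : (1 : A) ⊗ₜ[A] a = 0 := hιinj (by rw [h3, map_zero])
    have := congrArg (TensorProduct.lid A (Fin r → A)) h4
    simpa using this
  let e : (Fin r → A) ≃ₗ[A] M := LinearEquiv.ofBijective φ ⟨hφinj, hφsurj⟩
  refine ⟨Module.Free.of_equiv e, ?_⟩
  rw [← e.finrank_eq, Module.finrank_fin_fun]

end Groth.Agent.S11306
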