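import Groth.Statements.S11320
import Mathlib
import Groth.Agent.Lib.Helper16QcSect
import Groth.Agent.Lib.Helper16CechLES
-- import your own Groth.Agent.* helpers here

set_option autoImplicit false
set_option linter.style.haveILetI false
set_option linter.unusedSectionVars false
universe u
open CategoryTheory CategoryTheory.Limits
open CohTop

namespace Groth.Agent.S11320

section
open TopologicalSpace Opposite Groth.Agent.Lib.Helper16.QcSect Groth.Agent.Lib.Helper16.FiltColim

variable {X : TopCat.{u}}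

lemma qc_of_noetherian [NoetherianSpace X] (W : Opens X) : QC (Opens.grothendieckTopology X) W := by
  intro T hT
  have hx : ∀ x : X, x ∈ W → ∃ W' : Opens X, x ∈ W' ∧ ∃ h : W' ⟶ W, T.arrows h := fun x hx => by
    obtain ⟨W₀, f, hf, hxW₀⟩ := hT x hx
    exact ⟨W₀, hxW₀, f, hf⟩
  choose! W' hxW' hW'W hW'T using hx
  obtain ⟨t, htW, htcov⟩ := IsCompact.elim_nhds_subcover (NoetherianSpace.isCompact (W : Set X))
    (fun x => (W' x : Set X)) (fun x hx => (W' x).isOpen.mem_nhds (hxW' x hx))
  refine ⟨{x // x ∈ t}, inferInstance, fun k => Over.mk (hW'W k.1 (htW k.1 k.2)),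
    fun k => hW'T k.1 (htW k.1 k.2), ?_⟩
  apply Groth.Agent.Lib.Helper16.CechLES.covering_of_iSup
  intro x hx
  obtain ⟨y, hy, hxy⟩ := Set.mem_iUnion₂.1 (htcov hx)
  exact Opens.mem_iSup.2 ⟨⟨y, hy⟩, hxy⟩

lemma qc2_of_noetherian [NoetherianSpace X] (W : Opens X) : QC2 (Opens.grothendieckTopology X) W := by
  intro T hT
  obtain ⟨κ, hfin, Y, hYT, hY⟩ := qc_of_noetherian W T hT
  exact ⟨κ, hfin, Y, hYT, hY, fun a b => ⟨_, 𝟙 _, 𝟙 _, Category.id_comp _, qc_of_noetherian _⟩⟩

theorem result' [NoetherianSpace X]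
    (ι : Type u) [Preorder ι] [IsDirected ι (· ≤ ·)] [Nonempty ι]
    (D : ι ⥤ CohTop.Ab X) (hD : ∀ i : ι, TopCat.Sheaf.IsFlasque (D.obj i)) :
    TopCat.Sheaf.IsFlasque (colimit D : CohTop.Ab X) := by
  refine ⟨fun {U V} i => ?_⟩
  rw [AddCommGrpCat.epi_iff_surjective]
  intro s
  have hg := good_sections' (Opens.grothendieckTopology X) D V.unop (qc2_of_noetherian _)
    (colimit.cocone D) (colimit.isColimit D)
  obtain ⟨k, y, hy⟩ := hg.surj s
  change ((colimit.ι D k).hom.app (op V.unop)).hom y = s at hy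
  haveI := hD k
  have hepi : Epi ((D.obj k).obj.map i) := TopCat.Presheaf.IsFlasque.epi i
  rw [AddCommGrpCat.epi_iff_surjective] at hepi
  obtain ⟨y', hy'⟩ := hepi y
  refine ⟨((colimit.ι D k).hom.app U).hom y', ?_⟩
  have := ConcreteCategory.congr_hom ((colimit.ι D k).hom.naturality i) y'
  simp only [ConcreteCategory.comp_apply] at this
  rw [← hy, ← hy']
  exact this.symm

end


/-- On a Noetherian topological space X, the direct limit, in the category of abelian sheaves, of a
directed system (F_i) of flasque abelian sheaves indexed by a nonempty directed preorder is flasque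
(all its restriction maps are surjective). -/
theorem result {X : TopCat.{u}} [TopologicalSpace.NoetherianSpace X]
    (ι : Type u) [Preorder ι] [IsDirected ι (· ≤ ·)] [Nonempty ι]
    (D : ι ⥤ CohTop.Ab X) (hD : ∀ i : ι, TopCat.Sheaf.IsFlasque (D.obj i)) :
    TopCat.Sheaf.IsFlasque (colimit D : CohTop.Ab X) := by
  exact result' ι D hD

end Groth.Agent.S11320
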