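import Groth.Statements.S11323
import Mathlib
import Groth.Agent.Lib.Helper20StkRes
import Groth.Agent.Lib.LeadExtRes3
import Groth.Agent.Lib.Helper17FinLoc

set_option autoImplicit false
universe u
open CategoryTheory AlgebraicGeometry TopologicalSpace
open Coherent

namespace Groth.Agent.S11323
open Coherent
open CategoryTheory.Limits CategoryTheory.Abelian Opposite
open Groth.Agent.LeadExtAff Groth.Agent.LeadExtRes Groth.Agent.Lib.Helper20.StkHom
  Groth.Agent.Lib.Helper21.ExtShDelta

attribute [local instance] hasSheafHom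


/-- Let X be a Noetherian scheme, F a coherent O_X-module, G any O_X-module, x a point of X and i ≥ 0.
Then the stalk at x of the Ext sheaf Ext^i(F, G) — the i-th right derived functor of the internal
Hom functor Hom(F, -) on O_X-modules (its existence and that of injective resolutions are the stated
instance hypotheses, both true), evaluated at G — is isomorphic, as a module over the local ring at
x, to Ext^i of the stalks F_x, G_x computed in the category of modules over that local ring. (Stalks
are taken as fibres at the point of the site of opens given by x; existence of an isomorphism only.) -/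
theorem result (X : Scheme.{u}) [IsNoetherian X]
    (F G : X.Modules) (hF : Coh.IsCoh F)
    [ModSite.HasSheafHom (O := X.sheaf) F] [HasInjectiveResolutions (ModSite.Mod X.sheaf)]
    (x : X) (i : ℕ) :
    Nonempty (ModSite.stalkMod (Opens.pointGrothendieckTopology x) ((ModSite.extSh (O := X.sheaf) F i).obj G)
      ≃ₗ[ModSite.stalkRing (Opens.pointGrothendieckTopology x) X.sheaf]
      Abelian.Ext (ModSite.stalkMod (O := X.sheaf) (Opens.pointGrothendieckTopology x) F)
        (ModSite.stalkMod (O := X.sheaf) (Opens.pointGrothendieckTopology x) G) i) := by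
  obtain ⟨U, hU, hxU⟩ : ∃ U : X.Opens, IsAffineOpen U ∧ x ∈ U := by
    obtain ⟨_, ⟨U, hU, rfl⟩, hxU, -⟩ :=
      X.isBasis_affineOpens.exists_subset_of_mem_open (Set.mem_univ x) isOpen_univ
    exact ⟨U, hU, hxU⟩
  obtain ⟨y, rfl⟩ : ∃ y : (↑U : Scheme.{u}), U.ι y = x := ⟨⟨x, hxU⟩, rfl⟩
  haveI : IsAffine (↑U : Scheme.{u}) := hU
  haveI : IsLocallyNoetherian (↑U : Scheme.{u}) := isLocallyNoetherian_of_isOpenImmersion U.ι
  haveI : IsNoetherian (↑U : Scheme.{u}) := {}
  haveI := Groth.Agent.Lib.Helper17.QCPush.enoughInjectives (↑U : Scheme.{u})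
  haveI : HasInjectiveResolutions (ModSite.Mod (↑U : Scheme.{u}).sheaf) :=
    inferInstanceAs (HasInjectiveResolutions (↑U : Scheme.{u}).Modules)
  have hF' : Coh.IsCoh ((rF U).obj F) :=
    Groth.Agent.Lib.Helper17.FinLoc.isCoh_restrict U.ι F hF
  have hρ := rho_bijective U.ι y
  obtain ⟨e2⟩ := nonempty_Sig_extSh_equiv y (rho U.ι y) ((rF U).obj G) hρ i ((rF U).obj F) hF'
  let E := (ModSite.extSh (O := X.sheaf) F i).obj G
  have e1 : (rF U).obj E ≅ (ModSite.extSh (O := (↑U : Scheme.{u}).sheaf) ((rF U).obj F) i).obj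
      ((rF U).obj G) := (extShRestrIso U F i).app G
  exact ⟨thetaEquiv U.ι y E ≪≫ₗ ((SigF y (rho U.ι y)).mapIso e1).toLinearEquiv ≪≫ₗ e2 ≪≫ₗ
    extCongrLeft (thetaEquiv U.ι y F).toModuleIso _ i ≪≫ₗ
    extCongrRight _ (thetaEquiv U.ι y G).symm.toModuleIso i⟩

end Groth.Agent.S11323
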