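import Groth.Statements.S14409
import Mathlib
import Groth.Agent.Lib.LeadExtAff7
import Groth.Agent.Lib.LeadExtRes3
import Groth.Agent.Lib.Helper17FinLoc

set_option autoImplicit false
universe u
open CategoryTheory AlgebraicGeometry TopologicalSpace Opposite
open Coherent

namespace Groth.Agent.S14409
open Coherent
open CategoryTheory.Limits CategoryTheory.Abelian
open Groth.Agent.LeadExtAff Groth.Agent.LeadExtRes Groth.Agent.Lib.Helper23.QCohLocal
  Groth.Agent.Lib.Helper21.ExtShDelta Groth.Agent.Lib.Helper21.DerPost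
  Groth.Agent.Lib.Helper21.HomI Groth.Agent.Lib.Helper21.HomU Groth.Agent.Lib.Helper17.FFaith

noncomputable section

section Equiv

variable {Y Y' : Scheme.{u}} (e : Y' ⟶ Y) [IsIso e]

/-- restriction along an isomorphism is an equivalence. -/
def restrEquiv : Y.Modules ≌ Y'.Modules :=
  CategoryTheory.Equivalence.mk (Scheme.Modules.restrictFunctor e) (Scheme.Modules.restrictFunctor (inv e))
    ((Scheme.Modules.restrictFunctorId).symm ≪≫
      Scheme.Modules.restrictFunctorCongr (IsIso.inv_hom_id e).symm ≪≫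
      Scheme.Modules.restrictFunctorComp (inv e) e)
    ((Scheme.Modules.restrictFunctorComp e (inv e)).symm ≪≫
      Scheme.Modules.restrictFunctorCongr (IsIso.hom_inv_id e) ≪≫
      Scheme.Modules.restrictFunctorId)

theorem preservesInjectiveObjects_restrictFunctor_of_isIso :
    (Scheme.Modules.restrictFunctor e).PreservesInjectiveObjects :=
  Functor.preservesInjectiveObjects_of_adjunction_of_preservesMonomorphisms
    (restrEquiv e).symm.toAdjunction

end Equiv

variable {X : Scheme.{u}} {U : X.Opens} (hU : IsAffineOpen U)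

theorem preservesInjectiveObjects_restrictFunctor_fromSpec :
    (Scheme.Modules.restrictFunctor hU.fromSpec).PreservesInjectiveObjects := by
  haveI := preservesInjectiveObjects_restrictFunctor_of_isIso hU.isoSpec.inv
  have e : Scheme.Modules.restrictFunctor hU.fromSpec ≅
      Scheme.Modules.restrictFunctor U.ι ⋙ Scheme.Modules.restrictFunctor hU.isoSpec.inv :=
    Scheme.Modules.restrictFunctorCongr (show hU.fromSpec = hU.isoSpec.inv ≫ U.ι from rfl) ≪≫
      Scheme.Modules.restrictFunctorComp hU.isoSpec.inv U.ι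
  constructor
  intro I hI
  haveI : Injective ((Scheme.Modules.restrictFunctor U.ι).obj I) :=
    Functor.PreservesInjectiveObjects.injective_obj hI
  haveI : Injective ((Scheme.Modules.restrictFunctor hU.isoSpec.inv).obj
      ((Scheme.Modules.restrictFunctor U.ι).obj I)) :=
    Functor.PreservesInjectiveObjects.injective_obj inferInstance
  exact Injective.of_iso (e.app I).symm inferInstance

theorem image_top : hU.fromSpec ''ᵁ ⊤ = U := by
  rw [Scheme.Hom.image_top_eq_opensRange, hU.opensRange_fromSpec]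


/-- the key ring identity: restricting `(j.appIso ⊤).inv (cΓ r)` to `U` gives back `r`. -/
theorem key_ring :
    (Scheme.ΓSpecIso Γ(X, U)).inv ≫ (Spec Γ(X, U)).presheaf.map
      ((⊤ : (Spec Γ(X, U)).Opens).leTop.op) ≫ (hU.fromSpec.appIso ⊤).inv ≫
      X.presheaf.map (homOfLE (image_top hU).ge).op = 𝟙 _ := by
  have e : (⊤ : (Spec Γ(X, U)).Opens) ≤ hU.fromSpec ⁻¹ᵁ U := by
    rw [hU.fromSpec_preimage_self]
  have h1 : (Scheme.ΓSpecIso Γ(X, U)).inv ≫ (Spec Γ(X, U)).presheaf.map
      ((⊤ : (Spec Γ(X, U)).Opens).leTop.op) = hU.fromSpec.appLE U ⊤ e := by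
    rw [Scheme.Hom.appLE, hU.fromSpec_app_self, Category.assoc, ← Functor.map_comp]
    rfl
  rw [← Category.assoc, h1]
  rw [Scheme.Hom.appLE_appIso_inv_assoc, ← Functor.map_comp]
  exact X.presheaf.map_id _

theorem key_elt (r : Γ(X, U)) :
    rsO X.ringCatSheaf (homOfLE (image_top hU).ge)
      ((hU.fromSpec.appIso ⊤).inv.hom (cΓ (R := Γ(X, U)) r)) = r := by
  have h := congrArg (fun φ => φ.hom r) (key_ring hU)
  exact h

/-- sections over `⊤` of the restriction along `fromSpec` are the sections over `U`. -/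
def secEquiv (M : X.Modules) :
    ↑((ΓF Γ(X, U)).obj (M.restrict hU.fromSpec)) ≃ₗ[Γ(X, U)]
      ↑(M.val.obj (op U)) where
  toFun x := rs M (V := hU.fromSpec ''ᵁ ⊤) (homOfLE (image_top hU).ge) x
  invFun y := rs M (V' := hU.fromSpec ''ᵁ ⊤) (homOfLE (image_top hU).le) y
  map_add' x y := rs_add M (V := hU.fromSpec ''ᵁ ⊤) (homOfLE (image_top hU).ge) x y
  map_smul' r x := by
    have h := rs_smul M (V := hU.fromSpec ''ᵁ ⊤) (homOfLE (image_top hU).ge)
      ((hU.fromSpec.appIso ⊤).inv.hom (cΓ (R := Γ(X, U)) r)) x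
    rw [key_elt] at h
    exact h
  left_inv x := by
    have h := rs_comp M (V := hU.fromSpec ''ᵁ ⊤) (homOfLE (image_top hU).ge)
      (homOfLE (image_top hU).le) x
    exact h.symm.trans (rs_id M (V := hU.fromSpec ''ᵁ ⊤) x)
  right_inv y := by
    have h := rs_comp M (V := U) (homOfLE (image_top hU).le)
      (homOfLE (image_top hU).ge) y
    exact h.symm.trans (rs_id M y)


section ExtRestr

attribute [local instance] preservesFiniteLimits_restrictFunctor
  preservesFiniteColimits_restrictFunctor restrictFunctor_additive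

/-- restriction along `fromSpec`, typed on the prelude's module categories. -/
def rJ : ModSite.Mod X.sheaf ⥤ ModSite.Mod (Spec Γ(X, U)).sheaf :=
  Scheme.Modules.restrictFunctor hU.fromSpec

instance : (rJ hU).Additive := restrictFunctor_additive hU.fromSpec

instance : PreservesFiniteLimits (rJ hU) := preservesFiniteLimits_restrictFunctor hU.fromSpec

instance : PreservesFiniteColimits (rJ hU) := preservesFiniteColimits_restrictFunctor hU.fromSpec

instance : (rJ hU).PreservesInjectiveObjects :=
  preservesInjectiveObjects_restrictFunctor_fromSpec hU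

variable (F : ModSite.Mod X.sheaf) [ModSite.HasSheafHom (O := X.sheaf) F]
  [ModSite.HasSheafHom (O := (Spec Γ(X, U)).sheaf) ((rJ hU).obj F)]

def restrSheafHomIsoJ :
    ModSite.sheafHom (O := X.sheaf) F ⋙ rJ hU ≅
      rJ hU ⋙ ModSite.sheafHom (O := (Spec Γ(X, U)).sheaf) ((rJ hU).obj F) :=
  Functor.isoWhiskerRight (sheafHomFIso F) (Scheme.Modules.restrictFunctor hU.fromSpec) ≪≫
    restrSHomFIso hU.fromSpec F ≪≫
    Functor.isoWhiskerLeft (Scheme.Modules.restrictFunctor hU.fromSpec)
      (sheafHomFIso ((rJ hU).obj F)).symm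

variable [HasInjectiveResolutions (ModSite.Mod X.sheaf)]
  [HasInjectiveResolutions (ModSite.Mod (Spec Γ(X, U)).sheaf)]

def extShRestrIsoJ (i : ℕ) :
    ModSite.extSh (O := X.sheaf) F i ⋙ rJ hU ≅
      rJ hU ⋙ ModSite.extSh (O := (Spec Γ(X, U)).sheaf) ((rJ hU).obj F) i :=
  (postIso (ModSite.sheafHom (O := X.sheaf) F) (rJ hU) i).symm ≪≫
    natIsoRightDerived (restrSheafHomIsoJ hU F) i ≪≫
    Groth.Agent.Lib.Helper23DerComp.compIso (rJ hU)
      (ModSite.sheafHom (O := (Spec Γ(X, U)).sheaf) ((rJ hU).obj F)) i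

end ExtRestr


attribute [local instance] hasSheafHom

theorem main (X : Scheme.{u}) [IsLocallyNoetherian X]
    (U : X.Opens) (hU : IsAffineOpen U) (F G : X.Modules) (hF : Coh.IsCoh F) (hG : Coh.IsCoh G)
    [ModSite.HasSheafHom (O := X.sheaf) F] [HasInjectiveResolutions (ModSite.Mod X.sheaf)] (i : ℕ) :
    Nonempty (((ModSite.extSh (O := X.sheaf) F i).obj G).val.obj (op U)
      ≃ₗ[Γ(X, U)] Abelian.Ext (ModuleCat.of Γ(X, U) (F.val.obj (op U))) (ModuleCat.of Γ(X, U) (G.val.obj (op U))) i) := by
  haveI : IsNoetherianRing Γ(X, U) := IsLocallyNoetherian.component_noetherian ⟨U, hU⟩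
  haveI := Groth.Agent.Lib.Helper17.QCPush.enoughInjectives (Spec Γ(X, U))
  haveI : HasInjectiveResolutions (ModSite.Mod (Spec Γ(X, U)).sheaf) :=
    inferInstanceAs (HasInjectiveResolutions (Spec Γ(X, U)).Modules)
  have hF' : Coh.IsCoh ((rJ hU).obj F) :=
    Groth.Agent.Lib.Helper17.FinLoc.isCoh_restrict hU.fromSpec F hF
  have hG' : Coh.IsCoh ((rJ hU).obj G) :=
    Groth.Agent.Lib.Helper17.FinLoc.isCoh_restrict hU.fromSpec G hG
  haveI : ((rJ hU).obj G).IsQuasicoherent := hG'.1
  obtain ⟨e2⟩ := nonempty_Γ_extSh_equiv ((rJ hU).obj G) i ((rJ hU).obj F) hF'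
  let E := (ModSite.extSh (O := X.sheaf) F i).obj G
  have e1 : (rJ hU).obj E ≅ (ModSite.extSh (O := (Spec Γ(X, U)).sheaf) ((rJ hU).obj F) i).obj
      ((rJ hU).obj G) := (extShRestrIsoJ hU F i).app G
  exact ⟨(secEquiv hU E).symm ≪≫ₗ ((ΓF Γ(X, U)).mapIso e1).toLinearEquiv ≪≫ₗ e2 ≪≫ₗ
    extCongrLeft (secEquiv hU F).symm.toModuleIso _ i ≪≫ₗ
    extCongrRight _ (secEquiv hU G).toModuleIso i⟩


end


/-- Let k be an algebraically closed field and X a variety over k, modelled as a reduced scheme
separated and of finite type over k; let U be an affine open subset of X and F, G coherent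
O_X-modules (quasi-coherent of finite type; X is Noetherian). For i ≥ 0 let Ext^i(F, G) be the i-th
local Ext sheaf, the i-th right derived functor of the internal Hom functor Hom(F, -) on O_X-modules
evaluated at G (existence of that internal Hom and of injective resolutions are the stated instance
hypotheses, both true). Then the module of sections Γ(U, Ext^i(F, G)) over the ring R = Γ(U, O_X) is
R-linearly isomorphic to Ext^i_R(F(U), G(U)), computed in the category of R-modules (existence of an
isomorphism only). -/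
theorem result (k : Type u) [Field k] [IsAlgClosed k]
    (X : Scheme.{u}) [X.Over (Spec (CommRingCat.of k))] [IsReduced X]
    [IsSeparated (X ↘ (Spec (CommRingCat.of k)))] [LocallyOfFiniteType (X ↘ (Spec (CommRingCat.of k)))] [CompactSpace ↥X]
    (U : X.Opens) (hU : IsAffineOpen U) (F G : X.Modules) (hF : Coh.IsCoh F) (hG : Coh.IsCoh G)
    [ModSite.HasSheafHom (O := X.sheaf) F] [HasInjectiveResolutions (ModSite.Mod X.sheaf)] (i : ℕ) :
    Nonempty (((ModSite.extSh (O := X.sheaf) F i).obj G).val.obj (op U)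
      ≃ₗ[Γ(X, U)] Abelian.Ext (ModuleCat.of Γ(X, U) (F.val.obj (op U))) (ModuleCat.of Γ(X, U) (G.val.obj (op U))) i) := by
  haveI : IsLocallyNoetherian X :=
    LocallyOfFiniteType.isLocallyNoetherian (X ↘ (Spec (CommRingCat.of k)))
  exact main X U hU F G hF hG i

end Groth.Agent.S14409
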