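import Groth.Statements.S15513
import Groth.Agent.S14409
import Groth.Agent.Lib.Helper29ExtDepthC
import Groth.Agent.Lib.Helper29ProjDepthB
import Groth.Agent.Lib.Helper4DevI

set_option autoImplicit false
universe u
open CategoryTheory CategoryTheory.Limits AlgebraicGeometry
open ProjDual

namespace Groth.Agent.S15513

/-- Let k be a field, P = P^N_k, ι : X → P a closed immersion, r a natural number with dim X + r ≤ N (X
has codimension at least r), and E a finite locally free O_P-module. Then for every i < r the Ext
sheaf Ext^i_{O_P}(ι_* O_X, E) — the i-th right derived functor of the internal Hom functor Hom(ι_*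
O_X, -) on O_P-modules (its existence and that of injective resolutions are the stated instance
hypotheses, both true), evaluated at E — is zero. (The published statement takes N ≥ 1 and r = N -
dim X; the case N = 0 and smaller r are trivially included.) -/
theorem result (k : Type u) [Field k] (N : ℕ)
    {X : Scheme.{u}} (ι : X ⟶ CohB1.ProjSpace N k) [IsClosedImmersion ι] (r : ℕ)
    (hr : topologicalKrullDim ↥X + (r : WithBot ℕ∞) ≤ (N : WithBot ℕ∞))
    (E : (CohB1.ProjSpace N k).Modules) (hE : FlatMod.IsFinLocFree E)
    [ModSite.HasSheafHom (O := (CohB1.ProjSpace N k).sheaf) ((Scheme.Modules.pushforward ι).obj (Coh.structureModule X))]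
    [HasInjectiveResolutions (ModSite.Mod (CohB1.ProjSpace N k).sheaf)] (i : ℕ) (hi : i < r) :
    IsZero ((ModSite.extSh (O := (CohB1.ProjSpace N k).sheaf)
      ((Scheme.Modules.pushforward ι).obj (Coh.structureModule X)) i).obj E) := by
  haveI := Groth.Agent.Lib.Helper29.ProjDepth.isLocallyNoetherian_projSpace N k
  have hcl : IsClosed (Set.range ι) := ι.isClosedEmbedding.isClosed_range
  let U : (CohB1.ProjSpace N k).Opens := ⟨(Set.range ι)ᶜ, hcl.isOpen_compl⟩
  have hE' : Coh.IsCoh E := Groth.Agent.Lib.Helper21.HZB.isCoh_of_isFinLocFree E hE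
  have hG : Coh.IsCoh ((Scheme.Modules.pushforward ι).obj (Coh.structureModule X)) :=
    Groth.Agent.Lib.Helper4.Dev.isCoh_push_closed ι _
      (Groth.Agent.Lib.Helper4.Dev.isCoh_structureModule X)
  refine Groth.Agent.Lib.Helper29.ExtDepthC.isZero_of_depth_ge U E hE' r _ hG
    (fun W hW j => Groth.Agent.S14409.main _ W hW _ E hG hE' j) ?_ ?_ i hi
  · intro x hx
    have hxr : x ∈ Set.range ι := not_not.mp hx
    exact Groth.Agent.Lib.Helper29.ProjDepth.le_depth_stalk ι r hr E hE x hxr
  · intro x hx hxU
    exact hxU (Groth.Agent.Lib.Helper4.Dev.support_push_subset ι _ hx)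

end Groth.Agent.S15513
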