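import Groth.Statements.S11327
import Mathlib
import Groth.Prelude.Def_CxOX
import Groth.Agent.Lib.Helper21ExtZero4
-- import your own Groth.Agent.* helpers here

set_option autoImplicit false
set_option linter.style.haveILetI false
set_option linter.unusedSectionVars false
universe u
open CategoryTheory AlgebraicGeometry
open Coherent

namespace Groth.Agent.S11327
open CategoryTheory.Limits


/-- Let X be a scheme, U an open subscheme of X and I an injective object of the category of
O_X-modules. Then the restriction I|_U is an injective object of the category of O_U-modules.
(Stated for schemes; the published statement is for an arbitrary ringed space.) -/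
theorem result (X : Scheme.{u}) (U : X.Opens) (I : X.Modules)
    (hI : Injective I) : Injective (I.restrict U.ι) := by
  haveI h0 : PreservesFiniteLimits (ModSite.extZero X.sheaf U) :=
    Groth.Agent.Lib.Helper21.ExtZeroS.instPreservesFiniteLimitsModOverOverCommRingCatExtZero
      (C := TopologicalSpace.Opens X) X.sheaf U
  haveI h1 : PreservesFiniteLimits (Scheme.Modules.overEquiv U).inverse := inferInstance
  have h2 : PreservesFiniteLimits ((Scheme.Modules.overEquiv U).inverse ⋙ ModSite.extZero X.sheaf U) :=
    @comp_preservesFiniteLimits _ _ _ _ _ _ _ _ h1 h0
  haveI : PreservesFiniteLimits (CxOX.extZero U.ι) :=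
    @preservesFiniteLimits_of_natIso _ _ _ _ _ _ (CxOX.extZeroIsoSite U).symm h2
  haveI : (CxOX.extZero U.ι).PreservesMonomorphisms := inferInstance
  exact Injective.injective_of_adjoint (CxOX.extZeroAdj U.ι) I

end Groth.Agent.S11327
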