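import Groth.Statements.S11329
import Mathlib
import Groth.Agent.Lib.Helper28InjFlasque
import Groth.Agent.Lib.Helper28Deligne
-- import your own Groth.Agent.* helpers here

set_option autoImplicit false
universe u
open CategoryTheory AlgebraicGeometry Opposite
open Coherent

namespace Groth.Agent.S11329

open TopologicalSpace Groth.Agent.Lib.Helper8.Tilde Groth.Agent.Lib.Helper28.Deligne
  Groth.Agent.Lib.Helper28.InjFlasque in
theorem toOpen_surjective (A : Type u) [CommRing A] [IsNoetherianRing A]
    (I : Type u) [AddCommGroup I] [Module A I] [Module.Injective A I]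
    (U : Opens (PrimeSpectrum.Top A)) :
    Function.Surjective (StructureSheaf.toOpenₗ A I U) := by
  set 𝔞 := PrimeSpectrum.vanishingIdeal (R := A) (U.1ᶜ) with h𝔞
  have hU : U = LocCoh.puncturedOpen A 𝔞 := by
    apply Opens.ext
    change U.1 = (PrimeSpectrum.zeroLocus (𝔞 : Set A))ᶜ
    rw [h𝔞, PrimeSpectrum.zeroLocus_vanishingIdeal_eq_closure]
    have hc : IsClosed (U.1ᶜ : Set (PrimeSpectrum A)) := U.isOpen.isClosed_compl
    rw [hc.closure_eq, compl_compl]
  rw [hU]
  intro s
  have hIT := isIT_toOpen (R := A) (M := I) 𝔞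
  obtain ⟨n, hn⟩ := hIT.cok s
  have hker : LinearMap.ker (StructureSheaf.toOpenₗ A I (LocCoh.puncturedOpen A 𝔞)) = tors 𝔞 I := by
    ext m
    rw [LinearMap.mem_ker, hIT.ker, mem_tors]
  have hT : Module.Injective A
      (LinearMap.ker (StructureSheaf.toOpenₗ A I (LocCoh.puncturedOpen A 𝔞))) := by
    rw [hker]
    exact tors_injective 𝔞
  obtain ⟨t, ht⟩ := exists_extension (StructureSheaf.toOpenₗ A I (LocCoh.puncturedOpen A 𝔞)) hT
    (𝔞 ^ n) s hn
  refine ⟨t, ?_⟩
  rw [← sub_eq_zero]
  apply hIT.tf
  exact ⟨n, fun c hc => by rw [smul_sub, ht c hc, sub_self]⟩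

/-- Let A be a Noetherian ring and I an injective A-module. Then the quasi-coherent sheaf I~ on Spec A
associated with I is flasque: for all opens U ⊆ V of Spec A the restriction map I~(V) → I~(U) is
surjective. -/
theorem result (A : Type u) [CommRing A] [IsNoetherianRing A]
    (I : Type u) [AddCommGroup I] [Module A I] [Module.Injective A I]
    (U V : (Spec (CommRingCat.of A)).Opens) (hUV : U ≤ V) :
    Function.Surjective ((tilde (ModuleCat.of A I)).val.map (homOfLE hUV).op).hom := by
  intro s
  obtain ⟨m, hm⟩ := toOpen_surjective A I U (Groth.Agent.Lib.Helper8.Tilde.secEquiv (R := A) (M := I) U s)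
  refine ⟨(tilde.toOpen (R := CommRingCat.of A) (ModuleCat.of A I) V).hom m, ?_⟩
  apply (Groth.Agent.Lib.Helper8.Tilde.secEquiv (R := A) (M := I) U).injective
  rw [← hm]
  rfl

end Groth.Agent.S11329
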