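import Groth.Statements.S11346
import Groth.Agent.Lib.Helper2RuledB
import Groth.Agent.Lib.Helper10CurveFlat
import Groth.Agent.Lib.Helper28Catenary
import Groth.Agent.Lib.Helper5RLR

set_option autoImplicit false
universe u
open CategoryTheory CategoryTheory.Limits AlgebraicGeometry
open Surf

namespace Groth.Agent.S11346

/-- a space of positive dimension has at least two points -/
theorem nontrivial_of_dim_eq_one (T : Type u) [TopologicalSpace T]
    (h : topologicalKrullDim T = 1) : Nontrivial T := by
  by_contra hnt
  rw [not_nontrivial_iff_subsingleton] at hnt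
  haveI : Subsingleton (TopologicalSpace.IrreducibleCloseds T) := by
    refine ⟨fun a b => ?_⟩
    obtain ⟨x, hx⟩ := a.isIrreducible'.nonempty
    obtain ⟨y, hy⟩ := b.isIrreducible'.nonempty
    apply SetLike.ext
    intro z
    constructor
    · intro _
      rw [Subsingleton.elim z y]
      exact hy
    · intro _
      rw [Subsingleton.elim z x]
      exact hx
  have h1 : topologicalKrullDim T ≤ 0 := Order.krullDim_nonpos_of_subsingleton
  rw [h] at h1
  exact absurd h1 (by decide)

/-- Let π : X → C be a ruled surface over an algebraically closed field k: X a surface (integral, of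
dimension two, all local rings regular, with a closed immersion into some P^n_k over k), C a curve
(integral, proper over k, of dimension one, all local rings regular), π : X → C a surjective
k-morphism whose fibre over every closed point is isomorphic to P^1_k and which admits a section σ.
If C has genus g, then p_a(X) = -g, p_g(X) = 0 and q(X) = g; that is, dim_k H^1(X, O_X) = g = dim_k
H^1(C, O_C) and H^2(X, O_X) = 0. -/
theorem result (k : Type u) [Field k] [IsAlgClosed k] (X : Scheme.{u}) [X.Over (Spec (CommRingCat.of k))]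
    [IsIntegral X] (hdim : topologicalKrullDim X = 2) (hreg : ∀ x : X, IsRegularLocalRing (X.presheaf.stalk x))
    (hproj : ∃ (n : ℕ) (ι : X ⟶ CohB1.ProjSpace n k), IsClosedImmersion ι ∧ ι ≫ CohB1.ProjSpace.toSpec n k = (X ↘ (Spec (CommRingCat.of k))))
    (C : Scheme.{u}) [C.Over (Spec (CommRingCat.of k))]
    [IsIntegral C] [IsProper (C ↘ (Spec (CommRingCat.of k)))] (hdimC : topologicalKrullDim C = 1)
    (hregC : ∀ x : C, IsRegularLocalRing (C.presheaf.stalk x))
    (π : X ⟶ C) (hπ : π ≫ (C ↘ (Spec (CommRingCat.of k))) = (X ↘ (Spec (CommRingCat.of k)))) (hsurj : Function.Surjective π)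
    (hfib : ∀ y : C, IsClosed ({y} : Set C) → Nonempty (pullback π (C.fromSpecResidueField y) ≅ CohB1.ProjSpace 1 k))
    (σ : C ⟶ X) (hσ : σ ≫ π = 𝟙 C) :
    Module.finrank k (Coh.HH X (Coh.structureModule X) 1) = Curv2.genus k C ∧ Subsingleton (Coh.HH X (Coh.structureModule X) 2) := by
  obtain ⟨n, ι, hι, hιk⟩ := hproj
  haveI : IsProper (CohB1.ProjSpace.toSpec n k) :=
    Groth.Agent.Lib.Helper27ProjSpaceFibres.isProper_projSpace_toSpec n k
  haveI : IsProper (X ↘ (Spec (CommRingCat.of k))) := by
    rw [← hιk]
    infer_instance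
  haveI : IsProper π := by
    haveI : IsProper (π ≫ (C ↘ (Spec (CommRingCat.of k)))) := by
      rw [hπ]
      infer_instance
    exact IsProper.of_comp π (C ↘ (Spec (CommRingCat.of k)))
  haveI : IsLocallyNoetherian C :=
    LocallyOfFiniteType.isLocallyNoetherian (C ↘ (Spec (CommRingCat.of k)))
  haveI : CompactSpace ↥C :=
    QuasiCompact.compactSpace_of_compactSpace (C ↘ (Spec (CommRingCat.of k)))
  haveI : IsNoetherian C := {}
  haveI : LocallyOfFinitePresentation π :=
    LocallyOfFinitePresentation.iff_locallyOfFiniteType.mpr inferInstance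
  haveI : Flat π := by
    refine Groth.Agent.Lib.Helper10.CurveFlat.main k X C (C ↘ (Spec (CommRingCat.of k))) hdimC
      (fun y => ?_) π ?_
    · haveI := hregC y
      exact ⟨Groth.Agent.Lib.Helper5.isDomain_of_isRegularLocalRing _,
        Groth.Agent.Lib.Helper28.isIntegrallyClosed_of_isRegularLocalRing _⟩
    · haveI := nontrivial_of_dim_eq_one ↥C hdimC
      rw [Set.range_eq_univ.2 hsurj]
      exact Set.nontrivial_univ
  have hall := Groth.Agent.Lib.Helper2.RuledB.betti_all π (C ↘ (Spec (CommRingCat.of k))) hsurj hfib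
  have hb0 := fun y => (hall y).1
  have hb1 := fun y => (hall y).2.1
  have hd := fun y => (hall y).2.2
  refine ⟨?_, ?_⟩
  · exact Groth.Agent.Lib.Helper2.RuledA.finrank_H1 k π hπ hdimC.le hb0 hb1 hd
  · exact Groth.Agent.Lib.Helper2.RuledA.subsingleton_H2 π hdimC.le hb0 hb1 hd

end Groth.Agent.S11346
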