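import Groth.Statements.S11358
import Groth.Agent.Lib.Helper19ArtCohenA
import Groth.Agent.Lib.Helper19ArtCohenB

set_option autoImplicit false
universe u
open CAlg

namespace Groth.Agent.S11358

/-- A local homomorphism R → S of Artinian local rings factors as R → R' → S with R' Artinian local, R →
R' flat and local with Gorenstein fibre ring R'/m_R R', and R' → S surjective. -/
theorem result (R S : Type u) [CommRing R] [CommRing S] [IsArtinianRing R] [IsLocalRing R] [IsArtinianRing S] [IsLocalRing S] [Algebra R S] [IsLocalHom (algebraMap R S)] : ∃ (R' : Type u) (_ : CommRing R') (_ : Algebra R R'), IsArtinianRing R' ∧ IsLocalRing R' ∧ Module.Flat R R' ∧ IsLocalHom (algebraMap R R') ∧ LocCoh.IsGorensteinLocalRing (R' ⧸ (IsLocalRing.maximalIdeal R).map (algebraMap R R')) ∧ ∃ g : R' →ₐ[R] S, Function.Surjective g := by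
  classical
  have hNR : IsNoetherianRing R := inferInstance
  have hNS : IsNoetherianRing S := inferInstance
  obtain ⟨n, hn⟩ := (isArtinianRing_iff_isNilpotent_maximalIdeal R).mp inferInstance
  obtain ⟨N, hN⟩ := (isArtinianRing_iff_isNilpotent_maximalIdeal S).mp inferInstance
  have hn' : IsLocalRing.maximalIdeal R ^ n = ⊥ := hn
  have hN' : IsLocalRing.maximalIdeal S ^ (N + 1) = ⊥ := by
    rw [pow_succ, hN]
    exact Ideal.bot_mul _
  obtain ⟨B, i1, i2, i3, i4, hflat, hloc, hreg, g, hg⟩ :=
    Groth.Agent.Lib.Helper19ArtCohen.exists_cohen_factorization (A := R) (S := S)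
  obtain ⟨K, hK, hart, hlocK, hflatK, hlochomK, hgor⟩ :=
    Groth.Agent.Lib.Helper19ArtCohen.exists_artinian_quotient n hn' (N + 1) (Nat.succ_pos N) hN'
      hreg g hg
  refine ⟨B ⧸ K, inferInstance, inferInstance, hart, hlocK, hflatK, hlochomK, hgor,
    Ideal.Quotient.liftₐ K g (fun a ha => hK ha), ?_⟩
  intro s
  obtain ⟨b, rfl⟩ := hg s
  exact ⟨Ideal.Quotient.mk K b, rfl⟩

end Groth.Agent.S11358
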