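import Groth.Statements.S11360
import Groth.Agent.Lib.Helper5LocDE

set_option autoImplicit false
universe u
open CategoryTheory
attribute [local instance] HasDerivedCategory.standard
open Dual

namespace Groth.Agent.S11360

/-- Let A be a Noetherian ring and R an object of D(A) with finite cohomology modules and of finite
injective dimension (isomorphic to a bounded complex of injective modules). If for every prime p of
A the derived base change of R to A_p (the total left derived functor of extension of scalars,
assumed to exist) is a dualizing complex for A_p, then R is a dualizing complex for A. (The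
published statement is for a locally Noetherian scheme and the stalks at all points; this row is the
affine case. Without the global finite injective dimension hypothesis the conclusion fails, e.g. for
a regular Noetherian ring of infinite Krull dimension.) -/
theorem result (A : Type u) [CommRing A] [IsNoetherianRing A] (R : Dual.D A) (hfin : ∀ i : ℤ, Module.Finite A (Dual.HD A R i)) (hfid : DRing.HasFiniteInjDim A R) [∀ p : PrimeSpectrum A, DRing.HasLBaseChange (algebraMap A (Localization.AtPrime p.asIdeal))] (h : ∀ p : PrimeSpectrum A, Dual.IsDualizing (Localization.AtPrime p.asIdeal) ((DRing.LBaseChange (algebraMap A (Localization.AtPrime p.asIdeal))).obj R)) : Dual.IsDualizing A R := by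
  classical
  obtain ⟨a, b, E, hE, hinjE, ⟨e⟩⟩ := hfid
  have hY : Groth.Agent.Lib.Helper5.LocD.HasInjRes R :=
    ⟨E, a, fun i hi => hE i (Or.inl hi), hinjE, ⟨e⟩⟩
  have hinj : ∃ a b : ℤ, ∀ (M : Type u) [AddCommGroup M] [Module A M] (i : ℤ),
      (i < a ∨ b < i) → Subsingleton (Dual.inD A M ⟶ R⟦i⟧) := by
    have hamp : DRing.HasInjAmplitudeIn A a b R := ⟨E, hE, hinjE, ⟨e⟩⟩
    exact ⟨a, b, ((Groth.Agent.S6965.result A R a b).out 0 1).mp hamp⟩
  let T : Groth.Agent.Lib.Helper5.BiDual.Res R := ⟨E, a, b, hE, hinjE, e⟩
  have hK : Groth.Agent.Lib.Helper5.LocD.HasFPRes R :=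
    Groth.Agent.Lib.Helper5.LocD.hasFPRes_of_bdd_finite R
      ⟨b, fun i hi => Groth.Agent.Lib.Helper5.LocD.subsingleton_HD_of_res T i (Or.inr hi)⟩ hfin
  have cov : ∀ I : Ideal A, (∀ p : PrimeSpectrum A, ∃ s ∈ I, s ∈ p.asIdeal.primeCompl) →
      I = ⊤ := by
    intro I hI
    by_contra hne
    obtain ⟨m, hm, hIm⟩ := Ideal.exists_le_maximal I hne
    obtain ⟨s, hsI, hsm⟩ := hI ⟨m, hm.isPrime⟩
    exact hsm (hIm hsI)
  refine Groth.Agent.Lib.Helper5.LocD.isDualizing_of_cover
    (fun p : PrimeSpectrum A => p.asIdeal.primeCompl) cov R hK hY hinj hfin ?_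
  intro p
  obtain ⟨e'⟩ := Groth.Agent.Lib.Helper5.LocD.lbc_iso_extD (A := A)
    (Localization.AtPrime p.asIdeal) R
  exact Groth.Agent.Lib.Helper5.LocD.isDualizing_of_iso e' (h p)

end Groth.Agent.S11360
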