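import Groth.Statements.S11376
import Groth.Agent.S0010
import Groth.Agent.Lib.Helper27CohFin
import Groth.Agent.Lib.Helper21HZB9
import Groth.Agent.Lib.Helper4DevD
import Groth.Agent.Lib.Helper28AmpleFam
import Groth.Agent.Lib.Helper23AmpleFam
import Groth.Agent.S2821

set_option autoImplicit false
universe u
open CategoryTheory CategoryTheory.Limits AlgebraicGeometry TopologicalSpace
open CohDim

namespace Groth.Agent.S11376

/-- Let S be an integral scheme, separated and of finite type over an algebraically closed field k, with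
all local rings regular, and let r ≥ 0. If H^i(S, E) is finite-dimensional over k for every i > r
and every finite locally free O_S-module E, then H^i(S, F) is finite-dimensional over k for every i
> r and every coherent O_S-module F. -/
theorem result (k : Type u) [Field k] [IsAlgClosed k] (S : Scheme.{u})
    [S.Over (Spec (CommRingCat.of k))] [IsSeparated (S ↘ (Spec (CommRingCat.of k)))]
    [LocallyOfFiniteType (S ↘ (Spec (CommRingCat.of k)))] [QuasiCompact (S ↘ (Spec (CommRingCat.of k)))]
    [IsIntegral S] (hreg : ∀ x : S, IsRegularLocalRing (S.presheaf.stalk x)) (r : ℕ)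
    (hlf : ∀ E : S.Modules, FlatMod.IsFinLocFree E → ∀ i : ℕ, r < i → Module.Finite k (Coh.HH S E i))
    (F : S.Modules) (hF : Coh.IsCoh F) (i : ℕ) (hi : r < i) :
    Module.Finite k (Coh.HH S F i) := by
  classical
  let p : S ⟶ Spec (CommRingCat.of k) := S ↘ Spec (CommRingCat.of k)
  haveI : CompactSpace S := QuasiCompact.compactSpace_of_compactSpace p
  haveI : IsLocallyNoetherian S := LocallyOfFiniteType.isLocallyNoetherian p
  have hd : ∀ V W : S.Opens, IsAffineOpen V → IsAffineOpen W → IsAffineOpen (V ⊓ W) := by
    intro V W hV hW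
    have h : IsAffineHom (pullback.diagonal p) := inferInstance
    exact isAffineHom_diagonal_iff.mp h ⊤ (isAffineOpen_top _) V (by simp) W (by simp) hV hW
  have hres : PerfAux.HasResolutionProperty S :=
    Groth.Agent.Lib.Helper23.AmpleFam.hasResolutionProperty_of_hasAmpleFamily
      (Groth.Agent.Lib.Helper28.AmpleFam.hasAmpleFamily_of_factorial S (fun x => by
        haveI := hreg x
        exact Groth.Agent.S2821.result (S.presheaf.stalk x)) hd)
  -- finite affine cover
  obtain ⟨t, U, hU, hcov⟩ : ∃ (t : ℕ) (U : Fin t → S.Opens),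
      (∀ i, IsAffineOpen (U i)) ∧ ⨆ i, U i = ⊤ := by
    have hx : ∀ x : S, ∃ V : S.Opens, IsAffineOpen V ∧ x ∈ V := fun x => by
      obtain ⟨V, hV, hxV, -⟩ := AlgebraicGeometry.exists_isAffineOpen_mem_and_subset
        (X := S) (x := x) (U := ⊤) trivial
      exact ⟨V, hV, hxV⟩
    choose V hV hxV using hx
    obtain ⟨T, hT⟩ := isCompact_univ.elim_finite_subcover
      (fun x : S => ((V x : S.Opens) : Set S))
      (fun x => (V x).2)
      (fun x _ => Set.mem_iUnion.2 ⟨x, hxV x⟩)
    refine ⟨T.card, fun i => V (T.equivFin.symm i : S), fun i => hV _, ?_⟩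
    rw [eq_top_iff]
    intro x _
    obtain ⟨y, hy⟩ := Set.mem_iUnion.1 (hT (Set.mem_univ x))
    obtain ⟨hyT, hxy⟩ := Set.mem_iUnion.1 hy
    refine TopologicalSpace.Opens.mem_iSup.2 ⟨T.equivFin ⟨y, hyT⟩, ?_⟩
    simpa using hxy
  have key : ∀ j : ℕ, ∀ i : ℕ, r < i → t ≤ i + j → ∀ F : S.Modules, Coh.IsCoh F →
      Module.Finite k (Coh.HH S F i) := by
    intro j
    induction j with
    | zero =>
      intro i _ hti F hF
      haveI : Coh.IsQCoh F := hF.1
      haveI : Subsingleton (Coh.HH S F i) := Groth.Agent.S0010.result S t U hU hcov hd F i (by omega)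
      exact Module.Finite.of_finite
    | succ j ih =>
      intro i hi hti F hF
      obtain ⟨E, π, hE, hπ⟩ := hres F hF.1 hF.2
      haveI : Epi π := hπ
      have hEc := Groth.Agent.Lib.Helper21.HZB.isCoh_of_isFinLocFree E hE
      have hK := Groth.Agent.Lib.Helper4.Dev.isCoh_kernel π hEc hF
      have hEv : Module.Finite k (Coh.HH S E i) := hlf E hE i hi
      let SC : ShortComplex S.Modules :=
        ShortComplex.mk (Limits.kernel.ι π) π (Limits.kernel.condition π)
      have hS : SC.ShortExact :=
        { exact := ShortComplex.exact_kernel π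
          mono_f := (inferInstance : Mono (Limits.kernel.ι π))
          epi_g := (inferInstance : Epi π) }
      exact Groth.Agent.Lib.Helper27CohFin.finite_of_shortExact k SC hS i
        hEv (ih (i + 1) (by omega) (by omega) _ hK)
  exact key t i hi (by omega) F hF


end Groth.Agent.S11376
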