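import Groth.Statements.S11377
import Mathlib
import Groth.Agent.S0010
import Groth.Agent.Lib.Helper27SuppDimVan
import Groth.Agent.Lib.Helper27SerreVan
import Groth.Agent.Lib.Helper23ResProp
import Groth.Agent.Lib.Helper23RelRes
import Groth.Agent.Lib.Helper2TensorInv
import Groth.Agent.Lib.Helper23SecTw10
import Groth.Agent.Lib.Helper21HZB9
import Groth.Agent.Lib.Helper4DevD

set_option autoImplicit false
universe u
open CategoryTheory CategoryTheory.Limits AlgebraicGeometry TopologicalSpace
open CohDim

namespace Groth.Agent.S11377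

/-- Let S be an integral scheme, separated and of finite type over an algebraically closed field k, with
all local rings regular, let L be an ample invertible O_S-module with tensor inverse M (so S is
quasi-projective and M^{⊗m} plays the role of O_S(-m)), and let r ≥ 0. If there is m₀ such that
H^i(S, M^{⊗m}) = 0 for every i > r and every m ≥ m₀, then H^i(S, F) = 0 for every i > r and every
coherent O_S-module F. (The published statement takes O_S(1) from a quasi-projective embedding; the
printed proof uses only that F ⊗ O_S(m) is generated by finitely many global sections for m ≫ 0,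
which holds for any ample L.) -/
theorem result (k : Type u) [Field k] [IsAlgClosed k] (S : Scheme.{u})
    [S.Over (Spec (CommRingCat.of k))] [IsSeparated (S ↘ (Spec (CommRingCat.of k)))]
    [LocallyOfFiniteType (S ↘ (Spec (CommRingCat.of k)))] [QuasiCompact (S ↘ (Spec (CommRingCat.of k)))]
    [IsIntegral S] (hreg : ∀ x : S, IsRegularLocalRing (S.presheaf.stalk x))
    (L M : S.Modules) (hL : CohB1.IsAmple L) (hM : ClSub.IsInverseOf M L) (r : ℕ)
    (hneg : ∃ m₀ : ℕ, ∀ m : ℕ, m₀ ≤ m → ∀ i : ℕ, r < i → Subsingleton (Coh.HH S (CohB1.tensorPow M m) i))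
    (F : S.Modules) (hF : Coh.IsCoh F) (i : ℕ) (hi : r < i) :
    Subsingleton (Coh.HH S F i) := by
  classical
  let p : S ⟶ Spec (CommRingCat.of k) := S ↘ Spec (CommRingCat.of k)
  haveI : CompactSpace S := QuasiCompact.compactSpace_of_compactSpace p
  haveI : IsLocallyNoetherian S := LocallyOfFiniteType.isLocallyNoetherian p
  have hd : ∀ V W : S.Opens, IsAffineOpen V → IsAffineOpen W → IsAffineOpen (V ⊓ W) :=
    fun V W hV hW => Groth.Agent.Lib.Helper27SuppDimVan.isAffineOpen_inf_of_isSeparated
      p V W hV hW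
  obtain ⟨eML⟩ := hM
  have hMinv : PicF.IsInvertible M :=
    Groth.Agent.Lib.Helper2.TensorInv.isInvertible_of_tensor_iso M L eML
  obtain ⟨m₀, hm₀⟩ := hneg
  -- finite affine cover
  obtain ⟨t, U, hU, hcov⟩ : ∃ (t : ℕ) (U : Fin t → S.Opens),
      (∀ i, IsAffineOpen (U i)) ∧ ⨆ i, U i = ⊤ := by
    have hx : ∀ x : S, ∃ V : S.Opens, IsAffineOpen V ∧ x ∈ V := fun x => by
      obtain ⟨V, hV, hxV, -⟩ := AlgebraicGeometry.exists_isAffineOpen_mem_and_subset
        (X := S) (x := x) (U := ⊤) trivial
      exact ⟨V, hV, hxV⟩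
    choose V hV hxV using hx
    obtain ⟨T, hT⟩ := isCompact_univ.elim_finite_subcover
      (fun x : S => ((V x : S.Opens) : Set S))
      (fun x => (V x).2)
      (fun x _ => Set.mem_iUnion.2 ⟨x, hxV x⟩)
    refine ⟨T.card, fun i => V (T.equivFin.symm i : S), fun i => hV _, ?_⟩
    rw [eq_top_iff]
    intro x _
    obtain ⟨y, hy⟩ := Set.mem_iUnion.1 (hT (Set.mem_univ x))
    obtain ⟨hyT, hxy⟩ := Set.mem_iUnion.1 hy
    refine TopologicalSpace.Opens.mem_iSup.2 ⟨T.equivFin ⟨y, hyT⟩, ?_⟩
    simpa using hxy
  have key : ∀ j : ℕ, ∀ i : ℕ, r < i → t ≤ i + j → ∀ F : S.Modules, Coh.IsCoh F →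
      Subsingleton (Coh.HH S F i) := by
    intro j
    induction j with
    | zero =>
      intro i _ hti F hF
      haveI : Coh.IsQCoh F := hF.1
      exact Groth.Agent.S0010.result S t U hU hcov hd F i (by omega)
    | succ j ih =>
      intro i hi hti F hF
      haveI : F.IsQuasicoherent := hF.1
      haveI : SheafOfModules.IsFiniteType (R := S.ringCatSheaf) F := hF.2
      obtain ⟨n₀, hn₀⟩ := Groth.Agent.Lib.Helper23.RelRes.exists_epi_freeMod_twist L hL F
      obtain ⟨kk, π₀, hπ₀⟩ := hn₀ (max n₀ m₀) (le_max_left _ _)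
      have hPn := Groth.Agent.Lib.Helper23.SecTw.isInvertible_tensorPow hL.1 (max n₀ m₀)
      have hMn := Groth.Agent.Lib.Helper23.SecTw.isInvertible_tensorPow hMinv (max n₀ m₀)
      obtain ⟨c⟩ := Groth.Agent.Lib.Helper23.SecTw.nonempty_tensorMod_comm_iso
        (CohB1.tensorPow L (max n₀ m₀)) (CohB1.tensorPow M (max n₀ m₀)) hPn hMn
      obtain ⟨e1⟩ := Groth.Agent.Lib.Helper23.SecTw.nonempty_tensorPow_tensorMod_iso
        M L hMinv hL.1 (max n₀ m₀)
      let e : CohB1.tensorMod (CohB1.tensorPow L (max n₀ m₀)) (CohB1.tensorPow M (max n₀ m₀)) ≅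
          Coh.structureModule S :=
        c ≪≫ e1 ≪≫ Groth.Agent.Lib.Helper23.AmpleIso.tensorPowIso eML (max n₀ m₀) ≪≫
          Groth.Agent.Lib.Helper23.TensorUnit.tensorPowUnitIso (max n₀ m₀)
      let E : S.Modules := CohB1.tensorMod (FlatMod.freeMod S kk) (CohB1.tensorPow M (max n₀ m₀))
      let π : E ⟶ F := Groth.Agent.Lib.Helper23.ResProp.untwist π₀ e
      haveI : Epi π := Groth.Agent.Lib.Helper23.ResProp.epi_untwist π₀ e
      have hE : FlatMod.IsFinLocFree E :=
        Groth.Agent.Lib.Helper23.ResProp.isFinLocFree_tensorMod _ _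
          (Groth.Agent.Lib.Helper23.ResProp.isFinLocFree_freeMod S kk)
          (Groth.Agent.Lib.Helper23.ResProp.isFinLocFree_of_isInvertible _ hMn)
      have hEc := Groth.Agent.Lib.Helper21.HZB.isCoh_of_isFinLocFree E hE
      have hK := Groth.Agent.Lib.Helper4.Dev.isCoh_kernel π hEc hF
      have hEv : Subsingleton (Coh.HH S E i) := by
        refine Groth.Agent.Lib.Helper27SerreVan.subsingleton_HH_map_sigma
          (fun _ : Fin kk => Coh.structureModule S)
          (Groth.Agent.Lib.Helper27SerreVan.tw (CohB1.tensorPow M (max n₀ m₀))) i (fun _ => ?_)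
        exact Groth.Agent.Lib.Helper27SerreVan.subsingleton_HH_of_iso
          (Groth.Agent.Lib.Helper23.TensorUnit.unitTensorIso (CohB1.tensorPow M (max n₀ m₀))) i
          (hm₀ (max n₀ m₀) (le_max_right _ _) i hi)
      let SC : ShortComplex S.Modules :=
        ShortComplex.mk (Limits.kernel.ι π) π (Limits.kernel.condition π)
      have hS : SC.ShortExact :=
        { exact := ShortComplex.exact_kernel π
          mono_f := (inferInstance : Mono (Limits.kernel.ι π))
          epi_g := (inferInstance : Epi π) }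
      exact Groth.Agent.Lib.Helper27SerreVan.subsingleton_of_shortExact SC hS i
        hEv (ih (i + 1) (by omega) (by omega) _ hK)
  exact key t i hi (by omega) F hF

end Groth.Agent.S11377
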