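import Groth.Statements.S11411
import Mathlib
import Groth.Agent.Lib.Helper11AntiAffine

set_option autoImplicit false
universe u
open CategoryTheory MonoidalCategory CartesianMonoidalCategory MonObj GrpObj AlgebraicGeometry CategoryTheory.Limits
open AlgGrp

namespace Groth.Agent.S11411

open Groth.Agent.Lib.Helper11AntiAffine


/-- Over an algebraically closed field k, let G be an algebraic group (a smooth k-group scheme of finite
type) and N the kernel of the canonical morphism ρ : G → Spec O(G), i.e. the fibre of ρ over the
image of the unit. Then N is the smallest normal subgroup scheme of G with affine quotient: for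
every closed normal subgroup scheme H of G with a flat surjective homomorphism G → Q of k-group
schemes of finite type with kernel H and Q affine, the inclusion of N factors through H. And N is
the largest anti-affine subgroup scheme: every homomorphism and closed immersion into G from a
k-group scheme whose only global functions are the constants factors through N. (The published
statement also asserts O(N) = k, that N is a connected algebraic group central in G⁰, and O(G/N) =
O(G) finitely generated; those parts are not restated here.) -/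
theorem result (k : Type u) [Field k] [IsAlgClosed k]
    (G : Over (Spec (CommRingCat.of k))) [GrpObj G] [Smooth G.hom] [QuasiCompact G.hom] :
    (∀ (H Q : Over (Spec (CommRingCat.of k))) [GrpObj H] [GrpObj Q] (h : H ⟶ G) [IsMonHom h] [IsClosedImmersion h.left]
        [LocallyOfFiniteType Q.hom] [QuasiCompact Q.hom] (q : G ⟶ Q) [IsMonHom q] [Surjective q.left] [Flat q.left],
        AlgGrp.IsKernel h q → IsAffine Q.left →
        ∃ f : pullback G.left.toSpecΓ (η[G].left ≫ G.left.toSpecΓ) ⟶ H.left, f ≫ h.left = pullback.fst G.left.toSpecΓ (η[G].left ≫ G.left.toSpecΓ)) ∧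
    (∀ (M : Over (Spec (CommRingCat.of k))) [GrpObj M] (j : M ⟶ G) [IsMonHom j] [IsClosedImmersion j.left],
        Function.Bijective ((Scheme.ΓSpecIso (CommRingCat.of k)).inv ≫ M.hom.appTop).hom →
        ∃ f : M.left ⟶ pullback G.left.toSpecΓ (η[G].left ≫ G.left.toSpecΓ), f ≫ pullback.fst G.left.toSpecΓ (η[G].left ≫ G.left.toSpecΓ) = j.left) := by
  obtain ⟨e', he'⟩ : ∃ e' : (𝟙_ (Over (Spec (CommRingCat.of k)))).left ⟶ Spec Γ(G.left, ⊤),
      e' = η[G].left ≫ G.left.toSpecΓ := ⟨_, rfl⟩
  rw [← he']
  refine ⟨?_, ?_⟩
  · intro H Q _ _ h _ _ _ _ q _ _ _ hker hQaff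
    obtain ⟨q', hq'⟩ := exists_factor_toSpecΓ q.left
    have hηG : η[G].left ≫ G.hom = 𝟙 _ := Over.w η[G]
    -- `fst ≫ G.hom = snd`
    have hsnd : pullback.fst G.left.toSpecΓ e' ≫ G.hom = pullback.snd G.left.toSpecΓ e' ≫ 𝟙 _ := by
      rw [← cancel_mono (Spec (CommRingCat.of k)).toSpecΓ, Category.assoc,
        Scheme.toSpecΓ_naturality, ← Category.assoc, pullback.condition, he', Category.assoc,
        Category.assoc, ← Scheme.toSpecΓ_naturality, Category.comp_id, ← Category.assoc η[G].left,
        hηG, Category.id_comp]
    obtain ⟨n, hn⟩ : ∃ n : Over.mk (pullback.fst G.left.toSpecΓ e' ≫ G.hom) ⟶ G,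
        n.left = pullback.fst G.left.toSpecΓ e' := ⟨Over.homMk (pullback.fst _ _) rfl, rfl⟩
    have htu : (toUnit (Over.mk (pullback.fst G.left.toSpecΓ e' ≫ G.hom))).left =
        pullback.snd G.left.toSpecΓ e' := by
      have h1 : Over.homMk (pullback.snd G.left.toSpecΓ e') hsnd.symm =
          toUnit (Over.mk (pullback.fst G.left.toSpecΓ e' ≫ G.hom)) := toUnit_unique _ _
      rw [← h1]
      rfl
    have hnq : n ≫ q = toUnit _ ≫ η[Q] := by
      ext
      rw [Over.comp_left, Over.comp_left, hn, htu, hq', ← Category.assoc, pullback.condition,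
        he', Category.assoc, Category.assoc, ← hq', ← Over.comp_left, IsMonHom.one_hom]
    refine ⟨(hker.lift n (toUnit _) hnq).left, ?_⟩
    rw [← Over.comp_left, hker.lift_fst, hn]
  · intro M _ j _ _ hM
    have h1 := eq_toUnit_comp_of_bijective k M hM η[M] (j.left ≫ G.left.toSpecΓ)
    refine ⟨pullback.lift j.left (toUnit M).left ?_, pullback.lift_fst _ _ _⟩
    rw [h1, he']
    congr 1
    rw [← Category.assoc, ← Over.comp_left, IsMonHom.one_hom]

end Groth.Agent.S11411
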