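import Groth.Statements.S11420
import Mathlib
import Groth.Agent.Lib.Helper11BlanchardD
import Groth.Agent.Lib.Helper11BlanchardE
import Groth.Agent.Lib.Helper11Rigidity

set_option autoImplicit false
universe u
open CategoryTheory MonoidalCategory CartesianMonoidalCategory MonObj GrpObj AlgebraicGeometry CategoryTheory.Limits
open AlgGrp

namespace Groth.Agent.S11420

open Groth.Agent.Lib.Helper11Blanchard in
theorem hfst (k : Type u) [Field k] [IsAlgClosed k] (X Y : Over (Spec (CommRingCat.of k)))
    [IsProper Y.hom] [IsIntegral Y.left] (U : X.left.Opens) : IsIso ((fst X Y).left.app U) := by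
  apply isIso_app_of_forall_isAffineOpen
  intro U hU
  have H : IsPullback (snd X Y).left (fst X Y).left Y.hom X.hom :=
    (IsPullback.of_hasPullback X.hom Y.hom).flip
  have hc : CompactSpace Y.left := QuasiCompact.compactSpace_of_compactSpace Y.hom
  have hq : QuasiSeparatedSpace Y.left := quasiSeparatedSpace_of_quasiSeparated Y.hom
  have hb : IsIso Y.hom.appTop := (ConcreteCategory.isIso_iff_bijective _).mpr
    (Groth.Agent.Lib.Helper11Rigidity.appTop_bijective_of_isAlgClosed Y.hom)
  exact isIso_app_of_isPullback_of_appTop H hb U hU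

open Groth.Agent.Lib.Helper11Blanchard in
theorem hsnd (k : Type u) [Field k] [IsAlgClosed k] (X Y : Over (Spec (CommRingCat.of k)))
    [IsProper X.hom] [IsIntegral X.left] (U : Y.left.Opens) : IsIso ((snd X Y).left.app U) := by
  apply isIso_app_of_forall_isAffineOpen
  intro U hU
  have H : IsPullback (fst X Y).left (snd X Y).left X.hom Y.hom :=
    IsPullback.of_hasPullback X.hom Y.hom
  have hc : CompactSpace X.left := QuasiCompact.compactSpace_of_compactSpace X.hom
  have hq : QuasiSeparatedSpace X.left := quasiSeparatedSpace_of_quasiSeparated X.hom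
  have hb : IsIso X.hom.appTop := (ConcreteCategory.isIso_iff_bijective _).mpr
    (Groth.Agent.Lib.Helper11Rigidity.appTop_bijective_of_isAlgClosed X.hom)
  exact isIso_app_of_isPullback_of_appTop H hb U hU

theorem action_ext {S : Scheme.{u}} {G X : Over S} [GrpObj G] (b b' : AlgGrp.Action G X)
    (h : b'.act = b.act) : b' = b := by
  cases b
  cases b'
  simp only at h
  subst h
  rfl


/-- Over an algebraically closed field k, let X and Y be complete varieties (proper, integral, separated
k-schemes of finite type) and let a connected k-group scheme of finite type G act on X × Y. Then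
there are unique actions of G on X and on Y such that the given action is the product action g·(x,
y) = (g·x, g·y). (This is the form, for actions of connected group schemes, of the identification of
the neutral component of the automorphism group scheme of X × Y with the product of those of X and
Y; the representability of these group schemes is not asserted here.) -/
theorem result (k : Type u) [Field k] [IsAlgClosed k]
    (G X Y : Over (Spec (CommRingCat.of k))) [GrpObj G] [LocallyOfFiniteType G.hom] [QuasiCompact G.hom] [ConnectedSpace ↥G.left]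
    [IsProper X.hom] [IsIntegral X.left]
    [IsProper Y.hom] [IsIntegral Y.left]
    (a : AlgGrp.Action G (X ⊗ Y)) :
    ∃ (b : AlgGrp.Action G X) (c : AlgGrp.Action G Y),
      a.act = lift ((G ◁ fst X Y) ≫ b.act) ((G ◁ snd X Y) ≫ c.act) ∧
      ∀ (b' : AlgGrp.Action G X) (c' : AlgGrp.Action G Y),
        a.act = lift ((G ◁ fst X Y) ≫ b'.act) ((G ◁ snd X Y) ≫ c'.act) → b' = b ∧ c' = c := by
  have hp1 : IsProper (fst X Y).left := inferInstanceAs (IsProper (pullback.fst X.hom Y.hom))
  have hp2 : IsProper (snd X Y).left := inferInstanceAs (IsProper (pullback.snd X.hom Y.hom))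
  obtain ⟨b, hb⟩ := Groth.Agent.Lib.Helper11Blanchard.exists_action_desc G (X ⊗ Y) X (fst X Y)
    (hfst k X Y) a (Groth.Agent.Lib.Helper11Blanchard.const_on_fibres G (X ⊗ Y) X (fst X Y)
      (hfst k X Y) a)
  obtain ⟨c, hc⟩ := Groth.Agent.Lib.Helper11Blanchard.exists_action_desc G (X ⊗ Y) Y (snd X Y)
    (hsnd k X Y) a (Groth.Agent.Lib.Helper11Blanchard.const_on_fibres G (X ⊗ Y) Y (snd X Y)
      (hsnd k X Y) a)
  refine ⟨b, c, ?_, ?_⟩
  · ext1
    · rw [lift_fst, hb]
    · rw [lift_snd, hc]
  · intro b' c' h
    constructor
    · apply action_ext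
      apply Groth.Agent.Lib.Helper11Blanchard.whiskerLeft_cancel G (fst X Y) (hfst k X Y)
      rw [hb, h, lift_fst]
    · apply action_ext
      apply Groth.Agent.Lib.Helper11Blanchard.whiskerLeft_cancel G (snd X Y) (hsnd k X Y)
      rw [hc, h, lift_snd]

end Groth.Agent.S11420
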