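import Groth.Statements.S11421
import Mathlib
import Groth.Agent.Lib.Helper11RigidAntiF

set_option autoImplicit false
universe u
open CategoryTheory MonoidalCategory CartesianMonoidalCategory MonObj GrpObj AlgebraicGeometry CategoryTheory.Limits
open AlgGrp

namespace Groth.Agent.S11421

open Groth.Agent.Lib.Helper11Rigidity


/-- Over an algebraically closed field k, let G be an algebraic group (smooth k-group scheme of finite
type) whose only global functions are the constants, H a connected algebraic group, S a connected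
k-scheme of finite type and f : G × S → H a morphism of k-schemes. Then there are a unique
k-morphism φ : S → H and a unique homomorphism ψ : G → H with f(g, s) = φ(s) · ψ(g) on points. (This
is the decomposition, over a connected base, behind the identification of the functor of morphisms
from G to H with H × Hom_gp(G, H); the published statement is the equivalence of representability of
that functor with anti-affineness of G, whose converse direction is not stated here.) -/
theorem result (k : Type u) [Field k] [IsAlgClosed k]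
    (G H S : Over (Spec (CommRingCat.of k))) [GrpObj G] [Smooth G.hom] [QuasiCompact G.hom]
    (hG : Function.Bijective ((Scheme.ΓSpecIso (CommRingCat.of k)).inv ≫ G.hom.appTop).hom)
    [GrpObj H] [Smooth H.hom] [QuasiCompact H.hom] [ConnectedSpace ↥H.left]
    [LocallyOfFiniteType S.hom] [QuasiCompact S.hom] [ConnectedSpace ↥S.left]
    (f : G ⊗ S ⟶ H) :
    ∃ (φ : S ⟶ H) (ψ : G ⟶ H), IsMonHom ψ ∧ f = (snd G S ≫ φ) * (fst G S ≫ ψ) ∧
      ∀ (φ' : S ⟶ H) (ψ' : G ⟶ H), IsMonHom ψ' → f = (snd G S ≫ φ') * (fst G S ≫ ψ') → φ' = φ ∧ ψ' = ψ := by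
  have hGlft : LocallyOfFiniteType G.hom := inferInstance
  have hSne : Nonempty S.left := inferInstance
  obtain ⟨s₀⟩ := Groth.Agent.Lib.Helper11RigidAntiE.exists_pt_of_isAlgClosed S
  -- notation
  obtain ⟨eS, heS⟩ : ∃ eS : S ⟶ G ⊗ S, eS = lift (toUnit S ≫ η[G]) (𝟙 S) := ⟨_, rfl⟩
  obtain ⟨sl, hsl⟩ : ∃ sl : G ⟶ G ⊗ S, sl = slice G s₀ := ⟨_, rfl⟩
  have eS_fst : eS ≫ fst G S = 1 := by rw [heS, lift_fst, toUnit_eta]
  have eS_snd : eS ≫ snd G S = 𝟙 S := by rw [heS, lift_snd]
  have sl_fst : sl ≫ fst G S = 𝟙 G := by rw [hsl]; exact lift_fst _ _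
  have sl_snd : sl ≫ snd G S = toUnit G ≫ s₀ := by rw [hsl]; exact lift_snd _ _
  have hpt : s₀ ≫ eS = η[G] ≫ sl := by
    rw [heS, hsl, pt_slice, pt_slice']
  obtain ⟨φ, hφ⟩ : ∃ φ : S ⟶ H, φ = eS ≫ f := ⟨_, rfl⟩
  obtain ⟨F, hF⟩ : ∃ F : G ⊗ S ⟶ H, F = (snd G S ≫ φ)⁻¹ * f := ⟨_, rfl⟩
  obtain ⟨ψ, hψ⟩ : ∃ ψ : G ⟶ H, ψ = sl ≫ F := ⟨_, rfl⟩
  have eS_F : eS ≫ F = 1 := by
    rw [hF, MonObj.comp_mul, GrpObj.comp_inv, ← Category.assoc, eS_snd, Category.id_comp, ← hφ,
      _root_.inv_mul_cancel]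
  have hψ1 : η[G] ≫ ψ = 1 := by
    rw [hψ, ← Category.assoc, ← hpt, Category.assoc, eS_F, MonObj.comp_one]
  have hψmon : IsMonHom ψ := by
    apply Groth.Agent.Lib.Helper11RigidAntiF.isMonHom_of_pointed G H hG ψ
    rw [hψ1, eta_eq_one]
  have one_ψ : ∀ {T : Over (Spec (CommRingCat.of k))}, (1 : T ⟶ G) ≫ ψ = 1 := by
    intro T
    rw [← toUnit_eta, Category.assoc, hψ1, MonObj.comp_one]
  have hE : F * (fst G S ≫ ψ)⁻¹ = 1 := by
    apply Groth.Agent.Lib.Helper11RigidAntiF.eq_one_of_axes G S H hG _ η[G] s₀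
    · rw [← hsl, MonObj.comp_mul, GrpObj.comp_inv, ← Category.assoc sl, sl_fst, Category.id_comp,
        ← hψ, _root_.mul_inv_cancel]
    · rw [← heS, MonObj.comp_mul, GrpObj.comp_inv, ← Category.assoc eS, eS_fst, eS_F,
        one_ψ, _root_.inv_one, _root_.mul_one]
  have hFψ : F = fst G S ≫ ψ := mul_inv_eq_one.mp hE
  have hfdec : f = (snd G S ≫ φ) * (fst G S ≫ ψ) := by
    rw [← hFψ, hF, mul_inv_cancel_left]
  refine ⟨φ, ψ, hψmon, hfdec, ?_⟩
  intro φ' ψ' hψ' hf'
  have h1 : φ' = φ := by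
    rw [hφ, hf', MonObj.comp_mul, ← Category.assoc, eS_snd, Category.id_comp, ← Category.assoc,
      eS_fst, ← toUnit_eta, Category.assoc, IsMonHom.one_hom, toUnit_eta, _root_.mul_one]
  refine ⟨h1, ?_⟩
  subst h1
  have h2 : fst G S ≫ ψ' = fst G S ≫ ψ := by
    have h3 := hf'.symm.trans hfdec
    exact mul_left_cancel h3
  have h4 := congrArg (fun c => sl ≫ c) h2
  simp only [← Category.assoc, sl_fst, Category.id_comp] at h4
  exact h4

end Groth.Agent.S11421
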