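import Groth.Statements.S11424
import Mathlib
import Groth.Agent.Lib.Helper11KerPair
import Groth.Agent.Lib.Helper12AffineDescent

set_option autoImplicit false
universe u
open CategoryTheory MonoidalCategory CartesianMonoidalCategory MonObj GrpObj AlgebraicGeometry CategoryTheory.Limits
open AlgGrp

namespace Groth.Agent.S11424

open Groth.Agent.Lib.Helper11KerPair Groth.Agent.Lib.Helper12

theorem quasiCompact_left_of_finiteType (k : Type u) [Field k] {G X : Over (Spec (CommRingCat.of k))}
    [QuasiCompact G.hom] [LocallyOfFiniteType X.hom] (π : G ⟶ X) : QuasiCompact π.left := by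
  have hG : IsLocallyNoetherian X.left := LocallyOfFiniteType.isLocallyNoetherian X.hom
  have hqs : QuasiSeparated X.hom := inferInstance
  have h2 : QuasiCompact (π.left ≫ X.hom) := by
    rw [Over.w π]; infer_instance
  exact QuasiCompact.of_comp π.left X.hom


/-- Over an algebraically closed field k, let G be an algebraic group (a smooth k-group scheme of finite
type), h : H → G a smooth affine closed normal subgroup, and q : G → Q a flat surjective
homomorphism of k-group schemes of finite type with kernel h (so Q = G/H). Then the quotient
morphism q is affine. (The published statement is the equivalence between affineness of G and of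
both H and G/H; this row states that the quotient morphism G → G/H is affine.) -/
theorem result (k : Type u) [Field k] [IsAlgClosed k]
    (G H Q : Over (Spec (CommRingCat.of k))) [GrpObj G] [Smooth G.hom] [QuasiCompact G.hom]
    [GrpObj H] (h : H ⟶ G) [IsMonHom h] [IsClosedImmersion h.left] [Smooth H.hom] [IsAffine H.left]
    [GrpObj Q] [LocallyOfFiniteType Q.hom] [QuasiCompact Q.hom]
    (q : G ⟶ Q) [IsMonHom q] [Surjective q.left] [Flat q.left] (hk : AlgGrp.IsKernel h q) :
    IsAffineHom q.left := by
  have hpb := isPullback_of_isKernel h q hk
  have sq : IsPullback (fst G H).left ((G ◁ h) ≫ μ[G]).left q.left q.left :=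
    hpb.map (Over.forget _)
  have hqc : QuasiCompact q.left := quasiCompact_left_of_finiteType k q
  have hfst : IsAffineHom (fst G H).left := by
    change IsAffineHom (pullback.fst G.hom H.hom)
    have h0 : IsAffineHom H.hom := inferInstance
    exact MorphismProperty.pullback_fst (P := @IsAffineHom) G.hom H.hom h0
  have := descendsAlong_isAffineHom.{u}
  exact MorphismProperty.of_isPullback_of_descendsAlong (P := @IsAffineHom)
    (Q := @Surjective ⊓ @Flat ⊓ @QuasiCompact) sq ⟨⟨inferInstance, inferInstance⟩, hqc⟩ hfst

end Groth.Agent.S11424
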