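import Groth.Statements.S11428
import Mathlib
import Groth.Agent.Lib.Helper10GeomQuotSep
-- import your own Groth.Agent.* helpers here

set_option autoImplicit false
universe u
open CategoryTheory MonoidalCategory CartesianMonoidalCategory MonObj GrpObj AlgebraicGeometry Topology
open GIT

namespace Groth.Agent.S11428

/-- If (Y, φ) is a geometric quotient of X by G over S, then Y is separated over S exactly when the
action is separated, i.e. the image of (σ, p₂) : G ×_S X → X ×_S X is closed. -/
theorem result (S : Scheme.{u}) (G X Y : Over S) [GrpObj G]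
    (a : AlgGrp.Action G X) (φ : X ⟶ Y) (h : GIT.IsGeomQuot a φ) :
    IsSeparated Y.hom ↔ IsClosed (Set.range (GIT.psi a (𝟙 X)).left.base) := by
  have hΨ : a.act.left ≫ X.hom = (snd G X).left ≫ X.hom := by rw [Over.w, Over.w]
  have e : (GIT.psi a (𝟙 X)).left = Limits.pullback.lift a.act.left (snd G X).left hΨ := by
    apply Limits.pullback.hom_ext
    · have := congrArg CommaMorphism.left (lift_fst ((G ◁ 𝟙 X) ≫ a.act) (snd G X))
      simpa [GIT.psi] using this
    · have := congrArg CommaMorphism.left (lift_snd ((G ◁ 𝟙 X) ≫ a.act) (snd G X))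
      simpa [GIT.psi] using this
  rw [e]
  exact Groth.Agent.Lib.Helper10.GeomQuotSep.isSeparated_iff_isClosed_range a.act.left
    (snd G X).left φ.left Y.hom X.hom (Over.w φ) h.inv.left h.orbit h.subm hΨ

end Groth.Agent.S11428
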