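import Groth.Statements.S11438
import Mathlib
import Groth.Agent.Lib.Helper11RigidBaseF

set_option autoImplicit false
universe u
open CategoryTheory MonoidalCategory CartesianMonoidalCategory MonObj GrpObj AlgebraicGeometry Topology
open GIT

namespace Groth.Agent.S11438


/-- Let S be connected and locally Noetherian, G a locally Noetherian group scheme separated over S, X →
S proper and flat with κ(s) → H⁰(X_s, O_{X_s}) bijective for every s, and f, g : X → G morphisms
over S which agree on one fibre X_s. Then there is a section t of G over S with f = (t ∘ p) · g, the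
product taken in the group of X-valued points of G. -/
theorem result (S : Scheme.{u}) [IsLocallyNoetherian S] [ConnectedSpace S]
    (X G : Over S) [GrpObj G] [IsLocallyNoetherian G.left] [IsSeparated G.hom] [IsProper X.hom] [Flat X.hom]
    (h0 : ∀ s : S, Function.Bijective (Limits.pullback.snd X.hom (S.fromSpecResidueField s)).appTop)
    (f g : X ⟶ G) (s : S)
    (hs : Limits.pullback.fst X.hom (S.fromSpecResidueField s) ≫ f.left =
      Limits.pullback.fst X.hom (S.fromSpecResidueField s) ≫ g.left) :
    ∃ t : 𝟙_ (Over S) ⟶ G, f = (toUnit X ≫ t) * g := by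
  have hLN : IsLocallyNoetherian X.left := LocallyOfFiniteType.isLocallyNoetherian X.hom
  obtain ⟨φ, hφ⟩ : ∃ φ : X ⟶ G, φ = f * g⁻¹ := ⟨_, rfl⟩
  let is := Limits.pullback.fst X.hom (S.fromSpecResidueField s)
  let Xs : Over S := Over.mk (is ≫ X.hom)
  let j : Xs ⟶ X := Over.homMk is rfl
  have hj : j ≫ f = j ≫ g := by
    ext
    exact hs
  have hjφ : j ≫ φ = toUnit Xs ≫ η[G] := by
    rw [hφ, MonObj.comp_mul, GrpObj.comp_inv, hj, mul_inv_cancel, Hom.one_def]
  have hcol : ∀ x₁ x₂ : X.left, X.hom.base x₁ = s → X.hom.base x₂ = s →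
      φ.left.base x₁ = φ.left.base x₂ := by
    have hr : ∀ x : X.left, X.hom.base x = s → φ.left.base x = (η[G]).left.base s := by
      intro x hx
      have : x ∈ Set.range (X.hom.fiberι s).base := by
        rw [Scheme.Hom.range_fiberι]; exact hx
      obtain ⟨z, rfl⟩ := this
      have e0 : (j ≫ φ).left = (toUnit Xs ≫ η[G]).left := by rw [hjφ]
      have e1 := congr($(e0).base z)
      change φ.left.base (is.base z) = (η[G]).left.base ((toUnit Xs).left.base z) at e1
      refine e1.trans ?_
      congr 1
    intro x₁ x₂ h1 h2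
    rw [hr x₁ h1, hr x₂ h2]
  obtain ⟨t₀, ht₀⟩ := Groth.Agent.Lib.Helper11RigidBase.rigidity_proper X.hom φ.left G.hom (𝟙 S)
    (by rw [Over.w φ, Category.comp_id]) (fun s => h0 s) s hcol
  have hsurj : Function.Surjective X.hom.base :=
    Groth.Agent.Lib.Helper11RigidBase.surjective_of_injective_appTop X.hom (fun s => (h0 s).1)
  have : Surjective X.hom := ⟨hsurj⟩
  have hepi : Epi X.hom := Flat.epi_of_flat_of_surjective X.hom
  have ht₀' : t₀ ≫ G.hom = 𝟙 S := by
    rw [← cancel_epi X.hom, ← Category.assoc, ← ht₀, Over.w φ, Category.comp_id]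
  let t : 𝟙_ (Over S) ⟶ G := Over.homMk t₀ ht₀'
  refine ⟨t, ?_⟩
  have hφt : φ = toUnit X ≫ t := by
    ext
    rw [ht₀]
    have e2 : (toUnit X).left = X.hom := by
      have := Over.w (toUnit X)
      rw [← this]
      exact (Category.comp_id _).symm
    rw [Over.comp_left, e2]
    rfl
  rw [← hφt, hφ, inv_mul_cancel_right]

end Groth.Agent.S11438
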