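import Groth.Statements.S11439
import Mathlib
import Groth.Agent.Lib.Helper11RigidBaseF

set_option autoImplicit false
universe u
open CategoryTheory MonoidalCategory CartesianMonoidalCategory MonObj GrpObj AlgebraicGeometry Topology
open GIT

namespace Groth.Agent.S11439


open Limits in
lemma exists_preimage_of_isPullback {P A B C : Scheme.{u}} {fst' : P ⟶ A} {snd' : P ⟶ B}
    {f' : A ⟶ C} {g' : B ⟶ C} (H : IsPullback fst' snd' f' g') (a : A) (b : B)
    (h : f'.base a = g'.base b) : ∃ z : P, fst'.base z = a ∧ snd'.base z = b := by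
  obtain ⟨w, hw1, hw2⟩ := Scheme.Pullback.exists_preimage_pullback a b h
  refine ⟨H.isoPullback.inv.base w, ?_, ?_⟩
  · have := congr($(H.isoPullback_inv_fst).base w)
    exact this.trans hw1
  · have := congr($(H.isoPullback_inv_snd).base w)
    exact this.trans hw2


/-- Let S be locally Noetherian, G a locally Noetherian group scheme separated over S, X → S proper and
flat with κ(s) → H⁰(X_s, O_{X_s}) bijective for every s, and Y connected, locally Noetherian,
separated over S with a section over S. Then every morphism f : X ×_S Y → G over S factors as f = (g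
∘ p₁) · (h ∘ p₂) with g : X → G and h : Y → G. -/
theorem result (S : Scheme.{u}) [IsLocallyNoetherian S]
    (X Y G : Over S) [GrpObj G] [IsLocallyNoetherian G.left] [IsSeparated G.hom] [IsProper X.hom] [Flat X.hom]
    (h0 : ∀ s : S, Function.Bijective (Limits.pullback.snd X.hom (S.fromSpecResidueField s)).appTop)
    [IsLocallyNoetherian Y.left] [IsSeparated Y.hom] [ConnectedSpace Y.left] (e : 𝟙_ (Over S) ⟶ Y)
    (f : X ⊗ Y ⟶ G) :
    ∃ (g : X ⟶ G) (h : Y ⟶ G), f = (fst X Y ≫ g) * (snd X Y ≫ h) := by
  have hLN : IsLocallyNoetherian X.left := LocallyOfFiniteType.isLocallyNoetherian X.hom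
  let P : Scheme.{u} := Limits.pullback X.hom Y.hom
  let p' : P ⟶ Y.left := Limits.pullback.snd X.hom Y.hom
  let pr : P ⟶ X.left := Limits.pullback.fst X.hom Y.hom
  have hp' : (snd X Y).left = p' := rfl
  have hpr : (fst X Y).left = pr := rfl
  have hLNP : IsLocallyNoetherian P := LocallyOfFiniteType.isLocallyNoetherian p'
  have hHP : IsPullback pr p' X.hom Y.hom := IsPullback.of_hasPullback X.hom Y.hom
  have h0' : ∀ y : Y.left, Function.Bijective
      (Limits.pullback.snd p' (Y.left.fromSpecResidueField y)).appTop.hom := fun y =>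
    Groth.Agent.Lib.Helper11RigidBase.bijective_appTop_of_isPullback hHP y (h0 _)
  -- the two components
  let k : X ⟶ X ⊗ Y := lift (𝟙 X) (toUnit X ≫ e)
  have hk1 : k ≫ fst X Y = 𝟙 X := lift_fst _ _
  have hk2 : k ≫ snd X Y = toUnit X ≫ e := lift_snd _ _
  obtain ⟨g, hg⟩ : ∃ g : X ⟶ G, g = k ≫ f := ⟨_, rfl⟩
  obtain ⟨F, hF⟩ : ∃ F : X ⊗ Y ⟶ G, F = (fst X Y ≫ g)⁻¹ * f := ⟨_, rfl⟩
  have hkF : k ≫ F = toUnit X ≫ η[G] := by
    rw [hF, MonObj.comp_mul, GrpObj.comp_inv, ← Category.assoc, hk1, Category.id_comp, ← hg,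
      inv_mul_cancel, Hom.one_def]
  have hunitX : (toUnit X).left = X.hom := by
    have := Over.w (toUnit X)
    rw [← this]
    exact (Category.comp_id _).symm
  -- the pullback square `X = P ×_Y S`
  have hsq : IsPullback k.left X.hom p' e.left := by
    have hw : k.left ≫ p' = X.hom ≫ e.left := by
      have := congrArg (fun m => m.left) hk2
      simp only [Over.comp_left] at this
      rw [hunitX] at this
      exact this
    refine IsPullback.of_right ?_ hw hHP
    have e1 : k.left ≫ pr = 𝟙 X.left := by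
      have := congrArg (fun m => m.left) hk1
      simpa using this
    have e2 : e.left ≫ Y.hom = 𝟙 S := by
      have := Over.w e
      exact this
    rw [e1, e2]
    exact IsPullback.of_horiz_isIso ⟨by simp⟩
  obtain ⟨y₁⟩ : Nonempty Y.left := inferInstance
  let s₀ : S := Y.hom.base y₁
  have hcol : ∀ z₁ z₂ : P, p'.base z₁ = e.left.base s₀ → p'.base z₂ = e.left.base s₀ →
      F.left.base z₁ = F.left.base z₂ := by
    have hr : ∀ z : P, p'.base z = e.left.base s₀ → F.left.base z = (η[G]).left.base s₀ := by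
      intro z hz
      obtain ⟨w, hw1, hw2⟩ := exists_preimage_of_isPullback hsq z s₀ hz
      have e0 : (k ≫ F).left = (toUnit X ≫ η[G]).left := by rw [hkF]
      have e1 := congr($(e0).base w)
      change F.left.base (k.left.base w) = (η[G]).left.base ((toUnit X).left.base w) at e1
      rw [hw1] at e1
      refine e1.trans ?_
      congr 1
    intro z₁ z₂ h1 h2
    rw [hr z₁ h1, hr z₂ h2]
  obtain ⟨t₀, ht₀⟩ := Groth.Agent.Lib.Helper11RigidBase.rigidity_proper p' F.left G.hom Y.hom
    (by rw [Over.w F]; exact (Over.w (snd X Y)).symm) h0' (e.left.base s₀) hcol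
  have hsurj : Function.Surjective p'.base :=
    Groth.Agent.Lib.Helper11RigidBase.surjective_of_injective_appTop p' (fun y => (h0' y).1)
  have : Surjective p' := ⟨hsurj⟩
  have hepi : Epi p' := Flat.epi_of_flat_of_surjective p'
  have ht₀' : t₀ ≫ G.hom = Y.hom := by
    rw [← cancel_epi p', ← Category.assoc, ← ht₀, Over.w F]
    exact (Over.w (snd X Y)).symm
  let h : Y ⟶ G := Over.homMk t₀ ht₀'
  refine ⟨g, h, ?_⟩
  have hFh : F = snd X Y ≫ h := by
    ext
    rw [ht₀]
    rfl
  rw [← hFh, hF, mul_inv_cancel_left]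

end Groth.Agent.S11439
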