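import Groth.Statements.S11441
import Mathlib
import Groth.Agent.Lib.Helper10ClosedOrbit
-- import your own Groth.Agent.* helpers here

set_option autoImplicit false
universe u
open CategoryTheory MonoidalCategory CartesianMonoidalCategory MonObj GrpObj AlgebraicGeometry Topology
open GIT

namespace Groth.Agent.S11441

/-- If a geometric quotient of X by G over S exists, then the action of G on X is closed (orbits of
geometric points are closed in the geometric fibres). -/
theorem result (S : Scheme.{u}) (G X Y : Over S) [GrpObj G]
    (a : AlgGrp.Action G X) (φ : X ⟶ Y) (h : GIT.IsGeomQuot a φ) : GIT.IsClosedAction a := by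
  intro Ω _ _ T e f
  haveI : IsAffine T.left := IsAffine.of_isIso e.hom
  have hT : ∀ t : T.left, t = e.inv.base default := by
    intro t
    have h1 : e.hom.base t = default := Subsingleton.elim _ _
    rw [← h1, ← Scheme.Hom.comp_apply, e.hom_inv_id]
    rfl
  exact Groth.Agent.Lib.Helper10.ClosedOrbit.isClosed_range_psi a φ h T _ hT f

end Groth.Agent.S11441
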