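import Groth.Statements.S12909
import Mathlib
-- import your own Groth.Agent.* helpers here

set_option autoImplicit false
universe u
open CAlgX

namespace Groth.Agent.S12909.Aux

set_option autoImplicit false

namespace FFR
open IsLocalRing Module TensorProduct

section loc
variable {S : Type u} [CommRing S] [IsLocalRing S]

lemma lTensor_injective_of_depth_zero {G F : Type u} [AddCommGroup G] [Module S G]
    [AddCommGroup F] [Module S F] [Module.Free S G] [Module.Finite S G]
    (y : S) (hy : y ≠ 0) (hym : ∀ m ∈ maximalIdeal S, m * y = 0)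
    (g : G →ₗ[S] F) (hg : Function.Injective g) :
    Function.Injective (g.lTensor (ResidueField S)) := by
  rw [injective_iff_map_eq_zero]
  intro z hz
  obtain ⟨v, rfl⟩ : ∃ v : G, (1 : ResidueField S) ⊗ₜ[S] v = z :=
    TensorProduct.mk_surjective S G (ResidueField S) Ideal.Quotient.mk_surjective z
  rw [LinearMap.lTensor_tmul] at hz
  have h1 : g v ∈ (maximalIdeal S • ⊤ : Submodule S F) := by
    have hz' : ((1 : S ⧸ maximalIdeal S) ⊗ₜ[S] g v : (S ⧸ maximalIdeal S) ⊗[S] F) = 0 := hz
    have h : (Submodule.Quotient.mk (g v) : F ⧸ (maximalIdeal S • ⊤ : Submodule S F)) = 0 := by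
      rw [← TensorProduct.quotTensorEquivQuotSMul_mk_one_tmul, hz', map_zero]
    exact (Submodule.Quotient.mk_eq_zero _).mp h
  have h2 : y • g v = 0 := by
    refine Submodule.smul_induction_on h1 ?_ ?_
    · intro m hm w _; rw [smul_smul, mul_comm, hym m hm, zero_smul]
    · intro a b ha hb; rw [smul_add, ha, hb, add_zero]
  have h3 : y • v = 0 := hg (by rw [map_smul, h2, map_zero])
  have h4 : v ∈ (maximalIdeal S • ⊤ : Submodule S G) := by
    let b := Module.Free.chooseBasis S G
    have hc : ∀ j, b.repr v j ∈ maximalIdeal S := by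
      intro j
      by_contra hu
      have hunit : IsUnit (b.repr v j) := by
        rwa [mem_maximalIdeal, mem_nonunits_iff, not_not] at hu
      have h5 : y * b.repr v j = 0 := by
        have := congrArg (fun w => b.repr w j) h3
        simpa using this
      exact hy (hunit.mul_left_eq_zero.mp h5)
    rw [← b.sum_repr v]
    exact Submodule.sum_mem _ fun j _ => Submodule.smul_mem_smul (hc j) trivial
  have h6 := (Submodule.Quotient.mk_eq_zero _).mpr h4
  rw [← TensorProduct.quotTensorEquivQuotSMul_mk_one_tmul] at h6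
  exact (LinearEquiv.map_eq_zero_iff _).mp h6

lemma split {G F : Type u} [AddCommGroup G] [Module S G]
    [AddCommGroup F] [Module S F] [Module.Free S G] [Module.Finite S G]
    [Module.Free S F] [Module.Finite S F]
    (y : S) (hy : y ≠ 0) (hym : ∀ m ∈ maximalIdeal S, m * y = 0)
    (g : G →ₗ[S] F) (hg : Function.Injective g) :
    Module.Free S (F ⧸ LinearMap.range g) ∧
      Module.finrank S (F ⧸ LinearMap.range g) + Module.finrank S G = Module.finrank S F := by
  have hinj := lTensor_injective_of_depth_zero y hy hym g hg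
  have hfree : Module.Free S (F ⧸ LinearMap.range g) :=
    Module.free_of_lTensor_residueField_injective g (LinearMap.range g).mkQ
      (Submodule.mkQ_surjective _) g.exact_map_mkQ_range hinj
  refine ⟨hfree, ?_⟩
  obtain ⟨σ, hσ⟩ := Module.projective_lifting_property (LinearMap.range g).mkQ LinearMap.id
    (Submodule.mkQ_surjective _)
  have e := (g.exact_map_mkQ_range.splitSurjectiveEquiv hg ⟨σ, hσ⟩).1
  rw [e.finrank_eq, Module.finrank_prod, add_comm]

/-- ranks determined by the `n i` -/
def rr (n : ℕ → ℕ) (e : ℕ) : ℕ → ℤ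
  | 0 => (n (e - 1) : ℤ) - n e
  | j + 1 => (n (e - 1 - (j + 1)) : ℤ) - rr n e j

theorem chain (y : S) (hy : y ≠ 0) (hym : ∀ m ∈ maximalIdeal S, m * y = 0)
    (F : ℕ → Type u) [∀ i, AddCommGroup (F i)] [∀ i, Module S (F i)]
    [∀ i, Module.Free S (F i)] [∀ i, Module.Finite S (F i)]
    (d : ∀ i, F (i + 1) →ₗ[S] F i) (e : ℕ)
    (hex : ∀ i, i + 2 ≤ e → LinearMap.ker (d i) = LinearMap.range (d (i + 1)))
    (hlast : ∀ i, i + 1 = e → Function.Injective (d i)) :
    ∀ j i, i + j + 1 = e → Module.Free S (F i ⧸ LinearMap.range (d i)) ∧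
      (Module.finrank S (F i ⧸ LinearMap.range (d i)) : ℤ) =
        rr (fun i => Module.finrank S (F i)) e j := by
  intro j
  induction j with
  | zero =>
    intro i hi
    obtain ⟨h1, h2⟩ := split y hy hym (d i) (hlast i (by omega))
    refine ⟨h1, ?_⟩
    have e1 : e - 1 = i := by omega
    have e2 : e = i + 1 := by omega
    simp only [rr]
    rw [e1, e2]
    omega
  | succ j ih =>
    intro i hi
    obtain ⟨hfree', hrank'⟩ := ih (i + 1) (by omega)
    have hker := hex i (by omega)
    let dbar : (F (i + 1) ⧸ LinearMap.range (d (i + 1))) →ₗ[S] F i :=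
      (LinearMap.range (d (i + 1))).liftQ (d i) (le_of_eq hker.symm)
    have hdbar : Function.Injective dbar := by
      rw [← LinearMap.ker_eq_bot]
      exact Submodule.ker_liftQ_eq_bot' _ _ hker.symm
    have hrange : LinearMap.range dbar = LinearMap.range (d i) := Submodule.range_liftQ _ _ _
    haveI := hfree'
    obtain ⟨h1, h2⟩ := split y hy hym dbar hdbar
    rw [hrange] at h1 h2
    refine ⟨h1, ?_⟩
    have e1 : e - 1 - (j + 1) = i := by omega
    simp only [rr]
    rw [e1, ← hrank']
    omega

end loc

section glob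
variable {R : Type u} [CommRing R]

lemma mk_eq_zero_iff {T : Submonoid R} {M : Type u} [AddCommGroup M] [Module R M] (m : M) (s : T) :
    LocalizedModule.mk m s = 0 ↔ ∃ u : T, u • m = 0 := by
  rw [← LocalizedModule.zero_mk (1 : T), LocalizedModule.mk_eq]
  simp

lemma loc_exact {M₀ M₁ M₂ : Type u} [AddCommGroup M₀] [Module R M₀] [AddCommGroup M₁] [Module R M₁]
    [AddCommGroup M₂] [Module R M₂] (g : M₀ →ₗ[R] M₁) (h : M₁ →ₗ[R] M₂)
    (ex : LinearMap.ker h = LinearMap.range g) (T : Submonoid R) :
    LinearMap.ker (LocalizedModule.map T h) = LinearMap.range (LocalizedModule.map T g) := by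
  ext x
  constructor
  · intro hx
    induction x using LocalizedModule.induction_on with
    | h m s =>
      rw [LinearMap.mem_ker, LocalizedModule.map_mk, mk_eq_zero_iff] at hx
      obtain ⟨a, ha⟩ := hx
      have h1 : (a : R) • m ∈ LinearMap.ker h := by
        rw [LinearMap.mem_ker, map_smul]; exact ha
      rw [ex] at h1
      obtain ⟨z, hz⟩ := h1
      refine ⟨LocalizedModule.mk z (a * s), ?_⟩
      rw [LocalizedModule.map_mk, hz]
      exact LocalizedModule.mk_cancel_common_left a s m
  · rintro ⟨z, rfl⟩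
    induction z using LocalizedModule.induction_on with
    | h m s =>
      rw [LinearMap.mem_ker, LocalizedModule.map_mk, LocalizedModule.map_mk]
      have : h (g m) = 0 := by
        have : g m ∈ LinearMap.ker h := by rw [ex]; exact ⟨m, rfl⟩
        exact this
      rw [this, LocalizedModule.zero_mk]

variable (P : Ideal R) [P.IsPrime]

/-- localized free modules -/
abbrev LF (n : ℕ) := LocalizedModule P.primeCompl (Fin n → R)

instance instFreeLF (n : ℕ) : Module.Free (Localization.AtPrime P) (LF P n) :=
  Module.free_of_isLocalizedModule P.primeCompl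
    (LocalizedModule.mkLinearMap P.primeCompl (Fin n → R))

lemma finrank_LF (n : ℕ) : Module.finrank (Localization.AtPrime P) (LF P n) = n := by
  haveI : Nontrivial R := (algebraMap R (Localization.AtPrime P)).domain_nontrivial
  rw [Module.finrank_of_isLocalizedModule_of_free (Localization.AtPrime P) P.primeCompl
    (LocalizedModule.mkLinearMap P.primeCompl (Fin n → R))]
  simp

end glob


section main
variable {R : Type u} [CommRing R]

lemma depth_zero_loc (P : Ideal R) [P.IsPrime] (x : R)
    (hP : P = Submodule.colon (⊥ : Submodule R R) {x}) :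
    algebraMap R (Localization.AtPrime P) x ≠ 0 ∧
    ∀ m ∈ maximalIdeal (Localization.AtPrime P),
      m * algebraMap R (Localization.AtPrime P) x = 0 := by
  constructor
  · intro h
    rw [IsLocalization.map_eq_zero_iff P.primeCompl] at h
    obtain ⟨m, hm⟩ := h
    apply m.2
    show (m : R) ∈ P
    refine hP.ge ?_
    rw [Submodule.mem_colon_singleton, Submodule.mem_bot, smul_eq_mul]
    exact hm
  · intro m hm
    rw [← Localization.AtPrime.map_eq_maximalIdeal] at hm
    have hle : Ideal.map (algebraMap R (Localization.AtPrime P)) P ≤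
        Submodule.colon (⊥ : Submodule (Localization.AtPrime P) (Localization.AtPrime P))
          {algebraMap R (Localization.AtPrime P) x} := by
      rw [Ideal.map_le_iff_le_comap]
      intro p hp
      rw [Ideal.mem_comap, Submodule.mem_colon_singleton, Submodule.mem_bot, smul_eq_mul,
        ← map_mul]
      rw [hP, Submodule.mem_colon_singleton, Submodule.mem_bot, smul_eq_mul] at hp
      rw [hp, map_zero]
    have := hle hm
    rwa [Submodule.mem_colon_singleton, Submodule.mem_bot, smul_eq_mul] at this

theorem local_rank (e : ℕ) (he : 1 ≤ e) (n : ℕ → ℕ)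
    (A : (i : ℕ) → Matrix (Fin (n i)) (Fin (n (i + 1))) R)
    (π : (Fin (n 0) → R) →ₗ[R] R)
    (h0 : LinearMap.ker π = LinearMap.range (A 0).mulVecLin)
    (hA : ∀ i, i + 2 ≤ e → LinearMap.ker (A i).mulVecLin = LinearMap.range (A (i + 1)).mulVecLin)
    (hlast : LinearMap.ker (A (e - 1)).mulVecLin = ⊥)
    (P : Ideal R) [P.IsPrime] (x : R) (hP : P = Submodule.colon (⊥ : Submodule R R) {x}) :
    Module.Free (Localization.AtPrime P) (LinearMap.range (LocalizedModule.map P.primeCompl π)) ∧
    (Module.finrank (Localization.AtPrime P)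
      (LinearMap.range (LocalizedModule.map P.primeCompl π)) : ℤ) = rr n e (e - 1) := by
  obtain ⟨hy, hym⟩ := depth_zero_loc P x hP
  have hinj : ∀ i, i + 1 = e →
      Function.Injective (LocalizedModule.map P.primeCompl (A i).mulVecLin) := by
    intro i hi
    apply LocalizedModule.map_injective
    rw [← LinearMap.ker_eq_bot]
    have : e - 1 = i := by omega
    rw [← this]; exact hlast
  obtain ⟨key1, key2⟩ := chain (S := Localization.AtPrime P) _ hy hym (fun i => LF P (n i))
    (fun i => LocalizedModule.map P.primeCompl (A i).mulVecLin) e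
    (fun i hi => loc_exact _ _ (hA i hi) P.primeCompl) hinj (e - 1) 0 (by omega)
  have hfr : (fun i => Module.finrank (Localization.AtPrime P) (LF P (n i))) = n :=
    funext fun i => finrank_LF P (n i)
  rw [hfr] at key2
  have hker := loc_exact _ _ h0 P.primeCompl
  let E : (LF P (n 0) ⧸ LinearMap.range (LocalizedModule.map P.primeCompl (A 0).mulVecLin))
      ≃ₗ[Localization.AtPrime P] LinearMap.range (LocalizedModule.map P.primeCompl π) :=
    (Submodule.quotEquivOfEq _ _ hker.symm).trans
      (LinearMap.quotKerEquivRange (LocalizedModule.map P.primeCompl π))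
  haveI := key1
  exact ⟨Module.Free.of_equiv E, by rw [← E.finrank_eq]; exact key2⟩

lemma subsingleton_of_free_of_smul_eq_zero {S T : Type u} [CommRing S] [AddCommGroup T]
    [Module S T] [Module.Free S T] (y : S) (hy : y ≠ 0) (h : ∀ t : T, y • t = 0) :
    Subsingleton T := by
  let b := Module.Free.chooseBasis S T
  by_cases hι : IsEmpty (Module.Free.ChooseBasisIndex S T)
  · exact b.repr.toEquiv.subsingleton
  · rw [not_isEmpty_iff] at hι
    obtain ⟨i⟩ := hι
    exfalso
    have := congrArg (fun w => b.repr w i) (h (b i))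
    simp at this
    exact hy this

lemma kill (P : Ideal R) [P.IsPrime] {m : ℕ} (π : (Fin m → R) →ₗ[R] R) (x : R)
    (hx : ∀ z ∈ LinearMap.range π, x * z = 0)
    (t : LinearMap.range (LocalizedModule.map P.primeCompl π)) :
    algebraMap R (Localization.AtPrime P) x • t = 0 := by
  obtain ⟨t, w, rfl⟩ := t
  apply Subtype.ext
  show algebraMap R (Localization.AtPrime P) x • (LocalizedModule.map P.primeCompl π w) = 0
  induction w using LocalizedModule.induction_on with
  | h v s =>
    rw [LocalizedModule.map_mk, algebraMap_smul, LocalizedModule.smul'_mk, smul_eq_mul,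
      hx _ ⟨v, rfl⟩, LocalizedModule.zero_mk]

lemma vanish (P : Ideal R) [P.IsPrime] {m : ℕ} (π : (Fin m → R) →ₗ[R] R)
    (hss : Subsingleton (LinearMap.range (LocalizedModule.map P.primeCompl π)))
    (z : R) (hz : z ∈ LinearMap.range π) : ∃ s : P.primeCompl, (s : R) * z = 0 := by
  obtain ⟨v, rfl⟩ := hz
  have h1 : (⟨LocalizedModule.map P.primeCompl π (LocalizedModule.mk v 1), ⟨_, rfl⟩⟩ :
      LinearMap.range (LocalizedModule.map P.primeCompl π)) = 0 := Subsingleton.elim _ _
  have h2 := congrArg Subtype.val h1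
  simp only [Submodule.coe_zero] at h2
  rw [LocalizedModule.map_mk, mk_eq_zero_iff] at h2
  obtain ⟨u, hu⟩ := h2
  exact ⟨u, by rw [← smul_eq_mul]; exact hu⟩

theorem main [IsNoetherianRing R] (e : ℕ) (he : 1 ≤ e) (n : ℕ → ℕ)
    (A : (i : ℕ) → Matrix (Fin (n i)) (Fin (n (i + 1))) R)
    (π : (Fin (n 0) → R) →ₗ[R] R) (hI : LinearMap.range π ≠ ⊥)
    (h0 : LinearMap.ker π = LinearMap.range (A 0).mulVecLin)
    (hA : ∀ i, i + 2 ≤ e → LinearMap.ker (A i).mulVecLin = LinearMap.range (A (i + 1)).mulVecLin)
    (hlast : LinearMap.ker (A (e - 1)).mulVecLin = ⊥) :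
    ∃ x : R, x ∈ LinearMap.range π ∧ x ∈ nonZeroDivisors R := by
  by_contra hcon
  push_neg at hcon
  have hsub : (((LinearMap.range π : Ideal R)) : Set R) ⊆
      ⋃ p ∈ associatedPrimes R R, (p : Set R) := by
    rw [biUnion_associatedPrimes_eq_compl_nonZeroDivisors]
    intro z hz
    exact fun hz' => hcon z hz hz'
  obtain ⟨P₀, hP₀, hle⟩ := (Ideal.subset_union_prime_finite (associatedPrimes.finite R R)
    (f := id) 0 0 (fun _ h _ _ => h.1)).1 hsub
  rw [AssociatedPrimes.mem_iff, isAssociatedPrime_iff] at hP₀
  obtain ⟨hprime, x₀, hx₀⟩ := hP₀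
  have := hprime
  obtain ⟨hfree₀, hrank₀⟩ := local_rank e he n A π h0 hA hlast P₀ x₀ hx₀
  have hkill : ∀ z ∈ LinearMap.range π, x₀ * z = 0 := by
    intro z hz
    have := hle hz
    simp only [id] at this
    rw [hx₀, Submodule.mem_colon_singleton, Submodule.mem_bot, smul_eq_mul] at this
    rw [mul_comm]; exact this
  have hχ : rr n e (e - 1) = 0 := by
    rw [← hrank₀]
    haveI := hfree₀
    have hss : Subsingleton (LinearMap.range (LocalizedModule.map P₀.primeCompl π)) :=
      subsingleton_of_free_of_smul_eq_zero (algebraMap R (Localization.AtPrime P₀) x₀)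
        (depth_zero_loc P₀ x₀ hx₀).1 (kill P₀ π x₀ hkill)
    rw [Nat.cast_eq_zero]
    exact (Module.finrank_eq_zero_iff_of_free _ _).mpr hss
  obtain ⟨z, hz, hz0⟩ := (Submodule.ne_bot_iff _).mp hI
  obtain ⟨P, hP, hzP⟩ := exists_le_isAssociatedPrime_of_isNoetherianRing R z hz0
  rw [isAssociatedPrime_iff] at hP
  obtain ⟨hprime', x, hx⟩ := hP
  have := hprime'
  obtain ⟨hfree, hrank⟩ := local_rank e he n A π h0 hA hlast P x hx
  rw [hχ] at hrank
  haveI := hfree
  have hss : Subsingleton (LinearMap.range (LocalizedModule.map P.primeCompl π)) :=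
    (Module.finrank_eq_zero_iff_of_free _ _).mp (by exact_mod_cast hrank)
  obtain ⟨s, hs⟩ := vanish P π hss z hz
  apply s.2
  apply hzP
  rw [Submodule.mem_colon_singleton, Submodule.mem_bot, smul_eq_mul]
  exact hs

end main

end FFR

end Groth.Agent.S12909.Aux

namespace Groth.Agent.S12909

/-- Let R be a Noetherian ring and I a nonzero ideal with a finite free resolution 0 → R^{n_e} → … →
R^{n_1} → R^{n_0} → I → 0 with e ≥ 1: the map R^{n_{i+1}} → R^{n_i} is the matrix A_i, the map π :
R^{n_0} → R is linear with image I, the kernel of π is the image of A_0, the kernel of A_i is the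
image of A_{i+1} for 0 ≤ i ≤ e - 2, and A_{e-1} is injective. Then I contains a non-zero-divisor of
R. (The hypothesis that I is nonzero is implicit in the published statement: the zero ideal of a
domain has a finite free resolution and contains no non-zero-divisor.) -/
theorem result {R : Type u} [CommRing R] [IsNoetherianRing R]
    (e : ℕ) (he : 1 ≤ e) (n : ℕ → ℕ) (A : (i : ℕ) → Matrix (Fin (n i)) (Fin (n (i + 1))) R)
    (π : (Fin (n 0) → R) →ₗ[R] R) (hI : LinearMap.range π ≠ ⊥)
    (h0 : LinearMap.ker π = LinearMap.range (A 0).mulVecLin)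
    (hA : ∀ i, i + 2 ≤ e → LinearMap.ker (A i).mulVecLin = LinearMap.range (A (i + 1)).mulVecLin)
    (hlast : LinearMap.ker (A (e - 1)).mulVecLin = ⊥) :
    ∃ x : R, x ∈ LinearMap.range π ∧ x ∈ nonZeroDivisors R := by
  exact Aux.FFR.main e he n A π hI h0 hA hlast

end Groth.Agent.S12909
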