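import Groth.Statements.S12907
import Mathlib
import Groth.Agent.Lib.Helper13HB2
import Groth.Agent.S12909
-- import your own Groth.Agent.* helpers here

set_option autoImplicit false
universe u
open CAlgX

namespace Groth.Agent.S12907

open Groth.Agent.S12909.Aux.FFR in
/-- rank count: `n = m + 1`. -/
theorem eq_succ {R : Type u} [CommRing R] [IsNoetherianRing R] (m n : ℕ)
    (Ψ : Matrix (Fin n) (Fin m) R) (π : (Fin n → R) →ₗ[R] R)
    (hΨ : LinearMap.ker Ψ.mulVecLin = ⊥) (hex : LinearMap.ker π = LinearMap.range Ψ.mulVecLin)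
    (hI : LinearMap.range π ≠ ⊥) : n = m + 1 := by
  classical
  -- package as a length-one resolution
  let n' : ℕ → ℕ := fun i => Nat.casesOn i n (fun _ => m)
  let A' : (i : ℕ) → Matrix (Fin (n' i)) (Fin (n' (i + 1))) R :=
    fun i => Nat.casesOn i Ψ (fun _ => 0)
  have hA' : ∀ i, i + 2 ≤ 1 →
      LinearMap.ker (A' i).mulVecLin = LinearMap.range (A' (i + 1)).mulVecLin := by
    intro i hi
    omega
  obtain ⟨b, hbI, hb⟩ := Groth.Agent.S12909.result (R := R) 1 le_rfl n' A' π hI hex hA' hΨ
  haveI : Nontrivial R := by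
    by_contra hnt
    rw [not_nontrivial_iff_subsingleton] at hnt
    exact hI (Subsingleton.elim _ _)
  obtain ⟨P, hP⟩ := associatedPrimes.nonempty R R
  rw [AssociatedPrimes.mem_iff, isAssociatedPrime_iff] at hP
  obtain ⟨hprime, x0, hx0⟩ := hP
  haveI := hprime
  obtain ⟨hfree, hrank⟩ := local_rank (R := R) 1 le_rfl n' A' π hex hA' hΨ P x0 hx0
  have hrr : rr n' 1 (1 - 1) = (n : ℤ) - m := rfl
  rw [hrr] at hrank
  -- the rank of `I_P` is one
  have hT : Module.finrank (Localization.AtPrime P) (LocalizedModule P.primeCompl R) = 1 := by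
    rw [Module.finrank_of_isLocalizedModule_of_free (Localization.AtPrime P) P.primeCompl
      (LocalizedModule.mkLinearMap P.primeCompl R), Module.finrank_self]
  haveI : Module.Finite (Localization.AtPrime P) (LocalizedModule P.primeCompl R) :=
    Module.Finite.of_isLocalizedModule P.primeCompl (LocalizedModule.mkLinearMap P.primeCompl R)
  haveI : Module.Finite (Localization.AtPrime P) (LF P n) :=
    Module.Finite.of_isLocalizedModule P.primeCompl
      (LocalizedModule.mkLinearMap P.primeCompl (Fin n → R))
  haveI : Module.Finite (Localization.AtPrime P)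
      (LinearMap.range (LocalizedModule.map P.primeCompl π)) := Module.Finite.range _
  have hle : Module.finrank (Localization.AtPrime P)
      (LinearMap.range (LocalizedModule.map P.primeCompl π)) ≤ 1 := by
    rw [← hT]
    exact LinearMap.finrank_le_finrank_of_injective
      (f := (LinearMap.range (LocalizedModule.map P.primeCompl π)).subtype)
      (Submodule.injective_subtype _)
  obtain ⟨vb, hvb⟩ := hbI
  let β : LinearMap.range (LocalizedModule.map P.primeCompl π) :=
    ⟨LocalizedModule.map P.primeCompl π (LocalizedModule.mk vb 1), ⟨_, rfl⟩⟩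
  have hge : 1 ≤ Module.finrank (Localization.AtPrime P)
      (LinearMap.range (LocalizedModule.map P.primeCompl π)) := by
    have h1 : Module.finrank (Localization.AtPrime P) (Localization.AtPrime P) = 1 :=
      Module.finrank_self _
    rw [← h1]
    apply LinearMap.finrank_le_finrank_of_injective
      (f := LinearMap.toSpanSingleton (Localization.AtPrime P) _ β)
    rw [injective_iff_map_eq_zero]
    intro c hc
    rw [LinearMap.toSpanSingleton_apply] at hc
    have hc' := congrArg Subtype.val hc
    simp only [β, Submodule.coe_smul, Submodule.coe_zero] at hc'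
    rw [LocalizedModule.map_mk, hvb] at hc'
    induction c using Localization.induction_on with
    | H rs =>
      obtain ⟨r, s⟩ := rs
      rw [LocalizedModule.mk_smul_mk, mk_eq_zero_iff] at hc'
      obtain ⟨u, hu⟩ := hc'
      have h2 : (u : R) * r = 0 := by
        have h3 : (u : R) * r * b = 0 := by
          have : (u : R) • r • b = 0 := hu
          rw [smul_eq_mul, smul_eq_mul, ← mul_assoc] at this
          exact this
        exact (mem_nonZeroDivisors_iff_right.1 hb) _ h3
      rw [Localization.mk_eq_mk'_apply, IsLocalization.mk'_eq_zero_iff]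
      exact ⟨u, h2⟩
  have h1 : (Module.finrank (Localization.AtPrime P)
      (LinearMap.range (LocalizedModule.map P.primeCompl π)) : ℤ) = 1 := by
    exact_mod_cast le_antisymm hle hge
  rw [h1] at hrank
  omega

/-- Let R be a Noetherian ring and I a nonzero ideal admitting a free resolution 0 → R^m → R^n → I → 0:
an injective matrix Ψ with n rows and m columns, and a linear map π : R^n → R with image I whose
kernel is the image of Ψ. Then n = m + 1; there is a non-zero-divisor a with I = a · I_m(Ψ), where
I_m(Ψ) is the ideal generated by the m × m minors of Ψ; and the I_m(Ψ)-depth of R is at least 2.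
(The published statement also asserts that this depth is exactly 2; only the lower bound is stated
here. The hypothesis that I is nonzero is implicit in the published statement.) -/
theorem result {R : Type u} [CommRing R] [IsNoetherianRing R] (m n : ℕ)
    (Ψ : Matrix (Fin n) (Fin m) R) (π : (Fin n → R) →ₗ[R] R)
    (hΨ : LinearMap.ker Ψ.mulVecLin = ⊥) (hex : LinearMap.ker π = LinearMap.range Ψ.mulVecLin)
    (hI : LinearMap.range π ≠ ⊥) :
    n = m + 1 ∧
      (∃ a : R, a ∈ nonZeroDivisors R ∧ LinearMap.range π = Ideal.span {a} * CAlgX.minorIdeal Ψ m) ∧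
      2 ≤ LocCoh.idealDepth (CAlgX.minorIdeal Ψ m) R := by
  classical
  have hn := eq_succ m n Ψ π hΨ hex hI
  subst hn
  have hinj : Function.Injective Ψ.mulVecLin := LinearMap.ker_eq_bot.1 hΨ
  obtain ⟨x, hxJ, hx⟩ := Groth.Agent.Helper13HB2.exists_regular_mem_minorIdeal Ψ hinj
  obtain ⟨y, hyJ, hy⟩ := Groth.Agent.Helper13HB2.exists_regular_mem_minorIdeal_quot Ψ π hinj hex x hx
  refine ⟨rfl, ?_, ?_⟩
  · obtain ⟨a, ha, hπ⟩ := Groth.Agent.Helper13HB2.exists_eq_smul_δ Ψ π hex x y hxJ hyJ hx hy
    refine ⟨a, ha, ?_⟩
    have h1 : (1 : R) ∈ nonZeroDivisors R := one_mem _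
    have hrange : LinearMap.range (Groth.Agent.Helper13HBurch.δ Ψ 1) = CAlgX.minorIdeal Ψ m := by
      rw [Groth.Agent.Helper13HBurch.range_δ Ψ 1 h1, Ideal.span_singleton_one, Ideal.top_mul]
    rw [← hrange]
    ext z
    rw [Ideal.mem_span_singleton_mul]
    constructor
    · rintro ⟨v, rfl⟩
      exact ⟨_, ⟨v, rfl⟩, (hπ v).symm⟩
    · rintro ⟨w, ⟨v, rfl⟩, rfl⟩
      exact ⟨v, hπ v⟩
  · unfold LocCoh.idealDepth
    split_ifs with htop
    · exact le_top
    · have h2 : RingTheory.Sequence.IsWeaklyRegular R [x, y] := by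
        rw [RingTheory.Sequence.isWeaklyRegular_cons_iff]
        refine ⟨hx, ?_⟩
        rw [RingTheory.Sequence.isWeaklyRegular_cons_iff]
        exact ⟨hy, RingTheory.Sequence.IsWeaklyRegular.nil _ _⟩
      have h3 : ∀ r ∈ [x, y], r ∈ CAlgX.minorIdeal Ψ m := by
        intro r hr
        simp only [List.mem_cons, List.not_mem_nil, or_false] at hr
        rcases hr with rfl | rfl
        · exact hxJ
        · exact hyJ
      have := le_iSup₂ (f := fun (rs : List R)
        (_ : RingTheory.Sequence.IsWeaklyRegular R rs ∧ ∀ r ∈ rs, r ∈ CAlgX.minorIdeal Ψ m) =>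
          (rs.length : ℕ∞)) [x, y] ⟨h2, h3⟩
      exact this

end Groth.Agent.S12907
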