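import Groth.Statements.S11449
import Mathlib
import Groth.Agent.Lib.Helper13Ses
import Groth.Agent.Lib.Helper13Acyc
import Groth.Agent.Lib.Helper13HB2
import Groth.Agent.Lib.Helper5RLR
import Groth.Agent.S0563
import Groth.Agent.S12907
-- import your own Groth.Agent.* helpers here

set_option autoImplicit false
universe u
open DefT

namespace Groth.Agent.S11449

open CategoryTheory

/-- `pd_A (A/I) ≤ 2` for a Cohen–Macaulay quotient of codimension two of a regular local ring. -/
theorem pd_lt_three (A : Type u) [CommRing A] [IsRegularLocalRing A] (I : Ideal A)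
    [LocCoh.IsCohenMacaulayLocalRing (A ⧸ I)] (d : ℕ) (hd : ringKrullDim (A ⧸ I) = d)
    (hA : ringKrullDim A = ((d + 2 : ℕ) : WithBot ℕ∞)) :
    HasProjectiveDimensionLT (ModuleCat.of A (A ⧸ I)) 3 := by
  have hdepth : LocCoh.depth (A ⧸ I) (A ⧸ I) = d := by
    have h1 := LocCoh.IsCohenMacaulayLocalRing.supportDim_eq_depth (R := A ⧸ I)
    rw [Module.supportDim_self_eq_ringKrullDim, hd] at h1
    exact_mod_cast h1.symm
  obtain ⟨rs', hrs', hmem', hlen', -⟩ :=
    Groth.Agent.Helper13Acyc.exists_max_regular_seq (A := A ⧸ I) d hdepth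
  obtain ⟨rs, rfl⟩ : ∃ rs : List A, rs.map (Ideal.Quotient.mk I) = rs' :=
    List.map_surjective_iff.2 Ideal.Quotient.mk_surjective rs'
  have hrs : RingTheory.Sequence.IsWeaklyRegular (A ⧸ I) rs :=
    (RingTheory.Sequence.isWeaklyRegular_map_algebraMap_iff (A ⧸ I) (A ⧸ I) rs).1 hrs'
  have hmem : ∀ r ∈ rs, r ∈ IsLocalRing.maximalIdeal A := fun r hr =>
    (Groth.Agent.Lib.Helper5.mk_mem_maximalIdeal_quotient_iff I r).1
      (hmem' _ (List.mem_map_of_mem hr))
  have hlen : rs.length = d := by simpa using hlen'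
  have h1 := ModuleCat.projectiveDimension_quotient_eq_add_length_of_isWeaklyRegular
    (ModuleCat.of A (A ⧸ I)) rs hrs hmem
  have h2 := Groth.Agent.S0563.result A (d + 2) hA
    ((A ⧸ I) ⧸ Ideal.ofList rs • (⊤ : Submodule A (A ⧸ I)))
  rw [← projectiveDimension_lt_iff] at h2 ⊢
  rw [h1, hlen] at h2
  generalize projectiveDimension (ModuleCat.of A (A ⧸ I)) = x at h2 ⊢
  induction x using WithBot.recBotCoe with
  | bot => exact WithBot.bot_lt_coe _
  | coe y =>
    induction y using ENat.recTopCoe with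
    | top =>
      exfalso
      have : ((⊤ : ℕ∞) : WithBot ℕ∞) + ((d : ℕ) : WithBot ℕ∞) = ((⊤ : ℕ∞) : WithBot ℕ∞) := by
        rw [show ((d : ℕ) : WithBot ℕ∞) = (((d : ℕ) : ℕ∞) : WithBot ℕ∞) from rfl, ← WithBot.coe_add,
          top_add]
      rw [this] at h2
      exact absurd h2 (by
        rw [show (((d + 2 + 1 : ℕ) : ℕ) : WithBot ℕ∞) = (((d + 2 + 1 : ℕ) : ℕ∞) : WithBot ℕ∞) from rfl,
          WithBot.coe_lt_coe]
        exact not_lt.2 le_top)
    | coe m =>
      have h3 : (((m + d : ℕ) : ℕ) : WithBot ℕ∞) < ((d + 2 + 1 : ℕ) : WithBot ℕ∞) := by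
        have : (((m : ℕ) : ℕ∞) : WithBot ℕ∞) + ((d : ℕ) : WithBot ℕ∞) =
            (((m + d : ℕ) : ℕ) : WithBot ℕ∞) := by push_cast; rfl
        rw [← this]
        exact h2
      have h4 : m + d < d + 2 + 1 := by exact_mod_cast h3
      have h5 : m < 3 := by omega
      show (((m : ℕ) : WithBot ℕ∞)) < ((3 : ℕ) : WithBot ℕ∞)
      exact Nat.cast_lt.2 h5

/-- a free resolution `0 → A^m → A^N → I → 0` from `pd (A/I) ≤ 2`. -/
theorem exists_resolution {A : Type u} [CommRing A] [IsNoetherianRing A] [IsLocalRing A]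
    (I : Ideal A) (hpd : HasProjectiveDimensionLT (ModuleCat.of A (A ⧸ I)) 3) (N : ℕ)
    (g : Fin N → A) (hg : Ideal.span (Set.range g) = I) :
    ∃ (m : ℕ) (Ψ : Matrix (Fin N) (Fin m) A), LinearMap.ker Ψ.mulVecLin = ⊥ ∧
      LinearMap.ker (Fintype.linearCombination A g) = LinearMap.range Ψ.mulVecLin := by
  classical
  obtain ⟨π, hπ⟩ : ∃ π : (Fin N → A) →ₗ[A] A, π = Fintype.linearCombination A g := ⟨_, rfl⟩
  rw [← hπ]
  have hrange : LinearMap.range π = I := by
    rw [hπ, Fintype.range_linearCombination, ← hg]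
  have hI2 : HasProjectiveDimensionLT (ModuleCat.of A I) 2 :=
    Groth.Agent.Helper13Ses.pdLT_sub (I : Submodule A A) 1 hpd
  obtain ⟨π', hπ'⟩ : ∃ π' : (Fin N → A) →ₗ[A] I, ∀ v, ((π' v : I) : A) = π v :=
    ⟨LinearMap.codRestrict I π (fun v => by rw [← hrange]; exact LinearMap.mem_range_self π v),
      fun v => rfl⟩
  have hπ'surj : Function.Surjective π' := by
    intro y
    have hy : (y : A) ∈ LinearMap.range π := by rw [hrange]; exact y.2
    obtain ⟨v, hv⟩ := hy
    exact ⟨v, Subtype.ext ((hπ' v).trans hv)⟩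
  have hker : LinearMap.ker π' = LinearMap.ker π := by
    ext v
    rw [LinearMap.mem_ker, LinearMap.mem_ker, ← hπ' v]
    constructor
    · intro h; rw [h]; rfl
    · intro h; exact Subtype.ext h
  have hK1 : HasProjectiveDimensionLT (ModuleCat.of A (LinearMap.ker π')) 1 :=
    Groth.Agent.Helper13Ses.pdLT_ker π' hπ'surj 0 hI2
  have : Module.Projective A (LinearMap.ker π') := Groth.Agent.Helper13Ses.projective_of_pdLT_one hK1
  have : Module.Free A (LinearMap.ker π') := Module.free_of_flat_of_isLocalRing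
  obtain ⟨b⟩ : Nonempty (Module.Basis (Fin (Module.finrank A (LinearMap.ker π'))) A (LinearMap.ker π')) :=
    ⟨Module.finBasis A (LinearMap.ker π')⟩
  obtain ⟨Ψ, hΨ⟩ : ∃ Ψ : Matrix (Fin N) (Fin (Module.finrank A (LinearMap.ker π'))) A,
      Ψ = Matrix.of (fun i j => ((b j : LinearMap.ker π') : Fin N → A) i) := ⟨_, rfl⟩
  have hmul : ∀ v, Ψ.mulVecLin v = ((b.equivFun.symm v : LinearMap.ker π') : Fin N → A) := by
    intro v
    ext i
    rw [Matrix.mulVecLin_apply, Matrix.mulVec, dotProduct, Module.Basis.equivFun_symm_apply,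
      Submodule.coe_sum, Finset.sum_apply]
    refine Finset.sum_congr rfl (fun j _ => ?_)
    rw [hΨ, Matrix.of_apply, Submodule.coe_smul, Pi.smul_apply, smul_eq_mul, mul_comm]
  refine ⟨_, Ψ, ?_, ?_⟩
  · rw [LinearMap.ker_eq_bot]
    intro v w hvw
    rw [hmul, hmul] at hvw
    exact b.equivFun.symm.injective (Subtype.ext hvw)
  · rw [← hker]
    ext x
    constructor
    · intro hx
      refine ⟨b.equivFun ⟨x, hx⟩, ?_⟩
      rw [hmul, LinearEquiv.symm_apply_apply]
    · rintro ⟨v, rfl⟩
      rw [hmul]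
      exact (b.equivFun.symm v).2


/-- Let A be a regular local ring and I an ideal such that A/I is a Cohen–Macaulay local ring whose
Krull dimension is dim A − 2. Then for some r there is an (r+1) × r matrix φ with entries in A such
that, writing f_i for (−1)^i times the determinant of φ with its i-th row removed (i = 0, …, r), the
elements f_0, …, f_r generate I, no family of fewer than r + 1 elements generates I, multiplication
by φ is an injective map A^r → A^{r+1}, and the image of that map is exactly the kernel of the map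
A^{r+1} → A sending v to Σ_i v_i f_i; together with A → A/I this is a free resolution 0 → A^r →
A^{r+1} → A → A/I → 0. -/
theorem result
    (A : Type u) [CommRing A] [IsRegularLocalRing A] (I : Ideal A)
    [LocCoh.IsCohenMacaulayLocalRing (A ⧸ I)]
    (hcodim : ringKrullDim (A ⧸ I) + 2 = ringKrullDim A) :
    ∃ (r : ℕ) (φ : Matrix (Fin (r + 1)) (Fin r) A),
      Ideal.span (Set.range (fun i : Fin (r + 1) => (-1 : A) ^ (i : ℕ) * (φ.submatrix i.succAbove id).det)) = I ∧
      I.spanFinrank = r + 1 ∧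
      Function.Injective φ.mulVecLin ∧
      LinearMap.range φ.mulVecLin =
        LinearMap.ker (Fintype.linearCombination A (fun i : Fin (r + 1) => (-1 : A) ^ (i : ℕ) * (φ.submatrix i.succAbove id).det)) := by
  classical
  have hNoeth : IsNoetherianRing A := inferInstance
  have hloc : IsLocalRing A := inferInstance
  obtain ⟨d, hd⟩ := Groth.Agent.Lib.Helper5.exists_nat_ringKrullDim_eq (A ⧸ I)
  have hA : ringKrullDim A = ((d + 2 : ℕ) : WithBot ℕ∞) := by
    rw [← hcodim, hd]
    push_cast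
    rfl
  have hpd := pd_lt_three A I d hd hA
  have hjac : Ring.jacobson A = IsLocalRing.maximalIdeal A :=
    IsLocalRing.ringJacobson_eq_maximalIdeal A
  -- `I ≠ ⊥`
  have hIne : I ≠ ⊥ := by
    rintro rfl
    have h1 := ringKrullDim_le_ringKrullDim_quotient_add_spanFinrank (⊥ : Ideal A) bot_le
    rw [Submodule.spanFinrank_bot, hA, hd] at h1
    have : d + 2 ≤ d + 0 := by exact_mod_cast h1
    omega
  -- minimal generators
  have hfg : (I : Submodule A A).FG := IsNoetherian.noetherian I
  obtain ⟨s, hscard, hsspan⟩ := Submodule.FG.exists_span_finset_card_eq_spanFinrank hfg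
  have hpos : I.spanFinrank ≠ 0 := by
    rw [Ne, Submodule.spanFinrank_eq_zero_iff_eq_bot hfg]
    exact hIne
  obtain ⟨r, hr⟩ : ∃ r, I.spanFinrank = r + 1 := ⟨I.spanFinrank - 1, by omega⟩
  have hcard : s.card = r + 1 := hscard.trans hr
  obtain ⟨g, hg⟩ : ∃ g : Fin (r + 1) → A, Ideal.span (Set.range g) = I := by
    refine ⟨fun i => ((s.equivFinOfCardEq hcard).symm i : A), ?_⟩
    rw [← hsspan]
    congr 1
    ext x
    constructor
    · rintro ⟨i, rfl⟩
      exact ((s.equivFinOfCardEq hcard).symm i).2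
    · intro hx
      exact ⟨s.equivFinOfCardEq hcard ⟨x, hx⟩, by simp⟩
  obtain ⟨m, Ψ, hΨker, hex⟩ := exists_resolution I hpd (r + 1) g hg
  obtain ⟨π, hπ⟩ : ∃ π : (Fin (r + 1) → A) →ₗ[A] A, π = Fintype.linearCombination A g :=
    ⟨_, rfl⟩
  rw [← hπ] at hex
  have hrange : LinearMap.range π = I := by
    rw [hπ, Fintype.range_linearCombination, ← hg]
  have hne : LinearMap.range π ≠ ⊥ := by rw [hrange]; exact hIne
  obtain ⟨hnm, -, -⟩ := Groth.Agent.S12907.result m (r + 1) Ψ π hΨker hex hne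
  obtain rfl : r = m := by omega
  have hinj : Function.Injective Ψ.mulVecLin := LinearMap.ker_eq_bot.1 hΨker
  obtain ⟨x, hxJ, hx⟩ := Groth.Agent.Helper13HB2.exists_regular_mem_minorIdeal Ψ hinj
  obtain ⟨y, hyJ, hy⟩ :=
    Groth.Agent.Helper13HB2.exists_regular_mem_minorIdeal_quot Ψ π hinj hex x hx
  obtain ⟨a, ha, hπa⟩ := Groth.Agent.Helper13HB2.exists_eq_smul_δ Ψ π hex x y hxJ hyJ hx hy
  -- `a` is a unit
  have hIa : I ≤ Ideal.span {a} := by
    rw [← hrange]
    rintro _ ⟨v, rfl⟩
    rw [hπa]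
    exact Ideal.mul_mem_right _ _ (Ideal.mem_span_singleton_self a)
  have hau : IsUnit a := by
    by_contra hcon
    have hle : Ideal.span {a} ≤ Ring.jacobson A := by
      rw [hjac, Ideal.span_le, Set.singleton_subset_iff]
      exact hcon
    have h1 := ringKrullDim_le_ringKrullDim_quotient_add_spanFinrank (Ideal.span {a}) hle
    have h2 : (Ideal.span {a}).spanFinrank ≤ 1 := by
      have := Submodule.spanFinrank_span_le_ncard_of_finite (R := A) (Set.finite_singleton a)
      rwa [Set.ncard_singleton] at this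
    have h3 : ringKrullDim (A ⧸ Ideal.span {a}) ≤ ringKrullDim (A ⧸ I) :=
      ringKrullDim_le_of_surjective (Ideal.Quotient.factor hIa)
        (Ideal.Quotient.factor_surjective hIa)
    have h4 : ringKrullDim A ≤ ((d + 1 : ℕ) : WithBot ℕ∞) := by
      refine h1.trans ?_
      rw [Nat.cast_add, Nat.cast_one]
      refine add_le_add (h3.trans hd.le) ?_
      exact_mod_cast h2
    rw [hA] at h4
    have : d + 2 ≤ d + 1 := by exact_mod_cast h4
    omega
  obtain ⟨u, rfl⟩ := hau
  -- the case `r = 0` is impossible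
  rcases Nat.eq_zero_or_pos r with rfl | hrpos
  · exfalso
    have h1 : π (fun _ => 1) = (u : A) := by
      rw [hπa, Groth.Agent.Helper13HBurch.δ, Fintype.linearCombination_apply]
      simp
    have h2 : (u : A) ∈ I := by
      rw [← hrange, ← h1]
      exact LinearMap.mem_range_self π _
    exact Groth.Agent.Lib.Helper5.ne_top_of_isLocalRing_quotient I
      (Ideal.eq_top_of_isUnit_mem I h2 u.isUnit)
  obtain ⟨r', rfl⟩ : ∃ r', r = r' + 1 := ⟨r - 1, by omega⟩
  obtain ⟨c, hc⟩ : ∃ c : Fin (r' + 1) → A, c = fun j => if j = 0 then (u : A) else 1 := ⟨_, rfl⟩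
  obtain ⟨c', hc'⟩ : ∃ c' : Fin (r' + 1) → A,
      c' = fun j => if j = 0 then ((u⁻¹ : Aˣ) : A) else 1 := ⟨_, rfl⟩
  have hcc' : ∀ j, c j * c' j = 1 := by
    intro j
    rw [hc, hc']
    by_cases hj : j = 0
    · simp [hj]
    · simp [hj]
  have hprod : ∏ j, c j = (u : A) := by
    rw [hc]
    rw [Finset.prod_ite_eq' Finset.univ (0 : Fin (r' + 1)) (fun _ => (u : A))]
    simp
  obtain ⟨φ, hφ⟩ : ∃ φ : Matrix (Fin (r' + 1 + 1)) (Fin (r' + 1)) A,
      φ = Matrix.of (fun i j => c j * Ψ i j) := ⟨_, rfl⟩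
  have hminor : ∀ i : Fin (r' + 1 + 1), (φ.submatrix i.succAbove id).det =
      (u : A) * (Ψ.submatrix i.succAbove id).det := by
    intro i
    have : φ.submatrix i.succAbove id =
        Matrix.of (fun i' j => c j * (Ψ.submatrix i.succAbove id) i' j) := by
      ext i' j
      rw [hφ]
      rfl
    rw [this, Matrix.det_mul_row, hprod]
  have hmulφ : ∀ v, φ.mulVecLin v = Ψ.mulVecLin (fun j => c j * v j) := by
    intro v
    ext i
    rw [Matrix.mulVecLin_apply, Matrix.mulVecLin_apply, Matrix.mulVec, Matrix.mulVec, dotProduct,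
      dotProduct]
    refine Finset.sum_congr rfl (fun j _ => ?_)
    rw [hφ, Matrix.of_apply]
    ring
  have hπφ : Fintype.linearCombination A
      (fun i : Fin (r' + 1 + 1) => (-1 : A) ^ (i : ℕ) * (φ.submatrix i.succAbove id).det) = π := by
    apply LinearMap.ext
    intro v
    rw [hπa, Groth.Agent.Helper13HBurch.δ, Fintype.linearCombination_apply,
      Fintype.linearCombination_apply, Finset.mul_sum]
    refine Finset.sum_congr rfl (fun i _ => ?_)
    rw [hminor, smul_eq_mul, smul_eq_mul]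
    ring
  refine ⟨r' + 1, φ, ?_, hr, ?_, ?_⟩
  · show Submodule.span A (Set.range fun i : Fin (r' + 1 + 1) =>
        (-1 : A) ^ (i : ℕ) * (φ.submatrix i.succAbove id).det) = I
    rw [← Fintype.range_linearCombination, hπφ, hrange]
  · intro v w hvw
    rw [hmulφ, hmulφ] at hvw
    have h1 := hinj hvw
    funext j
    have h2 := congr_fun h1 j
    have h3 : c' j * (c j * v j) = c' j * (c j * w j) := by rw [h2]
    rw [← mul_assoc, ← mul_assoc, mul_comm (c' j), hcc', one_mul, one_mul] at h3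
    exact h3
  · rw [hπφ, hex]
    apply le_antisymm
    · rintro _ ⟨v, rfl⟩
      rw [hmulφ]
      exact LinearMap.mem_range_self _ _
    · rintro _ ⟨w, rfl⟩
      refine ⟨fun j => c' j * w j, ?_⟩
      rw [hmulφ]
      congr 1
      funext j
      rw [← mul_assoc, hcc', one_mul]

end Groth.Agent.S11449
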