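import Groth.Statements.S11450
import Mathlib
import Groth.Agent.Lib.Helper13TorNat
import Groth.Agent.S6313
-- import your own Groth.Agent.* helpers here

set_option autoImplicit false
universe u
open CategoryTheory
open DefT

namespace Groth.Agent.S11450

open CategoryTheory CategoryTheory.Limits in
theorem isZero_tor_one_of_finite {A : Type u} [CommRing A] [IsNoetherianRing A]
    (M : ModuleCat.{u} A)
    (h : ∀ p : Ideal A, p.IsPrime →
      IsZero (((Tor (ModuleCat.{u} A) 1).obj M).obj (ModuleCat.of A (A ⧸ p))))
    (N : Type u) [AddCommGroup N] [Module A N] [hN : Module.Finite A N] :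
    IsZero (((Tor (ModuleCat.{u} A) 1).obj M).obj (ModuleCat.of A N)) := by
  induction hN using IsNoetherianRing.induction_on_isQuotientEquivQuotientPrime A with
  | subsingleton N =>
    have : Module.Projective A (ModuleCat.of A N) := Module.Projective.of_free
    have : Projective (ModuleCat.of A N) := (IsProjective.iff_projective _).1 this
    exact Functor.isZero_leftDerived_obj_projective_succ _ 0 _
  | quotient N p f =>
    exact IsZero.of_iso (h p.1 p.2) (((Tor (ModuleCat.{u} A) 1).obj M).mapIso f.toModuleIso)
  | exact N₁ N₂ N₃ f g hf hg hfg h₁ h₃ =>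
    let S : ShortComplex (ModuleCat.{u} A) :=
      ShortComplex.mk (ModuleCat.ofHom f) (ModuleCat.ofHom g)
        (by ext x; exact hfg.apply_apply_eq_zero x)
    have hS : S.ShortExact := by
      refine ShortComplex.ShortExact.mk' ?_ ?_ ?_
      · rw [ShortComplex.ShortExact.moduleCat_exact_iff_function_exact]
        exact hfg
      · rw [ModuleCat.mono_iff_injective]
        exact hf
      · rw [ModuleCat.epi_iff_surjective]
        exact hg
    exact (Groth.Agent.Helper13Tor.tor₂_exact₂ M S hS 1).isZero_of_both_zeros
      (h₁.eq_of_src _ _) (h₃.eq_of_tgt _ _)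

/-- A module M over a Noetherian commutative ring A is flat if and only if Tor_1^A(M, A/p) vanishes for
every prime ideal p of A. -/
theorem result (A : Type u) [CommRing A]
    [IsNoetherianRing A] (M : Type u) [AddCommGroup M] [Module A M] :
    Module.Flat A M ↔ ∀ p : Ideal A, p.IsPrime →
      Limits.IsZero (((CategoryTheory.Tor (ModuleCat.{u} A) 1).obj (ModuleCat.of A M)).obj (ModuleCat.of A (A ⧸ p))) := by
  constructor
  · intro hflat p _
    exact Groth.Agent.Helper13Tor.isZero_tor_of_flat _ (ModuleCat.of A M) 1 (by omega)
  · intro h
    rw [Module.Flat.iff_lTensor_injective]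
    intro I hI
    let S : ShortComplex (ModuleCat.{u} A) :=
      ShortComplex.mk (ModuleCat.ofHom I.subtype) (ModuleCat.ofHom (Submodule.mkQ I))
        (by
          ext x
          show Submodule.mkQ I (x : A) = 0
          rw [Submodule.mkQ_apply, Submodule.Quotient.mk_eq_zero]
          exact x.2)
    have hS : S.ShortExact := by
      refine ShortComplex.ShortExact.mk' ?_ ?_ ?_
      · rw [ShortComplex.ShortExact.moduleCat_exact_iff_function_exact]
        intro x
        constructor
        · intro hx
          have hx' : Submodule.mkQ I x = 0 := hx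
          rw [Submodule.mkQ_apply, Submodule.Quotient.mk_eq_zero] at hx'
          exact ⟨⟨x, hx'⟩, rfl⟩
        · rintro ⟨y, rfl⟩
          show Submodule.mkQ I (y : A) = 0
          rw [Submodule.mkQ_apply, Submodule.Quotient.mk_eq_zero]
          exact y.2
      · rw [ModuleCat.mono_iff_injective]
        exact Subtype.val_injective
      · rw [ModuleCat.epi_iff_surjective]
        exact Submodule.mkQ_surjective I
    exact Groth.Agent.S6313.lTensor_injective_of_isZero_tor_one (ModuleCat.of A M) S hS
      (isZero_tor_one_of_finite (ModuleCat.of A M) h (A ⧸ I))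

end Groth.Agent.S11450
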