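import Groth.Statements.S11452
import Groth.Agent.Lib.Helper19DefAffF
import Groth.Agent.Lib.Helper19SmVar
import Groth.Agent.Lib.Helper4RectDepthB
import Groth.Agent.Lib.Helper7Exal

set_option autoImplicit false
universe u
open CategoryTheory AlgebraicGeometry
open DefT

namespace Groth.Agent.S11452

/-- Let k be an algebraically closed field, X an affine scheme of finite type over k whose local rings
are all regular, A a local Artin k-algebra with a k-algebra augmentation e : A → k, and g : X' →
Spec A a flat morphism whose fibre over the k-point Spec k → Spec A given by e is X (with its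
structure map to Spec k). Then there is an isomorphism from X' to the trivial deformation X ×_{Spec
k} Spec A compatible with the projections to Spec A. -/
theorem result (k : Type u) [Field k]
    [IsAlgClosed k] (X : Scheme.{u}) (hX : X ⟶ Spec (CommRingCat.of k)) [IsAffine X]
    [LocallyOfFiniteType hX] (hreg : ∀ x : X, IsRegularLocalRing (X.presheaf.stalk x))
    (A : Type u) [CommRing A] [IsLocalRing A] [IsArtinianRing A] [Algebra k A] (e : A →ₐ[k] k)
    (X' : Scheme.{u}) (g : X' ⟶ Spec (CommRingCat.of A)) [Flat g] (i : X ⟶ X')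
    (hsq : IsPullback i hX g (Spec.map (CommRingCat.ofHom e.toRingHom))) :
    ∃ φ : X' ≅ Limits.pullback hX (Spec.map (CommRingCat.ofHom (algebraMap k A))),
      φ.hom ≫ Limits.pullback.snd hX (Spec.map (CommRingCat.ofHom (algebraMap k A))) = g := by
  haveI : IsLocallyNoetherian X := LocallyOfFiniteType.isLocallyNoetherian hX
  letI alg : Algebra k Γ(X, ⊤) :=
    ((Scheme.ΓSpecIso (CommRingCat.of k)).inv ≫ hX.appTop).hom.toAlgebra
  haveI hft : Algebra.FiniteType k Γ(X, ⊤) := by
    have h1 : hX.appTop.hom.FiniteType :=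
      (HasRingHomProperty.iff_of_isAffine (P := @LocallyOfFiniteType)).mp ‹_›
    have h2 : ((Scheme.ΓSpecIso (CommRingCat.of k)).inv ≫ hX.appTop).hom.FiniteType := by
      rw [CommRingCat.hom_comp]
      refine h1.comp (RingHom.FiniteType.of_surjective _ ?_)
      intro b
      exact ⟨(Scheme.ΓSpecIso (CommRingCat.of k)).hom.hom b, by
        change ((Scheme.ΓSpecIso (CommRingCat.of k)).hom ≫
          (Scheme.ΓSpecIso (CommRingCat.of k)).inv).hom b = b
        rw [Iso.hom_inv_id]
        rfl⟩
    exact h2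
  haveI hreg' : IsRegularRing Γ(X, ⊤) :=
    Groth.Agent.Lib.Helper4.RectDepth.isRegularRing_sections hreg (isAffineOpen_top X)
  have hfs : Algebra.FormallySmooth k Γ(X, ⊤) :=
    (Groth.Agent.Lib.Helper19.SmVar.isRegularRing_iff_formallySmooth k Γ(X, ⊤)).mp hreg'
  have hT : ∀ E : Exal.Ext k Γ(X, ⊤) Γ(X, ⊤), E.IsTrivial := fun E =>
    (Groth.Agent.Lib.Helper7.ExalLib.formallySmooth_iff_forall_isTrivial k Γ(X, ⊤)).mp hfs _ E
  have hX_eq : hX = X.isoSpec.hom ≫ Spec.map (CommRingCat.ofHom (algebraMap k Γ(X, ⊤))) := by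
    have h := Scheme.isoSpec_hom_naturality hX
    rw [Scheme.isoSpec_Spec_hom] at h
    change hX = X.isoSpec.hom ≫
      Spec.map ((Scheme.ΓSpecIso (CommRingCat.of k)).inv ≫ hX.appTop)
    rw [Spec.map_comp, ← Category.assoc, h, Category.assoc, ← Spec.map_comp, Iso.inv_hom_id,
      Spec.map_id, Category.comp_id]
  obtain ⟨φ, h1, -⟩ := Groth.Agent.Lib.Helper19.DefAff.exists_iso_pullback_of_rigid hT X
    X.isoSpec hX hX_eq A e X' g i hsq
  exact ⟨φ, h1⟩

end Groth.Agent.S11452
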