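import Groth.Statements.S11453
import Mathlib
-- import your own Groth.Agent.* helpers here

set_option autoImplicit false
set_option linter.style.haveILetI false
set_option linter.unusedSectionVars false
universe u
open scoped Polynomial
open DefT

namespace Groth.Agent.S11453

section basics
variable {k : Type u} [Field k]

noncomputable def phi (j : Fin 2) (c : k) : MvPolynomial (Fin 2) k →ₐ[k] k[X] :=
  MvPolynomial.aeval (fun l => if l = j then Polynomial.C c else Polynomial.X)

noncomputable def iot (i : Fin 2) : k[X] →ₐ[k] MvPolynomial (Fin 2) k :=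
  Polynomial.aeval (MvPolynomial.X i)

lemma phi_X_self (j : Fin 2) (c : k) : phi j c (MvPolynomial.X j) = Polynomial.C c := by
  simp [phi]

lemma phi_X_ne {i j : Fin 2} (hij : i ≠ j) (c : k) :
    phi j c (MvPolynomial.X i) = Polynomial.X := by
  simp [phi, hij]

lemma phi_C (j : Fin 2) (c r : k) : phi j c (MvPolynomial.C r) = Polynomial.C r := by
  simp [phi]

lemma iot_X (i : Fin 2) : iot i (Polynomial.X : k[X]) = MvPolynomial.X i := by simp [iot]

lemma iot_C (i : Fin 2) (r : k) : iot i (Polynomial.C r : k[X]) = MvPolynomial.C r := by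
  simp [iot]

lemma phi_iot {i j : Fin 2} (hij : i ≠ j) (c : k) (p : k[X]) : phi j c (iot i p) = p := by
  have : (phi j c).comp (iot i) = AlgHom.id k k[X] := by
    apply Polynomial.algHom_ext
    simp [iot, phi_X_ne hij]
  exact DFunLike.congr_fun this p

lemma phi_iot_self (j : Fin 2) (c : k) (p : k[X]) :
    phi j c (iot j p) = Polynomial.C (p.eval c) := by
  have : (phi j c).comp (iot j) = Polynomial.aeval (Polynomial.C c : k[X]) := by
    apply Polynomial.algHom_ext
    simp [iot, phi_X_self]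
  have h2 := DFunLike.congr_fun this p
  simp only [AlgHom.comp_apply] at h2
  rw [h2]
  have := Polynomial.aeval_algebraMap_apply (A := k) k[X] c p
  simpa using this

lemma fin2_cases {i j : Fin 2} (hij : i ≠ j) (l : Fin 2) : l = i ∨ l = j := by
  fin_cases i <;> fin_cases j <;> fin_cases l <;> simp_all

lemma sub_iot_phi_mem {i j : Fin 2} (hij : i ≠ j) (c : k) (f : MvPolynomial (Fin 2) k) :
    f - iot i (phi j c f) ∈
      Ideal.span {(MvPolynomial.X j - MvPolynomial.C c : MvPolynomial (Fin 2) k)} := by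
  induction f using MvPolynomial.induction_on with
  | C r => simp [iot_C]
  | add p q hp hq =>
    have : p + q - iot i (phi j c (p + q)) =
        (p - iot i (phi j c p)) + (q - iot i (phi j c q)) := by
      simp only [map_add]; ring
    rw [this]; exact Ideal.add_mem _ hp hq
  | mul_X p l hp =>
    rcases fin2_cases hij l with rfl | rfl
    · have : p * MvPolynomial.X l - iot l (phi j c (p * MvPolynomial.X l)) =
          (p - iot l (phi j c p)) * MvPolynomial.X l := by
        simp only [map_mul, phi_X_ne hij, iot_X]; ring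
      rw [this]; exact Ideal.mul_mem_right _ _ hp
    · have : p * MvPolynomial.X l - iot i (phi l c (p * MvPolynomial.X l)) =
          (p - iot i (phi l c p)) * MvPolynomial.X l +
            iot i (phi l c p) * (MvPolynomial.X l - MvPolynomial.C c) := by
        simp only [map_mul, phi_X_self, iot_C]; ring
      rw [this]
      exact Ideal.add_mem _ (Ideal.mul_mem_right _ _ hp)
        (Ideal.mul_mem_left _ _ (Ideal.subset_span rfl))

lemma mem_span_iff {i j : Fin 2} (hij : i ≠ j) (c : k) (f : MvPolynomial (Fin 2) k) :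
    f ∈ Ideal.span {(MvPolynomial.X j - MvPolynomial.C c : MvPolynomial (Fin 2) k)} ↔
      phi j c f = 0 := by
  constructor
  · intro h
    obtain ⟨r, rfl⟩ := Ideal.mem_span_singleton'.mp h
    simp [phi_X_self]
  · intro h
    have := sub_iot_phi_mem hij c f
    rwa [h, map_zero, sub_zero] at this

/-- the maximal ideal of the origin -/
noncomputable def mm (k : Type u) [Field k] : Ideal (MvPolynomial (Fin 2) k) :=
  Ideal.span {MvPolynomial.X 0, MvPolynomial.X 1}

lemma X_mem_mm (l : Fin 2) : (MvPolynomial.X l : MvPolynomial (Fin 2) k) ∈ mm k := by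
  fin_cases l
  · exact Ideal.subset_span (by simp)
  · exact Ideal.subset_span (by simp)

lemma exists_sub_C_mem_mm (f : MvPolynomial (Fin 2) k) :
    ∃ r : k, f - MvPolynomial.C r ∈ mm k := by
  have h01 : (0 : Fin 2) ≠ 1 := by decide
  have h1 := sub_iot_phi_mem h01 (0 : k) f
  set p := phi 1 (0 : k) f with hp
  refine ⟨p.coeff 0, ?_⟩
  have h2 : f - MvPolynomial.C (p.coeff 0) =
      (f - iot 0 p) + iot 0 (p.divX) * MvPolynomial.X 0 := by
    have h3 := Polynomial.divX_mul_X_add p
    have h4 : iot 0 p = iot 0 (p.divX) * MvPolynomial.X 0 + MvPolynomial.C (p.coeff 0) := by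
      conv_lhs => rw [← h3]
      simp only [map_add, map_mul, iot_X, iot_C]
    rw [h4]; ring
  rw [h2]
  refine Ideal.add_mem _ ?_ (Ideal.mul_mem_left _ _ (X_mem_mm 0))
  have h5 : Ideal.span {(MvPolynomial.X 1 - MvPolynomial.C 0 : MvPolynomial (Fin 2) k)} ≤ mm k := by
    rw [Ideal.span_le, Set.singleton_subset_iff]
    simpa using X_mem_mm (k := k) 1
  exact h5 h1

lemma mm_eq_ker : mm k = RingHom.ker (MvPolynomial.constantCoeff (σ := Fin 2) (R := k)) := by
  apply le_antisymm
  · rw [mm, Ideal.span_le]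
    intro f hf
    rcases hf with rfl | rfl <;> simp [RingHom.mem_ker]
  · intro f hf
    obtain ⟨r, hr⟩ := exists_sub_C_mem_mm f
    have h1 : MvPolynomial.constantCoeff (f - MvPolynomial.C r) = 0 := by
      have hle : mm k ≤ RingHom.ker (MvPolynomial.constantCoeff (σ := Fin 2) (R := k)) := by
        rw [mm, Ideal.span_le]
        intro f hf
        rcases hf with rfl | rfl <;> simp [RingHom.mem_ker]
      exact hle hr
    rw [RingHom.mem_ker] at hf
    rw [map_sub, hf, MvPolynomial.constantCoeff_C, zero_sub, neg_eq_zero] at h1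
    rw [h1, map_zero, sub_zero] at hr
    exact hr

lemma mm_isMaximal : (mm k).IsMaximal := by
  rw [mm_eq_ker]
  apply RingHom.ker_isMaximal_of_surjective
  intro r
  exact ⟨MvPolynomial.C r, MvPolynomial.constantCoeff_C _ r⟩

end basics

section construct
variable {k : Type u} [Field k]

/-- `Σ_{l<a} x^l ψ(c l)` -/
noncomputable def SS (i j : Fin 2) (a : ℕ) (c : Fin a → k[X]) : MvPolynomial (Fin 2) k :=
  ∑ l : Fin a, MvPolynomial.X i ^ (l : ℕ) * iot j (c l)

lemma SS_zero (i j : Fin 2) (a : ℕ) : SS (k := k) i j a (fun _ => 0) = 0 := by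
  simp [SS]

lemma SS_add (i j : Fin 2) (a : ℕ) (c₁ c₂ : Fin a → k[X]) :
    SS i j a (fun l => c₁ l + c₂ l) = SS i j a c₁ + SS i j a c₂ := by
  simp [SS, mul_add, Finset.sum_add_distrib]

lemma SS_smul (i j : Fin 2) (a : ℕ) (p : k[X]) (c : Fin a → k[X]) :
    SS i j a (fun l => p * c l) = iot j p * SS i j a c := by
  simp only [SS, Finset.mul_sum, map_mul]
  refine Finset.sum_congr rfl fun l _ => ?_
  ring

lemma iot_eq_SS (i j : Fin 2) (a : ℕ) (r : k[X]) (hr : r.natDegree < a) :
    iot i r = SS i j a (fun l => Polynomial.C (r.coeff l)) := by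
  conv_lhs => rw [Polynomial.as_sum_range_C_mul_X_pow' r hr]
  rw [SS, map_sum, ← Fin.sum_univ_eq_sum_range
    (fun l => iot i (Polynomial.C (r.coeff l) * Polynomial.X ^ l)) a]
  refine Finset.sum_congr rfl fun l _ => ?_
  simp only [map_mul, map_pow, iot_X, iot_C]
  ring

lemma step_lemma {i j : Fin 2} (hij : i ≠ j) (𝔞 : Ideal (MvPolynomial (Fin 2) k)) (a : ℕ)
    (ha : 0 < a) (g₀ h : MvPolynomial (Fin 2) k) (hg₀ : g₀ ∈ 𝔞)
    (hx : MvPolynomial.X i ^ a = g₀ + MvPolynomial.X j * h) (f : MvPolynomial (Fin 2) k) :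
    ∃ (c : Fin a → k[X]) (f' : MvPolynomial (Fin 2) k),
      f - SS i j a c - MvPolynomial.X j * f' ∈ 𝔞 := by
  obtain ⟨f₁, hf₁⟩ := Ideal.mem_span_singleton'.mp (sub_iot_phi_mem hij (0 : k) f)
  rw [map_zero, sub_zero] at hf₁
  set p := phi j (0 : k) f with hp
  have hmon : (Polynomial.X ^ a : k[X]).Monic := Polynomial.monic_X_pow a
  set r := p %ₘ (Polynomial.X ^ a) with hr
  set q := p /ₘ (Polynomial.X ^ a) with hq
  have hpq : r + Polynomial.X ^ a * q = p := Polynomial.modByMonic_add_div p _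
  have hdeg : r.natDegree < a := by
    by_cases hr0 : r = 0
    · rw [hr0]; simpa using ha
    · rw [Polynomial.natDegree_lt_iff_degree_lt hr0]
      have := Polynomial.degree_modByMonic_lt p hmon
      rwa [Polynomial.degree_X_pow] at this
  refine ⟨fun l => Polynomial.C (r.coeff l), h * iot i q + f₁, ?_⟩
  rw [← iot_eq_SS i j a r hdeg]
  have h1 : iot i p = iot i r + MvPolynomial.X i ^ a * iot i q := by
    rw [← hpq]; simp only [map_add, map_mul, map_pow, iot_X]
  have h2 : f - iot i r - MvPolynomial.X j * (h * iot i q + f₁) = g₀ * iot i q := by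
    have : f = iot i p + f₁ * MvPolynomial.X j := by rw [hf₁]; ring
    rw [this, h1, hx]; ring
  rw [h2]
  exact Ideal.mul_mem_right _ _ hg₀

lemma iter_lemma {i j : Fin 2} (hij : i ≠ j) (𝔞 : Ideal (MvPolynomial (Fin 2) k)) (a : ℕ)
    (ha : 0 < a) (g₀ h : MvPolynomial (Fin 2) k) (hg₀ : g₀ ∈ 𝔞)
    (hx : MvPolynomial.X i ^ a = g₀ + MvPolynomial.X j * h) (n : ℕ)
    (f : MvPolynomial (Fin 2) k) :
    ∃ (c : Fin a → k[X]) (f' : MvPolynomial (Fin 2) k),
      f - SS i j a c - MvPolynomial.X j ^ n * f' ∈ 𝔞 := by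
  induction n with
  | zero =>
    refine ⟨fun _ => 0, f, ?_⟩
    rw [SS_zero]; simp
  | succ n ih =>
    obtain ⟨c, f', h1⟩ := ih
    obtain ⟨c', f'', h2⟩ := step_lemma hij 𝔞 a ha g₀ h hg₀ hx f'
    refine ⟨fun l => c l + Polynomial.X ^ n * c' l, f'', ?_⟩
    rw [SS_add, SS_smul, map_pow, iot_X]
    have : f - (SS i j a c + MvPolynomial.X j ^ n * SS i j a c') -
        MvPolynomial.X j ^ (n + 1) * f'' =
        (f - SS i j a c - MvPolynomial.X j ^ n * f') +
          MvPolynomial.X j ^ n * (f' - SS i j a c' - MvPolynomial.X j * f'') := by ring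
    rw [this]
    exact Ideal.add_mem _ h1 (Ideal.mul_mem_left _ _ h2)

lemma exists_a {i j : Fin 2} (𝔞 : Ideal (MvPolynomial (Fin 2) k))
    (hle : 𝔞 ≤ mm k) (hxN : ∃ N : ℕ, MvPolynomial.X i ^ N ∈ 𝔞) :
    ∃ a : ℕ, 0 < a ∧
      (MvPolynomial.X i ^ a : MvPolynomial (Fin 2) k) ∈ 𝔞 ⊔ Ideal.span {MvPolynomial.X j} ∧
      ∀ f₀ : k[X], iot i f₀ ∈ 𝔞 ⊔ Ideal.span {MvPolynomial.X j} → Polynomial.X ^ a ∣ f₀ := by
  classical
  set J : Ideal (MvPolynomial (Fin 2) k) := 𝔞 ⊔ Ideal.span {MvPolynomial.X j} with hJ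
  have hJle : J ≤ mm k := by
    rw [hJ, sup_le_iff]
    refine ⟨hle, ?_⟩
    rw [Ideal.span_le, Set.singleton_subset_iff]
    exact X_mem_mm j
  have hex : ∃ N : ℕ, (MvPolynomial.X i ^ N : MvPolynomial (Fin 2) k) ∈ J := by
    obtain ⟨N, hN⟩ := hxN
    exact ⟨N, Ideal.mem_sup_left hN⟩
  set a := Nat.find hex with ha
  have haJ : (MvPolynomial.X i ^ a : MvPolynomial (Fin 2) k) ∈ J := Nat.find_spec hex
  have hJtop : J ≠ ⊤ := fun h => mm_isMaximal.ne_top (top_le_iff.mp (h ▸ hJle))
  have hapos : 0 < a := by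
    rcases Nat.eq_zero_or_pos a with h0 | h0
    · exfalso
      rw [h0, pow_zero] at haJ
      exact hJtop ((Ideal.eq_top_iff_one _).mpr haJ)
    · exact h0
  refine ⟨a, hapos, haJ, ?_⟩
  set I₀ : Ideal k[X] := Ideal.comap (iot (k := k) i).toRingHom J with hI₀
  have hXa : (Polynomial.X ^ a : k[X]) ∈ I₀ := by
    rw [hI₀, Ideal.mem_comap]
    simpa [iot_X] using haJ
  set d := Submodule.IsPrincipal.generator I₀ with hd
  have hspan : Ideal.span {d} = I₀ := Ideal.span_singleton_generator I₀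
  have hdX : d ∣ Polynomial.X ^ a := by
    rw [← Ideal.mem_span_singleton, hspan]; exact hXa
  obtain ⟨b, hba, hassoc⟩ := (dvd_prime_pow Polynomial.prime_X a).mp hdX
  have hXb : (Polynomial.X ^ b : k[X]) ∈ I₀ := by
    rw [← hspan, Ideal.mem_span_singleton]
    exact hassoc.dvd
  have hab : a ≤ b := by
    apply Nat.find_min' hex
    rw [hI₀, Ideal.mem_comap] at hXb
    simpa [iot_X] using hXb
  have hbeq : b = a := le_antisymm hba hab
  rw [hbeq] at hassoc
  intro f₀ hf₀
  have : f₀ ∈ I₀ := by rw [hI₀, Ideal.mem_comap]; exact hf₀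
  rw [← hspan, Ideal.mem_span_singleton] at this
  exact hassoc.symm.dvd.trans this

end construct

section data
variable {k : Type u} [Field k]

/-- the "monic in x" generator -/
noncomputable def gg (i j : Fin 2) (a : ℕ) (c : Fin a → k[X]) : MvPolynomial (Fin 2) k :=
  MvPolynomial.X i ^ a - SS i j a c

/-- the colon ideal `(𝔞 : y)` -/
def bb (j : Fin 2) (𝔞 : Ideal (MvPolynomial (Fin 2) k)) : Ideal (MvPolynomial (Fin 2) k) where
  carrier := {f | MvPolynomial.X j * f ∈ 𝔞}
  add_mem' := by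
    intro f g hf hg
    simp only [Set.mem_ofPred_eq, mul_add] at *
    exact 𝔞.add_mem hf hg
  zero_mem' := by simp
  smul_mem' := by
    intro r f hf
    simp only [Set.mem_ofPred_eq, smul_eq_mul] at *
    rw [mul_left_comm]
    exact 𝔞.mul_mem_left _ hf

lemma mem_bb {j : Fin 2} {𝔞 : Ideal (MvPolynomial (Fin 2) k)} {f : MvPolynomial (Fin 2) k} :
    f ∈ bb j 𝔞 ↔ MvPolynomial.X j * f ∈ 𝔞 := Iff.rfl

lemma le_bb (j : Fin 2) (𝔞 : Ideal (MvPolynomial (Fin 2) k)) : 𝔞 ≤ bb j 𝔞 :=
  fun _ hf => mem_bb.mpr (𝔞.mul_mem_left _ hf)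

lemma exists_g {i j : Fin 2} (hij : i ≠ j) (𝔞 : Ideal (MvPolynomial (Fin 2) k))
    (hsupp : 𝔞.radical = mm k) :
    ∃ (a : ℕ) (c : Fin a → k[X]), 0 < a ∧ gg i j a c ∈ 𝔞 ∧
      ∀ f₀ : k[X], iot i f₀ ∈ 𝔞 ⊔ Ideal.span {MvPolynomial.X j} → Polynomial.X ^ a ∣ f₀ := by
  have hle : 𝔞 ≤ mm k := Ideal.le_radical.trans hsupp.le
  have hpow : ∀ l : Fin 2, ∃ N : ℕ, (MvPolynomial.X l : MvPolynomial (Fin 2) k) ^ N ∈ 𝔞 := by
    intro l
    have : (MvPolynomial.X l : MvPolynomial (Fin 2) k) ∈ 𝔞.radical := hsupp ▸ X_mem_mm l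
    exact this
  obtain ⟨a, ha, haJ, hdiv⟩ := exists_a (i := i) (j := j) 𝔞 hle (hpow i)
  obtain ⟨g₀, hg₀, z, hz, hsum⟩ := Submodule.mem_sup.mp haJ
  obtain ⟨h, rfl⟩ := Ideal.mem_span_singleton'.mp hz
  obtain ⟨N, hN⟩ := hpow j
  have hx : MvPolynomial.X i ^ a = g₀ + MvPolynomial.X j * h := by rw [← hsum]; ring
  obtain ⟨c, f', hc⟩ := iter_lemma hij 𝔞 a ha g₀ h hg₀ hx N (MvPolynomial.X i ^ a)
  refine ⟨a, c, ha, ?_, hdiv⟩
  have : gg i j a c = (MvPolynomial.X i ^ a - SS i j a c - MvPolynomial.X j ^ N * f') +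
      MvPolynomial.X j ^ N * f' := by rw [gg]; ring
  rw [this]
  exact Ideal.add_mem _ hc (Ideal.mul_mem_right _ _ hN)

lemma phi_gg {i j : Fin 2} (hij : i ≠ j) (a : ℕ) (c : Fin a → k[X]) (t : k) :
    phi j t (gg i j a c) =
      Polynomial.X ^ a - ∑ l : Fin a, Polynomial.C ((c l).eval t) * Polynomial.X ^ (l : ℕ) := by
  simp only [gg, SS, map_sub, map_pow, map_sum, map_mul, phi_X_ne hij, phi_iot_self]
  congr 1
  refine Finset.sum_congr rfl fun l _ => ?_
  ring

lemma phi_gg_monic {i j : Fin 2} (hij : i ≠ j) (a : ℕ) (c : Fin a → k[X]) (t : k) :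
    (phi j t (gg i j a c)).Monic := by
  rw [phi_gg hij]
  exact Polynomial.monic_X_pow_sub (Polynomial.degree_sum_fin_lt _)

lemma phi_gg_natDegree {i j : Fin 2} (hij : i ≠ j) (a : ℕ) (c : Fin a → k[X]) (t : k) :
    (phi j t (gg i j a c)).natDegree = a := by
  rw [phi_gg hij]
  apply Polynomial.natDegree_eq_of_degree_eq_some
  rw [Polynomial.degree_sub_eq_left_of_degree_lt]
  · exact Polynomial.degree_X_pow a
  · rw [Polynomial.degree_X_pow]
    exact Polynomial.degree_sum_fin_lt _

lemma gg_ne_zero {i j : Fin 2} (hij : i ≠ j) (a : ℕ) (c : Fin a → k[X]) :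
    gg i j a c ≠ 0 := by
  intro h
  have := phi_gg_monic hij a c (0 : k)
  rw [h, map_zero] at this
  exact Polynomial.not_monic_zero this

lemma span_X_sub_C_zero (j : Fin 2) :
    Ideal.span {(MvPolynomial.X j - MvPolynomial.C 0 : MvPolynomial (Fin 2) k)} =
      Ideal.span {MvPolynomial.X j} := by
  rw [map_zero, sub_zero]

lemma phi_zero_gg {i j : Fin 2} (hij : i ≠ j) (𝔞 : Ideal (MvPolynomial (Fin 2) k))
    (a : ℕ) (c : Fin a → k[X]) (hg : gg i j a c ∈ 𝔞)
    (hdiv : ∀ f₀ : k[X], iot i f₀ ∈ 𝔞 ⊔ Ideal.span {MvPolynomial.X j} → Polynomial.X ^ a ∣ f₀) :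
    phi j (0 : k) (gg i j a c) = Polynomial.X ^ a := by
  have h1 : iot i (phi j (0 : k) (gg i j a c)) ∈ 𝔞 ⊔ Ideal.span {MvPolynomial.X j} := by
    have h2 := sub_iot_phi_mem hij (0 : k) (gg i j a c)
    rw [span_X_sub_C_zero] at h2
    have : iot i (phi j (0 : k) (gg i j a c)) =
        gg i j a c - (gg i j a c - iot i (phi j (0 : k) (gg i j a c))) := by ring
    rw [this]
    exact Ideal.sub_mem _ (Ideal.mem_sup_left hg) (Ideal.mem_sup_right h2)
  have h3 := hdiv _ h1
  exact Polynomial.eq_of_monic_of_dvd_of_natDegree_le (Polynomial.monic_X_pow a)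
    (phi_gg_monic hij a c 0) h3 (by rw [phi_gg_natDegree hij, Polynomial.natDegree_X_pow])

lemma aa_eq {i j : Fin 2} (hij : i ≠ j) (𝔞 : Ideal (MvPolynomial (Fin 2) k))
    (a : ℕ) (c : Fin a → k[X]) (hg : gg i j a c ∈ 𝔞)
    (hdiv : ∀ f₀ : k[X], iot i f₀ ∈ 𝔞 ⊔ Ideal.span {MvPolynomial.X j} → Polynomial.X ^ a ∣ f₀) :
    Ideal.span {gg i j a c} ⊔ Ideal.span {MvPolynomial.X j} * bb j 𝔞 = 𝔞 := by
  apply le_antisymm
  · rw [sup_le_iff]
    constructor
    · rw [Ideal.span_le, Set.singleton_subset_iff]; exact hg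
    · rw [Ideal.mul_le]
      intro r hr s hs
      obtain ⟨r', rfl⟩ := Ideal.mem_span_singleton'.mp hr
      rw [mul_assoc]
      exact Ideal.mul_mem_left _ _ (mem_bb.mp hs)
  · intro f hf
    have h1 : iot i (phi j (0 : k) f) ∈ 𝔞 ⊔ Ideal.span {MvPolynomial.X j} := by
      have h2 := sub_iot_phi_mem hij (0 : k) f
      rw [span_X_sub_C_zero] at h2
      have : iot i (phi j (0 : k) f) = f - (f - iot i (phi j (0 : k) f)) := by ring
      rw [this]
      exact Ideal.sub_mem _ (Ideal.mem_sup_left hf) (Ideal.mem_sup_right h2)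
    obtain ⟨q, hq⟩ := hdiv _ h1
    have h3 : phi j (0 : k) (f - iot i q * gg i j a c) = 0 := by
      rw [map_sub, map_mul, phi_iot hij, phi_zero_gg hij 𝔞 a c hg hdiv, hq]; ring
    have h4 := (mem_span_iff hij (0 : k) _).mpr h3
    rw [span_X_sub_C_zero] at h4
    obtain ⟨r, hr⟩ := Ideal.mem_span_singleton'.mp h4
    have h5 : r ∈ bb j 𝔞 := by
      rw [mem_bb, mul_comm, hr]
      exact Ideal.sub_mem _ hf (Ideal.mul_mem_left _ _ hg)
    have h6 : f = iot i q * gg i j a c + MvPolynomial.X j * r := by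
      rw [mul_comm (MvPolynomial.X j) r, hr]; ring
    rw [h6]
    refine Ideal.add_mem _ (Ideal.mem_sup_left ?_) (Ideal.mem_sup_right ?_)
    · exact Ideal.mul_mem_left _ _ (Ideal.subset_span rfl)
    · exact Ideal.mul_mem_mul (Ideal.subset_span rfl) h5

lemma bb_le_mm {j : Fin 2} (𝔞 : Ideal (MvPolynomial (Fin 2) k))
    (hsupp : 𝔞.radical = mm k) (hy : (MvPolynomial.X j : MvPolynomial (Fin 2) k) ∉ 𝔞) :
    bb j 𝔞 ≤ mm k := by
  have hprim : 𝔞.IsPrimary := Ideal.isPrimary_of_isMaximal_radical (hsupp ▸ mm_isMaximal)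
  intro f hf
  rw [mem_bb] at hf
  rcases (Ideal.isPrimary_iff.mp hprim).2 hf with h | h
  · exact absurd h hy
  · rw [hsupp] at h; exact h

end data

section family
variable {k : Type u} [Field k]

/-- the family ideal `(g) + (y - t)·𝔟[t]` -/
noncomputable def fam (i j : Fin 2) (𝔞 : Ideal (MvPolynomial (Fin 2) k)) (a : ℕ)
    (c : Fin a → k[X]) : Ideal (MvPolynomial (Fin 2) k)[X] :=
  Ideal.span {Polynomial.C (gg i j a c)} ⊔
    Ideal.span {Polynomial.C (MvPolynomial.X j) - Polynomial.X} *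
      Ideal.map Polynomial.C (bb j 𝔞)

lemma map_eval_fam (i j : Fin 2) (𝔞 : Ideal (MvPolynomial (Fin 2) k)) (a : ℕ)
    (c : Fin a → k[X]) (t : MvPolynomial (Fin 2) k) :
    Ideal.map (Polynomial.evalRingHom t) (fam i j 𝔞 a c) =
      Ideal.span {gg i j a c} ⊔ Ideal.span {MvPolynomial.X j - t} * bb j 𝔞 := by
  have hid : (Polynomial.evalRingHom t).comp Polynomial.C =
      RingHom.id (MvPolynomial (Fin 2) k) := by
    ext x <;> simp
  rw [fam, Ideal.map_sup, Ideal.map_mul, Ideal.map_span, Ideal.map_span, Ideal.map_map, hid,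
    Ideal.map_id]
  simp

lemma mem_fam_iff {i j : Fin 2} {𝔞 : Ideal (MvPolynomial (Fin 2) k)} {a : ℕ}
    {c : Fin a → k[X]} {F : (MvPolynomial (Fin 2) k)[X]} :
    F ∈ fam i j 𝔞 a c ↔ ∃ v u, u ∈ Ideal.map Polynomial.C (bb j 𝔞) ∧
      F = Polynomial.C (gg i j a c) * v +
        (Polynomial.C (MvPolynomial.X j) - Polynomial.X) * u := by
  rw [fam, Submodule.mem_sup]
  constructor
  · rintro ⟨p, hp, q, hq, rfl⟩
    obtain ⟨v, rfl⟩ := Ideal.mem_span_singleton'.mp hp
    obtain ⟨u, hu, rfl⟩ := Ideal.mem_span_singleton_mul.mp hq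
    exact ⟨v, u, hu, by ring⟩
  · rintro ⟨v, u, hu, rfl⟩
    exact ⟨_, Ideal.mem_span_singleton'.mpr ⟨v, by ring⟩, _,
      Ideal.mem_span_singleton_mul.mpr ⟨u, hu, rfl⟩, rfl⟩

lemma F1 {i j : Fin 2} (hij : i ≠ j) (a : ℕ) (c : Fin a → k[X])
    (q r : (MvPolynomial (Fin 2) k)[X])
    (h : Polynomial.C (gg i j a c) * q = (Polynomial.X - Polynomial.C (MvPolynomial.X j)) * r) :
    ∃ q', q = (Polynomial.X - Polynomial.C (MvPolynomial.X j)) * q' := by
  have h1 := congrArg (Polynomial.eval (MvPolynomial.X j)) h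
  simp only [Polynomial.eval_mul, Polynomial.eval_C, Polynomial.eval_sub, Polynomial.eval_X,
    sub_self, zero_mul] at h1
  have h2 : q.eval (MvPolynomial.X j) = 0 := by
    rcases mul_eq_zero.mp h1 with h | h
    · exact absurd h (gg_ne_zero hij a c)
    · exact h
  exact Polynomial.dvd_iff_isRoot.mpr h2

lemma X_sub_C_ne_zero' (j : Fin 2) (t : k) :
    (MvPolynomial.X j - MvPolynomial.C t : MvPolynomial (Fin 2) k) ≠ 0 := by
  intro h
  have := congrArg (phi j (t + 1)) h
  rw [map_sub, phi_X_self, phi_C, map_zero, ← map_sub] at this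
  simp at this

lemma F2 {i j : Fin 2} (hij : i ≠ j) (a : ℕ) (c : Fin a → k[X]) (t : k)
    (h s : MvPolynomial (Fin 2) k)
    (hs : (MvPolynomial.X j - MvPolynomial.C t) * h = gg i j a c * s) :
    ∃ s', h = gg i j a c * s' := by
  have h1 := congrArg (phi j t) hs
  rw [map_mul, map_mul, map_sub, phi_X_self, phi_C, sub_self, zero_mul] at h1
  have h2 : phi j t s = 0 := by
    rcases mul_eq_zero.mp h1.symm with h | h
    · exact absurd h (phi_gg_monic hij a c t).ne_zero
    · exact h
  obtain ⟨s', hs'⟩ := Ideal.mem_span_singleton'.mp ((mem_span_iff hij t s).mpr h2)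
  refine ⟨s', ?_⟩
  apply mul_left_cancel₀ (X_sub_C_ne_zero' j t)
  rw [hs, ← hs']; ring

lemma F3 (𝔟 : Ideal (MvPolynomial (Fin 2) k)) (θ u : (MvPolynomial (Fin 2) k)[X])
    (hθ : θ.Monic) (h : θ * u ∈ Ideal.map Polynomial.C 𝔟) :
    u ∈ Ideal.map Polynomial.C 𝔟 := by
  have hker : Ideal.map Polynomial.C 𝔟 =
      RingHom.ker (Polynomial.mapRingHom (Ideal.Quotient.mk 𝔟)) := by
    rw [Polynomial.ker_mapRingHom, Ideal.mk_ker]
  rw [hker, RingHom.mem_ker] at h ⊢
  rw [map_mul] at h
  have hm : (Polynomial.mapRingHom (Ideal.Quotient.mk 𝔟) θ).Monic := hθ.map _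
  exact (hm.mul_right_eq_zero_iff).mp h

lemma core {i j : Fin 2} (hij : i ≠ j) (𝔞 : Ideal (MvPolynomial (Fin 2) k)) (a : ℕ)
    (c : Fin a → k[X]) (hg : gg i j a c ∈ 𝔞) (t : k) (F : (MvPolynomial (Fin 2) k)[X])
    (h : (Polynomial.X - Polynomial.C (MvPolynomial.C t)) * F ∈ fam i j 𝔞 a c) :
    F ∈ fam i j 𝔞 a c := by
  obtain ⟨v, u, hu, hθF⟩ := mem_fam_iff.mp h
  -- step 1
  have h1 := congrArg (Polynomial.eval (MvPolynomial.X j)) hθF
  simp only [Polynomial.eval_mul, Polynomial.eval_C, Polynomial.eval_sub, Polynomial.eval_X,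
    Polynomial.eval_add, sub_self, zero_mul, add_zero] at h1
  obtain ⟨w, hw⟩ := F2 hij a c t _ _ h1
  have hroot : (F - Polynomial.C (gg i j a c * w)).IsRoot (MvPolynomial.X j) := by
    rw [Polynomial.IsRoot, Polynomial.eval_sub, Polynomial.eval_C, hw, sub_self]
  obtain ⟨F₁, hF₁⟩ := Polynomial.dvd_iff_isRoot.mpr hroot
  have hF : F = Polynomial.C (gg i j a c) * Polynomial.C w +
      (Polynomial.X - Polynomial.C (MvPolynomial.X j)) * F₁ := by
    rw [← hF₁, map_mul]; ring
  -- step 2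
  set θ : (MvPolynomial (Fin 2) k)[X] := Polynomial.X - Polynomial.C (MvPolynomial.C t) with hθ
  have h2 : Polynomial.C (gg i j a c) * (v - θ * Polynomial.C w) =
      (Polynomial.X - Polynomial.C (MvPolynomial.X j)) * (θ * F₁ + u) := by
    have := hθF
    rw [hF] at this
    linear_combination (-1 : (MvPolynomial (Fin 2) k)[X]) * this
  obtain ⟨q', hq'⟩ := F1 hij a c _ _ h2
  have h3 : θ * F₁ + u = Polynomial.C (gg i j a c) * q' := by
    apply mul_left_cancel₀ (Polynomial.X_sub_C_ne_zero (MvPolynomial.X j))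
    rw [← h2, hq']; ring
  have hgb : Polynomial.C (gg i j a c) ∈ Ideal.map Polynomial.C (bb j 𝔞) :=
    Ideal.mem_map_of_mem _ (le_bb j 𝔞 hg)
  have h4 : θ * F₁ ∈ Ideal.map Polynomial.C (bb j 𝔞) := by
    have : θ * F₁ = Polynomial.C (gg i j a c) * q' - u := by rw [← h3]; ring
    rw [this]
    exact Ideal.sub_mem _ (Ideal.mul_mem_right _ _ hgb) hu
  have h5 := F3 _ θ F₁ (Polynomial.monic_X_sub_C _) h4
  rw [mem_fam_iff]
  refine ⟨Polynomial.C w, -F₁, Ideal.neg_mem_iff _ |>.mpr h5, ?_⟩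
  rw [hF]; ring

end family

section flatfin
variable {k : Type u} [Field k]

lemma fam_prod {i j : Fin 2} (hij : i ≠ j) (𝔞 : Ideal (MvPolynomial (Fin 2) k)) (a : ℕ)
    (c : Fin a → k[X]) (hg : gg i j a c ∈ 𝔞) (s : Multiset k)
    (F : (MvPolynomial (Fin 2) k)[X])
    (h : (s.map (fun r => (Polynomial.X - Polynomial.C (MvPolynomial.C r) :
      (MvPolynomial (Fin 2) k)[X]))).prod * F ∈ fam i j 𝔞 a c) : F ∈ fam i j 𝔞 a c := by
  induction s using Multiset.induction_on generalizing F with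
  | empty => simpa using h
  | cons r s ih =>
    rw [Multiset.map_cons, Multiset.prod_cons, mul_assoc] at h
    exact ih F (core hij 𝔞 a c hg r _ h)

lemma fam_torsion [IsAlgClosed k] {i j : Fin 2} (hij : i ≠ j)
    (𝔞 : Ideal (MvPolynomial (Fin 2) k)) (a : ℕ)
    (c : Fin a → k[X]) (hg : gg i j a c ∈ 𝔞) (p : k[X]) (hp : p ≠ 0)
    (F : (MvPolynomial (Fin 2) k)[X])
    (h : Polynomial.map (algebraMap k (MvPolynomial (Fin 2) k)) p * F ∈ fam i j 𝔞 a c) :
    F ∈ fam i j 𝔞 a c := by
  have hsplit := (IsAlgClosed.splits p).eq_prod_roots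
  have hlead : p.leadingCoeff ≠ 0 := Polynomial.leadingCoeff_ne_zero.mpr hp
  have hmap : Polynomial.map (algebraMap k (MvPolynomial (Fin 2) k)) p =
      Polynomial.C (MvPolynomial.C p.leadingCoeff) *
        (p.roots.map (fun r => (Polynomial.X - Polynomial.C (MvPolynomial.C r) :
          (MvPolynomial (Fin 2) k)[X]))).prod := by
    conv_lhs => rw [hsplit]
    rw [Polynomial.map_mul, Polynomial.map_C, Polynomial.map_multiset_prod, Multiset.map_map]
    congr 2
    refine Multiset.map_congr rfl fun r _ => ?_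
    simp [MvPolynomial.algebraMap_eq]
  rw [hmap, mul_assoc] at h
  apply fam_prod hij 𝔞 a c hg p.roots F
  have := Ideal.mul_mem_left _ (Polynomial.C (MvPolynomial.C p.leadingCoeff⁻¹)) h
  rwa [← mul_assoc, ← map_mul, ← map_mul, inv_mul_cancel₀ hlead, map_one, map_one, one_mul]
    at this

lemma flat_of_torsionFree {R S : Type*} [CommRing R] [IsDomain R] [IsBezout R] [CommRing S]
    (f : R →+* S) (h : ∀ p : R, p ≠ 0 → ∀ s : S, f p * s = 0 → s = 0) : f.Flat := by
  letI := f.toAlgebra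
  show Module.Flat R S
  rw [Module.Flat.flat_iff_torsion_eq_bot_of_isBezout, eq_bot_iff]
  intro m hm
  obtain ⟨⟨p, hp⟩, hpm⟩ := (Submodule.mem_torsion_iff m).mp hm
  have hp0 : p ≠ 0 := nonZeroDivisors.ne_zero hp
  rw [Submodule.mem_bot]
  apply h p hp0
  have : (⟨p, hp⟩ : nonZeroDivisors R) • m = f p * m := by
    show p • m = _
    rw [Algebra.smul_def]; rfl
  rw [← this]; exact hpm

lemma isIntegralElem_of_monic_rel {R S : Type*} [CommRing R] [CommRing S] (f : R →+* S) (x : S)
    (a : ℕ) (d : Fin a → S) (hd : ∀ l, f.IsIntegralElem (d l))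
    (hx : x ^ a = ∑ l : Fin a, d l * x ^ (l : ℕ)) : f.IsIntegralElem x := by
  letI := f.toAlgebra
  show IsIntegral R x
  have hd' : ∀ l, IsIntegral R (d l) := hd
  apply isIntegral_trans (R := R) (A := integralClosure R S)
  refine ⟨Polynomial.X ^ a - ∑ l : Fin a,
    Polynomial.C (⟨d l, hd' l⟩ : integralClosure R S) * Polynomial.X ^ (l : ℕ),
    Polynomial.monic_X_pow_sub (Polynomial.degree_sum_fin_lt _), ?_⟩
  rw [Polynomial.eval₂_sub, Polynomial.eval₂_pow, Polynomial.eval₂_X,
    Polynomial.eval₂_finsetSum]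
  simp only [Polynomial.eval₂_mul, Polynomial.eval₂_C, Polynomial.eval₂_pow,
    Polynomial.eval₂_X]
  rw [hx, sub_eq_zero]
  rfl

lemma finite_of_gens {R S : Type*} [CommRing R] [CommRing S] (f : R →+* S) (x y : S)
    (hx : f.IsIntegralElem x) (hy : f.IsIntegralElem y)
    (hgen : ∀ (P : S → Prop), (∀ r, P (f r)) → P x → P y → (∀ s t, P s → P t → P (s + t)) →
      (∀ s t, P s → P t → P (s * t)) → ∀ s, P s) : f.Finite := by
  letI := f.toAlgebra
  show Module.Finite R S
  have hadj : Algebra.adjoin R {x, y} = ⊤ := by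
    rw [eq_top_iff]
    rintro s -
    refine hgen (fun s => s ∈ Algebra.adjoin R {x, y}) ?_ ?_ ?_ ?_ ?_ s
    · intro r; exact Subalgebra.algebraMap_mem _ r
    · exact Algebra.subset_adjoin (by simp)
    · exact Algebra.subset_adjoin (by simp)
    · intro s t hs ht; exact Subalgebra.add_mem _ hs ht
    · intro s t hs ht; exact Subalgebra.mul_mem _ hs ht
  have hx' : IsIntegral R x := hx
  have hy' : IsIntegral R y := hy
  have hfg := fg_adjoin_of_finite (R := R) (Set.toFinite {x, y}) (by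
    rintro z (rfl | rfl)
    · exact hx'
    · exact hy')
  rw [hadj] at hfg
  exact ⟨by simpa using hfg⟩

lemma flat_fam [IsAlgClosed k] {i j : Fin 2} (hij : i ≠ j)
    (𝔞 : Ideal (MvPolynomial (Fin 2) k)) (a : ℕ)
    (c : Fin a → k[X]) (hg : gg i j a c ∈ 𝔞) :
    RingHom.Flat (R := k[X]) (S := (MvPolynomial (Fin 2) k)[X] ⧸ fam i j 𝔞 a c)
      ((Ideal.Quotient.mk (fam i j 𝔞 a c)).comp
        (Polynomial.mapRingHom (algebraMap k (MvPolynomial (Fin 2) k)))) := by
  apply flat_of_torsionFree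
  intro p hp0 m hpm
  obtain ⟨F, rfl⟩ := Ideal.Quotient.mk_surjective m
  rw [RingHom.comp_apply, ← map_mul, Ideal.Quotient.eq_zero_iff_mem] at hpm
  rw [Ideal.Quotient.eq_zero_iff_mem]
  exact fam_torsion hij 𝔞 a c hg p hp0 F hpm

lemma isIntegralElem_of_rel {R S : Type*} [CommRing R] [CommRing S] (f : R →+* S) (y : S)
    (t : R) (N : ℕ) (h : (y - f t) * y ^ N = 0) : f.IsIntegralElem y := by
  refine ⟨(Polynomial.X - Polynomial.C t) * Polynomial.X ^ N,
    (Polynomial.monic_X_sub_C _).mul (Polynomial.monic_X_pow N), ?_⟩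
  rw [Polynomial.eval₂_mul, Polynomial.eval₂_sub, Polynomial.eval₂_X, Polynomial.eval₂_C,
    Polynomial.eval₂_pow, Polynomial.eval₂_X]
  exact h

lemma finite_abstract {S : Type*} [CommRing S] (mk : (MvPolynomial (Fin 2) k)[X] →+* S)
    (hsurj : Function.Surjective mk) {i j : Fin 2} (hij : i ≠ j) (a : ℕ)
    (c : Fin a → k[X]) (N : ℕ)
    (h1 : mk ((Polynomial.C (MvPolynomial.X j) - Polynomial.X) *
        Polynomial.C ((MvPolynomial.X j : MvPolynomial (Fin 2) k) ^ N)) = 0)
    (h2 : mk (Polynomial.C (gg i j a c)) = 0) :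
    (mk.comp (Polynomial.mapRingHom (algebraMap k (MvPolynomial (Fin 2) k)))).Finite := by
  set f0 : k[X] →+* S :=
    mk.comp (Polynomial.mapRingHom (algebraMap k (MvPolynomial (Fin 2) k))) with hf0
  have halg : ∀ p : k[X], f0 p =
      mk (Polynomial.map (algebraMap k (MvPolynomial (Fin 2) k)) p) := fun p => rfl
  set xb := mk (Polynomial.C (MvPolynomial.X i)) with hxb
  set yb := mk (Polynomial.C (MvPolynomial.X j)) with hyb
  -- integrality of yb
  have hy_int : f0.IsIntegralElem yb := by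
    apply isIntegralElem_of_rel f0 yb Polynomial.X N
    rw [halg, Polynomial.map_X, hyb, ← map_sub, ← map_pow, ← map_mul, ← map_pow]
    exact h1
  -- elements `mk (C (iot j p))` are integral
  have hpoly : ∀ p : k[X], f0.IsIntegralElem (mk (Polynomial.C (iot j p))) := by
    intro p
    induction p using Polynomial.induction_on with
    | C r =>
      have : mk (Polynomial.C (iot j (Polynomial.C r))) = f0 (Polynomial.C r) := by
        rw [halg, Polynomial.map_C, iot_C, MvPolynomial.algebraMap_eq]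
      rw [this]
      exact f0.isIntegralElem_map
    | add p q hp hq =>
      rw [map_add, map_add, map_add]
      exact RingHom.IsIntegralElem.add f0 hp hq
    | monomial n r h =>
      have : mk (Polynomial.C (iot j (Polynomial.C r * Polynomial.X ^ (n + 1)))) =
          mk (Polynomial.C (iot j (Polynomial.C r * Polynomial.X ^ n))) * yb := by
        rw [hyb, ← map_mul, ← map_mul, ← iot_X (k := k) j, ← map_mul]
        congr 3
        ring
      rw [this]
      exact RingHom.IsIntegralElem.mul f0 h hy_int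
  -- integrality of xb
  have hx_int : f0.IsIntegralElem xb := by
    apply isIntegralElem_of_monic_rel f0 xb a (fun l => mk (Polynomial.C (iot j (c l))))
      (fun l => hpoly (c l))
    rw [← sub_eq_zero, ← h2, gg, SS, map_sub, map_sub, map_pow, map_pow, map_sum, map_sum]
    congr 1
    refine Finset.sum_congr rfl fun l _ => ?_
    rw [map_mul, map_mul, map_pow, map_pow, mul_comm]
  -- generation
  refine finite_of_gens f0 xb yb hx_int hy_int ?_
  intro P hf hPx hPy hadd hmul m
  obtain ⟨F, rfl⟩ := hsurj m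
  have hC : ∀ f : MvPolynomial (Fin 2) k, P (mk (Polynomial.C f)) := by
    intro f
    induction f using MvPolynomial.induction_on with
    | C r =>
      have : mk (Polynomial.C (MvPolynomial.C r)) = f0 (Polynomial.C r) := by
        rw [halg, Polynomial.map_C, MvPolynomial.algebraMap_eq]
      rw [this]
      exact hf _
    | add p q hp hq =>
      rw [map_add, map_add]
      exact hadd _ _ hp hq
    | mul_X p l hp =>
      rw [map_mul, map_mul]
      refine hmul _ _ hp ?_
      rcases fin2_cases hij l with rfl | rfl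
      · exact hPx
      · exact hPy
  have hX : P (mk Polynomial.X) := by
    have : mk Polynomial.X = f0 Polynomial.X := by
      rw [halg, Polynomial.map_X]
    rw [this]
    exact hf _
  induction F using Polynomial.induction_on with
  | C f => exact hC f
  | add p q hp hq =>
    rw [map_add]
    exact hadd _ _ hp hq
  | monomial n f h =>
    rw [pow_succ, ← mul_assoc, map_mul]
    exact hmul _ _ h hX

lemma finite_fam {i j : Fin 2} (hij : i ≠ j)
    (𝔞 : Ideal (MvPolynomial (Fin 2) k)) (a : ℕ)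
    (c : Fin a → k[X]) (N : ℕ) (hN : (MvPolynomial.X j : MvPolynomial (Fin 2) k) ^ N ∈ bb j 𝔞) :
    RingHom.Finite (A := k[X]) (B := (MvPolynomial (Fin 2) k)[X] ⧸ fam i j 𝔞 a c)
      ((Ideal.Quotient.mk (fam i j 𝔞 a c)).comp
        (Polynomial.mapRingHom (algebraMap k (MvPolynomial (Fin 2) k)))) := by
  have h1 : (Ideal.Quotient.mk (fam i j 𝔞 a c))
      ((Polynomial.C (MvPolynomial.X j) - Polynomial.X) *
        Polynomial.C ((MvPolynomial.X j : MvPolynomial (Fin 2) k) ^ N)) = 0 := by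
    rw [Ideal.Quotient.eq_zero_iff_mem]
    exact mem_fam_iff.mpr ⟨0, Polynomial.C (MvPolynomial.X j ^ N), Ideal.mem_map_of_mem _ hN,
        by ring⟩
  have h2 : (Ideal.Quotient.mk (fam i j 𝔞 a c)) (Polynomial.C (gg i j a c)) = 0 := by
    rw [Ideal.Quotient.eq_zero_iff_mem]
    exact mem_fam_iff.mpr ⟨1, 0, Ideal.zero_mem _, by ring⟩
  exact finite_abstract (S := (MvPolynomial (Fin 2) k)[X] ⧸ fam i j 𝔞 a c)
    (Ideal.Quotient.mk (fam i j 𝔞 a c)) Ideal.Quotient.mk_surjective hij a c N h1 h2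

end flatfin

section final
variable {k : Type u} [Field k]

theorem main_ij [IsAlgClosed k] {i j : Fin 2} (hij : i ≠ j)
    (𝔞 : Ideal (MvPolynomial (Fin 2) k)) (hsupp : 𝔞.radical = mm k)
    (hy : (MvPolynomial.X j : MvPolynomial (Fin 2) k) ∉ 𝔞) :
    ∃ 𝔞' : Ideal (MvPolynomial (Fin 2) k)[X],
      RingHom.Flat (R := k[X]) (S := (MvPolynomial (Fin 2) k)[X] ⧸ 𝔞')
        ((Ideal.Quotient.mk 𝔞').comp (Polynomial.mapRingHom (algebraMap k (MvPolynomial (Fin 2) k)))) ∧
      RingHom.Finite (A := k[X]) (B := (MvPolynomial (Fin 2) k)[X] ⧸ 𝔞')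
        ((Ideal.Quotient.mk 𝔞').comp (Polynomial.mapRingHom (algebraMap k (MvPolynomial (Fin 2) k)))) ∧
      Ideal.map (Polynomial.evalRingHom (0 : MvPolynomial (Fin 2) k)) 𝔞' = 𝔞 ∧
      ∀ t : k, t ≠ 0 →
        Ideal.map (Polynomial.evalRingHom (MvPolynomial.C t)) 𝔞' ≤ mm k ∧
        ∃ p : Fin 2 → k, p ≠ 0 ∧
          Ideal.map (Polynomial.evalRingHom (MvPolynomial.C t)) 𝔞' ≤
            Ideal.span (Set.range (fun i : Fin 2 => MvPolynomial.X i - MvPolynomial.C (p i))) := by
  obtain ⟨a, c, ha, hg, hdiv⟩ := exists_g hij 𝔞 hsupp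
  have hle : 𝔞 ≤ mm k := Ideal.le_radical.trans hsupp.le
  obtain ⟨N, hN⟩ : ∃ N : ℕ, (MvPolynomial.X j : MvPolynomial (Fin 2) k) ^ N ∈ 𝔞 := by
    have : (MvPolynomial.X j : MvPolynomial (Fin 2) k) ∈ 𝔞.radical := hsupp ▸ X_mem_mm j
    exact this
  refine ⟨fam i j 𝔞 a c, flat_fam hij 𝔞 a c hg, finite_fam hij 𝔞 a c N (le_bb j 𝔞 hN), ?_, ?_⟩
  · rw [map_eval_fam, sub_zero]
    exact aa_eq hij 𝔞 a c hg hdiv
  · intro t ht
    rw [map_eval_fam]
    constructor
    · rw [sup_le_iff]
      constructor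
      · rw [Ideal.span_le, Set.singleton_subset_iff]; exact hle hg
      · exact Ideal.mul_le_right.trans (bb_le_mm 𝔞 hsupp hy)
    · have hdeg : (phi j t (gg i j a c)).degree ≠ 0 := by
        rw [Polynomial.degree_eq_natDegree (phi_gg_monic hij a c t).ne_zero,
          phi_gg_natDegree hij]
        exact_mod_cast ha.ne'
      obtain ⟨x₀, hx₀⟩ := IsAlgClosed.exists_root _ hdeg
      obtain ⟨q, hq⟩ := Polynomial.dvd_iff_isRoot.mpr hx₀
      refine ⟨fun l => if l = j then t else x₀, ?_, ?_⟩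
      · intro h
        have := congrFun h j
        simp only [if_true, Pi.zero_apply] at this
        exact ht this
      · set mp : Ideal (MvPolynomial (Fin 2) k) := Ideal.span (Set.range (fun l : Fin 2 =>
          MvPolynomial.X l - MvPolynomial.C (if l = j then t else x₀))) with hmp
        have hj : (MvPolynomial.X j - MvPolynomial.C t : MvPolynomial (Fin 2) k) ∈ mp := by
          apply Ideal.subset_span
          exact ⟨j, by simp⟩
        have hi : (MvPolynomial.X i - MvPolynomial.C x₀ : MvPolynomial (Fin 2) k) ∈ mp := by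
          apply Ideal.subset_span
          exact ⟨i, by simp [hij]⟩
        have hgm : gg i j a c ∈ mp := by
          have h1 := sub_iot_phi_mem hij t (gg i j a c)
          have h2 : Ideal.span {(MvPolynomial.X j - MvPolynomial.C t :
              MvPolynomial (Fin 2) k)} ≤ mp := by
            rw [Ideal.span_le, Set.singleton_subset_iff]; exact hj
          have h3 : iot i (phi j t (gg i j a c)) ∈ mp := by
            rw [hq, map_mul, map_sub, iot_X, iot_C]
            exact Ideal.mul_mem_right _ _ hi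
          have : gg i j a c = (gg i j a c - iot i (phi j t (gg i j a c))) +
              iot i (phi j t (gg i j a c)) := by ring
          rw [this]
          exact Ideal.add_mem _ (h2 h1) h3
        rw [sup_le_iff]
        constructor
        · rw [Ideal.span_le, Set.singleton_subset_iff]; exact hgm
        · refine Ideal.mul_le_left.trans ?_
          rw [Ideal.span_le, Set.singleton_subset_iff]; exact hj

lemma finrank_quot_mm_le : Module.finrank k (MvPolynomial (Fin 2) k ⧸ mm k) ≤ 1 := by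
  apply finrank_le_one (1 : MvPolynomial (Fin 2) k ⧸ mm k)
  intro w
  obtain ⟨f, rfl⟩ := Ideal.Quotient.mk_surjective w
  obtain ⟨r, hr⟩ := exists_sub_C_mem_mm f
  refine ⟨r, ?_⟩
  rw [← Algebra.algebraMap_eq_smul_one, ← Ideal.Quotient.mk_algebraMap,
    MvPolynomial.algebraMap_eq]
  exact ((Ideal.Quotient.mk_eq_mk_iff_sub_mem _ _).mpr hr).symm

end final


/-- Let k be an algebraically closed field, A = k[x, y], and 𝔞 ⊆ A an ideal of finite colength n ≥ 2
with radical (x, y), i.e. Spec(A/𝔞) is supported at the origin. Then there is an ideal 𝔞' ⊆ A[t]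
defining a family finite and flat over k[t] (A[t]/𝔞' is a finitely generated flat k[t]-module, hence
locally free of rank n) whose fibre at t = 0 is 𝔞 and whose fibre ideal 𝔞_c at every c ≠ 0 is
contained in the maximal ideal of the origin and in the maximal ideal of some other k-point p ≠ (0,
0); so for t ≠ 0 the fibre is supported at two or more distinct points. (The published statement
allows colength 1 and puts the second point at (0, t); for colength 1 every finite flat family has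
one-point fibres, and the family constructed in the published proof has its second piece at the
roots of f(x, t) on the line y = t after a linear change of the coordinates x, y, which need not lie
at x = 0; this row states what that construction yields. The published statement asks the family to
be flat over k[t]; this row asks it to be finite and flat, as the constructed family is — f is monic
in x and (y − t)·y^N lies in the ideal for some N — and as the published proof's count of the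
constant fibre length n presupposes; with flatness alone the fibre conditions here could be met by
adjoining a component that never meets t = 0.) -/
theorem result (k : Type u) [Field k] [IsAlgClosed k]
    (𝔞 : Ideal (MvPolynomial (Fin 2) k)) [Module.Finite k (MvPolynomial (Fin 2) k ⧸ 𝔞)]
    (hn : 2 ≤ Module.finrank k (MvPolynomial (Fin 2) k ⧸ 𝔞))
    (hsupp : 𝔞.radical = Ideal.span {MvPolynomial.X 0, MvPolynomial.X 1}) :
    ∃ 𝔞' : Ideal (MvPolynomial (Fin 2) k)[X],
      RingHom.Flat (R := k[X]) (S := (MvPolynomial (Fin 2) k)[X] ⧸ 𝔞')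
        ((Ideal.Quotient.mk 𝔞').comp (Polynomial.mapRingHom (algebraMap k (MvPolynomial (Fin 2) k)))) ∧
      RingHom.Finite (A := k[X]) (B := (MvPolynomial (Fin 2) k)[X] ⧸ 𝔞')
        ((Ideal.Quotient.mk 𝔞').comp (Polynomial.mapRingHom (algebraMap k (MvPolynomial (Fin 2) k)))) ∧
      Ideal.map (Polynomial.evalRingHom (0 : MvPolynomial (Fin 2) k)) 𝔞' = 𝔞 ∧
      ∀ c : k, c ≠ 0 →
        Ideal.map (Polynomial.evalRingHom (MvPolynomial.C c)) 𝔞' ≤ Ideal.span {MvPolynomial.X 0, MvPolynomial.X 1} ∧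
        ∃ p : Fin 2 → k, p ≠ 0 ∧
          Ideal.map (Polynomial.evalRingHom (MvPolynomial.C c)) 𝔞' ≤
            Ideal.span (Set.range (fun i : Fin 2 => MvPolynomial.X i - MvPolynomial.C (p i))) := by
  have hsupp' : 𝔞.radical = mm k := hsupp
  by_cases h1 : (MvPolynomial.X 1 : MvPolynomial (Fin 2) k) ∈ 𝔞
  · have h0 : (MvPolynomial.X 0 : MvPolynomial (Fin 2) k) ∉ 𝔞 := by
      intro h0
      have hle : mm k ≤ 𝔞 := by
        rw [mm, Ideal.span_le]
        rintro f (rfl | rfl)
        · exact h0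
        · exact h1
      have heq : 𝔞 = mm k := le_antisymm (Ideal.le_radical.trans hsupp'.le) hle
      subst heq
      have := finrank_quot_mm_le (k := k)
      omega
    exact main_ij (i := 1) (j := 0) (by decide) 𝔞 hsupp' h0
  · exact main_ij (i := 0) (j := 1) (by decide) 𝔞 hsupp' h1

end Groth.Agent.S11453
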