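import Groth.Statements.S11456
import Mathlib
import Groth.Agent.Lib.Helper5ArtRegSeq
import Groth.Agent.Lib.Helper5NilSup

set_option autoImplicit false
universe u
open DefT

namespace Groth.Agent.S11456

/-- Let C be a local Artin ring with maximal ideal m, A a flat C-algebra such that A₀ = A/mA is a
Cohen–Macaulay local ring, and I ⊆ A an ideal with A/I flat over C whose image in A₀ is generated by
a regular sequence b_1, …, b_r on A₀. Then I is generated by r elements a_1, …, a_r forming a
regular sequence on A (so the Koszul complex on the a_i resolves A/I). -/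
theorem result (C : Type u) [CommRing C]
    [IsLocalRing C] [IsArtinianRing C] (A : Type u) [CommRing A] [Algebra C A] [Module.Flat C A]
    [LocCoh.IsCohenMacaulayLocalRing (A ⧸ (IsLocalRing.maximalIdeal C).map (algebraMap C A))]
    (I : Ideal A) [Module.Flat C (A ⧸ I)] (r : ℕ)
    (b : Fin r → A ⧸ (IsLocalRing.maximalIdeal C).map (algebraMap C A))
    (hb : RingTheory.Sequence.IsRegular (A ⧸ (IsLocalRing.maximalIdeal C).map (algebraMap C A)) (List.ofFn b))
    (hI : I.map (Ideal.Quotient.mk ((IsLocalRing.maximalIdeal C).map (algebraMap C A))) = Ideal.span (Set.range b)) :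
    ∃ a : Fin r → A, RingTheory.Sequence.IsRegular A (List.ofFn a) ∧ I = Ideal.span (Set.range a) := by
  obtain ⟨k, hk⟩ : ∃ k : ℕ, IsLocalRing.maximalIdeal C ^ k = ⊥ := by
    obtain ⟨k, hk⟩ := IsArtinianRing.isNilpotent_jacobson_bot (R := C)
    rw [IsLocalRing.jacobson_eq_maximalIdeal ⊥ bot_ne_top] at hk
    exact ⟨k, hk⟩
  have hnil : IsNilpotent (IsLocalRing.maximalIdeal C) := ⟨k, hk⟩
  have hne : IsLocalRing.maximalIdeal C ≠ ⊤ := Ideal.IsPrime.ne_top'
  obtain ⟨a, ha, hIa⟩ := Groth.Agent.Lib.Helper5.exists_lift_span_range_eq_of_flat_quotient hnil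
    I b hI
  refine ⟨a, ?_, hIa⟩
  rw [Groth.Agent.Lib.Helper5.isRegular_ofFn_iff_isRegular_quotient_ring k hk
    (IsLocalRing.maximalIdeal C) hne a]
  have : (fun i => Ideal.Quotient.mk ((IsLocalRing.maximalIdeal C).map (algebraMap C A)) (a i))
      = b := funext ha
  rw [this]
  exact hb

end Groth.Agent.S11456
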