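import Groth.Statements.S11458
import Groth.Agent.Lib.Helper28HBLift
-- import your own Groth.Agent.* helpers here

set_option autoImplicit false
universe u
open DefT

namespace Groth.Agent.S11458

open RingTheory.Sequence
open scoped Pointwise
open Groth.Agent.Lib.Helper28HBLift Groth.Agent.Lib.Helper5

/-- Let C be a local Artin ring with maximal ideal m, A a flat C-algebra of finite type whose special
fibre A₀ = A/mA is smooth over C/m, and I ⊆ A an ideal with A/I flat over C whose image I₀ in A₀ has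
height ≥ 2 at every prime containing it (A₀/I₀ of codimension 2) and is generated by the signed
maximal minors of an (r+1) × r matrix φ₀ over A₀ for which 0 → A₀^r → A₀^{r+1} → A₀ (matrix, then
minors) is exact. Then there is an (r+1) × r matrix φ over A whose signed maximal minors generate I
and for which 0 → A^r → A^{r+1} → A is exact, so that 0 → A^r → A^{r+1} → A → A/I → 0 is a
resolution. -/
theorem result (C : Type u) [CommRing C]
    [IsLocalRing C] [IsArtinianRing C] (A : Type u) [CommRing A] [Algebra C A] [Module.Flat C A]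
    [Algebra.FiniteType C A]
    [Algebra.Smooth (C ⧸ IsLocalRing.maximalIdeal C) (A ⧸ (IsLocalRing.maximalIdeal C).map (algebraMap C A))]
    (I : Ideal A) [Module.Flat C (A ⧸ I)]
    (hcodim : ∀ p : Ideal (A ⧸ (IsLocalRing.maximalIdeal C).map (algebraMap C A)), p.IsPrime →
      I.map (Ideal.Quotient.mk ((IsLocalRing.maximalIdeal C).map (algebraMap C A))) ≤ p → (2 : ℕ∞) ≤ p.height)
    (r : ℕ)
    (φ₀ : Matrix (Fin (r + 1)) (Fin r) (A ⧸ (IsLocalRing.maximalIdeal C).map (algebraMap C A)))
    (h₀ : (Ideal.span (Set.range (fun i : Fin (r + 1) => (-1 : (A ⧸ (IsLocalRing.maximalIdeal C).map (algebraMap C A))) ^ (i : ℕ) * ((φ₀).submatrix i.succAbove id).det)) = I.map (Ideal.Quotient.mk ((IsLocalRing.maximalIdeal C).map (algebraMap C A))) ∧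
        Function.Injective (φ₀).mulVecLin ∧
        LinearMap.range (φ₀).mulVecLin = LinearMap.ker (Fintype.linearCombination (A ⧸ (IsLocalRing.maximalIdeal C).map (algebraMap C A)) (fun i : Fin (r + 1) => (-1 : (A ⧸ (IsLocalRing.maximalIdeal C).map (algebraMap C A))) ^ (i : ℕ) * ((φ₀).submatrix i.succAbove id).det)))) :
    ∃ φ : Matrix (Fin (r + 1)) (Fin r) A, (Ideal.span (Set.range (fun i : Fin (r + 1) => (-1 : A) ^ (i : ℕ) * ((φ).submatrix i.succAbove id).det)) = I ∧
        Function.Injective (φ).mulVecLin ∧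
        LinearMap.range (φ).mulVecLin = LinearMap.ker (Fintype.linearCombination A (fun i : Fin (r + 1) => (-1 : A) ^ (i : ℕ) * ((φ).submatrix i.succAbove id).det))) := by
  obtain ⟨n, hn⟩ : ∃ n : ℕ, IsLocalRing.maximalIdeal C ^ n = ⊥ := by
    obtain ⟨k, hk⟩ := IsArtinianRing.isNilpotent_jacobson_bot (R := C)
    rw [IsLocalRing.jacobson_eq_maximalIdeal ⊥ bot_ne_top, Ideal.zero_eq_bot] at hk
    exact ⟨k, hk⟩
  have hmne : IsLocalRing.maximalIdeal C ≠ ⊤ := (IsLocalRing.maximalIdeal.isMaximal C).ne_top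
  have hmnil : IsNilpotent (IsLocalRing.maximalIdeal C) := ⟨n, hn⟩
  obtain ⟨h01, h02, h03⟩ := h₀
  change Ideal.span (Set.range (signedMinor φ₀)) = _ at h01
  change _ = LinearMap.ker (Fintype.linearCombination _ (signedMinor φ₀)) at h03
  letI : Field (C ⧸ IsLocalRing.maximalIdeal C) := Ideal.Quotient.field _
  have hCM : LocCoh.IsCohenMacaulayRing (A ⧸ (IsLocalRing.maximalIdeal C).map (algebraMap C A)) :=
    isCohenMacaulayRing_of_smooth_field (C ⧸ IsLocalRing.maximalIdeal C) _
  have hflat0 : Module.Flat (C ⧸ IsLocalRing.maximalIdeal C)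
      ((A ⧸ (IsLocalRing.maximalIdeal C).map (algebraMap C A)) ⧸
        Ideal.span (Set.range (signedMinor φ₀))) := inferInstance
  obtain ⟨φ, hφ1, hφ2⟩ := hilbertBurch_ideal_lift n hn (IsLocalRing.maximalIdeal C) hmne φ₀ h02 h03
    hflat0 (fun _ => by
      obtain ⟨a, ha, b, hb, hab⟩ := exists_isWeaklyRegular_pair
        (Ideal.span (Set.range (signedMinor φ₀))) (fun p hp hle => hcodim p hp (h01 ▸ hle))
      exact ⟨a, ha, b, hb, hab⟩) I h01.symm
  obtain ⟨k1, k2, k3⟩ := hilbertBurch_lift (IsLocalRing.maximalIdeal C) hmnil φ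
    (by rw [hφ1]; exact h02) (by rw [hφ1]; exact h03) (by rw [hφ1]; exact hflat0)
  exact ⟨φ, hφ2.symm, k1, k2⟩

end Groth.Agent.S11458
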