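import Groth.Statements.S11459
import Groth.Agent.Lib.Helper28HBLift
-- import your own Groth.Agent.* helpers here

set_option autoImplicit false
universe u
open DefT

namespace Groth.Agent.S11459

open RingTheory.Sequence
open scoped Pointwise
open Groth.Agent.Lib.Helper28HBLift Groth.Agent.Lib.Helper5 Groth.Agent.Lib.Helper28

/-- Let C' be a local Artin ring, J ⊊ C' a proper ideal annihilated by the maximal ideal, C = C'/J, A' a
flat C'-algebra of finite type with smooth special fibre, A = A'/JA', and φ an (r+1) × r matrix over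
A with 0 → A^r → A^{r+1} → A exact (matrix, then signed maximal minors f_i) A/(f_0, …, f_r) flat
over C, and every prime of A containing (f_0, …, f_r) of height ≥ 2 (codimension 2). Then any ideal
I' ⊆ A' such that A'/I' is flat over C' and the image of I' in A is (f_0, …, f_r) is generated by
the signed maximal minors of some matrix φ' over A' reducing to φ. -/
theorem result (C' : Type u) [CommRing C'] [IsLocalRing C'] [IsArtinianRing C'] (J : Ideal C')
    (hJ : IsLocalRing.maximalIdeal C' * J = ⊥) (hJne : J ≠ ⊤) (A' : Type u) [CommRing A'] [Algebra C' A'] [Module.Flat C' A']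
    [Algebra.FiniteType C' A']
    [Algebra.Smooth (C' ⧸ IsLocalRing.maximalIdeal C') (A' ⧸ (IsLocalRing.maximalIdeal C').map (algebraMap C' A'))]
    (r : ℕ) (φ : Matrix (Fin (r + 1)) (Fin r) (A' ⧸ J.map (algebraMap C' A')))
    (hφ : Function.Injective φ.mulVecLin ∧
      LinearMap.range φ.mulVecLin = LinearMap.ker (Fintype.linearCombination (A' ⧸ J.map (algebraMap C' A')) (fun i : Fin (r + 1) => (-1 : (A' ⧸ J.map (algebraMap C' A'))) ^ (i : ℕ) * ((φ).submatrix i.succAbove id).det)))
    [Module.Flat (C' ⧸ J) ((A' ⧸ J.map (algebraMap C' A')) ⧸ Ideal.span (Set.range (fun i : Fin (r + 1) => (-1 : (A' ⧸ J.map (algebraMap C' A'))) ^ (i : ℕ) * ((φ).submatrix i.succAbove id).det)))]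
    (hcodim : ∀ p : Ideal (A' ⧸ J.map (algebraMap C' A')), p.IsPrime →
      Ideal.span (Set.range (fun i : Fin (r + 1) => (-1 : (A' ⧸ J.map (algebraMap C' A'))) ^ (i : ℕ) * ((φ).submatrix i.succAbove id).det)) ≤ p → (2 : ℕ∞) ≤ p.height)
    (I' : Ideal A') [Module.Flat C' (A' ⧸ I')]
    (hI' : I'.map (Ideal.Quotient.mk (J.map (algebraMap C' A'))) = Ideal.span (Set.range (fun i : Fin (r + 1) => (-1 : (A' ⧸ J.map (algebraMap C' A'))) ^ (i : ℕ) * ((φ).submatrix i.succAbove id).det))) :
    ∃ φ' : Matrix (Fin (r + 1)) (Fin r) A', φ'.map (Ideal.Quotient.mk (J.map (algebraMap C' A'))) = φ ∧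
      I' = Ideal.span (Set.range (fun i : Fin (r + 1) => (-1 : A') ^ (i : ℕ) * ((φ').submatrix i.succAbove id).det)) := by
  obtain ⟨n, hn⟩ : ∃ n : ℕ, IsLocalRing.maximalIdeal C' ^ n = ⊥ := by
    obtain ⟨k, hk⟩ := IsArtinianRing.isNilpotent_jacobson_bot (R := C')
    rw [IsLocalRing.jacobson_eq_maximalIdeal ⊥ bot_ne_top, Ideal.zero_eq_bot] at hk
    exact ⟨k, hk⟩
  set m := IsLocalRing.maximalIdeal C' with hm
  have hmne : m ≠ ⊤ := (IsLocalRing.maximalIdeal.isMaximal C').ne_top
  have hJm : J ≤ m := IsLocalRing.le_maximalIdeal hJne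
  obtain ⟨h02, h03⟩ := hφ
  change _ = LinearMap.ker (Fintype.linearCombination _ (signedMinor φ)) at h03
  change I'.map _ = Ideal.span (Set.range (signedMinor φ)) at hI'
  have hflat0 : Module.Flat (C' ⧸ J) ((A' ⧸ J.map (algebraMap C' A')) ⧸
      Ideal.span (Set.range (signedMinor φ))) := ‹_›
  have hcodim' : ∀ p : Ideal (A' ⧸ J.map (algebraMap C' A')), p.IsPrime →
      Ideal.span (Set.range (signedMinor φ)) ≤ p → (2 : ℕ∞) ≤ p.height := hcodim
  letI : Field (C' ⧸ m) := Ideal.Quotient.field _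
  have hCM : LocCoh.IsCohenMacaulayRing (A' ⧸ m.map (algebraMap C' A')) :=
    isCohenMacaulayRing_of_smooth_field (C' ⧸ m) _
  -- nilpotence of `m A'`
  have hmAnil : IsNilpotent (m.map (algebraMap C' A')) := by
    refine ⟨n, ?_⟩
    rw [← Ideal.map_pow, hn, Ideal.map_bot]
    rfl
  have hle : J.map (algebraMap C' A') ≤ m.map (algebraMap C' A') := Ideal.map_mono hJm
  refine hilbertBurch_ideal_lift n hn J hJne φ h02 h03 hflat0 (fun htop => ?_) I' hI'
  -- the regular sequence
  set mk₀ := Ideal.Quotient.mk (m.map (algebraMap C' A')) with hmk₀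
  set mkJ := Ideal.Quotient.mk (J.map (algebraMap C' A')) with hmkJ
  set fac := Ideal.Quotient.factor hle with hfac
  have hfacmk : fac.comp mkJ = mk₀ := Ideal.Quotient.factor_comp_mk hle
  have hfacsurj : Function.Surjective fac := Ideal.Quotient.factor_surjective hle
  have hfacker : RingHom.ker fac ≤ nilradical (A' ⧸ J.map (algebraMap C' A')) := by
    intro x hx
    obtain ⟨y, rfl⟩ := Ideal.Quotient.mk_surjective x
    have hy : y ∈ m.map (algebraMap C' A') := by
      rw [RingHom.mem_ker] at hx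
      have : mk₀ y = 0 := by rw [← hfacmk]; exact hx
      exact Ideal.Quotient.eq_zero_iff_mem.mp this
    obtain ⟨k, hk⟩ := hmAnil
    rw [mem_nilradical]
    refine ⟨k, ?_⟩
    have : y ^ k ∈ (m.map (algebraMap C' A')) ^ k := Ideal.pow_mem_pow hy k
    rw [hk] at this
    rw [← map_pow, (Ideal.mem_bot.mp this : y ^ k = 0), map_zero]
  set I₀ := I'.map mk₀ with hI₀
  have hI₀' : I₀ = (Ideal.span (Set.range (signedMinor φ))).map fac := by
    rw [hI₀, ← hI', Ideal.map_map, hfacmk]
  have hht : ∀ p : Ideal (A' ⧸ m.map (algebraMap C' A')), p.IsPrime → I₀ ≤ p →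
      (2 : ℕ∞) ≤ p.height := by
    intro p hp hIp
    have h1 : Ideal.span (Set.range (signedMinor φ)) ≤ p.comap fac := by
      rw [← Ideal.map_le_iff_le_comap, ← hI₀']; exact hIp
    have h2 := hcodim' (p.comap fac) inferInstance h1
    exact h2.trans (height_comap_le_of_ker_le_nilradical hfacsurj hfacker p)
  obtain ⟨a₀, ha₀, b₀, hb₀, hab₀⟩ := exists_isWeaklyRegular_pair I₀ hht
  obtain ⟨a, ha, rfl⟩ := (Ideal.mem_map_iff_of_surjective mk₀ Ideal.Quotient.mk_surjective).mp ha₀
  obtain ⟨b, hb, rfl⟩ := (Ideal.mem_map_iff_of_surjective mk₀ Ideal.Quotient.mk_surjective).mp hb₀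
  have hI'ne : I' ≠ ⊤ := by
    intro h
    apply htop
    rw [← hI', h, Ideal.map_top]
  have hI₀ne : I₀ ≠ ⊤ := fun h => hI'ne (eq_top_of_map_mk_eq_top hmAnil I' h)
  have hreg₀ : IsRegular (A' ⧸ m.map (algebraMap C' A')) [mk₀ a, mk₀ b] := by
    refine ⟨hab₀, ?_⟩
    intro h
    apply hI₀ne
    rw [eq_top_iff]
    have h1 : (Ideal.ofList [mk₀ a, mk₀ b] • ⊤ : Submodule _ (A' ⧸ m.map (algebraMap C' A'))) ≤ I₀ := by
      rw [smul_eq_mul, Ideal.mul_top, Ideal.ofList, Ideal.span_le]
      intro x hx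
      simp only [List.mem_cons, List.not_mem_nil, or_false, Set.mem_setOf_eq] at hx
      rcases hx with rfl | rfl
      · exact Ideal.mem_map_of_mem _ ha
      · exact Ideal.mem_map_of_mem _ hb
    exact h.le.trans h1
  have hregA' : IsRegular A' [a, b] :=
    (isRegular_iff_isRegular_quotient_ring n hn m hmne [a, b]).mpr hreg₀
  have hregJ := (isRegular_iff_isRegular_quotient_ring n hn J hJne [a, b]).mp hregA'
  refine ⟨mkJ a, ?_, mkJ b, ?_, hregJ.toIsWeaklyRegular⟩
  · rw [← hI']; exact Ideal.mem_map_of_mem _ ha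
  · rw [← hI']; exact Ideal.mem_map_of_mem _ hb

end Groth.Agent.S11459
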