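import Groth.Statements.S11460
import Groth.Agent.Lib.Helper28HBSch
import Groth.Agent.S11449
-- import your own Groth.Agent.* helpers here

set_option autoImplicit false
universe u
open CategoryTheory AlgebraicGeometry
open DefT

namespace Groth.Agent.S11460

open CategoryTheory AlgebraicGeometry
open Groth.Agent.Lib.Helper28HBSch Groth.Agent.Lib.Helper28HBSpread Groth.Agent.Lib.Helper5
  Groth.Agent.Lib.Helper28

/-- Let X be smooth over a field k and Y ⊆ X a closed subscheme which is Cohen–Macaulay of codimension 2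
(all local rings of Y Cohen–Macaulay, and dim O_{X,y} = dim O_{Y,y} + 2 at every point y of Y). Then
each point of Y has an affine open neighbourhood U in X and an (r+1) × r matrix φ of functions on U
whose signed maximal minors f_i generate the ideal of Y ∩ U and give an exact sequence 0 → O(U)^r →
O(U)^{r+1} → O(U), hence a resolution of O_{Y ∩ U} on the affine U. -/
theorem result (k : Type u) [Field k]
    (X Y : Scheme.{u}) (f : X ⟶ Spec (CommRingCat.of k)) [Smooth f] (ι : Y ⟶ X) [IsClosedImmersion ι]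
    (hCM : ∀ y : Y, LocCoh.IsCohenMacaulayLocalRing (Y.presheaf.stalk y))
    (hcodim : ∀ y : Y, ringKrullDim (Y.presheaf.stalk y) + 2 = ringKrullDim (X.presheaf.stalk (ι.base y)))
    (y : Y) :
    ∃ U : X.affineOpens, ι.base y ∈ (U : X.Opens) ∧ ∃ (r : ℕ) (φ : Matrix (Fin (r + 1)) (Fin r) Γ(X, U)),
      (Ideal.span (Set.range (fun i : Fin (r + 1) => (-1 : Γ(X, U)) ^ (i : ℕ) * ((φ).submatrix i.succAbove id).det)) = ι.ker.ideal U ∧
        Function.Injective (φ).mulVecLin ∧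
        LinearMap.range (φ).mulVecLin = LinearMap.ker (Fintype.linearCombination Γ(X, U) (fun i : Fin (r + 1) => (-1 : Γ(X, U)) ^ (i : ℕ) * ((φ).submatrix i.succAbove id).det))) := by
  obtain ⟨U₀, hU₀, hxU₀, -⟩ := exists_isAffineOpen_mem_and_subset (X := X) (x := ι y)
    (U := ⊤) trivial
  haveI : IsRegularRing Γ(X, U₀) := isRegularRing_sections_of_smooth k X f U₀ hU₀
  haveI : IsNoetherianRing Γ(X, U₀) := inferInstance
  letI := X.presheaf.algebra_section_stalk ⟨ι y, hxU₀⟩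
  haveI hloc := hU₀.isLocalization_stalk ⟨ι y, hxU₀⟩
  haveI : IsRegularLocalRing (X.presheaf.stalk (ι y)) :=
    isRegularLocalRing_stalk_of_smooth k X f (ι y)
  have hsurj : Function.Surjective (ι.stalkMap y).hom := ι.stalkMap_surjective y
  let e : (X.presheaf.stalk (ι y)) ⧸ RingHom.ker (ι.stalkMap y).hom ≃+* Y.presheaf.stalk y :=
    RingHom.quotientKerEquivOfSurjective hsurj
  haveI := hCM y
  haveI : LocCoh.IsCohenMacaulayLocalRing
      ((X.presheaf.stalk (ι y)) ⧸ RingHom.ker (ι.stalkMap y).hom) :=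
    isCohenMacaulayLocalRing_of_ringEquiv e.symm
  have hdim : ringKrullDim ((X.presheaf.stalk (ι y)) ⧸ RingHom.ker (ι.stalkMap y).hom) + 2 =
      ringKrullDim (X.presheaf.stalk (ι y)) := by
    rw [ringKrullDim_eq_of_ringEquiv e]
    exact hcodim y
  obtain ⟨r, φ, h1, -, h2, h3⟩ := Groth.Agent.S11449.result (X.presheaf.stalk (ι y))
    (RingHom.ker (ι.stalkMap y).hom) hdim
  have hK : RingHom.ker (ι.stalkMap y).hom =
      (ι.ker.ideal ⟨U₀, hU₀⟩).map (algebraMap Γ(X, U₀) (X.presheaf.stalk (ι y))) :=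
    ker_stalkMap_eq_map ι y ⟨U₀, hU₀⟩ hxU₀
  obtain ⟨ψ, g, hgp, ha, hb, hc, hd⟩ := exists_matrix_and_multipliers
    (hU₀.primeIdealOf ⟨ι y, hxU₀⟩).asIdeal (ι.ker.ideal ⟨U₀, hU₀⟩) (X.presheaf.stalk (ι y)) φ
    (h1.trans hK) h2 h3
  haveI := hU₀.isLocalization_basicOpen g
  obtain ⟨k1, k2, k3⟩ := hb_away_of_multipliers (ι.ker.ideal ⟨U₀, hU₀⟩) ψ g ha hb hc hd
    Γ(X, X.basicOpen g)
  refine ⟨X.affineBasicOpen (U := ⟨U₀, hU₀⟩) g, ?_, r,
    ψ.map ⇑(algebraMap Γ(X, U₀) Γ(X, X.basicOpen g)), ?_, k2, k3⟩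
  · show ι y ∈ X.basicOpen g
    rw [Scheme.mem_basicOpen _ _ _ hxU₀]
    exact IsLocalization.map_units (X.presheaf.stalk (ι y))
      (⟨g, hgp⟩ : (hU₀.primeIdealOf ⟨ι y, hxU₀⟩).asIdeal.primeCompl)
  · exact k1.trans ((ι.ker).map_ideal_basicOpen ⟨U₀, hU₀⟩ g)

end Groth.Agent.S11460
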