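import Groth.Statements.S11461
import Mathlib
import Groth.Agent.Lib.Helper10Devissage
-- import your own Groth.Agent.* helpers here

set_option autoImplicit false
universe u
open CategoryTheory
open DefT

namespace Groth.Agent.S11461

/-- Let B be a Noetherian ring and F an additive, B-linear endofunctor of B-modules which preserves
finite generation and is semi-exact on short exact sequences of finitely generated modules (the
image sequence is exact in the middle). If F kills B/m for every maximal ideal m, then F kills every
finitely generated B-module. (The published statement assumes F only additive; this row assumes F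
B-linear, and takes the functor on all B-modules with the hypotheses and the conclusion on the
finitely generated ones.) -/
theorem result (B : Type u) [CommRing B]
    [IsNoetherianRing B] (F : ModuleCat.{u} B ⥤ ModuleCat.{u} B) [F.Additive] [F.Linear B]
    (hfg : ∀ M : ModuleCat.{u} B, Module.Finite B M → Module.Finite B (F.obj M))
    (hex : ∀ S : ShortComplex (ModuleCat.{u} B), S.ShortExact → Module.Finite B S.X₂ → (S.map F).Exact)
    (h0 : ∀ m : Ideal B, m.IsMaximal → Limits.IsZero (F.obj (ModuleCat.of B (B ⧸ m))))
    (M : ModuleCat.{u} B) (hM : Module.Finite B M) : Limits.IsZero (F.obj M) := by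
  classical
  have key : ∀ (M : Type u) [AddCommGroup M] [Module B M] [Module.Finite B M],
      Limits.IsZero (F.obj (ModuleCat.of B M)) := by
    intro M _ _ _
    refine Groth.Agent.Lib.Helper10.Devissage.devissage (B := B)
      (P := fun N _ _ => Limits.IsZero (F.obj (ModuleCat.of B N))) ?_ ?_ ?_ M
    · intro N _ _ _
      exact F.map_isZero (ModuleCat.isZero_of_subsingleton _)
    · intro N₁ _ _ _ N₂ _ _ _ N₃ _ _ _ f g hf hg hfg h1 h3
      let S : ShortComplex (ModuleCat.{u} B) :=
        ShortComplex.moduleCatMk f g (by ext x; exact hfg.apply_apply_eq_zero x)
      have hS : S.ShortExact := by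
        refine ShortComplex.ShortExact.mk' ?_ ?_ ?_
        · rw [ShortComplex.ShortExact.moduleCat_exact_iff_function_exact]
          exact hfg
        · exact (ModuleCat.mono_iff_injective _).2 hf
        · exact (ModuleCat.epi_iff_surjective _).2 hg
      have hE := hex S hS ‹_›
      exact hE.isZero_of_both_isZero h1 h3
    · intro p hp ih
      by_cases hpm : p.IsMaximal
      · exact h0 p hpm
      · let N := B ⧸ p
        set M' := F.obj (ModuleCat.of B N) with hM'
        have hfinM' : Module.Finite B M' := hfg _ (inferInstanceAs (Module.Finite B N))
        -- p kills M'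
        have hsmul : ∀ (a : B) (y : M'), (F.map (a • 𝟙 (ModuleCat.of B N))) y = a • y := by
          intro a y
          rw [Functor.map_smul, F.map_id]
          rfl
        have hpann : p ≤ Module.annihilator B M' := by
          intro a ha
          rw [Module.mem_annihilator]
          intro y
          rw [← hsmul a y]
          have : (a • 𝟙 (ModuleCat.of B N)) = 0 := by
            apply ModuleCat.hom_ext
            apply LinearMap.ext
            intro x
            obtain ⟨z, rfl⟩ := Ideal.Quotient.mk_surjective x
            show a • Ideal.Quotient.mk p z = 0
            rw [Algebra.smul_def]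
            have : algebraMap B (B ⧸ p) a = 0 := Ideal.Quotient.eq_zero_iff_mem.2 ha
            rw [this, zero_mul]
          rw [this, F.map_zero]
          rfl
        by_contra hnz
        have hnt : ¬ Subsingleton M' := fun h => hnz (ModuleCat.isZero_of_subsingleton _)
        have hann : Module.annihilator B M' ≠ ⊤ := by
          rwa [Ne, Module.annihilator_eq_top_iff]
        obtain ⟨m, hm, hle⟩ := Ideal.exists_le_maximal _ hann
        have hpm' : p < m := lt_of_le_of_ne (hpann.trans hle) (fun h => hpm (h ▸ hm))
        obtain ⟨b, hbm, hbp⟩ := Set.exists_of_ssubset hpm'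
        let μ : N →ₗ[B] N := b • (LinearMap.id : N →ₗ[B] N)
        have hμinj : Function.Injective μ := by
          rw [← LinearMap.ker_eq_bot, LinearMap.ker_eq_bot']
          intro x hx
          obtain ⟨y, rfl⟩ := Ideal.Quotient.mk_surjective x
          have : Ideal.Quotient.mk p (b * y) = 0 := by
            have : b • (Ideal.Quotient.mk p y) = 0 := hx
            rw [map_mul]; rw [Algebra.smul_def] at this; exact this
          rw [Ideal.Quotient.eq_zero_iff_mem] at this ⊢
          exact (hp.mem_or_mem this).resolve_left hbp
        let N₃ := N ⧸ LinearMap.range μ
        have hN₃ : Limits.IsZero (F.obj (ModuleCat.of B N₃)) := by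
          apply ih N₃
          refine ⟨p ⊔ Ideal.span {b}, ?_, ?_⟩
          · refine lt_of_le_of_ne le_sup_left ?_
            intro h
            apply hbp
            rw [h]
            exact Ideal.mem_sup_right (Ideal.subset_span rfl)
          · intro a ha x
            obtain ⟨y, rfl⟩ := Submodule.mkQ_surjective _ x
            obtain ⟨z, rfl⟩ := Ideal.Quotient.mk_surjective y
            rw [Submodule.mem_sup] at ha
            obtain ⟨a₁, ha₁, a₂, ha₂, rfl⟩ := ha
            obtain ⟨c, rfl⟩ := Ideal.mem_span_singleton'.1 ha₂
            rw [← map_smul, Submodule.mkQ_apply, Submodule.Quotient.mk_eq_zero]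
            refine ⟨c • Ideal.Quotient.mk p z, ?_⟩
            show b • (c • Ideal.Quotient.mk p z) = (a₁ + c * b) • Ideal.Quotient.mk p z
            rw [add_smul, mul_smul, smul_comm b c]
            have : a₁ • Ideal.Quotient.mk p z = 0 := by
              rw [Algebra.smul_def]
              have : algebraMap B (B ⧸ p) a₁ = 0 := Ideal.Quotient.eq_zero_iff_mem.2 ha₁
              rw [this, zero_mul]
            rw [this, zero_add]
        let S : ShortComplex (ModuleCat.{u} B) :=
          ShortComplex.moduleCatMk μ (LinearMap.range μ).mkQ
            (by ext x; simp)
        have hS : S.ShortExact := by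
          refine ShortComplex.ShortExact.mk' ?_ ?_ ?_
          · rw [ShortComplex.ShortExact.moduleCat_exact_iff_function_exact]
            exact LinearMap.exact_map_mkQ_range μ
          · exact (ModuleCat.mono_iff_injective _).2 hμinj
          · exact (ModuleCat.epi_iff_surjective _).2 (Submodule.mkQ_surjective _)
        have hE := hex S hS (inferInstanceAs (Module.Finite B N))
        have hsurj : Function.Surjective (F.map S.f) := by
          intro y
          have hy : (F.map S.g) y = 0 := by
            have : F.map S.g = 0 := hN₃.eq_zero_of_tgt _
            rw [this]; rfl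
          exact (ShortComplex.moduleCat_exact_iff (S.map F)).1 hE y hy
        have hSf : S.f = b • 𝟙 (ModuleCat.of B N) := rfl
        have hle' : (⊤ : Submodule B M') ≤ Ideal.span {b} • ⊤ := by
          intro x _
          obtain ⟨y, hy⟩ := hsurj x
          have hy' : (F.map (b • 𝟙 (ModuleCat.of B N))) y = x := hy
          rw [hsmul] at hy'
          rw [← hy']
          exact Submodule.smul_mem_smul (Ideal.subset_span rfl) Submodule.mem_top
        obtain ⟨r, hr1, hr2⟩ := Submodule.exists_sub_one_mem_and_smul_eq_zero_of_fg_of_le_smul
          (Ideal.span {b}) (⊤ : Submodule B M') Module.Finite.fg_top hle'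
        have hrm : r ∈ m := hle (Module.mem_annihilator.2 fun y => hr2 y Submodule.mem_top)
        have hr1m : r - 1 ∈ m := ((Ideal.span_singleton_le_iff_mem m).2 hbm) hr1
        have : (1 : B) ∈ m := by
          have := m.sub_mem hrm hr1m
          simpa using this
        exact hm.ne_top (m.eq_top_iff_one.2 this)
  exact key M

end Groth.Agent.S11461
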