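import Groth.Statements.S11469
import Mathlib

set_option autoImplicit false
universe u
open scoped TensorProduct
open DefT

namespace Groth.Agent.S11469

section general

variable {C' : Type u} [CommRing C']
  {A' : Type u} [CommRing A'] [Algebra C' A'] {M' : Type u} [AddCommGroup M'] [Module A' M']
  [Module C' M'] [IsScalarTower C' A' M']

/-- (L1) extension of an ideal acting on the module: same as the `C'`-submodule. -/
lemma mem_map_smul_top_iff (I : Ideal C') (x : M') :
    x ∈ (I.map (algebraMap C' A')) • (⊤ : Submodule A' M') ↔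
      x ∈ I • (⊤ : Submodule C' M') := by
  constructor
  · intro hx
    refine Submodule.smul_induction_on hx ?_ ?_
    · intro r hr n _
      have : ∀ n : M', r • n ∈ I • (⊤ : Submodule C' M') := by
        refine Submodule.span_induction (p := fun r _ => ∀ n : M', r • n ∈ I • (⊤ : Submodule C' M'))
          ?_ ?_ ?_ ?_ hr
        · rintro _ ⟨c, hc, rfl⟩ n
          rw [algebraMap_smul]
          exact Submodule.smul_mem_smul hc trivial
        · intro n; simp
        · intro r s _ _ h1 h2 n
          rw [add_smul]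
          exact Submodule.add_mem _ (h1 n) (h2 n)
        · intro a r _ h1 n
          rw [smul_eq_mul, mul_comm, mul_smul]
          exact h1 _
      exact this n
    · intro x y hx hy
      exact Submodule.add_mem _ hx hy
  · intro hx
    refine Submodule.smul_induction_on hx ?_ ?_
    · intro c hc n _
      rw [← algebraMap_smul A' c n]
      exact Submodule.smul_mem_smul (Ideal.mem_map_of_mem _ hc) trivial
    · intro x y hx hy
      exact Submodule.add_mem _ hx hy

variable (J : Ideal C')

/-- the natural map `M' ⊗ J → M'`. -/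
noncomputable def iot : M' ⊗[C'] ↥J →ₗ[C'] M' :=
  (TensorProduct.rid C' M').toLinearMap ∘ₗ LinearMap.lTensor M' (Submodule.subtype J)

lemma iot_apply (z : M' ⊗[C'] ↥J) :
    iot J z = TensorProduct.rid C' M' (LinearMap.lTensor M' (Submodule.subtype J) z) := rfl

@[simp] lemma iot_tmul (x : M') (j : ↥J) : iot J (x ⊗ₜ[C'] j) = (j : C') • x := by
  simp [iot]

lemma iot_smul (a : A') (z : M' ⊗[C'] ↥J) : iot J (a • z) = a • iot J z := by
  induction z using TensorProduct.induction_on with
  | zero => simp
  | tmul x j =>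
    rw [TensorProduct.smul_tmul', iot_tmul, iot_tmul, smul_comm]
  | add x y hx hy => rw [smul_add, map_add, hx, hy, map_add, smul_add]

lemma range_iot (x : M') : (∃ z, iot J z = x) ↔ x ∈ J • (⊤ : Submodule C' M') := by
  constructor
  · rintro ⟨z, rfl⟩
    induction z using TensorProduct.induction_on with
    | zero => simp
    | tmul x j =>
      rw [iot_tmul]
      exact Submodule.smul_mem_smul j.2 trivial
    | add x y hx hy =>
      rw [map_add]
      exact Submodule.add_mem _ hx hy
  · intro hx
    refine Submodule.smul_induction_on hx ?_ ?_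
    · intro c hc n _
      exact ⟨n ⊗ₜ ⟨c, hc⟩, by simp⟩
    · rintro x y ⟨z, rfl⟩ ⟨w, rfl⟩
      exact ⟨z + w, map_add _ _ _⟩

lemma iot_injective [Module.Flat C' M'] : Function.Injective (iot (M' := M') J) := by
  unfold iot
  rw [LinearMap.coe_comp]
  exact (TensorProduct.rid C' M').injective.comp
    (Module.Flat.lTensor_preserves_injective_linearMap _ Subtype.val_injective)

end general

section main

variable {C' : Type u} [CommRing C'] [IsLocalRing C']
  (J : Ideal C') (hJ : IsLocalRing.maximalIdeal C' * J = ⊥)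
  {A' : Type u} [CommRing A'] [Algebra C' A'] {M' : Type u} [AddCommGroup M'] [Module A' M']
  [Module C' M'] [IsScalarTower C' A' M']

variable (C' A' M') in
/-- the submodule `m M'`. -/
abbrev Nm : Submodule A' M' :=
  ((IsLocalRing.maximalIdeal C').map (algebraMap C' A')) • (⊤ : Submodule A' M')

/-- the map `M' ⊗ J → M₀ ⊗ J`. -/
noncomputable def TT : M' ⊗[C'] ↥J →ₗ[C'] (M' ⧸ Nm C' A' M') ⊗[C'] ↥J :=
  LinearMap.rTensor ↥J ((Submodule.mkQ (Nm C' A' M')).restrictScalars C')

@[simp] lemma TT_tmul (x : M') (j : ↥J) :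
    TT (A' := A') J (x ⊗ₜ[C'] j) = (Submodule.mkQ (Nm C' A' M') x) ⊗ₜ[C'] j := by
  simp [TT]

lemma TT_smul (a : A') (z : M' ⊗[C'] ↥J) :
    TT (A' := A') J (a • z) = a • TT (A' := A') J z := by
  induction z using TensorProduct.induction_on with
  | zero => simp
  | tmul x j =>
    rw [TensorProduct.smul_tmul', TT_tmul, TT_tmul, TensorProduct.smul_tmul', map_smul]
  | add x y hx hy => rw [smul_add, map_add, hx, hy, map_add, smul_add]

include hJ in
lemma smul_J_eq_zero {c : C'} (hc : c ∈ IsLocalRing.maximalIdeal C') (j : ↥J) : c • j = 0 := by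
  ext
  have : c * (j : C') ∈ IsLocalRing.maximalIdeal C' * J := Ideal.mul_mem_mul hc j.2
  rw [hJ] at this
  simpa using this

include hJ in
lemma smul_M0J_eq_zero {c : C'} (hc : c ∈ IsLocalRing.maximalIdeal C')
    (w : (M' ⧸ Nm C' A' M') ⊗[C'] ↥J) : c • w = 0 := by
  induction w using TensorProduct.induction_on with
  | zero => simp
  | tmul x j => rw [TensorProduct.smul_tmul', TensorProduct.smul_tmul, smul_J_eq_zero J hJ hc,
      TensorProduct.tmul_zero]
  | add x y hx hy => rw [smul_add, hx, hy, add_zero]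

lemma TT_surjective : Function.Surjective (TT (A' := A') (M' := M') J) :=
  LinearMap.rTensor_surjective _ (Submodule.mkQ_surjective _)

include hJ in
lemma rTensor_subtype_eq_zero (w : ↥(Nm C' A' M') ⊗[C'] ↥J) :
    LinearMap.rTensor ↥J ((Nm C' A' M').subtype.restrictScalars C') w = 0 := by
  induction w using TensorProduct.induction_on with
  | zero => simp
  | tmul n j =>
    rw [LinearMap.rTensor_tmul]
    change (n : M') ⊗ₜ[C'] j = 0
    have hn := (mem_map_smul_top_iff _ _).mp n.2
    refine Submodule.smul_induction_on hn ?_ ?_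
    · intro c hc x _
      rw [TensorProduct.smul_tmul, smul_J_eq_zero J hJ hc, TensorProduct.tmul_zero]
    · intro x y hx hy
      rw [TensorProduct.add_tmul, hx, hy, add_zero]
  | add x y hx hy =>
    rw [map_add, hx, hy, add_zero]

include hJ in
lemma TT_injective : Function.Injective (TT (A' := A') (M' := M') J) := by
  rw [← LinearMap.ker_eq_bot, LinearMap.ker_eq_bot']
  intro z hz
  have hex : Function.Exact ((Nm C' A' M').subtype.restrictScalars C')
      ((Submodule.mkQ (Nm C' A' M')).restrictScalars C') :=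
    LinearMap.exact_subtype_mkQ (Nm C' A' M')
  have hex2 := rTensor_exact ↥J hex (Submodule.mkQ_surjective _)
  obtain ⟨w, rfl⟩ := (hex2 z).mp hz
  exact rTensor_subtype_eq_zero J hJ w

variable (hJne : J ≠ ⊤)

include hJ hJne in
lemma JJ_eq_bot :
    (J.map (algebraMap C' A')) • ((J.map (algebraMap C' A')) • (⊤ : Submodule A' M')) = ⊥ := by
  have h1 : J * J = ⊥ := by
    rw [← le_bot_iff, ← hJ]
    exact Ideal.mul_mono_left (IsLocalRing.le_maximalIdeal hJne)
  rw [← Submodule.mul_smul, ← Ideal.map_mul, h1, Ideal.map_bot, Submodule.bot_smul]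

section sigma

variable (σ : M' →ₗ[A'] M')
  (hσ : ∀ x : M', σ x - x ∈ (J.map (algebraMap C' A')) • (⊤ : Submodule A' M'))

include hJ hJne hσ in
lemma sigma_fix {y : M'} (hy : y ∈ (J.map (algebraMap C' A')) • (⊤ : Submodule A' M')) :
    σ y = y := by
  rw [← sub_eq_zero]
  refine Submodule.smul_induction_on hy ?_ ?_
  · intro r hr n _
    have h1 : σ (r • n) - r • n = r • (σ n - n) := by rw [map_smul, smul_sub]
    have h2 : r • (σ n - n) ∈ (J.map (algebraMap C' A')) •
        ((J.map (algebraMap C' A')) • (⊤ : Submodule A' M')) :=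
      Submodule.smul_mem_smul hr (hσ n)
    rw [JJ_eq_bot J hJ hJne] at h2
    rw [h1]
    simpa using h2
  · intro x y hx hy
    rw [map_add, add_sub_add_comm, hx, hy, add_zero]

include hJ hJne hσ in
lemma sigma_bijective : Function.Bijective σ := by
  constructor
  · rw [← LinearMap.ker_eq_bot, LinearMap.ker_eq_bot']
    intro d hd
    have h1 : d ∈ (J.map (algebraMap C' A')) • (⊤ : Submodule A' M') := by
      have := hσ d
      rw [hd, zero_sub] at this
      simpa using this
    rw [← sigma_fix J hJ hJne σ hσ h1, hd]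
  · intro y
    refine ⟨y - (σ y - y), ?_⟩
    rw [map_sub, sigma_fix J hJ hJne σ hσ (hσ y)]
    abel

variable [Module.Flat C' M']

include hσ in
lemma exists_z (x : M') : ∃ z : M' ⊗[C'] ↥J, iot J z = σ x - x :=
  (range_iot J _).mpr ((mem_map_smul_top_iff J _).mp (hσ x))

/-- the element of `M' ⊗ J` corresponding to `σ x - x`. -/
noncomputable def zof (x : M') : M' ⊗[C'] ↥J := (exists_z J σ hσ x).choose

lemma zof_spec (x : M') : iot J (zof J σ hσ x) = σ x - x := (exists_z J σ hσ x).choose_spec

lemma zof_unique {x : M'} {z : M' ⊗[C'] ↥J} (hz : iot J z = σ x - x) : z = zof J σ hσ x :=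
  iot_injective J (hz.trans (zof_spec J σ hσ x).symm)

/-- the map `τ₀`. -/
noncomputable def tau0 : M' →ₗ[A'] (M' ⧸ Nm C' A' M') ⊗[C'] ↥J where
  toFun x := TT (A' := A') J (zof J σ hσ x)
  map_add' x y := by
    rw [← map_add]
    congr 1
    symm
    apply zof_unique
    rw [map_add, zof_spec, zof_spec, map_add]
    abel
  map_smul' a x := by
    rw [RingHom.id_apply, ← TT_smul]
    congr 1
    symm
    apply zof_unique
    rw [iot_smul, zof_spec, map_smul, smul_sub]

lemma tau0_apply (x : M') : tau0 J σ hσ x = TT (A' := A') J (zof J σ hσ x) := rfl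

include hJ in
lemma Nm_le_ker_tau0 : Nm C' A' M' ≤ LinearMap.ker (tau0 J σ hσ) := by
  intro x hx
  rw [LinearMap.mem_ker]
  have hx' := (mem_map_smul_top_iff _ _).mp hx
  refine Submodule.smul_induction_on hx' ?_ ?_
  · intro c hc n _
    rw [← algebraMap_smul A' c n, map_smul, algebraMap_smul]
    exact smul_M0J_eq_zero J hJ hc _
  · intro x y hx hy
    rw [map_add, hx, hy, add_zero]

/-- the map `τ`. -/
noncomputable def tau : (M' ⧸ Nm C' A' M') →ₗ[A'] (M' ⧸ Nm C' A' M') ⊗[C'] ↥J :=
  (Nm C' A' M').liftQ (tau0 J σ hσ) (Nm_le_ker_tau0 J hJ σ hσ)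

lemma tau_mkQ (x : M') :
    tau J hJ σ hσ (Submodule.mkQ (Nm C' A' M') x) = TT (A' := A') J (zof J σ hσ x) := by
  rw [Submodule.mkQ_apply]
  exact Submodule.liftQ_apply _ _ _

end sigma

section part2

/-- `TT` as an equivalence. -/
noncomputable def Tequiv : (M' ⊗[C'] ↥J) ≃ₗ[C'] (M' ⧸ Nm C' A' M') ⊗[C'] ↥J :=
  LinearEquiv.ofBijective (TT (A' := A') J) ⟨TT_injective J hJ, TT_surjective J⟩

lemma Tequiv_apply (z : M' ⊗[C'] ↥J) : Tequiv (A' := A') J hJ z = TT (A' := A') J z := rfl

lemma Tequiv_symm_smul (a : A') (w : (M' ⧸ Nm C' A' M') ⊗[C'] ↥J) :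
    (Tequiv (A' := A') J hJ).symm (a • w) = a • (Tequiv (A' := A') J hJ).symm w := by
  apply (Tequiv (A' := A') J hJ).injective
  rw [LinearEquiv.apply_symm_apply, Tequiv_apply, TT_smul, ← Tequiv_apply J hJ,
    LinearEquiv.apply_symm_apply]

variable (τ : (M' ⧸ Nm C' A' M') →ₗ[A'] (M' ⧸ Nm C' A' M') ⊗[C'] ↥J)

/-- the automorphism attached to `τ`. -/
noncomputable def sig : M' →ₗ[A'] M' where
  toFun x := x + iot J ((Tequiv (A' := A') J hJ).symm (τ (Submodule.mkQ _ x)))
  map_add' x y := by
    simp only [map_add]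
    abel
  map_smul' a x := by
    simp only [map_smul, RingHom.id_apply, Tequiv_symm_smul, iot_smul, smul_add]

lemma sig_apply (x : M') :
    sig J hJ τ x = x + iot J ((Tequiv (A' := A') J hJ).symm (τ (Submodule.mkQ _ x))) := rfl

end part2

end main


/-- Let C' be a local Artin ring with maximal ideal m, J ⊊ C' a proper ideal with mJ = 0, A' a
C'-algebra, M' an A'-module flat over C', and M₀ = M'/mM'. Then (1) every A'-linear endomorphism σ
of M' that is the identity modulo JM' is bijective, and there is exactly one A'-linear τ : M₀ → M₀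
⊗_{C'} J such that, for all x ∈ M' and all z ∈ M' ⊗_{C'} J mapping to σ(x) − x in M', the image of z
in M₀ ⊗_{C'} J is τ applied to the class of x; and (2) every A'-linear τ : M₀ → M₀ ⊗_{C'} J comes in
this way from some such σ. Thus the automorphisms of the extension M' inducing the identity on
M'/JM' correspond to Hom(M₀, M₀ ⊗ J). -/
theorem result (C' : Type u) [CommRing C'] [IsLocalRing C']
    [IsArtinianRing C'] (J : Ideal C') (hJ : IsLocalRing.maximalIdeal C' * J = ⊥) (hJne : J ≠ ⊤)
    (A' : Type u) [CommRing A'] [Algebra C' A'] (M' : Type u) [AddCommGroup M'] [Module A' M'] [Module C' M']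
    [IsScalarTower C' A' M'] [Module.Flat C' M'] :
    (∀ σ : M' →ₗ[A'] M', (∀ x : M', σ x - x ∈ (J.map (algebraMap C' A')) • (⊤ : Submodule A' M')) →
      Function.Bijective σ ∧
        ∃! τ : (M' ⧸ ((IsLocalRing.maximalIdeal C').map (algebraMap C' A')) • (⊤ : Submodule A' M')) →ₗ[A'] ((M' ⧸ ((IsLocalRing.maximalIdeal C').map (algebraMap C' A')) • (⊤ : Submodule A' M')) ⊗[C'] ↥J),
          (∀ (x : M') (z : M' ⊗[C'] ↥J), TensorProduct.rid C' M' (LinearMap.lTensor M' (Submodule.subtype J) z) = σ x - x →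
            LinearMap.rTensor ↥J ((Submodule.mkQ (((IsLocalRing.maximalIdeal C').map (algebraMap C' A')) • (⊤ : Submodule A' M'))).restrictScalars C') z =
              τ (Submodule.mkQ _ x))) ∧
    (∀ τ : (M' ⧸ ((IsLocalRing.maximalIdeal C').map (algebraMap C' A')) • (⊤ : Submodule A' M')) →ₗ[A'] ((M' ⧸ ((IsLocalRing.maximalIdeal C').map (algebraMap C' A')) • (⊤ : Submodule A' M')) ⊗[C'] ↥J),
      ∃ σ : M' →ₗ[A'] M', (∀ x : M', σ x - x ∈ (J.map (algebraMap C' A')) • (⊤ : Submodule A' M')) ∧
          (∀ (x : M') (z : M' ⊗[C'] ↥J), TensorProduct.rid C' M' (LinearMap.lTensor M' (Submodule.subtype J) z) = σ x - x →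
            LinearMap.rTensor ↥J ((Submodule.mkQ (((IsLocalRing.maximalIdeal C').map (algebraMap C' A')) • (⊤ : Submodule A' M'))).restrictScalars C') z =
              τ (Submodule.mkQ _ x))) := by
  refine ⟨fun σ hσ => ⟨sigma_bijective J hJ hJne σ hσ, tau J hJ σ hσ, ?_, ?_⟩, fun τ => ?_⟩
  · intro x z hz
    have hz' : iot J z = σ x - x := hz
    rw [zof_unique J σ hσ hz', tau_mkQ]
    rfl
  · intro τ' hτ'
    apply LinearMap.ext
    intro y
    obtain ⟨x, rfl⟩ := Submodule.mkQ_surjective _ y
    rw [tau_mkQ]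
    exact (hτ' x (zof J σ hσ x) (zof_spec J σ hσ x)).symm
  · refine ⟨sig J hJ τ, ?_, ?_⟩
    · intro x
      rw [mem_map_smul_top_iff, ← range_iot, sig_apply]
      exact ⟨_, (add_sub_cancel_left _ _).symm⟩
    · intro x z hz
      have hz' : iot J z = sig J hJ τ x - x := hz
      rw [sig_apply, add_sub_cancel_left] at hz'
      have := iot_injective J hz'
      rw [this]
      exact (Tequiv (A' := A') J hJ).apply_symm_apply _

end Groth.Agent.S11469
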