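import Groth.Statements.S1147
import Mathlib
import Groth.Agent.Lib.Helper22QFSlice

set_option autoImplicit false
universe u
open Desc

namespace Groth.Agent.S1147

open TensorProduct
open Groth.Agent.Lib.Helper22.QFSlice

/-- base change along a surjection: `B → D ⊗[A] B` is surjective -/
theorem includeRight_surjective {A D B : Type*} [CommRing A] [CommRing D] [CommRing B]
    [Algebra A D] [Algebra A B] (hs : Function.Surjective (algebraMap A D)) :
    Function.Surjective (Algebra.TensorProduct.includeRight : B →ₐ[A] D ⊗[A] B) := by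
  intro x
  induction x using TensorProduct.induction_on with
  | zero => exact ⟨0, map_zero _⟩
  | tmul d b =>
    obtain ⟨a, rfl⟩ := hs d
    refine ⟨a • b, ?_⟩
    rw [Algebra.TensorProduct.includeRight_apply, Algebra.algebraMap_eq_smul_one,
      TensorProduct.smul_tmul]
  | add x y hx hy =>
    obtain ⟨x', rfl⟩ := hx
    obtain ⟨y', rfl⟩ := hy
    exact ⟨x' + y', map_add _ _ _⟩

/-- core contradiction: a domain `D`, not a field, in which every nonzero element divides a power
of `f`, has no faithfully flat finitely presented Jacobson algebra. -/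
theorem core (D B : Type u) [CommRing D] [IsDomain D] [CommRing B] [Algebra D B]
    [Module.FaithfullyFlat D B] [Algebra.FinitePresentation D B] [IsJacobsonRing B]
    (f : D) (hf : f ≠ 0) (star : ∀ r : D, r ≠ 0 → ∃ b n, r * b = f ^ n)
    (m : Ideal D) [hm : m.IsMaximal] (hm0 : m ≠ ⊥) : False := by
  haveI : m.IsPrime := hm.isPrime
  haveI : Nontrivial (m.Fiber B) := inferInstance
  obtain ⟨C', i1, i2, φ, hφ, hfl, P₁, hP₁, hP₁m, hQF⟩ := exists_qf_flat_slice m B
  haveI : IsJacobsonRing C' := hφ.isJacobsonRing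
  haveI : (⊥ : Ideal D).IsPrime := Ideal.isPrime_bot
  haveI : P₁.LiesOver m := ⟨hP₁m.symm⟩
  obtain ⟨q, hqP, hqprime, hqover⟩ :=
    Ideal.exists_ideal_le_liesOver_of_le (p := (⊥ : Ideal D)) (q := m) P₁ bot_le
  haveI : Algebra.QuasiFiniteAt D q := Algebra.QuasiFiniteAt.of_le hqP
  haveI halg : Algebra.IsAlgebraic D (C' ⧸ q) := isAlgebraic_quotient_of_quasiFiniteAt q
  -- `E = C' ⧸ q` is a Jacobson domain
  let E := C' ⧸ q
  haveI : IsDomain E := Ideal.Quotient.isDomain q
  have hinj : Function.Injective (algebraMap D E) := by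
    rw [injective_iff_map_eq_zero]
    intro d hd
    rw [IsScalarTower.algebraMap_apply D C' E, Ideal.Quotient.algebraMap_eq,
      Ideal.Quotient.eq_zero_iff_mem] at hd
    have : d ∈ q.under D := hd
    rw [← hqover.over] at this
    exact this
  have hfE : algebraMap D E f ≠ 0 := fun h => hf (hinj (h.trans (map_zero _).symm))
  -- a maximal ideal of `E` avoiding `f`
  have hjac : (⊥ : Ideal E).jacobson = ⊥ :=
    (isJacobsonRing_iff_prime_eq.mp inferInstance) ⊥ Ideal.isPrime_bot
  obtain ⟨M, hM, hfM⟩ : ∃ M : Ideal E, M.IsMaximal ∧ algebraMap D E f ∉ M := by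
    by_contra hcon
    push Not at hcon
    apply hfE
    have : algebraMap D E f ∈ (⊥ : Ideal E).jacobson := by
      rw [Ideal.jacobson, Ideal.mem_sInf]
      intro J hJ
      exact hcon J hJ.2
    rw [hjac] at this
    exact this
  -- `M = ⊥`
  have hM0 : M = ⊥ := by
    rw [eq_bot_iff]
    intro e he
    by_contra he0
    have he0' : e ≠ 0 := he0
    obtain ⟨r, hr, hdvd⟩ := (halg.isAlgebraic e).exists_nonzero_dvd
      (mem_nonZeroDivisors_of_ne_zero he0')
    obtain ⟨b, n, hbn⟩ := star r hr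
    have h1 : algebraMap D E r ∈ M := M.mem_of_dvd hdvd he
    have h2 : algebraMap D E (f ^ n) ∈ M := by
      rw [← hbn, map_mul]
      exact M.mul_mem_right _ h1
    rw [map_pow] at h2
    exact hfM (hM.isPrime.mem_of_pow_mem n h2)
  -- hence `q` is maximal, so `q = P₁`
  have hqmax : q.IsMaximal := by
    rw [← Ideal.bot_quotient_isMaximal_iff]
    exact hM0 ▸ hM
  have hqP₁ : q = P₁ := hqmax.eq_of_le hP₁.ne_top hqP
  apply hm0
  rw [← hP₁m, ← hqP₁, ← hqover.over]

/-- Let A → B be a faithfully flat ring map of finite presentation. If B is a Jacobson ring then so is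
A. (This is the affine descent direction of the statement that the Jacobson property is fppf local.) -/
theorem result (A B : Type u) [CommRing A] [CommRing B] [Algebra A B]
    [Module.FaithfullyFlat A B] [Algebra.FinitePresentation A B] [IsJacobsonRing B] : IsJacobsonRing A := by
  rw [isJacobsonRing_iff_prime_eq]
  intro P hP
  by_contra hne
  obtain ⟨f, hfJ, hfP⟩ : ∃ f, f ∈ P.jacobson ∧ f ∉ P := by
    by_contra h
    push Not at h
    exact hne (le_antisymm h Ideal.le_jacobson)
  have hdisj : Disjoint (P : Set A) (Submonoid.powers f) := by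
    rw [Set.disjoint_left]
    rintro x hx ⟨n, rfl⟩
    exact hfP (hP.mem_of_pow_mem n hx)
  -- a prime maximal among the ideals disjoint from the powers of `f`
  obtain ⟨p₁, hPp₁, hp₁⟩ := zorn_le_nonempty₀
    {p : Ideal A | Disjoint (p : Set A) (Submonoid.powers f)}
    (fun c hc hc' x hx => by
      rcases isEmpty_or_nonempty c with hce | hcne
      · exact ⟨x, hc hx, fun J hJ => isEmptyElim (⟨J, hJ⟩ : c)⟩
      refine ⟨sSup c, Set.disjoint_left.mpr fun y hy => ?_, fun _ => le_sSup⟩
      have ⟨p, hp⟩ := (Submodule.mem_iSup_of_directed _ hc'.directed).mp (sSup_eq_iSup' c ▸ hy)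
      exact Set.disjoint_left.mp (hc p.2) hp) P hdisj
  haveI hp₁prime : p₁.IsPrime :=
    Ideal.isPrime_of_maximally_disjoint _ _ hp₁.1 (fun _ => hp₁.not_prop_of_gt)
  have hfp₁ : f ∉ p₁ := fun h =>
    Set.disjoint_left.mp hp₁.1 h (Submonoid.mem_powers f)
  have star : ∀ r : A, r ∉ p₁ → ∃ b n, r * b - f ^ n ∈ p₁ := by
    intro r hr
    have hlt : p₁ < p₁ ⊔ Ideal.span {r} := Submodule.lt_sup_iff_notMem.mpr (by
      simpa [Ideal.mem_span_singleton_self] using fun h : Ideal.span {r} ≤ p₁ =>
        hr (h (Ideal.mem_span_singleton_self r)))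
    have hnd : ¬ Disjoint ((p₁ ⊔ Ideal.span {r} : Ideal A) : Set A) (Submonoid.powers f) :=
      hp₁.not_prop_of_gt hlt
    rw [Set.not_disjoint_iff] at hnd
    obtain ⟨x, hx, ⟨n, rfl⟩⟩ := hnd
    obtain ⟨i, hi, y, hy, hxy⟩ := Submodule.mem_sup.mp hx
    obtain ⟨b, rfl⟩ := Ideal.mem_span_singleton'.mp hy
    refine ⟨b, n, ?_⟩
    have : r * b - f ^ n = -i := by
      have : f ^ n = i + b * r := hxy.symm
      rw [this]; ring
    rw [this]
    exact p₁.neg_mem hi
  have hnotmax : ¬ p₁.IsMaximal := by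
    intro hmax
    apply hfp₁
    have : f ∈ sInf {J : Ideal A | P ≤ J ∧ J.IsMaximal} := hfJ
    rw [Ideal.mem_sInf] at this
    exact this ⟨hPp₁, hmax⟩
  -- pass to `D = A ⧸ p₁`
  let D := A ⧸ p₁
  haveI : IsDomain D := Ideal.Quotient.isDomain p₁
  let BD := D ⊗[A] B
  haveI : IsJacobsonRing BD :=
    isJacobsonRing_of_surjective ⟨(Algebra.TensorProduct.includeRight : B →ₐ[A] D ⊗[A] B).toRingHom,
      includeRight_surjective Ideal.Quotient.mk_surjective⟩
  obtain ⟨m, hm⟩ := Ideal.exists_maximal D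
  have hm0 : m ≠ ⊥ := by
    rintro rfl
    exact hnotmax (Ideal.bot_quotient_isMaximal_iff p₁ |>.mp hm)
  refine core D BD (Ideal.Quotient.mk p₁ f) ?_ ?_ m hm0
  · rw [Ne, Ideal.Quotient.eq_zero_iff_mem]; exact hfp₁
  · intro r hr
    obtain ⟨r, rfl⟩ := Ideal.Quotient.mk_surjective r
    rw [Ne, Ideal.Quotient.eq_zero_iff_mem] at hr
    obtain ⟨b, n, hbn⟩ := star r hr
    refine ⟨Ideal.Quotient.mk p₁ b, n, ?_⟩
    rw [← map_mul, ← map_pow, ← sub_eq_zero, ← map_sub, Ideal.Quotient.eq_zero_iff_mem]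
    exact hbn

end Groth.Agent.S1147
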