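import Groth.Statements.S11470
import Mathlib

set_option autoImplicit false
universe u
open Curves

namespace Groth.Agent.S11470

open Polynomial in
theorem poly_inv {k : Type u} [Field k] : ∀ (n : ℕ) (P : k[X]), P.natDegree ≤ n →
    P.comp (1 - X) = P → ∃ Q : k[X], P = Q.comp (X * (X - 1)) := by
  intro n
  induction n using Nat.strong_induction_on with
  | _ n ih =>
    intro P hdeg hP
    by_cases hn : P.natDegree = 0
    · refine ⟨P, ?_⟩
      rw [Polynomial.eq_C_of_natDegree_eq_zero hn]; simp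
    · have h0 : (P - C (P.eval 0)).IsRoot 0 := by simp [IsRoot]
      have hP1 : P.eval 1 = P.eval 0 := by
        have := congrArg (eval 0) hP
        simpa [eval_comp] using this
      have h1 : (P - C (P.eval 0)).IsRoot 1 := by simp [IsRoot, hP1]
      have hd0 : X ∣ P - C (P.eval 0) := by
        have := dvd_iff_isRoot.mpr h0
        simpa using this
      have hd1 : X - 1 ∣ P - C (P.eval 0) := by
        have := dvd_iff_isRoot.mpr h1
        simpa using this
      have hcop : IsCoprime (X : k[X]) (X - 1) := ⟨1, -1, by ring⟩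
      obtain ⟨Q₁, hQ₁⟩ := hcop.mul_dvd hd0 hd1
      have hD0 : (X * (X - 1) : k[X]) ≠ 0 := by
        apply mul_ne_zero X_ne_zero
        exact X_sub_C_ne_zero (1 : k) |> fun h => by simpa using h
      have hQ₁inv : Q₁.comp (1 - X) = Q₁ := by
        have h2 := congrArg (fun p : k[X] => p.comp (1 - X)) hQ₁
        simp only [sub_comp, C_comp, hP, mul_comp, X_comp, one_comp] at h2
        rw [hQ₁] at h2
        have h3 : X * (X - 1) * Q₁ = X * (X - 1) * Q₁.comp (1 - X) := by
          rw [h2]; ring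
        exact (mul_left_cancel₀ hD0 h3).symm
      have hQ₁ne : Q₁ ≠ 0 := by
        rintro rfl
        rw [mul_zero, sub_eq_zero] at hQ₁
        apply hn
        rw [hQ₁, natDegree_C]
      have hdegQ : Q₁.natDegree < n := by
        have h4 : (P - C (P.eval 0)).natDegree = P.natDegree := natDegree_sub_C
        rw [hQ₁, natDegree_mul hD0 hQ₁ne] at h4
        have h5 : (X * (X - 1) : k[X]).natDegree = 2 := by
          rw [natDegree_mul X_ne_zero (by simpa using X_sub_C_ne_zero (1 : k))]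
          have : (X - 1 : k[X]).natDegree = 1 := by simpa using natDegree_X_sub_C (1 : k)
          rw [natDegree_X, this]
        omega
      obtain ⟨Q₂, hQ₂⟩ := ih Q₁.natDegree hdegQ Q₁ le_rfl hQ₁inv
      refine ⟨C (P.eval 0) + X * Q₂, ?_⟩
      rw [add_comp, C_comp, mul_comp, X_comp, ← hQ₂, ← hQ₁]
      ring


section main

variable {k : Type u} [Field k]

local notation "K" => RatFunc k
local notation "x" => (RatFunc.X : RatFunc k)

theorem x_ne : x ≠ 0 := RatFunc.X_ne_zero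

theorem x1_ne : x - 1 ≠ 0 := by
  have h : (Polynomial.X - Polynomial.C (1 : k) : Polynomial k) ≠ 0 := Polynomial.X_sub_C_ne_zero 1
  have := RatFunc.algebraMap_ne_zero h
  simpa [RatFunc.algebraMap_X, RatFunc.algebraMap_C] using this

theorem x1_ne' : 1 - x ≠ 0 := by
  intro h
  apply x1_ne (k := k)
  have : x - 1 = -(1 - x) := by ring
  rw [this, h, neg_zero]

/-- the invariant -/
noncomputable def jj (k : Type u) [Field k] : RatFunc k :=
  (256 : RatFunc k) * ((RatFunc.X : RatFunc k) ^ 2 - RatFunc.X + 1) ^ 3 /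
        ((RatFunc.X : RatFunc k) ^ 2 * ((RatFunc.X : RatFunc k) - 1) ^ 2)

noncomputable def D1 (k : Type u) [Field k] : RatFunc k := RatFunc.X * (RatFunc.X - 1)
noncomputable def D2 (k : Type u) [Field k] : RatFunc k := (1 - RatFunc.X) / RatFunc.X ^ 2
noncomputable def D3 (k : Type u) [Field k] : RatFunc k := RatFunc.X / (RatFunc.X - 1) ^ 2

theorem D1_ne : D1 k ≠ 0 := mul_ne_zero x_ne x1_ne
theorem D2_ne : D2 k ≠ 0 := div_ne_zero x1_ne' (pow_ne_zero _ x_ne)
theorem D3_ne : D3 k ≠ 0 := div_ne_zero x_ne (pow_ne_zero _ x1_ne)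

theorem two56_ne (h2 : (2 : k) ≠ 0) : (256 : K) ≠ 0 := by
  have h : (2 : K) ≠ 0 := by
    have h3 : algebraMap k K 2 ≠ algebraMap k K 0 := (algebraMap k K).injective.ne h2
    rwa [map_ofNat, map_zero] at h3
  have : (256 : K) = 2 ^ 8 := by norm_num
  rw [this]
  exact pow_ne_zero _ h

noncomputable def e1 (k : Type u) [Field k] : RatFunc k := jj k / 256 - 3

theorem cubic1 (h2 : (2 : k) ≠ 0) : (D1 k) ^ 3 = e1 k * (D1 k) ^ 2 - 3 * D1 k - 1 := by
  have hx := x_ne (k := k)
  have hx1 := x1_ne (k := k)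
  have h256 := two56_ne h2
  unfold e1 jj D1
  field_simp
  ring

theorem cubic2 (h2 : (2 : k) ≠ 0) : (D2 k) ^ 3 = e1 k * (D2 k) ^ 2 - 3 * D2 k - 1 := by
  have hx := x_ne (k := k)
  have hx1 := x1_ne (k := k)
  have h256 := two56_ne h2
  unfold e1 jj D2
  field_simp
  ring

theorem cubic3 (h2 : (2 : k) ≠ 0) : (D3 k) ^ 3 = e1 k * (D3 k) ^ 2 - 3 * D3 k - 1 := by
  have hx := x_ne (k := k)
  have hx1 := x1_ne (k := k)
  have h256 := two56_ne h2
  unfold e1 jj D3
  field_simp
  ring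


noncomputable def pw (k : Type u) [Field k] (n : ℤ) : RatFunc k := (D1 k) ^ n + (D2 k) ^ n + (D3 k) ^ n

theorem zrec {T e : K} (hT : T ≠ 0) (hc : T ^ 3 = e * T ^ 2 - 3 * T - 1) (n : ℤ) :
    T ^ (n + 3) = e * T ^ (n + 2) - 3 * T ^ (n + 1) - T ^ n := by
  rw [zpow_add₀ hT, zpow_add₀ hT n 2, zpow_add₀ hT n 1]
  have h3 : T ^ (3 : ℤ) = T ^ 3 := by norm_cast
  have h2 : T ^ (2 : ℤ) = T ^ 2 := by norm_cast
  rw [h3, h2, zpow_one, hc]
  ring

theorem pw_rec (h2 : (2 : k) ≠ 0) (n : ℤ) :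
    pw k (n + 3) = e1 k * pw k (n + 2) - 3 * pw k (n + 1) - pw k n := by
  unfold pw
  rw [zrec D1_ne (cubic1 h2) n, zrec D2_ne (cubic2 h2) n, zrec D3_ne (cubic3 h2) n]
  ring

theorem pw_zero : pw k 0 = 3 := by
  unfold pw
  simp only [zpow_zero]
  norm_num

theorem pw_one (h2 : (2 : k) ≠ 0) : pw k 1 = e1 k := by
  have hx := x_ne (k := k)
  have hx1 := x1_ne (k := k)
  have h256 := two56_ne h2
  unfold pw e1 jj D1 D2 D3
  simp only [zpow_one]
  field_simp
  ring

theorem pw_two (h2 : (2 : k) ≠ 0) : pw k 2 = e1 k ^ 2 - 6 := by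
  have hx := x_ne (k := k)
  have hx1 := x1_ne (k := k)
  have h256 := two56_ne h2
  have h22 : ∀ T : K, T ^ (2 : ℤ) = T ^ 2 := fun T => by norm_cast
  unfold pw e1 jj D1 D2 D3
  simp only [h22]
  field_simp
  ring

/-- the subalgebra k[j] -/
noncomputable def A (k : Type u) [Field k] : Subalgebra k (RatFunc k) := Algebra.adjoin k {jj k}

theorem jj_mem : jj k ∈ A k := Algebra.subset_adjoin (Set.mem_singleton _)

theorem ofNat_mem (n : ℕ) : ((n : ℕ) : K) ∈ A k := by
  have : ((n : ℕ) : K) = algebraMap k K n := by simp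
  rw [this]
  exact Subalgebra.algebraMap_mem _ _

theorem e1_mem : e1 k ∈ A k := by
  unfold e1
  apply Subalgebra.sub_mem
  · have : jj k / 256 = algebraMap k K (256⁻¹ : k) * jj k := by
      rw [map_inv₀, map_ofNat]
      ring
    rw [this]
    exact Subalgebra.mul_mem _ (Subalgebra.algebraMap_mem _ _) jj_mem
  · exact_mod_cast ofNat_mem (k := k) 3

theorem pw_mem_nat (h2 : (2 : k) ≠ 0) : ∀ n : ℕ, pw k n ∈ A k ∧ pw k (n + 1) ∈ A k ∧ pw k (n + 2) ∈ A k := by
  intro n
  induction n with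
  | zero =>
    refine ⟨?_, ?_, ?_⟩
    · simp only [Nat.cast_zero]; rw [pw_zero]; exact_mod_cast ofNat_mem (k := k) 3
    · simp only [Nat.cast_zero, zero_add]; rw [pw_one h2]; exact e1_mem
    · simp only [Nat.cast_zero, zero_add]; rw [pw_two h2]
      exact Subalgebra.sub_mem _ (Subalgebra.pow_mem _ e1_mem 2) (by exact_mod_cast ofNat_mem (k := k) 6)
  | succ n ih =>
    obtain ⟨h0, h1, h2'⟩ := ih
    refine ⟨?_, ?_, ?_⟩
    · push_cast; exact h1
    · push_cast
      have : (n : ℤ) + 1 + 1 = n + 2 := by ring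
      rw [this]; exact h2'
    · push_cast
      have : (n : ℤ) + 1 + 2 = n + 3 := by ring
      rw [this, pw_rec h2]
      refine Subalgebra.sub_mem _ (Subalgebra.sub_mem _ (Subalgebra.mul_mem _ e1_mem h2') ?_) h0
      exact Subalgebra.mul_mem _ (by exact_mod_cast ofNat_mem (k := k) 3) h1

theorem pw_mem_neg (h2 : (2 : k) ≠ 0) : ∀ n : ℕ, pw k (-(n : ℤ)) ∈ A k ∧ pw k (-(n : ℤ) + 1) ∈ A k ∧ pw k (-(n : ℤ) + 2) ∈ A k := by
  intro n
  induction n with
  | zero =>
    have := pw_mem_nat h2 0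
    simpa using this
  | succ n ih =>
    obtain ⟨h0, h1, h2'⟩ := ih
    refine ⟨?_, ?_, ?_⟩
    · -- p(m) = e1 p(m+2) - 3 p(m+1) - p(m+3), m = -(n+1)
      have hrec := pw_rec h2 (-((n + 1 : ℕ) : ℤ))
      have e3 : -((n + 1 : ℕ) : ℤ) + 3 = -(n : ℤ) + 2 := by push_cast; ring
      have e2 : -((n + 1 : ℕ) : ℤ) + 2 = -(n : ℤ) + 1 := by push_cast; ring
      have e1' : -((n + 1 : ℕ) : ℤ) + 1 = -(n : ℤ) := by push_cast; ring
      rw [e3, e2, e1'] at hrec
      have : pw k (-((n + 1 : ℕ) : ℤ)) = e1 k * pw k (-(n : ℤ) + 1) - 3 * pw k (-(n : ℤ)) - pw k (-(n : ℤ) + 2) := by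
        rw [hrec]; ring
      rw [this]
      refine Subalgebra.sub_mem _ (Subalgebra.sub_mem _ (Subalgebra.mul_mem _ e1_mem h1) ?_) h2'
      exact Subalgebra.mul_mem _ (by exact_mod_cast ofNat_mem (k := k) 3) h0
    · have : -((n + 1 : ℕ) : ℤ) + 1 = -(n : ℤ) := by push_cast; ring
      rw [this]; exact h0
    · have : -((n + 1 : ℕ) : ℤ) + 2 = -(n : ℤ) + 1 := by push_cast; ring
      rw [this]; exact h1

theorem pw_mem (h2 : (2 : k) ≠ 0) (n : ℤ) : pw k n ∈ A k := by
  rcases Int.le_total 0 n with h | h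
  · obtain ⟨m, rfl⟩ := Int.eq_ofNat_of_zero_le h
    exact (pw_mem_nat h2 m).1
  · obtain ⟨m, hm⟩ := Int.exists_eq_neg_ofNat h
    rw [hm]
    exact (pw_mem_neg h2 m).1


/-- the algebra B -/
noncomputable def B (k : Type u) [Field k] : Subalgebra k (RatFunc k) :=
  Algebra.adjoin k ({RatFunc.X, (RatFunc.X : RatFunc k)⁻¹, ((RatFunc.X : RatFunc k) - 1)⁻¹} : Set (RatFunc k))

theorem x_mem : x ∈ B k := Algebra.subset_adjoin (by simp)
theorem xinv_mem : x⁻¹ ∈ B k := Algebra.subset_adjoin (by simp)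
theorem x1inv_mem : (x - 1)⁻¹ ∈ B k := Algebra.subset_adjoin (by simp)

open Polynomial in
noncomputable def Dp (k : Type u) [Field k] : k[X] := X * (X - 1)

open Polynomial in
theorem aeval_Dp : aeval x (Dp k) = D1 k := by
  simp [Dp, D1]

open Polynomial in
theorem rep (b : K) (hb : b ∈ B k) : ∃ (P : k[X]) (n : ℕ), b = aeval x P / (D1 k) ^ n := by
  have hx := x_ne (k := k)
  have hx1 := x1_ne (k := k)
  have hD := D1_ne (k := k)
  unfold B at hb
  induction hb using Algebra.adjoin_induction with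
  | mem y hy =>
    simp only [Set.mem_insert_iff, Set.mem_singleton_iff] at hy
    rcases hy with rfl | rfl | rfl
    · exact ⟨X, 0, by simp⟩
    · refine ⟨X - 1, 1, ?_⟩
      simp only [map_sub, aeval_X, map_one, pow_one, D1]
      field_simp
    · refine ⟨X, 1, ?_⟩
      simp only [aeval_X, pow_one, D1]
      field_simp
  | algebraMap r => exact ⟨C r, 0, by simp⟩
  | add y z _ _ hy hz =>
    obtain ⟨P, n, rfl⟩ := hy
    obtain ⟨Q, m, rfl⟩ := hz
    refine ⟨P * (Dp k) ^ m + Q * (Dp k) ^ n, n + m, ?_⟩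
    simp only [map_add, map_mul, map_pow, aeval_Dp]
    field_simp
    ring
  | mul y z _ _ hy hz =>
    obtain ⟨P, n, rfl⟩ := hy
    obtain ⟨Q, m, rfl⟩ := hz
    refine ⟨P * Q, n + m, ?_⟩
    simp only [map_mul]
    field_simp
    ring

open Polynomial in
theorem aeval_div_pow (T : K) (hT : T ≠ 0) (Q : k[X]) (n : ℕ) :
    aeval T Q / T ^ n = ∑ j ∈ Finset.range (Q.natDegree + 1), Q.coeff j • T ^ ((j : ℤ) - n) := by
  rw [aeval_eq_sum_range, Finset.sum_div]
  refine Finset.sum_congr rfl fun j _ => ?_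
  rw [smul_div_assoc, zpow_sub₀ hT, zpow_natCast, zpow_natCast]

open Polynomial in
theorem forward (h2 : (2 : k) ≠ 0) (h3 : (3 : k) ≠ 0)
    (σ τ : RatFunc k ≃ₐ[k] RatFunc k) (hσ : σ RatFunc.X = (RatFunc.X : RatFunc k)⁻¹)
    (hτ : τ RatFunc.X = 1 - (RatFunc.X : RatFunc k)) (b : RatFunc k)
    (hb : b ∈ B k) (hσb : σ b = b) (hτb : τ b = b) : b ∈ A k := by
  have hx := x_ne (k := k)
  have hx1 := x1_ne (k := k)
  have hx1' := x1_ne' (k := k)
  have hD := D1_ne (k := k)
  obtain ⟨P, n, rfl⟩ := rep b hb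
  have hτD : τ (D1 k) = D1 k := by
    simp only [D1, map_mul, map_sub, map_one, hτ]
    ring
  have hσD : σ (D1 k) = D2 k := by
    simp only [D1, D2, map_mul, map_sub, map_one, hσ]
    field_simp
  have hτD2 : τ (D2 k) = D3 k := by
    simp only [D2, D3, map_div₀, map_pow, map_sub, map_one, hτ]
    have : (1 : K) - (1 - x) = x := by ring
    rw [this]
    have : ((1 : K) - x) ^ 2 = (x - 1) ^ 2 := by ring
    rw [this]
  -- P is τ-invariant
  have hPinv : P.comp (1 - X) = P := by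
    have h1 : τ (aeval x P) = aeval (1 - x) P := by
      have := Polynomial.aeval_algHom_apply (τ : K →ₐ[k] K) x P
      simp only [AlgEquiv.coe_toAlgHom] at this
      rw [← this, hτ]
    rw [map_div₀, map_pow, hτD, h1] at hτb
    have h4 : aeval (1 - x) P = aeval x P := by
      have hne : (D1 k) ^ n ≠ 0 := pow_ne_zero _ hD
      field_simp at hτb
      exact hτb
    have h5 : aeval x (P.comp (1 - X)) = aeval x P := by
      rw [aeval_comp]
      simpa using h4
    rw [RatFunc.aeval_X_left_eq_algebraMap, RatFunc.aeval_X_left_eq_algebraMap] at h5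
    exact RatFunc.algebraMap_injective k h5
  obtain ⟨Q, hQ⟩ := poly_inv _ P le_rfl hPinv
  have hPQ : aeval x P = aeval (D1 k) Q := by
    rw [hQ, aeval_comp]
    have : aeval x (X * (X - 1) : k[X]) = D1 k := aeval_Dp
    rw [this]
  rw [hPQ] at hσb hτb ⊢
  set b : K := aeval (D1 k) Q / (D1 k) ^ n with hbdef
  have hb2 : b = aeval (D2 k) Q / (D2 k) ^ n := by
    rw [← hσb, hbdef, map_div₀, map_pow, hσD]
    have := Polynomial.aeval_algHom_apply (σ : K →ₐ[k] K) (D1 k) Q
    simp only [AlgEquiv.coe_toAlgHom] at this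
    rw [← this, hσD]
  have hb3 : b = aeval (D3 k) Q / (D3 k) ^ n := by
    have h1 : τ b = aeval (D3 k) Q / (D3 k) ^ n := by
      rw [hb2, map_div₀, map_pow, hτD2]
      have := Polynomial.aeval_algHom_apply (τ : K →ₐ[k] K) (D2 k) Q
      simp only [AlgEquiv.coe_toAlgHom] at this
      rw [← this, hτD2]
    rw [← h1, hτb]
  have h3b : 3 * b = ∑ j ∈ Finset.range (Q.natDegree + 1), Q.coeff j • pw k ((j : ℤ) - n) := by
    have : 3 * b = aeval (D1 k) Q / (D1 k) ^ n + aeval (D2 k) Q / (D2 k) ^ n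
        + aeval (D3 k) Q / (D3 k) ^ n := by
      rw [← hb2, ← hb3, ← hbdef]; ring
    rw [this]
    rw [aeval_div_pow _ D1_ne, aeval_div_pow _ D2_ne, aeval_div_pow _ D3_ne,
      ← Finset.sum_add_distrib, ← Finset.sum_add_distrib]
    refine Finset.sum_congr rfl fun j _ => ?_
    unfold pw
    rw [smul_add, smul_add]
  have h3mem : 3 * b ∈ A k := by
    rw [h3b]
    refine Subalgebra.sum_mem _ fun j _ => ?_
    exact Subalgebra.smul_mem _ (pw_mem h2 _) _
  have : b = algebraMap k K (3⁻¹ : k) * (3 * b) := by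
    rw [map_inv₀, map_ofNat]
    have h3K : (3 : K) ≠ 0 := by
      have h : algebraMap k K 3 ≠ algebraMap k K 0 := (algebraMap k K).injective.ne h3
      rwa [map_ofNat, map_zero] at h
    field_simp
  rw [this]
  exact Subalgebra.mul_mem _ (Subalgebra.algebraMap_mem _ _) h3mem

theorem backward (h2 : (2 : k) ≠ 0)
    (σ τ : RatFunc k ≃ₐ[k] RatFunc k) (hσ : σ RatFunc.X = (RatFunc.X : RatFunc k)⁻¹)
    (hτ : τ RatFunc.X = 1 - (RatFunc.X : RatFunc k)) (b : RatFunc k)
    (hb : b ∈ A k) : b ∈ B k ∧ σ b = b ∧ τ b = b := by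
  have hx := x_ne (k := k)
  have hx1 := x1_ne (k := k)
  have hx1' := x1_ne' (k := k)
  have h256 := two56_ne h2
  unfold A at hb
  induction hb using Algebra.adjoin_induction with
  | mem y hy =>
    rw [Set.mem_singleton_iff] at hy
    subst hy
    refine ⟨?_, ?_, ?_⟩
    · have : jj k = algebraMap k K 256 * (x ^ 2 - x + algebraMap k K 1) ^ 3 * (x⁻¹) ^ 2 * ((x - 1)⁻¹) ^ 2 := by
        rw [map_ofNat, map_one]
        unfold jj
        field_simp
      rw [this]
      refine Subalgebra.mul_mem _ (Subalgebra.mul_mem _ (Subalgebra.mul_mem _ (Subalgebra.algebraMap_mem _ _) ?_) ?_) ?_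
      · exact Subalgebra.pow_mem _ (Subalgebra.add_mem _ (Subalgebra.sub_mem _ (Subalgebra.pow_mem _ x_mem 2) x_mem)
          (Subalgebra.algebraMap_mem _ _)) 3
      · exact Subalgebra.pow_mem _ xinv_mem 2
      · exact Subalgebra.pow_mem _ x1inv_mem 2
    · unfold jj
      simp only [map_div₀, map_mul, map_pow, map_add, map_sub, map_one, map_ofNat, hσ]
      field_simp
      ring
    · unfold jj
      simp only [map_div₀, map_mul, map_pow, map_add, map_sub, map_one, map_ofNat, hτ]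
      have e : (1 : K) - x - 1 = -x := by ring
      rw [e]
      rw [div_eq_div_iff (mul_ne_zero (pow_ne_zero _ hx1') (pow_ne_zero _ (neg_ne_zero.mpr hx)))
        (mul_ne_zero (pow_ne_zero _ hx) (pow_ne_zero _ hx1))]
      ring
  | algebraMap r =>
    exact ⟨Subalgebra.algebraMap_mem _ _, AlgEquiv.commutes _ _, AlgEquiv.commutes _ _⟩
  | add y z _ _ hy hz =>
    exact ⟨Subalgebra.add_mem _ hy.1 hz.1, by rw [map_add, hy.2.1, hz.2.1], by rw [map_add, hy.2.2, hz.2.2]⟩
  | mul y z _ _ hy hz =>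
    exact ⟨Subalgebra.mul_mem _ hy.1 hz.1, by rw [map_mul, hy.2.1, hz.2.1], by rw [map_mul, hy.2.2, hz.2.2]⟩

end main


/-- The algebraic step of its proof: Fix an algebraically closed field k whose characteristic is neither
2 nor 3, let B ⊆ k(λ) be the k-subalgebra generated by λ, λ⁻¹ and (λ - 1)⁻¹ (the coordinate ring of
the λ-line with 0 and 1 removed), and let σ and τ be the k-algebra automorphisms of k(λ) determined
by σ(λ) = λ⁻¹ and τ(λ) = 1 - λ (they generate the group of order six permuting λ, 1/λ, 1-λ, 1/(1-λ),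
λ/(λ-1), (λ-1)/λ). Then the elements of B fixed by σ and τ are exactly the elements of the
k-subalgebra generated by j = 256 (λ² - λ + 1)³ / (λ² (λ - 1)²); in other words the ring of
invariants of B is the polynomial ring k[j]. -/
theorem result (k : Type u) [Field k] [IsAlgClosed k]
    (h2 : (2 : k) ≠ 0) (h3 : (3 : k) ≠ 0)
    (σ τ : RatFunc k ≃ₐ[k] RatFunc k) (hσ : σ RatFunc.X = (RatFunc.X : RatFunc k)⁻¹)
    (hτ : τ RatFunc.X = 1 - (RatFunc.X : RatFunc k)) (b : RatFunc k) :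
    (b ∈ Algebra.adjoin k ({RatFunc.X, (RatFunc.X : RatFunc k)⁻¹, ((RatFunc.X : RatFunc k) - 1)⁻¹} : Set (RatFunc k)) ∧
        σ b = b ∧ τ b = b) ↔
      b ∈ Algebra.adjoin k ({(256 : RatFunc k) * ((RatFunc.X : RatFunc k) ^ 2 - RatFunc.X + 1) ^ 3 /
        ((RatFunc.X : RatFunc k) ^ 2 * ((RatFunc.X : RatFunc k) - 1) ^ 2)} : Set (RatFunc k)) := by
  constructor
  · rintro ⟨hb, hσb, hτb⟩
    exact forward h2 h3 σ τ hσ hτ b hb hσb hτb
  · intro hb
    exact backward h2 σ τ hσ hτ b hb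

end Groth.Agent.S11470
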