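import Groth.Statements.S1148
import Mathlib
-- import your own Groth.Agent.* helpers here

set_option autoImplicit false
universe u
open Desc

namespace Groth.Agent.S1148

/-- Affine form (finiteness of irreducible components of quasi-compact opens is fppf local; this is the
ascent direction for a morphism of affine schemes). Let A → B be a flat ring map of finite
presentation. If Spec A has finitely many irreducible components, then so does Spec B. -/
theorem result (A B : Type u) [CommRing A] [CommRing B] [Algebra A B]
    [Module.Flat A B] [Algebra.FinitePresentation A B] (h : (irreducibleComponents (PrimeSpectrum A)).Finite) :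
    (irreducibleComponents (PrimeSpectrum B)).Finite := by
  classical
  have key : ∀ (R : Type u) [CommRing R], (irreducibleComponents (PrimeSpectrum R)).Finite ↔
      {x : PrimeSpectrum R | IsMin x}.Finite := by
    intro R _
    have e1 : (irreducibleComponents (PrimeSpectrum R)).Finite ↔ (minimalPrimes R).Finite := by
      rw [← Set.finite_coe_iff, ← Set.finite_coe_iff]
      exact (Equiv.finite_iff (minimalPrimes.equivIrreducibleComponents R).toEquiv).symm
    rw [e1]
    have hinj : Function.Injective (PrimeSpectrum.asIdeal (R := R)) := @PrimeSpectrum.ext _ _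
    constructor
    · intro h
      refine Set.Finite.of_finite_image (f := PrimeSpectrum.asIdeal) ?_ hinj.injOn
      refine h.subset ?_
      rintro _ ⟨x, hx, rfl⟩
      exact PrimeSpectrum.isMin_iff.mp hx
    · intro h
      refine (h.image PrimeSpectrum.asIdeal).subset ?_
      intro p hp
      exact ⟨⟨p, hp.1.1⟩, PrimeSpectrum.isMin_iff.mpr hp, rfl⟩
  rw [key] at h ⊢
  -- minimal primes of B map to minimal primes of A
  have hmap : ∀ x : PrimeSpectrum B, IsMin x → IsMin (PrimeSpectrum.comap (algebraMap A B) x) := by
    intro x hx y hy
    -- y ≤ comap x; going down gives x' ≤ x over y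
    haveI : x.asIdeal.LiesOver (PrimeSpectrum.comap (algebraMap A B) x).asIdeal := ⟨rfl⟩
    obtain ⟨P, hPx, hP, hPy⟩ := Ideal.exists_ideal_le_liesOver_of_le (p := y.asIdeal)
      (q := (PrimeSpectrum.comap (algebraMap A B) x).asIdeal) x.asIdeal hy
    have hle : (⟨P, hP⟩ : PrimeSpectrum B) ≤ x := hPx
    have hge := hx hle
    have : P = x.asIdeal := le_antisymm hPx hge
    intro a ha
    have : a ∈ P.under A := by rw [this]; exact ha
    rwa [← hPy.over] at this
  refine (h.biUnion (t := fun y => {x : PrimeSpectrum B | IsMin x ∧
    PrimeSpectrum.comap (algebraMap A B) x = y}) ?_).subset ?_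
  · intro y hy
    -- the fibre ring is Noetherian
    haveI : Algebra.FiniteType A B := inferInstance
    haveI : IsNoetherianRing (y.asIdeal.Fiber B) :=
      Algebra.FiniteType.isNoetherianRing y.asIdeal.ResidueField _
    have hfin := PrimeSpectrum.finite_setOfPred_isMin (y.asIdeal.Fiber B)
    let φ : {x : PrimeSpectrum B | IsMin x ∧ PrimeSpectrum.comap (algebraMap A B) x = y} →
        {z : PrimeSpectrum (y.asIdeal.Fiber B) | IsMin z} := fun x =>
      ⟨PrimeSpectrum.preimageOrderIsoFiber A B y ⟨x.1, x.2.2⟩, by
        intro z hz
        obtain ⟨w, rfl⟩ := (PrimeSpectrum.preimageOrderIsoFiber A B y).surjective z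
        rw [OrderIso.le_iff_le] at hz ⊢
        exact x.2.1 hz⟩
    have hφ : Function.Injective φ := by
      intro x x' hxx
      have := (PrimeSpectrum.preimageOrderIsoFiber A B y).injective (Subtype.ext_iff.mp hxx)
      exact Subtype.ext (Subtype.mk.inj this)
    rw [← Set.finite_coe_iff] at hfin ⊢
    exact Finite.of_injective φ hφ
  · intro x hx
    exact Set.mem_biUnion (hmap x hx) ⟨hx, rfl⟩

end Groth.Agent.S1148
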