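import Groth.Statements.S11486
import Mathlib
import Groth.Agent.Lib.Helper27LocFreeVan
import Groth.Agent.Lib.Helper27RankSigma
import Groth.Agent.Lib.Helper27HorrocksZero

set_option autoImplicit false
universe u
open VBPn

namespace Groth.Agent.S11486

open CategoryTheory CategoryTheory.Limits AlgebraicGeometry in
/-- Let k be a characteristic-zero algebraically closed field and E a finite locally free O-module of
rank r on P^n_k. Then E splits as a direct sum of twisting sheaves O(a_1) ⊕ ⋯ ⊕ O(a_r) if and only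
if H^i(P^n_k, E ⊗ O(d)) = 0 for every 0 < i < n and every integer d. -/
theorem result (k : Type u) [Field k] [IsAlgClosed k] [CharZero k]
    (n r : ℕ) (E : (CohB1.ProjSpace n k).Modules) (hE : FlatMod.IsFinLocFreeOfRank r E) :
    (∃ a : Fin r → ℤ, Nonempty (E ≅ ∐ fun j : Fin r => Twist.twistProjSpace n k (a j))) ↔
      ∀ (i : ℕ) (d : ℤ), 0 < i → i < n →
        Subsingleton (Coh.HH (CohB1.ProjSpace n k) (CohB1.tensorMod E (Twist.twistProjSpace n k d)) i) := by
  haveI : EnoughInjectives (CohB1.ProjSpace n k).Modules :=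
    Groth.Agent.S0485.result (Opens.grothendieckTopology (CohB1.ProjSpace n k))
      (CohB1.ProjSpace n k).ringCatSheaf
  haveI : HasExt.{u} (CohB1.ProjSpace n k).Modules := hasExt_of_enoughInjectives.{u} _
  have hE' : FlatMod.IsFinLocFree E := Groth.Agent.Lib.Helper27RankSigma.isFinLocFree_of_rank hE
  have hcoh : Coh.IsCoh E := Groth.Agent.Lib.Helper21.HZB.isCoh_of_isFinLocFree E hE'
  haveI : Nonempty (CohB1.ProjSpace n k) := by
    by_contra hne
    haveI : IsEmpty (CohB1.ProjSpace n k) := not_nonempty_iff.1 hne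
    have h1 : IsIso (CohB1.ProjSpace.toSpec n k).appTop :=
      Groth.Agent.Lib.Helper27ProjGamma.isIso_toSpec_appTop n k
    let e1 : Γ(Spec (CommRingCat.of k), ⊤) ≅ Γ(CohB1.ProjSpace n k, ⊤) :=
      asIso (CohB1.ProjSpace.toSpec n k).appTop
    let e : Γ(CohB1.ProjSpace n k, ⊤) ≃+* k :=
      (e1.symm ≪≫ Scheme.ΓSpecIso (CommRingCat.of k)).commRingCatIsoToRingEquiv
    have hs : Subsingleton k := e.symm.injective.subsingleton
    exact not_subsingleton k hs
  have hlen : ∀ (r' : ℕ) (a : Fin r' → ℤ),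
      Nonempty (E ≅ ∐ fun j => Twist.twistProjSpace n k (a j)) →
      ∃ a' : Fin r → ℤ, Nonempty (E ≅ ∐ fun j : Fin r => Twist.twistProjSpace n k (a' j)) := by
    rintro r' a ⟨e⟩
    have h1 : FlatMod.IsFinLocFreeOfRank r' (∐ fun j => Twist.twistProjSpace n k (a j)) :=
      Groth.Agent.Lib.Helper27RankSigma.isFinLocFreeOfRank_sigma _ (fun j =>
        Groth.Agent.Lib.Helper23.SecTw.isFinLocFreeOfRank_one_of_isInvertible _
          (Groth.Agent.Lib.Helper27SerreVanPn.isInvertible_twist n k (a j)))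
    have h2 : FlatMod.IsFinLocFreeOfRank r' E :=
      Groth.Agent.Lib.Helper26.ModRank.isFinLocFreeOfRank_of_iso e.symm h1
    obtain rfl := Groth.Agent.Lib.Helper27RankSigma.rank_unique hE h2
    exact ⟨a, ⟨e⟩⟩
  constructor
  · rintro ⟨a, ⟨e⟩⟩ i d hi hin
    have hn : 1 ≤ n := by omega
    have hH := Groth.Agent.Lib.Helper27Horrocks.hor_of_retract e.hom e.inv e.hom_inv_id
      (Groth.Agent.Lib.Helper27Horrocks.hor_sigma k n hn a)
    exact hH.2 d i hi hin
  · intro h
    rcases Nat.eq_zero_or_pos n with rfl | hn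
    · obtain ⟨r', a, he⟩ := Groth.Agent.Lib.Helper27HorrocksZero.splits_zero k E hcoh
      exact hlen r' a he
    · have hH : Groth.Agent.Lib.Helper27Horrocks.Hor k n E :=
        ⟨Groth.Agent.Lib.Helper27LocFreeVan.exists_subsingleton_HH_zero k n hn E hE',
          fun d i hi hin => h i d hi hin⟩
      obtain ⟨r', a, he⟩ := Groth.Agent.Lib.Helper27Horrocks.horrocks k n hn E hcoh hH
      exact hlen r' a he

end Groth.Agent.S11486
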