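import Groth.Statements.S11496
import Groth.Agent.S0563
import Groth.Agent.S0564
import Groth.Agent.Lib.Helper28Catenary
import Groth.Agent.Lib.Helper5RLR3

set_option autoImplicit false
universe u
open CategoryTheory
open VBPn

namespace Groth.Agent.S11496

/-- Let A be a regular local ring, M a finitely generated A-module and i ≥ 0. The support of Ext^i_A(M,
A) has dimension at most dim A − i: for every prime ideal p of A such that Ext^i over the
localization A_p of M_p into A_p is nonzero (this Ext group is the localization at p of Ext^i_A(M,
A)), one has dim(A/p) + i ≤ dim A. The published statement is for coherent analytic sheaves on an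
n-dimensional complex manifold; this row is stated for any regular local ring. -/
theorem result (A : Type u) [CommRing A] [IsRegularLocalRing A]
    (M : Type u) [AddCommGroup M] [Module A M] [Module.Finite A M] (i : ℕ) (p : Ideal A) [p.IsPrime]
    (h : Nontrivial (Abelian.Ext
      (ModuleCat.of (Localization.AtPrime p) (LocalizedModule p.primeCompl M))
      (ModuleCat.of (Localization.AtPrime p) (Localization.AtPrime p)) i)) :
    ringKrullDim (A ⧸ p) + (i : WithBot ℕ∞) ≤ ringKrullDim A := by
  classical
  haveI hreg : IsRegularLocalRing (Localization.AtPrime p) := Groth.Agent.S0564.result A p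
  obtain ⟨d, hd⟩ := Groth.Agent.Lib.Helper5.exists_nat_ringKrullDim_eq (Localization.AtPrime p)
  have hpd := Groth.Agent.S0563.result (Localization.AtPrime p) d hd
    (LocalizedModule p.primeCompl M)
  have hid : i ≤ d := by
    by_contra hlt
    push_neg at hlt
    have := HasProjectiveDimensionLT.subsingleton
      (ModuleCat.of (Localization.AtPrime p) (LocalizedModule p.primeCompl M)) (d + 1) i
      (by omega) (ModuleCat.of (Localization.AtPrime p) (Localization.AtPrime p))
    exact not_subsingleton _ this
  have hCM : LocCoh.IsCohenMacaulayLocalRing A :=
    Groth.Agent.Lib.Helper5.isCohenMacaulayLocalRing_of_isRegularLocalRing A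
  have hdim := Groth.Agent.Lib.Helper28.ringKrullDim_eq_quotient_add_height_of_isCohenMacaulayModule
    (R := A) (M := A) hCM.supportDim_eq_depth Groth.Agent.Lib.Helper28.support_self_eq_univ p
  have hht : ringKrullDim (Localization.AtPrime p) = p.height :=
    IsLocalization.AtPrime.ringKrullDim_eq_height p _
  rw [hd] at hht
  have h2 : p.height = (d : ℕ∞) := (WithBot.coe_injective hht).symm
  rw [hdim, h2]
  refine add_le_add le_rfl ?_
  exact_mod_cast hid

end Groth.Agent.S11496
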