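import Groth.Statements.S11499
import Mathlib.RingTheory.Localization.BaseChange
import Mathlib.RingTheory.Localization.Integer
import Mathlib.LinearAlgebra.Dimension.Free
import Mathlib.LinearAlgebra.FiniteDimensional.Basic
import Mathlib.RingTheory.TensorProduct.Finite
-- import your own Groth.Agent.* helpers here

set_option autoImplicit false
universe u
open TensorProduct
open VBPn

namespace Groth.Agent.S11499

/-- Let A be an integral domain with fraction field K and M a finitely generated torsion-free A-module
of rank r (K ⊗_A M is r-dimensional over K). Then there is an injective A-linear map M → A^r. The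
published statement is for torsion-free coherent sheaves on a complex manifold, locally near a
point; this row is its statement for one stalk, over any domain. -/
theorem result (A : Type u) [CommRing A] [IsDomain A]
    (M : Type u) [AddCommGroup M] [Module A M] [Module.Finite A M] [NoZeroSMulDivisors A M] (r : ℕ)
    (hr : Module.finrank (FractionRing A) (FractionRing A ⊗[A] M) = r) :
    ∃ f : M →ₗ[A] (Fin r → A), Function.Injective f := by
  classical
  let K := FractionRing A
  -- the canonical map M → K ⊗ M is injective
  let j : M →ₗ[A] K ⊗[A] M := TensorProduct.mk A K M 1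
  have hj : Function.Injective j := by
    rw [injective_iff_map_eq_zero]
    intro m hm
    have := (IsLocalizedModule.eq_zero_iff (nonZeroDivisors A) j).1 hm
    obtain ⟨s, hs⟩ := this
    have hs' : (s : A) • m = 0 := hs
    rcases smul_eq_zero.1 hs' with h | h
    · exact absurd h (nonZeroDivisors.coe_ne_zero s)
    · exact h
  -- K ⊗ M ≃ K^r
  have hfin : Module.finrank K (K ⊗[A] M) = Module.finrank K (Fin r → K) := by
    rw [hr, Module.finrank_fin_fun]
  let e : (K ⊗[A] M) ≃ₗ[K] (Fin r → K) := LinearEquiv.ofFinrankEq _ _ hfin
  let g : M →ₗ[A] (Fin r → K) := (e.toLinearMap.restrictScalars A).comp j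
  have hg : Function.Injective g := e.injective.comp hj
  -- clear denominators on generators
  obtain ⟨S, hS⟩ := (Module.Finite.fg_top (R := A) (M := M))
  obtain ⟨b, hb⟩ := IsLocalization.exist_integer_multiples (nonZeroDivisors A) (S ×ˢ (Finset.univ : Finset (Fin r)))
    (fun p : M × Fin r => g p.1 p.2)
  have hb0 : (b : A) ≠ 0 := nonZeroDivisors.coe_ne_zero b
  -- the inclusion A^r → K^r
  let ι : (Fin r → A) →ₗ[A] (Fin r → K) := (Algebra.linearMap A K).compLeft (Fin r)
  have hι : Function.Injective ι := by
    intro x y hxy
    funext i
    have := congrFun hxy i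
    exact IsFractionRing.injective A K this
  have hmem : ∀ m : M, (b : A) • g m ∈ LinearMap.range ι := by
    intro m
    have hm : m ∈ Submodule.span A (S : Set M) := by rw [hS]; trivial
    induction hm using Submodule.span_induction with
    | mem x hx =>
      have : ∀ i : Fin r, ∃ a : A, algebraMap A K a = (b : A) • g x i := fun i =>
        hb (x, i) (Finset.mem_product.2 ⟨hx, Finset.mem_univ i⟩)
      choose a ha using this
      refine ⟨a, ?_⟩
      funext i
      simpa [ι] using ha i
    | zero => simp
    | add x y _ _ hx hy => rw [map_add, smul_add]; exact Submodule.add_mem _ hx hy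
    | smul c x _ hx => rw [map_smul, smul_comm]; exact Submodule.smul_mem _ c hx
  let h : M →ₗ[A] (Fin r → K) := (b : A) • g
  have hh : Function.Injective h := by
    intro x y hxy
    apply hg
    have : (b : A) • (g x - g y) = 0 := by
      rw [smul_sub, sub_eq_zero]; exact hxy
    have h2 : g x - g y = 0 := by
      funext i
      have := congrFun this i
      simp only [Pi.smul_apply, Pi.zero_apply, Algebra.smul_def, mul_eq_zero] at this
      rcases this with h | h
      · exact absurd ((map_eq_zero_iff _ (IsFractionRing.injective A K)).1 h) hb0
      · exact h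
    exact sub_eq_zero.1 h2
  let h' : M →ₗ[A] LinearMap.range ι := h.codRestrict _ hmem
  let eι : (Fin r → A) ≃ₗ[A] LinearMap.range ι := LinearEquiv.ofInjective ι hι
  refine ⟨eι.symm.toLinearMap.comp h', ?_⟩
  refine eι.symm.injective.comp ?_
  intro x y hxy
  apply hh
  exact congrArg Subtype.val hxy

end Groth.Agent.S11499
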