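import Groth.Statements.S11520
import Mathlib.CategoryTheory.Triangulated.TStructure.AbelianSubcategory
-- import your own Groth.Agent.* helpers here

set_option autoImplicit false
universe v u v' u'
open CategoryTheory CategoryTheory.Limits CategoryTheory.Pretriangulated CategoryTheory.Triangulated
open PervT
open ZeroObject

namespace Groth.Agent.S11520

section

variable {C : Type u} [Category.{v} C] [Preadditive C] [HasZeroObject C] [HasShift C ℤ]
  [∀ n : ℤ, (shiftFunctor C n).Additive] [Pretriangulated C] (t : TStructure C)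
  {H : Type u'} [Category.{v'} H] [Preadditive H] [t.Heart H]

lemma hom_shift_neg_eq_zero ⦃X Y : H⦄ ⦃n : ℤ⦄
    (f : (t.ιHeart (H := H)).obj X ⟶ ((t.ιHeart (H := H)).obj Y)⟦n⟧) (hn : n < 0) : f = 0 := by
  have : t.IsGE (((t.ιHeart (H := H)).obj Y)⟦n⟧) (-n) := t.isGE_shift _ 0 n (-n) (by omega)
  exact t.zero_of_isLE_of_isGE f 0 (-n) (by omega) inferInstance this

/-- an object of the heart comes from `H` -/
lemma exists_iso_of_heart (X : C) (h₁ : t.IsLE X 0) (h₂ : t.IsGE X 0) :
    ∃ (Z : H), Nonempty ((t.ιHeart (H := H)).obj Z ≅ X) := by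
  have hX : t.heart X := (t.mem_heart_iff X).2 ⟨h₁, h₂⟩
  rw [← t.essImage_ιHeart H] at hX
  obtain ⟨Z, ⟨e⟩⟩ := hX
  exact ⟨Z, ⟨e⟩⟩

include t in
lemma hasZeroObject_heart : HasZeroObject H := by
  obtain ⟨Z, ⟨e⟩⟩ := exists_iso_of_heart (H := H) t (0 : C) inferInstance inferInstance
  refine ⟨Z, ?_⟩
  rw [IsZero.iff_id_eq_zero]
  apply (t.ιHeart (H := H)).map_injective
  rw [CategoryTheory.Functor.map_id, CategoryTheory.Functor.map_zero]
  exact (IsZero.of_iso (isZero_zero C) e).eq_of_src _ _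

lemma isLE_biprod (X Y : C) (n : ℤ) [t.IsLE X n] [t.IsLE Y n] : t.IsLE (X ⊞ Y) n :=
  t.isLE₂ _ (binaryBiproductTriangle_distinguished X Y) n (inferInstanceAs (t.IsLE X n))
    (inferInstanceAs (t.IsLE Y n))

lemma isGE_biprod (X Y : C) (n : ℤ) [t.IsGE X n] [t.IsGE Y n] : t.IsGE (X ⊞ Y) n :=
  t.isGE₂ _ (binaryBiproductTriangle_distinguished X Y) n (inferInstanceAs (t.IsGE X n))
    (inferInstanceAs (t.IsGE Y n))

include t in
lemma hasBinaryBiproducts_heart : HasBinaryBiproducts H := by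
  refine ⟨fun X Y => ?_⟩
  obtain ⟨Z, ⟨e⟩⟩ := exists_iso_of_heart (H := H) t
    ((t.ιHeart (H := H)).obj X ⊞ (t.ιHeart (H := H)).obj Y)
    (isLE_biprod t _ _ 0) (isGE_biprod t _ _ 0)
  refine HasBinaryBiproduct.mk
    { bicone :=
        { pt := Z
          fst := (t.ιHeart (H := H)).preimage (e.hom ≫ biprod.fst)
          snd := (t.ιHeart (H := H)).preimage (e.hom ≫ biprod.snd)
          inl := (t.ιHeart (H := H)).preimage (biprod.inl ≫ e.inv)
          inr := (t.ιHeart (H := H)).preimage (biprod.inr ≫ e.inv)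
          inl_fst := (t.ιHeart (H := H)).map_injective (by simp)
          inl_snd := (t.ιHeart (H := H)).map_injective (by simp)
          inr_fst := (t.ιHeart (H := H)).map_injective (by simp)
          inr_snd := (t.ιHeart (H := H)).map_injective (by simp) }
      isBilimit := isBinaryBilimitOfTotal _ ((t.ιHeart (H := H)).map_injective (by
        simp only [Functor.map_add, Functor.map_comp, Functor.map_preimage,
          Category.assoc]
        rw [← cancel_epi e.inv, ← cancel_mono e.hom]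
        simp [← biprod.total])) }

set_option backward.defeqAttrib.useBackward true in
set_option backward.isDefEq.respectTransparency false in
lemma admissible [IsTriangulated C] {X₁ X₂ : H} (f₁ : X₁ ⟶ X₂) :
    AbelianSubcategory.admissibleMorphism (t.ιHeart (H := H)) f₁ := by
  intro X₃ f₂ f₃ hT
  -- the cone is in degrees [-1, 0]
  have h1' : t.IsLE (((t.ιHeart (H := H)).obj X₁)⟦(1 : ℤ)⟧) (-1) :=
    t.isLE_shift _ 0 1 (-1) (by omega)
  have h1 : t.IsLE (((t.ιHeart (H := H)).obj X₁)⟦(1 : ℤ)⟧) 0 :=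
    t.isLE_of_le _ (-1) 0 (by omega)
  have h2 : t.IsGE (((t.ιHeart (H := H)).obj X₁)⟦(1 : ℤ)⟧) (-1) :=
    t.isGE_shift _ 0 1 (-1) (by omega)
  have h3 : t.IsGE ((t.ιHeart (H := H)).obj X₂) (-1) := t.isGE_of_ge _ (-1) 0 (by omega)
  have hLE : t.IsLE X₃ 0 := t.isLE₂ _ (rot_of_distTriang _ hT) 0
    (inferInstanceAs (t.IsLE ((t.ιHeart (H := H)).obj X₂) 0)) h1
  have hGE : t.IsGE X₃ (-1) := t.isGE₂ _ (rot_of_distTriang _ hT) (-1) h3 h2
  -- truncations
  have hK1 : t.IsLE (((t.truncLE (-1)).obj X₃)⟦(-1 : ℤ)⟧) 0 := t.isLE_shift _ (-1) (-1) 0 (by omega)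
  have hK2 : t.IsGE (((t.truncLE (-1)).obj X₃)⟦(-1 : ℤ)⟧) 0 := t.isGE_shift _ (-1) (-1) 0 (by omega)
  obtain ⟨K, ⟨eK⟩⟩ := exists_iso_of_heart (H := H) t _ hK1 hK2
  obtain ⟨Q, ⟨eQ⟩⟩ := exists_iso_of_heart (H := H) t ((t.truncGE 0).obj X₃) inferInstance inferInstance
  have eK' : ((t.ιHeart (H := H)).obj K)⟦(1 : ℤ)⟧ ≅ (t.truncLE (-1)).obj X₃ :=
    (shiftFunctor C (1 : ℤ)).mapIso eK ≪≫ (shiftEquiv C (1 : ℤ)).counitIso.app _
  refine ⟨K, Q, eK'.hom ≫ (t.truncLEι (-1)).app X₃, (t.truncGEπ 0).app X₃ ≫ eQ.inv,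
    eQ.hom ≫ (t.truncGEδLE (-1) 0 (by omega)).app X₃ ≫ (eK'.inv)⟦(1 : ℤ)⟧', ?_⟩
  refine isomorphic_distinguished _ (t.triangleLEGE_distinguished (-1) 0 (by omega) X₃) _ ?_
  refine Triangle.isoMk _ _ eK' (Iso.refl _) eQ ?_ ?_ ?_
  · simp
  · simp
  · simp [← Functor.map_comp]

end

/-- Let `C` be a triangulated category (octahedron axiom included) with a t-structure `t`, and let `H`
be an additive category identified with the heart of `t` (the objects that are both `≤ 0` and `≥ 0`)
through a fully faithful additive functor whose essential image is the heart. Then `H` is an abelian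
category: there is an abelian category structure on `H` whose underlying additive structure is the
given one. -/
theorem result {C : Type u} [Category.{v} C] [Preadditive C] [HasZeroObject C] [HasShift C ℤ] [∀ n : ℤ, (shiftFunctor C n).Additive] [Pretriangulated C] [IsTriangulated C] (t : TStructure C) {H : Type u'} [Category.{v'} H] [inst : Preadditive H] [t.Heart H] :
    ∃ a : Abelian H, @Abelian.toPreadditive H _ a = inst := by
  have := hasZeroObject_heart (H := H) t
  have := hasBinaryBiproducts_heart (H := H) t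
  have : HasFiniteProducts H := hasFiniteProducts_of_has_binary_and_terminal
  refine ⟨AbelianSubcategory.abelian (t.ιHeart (H := H)) (hom_shift_neg_eq_zero (H := H) t) ?_, rfl⟩
  ext X₁ X₂ f₁
  simpa using admissible (H := H) t f₁

end Groth.Agent.S11520
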