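-- Statement S11523; see the milestone table for weights.
import Groth.Statements.S11523
import Mathlib.CategoryTheory.Abelian.Exact
import Mathlib.CategoryTheory.Preadditive.AdditiveFunctor
import Mathlib.CategoryTheory.Limits.Preserves.Shapes.Kernels
import Mathlib.CategoryTheory.Limits.Preserves.Shapes.Zero
import Mathlib.CategoryTheory.Limits.Constructions.EpiMono
-- import your own Groth.Agent.* helpers here

set_option autoImplicit false
universe v u v' u'
open CategoryTheory CategoryTheory.Limits
open PervT

namespace Groth.Agent.S11523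

section

variable {A : Type u} [Category.{v} A] [Abelian A] {B : Type u'} [Category.{v'} B] [Abelian B]
  (u : A ⥤ B) [PreservesFiniteLimits u] [PreservesFiniteColimits u]

lemma step (hsimple : ∀ X : A, Simple X → Simple (u.obj X))
    (X : A) (Y : B) (g : u.obj X ⟶ Y)
    (hF : ∀ (Z : A) (f : u.obj Z ⟶ u.obj X), f ≫ g = 0 → f = 0)
    (X' : Subobject X) (hP : Mono (u.map X'.arrow ≫ g)) (hne : X' ≠ ⊤)
    (hart : IsArtinianObject (cokernel X'.arrow)) :
    ∃ X'' : Subobject X, X' < X'' ∧ Mono (u.map X''.arrow ≫ g) := by
  have : u.PreservesZeroMorphisms := inferInstance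
  let π := cokernel.π X'.arrow
  have hQ : ¬ IsZero (cokernel X'.arrow) := by
    intro h0
    apply hne
    have : Epi X'.arrow := Preadditive.epi_of_cokernel_zero (h0.eq_of_tgt _ _)
    have : IsIso X'.arrow := isIso_of_mono_of_epi _
    exact Subobject.eq_top_of_isIso_arrow _
  obtain ⟨S, hS⟩ := exists_simple_subobject hQ
  let W := pullback S.arrow π
  let i : W ⟶ X := pullback.snd S.arrow π
  let p : W ⟶ (S : A) := pullback.fst S.arrow π
  have hip : p ≫ S.arrow = i ≫ π := pullback.condition
  have : Mono i := inferInstance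
  have : Epi p := inferInstance
  let ι : (X' : A) ⟶ W := pullback.lift 0 X'.arrow (by simp [π])
  have hι : ι ≫ i = X'.arrow := pullback.lift_snd _ _ _
  have hιp : ι ≫ p = 0 := pullback.lift_fst _ _ _
  have : Mono ι := mono_of_mono_fac hι
  -- `X'.arrow` is a kernel of `π`
  have hk : IsLimit (KernelFork.ofι X'.arrow (cokernel.condition X'.arrow)) :=
    Abelian.monoIsKernelOfCokernel _ (colimit.isColimit (parallelPair X'.arrow 0))
  -- `ι` is a kernel of `p`
  have hker : IsLimit (KernelFork.ofι ι hιp) := KernelFork.IsLimit.ofι' ι hιp (fun {Z} z hz => by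
    have hz' : (z ≫ i) ≫ π = 0 := by
      rw [Category.assoc, ← hip, ← Category.assoc, hz, zero_comp]
    refine ⟨hk.lift (KernelFork.ofι (z ≫ i) hz'), ?_⟩
    rw [← cancel_mono i, Category.assoc, hι]
    exact hk.fac _ WalkingParallelPair.zero)
  have hkerB : IsLimit (KernelFork.ofι (u.map ι) (by rw [← u.map_comp, hιp, u.map_zero]) :
      KernelFork (u.map p)) := KernelFork.mapIsLimit _ hker u
  let h : u.obj W ⟶ Y := u.map i ≫ g
  let c := kernel.ι h
  have hm : Mono (c ≫ u.map p) := by
    apply Preadditive.mono_of_cancel_zero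
    intro T t ht
    have ht0 : (t ≫ c) ≫ u.map p = 0 := by simpa using ht
    let t' := hkerB.lift (KernelFork.ofι (t ≫ c) ht0)
    have ht' : t' ≫ u.map ι = t ≫ c := hkerB.fac _ WalkingParallelPair.zero
    have h1 : t' ≫ (u.map X'.arrow ≫ g) = 0 := by
      have hmap : u.map X'.arrow = u.map ι ≫ u.map i := by rw [← u.map_comp, hι]
      rw [hmap, Category.assoc, ← Category.assoc, ht', Category.assoc]
      change t ≫ c ≫ h = 0
      rw [kernel.condition, comp_zero]
    have t'0 : t' = 0 := by
      rw [← cancel_mono (u.map X'.arrow ≫ g), h1, zero_comp]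
    have h2 : t ≫ c = 0 := by rw [← ht', t'0, zero_comp]
    rw [← cancel_mono c, h2, zero_comp]
  have hsS : Simple (u.obj (S : A)) := hsimple _ hS
  have hPW : Mono h := by
    by_cases hm0 : c ≫ u.map p = 0
    · have hid : 𝟙 (kernel h) = 0 := by
        rw [← cancel_mono (c ≫ u.map p), Category.id_comp, zero_comp, hm0]
      have hc0 : c = 0 := by rw [← Category.id_comp c, hid, zero_comp]
      exact Preadditive.mono_of_kernel_zero hc0
    · exfalso
      have : IsIso (c ≫ u.map p) := isIso_of_mono_of_nonzero hm0
      let s : u.obj (S : A) ⟶ u.obj W := inv (c ≫ u.map p) ≫ c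
      have hs1 : s ≫ u.map p = 𝟙 _ := by simp [s]
      have hs2 : (s ≫ u.map i) ≫ g = 0 := by
        simp only [s, Category.assoc]
        change inv (c ≫ u.map p) ≫ c ≫ h = 0
        rw [kernel.condition, comp_zero]
      have hs3 : s ≫ u.map i = 0 := hF _ _ hs2
      have hs4 : s = 0 := by rw [← cancel_mono (u.map i), hs3, zero_comp]
      apply id_nonzero (u.obj (S : A))
      rw [← hs1, hs4, zero_comp]
  refine ⟨Subobject.mk i, ?_, ?_⟩
  · have hle : X' ≤ Subobject.mk i := Subobject.le_mk_of_comm ι hι
    refine lt_of_le_not_ge hle ?_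
    intro hge
    have hj : Subobject.ofMkLE i X' hge ≫ X'.arrow = i := Subobject.ofMkLE_arrow hge
    have h0 : p ≫ S.arrow = 0 := by
      rw [hip, ← hj, Category.assoc, cokernel.condition, comp_zero]
    have h1 : S.arrow = 0 := by rw [← cancel_epi p, h0, comp_zero]
    have : Simple (S : A) := hS
    apply id_nonzero (S : A)
    rw [← cancel_mono S.arrow, Category.id_comp, zero_comp, h1]
  · have : (Subobject.mk i).arrow = (Subobject.underlyingIso i).hom ≫ i :=
      (Subobject.underlyingIso_hom_comp_eq_mk i).symm
    rw [this, u.map_comp, Category.assoc]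
    exact mono_comp _ _

lemma key (hlen : ∀ X : A, IsArtinianObject X ∧ IsNoetherianObject X)
    (hsimple : ∀ X : A, Simple X → Simple (u.obj X))
    (X : A) (Y : B) (g : u.obj X ⟶ Y)
    (hF : ∀ (Z : A) (f : u.obj Z ⟶ u.obj X), f ≫ g = 0 → f = 0) : Mono g := by
  have : u.PreservesZeroMorphisms := inferInstance
  have := (hlen X).2
  have hbot : Mono (u.map (⊥ : Subobject X).arrow ≫ g) := by
    have h0 : IsZero (u.obj ((⊥ : Subobject X) : A)) :=
      u.map_isZero (IsZero.of_iso (isZero_zero A) Subobject.botCoeIsoZero)
    exact ⟨fun a b _ => h0.eq_of_tgt a b⟩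
  obtain ⟨X', hX', hmax⟩ := WellFounded.has_min
    (wellFounded_gt : WellFounded ((· > ·) : Subobject X → Subobject X → Prop))
    {X' | Mono (u.map X'.arrow ≫ g)} ⟨⊥, hbot⟩
  by_cases htop : X' = ⊤
  · subst htop
    have hX'' : Mono (u.map (⊤ : Subobject X).arrow ≫ g) := hX'
    have : g = inv (u.map (⊤ : Subobject X).arrow) ≫ (u.map (⊤ : Subobject X).arrow ≫ g) := by simp
    rw [this]
    exact mono_comp _ _
  · obtain ⟨X'', hlt, hP''⟩ := step u hsimple X Y g hF X' hX' htop (hlen _).1
    exact absurd hlt (hmax X'' hP'')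

end

/-- Let `u : A ⥤ B` be a fully faithful exact functor of abelian categories admitting a left adjoint and
a right adjoint `uStar`. Suppose every object of `A` has finite length (it is both an artinian and a
noetherian object) and that `u` sends simple objects to simple objects. Then for every object `Y` of
`B` the counit `u (uStar Y) ⟶ Y` of the adjunction `u ⊣ uStar` is a monomorphism. (The published
statement also lists two further conditions equivalent to this one: that for every object `Y` of `B`
the unit `Y ⟶ u (L Y)` of the adjunction `L ⊣ u` of the left adjoint `L` is an epimorphism, and that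
the essential image of `u` is stable under subobjects and quotients; this row states only the counit
condition.) -/
theorem result {A : Type u} [Category.{v} A] [Abelian A] {B : Type u'} [Category.{v'} B] [Abelian B]
    (u : A ⥤ B) [u.Full] [u.Faithful] [PreservesFiniteLimits u] [PreservesFiniteColimits u] [u.IsRightAdjoint]
    (uStar : B ⥤ A) (adj : u ⊣ uStar)
    (hlen : ∀ X : A, IsArtinianObject X ∧ IsNoetherianObject X)
    (hsimple : ∀ X : A, Simple X → Simple (u.obj X)) (Y : B) :
    Mono (adj.counit.app Y) := by
  apply key u hlen hsimple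
  intro Z f hf
  obtain ⟨f', rfl⟩ := u.map_surjective f
  have h1 : (adj.homEquiv Z Y).symm f' = 0 := by
    rw [Adjunction.homEquiv_counit]
    exact hf
  have : u.PreservesZeroMorphisms := inferInstance
  have h2 : f' = 0 := by
    apply (adj.homEquiv Z Y).symm.injective
    rw [h1, Adjunction.homEquiv_counit, u.map_zero, zero_comp]
  rw [h2, u.map_zero]

end Groth.Agent.S11523
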