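import Groth.Statements.S11524
import Groth.Agent.Lib.Helper28TateBase
-- import your own Groth.Agent.* helpers here

set_option autoImplicit false
universe u
open AdicRing

namespace Groth.Agent.S11524

/-- Let R be a base ring of class (N) or (V) for the ideal I, A an R-algebra topologically of finite
type and M a finite A-module which is flat over R. Then M is of finite presentation over A. (Class
(V) is taken here to consist of complete valuation rings of height one.) -/
theorem result
    (R : Type u) [CommRing R] (I : Ideal R) (hR : AdicRing.IsBase R I)
    (A : Type u) [CommRing A] [Algebra R A] (hA : AdicRing.TopFiniteType R I A)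
    (M : Type u) [AddCommGroup M] [Module A M] [Module R M] [IsScalarTower R A M]
    [Module.Finite A M] [Module.Flat R M] :
    Module.FinitePresentation A M := by
  obtain ⟨hc, h | h⟩ := hR
  · obtain ⟨hN, -⟩ := h
    have := Groth.Agent.Lib.Helper28.TateBase.isNoetherianRing_of_topFiniteType R I A hA
    exact Module.finitePresentation_of_finite A M
  · obtain ⟨hD, hV, hdim, t, ht, rfl⟩ := h
    have : ValuationRing R := {}
    have hH : IsHausdorff (Ideal.span {t}) R := hc.toIsHausdorff
    refine Groth.Agent.Lib.Helper28.TateBase.fp_of_finite_tf R t ht A hA M ?_
    intro x hx
    rw [algebraMap_smul] at hx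
    have hreg : IsSMulRegular M t :=
      Module.Flat.isSMulRegular_of_isRegular (IsRegular.of_ne_zero ht)
    exact hreg (by simp only [hx, smul_zero])

end Groth.Agent.S11524
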