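import Groth.Statements.S11525
import Groth.Agent.Lib.Helper28TateBase
-- import your own Groth.Agent.* helpers here

set_option autoImplicit false
universe u
open AdicRing

namespace Groth.Agent.S11525

/-- Let R be a base ring of class (N) or (V) for the ideal I and A an R-algebra topologically of finite
type without I-power torsion. Then A is topologically of finite presentation. -/
theorem result
    (R : Type u) [CommRing R] (I : Ideal R) (hR : AdicRing.IsBase R I)
    (A : Type u) [CommRing A] [Algebra R A] (hA : AdicRing.TopFiniteType R I A)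
    (hT : AdicRing.NoPowTorsion I A) :
    AdicRing.TopFinitePresentation R I A := by
  obtain ⟨n, φ, hφ⟩ := hA
  refine ⟨n, φ, hφ, ?_⟩
  obtain ⟨hc, h | h⟩ := hR
  · obtain ⟨hN, -⟩ := h
    have h1 : IsNoetherianRing (RPow R I n) :=
      Groth.Agent.Lib.Helper19.isNoetherianRing_adicCompletion _
    exact IsNoetherian.noetherian _
  · obtain ⟨hD, hV, hdim, t, ht, rfl⟩ := h
    have : ValuationRing R := {}
    have hH : IsHausdorff (Ideal.span {t}) R := hc.toIsHausdorff
    refine Groth.Agent.Lib.Helper28.TateBase.fg_of_saturated R t ht (RPow R (Ideal.span {t}) n)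
      (Groth.Agent.Lib.Helper28.TateBase.topFiniteType_rPow R _ n) (RPow R (Ideal.span {t}) n)
      (RingHom.ker φ.toRingHom) ?_
    intro x hx
    rw [RingHom.mem_ker] at hx ⊢
    apply hT (φ x) 1
    intro a ha
    rw [pow_one, Ideal.mem_span_singleton] at ha
    obtain ⟨b, rfl⟩ := ha
    have h2 : φ (algebraMap R _ t • x) = 0 := hx
    rw [smul_eq_mul, map_mul, AlgHom.commutes] at h2
    rw [mul_comm, mul_smul, Algebra.smul_def t, h2, smul_zero]

end Groth.Agent.S11525
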