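import Groth.Statements.S1153
import Groth.Agent.Lib.Helper1ProperOver
import Mathlib.AlgebraicGeometry.Morphisms.FlatDescent

set_option autoImplicit false
open CategoryTheory CategoryTheory.Limits AlgebraicGeometry Opposite
universe u
open Desc

namespace Groth.Agent.S1153

open MorphismProperty in
/-- Properness descends along a quasi-compact flat surjective base change, for a morphism locally
of finite type. -/
theorem isProper_of_isPullback_fpqc {T' T Y Y' : Scheme.{u}} {k' : T' ⟶ Y'} {a : T' ⟶ T}
    {k : T ⟶ Y} {g : Y' ⟶ Y} (sq : IsPullback k' a g k) [QuasiCompact g] [Flat g] [Surjective g]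
    [LocallyOfFiniteType k] [IsProper k'] : IsProper k := by
  have hQ : (@Surjective ⊓ @Flat ⊓ @QuasiCompact : MorphismProperty Scheme.{u}) g :=
    ⟨⟨‹_›, ‹_›⟩, ‹_›⟩
  have h1 : UniversallyClosed k :=
    of_isPullback_of_descendsAlong (P := @UniversallyClosed)
      (Q := @Surjective ⊓ @Flat ⊓ @QuasiCompact) sq hQ inferInstance
  have h2 : MorphismProperty.diagonal (@UniversallyClosed : MorphismProperty Scheme.{u}) k := by
    refine of_isPullback_of_descendsAlong
      (P := MorphismProperty.diagonal (@UniversallyClosed : MorphismProperty Scheme.{u}))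
      (Q := @Surjective ⊓ @Flat ⊓ @QuasiCompact) sq hQ ?_
    rw [diagonal_iff]
    infer_instance
  rw [diagonal_iff] at h2
  have h3 : IsSeparated k := by
    constructor
    exact IsClosedImmersion.of_isPreimmersion _ (pullback.diagonal k).isClosedMap.isClosed_range
  exact { }

/-- Let f : X ⟶ Y be locally of finite type, Z a closed subset of X and g : Y' ⟶ Y quasi-compact, flat
and surjective. If the preimage of Z in X ×_Y Y' is proper over Y', then Z is proper over Y. -/
theorem result {X Y Y' : Scheme.{u}} (f : X ⟶ Y) [LocallyOfFiniteType f] (Z : Set X) (hZ : IsClosed Z)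
    (g : Y' ⟶ Y) [QuasiCompact g] [Flat g] [Surjective g]
    (h : ClSub.IsProperOver (pullback.snd f g) ((pullback.fst f g).base ⁻¹' Z)) :
    ClSub.IsProperOver f Z := by
  open Groth.Agent.Lib.Helper1 in
  refine ⟨hZ, ?_⟩
  have hr : Set.range (pullback.snd (redι Z hZ) (pullback.fst f g)) =
      (pullback.fst f g).base ⁻¹' Z := by
    rw [Scheme.Pullback.range_snd, range_redι]
  rw [isProperOver_iff_isProper_comp (pullback.snd f g)
    (pullback.snd (redι Z hZ) (pullback.fst f g)) _ hr] at h
  have big : IsPullback (pullback.fst (redι Z hZ) (pullback.fst f g))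
      (pullback.snd (redι Z hZ) (pullback.fst f g) ≫ pullback.snd f g) (redι Z hZ ≫ f) g :=
    (IsPullback.of_hasPullback (redι Z hZ) (pullback.fst f g)).paste_vert
      (IsPullback.of_hasPullback f g)
  exact isProper_of_isPullback_fpqc big.flip

end Groth.Agent.S1153
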