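import Groth.Statements.S11532
import Groth.Agent.Lib.Helper28TateFlat
-- import your own Groth.Agent.* helpers here

set_option autoImplicit false
universe u
open scoped TensorProduct
open AdicRing

namespace Groth.Agent.S11532

/-- Let R be a base ring of class (N) or (V) for the ideal I, A → B a morphism of R-algebras
topologically of finite type and M a finite B-module. Then M is a faithfully flat A-module exactly
when, for every n, writing A_n = A/I^(n+1)A, the module A_n ⊗_A M is faithfully flat over A_n. -/
theorem result
    (R : Type u) [CommRing R] (I : Ideal R) (hR : AdicRing.IsBase R I)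
    (A : Type u) [CommRing A] [Algebra R A] (hA : AdicRing.TopFiniteType R I A)
    (B : Type u) [CommRing B] [Algebra R B] [Algebra A B] [IsScalarTower R A B]
    (hB : AdicRing.TopFiniteType R I B)
    (M : Type u) [AddCommGroup M] [Module B M] [Module A M] [IsScalarTower A B M]
    [Module.Finite B M] :
    Module.FaithfullyFlat A M ↔
      ∀ n : ℕ, Module.FaithfullyFlat (AdicRing.trunc A I n) ((AdicRing.trunc A I n) ⊗[A] M) := by
  constructor
  · intro h n
    infer_instance
  · intro h
    have hflat : Module.Flat A M := by
      apply Groth.Agent.Lib.Helper28.TateFlat.flat_of_flat_quotient_pow R I hR A hA B hB M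
      intro n
      have hn := (h n).toFlat
      have e : (I ^ (n + 1)).map (algebraMap R A) = (I.map (algebraMap R A)) ^ (n + 1) :=
        Ideal.map_pow _ _ _
      unfold AdicRing.trunc at hn
      rw [e] at hn
      exact hn
    refine ⟨fun m hm hcon => ?_⟩
    -- IA ≤ m
    have hcompl : IsAdicComplete I A := Groth.Agent.S11529.result R I hR A hA A
    have hcompl' : IsAdicComplete (I.map (algebraMap R A)) A :=
      (IsAdicComplete.map_algebraMap_iff (R := R) (S := A) I A).mpr hcompl
    have hjac : I.map (algebraMap R A) ≤ (⊥ : Ideal A).jacobson :=
      IsAdicComplete.le_jacobson_bot _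
    have hle : (I ^ (0 + 1)).map (algebraMap R A) ≤ m := by
      rw [zero_add, pow_one]
      refine hjac.trans ?_
      rw [Ideal.jacobson]
      exact sInf_le ⟨bot_le, hm⟩
    set A₀ := AdicRing.trunc A I 0 with hA₀
    let q : A →+* A₀ := Ideal.Quotient.mk _
    have hq : Function.Surjective q := Ideal.Quotient.mk_surjective
    have hmax : (m.map q).IsMaximal := by
      apply Ideal.IsMaximal.map_of_surjective_of_ker_le hq
      rw [Ideal.mk_ker]
      exact hle
    have h0 := (h 0).submodule_ne_top hmax
    apply h0
    rw [eq_top_iff]
    rintro y -
    induction y using TensorProduct.induction_on with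
    | zero => exact Submodule.zero_mem _
    | add a b ha hb => exact Submodule.add_mem _ ha hb
    | tmul a x =>
      have hx : x ∈ m • (⊤ : Submodule A M) := by rw [hcon]; trivial
      refine Submodule.smul_induction_on hx ?_ ?_
      · intro c hc x' _
        have e1 : a ⊗ₜ[A] (c • x') = (q c) • (a ⊗ₜ[A] x') := by
          rw [TensorProduct.smul_tmul', smul_eq_mul, ← TensorProduct.smul_tmul]
          congr 1
        rw [e1]
        exact Submodule.smul_mem_smul (Ideal.mem_map_of_mem q hc) trivial
      · intro x₁ x₂ h₁ h₂
        rw [TensorProduct.tmul_add]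
        exact Submodule.add_mem _ h₁ h₂

end Groth.Agent.S11532
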