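import Groth.Statements.S11534
import Groth.Agent.Lib.Helper28TateCLoc2
-- import your own Groth.Agent.* helpers here

set_option autoImplicit false
universe u
open AdicRing

namespace Groth.Agent.S11534

open Groth.Agent.Lib.Helper28.TateCLoc in
theorem span_range_mk {A : Type u} [CommRing A] (J : Ideal A) (r : ℕ) (f : Fin r → A)
    (hf : Ideal.span (Set.range f) = ⊤) :
    Ideal.span (Set.range fun i => Ideal.Quotient.mk J (f i)) = ⊤ := by
  have := congrArg (Ideal.map (Ideal.Quotient.mk J)) hf
  rw [Ideal.map_span, Ideal.map_top, ← Set.range_comp] at this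
  exact this

open Groth.Agent.Lib.Helper28.TateCLoc in
theorem topFiniteType_of_cLoc (R : Type u) [CommRing R] (I : Ideal R) (hI : I.FG)
    (A : Type u) [CommRing A] [Algebra R A] [IsAdicComplete (I.map (algebraMap R A)) A]
    (r : ℕ) (f : Fin r → A) (hf : Ideal.span (Set.range f) = ⊤)
    (h : ∀ i, AdicRing.TopFiniteType R I (AdicRing.CLoc I (f i))) :
    AdicRing.TopFiniteType R I A := by
  have h1 : (algebraMap R (A ⧸ (I ^ 1).map (algebraMap R A))).FiniteType := by
    refine RingHom.finiteType_ofLocalizationSpanTarget.ofIsLocalization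
      RingHom.finiteType_respectsIso _
      (Set.range fun i => Ideal.Quotient.mk ((I ^ 1).map (algebraMap R A)) (f i))
      (span_range_mk _ r f hf) ?_
    rintro ⟨_, i, rfl⟩
    refine ⟨AdicRing.CLoc I (f i) ⧸ (I ^ 1).map (algebraMap R (AdicRing.CLoc I (f i))),
      inferInstance, (qMap R I A (f i) 1).toAlgebra, isLocalization_away_quot R I A (f i) 1 hI, ?_⟩
    have h2 := finiteType_quot_of_topFiniteType R I (AdicRing.CLoc I (f i)) hI (h i) 1
    have h3 : (@algebraMap (A ⧸ (I ^ 1).map (algebraMap R A))
        (AdicRing.CLoc I (f i) ⧸ (I ^ 1).map (algebraMap R (AdicRing.CLoc I (f i)))) _ _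
        (qMap R I A (f i) 1).toAlgebra).comp (algebraMap R (A ⧸ (I ^ 1).map (algebraMap R A))) =
        algebraMap R (AdicRing.CLoc I (f i) ⧸
          (I ^ 1).map (algebraMap R (AdicRing.CLoc I (f i)))) := by
      ext x
      change qMap R I A (f i) 1 (Ideal.Quotient.mk _ (algebraMap R A x)) = _
      rw [qMap_mk, ← IsScalarTower.algebraMap_apply]
      rfl
    rw [h3]
    exact h2
  exact topFiniteType_of_finiteType_quot R I A hI (RingHom.finiteType_algebraMap.mp h1)

/-- Let R be a base ring of class (N) or (V) for the ideal I, A an R-algebra which is complete and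
separated for the I-adic topology, and f_1, ..., f_r elements generating the unit ideal of A. Then A
is topologically of finite type over R if and only if each complete localization A⟨f_i⁻¹⟩ is. -/
theorem result
    (R : Type u) [CommRing R] (I : Ideal R) (hR : AdicRing.IsBase R I)
    (A : Type u) [CommRing A] [Algebra R A] [IsAdicComplete (I.map (algebraMap R A)) A]
    (r : ℕ) (f : Fin r → A) (hf : Ideal.span (Set.range f) = ⊤) :
    AdicRing.TopFiniteType R I A ↔ ∀ i, AdicRing.TopFiniteType R I (AdicRing.CLoc I (f i)) := by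
  have hI := Groth.Agent.Lib.Helper28.TateCLoc.isBase_fg R I hR
  constructor
  · intro hA i
    exact Groth.Agent.Lib.Helper28.TateCLoc.topFiniteType_cLoc R I A (f i) hI hA
  · intro h
    exact topFiniteType_of_cLoc R I hI A r f hf h

end Groth.Agent.S11534
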