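import Groth.Statements.S11535
import Groth.Agent.Lib.Helper28TateCLoc2
-- import your own Groth.Agent.* helpers here

set_option autoImplicit false
universe u
open AdicRing

namespace Groth.Agent.S11535

theorem span_range_mk {A : Type u} [CommRing A] (J : Ideal A) (r : ℕ) (f : Fin r → A)
    (hf : Ideal.span (Set.range f) = ⊤) :
    Ideal.span (Set.range fun i => Ideal.Quotient.mk J (f i)) = ⊤ := by
  have := congrArg (Ideal.map (Ideal.Quotient.mk J)) hf
  rw [Ideal.map_span, Ideal.map_top, ← Set.range_comp] at this
  exact this

open Groth.Agent.Lib.Helper28.TateCLoc in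
theorem qMap_comp (R : Type u) [CommRing R] (I : Ideal R)
    (A : Type u) [CommRing A] [Algebra R A] (f : A) (k : ℕ) :
    (qMap R I A f k).comp (Ideal.quotientMap ((I ^ k).map (algebraMap R A)) (algebraMap R A)
        Ideal.le_comap_map) =
      Ideal.quotientMap ((I ^ k).map (algebraMap R (AdicRing.CLoc I f)))
        (algebraMap R (AdicRing.CLoc I f)) Ideal.le_comap_map := by
  apply Ideal.Quotient.ringHom_ext
  ext x
  simp only [RingHom.comp_apply, Ideal.quotientMap_mk]
  rw [qMap_mk, ← IsScalarTower.algebraMap_apply]

open Groth.Agent.Lib.Helper28.TateCLoc in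
theorem qMap_fp (R : Type u) [CommRing R] (I : Ideal R) (hI : I.FG)
    (A : Type u) [CommRing A] [Algebra R A] (f : A) (k : ℕ) :
    (qMap R I A f k).FinitePresentation := by
  let _ : Algebra (A ⧸ (I ^ k).map (algebraMap R A))
      (AdicRing.CLoc I f ⧸ (I ^ k).map (algebraMap R (AdicRing.CLoc I f))) :=
    (qMap R I A f k).toAlgebra
  have := isLocalization_away_quot R I A f k hI
  exact IsLocalization.Away.finitePresentation
    (Ideal.Quotient.mk ((I ^ k).map (algebraMap R A)) f)

/-- Let R be a base ring of class (N) or (V) for the ideal I, A an R-algebra which is complete and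
separated for the I-adic topology, and f_1, ..., f_r elements generating the unit ideal of A. Then A
is topologically of finite presentation over R if and only if each complete localization A⟨f_i⁻¹⟩
is. -/
theorem result
    (R : Type u) [CommRing R] (I : Ideal R) (hR : AdicRing.IsBase R I)
    (A : Type u) [CommRing A] [Algebra R A] [IsAdicComplete (I.map (algebraMap R A)) A]
    (r : ℕ) (f : Fin r → A) (hf : Ideal.span (Set.range f) = ⊤) :
    AdicRing.TopFinitePresentation R I A ↔
      ∀ i, AdicRing.TopFinitePresentation R I (AdicRing.CLoc I (f i)) := by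
  have hI := Groth.Agent.Lib.Helper28.TateCLoc.isBase_fg R I hR
  have hc : ∀ i, IsAdicComplete (I.map (algebraMap R (AdicRing.CLoc I (f i))))
      (AdicRing.CLoc I (f i)) :=
    fun i => Groth.Agent.Lib.Helper28.TateCLoc.isAdicComplete_cLoc R I A (f i) hI
  constructor
  · intro hA i
    have := hc i
    rw [Groth.Agent.S11530.result R I hR (AdicRing.CLoc I (f i))]
    intro n
    rw [← qMap_comp]
    exact (qMap_fp R I hI A (f i) (n + 1)).comp
      ((Groth.Agent.S11530.result R I hR A).mp hA n)
  · intro h
    rw [Groth.Agent.S11530.result R I hR A]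
    intro n
    refine RingHom.finitePresentation_ofLocalizationSpanTarget.ofIsLocalization
      RingHom.finitePresentation_respectsIso _
      (Set.range fun i => Ideal.Quotient.mk ((I ^ (n + 1)).map (algebraMap R A)) (f i))
      (span_range_mk _ r f hf) ?_
    rintro ⟨_, i, rfl⟩
    refine ⟨AdicRing.CLoc I (f i) ⧸ (I ^ (n + 1)).map (algebraMap R (AdicRing.CLoc I (f i))),
      inferInstance, (Groth.Agent.Lib.Helper28.TateCLoc.qMap R I A (f i) (n + 1)).toAlgebra,
      Groth.Agent.Lib.Helper28.TateCLoc.isLocalization_away_quot R I A (f i) (n + 1) hI, ?_⟩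
    have := hc i
    have h2 := (Groth.Agent.S11530.result R I hR (AdicRing.CLoc I (f i))).mp (h i) n
    rw [← qMap_comp] at h2
    exact h2

end Groth.Agent.S11535
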