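import Groth.Statements.S11536
import Groth.Agent.S11535
import Groth.Agent.S11533
-- import your own Groth.Agent.* helpers here

set_option autoImplicit false
universe u
open AdicRing

namespace Groth.Agent.S11536

open TensorProduct in
theorem eq_zero_of_faithfullyFlat {A : Type*} [CommRing A] {M : Type*} [AddCommGroup M]
    [Module A M] [Module.FaithfullyFlat A M] (a : A) (h : ∀ m : M, a • m = 0) : a = 0 := by
  have h1 : LinearMap.lTensor M (LinearMap.lsmul A A a) = 0 := by
    apply TensorProduct.ext'
    intro m b
    rw [LinearMap.lTensor_tmul, LinearMap.lsmul_apply, LinearMap.zero_apply,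
      TensorProduct.tmul_smul, TensorProduct.smul_tmul', h, TensorProduct.zero_tmul]
  have h2 := (Module.FaithfullyFlat.zero_iff_lTensor_zero A M (LinearMap.lsmul A A a)).mpr h1
  have h3 := congrArg (fun g => g 1) h2
  simpa using h3

open TensorProduct in
theorem noPowTorsion_of_flat (R : Type u) [CommRing R] (I : Ideal R) (hI : I.FG)
    (A : Type u) [CommRing A] [Algebra R A] (M : Type u) [AddCommGroup M] [Module A M]
    [Module R M] [IsScalarTower R A M] [Module.Flat A M]
    (hA : AdicRing.NoPowTorsion I A) : AdicRing.NoPowTorsion I M := by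
  intro x n hx
  obtain ⟨s, t, ht⟩ := Submodule.fg_iff_exists_fin_generating_family.mp (hI.pow (n := n))
  let f : A →ₗ[A] (Fin s → A) := LinearMap.pi (fun j => LinearMap.lsmul A A (algebraMap R A (t j)))
  have hf : Function.Injective f := by
    rw [← LinearMap.ker_eq_bot, LinearMap.ker_eq_bot']
    intro a ha
    apply hA a n
    intro r hr
    rw [← ht] at hr
    induction hr using Submodule.span_induction with
    | mem r hr =>
      obtain ⟨j, rfl⟩ := hr
      have := congrFun ha j
      simpa [f, Algebra.smul_def] using this
    | zero => simp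
    | add r r' _ _ h1 h2 => rw [add_smul, h1, h2, add_zero]
    | smul c r _ h1 => rw [smul_eq_mul, mul_smul, h1, smul_zero]
  have hinj := Module.Flat.lTensor_preserves_injective_linearMap (M := M) f hf
  have h0 : (LinearMap.lTensor M f) (x ⊗ₜ[A] (1 : A)) = 0 := by
    apply (TensorProduct.piScalarRight A A M (Fin s)).injective
    rw [LinearMap.lTensor_tmul, TensorProduct.piScalarRight_apply,
      TensorProduct.piScalarRightHom_tmul, map_zero]
    funext j
    simp only [f, LinearMap.pi_apply, LinearMap.lsmul_apply, smul_eq_mul, mul_one, Pi.zero_apply]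
    rw [algebraMap_smul]
    exact hx (t j) (by rw [← ht]; exact Submodule.subset_span ⟨j, rfl⟩)
  have h1 : x ⊗ₜ[A] (1 : A) = 0 := hinj (by rw [h0, map_zero])
  have h2 := congrArg (TensorProduct.rid A M) h1
  simpa using h2

/-- Let R be a base ring of class (N) or (V) for the ideal I, A an R-algebra which is complete and
separated for the I-adic topology, and f_1, ..., f_r elements generating the unit ideal of A. Then A
is admissible over R if and only if each complete localization A⟨f_i⁻¹⟩ is. -/
theorem result
    (R : Type u) [CommRing R] (I : Ideal R) (hR : AdicRing.IsBase R I)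
    (A : Type u) [CommRing A] [Algebra R A] [IsAdicComplete (I.map (algebraMap R A)) A]
    (r : ℕ) (f : Fin r → A) (hf : Ideal.span (Set.range f) = ⊤) :
    AdicRing.Admissible R I A ↔ ∀ i, AdicRing.Admissible R I (AdicRing.CLoc I (f i)) := by
  have hI := Groth.Agent.Lib.Helper28.TateCLoc.isBase_fg R I hR
  have hft : AdicRing.TopFinitePresentation R I A → AdicRing.TopFiniteType R I A := by
    rintro ⟨n, φ, hφ, -⟩
    exact ⟨n, φ, hφ⟩
  constructor
  · rintro ⟨hfp, htor⟩ i
    refine ⟨(Groth.Agent.S11535.result R I hR A r f hf).mp hfp i, ?_⟩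
    have hflat := (Groth.Agent.S11533.result R I hR A (hft hfp) r f hf).1 i
    exact noPowTorsion_of_flat R I hI A (AdicRing.CLoc I (f i)) htor
  · intro h
    have hfp : AdicRing.TopFinitePresentation R I A :=
      (Groth.Agent.S11535.result R I hR A r f hf).mpr (fun i => (h i).1)
    refine ⟨hfp, ?_⟩
    have hff := (Groth.Agent.S11533.result R I hR A (hft hfp) r f hf).2
    intro x n hx
    apply eq_zero_of_faithfullyFlat (M := ∀ i, AdicRing.CLoc I (f i)) x
    intro m
    funext i
    have h1 : algebraMap A (AdicRing.CLoc I (f i)) x = 0 := by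
      apply (h i).2 _ n
      intro a ha
      rw [Algebra.smul_def, IsScalarTower.algebraMap_apply R A (AdicRing.CLoc I (f i)),
        ← map_mul, ← Algebra.smul_def, hx a ha, map_zero]
    rw [Pi.smul_apply, Pi.zero_apply, Algebra.smul_def, h1, zero_mul]

end Groth.Agent.S11536
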