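import Groth.Statements.S11539
import Groth.Agent.Lib.Helper28Gabber3
-- import your own Groth.Agent.* helpers here

set_option autoImplicit false
universe u
open AdicRing

namespace Groth.Agent.S11539

open Groth.Agent.Lib.Helper28 Groth.Agent.Lib.Helper28.Gabber in
theorem flat_completion_V (R : Type u) [CommRing R] [IsDomain R] [ValuationRing R]
    [Ring.KrullDimLE 1 R] (t : R) (ht : t ≠ 0) [IsAdicComplete (Ideal.span {t}) R]
    (hR : AdicRing.IsBase R (Ideal.span {t}))
    (A : Type u) [CommRing A] [Algebra R A] (hA : AdicRing.TopFiniteType R (Ideal.span {t}) A)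
    (C : Type u) [CommRing C] [Algebra R C] [Algebra A C] [IsScalarTower R A C]
    [hft : Algebra.FiniteType A C] :
    Module.Flat C (AdicCompletion ((Ideal.span {t}).map (algebraMap R C)) C) := by
  obtain ⟨n, φ, hφ⟩ := id hA
  obtain ⟨m, f, hf⟩ := Algebra.FiniteType.iff_quotient_mvPolynomial''.mp hft
  let ψ : PB R t n m →ₐ[R] C := (f.restrictScalars R).comp (MvPolynomial.mapAlgHom φ)
  have hψ : Function.Surjective ψ := by
    have h1 : Function.Surjective (MvPolynomial.mapAlgHom (σ := Fin m) φ) :=
      MvPolynomial.map_surjective φ.toRingHom hφ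
    exact hf.comp h1
  let algPC : Algebra (PB R t n m) C := ψ.toRingHom.toAlgebra
  have tower : IsScalarTower R (PB R t n m) C :=
    IsScalarTower.of_algebraMap_eq (fun r => (ψ.commutes r).symm)
  have hJ : ((Ideal.span {t}).map (algebraMap R (PB R t n m))).map
      (algebraMap (PB R t n m) C) = (Ideal.span {t}).map (algebraMap R C) := by
    rw [Ideal.map_map, ← IsScalarTower.algebraMap_eq]
  have hflatP : Module.Flat (PB R t n m) (PBh R t n m) := flat_PBh R t ht hR n m
  have hfinC : Module.Finite (PB R t n m) C :=
    Module.Finite.of_surjective (Algebra.linearMap (PB R t n m) C) hψ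
  have hA0 : AdicRing.TopFiniteType R (Ideal.span {t}) (AdicRing.RPow R (Ideal.span {t}) n) :=
    TateBase.topFiniteType_rPow R _ n
  apply flat_completion_of_injective_map
  · intro 𝔟 h𝔟
    have : Module.Finite C 𝔟 := Module.Finite.iff_fg.mpr h𝔟
    exact (Groth.Agent.S11537.result R (Ideal.span {t}) hR A hA C 𝔟).1
  · intro 𝔟 h𝔟
    apply map_injective_transfer _ _ hJ 𝔟.subtype
    have h1 : Module.Finite C 𝔟 := Module.Finite.iff_fg.mpr h𝔟
    have h2 : Module.Finite (PB R t n m) 𝔟 := Module.Finite.trans C 𝔟
    apply injective_map_of_flat _ (𝔟.subtype.restrictScalars (PB R t n m))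
      Subtype.val_injective
    · exact (Groth.Agent.S11537.result R (Ideal.span {t}) hR
        (AdicRing.RPow R (Ideal.span {t}) n) hA0 (PB R t n m) 𝔟).2
    · exact (Groth.Agent.S11537.result R (Ideal.span {t}) hR
        (AdicRing.RPow R (Ideal.span {t}) n) hA0 (PB R t n m) C).1

/-- Let R be a base ring of class (N) or (V) for the ideal I, A an R-algebra topologically of finite
type and C a finitely generated A-algebra. The I-adic completion of C is then flat over C. -/
theorem result
    (R : Type u) [CommRing R] (I : Ideal R) (hR : AdicRing.IsBase R I)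
    (A : Type u) [CommRing A] [Algebra R A] (hA : AdicRing.TopFiniteType R I A)
    (C : Type u) [CommRing C] [Algebra R C] [Algebra A C] [IsScalarTower R A C]
    [Algebra.FiniteType A C] :
    Module.Flat C (AdicCompletion (I.map (algebraMap R C)) C) := by
  obtain ⟨hc, hN | hV⟩ := id hR
  · obtain ⟨hN, -⟩ := hN
    have h1 : IsNoetherianRing A :=
      Groth.Agent.Lib.Helper28.TateBase.isNoetherianRing_of_topFiniteType R I A hA
    have h2 : IsNoetherianRing C := Algebra.FiniteType.isNoetherianRing A C
    exact AdicCompletion.flat_of_isNoetherian _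
  · obtain ⟨hdom, hpv, hdim, t, ht, rfl⟩ := hV
    have : ValuationRing R := {}
    exact flat_completion_V R t ht hR A hA C

end Groth.Agent.S11539
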