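import Groth.Statements.S11540
import Groth.Agent.S11539
import Groth.Agent.S11536
-- import your own Groth.Agent.* helpers here

set_option autoImplicit false
universe u
open AdicRing

namespace Groth.Agent.S11540

section chart

variable {A : Type u} [CommRing A] {r : ℕ} (f : Fin (r + 1) → A) (i : Fin (r + 1))

/-- the evaluation `ζ_j ↦ f_j / f_i` -/
noncomputable def gfun : {j : Fin (r + 1) // j ≠ i} → Localization.Away (f i) :=
  fun j => IsLocalization.mk' (Localization.Away (f i)) (f j.1)
    (⟨f i, Submonoid.mem_powers _⟩ : Submonoid.powers (f i))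

theorem key_poly (p : MvPolynomial {j : Fin (r + 1) // j ≠ i} A) :
    ∃ (d : ℕ) (a : A),
      (Ideal.Quotient.mk (Ideal.span (Set.range fun j : {j : Fin (r + 1) // j ≠ i} =>
        MvPolynomial.C (f i) * MvPolynomial.X j - MvPolynomial.C (f j.1)))
          (MvPolynomial.C (f i) ^ d * p) : chartAlg f i) =
        Ideal.Quotient.mk _ (MvPolynomial.C a) ∧
      algebraMap A (Localization.Away (f i)) a =
        algebraMap A (Localization.Away (f i)) (f i) ^ d * MvPolynomial.aeval (gfun f i) p := by
  induction p using MvPolynomial.induction_on with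
  | C a => exact ⟨0, a, by simp, by simp⟩
  | add p q hp hq =>
    obtain ⟨d1, a1, h1, h1'⟩ := hp
    obtain ⟨d2, a2, h2, h2'⟩ := hq
    refine ⟨d1 + d2, f i ^ d2 * a1 + f i ^ d1 * a2, ?_, ?_⟩
    · have e : MvPolynomial.C (f i) ^ (d1 + d2) * (p + q) =
          MvPolynomial.C (f i) ^ d2 * (MvPolynomial.C (f i) ^ d1 * p) +
          MvPolynomial.C (f i) ^ d1 * (MvPolynomial.C (f i) ^ d2 * q) := by ring
      rw [e, map_add, RingHom.map_mul _ (MvPolynomial.C (f i) ^ d2) (MvPolynomial.C (f i) ^ d1 * p),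
        RingHom.map_mul _ (MvPolynomial.C (f i) ^ d1) (MvPolynomial.C (f i) ^ d2 * q), h1, h2]
      simp only [map_add, map_mul, map_pow]
    · rw [map_add, map_mul, map_mul, h1', h2', map_add, map_pow, map_pow]
      ring
  | mul_X p j hp =>
    obtain ⟨d, a, h1, h1'⟩ := hp
    refine ⟨d + 1, a * f j.1, ?_, ?_⟩
    · have e : MvPolynomial.C (f i) ^ (d + 1) * (p * MvPolynomial.X j) =
          (MvPolynomial.C (f i) ^ d * p) * (MvPolynomial.C (f i) * MvPolynomial.X j) := by ring
      have h2 : (Ideal.Quotient.mk (Ideal.span (Set.range fun j : {j : Fin (r + 1) // j ≠ i} =>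
          MvPolynomial.C (f i) * MvPolynomial.X j - MvPolynomial.C (f j.1)))
          (MvPolynomial.C (f i) * MvPolynomial.X j) : chartAlg f i) =
          Ideal.Quotient.mk _ (MvPolynomial.C (f j.1)) := by
        rw [Ideal.Quotient.eq]
        exact Ideal.subset_span ⟨j, rfl⟩
      rw [e, RingHom.map_mul _ (MvPolynomial.C (f i) ^ d * p)
        (MvPolynomial.C (f i) * MvPolynomial.X j), h1, h2, ← map_mul, ← map_mul]
    · rw [map_mul, h1', map_mul, MvPolynomial.aeval_X, pow_succ]
      have h3 : algebraMap A (Localization.Away (f i)) (f j.1) =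
          algebraMap A (Localization.Away (f i)) (f i) * gfun f i j := by
        rw [gfun, mul_comm]
        exact (IsLocalization.mk'_spec (Localization.Away (f i)) (f j.1)
          (⟨f i, Submonoid.mem_powers _⟩ : Submonoid.powers (f i))).symm
      rw [h3]
      ring

/-- the map `A[f_j/f_i] → A[1/f_i]` -/
noncomputable def rho : chartAlg f i →ₐ[A] Localization.Away (f i) :=
  Ideal.Quotient.liftₐ _ (MvPolynomial.aeval (gfun f i)) (by
    intro a ha
    have hle : Ideal.span (Set.range fun j : {j : Fin (r + 1) // j ≠ i} =>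
        MvPolynomial.C (f i) * MvPolynomial.X j - MvPolynomial.C (f j.1)) ≤
        RingHom.ker (MvPolynomial.aeval (gfun f i) :
          MvPolynomial {j : Fin (r + 1) // j ≠ i} A →ₐ[A] Localization.Away (f i)).toRingHom := by
      rw [Ideal.span_le]
      rintro _ ⟨j, rfl⟩
      rw [SetLike.mem_coe, RingHom.mem_ker]
      change MvPolynomial.aeval (gfun f i) _ = 0
      rw [map_sub, map_mul, MvPolynomial.aeval_C, MvPolynomial.aeval_C, MvPolynomial.aeval_X,
        gfun, mul_comm, sub_eq_zero]
      exact IsLocalization.mk'_spec (Localization.Away (f i)) (f j.1)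
        (⟨f i, Submonoid.mem_powers _⟩ : Submonoid.powers (f i))
    exact hle ha)

theorem rho_mk (p : MvPolynomial {j : Fin (r + 1) // j ≠ i} A) :
    rho f i (Ideal.Quotient.mk _ p) = MvPolynomial.aeval (gfun f i) p := rfl

theorem exists_pow_mul_eq_zero_of_rho_eq_zero (c : chartAlg f i) (hc : rho f i c = 0) :
    ∃ N : ℕ, algebraMap A (chartAlg f i) (f i) ^ N * c = 0 := by
  obtain ⟨p, rfl⟩ := Ideal.Quotient.mk_surjective c
  obtain ⟨d, a, h1, h1'⟩ := key_poly f i p
  rw [rho_mk] at hc
  rw [hc, mul_zero, IsLocalization.map_eq_zero_iff (Submonoid.powers (f i))] at h1'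
  obtain ⟨⟨_, N, rfl⟩, hN⟩ := h1'
  refine ⟨N + d, ?_⟩
  have h2 : algebraMap A (chartAlg f i) (f i) = Ideal.Quotient.mk _ (MvPolynomial.C (f i)) := rfl
  rw [h2, ← map_pow, ← map_mul, pow_add, mul_assoc,
    RingHom.map_mul _ (MvPolynomial.C (f i) ^ N) (MvPolynomial.C (f i) ^ d * p), h1, ← map_pow,
    ← map_mul, ← map_mul]
  simp only at hN
  rw [hN, map_zero, map_zero]

end chart
theorem chart_torsion (R : Type u) [CommRing R] (I : Ideal R) (hI : I.FG)
    (A : Type u) [CommRing A] [Algebra R A] (hT : AdicRing.NoPowTorsion I A) {r : ℕ}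
    (f : Fin (r + 1) → A) (i : Fin (r + 1)) (c : chartAlg f i) (n : ℕ)
    (hc : ∀ a ∈ I ^ n, a • c = 0) :
    ∃ N : ℕ, algebraMap A (chartAlg f i) (f i) ^ N * c = 0 := by
  apply exists_pow_mul_eq_zero_of_rho_eq_zero
  have hT' : AdicRing.NoPowTorsion I (Localization.Away (f i)) :=
    Groth.Agent.S11536.noPowTorsion_of_flat R I hI A _ hT
  apply hT' _ n
  intro a ha
  have h1 := hc a ha
  rw [← algebraMap_smul A a c] at h1
  rw [← algebraMap_smul A a (rho f i c), ← map_smul, h1, map_zero]

theorem map_le_span_fi (R : Type u) [CommRing R] (I : Ideal R)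
    (A : Type u) [CommRing A] [Algebra R A] {r : ℕ}
    (f : Fin (r + 1) → A) (k : ℕ)
    (hopen : (I ^ k).map (algebraMap R A) ≤ Ideal.span (Set.range f)) (i : Fin (r + 1)) :
    (I ^ k).map (algebraMap R (chartAlg f i)) ≤
      Ideal.span {algebraMap A (chartAlg f i) (f i)} := by
  have h1 : (I ^ k).map (algebraMap R (chartAlg f i)) =
      ((I ^ k).map (algebraMap R A)).map (algebraMap A (chartAlg f i)) := by
    rw [Ideal.map_map, ← IsScalarTower.algebraMap_eq]
  rw [h1]
  refine le_trans (Ideal.map_mono hopen) ?_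
  rw [Ideal.map_span, Ideal.span_le]
  rintro _ ⟨_, ⟨j, rfl⟩, rfl⟩
  rw [SetLike.mem_coe, Ideal.mem_span_singleton]
  by_cases hji : j = i
  · rw [hji]
  · refine ⟨Ideal.Quotient.mk _ (MvPolynomial.X ⟨j, hji⟩), ?_⟩
    have h2 : algebraMap A (chartAlg f i) (f j) = Ideal.Quotient.mk _ (MvPolynomial.C (f j)) := rfl
    have h3 : algebraMap A (chartAlg f i) (f i) = Ideal.Quotient.mk _ (MvPolynomial.C (f i)) := rfl
    rw [h2, h3, ← map_mul, eq_comm, Ideal.Quotient.eq]
    exact Ideal.subset_span ⟨⟨j, hji⟩, rfl⟩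

open TensorProduct in
theorem exists_pow_smul_eq_zero_of_flat {C : Type u} [CommRing C] {M : Type u} [AddCommGroup M]
    [Module C M] [Module.Flat C M] (g : C) {s : ℕ} (τ : Fin s → C)
    (hC : ∀ c : C, (∀ l, τ l * c = 0) → ∃ N : ℕ, g ^ N * c = 0) (x : M)
    (hx : ∀ l, τ l • x = 0) : ∃ N : ℕ, g ^ N • x = 0 := by
  let μ : C →ₗ[C] (Fin s → C) := LinearMap.pi (fun l => LinearMap.lsmul C C (τ l))
  have hex : Function.Exact (LinearMap.ker μ).subtype μ := LinearMap.exact_subtype_ker_map μ
  have hex' := Module.Flat.lTensor_exact M hex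
  have h0 : (μ.lTensor M) (x ⊗ₜ[C] (1 : C)) = 0 := by
    apply (TensorProduct.piScalarRight C C M (Fin s)).injective
    rw [LinearMap.lTensor_tmul, TensorProduct.piScalarRight_apply,
      TensorProduct.piScalarRightHom_tmul, map_zero]
    funext l
    simp only [μ, LinearMap.pi_apply, LinearMap.lsmul_apply, smul_eq_mul, mul_one,
      Pi.zero_apply]
    exact hx l
  obtain ⟨z, hz⟩ := (hex' _).mp h0
  have hker : ∀ c : LinearMap.ker μ, ∃ N : ℕ, g ^ N * (c : C) = 0 := by
    intro c
    apply hC
    intro l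
    have hc := c.2
    rw [LinearMap.mem_ker] at hc
    have := congrFun hc l
    simpa [μ] using this
  have hΦ : ∀ z : M ⊗[C] (LinearMap.ker μ),
      ∃ N : ℕ, g ^ N • (((LinearMap.ker μ).subtype.lTensor M) z) = 0 := by
    intro z
    induction z using TensorProduct.induction_on with
    | zero => exact ⟨0, by simp⟩
    | tmul y c =>
      obtain ⟨N, hN⟩ := hker c
      refine ⟨N, ?_⟩
      rw [LinearMap.lTensor_tmul, ← TensorProduct.tmul_smul, Submodule.subtype_apply,
        smul_eq_mul, hN, TensorProduct.tmul_zero]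
    | add z w hz hw =>
      obtain ⟨N1, h1⟩ := hz
      obtain ⟨N2, h2⟩ := hw
      refine ⟨N1 + N2, ?_⟩
      have e1 : g ^ (N1 + N2) • (((LinearMap.ker μ).subtype.lTensor M) z) = 0 := by
        rw [pow_add, mul_comm, mul_smul, h1, smul_zero]
      have e2 : g ^ (N1 + N2) • (((LinearMap.ker μ).subtype.lTensor M) w) = 0 := by
        rw [pow_add, mul_smul, h2, smul_zero]
      rw [map_add, smul_add, e1, e2, add_zero]
  obtain ⟨N, hN⟩ := hΦ z
  rw [hz] at hN
  refine ⟨N, ?_⟩
  have h5 := congrArg (TensorProduct.rid C M) hN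
  rw [LinearEquiv.map_smul, TensorProduct.rid_tmul, one_smul, map_zero] at h5
  exact h5


/-- Let R be a base ring of class (N) or (V) for the ideal I, A an admissible R-algebra and f_0, ...,
f_r elements of A generating an open ideal, i.e. one containing I^k A for some k. Fix i and let C_i
be the I-adic completion of the chart algebra A[ζ_j ; j ≠ i]/(f_i ζ_j − f_j ; j ≠ i). Then the
I-power torsion of C_i coincides with its f_i-power torsion. (That f_i-power torsion is I-power
torsion is elementary; the content is the converse.) -/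
theorem result
    (R : Type u) [CommRing R] (I : Ideal R) (hR : AdicRing.IsBase R I)
    (A : Type u) [CommRing A] [Algebra R A] (hA : AdicRing.Admissible R I A)
    (r : ℕ) (f : Fin (r + 1) → A) (k : ℕ)
    (hopen : (I ^ k).map (algebraMap R A) ≤ Ideal.span (Set.range f)) (i : Fin (r + 1))
    (x : AdicRing.chartCompl I f i) :
    (∃ n : ℕ, ∀ a ∈ I ^ n, a • x = 0) ↔
      ∃ n : ℕ, algebraMap A (AdicRing.chartCompl I f i) (f i) ^ n * x = 0 := by
  have hI := Groth.Agent.Lib.Helper28.TateCLoc.isBase_fg R I hR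
  have hA' : AdicRing.TopFiniteType R I A := by
    obtain ⟨⟨n, φ, hφ, -⟩, -⟩ := hA
    exact ⟨n, φ, hφ⟩
  constructor
  · rintro ⟨n, hn⟩
    have hft : Algebra.FiniteType A (AdicRing.chartAlg f i) :=
      Algebra.FiniteType.of_surjective (Ideal.Quotient.mkₐ A _)
        (Ideal.Quotient.mkₐ_surjective A _)
    have hflat : Module.Flat (AdicRing.chartAlg f i) (AdicRing.chartCompl I f i) :=
      Groth.Agent.S11539.result R I hR A hA' (AdicRing.chartAlg f i)
    obtain ⟨s, t, ht⟩ := Submodule.fg_iff_exists_fin_generating_family.mp (hI.pow (n := n))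
    have hC : ∀ c : AdicRing.chartAlg f i,
        (∀ l, algebraMap R (AdicRing.chartAlg f i) (t l) * c = 0) →
        ∃ N : ℕ, algebraMap A (AdicRing.chartAlg f i) (f i) ^ N * c = 0 := by
      intro c hc
      apply chart_torsion R I hI A hA.2 f i c n
      intro a ha
      rw [← ht] at ha
      induction ha using Submodule.span_induction with
      | mem a ha =>
        obtain ⟨l, rfl⟩ := ha
        exact (Algebra.smul_def (t l) c).trans (hc l)
      | zero => simp
      | add a a' _ _ h1 h2 => rw [add_smul, h1, h2, add_zero]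
      | smul b a _ h1 => rw [smul_eq_mul, mul_smul, h1, smul_zero]
    obtain ⟨N, hN⟩ := exists_pow_smul_eq_zero_of_flat
      (algebraMap A (AdicRing.chartAlg f i) (f i))
      (fun l => algebraMap R (AdicRing.chartAlg f i) (t l)) hC x (by
        intro l
        rw [algebraMap_smul]
        exact hn (t l) (by rw [← ht]; exact Submodule.subset_span ⟨l, rfl⟩))
    refine ⟨N, ?_⟩
    have hN' : algebraMap (AdicRing.chartAlg f i) (AdicRing.chartCompl I f i)
        (algebraMap A (AdicRing.chartAlg f i) (f i) ^ N) * x = 0 :=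
      (Algebra.smul_def _ _).symm.trans hN
    rw [map_pow, ← IsScalarTower.algebraMap_apply] at hN'
    exact hN'
  · rintro ⟨n, hn⟩
    refine ⟨k * n, ?_⟩
    intro a ha
    have h1 := map_le_span_fi R I A f k hopen i
    have h2 : algebraMap R (AdicRing.chartAlg f i) a ∈
        Ideal.span {algebraMap A (AdicRing.chartAlg f i) (f i) ^ n} := by
      rw [← Ideal.span_singleton_pow]
      refine Ideal.pow_right_mono h1 n ?_
      rw [← Ideal.map_pow, ← pow_mul]
      exact Ideal.mem_map_of_mem _ ha
    rw [Ideal.mem_span_singleton'] at h2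
    obtain ⟨c, hc⟩ := h2
    rw [Algebra.smul_def,
      IsScalarTower.algebraMap_apply R (AdicRing.chartAlg f i) (AdicRing.chartCompl I f i),
      ← hc, map_mul, map_pow, ← IsScalarTower.algebraMap_apply, mul_assoc, hn, mul_zero]

end Groth.Agent.S11540
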