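import Groth.Statements.S11541
import Mathlib
import Groth.Agent.Lib.Helper11BoschA
import Groth.Agent.Lib.Helper11BoschB

set_option autoImplicit false
universe u
open AdicRing

namespace Groth.Agent.S11541


/-- Let R be a complete valuation ring of height one with t a nonzero element generating an ideal of
definition, and B an admissible R-algebra which is a local integral domain of Krull dimension one.
Then B is a finite R-module whose integral closure inside its fraction field is a valuation ring. -/
theorem result
    (R : Type u) [CommRing R] [IsDomain R] [ValuationRing R] [Ring.KrullDimLE 1 R]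
    (t : R) (ht : t ≠ 0) [IsAdicComplete (Ideal.span {t}) R]
    (B : Type u) [CommRing B] [Algebra R B] [IsDomain B] [IsLocalRing B]
    (hB : AdicRing.Admissible R (Ideal.span {t}) B) (hdim : ringKrullDim B = 1) :
    Module.Finite R B ∧ ValuationRing (integralClosure B (FractionRing B)) := by
  have htB := Groth.Agent.Lib.Helper11.Bosch.algebraMap_ne_zero_of_noPowTorsion R B t hB.2
  have hfin : Module.Finite R B :=
    Groth.Agent.Lib.Helper11.Bosch.finite_of_dim_one R t ht B
      (Groth.Agent.Lib.Helper11.Bosch.topFiniteType_of_admissible R _ B hB) htB hdim
  refine ⟨hfin, ?_⟩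
  exact Groth.Agent.Lib.Helper11.Bosch.valuationRing_integralClosure R t ht B
    (Groth.Agent.Lib.Helper11.Bosch.algebraMap_injective_of_ne_zero R t B htB)

end Groth.Agent.S11541
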