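import Groth.Statements.S11545
import Mathlib

set_option autoImplicit false
universe u
open AdicRing

namespace Groth.Agent.S11545

section lift
variable {R C B : Type u} [CommRing R] [CommRing C] [CommRing B] [Algebra R C] [Algebra R B]
  (J : Ideal C) (K : Ideal B) [IsAdicComplete K B] (ψ₀ : C →ₐ[R] B) (hJK : J ≤ K.comap ψ₀)

omit [IsAdicComplete K B] in
include hJK in
lemma pow_le_comap (n : ℕ) : J ^ n ≤ (K ^ n).comap ψ₀ := by
  calc J ^ n ≤ (K.comap ψ₀) ^ n := Ideal.pow_right_mono hJK n
    _ ≤ (K ^ n).comap ψ₀ := Ideal.le_comap_pow _ n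

/-- the level-`n` map -/
noncomputable def gmap (n : ℕ) : AdicCompletion J C →ₐ[R] B ⧸ K ^ n :=
  (Ideal.quotientMapₐ (K ^ n) ψ₀ (pow_le_comap J K ψ₀ hJK n)).comp
    ((AdicCompletion.evalₐ J n).restrictScalars R)

lemma gmap_mk (n : ℕ) (s : AdicCompletion.AdicCauchySequence J C) :
    gmap J K ψ₀ hJK n (AdicCompletion.mk J C s) = Ideal.Quotient.mk (K ^ n) (ψ₀ (s n)) := by
  unfold gmap
  simp only [AlgHom.coe_comp, Function.comp_apply, AlgHom.coe_restrictScalars']
  rw [AdicCompletion.evalₐ_mk]
  rfl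

lemma gmap_compat {m n : ℕ} (hle : m ≤ n) :
    (Ideal.Quotient.factorₐ R (Ideal.pow_le_pow_right hle)).comp (gmap J K ψ₀ hJK n)
      = gmap J K ψ₀ hJK m := by
  apply AlgHom.ext
  intro x
  obtain ⟨s, rfl⟩ := AdicCompletion.mk_surjective J C x
  rw [AlgHom.comp_apply, gmap_mk, gmap_mk]
  rw [Ideal.Quotient.factorₐ_apply_mk, Ideal.Quotient.mk_eq_mk_iff_sub_mem, ← map_sub]
  apply pow_le_comap J K ψ₀ hJK m
  have := AdicCompletion.Ideal.mk_eq_mk (I := J) hle s
  rw [Ideal.Quotient.mk_eq_mk_iff_sub_mem] at this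
  exact this

/-- lift to the completion -/
noncomputable def liftC : AdicCompletion J C →ₐ[R] B :=
  IsAdicComplete.liftAlgHom K (gmap J K ψ₀ hJK) (gmap_compat J K ψ₀ hJK)

lemma liftC_of (y : C) : liftC J K ψ₀ hJK (AdicCompletion.of J C y) = ψ₀ y := by
  rw [← sub_eq_zero]
  apply IsHausdorff.haus' (I := K)
  intro n
  rw [SModEq.zero, smul_eq_mul, Ideal.mul_top, ← Ideal.Quotient.eq_zero_iff_mem, map_sub,
    liftC, IsAdicComplete.mk_liftAlgHom]
  unfold gmap
  simp only [AlgHom.coe_comp, Function.comp_apply, AlgHom.coe_restrictScalars']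
  rw [AdicCompletion.evalₐ_of]
  simp

end lift

section uniq
variable {R C B : Type u} [CommRing R] [CommRing C] [CommRing B] [Algebra R C] [Algebra R B]
  (I : Ideal R)

lemma algHom_map_mem (G : C →ₐ[R] B) (n : ℕ) (j : C)
    (hj : j ∈ (I.map (algebraMap R C)) ^ n) : G j ∈ (I.map (algebraMap R B)) ^ n := by
  rw [← Ideal.map_pow] at hj ⊢
  have : (I ^ n).map (algebraMap R C) ≤ ((I ^ n).map (algebraMap R B)).comap G := by
    rw [Ideal.map_le_iff_le_comap]
    intro a ha
    rw [Ideal.mem_comap, Ideal.mem_comap, AlgHom.commutes]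
    exact Ideal.mem_map_of_mem _ ha
  exact this hj

lemma algHom_smul_top_mem (F : AdicCompletion (I.map (algebraMap R C)) C →ₐ[R] B) (n : ℕ)
    (w : AdicCompletion (I.map (algebraMap R C)) C)
    (hw : w ∈ ((I.map (algebraMap R C)) ^ n • ⊤ :
      Submodule C (AdicCompletion (I.map (algebraMap R C)) C))) :
    F w ∈ (I.map (algebraMap R B)) ^ n := by
  refine Submodule.smul_induction_on hw (fun j hj c _ => ?_) (fun x y hx hy => ?_)
  · rw [Algebra.smul_def, map_mul]
    apply Ideal.mul_mem_right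
    exact algHom_map_mem I
      (F.comp (IsScalarTower.toAlgHom R C (AdicCompletion (I.map (algebraMap R C)) C))) n j hj
  · rw [map_add]; exact Ideal.add_mem _ hx hy

lemma algHom_ext_of [IsAdicComplete (I.map (algebraMap R B)) B] (hI : I.FG)
    (F F' : AdicCompletion (I.map (algebraMap R C)) C →ₐ[R] B)
    (h : ∀ y : C, F (AdicCompletion.of _ C y) = F' (AdicCompletion.of _ C y)) : F = F' := by
  apply AlgHom.ext
  intro x
  rw [← sub_eq_zero]
  apply IsHausdorff.haus' (I := I.map (algebraMap R B))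
  intro n
  rw [SModEq.zero, smul_eq_mul, Ideal.mul_top]
  obtain ⟨y, hy⟩ := Submodule.Quotient.mk_surjective _
    (AdicCompletion.eval (I.map (algebraMap R C)) C n x)
  have hker : x - AdicCompletion.of (I.map (algebraMap R C)) C y ∈
      LinearMap.ker (AdicCompletion.eval (I.map (algebraMap R C)) C n) := by
    rw [LinearMap.mem_ker, map_sub, AdicCompletion.eval_of, ← hy]
    exact sub_self _
  rw [← AdicCompletion.pow_smul_top_eq_ker_eval (hI.map _)] at hker
  have e : F x - F' x = F (x - AdicCompletion.of (I.map (algebraMap R C)) C y)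
      - F' (x - AdicCompletion.of (I.map (algebraMap R C)) C y) := by
    rw [map_sub, map_sub, h y]; ring
  rw [e]
  exact Ideal.sub_mem _ (algHom_smul_top_mem I F n _ hker) (algHom_smul_top_mem I F' n _ hker)

end uniq


/-- Let R be a base ring of class (N) or (V) for the ideal I, A an admissible R-algebra, f_0, ..., f_r
elements generating an open ideal 𝔞 of A, and A_i = C_i/(f_i-power torsion) the i-th chart algebra
of the formal blowing-up of 𝔞. Let B be an R-algebra complete and separated for the I-adic topology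
and φ : A → B an R-algebra homomorphism such that the ideal 𝔞B is generated by φ(f_i), a
non-zero-divisor of B. Then there is exactly one R-algebra homomorphism A_i → B whose composite with
A → A_i is φ. -/
theorem result
    (R : Type u) [CommRing R] (I : Ideal R) (hR : AdicRing.IsBase R I)
    (A : Type u) [CommRing A] [Algebra R A] (hA : AdicRing.Admissible R I A)
    (r : ℕ) (f : Fin (r + 1) → A) (k : ℕ)
    (hopen : (I ^ k).map (algebraMap R A) ≤ Ideal.span (Set.range f)) (i : Fin (r + 1))
    (B : Type u) [CommRing B] [Algebra R B] [IsAdicComplete (I.map (algebraMap R B)) B]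
    (φ : A →ₐ[R] B) (hnzd : φ (f i) ∈ nonZeroDivisors B)
    (hgen : (Ideal.span (Set.range f)).map φ = Ideal.span {φ (f i)}) :
    ∃! ψ : AdicRing.chartAdm I f i →ₐ[R] B,
      ψ.comp (IsScalarTower.toAlgHom R A (AdicRing.chartAdm I f i)) = φ := by
  classical
  have hIFG : I.FG := by
    rcases hR.2 with ⟨hN, _⟩ | ⟨_, _, _, t, _, ht⟩
    · exact IsNoetherian.noetherian I
    · rw [ht]; exact ⟨{t}, by simp⟩
  have hb : ∀ j : {j : Fin (r+1) // j ≠ i}, ∃ b : B, φ (f i) * b = φ (f j.1) := by
    intro j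
    have : φ (f j.1) ∈ (Ideal.span (Set.range f)).map φ :=
      Ideal.mem_map_of_mem _ (Ideal.subset_span ⟨j.1, rfl⟩)
    rw [hgen, Ideal.mem_span_singleton'] at this
    obtain ⟨a, ha⟩ := this
    exact ⟨a, by rw [mul_comm]; exact ha⟩
  choose b hb using hb
  have hcancel : ∀ x y : B, φ (f i) * x = φ (f i) * y → x = y := by
    intro x y h
    have h2 : (x - y) * φ (f i) = 0 := by rw [sub_mul, mul_comm x, mul_comm y, h, sub_self]
    exact sub_eq_zero.mp (hnzd.2 _ h2)
  let algAB : Algebra A B := φ.toRingHom.toAlgebra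
  have : IsScalarTower R A B := IsScalarTower.of_algebraMap_eq (fun r => (φ.commutes r).symm)
  have halg : ∀ a : A, algebraMap A B a = φ a := fun a => rfl
  let ψp : MvPolynomial {j : Fin (r+1) // j ≠ i} A →ₐ[A] B := MvPolynomial.aeval b
  have hker : ∀ a ∈ Ideal.span (Set.range fun j : {j : Fin (r+1) // j ≠ i} =>
      MvPolynomial.C (f i) * MvPolynomial.X j - MvPolynomial.C (f j.1)), ψp a = 0 := by
    intro a ha
    have : Ideal.span (Set.range fun j : {j : Fin (r+1) // j ≠ i} =>
      MvPolynomial.C (f i) * MvPolynomial.X j - MvPolynomial.C (f j.1)) ≤ RingHom.ker ψp.toRingHom := by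
      rw [Ideal.span_le]
      rintro _ ⟨j, rfl⟩
      show ψp _ = 0
      rw [map_sub, map_mul, MvPolynomial.aeval_C, MvPolynomial.aeval_C, MvPolynomial.aeval_X,
        halg, halg, hb, sub_self]
    exact this ha
  let ψ₀A : chartAlg f i →ₐ[A] B := Ideal.Quotient.liftₐ _ ψp hker
  let ψ₀ : chartAlg f i →ₐ[R] B := ψ₀A.restrictScalars R
  have hJK : I.map (algebraMap R (chartAlg f i)) ≤ (I.map (algebraMap R B)).comap ψ₀ := by
    rw [Ideal.map_le_iff_le_comap]
    intro a ha
    rw [Ideal.mem_comap, Ideal.mem_comap, AlgHom.commutes]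
    exact Ideal.mem_map_of_mem _ ha
  let ψ₁ : chartCompl I f i →ₐ[R] B := liftC _ _ ψ₀ hJK
  have hψ₁A : ∀ a : A, ψ₁ (algebraMap A (chartCompl I f i) a) = φ a := by
    intro a
    rw [AdicCompletion.algebraMap_apply]
    show liftC _ _ ψ₀ hJK _ = _
    rw [liftC_of]
    show ψ₀A (algebraMap A (chartAlg f i) a) = φ a
    rw [AlgHom.commutes, halg]
  have hT : ∀ x ∈ (⨆ n : ℕ, Submodule.torsionBy (chartCompl I f i) (chartCompl I f i)
      (algebraMap A (chartCompl I f i) (f i) ^ n) : Ideal (chartCompl I f i)), ψ₁ x = 0 := by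
    intro x hx
    have hle : (⨆ n : ℕ, Submodule.torsionBy (chartCompl I f i) (chartCompl I f i)
      (algebraMap A (chartCompl I f i) (f i) ^ n) : Ideal (chartCompl I f i))
        ≤ RingHom.ker ψ₁.toRingHom := by
      apply iSup_le
      intro n y hy
      rw [Submodule.mem_torsionBy_iff, smul_eq_mul] at hy
      show ψ₁ y = 0
      have h1 : φ (f i) ^ n * ψ₁ y = 0 := by
        rw [← hψ₁A, ← map_pow, ← map_mul, hy, map_zero]
      have h2 : φ (f i) ^ n ∈ nonZeroDivisors B := pow_mem hnzd n
      rw [mul_comm] at h1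
      exact h2.2 _ h1
    exact hle hx
  let ψ : chartAdm I f i →ₐ[R] B := Ideal.Quotient.liftₐ _ ψ₁ hT
  have hψ : ψ.comp (IsScalarTower.toAlgHom R A (chartAdm I f i)) = φ := by
    apply AlgHom.ext
    intro a
    rw [AlgHom.comp_apply, IsScalarTower.toAlgHom_apply]
    exact hψ₁A a
  refine ⟨ψ, hψ, ?_⟩
  intro ψ' hψ'
  -- reduce to the completion
  have hagree : ∀ χ : chartAdm I f i →ₐ[R] B,
      χ.comp (IsScalarTower.toAlgHom R A (chartAdm I f i)) = φ →
      ∀ y : chartAlg f i, (χ.comp (Ideal.Quotient.mkₐ R _))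
          (AdicCompletion.of (I.map (algebraMap R (chartAlg f i))) (chartAlg f i) y) = ψ₀ y := by
    intro χ hχ y
    obtain ⟨p, rfl⟩ := Ideal.Quotient.mk_surjective y
    have hχA : ∀ a : A, χ (algebraMap A (chartAdm I f i) a) = φ a := by
      intro a
      have := congrArg (fun g => g a) hχ
      simpa using this
    let G : MvPolynomial {j : Fin (r+1) // j ≠ i} A →+* B :=
      (χ.toRingHom.comp (algebraMap (chartAlg f i) (chartAdm I f i))).comp (Ideal.Quotient.mk _)
    have hGC : ∀ a : A, G (MvPolynomial.C a) = φ a := by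
      intro a
      show χ (algebraMap (chartAlg f i) (chartAdm I f i) (algebraMap A (chartAlg f i) a)) = φ a
      rw [← IsScalarTower.algebraMap_apply, hχA]
    have hGX : ∀ j, G (MvPolynomial.X j) = b j := by
      intro j
      apply hcancel
      rw [hb, ← hGC, ← hGC, ← map_mul, ← sub_eq_zero, ← map_sub]
      show χ (algebraMap (chartAlg f i) (chartAdm I f i) (Ideal.Quotient.mk _ _)) = 0
      have hz : (Ideal.Quotient.mk (Ideal.span (Set.range fun j : {j : Fin (r+1) // j ≠ i} =>
          MvPolynomial.C (f i) * MvPolynomial.X j - MvPolynomial.C (f j.1))))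
          (MvPolynomial.C (f i) * MvPolynomial.X j - MvPolynomial.C (f j.1)) = 0 :=
        Ideal.Quotient.eq_zero_iff_mem.mpr (Ideal.subset_span ⟨j, rfl⟩)
      rw [hz, map_zero, map_zero]
    have hG : G = ψp.toRingHom := by
      apply MvPolynomial.ringHom_ext
      · intro a
        rw [hGC]
        show φ a = ψp (MvPolynomial.C a)
        rw [MvPolynomial.aeval_C, halg]
      · intro j
        rw [hGX]
        show b j = ψp (MvPolynomial.X j)
        rw [MvPolynomial.aeval_X]
    have h3 : (χ.comp (Ideal.Quotient.mkₐ R _))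
          (AdicCompletion.of (I.map (algebraMap R (chartAlg f i))) (chartAlg f i)
            (Ideal.Quotient.mk _ p)) = G p := by
      show χ (Ideal.Quotient.mk _ (AdicCompletion.of _ _ _)) = _
      have h4 : AdicCompletion.of (I.map (algebraMap R (chartAlg f i))) (chartAlg f i)
          (Ideal.Quotient.mk _ p) = algebraMap (chartAlg f i) (chartCompl I f i)
            (Ideal.Quotient.mk _ p) := by
        rw [AdicCompletion.algebraMap_apply]
        rfl
      rw [h4]
      rfl
    rw [h3, hG]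
    rfl
  have hFF : ψ'.comp (Ideal.Quotient.mkₐ R _) = ψ.comp (Ideal.Quotient.mkₐ R _) := by
    apply algHom_ext_of I hIFG
    intro y
    rw [hagree ψ' hψ' y, hagree ψ hψ y]
  apply AlgHom.ext
  intro q
  obtain ⟨x, rfl⟩ := Ideal.Quotient.mk_surjective q
  exact congrArg (fun g => g x) hFF

end Groth.Agent.S11545
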