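import Groth.Statements.S2219
import Mathlib
import Groth.Agent.Lib.Helper27TraceLen

set_option autoImplicit false
universe u
open Disc

namespace Groth.Agent.S2219

/-- Equivalence of (1) and (3): let k be a field and A a finite-dimensional local k-algebra with residue
field k'. Then the trace map Tr_{A/k} is not identically zero if and only if k' is separable over k
and the length of A as a module over itself is not divisible by the characteristic of k (no
condition in characteristic zero). -/
theorem result (k A : Type u) [Field k] [CommRing A]
    [Algebra k A] [FiniteDimensional k A] [IsLocalRing A] :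
    Algebra.trace k A ≠ 0 ↔
      (Algebra.IsSeparable k (IsLocalRing.ResidueField A) ∧
        ∀ p : ℕ, p.Prime → CharP k p → ¬ p ∣ (Module.length A A).toNat) := by
  have hT := Groth.Agent.Lib.Helper27TraceLen.trace_eq k A
  have hℓne := Groth.Agent.Lib.Helper27TraceLen.length_toNat_ne_zero k A
  constructor
  · intro hne
    obtain ⟨a, ha⟩ : ∃ a, Algebra.trace k A a ≠ 0 := by
      by_contra h
      push Not at h
      exact hne (LinearMap.ext h)
    rw [hT a, nsmul_eq_mul] at ha
    have h1 : (((Module.length A A).toNat : ℕ) : k) ≠ 0 := left_ne_zero_of_mul ha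
    have h2 : Algebra.trace k (IsLocalRing.ResidueField A) (IsLocalRing.residue A a) ≠ 0 :=
      right_ne_zero_of_mul ha
    refine ⟨?_, fun p hp hchar hdvd => ?_⟩
    · by_contra hsep
      apply h2
      rw [Algebra.trace_eq_zero_of_not_isSeparable hsep]
      rfl
    · exact h1 ((CharP.cast_eq_zero_iff k p _).mpr hdvd)
  · rintro ⟨hsep, hp⟩
    obtain ⟨b, hb⟩ : ∃ b, Algebra.trace k (IsLocalRing.ResidueField A) b ≠ 0 := by
      by_contra h
      push Not at h
      exact Algebra.trace_ne_zero k (IsLocalRing.ResidueField A) (LinearMap.ext h)
    obtain ⟨a, rfl⟩ := IsLocalRing.residue_surjective b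
    have hℓ0 : (((Module.length A A).toNat : ℕ) : k) ≠ 0 := by
      obtain ⟨p, hchar⟩ := CharP.exists k
      rcases CharP.char_is_prime_or_zero k p with hpp | hp0
      · intro h0
        exact hp p hpp hchar ((CharP.cast_eq_zero_iff k p _).mp h0)
      · subst hp0
        have := CharP.charP_to_charZero k
        exact_mod_cast hℓne
    intro h0
    have h3 := hT a
    rw [h0, LinearMap.zero_apply, nsmul_eq_mul] at h3
    exact (mul_ne_zero hℓ0 hb) h3.symm

end Groth.Agent.S2219
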