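import Groth.Statements.S17761
import Groth.Agent.Lib.Helper8NV
import Groth.Agent.Lib.Helper8LC3
import Groth.Agent.Lib.Helper8DT

set_option autoImplicit false
universe u
open LocCoh

namespace Groth.Agent.S17761

open Groth.Agent.Lib.Helper8

/-- Let R be a Noetherian local ring with maximal ideal m and M a finitely generated R-module whose
support has positive dimension n. Then the local cohomology module H^n_m(M) is not a finitely
generated R-module. -/
theorem result (R : Type u) [CommRing R] [IsNoetherianRing R] [IsLocalRing R] (M : Type u) [AddCommGroup M] [Module R M] [Module.Finite R M] (n : ℕ) (hn0 : 0 < n) (hn : Module.supportDim R M = n) : ¬ Module.Finite R (LocCoh.H (IsLocalRing.maximalIdeal R) n M) := by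
  intro hfin
  obtain ⟨q, hq, hqdim⟩ := NV.exists_mem_support_dim_eq M n hn
  obtain ⟨B, hB⟩ := (NV.Dn_Nn_all n).2 R M hn q hq hqdim
  have hqp : q.asIdeal.IsPrime := q.2
  -- the f.g. power-torsion module H is killed by a power of m
  have hle : (⊤ : Submodule R (LocCoh.H (IsLocalRing.maximalIdeal R) n M)) ≤
      DRing.torsionSub (IsLocalRing.maximalIdeal R) (LocCoh.H (IsLocalRing.maximalIdeal R) n M) := by
    intro x _
    exact LC.isPowerTorsion_H (IsLocalRing.maximalIdeal R) n (ModuleCat.of R M) x
  obtain ⟨s, hs⟩ := DT.exists_pow_kills_of_fg (I := IsLocalRing.maximalIdeal R) ⊤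
    hfin.fg_top hle
  have h1 : IsLocalRing.maximalIdeal R ^ s ≤ q.asIdeal := by
    intro b hb
    rw [← hB, Att.mem_annihilator_quotient_iff]
    intro a
    rw [hs b hb a Submodule.mem_top]
    exact B.zero_mem
  have h2 : IsLocalRing.maximalIdeal R ≤ q.asIdeal := hqp.le_of_pow_le h1
  have h3 : q.asIdeal = IsLocalRing.maximalIdeal R :=
    le_antisymm (IsLocalRing.le_maximalIdeal hqp.ne_top) h2
  have h4 : q.asIdeal.IsMaximal := h3 ▸ IsLocalRing.maximalIdeal.isMaximal R
  let _ : Field (R ⧸ q.asIdeal) := Ideal.Quotient.field q.asIdeal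
  have h5 : ringKrullDim (R ⧸ q.asIdeal) = 0 := ringKrullDim_eq_zero_of_field _
  rw [h5] at hqdim
  have : (0 : ℕ) = n := by exact_mod_cast hqdim
  omega

end Groth.Agent.S17761
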