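import Groth.Statements.S1163
import Mathlib.AlgebraicGeometry.Morphisms.Flat
import Mathlib.RingTheory.Flat.FaithfullyFlat.Algebra
-- import your own Groth.Agent.* helpers here

set_option autoImplicit false
open CategoryTheory CategoryTheory.Limits AlgebraicGeometry Opposite
universe u
open Desc

namespace Groth.Agent.S1163

open TensorProduct in
lemma flat_of_flat_of_pure (A B C : Type u) [CommRing A] [CommRing B] [CommRing C]
    [Algebra A B] [Algebra B C] [Algebra A C] [IsScalarTower A B C] [Module.Flat A C]
    (hpure : ∀ (M : Type u) [AddCommGroup M] [Module B M],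
      Function.Injective (TensorProduct.mk B C M 1)) : Module.Flat A B := by
  rw [Module.Flat.iff_lTensor_preserves_injective_linearMap]
  intro N P _ _ _ _ f hf
  have h0 : Function.Injective (f.baseChange B) := by
    have key : (AlgebraTensorModule.cancelBaseChange A B C C P).toLinearMap.restrictScalars B ∘ₗ
        (f.baseChange B).lTensor C =
        ((f.baseChange C).restrictScalars B) ∘ₗ
          (AlgebraTensorModule.cancelBaseChange A B C C N).toLinearMap.restrictScalars B := by
      ext c n
      simp
    have hinj : Function.Injective (⇑((f.baseChange C).restrictScalars B) ∘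
          ⇑((AlgebraTensorModule.cancelBaseChange A B C C N).toLinearMap.restrictScalars B)) :=
      Function.Injective.comp
        (by exact Module.Flat.lTensor_preserves_injective_linearMap (M := C) f hf)
        (AlgebraTensorModule.cancelBaseChange A B C C N).injective
    rw [← LinearMap.coe_comp, ← key, LinearMap.coe_comp] at hinj
    have hinj' : Function.Injective ((f.baseChange B).lTensor C) := Function.Injective.of_comp hinj
    have h2 : ((f.baseChange B).lTensor C) ∘ₗ (TensorProduct.mk B C (B ⊗[A] N) 1) =
        (TensorProduct.mk B C (B ⊗[A] P) 1) ∘ₗ (f.baseChange B) := by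
      ext n
      simp
    have h3 : Function.Injective (⇑((f.baseChange B).lTensor C) ∘ ⇑(TensorProduct.mk B C (B ⊗[A] N) 1)) :=
      hinj'.comp (hpure _)
    rw [← LinearMap.coe_comp, h2, LinearMap.coe_comp] at h3
    exact Function.Injective.of_comp h3
  exact h0

open TensorProduct in
lemma pure_of_faithfullyFlat (B C D : Type u) [CommRing B] [CommRing C] [CommRing D]
    [Algebra B C] [Algebra C D] [Algebra B D] [IsScalarTower B C D] [Module.FaithfullyFlat B D]
    (M : Type u) [AddCommGroup M] [Module B M] :
    Function.Injective (TensorProduct.mk B C M 1) := by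
  have h1 : Function.Injective (TensorProduct.mk B D M 1) :=
    Module.FaithfullyFlat.tensorProduct_mk_injective (A := B) (B := D) M
  have h2 : (LinearMap.rTensor M (IsScalarTower.toAlgHom B C D).toLinearMap) ∘ₗ
      (TensorProduct.mk B C M 1) = TensorProduct.mk B D M 1 := by
    ext m
    simp
  rw [← h2, LinearMap.coe_comp] at h1
  exact Function.Injective.of_comp h1

/-- The case P = flat, single fppf cover: Let f : X ⟶ Y and q : Y ⟶ Z be morphisms of schemes, and
suppose there is a flat, surjective morphism g : Y' ⟶ Y locally of finite presentation which factors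
through f. If f ≫ q is flat, then q is flat. -/
theorem result {X Y Z Y' : Scheme.{u}} (f : X ⟶ Y) (q : Y ⟶ Z) (g : Y' ⟶ Y) [Flat g] [Surjective g]
    [LocallyOfFinitePresentation g] (l : Y' ⟶ X) (hl : l ≫ f = g) [Flat (f ≫ q)] : Flat q := by
  subst hl
  rw [Flat.iff_flat_stalkMap]
  intro y
  obtain ⟨y', rfl⟩ := (l ≫ f).surjective y
  have h1 : ((f ≫ q).stalkMap (l y')).hom.Flat := Flat.stalkMap (f ≫ q) (l y')
  have h2 : ((l ≫ f).stalkMap y').hom.Flat := Flat.stalkMap (l ≫ f) y'
  have hloc : IsLocalHom ((l ≫ f).stalkMap y').hom := inferInstance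
  rw [Scheme.Hom.stalkMap_comp] at h1
  rw [Scheme.Hom.stalkMap_comp] at h2 hloc
  set α := (q.stalkMap (f (l y'))).hom with hα
  set β := (f.stalkMap (l y')).hom with hβ
  set γ := (l.stalkMap y').hom with hγ
  have h1' : (β.comp α).Flat := h1
  have h2' : (γ.comp β).Flat := h2
  have hloc' : IsLocalHom (γ.comp β) := hloc
  algebraize [α, β, γ, β.comp α, γ.comp β]
  have : Module.FaithfullyFlat (Y.presheaf.stalk (f (l y'))) (Y'.presheaf.stalk y') :=
    Module.FaithfullyFlat.of_flat_of_isLocalHom
  exact flat_of_flat_of_pure (Z.presheaf.stalk (q (f (l y')))) (Y.presheaf.stalk (f (l y')))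
    (X.presheaf.stalk (l y'))
    (fun M _ _ => pure_of_faithfullyFlat (Y.presheaf.stalk (f (l y'))) (X.presheaf.stalk (l y'))
      (Y'.presheaf.stalk y') M)

end Groth.Agent.S1163
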