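import Groth.Statements.S1181
import Groth.Agent.Lib.Helper12IdealDescent
import Groth.Agent.Lib.Helper12Descent
import Groth.Agent.Lib.Helper12Flat
import Mathlib

set_option autoImplicit false
open CategoryTheory CategoryTheory.Limits AlgebraicGeometry
universe u
open HilbD

namespace Groth.Agent.S1181

variable {X S : Scheme.{u}} (f : X ⟶ S)

@[reassoc (attr := simp)]
theorem XTmap_fst {T T' : Over S} (g : T ⟶ T') :
    PicF.XTmap f g ≫ pullback.fst f T'.hom = pullback.fst f T.hom :=
  (pullback.lift_fst _ _ _).trans (Category.comp_id _)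

@[reassoc (attr := simp)]
theorem XTmap_snd {T T' : Over S} (g : T ⟶ T') :
    PicF.XTmap f g ≫ pullback.snd f T'.hom = pullback.snd f T.hom ≫ g.left :=
  pullback.lift_snd _ _ _

theorem pull_eq_comap {T T' : Over S} (g : T' ⟶ T) (I : (PicF.XT f T).IdealSheafData) :
    HilbD.pull f g I = I.comap (PicF.XTmap f g) := by
  rw [HilbD.pull, Scheme.IdealSheafData.comap, ← pullbackSymmetry_hom_comp_fst,
    Scheme.Hom.ker_comp_of_isIso]

theorem isPullback_XTmap {T T' : Over S} (g : T' ⟶ T) :
    IsPullback (PicF.XTmap f g) (PicF.XTproj f T') (PicF.XTproj f T) g.left := by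
  refine IsPullback.of_right ?_ (XTmap_snd f g) (IsPullback.of_hasPullback f T.hom)
  rw [XTmap_fst, Over.w g]
  exact IsPullback.of_hasPullback f T'.hom

variable (T : Over S) {T' : Scheme.{u}} (g : T' ⟶ T.left)

theorem isPullback_overlap :
    IsPullback (PicF.XTmap f (HilbD.overlapFst T g)) (PicF.XTmap f (HilbD.overlapSnd T g))
      (PicF.XTmap f (HilbD.coverHom T g)) (PicF.XTmap f (HilbD.coverHom T g)) := by
  have sq1 := isPullback_XTmap f (HilbD.overlapFst T g)
  have sqT : IsPullback (HilbD.overlapFst T g).left (pullback.snd g g) g g :=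
    IsPullback.of_hasPullback g g
  have sq2 := (sq1.paste_vert sqT).flip
  have sq3 := (isPullback_XTmap f (HilbD.coverHom T g)).flip
  have e1 : PicF.XTmap f (HilbD.overlapSnd T g) ≫ PicF.XTproj f (HilbD.coverOver T g) =
      PicF.XTproj f (HilbD.overlapOver T g) ≫ pullback.snd g g := XTmap_snd f _
  have e2 : PicF.XTmap f (HilbD.coverHom T g) ≫ PicF.XTproj f T =
      PicF.XTproj f (HilbD.coverOver T g) ≫ g := XTmap_snd f _
  rw [← e1] at sq2
  have e3 : PicF.XTproj f (HilbD.coverOver T g) ≫ (HilbD.coverHom T g).left =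
      PicF.XTmap f (HilbD.coverHom T g) ≫ PicF.XTproj f T := e2.symm
  have sq2' : IsPullback
      (PicF.XTmap f (HilbD.overlapSnd T g) ≫ PicF.XTproj f (HilbD.coverOver T g))
      (PicF.XTmap f (HilbD.overlapFst T g)) g
      (PicF.XTmap f (HilbD.coverHom T g) ≫ PicF.XTproj f T) := by
    rw [e2]; exact sq2
  refine (IsPullback.of_right sq2' ?_ sq3).flip
  have h1 : (PicF.XTmap f (HilbD.overlapSnd T g) ≫ PicF.XTmap f (HilbD.coverHom T g)) ≫
      pullback.fst f T.hom =
      (PicF.XTmap f (HilbD.overlapFst T g) ≫ PicF.XTmap f (HilbD.coverHom T g)) ≫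
      pullback.fst f T.hom := by
    rw [Category.assoc, Category.assoc, XTmap_fst f (HilbD.coverHom T g)]
    exact (XTmap_fst f (HilbD.overlapSnd T g)).trans (XTmap_fst f (HilbD.overlapFst T g)).symm
  have h2 : (PicF.XTmap f (HilbD.overlapSnd T g) ≫ PicF.XTmap f (HilbD.coverHom T g)) ≫
      pullback.snd f T.hom =
      (PicF.XTmap f (HilbD.overlapFst T g) ≫ PicF.XTmap f (HilbD.coverHom T g)) ≫
      pullback.snd f T.hom := by
    rw [Category.assoc, Category.assoc, XTmap_snd f (HilbD.coverHom T g)]
    have a1 := XTmap_snd_assoc f (HilbD.overlapSnd T g) (HilbD.coverHom T g).left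
    have a2 := XTmap_snd_assoc f (HilbD.overlapFst T g) (HilbD.coverHom T g).left
    refine a1.trans (Eq.trans ?_ a2.symm)
    congr 1
    exact pullback.condition.symm
  exact pullback.hom_ext h1 h2


theorem exists_isPullback_of_comap_eq {X Y : Scheme.{u}} (G : X ⟶ Y) (I : Y.IdealSheafData)
    (J : X.IdealSheafData) (h : I.comap G = J) :
    ∃ q : J.subscheme ⟶ I.subscheme, IsPullback J.subschemeι q G I.subschemeι := by
  subst h
  exact ⟨(I.comapIso G).hom ≫ pullback.snd _ _,
    IsPullback.of_iso_pullback ⟨by simp⟩ (I.comapIso G) (by simp) (by simp)⟩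


/-- Let f : X ⟶ S, d a natural number, T an S-scheme and g : T' ⟶ T quasi-compact, flat and surjective,
viewed over S. Let Z' be a closed subscheme of X ×_S T' finite locally free of degree d over T'
whose two pullbacks to X ×_S (T' ×_T T') coincide. Then there is exactly one closed subscheme of X
×_S T, finite locally free of degree d over T, pulling back to Z'. -/
theorem result {X S : Scheme.{u}} (f : X ⟶ S) (d : ℕ) (T : Over S) {T' : Scheme.{u}} (g : T' ⟶ T.left)
    [QuasiCompact g] [Flat g] [Surjective g] (Z' : HilbD.Obj f d (HilbD.coverOver T g))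
    (hZ' : HilbD.pull f (HilbD.overlapFst T g) Z'.1 = HilbD.pull f (HilbD.overlapSnd T g) Z'.1) :
    ∃! I : (PicF.XT f T).IdealSheafData, Mor2.IsFinLocFreeOfDeg d (I.subschemeι ≫ PicF.XTproj f T) ∧
      HilbD.pull f (HilbD.coverHom T g) I = Z'.1 := by
  have sqG := isPullback_XTmap f (HilbD.coverHom T g)
  have hgl : (HilbD.coverHom T g).left = g := rfl
  rw [hgl] at sqG
  have : Flat (PicF.XTmap f (HilbD.coverHom T g)) :=
    MorphismProperty.of_isPullback (P := @Flat) sqG.flip inferInstance
  have : Surjective (PicF.XTmap f (HilbD.coverHom T g)) :=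
    MorphismProperty.of_isPullback (P := @Surjective) sqG.flip inferInstance
  have : QuasiCompact (PicF.XTmap f (HilbD.coverHom T g)) :=
    MorphismProperty.of_isPullback (P := @QuasiCompact) sqG.flip inferInstance
  -- stability
  have hstable : Z'.1.comap (pullback.fst (PicF.XTmap f (HilbD.coverHom T g))
      (PicF.XTmap f (HilbD.coverHom T g))) =
      Z'.1.comap (pullback.snd (PicF.XTmap f (HilbD.coverHom T g))
      (PicF.XTmap f (HilbD.coverHom T g))) := by
    have sqO := isPullback_overlap f T g
    have e1 := sqO.isoPullback_hom_fst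
    have e2 := sqO.isoPullback_hom_snd
    rw [pull_eq_comap, pull_eq_comap] at hZ'
    have hF : (Z'.1.comap (pullback.fst (PicF.XTmap f (HilbD.coverHom T g))
        (PicF.XTmap f (HilbD.coverHom T g)))).comap sqO.isoPullback.hom =
        Z'.1.comap (PicF.XTmap f (HilbD.overlapFst T g)) := by
      rw [← Scheme.IdealSheafData.comap_comp, e1]
    have hS : (Z'.1.comap (pullback.snd (PicF.XTmap f (HilbD.coverHom T g))
        (PicF.XTmap f (HilbD.coverHom T g)))).comap sqO.isoPullback.hom =
        Z'.1.comap (PicF.XTmap f (HilbD.overlapSnd T g)) := by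
      rw [← Scheme.IdealSheafData.comap_comp, e2]
    replace hZ' := hF.trans (hZ'.trans hS.symm)
    have := congrArg (fun J => J.comap sqO.isoPullback.inv) hZ'
    simp only [← Scheme.IdealSheafData.comap_comp, Iso.inv_hom_id_assoc] at this
    exact this
  have hcomap := Groth.Agent.Lib.Helper12.comap_map_eq_of_stable
    (PicF.XTmap f (HilbD.coverHom T g)) Z'.1 hstable
  refine ⟨Z'.1.map (PicF.XTmap f (HilbD.coverHom T g)), ⟨?_, ?_⟩, ?_⟩
  · -- finite locally free of degree d
    obtain ⟨q, sqA⟩ := exists_isPullback_of_comap_eq _ _ _ hcomap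
    have sq := sqA.paste_horiz sqG.flip
    obtain ⟨⟨hfin, hflat, hfp⟩, hrank⟩ := Z'.2
    have hQ : (@Surjective ⊓ @Flat ⊓ @QuasiCompact : MorphismProperty Scheme.{u}) g :=
      ⟨⟨inferInstance, inferInstance⟩, inferInstance⟩
    have := Groth.Agent.Lib.Helper12.descendsAlong_isFinite.{u}
    have hfin' : IsFinite ((Z'.1.map (PicF.XTmap f (HilbD.coverHom T g))).subschemeι ≫
        PicF.XTproj f T) :=
      MorphismProperty.of_isPullback_of_descendsAlong (P := @IsFinite) sq hQ hfin
    have hfp' : LocallyOfFinitePresentation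
        ((Z'.1.map (PicF.XTmap f (HilbD.coverHom T g))).subschemeι ≫ PicF.XTproj f T) :=
      MorphismProperty.of_isPullback_of_descendsAlong (P := @LocallyOfFinitePresentation) sq hQ hfp
    have : Flat q := MorphismProperty.of_isPullback (P := @Flat) sq inferInstance
    have : Surjective q := MorphismProperty.of_isPullback (P := @Surjective) sq inferInstance
    have : Flat (q ≫ (Z'.1.map (PicF.XTmap f (HilbD.coverHom T g))).subschemeι ≫
        PicF.XTproj f T) := by
      rw [← sq.w]; infer_instance
    have hflat' : Flat ((Z'.1.map (PicF.XTmap f (HilbD.coverHom T g))).subschemeι ≫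
        PicF.XTproj f T) :=
      Groth.Agent.Lib.Helper12.flat_of_comp_of_flat_of_surjective q _
    refine ⟨⟨hfin', hflat', hfp'⟩, ?_⟩
    intro y
    obtain ⟨y', rfl⟩ := ‹Surjective g›.surj y
    rw [← Scheme.Hom.finrank_of_isPullback _ _ _ _ sq.flip y']
    exact hrank y'
  · rw [pull_eq_comap]; exact hcomap
  · rintro I ⟨_, hI⟩
    rw [pull_eq_comap] at hI
    rw [← hI, Groth.Agent.Lib.Helper12.map_comap_eq]

end Groth.Agent.S1181
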