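import Groth.Statements.S1186
import Mathlib
import Groth.Agent.Lib.Helper22PoMap
import Groth.Agent.Lib.Helper22FerrandIntegral

set_option autoImplicit false
universe u
open Pi1

namespace Groth.Agent.S1186

open CategoryTheory AlgebraicGeometry Limits TopologicalSpace
open Groth.Agent.Lib.Helper22.Ferrand Groth.Agent.Lib.Helper22.SpPO

section Pull

variable {X Y Z X' Y' Z' : Scheme.{u}} {i : Z ⟶ X} {j : Z ⟶ Y}
  {i' : Z' ⟶ X'} {j' : Z' ⟶ Y'} (f : X' ⟶ X) (g : Y' ⟶ Y) {c : Z' ⟶ Z}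
  [IsAffineHom f] [IsAffineHom g]

/-- the preimage adapted pair under affine morphisms. -/
noncomputable def pullPair (hX : i' ≫ f = c ≫ i) (hY : j' ≫ g = c ≫ j) (k : AdPair i j) :
    AdPair i' j' where
  U := f ⁻¹ᵁ k.U
  V := g ⁻¹ᵁ k.V
  hU := k.hU.preimage f
  hV := k.hV.preimage g
  eq := by
    have h1 : i' ⁻¹ᵁ (f ⁻¹ᵁ k.U) = (i' ≫ f) ⁻¹ᵁ k.U := rfl
    have h2 : j' ⁻¹ᵁ (g ⁻¹ᵁ k.V) = (j' ≫ g) ⁻¹ᵁ k.V := rfl
    rw [h1, h2, hX, hY]
    show c ⁻¹ᵁ (i ⁻¹ᵁ k.U) = c ⁻¹ᵁ (j ⁻¹ᵁ k.V)
    rw [k.eq]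

theorem pullPair_sub (hX : i' ≫ f = c ≫ i) (hY : j' ≫ g = c ≫ j) (k : AdPair i j) :
    Sub f g (pullPair f g hX hY k) k := ⟨le_rfl, le_rfl⟩

theorem mem_pullPair_V (hX : i' ≫ f = c ≫ i) (hY : j' ≫ g = c ≫ j) (k : AdPair i j) (y' : Y') :
    y' ∈ (pullPair f g hX hY k).V ↔ g.base y' ∈ k.V := Iff.rfl

theorem mem_pullPair_U (hX : i' ≫ f = c ≫ i) (hY : j' ≫ g = c ≫ j) (k : AdPair i j) (x' : X') :
    x' ∈ (pullPair f g hX hY k).U ↔ f.base x' ∈ k.U := Iff.rfl

variable [IsClosedImmersion i] [IsClosedImmersion i']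
  {P P' : Scheme.{u}} {a : X ⟶ P} {b : Y ⟶ P} {a' : X' ⟶ P'} {b' : Y' ⟶ P'}

set_option backward.isDefEq.respectTransparency.types false in
/-- **Affine cartesian maps of pushout data**: the induced map of Ferrand pushouts is cartesian over
both pieces and inherits finiteness and étaleness. -/
theorem props_of_affine (hYcov : ∀ y : Y, ∃ k : AdPair i j, y ∈ k.V)
    (hP : IsPushout i j a b) (hP' : IsPushout i' j' a' b')
    (hX : IsPullback i' c f i) (hY : IsPullback j' c g j)
    (h : P' ⟶ P) (ha : a' ≫ h = f ≫ a) (hb : b' ≫ h = g ≫ b) :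
    IsPullback a' f h a ∧ IsPullback b' g h b ∧
      (IsFinite f → IsFinite g → IsFinite h) ∧
      (IsFinite f → IsFinite g → Etale f → Etale g → Etale h) := by
  have hYcov' : ∀ y' : Y', ∃ k' : AdPair i' j', y' ∈ k'.V := by
    intro y'
    obtain ⟨k, hk⟩ := hYcov (g.base y')
    exact ⟨pullPair f g hX.w hY.w k, hk⟩
  obtain ⟨ch⟩ := exists_charts_of_isPushout i j hYcov a b hP
  obtain ⟨ch'⟩ := exists_charts_of_isPushout i' j' hYcov' a' b' hP'
  have hXcov := hX_of_hY i j hYcov
  have hcov : ∀ z : P', ∃ k : AdPair i j, z ∈ Set.range (ch'.c (pullPair f g hX.w hY.w k)).base := by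
    intro z
    rcases ch'.jointly_surjective z with ⟨x', rfl⟩ | ⟨y', rfl⟩
    · obtain ⟨k, hk⟩ := hXcov (f.base x')
      exact ⟨k, (ch'.mem_range_c_iff_X _ x').mpr hk⟩
    · obtain ⟨k, hk⟩ := hYcov (g.base y')
      exact ⟨k, (ch'.mem_range_c_iff_Y _ y').mpr hk⟩
  obtain ⟨hpa, hpb⟩ := isPullback_of_subs (fun k => pullPair f g hX.w hY.w k) (fun k => k)
    (fun k => pullPair_sub f g hX.w hY.w k) hX hY ch ch' h ha hb hcov
  refine ⟨hpa, hpb, ?_, ?_⟩
  · intro hf hg
    refine of_charts @IsFinite h ch.c ch.cover (fun k => ch'.c (pullPair f g hX.w hY.w k))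
      (fun k => sp ((pullPair_sub f g hX.w hY.w k).θ hX.w hY.w))
      (fun k => ((pullPair_sub f g hX.w hY.w k).isPullback_chart hX.w hY.w ch ch' h ha hb
        rfl rfl).flip) (fun k => ?_)
    rw [sp, IsFinite.SpecMap_iff]
    refine ((pullPair_sub f g hX.w hY.w k).data hX hY).core.2.2.2.1 ?_ ?_
    · have := f.finite_app k.U k.hU
      rw [Scheme.Hom.app_eq_appLE] at this
      exact this
    · have := g.finite_app k.V k.hV
      rw [Scheme.Hom.app_eq_appLE] at this
      exact this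
  · intro hf hg hf' hg'
    refine of_charts @Etale h ch.c ch.cover (fun k => ch'.c (pullPair f g hX.w hY.w k))
      (fun k => sp ((pullPair_sub f g hX.w hY.w k).θ hX.w hY.w))
      (fun k => ((pullPair_sub f g hX.w hY.w k).isPullback_chart hX.w hY.w ch ch' h ha hb
        rfl rfl).flip) (fun k => ?_)
    rw [sp, HasRingHomProperty.Spec_iff (P := @Etale)]
    refine ((pullPair_sub f g hX.w hY.w k).data hX hY).core.2.2.2.2 ?_ ?_ ?_ ?_
    · have := f.finite_app k.U k.hU
      rw [Scheme.Hom.app_eq_appLE] at this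
      exact this
    · have := g.finite_app k.V k.hV
      rw [Scheme.Hom.app_eq_appLE] at this
      exact this
    · exact HasRingHomProperty.appLE @Etale f hf' ⟨k.U, k.hU⟩
        ⟨f ⁻¹ᵁ k.U, k.hU.preimage f⟩ _
    · exact HasRingHomProperty.appLE @Etale g hg' ⟨k.V, k.hV⟩
        ⟨g ⁻¹ᵁ k.V, k.hV.preimage g⟩ _

end Pull

open AlgebraicGeometry CategoryTheory CategoryTheory.Limits in
/-- Let i : Z ⟶ X be a closed immersion and j : Z ⟶ Y an integral morphism such that every fibre of j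
lies in the preimage under i of some affine open of X, and let a : X ⟶ W, b : Y ⟶ W exhibit W as the
pushout of i and j in the category of schemes. If U is finite étale over X and V is finite étale
over Y with U ×_X Z ≅ V ×_Y Z over Z, then there is a finite étale cover T of W whose restrictions
to X and to Y are isomorphic to U and to V respectively. (This is the essential-surjectivity part of
an equivalence between finite étale covers of W and the 2-fibre product of the categories of finite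
étale covers of X and of Y over that of Z; only the gluing of objects is asserted, and the
compatibility of the two identifications over Z is not asserted.) -/
theorem result {Z X Y W : Scheme.{u}} (i : Z ⟶ X) [IsClosedImmersion i] (j : Z ⟶ Y) [IsIntegralHom j]
    (h3 : ∀ y : Y, ∃ U : X.Opens, IsAffineOpen U ∧ ∀ z : Z, j.base z = y → i.base z ∈ U)
    (a : X ⟶ W) (b : Y ⟶ W) (hpo : IsPushout i j a b)
    (U : FEt.Cat X) (V : FEt.Cat Y) (e : (FEt.restrict i).obj U ≅ (FEt.restrict j).obj V) :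
    ∃ T : FEt.Cat W, Nonempty ((FEt.restrict a).obj T ≅ U) ∧ Nonempty ((FEt.restrict b).obj T ≅ V) := by
  have hUfin : IsFinite U.hom := U.prop.1
  have hUet : Etale U.hom := U.prop.2
  have hVfin : IsFinite V.hom := V.prop.1
  have hVet : Etale V.hom := V.prop.2
  -- the data over Z
  let i' : pullback U.hom i ⟶ U.left := pullback.fst U.hom i
  let c : pullback U.hom i ⟶ Z := pullback.snd U.hom i
  let eh : pullback U.hom i ⟶ pullback V.hom j := e.hom.left
  let ei : pullback V.hom j ⟶ pullback U.hom i := e.inv.left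
  have e1 : eh ≫ ei = 𝟙 _ := congrArg (fun φ => φ.left) e.hom_inv_id
  have e2 : ei ≫ eh = 𝟙 _ := congrArg (fun φ => φ.left) e.inv_hom_id
  let j' : pullback U.hom i ⟶ V.left := eh ≫ pullback.fst V.hom j
  have hX : IsPullback i' c U.hom i := IsPullback.of_hasPullback U.hom i
  have hew : eh ≫ pullback.snd V.hom j = c := MorphismProperty.Over.w e.hom
  have hY : IsPullback j' c V.hom j := by
    have h0 : IsPullback (pullback.fst V.hom j) (pullback.snd V.hom j) V.hom j :=
      IsPullback.of_hasPullback V.hom j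
    let eL : pullback V.hom j ≅ pullback U.hom i := ⟨ei, eh, e2, e1⟩
    refine h0.of_iso eL (Iso.refl _) (Iso.refl _) (Iso.refl _) ?_ ?_ (by simp) (by simp)
    · show pullback.fst V.hom j ≫ 𝟙 _ = ei ≫ eh ≫ pullback.fst V.hom j
      rw [← Category.assoc, e2, Category.id_comp, Category.comp_id]
    · show pullback.snd V.hom j ≫ 𝟙 _ = ei ≫ c
      rw [← hew, ← Category.assoc, e2, Category.id_comp, Category.comp_id]
  have : IsClosedImmersion i' := inferInstanceAs (IsClosedImmersion (pullback.fst U.hom i))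
  have hYcov : ∀ y : Y, ∃ k : AdPair i j, y ∈ k.V := by
    intro y
    refine exists_adPair_integral i j (fun y => ?_) y
    obtain ⟨U₀, hU₀, hfib⟩ := h3 y
    exact ⟨U₀, hU₀, fun z hz => hfib z hz⟩
  have hYcov' : ∀ y' : V.left, ∃ k' : AdPair i' j', y' ∈ k'.V := by
    intro y'
    obtain ⟨k, hk⟩ := hYcov (V.hom.base y')
    exact ⟨pullPair U.hom V.hom hX.w hY.w k, hk⟩
  obtain ⟨T, a', b', hT, -⟩ := exists_pushout_props i' j' hYcov'
  have hw : i' ≫ U.hom ≫ a = j' ≫ V.hom ≫ b := by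
    rw [← Category.assoc, hX.w, Category.assoc, hpo.w, ← Category.assoc, ← hY.w, Category.assoc]
  let h : T ⟶ W := hT.desc (U.hom ≫ a) (V.hom ≫ b) hw
  have ha : a' ≫ h = U.hom ≫ a := hT.inl_desc _ _ _
  have hb : b' ≫ h = V.hom ≫ b := hT.inr_desc _ _ _
  obtain ⟨hpa, hpb, hfin, het⟩ := props_of_affine U.hom V.hom hYcov hpo hT hX hY h ha hb
  have hhfin : IsFinite h := hfin hUfin hVfin
  have hhet : Etale h := het hUfin hVfin hUet hVet
  let T' : FEt.Cat W := MorphismProperty.Over.mk ⊤ h ⟨hhfin, hhet⟩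
  refine ⟨T', ⟨?_⟩, ⟨?_⟩⟩
  · refine MorphismProperty.Over.isoMk hpa.isoPullback.symm ?_
    show hpa.isoPullback.inv ≫ U.hom = pullback.snd h a
    exact hpa.isoPullback_inv_snd
  · refine MorphismProperty.Over.isoMk hpb.isoPullback.symm ?_
    show hpb.isoPullback.inv ≫ V.hom = pullback.snd h b
    exact hpb.isoPullback_inv_snd

end Groth.Agent.S1186
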