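import Groth.Statements.S1187
import Mathlib
import Groth.Agent.Lib.Helper21Gal3

set_option autoImplicit false
universe u v w
open CategoryTheory PreGaloisCategory
open Pi1

namespace Groth.Agent.S1187

/-- Let H : C ⥤ C' be an exact functor between Galois categories and F' a fibre functor on C' such that
F' ∘ H is a fibre functor on C; write h : π_1(C', F') → π_1(C, F' ∘ H) for the induced homomorphism
of fundamental groups. Then h is surjective if and only if H is fully faithful. -/
theorem result {C C' : Type u} [Category.{v} C] [Category.{v} C'] [GaloisCategory C] [GaloisCategory C']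
    (H : C ⥤ C') [Limits.PreservesFiniteLimits H] [Limits.PreservesFiniteColimits H]
    (F' : C' ⥤ FintypeCat.{w}) [FiberFunctor F'] [FiberFunctor (H ⋙ F')] :
    Function.Surjective (Pi1X.autWhisker H F') ↔ (H.Full ∧ H.Faithful) := by
  constructor
  · intro hs
    exact ⟨Groth.Agent.Lib.Helper21.Gal.full_of_surjective H F' hs,
      Groth.Agent.Lib.Helper21.Gal.faithful_of_fiberFunctor H F'⟩
  · rintro ⟨hfull, -⟩
    exact Groth.Agent.Lib.Helper21.Gal.surjective_of_full H F'

end Groth.Agent.S1187
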