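import Groth.Statements.S5665
import Mathlib.Algebra.Homology.DerivedCategory.Ext.ExactSequences
import Mathlib.Algebra.Homology.DerivedCategory.Ext.EnoughProjectives
import Mathlib.Algebra.Homology.ShortComplex.ModuleCat
import Mathlib.Algebra.Category.ModuleCat.Projective
import Mathlib.LinearAlgebra.Isomorphisms

set_option autoImplicit false
universe u
open CategoryTheory
open Dual

namespace Groth.Agent.S5665

open CategoryTheory Abelian Pointwise

theorem ext_step {A : Type u} [CommRing A] {N Q Y : ModuleCat.{u} A} (x : A) (π : N ⟶ Q)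
    (hinj : Function.Injective (x • 𝟙 N : N ⟶ N).hom) (hsurj : Function.Surjective π.hom)
    (hex : Function.Exact (x • 𝟙 N : N ⟶ N).hom π.hom) (p : ℕ)
    (hvan : ∀ i > p, Subsingleton (Ext N Y i)) :
    (∀ i > p + 1, Subsingleton (Ext Q Y i)) ∧
      Nonempty (Ext Q Y (p + 1) ≃ₗ[A] (Ext N Y p ⧸ (x • (⊤ : Submodule A (Ext N Y p))))) := by
  let S : ShortComplex (ModuleCat.{u} A) := ShortComplex.mk (x • 𝟙 N) π (by
    ext y
    exact hex.apply_apply_eq_zero y)
  have hS : S.ShortExact := ModuleCat.shortComplex_shortExact S hex hinj hsurj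
  have hmul : ∀ {n : ℕ} (z : Ext N Y n), (Ext.mk₀ S.f).comp z (zero_add n) = x • z := by
    intro n z
    show (Ext.mk₀ (x • 𝟙 N)).comp z (zero_add n) = x • z
    rw [Ext.mk₀_smul, Ext.smul_comp, Ext.mk₀_id_comp]
  constructor
  · intro i hi
    refine ⟨fun a b => ?_⟩
    have key : ∀ z : Ext Q Y i, z = 0 := by
      intro z
      have h1 : (Ext.mk₀ S.g).comp z (zero_add i) = 0 :=
        @Subsingleton.elim _ (hvan i (by omega)) _ _
      obtain ⟨j, rfl⟩ : ∃ j, i = 1 + j := ⟨i - 1, by omega⟩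
      obtain ⟨z₁, hz₁⟩ := Ext.contravariant_sequence_exact₃ hS Y z h1 rfl
      have : z₁ = 0 := @Subsingleton.elim _ (hvan j (by omega)) _ _
      rw [← hz₁, this, Ext.comp_zero]
    rw [key a, key b]
  · let δ : Ext N Y p →ₗ[A] Ext Q Y (p + 1) :=
      { toFun := fun z => hS.extClass.comp z (by omega)
        map_add' := fun a b => Ext.comp_add _ _ _ _
        map_smul' := fun r a => Ext.comp_smul _ _ _ _ }
    have hδsurj : Function.Surjective δ := by
      intro z
      have h1 : (Ext.mk₀ S.g).comp z (zero_add (p + 1)) = 0 :=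
        @Subsingleton.elim _ (hvan (p + 1) (by omega)) _ _
      obtain ⟨z₁, hz₁⟩ := Ext.contravariant_sequence_exact₃ hS Y z h1 (by omega : 1 + p = p + 1)
      exact ⟨z₁, hz₁⟩
    have hker : LinearMap.ker δ = x • (⊤ : Submodule A (Ext N Y p)) := by
      ext z
      rw [LinearMap.mem_ker, Submodule.mem_smul_pointwise_iff_exists]
      constructor
      · intro hz
        obtain ⟨z₂, hz₂⟩ := Ext.contravariant_sequence_exact₁ hS Y z (by omega : 1 + p = p + 1) hz
        exact ⟨z₂, trivial, by rw [← hz₂, hmul]⟩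
      · rintro ⟨z₂, -, rfl⟩
        show hS.extClass.comp (x • z₂) (by omega : 1 + p = p + 1) = 0
        rw [← hmul z₂]
        exact hS.extClass_comp_assoc z₂
    exact ⟨((Submodule.quotEquivOfEq _ _ hker.symm).trans
      (LinearMap.quotKerEquivOfSurjective δ hδsurj)).symm⟩
theorem ideal_step {A : Type u} [CommRing A] (Y : ModuleCat.{u} A) (J' : Ideal A) (x : A)
    (hreg : IsSMulRegular (A ⧸ J') x) (p : ℕ)
    (hvan : ∀ i > p, Subsingleton (Ext (ModuleCat.of A (A ⧸ J')) Y i))
    (J : Ideal A) (hJ : J = J' ⊔ Ideal.span {x}) (n : ℕ) (hn : n = p + 1) :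
    (∀ i > n, Subsingleton (Ext (ModuleCat.of A (A ⧸ J)) Y i)) ∧
      Nonempty (Ext (ModuleCat.of A (A ⧸ J)) Y n ≃ₗ[A]
        (Ext (ModuleCat.of A (A ⧸ J')) Y p ⧸
          (x • (⊤ : Submodule A (Ext (ModuleCat.of A (A ⧸ J')) Y p))))) := by
  subst hJ hn
  have hle : J' ≤ J' ⊔ Ideal.span {x} := le_sup_left
  refine ext_step (N := ModuleCat.of A (A ⧸ J')) (Q := ModuleCat.of A (A ⧸ (J' ⊔ Ideal.span {x})))
    x (ModuleCat.ofHom (Submodule.factor hle)) ?_ ?_ ?_ p hvan
  · exact hreg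
  · intro y
    obtain ⟨a, rfl⟩ := Ideal.Quotient.mk_surjective y
    exact ⟨Ideal.Quotient.mk J' a, rfl⟩
  · intro y
    obtain ⟨a, rfl⟩ := Ideal.Quotient.mk_surjective y
    constructor
    · intro hy
      have h1 : Ideal.Quotient.mk (J' ⊔ Ideal.span {x}) a = 0 := hy
      rw [Ideal.Quotient.eq_zero_iff_mem, Submodule.mem_sup] at h1
      obtain ⟨j, hj, s, hs, rfl⟩ := h1
      obtain ⟨c, rfl⟩ := Ideal.mem_span_singleton'.mp hs
      refine ⟨Ideal.Quotient.mk J' c, ?_⟩
      show x • Ideal.Quotient.mk J' c = Ideal.Quotient.mk J' (j + c * x)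
      rw [map_add, Ideal.Quotient.eq_zero_iff_mem.mpr hj, zero_add, mul_comm, ← smul_eq_mul,
        ← Ideal.Quotient.mkₐ_eq_mk A, map_smul]
    · rintro ⟨z, hz⟩
      obtain ⟨c, rfl⟩ := Ideal.Quotient.mk_surjective z
      rw [← hz]
      show (Submodule.factor hle) (x • Ideal.Quotient.mk J' c) = 0
      rw [map_smul]
      show x • Ideal.Quotient.mk (J' ⊔ Ideal.span {x}) c = 0
      rw [← Ideal.Quotient.mkₐ_eq_mk A, ← map_smul, Ideal.Quotient.mkₐ_eq_mk,
        Ideal.Quotient.eq_zero_iff_mem, smul_eq_mul]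
      exact Ideal.mul_mem_right _ _ (Ideal.mem_sup_right (Ideal.mem_span_singleton_self x))

theorem quot_quot {A : Type u} [CommRing A] (M : Type u) [AddCommGroup M] [Module A M]
    (I : Ideal A) (f : A) :
    Nonempty (((M ⧸ (I • (⊤ : Submodule A M))) ⧸
      (f • (⊤ : Submodule A (M ⧸ (I • (⊤ : Submodule A M)))))) ≃ₗ[A]
      (M ⧸ ((Ideal.span {f} ⊔ I) • (⊤ : Submodule A M)))) := by
  set N : Submodule A M := I • ⊤ with hN
  set T : Submodule A M := (Ideal.span {f} ⊔ I) • ⊤ with hT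
  have hNT : N ≤ T := Submodule.smul_mono_left le_sup_right
  have hmap : T.map N.mkQ = f • (⊤ : Submodule A (M ⧸ N)) := by
    rw [hT, Submodule.sup_smul, Submodule.map_sup, Submodule.ideal_span_singleton_smul,
      Submodule.map_pointwise_smul, Submodule.map_top, Submodule.range_mkQ, ← hN]
    rw [Submodule.mkQ_map_self, sup_bot_eq]
  exact ⟨(Submodule.quotEquivOfEq _ _ hmap.symm).trans
    (Submodule.quotientQuotientEquivQuotient N T hNT)⟩

theorem base {A : Type u} [CommRing A] (M : Type u) [AddCommGroup M] [Module A M] :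
    (∀ i > 0, Subsingleton (Ext (ModuleCat.of A (A ⧸ (⊥ : Ideal A))) (ModuleCat.of A M) i)) ∧
      Nonempty (Ext (ModuleCat.of A (A ⧸ (⊥ : Ideal A))) (ModuleCat.of A M) 0 ≃ₗ[A] M) := by
  have e0 : (A ⧸ (⊥ : Ideal A)) ≃ₗ[A] A := Submodule.quotEquivOfEqBot _ rfl
  haveI : Module.Projective A (A ⧸ (⊥ : Ideal A)) := Module.Projective.of_equiv e0.symm
  haveI : Projective (ModuleCat.of A (A ⧸ (⊥ : Ideal A))) :=
    (ModuleCat.of A (A ⧸ (⊥ : Ideal A))).projective_of_categoryTheory_projective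
  constructor
  · intro i hi
    obtain ⟨j, rfl⟩ : ∃ j, i = j + 1 := ⟨i - 1, by omega⟩
    exact ⟨fun a b => by rw [Ext.eq_zero_of_projective a, Ext.eq_zero_of_projective b]⟩
  · exact ⟨(Ext.linearEquiv₀ (R := A)).trans (ModuleCat.homLinearEquiv.trans
      ((LinearEquiv.arrowCongr e0 (LinearEquiv.refl A M)).trans (LinearMap.ringLmapEquivSelf A A M)))⟩

theorem main {A : Type u} [CommRing A] (M : Type u) [AddCommGroup M] [Module A M] (xs : List A) :
    RingTheory.Sequence.IsWeaklyRegular A xs →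
    (∀ i > xs.length, Subsingleton
      (Ext (ModuleCat.of A (A ⧸ Ideal.ofList xs)) (ModuleCat.of A M) i)) ∧
    Nonempty (Ext (ModuleCat.of A (A ⧸ Ideal.ofList xs)) (ModuleCat.of A M) xs.length ≃ₗ[A]
      (M ⧸ (Ideal.ofList xs • (⊤ : Submodule A M)))) := by
  induction xs using List.reverseRecOn with
  | nil =>
    intro _
    obtain ⟨h1, ⟨e⟩⟩ := base (A := A) M
    have h0 : (⊥ : Ideal A) • (⊤ : Submodule A M) = ⊥ := by
      rw [Submodule.bot_smul]
    rw [Ideal.ofList_nil]
    exact ⟨h1, ⟨e.trans (Submodule.quotEquivOfEqBot _ h0).symm⟩⟩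
  | append_singleton rs x ih =>
    intro hreg
    rw [RingTheory.Sequence.isWeaklyRegular_append_iff,
      RingTheory.Sequence.isWeaklyRegular_singleton_iff] at hreg
    obtain ⟨hvan, ⟨e⟩⟩ := ih hreg.1
    have hx : IsSMulRegular (A ⧸ Ideal.ofList rs) x := by
      have h2 := hreg.2
      have heq : (Ideal.ofList rs • ⊤ : Submodule A A) = Ideal.ofList rs := by
        rw [smul_eq_mul, Ideal.mul_top]
      exact ((Submodule.quotEquivOfEq _ _ heq).isSMulRegular_congr x).mp h2
    have hJ : Ideal.ofList (rs ++ [x]) = Ideal.ofList rs ⊔ Ideal.span {x} := by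
      rw [Ideal.ofList_append, Ideal.ofList_singleton]
    obtain ⟨hvan', ⟨e1⟩⟩ := ideal_step (ModuleCat.of A M) (Ideal.ofList rs) x hx rs.length hvan
      (Ideal.ofList (rs ++ [x])) hJ (rs ++ [x]).length (by simp)
    refine ⟨hvan', ?_⟩
    obtain ⟨e3⟩ := quot_quot M (Ideal.ofList rs) x
    have e2 : (Ext (ModuleCat.of A (A ⧸ Ideal.ofList rs)) (ModuleCat.of A M) rs.length ⧸
        (x • (⊤ : Submodule A (Ext (ModuleCat.of A (A ⧸ Ideal.ofList rs)) (ModuleCat.of A M)
          rs.length)))) ≃ₗ[A]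
        ((M ⧸ (Ideal.ofList rs • (⊤ : Submodule A M))) ⧸
          (x • (⊤ : Submodule A (M ⧸ (Ideal.ofList rs • (⊤ : Submodule A M)))))) := by
      refine Submodule.Quotient.equiv _ _ e ?_
      rw [Submodule.map_pointwise_smul, Submodule.map_top, LinearEquiv.range]
    have hJ' : Ideal.ofList (rs ++ [x]) = Ideal.span {x} ⊔ Ideal.ofList rs := by
      rw [hJ, sup_comm]
    rw [hJ']
    rw [hJ'] at e1
    exact ⟨e1.trans (e2.trans e3)⟩

/-- Let `A` be a commutative ring, `xs = (x_1, …, x_p)` a sequence in `A` such that each `x_i` is a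
non-zero-divisor on `A/(x_1, …, x_{i-1})`, `J` the ideal generated by the `x_i` and `M` any
`A`-module. Then `Ext^p_A(A/J, M)` is isomorphic, as an `A`-module, to `M/JM`. (Existence of an
`A`-linear isomorphism only; the published isomorphism is the one induced by the Koszul complex of
`xs`.) -/
theorem result (A : Type u) [CommRing A] (xs : List A) (hreg : RingTheory.Sequence.IsWeaklyRegular A xs) (M : Type u) [AddCommGroup M] [Module A M] : Nonempty (Abelian.Ext (ModuleCat.of A (A ⧸ Ideal.ofList xs)) (ModuleCat.of A M) xs.length ≃ₗ[A] (M ⧸ (Ideal.ofList xs • (⊤ : Submodule A M)))) := by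
  exact (main M xs hreg).2

end Groth.Agent.S5665
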