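import Groth.Statements.S1191
import Mathlib
import Groth.Agent.Lib.Helper13Fiber

set_option autoImplicit false
universe u
open FlatMor

namespace Groth.Agent.S1191

open Groth.Agent.Helper13Fiber

attribute [local instance] Algebra.TensorProduct.rightAlgebra

open TensorProduct in
/-- For a finitely presented algebra S over R, a finitely presented S-module N and a prime q of S over
p, some element of S outside q maps into every associated prime of the fibre module of N over p that
is not contained in the extension of q to the fibre ring. -/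
theorem result {R S : Type u} [CommRing R] [CommRing S] [Algebra R S] [Algebra.FinitePresentation R S]
    (N : Type u) [AddCommGroup N] [Module S N] [Module R N] [IsScalarTower R S N] [Module.FinitePresentation S N]
    (p : Ideal R) [p.IsPrime] (q : Ideal S) [q.IsPrime] [q.LiesOver p] :
    ∃ g : S, g ∉ q ∧ ∀ r ∈ associatedPrimes (p.Fiber S) (FlatCA.fiberMod p S N),
      ¬ r ≤ FlatCA.fiberIdeal p q → (1 : p.ResidueField) ⊗ₜ[R] g ∈ r := by
  classical
  haveI : IsNoetherianRing (p.Fiber S) :=
    Algebra.FiniteType.isNoetherianRing p.ResidueField (p.Fiber S)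
  haveI : Module.Finite (p.Fiber S) (FlatCA.fiberMod p S N) :=
    inferInstanceAs (Module.Finite (p.Fiber S) ((p.Fiber S) ⊗[S] N))
  have hfin := associatedPrimes.finite (p.Fiber S) (FlatCA.fiberMod p S N)
  have hex : ∀ r ∈ associatedPrimes (p.Fiber S) (FlatCA.fiberMod p S N),
      ¬ r ≤ FlatCA.fiberIdeal p q → ∃ g : S, g ∉ q ∧ (1 : p.ResidueField) ⊗ₜ[R] g ∈ r := by
    intro r hr hnle
    by_contra hcon
    push_neg at hcon
    apply hnle
    intro f hf
    obtain ⟨u, hu, s, hus⟩ := exists_isUnit_mul_eq_algebraMap p S f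
    have hs : algebraMap S (p.Fiber S) s ∈ r := by
      rw [← hus]
      exact Ideal.mul_mem_left _ _ hf
    have hsq : s ∈ q := by
      by_contra hsq
      exact hcon s hsq hs
    have h1 : f = ↑(hu.unit⁻¹) * algebraMap S (p.Fiber S) s := by
      rw [← hus, ← mul_assoc, IsUnit.val_inv_mul, one_mul]
    rw [h1]
    exact Ideal.mul_mem_left _ _ (Ideal.mem_map_of_mem _ hsq)
  choose! gfun hgfun using hex
  let T := hfin.toFinset.filter (fun r => ¬ r ≤ FlatCA.fiberIdeal p q)
  refine ⟨∏ r ∈ T, gfun r, ?_, ?_⟩
  · intro hmem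
    obtain ⟨r, hrT, hr⟩ := Ideal.IsPrime.prod_mem_iff.mp hmem
    rw [Finset.mem_filter, Set.Finite.mem_toFinset] at hrT
    exact (hgfun r hrT.1 hrT.2).1 hr
  · intro r hr hnle
    have hrT : r ∈ T := by
      rw [Finset.mem_filter, Set.Finite.mem_toFinset]
      exact ⟨hr, hnle⟩
    have h1 : (1 : p.ResidueField) ⊗ₜ[R] (∏ r ∈ T, gfun r) =
        ∏ r' ∈ T, algebraMap S (p.Fiber S) (gfun r') := by
      rw [← map_prod]
      rfl
    rw [h1]
    exact Ideal.mem_of_dvd _ (Finset.dvd_prod_of_mem _ hrT) (hgfun r hr hnle).2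

end Groth.Agent.S1191
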