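import Groth.Statements.S14420
import Groth.Agent.Lib.Helper28DepthCM
-- import your own Groth.Agent.* helpers here

set_option autoImplicit false
universe u
open CategoryTheory
open LocCoh

namespace Groth.Agent.S14420

open Groth.Agent.Lib.Helper28

/-- Let A be a Noetherian local ring and M, N nonzero finitely generated A-modules. Then Ext^i_A(N, M) =
0 for all i < depth M − dim Supp N. Here depth M = d and the Krull dimension of the support of N = r
are given as natural numbers and the conclusion is stated for every i with i + r < d. -/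
theorem result (A : Type u) [CommRing A] [IsNoetherianRing A]
    [IsLocalRing A] (M N : Type u) [AddCommGroup M] [Module A M] [AddCommGroup N] [Module A N]
    [Module.Finite A M] [Module.Finite A N] [Nontrivial M] [Nontrivial N]
    (d r i : ℕ) (hd : LocCoh.depth A M = d) (hr : Module.supportDim A N = r) (hi : i + r < d) :
    Subsingleton (Abelian.Ext (ModuleCat.of A N) (ModuleCat.of A M) i) := by
  set I : Ideal A := Module.annihilator A N with hIdef
  have hIne : I ≠ ⊤ := by
    intro h
    have h1 : (1 : A) ∈ Module.annihilator A N := by rw [← hIdef, h]; trivial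
    obtain ⟨x, hx⟩ := exists_ne (0 : N)
    exact hx (by simpa using Module.mem_annihilator.mp h1 x)
  have hIm : I ≤ IsLocalRing.maximalIdeal A := IsLocalRing.le_maximalIdeal hIne
  have hIM : I • (⊤ : Submodule A M) ≠ ⊤ := smul_top_ne_top_of_le_maximalIdeal hIm
  obtain ⟨k, hk⟩ := ENat.ne_top_iff_exists.mp (idealDepth_ne_top hIM)
  have g1 := depth_le_idealDepth_add_supportDim_quotient I hIm k M hk.symm
  -- support of M/IM is inside support of N
  have hsupp : Module.supportDim A (M ⧸ (I • ⊤ : Submodule A M)) ≤ Module.supportDim A N := by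
    unfold Module.supportDim
    have hsub : Module.support A (M ⧸ (I • ⊤ : Submodule A M)) ⊆ Module.support A N := by
      intro p hp
      rw [Module.support_eq_zeroLocus] at hp ⊢
      intro x hx
      apply hp
      rw [SetLike.mem_coe, Module.mem_annihilator]
      intro m
      induction m using Submodule.Quotient.induction_on with
      | _ m =>
        rw [← Submodule.Quotient.mk_smul, Submodule.Quotient.mk_eq_zero]
        exact Submodule.smul_mem_smul hx Submodule.mem_top
    exact Order.krullDim_le_of_strictMono (fun x => (⟨x.1, hsub x.2⟩ : Module.support A N))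
      (fun a b hab => hab)
  rw [hd, ← hk] at g1
  rw [hr] at hsupp
  have g2 : ((d : ℕ∞) : WithBot ℕ∞) ≤ ((k : ℕ∞) : WithBot ℕ∞) + ((r : ℕ) : WithBot ℕ∞) :=
    g1.trans (by gcongr)
  have g3 : d ≤ k + r := by
    have : ((d : ℕ∞) : WithBot ℕ∞) ≤ (((k + r : ℕ) : ℕ∞) : WithBot ℕ∞) := by
      refine g2.trans (le_of_eq ?_)
      push_cast
      rfl
    exact_mod_cast this
  have hik : ((i + 1 : ℕ) : ℕ∞) ≤ LocCoh.idealDepth I M := by
    rw [← hk]
    exact_mod_cast (by omega : i + 1 ≤ k)
  obtain ⟨rs, hlen, hmem, hreg⟩ := (natCast_le_idealDepth_iff hIM (i + 1)).mp hik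
  have hNsupp : Module.support A (ModuleCat.of A N) ⊆ PrimeSpectrum.zeroLocus (I : Set A) := by
    rw [Module.support_eq_zeroLocus]
  exact ModuleCat.subsingleton_ext_of_exists_isRegular I (ModuleCat.of A N) hNsupp
    (ModuleCat.of A M) (lt_top_iff_ne_top.mpr hIM) rs hmem hreg i (by omega)

end Groth.Agent.S14420
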