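import Groth.Statements.S1193
import Mathlib
import Groth.Agent.Lib.Helper13Fiber

set_option autoImplicit false
universe u
open FlatMor

namespace Groth.Agent.S1193

section General

variable {A B : Type u} [CommRing A] [CommRing B] [Algebra A B]
  {M : Type u} [AddCommGroup M] [Module A M] [Module B M] [IsScalarTower A B M]

theorem colon_eq_comap (x : M) :
    ((⊥ : Submodule A M).colon {x}) = Ideal.comap (algebraMap A B) ((⊥ : Submodule B M).colon {x}) := by
  ext a
  simp only [Submodule.mem_colon_singleton, Submodule.mem_bot, Ideal.mem_comap, algebraMap_smul]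

theorem ass_eq_image (hsurj : Function.Surjective (algebraMap A B)) :
    associatedPrimes A M = Ideal.comap (algebraMap A B) '' associatedPrimes B M := by
  ext q
  constructor
  · rintro ⟨hq, x, hx⟩
    have hq' : q = Ideal.comap (algebraMap A B) ((⊥ : Submodule B M).colon {x}).radical := by
      rw [Ideal.comap_radical, ← colon_eq_comap, hx]
    refine ⟨((⊥ : Submodule B M).colon {x}).radical, ⟨?_, x, rfl⟩, hq'.symm⟩
    have h1 : ((⊥ : Submodule B M).colon {x}).radical = Ideal.map (algebraMap A B) q := by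
      rw [hq', Ideal.map_comap_of_surjective _ hsurj]
    rw [h1]
    refine Ideal.map_isPrime_of_surjective hsurj ?_
    rw [hq']
    exact Ideal.comap_mono bot_le
  · rintro ⟨P, ⟨hP, x, hx⟩, rfl⟩
    refine ⟨Ideal.comap_isPrime _ _, x, ?_⟩
    rw [hx, Ideal.comap_radical, ← colon_eq_comap]

variable [IsNoetherianRing B] [Module.Finite B M]

theorem ass_finite (hsurj : Function.Surjective (algebraMap A B)) :
    (associatedPrimes A M).Finite := by
  rw [ass_eq_image hsurj]
  exact (associatedPrimes.finite B M).image _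

theorem mem_nzd_iff (hsurj : Function.Surjective (algebraMap A B)) (a : A) :
    a ∈ nonZeroSMulDivisors A M ↔ ∀ q ∈ associatedPrimes A M, a ∉ q := by
  rw [ass_eq_image hsurj, mem_nonZeroSMulDivisors_iff]
  have h := biUnion_associatedPrimes_eq_zero_divisors B M
  constructor
  · rintro h1 _ ⟨P, hP, rfl⟩ haP
    have : algebraMap A B a ∈ ⋃ p ∈ associatedPrimes B M, (p : Set B) :=
      Set.mem_biUnion hP haP
    rw [h] at this
    obtain ⟨x, hx0, hx⟩ := this
    rw [algebraMap_smul] at hx
    exact hx0 (h1 x hx)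
  · intro h1 m hm
    by_contra hm0
    have : algebraMap A B a ∈ ⋃ p ∈ associatedPrimes B M, (p : Set B) := by
      rw [h]
      exact ⟨m, hm0, by rw [algebraMap_smul]; exact hm⟩
    obtain ⟨P, hP, haP⟩ := Set.mem_iUnion₂.mp this
    exact h1 _ ⟨P, hP, rfl⟩ haP

theorem disjoint_iff (hsurj : Function.Surjective (algebraMap A B)) (q : Ideal A) [q.IsPrime] :
    Disjoint (q : Set A) (nonZeroSMulDivisors A M) ↔ ∃ q' ∈ associatedPrimes A M, q ≤ q' := by
  constructor
  · intro hd
    have hsub : (q : Set A) ⊆ ⋃ i ∈ ((ass_finite (M := M) hsurj).toFinset : Set (Ideal A)), (i : Set A) := by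
      intro a ha
      have : a ∉ nonZeroSMulDivisors A M := fun h => Set.disjoint_left.mp hd ha h
      rw [mem_nzd_iff hsurj] at this
      push_neg at this
      obtain ⟨q', hq', haq'⟩ := this
      exact Set.mem_biUnion (by simpa using hq') haq'
    have := (Ideal.subset_union_prime (s := (ass_finite (M := M) hsurj).toFinset) (f := fun i => i) ⊥ ⊥
      (fun i hi _ _ => by
        have : i ∈ associatedPrimes A M := by simpa using hi
        exact this.isPrime)).mp hsub
    obtain ⟨i, hi, hqi⟩ := this
    exact ⟨i, by simpa using hi, hqi⟩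
  · rintro ⟨q', hq', hle⟩
    rw [Set.disjoint_left]
    intro a ha hn
    exact (mem_nzd_iff hsurj a).mp hn q' hq' (hle ha)

end General

section Loc

variable {A : Type u} [CommRing A] (W : Submonoid A) (L : Type u) [CommRing L] [Algebra A L]
  [IsLocalization W L] (𝒜 : Set (Ideal A))

theorem comap_mem_of_isMaximal (hprime : ∀ q ∈ 𝒜, q.IsPrime)
    (H : ∀ (q : Ideal A) [q.IsPrime], Disjoint (q : Set A) W ↔ ∃ q' ∈ 𝒜, q ≤ q')
    (Q : Ideal L) (hQ : Q.IsMaximal) :
    Maximal (fun r => r ∈ 𝒜) (Q.comap (algebraMap A L)) := by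
  have hQp : Q.IsPrime := hQ.isPrime
  obtain ⟨hcp, hcd⟩ := (IsLocalization.isPrime_iff_isPrime_disjoint W L Q).mp hQp
  have key : ∀ r ∈ 𝒜, Q.comap (algebraMap A L) ≤ r → Q.comap (algebraMap A L) = r := by
    intro r hr hle
    have hrp : r.IsPrime := hprime r hr
    have hrd : Disjoint (W : Set A) (r : Set A) :=
      ((H r).mpr ⟨r, hr, le_rfl⟩).symm
    have hmp : (Ideal.map (algebraMap A L) r).IsPrime :=
      IsLocalization.isPrime_of_isPrime_disjoint W L r hrp hrd
    have hle' : Q ≤ Ideal.map (algebraMap A L) r := by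
      rw [← IsLocalization.map_under W L Q]
      exact Ideal.map_mono hle
    have := hQ.eq_of_le hmp.ne_top hle'
    rw [this]
    exact IsLocalization.under_map_of_isPrime_disjoint W L hrp hrd
  obtain ⟨q', hq', hle⟩ := (H (Q.comap (algebraMap A L))).mp hcd.symm
  have heq := key q' hq' hle
  refine ⟨heq ▸ hq', fun r hr hle' => (key r hr hle').ge⟩

theorem isMaximal_iff (hprime : ∀ q ∈ 𝒜, q.IsPrime)
    (H : ∀ (q : Ideal A) [q.IsPrime], Disjoint (q : Set A) W ↔ ∃ q' ∈ 𝒜, q ≤ q')
    (Q : Ideal L) :
    Q.IsMaximal ↔ (Q.IsPrime ∧ Maximal (fun r => r ∈ 𝒜) (Q.comap (algebraMap A L))) := by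
  constructor
  · intro hQ
    exact ⟨hQ.isPrime, comap_mem_of_isMaximal W L 𝒜 hprime H Q hQ⟩
  · rintro ⟨hQp, hmax⟩
    obtain ⟨Q', hQ', hle⟩ := Ideal.exists_le_maximal Q hQp.ne_top
    have h1 := comap_mem_of_isMaximal W L 𝒜 hprime H Q' hQ'
    have h2 : Q'.comap (algebraMap A L) ≤ Q.comap (algebraMap A L) :=
      hmax.2 h1.1 (Ideal.comap_mono hle)
    have h3 : Q' ≤ Q := (IsLocalization.under_le_under_iff W L).mp h2
    rw [le_antisymm hle h3]
    exact hQ'

theorem finite_isMaximal (hprime : ∀ q ∈ 𝒜, q.IsPrime) (hfin : 𝒜.Finite)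
    (H : ∀ (q : Ideal A) [q.IsPrime], Disjoint (q : Set A) W ↔ ∃ q' ∈ 𝒜, q ≤ q') :
    {Q : Ideal L | Q.IsMaximal}.Finite := by
  refine (hfin.image (Ideal.map (algebraMap A L))).subset ?_
  intro Q hQ
  exact ⟨Q.comap (algebraMap A L), (comap_mem_of_isMaximal W L 𝒜 hprime H Q hQ).1,
    IsLocalization.map_under W L Q⟩

end Loc

section Surj

open TensorProduct

attribute [local instance] Algebra.TensorProduct.rightAlgebra

theorem algebraMap_fiber_surjective {R S : Type u} [CommRing R] [CommRing S] [Algebra R S]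
    (p : Ideal R) [p.IsMaximal] : Function.Surjective (algebraMap S (p.Fiber S)) := by
  intro f
  induction f using TensorProduct.induction_on with
  | zero => exact ⟨0, map_zero _⟩
  | tmul k s =>
    obtain ⟨r, rfl⟩ := Ideal.algebraMap_residueField_surjective p k
    refine ⟨r • s, ?_⟩
    change (1 : p.ResidueField) ⊗ₜ[R] (r • s) = _
    rw [← TensorProduct.smul_tmul, Algebra.smul_def, mul_one]
  | add x y hx hy =>
    obtain ⟨a, rfl⟩ := hx
    obtain ⟨b, rfl⟩ := hy
    exact ⟨a + b, map_add _ _ _⟩

end Surj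

attribute [local instance] Algebra.TensorProduct.rightAlgebra

open IsLocalRing in
/-- Let R be a local ring, S an R-algebra whose closed fibre ring is Noetherian and N an S-module whose
closed fibre module N/𝔪N is finite. Let Σ be the set of elements of S acting injectively on N/𝔪N.
Then a prime of S is disjoint from Σ exactly when it lies inside an associated prime of N/𝔪N (the
primes of the localization at Σ), the localization of S at Σ has finitely many maximal ideals, and
an ideal of that localization is maximal exactly when it is prime and contracts to a maximal member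
of the set of associated primes of N/𝔪N. -/
theorem result {R S : Type u} [CommRing R] [IsLocalRing R] [CommRing S] [Algebra R S]
    (N : Type u) [AddCommGroup N] [Module S N] [Module R N] [IsScalarTower R S N]
    [IsNoetherianRing ((maximalIdeal R).Fiber S)]
    [Module.Finite ((maximalIdeal R).Fiber S) (FlatCA.fiberMod (maximalIdeal R) S N)] :
    (∀ (q : Ideal S) [q.IsPrime], Disjoint (q : Set S) (FlatCA.nzdFiber R S N) ↔
        ∃ q' ∈ associatedPrimes S (FlatCA.fiberMod (maximalIdeal R) S N), q ≤ q') ∧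
    {Q : Ideal (Localization (FlatCA.nzdFiber R S N)) | Q.IsMaximal}.Finite ∧
    (∀ Q : Ideal (Localization (FlatCA.nzdFiber R S N)), Q.IsMaximal ↔ (Q.IsPrime ∧
        Maximal (fun r => r ∈ associatedPrimes S (FlatCA.fiberMod (maximalIdeal R) S N))
          (Q.comap (algebraMap S (Localization (FlatCA.nzdFiber R S N)))))) := by
  have hsurj : Function.Surjective (algebraMap S ((maximalIdeal R).Fiber S)) :=
    algebraMap_fiber_surjective (maximalIdeal R)
  have H : ∀ (q : Ideal S) [q.IsPrime], Disjoint (q : Set S) (FlatCA.nzdFiber R S N) ↔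
      ∃ q' ∈ associatedPrimes S (FlatCA.fiberMod (maximalIdeal R) S N), q ≤ q' := by
    intro q _
    exact disjoint_iff (B := (maximalIdeal R).Fiber S) hsurj q
  have hprime : ∀ q ∈ associatedPrimes S (FlatCA.fiberMod (maximalIdeal R) S N), q.IsPrime :=
    fun q hq => hq.isPrime
  have hfin : (associatedPrimes S (FlatCA.fiberMod (maximalIdeal R) S N)).Finite :=
    ass_finite (B := (maximalIdeal R).Fiber S) hsurj
  refine ⟨fun q _ => H q, ?_, ?_⟩
  · exact finite_isMaximal (FlatCA.nzdFiber R S N) _ _ hprime hfin H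
  · intro Q
    exact isMaximal_iff (FlatCA.nzdFiber R S N) _ _ hprime H Q

end Groth.Agent.S1193
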