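import Groth.Statements.S1199
import Mathlib
import Groth.Agent.Lib.Helper14Decaying

set_option autoImplicit false
universe u
open FlatMor

namespace Groth.Agent.S1199

open TensorProduct

section aux
variable {R S : Type u} [CommRing R] [CommRing S] [Algebra R S]

theorem finite_tensor (N Q : Type u) [AddCommGroup N] [Module S N] [Module R N]
    [IsScalarTower R S N] [Module.Finite S N] [AddCommGroup Q] [Module R Q] [Module.Finite R Q] :
    Module.Finite S (N ⊗[R] Q) :=
  Module.Finite.equiv (TensorProduct.AlgebraTensorModule.cancelBaseChange R S S N Q)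

theorem hausdorff_aux [IsNoetherianRing S] (I : Ideal R) (T : Type u) [AddCommGroup T]
    [Module S T] [Module R T] [IsScalarTower R S T] [Module.Finite S T]
    (h : ∀ q ∈ associatedPrimes S T, I.map (algebraMap R S) ⊔ q ≠ ⊤) (x : T)
    (hx : ∀ n, x ∈ (I ^ n • ⊤ : Submodule R T)) : x = 0 := by
  by_contra hx0
  have h1 : x ∈ (⨅ i : ℕ, (I.map (algebraMap R S)) ^ i • ⊤ : Submodule S T) := by
    rw [Submodule.mem_iInf]
    intro n
    refine Submodule.smul_induction_on (hx n) ?_ ?_
    · intro a ha t _
      rw [← algebraMap_smul S a t]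
      refine Submodule.smul_mem_smul ?_ Submodule.mem_top
      rw [← Ideal.map_pow]
      exact Ideal.mem_map_of_mem _ ha
    · intro a b ha hb
      exact Submodule.add_mem _ ha hb
  obtain ⟨r, hr⟩ := (Ideal.mem_iInf_smul_pow_eq_bot_iff _ x).mp h1
  obtain ⟨P, hP, hle⟩ := exists_le_isAssociatedPrime_of_isNoetherianRing S x hx0
  apply h P hP
  rw [Ideal.eq_top_iff_one]
  have h2 : (1 - (r : S)) ∈ P := by
    apply hle
    rw [Submodule.mem_colon_singleton]
    simp [sub_smul, hr]
  have h3 : (1 : S) = (r : S) + (1 - r) := by ring
  rw [h3]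
  exact Ideal.add_mem _ (Ideal.mem_sup_left r.2) (Ideal.mem_sup_right h2)

theorem inj_finite [IsNoetherianRing S] (I : Ideal R)
    (N : Type u) [AddCommGroup N] [Module S N] [Module R N] [IsScalarTower R S N]
    [Module.Finite S N]
    (Q : Type u) [AddCommGroup Q] [Module R Q] [Module.Finite R Q]
    (h : ∀ q ∈ associatedPrimes S (N ⊗[R] Q), I.map (algebraMap R S) ⊔ q ≠ ⊤) :
    Function.Injective ((AdicCompletion.of I N).lTensor Q) := by
  rw [← LinearMap.ker_eq_bot, LinearMap.ker_eq_bot']
  intro x hx
  have key : ∀ n, TensorProduct.comm R Q N x ∈ (I ^ n • ⊤ : Submodule R (N ⊗[R] Q)) := by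
    intro n
    have h1 : (Submodule.mkQ (I ^ n • ⊤ : Submodule R N)).lTensor Q x = 0 := by
      rw [← AdicCompletion.eval_comp_of, LinearMap.lTensor_comp, LinearMap.comp_apply, hx,
        map_zero]
    have h2 : x ∈ LinearMap.range ((I ^ n • ⊤ : Submodule R N).subtype.lTensor Q) := by
      rw [← lTensor_mkQ]
      exact h1
    have h3 : ∀ y : Q ⊗[R] (I ^ n • ⊤ : Submodule R N),
        TensorProduct.comm R Q N ((I ^ n • ⊤ : Submodule R N).subtype.lTensor Q y) ∈
          (I ^ n • ⊤ : Submodule R (N ⊗[R] Q)) := by
      intro y
      induction y using TensorProduct.induction_on with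
      | zero => simp
      | tmul q m =>
        obtain ⟨m, hm⟩ := m
        simp only [LinearMap.lTensor_tmul, Submodule.subtype_apply, TensorProduct.comm_tmul]
        refine Submodule.smul_induction_on hm ?_ ?_
        · intro a ha m' _
          rw [← TensorProduct.smul_tmul']
          exact Submodule.smul_mem_smul ha Submodule.mem_top
        · intro a b ha hb
          rw [TensorProduct.add_tmul]
          exact Submodule.add_mem _ ha hb
      | add a b ha hb =>
        rw [map_add, map_add]
        exact Submodule.add_mem _ ha hb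
    obtain ⟨y, rfl⟩ := h2
    exact h3 y
  have := finite_tensor (R := R) (S := S) N Q
  have h0 := hausdorff_aux I (N ⊗[R] Q) h _ key
  exact (TensorProduct.comm R Q N).injective (by rw [h0, map_zero])

end aux


open TensorProduct in
/-- Let R → S be a map of Noetherian rings, I an ideal of R and N a finite S-module. Assume that for
every finite R-module Q and every associated prime q of the S-module N ⊗_R Q the ideal IS + q is
proper. Then the canonical map from N to its I-adic completion is universally injective as a map of
R-modules. -/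
theorem result {R S : Type u} [CommRing R] [CommRing S] [Algebra R S] [IsNoetherianRing R] [IsNoetherianRing S] (I : Ideal R)
    (N : Type u) [AddCommGroup N] [Module S N] [Module R N] [IsScalarTower R S N] [Module.Finite S N]
    (h : ∀ (Q : Type u) [AddCommGroup Q] [Module R Q], Module.Finite R Q →
      ∀ q ∈ associatedPrimes S (N ⊗[R] Q), I.map (algebraMap R S) ⊔ q ≠ ⊤) :
    FlatCA.UnivInj R (AdicCompletion.of I N) := by
  intro Q _ _
  apply Groth.Agent.Lib.Helper14.Dec.lTensor_injective_of_fg
  intro Q' hQ'
  haveI : Module.Finite R Q' := Module.Finite.iff_fg.mpr hQ'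
  exact inj_finite I N Q' (h Q' inferInstance)

end Groth.Agent.S1199
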