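import Groth.Statements.S1200
import Mathlib
import Groth.Agent.S1199
import Groth.Agent.Lib.Helper13Fiber

set_option autoImplicit false
universe u
open FlatMor

namespace Groth.Agent.S1200

open TensorProduct FlatCA Groth.Agent.Helper13Fiber

attribute [local instance] Algebra.TensorProduct.rightAlgebra

section aux
variable {R S : Type u} [CommRing R] [CommRing S] [Algebra R S]
  (N : Type u) [AddCommGroup N] [Module S N] [Module R N] [IsScalarTower R S N]

/-- An associated prime of `N/pN` (the annihilator of the class of `y`) extends to an associated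
prime of the fibre module. -/
theorem fiberIdeal_mem_ass [Module.Flat R N] (p : Ideal R) [p.IsPrime] (P : Ideal S) [P.IsPrime]
    (y : N)
    (hP : ∀ s : S, s ∈ P ↔ s • y ∈ (p.map (algebraMap R S) • ⊤ : Submodule S N)) :
    fiberIdeal p P ∈ associatedPrimes (p.Fiber S) (fiberMod p S N) := by
  set z := toFiberMod p S N y with hz
  have hs : ∀ s : S, algebraMap S (p.Fiber S) s • z = 0 ↔ s ∈ P := by
    intro s
    rw [hz, algebraMap_smul, ← map_smul, toFiberMod_eq_zero_iff_of_flat, hP]
  have hf : ∀ f : p.Fiber S, ∃ u : p.Fiber S, IsUnit u ∧ ∃ s : S,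
      u * f = algebraMap S (p.Fiber S) s ∧ (f • z = 0 ↔ s ∈ P) := by
    intro f
    obtain ⟨u, hu, s, hus⟩ := exists_isUnit_mul_eq_algebraMap p S f
    refine ⟨u, hu, s, hus, ?_⟩
    rw [← hs, ← hus, mul_smul]
    exact (hu.smul_eq_zero).symm
  have hcolon : fiberIdeal p P = (⊥ : Submodule (p.Fiber S) (fiberMod p S N)).colon {z} := by
    apply le_antisymm
    · unfold fiberIdeal
      rw [Ideal.map_le_iff_le_comap]
      intro s hs'
      rw [Ideal.mem_comap, Submodule.mem_colon_singleton, Submodule.mem_bot]
      exact (hs s).mpr hs'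
    · intro f hf'
      rw [Submodule.mem_colon_singleton, Submodule.mem_bot] at hf'
      obtain ⟨u, hu, s, hus, hiff⟩ := hf f
      have hsP := hiff.mp hf'
      have h1 : f = ↑(hu.unit⁻¹) * algebraMap S (p.Fiber S) s := by
        rw [← hus, ← mul_assoc, IsUnit.val_inv_mul, one_mul]
      rw [h1]
      exact Ideal.mul_mem_left _ _ (Ideal.mem_map_of_mem _ hsP)
  have hprime : (fiberIdeal p P).IsPrime := by
    rw [hcolon, Ideal.isPrime_iff]
    constructor
    · rw [Ne, Ideal.eq_top_iff_one, Submodule.mem_colon_singleton, Submodule.mem_bot]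
      intro h1
      have h2 := (hs 1).mp (by rwa [map_one])
      exact (Ideal.IsPrime.ne_top inferInstance) ((Ideal.eq_top_iff_one P).mpr h2)
    · intro f g hfg
      rw [Submodule.mem_colon_singleton, Submodule.mem_bot] at hfg
      obtain ⟨u, hu, s, hus, hiff⟩ := hf f
      obtain ⟨v, hv, t, hvt, hiff'⟩ := hf g
      have h1 : algebraMap S (p.Fiber S) (s * t) • z = 0 := by
        rw [map_mul, ← hus, ← hvt]
        have h2 : u * f * (v * g) = (u * v) * (f * g) := by ring
        rw [h2, mul_smul, hfg, smul_zero]
      rcases Ideal.IsPrime.mem_or_mem inferInstance ((hs _).mp h1) with h | h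
      · left
        rw [Submodule.mem_colon_singleton, Submodule.mem_bot]
        exact hiff.mpr h
      · right
        rw [Submodule.mem_colon_singleton, Submodule.mem_bot]
        exact hiff'.mpr h
  refine ⟨hprime, z, ?_⟩
  rw [← hcolon]
  exact hprime.radical.symm

/-- `b` is a nonzerodivisor on `N/pN` when it avoids all primes associated to fibres. -/
theorem nzd_quot [IsNoetherianRing S] [Module.Flat R N] (b : S)
    (hb : ∀ (p : Ideal R) (q : Ideal S) [p.IsPrime] [q.IsPrime] [q.LiesOver p],
      fiberIdeal p q ∈ associatedPrimes (p.Fiber S) (fiberMod p S N) → b ∉ q)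
    (p : Ideal R) [p.IsPrime] (n : N)
    (hn : b • n ∈ (p.map (algebraMap R S) • ⊤ : Submodule S N)) :
    n ∈ (p.map (algebraMap R S) • ⊤ : Submodule S N) := by
  set Mp := (p.map (algebraMap R S) • ⊤ : Submodule S N) with hMp
  by_contra hn0
  have hx0 : Mp.mkQ n ≠ 0 := by
    rwa [Ne, Submodule.mkQ_apply, Submodule.Quotient.mk_eq_zero]
  obtain ⟨P, hP, hle⟩ := exists_le_isAssociatedPrime_of_isNoetherianRing S (Mp.mkQ n) hx0
  rw [isAssociatedPrime_iff] at hP
  obtain ⟨hPprime, ybar, hPy⟩ := hP
  obtain ⟨y, rfl⟩ := Mp.mkQ_surjective ybar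
  have hPmem : ∀ s : S, s ∈ P ↔ s • y ∈ Mp := by
    intro s
    rw [hPy, Submodule.mem_colon_singleton, Submodule.mem_bot, ← map_smul, Submodule.mkQ_apply,
      Submodule.Quotient.mk_eq_zero]
  have hbP : b ∈ P := by
    apply hle
    rw [Submodule.mem_colon_singleton, Submodule.mem_bot, ← map_smul, Submodule.mkQ_apply,
      Submodule.Quotient.mk_eq_zero]
    exact hn
  have hover : P.LiesOver p := by
    constructor
    ext r
    rw [Ideal.under_def, Ideal.mem_comap, hPmem]
    constructor
    · intro hr
      exact Submodule.smul_mem_smul (Ideal.mem_map_of_mem _ hr) Submodule.mem_top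
    · intro hr
      by_contra hrp
      have hy := mem_of_smul_mem_of_flat p S N hrp hr
      have h1 : (1 : S) ∈ P := by
        rw [hPmem, one_smul]
        exact hy
      exact hPprime.ne_top ((Ideal.eq_top_iff_one P).mpr h1)
  exact hb p P (fiberIdeal_mem_ass N p P y hPmem) hbP

theorem rTensor_lsmul (b : S) (Q : Type u) [AddCommGroup Q] [Module R Q] (x : N ⊗[R] Q) :
    ((LinearMap.lsmul S N b).restrictScalars R).rTensor Q x = b • x := by
  induction x using TensorProduct.induction_on with
  | zero => simp
  | tmul n q => rw [LinearMap.rTensor_tmul, TensorProduct.smul_tmul']; rfl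
  | add a c ha hc => rw [map_add, ha, hc, smul_add]

theorem nzd_tensor [IsNoetherianRing R] [IsNoetherianRing S] [Module.Flat R N] (b : S)
    (hb : ∀ (p : Ideal R) (q : Ideal S) [p.IsPrime] [q.IsPrime] [q.LiesOver p],
      fiberIdeal p q ∈ associatedPrimes (p.Fiber S) (fiberMod p S N) → b ∉ q)
    (Q : Type u) [AddCommGroup Q] [Module R Q] [Module.Finite R Q] :
    Function.Injective (((LinearMap.lsmul S N b).restrictScalars R).rTensor Q) := by
  set μ : N →ₗ[R] N := (LinearMap.lsmul S N b).restrictScalars R with hμ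
  induction ‹Module.Finite R Q› using
    IsNoetherianRing.induction_on_isQuotientEquivQuotientPrime R with
  | subsingleton Q =>
    have h0 : ∀ x : N ⊗[R] Q, x = 0 := by
      intro x
      induction x using TensorProduct.induction_on with
      | zero => rfl
      | tmul n q => rw [Subsingleton.elim q 0, TensorProduct.tmul_zero]
      | add a c ha hc => rw [ha, hc, add_zero]
    intro x y _
    rw [h0 x, h0 y]
  | quotient Q p e =>
    rw [injective_iff_map_eq_zero]
    intro x hx
    have h1 : μ.rTensor (R ⧸ p.asIdeal) (e.toLinearMap.lTensor N x) = 0 := by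
      rw [← LinearMap.comp_apply, LinearMap.rTensor_comp_lTensor, ← LinearMap.lTensor_comp_rTensor,
        LinearMap.comp_apply, hx, map_zero]
    obtain ⟨nbar, hnbar⟩ := (TensorProduct.tensorQuotEquivQuotSMul N p.asIdeal).symm.surjective
      (e.toLinearMap.lTensor N x)
    obtain ⟨n, rfl⟩ := Submodule.Quotient.mk_surjective _ nbar
    rw [TensorProduct.tensorQuotEquivQuotSMul_symm_mk] at hnbar
    rw [← hnbar, LinearMap.rTensor_tmul] at h1
    have h2 : b • n ∈ (p.asIdeal • ⊤ : Submodule R N) := by
      have h3 := congrArg (TensorProduct.tensorQuotEquivQuotSMul N p.asIdeal) h1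
      rw [← TensorProduct.tensorQuotEquivQuotSMul_symm_mk, LinearEquiv.apply_symm_apply,
        map_zero, Submodule.Quotient.mk_eq_zero] at h3
      exact h3
    rw [smul_top_eq_restrictScalars p.asIdeal S N, Submodule.restrictScalars_mem] at h2
    have h4 := nzd_quot N b hb p.asIdeal n h2
    rw [← Submodule.restrictScalars_mem R, ← smul_top_eq_restrictScalars p.asIdeal S N] at h4
    have h5 : e.toLinearMap.lTensor N x = 0 := by
      rw [← hnbar, ← TensorProduct.tensorQuotEquivQuotSMul_symm_mk,
        (Submodule.Quotient.mk_eq_zero _).mpr h4, map_zero]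
    have h6 : Function.Injective (e.toLinearMap.lTensor N) := (e.lTensor N).injective
    exact h6 (by rw [h5, map_zero])
  | exact Q₁ Q₂ Q₃ f g hf hg hfg h₁ h₃ =>
    rw [injective_iff_map_eq_zero]
    intro x hx
    have hfN : Function.Injective (f.lTensor N) :=
      Module.Flat.lTensor_preserves_injective_linearMap f hf
    have hex : Function.Exact (f.lTensor N) (g.lTensor N) := lTensor_exact N hfg hg
    have h1 : μ.rTensor Q₃ (g.lTensor N x) = 0 := by
      rw [← LinearMap.comp_apply, LinearMap.rTensor_comp_lTensor, ← LinearMap.lTensor_comp_rTensor,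
        LinearMap.comp_apply, hx, map_zero]
    have h2 : g.lTensor N x = 0 := h₃ (by rw [h1, map_zero])
    obtain ⟨y, rfl⟩ := (hex x).mp h2
    have h3 : f.lTensor N (μ.rTensor Q₁ y) = 0 := by
      rw [← LinearMap.comp_apply, LinearMap.lTensor_comp_rTensor, ← LinearMap.rTensor_comp_lTensor,
        LinearMap.comp_apply, hx]
    have h4 : μ.rTensor Q₁ y = 0 := hfN (by rw [h3, map_zero])
    have h5 : y = 0 := h₁ (by rw [h4, map_zero])
    rw [h5, map_zero]

end aux


/-- Let R → S be a map of Noetherian rings, I an ideal of R and N a finite S-module which is flat over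
R. Assume that for every prime q of S, over p in R, whose extension to the fibre ring over p is an
associated prime of the fibre module of N, the ideal IS + q is proper. Then the canonical map from N
to its I-adic completion is universally injective as a map of R-modules. -/
theorem result {R S : Type u} [CommRing R] [CommRing S] [Algebra R S] [IsNoetherianRing R] [IsNoetherianRing S] (I : Ideal R)
    (N : Type u) [AddCommGroup N] [Module S N] [Module R N] [IsScalarTower R S N] [Module.Finite S N] [Module.Flat R N]
    (h : ∀ (p : Ideal R) (q : Ideal S) [p.IsPrime] [q.IsPrime] [q.LiesOver p],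
      FlatCA.fiberIdeal p q ∈ associatedPrimes (p.Fiber S) (FlatCA.fiberMod p S N) → I.map (algebraMap R S) ⊔ q ≠ ⊤) :
    FlatCA.UnivInj R (AdicCompletion.of I N) := by
  intro Q _ _
  apply Groth.Agent.Lib.Helper14.Dec.lTensor_injective_of_fg
  intro Q' hQ'
  haveI : Module.Finite R Q' := Module.Finite.iff_fg.mpr hQ'
  apply Groth.Agent.S1199.inj_finite (S := S) I N Q'
  intro q hq hsup
  rw [AssociatedPrimes.mem_iff, isAssociatedPrime_iff] at hq
  obtain ⟨hqprime, x, hqx⟩ := hq
  have h1 : (1 : S) ∈ I.map (algebraMap R S) ⊔ q := by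
    rw [hsup]
    trivial
  obtain ⟨a, ha, b, hbq, hab⟩ := Submodule.mem_sup.mp h1
  have hbx : b • x = 0 := by
    rw [hqx, Submodule.mem_colon_singleton, Submodule.mem_bot] at hbq
    exact hbq
  have hb : ∀ (p : Ideal R) (P : Ideal S) [p.IsPrime] [P.IsPrime] [P.LiesOver p],
      FlatCA.fiberIdeal p P ∈ associatedPrimes (p.Fiber S) (FlatCA.fiberMod p S N) → b ∉ P := by
    intro p P _ _ _ hass hbP
    apply h p P hass
    rw [Ideal.eq_top_iff_one, ← hab]
    exact Ideal.add_mem _ (Ideal.mem_sup_left ha) (Ideal.mem_sup_right hbP)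
  have hinj := nzd_tensor N b hb Q'
  have hx0 : x = 0 := by
    apply hinj
    rw [map_zero, rTensor_lsmul, hbx]
  apply hqprime.ne_top
  rw [hqx, hx0, Ideal.eq_top_iff_one, Submodule.mem_colon_singleton, smul_zero]
  exact Submodule.zero_mem _

end Groth.Agent.S1200
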