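import Groth.Statements.S1205
import Groth.Agent.Lib.Helper22FiberBasisC

set_option autoImplicit false
universe u
open FlatMor

namespace Groth.Agent.S1205

open TensorProduct in
/-- Let S be a finitely presented flat R-algebra with geometrically integral fibres, q a prime of S over
the prime 𝔯 of R, so that 𝔭 = 𝔯S is a prime of S, and N a finitely presented S-module. Then there is
an S-linear map α from a finite free module S^r to N inducing a bijection after base change to κ(𝔭);
and for any such α the following are equivalent: N_q is flat over R; for some f ∈ R outside 𝔯 the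
localization α_f is universally injective over R and for some g ∈ S outside q the localization of
the cokernel at g is flat over R; α localized at (the image of) 𝔯 is universally injective over R
and the cokernel is flat over R at q; α localized at 𝔯 is injective and the cokernel is flat at q; α
localized at 𝔭 is bijective and the cokernel is flat at q; α localized at q is injective and the
cokernel is flat at q. (Universal injectivity over R_f or R_𝔯 of a map of modules over these
localizations is the same as over R, which is how it is written.) -/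
theorem result {R S : Type u} [CommRing R] [CommRing S] [Algebra R S] [Algebra.FinitePresentation R S] [Module.Flat R S]
    (hgi : FlatCA.GeomIntegralFibres R S) (rr : Ideal R) [rr.IsPrime] [(rr.map (algebraMap R S)).IsPrime]
    (q : Ideal S) [q.IsPrime] [q.LiesOver rr]
    (N : Type u) [AddCommGroup N] [Module S N] [Module R N] [IsScalarTower R S N] [Module.FinitePresentation S N] :
    (∃ (r : ℕ) (α : (Fin r → S) →ₗ[S] N), Function.Bijective (α.baseChange (rr.map (algebraMap R S)).ResidueField)) ∧
    ∀ (r : ℕ) (α : (Fin r → S) →ₗ[S] N), Function.Bijective (α.baseChange (rr.map (algebraMap R S)).ResidueField) →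
      [FlatCA.FlatAt R q N,
       (∃ f : R, f ∉ rr ∧ FlatCA.UnivInj R ((LocalizedModule.map (Submonoid.powers (algebraMap R S f)) α).restrictScalars R)) ∧
         (∃ g : S, g ∉ q ∧ Module.Flat R (LocalizedModule (Submonoid.powers g) (N ⧸ LinearMap.range α))),
       FlatCA.UnivInj R ((LocalizedModule.map (Algebra.algebraMapSubmonoid S rr.primeCompl) α).restrictScalars R) ∧ FlatCA.FlatAt R q (N ⧸ LinearMap.range α),
       Function.Injective (LocalizedModule.map (Algebra.algebraMapSubmonoid S rr.primeCompl) α) ∧ FlatCA.FlatAt R q (N ⧸ LinearMap.range α),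
       Function.Bijective (LocalizedModule.map (rr.map (algebraMap R S)).primeCompl α) ∧ FlatCA.FlatAt R q (N ⧸ LinearMap.range α),
       Function.Injective (LocalizedModule.map q.primeCompl α) ∧ FlatCA.FlatAt R q (N ⧸ LinearMap.range α)].TFAE := by
  have hTqp : q.primeCompl ≤ (rr.map (algebraMap R S)).primeCompl :=
    Groth.Agent.Lib.Helper22.FiberBasisC.primeCompl_le_primeCompl rr q
  have hTrq : Algebra.algebraMapSubmonoid S rr.primeCompl ≤ q.primeCompl :=
    Groth.Agent.Lib.Helper22.FiberBasisC.algebraMapSubmonoid_le rr q
  refine ⟨Groth.Agent.Lib.Helper22.FiberBasisA.exists_map_baseChange_bijective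
    (rr.map (algebraMap R S)) N, ?_⟩
  intro r α hbij
  have : Module.FinitePresentation S (N ⧸ LinearMap.range α) :=
    Groth.Agent.Lib.Helper22.FiberBasisC.finitePresentation_coker α
  tfae_have 1 → 5 := by
    intro h1
    have hNp : Module.Flat R (LocalizedModule (rr.map (algebraMap R S)).primeCompl N) :=
      Groth.Agent.Lib.Helper3.FlatLoc.flat_localizedModule_of_le hTqp h1
    have hb := Groth.Agent.Lib.Helper22.FiberBasisB.locMap_bijective_of_flat rr
      (rr.map (algebraMap R S)) rfl N r α hbij hNp
    refine ⟨hb, ?_⟩
    have : Module.Flat R (LocalizedModule q.primeCompl N) := h1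
    exact Groth.Agent.Lib.Helper22.FiberBasisC.flat_coker_of_univInj q.primeCompl α
      (Groth.Agent.Lib.Helper22.FiberBasisC.univInj_of_bijective_at_generic hgi rr q N r α hb)
  tfae_have 5 → 2 := by
    rintro ⟨hb, hC⟩
    exact ⟨Groth.Agent.Lib.Helper22.FiberBasisC.exists_univInj_powers hgi rr q N r α hb,
      Groth.Agent.Lib.Helper22.FiberBasisC.exists_flat_powers_of_flatAt _ q hC⟩
  tfae_have 2 → 3 := by
    rintro ⟨⟨f, hf, hU⟩, ⟨g, hg, hflat⟩⟩
    refine ⟨Groth.Agent.Lib.Helper22.FiberBasisC.univInj_locMap_of_le α
      (Groth.Agent.Lib.Helper22.FiberBasisC.powers_le_algebraMapSubmonoid rr f hf) hU, ?_⟩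
    exact Groth.Agent.Lib.Helper3.FlatLoc.flat_localizedModule_of_le
      (by rw [Submonoid.powers_le]; exact hg) hflat
  tfae_have 3 → 4 := fun ⟨hU, hC⟩ =>
    ⟨Groth.Agent.Lib.Helper22.FiberBasisC.locMap_injective_of_univInj _ α hU, hC⟩
  tfae_have 4 → 5 := by
    rintro ⟨hinj, hC⟩
    refine ⟨⟨Groth.Agent.Lib.Helper22.FiberBasisC.locMap_injective_of_le α (hTrq.trans hTqp) hinj,
      ?_⟩, hC⟩
    exact Groth.Agent.Lib.Helper22.FiberBasisA.locMap_surjective_of _ α (fun b =>
      Groth.Agent.Lib.Helper22.FiberBasisA.exists_smul_mem_range_of_baseChange_surjective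
        (rr.map (algebraMap R S)) α hbij.2 b)
  tfae_have 5 → 6 := by
    rintro ⟨hb, hC⟩
    exact ⟨Groth.Agent.Lib.Helper22.FiberBasisC.locMap_injective_of_univInj _ α
      (Groth.Agent.Lib.Helper22.FiberBasisC.univInj_of_bijective_at_generic hgi rr q N r α hb), hC⟩
  tfae_have 6 → 1 := by
    rintro ⟨hinj, hC⟩
    exact Groth.Agent.Lib.Helper22.FiberBasisC.flat_of_injective_of_flat_coker q.primeCompl α hinj hC
  tfae_finish

end Groth.Agent.S1205
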