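import Groth.Statements.S12056
-- import your own Groth.Agent.* helpers here

set_option autoImplicit false
open Red

namespace Groth.Agent.S12056

/-- In formal-power-series form, let R be a commutative ring and F ∈ R⟦X⟧ with constant term 1 whose
linear coefficient a is a unit of R. Suppose that in R⟦X₀, X₁⟧ one has F(X₀ + X₁ · F(X₀)) = F(X₀) ·
F(X₁) (the functional equation F(x + y F(x)) = F(x) F(y)). Then F = 1 + a X. (The published
statement concerns a morphism to the multiplicative group from an open neighbourhood of the zero
section in the additive group over a base scheme, the identity holding on an open neighbourhood of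
the origin of the plane on which all terms are defined, with a the derivative at 0; this row states
it for formal power series over a ring.) -/
theorem result (R : Type) [CommRing R] (F : PowerSeries R)
    (h0 : PowerSeries.constantCoeff F = 1) (ha : IsUnit (PowerSeries.coeff 1 F))
    (hFE : PowerSeries.subst
        (MvPowerSeries.X (0 : Fin 2) + MvPowerSeries.X 1 * PowerSeries.subst (MvPowerSeries.X (0 : Fin 2)) F :
          MvPowerSeries (Fin 2) R) F =
      PowerSeries.subst (MvPowerSeries.X (0 : Fin 2)) F * PowerSeries.subst (MvPowerSeries.X (1 : Fin 2)) F) :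
    F = 1 + PowerSeries.C (PowerSeries.coeff 1 F) * PowerSeries.X := by
  classical
  set X0 : MvPowerSeries (Fin 2) R := MvPowerSeries.X 0 with hX0def
  set X1 : MvPowerSeries (Fin 2) R := MvPowerSeries.X 1 with hX1def
  have hX0 : PowerSeries.HasSubst X0 := PowerSeries.HasSubst.X 0
  have hX1 : PowerSeries.HasSubst X1 := PowerSeries.HasSubst.X 1
  set G0 := PowerSeries.subst X0 F with hG0
  set G1 := PowerSeries.subst X1 F with hG1
  set u := X0 + X1 * G0 with hu_def
  set v := X1 + X0 * G1 with hv_def
  have hu : PowerSeries.HasSubst u := hX0.add hX1.mul_left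
  have hv : PowerSeries.HasSubst v := hX1.add hX0.mul_left
  -- the swap
  have hσ : MvPowerSeries.HasSubst (![X1, X0] : Fin 2 → MvPowerSeries (Fin 2) R) :=
    MvPowerSeries.HasSubst.X_X
  have hs0 : MvPowerSeries.subst ![X1, X0] X0 = X1 := by
    rw [hX0def, MvPowerSeries.subst_X hσ]; rfl
  have hs1 : MvPowerSeries.subst ![X1, X0] X1 = X0 := by
    rw [hX1def, MvPowerSeries.subst_X hσ]; rfl
  have hsG0 : MvPowerSeries.subst ![X1, X0] G0 = G1 := by
    rw [hG0, PowerSeries.subst_def, MvPowerSeries.subst_comp_subst_apply hX0.const hσ, hs0]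
    rfl
  have hsG1 : MvPowerSeries.subst ![X1, X0] G1 = G0 := by
    rw [hG1, PowerSeries.subst_def, MvPowerSeries.subst_comp_subst_apply hX1.const hσ, hs1]
    rfl
  have hsu : MvPowerSeries.subst ![X1, X0] u = v := by
    rw [hu_def, MvPowerSeries.subst_add hσ, MvPowerSeries.subst_mul hσ, hs0, hs1, hsG0]
  have hFE' : PowerSeries.subst v F = G1 * G0 := by
    have := congrArg (MvPowerSeries.subst ![X1, X0]) hFE
    rw [MvPowerSeries.subst_mul hσ, hsG0, hsG1, PowerSeries.subst_def,
      MvPowerSeries.subst_comp_subst_apply hu.const hσ, hsu] at this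
    exact this
  have huv : PowerSeries.subst u F = PowerSeries.subst v F := by
    rw [hFE, hFE', mul_comm]
  -- P = F - 1 and its compositional inverse
  have hP0 : PowerSeries.constantCoeff (F - 1) = 0 := by simp [h0]
  have hP1 : IsUnit (PowerSeries.coeff 1 (F - 1)) := by
    have : PowerSeries.coeff 1 (F - 1) = PowerSeries.coeff 1 F := by
      simp [PowerSeries.coeff_one]
    rwa [this]
  have hPs : PowerSeries.HasSubst (F - 1) := PowerSeries.HasSubst.of_constantCoeff_zero' hP0
  have hQ := PowerSeries.subst_substInvOfIsUnit_left (F - 1) hP0 hP1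
  set Q := PowerSeries.substInvOfIsUnit (F - 1) hP1 with hQdef
  have hsub1 : ∀ w : MvPowerSeries (Fin 2) R, PowerSeries.HasSubst w →
      PowerSeries.subst w (F - 1) = PowerSeries.subst w F - 1 := by
    intro w hw
    rw [← PowerSeries.coe_substAlgHom hw, map_sub, map_one]
  have huvP : PowerSeries.subst u (F - 1) = PowerSeries.subst v (F - 1) := by
    rw [hsub1 u hu, hsub1 v hv, huv]
  have key : u = v := by
    have h1 := PowerSeries.subst_comp_subst_apply (R := R) hPs hu Q
    have h2 := PowerSeries.subst_comp_subst_apply (R := R) hPs hv Q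
    rw [hQ, PowerSeries.subst_X hu] at h1
    rw [hQ, PowerSeries.subst_X hv] at h2
    rw [h1, h2, huvP]
  -- coefficient extraction
  have hc : ∀ n : ℕ, 2 ≤ n → PowerSeries.coeff n F = 0 := by
    intro n hn
    have hcu : MvPowerSeries.coeff (Finsupp.single 1 1 + Finsupp.single 0 n) u
        = PowerSeries.coeff n F := by
      rw [hu_def, map_add, hX1def, MvPowerSeries.X, MvPowerSeries.coeff_add_monomial_mul, one_mul,
        hG0, PowerSeries.coeff_subst_single, hX0def, MvPowerSeries.coeff_X]
      have hne : (Finsupp.single 1 1 + Finsupp.single 0 n : Fin 2 →₀ ℕ) ≠ Finsupp.single 0 1 := by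
        intro h
        have := DFunLike.congr_fun h 1
        simp at this
      rw [if_neg hne, zero_add]
      simp
    have hcv : MvPowerSeries.coeff (Finsupp.single 1 1 + Finsupp.single 0 n) v = 0 := by
      have he : (Finsupp.single 1 1 + Finsupp.single 0 n : Fin 2 →₀ ℕ)
          = Finsupp.single 0 1 + (Finsupp.single 0 (n - 1) + Finsupp.single 1 1) := by
        ext i
        fin_cases i
        · simp; omega
        · simp
      rw [hv_def, map_add, hX1def, MvPowerSeries.coeff_X, he, hX0def, MvPowerSeries.X,
        MvPowerSeries.coeff_add_monomial_mul, one_mul, hG1, PowerSeries.coeff_subst_single]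
      have hne1 : (Finsupp.single 0 1 + (Finsupp.single 0 (n - 1) + Finsupp.single 1 1) : Fin 2 →₀ ℕ)
          ≠ Finsupp.single 1 1 := by
        intro h
        have := DFunLike.congr_fun h 0
        simp at this
      have hne2 : (Finsupp.single 0 (n - 1) + Finsupp.single 1 1 : Fin 2 →₀ ℕ)
          ≠ Finsupp.single 1 ((Finsupp.single 0 (n - 1) + Finsupp.single 1 1 : Fin 2 →₀ ℕ) 1) := by
        intro h
        have := DFunLike.congr_fun h 0
        simp at this
        omega
      rw [if_neg hne1, if_neg hne2, zero_add]
    rw [← hcu, key, hcv]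
  ext n
  rcases n with _ | _ | n
  · simp [h0]
  · simp [PowerSeries.coeff_one]
  · rw [hc (n + 2) (by omega)]
    simp [PowerSeries.coeff_one]

end Groth.Agent.S12056
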