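import Groth.Statements.S12059
import Groth.Agent.Lib.Helper20QuotAff

set_option autoImplicit false
universe u
open CategoryTheory CategoryTheory.Limits AlgebraicGeometry
open SGA1

namespace Groth.Agent.S12059

/-- Let a finite group G act on a commutative ring A by ring automorphisms σ_g, and let B → A be
injective, G-equivariant for the trivial action on B, with image containing all G-invariants (so B
is the ring of invariants A^G). Let ρ be an action of G on Spec A by scheme automorphisms whose
automorphisms are exactly the maps Spec(σ_g). Then Spec A ⟶ Spec B is a quotient of Spec A by G, and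
the structure sheaf of Spec B is the sheaf of G-invariants of the direct image of the structure
sheaf of Spec A: the map is affine and G-invariant, and for every open U of Spec B the sections of
the structure sheaf of Spec B over U map injectively onto the G-invariant sections of the structure
sheaf of Spec A over the inverse image of U. -/
theorem result (G : Type u) [Group G] [Finite G] (A B : Type u) [CommRing A] [CommRing B]
    [Algebra B A] [MulSemiringAction G A] [SMulCommClass G B A] [Algebra.IsInvariant B A G] [FaithfulSMul B A]
    (ρ : G →* Aut (Spec (CommRingCat.of A)))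
    (hρ : Set.range (fun g : G => (ρ g).hom) =
      Set.range (fun g : G => Spec.map (CommRingCat.ofHom (MulSemiringAction.toRingHom G A g)))) :
    SGA1.IsQuot ρ (Spec.map (CommRingCat.ofHom (algebraMap B A))) := by
  have hρ1 : ∀ g : G, ∃ g' : G,
      (ρ g).hom = Spec.map (CommRingCat.ofHom (MulSemiringAction.toRingHom G A g')) := by
    intro g
    have : (ρ g).hom ∈ Set.range (fun g : G => (ρ g).hom) := ⟨g, rfl⟩
    rw [hρ] at this
    obtain ⟨g', hg'⟩ := this
    exact ⟨g', hg'.symm⟩
  have hρ2 : ∀ g' : G, ∃ g : G,
      (ρ g).hom = Spec.map (CommRingCat.ofHom (MulSemiringAction.toRingHom G A g')) := by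
    intro g'
    have : Spec.map (CommRingCat.ofHom (MulSemiringAction.toRingHom G A g')) ∈
        Set.range (fun g : G => Spec.map (CommRingCat.ofHom (MulSemiringAction.toRingHom G A g))) :=
      ⟨g', rfl⟩
    rw [← hρ] at this
    exact this
  have hcomp : ∀ g' : G, CommRingCat.ofHom (algebraMap B A) ≫
      CommRingCat.ofHom (MulSemiringAction.toRingHom G A g') = CommRingCat.ofHom (algebraMap B A) := by
    intro g'
    ext b
    exact smul_algebraMap g' b
  have hinv : ∀ g : G, (ρ g).hom ≫ Spec.map (CommRingCat.ofHom (algebraMap B A)) =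
      Spec.map (CommRingCat.ofHom (algebraMap B A)) := by
    intro g
    obtain ⟨g', hg'⟩ := hρ1 g
    rw [hg', ← Spec.map_comp, hcomp]
  refine Groth.Agent.Lib.Helper20.isQuot_of_isAffine ρ inferInstance hinv ?_
  refine ⟨fun _ _ => trivial, fun _ _ _ => trivial, ?_, ?_⟩
  · rw [Groth.Agent.Lib.Helper20.appLE_top_top]
    have h1 : (Spec.map (CommRingCat.ofHom (algebraMap B A))).appTop =
        (Scheme.ΓSpecIso (CommRingCat.of B)).hom ≫ CommRingCat.ofHom (algebraMap B A) ≫
          (Scheme.ΓSpecIso (CommRingCat.of A)).inv := by
      rw [← Category.assoc, ← Scheme.ΓSpecIso_naturality, Category.assoc, Iso.hom_inv_id,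
        Category.comp_id]
    rw [h1, CommRingCat.hom_comp, CommRingCat.hom_comp, RingHom.coe_comp, RingHom.coe_comp]
    exact ((ConcreteCategory.bijective_of_isIso (Scheme.ΓSpecIso (CommRingCat.of A)).inv).injective.comp
      (FaithfulSMul.algebraMap_injective B A)).comp
      (ConcreteCategory.bijective_of_isIso (Scheme.ΓSpecIso (CommRingCat.of B)).hom).injective
  · intro s hs
    rw [Groth.Agent.Lib.Helper20.appLE_top_top]
    have hfix : ∀ g' : G, g' • ((Scheme.ΓSpecIso (CommRingCat.of A)).hom.hom s) =
        (Scheme.ΓSpecIso (CommRingCat.of A)).hom.hom s := by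
      intro g'
      obtain ⟨g, hg⟩ := hρ2 g'
      have h2 := hs g
      rw [Groth.Agent.Lib.Helper20.appLE_top_top] at h2
      have h3 := congrArg (fun f => f.hom s)
        (Scheme.ΓSpecIso_naturality (CommRingCat.ofHom (MulSemiringAction.toRingHom G A g')))
      simp only [CommRingCat.hom_comp, RingHom.comp_apply] at h3
      rw [← hg] at h3
      change (ρ g).hom.appTop.hom s = s at h2
      rw [h2] at h3
      exact h3.symm
    obtain ⟨b, hb⟩ := Algebra.IsInvariant.isInvariant (A := B) (G := G) _ hfix
    refine ⟨(Scheme.ΓSpecIso (CommRingCat.of B)).inv.hom b, ?_⟩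
    have h4 := congrArg (fun f => f.hom b)
      (Scheme.ΓSpecIso_inv_naturality (CommRingCat.ofHom (algebraMap B A)))
    simp only [CommRingCat.hom_comp, RingHom.comp_apply] at h4
    rw [← h4]
    change (Scheme.ΓSpecIso (CommRingCat.of A)).inv.hom (algebraMap B A b) = s
    rw [hb]
    exact congrArg (fun f => f.hom s) (Scheme.ΓSpecIso (CommRingCat.of A)).hom_inv_id

end Groth.Agent.S12059
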