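import Groth.Statements.S1206
import Mathlib.RingTheory.Ideal.Oka
import Mathlib.RingTheory.LocalRing.MaximalIdeal.Basic
import Mathlib.RingTheory.Ideal.Colon
-- import your own Groth.Agent.* helpers here

set_option autoImplicit false
universe u
open FlatMor

namespace Groth.Agent.S1206

/-- Key: for every nonzero `f`, some member of `𝒮` is contained in `(f)`. -/
theorem exists_le_span {A : Type u} [CommRing A] [IsDomain A]
    (𝒮 : Set (Ideal A)) (hfg : ∀ I ∈ 𝒮, I.FG) (hmul : ∀ I ∈ 𝒮, ∀ J ∈ 𝒮, I * J ∈ 𝒮)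
    (hnonempty : 𝒮.Nonempty)
    (hcov : ∀ (p : Ideal A), p.IsPrime → p ≠ ⊥ → ∃ I ∈ 𝒮, I ≤ p) (f : A) (hf : f ≠ 0)
    (J : Ideal A) (hfJ : f ∈ J) : ∃ I ∈ 𝒮, I ≤ J := by
  let P : Ideal A → Prop := fun J => f ∈ J → ∃ I ∈ 𝒮, I ≤ J
  have hP : Ideal.IsOka P := by
    refine ⟨fun _ => ?_, ?_⟩
    · obtain ⟨I, hI⟩ := hnonempty
      exact ⟨I, hI, le_top⟩
    · intro J a h1 h2 hfJ
      obtain ⟨I₁, hI₁, h1'⟩ := h1 (Ideal.mem_sup_left hfJ)
      obtain ⟨I₂, hI₂, h2'⟩ := h2 (Ideal.le_colon hfJ)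
      refine ⟨I₁ * I₂, hmul _ hI₁ _ hI₂, ?_⟩
      refine (Ideal.mul_mono h1' h2').trans ?_
      rw [Ideal.mul_le]
      intro r hr s hs
      rw [Ideal.mem_colon_span_singleton] at hs
      obtain ⟨j, hj, y, hy, rfl⟩ := Submodule.mem_sup.1 hr
      obtain ⟨c, rfl⟩ := Ideal.mem_span_singleton'.1 hy
      have : (j + c * a) * s = j * s + c * (s * a) := by ring
      rw [this]
      exact J.add_mem (J.mul_mem_right _ hj) (J.mul_mem_left _ hs)
  have key : ∀ J, P J := by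
    refine hP.forall_of_forall_prime' ?_ ?_
    · intro C hC₁ hC₂ J₀ hJ₀ h
      have hfC : ∀ K ∈ C, f ∈ K := by
        intro K hK
        by_contra hfK
        exact hC₁ hK (fun h' => absurd h' hfK)
      obtain ⟨I, hI, hle⟩ := h (Ideal.mem_sSup_of_mem hJ₀ (hfC _ hJ₀))
      obtain ⟨G, hG⟩ := hfg I hI
      obtain ⟨K, hKC, hGK⟩ : ∃ K ∈ C, (G : Set A) ⊆ K := by
        refine hC₂.directedOn.exists_mem_subset_of_finset_subset_biUnion ⟨J₀, hJ₀⟩ (fun x hx ↦ ?_)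
        simp only [Set.mem_iUnion, SetLike.mem_coe, exists_prop]
        exact (Submodule.mem_sSup_of_directed ⟨J₀, hJ₀⟩ hC₂.directedOn).1
          (hle (hG ▸ Ideal.subset_span hx))
      exact ⟨K, hKC, fun _ => ⟨I, hI, hG ▸ Ideal.span_le.2 hGK⟩⟩
    · intro p hp hfp
      exact hcov p hp (fun h => hf (by simpa [h] using hfp))
  exact key J hfJ

/-- Let A be a local domain which is not a field and 𝒮 a set of finitely generated ideals of A, closed
under products, such that the union of the closed sets V(I), I ∈ 𝒮, is exactly the set of nonzero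
primes (every nonzero prime contains a member of 𝒮 and no member is zero). Then the intersection of
all members of 𝒮 is zero. -/
theorem result (A : Type u) [CommRing A] [IsDomain A] [IsLocalRing A] (hA : ¬ IsField A)
    (𝒮 : Set (Ideal A)) (hfg : ∀ I ∈ 𝒮, I.FG) (hmul : ∀ I ∈ 𝒮, ∀ J ∈ 𝒮, I * J ∈ 𝒮)
    (hne : ∀ I ∈ 𝒮, I ≠ ⊥) (hcov : ∀ (p : Ideal A), p.IsPrime → p ≠ ⊥ → ∃ I ∈ 𝒮, I ≤ p) :
    sInf 𝒮 = ⊥ := by
  have hm : IsLocalRing.maximalIdeal A ≠ ⊥ := by
    intro h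
    exact hA (IsLocalRing.isField_iff_maximalIdeal_eq.2 h)
  obtain ⟨I₀, hI₀, hI₀m⟩ := hcov _ (IsLocalRing.maximalIdeal.isMaximal A).isPrime hm
  rw [eq_bot_iff]
  intro x hx
  rw [Ideal.mem_bot]
  by_contra hx0
  have hx2 : x * x ≠ 0 := mul_ne_zero hx0 hx0
  obtain ⟨I, hI, hle⟩ := exists_le_span 𝒮 hfg hmul ⟨I₀, hI₀⟩ hcov (x * x) hx2
    (Ideal.span {x * x}) (Ideal.mem_span_singleton_self _)
  have hxI : x ∈ I := (Ideal.mem_sInf.1 hx) hI
  obtain ⟨a, ha⟩ := Ideal.mem_span_singleton'.1 (hle hxI)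
  have hunit : a * x = 1 := by
    have : x * (a * x - 1) = 0 := by
      have : x * (a * x - 1) = a * (x * x) - x := by ring
      rw [this, ha, sub_self]
    rcases mul_eq_zero.1 this with h | h
    · exact absurd h hx0
    · exact sub_eq_zero.1 h
  have hxm : x ∈ IsLocalRing.maximalIdeal A := hI₀m ((Ideal.mem_sInf.1 hx) hI₀)
  exact (IsLocalRing.mem_maximalIdeal x).1 hxm (IsUnit.of_mul_eq_one a (by rw [mul_comm]; exact hunit))

end Groth.Agent.S1206
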