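import Groth.Statements.S1207
import Groth.Agent.S1206
import Mathlib.RingTheory.Finiteness.Ideal
import Mathlib.RingTheory.LocalRing.Basic
import Mathlib.RingTheory.Ideal.Quotient.Operations
-- import your own Groth.Agent.* helpers here

set_option autoImplicit false
universe u
open FlatMor

namespace Groth.Agent.S1207

/-- Let A be a local ring and I, J ideals of A with J finitely generated, J ≠ A, and I ⊆ J^n for all n ≥
1. Then every prime p not containing J which is maximal among the primes not containing J (a closed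
point of Spec A ∖ V(J)) contains I. (The published statement leaves the hypothesis J ≠ A implicit;
for J = A the assertion fails.) -/
theorem result (A : Type u) [CommRing A] [IsLocalRing A] (I J : Ideal A) (hJ : J.FG) (hJ1 : J ≠ ⊤)
    (hI : ∀ n : ℕ, 1 ≤ n → I ≤ J ^ n) (p : Ideal A) [p.IsPrime] (hp : ¬ J ≤ p)
    (hmax : ∀ (p' : Ideal A), p'.IsPrime → p ≤ p' → ¬ J ≤ p' → p' = p) : I ≤ p := by
  have hmk : Function.Surjective (Ideal.Quotient.mk p) := Ideal.Quotient.mk_surjective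
  haveI : Nontrivial (A ⧸ p) := Ideal.Quotient.nontrivial_iff.mpr (Ideal.IsPrime.ne_top ‹_›)
  haveI : IsLocalRing (A ⧸ p) := IsLocalRing.of_surjective' (Ideal.Quotient.mk p) hmk
  set Jb : Ideal (A ⧸ p) := J.map (Ideal.Quotient.mk p) with hJb
  have hJb_ne_bot : Jb ≠ ⊥ := by
    intro h
    apply hp
    have := Ideal.map_eq_bot_iff_le_ker (f := Ideal.Quotient.mk p) (I := J)
    rw [Ideal.mk_ker] at this
    exact this.1 h
  have hJb_ne_top : Jb ≠ ⊤ := by
    intro h
    have h1 : (Jb.comap (Ideal.Quotient.mk p)) = J ⊔ p := by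
      rw [hJb, Ideal.comap_map_of_surjective _ hmk, ← RingHom.ker_eq_comap_bot, Ideal.mk_ker]
    rw [h, Ideal.comap_top] at h1
    have h2 : J ⊔ p ≤ IsLocalRing.maximalIdeal A :=
      sup_le (IsLocalRing.le_maximalIdeal hJ1) (IsLocalRing.le_maximalIdeal (Ideal.IsPrime.ne_top ‹_›))
    rw [← h1] at h2
    exact (IsLocalRing.maximalIdeal.isMaximal A).ne_top (top_le_iff.1 h2)
  have hnotfield : ¬ IsField (A ⧸ p) := by
    rw [Ring.not_isField_iff_exists_ideal_bot_lt_and_lt_top]
    exact ⟨Jb, bot_lt_iff_ne_bot.2 hJb_ne_bot, lt_top_iff_ne_top.2 hJb_ne_top⟩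
  let 𝒮 : Set (Ideal (A ⧸ p)) := {K | ∃ n : ℕ, 1 ≤ n ∧ K = Jb ^ n}
  have hres := Groth.Agent.S1206.result (A ⧸ p) hnotfield 𝒮 ?_ ?_ ?_ ?_
  · intro x hx
    have : Ideal.Quotient.mk p x ∈ sInf 𝒮 := by
      rw [Ideal.mem_sInf]
      rintro K ⟨n, hn, rfl⟩
      rw [hJb, ← Ideal.map_pow]
      exact Ideal.mem_map_of_mem _ (hI n hn hx)
    rw [hres, Ideal.mem_bot] at this
    exact Ideal.Quotient.eq_zero_iff_mem.1 this
  · rintro K ⟨n, hn, rfl⟩
    exact (hJ.map _).pow
  · rintro K ⟨n, hn, rfl⟩ K' ⟨n', hn', rfl⟩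
    exact ⟨n + n', by omega, (pow_add _ _ _).symm⟩
  · rintro K ⟨n, hn, rfl⟩
    exact pow_ne_zero n hJb_ne_bot
  · intro q hq hq0
    refine ⟨Jb, ⟨1, le_rfl, (pow_one _).symm⟩, ?_⟩
    rw [hJb, Ideal.map_le_iff_le_comap]
    by_contra hJq
    have hpq : p ≤ q.comap (Ideal.Quotient.mk p) := by
      intro x hx
      rw [Ideal.mem_comap, Ideal.Quotient.eq_zero_iff_mem.2 hx]
      exact q.zero_mem
    have := hmax (q.comap (Ideal.Quotient.mk p)) (Ideal.comap_isPrime _ _) hpq hJq
    apply hq0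
    rw [← Ideal.map_comap_of_surjective _ hmk q, this]
    have := Ideal.map_eq_bot_iff_le_ker (f := Ideal.Quotient.mk p) (I := p)
    rw [Ideal.mk_ker] at this
    exact this.2 le_rfl

end Groth.Agent.S1207
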