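import Groth.Statements.S12071
import Mathlib.GroupTheory.Archimedean

set_option autoImplicit false
open RootD

namespace Groth.Agent.S12071

/-- Let G be the group generated by two elements x, y subject to x² = y² = 1 (the infinite dihedral
group; here Mathlib's DihedralGroup 0 with x = sr 0 and y = sr 1, so that x y = r 1). Then every
normal subgroup of G containing neither x nor y is generated by an element (x y)^n with n > 0; such
a subgroup is cyclic, generated by r n. (The published statement does not exclude the trivial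
subgroup, for which no n > 0 works; this row assumes the subgroup nontrivial.) -/
theorem result (N : Subgroup (DihedralGroup 0)) [N.Normal]
    (hN : N ≠ ⊥) (hx : DihedralGroup.sr (0 : ZMod 0) ∉ N) (hy : DihedralGroup.sr (1 : ZMod 0) ∉ N) :
    ∃ n : ℕ, 0 < n ∧ N = Subgroup.zpowers (DihedralGroup.r (n : ZMod 0)) := by
  classical
  have hcast : ∀ i : ZMod 0, ∃ j : ℤ, (Int.cast j : ZMod 0) = i := fun i => ⟨ZMod.cast i, ZMod.intCast_zmod_cast i⟩
  have hinj : ∀ a b : ℤ, (Int.cast a : ZMod 0) = (Int.cast b : ZMod 0) → a = b := fun a b h => Int.cast_injective h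
  -- no reflection lies in N
  have hsr : ∀ i : ZMod 0, DihedralGroup.sr i ∉ N := by
    intro i hi
    have hconj : ∀ j : ZMod 0, DihedralGroup.sr (i - j - j) ∈ N := by
      intro j
      have := ‹N.Normal›.conj_mem _ hi (DihedralGroup.r j)
      simpa [DihedralGroup.r_mul_sr, DihedralGroup.sr_mul_r, DihedralGroup.inv_r, sub_eq_add_neg] using this
    obtain ⟨i, rfl⟩ := hcast i
    rcases Int.even_or_odd' i with ⟨m, hm | hm⟩
    · apply hx
      have := hconj (Int.cast m)
      convert this using 2
      rw [hm]; push_cast; ring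
    · apply hy
      have := hconj (Int.cast m)
      convert this using 2
      rw [hm]; push_cast; ring
  -- the additive subgroup of rotation indices in N
  let H : AddSubgroup ℤ :=
    { carrier := {i : ℤ | DihedralGroup.r (Int.cast i : ZMod 0) ∈ N}
      zero_mem' := by
        change DihedralGroup.r (Int.cast (0 : ℤ) : ZMod 0) ∈ N
        rw [Int.cast_zero, DihedralGroup.r_zero]; exact N.one_mem
      add_mem' := by
        intro a b ha hb
        change DihedralGroup.r (Int.cast (a + b : ℤ) : ZMod 0) ∈ N
        have := N.mul_mem ha hb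
        rwa [DihedralGroup.r_mul_r, ← Int.cast_add] at this
      neg_mem' := by
        intro a ha
        change DihedralGroup.r (Int.cast (-a : ℤ) : ZMod 0) ∈ N
        have := N.inv_mem ha
        rwa [DihedralGroup.inv_r, ← Int.cast_neg] at this }
  obtain ⟨a, ha⟩ := Int.subgroup_cyclic H
  have hmemH : ∀ i : ℤ, DihedralGroup.r (Int.cast i : ZMod 0) ∈ N ↔ i ∈ H := fun i => Iff.rfl
  have ha0 : a ≠ 0 := by
    rintro rfl
    apply hN
    rw [Subgroup.eq_bot_iff_forall]
    intro g hg
    cases g with
    | r i =>
      obtain ⟨i, rfl⟩ := hcast i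
      rw [hmemH, ha, AddSubgroup.closure_singleton_zero, AddSubgroup.mem_bot] at hg
      rw [hg, Int.cast_zero]; exact DihedralGroup.r_zero
    | sr i => exact absurd hg (hsr i)
  refine ⟨a.natAbs, Int.natAbs_pos.mpr ha0, ?_⟩
  have key : ∀ k : ℤ, (DihedralGroup.r ((a.natAbs : ℕ) : ZMod 0)) ^ k =
      DihedralGroup.r (Int.cast ((a.natAbs : ℤ) * k) : ZMod 0) := by
    intro k
    rw [DihedralGroup.r_zpow]
    congr 1
  ext g
  rw [Subgroup.mem_zpowers_iff]
  cases g with
  | r i =>
    obtain ⟨i, rfl⟩ := hcast i
    rw [hmemH, ha, AddSubgroup.mem_closure_singleton]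
    constructor
    · rintro ⟨k, hk⟩
      rw [smul_eq_mul] at hk
      rcases Int.natAbs_eq a with h | h
      · refine ⟨k, ?_⟩
        rw [key]
        congr 2
        rw [← hk, ← h, mul_comm]
      · refine ⟨-k, ?_⟩
        rw [key]
        congr 2
        have h2 : (a.natAbs : ℤ) = -a := by omega
        rw [← hk, h2]; ring
    · rintro ⟨k, hk⟩
      rw [key] at hk
      have hk' : ((a.natAbs : ℤ)) * k = i := hinj _ _ (DihedralGroup.r.inj hk)
      rcases Int.natAbs_eq a with h | h
      · refine ⟨k, ?_⟩
        rw [smul_eq_mul, ← hk', ← h, mul_comm]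
      · refine ⟨-k, ?_⟩
        have h2 : (a.natAbs : ℤ) = -a := by omega
        rw [smul_eq_mul, ← hk', h2]; ring
  | sr i =>
    constructor
    · intro h; exact absurd h (hsr i)
    · rintro ⟨k, hk⟩
      rw [DihedralGroup.r_zpow] at hk
      exact absurd hk (by simp)

end Groth.Agent.S12071
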