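import Groth.Statements.S12076
-- import your own Groth.Agent.* helpers here

set_option autoImplicit false
open RootD

namespace Groth.Agent.S12076

/-- Let Δ be a system of simple roots (a base b of a root pairing P over ℤ) and Γ₀ the subgroup
generated by the roots. Then Γ₀ has a structure of totally ordered group for which the roots > 0 are
exactly the positive roots defined by Δ and for which the height (the additive function with value 1
on each simple root) is monotone. The order is given here by its positive cone C ⊆ Γ₀: 0 ∉ C, C + C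
⊆ C, and for every x ≠ 0 exactly one of x, −x lies in C (x < y meaning y − x ∈ C). -/
theorem result {ι M N : Type*} [AddCommGroup M] [AddCommGroup N]
    (P : RootPairing ι ℤ M N) [Finite ι] (b : P.Base) :
    ∃ C : Set ↥(Submodule.span ℤ (Set.range P.root)),
      0 ∉ C ∧ (∀ x ∈ C, ∀ y ∈ C, x + y ∈ C) ∧ (∀ x, x ≠ 0 → (x ∈ C ∨ -x ∈ C)) ∧ (∀ x ∈ C, -x ∉ C) ∧
      (∀ i : ι, (⟨P.root i, Submodule.subset_span (Set.mem_range_self i)⟩ : ↥(Submodule.span ℤ (Set.range P.root))) ∈ C ↔
        b.IsPos i) ∧
      ∀ φ : ↥(Submodule.span ℤ (Set.range P.root)) →+ ℤ,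
        (∀ j ∈ b.support, φ ⟨P.root j, Submodule.subset_span (Set.mem_range_self j)⟩ = 1) →
        ∀ x y : ↥(Submodule.span ℤ (Set.range P.root)), y - x ∈ C → φ x ≤ φ y := by
  classical
  obtain ⟨n, ⟨e⟩⟩ := Finite.exists_equiv_fin b.support
  let _ : LinearOrder b.support := LinearOrder.lift' e e.injective
  let B : Module.Basis b.support ℤ (P.rootSpan ℤ) := b.toWeightBasisInt
  have hB : ∀ j : b.support, B j = P.rootSpanMem ℤ j := fun j =>
    Subtype.ext (b.coe_toWeightBasisInt_apply j)
  let ht : P.rootSpan ℤ →ₗ[ℤ] ℤ := B.constr ℤ (fun _ => (1 : ℤ))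
  have hht : ∀ j : b.support, ht (B j) = 1 := fun j => by simp [ht]
  let c : P.rootSpan ℤ → Lex (b.support →₀ ℤ) := fun x => toLex (B.repr x)
  have hcadd : ∀ x y, c (x + y) = c x + c y := fun x y => by simp [c]
  have hcneg : ∀ x, c (-x) = - c x := fun x => by simp [c]
  have hc0 : ∀ x, c x = 0 ↔ x = 0 := fun x => by
    simp only [c]
    rw [← toLex_zero, toLex_inj]
    simp
  refine ⟨{x | 0 < ht x ∨ (ht x = 0 ∧ 0 < c x)}, ?_, ?_, ?_, ?_, ?_, ?_⟩
  · simp [c]
  · rintro x (hx | ⟨hx, hx'⟩) y (hy | ⟨hy, hy'⟩)
    · left; rw [map_add]; omega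
    · left; rw [map_add]; omega
    · left; rw [map_add]; omega
    · right
      refine ⟨by rw [map_add]; omega, ?_⟩
      rw [hcadd]
      exact add_pos hx' hy'
  · intro x hx
    rcases lt_trichotomy (ht x) 0 with h | h | h
    · right; left; rw [map_neg]; omega
    · have hcx : c x ≠ 0 := fun h0 => hx ((hc0 x).mp h0)
      rcases lt_or_gt_of_ne hcx with h' | h'
      · right; right
        refine ⟨by rw [map_neg]; omega, ?_⟩
        rw [hcneg]
        exact neg_pos.mpr h'
      · left; right; exact ⟨h, h'⟩
    · left; left; exact h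
  · rintro x (hx | ⟨hx, hx'⟩) (hy | ⟨hy, hy'⟩)
    · rw [map_neg] at hy; omega
    · rw [map_neg] at hy; omega
    · rw [map_neg] at hy; omega
    · rw [hcneg] at hy'
      exact absurd (neg_pos.mp hy') (not_lt.mpr hx'.le)
  · intro i
    have hht_root : ht (P.rootSpanMem ℤ i) = b.height i := by
      obtain ⟨f, -, -, hf⟩ := b.exists_root_eq_sum_int i
      rw [RootPairing.Base.height_eq_sum hf]
      have hx : P.rootSpanMem ℤ i = ∑ j : b.support, f j • B j := by
        apply Subtype.ext
        rw [AddSubmonoidClass.coe_finsetSum]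
        simp only [Submodule.coe_smul, hB]
        rw [hf, ← Finset.sum_coe_sort b.support]
      rw [hx, map_sum]
      simp only [map_smul, hht, smul_eq_mul, mul_one]
      rw [Finset.sum_coe_sort b.support (fun j => f j)]
    show (0 < ht (P.rootSpanMem ℤ i) ∨ (ht (P.rootSpanMem ℤ i) = 0 ∧ 0 < c (P.rootSpanMem ℤ i))) ↔ _
    rw [hht_root, RootPairing.Base.isPos_iff]
    have := b.height_ne_zero i
    constructor
    · rintro (h | ⟨h, -⟩)
      · exact h
      · exact absurd h this
    · exact fun h => Or.inl h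
  · intro φ hφ x y hxy
    have hφht : ∀ z, φ z = ht z := by
      have h1 : φ.toIntLinearMap = ht := B.ext (fun j => by
        rw [hht, hB]
        exact hφ j j.2)
      intro z
      exact LinearMap.congr_fun h1 z
    have h0 : 0 ≤ ht (y - x) := by
      rcases hxy with h | ⟨h, -⟩
      · exact h.le
      · exact h.ge
    rw [hφht, hφht]
    rw [map_sub] at h0
    omega

end Groth.Agent.S12076
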