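import Groth.Statements.S12079
import Mathlib.LinearAlgebra.Contraction
import Mathlib.LinearAlgebra.LeftExact
import Mathlib.Algebra.Module.FinitePresentation

set_option autoImplicit false
universe u
open TensorProduct
open CAlg

namespace Groth.Agent.S12079

/-- For a finitely presented `R`-module `M`, any `R`-module `N` and a flat `R`-module `L`, the canonical
map `Hom_R(M, N) ⊗_R L → Hom_R(M, N ⊗_R L)` sending `f ⊗ l` to `m ↦ f m ⊗ l` is bijective. -/
theorem result (R : Type u) [CommRing R]
    (M N L : Type u) [AddCommGroup M] [Module R M] [AddCommGroup N] [Module R N] [AddCommGroup L] [Module R L]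
    [Module.FinitePresentation R M] [Module.Flat R L] :
    Function.Bijective (TensorProduct.rTensorHomToHomRTensor (RingHom.id R) M N L) := by
  classical
  obtain ⟨n, m, f, g, hf, hfg⟩ := Module.FinitePresentation.exists_fin' R M
  -- notation
  let Φ := fun (P : Type u) [AddCommGroup P] [Module R P] =>
    TensorProduct.rTensorHomToHomRTensor (RingHom.id R) P N L
  -- naturality
  have hnat : ∀ (P Q : Type u) [AddCommGroup P] [Module R P] [AddCommGroup Q] [Module R Q]
      (u : P →ₗ[R] Q) (x : (Q →ₗ[R] N) ⊗[R] L),
      TensorProduct.rTensorHomToHomRTensor (RingHom.id R) P N L ((LinearMap.lcomp R N u).rTensor L x) =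
        LinearMap.lcomp R (N ⊗[R] L) u (TensorProduct.rTensorHomToHomRTensor (RingHom.id R) Q N L x) := by
    intro P Q _ _ _ _ u x
    induction x using TensorProduct.induction_on with
    | zero => simp
    | tmul h l =>
      ext p
      simp
    | add x y hx hy => simp only [map_add, hx, hy]
  -- bijectivity on finite free modules
  have hfree : ∀ k : ℕ, Function.Bijective
      (TensorProduct.rTensorHomToHomRTensor (RingHom.id R) (Fin k → R) N L) := by
    intro k
    have := (rTensorHomEquivHomRTensor R (Fin k → R) N L).bijective
    convert this using 1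
    ext x
    simp
  have hinjf : Function.Injective ((LinearMap.lcomp R N f).rTensor L) :=
    Module.Flat.rTensor_preserves_injective_linearMap _ (LinearMap.lcomp_injective_of_surjective f hf)
  have hinjf' : Function.Injective (LinearMap.lcomp R (N ⊗[R] L) f) :=
    LinearMap.lcomp_injective_of_surjective f hf
  have hex : Function.Exact ((LinearMap.lcomp R N f).rTensor L) ((LinearMap.lcomp R N g).rTensor L) :=
    Module.Flat.rTensor_exact L (LinearMap.exact_lcomp_of_exact_of_surjective N hfg hf)
  constructor
  · -- injectivity
    rw [injective_iff_map_eq_zero]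
    intro x hx
    apply hinjf
    apply (hfree n).1
    rw [hnat, hx]
    simp
  · -- surjectivity
    intro h
    obtain ⟨y, hy⟩ := (hfree n).2 (LinearMap.lcomp R (N ⊗[R] L) f h)
    have hy0 : (LinearMap.lcomp R N g).rTensor L y = 0 := by
      apply (hfree m).1
      rw [hnat, hy, map_zero]
      apply LinearMap.ext
      intro p
      have : f (g p) = 0 := hfg.apply_apply_eq_zero p
      simp [this]
    obtain ⟨x, rfl⟩ := (hex y).1 hy0
    refine ⟨x, ?_⟩
    apply hinjf'
    rw [← hnat, hy]

end Groth.Agent.S12079
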