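import Groth.Statements.S12081
-- import your own Groth.Agent.* helpers here

set_option autoImplicit false
universe u
open TensorProduct
open EtAlg

namespace Groth.Agent.S12081

/-- Let `B' = B ×_A A'` be a fibre square of rings with `A' → A` surjective with kernel `I`, let `J =
Ker(B' → B)`, let `D'` be a `B'`-algebra and `C' = D' ⊗_{B'} A'`. Then the ideal `I C'` is, as a
subset of `C'`, the image of the ideal `J D'` under `D' → C'`; that is, the map `J D' → I C'` is
surjective. -/
theorem result (B' B A' A : Type u) [CommRing B'] [CommRing B] [CommRing A'] [CommRing A]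
    [Algebra B' B] [Algebra B' A'] [Algebra B A] [Algebra A' A] [Algebra B' A] [IsScalarTower B' B A] [IsScalarTower B' A' A]
    (hsq : EtMil.IsFibreSquare B' B A' A)
    (D' C' : Type u) [CommRing D'] [CommRing C'] [Algebra B' D'] [Algebra A' C']
    [Algebra D' C'] [Algebra B' C'] [IsScalarTower B' A' C'] [IsScalarTower B' D' C'] [Algebra.IsPushout B' A' D' C'] :
    (algebraMap D' C') '' ((RingHom.ker (algebraMap B' B)).map (algebraMap B' D') : Set D') =
      ((RingHom.ker (algebraMap A' A)).map (algebraMap A' C') : Set C') := by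
  obtain ⟨-, hfib⟩ := hsq
  -- J maps into I
  have hJI : ∀ j : B', j ∈ RingHom.ker (algebraMap B' B) → algebraMap B' A' j ∈ RingHom.ker (algebraMap A' A) := by
    intro j hj
    rw [RingHom.mem_ker] at hj ⊢
    rw [← IsScalarTower.algebraMap_apply B' A' A, IsScalarTower.algebraMap_apply B' B A, hj, map_zero]
  -- every element of I lifts to J
  have hlift : ∀ i : A', i ∈ RingHom.ker (algebraMap A' A) →
      ∃ j : B', j ∈ RingHom.ker (algebraMap B' B) ∧ algebraMap B' A' j = i := by
    intro i hi
    rw [RingHom.mem_ker] at hi
    obtain ⟨j, ⟨hj1, hj2⟩, -⟩ := hfib 0 i (by rw [map_zero, hi])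
    exact ⟨j, by rw [RingHom.mem_ker]; exact hj1, hj2⟩
  have hcomm : ∀ b : B', algebraMap D' C' (algebraMap B' D' b) = algebraMap A' C' (algebraMap B' A' b) := by
    intro b
    rw [← IsScalarTower.algebraMap_apply B' D' C', ← IsScalarTower.algebraMap_apply B' A' C']
  apply Set.Subset.antisymm
  · rintro x ⟨y, hy, rfl⟩
    have h1 : algebraMap D' C' y ∈ Ideal.map (algebraMap D' C') ((RingHom.ker (algebraMap B' B)).map (algebraMap B' D')) :=
      Ideal.mem_map_of_mem _ hy
    rw [Ideal.map_map] at h1
    have h2 : (algebraMap D' C').comp (algebraMap B' D') = (algebraMap A' C').comp (algebraMap B' A') := by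
      ext b; exact hcomm b
    rw [h2, ← Ideal.map_map] at h1
    refine Ideal.map_mono ?_ h1
    rw [Ideal.map_le_iff_le_comap]
    intro j hj
    exact hJI j hj
  · -- the image as a D'-submodule of C'
    let T : Submodule D' C' := Submodule.map (Algebra.linearMap D' C')
      ((RingHom.ker (algebraMap B' B)).map (algebraMap B' D'))
    have hT : ∀ x, x ∈ T ↔ x ∈ (algebraMap D' C') '' ((RingHom.ker (algebraMap B' B)).map (algebraMap B' D') : Set D') := by
      intro x; rfl
    have hpo : Algebra.IsPushout B' D' A' C' := Algebra.IsPushout.symm inferInstance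
    have claim : ∀ c : C', ∀ i : A', i ∈ RingHom.ker (algebraMap A' A) → c * algebraMap A' C' i ∈ T := by
      intro c
      refine hpo.out.inductionOn c (fun c => ∀ i : A', i ∈ RingHom.ker (algebraMap A' A) → c * algebraMap A' C' i ∈ T)
        ?_ ?_ ?_ ?_
      · intro i _; rw [zero_mul]; exact T.zero_mem
      · intro a' i hi
        change algebraMap A' C' a' * algebraMap A' C' i ∈ T
        rw [← map_mul]
        obtain ⟨j, hj, hji⟩ := hlift (a' * i) (Ideal.mul_mem_left _ _ hi)
        rw [← hji, ← hcomm]
        exact ⟨algebraMap B' D' j, Ideal.mem_map_of_mem _ hj, rfl⟩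
      · intro d c hc i hi
        rw [smul_mul_assoc]
        exact T.smul_mem d (hc i hi)
      · intro c₁ c₂ h₁ h₂ i hi
        rw [add_mul]
        exact T.add_mem (h₁ i hi) (h₂ i hi)
    intro x hx
    rw [← hT]
    have : ∀ c : C', c * x ∈ T := by
      change x ∈ Ideal.span _ at hx
      induction hx using Submodule.span_induction with
      | mem x hx =>
        obtain ⟨i, hi, rfl⟩ := hx
        intro c; exact claim c i hi
      | zero => intro c; rw [mul_zero]; exact T.zero_mem
      | add x y _ _ hx hy => intro c; rw [mul_add]; exact T.add_mem (hx c) (hy c)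
      | smul a x _ hx => intro c; rw [smul_eq_mul, ← mul_assoc]; exact hx (c * a)
    simpa using this 1

end Groth.Agent.S12081
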