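import Groth.Statements.S12082
import Groth.Agent.Lib.Helper28FGDim
-- import your own Groth.Agent.* helpers here

set_option autoImplicit false
universe u
open Synt

namespace Groth.Agent.S12082
open Groth.Agent.Lib.Helper28

/-- Let `S = k[x_1, …, x_n]/I` over a field `k`, `q` a prime of `S` with preimage `q'` in the polynomial
ring, `c` the natural number with `c + ht(q) = ht(q')`, and `J` the extension of `I` to the local
ring `R = k[x_1, …, x_n]_{q'}`. Any `c` elements of `J` whose images generate `J / q' J` form a
regular sequence in `R`. -/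
theorem result (k : Type u) [Field k] (n : ℕ)
    (I : Ideal (MvPolynomial (Fin n) k)) (q : Ideal (MvPolynomial (Fin n) k ⧸ I)) [q.IsPrime] (c : ℕ)
    (hc : (c : ℕ∞) + q.height = (q.comap (Ideal.Quotient.mk I)).height)
    (f : Fin c → Localization.AtPrime (q.comap (Ideal.Quotient.mk I)))
    (hf : ∀ i, f i ∈ I.map (algebraMap _ (Localization.AtPrime (q.comap (Ideal.Quotient.mk I)))))
    (hgen : Ideal.span (Set.range f) ⊔
        IsLocalRing.maximalIdeal (Localization.AtPrime (q.comap (Ideal.Quotient.mk I))) *
          I.map (algebraMap _ (Localization.AtPrime (q.comap (Ideal.Quotient.mk I)))) =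
      I.map (algebraMap _ (Localization.AtPrime (q.comap (Ideal.Quotient.mk I))))) :
    RingTheory.Sequence.IsRegular (Localization.AtPrime (q.comap (Ideal.Quotient.mk I))) (List.ofFn f) := by
  have hk : LocCoh.IsCohenMacaulayRing k := isCohenMacaulayRing_of_field k
  have hS : LocCoh.IsCohenMacaulayRing (MvPolynomial (Fin n) k) :=
    isCohenMacaulayRing_mvPolynomial_fin n
  have hq' : (q.comap (Ideal.Quotient.mk I)).IsPrime := Ideal.comap_isPrime _ _
  have hIq : I ≤ q.comap (Ideal.Quotient.mk I) := by
    intro x hx
    rw [Ideal.mem_comap, Ideal.Quotient.eq_zero_iff_mem.mpr hx]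
    exact q.zero_mem
  have hR := hS.isCohenMacaulayLocalRing_localization (q.comap (Ideal.Quotient.mk I))
  have hN : IsNoetherianRing (Localization.AtPrime (q.comap (Ideal.Quotient.mk I))) := inferInstance
  have h1 := height_comap_eq_height_add_height_map I q
  generalize hJdef : I.map (algebraMap (MvPolynomial (Fin n) k)
    (Localization.AtPrime (q.comap (Ideal.Quotient.mk I)))) = J at *
  have hJm : J ≤ IsLocalRing.maximalIdeal (Localization.AtPrime (q.comap (Ideal.Quotient.mk I))) := by
    rw [← hJdef, ← Localization.AtPrime.map_eq_maximalIdeal]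
    exact Ideal.map_mono hIq
  -- Nakayama
  have hspan : Ideal.span (Set.range f) = J := by
    apply le_antisymm
    · rw [Ideal.span_le]
      rintro x ⟨i, rfl⟩
      exact hf i
    · apply Submodule.le_of_le_smul_of_le_jacobson_bot (I := IsLocalRing.maximalIdeal _)
        (IsNoetherian.noetherian J)
      · exact le_of_eq (IsLocalRing.jacobson_eq_maximalIdeal ⊥ bot_ne_top).symm
      · rw [smul_eq_mul, hgen]
  have hof : Ideal.ofList (List.ofFn f) = J := by
    rw [← hspan]
    unfold Ideal.ofList
    congr 1
    ext x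
    simp [List.mem_ofFn]
  have hlen : (List.ofFn f).length = c := by simp
  have hqfin : q.height ≠ ⊤ := Ideal.height_ne_top_of_isPrime
  have hcJ : (c : ℕ∞) ≤ J.height := by
    rw [h1, add_comm] at hc
    exact le_of_eq ((ENat.add_right_injective_of_ne_top hqfin) hc)
  have hmem : ∀ y ∈ List.ofFn f, y ∈ IsLocalRing.maximalIdeal
      (Localization.AtPrime (q.comap (Ideal.Quotient.mk I))) := by
    intro y hy
    obtain ⟨i, rfl⟩ := (List.mem_ofFn' f y).mp hy
    exact hJm (hf i)
  obtain ⟨hreg, -, -⟩ := isWeaklyRegular_of_length_le_height (List.ofFn f) hmem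
    (by rw [hlen, hof]; exact hcJ)
  refine ⟨hreg, ?_⟩
  rw [hof, smul_eq_mul, Ideal.mul_top]
  intro htop
  rw [← htop] at hJm
  exact (IsLocalRing.maximalIdeal.isMaximal _).ne_top (top_le_iff.mp hJm)

end Groth.Agent.S12082
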