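import Groth.Statements.S12084
import Groth.Agent.Lib.Helper18Fitt4
import Mathlib

set_option autoImplicit false
universe u
open Fitt

namespace Groth.Agent.S12084

open Groth.Agent.Helper18Fitt Matrix

section Aux

variable {R : Type u} [CommRing R] {M M' : Type u} [AddCommGroup M] [Module R M]
  [AddCommGroup M'] [Module R M']
variable {ι ι' : Type} [Fintype ι] [DecidableEq ι] [Fintype ι'] [DecidableEq ι']

/-- the generating family of the product. -/
def yy (x : ι → M) (x' : ι' → M') : ι ⊕ ι' → M × M' :=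
  Sum.elim (fun i => (x i, 0)) (fun j => (0, x' j))

theorem span_yy (x : ι → M) (x' : ι' → M') (hx : Submodule.span R (Set.range x) = ⊤)
    (hx' : Submodule.span R (Set.range x') = ⊤) :
    Submodule.span R (Set.range (yy x x')) = ⊤ := by
  rw [eq_top_iff, ← LinearMap.sup_range_inl_inr, LinearMap.range_eq_map, LinearMap.range_eq_map,
    ← hx, ← hx', Submodule.map_span, Submodule.map_span, sup_le_iff]
  constructor
  · apply Submodule.span_mono
    rintro _ ⟨_, ⟨i, rfl⟩, rfl⟩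
    exact ⟨Sum.inl i, rfl⟩
  · apply Submodule.span_mono
    rintro _ ⟨_, ⟨i, rfl⟩, rfl⟩
    exact ⟨Sum.inr i, rfl⟩

theorem sum_yy (x : ι → M) (x' : ι' → M') (c : ι ⊕ ι' → R) :
    ∑ s, c s • yy x x' s =
      (∑ i, c (Sum.inl i) • x i, ∑ j, c (Sum.inr j) • x' j) := by
  rw [Fintype.sum_sum_type]
  ext
  · simp [yy, Prod.fst_sum]
  · simp [yy, Prod.snd_sum]

theorem T_mono' {k k' : ℕ} (h : k ≤ k') {κ : Type} [Fintype κ] [DecidableEq κ] {N : Type u}
    [AddCommGroup N] [Module R N] (x : κ → N) :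
    T (R := R) k κ x ≤ T k' κ x := by
  unfold T
  apply Ideal.span_mono
  rintro d ⟨a, S, hS, ha, rfl⟩
  exact ⟨a, S, hS.trans h, ha, rfl⟩

theorem mul_le (x : ι → M) (x' : ι' → M') (k k' l : ℕ) (h : k + k' ≤ l) :
    T (R := R) k ι x * T k' ι' x' ≤ T l (ι ⊕ ι') (yy x x') := by
  unfold T
  rw [Ideal.span_mul_span', Ideal.span_le]
  rintro _ ⟨_, ⟨a, S, hS, ha, rfl⟩, _, ⟨a', S', hS', ha', rfl⟩, rfl⟩
  show a.det * a'.det ∈ _
  rw [← Matrix.det_fromBlocks_zero₂₁ a 0 a']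
  refine mem_T_of (Matrix.fromBlocks a 0 0 a') (S.disjSum S')
    (by rw [Finset.card_disjSum]; omega) ?_
  intro i hi
  rw [sum_yy]
  rcases i with i | j
  · have hiS : i ∉ S := fun h => hi (Finset.inl_mem_disjSum.mpr h)
    simp [ha i hiS]
  · have hjS : j ∉ S' := fun h => hi (Finset.inr_mem_disjSum.mpr h)
    simp [ha' j hjS]

/-- the target ideal. -/
def JJ (x : ι → M) (x' : ι' → M') (l : ℕ) : Ideal R :=
  ∑ k ∈ Finset.range (l + 1), T (R := R) k ι x * T (l - k) ι' x'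

theorem le_JJ (x : ι → M) (x' : ι' → M') (l k : ℕ) (hk : k ≤ l) :
    T (R := R) k ι x * T (l - k) ι' x' ≤ JJ x x' l := by
  unfold JJ
  rw [Ideal.sum_eq_sup]
  exact Finset.le_sup (f := fun k => T (R := R) k ι x * T (l - k) ι' x')
    (Finset.mem_range.mpr (by omega))

theorem det_eq_zero_of_card_ne (B : Matrix (ι ⊕ ι') (ι ⊕ ι') R) (s : Finset (ι ⊕ ι'))
    (h1 : ∀ i, i ∈ s → ∀ j, B i (Sum.inr j) = 0) (h2 : ∀ i, i ∉ s → ∀ j, B i (Sum.inl j) = 0)
    (hs : s.card ≠ Fintype.card ι) : B.det = 0 := by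
  rw [Matrix.det_apply]
  refine Finset.sum_eq_zero fun σ _ => ?_
  suffices h : ∏ i, B (σ i) i = 0 by rw [h, smul_zero]
  by_contra hne
  have hall : ∀ i, B (σ i) i ≠ 0 := fun i hi => hne (Finset.prod_eq_zero (Finset.mem_univ i) hi)
  have hl : ∀ j : ι, σ (Sum.inl j) ∈ s := fun j => by
    by_contra hn
    exact hall (Sum.inl j) (h2 _ hn j)
  have hr : ∀ j : ι', σ (Sum.inr j) ∉ s := fun j hn => hall (Sum.inr j) (h1 _ hn j)
  have c1 : Fintype.card ι ≤ s.card := by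
    rw [← Finset.card_univ]
    exact Finset.card_le_card_of_injOn (fun j => σ (Sum.inl j)) (fun j _ => hl j)
      (fun a _ b _ hab => Sum.inl_injective (σ.injective hab))
  have c2 : Fintype.card ι' ≤ sᶜ.card := by
    rw [← Finset.card_univ]
    exact Finset.card_le_card_of_injOn (fun j => σ (Sum.inr j))
      (fun j _ => Finset.mem_coe.mpr (Finset.mem_compl.mpr (hr j)))
      (fun a _ b _ hab => Sum.inr_injective (σ.injective hab))
  rw [Finset.card_compl, Fintype.card_sum] at c2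
  have c3 : s.card ≤ Fintype.card (ι ⊕ ι') := Finset.card_le_univ s
  rw [Fintype.card_sum] at c3
  omega

theorem det_mem_of_card_eq (x : ι → M) (x' : ι' → M') (l : ℕ)
    (A B : Matrix (ι ⊕ ι') (ι ⊕ ι') R) (S s : Finset (ι ⊕ ι')) (hS : S.card ≤ l)
    (hA : ∀ i, i ∉ S → ∑ j, A i j • yy x x' j = 0)
    (h1 : ∀ i, i ∈ s → (∀ j, B i (Sum.inr j) = 0) ∧ ∀ j, B i (Sum.inl j) = A i (Sum.inl j))
    (h2 : ∀ i, i ∉ s → (∀ j, B i (Sum.inl j) = 0) ∧ ∀ j, B i (Sum.inr j) = A i (Sum.inr j))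
    (hs : s.card = Fintype.card ι) : B.det ∈ JJ (R := R) x x' l := by
  have hs' : Fintype.card {a // a ∉ s} = Fintype.card ι' := by
    have h3 : Fintype.card {a // a ∉ s} = Fintype.card (ι ⊕ ι') - s.card := by
      rw [Fintype.card_subtype_compl, Fintype.card_coe]
    rw [h3, Fintype.card_sum, hs]
    omega
  have hs'' : Fintype.card {a // a ∈ s} = Fintype.card ι := by
    rw [Fintype.card_coe, hs]
  let e₁ : ι ≃ {a // a ∈ s} := Fintype.equivOfCardEq hs''.symm
  let e₂ : ι' ≃ {a // a ∉ s} := Fintype.equivOfCardEq hs'.symm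
  let ρ : Equiv.Perm (ι ⊕ ι') := (Equiv.sumCongr e₁ e₂).trans (Equiv.sumCompl (· ∈ s))
  have hρl : ∀ j, ρ (Sum.inl j) ∈ s := fun j => (e₁ j).2
  have hρr : ∀ j, ρ (Sum.inr j) ∉ s := fun j => (e₂ j).2
  let B₁ : Matrix ι ι R := Matrix.of fun j j' => A (ρ (Sum.inl j)) (Sum.inl j')
  let B₂ : Matrix ι' ι' R := Matrix.of fun j j' => A (ρ (Sum.inr j)) (Sum.inr j')
  have hsub : B.submatrix ρ id = Matrix.fromBlocks B₁ 0 0 B₂ := by
    ext i j
    rcases i with i | i <;> rcases j with j | j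
    · exact (h1 _ (hρl i)).2 j
    · exact (h1 _ (hρl i)).1 j
    · exact (h2 _ (hρr i)).1 j
    · exact (h2 _ (hρr i)).2 j
  have hdet : ((Equiv.Perm.sign ρ : ℤˣ) : R) * B.det = B₁.det * B₂.det := by
    rw [← Matrix.det_permute, hsub, Matrix.det_fromBlocks_zero₂₁]
  have hsq : ((Equiv.Perm.sign ρ : ℤˣ) : R) * ((Equiv.Perm.sign ρ : ℤˣ) : R) = 1 := by
    rw [← Int.cast_mul, ← Units.val_mul, Int.units_mul_self]
    simp
  have hB : B.det = ((Equiv.Perm.sign ρ : ℤˣ) : R) * (B₁.det * B₂.det) := by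
    rw [← hdet, ← mul_assoc, hsq, one_mul]
  rw [hB]
  apply Ideal.mul_mem_left
  -- the free sets
  let S₁ : Finset ι := Finset.univ.filter fun j => ρ (Sum.inl j) ∈ S
  let S₂ : Finset ι' := Finset.univ.filter fun j => ρ (Sum.inr j) ∈ S
  have hcard : S₁.card + S₂.card ≤ l := by
    rw [← Finset.card_disjSum]
    refine le_trans (Finset.card_le_card_of_injOn ρ ?_ (fun a _ b _ hab => ρ.injective hab)) hS
    intro c hc
    rw [Finset.mem_coe, Finset.mem_disjSum] at hc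
    rcases hc with ⟨j, hj, rfl⟩ | ⟨j, hj, rfl⟩
    · exact (Finset.mem_filter.mp hj).2
    · exact (Finset.mem_filter.mp hj).2
  have hm1 : B₁.det ∈ T (R := R) S₁.card ι x := by
    refine mem_T_of B₁ S₁ le_rfl fun j hj => ?_
    have hj' : ρ (Sum.inl j) ∉ S := fun h => hj (Finset.mem_filter.mpr ⟨Finset.mem_univ _, h⟩)
    have := hA _ hj'
    rw [sum_yy] at this
    exact (Prod.ext_iff.mp this).1
  have hm2 : B₂.det ∈ T (R := R) S₂.card ι' x' := by
    refine mem_T_of B₂ S₂ le_rfl fun j hj => ?_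
    have hj' : ρ (Sum.inr j) ∉ S := fun h => hj (Finset.mem_filter.mpr ⟨Finset.mem_univ _, h⟩)
    have := hA _ hj'
    rw [sum_yy] at this
    exact (Prod.ext_iff.mp this).2
  have hm2' : B₂.det ∈ T (R := R) (l - S₁.card) ι' x' :=
    T_mono' (by omega) x' hm2
  exact le_JJ x x' l S₁.card (by omega) (Ideal.mul_mem_mul hm1 hm2')

theorem T_le_JJ (x : ι → M) (x' : ι' → M') (l : ℕ) :
    T (R := R) l (ι ⊕ ι') (yy x x') ≤ JJ x x' l := by
  unfold T
  rw [Ideal.span_le]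
  rintro d ⟨A, S, hS, hA, rfl⟩
  -- split the rows
  let L : ι ⊕ ι' → (ι ⊕ ι' → R) := fun i => Sum.elim (fun j => A i (Sum.inl j)) (fun _ => 0)
  let Rr : ι ⊕ ι' → (ι ⊕ ι' → R) := fun i => Sum.elim (fun _ => 0) (fun j => A i (Sum.inr j))
  have hsplit : (A : ι ⊕ ι' → (ι ⊕ ι' → R)) = L + Rr := by
    funext i c
    rcases c with c | c <;> simp [L, Rr]
  have hdet : A.det = ∑ s : Finset (ι ⊕ ι'), Matrix.det (Matrix.of (s.piecewise L Rr)) := by
    have h := (Matrix.detRowAlternating (n := ι ⊕ ι') (R := R)).toMultilinearMap.map_add_univ L Rr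
    rw [← hsplit] at h
    exact h
  rw [SetLike.mem_coe, hdet]
  refine Ideal.sum_mem _ fun s _ => ?_
  have h1 : ∀ i, i ∈ s → (∀ j, (Matrix.of (s.piecewise L Rr)) i (Sum.inr j) = 0) ∧
      ∀ j, (Matrix.of (s.piecewise L Rr)) i (Sum.inl j) = A i (Sum.inl j) := by
    intro i hi
    constructor <;> intro j <;> simp [Finset.piecewise_eq_of_mem _ _ _ hi, L]
  have h2 : ∀ i, i ∉ s → (∀ j, (Matrix.of (s.piecewise L Rr)) i (Sum.inl j) = 0) ∧
      ∀ j, (Matrix.of (s.piecewise L Rr)) i (Sum.inr j) = A i (Sum.inr j) := by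
    intro i hi
    constructor <;> intro j <;> simp [Finset.piecewise_eq_of_notMem _ _ _ hi, Rr]
  by_cases hs : s.card = Fintype.card ι
  · exact det_mem_of_card_eq x x' l A _ S s hS hA h1 h2 hs
  · rw [det_eq_zero_of_card_ne _ s (fun i hi j => (h1 i hi).1 j) (fun i hi j => (h2 i hi).1 j) hs]
    exact Ideal.zero_mem _

theorem T_eq_JJ (x : ι → M) (x' : ι' → M') (l : ℕ) :
    T (R := R) l (ι ⊕ ι') (yy x x') = JJ x x' l := by
  apply le_antisymm (T_le_JJ x x' l)
  unfold JJ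
  rw [Ideal.sum_eq_sup]
  refine Finset.sup_le fun k hk => ?_
  have hk' := Finset.mem_range.mp hk
  exact mul_le x x' k (l - k) l (by omega)

end Aux


/-- For finite `R`-modules `M`, `M'` and every `l`, the `l`-th Fitting ideal of `M ⊕ M'` equals `∑_{k +
k' = l} Fit_k(M) · Fit_{k'}(M')`; in particular `Fit_0(M ⊕ M') = Fit_0(M) · Fit_0(M')`. -/
theorem result (R : Type u) [CommRing R] (M M' : Type u) [AddCommGroup M] [Module R M]
    [AddCommGroup M'] [Module R M'] [Module.Finite R M] [Module.Finite R M'] (l : ℕ) :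
    Fitt.ideal R (M × M') l = ∑ k ∈ Finset.range (l + 1), Fitt.ideal R M k * Fitt.ideal R M' (l - k) := by
  classical
  obtain ⟨n, x, hx⟩ := Module.Finite.exists_fin (R := R) (M := M)
  obtain ⟨n', x', hx'⟩ := Module.Finite.exists_fin (R := R) (M := M')
  obtain ⟨m, z, hz⟩ := Module.Finite.exists_fin (R := R) (M := M × M')
  rw [fitt_eq_T z hz l, T_indep l z (yy x x') hz (span_yy x x' hx hx'), T_eq_JJ]
  unfold JJ
  refine Finset.sum_congr rfl fun k _ => ?_
  rw [fitt_eq_T x hx k, fitt_eq_T x' hx' (l - k)]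

end Groth.Agent.S12084
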