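import Groth.Statements.S12091
import Groth.Agent.Lib.Helper19SymPres

set_option autoImplicit false
universe u
open TensorProduct MvPolynomial
open FlatMor

namespace Groth.Agent.S12091

/-- Let `x_1, …, x_m` generate the `A`-module `M`, let `K ⊆ A^m` be the module of relations, `C =
Sym_A(M)` and `α : A[y_1, …, y_m] → C` the presentation with `y_j ↦ x_j`, with kernel `J`. Then the
`C`-linear map `C ⊗_A K → J/J²` sending `1 ⊗ k` to the class of `Σ_j k_j y_j` is surjective, and it
is bijective when `M` is a projective `A`-module (so that then `J/J² ≅ K ⊗_A C` and the naive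
cotangent complex of `α` is `K ⊗_A C → ⊕_j C dy_j`). (The published statement asserts `J/J² ≅ K ⊗_A
C` for every `M`. For `A = ℤ`, `M = (ℤ/2)²`, `m = 2` and the two unit vectors, `K = 2ℤ²` and the
element `y_2 ⊗ (2, 0) - y_1 ⊗ (0, 2)` of `C ⊗_A K` is non-zero but maps to the class of `y_2 · 2y_1
- y_1 · 2y_2 = 0`; in degree `2` the graded piece of `J/J²` has `8` elements and that of `K ⊗_A C`
has `16`. The published degree-by-degree computation does show that `J` is generated by the linear
forms coming from `K`, which is the surjectivity, and it is valid as written when `0 → K → A^m → M →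
0` splits, which is the projective case.) -/
theorem result (A : Type u) [CommRing A] (M : Type u)
    [AddCommGroup M] [Module A M] (m : ℕ) (x : Fin m → M)
    (hx : Function.Surjective (Fintype.linearCombination A x))
    (G : Algebra.Generators A (SymmetricAlgebra A M) (Fin m))
    (hG : ∀ j, G.val j = SymmetricAlgebra.ι A M (x j)) :
    ∃ e : SymmetricAlgebra A M ⊗[A] (LinearMap.ker (Fintype.linearCombination A x)) →ₗ[SymmetricAlgebra A M]
        G.toExtension.Cotangent,
      (∀ (k : LinearMap.ker (Fintype.linearCombination A x))
        (hk : (∑ j, C ((k : Fin m → A) j) * X j : MvPolynomial (Fin m) A) ∈ G.toExtension.ker),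
        e (1 ⊗ₜ k) = Algebra.Extension.Cotangent.mk ⟨_, hk⟩) ∧
      Function.Surjective e ∧ (Module.Projective A M → Function.Bijective e) := by
  open Groth.Agent.Lib.Helper19.SymPres in
  classical
  have hval : G.val = fun j => SymmetricAlgebra.ι A M (x j) := funext hG
  have hkerEq : G.ker = J₀ x := by
    rw [← ker_eq_J₀ x hx, Algebra.Generators.ker_eq_ker_aeval_val, hval]
  have hmem : ∀ k : LinearMap.ker (Fintype.linearCombination A x),
      ℓ (k : Fin m → A) ∈ G.ker := by
    intro k
    rw [hkerEq]
    exact Ideal.subset_span ⟨k, k.2, rfl⟩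
  -- the A-linear map K → Cotangent
  let f₀ : LinearMap.ker (Fintype.linearCombination A x) →ₗ[A] G.ker :=
    LinearMap.codRestrict (G.ker.restrictScalars A)
      (ℓ ∘ₗ (LinearMap.ker (Fintype.linearCombination A x)).subtype) hmem
  let f : LinearMap.ker (Fintype.linearCombination A x) →ₗ[A] G.toExtension.Cotangent :=
    ((Algebra.Extension.Cotangent.mk (P := G.toExtension)).restrictScalars A) ∘ₗ f₀
  have hsurj : Function.Surjective (f.liftBaseChange (SymmetricAlgebra A M)) := by
    rw [← LinearMap.range_eq_top, eq_top_iff]
    have hs : Ideal.span (Set.range fun k : LinearMap.ker (Fintype.linearCombination A x) =>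
        ℓ (k : Fin m → A)) = G.toExtension.ker := by
      change _ = G.ker
      rw [hkerEq, J₀, Set.image_eq_range]
      rfl
    rw [← Algebra.Extension.Cotangent.span_eq_top_of_span_eq_ker _ hs, Submodule.span_le]
    rintro _ ⟨k, rfl⟩
    refine ⟨1 ⊗ₜ k, ?_⟩
    rw [LinearMap.liftBaseChange_tmul, one_smul]
    rfl
  refine ⟨f.liftBaseChange _, ?_, hsurj, ?_⟩
  · intro k hk
    rw [LinearMap.liftBaseChange_tmul, one_smul]
    rfl
  · intro hproj
    refine ⟨?_, hsurj⟩
    obtain ⟨s, hs⟩ := Module.projective_lifting_property (Fintype.linearCombination A x)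
      LinearMap.id hx
    let r : (Fin m → A) →ₗ[A] LinearMap.ker (Fintype.linearCombination A x) :=
      LinearMap.codRestrict _ (LinearMap.id - s ∘ₗ Fintype.linearCombination A x) (by
        intro a
        rw [LinearMap.mem_ker, LinearMap.sub_apply, map_sub, LinearMap.id_apply,
          LinearMap.comp_apply]
        have := LinearMap.congr_fun hs (Fintype.linearCombination A x a)
        rw [LinearMap.comp_apply, LinearMap.id_apply] at this
        rw [this, sub_self])
    have hr : ∀ k : LinearMap.ker (Fintype.linearCombination A x), r (k : Fin m → A) = k := by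
      intro k
      apply Subtype.ext
      rw [LinearMap.codRestrict_apply, LinearMap.sub_apply, LinearMap.id_apply,
        LinearMap.comp_apply, LinearMap.mem_ker.mp k.2, map_zero, sub_zero]
    let Θ' : G.toExtension.CotangentSpace →ₗ[SymmetricAlgebra A M]
        SymmetricAlgebra A M ⊗[A] (Fin m → A) :=
      G.cotangentSpaceBasis.constr (SymmetricAlgebra A M)
        (fun j => (1 : SymmetricAlgebra A M) ⊗ₜ[A] (Pi.single j 1 : Fin m → A))
    let Λ : G.toExtension.Cotangent →ₗ[SymmetricAlgebra A M]
        SymmetricAlgebra A M ⊗[A] (LinearMap.ker (Fintype.linearCombination A x)) :=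
      (r.baseChange (SymmetricAlgebra A M)) ∘ₗ Θ' ∘ₗ G.toExtension.cotangentComplex
    have hΛ : ∀ k : LinearMap.ker (Fintype.linearCombination A x),
        Λ (f k) = (1 : SymmetricAlgebra A M) ⊗ₜ[A] k := by
      intro k
      have h1 : G.toExtension.cotangentComplex (f k) =
          ∑ j, (k : Fin m → A) j • G.cotangentSpaceBasis j := by
        change G.toExtension.cotangentComplex
          (Algebra.Extension.Cotangent.mk ⟨ℓ (k : Fin m → A), hmem k⟩) = _
        rw [Algebra.Extension.cotangentComplex_mk]
        change (1 : SymmetricAlgebra A M) ⊗ₜ[G.Ring] KaehlerDifferential.D A G.Ring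
          (ℓ (k : Fin m → A)) = _
        rw [ℓ_apply, map_sum, TensorProduct.tmul_sum]
        refine Finset.sum_congr rfl fun j _ => ?_
        rw [Algebra.Generators.cotangentSpaceBasis_apply, Derivation.leibniz,
          ← MvPolynomial.algebraMap_eq, Derivation.map_algebraMap, smul_zero, add_zero,
          algebraMap_smul, TensorProduct.tmul_smul]
        rfl
      change (r.baseChange (SymmetricAlgebra A M)) (Θ' (G.toExtension.cotangentComplex (f k))) = _
      rw [h1, map_sum]
      have h2 : ∀ j, Θ' ((k : Fin m → A) j • G.cotangentSpaceBasis j) =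
          (1 : SymmetricAlgebra A M) ⊗ₜ[A] ((k : Fin m → A) j • (Pi.single j 1 : Fin m → A)) := by
        intro j
        rw [← algebraMap_smul (SymmetricAlgebra A M) ((k : Fin m → A) j), map_smul,
          Module.Basis.constr_basis, algebraMap_smul, TensorProduct.tmul_smul]
      simp_rw [h2]
      have h3 : ∑ j, (k : Fin m → A) j • (Pi.single j 1 : Fin m → A) = (k : Fin m → A) := by
        ext i
        simp [Finset.sum_apply, Pi.single_apply]
      rw [← TensorProduct.tmul_sum, LinearMap.baseChange_tmul, h3, hr]
    have hid : Λ ∘ₗ (f.liftBaseChange (SymmetricAlgebra A M)) = LinearMap.id := by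
      apply LinearMap.ext
      intro z
      induction z using TensorProduct.induction_on with
      | zero => simp
      | add z₁ z₂ h₁ h₂ => rw [map_add, h₁, h₂, map_add]
      | tmul c k =>
        rw [LinearMap.comp_apply, LinearMap.liftBaseChange_tmul, map_smul, hΛ,
          LinearMap.id_apply, TensorProduct.smul_tmul', smul_eq_mul, mul_one]
    intro z₁ z₂ h
    have := congrArg Λ h
    rw [← LinearMap.comp_apply, ← LinearMap.comp_apply, hid] at this
    exact this

end Groth.Agent.S12091
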