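import Groth.Statements.S12093
import Mathlib
import Groth.Agent.Lib.Helper1TorL
-- import your own Groth.Agent.* helpers here

set_option autoImplicit false
universe u
open CategoryTheory CategoryTheory.Limits MonoidalCategory
attribute [local instance] HasDerivedCategory.standard
open DRing

namespace Groth.Agent.S12093

open DerivedCategory Groth.Agent.Lib.Helper1.KF Groth.Agent.Lib.Helper1.Tor
  Groth.Agent.Lib.Helper1.DT Groth.Agent.Lib.Helper1.TorL

/-- Let `K•` be a complex of `R`-modules (for which `− ⊗^L_R K•` is assumed to exist) and `a` an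
integer. Then `K•` has tor amplitude in `[a, ∞)`, i.e. `H^i(M ⊗^L_R K•) = 0` for every `R`-module
`M` and every `i < a`, if and only if `K•` is quasi-isomorphic to a K-flat complex `E•` (tensoring
with `E•` preserves acyclic complexes) with flat terms and `E^i = 0` for `i < a`. -/
theorem result (R : Type u) [CommRing R] (a : ℤ) (K : DRing.Cx R)
    [DRing.HasLTensorCx R K] :
    (∀ (M : ModuleCat.{u} R) (i : ℤ), i < a →
        Subsingleton (Dual.HD R ((DRing.LTensorCx R K).obj
          (DRing.toD ((CochainComplex.singleFunctor (ModuleCat.{u} R) 0).obj M))) i)) ↔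
      ∃ E : DRing.Cx R, (∀ L : DRing.Cx R, (∀ i : ℤ, IsZero (L.homology i)) → ∀ i : ℤ, IsZero ((L ⊗ E).homology i)) ∧
        DRing.TermwiseFlat E ∧ (∀ i : ℤ, i < a → IsZero (E.X i)) ∧ Nonempty (DRing.toD E ≅ DRing.toD K) := by
  constructor
  · intro h
    obtain ⟨P, q, hP, hproj, hq, -⟩ := exists_kprojective_resolution K
    have hqi : IsIso (Q.map q) := (DerivedCategory.isIso_Q_map_iff_quasiIso (φ := q)).2 hq
    have hPk : KFlat P := kflat_of_isKProjective P
    have hPf : DRing.TermwiseFlat P := fun i =>
      have := hproj i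
      have : Module.Projective R (P.X i) := ModuleCat.projective_of_module_projective _
      inferInstance
    have hvan : TorVanBelow P a := by
      intro M i hi
      obtain ⟨φ⟩ := nonempty_iso_LTensorCx_single K P hPk (asIso (Q.map q)) M
      have hs := h M i hi
      rw [exactAt_iff_isZero_H]
      have hz : IsZero ((homologyFunctor (ModuleCat.{u} R) i).obj ((DRing.LTensorCx R K).obj
          (Q.obj (sgl M)))) := @ModuleCat.isZero_of_subsingleton _ _ _ hs
      exact hz.of_iso ((homologyFunctor (ModuleCat.{u} R) i).mapIso φ.symm)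
    have hGE : CochainComplex.IsGE P a := by
      rw [CochainComplex.isGE_iff]
      exact fun i hi => hvan.exactAt i hi
    have hπ : QuasiIso (P.πTruncGE a) := (P.quasiIso_πTruncGE_iff a).2 hGE
    have hπi : IsIso (Q.map (P.πTruncGE a)) :=
      (DerivedCategory.isIso_Q_map_iff_quasiIso (φ := P.πTruncGE a)).2 hπ
    refine ⟨P.truncGE a, kflat_truncGE P hPk hPf a hvan, termwiseFlat_truncGE' P hPf a hvan,
      fun i hi => (P.truncGE a).isZero_of_isStrictlyGE a i hi,
      ⟨(asIso (Q.map (P.πTruncGE a))).symm ≪≫ asIso (Q.map q)⟩⟩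
  · rintro ⟨E, hE, -, hz, ⟨e⟩⟩ M i hi
    obtain ⟨φ⟩ := nonempty_iso_LTensorCx_single K E hE e M
    have h1 : (TCx M E).ExactAt i :=
      exactAt_of_isZero_X _ i ((tensorLeft M).map_isZero (hz i hi))
    rw [exactAt_iff_isZero_H] at h1
    exact ModuleCat.subsingleton_of_isZero
      (h1.of_iso ((homologyFunctor (ModuleCat.{u} R) i).mapIso φ))

end Groth.Agent.S12093
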