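import Groth.Statements.S7082
import Mathlib
import Groth.Agent.Lib.Helper1TwoTerm
-- import your own Groth.Agent.* helpers here

set_option autoImplicit false
universe u
attribute [local instance] HasDerivedCategory.standard
open CategoryTheory
open DRing

namespace Groth.Agent.S7082

open DerivedCategory Pretriangulated Limits
open Groth.Agent.S14388 Groth.Agent.Lib.Helper1.TwoTerm

section gen
variable {R : Type u} [CommRing R]

/-- given a two-term complex `E`, an element `a` kills all of `Ext¹(E, -)` only if `a` on `E⁻¹`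
factors through the differential -/
lemma factor_of_smul_eq_zero (E : CochainComplex (ModuleCat.{u} R) ℤ)
    (hE : ∀ i : ℤ, i ≠ -1 → i ≠ 0 → IsZero (E.X i)) (a : R)
    (h : ∀ ξ : Q.obj E ⟶ ((singleFunctor (ModuleCat.{u} R) 0).obj (E.X (-1)))⟦(1 : ℤ)⟧, a • ξ = 0) :
    ∃ h : E.X 0 ⟶ E.X (-1), E.d (-1) 0 ≫ h = a • 𝟙 (E.X (-1)) := by
  obtain ⟨i, p, hT, -⟩ := exists_triangle E hE
  have hp : p ≫ (a • 𝟙 (((singleFunctor (ModuleCat.{u} R) 0).obj (E.X (-1)))⟦(1 : ℤ)⟧)) = 0 := by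
    rw [Linear.comp_smul, Category.comp_id]
    exact h p
  obtain ⟨γ, hγ⟩ : ∃ γ : ((singleFunctor (ModuleCat.{u} R) 0).obj (E.X 0))⟦(1 : ℤ)⟧ ⟶
      ((singleFunctor (ModuleCat.{u} R) 0).obj (E.X (-1)))⟦(1 : ℤ)⟧,
      a • 𝟙 (((singleFunctor (ModuleCat.{u} R) 0).obj (E.X (-1)))⟦(1 : ℤ)⟧) =
        ((singleFunctor (ModuleCat.{u} R) 0).map (E.d (-1) 0))⟦(1 : ℤ)⟧' ≫ γ :=
    Triangle.yoneda_exact₃ _ hT _ hp
  obtain ⟨γ₀, hγ₀⟩ : ∃ γ₀ : (singleFunctor (ModuleCat.{u} R) 0).obj (E.X 0) ⟶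
      (singleFunctor (ModuleCat.{u} R) 0).obj (E.X (-1)), γ₀⟦(1 : ℤ)⟧' = γ :=
    (shiftFunctor (DerivedCategory (ModuleCat.{u} R)) (1 : ℤ)).map_surjective _
  obtain ⟨h', hh'⟩ : ∃ h' : E.X 0 ⟶ E.X (-1),
      (singleFunctor (ModuleCat.{u} R) 0).map h' = γ₀ :=
    (singleFunctor (ModuleCat.{u} R) 0).map_surjective _
  refine ⟨h', ?_⟩
  apply (singleFunctor (ModuleCat.{u} R) 0).map_injective
  apply (shiftFunctor (DerivedCategory (ModuleCat.{u} R)) (1 : ℤ)).map_injective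
  rw [Functor.map_comp, Functor.map_comp, hh', hγ₀, ← hγ, Functor.map_smul, Functor.map_smul,
    CategoryTheory.Functor.map_id, CategoryTheory.Functor.map_id]

/-- conversely, if `a` on `E⁻¹` factors through the differential and `E⁰` is projective, then `a`
kills `Ext¹(E, N)` -/
lemma smul_eq_zero_of_factor (E : CochainComplex (ModuleCat.{u} R) ℤ)
    (hE : ∀ i : ℤ, i ≠ -1 → i ≠ 0 → IsZero (E.X i)) [Projective (E.X 0)] (a : R)
    (h : E.X 0 ⟶ E.X (-1)) (hh : E.d (-1) 0 ≫ h = a • 𝟙 (E.X (-1)))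
    (N : ModuleCat.{u} R) (ξ : Q.obj E ⟶ ((singleFunctor (ModuleCat.{u} R) 0).obj N)⟦(1 : ℤ)⟧) :
    a • ξ = 0 := by
  obtain ⟨i, p, hT, -⟩ := exists_triangle E hE
  have i3 : (((singleFunctor (ModuleCat.{u} R) 0).obj N)⟦(1 : ℤ)⟧).IsLE (-1) :=
    tt.isLE_shift _ 0 1 (-1) (by lia)
  have hi : i ≫ ξ = 0 := Groth.Agent.S7077.hom_single_proj_eq_zero (E.X 0) 0 (-1) (by lia) _ _
  obtain ⟨η, hη⟩ : ∃ η : ((singleFunctor (ModuleCat.{u} R) 0).obj (E.X (-1)))⟦(1 : ℤ)⟧ ⟶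
      ((singleFunctor (ModuleCat.{u} R) 0).obj N)⟦(1 : ℤ)⟧, ξ = p ≫ η :=
    Triangle.yoneda_exact₂ _ hT _ hi
  have h1 : a • 𝟙 (((singleFunctor (ModuleCat.{u} R) 0).obj (E.X (-1)))⟦(1 : ℤ)⟧) =
      ((singleFunctor (ModuleCat.{u} R) 0).map (E.d (-1) 0))⟦(1 : ℤ)⟧' ≫
        ((singleFunctor (ModuleCat.{u} R) 0).map h)⟦(1 : ℤ)⟧' := by
    rw [← Functor.map_comp, ← Functor.map_comp, hh, Functor.map_smul, Functor.map_smul,
      CategoryTheory.Functor.map_id, CategoryTheory.Functor.map_id]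
  have h2 : p ≫ ((singleFunctor (ModuleCat.{u} R) 0).map (E.d (-1) 0))⟦(1 : ℤ)⟧' = 0 :=
    comp_distTriang_mor_zero₂₃ _ hT
  calc a • ξ = p ≫ (a • 𝟙 _) ≫ η := by
        rw [hη, Linear.smul_comp, Category.id_comp, Linear.comp_smul]
    _ = 0 := by rw [h1, Category.assoc, reassoc_of% h2, zero_comp]

end gen

/-- (1)⇔(3): let R be a commutative ring, I an ideal and K an object of D(R) whose cohomology vanishes
outside degrees -1 and 0. Then I annihilates Ext^1_R(K, N) = Hom_{D(R)}(K, N[1]) for every R-module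
N if and only if, for every two-term complex E in degrees -1 and 0 with E^0 projective that
represents K, and every a in I, multiplication by a on E^{-1} factors through the differential
E^{-1} → E^0. -/
theorem result {R : Type u} [CommRing R] (I : Ideal R) (K : Dual.D R)
    (hK : ∀ i : ℤ, i ≠ -1 → i ≠ 0 → Subsingleton (Dual.HD R K i)) :
    (∀ (N : Type u) [AddCommGroup N] [Module R N] (a : R), a ∈ I →
        ∀ ξ : K ⟶ (Dual.inD R N)⟦(1 : ℤ)⟧, a • ξ = 0) ↔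
      ∀ (E : DRing.Cx R), DRing.VanishesOutside E (-1) 0 → Module.Projective R (E.X 0) →
        Nonempty (DRing.toD E ≅ K) → ∀ a : R, a ∈ I →
          ∃ h : E.X 0 ⟶ E.X (-1), E.d (-1) 0 ≫ h = a • 𝟙 (E.X (-1)) := by
  have hKLE : K.IsLE 0 := (isLE_iff _ _).2 (fun i hi =>
    have := hK i (by omega) (by omega); ModuleCat.isZero_of_subsingleton _)
  have hKGE : K.IsGE (-1) := (isGE_iff _ _).2 (fun i hi =>
    have := hK i (by omega) (by omega); ModuleCat.isZero_of_subsingleton _)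
  constructor
  · intro H1 E hE _ ⟨e⟩ a ha
    have hE' : ∀ i : ℤ, i ≠ -1 → i ≠ 0 → IsZero (E.X i) := fun i h1 h0 => hE i (by omega)
    apply factor_of_smul_eq_zero E hE' a
    intro ξ
    have := H1 (E.X (-1)) a ha (e.inv ≫ ξ)
    rw [← Linear.comp_smul] at this
    rw [← cancel_epi e.inv, this, comp_zero]
  · intro H2 N _ _ a ha ξ
    obtain ⟨F, p, hF, hp⟩ : ∃ (F : ModuleCat.{u} R)
        (p : F ⟶ (homologyFunctor (ModuleCat.{u} R) 0).obj K), Projective F ∧ Epi p :=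
      ⟨Projective.over _, Projective.π _, inferInstance, inferInstance⟩
    obtain ⟨E, hE, ⟨x₁⟩, ⟨e⟩⟩ := exists_twoTerm_rep K F p
    have hproj : Projective (E.X 0) := Projective.of_iso x₁.symm hF
    have hproj' : Module.Projective R (E.X 0) := ModuleCat.projective_of_module_projective _
    obtain ⟨h, hh⟩ := H2 E (fun i hi => hE i (by omega) (by omega)) hproj' ⟨e⟩ a ha
    have := smul_eq_zero_of_factor E hE a h hh (ModuleCat.of R N) (e.hom ≫ ξ)
    rw [← Linear.comp_smul] at this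
    rw [← cancel_epi e.hom, this, comp_zero]

end Groth.Agent.S7082
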