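import Groth.Statements.S7080
import Mathlib
import Groth.Agent.S14388
import Groth.Agent.S14100
-- import your own Groth.Agent.* helpers here

set_option autoImplicit false
universe u
attribute [local instance] HasDerivedCategory.standard
open CategoryTheory
open DRing

namespace Groth.Agent.S7080

open DerivedCategory Pretriangulated Limits

section der
universe w v u'
variable {A : Type u'} [Category.{v} A] [Abelian A] [HasDerivedCategory.{w} A]

/-- the cone of a map in `D^{≤0}` which is an iso on `H^0` and an epi on `H^{-1}` lies in `D^{≤-2}` -/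
lemma cone_isLE {K K' C : DerivedCategory A} (α : K ⟶ K') (p : K' ⟶ C) (δ : C ⟶ K⟦(1 : ℤ)⟧)
    (hT : Triangle.mk α p δ ∈ distTriang (DerivedCategory A))
    [K.IsLE 0] [K'.IsLE 0]
    (h0 : IsIso ((homologyFunctor A 0).map α)) (h1 : Epi ((homologyFunctor A (-1)).map α)) :
    C.IsLE (-2) := by
  rw [isLE_iff]
  intro i hi
  -- exact sequence H^i(K') → H^i(C) → H^{i+1}(K)
  have hex := HomologySequence.exact₃ _ hT i (i + 1) rfl
  refine hex.isZero_of_both_zeros ?_ ?_
  · -- H^i(p) = 0
    show (homologyFunctor A i).map p = 0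
    by_cases hi0 : 0 < i
    · exact (isZero_of_isLE K' 0 i hi0).eq_of_src _ _
    · -- i = -1 or i = 0: H^i(α) epi and H^i(α) ≫ H^i(p) = 0
      have hepi : Epi ((homologyFunctor A i).map α) := by
        obtain rfl | rfl : i = -1 ∨ i = 0 := by omega
        · exact h1
        · infer_instance
      rw [← cancel_epi ((homologyFunctor A i).map α), comp_zero, ← Functor.map_comp]
      have : α ≫ p = 0 := comp_distTriang_mor_zero₁₂ _ hT
      rw [this, Functor.map_zero]
  · -- δ : H^i(C) → H^{i+1}(K) is zero
    show HomologySequence.δ (Triangle.mk α p δ) i (i + 1) rfl = 0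
    by_cases hi0 : 0 < i + 1
    · exact (isZero_of_isLE K 0 (i + 1) hi0).eq_of_tgt _ _
    · have hi1 : i + 1 = 0 := by omega
      have hmono : Mono ((homologyFunctor A (i + 1)).map α) := by
        rw [hi1]
        infer_instance
      have hδ : HomologySequence.δ (Triangle.mk α p δ) i (i + 1) rfl ≫
          (homologyFunctor A (i + 1)).map α = 0 := HomologySequence.δ_comp _ hT i (i + 1) rfl
      exact (cancel_mono ((homologyFunctor A (i + 1)).map α)).1 (hδ.trans zero_comp.symm)

/-- consequently precomposition with `α` is injective on maps to `D^{≥-1}` -/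
lemma eq_zero_of_comp {K K' Y : DerivedCategory A} (α : K ⟶ K') [K.IsLE 0] [K'.IsLE 0]
    (h0 : IsIso ((homologyFunctor A 0).map α)) (h1 : Epi ((homologyFunctor A (-1)).map α))
    [Y.IsGE (-1)] (g : K' ⟶ Y) (hg : α ≫ g = 0) : g = 0 := by
  obtain ⟨C, p, δ, hT⟩ := distinguished_cocone_triangle α
  have hC := cone_isLE α p δ hT h0 h1
  obtain ⟨g', hg'⟩ : ∃ g' : C ⟶ Y, g = p ≫ g' := Triangle.yoneda_exact₂ _ hT g hg
  have : g' = 0 := DerivedCategory.TStructure.t.zero g' (-2) (-1)
  rw [hg', this, comp_zero]

end der

/-- Let R be a commutative ring and α : K → K' a morphism in D(R) between objects whose cohomology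
vanishes outside degrees -1 and 0, such that H^0(α) is an isomorphism and H^{-1}(α) is surjective.
If multiplication by an element f of R is the zero endomorphism of K in D(R), then it is also the
zero endomorphism of K'. -/
theorem result {R : Type u} [CommRing R] {K K' : Dual.D R} (α : K ⟶ K')
    (hK : ∀ i : ℤ, i ≠ -1 → i ≠ 0 → Subsingleton (Dual.HD R K i))
    (hK' : ∀ i : ℤ, i ≠ -1 → i ≠ 0 → Subsingleton (Dual.HD R K' i))
    (h0 : IsIso ((DerivedCategory.homologyFunctor (ModuleCat.{u} R) 0).map α))
    (h1 : Epi ((DerivedCategory.homologyFunctor (ModuleCat.{u} R) (-1)).map α))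
    (f : R) (hf : f • (𝟙 K) = 0) : f • (𝟙 K') = 0 := by
  have hKLE : K.IsLE 0 := (isLE_iff _ _).2 (fun i hi =>
    have := hK i (by omega) (by omega); ModuleCat.isZero_of_subsingleton _)
  have hK'LE : K'.IsLE 0 := (isLE_iff _ _).2 (fun i hi =>
    have := hK' i (by omega) (by omega); ModuleCat.isZero_of_subsingleton _)
  have hK'GE : K'.IsGE (-1) := (isGE_iff _ _).2 (fun i hi =>
    have := hK' i (by omega) (by omega); ModuleCat.isZero_of_subsingleton _)
  apply eq_zero_of_comp α h0 h1
  rw [Linear.comp_smul, Category.comp_id, ← Category.id_comp α, ← Linear.smul_comp, hf, zero_comp]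

end Groth.Agent.S7080
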