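import Groth.Statements.S12094
import Mathlib
import Groth.Agent.Lib.Helper1TwoTerm
import Groth.Agent.S7082
import Groth.Agent.S7083
-- import your own Groth.Agent.* helpers here

set_option autoImplicit false
universe u
open CategoryTheory
attribute [local instance] HasDerivedCategory.standard
open DRing

namespace Groth.Agent.S12094

open DerivedCategory Pretriangulated Limits
open Groth.Agent.S14388 Groth.Agent.Lib.Helper1.TwoTerm

section gen
variable {R : Type u} [CommRing R]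

/-- the canonical map `K ⟶ H⁰(K)[0]` for `K ∈ D^{≤ 0}`, an isomorphism on `H⁰` -/
lemma exists_toH0 (K : DerivedCategory (ModuleCat.{u} R)) [K.IsLE 0] :
    ∃ α : K ⟶ (singleFunctor (ModuleCat.{u} R) 0).obj
      ((homologyFunctor (ModuleCat.{u} R) 0).obj K),
      IsIso ((homologyFunctor (ModuleCat.{u} R) 0).map α) := by
  obtain ⟨π, hπ⟩ : ∃ π : K ⟶ (tt.truncGE 0).obj K, π = (tt.truncGEπ 0).app K := ⟨_, rfl⟩
  have hπiso : IsIso ((homologyFunctor (ModuleCat.{u} R) 0).map π) := by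
    rw [hπ]; exact isIso_homology_truncGEπ 0 0 le_rfl K
  have i1 : ((tt.truncGE 0).obj K).IsGE 0 := inferInstance
  have i2 : ((tt.truncGE 0).obj K).IsLE 0 := inferInstance
  obtain ⟨e₀⟩ := Groth.Agent.S0973.iso_single_of_amp ((tt.truncGE 0).obj K) 0
  refine ⟨π ≫ e₀.hom ≫ (singleFunctor (ModuleCat.{u} R) 0).map
    (inv ((homologyFunctor (ModuleCat.{u} R) 0).map π)), ?_⟩
  rw [Functor.map_comp, Functor.map_comp]
  infer_instance

/-- the annihilator of `Ext¹(K, -)` as an ideal -/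
def annExt (K : DerivedCategory (ModuleCat.{u} R)) : Ideal R where
  carrier := {a | ∀ (N : ModuleCat.{u} R)
    (ξ : K ⟶ ((singleFunctor (ModuleCat.{u} R) 0).obj N)⟦(1 : ℤ)⟧), a • ξ = 0}
  add_mem' := by
    intro a b ha hb N ξ
    rw [add_smul, ha N ξ, hb N ξ, add_zero]
  zero_mem' := by
    intro N ξ
    rw [zero_smul]
  smul_mem' := by
    intro c a ha N ξ
    rw [smul_eq_mul, mul_smul, ha N ξ, smul_zero]

lemma mem_annExt (K : DerivedCategory (ModuleCat.{u} R)) (a : R) :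
    a ∈ annExt K ↔ ∀ (N : ModuleCat.{u} R)
      (ξ : K ⟶ ((singleFunctor (ModuleCat.{u} R) 0).obj N)⟦(1 : ℤ)⟧), a • ξ = 0 := Iff.rfl

/-- products of an annihilator of `H⁻¹(K)` and an annihilator of `Ext¹(H⁰ K, -)` annihilate
`Ext¹(K, -)` -/
lemma mul_mem_annExt (K : DerivedCategory (ModuleCat.{u} R)) [K.IsLE 0] [K.IsGE (-1)] (a₁ a₂ : R)
    (h₂ : ∀ x : (homologyFunctor (ModuleCat.{u} R) (-1)).obj K, a₂ • x = 0)
    (h₁ : a₁ ∈ annExt ((singleFunctor (ModuleCat.{u} R) 0).obj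
      ((homologyFunctor (ModuleCat.{u} R) 0).obj K))) :
    a₁ * a₂ ∈ annExt K := by
  intro N ξ
  have hT := tt.triangleLTGE_distinguished 0 K
  obtain ⟨ι, hι⟩ : ∃ ι : (tt.truncLT 0).obj K ⟶ K, ι = (tt.truncLTι 0).app K := ⟨_, rfl⟩
  obtain ⟨π, hπ⟩ : ∃ π : K ⟶ (tt.truncGE 0).obj K, π = (tt.truncGEπ 0).app K := ⟨_, rfl⟩
  -- a₂ kills τ<0 K
  have i0 : ((tt.truncLT 0).obj K).IsLE (-1) :=
    (inferInstance : ((tt.truncLT 0).obj K).IsLE (0 - 1))
  have i0' : ((tt.truncLT 0).obj K).IsGE (-1) := inferInstance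
  obtain ⟨e⟩ := Groth.Agent.S0973.iso_single_of_amp ((tt.truncLT 0).obj K) (-1)
  have hιiso : IsIso ((homologyFunctor (ModuleCat.{u} R) (-1)).map ι) := by
    rw [hι]; exact isIso_homology_truncLTι 0 (-1) (by lia) K
  have hz : a₂ • 𝟙 ((homologyFunctor (ModuleCat.{u} R) (-1)).obj ((tt.truncLT 0).obj K)) = 0 := by
    ext x
    have h3 := h₂ (((homologyFunctor (ModuleCat.{u} R) (-1)).map ι).hom x)
    rw [← map_smul] at h3
    have hinj : Function.Injective ((homologyFunctor (ModuleCat.{u} R) (-1)).map ι).hom :=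
      (ModuleCat.mono_iff_injective _).1 inferInstance
    have h4 : a₂ • x = 0 := hinj (by rw [h3, map_zero])
    exact h4
  have hz' : a₂ • 𝟙 ((tt.truncLT 0).obj K) = 0 := by
    rw [← cancel_mono e.hom, ← cancel_epi e.inv, zero_comp, comp_zero, Linear.smul_comp,
      Category.id_comp, Linear.comp_smul, Iso.inv_hom_id, ← CategoryTheory.Functor.map_id,
      ← Functor.map_smul, hz, Functor.map_zero]
  have h5 : ι ≫ (a₂ • ξ) = 0 := by
    rw [Linear.comp_smul, ← Linear.smul_comp, ← Category.id_comp ι, ← Linear.smul_comp, hz',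
      zero_comp, zero_comp]
  rw [hι] at h5
  obtain ⟨ζ, hζ⟩ : ∃ ζ : (tt.truncGE 0).obj K ⟶
      ((singleFunctor (ModuleCat.{u} R) 0).obj N)⟦(1 : ℤ)⟧, a₂ • ξ = (tt.truncGEπ 0).app K ≫ ζ :=
    Triangle.yoneda_exact₂ _ hT _ h5
  -- τ≥0 K ≅ H⁰(K)[0]
  have i1 : ((tt.truncGE 0).obj K).IsGE 0 := inferInstance
  have i2 : ((tt.truncGE 0).obj K).IsLE 0 := inferInstance
  obtain ⟨e₀⟩ := Groth.Agent.S0973.iso_single_of_amp ((tt.truncGE 0).obj K) 0
  have hπiso : IsIso ((homologyFunctor (ModuleCat.{u} R) 0).map π) := by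
    rw [hπ]; exact isIso_homology_truncGEπ 0 0 le_rfl K
  let e₁ : (tt.truncGE 0).obj K ≅ (singleFunctor (ModuleCat.{u} R) 0).obj
      ((homologyFunctor (ModuleCat.{u} R) 0).obj K) :=
    e₀ ≪≫ (singleFunctor (ModuleCat.{u} R) 0).mapIso
      (asIso ((homologyFunctor (ModuleCat.{u} R) 0).map π)).symm
  have h6 : a₁ • (e₁.inv ≫ ζ) = 0 := h₁ N _
  have h7 : a₁ • ζ = 0 := by
    rw [← cancel_epi e₁.inv, Linear.comp_smul, h6, comp_zero]
  rw [mul_smul, hζ, ← Linear.comp_smul, h7, comp_zero]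

end gen

/-- (1) ⇔ (2): let `I ⊆ R` be an ideal and `K ∈ D(R)` with `H^i(K) = 0` for `i ∉ {-1, 0}`. Then some
power `I^c` annihilates `Ext¹_R(K, N) = Hom_{D(R)}(K, N[1])` for every `R`-module `N` if and only
if, for some `c`, (a) `I^c` annihilates `H^{-1}(K)` and (b) `H^0(K)` is `I^c`-projective, i.e. `I^c`
annihilates `Ext¹_R(H^0(K), N)` for every `R`-module `N`. -/
theorem result {R : Type u} [CommRing R] (I : Ideal R) (K : Dual.D R)
    (hK : ∀ i : ℤ, i ≠ -1 → i ≠ 0 → Subsingleton (Dual.HD R K i)) :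
    (∃ c : ℕ, ∀ (N : Type u) [AddCommGroup N] [Module R N] (a : R), a ∈ I ^ c →
        ∀ ξ : K ⟶ (Dual.inD R N)⟦(1 : ℤ)⟧, a • ξ = 0) ↔
      ∃ c : ℕ, (∀ a : R, a ∈ I ^ c → ∀ x : Dual.HD R K (-1), a • x = 0) ∧
        ∀ (N : Type u) [AddCommGroup N] [Module R N] (a : R), a ∈ I ^ c →
          ∀ ξ : Dual.inD R (Dual.HD R K 0) ⟶ (Dual.inD R N)⟦(1 : ℤ)⟧, a • ξ = 0 := by
  have hKLE : K.IsLE 0 := (isLE_iff _ _).2 (fun i hi =>
    have := hK i (by omega) (by omega); ModuleCat.isZero_of_subsingleton _)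
  have hKGE : K.IsGE (-1) := (isGE_iff _ _).2 (fun i hi =>
    have := hK i (by omega) (by omega); ModuleCat.isZero_of_subsingleton _)
  constructor
  · rintro ⟨c, hc⟩
    refine ⟨c, ?_, ?_⟩
    · -- H⁻¹
      intro a ha x
      obtain ⟨F, p, hF, hp⟩ : ∃ (F : ModuleCat.{u} R)
          (p : F ⟶ (homologyFunctor (ModuleCat.{u} R) 0).obj K), Projective F ∧ Epi p :=
        ⟨Projective.over _, Projective.π _, inferInstance, inferInstance⟩
      obtain ⟨E, hE, ⟨x₁⟩, ⟨e⟩⟩ := exists_twoTerm_rep K F p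
      obtain ⟨h, hh⟩ := Groth.Agent.S7082.factor_of_smul_eq_zero E hE a (fun ξ => by
        have := hc (E.X (-1)) a ha (e.inv ≫ ξ)
        rw [← Linear.comp_smul] at this
        rw [← cancel_epi e.inv, this, comp_zero])
      -- the mono j : H⁻¹(K) ⟶ E⁻¹
      have hd0 : E.d (-2) (-1) = 0 := (hE (-2) (by decide) (by decide)).eq_of_src _ _
      obtain ⟨θ, -⟩ : ∃ θ : E.cycles (-1) ≅ E.homology (-1), True :=
        ⟨HomologicalComplex.isoHomologyπ E (-2) (-1) (by simp) hd0, trivial⟩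
      let j : (homologyFunctor (ModuleCat.{u} R) (-1)).obj K ⟶ E.X (-1) :=
        (homologyFunctor (ModuleCat.{u} R) (-1)).map e.inv ≫
          (homologyFunctorFactors (ModuleCat.{u} R) (-1)).hom.app E ≫
          θ.inv ≫ E.iCycles (-1)
      have m1 : Mono (E.iCycles (-1)) := inferInstance
      have m2 : Mono (θ.inv ≫ E.iCycles (-1)) := mono_comp _ _
      have m0 : IsIso ((homologyFunctorFactors (ModuleCat.{u} R) (-1)).hom.app E) :=
        NatIso.hom_app_isIso (homologyFunctorFactors (ModuleCat.{u} R) (-1)) E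
      have m0' : Mono ((homologyFunctorFactors (ModuleCat.{u} R) (-1)).hom.app E) :=
        IsIso.mono_of_iso _
      have m3 : Mono ((homologyFunctorFactors (ModuleCat.{u} R) (-1)).hom.app E ≫
          θ.inv ≫ E.iCycles (-1)) := mono_comp _ _
      have m4 : IsIso ((homologyFunctor (ModuleCat.{u} R) (-1)).map e.inv) :=
        Functor.map_isIso _ _
      have m4' : Mono ((homologyFunctor (ModuleCat.{u} R) (-1)).map e.inv) :=
        IsIso.mono_of_iso _
      have hjmono : Mono j := mono_comp _ _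
      have hjd : j ≫ E.d (-1) 0 = 0 := by
        dsimp only [j]
        rw [Category.assoc, Category.assoc, Category.assoc, E.iCycles_d, comp_zero, comp_zero,
          comp_zero]
      have hinj : Function.Injective j.hom := (ModuleCat.mono_iff_injective _).1 hjmono
      apply hinj
      rw [map_smul, map_zero]
      have h1 : (E.d (-1) 0).hom (j.hom x) = 0 := by
        have := congrArg (fun f => f.hom x) hjd
        simpa using this
      have h2 : (E.d (-1) 0 ≫ h).hom (j.hom x) = a • j.hom x := by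
        rw [hh]
        simp
      rw [← h2]
      simp [h1]
    · -- H⁰
      intro N _ _ a ha ξ
      obtain ⟨α, hα⟩ := exists_toH0 K
      refine Groth.Agent.S7083.result (I ^ c) α hK ?_ hα ?_ (fun N' _ _ a' ha' ξ' => hc N' a' ha' ξ')
        N a ha ξ
      · intro i hi1 hi0
        have : IsZero ((homologyFunctor (ModuleCat.{u} R) i).obj
            ((singleFunctor (ModuleCat.{u} R) 0).obj
              ((homologyFunctor (ModuleCat.{u} R) 0).obj K))) :=
          isZero_homology_of_amp _ 0 i hi0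
        exact ModuleCat.subsingleton_of_isZero this
      · have : IsZero ((homologyFunctor (ModuleCat.{u} R) (-1)).obj
            ((singleFunctor (ModuleCat.{u} R) 0).obj
              ((homologyFunctor (ModuleCat.{u} R) 0).obj K))) :=
          isZero_homology_of_amp _ 0 (-1) (by decide)
        exact ⟨fun f g h => this.eq_of_src _ _⟩
  · rintro ⟨c, hc1, hc2⟩
    refine ⟨c + c, ?_⟩
    intro N _ _ a ha ξ
    have hle : I ^ (c + c) ≤ annExt K := by
      rw [pow_add]
      refine Ideal.mul_le.2 (fun a₁ ha₁ a₂ ha₂ => ?_)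
      exact mul_mem_annExt K a₁ a₂ (hc1 a₂ ha₂)
        (fun N' ξ' => hc2 N' a₁ ha₁ ξ')
    exact hle ha (ModuleCat.of R N) ξ

end Groth.Agent.S12094
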