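import Groth.Statements.S12096
import Mathlib
-- import your own Groth.Agent.* helpers here

set_option autoImplicit false
universe u
open BlowUp

namespace Groth.Agent.S12096.Aux
set_option autoImplicit false

namespace BlLoc

variable (A : Type u) [CommRing A] (I : Ideal A) (π a : A)

local notation "Aa" => Localization.Away a
local notation "ι" => algebraMap A (Localization.Away a)

/-- the map on localizations -/
noncomputable abbrev φ : Localization.Away π →+* Localization.Away (ι π) :=
  Localization.awayMap ι π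

theorem φ_alg (b : A) : φ A π a (algebraMap A (Localization.Away π) b) =
    algebraMap Aa (Localization.Away (ι π)) (ι b) := by
  simp [φ, Localization.awayMap, IsLocalization.Away.map, IsLocalization.map_eq]

theorem surj_aux (y : Localization.Away (ι π))
    (hy : y ∈ BlowUp.affineAlgebra Aa (I.map ι) (ι π)) :
    ∃ x : Localization.Away π, x ∈ BlowUp.affineAlgebra A I π ∧ ∃ k : ℕ,
      y * algebraMap Aa (Localization.Away (ι π)) (ι a) ^ k = φ A π a x := by
  unfold BlowUp.affineAlgebra at hy
  induction hy using Algebra.adjoin_induction with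
  | mem q hq' =>
    obtain ⟨x', hx', rfl⟩ := hq'
    obtain ⟨⟨x0, ⟨_, k, rfl⟩⟩, h0⟩ :=
      (IsLocalization.mem_map_algebraMap_iff (Submonoid.powers a) Aa).mp hx'
    refine ⟨IsLocalization.mk' (Localization.Away π) (x0 : A) ⟨π, Submonoid.mem_powers π⟩,
      Algebra.subset_adjoin ⟨x0, x0.2, rfl⟩, k, ?_⟩
    have h1 : φ A π a (IsLocalization.mk' (Localization.Away π) (x0 : A) ⟨π, Submonoid.mem_powers π⟩) =
        IsLocalization.mk' (Localization.Away (ι π)) (ι x0) ⟨ι π, Submonoid.mem_powers _⟩ := by
      simp only [φ, Localization.awayMap, IsLocalization.Away.map]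
      rw [IsLocalization.map_mk']
    rw [h1, ← map_pow, mul_comm, IsLocalization.mul_mk'_eq_mk'_of_mul]
    congr 1
    rw [← h0, mul_comm]
    simp
  | algebraMap r =>
    obtain ⟨n, b, hb⟩ := IsLocalization.Away.surj a r
    refine ⟨algebraMap A _ b, Subalgebra.algebraMap_mem _ b, n, ?_⟩
    rw [φ_alg, ← hb, map_mul, map_pow]
  | add y₁ y₂ _ _ h₁ h₂ =>
    obtain ⟨x₁, hx₁, k₁, e₁⟩ := h₁
    obtain ⟨x₂, hx₂, k₂, e₂⟩ := h₂
    refine ⟨x₁ * algebraMap A _ (a ^ k₂) + x₂ * algebraMap A _ (a ^ k₁),
      Subalgebra.add_mem _ (Subalgebra.mul_mem _ hx₁ (Subalgebra.algebraMap_mem _ _))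
        (Subalgebra.mul_mem _ hx₂ (Subalgebra.algebraMap_mem _ _)), k₁ + k₂, ?_⟩
    rw [map_add, map_mul, map_mul, φ_alg, φ_alg, ← e₁, ← e₂, map_pow, map_pow, map_pow, map_pow]
    ring
  | mul y₁ y₂ _ _ h₁ h₂ =>
    obtain ⟨x₁, hx₁, k₁, e₁⟩ := h₁
    obtain ⟨x₂, hx₂, k₂, e₂⟩ := h₂
    refine ⟨x₁ * x₂, Subalgebra.mul_mem _ hx₁ hx₂, k₁ + k₂, ?_⟩
    rw [map_mul, ← e₁, ← e₂]
    ring

theorem ker_aux (d : Localization.Away π) (hd : φ A π a d = 0) :
    ∃ k : ℕ, algebraMap A (Localization.Away π) a ^ k * d = 0 := by
  obtain ⟨n, b, hb⟩ := IsLocalization.Away.surj π d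
  have h1 : algebraMap Aa (Localization.Away (ι π)) (ι b) = 0 := by
    rw [← φ_alg, ← hb, map_mul, hd, zero_mul]
  obtain ⟨⟨_, m, rfl⟩, hm⟩ :=
    (IsLocalization.map_eq_zero_iff (Submonoid.powers (ι π)) _ _).mp h1
  have h2 : ι (π ^ m * b) = 0 := by
    rw [map_mul, map_pow]
    exact hm
  obtain ⟨⟨_, k, rfl⟩, hk⟩ := (IsLocalization.map_eq_zero_iff (Submonoid.powers a) _ _).mp h2
  refine ⟨k, ?_⟩
  have hunit : IsUnit (algebraMap A (Localization.Away π) π ^ (n + m)) :=
    (IsLocalization.Away.algebraMap_isUnit π).pow _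
  apply (hunit.mul_left_eq_zero).mp
  have : algebraMap A (Localization.Away π) a ^ k * d * algebraMap A (Localization.Away π) π ^ (n + m) =
      algebraMap A (Localization.Away π) (a ^ k * (π ^ m * b)) := by
    rw [map_mul, map_mul, ← hb, map_pow, map_pow, pow_add]
    ring
  rw [this]
  simp only at hk
  rw [hk, map_zero]

theorem main
    (ψ : BlowUp.affineAlgebra A I π →+*
      BlowUp.affineAlgebra (Localization.Away a) (I.map (algebraMap A (Localization.Away a))) (algebraMap A (Localization.Away a) π))
    (hψ : ∀ x : BlowUp.affineAlgebra A I π,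
      ((ψ x : BlowUp.affineAlgebra (Localization.Away a) (I.map (algebraMap A (Localization.Away a))) (algebraMap A (Localization.Away a) π)) :
          Localization.Away (algebraMap A (Localization.Away a) π)) =
        Localization.awayMap (algebraMap A (Localization.Away a)) π (x : Localization.Away π)) :
    letI := ψ.toAlgebra
    IsLocalization.Away (algebraMap A (BlowUp.affineAlgebra A I π) a)
      (BlowUp.affineAlgebra (Localization.Away a) (I.map (algebraMap A (Localization.Away a))) (algebraMap A (Localization.Away a) π)) := by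
  letI := ψ.toAlgebra
  have halg : ∀ x, algebraMap (BlowUp.affineAlgebra A I π)
      (BlowUp.affineAlgebra (Localization.Away a) (I.map ι) (ι π)) x = ψ x := fun x => rfl
  have hψa : ψ (algebraMap A (BlowUp.affineAlgebra A I π) a) =
      algebraMap Aa (BlowUp.affineAlgebra Aa (I.map ι) (ι π)) (ι a) := by
    apply Subtype.ext
    rw [hψ]
    exact φ_alg A π a a
  rw [IsLocalization.Away, isLocalization_iff]
  refine ⟨?_, ?_, ?_⟩
  · rintro ⟨_, k, rfl⟩
    rw [halg, map_pow, hψa]
    exact ((IsLocalization.Away.algebraMap_isUnit a).map _).pow k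
  · intro z
    obtain ⟨x, hx, k, hk⟩ := surj_aux A I π a z.1 z.2
    refine ⟨(⟨x, hx⟩, ⟨algebraMap A (BlowUp.affineAlgebra A I π) a ^ k, k, rfl⟩), ?_⟩
    rw [halg, halg]
    apply Subtype.ext
    rw [hψ]
    change (z : Localization.Away (ι π)) * ((ψ (algebraMap A (BlowUp.affineAlgebra A I π) a ^ k) :
      BlowUp.affineAlgebra Aa (I.map ι) (ι π)) : Localization.Away (ι π)) = φ A π a x
    rw [map_pow, hψa, ← hk]
    rfl
  · intro x y hxy
    rw [halg, halg] at hxy
    have h1 : φ A π a ((x : Localization.Away π) - y) = 0 := by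
      rw [map_sub, sub_eq_zero]
      have := congrArg (fun q : BlowUp.affineAlgebra Aa (I.map ι) (ι π) =>
        (q : Localization.Away (ι π))) hxy
      simp only [hψ] at this
      exact this
    obtain ⟨k, hk⟩ := ker_aux A π a _ h1
    refine ⟨⟨algebraMap A (BlowUp.affineAlgebra A I π) a ^ k, k, rfl⟩, ?_⟩
    apply Subtype.ext
    change algebraMap A (Localization.Away π) a ^ k * (x : Localization.Away π) =
      algebraMap A (Localization.Away π) a ^ k * (y : Localization.Away π)
    rw [← sub_eq_zero, ← mul_sub]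
    exact hk

end BlLoc

end Groth.Agent.S12096.Aux

namespace Groth.Agent.S12096

/-- Néron's blowup is compatible with localization. For a ring `A`, an ideal `I`, elements `π, a ∈ A`,
`A' = A[I/π] ⊆ A_π` the affine blowup algebra and `(A_a)' = A_a[I A_a/π]` that of the localization,
the canonical map `A' → (A_a)'` (the restriction of `A_π → (A_a)_π`, given here as a datum with that
compatibility) identifies `(A_a)'` with the localization `A'_a`. In Néron's situation (`I` the
inverse image of the maximal ideal of `Λ`, `π` a uniformizer, `a ∉ I`) this reads: the Néron blowup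
of `A_a` is `A'_a`; the identity holds for arbitrary `A, I, π, a`. -/
theorem result (A : Type u) [CommRing A] (I : Ideal A) (π a : A) (hπ : π ∈ I)
    (ψ : BlowUp.affineAlgebra A I π →+*
      BlowUp.affineAlgebra (Localization.Away a) (I.map (algebraMap A (Localization.Away a))) (algebraMap A (Localization.Away a) π))
    (hψ : ∀ x : BlowUp.affineAlgebra A I π,
      ((ψ x : BlowUp.affineAlgebra (Localization.Away a) (I.map (algebraMap A (Localization.Away a))) (algebraMap A (Localization.Away a) π)) :
          Localization.Away (algebraMap A (Localization.Away a) π)) =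
        Localization.awayMap (algebraMap A (Localization.Away a)) π (x : Localization.Away π)) :
    letI := ψ.toAlgebra
    IsLocalization.Away (algebraMap A (BlowUp.affineAlgebra A I π) a)
      (BlowUp.affineAlgebra (Localization.Away a) (I.map (algebraMap A (Localization.Away a))) (algebraMap A (Localization.Away a) π)) := by
  exact Aux.BlLoc.main A I π a ψ hψ

end Groth.Agent.S12096
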