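import Groth.Statements.S12097
import Mathlib
-- import your own Groth.Agent.* helpers here

set_option autoImplicit false
universe u
open BlowUp

namespace Groth.Agent.S12097.Aux
set_option autoImplicit false

namespace BlQuot

variable (B A : Type u) [CommRing B] [CommRing A] [Algebra B A]
    (hq : Function.Surjective (algebraMap B A)) (I : Ideal B) (π : B)

/-- the map on localizations -/
noncomputable abbrev φ : Localization.Away π →+* Localization.Away (algebraMap B A π) :=
  Localization.awayMap (algebraMap B A) π

theorem φ_alg (b : B) : φ B A π (algebraMap B (Localization.Away π) b) =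
    algebraMap A (Localization.Away (algebraMap B A π)) (algebraMap B A b) := by
  simp [φ, Localization.awayMap, IsLocalization.Away.map, IsLocalization.map_eq]

include hq in
theorem exists_preimage (y : Localization.Away (algebraMap B A π))
    (hy : y ∈ BlowUp.affineAlgebra A (I.map (algebraMap B A)) (algebraMap B A π)) :
    ∃ x : Localization.Away π, x ∈ BlowUp.affineAlgebra B I π ∧ φ B A π x = y := by
  unfold BlowUp.affineAlgebra at hy
  induction hy using Algebra.adjoin_induction with
  | mem q hq' =>
    obtain ⟨xb, hxb, rfl⟩ := hq'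
    obtain ⟨x, hx, rfl⟩ := (Ideal.mem_map_iff_of_surjective _ hq).mp hxb
    refine ⟨IsLocalization.mk' (Localization.Away π) x ⟨π, Submonoid.mem_powers π⟩,
      Algebra.subset_adjoin ⟨x, hx, rfl⟩, ?_⟩
    simp only [φ, Localization.awayMap, IsLocalization.Away.map]
    rw [IsLocalization.map_mk']
  | algebraMap r =>
    obtain ⟨b, rfl⟩ := hq r
    exact ⟨algebraMap B _ b, Subalgebra.algebraMap_mem _ b, φ_alg B A π b⟩
  | add y₁ y₂ _ _ h₁ h₂ =>
    obtain ⟨x₁, hx₁, rfl⟩ := h₁
    obtain ⟨x₂, hx₂, rfl⟩ := h₂
    exact ⟨x₁ + x₂, Subalgebra.add_mem _ hx₁ hx₂, map_add _ _ _⟩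
  | mul y₁ y₂ _ _ h₁ h₂ =>
    obtain ⟨x₁, hx₁, rfl⟩ := h₁
    obtain ⟨x₂, hx₂, rfl⟩ := h₂
    exact ⟨x₁ * x₂, Subalgebra.mul_mem _ hx₁ hx₂, map_mul _ _ _⟩

include hq in
theorem main
    (ψ : BlowUp.affineAlgebra B I π →+* BlowUp.affineAlgebra A (I.map (algebraMap B A)) (algebraMap B A π))
    (hψ : ∀ x : BlowUp.affineAlgebra B I π,
      ((ψ x : BlowUp.affineAlgebra A (I.map (algebraMap B A)) (algebraMap B A π)) : Localization.Away (algebraMap B A π)) =
        Localization.awayMap (algebraMap B A) π (x : Localization.Away π)) :
    Function.Surjective ψ ∧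
      ∀ x : BlowUp.affineAlgebra B I π, x ∈ RingHom.ker ψ ↔
        ∃ n : ℕ, algebraMap B (BlowUp.affineAlgebra B I π) π ^ n * x ∈
          (RingHom.ker (algebraMap B A)).map (algebraMap B (BlowUp.affineAlgebra B I π)) := by
  constructor
  · intro y
    obtain ⟨x, hx, hxy⟩ := exists_preimage B A hq I π y.1 y.2
    refine ⟨⟨x, hx⟩, ?_⟩
    apply Subtype.ext
    rw [hψ]
    exact hxy
  · intro x
    have hJ : (RingHom.ker (algebraMap B A)).map (algebraMap B (BlowUp.affineAlgebra B I π)) ≤
        RingHom.ker ψ := by
      rw [Ideal.map_le_iff_le_comap]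
      intro j hj
      rw [Ideal.mem_comap, RingHom.mem_ker]
      apply Subtype.ext
      rw [hψ]
      change φ B A π (algebraMap B (Localization.Away π) j) = 0
      rw [φ_alg, (RingHom.mem_ker).mp hj, map_zero]
    have hπ' : ((ψ (algebraMap B (BlowUp.affineAlgebra B I π) π) :
        BlowUp.affineAlgebra A (I.map (algebraMap B A)) (algebraMap B A π)) :
          Localization.Away (algebraMap B A π)) =
        algebraMap A _ (algebraMap B A π) := by
      rw [hψ]
      exact φ_alg B A π π
    constructor
    · intro hx
      rw [RingHom.mem_ker] at hx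
      have h0 : φ B A π (x : Localization.Away π) = 0 := by
        rw [← hψ, hx]; rfl
      obtain ⟨n, b, hb⟩ := IsLocalization.Away.surj π (x : Localization.Away π)
      have h1 : algebraMap A (Localization.Away (algebraMap B A π)) (algebraMap B A b) = 0 := by
        rw [← φ_alg, ← hb, map_mul, h0, zero_mul]
      obtain ⟨⟨_, m, rfl⟩, hm⟩ :=
        (IsLocalization.map_eq_zero_iff (Submonoid.powers (algebraMap B A π)) _ _).mp h1
      have hker : π ^ m * b ∈ RingHom.ker (algebraMap B A) := by
        rw [RingHom.mem_ker, map_mul, map_pow]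
        exact hm
      refine ⟨n + m, ?_⟩
      have heq : algebraMap B (BlowUp.affineAlgebra B I π) π ^ (n + m) * x =
          algebraMap B (BlowUp.affineAlgebra B I π) (π ^ m * b) := by
        apply Subtype.ext
        change algebraMap B (Localization.Away π) π ^ (n + m) * (x : Localization.Away π) =
          algebraMap B (Localization.Away π) (π ^ m * b)
        rw [map_mul, ← hb, map_pow, pow_add]
        ring
      rw [heq]
      exact Ideal.mem_map_of_mem _ hker
    · rintro ⟨n, hn⟩
      have h1 := hJ hn
      rw [RingHom.mem_ker, map_mul, map_pow] at h1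
      rw [RingHom.mem_ker]
      apply Subtype.ext
      have h2 := congrArg (fun q : BlowUp.affineAlgebra A (I.map (algebraMap B A)) (algebraMap B A π) =>
        (q : Localization.Away (algebraMap B A π))) h1
      simp only [MulMemClass.coe_mul, SubmonoidClass.coe_pow, ZeroMemClass.coe_zero] at h2
      rw [hπ'] at h2
      have hunit : IsUnit (algebraMap A (Localization.Away (algebraMap B A π)) (algebraMap B A π) ^ n) :=
        (IsLocalization.Away.algebraMap_isUnit (algebraMap B A π)).pow n
      exact (hunit.mul_right_eq_zero).mp h2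

end BlQuot

end Groth.Agent.S12097.Aux

namespace Groth.Agent.S12097

/-- Néron's blowup is compatible with closed immersions. For a surjective ring map `B → A` with kernel
`J`, an ideal `I ⊆ B` containing `π`, and the affine blowup algebras `B' = B[I/π] ⊆ B_π`, `A' =
A[IA/π] ⊆ A_π`, the canonical map `B' → A'` (the restriction of `B_π → A_π`, given as a datum with
that compatibility) is surjective with kernel the elements `x` such that `π^n x ∈ J B'` for some
`n`: `A'` is the quotient of `B'/JB'` by its `π`-power torsion. In Néron's situation (`I` the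
inverse image of the maximal ideal of `Λ`, `π` a uniformizer) this is the printed functoriality; the
identity holds for any surjection. -/
theorem result (B A : Type u) [CommRing B] [CommRing A] [Algebra B A]
    (hq : Function.Surjective (algebraMap B A)) (I : Ideal B) (π : B) (hπ : π ∈ I)
    (ψ : BlowUp.affineAlgebra B I π →+* BlowUp.affineAlgebra A (I.map (algebraMap B A)) (algebraMap B A π))
    (hψ : ∀ x : BlowUp.affineAlgebra B I π,
      ((ψ x : BlowUp.affineAlgebra A (I.map (algebraMap B A)) (algebraMap B A π)) : Localization.Away (algebraMap B A π)) =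
        Localization.awayMap (algebraMap B A) π (x : Localization.Away π)) :
    Function.Surjective ψ ∧
      ∀ x : BlowUp.affineAlgebra B I π, x ∈ RingHom.ker ψ ↔
        ∃ n : ℕ, algebraMap B (BlowUp.affineAlgebra B I π) π ^ n * x ∈
          (RingHom.ker (algebraMap B A)).map (algebraMap B (BlowUp.affineAlgebra B I π)) := by
  exact Aux.BlQuot.main B A hq I π ψ hψ

end Groth.Agent.S12097
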