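import Groth.Statements.S12100
import Mathlib
import Groth.Agent.Lib.Helper1PCohA
-- import your own Groth.Agent.* helpers here

set_option autoImplicit false
universe w v u
open CategoryTheory CategoryTheory.Limits
open PCoh

namespace Groth.Agent.S12100

open Groth.Agent.Lib.Helper1.PCohTower Groth.Agent.Lib.Helper17.PCoh10
  Groth.Agent.Lib.Helper17.PCoh12 Groth.Agent.Lib.Helper17.PCoh7

/-- Let C be an abelian category and C₀ a strictly full additive subcategory, quasi-stable under kernels
of epimorphisms and quasi-liftable; let n, i be integers, E a strictly n-pseudo-coherent cochain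
complex, F an n-pseudo-coherent cochain complex (isomorphic in D(C) to a strictly n-pseudo-coherent
one) and u : E ⟶ F an i-quasi-isomorphism (an isomorphism on H^j for j > i, an epimorphism on H^i).
Then u = v ≫ u' with u' : E' ⟶ F a quasi-isomorphism, E' strictly n-pseudo-coherent, and v : E ⟶ E'
a monomorphism in each degree which is an isomorphism in every degree ≥ i. (The source obtains v
equal to the identity in degrees ≥ i; stated here up to isomorphism in those degrees.) -/
theorem result {C : Type u} [Category.{v} C] [Abelian C] [HasDerivedCategory.{w} C]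
    (P : ObjectProperty C) [P.IsClosedUnderIsomorphisms] [P.ContainsZero] (hsum : ∀ X Y : C, P X → P Y → P (X ⨯ Y))
    (hqs : PCoh.IsQuasiStableUnderKernels P) (hql : PCoh.IsQuasiLiftable P)
    (n i : ℤ) (E F : CochainComplex C ℤ) (hE : PCoh.IsStrictPC P n E)
    (hF : ∃ F₀ : CochainComplex C ℤ, PCoh.IsStrictPC P n F₀ ∧ Nonempty (DerivedCategory.Q.obj F₀ ≅ DerivedCategory.Q.obj F))
    (u : E ⟶ F) (hiso : ∀ j : ℤ, i < j → IsIso (HomologicalComplex.homologyMap u j))
    (hepi : Epi (HomologicalComplex.homologyMap u i)) :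
    ∃ (E' : CochainComplex C ℤ) (v : E ⟶ E') (u' : E' ⟶ F), v ≫ u' = u ∧ PCoh.IsStrictPC P n E' ∧ QuasiIso u' ∧
      (∀ j : ℤ, Mono (v.f j)) ∧ (∀ j : ℤ, i ≤ j → IsIso (v.f j)) := by
  by_cases hin : i ≤ n
  · obtain ⟨E', v, u', hvu, hq, hmono, hv⟩ := exists_factorisation i E F u hiso hepi
    refine ⟨E', v, u', hvu, ?_, hq, hmono, hv⟩
    obtain ⟨⟨b, hb⟩, hEP⟩ := hE
    refine ⟨⟨max b i, fun j hj => ?_⟩, fun j hj => ?_⟩
    · have := hv j (le_of_lt (lt_of_le_of_lt (le_max_right _ _) hj))
      exact isZero_of_isIso (v.f j) (hb j (lt_of_le_of_lt (le_max_left _ _) hj))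
    · have := hv j (by omega)
      exact P.prop_of_iso (asIso (v.f j)) (hEP j hj)
  · have hni : n + ((i - n).toNat : ℤ) = i := by
      have := Int.toNat_of_nonneg (show 0 ≤ i - n by omega)
      omega
    obtain ⟨E₁, v₁, u₁, hvu₁, hE₁, hu₁, hmono₁, hv₁⟩ :=
      exists_finite_iteration P hsum hqs hql n F hF (i - n).toNat E hE u
        (by rw [hni]; exact ⟨hiso, hepi⟩)
    obtain ⟨E', v, u', hvu, hq, hmono, hv⟩ := exists_factorisation n E₁ F u₁ hu₁.1 hu₁.2
    refine ⟨E', v₁ ≫ v, u', by rw [Category.assoc, hvu, hvu₁], ?_, hq, fun j => ?_, fun j hj => ?_⟩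
    · obtain ⟨⟨b, hb⟩, hEP⟩ := hE₁
      refine ⟨⟨max b n, fun j hj => ?_⟩, fun j hj => ?_⟩
      · have := hv j (le_of_lt (lt_of_le_of_lt (le_max_right _ _) hj))
        exact isZero_of_isIso (v.f j) (hb j (lt_of_le_of_lt (le_max_left _ _) hj))
      · have := hv j hj
        exact P.prop_of_iso (asIso (v.f j)) (hEP j hj)
    · rw [HomologicalComplex.comp_f]
      have := hmono₁ j
      have := hmono j
      exact mono_comp _ _
    · rw [HomologicalComplex.comp_f]
      have := hv₁ j (by omega)
      have := hv j (by omega)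
      infer_instance

end Groth.Agent.S12100
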