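import Groth.Statements.S12109
import Mathlib
-- import your own Groth.Agent.* helpers here

set_option autoImplicit false
set_option linter.unusedSectionVars false
set_option linter.style.haveILetI false
set_option linter.unusedVariables false
open CategoryTheory CategoryTheory.Limits
universe u
open SGA4

namespace Groth.Agent.S12109
open Opposite

section
variable {C : Type u} [SmallCategory C] {C' : Type u} [SmallCategory C'] (u : C ⥤ C')

/-- left Kan extension along `u.op` on presheaves of sets. -/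
noncomputable abbrev L : (Cᵒᵖ ⥤ Type u) ⥤ (C'ᵒᵖ ⥤ Type u) := u.op.lan

/-- restriction along `u.op`. -/
abbrev R : (C'ᵒᵖ ⥤ Type u) ⥤ (Cᵒᵖ ⥤ Type u) := (Functor.whiskeringLeft Cᵒᵖ C'ᵒᵖ (Type u)).obj u.op

noncomputable abbrev adj : L u ⊣ R u := u.op.lanAdjunction (Type u)

section converse
variable [u.Full] [u.Faithful]

instance isIso_unit : IsIso (adj u).unit := by
  unfold adj
  infer_instance

theorem bijective_map (F G : Cᵒᵖ ⥤ Type u) :
    Function.Bijective (fun φ : F ⟶ G => (L u).map φ) :=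
  ((adj u).fullyFaithfulLOfIsIsoUnit).map_bijective F G

variable (hret : ∀ X' : C', ∃ (X : C) (i : X' ⟶ u.obj X) (r : u.obj X ⟶ X'), i ≫ r = 𝟙 X')
include hret

theorem isIso_of_isIso_whisker {G' H' : C'ᵒᵖ ⥤ Type u} (α : G' ⟶ H')
    (h : IsIso ((R u).map α)) : IsIso α := by
  haveI : ∀ X'', IsIso (α.app X'') := by
    intro X''
    obtain ⟨X, i, r, hir⟩ := hret X''.unop
    haveI : IsIso (α.app (op (u.obj X))) :=
      inferInstanceAs (IsIso (((R u).map α).app (op X)))
    refine ⟨H'.map r.op ≫ inv (α.app (op (u.obj X))) ≫ G'.map i.op, ?_, ?_⟩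
    · have h1 : α.app X'' ≫ H'.map r.op = G'.map r.op ≫ α.app (op (u.obj X)) :=
        (α.naturality r.op).symm
      rw [reassoc_of% h1, IsIso.hom_inv_id_assoc, ← G'.map_comp, ← op_comp, hir]
      simp
    · have h1 : G'.map i.op ≫ α.app X'' = α.app (op (u.obj X)) ≫ H'.map i.op :=
        α.naturality i.op
      rw [Category.assoc, Category.assoc, h1, IsIso.inv_hom_id_assoc, ← H'.map_comp, ← op_comp,
        hir]
      simp
  exact NatIso.isIso_of_isIso_app α

theorem isIso_counit (G' : C'ᵒᵖ ⥤ Type u) : IsIso ((adj u).counit.app G') := by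
  apply isIso_of_isIso_whisker u hret
  have h := (adj u).right_triangle_components G'
  haveI : IsIso ((adj u).unit.app ((R u).obj G')) := inferInstance
  haveI : IsIso ((adj u).unit.app ((R u).obj G') ≫ (R u).map ((adj u).counit.app G')) := by
    rw [h]
    exact IsIso.id _
  exact IsIso.of_isIso_comp_left ((adj u).unit.app ((R u).obj G')) _

instance full_precomp (G' : C'ᵒᵖ ⥤ Type u) : (Functor.Elements.precomp u.op G').Full where
  map_surjective {x y} g := by
    have hp : u.op.map (u.op.preimage g.1) = g.1 := u.op.map_preimage g.1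
    refine ⟨⟨u.op.preimage g.1, ?_⟩, ?_⟩
    · change G'.map (u.op.map (u.op.preimage g.1)) x.2 = y.2
      rw [hp]
      exact g.2
    · apply CategoryOfElements.ext
      exact hp

instance faithful_precomp (G' : C'ᵒᵖ ⥤ Type u) : (Functor.Elements.precomp u.op G').Faithful where
  map_injective {x y} f g h := by
    apply CategoryOfElements.ext
    apply u.op.map_injective
    exact congrArg Subtype.val h

theorem isIndObject_restr (G' : C'ᵒᵖ ⥤ Type u) (hG' : IsIndObject G') :
    IsIndObject (u.op ⋙ G') := by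
  haveI : IsFiltered (CostructuredArrow yoneda G') := hG'.isFiltered
  haveI : IsFiltered (G'.Elementsᵒᵖ) :=
    IsFiltered.of_equivalence (CategoryOfElements.costructuredArrowYonedaEquivalence G').symm
  haveI : IsCofiltered G'.Elements := isCofiltered_of_isFiltered_op _
  haveI : IsCofiltered (u.op ⋙ G').Elements := by
    refine IsCofiltered.of_exists_of_isCofiltered_of_fullyFaithful
      (Functor.Elements.precomp u.op G') (fun d => ?_)
    obtain ⟨X, i, r, hir⟩ := hret d.1.unop
    refine ⟨(u.op ⋙ G').elementsMk (op X) (G'.map r.op d.2), ⟨⟨i.op, ?_⟩⟩⟩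
    change G'.map i.op (G'.map r.op d.2) = d.2
    rw [← Functor.map_comp_apply, ← op_comp, hir]
    simp
  haveI : IsFiltered (CostructuredArrow yoneda (u.op ⋙ G')) :=
    IsFiltered.of_equivalence (CategoryOfElements.costructuredArrowYonedaEquivalence (u.op ⋙ G'))
  haveI : FinallySmall.{u} (CostructuredArrow yoneda (u.op ⋙ G')) :=
    finallySmall_of_essentiallySmall _
  exact isIndObject_of_isFiltered_of_finallySmall _

theorem exists_preimage (G' : C'ᵒᵖ ⥤ Type u) (hG' : IsIndObject G') :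
    ∃ F : Cᵒᵖ ⥤ Type u, IsIndObject F ∧ Nonempty ((L u).obj F ≅ G') := by
  haveI := isIso_counit u hret G'
  exact ⟨u.op ⋙ G', isIndObject_restr u hret G' hG', ⟨asIso ((adj u).counit.app G')⟩⟩

end converse

section forward

/-- `u ⋙ yoneda ≅ yoneda ⋙ u_!`. -/
noncomputable def e : u ⋙ yoneda ≅ yoneda ⋙ L u :=
  Functor.isoWhiskerLeft u (uliftYonedaIsoYoneda.{u}).symm ≪≫
    Presheaf.compULiftYonedaIsoULiftYonedaCompLan.{u} u ≪≫
    Functor.isoWhiskerRight (uliftYonedaIsoYoneda.{u}) (L u)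

theorem e_nat {X Y : C} (f : X ⟶ Y) :
    (e u).hom.app X ≫ (L u).map (yoneda.map f) = yoneda.map (u.map f) ≫ (e u).hom.app Y :=
  ((e u).hom.naturality f).symm

theorem full_faithful_of_bij
    (hbij : ∀ (F G : Cᵒᵖ ⥤ Type u), IsIndObject F → IsIndObject G →
      Function.Bijective (fun φ : F ⟶ G => (L u).map φ)) : u.Full ∧ u.Faithful := by
  constructor
  · constructor
    intro X Y g
    obtain ⟨φ, hφ⟩ := (hbij _ _ (isIndObject_yoneda X) (isIndObject_yoneda Y)).2
      ((e u).inv.app X ≫ yoneda.map g ≫ (e u).hom.app Y)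
    obtain ⟨f, rfl⟩ := yoneda.map_surjective φ
    refine ⟨f, ?_⟩
    apply yoneda.map_injective
    have h1 := e_nat u f
    simp only at hφ
    rw [hφ, Iso.hom_inv_id_app_assoc] at h1
    exact ((cancel_mono ((e u).hom.app Y)).1 h1).symm
  · constructor
    intro X Y f f' h
    apply yoneda.map_injective
    apply (hbij _ _ (isIndObject_yoneda X) (isIndObject_yoneda Y)).1
    have h1 := e_nat u f
    have h2 := e_nat u f'
    rw [h] at h1
    exact (cancel_epi ((e u).hom.app X)).1 (h1.trans h2.symm)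

theorem exists_retract
    (hess : ∀ G' : C'ᵒᵖ ⥤ Type u, IsIndObject G' →
      ∃ F : Cᵒᵖ ⥤ Type u, IsIndObject F ∧ Nonempty ((L u).obj F ≅ G')) (X' : C') :
    ∃ (X : C) (i : X' ⟶ u.obj X) (r : u.obj X ⟶ X'), i ≫ r = 𝟙 X' := by
  obtain ⟨F, ⟨⟨P⟩⟩, ⟨φ⟩⟩ := hess (yoneda.obj X') (isIndObject_yoneda X')
  haveI : PreservesColimitsOfSize.{u, u} (L u) := (adj u).leftAdjoint_preservesColimits
  have hc : IsColimit ((L u).mapCocone P.cocone) := isColimitOfPreserves (L u) P.coconeIsColimit
  have hc' : IsColimit (((evaluation C'ᵒᵖ (Type u)).obj (op X')).mapCocone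
      ((L u).mapCocone P.cocone)) := isColimitOfPreserves _ hc
  obtain ⟨j, z, hz⟩ := Types.jointly_surjective_of_isColimit hc' (φ.inv.app (op X') (𝟙 X'))
  have hz' : ((L u).map (P.ι.app j)).app (op X') z = φ.inv.app (op X') (𝟙 X') := hz
  let α : yoneda.obj (u.obj (P.F.obj j)) ≅ (L u).obj (yoneda.obj (P.F.obj j)) :=
    (e u).app (P.F.obj j)
  obtain ⟨ρ, hρ⟩ : ∃ ρ : yoneda.obj (u.obj (P.F.obj j)) ⟶ yoneda.obj X',
      ρ = α.hom ≫ (L u).map (P.ι.app j) ≫ φ.hom := ⟨_, rfl⟩
  obtain ⟨i, hi⟩ : ∃ i : X' ⟶ u.obj (P.F.obj j), i = α.inv.app (op X') z := ⟨_, rfl⟩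
  refine ⟨P.F.obj j, i, yonedaEquiv ρ, ?_⟩
  have h1 : i ≫ yonedaEquiv ρ = ρ.app (op X') i := by
    have := yonedaEquiv_naturality ρ i
    rw [yonedaEquiv_comp, yonedaEquiv_yoneda_map] at this
    exact this
  rw [h1, hρ, hi]
  change φ.hom.app (op X') (((L u).map (P.ι.app j)).app (op X')
    (α.hom.app (op X') (α.inv.app (op X') z))) = 𝟙 X'
  rw [Iso.inv_hom_id_app_apply, hz', Iso.inv_hom_id_app_apply]

end forward

theorem result' :
    ((∀ (F G : Cᵒᵖ ⥤ Type u), IsIndObject F → IsIndObject G →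
        Function.Bijective (fun φ : F ⟶ G => (u.op.lan : (Cᵒᵖ ⥤ Type u) ⥤ (C'ᵒᵖ ⥤ Type u)).map φ)) ∧
      (∀ G' : C'ᵒᵖ ⥤ Type u, IsIndObject G' →
        ∃ F : Cᵒᵖ ⥤ Type u, IsIndObject F ∧
          Nonempty ((u.op.lan : (Cᵒᵖ ⥤ Type u) ⥤ (C'ᵒᵖ ⥤ Type u)).obj F ≅ G'))) ↔
    ((u.Full ∧ u.Faithful) ∧
      ∀ X' : C', ∃ (X : C) (i : X' ⟶ u.obj X) (r : u.obj X ⟶ X'), i ≫ r = 𝟙 X') := by
  constructor
  · rintro ⟨hbij, hess⟩
    exact ⟨full_faithful_of_bij u hbij, exists_retract u hess⟩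
  · rintro ⟨⟨hfull, hfaith⟩, hret⟩
    haveI := hfull
    haveI := hfaith
    exact ⟨fun F G _ _ => bijective_map u F G, fun G' hG' => exists_preimage u hret G' hG'⟩

end


/-- Let `u : C ⥤ C'` be a functor between small categories and `u_!` the left Kan extension functor on
presheaves of sets, whose restriction to ind-representable presheaves is the induced functor `Ind C
⥤ Ind C'`. Then `Ind(u)` is an equivalence — `u_!` is bijective on morphisms between
ind-representable presheaves on `C` and every ind-representable presheaf on `C'` is isomorphic to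
`u_! F` for some ind-representable `F` — if and only if `u` is full and faithful and every object of
`C'` is a retract (direct factor) of an object `u X`. -/
theorem result
    {C : Type u} [SmallCategory C] {C' : Type u} [SmallCategory C'] (u : C ⥤ C') :
    ((∀ (F G : Cᵒᵖ ⥤ Type u), IsIndObject F → IsIndObject G →
        Function.Bijective (fun φ : F ⟶ G => (u.op.lan : (Cᵒᵖ ⥤ Type u) ⥤ (C'ᵒᵖ ⥤ Type u)).map φ)) ∧
      (∀ G' : C'ᵒᵖ ⥤ Type u, IsIndObject G' →
        ∃ F : Cᵒᵖ ⥤ Type u, IsIndObject F ∧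
          Nonempty ((u.op.lan : (Cᵒᵖ ⥤ Type u) ⥤ (C'ᵒᵖ ⥤ Type u)).obj F ≅ G'))) ↔
    ((u.Full ∧ u.Faithful) ∧
      ∀ X' : C', ∃ (X : C) (i : X' ⟶ u.obj X) (r : u.obj X ⟶ X'), i ≫ r = 𝟙 X') := by
  exact result' u

end Groth.Agent.S12109
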