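import Groth.Statements.S12111
import Mathlib
import Groth.Agent.Lib.Helper27ClosedTransfer
import Groth.Agent.Lib.Helper27CMRegPn
import Groth.Agent.Lib.Helper27GlobGenPn
import Groth.Agent.Lib.Helper27SplitPn
import Groth.Agent.Lib.Helper27QProjCover2
import Groth.Agent.Lib.Helper4DevI

set_option autoImplicit false
universe u
open CategoryTheory CategoryTheory.Limits AlgebraicGeometry
open Pic13

namespace Groth.Agent.S12111

/-- Let k be an algebraically closed field, i : X ⟶ P^n_k a closed immersion and O_X(1) = i^*O(1). If a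
coherent O_X-module F is m-regular (H^q(X, F(m - q)) = 0 for every q ≥ 1) then for every integer n'
≥ m, F is n'-regular and F(n') is generated by its global sections. (The published statement is for
a projective k-scheme with an ample O_X(1) generated by its sections at the points of the support of
F; this row is the case of a closed subscheme of projective space.) -/
theorem result (k : Type u) [Field k] [IsAlgClosed k] (n : ℕ) {X : Scheme.{u}}
    (i : X ⟶ CohB1.ProjSpace n k) [IsClosedImmersion i] (F : X.Modules) (hF : Coh.IsCoh F) (m : ℤ)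
    (h : Pic13.IsMRegular k i F m) (n' : ℤ) (hn' : m ≤ n') :
    Pic13.IsMRegular k i F n' ∧ Curv2.IsGloballyGenerated (Pic13.twistOn k i F n') := by
  classical
  have hN := Groth.Agent.Lib.Helper27QProjCover.isNoetherian_projSpace n k
  haveI : IsLocallyNoetherian (CohB1.ProjSpace n k) := inferInstance
  have hF' : Coh.IsCoh ((Scheme.Modules.pushforward i).obj F) :=
    Groth.Agent.Lib.Helper4.Dev.isCoh_push_closed i F hF
  -- tensor inverses of the twisting modules
  have hinv : ∀ d : ℤ, Nonempty (CohB1.tensorMod (Twist.twistProjSpace n k d)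
      (Twist.twistProjSpace n k (-d)) ≅ Coh.structureModule (CohB1.ProjSpace n k)) := by
    intro d
    obtain ⟨e⟩ := Groth.Agent.Lib.Helper27SerreVanPn.nonempty_twist_tensor_iso n k d (-d)
    obtain ⟨e0⟩ := Groth.Agent.Lib.Helper27SplitPn.nonempty_twist_zero_iso k n
    rw [add_neg_cancel] at e
    exact ⟨e ≪≫ e0⟩
  have hinv' : ∀ d : ℤ, Nonempty (CohB1.tensorMod (Twist.twistProjSpace n k (-d))
      (Twist.twistProjSpace n k d) ≅ Coh.structureModule (CohB1.ProjSpace n k)) := by
    intro d
    obtain ⟨e⟩ := Groth.Agent.Lib.Helper27SerreVanPn.nonempty_twist_tensor_iso n k (-d) d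
    obtain ⟨e0⟩ := Groth.Agent.Lib.Helper27SplitPn.nonempty_twist_zero_iso k n
    rw [neg_add_cancel] at e
    exact ⟨e ≪≫ e0⟩
  have key : ∀ (d : ℤ) (q : ℕ), Subsingleton (Coh.HH X (Pic13.twistOn k i F d) q) ↔
      Subsingleton (Coh.HH (CohB1.ProjSpace n k)
        (CohB1.tensorMod ((Scheme.Modules.pushforward i).obj F) (Twist.twistProjSpace n k d)) q) := by
    intro d q
    obtain ⟨e⟩ := hinv d
    obtain ⟨e'⟩ := hinv' d
    exact Groth.Agent.Lib.Helper27ClosedTransfer.subsingleton_HH_twist_iff i
      (Twist.twistProjSpace n k d) (Twist.twistProjSpace n k (-d)) e e' F q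
  have hreg' : ∀ q : ℕ, 1 ≤ q → Subsingleton (Coh.HH (CohB1.ProjSpace n k)
      (CohB1.tensorMod ((Scheme.Modules.pushforward i).obj F)
        (Twist.twistProjSpace n k (m - q))) q) := fun q hq => (key _ q).1 (h q hq)
  obtain ⟨t, rfl⟩ : ∃ t : ℕ, n' = m + t := ⟨(n' - m).toNat, by omega⟩
  have hreg'' := Groth.Agent.Lib.Helper27CMRegPn.regular_add_pn n k
    ((Scheme.Modules.pushforward i).obj F) hF'.1 m hreg' t
  refine ⟨fun q hq => (key _ q).2 (hreg'' q hq), ?_⟩
  have hM : Curv2.IsMRegular k n ((Scheme.Modules.pushforward i).obj F) m :=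
    fun q hq _ => hreg' q hq
  have hgg := Groth.Agent.Lib.Helper27GlobGenPn.isGloballyGenerated_of_isMRegular k n
    ((Scheme.Modules.pushforward i).obj F) hF' m hM (m + t) (by omega)
  obtain ⟨e⟩ := hinv (m + t)
  obtain ⟨e'⟩ := hinv' (m + t)
  exact Groth.Agent.Lib.Helper27ClosedTransfer.isGloballyGenerated_of_push i _
    (Groth.Agent.Lib.Helper23.RestrTensor.isGloballyGenerated_of_iso
      (Groth.Agent.Lib.Helper27ProjFormula.projIsoR i _ _ e e' F).symm hgg)

end Groth.Agent.S12111
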