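import Groth.Statements.S12113
import Mathlib
import Groth.Agent.Lib.Helper11Central

set_option autoImplicit false
universe u
open CategoryTheory CategoryTheory.Limits MonoidalCategory CartesianMonoidalCategory MonObj AlgebraicGeometry
open SGA7

namespace Groth.Agent.S12113

section Aux
open Groth.Agent.Lib.Helper11.Descend Groth.Agent.Lib.Helper11 GrpObj

universe u₁ v₁
variable {C : Type u₁} [Category.{v₁} C] [CartesianMonoidalCategory C]
  (J : GrothendieckTopology C) [J.Subcanonical]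
  {P G E E' : C} [GrpObj P] [GrpObj G] [GrpObj E] [GrpObj E']

lemma grp_aux {Γ : Type*} [Group Γ] (a b c d : Γ) : a * b * c * (d * b * c)⁻¹ = a * d⁻¹ := by
  group

theorem isMonHom_of_bitorsor
    (u : G ⟶ E) (v : E ⟶ P) [IsMonHom u] [IsMonHom v]
    (hpb : IsPullback (fst E G) ((E ◁ u) ≫ μ[E]) v v) (hv : secSieve v ∈ J P)
    (u' : G ⟶ E') (v' : E' ⟶ P) [IsMonHom u'] [IsMonHom v']
    (hpb' : IsPullback (fst E' G) ((E' ◁ u') ≫ μ[E']) v' v')
    (hPP : ∀ c : P ⊗ P ⟶ G, lift (𝟙 P) (toUnit P ≫ η[P]) ≫ c = 1 →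
      lift (toUnit P ≫ η[P]) (𝟙 P) ≫ c = 1 → c = 1)
    (f : E ⟶ E') (hfv : f ≫ v' = v) (h1 : η[E] ≫ f = η[E'])
    (hl : ∀ (T : C) (g : T ⟶ G) (x : T ⟶ E), ((g ≫ u) * x) ≫ f = (g ≫ u') * (x ≫ f))
    (hr : ∀ (T : C) (g : T ⟶ G) (x : T ⟶ E), (x * (g ≫ u)) ≫ f = (x ≫ f) * (g ≫ u')) :
    IsMonHom f := by
  obtain ⟨d₀, hd₀⟩ : ∃ d₀ : E ⊗ E ⟶ E', d₀ = ((fst E E * snd E E) ≫ f) *
      ((fst E E ≫ f) * (snd E E ≫ f))⁻¹ := ⟨_, rfl⟩
  have hfv' : ∀ {W : C} (z : W ⟶ E), (z ≫ f) ≫ v' = z ≫ v := by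
    intro W z; rw [Category.assoc, hfv]
  have hd₀v : d₀ ≫ v' = 1 := by
    have eA : ((fst E E * snd E E) ≫ f) ≫ v' = (fst E E ≫ v) * (snd E E ≫ v) := by
      rw [hfv']; exact MonObj.mul_comp _ _ v
    have eB : ((fst E E ≫ f) * (snd E E ≫ f)) ≫ v' = (fst E E ≫ v) * (snd E E ≫ v) := by
      rw [MonObj.mul_comp (fst E E ≫ f) (snd E E ≫ f) v', hfv', hfv']
    rw [hd₀, MonObj.mul_comp ((fst E E * snd E E) ≫ f) _ v', GrpObj.inv_comp, eA, eB,
      mul_inv_cancel]
  obtain ⟨δ, hδ⟩ := ExtSeq.exists_kerLift u' v' hpb' d₀ hd₀v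
  have hpull : ∀ {W : C} (a : W ⟶ E ⊗ E), a ≫ d₀ = (((a ≫ fst E E) * (a ≫ snd E E)) ≫ f) *
      (((a ≫ fst E E) ≫ f) * ((a ≫ snd E E) ≫ f))⁻¹ := by
    intro W a
    rw [hd₀, MonObj.comp_mul, GrpObj.comp_inv, MonObj.comp_mul, ← Category.assoc, MonObj.comp_mul,
      ← Category.assoc, ← Category.assoc]
  have hone : ∀ {W : C}, (1 : W ⟶ E) ≫ f = 1 := by
    intro W
    rw [Hom.one_def, Category.assoc, h1, ← Hom.one_def]
  have hinv : ∀ ⦃W : C⦄ (a b : W ⟶ E ⊗ E), a ≫ (v ⊗ₘ v) = b ≫ (v ⊗ₘ v) → a ≫ δ = b ≫ δ := by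
    intro W a b hab
    have e1 : (a ≫ fst E E) ≫ v = (b ≫ fst E E) ≫ v := by
      have := congrArg (fun m => m ≫ fst P P) hab
      simpa only [Category.assoc, tensorHom_fst] using this
    have e2 : (a ≫ snd E E) ≫ v = (b ≫ snd E E) ≫ v := by
      have := congrArg (fun m => m ≫ snd P P) hab
      simpa only [Category.assoc, tensorHom_snd] using this
    obtain ⟨h, hh⟩ := ExtSeq.exists_diff u v hpb _ _ e1
    obtain ⟨h', hh'⟩ := ExtSeq.exists_diff u v hpb _ _ e2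
    -- normality
    have e3 : (a ≫ snd E E) ≫ v = ((h ≫ u) * (a ≫ snd E E)) ≫ v := by
      have huv : (h ≫ u) ≫ v = 1 := by
        have := ExtSeq.exists_diff u v hpb (1 : W ⟶ E) (1 : W ⟶ E) rfl
        -- u ≫ v = 1 follows from the square
        have hw := hpb.w
        have h2 := congrArg (fun m => lift (1 : W ⟶ E) h ≫ m) hw
        simp only [← Category.assoc, lift_fst] at h2
        rw [Category.assoc (lift 1 h), Groth.Agent.Lib.Helper11Kummer.whisker_mul_eq,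
          MonObj.comp_mul, lift_fst, ← Category.assoc, lift_snd, _root_.one_mul] at h2
        rw [← h2, MonObj.one_comp]
      rw [MonObj.mul_comp, huv, _root_.one_mul]
    obtain ⟨h'', hh''⟩ := ExtSeq.exists_diff u v hpb _ _ e3
    apply ExtSeq.u_injective u' v' hpb'
    rw [Category.assoc, Category.assoc, hδ, hpull, hpull, ← hh, ← hh']
    set x₁ := a ≫ fst E E
    set y₁ := a ≫ snd E E
    have k1 : (x₁ * (h ≫ u)) * (y₁ * (h' ≫ u)) = ((x₁ * y₁) * (h'' ≫ u)) * (h' ≫ u) := by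
      calc (x₁ * (h ≫ u)) * (y₁ * (h' ≫ u)) = x₁ * ((h ≫ u) * y₁) * (h' ≫ u) := by group
        _ = x₁ * (y₁ * (h'' ≫ u)) * (h' ≫ u) := by rw [hh'']
        _ = ((x₁ * y₁) * (h'' ≫ u)) * (h' ≫ u) := by group
    have k2 : ((x₁ * (h ≫ u)) * (y₁ * (h' ≫ u))) ≫ f
        = ((x₁ * y₁) ≫ f) * (h'' ≫ u') * (h' ≫ u') := by
      rw [k1, hr, hr]
    have k3 : ((x₁ * (h ≫ u)) ≫ f) * ((y₁ * (h' ≫ u)) ≫ f)
        = ((x₁ ≫ f) * (y₁ ≫ f)) * (h'' ≫ u') * (h' ≫ u') := by
      rw [hr, hr]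
      have k4 : (h ≫ u') * (y₁ ≫ f) = (y₁ ≫ f) * (h'' ≫ u') := by
        rw [← hl, ← hh'', hr]
      calc (x₁ ≫ f) * (h ≫ u') * ((y₁ ≫ f) * (h' ≫ u'))
          = (x₁ ≫ f) * ((h ≫ u') * (y₁ ≫ f)) * (h' ≫ u') := by group
        _ = (x₁ ≫ f) * ((y₁ ≫ f) * (h'' ≫ u')) * (h' ≫ u') := by rw [k4]
        _ = ((x₁ ≫ f) * (y₁ ≫ f)) * (h'' ≫ u') * (h' ≫ u') := by group
    rw [k2, k3]
    exact (grp_aux _ _ _ _).symm
  obtain ⟨δ', hδ'⟩ := exists_desc J (v ⊗ₘ v) (Central.secSieve_tensorHom J v hv) δ hinv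
  have hδ1 : δ' = 1 := by
    apply hPP
    · apply hom_ext_of_secSieve J v hv
      have e1 : v ≫ lift (𝟙 P) (toUnit P ≫ η[P]) = lift (𝟙 E) (toUnit E ≫ η[E]) ≫ (v ⊗ₘ v) := by
        apply CartesianMonoidalCategory.hom_ext
        · simp
        · simp [IsMonHom.one_hom]
      rw [← Category.assoc, e1, Category.assoc, hδ', MonObj.comp_one]
      apply ExtSeq.u_injective u' v' hpb'
      rw [Category.assoc, hδ, hpull, lift_fst, lift_snd, MonObj.one_comp, ← Hom.one_def, hone]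
      group
    · apply hom_ext_of_secSieve J v hv
      have e1 : v ≫ lift (toUnit P ≫ η[P]) (𝟙 P) = lift (toUnit E ≫ η[E]) (𝟙 E) ≫ (v ⊗ₘ v) := by
        apply CartesianMonoidalCategory.hom_ext
        · simp [IsMonHom.one_hom]
        · simp
      rw [← Category.assoc, e1, Category.assoc, hδ', MonObj.comp_one]
      apply ExtSeq.u_injective u' v' hpb'
      rw [Category.assoc, hδ, hpull, lift_fst, lift_snd, MonObj.one_comp, ← Hom.one_def, hone]
      group
  have hd₀1 : d₀ = 1 := by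
    rw [← hδ, ← hδ', hδ1, MonObj.comp_one, MonObj.one_comp]
  refine ⟨h1, ?_⟩
  have h3 := hpull (𝟙 (E ⊗ E))
  rw [hd₀1, Category.id_comp, Category.id_comp, Category.id_comp] at h3
  have h4 := mul_inv_eq_one.mp h3.symm
  have e5 : fst E E * snd E E = μ[E] := by
    rw [Hom.mul_def, lift_fst_snd, Category.id_comp]
  have e6 : (fst E E ≫ f) * (snd E E ≫ f) = (f ⊗ₘ f) ≫ μ[E'] := by
    rw [Hom.mul_def]
    congr 1
    apply CartesianMonoidalCategory.hom_ext <;> simp
  rw [← e5, ← e6]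
  exact h4

end Aux


/-- Group schemes, fppf site: over a base scheme S, let P and G be S-group schemes with G commutative,
and let u : G → E, v : E → P and u' : G → E', v' : E' → P be homomorphisms forming sequences 1 → G →
E → P → 1 and 1 → G → E' → P → 1 exact for the fppf topology. Suppose every morphism of S-schemes P
×_S P → G trivial on P × e_P and on e_P × P is trivial. Let f : E → E' be a morphism of S-schemes
over P (f ≫ v' = v) and under G (u ≫ f = u'), preserving the unit section, and compatible with left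
and right translations by G: for all points g of G and x of E with values in any S-scheme, f(u(g) x)
= u'(g) f(x) and f(x u(g)) = f(x) u'(g). Then f is a homomorphism of S-group schemes: such
extensions have no non-multiplicative morphisms of their underlying rigidified bitorsors. (The
published statement is for sheaves of groups on an arbitrary topos and phrased as full faithfulness
of the functor from extensions to rigidified bitorsors; this row is the case of representable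
sheaves on the fppf site of S, with G commutative so that the defect of multiplicativity descends to
P ×_S P as in the printed argument. Morphisms to a group scheme form a group; trivial means equal to
its unit.) -/
theorem result (S : Scheme.{u})
    (P G E E' : Over S) [GrpObj P] [GrpObj G] [GrpObj E] [GrpObj E'] [IsCommMonObj G]
    (u : G ⟶ E) (v : E ⟶ P) (hex : NonAbH1.IsExactSeq Scheme.fppfPrecoverage u v)
    (u' : G ⟶ E') (v' : E' ⟶ P) (hex' : NonAbH1.IsExactSeq Scheme.fppfPrecoverage u' v')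
    (hPP : ∀ c : P ⊗ P ⟶ G, lift (𝟙 P) (toUnit P ≫ η[P]) ≫ c = 1 → lift (toUnit P ≫ η[P]) (𝟙 P) ≫ c = 1 → c = 1)
    (f : E ⟶ E') (hv : f ≫ v' = v) (hu : u ≫ f = u') (h1 : η[E] ≫ f = η[E'])
    (hl : ∀ (T : Over S) (g : T ⟶ G) (x : T ⟶ E), ((g ≫ u) * x) ≫ f = (g ≫ u') * (x ≫ f))
    (hr : ∀ (T : Over S) (g : T ⟶ G) (x : T ⟶ E), (x * (g ≫ u)) ≫ f = (x ≫ f) * (g ≫ u')) :
    IsMonHom f := by
  obtain ⟨_, hv', huv, hpb, hloc⟩ := hex
  obtain ⟨hu', hv'', huv', hpb', hloc'⟩ := hex'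
  have hsec := Groth.Agent.Lib.Helper11.ExtSeq.secSieve_mem v hloc
  exact isMonHom_of_bitorsor (Groth.Agent.Lib.Helper11.ExtSeq.JS S) u v hpb hsec u' v' hpb' hPP f
    hv h1 hl hr

end Groth.Agent.S12113
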