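import Groth.Statements.S12114
import Groth.Agent.Lib.Helper5SopChainC
import Groth.Agent.Lib.Helper5CMDim
import Groth.Agent.S0386

set_option autoImplicit false
universe u
open CategoryTheory CategoryTheory.Limits AlgebraicGeometry
open EtDl

namespace Groth.Agent.S12114

open Groth.Agent.Lib.Helper5.SopChainC Groth.Agent.Lib.Helper5.FiberMor
  Groth.Agent.Lib.Helper3.FlatFibDim Groth.Agent.Lib.Helper5.CMDim
  Groth.Agent.Lib.Helper20.FlatDesc

/-- Let k be an algebraically closed field, X a k-scheme of finite type whose local rings are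
Cohen–Macaulay, and u, v : X ⟶ 𝔸^ι_k (ι a finite index type) two k-morphisms which are locally
quasi-finite and flat. Every closed point x of X has an open neighbourhood U together with a finite
chain of k-morphisms w_0, …, w_m : U ⟶ 𝔸^ι_k (morphisms over Spec k, U carrying the structure map of
X), each locally quasi-finite and flat, with w_0 = u|_U, w_m = v|_U and such that w_{j+1} differs
from w_j in at most one coordinate function. (The published statement asks only for morphisms w_j,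
which would make the assertion trivial; the printed argument produces w_j that are quasi-finite and
flat near x, via systems of parameters of the local ring, and that is what is stated here.) -/
theorem result (k : Type u) [Field k] [IsAlgClosed k]
    (X : Scheme.{u}) [X.Over (Spec (CommRingCat.of k))] [LocallyOfFiniteType (X ↘ Spec (CommRingCat.of k))]
    [QuasiCompact (X ↘ Spec (CommRingCat.of k))]
    (hCM : ∀ y : X, LocCoh.IsCohenMacaulayLocalRing (X.presheaf.stalk y)) (ι : Type u) [Finite ι]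
    (u v : X ⟶ AffineSpace ι (Spec (CommRingCat.of k)))
    (hu : u ≫ (AffineSpace ι (Spec (CommRingCat.of k)) ↘ Spec (CommRingCat.of k)) = X ↘ Spec (CommRingCat.of k))
    (hv : v ≫ (AffineSpace ι (Spec (CommRingCat.of k)) ↘ Spec (CommRingCat.of k)) = X ↘ Spec (CommRingCat.of k))
    [LocallyQuasiFinite u] [Flat u] [LocallyQuasiFinite v] [Flat v] (x : X) (hx : IsClosed ({x} : Set X)) :
    ∃ (U : X.Opens), x ∈ U ∧ ∃ (m : ℕ) (w : Fin (m + 1) → ((U : Scheme.{u}) ⟶ AffineSpace ι (Spec (CommRingCat.of k)))),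
      w 0 = U.ι ≫ u ∧ w (Fin.last m) = U.ι ≫ v ∧
      (∀ j : Fin (m + 1), LocallyQuasiFinite (w j) ∧ Flat (w j) ∧
        w j ≫ (AffineSpace ι (Spec (CommRingCat.of k)) ↘ Spec (CommRingCat.of k)) = U.ι ≫ (X ↘ Spec (CommRingCat.of k))) ∧
      (∀ j : Fin m, ∃ i : ι, ∀ i' : ι, i' ≠ i →
        (w j.castSucc).appTop (AffineSpace.coord (Spec (CommRingCat.of k)) i') =
          (w j.succ).appTop (AffineSpace.coord (Spec (CommRingCat.of k)) i')) := by
  classical
  set π := (AffineSpace ι (Spec (CommRingCat.of k)) ↘ Spec (CommRingCat.of k)) with hπ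
  obtain ⟨_, ⟨U₀, hU₀ : IsAffineOpen U₀, rfl⟩, hxU₀, -⟩ :=
    X.isBasis_affineOpens.exists_subset_of_mem_open (Set.mem_univ x) isOpen_univ
  let R : CommRingCat.{u} := Γ(X, U₀)
  let j₀ : Spec R ⟶ X := hU₀.fromSpec
  haveI : IsOpenImmersion j₀ := inferInstanceAs (IsOpenImmersion hU₀.fromSpec)
  let φ : CommRingCat.of k ⟶ R := Spec.preimage (j₀ ≫ (X ↘ Spec (CommRingCat.of k)))
  have hφ' : Spec.map φ = j₀ ≫ (X ↘ Spec (CommRingCat.of k)) := Spec.map_preimage _
  haveI : LocallyOfFiniteType (Spec.map φ) := by rw [hφ']; infer_instance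
  have hφ : φ.hom.FiniteType :=
    (HasRingHomProperty.Spec_iff (P := @LocallyOfFiniteType)).mp inferInstance
  let y : Spec R := hU₀.primeIdealOf ⟨x, hxU₀⟩
  have hy : j₀ y = x := hU₀.fromSpec_primeIdealOf ⟨x, hxU₀⟩
  have hyc : IsClosed ({y} : Set (Spec R)) := by
    have : ({y} : Set (Spec R)) = j₀ ⁻¹' {x} := by
      ext z
      simp only [Set.mem_singleton_iff, Set.mem_preimage]
      constructor
      · rintro rfl; exact hy
      · intro hz; exact j₀.isOpenEmbedding.injective (hz.trans hy.symm)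
    rw [this]
    exact hx.preimage j₀.continuous
  have hCMy : LocCoh.IsCohenMacaulayLocalRing ((Spec R).presheaf.stalk y) :=
    isoInv_cm _ _ (asIso (j₀.stalkMap y)).commRingCatIsoToRingEquiv (hCM (j₀ y))
  haveI : LocallyOfFiniteType π := inferInstance
  haveI : LocallyOfFiniteType (u ≫ π) := by rw [hu]; infer_instance
  haveI : LocallyOfFiniteType u := locallyOfFiniteType_of_comp u π
  haveI : LocallyOfFiniteType (v ≫ π) := by rw [hv]; infer_instance
  haveI : LocallyOfFiniteType v := locallyOfFiniteType_of_comp v π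
  have hd : FlatMor.fibreDimAt (Spec.map φ) y = ((Nat.card ι : ℕ) : WithBot ℕ∞) := by
    rw [hφ', fibreDimAt_comp_of_isOpenImmersion, ← hu, fibreDimAt_comp_eq_of_flat_lqf u π,
      fibreDimAt_affineSpace_gen]
  have hu₀ : (j₀ ≫ u) ≫ π = Spec.map φ := by rw [Category.assoc, hu, hφ']
  have hv₀ : (j₀ ≫ v) ≫ π = Spec.map φ := by rw [Category.assoc, hv, hφ']
  have hqu : (j₀ ≫ u).QuasiFiniteAt y := Scheme.Hom.quasiFiniteAt (j₀ ≫ u) y
  have hqv : (j₀ ≫ v).QuasiFiniteAt y := Scheme.Hom.quasiFiniteAt (j₀ ≫ v) y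
  obtain ⟨m, W, hW0, hWl, hW, hWc⟩ :=
    affine_chain k φ hφ y hyc hCMy ι hd (j₀ ≫ u) (j₀ ≫ v) hu₀ hv₀ hqu hqv
  haveI : IsLocallyNoetherian (AffineSpace ι (Spec (CommRingCat.of k))) :=
    LocallyOfFiniteType.isLocallyNoetherian π
  haveI hft : ∀ j, LocallyOfFiniteType (W j) := fun j => by
    haveI : LocallyOfFiniteType (W j ≫ π) := by rw [(hW j).1]; infer_instance
    exact locallyOfFiniteType_of_comp (W j) π
  haveI hfp : ∀ j, LocallyOfFinitePresentation (W j) := fun j =>
    LocallyOfFinitePresentation.iff_locallyOfFiniteType.mpr (hft j)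
  let Oset : Set (Spec R) :=
    ⋂ j, ((W j).quasiFiniteLocus : Set (Spec R)) ∩ {z | ((W j).stalkMap z).hom.Flat}
  have hOopen : IsOpen Oset := isOpen_iInter_of_finite
    (fun j => ((W j).quasiFiniteLocus.2).inter (Groth.Agent.S0386.result (W j)))
  let O : (Spec R).Opens := ⟨Oset, hOopen⟩
  have hyO : y ∈ O := Set.mem_iInter.mpr (fun j => ⟨(hW j).2.1, (hW j).2.2⟩)
  let U : X.Opens := j₀ ''ᵁ O
  have hxU : x ∈ U := ⟨y, hyO, hy⟩
  refine ⟨U, hxU, m, ?_⟩
  have hrange : Set.range U.ι ⊆ Set.range j₀ := by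
    rw [Scheme.Opens.range_ι]
    rintro _ ⟨z, _, rfl⟩
    exact ⟨z, rfl⟩
  let l : (U : Scheme.{u}) ⟶ Spec R := IsOpenImmersion.lift j₀ U.ι hrange
  have hl : l ≫ j₀ = U.ι := IsOpenImmersion.lift_fac _ _ _
  haveI : IsOpenImmersion l := by
    haveI : IsOpenImmersion (l ≫ j₀) := by rw [hl]; infer_instance
    exact IsOpenImmersion.of_comp l j₀
  have hlO : ∀ p : U, l p ∈ Oset := by
    intro p
    have h1 : j₀ (l p) = U.ι p := by rw [← Scheme.Hom.comp_apply, hl]
    obtain ⟨z, hzO, hz⟩ : (p : X) ∈ j₀ ''ᵁ O := p.2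
    have h2 : l p = z := j₀.isOpenEmbedding.injective (h1.trans hz.symm)
    exact h2 ▸ hzO
  refine ⟨fun j => l ≫ W j, ?_, ?_, ?_, ?_⟩
  · change l ≫ W 0 = U.ι ≫ u
    rw [hW0, ← Category.assoc, hl]
  · change l ≫ W (Fin.last m) = U.ι ≫ v
    rw [hWl, ← Category.assoc, hl]
  · intro j
    refine ⟨?_, ?_, ?_⟩
    · haveI : LocallyOfFiniteType (l ≫ W j) := inferInstance
      rw [← Scheme.Hom.quasiFiniteLocus_eq_top_iff, Scheme.Hom.quasiFiniteLocus_comp]
      ext p
      simp only [TopologicalSpace.Opens.coe_top, Set.mem_univ, iff_true]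
      exact (Set.mem_iInter.mp (hlO p) j).1
    · rw [Flat.iff_flat_stalkMap]
      intro p
      exact (stalkMap_comp_iff_left RingHom.Flat.respectsIso l (W j) p).mpr
        (Set.mem_iInter.mp (hlO p) j).2
    · rw [Category.assoc, (hW j).1, hφ', ← Category.assoc, hl]
  · intro j
    obtain ⟨i, hi⟩ := hWc j
    refine ⟨i, fun i' hi' => ?_⟩
    change (l ≫ W j.castSucc).appTop _ = (l ≫ W j.succ).appTop _
    rw [Scheme.Hom.comp_appTop, Scheme.Hom.comp_appTop, CommRingCat.comp_apply,
      CommRingCat.comp_apply, hi i' hi']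

end Groth.Agent.S12114
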