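import Groth.Statements.S1212
import Mathlib
import Groth.Agent.Lib.Helper13Fiber
import Groth.Agent.Lib.Helper14LocalFree2
import Groth.Agent.S1193
import Groth.Agent.S1200

set_option autoImplicit false
universe u
open FlatMor

namespace Groth.Agent.S1212

section Free

open TensorProduct IsLocalRing

variable {R : Type u} [CommRing R]

theorem map_mem_smul_top {M M' : Type*} [AddCommGroup M] [Module R M] [AddCommGroup M'] [Module R M']
    (I : Ideal R) (g : M →ₗ[R] M') {x : M} (hx : x ∈ (I • ⊤ : Submodule R M)) :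
    g x ∈ (I • ⊤ : Submodule R M') := by
  have : g x ∈ Submodule.map g (I • ⊤ : Submodule R M) := ⟨x, hx, rfl⟩
  rw [Submodule.map_smul''] at this
  exact (smul_mono_right I le_top : I • _ ≤ I • (⊤ : Submodule R M')) this

/-- every element of `(R/I) ⊗ M` is `1 ⊗ n` -/
theorem exists_one_tmul {M : Type*} [AddCommGroup M] [Module R M] (I : Ideal R)
    (z : (R ⧸ I) ⊗[R] M) : ∃ n : M, z = (1 : R ⧸ I) ⊗ₜ[R] n := by
  induction z using TensorProduct.induction_on with
  | zero => exact ⟨0, by simp⟩
  | tmul a m =>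
    obtain ⟨r, rfl⟩ := Ideal.Quotient.mk_surjective a
    refine ⟨r • m, ?_⟩
    rw [← TensorProduct.smul_tmul]
    congr 1
    rw [← Ideal.Quotient.algebraMap_eq, Algebra.smul_def, mul_one]
  | add x y hx hy =>
    obtain ⟨a, rfl⟩ := hx
    obtain ⟨b, rfl⟩ := hy
    exact ⟨a + b, by rw [TensorProduct.tmul_add]⟩

theorem one_tmul_eq_zero_iff {M : Type*} [AddCommGroup M] [Module R M] (I : Ideal R) (n : M) :
    (1 : R ⧸ I) ⊗ₜ[R] n = 0 ↔ n ∈ (I • ⊤ : Submodule R M) := by
  rw [← (TensorProduct.quotTensorEquivQuotSMul M I).map_eq_zero_iff]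
  have : (TensorProduct.quotTensorEquivQuotSMul M I) ((1 : R ⧸ I) ⊗ₜ[R] n) =
      Submodule.Quotient.mk n := by
    have := TensorProduct.quotTensorEquivQuotSMul_mk_tmul I (1 : R) n
    simpa using this
  rw [this, Submodule.Quotient.mk_eq_zero]

theorem lTensor_quotient_injective_of {M M' : Type*} [AddCommGroup M] [Module R M] [AddCommGroup M']
    [Module R M'] (I : Ideal R) (g : M →ₗ[R] M')
    (hg : ∀ n, g n ∈ (I • ⊤ : Submodule R M') → n ∈ (I • ⊤ : Submodule R M)) :
    Function.Injective (g.lTensor (R ⧸ I)) := by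
  rw [injective_iff_map_eq_zero]
  intro z hz
  obtain ⟨n, rfl⟩ := exists_one_tmul I z
  rw [LinearMap.lTensor_tmul, one_tmul_eq_zero_iff] at hz
  rw [one_tmul_eq_zero_iff]
  exact hg n hz

theorem exists_leftInverse_of [IsLocalRing R] {M M' : Type*} [AddCommGroup M] [Module R M]
    [AddCommGroup M'] [Module R M'] [Module.Finite R M] [Module.Finite R M'] [Module.Free R M']
    (g : M →ₗ[R] M')
    (hg : ∀ n, g n ∈ (maximalIdeal R • ⊤ : Submodule R M') → n ∈ (maximalIdeal R • ⊤ : Submodule R M)) :
    ∃ l' : M' →ₗ[R] M, l' ∘ₗ g = LinearMap.id := by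
  have hginj0 : Function.Injective (g.lTensor (R ⧸ maximalIdeal R)) :=
    lTensor_quotient_injective_of (maximalIdeal R) g hg
  exact (IsLocalRing.split_injective_iff_lTensor_residueField_injective g).mpr hginj0

theorem rTensor_injective_of_leftInverse {M M' : Type*} [AddCommGroup M] [Module R M]
    [AddCommGroup M'] [Module R M'] (g : M →ₗ[R] M') (l' : M' →ₗ[R] M) (h : l' ∘ₗ g = LinearMap.id)
    (Q : Type*) [AddCommGroup Q] [Module R Q] : Function.Injective (g.rTensor Q) := by
  have : (l'.rTensor Q) ∘ₗ (g.rTensor Q) = LinearMap.id := by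
    rw [← LinearMap.rTensor_comp, h, LinearMap.rTensor_id]
  exact Function.LeftInverse.injective (g := l'.rTensor Q) (LinearMap.congr_fun this)

/-- finite free, packaged (to control instance paths). -/
structure Good (R : Type*) (M : Type*) [CommRing R] [AddCommGroup M] [Module R M] : Prop where
  fin : Module.Finite R M
  free : Module.Free R M

/-- A finite set of indices supports a finite free module. -/
theorem finite_free_supported {ι : Type*} (J : Set ι) (hJ : J.Finite) :
    Good R (Finsupp.supported R R J) := by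
  have : Finite J := hJ
  exact ⟨Module.Finite.equiv (Finsupp.supportedEquivFinsupp (M := R) (R := R) J).symm,
    Module.Free.of_equiv (Finsupp.supportedEquivFinsupp (M := R) (R := R) J).symm⟩

theorem exists_finite_mem_range_rTensor {ι : Type*} (Q : Type*) [AddCommGroup Q] [Module R Q]
    (x : (ι →₀ R) ⊗[R] Q) :
    ∃ J : Set ι, J.Finite ∧ x ∈ LinearMap.range ((Finsupp.supported R R J).subtype.rTensor Q) := by
  have mono : ∀ {J K : Set ι}, J ⊆ K →
      LinearMap.range ((Finsupp.supported R R J).subtype.rTensor Q) ≤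
      LinearMap.range ((Finsupp.supported R R K).subtype.rTensor Q) := by
    intro J K hJK
    have h : (Finsupp.supported R R J).subtype =
        (Finsupp.supported R R K).subtype ∘ₗ Submodule.inclusion (Finsupp.supported_mono hJK) := by
      ext; rfl
    rw [h, LinearMap.rTensor_comp]
    exact LinearMap.range_comp_le_range _ _
  induction x using TensorProduct.induction_on with
  | zero => exact ⟨∅, Set.finite_empty, Submodule.zero_mem _⟩
  | tmul n q =>
    refine ⟨(n.support : Set ι), n.support.finite_toSet, ⟨⟨n, Finsupp.mem_supported_support R n⟩ ⊗ₜ q, ?_⟩⟩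
    rw [LinearMap.rTensor_tmul]
    rfl
  | add x y hx hy =>
    obtain ⟨J, hJ, hxJ⟩ := hx
    obtain ⟨K, hK, hyK⟩ := hy
    exact ⟨J ∪ K, hJ.union hK, Submodule.add_mem _ (mono Set.subset_union_left hxJ)
      (mono Set.subset_union_right hyK)⟩

theorem exists_finite_map_le {ι : Type*} (f : (ι →₀ R) →ₗ[R] (ι →₀ R)) (J : Set ι) (hJ : J.Finite) :
    ∃ K : Set ι, K.Finite ∧ ∀ n ∈ Finsupp.supported R R J, f n ∈ Finsupp.supported R R K := by
  refine ⟨⋃ i ∈ J, ((f (Finsupp.single i 1)).support : Set ι),
    hJ.biUnion (fun i _ => Finset.finite_toSet _), ?_⟩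
  intro n hn
  rw [Finsupp.supported_eq_span_single] at hn
  refine Submodule.span_induction ?_ ?_ ?_ ?_ hn
  · rintro _ ⟨i, hi, rfl⟩
    rw [Finsupp.mem_supported]
    exact Set.subset_biUnion_of_mem (u := fun i => ((f (Finsupp.single i 1)).support : Set ι)) hi
  · rw [map_zero]; exact Submodule.zero_mem _
  · intro x y _ _ hx hy
    rw [map_add]; exact Submodule.add_mem _ hx hy
  · intro a x _ hx
    rw [map_smul]; exact Submodule.smul_mem _ _ hx

/-- generic core: restrict to finite free retracts -/
theorem core_eq_zero [IsLocalRing R] {N M₀ M₁ : Type*} [AddCommGroup N] [Module R N]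
    [AddCommGroup M₀] [Module R M₀] [AddCommGroup M₁] [Module R M₁]
    (hM₀ : Good R M₀) (hM₁ : Good R M₁)
    (f : N →ₗ[R] N) (i₀ : M₀ →ₗ[R] N) (r₀ : N →ₗ[R] M₀) (i₁ : M₁ →ₗ[R] N) (r₁ : N →ₗ[R] M₁)
    (g : M₀ →ₗ[R] M₁) (h₀ : r₀ ∘ₗ i₀ = LinearMap.id) (h₁ : r₁ ∘ₗ i₁ = LinearMap.id)
    (hg : i₁ ∘ₗ g = f ∘ₗ i₀)
    (hf : ∀ n, f n ∈ (maximalIdeal R • ⊤ : Submodule R N) → n ∈ (maximalIdeal R • ⊤ : Submodule R N))
    (Q : Type*) [AddCommGroup Q] [Module R Q] (x₀ : M₀ ⊗[R] Q)
    (hx : (f.rTensor Q) ((i₀.rTensor Q) x₀) = 0) : x₀ = 0 := by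
  have hg1 : ∀ n : M₀, i₁ (g n) = f (i₀ n) := fun n => LinearMap.congr_fun hg n
  have := hM₀.fin
  have := hM₁.fin
  have := hM₁.free
  obtain ⟨l', hl'⟩ : ∃ l' : M₁ →ₗ[R] M₀, l' ∘ₗ g = LinearMap.id := by
    refine exists_leftInverse_of g ?_
    intro n hn
    have h1 : f (i₀ n) ∈ (maximalIdeal R • ⊤ : Submodule R N) := by
      rw [← hg1]
      exact map_mem_smul_top (maximalIdeal R) i₁ hn
    have h2 := hf _ h1
    have h3 := map_mem_smul_top (maximalIdeal R) r₀ h2
    have h4 : r₀ (i₀ n) = n := LinearMap.congr_fun h₀ n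
    rwa [h4] at h3
  have hg' : Function.Injective (g.rTensor Q) := rTensor_injective_of_leftInverse g l' hl' Q
  have hK' : Function.Injective (i₁.rTensor Q) := rTensor_injective_of_leftInverse i₁ r₁ h₁ Q
  have h5 : (i₁.rTensor Q) ((g.rTensor Q) x₀) = 0 := by
    rw [← LinearMap.comp_apply, ← LinearMap.rTensor_comp, hg, LinearMap.rTensor_comp]
    exact hx
  have h6 : (g.rTensor Q) x₀ = 0 := hK' (by rw [h5, map_zero])
  exact hg' (by rw [h6, map_zero])

/-- An endomorphism of a free module over a local ring which is injective modulo the maximal ideal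
is universally injective. -/
theorem rTensor_injective_finsupp [IsLocalRing R] {ι : Type*} (f : (ι →₀ R) →ₗ[R] (ι →₀ R))
    (hf : ∀ n, f n ∈ (maximalIdeal R • ⊤ : Submodule R (ι →₀ R)) →
      n ∈ (maximalIdeal R • ⊤ : Submodule R (ι →₀ R)))
    (Q : Type*) [AddCommGroup Q] [Module R Q] : Function.Injective (f.rTensor Q) := by
  classical
  rw [injective_iff_map_eq_zero]
  intro x hx
  obtain ⟨J, hJ, x₀, rfl⟩ := exists_finite_mem_range_rTensor Q x
  obtain ⟨K, hK, hJK⟩ := exists_finite_map_le f J hJ
  -- the restricted map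
  obtain ⟨g, hg⟩ : ∃ g : Finsupp.supported R R J →ₗ[R] Finsupp.supported R R K,
      (Finsupp.supported R R K).subtype ∘ₗ g = f ∘ₗ (Finsupp.supported R R J).subtype :=
    ⟨LinearMap.codRestrict _ (f ∘ₗ (Finsupp.supported R R J).subtype) (fun n => hJK n n.2), by
      ext n : 1; rfl⟩
  have := core_eq_zero (N := ι →₀ R) (M₀ := ↥(Finsupp.supported R R J))
    (M₁ := ↥(Finsupp.supported R R K)) (finite_free_supported J hJ) (finite_free_supported K hK)
    f (Finsupp.supported R R J).subtype
    (Finsupp.restrictDom R R J) (Finsupp.supported R R K).subtype (Finsupp.restrictDom R R K) g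
    (Finsupp.restrictDom_comp_subtype J) (Finsupp.restrictDom_comp_subtype K) hg hf Q x₀ hx
  rw [this, map_zero]

/-- Version for an arbitrary free module. -/
theorem rTensor_injective_of_free [IsLocalRing R] {N : Type*} [AddCommGroup N] [Module R N]
    [Module.Free R N] (f : N →ₗ[R] N)
    (hf : ∀ n, f n ∈ (maximalIdeal R • ⊤ : Submodule R N) → n ∈ (maximalIdeal R • ⊤ : Submodule R N))
    (Q : Type*) [AddCommGroup Q] [Module R Q] : Function.Injective (f.rTensor Q) := by
  let e := (Module.Free.chooseBasis R N).repr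
  let f' : (Module.Free.ChooseBasisIndex R N →₀ R) →ₗ[R] (Module.Free.ChooseBasisIndex R N →₀ R) :=
    e.toLinearMap ∘ₗ f ∘ₗ e.symm.toLinearMap
  have hf' : Function.Injective (f'.rTensor Q) := by
    apply rTensor_injective_finsupp
    intro n hn
    have h1 : f (e.symm n) ∈ (maximalIdeal R • ⊤ : Submodule R N) := by
      have := map_mem_smul_top (maximalIdeal R) e.symm.toLinearMap hn
      simpa [f'] using this
    have h2 := map_mem_smul_top (maximalIdeal R) e.toLinearMap (hf _ h1)
    simpa using h2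
  have hff : f = e.symm.toLinearMap ∘ₗ f' ∘ₗ e.toLinearMap := by
    ext n; simp [f']
  have hff' : f.rTensor Q = (e.symm.toLinearMap.rTensor Q) ∘ₗ (f'.rTensor Q) ∘ₗ
      (e.toLinearMap.rTensor Q) := by
    rw [← LinearMap.rTensor_comp, ← LinearMap.rTensor_comp, ← hff]
  rw [hff', LinearMap.coe_comp, LinearMap.coe_comp]
  refine Function.Injective.comp ?_ (Function.Injective.comp hf' ?_)
  · exact (e.symm.rTensor Q).injective
  · exact (e.rTensor Q).injective

end Free

attribute [local instance] Algebra.TensorProduct.rightAlgebra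

open TensorProduct IsLocalRing in
/-- Let R be a local ring, S an R-algebra and N an S-module which is projective as an R-module, such
that the closed fibre ring of S is Noetherian and the closed fibre module of N is finite over it.
Then every prime q of S, over p in R, which is an associated prime (the annihilator of an element)
of the S-module N ⊗_R κ(p) satisfies q + 𝔪_R S ≠ S. -/
theorem result {R S : Type u} [CommRing R] [IsLocalRing R] [CommRing S] [Algebra R S]
    (N : Type u) [AddCommGroup N] [Module S N] [Module R N] [IsScalarTower R S N] [Module.Projective R N]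
    [IsNoetherianRing ((maximalIdeal R).Fiber S)]
    [Module.Finite ((maximalIdeal R).Fiber S) (FlatCA.fiberMod (maximalIdeal R) S N)]
    (p : Ideal R) [p.IsPrime] (q : Ideal S) [q.IsPrime] [q.LiesOver p]
    (hq : q ∈ FlatCA.ass S (N ⊗[R] p.ResidueField)) :
    q ⊔ (maximalIdeal R).map (algebraMap R S) ≠ ⊤ := by
  classical
  haveI : Module.Free R N := Groth.Agent.Lib.Helper14.LocalFree.free_of_projective
  haveI : Module.Flat R N := inferInstance
  obtain ⟨hqp, x, hx⟩ := hq
  -- x ≠ 0
  have hx0 : x ≠ 0 := by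
    rintro rfl
    apply hqp.ne_top
    rw [hx, Ideal.eq_top_iff_one, Submodule.mem_annihilator_span_singleton, smul_zero]
  -- elements of Σ act injectively on N ⊗ κ(p)
  have hdisj : Disjoint (q : Set S) (FlatCA.nzdFiber R S N) := by
    rw [Set.disjoint_left]
    intro a haq haW
    have hax : a • x = 0 := by
      rw [hx, SetLike.mem_coe, Submodule.mem_annihilator_span_singleton] at haq
      exact haq
    have hinj : Function.Injective
        (((LinearMap.lsmul S N a).restrictScalars R).rTensor p.ResidueField) := by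
      apply rTensor_injective_of_free
      intro n hn
      change a • n ∈ _ at hn
      rw [Groth.Agent.Helper13Fiber.smul_top_eq_restrictScalars (maximalIdeal R) S N,
        Submodule.restrictScalars_mem] at hn ⊢
      rw [← Groth.Agent.Helper13Fiber.toFiberMod_eq_zero_iff_of_flat] at hn ⊢
      rw [map_smul] at hn
      exact (mem_nonZeroSMulDivisors_iff.mp haW) _ hn
    apply hx0
    apply hinj
    rw [map_zero]
    have := Groth.Agent.S1200.rTensor_lsmul (R := R) (S := S) N a p.ResidueField x
    rw [this, hax]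
  obtain ⟨q', hq', hle⟩ := ((Groth.Agent.S1193.result (R := R) (S := S) N).1 q).mp hdisj
  have hq'p : q'.IsPrime := hq'.isPrime
  have hm : (maximalIdeal R).map (algebraMap R S) ≤ q' := by
    obtain ⟨y, hy⟩ := hq'.2
    rw [hy]
    intro a ha
    apply Ideal.le_radical
    rw [Submodule.mem_colon_singleton, Submodule.mem_bot]
    rw [← algebraMap_smul ((maximalIdeal R).Fiber S) a y,
      Groth.Agent.Helper13Fiber.algebraMap_eq_zero_of_mem (maximalIdeal R) S ha, zero_smul]
  intro htop
  exact hq'p.ne_top (top_le_iff.mp (htop ▸ sup_le hle hm))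

end Groth.Agent.S1212
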