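import Groth.Statements.S12120
import Groth.Agent.Lib.Helper3FlatCxBC
import Groth.Agent.S2375
import Groth.Agent.S2410
import Mathlib

set_option autoImplicit false
universe u
open FlatCx

namespace Groth.Agent.S12120

open CategoryTheory in

open CategoryTheory in
/-- Let P be a chain complex of flat A-modules over a commutative ring A, B any commutative A-algebra
and P_B the base-changed complex. If the functor M ↦ H_p(P ⊗_A M) on A-modules takes surjections to
surjections (resp. injections to injections), then so does N ↦ H_p(P_B ⊗_B N) on B-modules. (The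
converse for B faithfully flat over A is a separate statement.) -/
theorem result {A : Type u} [CommRing A]
    (P : ChainComplex (ModuleCat.{u} A) ℤ) (hP : ∀ i, Module.Flat A (P.X i)) (B : Type u) [CommRing B]
    [Algebra A B] (p : ℤ) :
    ((CohIII.TFun P p).PreservesEpimorphisms →
        (CohIII.TFun (CohIII.bcCx (algebraMap A B) P) p).PreservesEpimorphisms) ∧
      ((CohIII.TFun P p).PreservesMonomorphisms →
        (CohIII.TFun (CohIII.bcCx (algebraMap A B) P) p).PreservesMonomorphisms) := by
  have hPB : ∀ i, Module.Flat B ((CohIII.bcCx (algebraMap A B) P).X i) :=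
    Groth.Agent.Lib.Helper3.flat_bcCx_X B P hP
  constructor
  · intro he
    have hW : Module.Flat A (P.opcycles (p - 1)) :=
      (Groth.Agent.S2410.preservesEpi_iff_flat_opcycles P hP p (p - 1) (by ring)).mp he
    exact (Groth.Agent.S2410.preservesEpi_iff_flat_opcycles (CohIII.bcCx (algebraMap A B) P) hPB p
      (p - 1) (by ring)).mpr (Groth.Agent.Lib.Helper3.flat_bcCx_opcycles B P (p - 1))
  · intro hm
    have hW : Module.Flat A (P.opcycles p) := (Groth.Agent.S2375.result P hP p).mp hm
    exact (Groth.Agent.S2375.result (CohIII.bcCx (algebraMap A B) P) hPB p).mpr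
      (Groth.Agent.Lib.Helper3.flat_bcCx_opcycles B P p)

end Groth.Agent.S12120
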