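import Groth.Statements.S12125
import Mathlib
import Groth.Agent.Lib.Helper7Nag
import Groth.Agent.S0571
open Groth.Agent.Lib.Helper7.Nag

set_option autoImplicit false
universe u
open EGA4

namespace Groth.Agent.S12125

/-- Let A be a Noetherian ring. Then every quotient of A by a prime ideal is N-2 (i.e. A is a Nagata
ring) if and only if (1) for every maximal ideal m of A every quotient of A_m by a prime ideal is
N-2, and (2) for every prime p of A, writing B = A/p with fraction field K, for every finite purely
inseparable field extension K' of K and every sub-B-algebra B' of K' which is a finite B-module and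
has K' as its fraction field, there is a nonzero element f of B' such that B'_f is an integrally
closed domain. -/
theorem result (A : Type u) [CommRing A] [IsNoetherianRing A] :
    CAlg.IsNagata A ↔
      ((∀ (m : Ideal A) [m.IsMaximal] (P : Ideal (Localization.AtPrime m)) [P.IsPrime],
          CAlg.IsN2 (Localization.AtPrime m ⧸ P)) ∧
        ∀ (p : Ideal A) [p.IsPrime] (K' : Type u) [Field K'] [Algebra (A ⧸ p) K']
          [Algebra (FractionRing (A ⧸ p)) K'] [IsScalarTower (A ⧸ p) (FractionRing (A ⧸ p)) K']
          [FiniteDimensional (FractionRing (A ⧸ p)) K'] [IsPurelyInseparable (FractionRing (A ⧸ p)) K']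
          (B' : Subalgebra (A ⧸ p) K'), Module.Finite (A ⧸ p) B' → IsFractionRing B' K' →
            ∃ f : B', f ≠ 0 ∧ IsIntegrallyClosed (Localization.Away f)) := by
  constructor
  · intro hA
    refine ⟨?_, ?_⟩
    · intro m hm P hP
      exact (Groth.Agent.Lib.Helper14.isNagata_of_isLocalization A m.primeCompl
        (Localization.AtPrime m) hA).2 P
    · intro p hp K' _ _ _ _ _ _ B' hfin hfr
      haveI := hfin
      haveI : IsNoetherianRing B' := IsNoetherianRing.of_finite (A ⧸ p) B'
      have hN1 : CAlg.IsN1 B' := isN1_subalgebra_of_isN2 (A ⧸ p) (hA.2 p) K' B' hfin hfr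
      exact ((Groth.Agent.S0571.result B').mp hN1).1
  · rintro ⟨h1, h2⟩
    refine ⟨inferInstance, fun p hp => ?_⟩
    apply isN2_of_forall_pinsep_isN1
    intro K' _ _ _ _ _ _ B' hfin hfr
    haveI := hfin
    haveI : IsNoetherianRing B' := IsNoetherianRing.of_finite (A ⧸ p) B'
    rw [Groth.Agent.S0571.result B']
    refine ⟨h2 p K' B' hfin hfr, ?_⟩
    intro n hn
    letI : Algebra A K' := ((algebraMap (A ⧸ p) K').comp (algebraMap A (A ⧸ p))).toAlgebra
    haveI : IsScalarTower A (A ⧸ p) K' := IsScalarTower.of_algebraMap_eq fun _ => rfl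
    haveI : Module.Finite A B' := Module.Finite.trans (A ⧸ p) B'
    exact Groth.Agent.Lib.Helper14.IsN2.isN1 (isN2_localization_of_finite A h1 B' n)


end Groth.Agent.S12125
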