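import Groth.Statements.S12127
import Mathlib

set_option autoImplicit false
universe u
open EGA43

namespace Groth.Agent.S12127

/-- quasi-constructible: finite union of locally closed sets -/
def QC {α : Type u} [TopologicalSpace α] (Z : Set α) : Prop :=
  ∃ T : Set (Set α), T.Finite ∧ (∀ t ∈ T, IsLocallyClosed t) ∧ Z = ⋃₀ T

section general
variable {α β : Type u} [TopologicalSpace α] [TopologicalSpace β]

theorem QC.preimage {Z : Set β} (hZ : QC Z) {g : α → β} (hg : Continuous g) : QC (g ⁻¹' Z) := by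
  obtain ⟨T, hT, hlc, rfl⟩ := hZ
  refine ⟨(fun t => g ⁻¹' t) '' T, hT.image _, ?_, ?_⟩
  · rintro _ ⟨t, ht, rfl⟩
    exact (hlc t ht).preimage hg
  · rw [Set.preimage_sUnion, Set.sUnion_image]

theorem QC.inter {Z : Set β} (hZ : QC Z) {s : Set β} (hs : IsLocallyClosed s) : QC (Z ∩ s) := by
  obtain ⟨T, hT, hlc, rfl⟩ := hZ
  refine ⟨(fun t => t ∩ s) '' T, hT.image _, ?_, ?_⟩
  · rintro _ ⟨t, ht, rfl⟩
    exact (hlc t ht).inter hs
  · ext x
    simp only [Set.mem_inter_iff, Set.mem_sUnion, Set.mem_image, exists_exists_and_eq_and]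
    constructor
    · rintro ⟨⟨t, ht, hxt⟩, hxs⟩
      exact ⟨t, ht, hxt, hxs⟩
    · rintro ⟨t, ht, hxt, hxs⟩
      exact ⟨⟨t, ht, hxt⟩, hxs⟩

theorem QC.image_val {V : Set β} (hV : IsOpen V) {Z : Set V} (hZ : QC Z) :
    QC (Subtype.val '' Z : Set β) := by
  obtain ⟨T, hT, hlc, rfl⟩ := hZ
  refine ⟨(fun t => Subtype.val '' t) '' T, hT.image _, ?_, ?_⟩
  · rintro _ ⟨t, ht, rfl⟩
    refine (hlc t ht).image Topology.IsInducing.subtypeVal ?_
    rw [Subtype.range_coe]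
    exact hV.isLocallyClosed
  · rw [Set.image_sUnion, Set.sUnion_image]

theorem qc_subtype_iff {V : Set β} (hV : IsOpen V) (Z : Set β) :
    QC (Subtype.val ⁻¹' Z : Set V) ↔ QC (Z ∩ V) := by
  constructor
  · intro h
    have := h.image_val hV
    rwa [Subtype.image_preimage_coe, Set.inter_comm] at this
  · intro h
    have := h.preimage (continuous_subtype_val (p := fun x => x ∈ V))
    rwa [Set.preimage_inter, Subtype.coe_preimage_self, Set.inter_univ] at this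

/-- separation lemma -/
theorem exists_lc_avoiding (T : Set (Set β)) (hT : T.Finite) (hlc : ∀ t ∈ T, IsLocallyClosed t)
    (y : β) (hy : y ∉ ⋃₀ T) (t : Set β) (ht : IsLocallyClosed t) (hyt : y ∈ t) :
    ∃ s : Set β, IsLocallyClosed s ∧ y ∈ s ∧ s ⊆ t ∧ s ∩ ⋃₀ T = ∅ := by
  induction T, hT using Set.Finite.induction_on with
  | empty => exact ⟨t, ht, hyt, subset_rfl, by simp⟩
  | @insert a T' _ _ ih =>
    have hya : y ∉ a := fun h => hy ⟨a, Set.mem_insert _ _, h⟩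
    have hyT' : y ∉ ⋃₀ T' := fun ⟨b, hb, h⟩ => hy ⟨b, Set.mem_insert_of_mem _ hb, h⟩
    obtain ⟨s₀, hs₀, hys₀, hs₀t, hdis⟩ := ih (fun b hb => hlc b (Set.mem_insert_of_mem _ hb)) hyT'
    obtain ⟨U, C, hU, hC, rfl⟩ := hlc a (Set.mem_insert _ _)
    by_cases hyU : y ∈ U
    · have hyC : y ∉ C := fun h => hya ⟨hyU, h⟩
      refine ⟨s₀ ∩ Cᶜ, hs₀.inter hC.isOpen_compl.isLocallyClosed, ⟨hys₀, hyC⟩,
        Set.inter_subset_left.trans hs₀t, ?_⟩
      rw [Set.sUnion_insert, Set.inter_union_distrib_left]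
      rw [Set.union_empty_iff]
      constructor
      · ext z
        simp only [Set.mem_inter_iff, Set.mem_compl_iff, Set.mem_empty_iff_false, iff_false]
        tauto
      · rw [Set.eq_empty_iff_forall_notMem] at hdis ⊢
        intro z hz
        exact hdis z ⟨hz.1.1, hz.2⟩
    · refine ⟨s₀ ∩ Uᶜ, hs₀.inter hU.isClosed_compl.isLocallyClosed, ⟨hys₀, hyU⟩,
        Set.inter_subset_left.trans hs₀t, ?_⟩
      rw [Set.sUnion_insert, Set.inter_union_distrib_left]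
      rw [Set.union_empty_iff]
      constructor
      · ext z
        simp only [Set.mem_inter_iff, Set.mem_compl_iff, Set.mem_empty_iff_false, iff_false]
        tauto
      · rw [Set.eq_empty_iff_forall_notMem] at hdis ⊢
        intro z hz
        exact hdis z ⟨hz.1.1, hz.2⟩

end general


section qh
variable {X Y : Type u} [TopologicalSpace X] [TopologicalSpace Y] (f : X → Y) (hf : Continuous f)
  (hq : Function.Bijective (fun U : TopologicalSpace.Opens Y =>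
      (⟨f ⁻¹' (U : Set Y), U.isOpen.preimage hf⟩ : TopologicalSpace.Opens X)))

include hq

theorem open_inj {U W : Set Y} (hU : IsOpen U) (hW : IsOpen W) (h : f ⁻¹' U = f ⁻¹' W) : U = W := by
  have := @hq.1 ⟨U, hU⟩ ⟨W, hW⟩ (by
    apply TopologicalSpace.Opens.ext
    exact h)
  exact congrArg (fun O : TopologicalSpace.Opens Y => (O : Set Y)) this

theorem open_surj {U : Set X} (hU : IsOpen U) : ∃ U' : Set Y, IsOpen U' ∧ f ⁻¹' U' = U := by
  obtain ⟨U', hU'⟩ := hq.2 ⟨U, hU⟩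
  exact ⟨U', U'.isOpen, congrArg (fun O : TopologicalSpace.Opens X => (O : Set X)) hU'⟩

theorem open_mono {U W : Set Y} (hU : IsOpen U) (hW : IsOpen W) (h : f ⁻¹' U ⊆ f ⁻¹' W) : U ⊆ W := by
  have h1 : f ⁻¹' (U ∪ W) = f ⁻¹' W := by
    rw [Set.preimage_union]
    exact Set.union_eq_self_of_subset_left h
  have h2 := open_inj f hf hq (hU.union hW) hW h1
  rw [← h2]
  exact Set.subset_union_left

theorem lc_empty {t : Set Y} (ht : IsLocallyClosed t) (h : f ⁻¹' t = ∅) : t = ∅ := by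
  obtain ⟨U, C, hU, hC, rfl⟩ := ht
  have h1 : f ⁻¹' U ⊆ f ⁻¹' Cᶜ := by
    intro x hxU hxC
    have : x ∈ f ⁻¹' (U ∩ C) := ⟨hxU, hxC⟩
    rw [h] at this
    exact this
  have h2 := open_mono f hf hq hU hC.isOpen_compl h1
  rw [Set.eq_empty_iff_forall_notMem]
  rintro z ⟨hzU, hzC⟩
  exact h2 hzU hzC

theorem lc_surj {t : Set X} (ht : IsLocallyClosed t) :
    ∃ t' : Set Y, IsLocallyClosed t' ∧ f ⁻¹' t' = t := by
  obtain ⟨U, C, hU, hC, rfl⟩ := ht
  obtain ⟨U', hU', hUU'⟩ := open_surj f hf hq hU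
  obtain ⟨W', hW', hWW'⟩ := open_surj f hf hq hC.isOpen_compl
  refine ⟨U' ∩ W'ᶜ, ⟨U', W'ᶜ, hU', hW'.isClosed_compl, rfl⟩, ?_⟩
  rw [Set.preimage_inter, Set.preimage_compl, hUU', hWW', compl_compl]

theorem qc_mono {Z Z' : Set Y} (hZ : QC Z) (hZ' : QC Z') (h : f ⁻¹' Z ⊆ f ⁻¹' Z') : Z ⊆ Z' := by
  obtain ⟨T, hT, hlc, rfl⟩ := hZ
  obtain ⟨T', hT', hlc', rfl⟩ := hZ'
  rintro y ⟨t, ht, hyt⟩
  by_contra hy
  obtain ⟨s, hs, hys, hst, hdis⟩ := exists_lc_avoiding T' hT' hlc' y hy t (hlc t ht) hyt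
  have h1 : f ⁻¹' s = ∅ := by
    rw [Set.eq_empty_iff_forall_notMem]
    intro x hx
    have h2 : f x ∈ ⋃₀ T' := h ⟨t, ht, hst hx⟩
    have : f x ∈ s ∩ ⋃₀ T' := ⟨hx, h2⟩
    rw [hdis] at this
    exact this
  have := lc_empty f hf hq hs h1
  rw [this] at hys
  exact hys

theorem qc_inj {Z Z' : Set Y} (hZ : QC Z) (hZ' : QC Z') (h : f ⁻¹' Z = f ⁻¹' Z') : Z = Z' :=
  Set.Subset.antisymm (qc_mono f hf hq hZ hZ' h.subset) (qc_mono f hf hq hZ' hZ h.symm.subset)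

theorem qc_surj {Z : Set X} (hZ : QC Z) : ∃ Z' : Set Y, QC Z' ∧ f ⁻¹' Z' = Z := by
  obtain ⟨T, hT, hlc, rfl⟩ := hZ
  have hch : ∀ t : Set X, ∃ t' : Set Y, IsLocallyClosed t → IsLocallyClosed t' ∧ f ⁻¹' t' = t := by
    intro t
    by_cases ht : IsLocallyClosed t
    · obtain ⟨t', h1, h2⟩ := lc_surj f hf hq ht
      exact ⟨t', fun _ => ⟨h1, h2⟩⟩
    · exact ⟨∅, fun h => absurd h ht⟩
  choose g hg using hch
  refine ⟨⋃₀ (g '' T), ⟨g '' T, hT.image _, ?_, rfl⟩, ?_⟩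
  · rintro _ ⟨t, ht, rfl⟩
    exact (hg t (hlc t ht)).1
  · rw [Set.preimage_sUnion, Set.sUnion_eq_biUnion]
    ext x
    simp only [Set.mem_iUnion, Set.mem_image, exists_prop]
    constructor
    · rintro ⟨_, ⟨t, ht, rfl⟩, hx⟩
      refine ⟨t, ht, ?_⟩
      rw [← (hg t (hlc t ht)).2]
      exact hx
    · rintro ⟨t, ht, hx⟩
      refine ⟨g t, ⟨t, ht, rfl⟩, ?_⟩
      rw [← (hg t (hlc t ht)).2] at hx
      exact hx


/-- locally quasi-constructible, reformulated -/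
def LQC {α : Type u} [TopologicalSpace α] (Z : Set α) : Prop :=
  ∀ y : α, ∃ V : Set α, IsOpen V ∧ y ∈ V ∧ QC (Z ∩ V)

omit hq in
theorem lqc_iff {α : Type u} [TopologicalSpace α] (Z : Set α) :
    (∀ y : α, ∃ V : Set α, IsOpen V ∧ y ∈ V ∧
      ∃ T : Set (Set V), T.Finite ∧ (∀ t ∈ T, IsLocallyClosed t) ∧ (Subtype.val ⁻¹' Z : Set V) = ⋃₀ T) ↔
    LQC Z := by
  constructor
  · intro h y
    obtain ⟨V, hV, hyV, hT⟩ := h y
    exact ⟨V, hV, hyV, (qc_subtype_iff hV Z).mp hT⟩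
  · intro h y
    obtain ⟨V, hV, hyV, hT⟩ := h y
    exact ⟨V, hV, hyV, (qc_subtype_iff hV Z).mpr hT⟩

omit hq in
theorem lqc_preimage (hf' : Continuous f) {Z : Set Y} (hZ : LQC Z) : LQC (f ⁻¹' Z) := by
  intro x
  obtain ⟨V, hV, hyV, hT⟩ := hZ (f x)
  refine ⟨f ⁻¹' V, hV.preimage hf', hyV, ?_⟩
  rw [← Set.preimage_inter]
  exact hT.preimage hf'

theorem lqc_mono {Z Z' : Set Y} (hZ : LQC Z) (hZ' : LQC Z') (h : f ⁻¹' Z = f ⁻¹' Z') : Z ⊆ Z' := by
  intro y hy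
  obtain ⟨V, hV, hyV, hT⟩ := hZ y
  obtain ⟨V', hV', hyV', hT'⟩ := hZ' y
  have h1 : QC (Z ∩ V ∩ V') := hT.inter hV'.isLocallyClosed
  have h2 : QC (Z' ∩ V' ∩ V) := hT'.inter hV.isLocallyClosed
  have h3 : f ⁻¹' (Z ∩ V ∩ V') = f ⁻¹' (Z' ∩ V' ∩ V) := by
    simp only [Set.preimage_inter, h]
    rw [Set.inter_assoc, Set.inter_assoc, Set.inter_comm (f ⁻¹' V)]
  have h4 := qc_inj f hf hq h1 h2 h3
  have : y ∈ Z ∩ V ∩ V' := ⟨⟨hy, hyV⟩, hyV'⟩
  rw [h4] at this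
  exact this.1.1

theorem lqc_surj {Z : Set X} (hZ : LQC Z) : ∃ Z' : Set Y, LQC Z' ∧ f ⁻¹' Z' = Z := by
  choose V hV hxV hQ using hZ
  have h1 : ∀ x : X, ∃ V' : Set Y, IsOpen V' ∧ f ⁻¹' V' = V x := fun x => open_surj f hf hq (hV x)
  choose V' hV' hVV' using h1
  have h2 : ∀ x : X, ∃ W : Set Y, QC W ∧ f ⁻¹' W = Z ∩ V x := fun x => qc_surj f hf hq (hQ x)
  choose W hW hWZ using h2
  -- normalise: W' x = W x ∩ V' x
  have hW' : ∀ x, QC (W x ∩ V' x) := fun x => (hW x).inter (hV' x).isLocallyClosed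
  have hW'Z : ∀ x, f ⁻¹' (W x ∩ V' x) = Z ∩ V x := by
    intro x
    rw [Set.preimage_inter, hWZ, hVV', Set.inter_assoc, Set.inter_self]
  refine ⟨⋃ x, (W x ∩ V' x), ?_, ?_⟩
  · -- LQC
    have hcov : (⋃ x, V' x) = Set.univ := by
      apply open_inj f hf hq (isOpen_iUnion hV') isOpen_univ
      rw [Set.preimage_iUnion, Set.preimage_univ, Set.eq_univ_iff_forall]
      intro x
      rw [Set.mem_iUnion]
      exact ⟨x, by rw [hVV']; exact hxV x⟩
    intro y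
    have hy : y ∈ ⋃ x, V' x := by rw [hcov]; trivial
    obtain ⟨x, hyx⟩ := Set.mem_iUnion.mp hy
    refine ⟨V' x, hV' x, hyx, ?_⟩
    have heq : (⋃ x', (W x' ∩ V' x')) ∩ V' x = W x ∩ V' x := by
      apply Set.Subset.antisymm
      · rintro z ⟨hz, hzx⟩
        obtain ⟨x', hzx'⟩ := Set.mem_iUnion.mp hz
        have hsub : (W x' ∩ V' x') ∩ V' x ⊆ W x ∩ V' x := by
          apply qc_mono f hf hq ((hW' x').inter (hV' x).isLocallyClosed) (hW' x)
          rw [Set.preimage_inter, hW'Z, hW'Z, hVV']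
          rintro w ⟨⟨hwZ, _⟩, hwx⟩
          exact ⟨hwZ, hwx⟩
        exact hsub ⟨hzx', hzx⟩
      · rintro z hz
        exact ⟨Set.mem_iUnion.mpr ⟨x, hz⟩, hz.2⟩
    rw [heq]
    exact hW' x
  · rw [Set.preimage_iUnion]
    ext x
    simp only [Set.mem_iUnion]
    constructor
    · rintro ⟨x', hx'⟩
      rw [hW'Z] at hx'
      exact hx'.1
    · intro hx
      refine ⟨x, ?_⟩
      rw [hW'Z]
      exact ⟨hx, hxV x⟩

end qh

/-- Let f : X → Y be a quasi-homeomorphism, i.e. a continuous map such that U ↦ f⁻¹(U) is a bijection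
from the open subsets of Y onto the open subsets of X. Call a subset quasi-constructible when it is
a finite union of locally closed subsets, and locally quasi-constructible when every point of the
space has an open neighbourhood V whose intersection with it is quasi-constructible in V. Then Z ↦
f⁻¹(Z) induces a bijection from the quasi-constructible subsets of Y onto those of X, and from the
locally quasi-constructible subsets of Y onto those of X. -/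
theorem result {X Y : Type u}
    [TopologicalSpace X] [TopologicalSpace Y] (f : X → Y) (hf : Continuous f)
    (hq : Function.Bijective (fun U : TopologicalSpace.Opens Y =>
      (⟨f ⁻¹' (U : Set Y), U.isOpen.preimage hf⟩ : TopologicalSpace.Opens X))) :
    Set.BijOn (fun Z : Set Y => f ⁻¹' Z)
        {Z : Set Y | ∃ T : Set (Set Y), T.Finite ∧ (∀ t ∈ T, IsLocallyClosed t) ∧ Z = ⋃₀ T}
        {Z : Set X | ∃ T : Set (Set X), T.Finite ∧ (∀ t ∈ T, IsLocallyClosed t) ∧ Z = ⋃₀ T} ∧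
      Set.BijOn (fun Z : Set Y => f ⁻¹' Z)
        {Z : Set Y | ∀ y : Y, ∃ V : Set Y, IsOpen V ∧ y ∈ V ∧
          ∃ T : Set (Set V), T.Finite ∧ (∀ t ∈ T, IsLocallyClosed t) ∧ (Subtype.val ⁻¹' Z : Set V) = ⋃₀ T}
        {Z : Set X | ∀ x : X, ∃ V : Set X, IsOpen V ∧ x ∈ V ∧
          ∃ T : Set (Set V), T.Finite ∧ (∀ t ∈ T, IsLocallyClosed t) ∧ (Subtype.val ⁻¹' Z : Set V) = ⋃₀ T} := by
  refine ⟨⟨?_, ?_, ?_⟩, ⟨?_, ?_, ?_⟩⟩
  · intro Z hZ
    exact QC.preimage (Z := Z) hZ hf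
  · intro Z hZ Z' hZ' h
    exact qc_inj f hf hq hZ hZ' h
  · intro Z hZ
    obtain ⟨Z', hZ', h⟩ := qc_surj f hf hq (Z := Z) hZ
    exact ⟨Z', hZ', h⟩
  · intro Z hZ
    exact (lqc_iff _).mpr (lqc_preimage f hf ((lqc_iff Z).mp hZ))
  · intro Z hZ Z' hZ' h
    have h1 := (lqc_iff Z).mp hZ
    have h2 := (lqc_iff Z').mp hZ'
    exact Set.Subset.antisymm (lqc_mono f hf hq h1 h2 h) (lqc_mono f hf hq h2 h1 h.symm)
  · intro Z hZ
    obtain ⟨Z', hZ', h⟩ := lqc_surj f hf hq ((lqc_iff Z).mp hZ)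
    exact ⟨Z', (lqc_iff Z').mpr hZ', h⟩

end Groth.Agent.S12127
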