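import Groth.Statements.S1214
import Mathlib.Algebra.Ring.GeomSum
import Mathlib.LinearAlgebra.TensorProduct.Basic
import Mathlib.RingTheory.Ideal.Maps
-- import your own Groth.Agent.* helpers here

set_option autoImplicit false
universe u
open FlatMor

namespace Groth.Agent.S1214

section
variable {R S : Type u} [CommRing R] [CommRing S] [Algebra R S]
  {N : Type u} [AddCommGroup N] [Module S N] [Module R N] [IsScalarTower R S N]

lemma smul_mem_smul_top (J : Ideal R) (s : S) (y : N) (hy : y ∈ (J • ⊤ : Submodule R N)) :
    s • y ∈ (J • ⊤ : Submodule R N) := by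
  refine Submodule.smul_induction_on hy ?_ ?_
  · intro r hr n _
    rw [smul_comm]
    exact Submodule.smul_mem_smul hr Submodule.mem_top
  · intro x y hx hy
    rw [smul_add]
    exact Submodule.add_mem _ hx hy

lemma map_smul_mem_smul_top (J : Ideal R) (a : S) (ha : a ∈ J.map (algebraMap R S)) (n : N) :
    a • n ∈ (J • ⊤ : Submodule R N) := by
  induction ha using Submodule.span_induction with
  | mem x hx =>
    obtain ⟨r, hr, rfl⟩ := hx
    rw [algebraMap_smul]
    exact Submodule.smul_mem_smul hr Submodule.mem_top
  | zero => simp
  | add x y _ _ hx hy =>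
    rw [add_smul]
    exact Submodule.add_mem _ hx hy
  | smul s x _ hx =>
    rw [smul_eq_mul, mul_smul]
    exact smul_mem_smul_top J s _ hx

lemma pow_smul_mem (I : Ideal R) (a : S) (ha : a ∈ I.map (algebraMap R S)) (k : ℕ) (n : N) :
    a ^ k • n ∈ (I ^ k • ⊤ : Submodule R N) := by
  apply map_smul_mem_smul_top
  rw [Ideal.map_pow]
  exact Ideal.pow_mem_pow ha k

lemma bijective_one_sub_smul (I : Ideal R) [IsAdicComplete I N] (a : S)
    (ha : a ∈ I.map (algebraMap R S)) : Function.Bijective (fun n : N => (1 - a) • n) := by
  constructor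
  · intro n₁ n₂ h
    have h0 : (1 - a) • (n₁ - n₂) = 0 := by
      rw [smul_sub]; exact sub_eq_zero.2 h
    set n := n₁ - n₂ with hn
    have h1 : n = a • n := by
      rw [sub_smul, one_smul, sub_eq_zero] at h0; exact h0
    have h2 : ∀ k : ℕ, n = a ^ k • n := by
      intro k
      induction k with
      | zero => simp
      | succ k ih =>
        rw [pow_succ, mul_smul, ← h1]; exact ih
    have h3 : n = 0 := by
      apply IsHausdorff.haus (inferInstance : IsHausdorff I N)
      intro k
      rw [SModEq.zero]
      rw [h2 k]
      exact pow_smul_mem I a ha k n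
    exact sub_eq_zero.1 h3
  · intro n
    let f : ℕ → N := fun k => (∑ j ∈ Finset.range k, a ^ j) • n
    have hf : ∀ {m k : ℕ}, m ≤ k → f m ≡ f k [SMOD (I ^ m • ⊤ : Submodule R N)] := by
      intro m k hmk
      rw [SModEq.sub_mem]
      have : f m - f k = a ^ m • (-(∑ j ∈ Finset.range (k - m), a ^ j) • n) := by
        simp only [f]
        rw [← sub_smul, smul_smul]
        congr 1
        obtain ⟨d, rfl⟩ := Nat.exists_eq_add_of_le hmk
        rw [Finset.sum_range_add, Nat.add_sub_cancel_left, sub_add_cancel_left]
        simp only [pow_add, ← Finset.mul_sum]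
        ring
      rw [this]
      exact pow_smul_mem I a ha m _
    obtain ⟨L, hL⟩ := IsPrecomplete.prec (inferInstance : IsPrecomplete I N) hf
    refine ⟨L, ?_⟩
    have : (1 - a) • L - n = 0 := by
      apply IsHausdorff.haus (inferInstance : IsHausdorff I N)
      intro k
      rw [SModEq.zero]
      have e : (1 - a) • L - n = (1 - a) • (L - f k) - a ^ k • n := by
        have : (1 - a) • f k = n - a ^ k • n := by
          simp only [f]
          rw [smul_smul, mul_neg_geom_sum, sub_smul, one_smul]
        rw [smul_sub, this]
        abel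
      rw [e]
      refine Submodule.sub_mem _ ?_ (pow_smul_mem I a ha k n)
      apply smul_mem_smul_top
      have := hL k
      rw [SModEq.sub_mem] at this
      have h' : L - f k = -(f k - L) := by abel
      rw [h']
      exact Submodule.neg_mem _ this
    exact sub_eq_zero.1 this

end

open TensorProduct in
/-- Let R → S be a ring map, I an ideal of R and N an S-module which is I-adically complete. Then for
every R-module M and every prime q of S which is the annihilator of an element of the S-module N ⊗_R
M we have q + IS ≠ S. -/
theorem result {R S : Type u} [CommRing R] [CommRing S] [Algebra R S] (I : Ideal R)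
    (N : Type u) [AddCommGroup N] [Module S N] [Module R N] [IsScalarTower R S N] [IsAdicComplete I N]
    (M : Type u) [AddCommGroup M] [Module R M]
    (q : Ideal S) [q.IsPrime] (hq : q ∈ FlatCA.ass S (N ⊗[R] M)) :
    q ⊔ I.map (algebraMap R S) ≠ ⊤ := by
  intro htop
  obtain ⟨hqprime, z, hz⟩ := hq
  have h1 : (1 : S) ∈ q ⊔ I.map (algebraMap R S) := htop ▸ Submodule.mem_top
  obtain ⟨f, hf, a, ha, hfa⟩ := Submodule.mem_sup.1 h1
  have hfz : f • z = 0 := by
    have : f ∈ (Submodule.span S {z}).annihilator := hz ▸ hf
    exact (Submodule.mem_annihilator_span_singleton z f).1 this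
  have hf' : f = 1 - a := by rw [← hfa]; ring
  have hbij := bijective_one_sub_smul (N := N) I a ha
  let φ : N →ₗ[R] N :=
    { toFun := fun n => (1 - a) • n
      map_add' := fun x y => smul_add _ x y
      map_smul' := fun r x => by
        simp only [RingHom.id_apply]
        exact smul_comm (1 - a) r x }
  let e : N ≃ₗ[R] N := LinearEquiv.ofBijective φ hbij
  have hz0' : ∀ w : N ⊗[R] M, (e.rTensor M) w = (1 - a) • w := by
    intro w
    induction w using TensorProduct.induction_on with
    | zero => simp
    | tmul n m =>
      rw [LinearEquiv.rTensor_tmul, TensorProduct.smul_tmul']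
      rfl
    | add x y hx hy => rw [map_add, smul_add, hx, hy]
  have hz0 : (e.rTensor M) z = f • z := by
    rw [hf']; exact hz0' z
  have hz1 : z = 0 := by
    rw [hfz] at hz0
    exact (LinearEquiv.map_eq_zero_iff _).1 hz0
  rw [hz1] at hz
  have : q = ⊤ := by
    rw [hz, Submodule.span_zero_singleton, Submodule.annihilator_bot]
  exact hqprime.ne_top this

end Groth.Agent.S1214
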