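import Groth.Statements.S1213
import Groth.Agent.S1214
import Mathlib.RingTheory.Nakayama
import Mathlib.RingTheory.Finiteness.Basic
import Mathlib.LinearAlgebra.Projection
import Mathlib.RingTheory.OrzechProperty
import Mathlib.RingTheory.Finiteness.Cardinality
import Mathlib.RingTheory.Jacobson.Ideal
-- import your own Groth.Agent.* helpers here

set_option autoImplicit false
universe u
open scoped Classical
open FlatMor

namespace Groth.Agent.S1213

open TensorProduct

section
variable {R : Type u} [CommRing R] {N : Type u} [AddCommGroup N] [Module R N]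
  (M : Type u) [AddCommGroup M] [Module R M]

lemma range_rTensor_mono {p p' : Submodule R N} (h : p ≤ p') :
    LinearMap.range (LinearMap.rTensor M p.subtype) ≤ LinearMap.range (LinearMap.rTensor M p'.subtype) := by
  have : p.subtype = p'.subtype ∘ₗ Submodule.inclusion h := by
    ext x; rfl
  rw [this, LinearMap.rTensor_comp]
  exact LinearMap.range_comp_le_range _ _

lemma exists_finset_mem_range {ι : Type u} (F : ι → Submodule R N) (htop : iSup F = ⊤)
    (z : N ⊗[R] M) :
    ∃ J : Finset ι, z ∈ LinearMap.range (LinearMap.rTensor M (⨆ i ∈ J, F i).subtype) := by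
  classical
  induction z using TensorProduct.induction_on with
  | zero => exact ⟨∅, Submodule.zero_mem _⟩
  | tmul n m =>
    have hn : n ∈ ⨆ i, F i := htop ▸ Submodule.mem_top
    obtain ⟨J, hJ⟩ := Submodule.exists_finset_of_mem_iSup F hn
    exact ⟨J, ⟨(⟨n, hJ⟩ : (⨆ i ∈ J, F i : Submodule R N)) ⊗ₜ m, rfl⟩⟩
  | add x y hx hy =>
    obtain ⟨J₁, h₁⟩ := hx
    obtain ⟨J₂, h₂⟩ := hy
    refine ⟨J₁ ∪ J₂, Submodule.add_mem _ ?_ ?_⟩
    · refine range_rTensor_mono M ?_ h₁
      exact biSup_mono (fun i hi => Finset.mem_union_left _ hi)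
    · refine range_rTensor_mono M ?_ h₂
      exact biSup_mono (fun i hi => Finset.mem_union_right _ hi)

lemma isCompl_biSup {ι : Type u} (F : ι → Submodule R N) (hind : iSupIndep F) (htop : iSup F = ⊤)
    (J : Finset ι) : IsCompl (⨆ i ∈ J, F i) (⨆ i ∈ ((J : Set ι)ᶜ), F i) := by
  constructor
  · exact hind.disjoint_biSup_biSup' (s := (J : Set ι)) (t := (J : Set ι)ᶜ) disjoint_compl_right
      J.finite_toSet
  · rw [codisjoint_iff]
    have := iSup_union (f := F) (s := (J : Set ι)) (t := (J : Set ι)ᶜ)
    rw [Set.union_compl_self] at this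
    simp only [Set.mem_univ, iSup_pos] at this
    rw [← htop, this]
    rfl

end

open TensorProduct IsLocalRing in
/-- Let R be a local ring, S an R-algebra and N an S-module which, as an R-module, is an internal direct
sum of finite R-submodules. Then for every R-module M and every prime q of S which is the
annihilator of an element of the S-module N ⊗_R M we have q + 𝔪_R S ≠ S. -/
theorem result {R S : Type u} [CommRing R] [IsLocalRing R] [CommRing S] [Algebra R S]
    (N : Type u) [AddCommGroup N] [Module S N] [Module R N] [IsScalarTower R S N]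
    (ι : Type u) (F : ι → Submodule R N) (hF : DirectSum.IsInternal F) (hfin : ∀ i, Module.Finite R (F i))
    (M : Type u) [AddCommGroup M] [Module R M]
    (q : Ideal S) [q.IsPrime] (hq : q ∈ FlatCA.ass S (N ⊗[R] M)) :
    q ⊔ (maximalIdeal R).map (algebraMap R S) ≠ ⊤ := by
  intro htop
  obtain ⟨hqprime, z, hz⟩ := hq
  have h1 : (1 : S) ∈ q ⊔ (IsLocalRing.maximalIdeal R).map (algebraMap R S) := htop ▸ Submodule.mem_top
  obtain ⟨f, hf, a, ha, hfa⟩ := Submodule.mem_sup.1 h1
  have hfz : f • z = 0 := by
    have : f ∈ (Submodule.span S {z}).annihilator := hz ▸ hf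
    exact (Submodule.mem_annihilator_span_singleton z f).1 this
  -- the finite summand containing z
  obtain ⟨J, hJ⟩ := exists_finset_mem_range M F hF.submodule_iSup_eq_top z
  set p : Submodule R N := ⨆ i ∈ J, F i with hp
  obtain ⟨z₁, hz₁⟩ := hJ
  have hcompl := isCompl_biSup F hF.submodule_iSupIndep hF.submodule_iSup_eq_top J
  set π : N →ₗ[R] p := Submodule.projectionOnto p _ hcompl with hπ
  have hπι : ∀ y : p, π (y : N) = y := fun y => Submodule.projectionOnto_apply_left hcompl y
  have hpfg : p.FG := Submodule.fg_biSup J F (fun i _ => (Module.Finite.iff_fg.1 (hfin i)))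
  haveI : Module.Finite R p := Module.Finite.iff_fg.2 hpfg
  -- multiplication maps
  let φ : S → (N →ₗ[R] N) := fun s =>
    { toFun := fun n => s • n
      map_add' := fun x y => smul_add _ x y
      map_smul' := fun r x => by
        simp only [RingHom.id_apply]
        exact smul_comm s r x }
  have hφ : ∀ (s : S) (w : N ⊗[R] M), (LinearMap.rTensor M (φ s)) w = s • w := by
    intro s w
    induction w using TensorProduct.induction_on with
    | zero => simp
    | tmul n m =>
      rw [LinearMap.rTensor_tmul, TensorProduct.smul_tmul']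
      rfl
    | add x y hx hy => rw [map_add, smul_add, hx, hy]
  let f' : p →ₗ[R] p := π ∘ₗ (φ f) ∘ₗ p.subtype
  -- y - f' y ∈ m • ⊤
  have hsub : ∀ y : p, y - f' y ∈ (IsLocalRing.maximalIdeal R • ⊤ : Submodule R p) := by
    intro y
    have e1 : y - f' y = π (a • (y : N)) := by
      have h0 : a • (y : N) = (y : N) - f • (y : N) := by
        have : (y : N) = f • (y : N) + a • (y : N) := by rw [← add_smul, hfa, one_smul]
        exact eq_sub_of_add_eq' this.symm
      rw [h0, map_sub, hπι]
      rfl
    rw [e1]
    have h3 : a • (y : N) ∈ (IsLocalRing.maximalIdeal R • ⊤ : Submodule R N) :=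
      Groth.Agent.S1214.map_smul_mem_smul_top _ a ha _
    have h4 : (IsLocalRing.maximalIdeal R • ⊤ : Submodule R N).map π ≤
        (IsLocalRing.maximalIdeal R • ⊤ : Submodule R p) := by
      rw [Submodule.map_smul'']
      exact Submodule.smul_mono le_rfl le_top
    exact h4 (Submodule.mem_map_of_mem h3)
  have hsurj : Function.Surjective f' := by
    rw [← LinearMap.range_eq_top, eq_top_iff]
    apply Submodule.le_of_le_smul_of_le_jacobson_bot (I := IsLocalRing.maximalIdeal R)
      (Module.Finite.fg_top)
    · exact IsLocalRing.maximalIdeal_le_jacobson _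
    · intro y _
      have : y = f' y + (y - f' y) := by abel
      rw [this]
      exact Submodule.add_mem_sup (LinearMap.mem_range_self _ _) (hsub y)
  have hinj : Function.Injective f' := OrzechProperty.injective_of_surjective_endomorphism f' hsurj
  let e : p ≃ₗ[R] p := LinearEquiv.ofBijective f' ⟨hinj, hsurj⟩
  have hz0 : (e.rTensor M) z₁ = 0 := by
    have : (e.rTensor M) z₁ = (LinearMap.rTensor M π) ((LinearMap.rTensor M (φ f))
        ((LinearMap.rTensor M p.subtype) z₁)) := by
      change (LinearMap.rTensor M f') z₁ = _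
      simp only [f', LinearMap.rTensor_comp, LinearMap.comp_apply]
    rw [this, hz₁, hφ, hfz, map_zero]
  have hz1 : z₁ = 0 := (LinearEquiv.map_eq_zero_iff _).1 hz0
  rw [hz1, map_zero] at hz₁
  rw [← hz₁] at hz
  have : q = ⊤ := by
    rw [hz, Submodule.span_zero_singleton, Submodule.annihilator_bot]
  exact hqprime.ne_top this

end Groth.Agent.S1213
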