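import Groth.Statements.S12133
import Mathlib

set_option autoImplicit false
universe u
open EGA2

namespace Groth.Agent.S12133
open EGA2
open CategoryTheory AlgebraicGeometry Opposite

open DirectSum

section alg
variable {S : Type u} [CommRing S] (𝒜 : ℕ → AddSubgroup S) [GradedRing 𝒜]

/-- degree piece as a `ℤ`-submodule -/
abbrev I (n : ℕ) : Submodule ℤ S := AddSubgroup.toIntSubmodule (𝒜 n)

theorem I_mul_le (a b : ℕ) : I 𝒜 a * I 𝒜 b ≤ I 𝒜 (a + b) :=
  Submodule.mul_le.mpr fun x hx y hy =>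
    show x * y ∈ 𝒜 (a + b) from
      SetLike.mul_mem_graded (show x ∈ 𝒜 a from hx) (show y ∈ 𝒜 b from hy)

theorem I_pow_le (a k : ℕ) : I 𝒜 a ^ k ≤ I 𝒜 (k * a) := by
  induction k with
  | zero =>
    rw [pow_zero, zero_mul, Submodule.one_le]
    exact SetLike.one_mem_graded 𝒜
  | succ k ih =>
    rw [pow_succ, Nat.succ_mul]
    exact (mul_le_mul' ih le_rfl).trans (I_mul_le 𝒜 _ _)

variable {J : Type u} [Fintype J] (x : J → S) (e : J → ℕ)

/-- weight of an exponent vector -/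
def wt (a : J → ℕ) : ℕ := ∑ j, a j * e j

/-- the span of the monomials of weight `n` with coefficients in degree `0` -/
def P (n : ℕ) : Submodule ℤ S :=
  Submodule.span ℤ {z | ∃ c ∈ 𝒜 0, ∃ a : J → ℕ, wt e a = n ∧ z = c * ∏ j, x j ^ a j}

variable {x e}

theorem monomial_mem (hx : ∀ j, x j ∈ 𝒜 (e j)) (a : J → ℕ) :
    ∏ j, x j ^ a j ∈ 𝒜 (wt e a) := by
  have := SetLike.prod_pow_mem_graded 𝒜 e x (F := Finset.univ) a (fun j _ => hx j)
  simpa [wt, smul_eq_mul] using this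

theorem P_le_I (hx : ∀ j, x j ∈ 𝒜 (e j)) (n : ℕ) : P 𝒜 x e n ≤ I 𝒜 n := by
  apply Submodule.span_le.mpr
  rintro _ ⟨c, hc, a, ha, rfl⟩
  have := SetLike.mul_mem_graded hc (monomial_mem 𝒜 hx a)
  rw [zero_add, ha] at this
  exact this

theorem P_le_mul (hx : ∀ j, x j ∈ 𝒜 (e j)) (he : ∀ j, 0 < e j) (n : ℕ) (hn : 1 ≤ n)
    (hn' : Fintype.card J * ∏ j, e j ≤ n) :
    P 𝒜 x e n ≤ I 𝒜 (∏ j, e j) * I 𝒜 (n - ∏ j, e j) := by
  classical
  set m := ∏ j, e j with hm
  apply Submodule.span_le.mpr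
  rintro _ ⟨c, hc, a, ha, rfl⟩
  have hm1 : 0 < m := Finset.prod_pos (fun j _ => he j)
  obtain ⟨j, hj⟩ : ∃ j, m ≤ a j * e j := by
    by_contra hcon
    push Not at hcon
    have h1 : wt e a ≤ Fintype.card J * (m - 1) := by
      unfold wt
      calc ∑ j, a j * e j ≤ ∑ _j : J, (m - 1) :=
            Finset.sum_le_sum (fun j _ => by have := hcon j; omega)
        _ = Fintype.card J * (m - 1) := by simp
    rw [ha] at h1
    rcases Nat.eq_zero_or_pos (Fintype.card J) with h0 | h0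
    · rw [h0] at h1; omega
    · have : Fintype.card J * (m - 1) < Fintype.card J * m :=
        Nat.mul_lt_mul_of_pos_left (by omega) h0
      omega
  obtain ⟨q, hq⟩ : e j ∣ m := Finset.dvd_prod_of_mem e (Finset.mem_univ j)
  have hqa : q ≤ a j := by
    rw [hq, mul_comm] at hj
    exact Nat.le_of_mul_le_mul_right hj (he j)
  set a' : J → ℕ := fun i => if i = j then a j - q else a i with ha'
  have hsplit : ∀ i, a i = a' i + (if i = j then q else 0) := by
    intro i
    by_cases h : i = j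
    · subst h; simp [ha']; omega
    · simp [ha', h]
  have hprod : ∏ i, x i ^ a i = x j ^ q * ∏ i, x i ^ a' i := by
    calc ∏ i, x i ^ a i = ∏ i, (x i ^ a' i * x i ^ (if i = j then q else 0)) := by
          refine Finset.prod_congr rfl (fun i _ => ?_)
          rw [← pow_add, ← hsplit i]
      _ = (∏ i, x i ^ a' i) * ∏ i, x i ^ (if i = j then q else 0) := Finset.prod_mul_distrib
      _ = (∏ i, x i ^ a' i) * x j ^ q := by
          congr 1
          simp [pow_ite, Finset.prod_ite_eq']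
      _ = _ := mul_comm _ _
  have hwt : wt e a = wt e a' + m := by
    unfold wt
    calc ∑ i, a i * e i = ∑ i, (a' i * e i + (if i = j then q else 0) * e i) := by
          refine Finset.sum_congr rfl (fun i _ => ?_)
          rw [← add_mul, ← hsplit i]
      _ = (∑ i, a' i * e i) + ∑ i, (if i = j then q else 0) * e i := Finset.sum_add_distrib
      _ = (∑ i, a' i * e i) + q * e j := by
          congr 1
          simp [ite_mul, Finset.sum_ite_eq']
      _ = _ := by rw [hq]; ring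
  rw [hprod]
  have hre : c * (x j ^ q * ∏ i, x i ^ a' i) = x j ^ q * (c * ∏ i, x i ^ a' i) := by ring
  rw [hre]
  apply Submodule.mul_mem_mul
  · have := SetLike.pow_mem_graded q (hx j)
    show x j ^ q ∈ 𝒜 m
    rw [hq, mul_comm]
    simpa [smul_eq_mul] using this
  · have := SetLike.mul_mem_graded hc (monomial_mem 𝒜 hx a')
    show _ ∈ 𝒜 (n - m)
    rw [zero_add] at this
    have hw : wt e a' = n - m := by omega
    rw [← hw]
    exact this

theorem I_add_le (hx : ∀ j, x j ∈ 𝒜 (e j)) (he : ∀ j, 0 < e j)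
    (hSP : ∀ n, I 𝒜 n ≤ P 𝒜 x e n) (N : ℕ) (hN1 : 1 ≤ N)
    (hN : Fintype.card J * ∏ j, e j ≤ N) (j : ℕ) :
    I 𝒜 (N + j * ∏ j, e j) ≤ I 𝒜 (∏ j, e j) ^ j * I 𝒜 N := by
  set m := ∏ j, e j with hm
  induction j with
  | zero => simp
  | succ j ih =>
    have h1 : I 𝒜 (N + (j + 1) * m) ≤ I 𝒜 m * I 𝒜 (N + (j + 1) * m - m) :=
      (hSP _).trans (P_le_mul 𝒜 hx he _ (by omega) (by nlinarith))
    have h2 : N + (j + 1) * m - m = N + j * m := by
      rw [Nat.succ_mul]; omega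
    rw [h2] at h1
    refine h1.trans ?_
    rw [pow_succ', mul_assoc]
    exact mul_le_mul' le_rfl ih

theorem veronese_core (hx : ∀ j, x j ∈ 𝒜 (e j)) (he : ∀ j, 0 < e j)
    (hSP : ∀ n, I 𝒜 n ≤ P 𝒜 x e n) (k : ℕ) (hk1 : 1 ≤ k) (hk : Fintype.card J ≤ k) (n : ℕ)
    (hn : 0 < n) :
    I 𝒜 (n * (k * ∏ j, e j)) = I 𝒜 (k * ∏ j, e j) ^ n := by
  set m := ∏ j, e j with hm
  have hm1 : 0 < m := Finset.prod_pos (fun j _ => he j)
  set d := k * m with hd
  have hd1 : 1 ≤ d := Nat.mul_pos hk1 hm1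
  induction n, hn using Nat.le_induction with
  | base => simp
  | succ n hn ih =>
    apply le_antisymm
    · have hNd : Fintype.card J * m ≤ n * d := by
        calc Fintype.card J * m ≤ k * m := Nat.mul_le_mul_right _ hk
          _ = 1 * d := by rw [one_mul]
          _ ≤ n * d := Nat.mul_le_mul_right _ hn
      have h1 := I_add_le 𝒜 hx he hSP (n * d) (Nat.mul_pos hn hd1) hNd k
      have h2 : n * d + k * m = (n + 1) * d := by rw [hd]; ring
      rw [h2] at h1
      refine h1.trans ?_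
      rw [pow_succ', ← ih]
      exact mul_le_mul' (I_pow_le 𝒜 m k) le_rfl
    · exact I_pow_le 𝒜 d (n + 1)

theorem fg_core (hx : ∀ j, x j ∈ 𝒜 (e j)) (he : ∀ j, 0 < e j)
    (hSP : ∀ n, I 𝒜 n ≤ P 𝒜 x e n) (d : ℕ) :
    ∃ T : Finset S, (↑T : Set S) ⊆ (𝒜 d : Set S) ∧
      I 𝒜 d = I 𝒜 0 * Submodule.span ℤ (↑T : Set S) := by
  classical
  let A : Finset (J → ℕ) :=
    (Fintype.piFinset fun _ : J => Finset.range (d + 1)).filter (fun a => wt e a = d)
  let T : Finset S := A.image (fun a => ∏ j, x j ^ a j)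
  have hT : (↑T : Set S) ⊆ (𝒜 d : Set S) := by
    intro z hz
    simp only [T, Finset.coe_image, Set.mem_image, Finset.mem_coe] at hz
    obtain ⟨a, ha, rfl⟩ := hz
    have hw : wt e a = d := (Finset.mem_filter.1 ha).2
    have := monomial_mem 𝒜 hx a
    rw [hw] at this
    exact this
  refine ⟨T, hT, le_antisymm ?_ ?_⟩
  · refine (hSP d).trans (Submodule.span_le.mpr ?_)
    rintro _ ⟨c, hc, a, ha, rfl⟩
    apply Submodule.mul_mem_mul hc
    apply Submodule.subset_span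
    simp only [T, Finset.coe_image, Set.mem_image, Finset.mem_coe]
    refine ⟨a, ?_, rfl⟩
    refine Finset.mem_filter.2 ⟨?_, ha⟩
    rw [Fintype.mem_piFinset]
    intro j
    rw [Finset.mem_range]
    have h1 : a j * e j ≤ wt e a :=
      Finset.single_le_sum (f := fun j => a j * e j) (fun _ _ => Nat.zero_le _) (Finset.mem_univ j)
    have h2 : a j ≤ a j * e j := Nat.le_mul_of_pos_right _ (he j)
    omega
  · have h1 : Submodule.span ℤ (↑T : Set S) ≤ I 𝒜 d := Submodule.span_le.mpr hT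
    have h2 := (mul_le_mul' (le_refl (I 𝒜 0)) h1).trans (I_mul_le 𝒜 0 d)
    rwa [zero_add] at h2

end alg

section gens
variable {S : Type u} [CommRing S] (𝒜 : ℕ → AddSubgroup S) [GradedRing 𝒜]

theorem exists_generators {A : Type u} [CommRing A] (φ : A →+* S) (hφ0 : ∀ a, φ a ∈ 𝒜 0)
    (hft : φ.FiniteType) :
    ∃ (J : Type u) (_ : Fintype J) (x : J → S) (e : J → ℕ), (∀ j, x j ∈ 𝒜 (e j)) ∧
      (∀ j, 0 < e j) ∧ ∀ n, I 𝒜 n ≤ P 𝒜 x e n := by
  classical
  letI := φ.toAlgebra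
  obtain ⟨G, hG⟩ := (hft : Algebra.FiniteType A S).out
  let Jset : Finset (S × ℕ) :=
    G.biUnion (fun g => ((decompose 𝒜 g).support.filter (fun k => 0 < k)).image (fun k => (g, k)))
  let x : Jset → S := fun p => (decompose 𝒜 p.1.1 p.1.2 : S)
  let e : Jset → ℕ := fun p => p.1.2
  have hx : ∀ j, x j ∈ 𝒜 (e j) := fun j => SetLike.coe_mem _
  have he : ∀ j, 0 < e j := by
    rintro ⟨⟨g, k⟩, hp⟩
    simp only [Jset, Finset.mem_biUnion, Finset.mem_image, Finset.mem_filter, Prod.mk.injEq] at hp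
    obtain ⟨g', _, k', ⟨_, hk'⟩, _, rfl⟩ := hp
    exact hk'
  refine ⟨Jset, inferInstance, x, e, hx, he, ?_⟩
  let Q : Submodule ℤ S :=
    Submodule.span ℤ {z | ∃ c ∈ 𝒜 0, ∃ a : Jset → ℕ, z = c * ∏ j, x j ^ a j}
  have hQmul : Q * Q ≤ Q := by
    rw [Submodule.span_mul_span]
    apply Submodule.span_le.mpr
    rintro _ ⟨_, ⟨c₁, hc₁, a₁, rfl⟩, _, ⟨c₂, hc₂, a₂, rfl⟩, rfl⟩
    apply Submodule.subset_span
    refine ⟨c₁ * c₂, ?_, a₁ + a₂, ?_⟩
    · have := SetLike.mul_mem_graded hc₁ hc₂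
      rwa [zero_add] at this
    · simp only [Pi.add_apply, pow_add, Finset.prod_mul_distrib]
      ring
  have h0Q : ∀ c ∈ 𝒜 0, c ∈ Q := by
    intro c hc
    apply Submodule.subset_span
    exact ⟨c, hc, 0, by simp⟩
  have hGQ : ∀ g ∈ G, g ∈ Q := by
    intro g hg
    rw [← DirectSum.sum_support_decompose 𝒜 g]
    apply Submodule.sum_mem
    intro k hk
    rcases Nat.eq_zero_or_pos k with h0 | hpos
    · subst h0
      exact h0Q _ (SetLike.coe_mem _)
    · have hmem : (g, k) ∈ Jset := by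
        simp only [Jset, Finset.mem_biUnion, Finset.mem_image, Finset.mem_filter, Prod.mk.injEq]
        exact ⟨g, hg, k, ⟨hk, hpos⟩, rfl, rfl⟩
      apply Submodule.subset_span
      refine ⟨1, SetLike.one_mem_graded 𝒜, Pi.single ⟨(g, k), hmem⟩ 1, ?_⟩
      rw [one_mul]
      rw [Finset.prod_eq_single (⟨(g, k), hmem⟩ : Jset)]
      · simp [x]
      · intro b _ hb
        simp [hb]
      · intro h
        exact absurd (Finset.mem_univ _) h
  have hall : ∀ s : S, s ∈ Q := by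
    intro s
    have hs : s ∈ Algebra.adjoin A (↑G : Set S) := by rw [hG]; trivial
    induction hs using Algebra.adjoin_induction with
    | mem g hg => exact hGQ g hg
    | algebraMap a => exact h0Q _ (hφ0 a)
    | add s t _ _ hs ht => exact Q.add_mem hs ht
    | mul s t _ _ hs ht => exact hQmul (Submodule.mul_mem_mul hs ht)
  intro n s hs
  have hle : Q ≤ (P 𝒜 x e n).comap (GradedRing.proj 𝒜 n).toIntLinearMap := by
    apply Submodule.span_le.mpr
    rintro _ ⟨c, hc, a, rfl⟩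
    have hz : c * ∏ j, x j ^ a j ∈ 𝒜 (wt e a) := by
      have := SetLike.mul_mem_graded hc (monomial_mem 𝒜 hx a)
      rwa [zero_add] at this
    show GradedRing.proj 𝒜 n (c * ∏ j, x j ^ a j) ∈ P 𝒜 x e n
    rw [GradedRing.proj_apply]
    by_cases hw : wt e a = n
    · rw [← hw, DirectSum.decompose_of_mem_same 𝒜 hz]
      exact Submodule.subset_span ⟨c, hc, a, rfl, rfl⟩
    · rw [DirectSum.decompose_of_mem_ne 𝒜 hz hw]
      exact Submodule.zero_mem _
  have h1 := hle (hall s)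
  have h2 : GradedRing.proj 𝒜 n s = s := by
    rw [GradedRing.proj_apply]
    exact DirectSum.decompose_of_mem_same 𝒜 hs
  change GradedRing.proj 𝒜 n s ∈ P 𝒜 x e n at h1
  rwa [h2] at h1

end gens


theorem exists_veronese {S : Type u} [CommRing S] (𝒜 : ℕ → AddSubgroup S) [GradedRing 𝒜]
    {A : Type u} [CommRing A] (φ : A →+* S) (hφ0 : ∀ a, φ a ∈ 𝒜 0) (hft : φ.FiniteType) :
    ∃ d₀ : ℕ, 0 < d₀ ∧ ∀ t : ℕ, 0 < t →
      (∀ n : ℕ, 0 < n → I 𝒜 (n * (d₀ * t)) = I 𝒜 (d₀ * t) ^ n) ∧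
      ∃ T : Finset S, (↑T : Set S) ⊆ (𝒜 (d₀ * t) : Set S) ∧
        I 𝒜 (d₀ * t) = I 𝒜 0 * Submodule.span ℤ (↑T : Set S) := by
  obtain ⟨J, _, x, e, hx, he, hSP⟩ := exists_generators 𝒜 φ hφ0 hft
  have hm1 : 0 < ∏ j, e j := Finset.prod_pos (fun j _ => he j)
  refine ⟨max (Fintype.card J) 1 * ∏ j, e j, Nat.mul_pos (by omega) hm1,
    fun t ht => ⟨fun n hn => ?_, fg_core 𝒜 hx he hSP _⟩⟩
  have h := veronese_core 𝒜 hx he hSP (max (Fintype.card J) 1 * t)
    (Nat.mul_pos (by omega) ht)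
    ((le_max_left _ _).trans (Nat.le_mul_of_pos_right _ ht)) n hn
  have h' : max (Fintype.card J) 1 * (∏ j, e j) * t = (max (Fintype.card J) 1 * t) * ∏ j, e j := by
    ring
  rw [h']
  exact h


open CategoryTheory AlgebraicGeometry Opposite in
/-- Let Y be a scheme, 𝒮 a quasi-coherent positively graded O_Y-algebra, and (U_i) a finite cover of Y
by affine open sets such that each graded ring 𝒮(U_i) is an algebra of finite type over O_Y(U_i).
Then there is an integer d > 0 such that for every i: 𝒮(U_i)_{nd} = (𝒮(U_i)_d)^n for all n > 0 (as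
additive subgroups of the ring 𝒮(U_i); that is, 𝒮^{(d)} is generated by 𝒮_d), and 𝒮(U_i)_d is a
finitely generated module over the degree-zero subring 𝒮(U_i)_0. (The published statement says 𝒮_d
is an O_Y-module of finite type; its proof gives finite generation over 𝒮_0, which is what is stated
here — for 𝒮 = O_Y[x][T] with x of degree 0 and T of degree 1 over an affine Y, 𝒮 is of finite type
but 𝒮_1 = O_Y[x] T is not a finitely generated O_Y-module.) -/
theorem result {Y : Scheme.{u}} (𝒮 : RelProj.QCGrAlg Y)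
    {ι : Type u} [Finite ι] (U : ι → Y.Opens) (hU : ∀ i, IsAffineOpen (U i)) (hcov : ⨆ i, U i = ⊤)
    (hft : ∀ i, (𝒮.str.app (op (U i))).hom.FiniteType) :
    ∃ d : ℕ, 0 < d ∧ ∀ i,
      (∀ n : ℕ, 0 < n →
        AddSubgroup.toIntSubmodule (𝒮.deg (U i) (hU i) (n * d)) =
          AddSubgroup.toIntSubmodule (𝒮.deg (U i) (hU i) d) ^ n) ∧
      ∃ T : Finset (𝒮.presheaf.obj (op (U i))),
        (↑T : Set (𝒮.presheaf.obj (op (U i)))) ⊆ (𝒮.deg (U i) (hU i) d : Set (𝒮.presheaf.obj (op (U i)))) ∧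
        AddSubgroup.toIntSubmodule (𝒮.deg (U i) (hU i) d) =
          AddSubgroup.toIntSubmodule (𝒮.deg (U i) (hU i) 0) *
            Submodule.span ℤ (↑T : Set (𝒮.presheaf.obj (op (U i)))) := by
  classical
  haveI := Fintype.ofFinite ι
  have h := fun i => exists_veronese (𝒮.deg (U i) (hU i)) (𝒮.str.app (op (U i))).hom
    (𝒮.str_mem (U i) (hU i)) (hft i)
  choose d₀ hd₀ hprop using h
  have hpos : 0 < ∏ i, d₀ i := Finset.prod_pos (fun i _ => hd₀ i)
  refine ⟨∏ i, d₀ i, hpos, fun i => ?_⟩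
  obtain ⟨t, ht⟩ : d₀ i ∣ ∏ i, d₀ i := Finset.dvd_prod_of_mem d₀ (Finset.mem_univ i)
  have htpos : 0 < t := by
    rcases Nat.eq_zero_or_pos t with h | h
    · exfalso
      rw [h, mul_zero] at ht
      exact hpos.ne' ht
    · exact h
  rw [ht]
  exact hprop i t htpos

end Groth.Agent.S12133
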