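import Groth.Statements.S12134
-- import your own Groth.Agent.* helpers here
import Mathlib
import Groth.Agent.Lib.Helper26GrStrat

set_option autoImplicit false
universe u
open scoped TensorProduct
open EGA43

namespace Groth.Agent.S12134

set_option linter.style.haveILetI false

open AlgebraicGeometry CategoryTheory Groth.Agent.Lib.Helper26.GrStrat

section aux

variable {A₀ : Type u} [CommRing A₀]

abbrev Astr (a : Ideal A₀ × A₀) : Type u := Localization.Away (Ideal.Quotient.mk a.1 a.2)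

def rng (a : Ideal A₀ × A₀) : Set (PrimeSpectrum A₀) := {q | a.1 ≤ q.asIdeal ∧ a.2 ∉ q.asIdeal}

theorem range_specMap (a : Ideal A₀ × A₀) :
    Set.range (Spec.map (CommRingCat.ofHom (algebraMap A₀ (Astr a)))) = rng a := by
  have h1 : algebraMap A₀ (Astr a) =
      (algebraMap (A₀ ⧸ a.1) (Astr a)).comp (Ideal.Quotient.mk a.1) := rfl
  have h2 : Set.range (Spec.map (CommRingCat.ofHom (algebraMap A₀ (Astr a)))) =
      Set.range (PrimeSpectrum.comap (algebraMap A₀ (Astr a))) := rfl
  rw [h2, h1]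
  have h3 : (PrimeSpectrum.comap ((algebraMap (A₀ ⧸ a.1) (Astr a)).comp (Ideal.Quotient.mk a.1))) =
      PrimeSpectrum.comap (Ideal.Quotient.mk a.1) ∘ PrimeSpectrum.comap (algebraMap (A₀ ⧸ a.1) (Astr a)) := rfl
  rw [h3, Set.range_comp, PrimeSpectrum.localization_away_comap_range (Astr a) (Ideal.Quotient.mk a.1 a.2)]
  ext q
  constructor
  · rintro ⟨q', hq', rfl⟩
    refine ⟨?_, ?_⟩
    · intro x hx
      change Ideal.Quotient.mk a.1 x ∈ q'.asIdeal
      rw [Ideal.Quotient.eq_zero_iff_mem.mpr hx]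
      exact zero_mem _
    · exact hq'
  · rintro ⟨h1, h2⟩
    have hq : q ∈ Set.range (PrimeSpectrum.comap (Ideal.Quotient.mk a.1)) := by
      rw [range_comap_of_surjective _ _ Ideal.Quotient.mk_surjective,
        Ideal.mk_ker]
      exact h1
    obtain ⟨q', rfl⟩ := hq
    exact ⟨q', h2, rfl⟩

instance (a : Ideal A₀ × A₀) : IsImmersion (Spec.map (CommRingCat.ofHom (algebraMap A₀ (Astr a)))) := by
  have h1 : algebraMap A₀ (Astr a) =
      (algebraMap (A₀ ⧸ a.1) (Astr a)).comp (Ideal.Quotient.mk a.1) := rfl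
  rw [h1, CommRingCat.ofHom_comp, Spec.map_comp]
  haveI : IsClosedImmersion (Spec.map (CommRingCat.ofHom (Ideal.Quotient.mk a.1))) :=
    IsClosedImmersion.spec_of_surjective _ Ideal.Quotient.mk_surjective
  haveI : IsOpenImmersion (Spec.map (CommRingCat.ofHom (algebraMap (A₀ ⧸ a.1) (Astr a)))) :=
    IsOpenImmersion.of_isLocalization (Ideal.Quotient.mk a.1 a.2)
  infer_instance

theorem mem_rng (a : Ideal A₀ × A₀) (q : PrimeSpectrum A₀) :
    q ∈ rng a ↔ a.1 ≤ q.asIdeal ∧ a.2 ∉ q.asIdeal := Iff.rfl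

/-- choose an element in all other minimal primes but not in `p`. -/
theorem exists_mem_other_minimalPrimes [IsNoetherianRing A₀] (I : Ideal A₀) (p : Ideal A₀)
    (hp : p ∈ I.minimalPrimes) :
    ∃ h : A₀, h ∉ p ∧ ∀ p' ∈ I.minimalPrimes, p' ≠ p → h ∈ p' := by
  classical
  have hfin : (I.minimalPrimes).Finite := Ideal.finite_minimalPrimes_of_isNoetherianRing A₀ I
  set S : Finset (Ideal A₀) := hfin.toFinset.erase p with hS
  have hpprime : p.IsPrime := hp.1.1
  have hnot : ¬ (S.inf id ≤ p) := by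
    rw [Ideal.IsPrime.inf_le' hpprime]
    rintro ⟨p', hp'S, hp'p⟩
    rw [hS, Finset.mem_erase, Set.Finite.mem_toFinset] at hp'S
    obtain ⟨hne, hp'min⟩ := hp'S
    exact hne (le_antisymm hp'p (hp.2 hp'min.1 hp'p))
  obtain ⟨h, hhS, hhp⟩ := SetLike.not_le_iff_exists.mp hnot
  refine ⟨h, hhp, fun p' hp'min hne => ?_⟩
  have : S.inf id ≤ p' := Finset.inf_le (f := id) (by
    rw [hS, Finset.mem_erase, Set.Finite.mem_toFinset]
    exact ⟨hne, hp'min⟩)
  exact this hhS

theorem exists_strat [IsNoetherianRing A₀] (Good : Ideal A₀ × A₀ → Prop)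
    (hG : ∀ p : Ideal A₀, p.IsPrime → ∃ f : A₀, f ∉ p ∧ ∀ h : A₀, Good (p, f * h)) (I : Ideal A₀) :
    ∃ (m : ℕ) (a : Fin m → Ideal A₀ × A₀), (∀ i, Good (a i)) ∧
      (∀ i j, i ≠ j → Disjoint (rng (a i)) (rng (a j))) ∧
      (⋃ i, rng (a i)) = PrimeSpectrum.zeroLocus (I : Set A₀) ∧
      (∀ i, ∃ U : Set (PrimeSpectrum A₀), IsOpen U ∧
        U ∩ (⋃ j, ⋃ (_ : i ≤ j), rng (a j)) = rng (a i)) := by
  refine IsNoetherian.induction (P := fun I : Ideal A₀ => ∃ (m : ℕ) (a : Fin m → Ideal A₀ × A₀),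
    (∀ i, Good (a i)) ∧
      (∀ i j, i ≠ j → Disjoint (rng (a i)) (rng (a j))) ∧
      (⋃ i, rng (a i)) = PrimeSpectrum.zeroLocus (I : Set A₀) ∧
      (∀ i, ∃ U : Set (PrimeSpectrum A₀), IsOpen U ∧
        U ∩ (⋃ j, ⋃ (_ : i ≤ j), rng (a j)) = rng (a i))) (fun I ih => ?_) I
  by_cases hI : I = ⊤
  · refine ⟨0, Fin.elim0, fun i => i.elim0, fun i => i.elim0, ?_, fun i => i.elim0⟩
    rw [hI]
    simp
  · obtain ⟨p, hp⟩ := Ideal.nonempty_minimalPrimes hI
    have hpprime : p.IsPrime := hp.1.1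
    have hIp : I ≤ p := hp.1.2
    obtain ⟨h, hhp, hh⟩ := exists_mem_other_minimalPrimes I p hp
    obtain ⟨f, hfp, hfG⟩ := hG p hpprime
    set g := f * h with hg
    have hgp : g ∉ p := fun hgp => (hpprime.mem_or_mem hgp).elim hfp hhp
    -- V(I) ∩ D(g) = rng (p, g)
    have hα : ∀ q : PrimeSpectrum A₀, (I ≤ q.asIdeal ∧ g ∉ q.asIdeal) ↔ q ∈ rng (p, g) := by
      intro q
      constructor
      · rintro ⟨hIq, hgq⟩
        refine ⟨?_, hgq⟩
        obtain ⟨p'', hp''min, hp''q⟩ := Ideal.exists_minimalPrimes_le hIq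
        by_cases hpp : p'' = p
        · rw [← hpp]; exact hp''q
        · exact absurd (hp''q (Ideal.mul_mem_left _ f (hh p'' hp''min hpp))) hgq
      · rintro ⟨hpq, hgq⟩
        exact ⟨hIp.trans hpq, hgq⟩
    have hlt : I < I ⊔ Ideal.span {g} := by
      refine lt_of_le_of_ne le_sup_left (fun heq => hgp (hIp ?_))
      rw [heq]
      exact Ideal.mem_sup_right (Ideal.mem_span_singleton_self g)
    obtain ⟨m, a, haG, hadisj, haU, haopen⟩ := ih _ hlt
    have hmemI' : ∀ q : PrimeSpectrum A₀, q ∈ PrimeSpectrum.zeroLocus ((I ⊔ Ideal.span {g} : Ideal A₀) : Set A₀) ↔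
        I ≤ q.asIdeal ∧ g ∈ q.asIdeal := by
      intro q
      rw [PrimeSpectrum.mem_zeroLocus, SetLike.coe_subset_coe, sup_le_iff,
        Ideal.span_singleton_le_iff_mem]
    have hai : ∀ (i : Fin m) (q : PrimeSpectrum A₀), q ∈ rng (a i) → I ≤ q.asIdeal ∧ g ∈ q.asIdeal := by
      intro i q hq
      rw [← hmemI', ← haU]
      exact Set.mem_iUnion.mpr ⟨i, hq⟩
    have hU' : (⋃ i, rng (Fin.cons (α := fun _ => Ideal A₀ × A₀) (p, g) a i)) =
        PrimeSpectrum.zeroLocus (I : Set A₀) := by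
      ext q
      simp only [Set.mem_iUnion, Fin.exists_fin_succ, Fin.cons_zero, Fin.cons_succ]
      rw [PrimeSpectrum.mem_zeroLocus, SetLike.coe_subset_coe]
      constructor
      · rintro (hq | ⟨i, hq⟩)
        · exact ((hα q).mpr hq).1
        · exact (hai i q hq).1
      · intro hIq
        by_cases hgq : g ∈ q.asIdeal
        · right
          have : q ∈ ⋃ i, rng (a i) := by
            rw [haU, hmemI']
            exact ⟨hIq, hgq⟩
          exact Set.mem_iUnion.mp this
        · left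
          exact (hα q).mp ⟨hIq, hgq⟩
    refine ⟨m + 1, Fin.cons (p, g) a, ?_, ?_, hU', ?_⟩
    · intro i
      refine Fin.cases ?_ (fun i => ?_) i
      · rw [Fin.cons_zero]; exact hfG h
      · rw [Fin.cons_succ]; exact haG i
    · intro i j
      refine Fin.cases ?_ (fun i => ?_) i <;> refine Fin.cases ?_ (fun j => ?_) j
      · intro h
        exact absurd rfl h
      · intro _
        rw [Fin.cons_zero, Fin.cons_succ, Set.disjoint_left]
        intro q hq1 hq2
        exact hq1.2 (hai j q hq2).2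
      · intro _
        rw [Fin.cons_zero, Fin.cons_succ, Set.disjoint_left]
        intro q hq1 hq2
        exact hq2.2 (hai i q hq1).2
      · intro hij
        rw [Fin.cons_succ, Fin.cons_succ]
        exact hadisj i j (fun h => hij (by rw [h]))
    · intro i
      refine Fin.cases ?_ (fun i => ?_) i
      · refine ⟨(PrimeSpectrum.basicOpen g : Set (PrimeSpectrum A₀)),
          (PrimeSpectrum.basicOpen g).isOpen, ?_⟩
        ext q
        constructor
        · rintro ⟨hqU, hq⟩
          obtain ⟨j, hq⟩ := Set.mem_iUnion.mp hq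
          obtain ⟨-, hq⟩ := Set.mem_iUnion.mp hq
          have hqI : q ∈ PrimeSpectrum.zeroLocus (I : Set A₀) := by
            rw [← hU']
            exact Set.mem_iUnion.mpr ⟨j, hq⟩
          rw [PrimeSpectrum.mem_zeroLocus, SetLike.coe_subset_coe] at hqI
          rw [Fin.cons_zero]
          exact (hα q).mp ⟨hqI, hqU⟩
        · intro hq
          rw [Fin.cons_zero] at hq
          refine ⟨hq.2, Set.mem_iUnion.mpr ⟨0, Set.mem_iUnion.mpr ⟨le_rfl, ?_⟩⟩⟩
          rw [Fin.cons_zero]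
          exact hq
      · obtain ⟨U, hU, hUeq⟩ := haopen i
        refine ⟨U, hU, ?_⟩
        rw [Fin.cons_succ, ← hUeq]
        congr 1
        ext q
        simp only [Set.mem_iUnion, exists_prop]
        constructor
        · rintro ⟨j, hij, hq⟩
          revert hij hq
          refine Fin.cases ?_ (fun j => ?_) j
          · intro hij
            exact absurd hij (not_le.mpr (Fin.succ_pos i))
          · intro hij hq
            rw [Fin.cons_succ] at hq
            exact ⟨j, Fin.succ_le_succ_iff.mp hij, hq⟩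
        · rintro ⟨j, hij, hq⟩
          refine ⟨j.succ, Fin.succ_le_succ_iff.mpr hij, ?_⟩
          rw [Fin.cons_succ]
          exact hq


end aux

open AlgebraicGeometry CategoryTheory in
/-- Suppose A₀ is a Noetherian ring and B₀ is a finitely generated A₀-algebra; fix an ideal J₀ ⊆ B₀ and
a finite B₀-module M₀. Then Spec A₀ admits finitely many affine subschemes S_1, …, S_m — presented
as immersions Spec A_i → Spec A₀ — whose underlying sets are mutually disjoint with union all of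
Spec A₀, such that each S_i is open in S_i ∪ S_{i+1} ∪ … ∪ S_m, and such that for each i, setting
N_i = A_i ⊗_{A₀} M₀, the graded module associated to the J₀-adic filtration on N_i is A_i-flat.
Concretely, for every n the A_i-module J₀ⁿN_i / J₀ⁿ⁺¹N_i is flat, where this quotient is encoded as
the image of J₀ⁿN_i inside N_i / J₀ⁿ⁺¹N_i, and J₀ⁿN_i denotes the image in N_i of A_i ⊗_{A₀} J₀ⁿM₀. -/
theorem result {A₀ : Type u} [CommRing A₀] [IsNoetherianRing A₀]
    {B₀ : Type u} [CommRing B₀] [Algebra A₀ B₀] [Algebra.FiniteType A₀ B₀] (J₀ : Ideal B₀)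
    (M₀ : Type u) [AddCommGroup M₀] [Module B₀ M₀] [Module A₀ M₀] [IsScalarTower A₀ B₀ M₀]
    [Module.Finite B₀ M₀] :
    ∃ (m : ℕ) (A : Fin m → Type u) (_ : ∀ i, CommRing (A i)) (_ : ∀ i, Algebra A₀ (A i)),
      (∀ i, IsImmersion (Spec.map (CommRingCat.ofHom (algebraMap A₀ (A i))))) ∧
      (∀ i j, i ≠ j → Disjoint (Set.range (Spec.map (CommRingCat.ofHom (algebraMap A₀ (A i)))))
        (Set.range (Spec.map (CommRingCat.ofHom (algebraMap A₀ (A j)))))) ∧
      (⋃ i, Set.range (Spec.map (CommRingCat.ofHom (algebraMap A₀ (A i)))) = Set.univ) ∧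
      (∀ i, ∃ U : Set (Spec (CommRingCat.of A₀)), IsOpen U ∧
        U ∩ (⋃ j, ⋃ (_ : i ≤ j), Set.range (Spec.map (CommRingCat.ofHom (algebraMap A₀ (A j))))) =
          Set.range (Spec.map (CommRingCat.ofHom (algebraMap A₀ (A i))))) ∧
      ∀ i (n : ℕ), Module.Flat (A i)
        ↥(Submodule.map
            (LinearMap.range (LinearMap.baseChange (A i)
              ((J₀ ^ (n + 1) • (⊤ : Submodule B₀ M₀)).restrictScalars A₀).subtype)).mkQ
            (LinearMap.range (LinearMap.baseChange (A i)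
              ((J₀ ^ n • (⊤ : Submodule B₀ M₀)).restrictScalars A₀).subtype))) := by
  classical
  let Good : Ideal A₀ × A₀ → Prop := fun a => ∀ k : ℕ, Module.Flat (Astr a)
    (Astr a ⊗[A₀] (M₀ ⧸ (J₀ ^ k • (⊤ : Submodule B₀ M₀)).restrictScalars A₀))
  have hG : ∀ p : Ideal A₀, p.IsPrime → ∃ f : A₀, f ∉ p ∧ ∀ h : A₀, Good (p, f * h) := by
    intro p hp
    haveI := hp
    obtain ⟨f, hf, hfl⟩ := exists_stratum J₀ M₀ p
    exact ⟨f, hf, fun h k => hfl h k⟩
  obtain ⟨m, a, haG, hadisj, haU, haopen⟩ := exists_strat Good hG ⊥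
  refine ⟨m, fun i => Astr (a i), fun i => inferInstance, fun i => inferInstance, ?_, ?_, ?_, ?_, ?_⟩
  · intro i
    infer_instance
  · intro i j hij
    rw [range_specMap, range_specMap]
    exact hadisj i j hij
  · simp_rw [range_specMap]
    refine haU.trans ?_
    rw [Submodule.bot_coe, PrimeSpectrum.zeroLocus_singleton_zero]
    rfl
  · intro i
    obtain ⟨U, hU, hUeq⟩ := haopen i
    refine ⟨U, hU, ?_⟩
    simp_rw [range_specMap]
    exact hUeq
  · intro i n
    have h1 := haG i n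
    have h2 := haG i (n + 1)
    have hle : (J₀ ^ (n + 1) • (⊤ : Submodule B₀ M₀)).restrictScalars A₀ ≤
        (J₀ ^ n • (⊤ : Submodule B₀ M₀)).restrictScalars A₀ :=
      fun x hx => (Submodule.smul_mono_left (Ideal.pow_le_pow_right (Nat.le_succ n)) :
        (J₀ ^ (n + 1) • ⊤ : Submodule B₀ M₀) ≤ J₀ ^ n • ⊤) hx
    have h3 := flat_piece (Astr (a i)) hle (hX := h1) (hY := h2)
    exact h3

end Groth.Agent.S12134
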