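import Groth.Statements.S12137
import Groth.Agent.Lib.Helper13PolyProj
import Groth.Agent.Lib.Helper13SpecQMap
-- import your own Groth.Agent.* helpers here

set_option autoImplicit false
universe u
open CategoryTheory CategoryTheory.Limits AlgebraicGeometry Opposite TopologicalSpace
open scoped HomogeneousIdeal
noncomputable section
open EGA2

namespace Groth.Agent.S12137

open Groth.Agent.Helper13PolyProj Groth.Agent.Helper13GrPoly Groth.Agent.Helper13SpecQMap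
  Groth.Agent.Helper13RelProj HomogeneousLocalization

variable {Y P : Scheme.{u}} (𝒜 : RelSpec.QCAlg Y) (Sh : RelProj.QCGrAlg Y)
    (ι : 𝒜 ⟶ Sh.toQCAlg)
    (hι : ∀ (U : Y.Opens) (hU : IsAffineOpen U) (a : 𝒜.presheaf.obj (op U)), (ι.hom.app (op U)).hom a ∈ Sh.deg U hU 0)
    (z : Sh.presheaf.obj (op ⊤))
    (hz : ∀ (U : Y.Opens) (hU : IsAffineOpen U), (Sh.presheaf.map (homOfLE le_top).op).hom z ∈ Sh.deg U hU 1)
    (hpoly : ∀ (U : Y.Opens) (hU : IsAffineOpen U),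
      Function.Bijective (Polynomial.eval₂RingHom (ι.hom.app (op U)).hom ((Sh.presheaf.map (homOfLE le_top).op).hom z)))
    (p : P ⟶ Y)
    (chart : ∀ (U : Y.Opens) (hU : IsAffineOpen U), (((p ⁻¹ᵁ U : P.Opens) : Scheme.{u}) ≅ Proj (Sh.deg U hU)))
    (hP : RelProj.IsRelProj Sh p chart)
    (θ : ∀ (U : Y.Opens) (hU : IsAffineOpen U),
      CommRingCat.of (HomogeneousLocalization.Away (Sh.deg U hU) ((Sh.presheaf.map (homOfLE le_top).op).hom z)) ⟶
        𝒜.presheaf.obj (op U))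
    (hθ : ∀ (U : Y.Opens) (hU : IsAffineOpen U)
      (q : HomogeneousLocalization.Away (Sh.deg U hU) ((Sh.presheaf.map (homOfLE le_top).op).hom z))
      (k : ℕ) (a : 𝒜.presheaf.obj (op U)),
        q.val = Localization.mk ((ι.hom.app (op U)).hom a * (Sh.presheaf.map (homOfLE le_top).op).hom z ^ k)
          ⟨(Sh.presheaf.map (homOfLE le_top).op).hom z ^ k,
            pow_mem (Submonoid.mem_powers ((Sh.presheaf.map (homOfLE le_top).op).hom z)) k⟩ →
        (θ U hU).hom q = a)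

/-- the chart map `Spec 𝒜(U) → P` -/
def cU (U : Y.Opens) (hU : IsAffineOpen U) : Spec (𝒜.presheaf.obj (op U)) ⟶ P :=
  Spec.map (θ U hU) ≫
    Proj.awayι (Sh.deg U hU) ((Sh.presheaf.map (homOfLE le_top).op).hom z) (hz U hU) one_pos ≫
      RelProj.emb p chart U hU

theorem z_res {U V : Y.Opens} (hU : IsAffineOpen U) (hV : IsAffineOpen V) (h : V ≤ U) :
    Sh.res hU hV h ((Sh.presheaf.map (homOfLE le_top).op).hom z) =
      (Sh.presheaf.map (homOfLE le_top).op).hom z := by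
  rw [RelProj.QCGrAlg.res_apply, ← CommRingCat.comp_apply, ← Functor.map_comp]
  rfl

include hι hz hpoly hθ in
/-- naturality of `θ` (ring level) -/
theorem θ_res {U V : Y.Opens} (hU : IsAffineOpen U) (hV : IsAffineOpen V) (h : V ≤ U) :
    θ U hU ≫ 𝒜.presheaf.map (homOfLE h).op =
      CommRingCat.ofHom (Away.map (Sh.res hU hV h) ((Sh.presheaf.map (homOfLE le_top).op).hom z)) ≫
        CommRingCat.ofHom (awayCast (Sh.deg V hV) (z_res Sh z hU hV h)) ≫ θ V hV := by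
  ext1
  refine RingHom.ext fun q => ?_
  exact θ_nat (Sh.deg U hU) (ι.hom.app (op U)).hom (hι U hU) _ (hz U hU) (hpoly U hU) (θ U hU).hom
    (hθ U hU) (Sh.deg V hV) (ι.hom.app (op V)).hom _ (θ V hV).hom (hθ V hV) (Sh.res hU hV h)
    (𝒜.presheaf.map (homOfLE h).op).hom
    (fun b => by
      have n := congrArg (fun t : 𝒜.presheaf.obj (op U) ⟶ _ => t.hom b)
        (ι.hom.naturality (homOfLE h).op)
      exact n.symm)
    (z_res Sh z hU hV h) q

include hι hz hpoly hθ hP in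
/-- compatibility of the chart maps with restriction to a basic open -/
theorem cU_basic (U : Y.Opens) (hU : IsAffineOpen U) (r : Γ(Y, U)) :
    Spec.map (𝒜.presheaf.map (homOfLE (Y.basicOpen_le r)).op) ≫ cU 𝒜 Sh z hz p chart θ U hU =
      cU 𝒜 Sh z hz p chart θ (Y.basicOpen r) (hU.basicOpen r) := by
  have hD := hU.basicOpen r
  have e1 := RelProj.map_res_emb hP U hU r
  have e2 := awayι_congr (Sh.deg _ hD) (z_res Sh z hU hD (Y.basicOpen_le r)) ((Sh.res hU hD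
    (Y.basicOpen_le r)).map_mem (hz U hU)) one_pos
  have e3 := Proj.awayι_comp_map (Sh.res hU hD (Y.basicOpen_le r)) (Sh.irrelevant_le_map U hU r)
    one_pos _ (hz U hU)
  have e4 := θ_res 𝒜 Sh ι hι z hz hpoly θ hθ hU hD (Y.basicOpen_le r)
  unfold cU
  rw [← e1]
  have e5 : Proj.awayι (Sh.deg (Y.basicOpen r) hD) ((Sh.presheaf.map (homOfLE le_top).op).hom z)
      (hz _ hD) one_pos = _ := e2
  rw [e5, Category.assoc, reassoc_of% e3, ← Category.assoc, ← Spec.map_comp, e4, Spec.map_comp,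
    Spec.map_comp]
  simp only [Category.assoc]

include hι hz hpoly hθ hP in
theorem cU_basic' {U W : Y.Opens} (hU : IsAffineOpen U) (hW : IsAffineOpen W) (f : Γ(Y, U))
    (hWf : W = Y.basicOpen f) (hle : W ≤ U) :
    Spec.map (𝒜.presheaf.map (homOfLE hle).op) ≫ cU 𝒜 Sh z hz p chart θ U hU =
      cU 𝒜 Sh z hz p chart θ W hW := by
  subst hWf
  exact cU_basic 𝒜 Sh ι hι z hz hpoly p chart hP θ hθ U hU f

include hι hz hpoly hθ hP in
/-- compatibility of the chart maps with restriction along any inclusion of affine opens -/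
theorem cU_res {U V : Y.Opens} (hU : IsAffineOpen U) (hV : IsAffineOpen V) (h : V ≤ U) :
    Spec.map (𝒜.presheaf.map (homOfLE h).op) ≫ cU 𝒜 Sh z hz p chart θ U hU =
      cU 𝒜 Sh z hz p chart θ V hV := by
  refine hom_ext_of_openImmersions _ _ fun x => ?_
  have hy : 𝒜.π.base ((𝒜.ι V hV).base x) ∈ V := ι_π_mem 𝒜 hV x
  obtain ⟨f, g, hfg, hyf⟩ := exists_basicOpen_le_affine_inter hU hV _ ⟨h hy, hy⟩
  have hW : IsAffineOpen (Y.basicOpen g) := hV.basicOpen g
  have e1 : Spec.map (𝒜.presheaf.map (homOfLE (Y.basicOpen_le g)).op) ≫ 𝒜.ι V hV = 𝒜.ι _ hW :=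
    ι_res_basic 𝒜 hV hW g rfl _
  have hoi : IsOpenImmersion (Spec.map (𝒜.presheaf.map (homOfLE (Y.basicOpen_le g)).op)) := by
    have : IsOpenImmersion (Spec.map (𝒜.presheaf.map (homOfLE (Y.basicOpen_le g)).op) ≫
        𝒜.ι V hV) := by
      rw [e1]; infer_instance
    exact IsOpenImmersion.of_comp _ (𝒜.ι V hV)
  refine ⟨_, Spec.map (𝒜.presheaf.map (homOfLE (Y.basicOpen_le g)).op), hoi, ?_, ?_⟩
  · have hx : (𝒜.ι V hV).base x ∈ Set.range (𝒜.ι _ hW).base := by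
      rw [mem_range_ι_iff, ← hfg]
      exact hyf
    obtain ⟨w, hw⟩ := hx
    refine ⟨w, (𝒜.ι V hV).injective ?_⟩
    rw [← hw, ← e1]
    rfl
  · rw [← Category.assoc, ← Spec.map_comp, ← Functor.map_comp,
      cU_basic' 𝒜 Sh ι hι z hz hpoly p chart hP θ hθ hV hW g rfl (Y.basicOpen_le g)]
    exact cU_basic' 𝒜 Sh ι hι z hz hpoly p chart hP θ hθ hU hW f hfg.symm
      ((Y.basicOpen_le g).trans h)

include hι hz hpoly hθ hP in
theorem exists_i : ∃ i : 𝒜.spec ⟶ P, ∀ (U : Y.Opens) (hU : IsAffineOpen U),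
    𝒜.ι U hU ≫ i = cU 𝒜 Sh z hz p chart θ U hU := by
  obtain ⟨M, hM⟩ := exists_glue_of_refinement (X := 𝒜.spec) (Z := P)
    (ι := {U : Y.Opens // IsAffineOpen U})
    (fun U => Spec (𝒜.presheaf.obj (op U.1))) (fun U => 𝒜.ι U.1 U.2)
    (fun x => by
      obtain ⟨U, hU, hxU, -⟩ :=
        exists_isAffineOpen_mem_and_subset (x := 𝒜.π.base x) (U := ⊤) trivial
      exact ⟨⟨U, hU⟩, (mem_range_ι_iff 𝒜 hU x).mpr hxU⟩)
    (fun U => cU 𝒜 Sh z hz p chart θ U.1 U.2)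
    (fun U1 U2 x h1 h2 => by
      rw [mem_range_ι_iff] at h1 h2
      obtain ⟨W, hW, hxW, hWle⟩ :=
        exists_isAffineOpen_mem_and_subset (x := 𝒜.π.base x) (U := U1.1 ⊓ U2.1) ⟨h1, h2⟩
      exact ⟨⟨W, hW⟩, Spec.map (𝒜.presheaf.map (homOfLE (hWle.trans inf_le_left)).op),
        Spec.map (𝒜.presheaf.map (homOfLE (hWle.trans inf_le_right)).op),
        (mem_range_ι_iff 𝒜 hW x).mpr hxW, ι_res_le 𝒜 U1.2 hW _, ι_res_le 𝒜 U2.2 hW _,
        cU_res 𝒜 Sh ι hι z hz hpoly p chart hP θ hθ U1.2 hW _,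
        cU_res 𝒜 Sh ι hι z hz hpoly p chart hP θ hθ U2.2 hW _⟩)
  exact ⟨M, fun U hU => hM ⟨U, hU⟩⟩

theorem i_unique (i i' : 𝒜.spec ⟶ P)
    (hi : ∀ (U : Y.Opens) (hU : IsAffineOpen U), 𝒜.ι U hU ≫ i = cU 𝒜 Sh z hz p chart θ U hU)
    (hi' : ∀ (U : Y.Opens) (hU : IsAffineOpen U), 𝒜.ι U hU ≫ i' = cU 𝒜 Sh z hz p chart θ U hU) :
    i' = i := by
  refine hom_ext_of_openImmersions _ _ fun x => ?_
  obtain ⟨U, hU, hxU, -⟩ :=
    exists_isAffineOpen_mem_and_subset (x := 𝒜.π.base x) (U := ⊤) trivial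
  exact ⟨_, 𝒜.ι U hU, inferInstance, (mem_range_ι_iff 𝒜 hU x).mpr hxU, by rw [hi, hi']⟩

include hι hθ in
theorem str_θ (U : Y.Opens) (hU : IsAffineOpen U) :
    Sh.strZero U hU ≫ CommRingCat.ofHom (fromZeroRingHom (Sh.deg U hU)
      (Submonoid.powers ((Sh.presheaf.map (homOfLE le_top).op).hom z))) ≫ θ U hU =
      𝒜.str.app (op U) := by
  ext1
  refine RingHom.ext fun r => ?_
  have e : (Sh.strZero U hU).hom r =
      ιZero (Sh.deg U hU) (ι.hom.app (op U)).hom (hι U hU) ((𝒜.str.app (op U)).hom r) := by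
    apply Subtype.ext
    have c := congrArg (fun t : Γ(Y, U) ⟶ _ => t.hom r) (NatTrans.congr_app ι.comm (op U))
    exact c.symm
  rw [CommRingCat.hom_comp, CommRingCat.hom_comp, RingHom.comp_apply, RingHom.comp_apply, e]
  exact θ_fromZero (Sh.deg U hU) (ι.hom.app (op U)).hom (hι U hU) _ (θ U hU).hom (hθ U hU) _

include hι hθ hP in
theorem cU_p (U : Y.Opens) (hU : IsAffineOpen U) :
    cU 𝒜 Sh z hz p chart θ U hU ≫ p = 𝒜.ι U hU ≫ 𝒜.π := by
  have e1 : RelProj.emb p chart U hU ≫ p =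
      Proj.toSpecZero (Sh.deg U hU) ≫ Spec.map (Sh.strZero U hU) ≫ hU.fromSpec := by
    unfold RelProj.emb
    rw [Category.assoc, ← hP.chart_over U hU, Iso.inv_hom_id_assoc]
  unfold cU
  rw [Category.assoc, Category.assoc, e1, Proj.awayι_toSpecZero_assoc, 𝒜.ι_π,
    ← str_θ 𝒜 Sh ι hι z θ hθ U hU, Spec.map_comp, Spec.map_comp]
  simp only [Category.assoc]

include hι hθ hP in
theorem i_p (i : 𝒜.spec ⟶ P)
    (hi : ∀ (U : Y.Opens) (hU : IsAffineOpen U), 𝒜.ι U hU ≫ i = cU 𝒜 Sh z hz p chart θ U hU) :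
    i ≫ p = 𝒜.π := by
  refine hom_ext_of_openImmersions _ _ fun x => ?_
  obtain ⟨U, hU, hxU, -⟩ :=
    exists_isAffineOpen_mem_and_subset (x := 𝒜.π.base x) (U := ⊤) trivial
  refine ⟨_, 𝒜.ι U hU, inferInstance, (mem_range_ι_iff 𝒜 hU x).mpr hxU, ?_⟩
  rw [← Category.assoc, hi, cU_p 𝒜 Sh ι hι z hz p chart hP θ hθ U hU]

include hι hz hpoly hθ hP in
theorem isIso_i (i : 𝒜.spec ⟶ P)
    (hi : ∀ (U : Y.Opens) (hU : IsAffineOpen U), 𝒜.ι U hU ≫ i = cU 𝒜 Sh z hz p chart θ U hU) :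
    IsIso i := by
  have hip := i_p 𝒜 Sh ι hι z hz p chart hP θ hθ i hi
  have : MorphismProperty.isomorphisms Scheme.{u} i := by
    refine IsZariskiLocalAtTarget.of_forall_exists_morphismRestrict fun x => ?_
    obtain ⟨U, hU, hxU, -⟩ :=
      exists_isAffineOpen_mem_and_subset (x := p.base x) (U := ⊤) trivial
    refine ⟨p ⁻¹ᵁ U, hxU, ?_⟩
    have hrange : i ⁻¹ᵁ (p ⁻¹ᵁ U) = (𝒜.ι U hU).opensRange := by
      rw [← 𝒜.π_preimage U hU, ← hip]
      rfl
    have hr : Set.range (𝒜.ι U hU).base = Set.range (i ⁻¹ᵁ (p ⁻¹ᵁ U)).ι.base := by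
      rw [Scheme.Opens.range_ι, hrange]
      rfl
    let e := IsOpenImmersion.isoOfRangeEq (𝒜.ι U hU) (i ⁻¹ᵁ (p ⁻¹ᵁ U)).ι hr
    have he : e.hom ≫ (i ⁻¹ᵁ (p ⁻¹ᵁ U)).ι = 𝒜.ι U hU :=
      IsOpenImmersion.isoOfRangeEq_hom_fac _ _ hr
    haveI : IsIso (θ U hU) := (ConcreteCategory.isIso_iff_bijective _).2
      (θ_bijective (Sh.deg U hU) (ι.hom.app (op U)).hom (hι U hU) _ (hz U hU) (hpoly U hU)
        (θ U hU).hom (hθ U hU))
    haveI := isIso_awayι (Sh.deg U hU) (ι.hom.app (op U)).hom (hι U hU) _ (hz U hU) (hpoly U hU)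
    have h2 : i ∣_ (p ⁻¹ᵁ U) = e.inv ≫ (Spec.map (θ U hU) ≫
        Proj.awayι (Sh.deg U hU) ((Sh.presheaf.map (homOfLE le_top).op).hom z) (hz U hU) one_pos) ≫
        (chart U hU).inv := by
      rw [← cancel_mono (p ⁻¹ᵁ U).ι, morphismRestrict_ι, ← cancel_epi e.hom, reassoc_of% he,
        hi U hU]
      simp only [Category.assoc, Iso.hom_inv_id_assoc]
      rfl
    change IsIso (i ∣_ (p ⁻¹ᵁ U))
    rw [h2]
    infer_instance
  exact this


/-- Let Y be a scheme, 𝒜 a quasi-coherent O_Y-algebra and Ŝ = 𝒜[T], graded with 𝒜 in degree 0 and T in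
degree 1 — presented through a homomorphism of algebras ι : 𝒜 → Ŝ landing in degree 0 and a global
section z of Ŝ of degree 1 such that, over every affine open U, the map 𝒜(U)[X] → Ŝ(U) sending X to
z is bijective — and let p : P → Y with its charts be the relative homogeneous spectrum Proj(Ŝ). For
each affine open U let θ_U : Ŝ(U)_(z) → 𝒜(U) be the ring isomorphism sending ι(a) z^k / z^k to a.
Then there is a unique morphism i : Spec(𝒜) → P which, on the chart Spec 𝒜(U) of Spec(𝒜) over each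
affine open U, is Spec(θ_U) followed by the open immersion of D_+(z|U) into Proj Ŝ(U) and the chart
of P; moreover i is an isomorphism and lies over Y. In particular Proj(O_Y[T]) is Y. -/
theorem result {Y P : Scheme.{u}} (𝒜 : RelSpec.QCAlg Y) (Sh : RelProj.QCGrAlg Y)
    (ι : 𝒜 ⟶ Sh.toQCAlg)
    (hι : ∀ (U : Y.Opens) (hU : IsAffineOpen U) (a : 𝒜.presheaf.obj (op U)), (ι.hom.app (op U)).hom a ∈ Sh.deg U hU 0)
    (z : Sh.presheaf.obj (op ⊤))
    (hz : ∀ (U : Y.Opens) (hU : IsAffineOpen U), (Sh.presheaf.map (homOfLE le_top).op).hom z ∈ Sh.deg U hU 1)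
    (hpoly : ∀ (U : Y.Opens) (hU : IsAffineOpen U),
      Function.Bijective (Polynomial.eval₂RingHom (ι.hom.app (op U)).hom ((Sh.presheaf.map (homOfLE le_top).op).hom z)))
    (p : P ⟶ Y)
    (chart : ∀ (U : Y.Opens) (hU : IsAffineOpen U), (((p ⁻¹ᵁ U : P.Opens) : Scheme.{u}) ≅ Proj (Sh.deg U hU)))
    (hP : RelProj.IsRelProj Sh p chart)
    (θ : ∀ (U : Y.Opens) (hU : IsAffineOpen U),
      CommRingCat.of (HomogeneousLocalization.Away (Sh.deg U hU) ((Sh.presheaf.map (homOfLE le_top).op).hom z)) ⟶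
        𝒜.presheaf.obj (op U))
    (hθ : ∀ (U : Y.Opens) (hU : IsAffineOpen U)
      (q : HomogeneousLocalization.Away (Sh.deg U hU) ((Sh.presheaf.map (homOfLE le_top).op).hom z))
      (k : ℕ) (a : 𝒜.presheaf.obj (op U)),
        q.val = Localization.mk ((ι.hom.app (op U)).hom a * (Sh.presheaf.map (homOfLE le_top).op).hom z ^ k)
          ⟨(Sh.presheaf.map (homOfLE le_top).op).hom z ^ k,
            pow_mem (Submonoid.mem_powers ((Sh.presheaf.map (homOfLE le_top).op).hom z)) k⟩ →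
        (θ U hU).hom q = a) :
    (∃! i : 𝒜.spec ⟶ P, ∀ (U : Y.Opens) (hU : IsAffineOpen U),
        𝒜.ι U hU ≫ i =
          Spec.map (θ U hU) ≫
            Proj.awayι (Sh.deg U hU) ((Sh.presheaf.map (homOfLE le_top).op).hom z) (hz U hU) one_pos ≫
              RelProj.emb p chart U hU) ∧
      ∀ i : 𝒜.spec ⟶ P, (∀ (U : Y.Opens) (hU : IsAffineOpen U),
        𝒜.ι U hU ≫ i =
          Spec.map (θ U hU) ≫
            Proj.awayι (Sh.deg U hU) ((Sh.presheaf.map (homOfLE le_top).op).hom z) (hz U hU) one_pos ≫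
              RelProj.emb p chart U hU) →
        IsIso i ∧ i ≫ p = 𝒜.π := by
  refine ⟨?_, fun i hi => ⟨isIso_i 𝒜 Sh ι hι z hz hpoly p chart hP θ hθ i hi,
    i_p 𝒜 Sh ι hι z hz p chart hP θ hθ i hi⟩⟩
  obtain ⟨i, hi⟩ := exists_i 𝒜 Sh ι hι z hz hpoly p chart hP θ hθ
  exact ⟨i, hi, fun i' hi' => i_unique 𝒜 Sh z hz p chart θ i i' hi hi'⟩


end Groth.Agent.S12137
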