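import Groth.Statements.S12138
import Groth.Agent.Lib.Helper21TFunG
import Groth.Agent.Lib.Helper21TFunH
import Groth.Agent.Lib.Helper21FibA
import Groth.Agent.Lib.Helper21BCT

set_option autoImplicit false
universe u
attribute [local instance] HasDerivedCategory.standard
open Coherent

namespace Groth.Agent.S12138

open CategoryTheory CategoryTheory.Limits AlgebraicGeometry in
open Groth.Agent.Lib.Helper16.CechLow Groth.Agent.Lib.Helper21.CechMod
  Groth.Agent.Lib.Helper21.CechBC Groth.Agent.Lib.Helper21.MumD Groth.Agent.Lib.Helper21.TFunE in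
/-- both functors are computed by Čech complexes related by base change -/
theorem exists_cech (A A' : Type u) [CommRing A] [IsNoetherianRing A]
    [CommRing A'] [Algebra A A'] (X X' : Scheme.{u}) [X.Over (Spec (CommRingCat.of A))]
    [X'.Over (Spec (CommRingCat.of A'))] [IsProper (X ↘ Spec (CommRingCat.of A))] (g' : X' ⟶ X)
    (hsq : IsPullback g' (X' ↘ Spec (CommRingCat.of A')) (X ↘ Spec (CommRingCat.of A))
      (Spec.map (CommRingCat.ofHom (algebraMap A A'))))
    (F : X.Modules) (hF : Coh.IsCoh F) (hfl : FlatMod.IsFlatOver (X ↘ Spec (CommRingCat.of A)) F)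
    (p : ℕ) :
    ∃ C : CochainComplex (ModuleCat.{u} A) ℕ, (∀ n, Module.Flat A (C.X n)) ∧
      Nonempty (CohIII.tensorAFunctor A F ⋙ CohIII.HAb X p ≅
        CohIII.TFun C p ⋙ forget₂ (ModuleCat.{u} A) AddCommGrpCat.{u}) ∧
      Nonempty (CohIII.tensorAFunctor A' ((Scheme.Modules.pullback g').obj F) ⋙ CohIII.HAb X' p ≅
        CohIII.TFun (CohIII.bcCx (algebraMap A A') C) p ⋙
          forget₂ (ModuleCat.{u} A') AddCommGrpCat.{u}) := by
  haveI : F.IsQuasicoherent := hF.1
  haveI : CompactSpace X :=
    QuasiCompact.compactSpace_of_compactSpace (X ↘ Spec (CommRingCat.of A))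
  obtain ⟨ι, hfin, U, hcov, hU1, hU⟩ := exists_cover A X
  haveI : (Fp g' F).IsQuasicoherent :=
    Groth.Agent.Lib.Helper2.PullbackSec.isQuasicoherent_pullback g' F
  have hcov' : ⨆ i, Up g' U i = ⊤ := by
    rw [← Scheme.Hom.preimage_iSup, hcov]
    rfl
  have hU' : ∀ s : Finset ι, s.Nonempty → IsAffineOpen (⨅ i ∈ s, Up g' U i) := by
    intro s hs
    rw [preimage_biInf]
    exact isAffineOpen_preimage A A' g' hsq _ (hU s hs)
  refine ⟨CA A F U, fun n => flat_CX A F U hfl (isAffineOpen_Ux U hU) n,
    Groth.Agent.Lib.Helper21.TFunG.nonempty_natIso_cech A F U hcov hU p, ?_⟩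
  obtain ⟨e'⟩ := Groth.Agent.Lib.Helper21.TFunG.nonempty_natIso_cech A' (Fp g' F) (Up g' U)
    hcov' hU' p
  exact ⟨e' ≪≫ Functor.isoWhiskerRight
    (TFunIsoOfIso (Groth.Agent.Lib.Helper21.FibA.ΦB A A' g' hsq F U
      (isAffineOpen_Ux U hU)).symm p) _⟩

open AlgebraicGeometry CategoryTheory in
/-- For a complex reduced to one sheaf and affine bases. Let A be a Noetherian ring, X a proper A-scheme
with structure morphism f, F a coherent O_X-module flat over Spec A, and T^p(M) = H^p(X, f^*(M~) ⊗
F) for A-modules M. Let A' be any commutative A-algebra, X' an A'-scheme with a morphism g' : X' → X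
making X' the fibre product X ×_{Spec A} Spec A', F' = g'^* F, and T'^p(M') = H^p(X', f'^*(M'~) ⊗
F') for A'-modules M'. If T^p takes surjections to surjections (resp. injections to injections),
then T'^p does the same. (The converse when Spec A' → Spec A is faithfully flat is a separate
statement; the published statement is for an arbitrary base change of schemes and reduces to this
affine case.) -/
theorem result (A A' : Type u) [CommRing A] [IsNoetherianRing A]
    [CommRing A'] [Algebra A A'] (X X' : Scheme.{u}) [X.Over (Spec (CommRingCat.of A))]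
    [X'.Over (Spec (CommRingCat.of A'))] [IsProper (X ↘ Spec (CommRingCat.of A))] (g' : X' ⟶ X)
    (hsq : IsPullback g' (X' ↘ Spec (CommRingCat.of A')) (X ↘ Spec (CommRingCat.of A))
      (Spec.map (CommRingCat.ofHom (algebraMap A A'))))
    (F : X.Modules) (hF : Coh.IsCoh F) (hfl : FlatMod.IsFlatOver (X ↘ Spec (CommRingCat.of A)) F) (p : ℕ) :
    ((CohIII.tensorAFunctor A F ⋙ CohIII.HAb X p).PreservesEpimorphisms →
        (CohIII.tensorAFunctor A' ((Scheme.Modules.pullback g').obj F) ⋙ CohIII.HAb X' p).PreservesEpimorphisms) ∧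
      ((CohIII.tensorAFunctor A F ⋙ CohIII.HAb X p).PreservesMonomorphisms →
        (CohIII.tensorAFunctor A' ((Scheme.Modules.pullback g').obj F) ⋙ CohIII.HAb X' p).PreservesMonomorphisms) := by
  obtain ⟨C, hflat, ⟨e⟩, ⟨e'⟩⟩ := exists_cech A A' X X' g' hsq F hF hfl p
  constructor
  · intro h
    have h1 := (Groth.Agent.Lib.Helper21.TFunH.preservesEpimorphisms_iff e).mp h
    have h2 := Groth.Agent.Lib.Helper21.BCT.preservesEpimorphisms_bc A' C hflat p h1
    exact (Groth.Agent.Lib.Helper21.TFunH.preservesEpimorphisms_iff e').mpr h2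
  · intro h
    have h1 := (Groth.Agent.Lib.Helper21.TFunH.preservesMonomorphisms_iff e).mp h
    have h2 := Groth.Agent.Lib.Helper21.BCT.preservesMonomorphisms_bc A' C hflat p h1
    exact (Groth.Agent.Lib.Helper21.TFunH.preservesMonomorphisms_iff e').mpr h2

end Groth.Agent.S12138
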