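import Groth.Statements.S12152
import Groth.Agent.Lib.Helper13RLg
-- import your own Groth.Agent.* helpers here

set_option autoImplicit false
universe u
open CategoryTheory CategoryTheory.Limits AlgebraicGeometry TopologicalSpace Opposite
open scoped HomogeneousIdeal
noncomputable section
open EGA2

namespace Groth.Agent.S12152

/-- Let q : X → Y be a morphism with Y affine, L an invertible O_X-module with 𝒮L = ⊕ L^{⊗n} (whose Proj
is X), 𝒮 a quasi-coherent positively graded O_Y-algebra with S = Γ(Y, 𝒮), ψ♭ = u : 𝒮 → q_*𝒮L a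
graded q-morphism and r = r_{L,ψ} : G(ψ) → P = Proj(𝒮). For a family s_a ∈ S_{n_a} (n_a > 0) put f_a
= ψ♭(s_a) ∈ Γ(X, L^{⊗n_a}) and let X_{f_a} be the open where f_a does not vanish; conditions: (i)
the X_{f_a} cover X; (ii) the X_{f_a} are affine; (iii) every function t on X_{f_a} is of the form
ψ♭(s') f_a^{-m} with m > 0 and s' ∈ S_{m n_a} (that is, t f_a^m = ψ♭(s') in 𝒮L(X_{f_a})); (v) the
opens D_+(s_a) cover Proj S. Then r is everywhere defined and a closed immersion if and only if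
there is a family (s_a) satisfying (i), (ii), (iii) and (v). -/
theorem result {Y X P PL : Scheme.{u}} (q : X ⟶ Y)
    (L : X.Modules) (hL : PicF.IsInvertible L) (hLq : Coh.IsQCoh L)
    (𝒮 : RelProj.QCGrAlg Y) (𝒮L : RelProj.QCGrAlg X) (j : L ⟶ 𝒮L.toModule) (hj : RelProj.IsGrSymAlg L 𝒮L j)
    (u : RelProj.QGrHom q 𝒮 𝒮L)
    (p : P ⟶ Y) (chart : ∀ (U : Y.Opens) (hU : IsAffineOpen U), (((p ⁻¹ᵁ U : P.Opens) : Scheme.{u}) ≅ Proj (𝒮.deg U hU)))
    (hP : RelProj.IsRelProj 𝒮 p chart)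
    (pL : PL ⟶ X) (chartL : ∀ (U : X.Opens) (hU : IsAffineOpen U), (((pL ⁻¹ᵁ U : PL.Opens) : Scheme.{u}) ≅ Proj (𝒮L.deg U hU)))
    (hPL : RelProj.IsRelProj 𝒮L pL chartL)
    (r : ((RelProj.domQ u pL chartL : PL.Opens) : Scheme.{u}) ⟶ P)
    (hr : RelProj.IsProjQMapOn u p chart pL chartL (RelProj.domQ u pL chartL) r)
    (hY : IsAffineOpen (⊤ : Y.Opens)) :
    (RelProj.domQ u pL chartL = ⊤ ∧ IsClosedImmersion r) ↔
      ∃ (ι : Type u) (n : ι → ℕ) (s : ι → 𝒮.presheaf.obj (op ⊤)) (XT : ι → X.Opens),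
        (∀ a, 0 < n a ∧ s a ∈ 𝒮.deg ⊤ hY (n a)) ∧
        (∀ a, XT a = (⨆ V : {V : X.affineOpens //
          ((𝒮L.deg V.1 V.2 (n a) : AddSubgroup (𝒮L.presheaf.obj (op (V.1 : X.Opens)))) : Set (𝒮L.presheaf.obj (op (V.1 : X.Opens)))) ⊆
            (Ideal.span {(u.appLE ⊤ (V.1 : X.Opens) (le_top.trans (Scheme.Hom.preimage_top q).ge)).hom (s a)} : Set (𝒮L.presheaf.obj (op (V.1 : X.Opens))))},
          (V.1.1 : X.Opens))) ∧
        (⨆ a, XT a) = ⊤ ∧ (∀ a, IsAffineOpen (XT a)) ∧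
        (∀ (a : ι) (t : X.presheaf.obj (op (XT a))), ∃ (m : ℕ) (_ : 0 < m) (s' : 𝒮.presheaf.obj (op ⊤)) (_ : s' ∈ 𝒮.deg ⊤ hY (m * n a)),
            (𝒮L.str.app (op (XT a))).hom t * ((u.appLE ⊤ (XT a) (le_top.trans (Scheme.Hom.preimage_top q).ge)).hom (s a)) ^ m =
              (u.appLE ⊤ (XT a) (le_top.trans (Scheme.Hom.preimage_top q).ge)).hom s') ∧
        (⨆ a, Proj.basicOpen (𝒮.deg ⊤ hY) (s a)) = ⊤ := by
  haveI : L.IsQuasicoherent := hLq
  haveI : IsIso pL := Groth.Agent.Helper13ProjLine.isIso_relProj L 𝒮L j hj pL chartL hPL hL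
  constructor
  · rintro ⟨hdom, hcl⟩
    let ι : Type u := Σ n : ℕ, {s : 𝒮.presheaf.obj (op ⊤) // 0 < n ∧ s ∈ 𝒮.deg ⊤ hY n}
    let n : ι → ℕ := fun a => a.1
    let s : ι → 𝒮.presheaf.obj (op ⊤) := fun a => a.2.1
    have hn : ∀ a : ι, 0 < n a := fun a => a.2.2.1
    have hs : ∀ a : ι, s a ∈ 𝒮.deg ⊤ hY (n a) := fun a => a.2.2.2
    have hci : ∀ a : ι, IsClosedImmersion
        (r ∣_ ((RelProj.emb p chart ⊤ hY) ''ᵁ Proj.basicOpen (𝒮.deg ⊤ hY) (s a))) := fun a =>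
      IsZariskiLocalAtTarget.restrict (P := @IsClosedImmersion) hcl _
    have haff : ∀ a : ι, IsAffineOpen (Groth.Agent.Helper13RL.XT 𝒮L u (s a) (n a)) := by
      intro a
      have hD := Groth.Agent.Helper13RL.isAffineOpen_image_basicOpen (p := p) (chart := chart)
        hY (hn a) (hs a)
      haveI : IsAffine (((RelProj.emb p chart ⊤ hY) ''ᵁ
          Proj.basicOpen (𝒮.deg ⊤ hY) (s a) : P.Opens) : Scheme.{u}) := hD
      haveI := hci a
      have h3 : IsAffine ((r ⁻¹ᵁ ((RelProj.emb p chart ⊤ hY) ''ᵁ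
          Proj.basicOpen (𝒮.deg ⊤ hY) (s a)) : (RelProj.domQ u pL chartL).toScheme.Opens) :
            Scheme.{u}) :=
        isAffine_of_isAffineHom (r ∣_ ((RelProj.emb p chart ⊤ hY) ''ᵁ
          Proj.basicOpen (𝒮.deg ⊤ hY) (s a)))
      exact Groth.Agent.Helper13RL.isAffineOpen_XT_of_preimage L 𝒮L j hj u hP hPL hL hr hY
        (hn a) (hs a) h3
    refine ⟨ι, n, s, fun a => Groth.Agent.Helper13RL.XT 𝒮L u (s a) (n a),
      fun a => ⟨hn a, hs a⟩, fun a => rfl, ?_, haff, ?_, ?_⟩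
    · rw [eq_top_iff]
      intro x _
      have hy : (inv pL).base x ∈ RelProj.domQ u pL chartL := by rw [hdom]; trivial
      let y' : ((RelProj.domQ u pL chartL : PL.Opens) : Scheme.{u}) := ⟨(inv pL).base x, hy⟩
      obtain ⟨z, hz⟩ := Groth.Agent.Helper13RelProj.exists_chart_point (chartB := chart) ⊤ hY
        (r.base y') trivial
      obtain ⟨n₀, s₀, hn₀, hs₀, hzs⟩ :=
        Groth.Agent.Helper13RL.exists_mem_basicOpen_pos (𝒮.deg ⊤ hY) z
      have h1 := (Groth.Agent.Helper13RL.mem_preimage_iff L 𝒮L j hj u hP hPL hL hr hY hn₀ hs₀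
        y').mp ⟨z, hzs, hz⟩
      have h2 : pL.base ((RelProj.domQ u pL chartL).ι.base y') = x := by
        change pL.base ((inv pL).base x) = x
        rw [← Scheme.Hom.comp_apply, IsIso.inv_hom_id]
        rfl
      rw [h2] at h1
      exact Opens.mem_iSup.mpr ⟨⟨n₀, s₀, hn₀, hs₀⟩, h1⟩
    · intro a t
      have h4 := hci a
      rw [Groth.Agent.Helper13RL.restrict_iff L 𝒮L j hj u hP hPL hL hr hY (hn a) (hs a) (haff a) rfl
        @IsClosedImmersion, Groth.Agent.Helper13RL.specMap_isClosedImmersion_iff] at h4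
      exact (Groth.Agent.Helper13RL.awayMap_surjective_iff L 𝒮L j hj u hPL hL hY (hn a) (hs a)
        (haff a) rfl).mp h4 t
    · rw [eq_top_iff]
      intro z _
      obtain ⟨n₀, s₀, hn₀, hs₀, hzs⟩ :=
        Groth.Agent.Helper13RL.exists_mem_basicOpen_pos (𝒮.deg ⊤ hY) z
      exact Opens.mem_iSup.mpr ⟨⟨n₀, s₀, hn₀, hs₀⟩, hzs⟩
  · rintro ⟨ι, n, s, XT, h1, h2, h3, h4, h5, h6⟩
    have hdom : RelProj.domQ u pL chartL = ⊤ := by
      rw [eq_top_iff]
      intro y _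
      have : pL.base y ∈ (⨆ a, XT a) := by rw [h3]; trivial
      obtain ⟨a, ha⟩ := Opens.mem_iSup.mp this
      rw [h2 a] at ha
      have hy : y ∈ pL ⁻¹ᵁ Groth.Agent.Helper13RL.XT 𝒮L u (s a) (n a) := ha
      rw [← Groth.Agent.Helper13RL.image_preimage_eq_XT L 𝒮L j hj u hP hPL hL hr hY (h1 a).1
        (h1 a).2] at hy
      obtain ⟨y', -, rfl⟩ := hy
      exact y'.2
    refine ⟨hdom, ?_⟩
    apply IsZariskiLocalAtTarget.of_iSup_eq_top (P := @IsClosedImmersion)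
      (fun a => (RelProj.emb p chart ⊤ hY) ''ᵁ Proj.basicOpen (𝒮.deg ⊤ hY) (s a))
    · rw [eq_top_iff]
      intro pt _
      obtain ⟨z, rfl⟩ := Groth.Agent.Helper13RelProj.exists_chart_point (chartB := chart) ⊤ hY
        pt trivial
      have : z ∈ (⨆ a, Proj.basicOpen (𝒮.deg ⊤ hY) (s a)) := by rw [h6]; trivial
      obtain ⟨a, ha⟩ := Opens.mem_iSup.mp this
      exact Opens.mem_iSup.mpr ⟨a, z, ha, rfl⟩
    · intro a
      rw [Groth.Agent.Helper13RL.restrict_iff L 𝒮L j hj u hP hPL hL hr hY (h1 a).1 (h1 a).2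
        (h4 a) (h2 a) @IsClosedImmersion, Groth.Agent.Helper13RL.specMap_isClosedImmersion_iff]
      exact (Groth.Agent.Helper13RL.awayMap_surjective_iff L 𝒮L j hj u hPL hL hY (h1 a).1
        (h1 a).2 (h4 a) (h2 a)).mpr (h5 a)

end Groth.Agent.S12152
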