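import Groth.Statements.S12155
import Groth.Agent.Lib.Helper13RLn
-- import your own Groth.Agent.* helpers here

set_option autoImplicit false
universe u
open CategoryTheory CategoryTheory.Limits AlgebraicGeometry TopologicalSpace Opposite
open scoped HomogeneousIdeal
noncomputable section
open EGA2

namespace Groth.Agent.S12155
open Groth.Agent.Helper13RelProj Groth.Agent.Helper13RL in

/-- Let q : Y' → Y be a morphism, φ : 𝒮 → q_*𝒮' a graded q-morphism of quasi-coherent positively graded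
algebras with 𝒮_0 = O_Y, 𝒮'_0 = O_{Y'}, φ̂ : 𝒮[z] → q_*𝒮'[z] its extension with φ̂(z) = z, Ĉ =
Proj(𝒮[z]), Ĉ' = Proj(𝒮'[z]) the projective cones with pointed cones Ê, Ê', and Φ̂ = Proj(φ̂) :
G(φ̂) → Ĉ. Then Φ̂⁻¹(Ê) ⊆ Ê'; moreover if Proj(φ) is everywhere defined on Proj(𝒮'), then Φ̂ is
everywhere defined on Ĉ' and Φ̂⁻¹(Ê) = Ê'. -/
theorem result {Y Y' PC PC' : Scheme.{u}} (q : Y' ⟶ Y)
    (𝒮 : RelProj.QCGrAlg Y) (𝒮' : RelProj.QCGrAlg Y') (h0 : RelCone.StrZeroBij 𝒮) (h0' : RelCone.StrZeroBij 𝒮')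
    (u : RelProj.QGrHom q 𝒮 𝒮')
    (𝒮h : RelProj.QCGrAlg Y) (ι : 𝒮.toQCAlg ⟶ 𝒮h.toQCAlg) (z : 𝒮h.presheaf.obj (op ⊤))
    (hz : RelCone.IsPolyOver 𝒮 𝒮h ι z)
    (pC : PC ⟶ Y) (chartC : ∀ (U : Y.Opens) (hU : IsAffineOpen U), (((pC ⁻¹ᵁ U : PC.Opens) : Scheme.{u}) ≅ Proj (𝒮h.deg U hU)))
    (hC : RelProj.IsRelProj 𝒮h pC chartC)
    (𝒮h' : RelProj.QCGrAlg Y') (ι' : 𝒮'.toQCAlg ⟶ 𝒮h'.toQCAlg) (z' : 𝒮h'.presheaf.obj (op ⊤))
    (hz' : RelCone.IsPolyOver 𝒮' 𝒮h' ι' z')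
    (pC' : PC' ⟶ Y') (chartC' : ∀ (U : Y'.Opens) (hU : IsAffineOpen U), (((pC' ⁻¹ᵁ U : PC'.Opens) : Scheme.{u}) ≅ Proj (𝒮h'.deg U hU)))
    (hC' : RelProj.IsRelProj 𝒮h' pC' chartC')
    (uh : RelProj.QGrHom q 𝒮h 𝒮h')
    (huh : ∀ U : Y.Opens, ι.hom.app (op U) ≫ uh.app U = u.app U ≫ ι'.hom.app (op (q ⁻¹ᵁ U)))
    (huhz : (uh.app ⊤).hom z = RelCone.restrictTop 𝒮h' z' (q ⁻¹ᵁ ⊤))
    (Φh : ((RelProj.domQ uh pC' chartC' : PC'.Opens) : Scheme.{u}) ⟶ PC)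
    (hΦh : RelProj.IsProjQMapOn uh pC chartC pC' chartC' (RelProj.domQ uh pC' chartC') Φh)
    {P' : Scheme.{u}} (p' : P' ⟶ Y') (chart' : ∀ (U : Y'.Opens) (hU : IsAffineOpen U), (((p' ⁻¹ᵁ U : P'.Opens) : Scheme.{u}) ≅ Proj (𝒮'.deg U hU)))
    (hP' : RelProj.IsRelProj 𝒮' p' chart') :
    (RelProj.domQ uh pC' chartC').ι ''ᵁ (Φh ⁻¹ᵁ RelCone.pointedProjCone 𝒮 hz pC chartC) ≤ RelCone.pointedProjCone 𝒮' hz' pC' chartC' ∧
      (RelProj.domQ u p' chart' = ⊤ →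
        RelProj.domQ uh pC' chartC' = ⊤ ∧
          (RelProj.domQ uh pC' chartC').ι ''ᵁ (Φh ⁻¹ᵁ RelCone.pointedProjCone 𝒮 hz pC chartC) = RelCone.pointedProjCone 𝒮' hz' pC' chartC') := by
  have hP := Groth.Agent.Helper13ProjBC.isRelProj_relProj 𝒮
  have hw1 : ∀ U : Y.Opens, (compOfHom uh ι hz.graded).app U = ι.hom.app (op U) ≫ uh.app U :=
    fun U => rfl
  have hw2 : ∀ U : Y.Opens, (compOfHom uh ι hz.graded).app U =
      u.app U ≫ ι'.hom.app (op (q ⁻¹ᵁ U)) := fun U => huh U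
  rw [pointedProjCone_eq_domQ hz, pointedProjCone_eq_domQ hz']
  have hA := mem_domQ_comp_iff uh ι hz.graded (compOfHom uh ι hz.graded) hw1 hC hP hC' hΦh
  have hle1 : RelProj.domQ (compOfHom uh ι hz.graded) pC' chartC' ≤ RelProj.domQ uh pC' chartC' :=
    domQ_comp_le uh ι hz.graded (compOfHom uh ι hz.graded) hw1
  have hle2 : RelProj.domQ (compOfHom uh ι hz.graded) pC' chartC' ≤
      RelProj.domQ (RelProj.QGrHom.ofHom ι' hz'.graded) pC' chartC' :=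
    domQ_srcComp_le u ι' hz'.graded (compOfHom uh ι hz.graded) hw2
  have hAle : (RelProj.domQ uh pC' chartC').ι ''ᵁ
      (Φh ⁻¹ᵁ RelProj.domQ (RelProj.QGrHom.ofHom ι hz.graded) pC chartC) ≤
      RelProj.domQ (RelProj.QGrHom.ofHom ι' hz'.graded) pC' chartC' := by
    rintro x ⟨y, hy, rfl⟩
    exact hle2 ((hA y).mpr hy)
  refine ⟨hAle, fun htop => ?_⟩
  obtain ⟨Ψ, hΨ⟩ := exists_Φ ι' hz'.graded hC' hP'
  have hB := mem_domQ_srcComp_iff u ι' hz'.graded (compOfHom uh ι hz.graded) hw2 hP hP' hC' hΨ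
  have hEw : RelProj.domQ (RelProj.QGrHom.ofHom ι' hz'.graded) pC' chartC' ≤
      RelProj.domQ (compOfHom uh ι hz.graded) pC' chartC' := fun x hx =>
    (hB ⟨x, hx⟩).mpr (by rw [htop]; trivial)
  refine ⟨?_, le_antisymm hAle ?_⟩
  · rw [eq_top_iff]
    intro x _
    obtain ⟨V, hxV⟩ := exists_apair (q := q) (pC'.base x)
    obtain ⟨Q, rfl⟩ := exists_chart_point (chartB := chartC') V.U' V.hU' x hxV
    by_cases hQ : Q ∈ RelCone.domOpen (ψAt ι' hz'.graded V.U' V.hU')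
    · apply hle1
      apply hEw
      exact Opens.mem_iSup.mpr ⟨⟨(⟨V.U', V.hU'⟩, ⟨V.U', V.hU'⟩), le_rfl⟩, Q, hQ, rfl⟩
    · have hQz := mem_basicOpen_z_of_not_mem hz' V.U' V.hU' Q hQ
      rw [← uh_restrictTop hz hz' uh huhz V] at hQz
      exact Opens.mem_iSup.mpr ⟨⟨(⟨V.U, V.hU⟩, ⟨V.U', V.hU'⟩), V.hle⟩, Q,
        (mem_domOpen_iff _ Q).mpr ⟨1, _, one_pos, hz.deg_z V.U V.hU, hQz⟩, rfl⟩
  · intro x hx
    have hxw := hEw hx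
    have hxuh := hle1 hxw
    exact ⟨⟨x, hxuh⟩, (hA ⟨x, hxuh⟩).mp hxw, rfl⟩

end Groth.Agent.S12155
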