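import Groth.Statements.S12156
import Groth.Agent.Lib.Helper13RLn
-- import your own Groth.Agent.* helpers here

set_option autoImplicit false
universe u
open CategoryTheory CategoryTheory.Limits AlgebraicGeometry TopologicalSpace Opposite
open scoped HomogeneousIdeal
noncomputable section
open EGA2

namespace Groth.Agent.S12156

open Groth.Agent.Helper13RelProj Groth.Agent.Helper13RL in
theorem key {Y Y' PC PC' : Scheme.{u}} (q : Y' ⟶ Y)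
    (𝒮 : RelProj.QCGrAlg Y) (𝒮' : RelProj.QCGrAlg Y')
    (u : RelProj.QGrHom q 𝒮 𝒮')
    (𝒮h : RelProj.QCGrAlg Y) (ι : 𝒮.toQCAlg ⟶ 𝒮h.toQCAlg) (hι : RelProj.IsGradedHom ι)
    (pC : PC ⟶ Y) (chartC : ∀ (U : Y.Opens) (hU : IsAffineOpen U), (((pC ⁻¹ᵁ U : PC.Opens) : Scheme.{u}) ≅ Proj (𝒮h.deg U hU)))
    (hC : RelProj.IsRelProj 𝒮h pC chartC)
    (𝒮h' : RelProj.QCGrAlg Y') (ι' : 𝒮'.toQCAlg ⟶ 𝒮h'.toQCAlg) (hι' : RelProj.IsGradedHom ι')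
    (pC' : PC' ⟶ Y') (chartC' : ∀ (U : Y'.Opens) (hU : IsAffineOpen U), (((pC' ⁻¹ᵁ U : PC'.Opens) : Scheme.{u}) ≅ Proj (𝒮h'.deg U hU)))
    (hC' : RelProj.IsRelProj 𝒮h' pC' chartC')
    (uh : RelProj.QGrHom q 𝒮h 𝒮h')
    (huh : ∀ U : Y.Opens, ι.hom.app (op U) ≫ uh.app U = u.app U ≫ ι'.hom.app (op (q ⁻¹ᵁ U)))
    (Φh : ((RelProj.domQ uh pC' chartC' : PC'.Opens) : Scheme.{u}) ⟶ PC)
    (hΦh : RelProj.IsProjQMapOn uh pC chartC pC' chartC' (RelProj.domQ uh pC' chartC') Φh)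
    {P P' : Scheme.{u}} (p : P ⟶ Y) (chart : ∀ (U : Y.Opens) (hU : IsAffineOpen U), (((p ⁻¹ᵁ U : P.Opens) : Scheme.{u}) ≅ Proj (𝒮.deg U hU)))
    (hP : RelProj.IsRelProj 𝒮 p chart)
    (p' : P' ⟶ Y') (chart' : ∀ (U : Y'.Opens) (hU : IsAffineOpen U), (((p' ⁻¹ᵁ U : P'.Opens) : Scheme.{u}) ≅ Proj (𝒮'.deg U hU)))
    (hP' : RelProj.IsRelProj 𝒮' p' chart')
    (Φ : ((RelProj.domQ u p' chart' : P'.Opens) : Scheme.{u}) ⟶ P)
    (hΦ : RelProj.IsProjQMapOn u p chart p' chart' (RelProj.domQ u p' chart') Φ)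
    (E : PC.Opens) (hE : E = RelProj.domQ (RelProj.QGrHom.ofHom ι hι) pC chartC)
    (E' : PC'.Opens) (hE' : E' = RelProj.domQ (RelProj.QGrHom.ofHom ι' hι') pC' chartC')
    (r : (E : Scheme.{u}) ⟶ P)
    (hr : RelProj.IsProjQMapOn (RelProj.QGrHom.ofHom ι hι) p chart pC chartC E r)
    (r' : (E' : Scheme.{u}) ⟶ P')
    (hr' : RelProj.IsProjQMapOn (RelProj.QGrHom.ofHom ι' hι') p' chart' pC' chartC' E' r')
    (T : Scheme.{u}) (a : T ⟶ (E' : Scheme.{u}))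
    (b : T ⟶ ((RelProj.domQ uh pC' chartC' : PC'.Opens) : Scheme.{u}))
    (c : T ⟶ (E : Scheme.{u}))
    (hab : a ≫ E'.ι = b ≫ (RelProj.domQ uh pC' chartC').ι) (hbc : b ≫ Φh = c ≫ E.ι) :
    Set.range (a ≫ r').base ⊆ ((RelProj.domQ u p' chart' : P'.Opens) : Set P') ∧
      ∀ d : T ⟶ ((RelProj.domQ u p' chart' : P'.Opens) : Scheme.{u}),
        a ≫ r' = d ≫ (RelProj.domQ u p' chart').ι → c ≫ r = d ≫ Φ := by
  subst hE hE'
  have hw1 : ∀ U : Y.Opens, (compOfHom uh ι hι).app U = ι.hom.app (op U) ≫ uh.app U :=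
    fun U => rfl
  have hw2 : ∀ U : Y.Opens, (compOfHom uh ι hι).app U =
      u.app U ≫ ι'.hom.app (op (q ⁻¹ᵁ U)) := fun U => huh U
  have hle1 : RelProj.domQ (compOfHom uh ι hι) pC' chartC' ≤ RelProj.domQ uh pC' chartC' :=
    domQ_comp_le uh ι hι (compOfHom uh ι hι) hw1
  have hle2 : RelProj.domQ (compOfHom uh ι hι) pC' chartC' ≤
      RelProj.domQ (RelProj.QGrHom.ofHom ι' hι') pC' chartC' :=
    domQ_srcComp_le u ι' hι' (compOfHom uh ι hι) hw2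
  obtain ⟨rw', hrwp⟩ := exists_qmapOn (compOfHom uh ι hι) (p := p) (chart := chart)
    (p' := pC') (chart' := chartC') hP hC'
  have hrw := isProjQMapOn_of_pieces (compOfHom uh ι hι) rw' hrwp
  obtain ⟨m₁, hm₁, hm₁r⟩ := exists_comp_lift uh ι hι (compOfHom uh ι hι) hw1 hC hP hC' hΦh hrw hr hle1
  obtain ⟨m₂, hm₂, hm₂r⟩ := exists_srcComp_lift u ι' hι' (compOfHom uh ι hι) hw2 hP hP' hC' hr' hΦ hrw hle2
  -- the T-point of G(w)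
  have hrange : Set.range (b ≫ (RelProj.domQ uh pC' chartC').ι).base ⊆
      Set.range (RelProj.domQ (compOfHom uh ι hι) pC' chartC').ι.base := by
    rintro _ ⟨τ, rfl⟩
    rw [Scheme.Opens.range_ι, Scheme.Hom.comp_apply]
    refine (mem_domQ_comp_iff uh ι hι (compOfHom uh ι hι) hw1 hC hP hC' hΦh (b.base τ)).mpr ?_
    rw [← Scheme.Hom.comp_apply, hbc, Scheme.Hom.comp_apply]
    exact (c.base τ).2
  let e := IsOpenImmersion.lift (RelProj.domQ (compOfHom uh ι hι) pC' chartC').ι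
    (b ≫ (RelProj.domQ uh pC' chartC').ι) hrange
  have he : e ≫ (RelProj.domQ (compOfHom uh ι hι) pC' chartC').ι =
      b ≫ (RelProj.domQ uh pC' chartC').ι := IsOpenImmersion.lift_fac _ _ _
  have heb : e ≫ PC'.homOfLE hle1 = b := by
    rw [← cancel_mono (RelProj.domQ uh pC' chartC').ι, Category.assoc, Scheme.homOfLE_ι, he]
  have hea : e ≫ PC'.homOfLE hle2 = a := by
    rw [← cancel_mono (RelProj.domQ (RelProj.QGrHom.ofHom ι' hι') pC' chartC').ι, Category.assoc,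
      Scheme.homOfLE_ι, he, hab]
  have hec : e ≫ m₁ = c := by
    rw [← cancel_mono (RelProj.domQ (RelProj.QGrHom.ofHom ι hι) pC chartC).ι, Category.assoc, hm₁,
      ← Category.assoc, heb, hbc]
  have har : a ≫ r' = (e ≫ m₂) ≫ (RelProj.domQ u p' chart').ι := by
    rw [Category.assoc, hm₂, ← Category.assoc, hea]
  constructor
  · rintro _ ⟨τ, rfl⟩
    rw [har, Scheme.Hom.comp_apply]
    exact ((e ≫ m₂).base τ).2
  · intro d hd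
    have hd' : d = e ≫ m₂ := by
      rw [← cancel_mono (RelProj.domQ u p' chart').ι, ← hd, har]
    rw [hd', ← hec, Category.assoc, Category.assoc, hm₁r, hm₂r]


/-- Let q : Y' → Y be a morphism, φ : 𝒮 → q_*𝒮' a graded q-morphism of quasi-coherent positively graded
algebras with 𝒮_0 = O_Y, 𝒮'_0 = O_{Y'}, φ̂ : 𝒮[z] → q_*𝒮'[z] its extension with φ̂(z) = z, Ĉ =
Proj(𝒮[z]), Ĉ' = Proj(𝒮'[z]) the projective cones with pointed cones Ê, Ê', and Φ̂ = Proj(φ̂) :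
G(φ̂) → Ĉ; let X = Proj(𝒮), X' = Proj(𝒮'), Proj(φ) : G(φ) → X on its open of definition G(φ) ⊆ X',
and p̂ : Ê → X, p̂' : Ê' → X' the canonical retractions. Then p̂'(Φ̂⁻¹(Ê)) ⊆ G(φ) and on Φ̂⁻¹(Ê) the
composites p̂ ∘ Φ̂ and Proj(φ) ∘ p̂' agree (stated on T-valued points: a : T → Ê' and b : T → G(φ̂)
agreeing in Ĉ' with Φ̂ ∘ b = c : T → Ê). -/
theorem result {Y Y' PC PC' : Scheme.{u}} (q : Y' ⟶ Y)
    (𝒮 : RelProj.QCGrAlg Y) (𝒮' : RelProj.QCGrAlg Y') (h0 : RelCone.StrZeroBij 𝒮) (h0' : RelCone.StrZeroBij 𝒮')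
    (u : RelProj.QGrHom q 𝒮 𝒮')
    (𝒮h : RelProj.QCGrAlg Y) (ι : 𝒮.toQCAlg ⟶ 𝒮h.toQCAlg) (z : 𝒮h.presheaf.obj (op ⊤))
    (hz : RelCone.IsPolyOver 𝒮 𝒮h ι z)
    (pC : PC ⟶ Y) (chartC : ∀ (U : Y.Opens) (hU : IsAffineOpen U), (((pC ⁻¹ᵁ U : PC.Opens) : Scheme.{u}) ≅ Proj (𝒮h.deg U hU)))
    (hC : RelProj.IsRelProj 𝒮h pC chartC)
    (𝒮h' : RelProj.QCGrAlg Y') (ι' : 𝒮'.toQCAlg ⟶ 𝒮h'.toQCAlg) (z' : 𝒮h'.presheaf.obj (op ⊤))
    (hz' : RelCone.IsPolyOver 𝒮' 𝒮h' ι' z')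
    (pC' : PC' ⟶ Y') (chartC' : ∀ (U : Y'.Opens) (hU : IsAffineOpen U), (((pC' ⁻¹ᵁ U : PC'.Opens) : Scheme.{u}) ≅ Proj (𝒮h'.deg U hU)))
    (hC' : RelProj.IsRelProj 𝒮h' pC' chartC')
    (uh : RelProj.QGrHom q 𝒮h 𝒮h')
    (huh : ∀ U : Y.Opens, ι.hom.app (op U) ≫ uh.app U = u.app U ≫ ι'.hom.app (op (q ⁻¹ᵁ U)))
    (huhz : (uh.app ⊤).hom z = RelCone.restrictTop 𝒮h' z' (q ⁻¹ᵁ ⊤))
    (Φh : ((RelProj.domQ uh pC' chartC' : PC'.Opens) : Scheme.{u}) ⟶ PC)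
    (hΦh : RelProj.IsProjQMapOn uh pC chartC pC' chartC' (RelProj.domQ uh pC' chartC') Φh)
    {P P' : Scheme.{u}} (p : P ⟶ Y) (chart : ∀ (U : Y.Opens) (hU : IsAffineOpen U), (((p ⁻¹ᵁ U : P.Opens) : Scheme.{u}) ≅ Proj (𝒮.deg U hU)))
    (hP : RelProj.IsRelProj 𝒮 p chart)
    (p' : P' ⟶ Y') (chart' : ∀ (U : Y'.Opens) (hU : IsAffineOpen U), (((p' ⁻¹ᵁ U : P'.Opens) : Scheme.{u}) ≅ Proj (𝒮'.deg U hU)))
    (hP' : RelProj.IsRelProj 𝒮' p' chart')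
    (Φ : ((RelProj.domQ u p' chart' : P'.Opens) : Scheme.{u}) ⟶ P)
    (hΦ : RelProj.IsProjQMapOn u p chart p' chart' (RelProj.domQ u p' chart') Φ)
    (r : ((RelCone.pointedProjCone 𝒮 hz pC chartC : PC.Opens) : Scheme.{u}) ⟶ P)
    (hr : RelProj.IsProjQMapOn (RelProj.QGrHom.ofHom ι hz.graded) p chart pC chartC (RelCone.pointedProjCone 𝒮 hz pC chartC) r)
    (r' : ((RelCone.pointedProjCone 𝒮' hz' pC' chartC' : PC'.Opens) : Scheme.{u}) ⟶ P')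
    (hr' : RelProj.IsProjQMapOn (RelProj.QGrHom.ofHom ι' hz'.graded) p' chart' pC' chartC' (RelCone.pointedProjCone 𝒮' hz' pC' chartC') r')
    (T : Scheme.{u}) (a : T ⟶ ((RelCone.pointedProjCone 𝒮' hz' pC' chartC' : PC'.Opens) : Scheme.{u}))
    (b : T ⟶ ((RelProj.domQ uh pC' chartC' : PC'.Opens) : Scheme.{u}))
    (c : T ⟶ ((RelCone.pointedProjCone 𝒮 hz pC chartC : PC.Opens) : Scheme.{u}))
    (hab : a ≫ (RelCone.pointedProjCone 𝒮' hz' pC' chartC').ι = b ≫ (RelProj.domQ uh pC' chartC').ι) (hbc : b ≫ Φh = c ≫ (RelCone.pointedProjCone 𝒮 hz pC chartC).ι) :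
    Set.range (a ≫ r').base ⊆ ((RelProj.domQ u p' chart' : P'.Opens) : Set P') ∧
      ∀ d : T ⟶ ((RelProj.domQ u p' chart' : P'.Opens) : Scheme.{u}),
        a ≫ r' = d ≫ (RelProj.domQ u p' chart').ι → c ≫ r = d ≫ Φ := by
  exact key q 𝒮 𝒮' u 𝒮h ι hz.graded pC chartC hC 𝒮h' ι' hz'.graded pC' chartC' hC' uh huh Φh hΦh
    p chart hP p' chart' hP' Φ hΦ _ (Groth.Agent.Helper13RL.pointedProjCone_eq_domQ hz)
    _ (Groth.Agent.Helper13RL.pointedProjCone_eq_domQ hz') r hr r' hr' T a b c hab hbc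

end Groth.Agent.S12156
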