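import Groth.Statements.S12158
import Groth.Agent.Lib.Helper13RLp
-- import your own Groth.Agent.* helpers here

set_option autoImplicit false
universe u
open CategoryTheory CategoryTheory.Limits AlgebraicGeometry TopologicalSpace Opposite
open scoped HomogeneousIdeal
noncomputable section
open EGA2

namespace Groth.Agent.S12158
open Groth.Agent.Helper13RelProj Groth.Agent.Helper13RL in

/-- Let q : Y' → Y be a morphism, φ : 𝒮 → q_*𝒮' a graded q-morphism of quasi-coherent positively graded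
algebras with 𝒮_0 = O_Y, 𝒮'_0 = O_{Y'}, φ̂ : 𝒮[z] → q_*𝒮'[z] its extension with φ̂(z) = z, Ĉ =
Proj(𝒮[z]), Ĉ' = Proj(𝒮'[z]) the projective cones with pointed cones Ê, Ê', and Φ̂ = Proj(φ̂) :
G(φ̂) → Ĉ; let Proj(φ) : G(φ) → X = Proj(𝒮) be the morphism induced by φ on G(φ) ⊆ X' = Proj(𝒮'),
and j : X → Ĉ, j' : X' → Ĉ' the canonical closed immersions at infinity (Proj of the graded
retractions 𝒮[z] → 𝒮, 𝒮'[z] → 𝒮' killing z). Then j'(G(φ)) ⊆ G(φ̂) and the square formed by Proj(φ),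
j', j and Φ̂ commutes. -/
theorem result {Y Y' PC PC' : Scheme.{u}} (q : Y' ⟶ Y)
    (𝒮 : RelProj.QCGrAlg Y) (𝒮' : RelProj.QCGrAlg Y') (h0 : RelCone.StrZeroBij 𝒮) (h0' : RelCone.StrZeroBij 𝒮')
    (u : RelProj.QGrHom q 𝒮 𝒮')
    (𝒮h : RelProj.QCGrAlg Y) (ι : 𝒮.toQCAlg ⟶ 𝒮h.toQCAlg) (z : 𝒮h.presheaf.obj (op ⊤))
    (hz : RelCone.IsPolyOver 𝒮 𝒮h ι z)
    (pC : PC ⟶ Y) (chartC : ∀ (U : Y.Opens) (hU : IsAffineOpen U), (((pC ⁻¹ᵁ U : PC.Opens) : Scheme.{u}) ≅ Proj (𝒮h.deg U hU)))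
    (hC : RelProj.IsRelProj 𝒮h pC chartC)
    (𝒮h' : RelProj.QCGrAlg Y') (ι' : 𝒮'.toQCAlg ⟶ 𝒮h'.toQCAlg) (z' : 𝒮h'.presheaf.obj (op ⊤))
    (hz' : RelCone.IsPolyOver 𝒮' 𝒮h' ι' z')
    (pC' : PC' ⟶ Y') (chartC' : ∀ (U : Y'.Opens) (hU : IsAffineOpen U), (((pC' ⁻¹ᵁ U : PC'.Opens) : Scheme.{u}) ≅ Proj (𝒮h'.deg U hU)))
    (hC' : RelProj.IsRelProj 𝒮h' pC' chartC')
    (uh : RelProj.QGrHom q 𝒮h 𝒮h')
    (huh : ∀ U : Y.Opens, ι.hom.app (op U) ≫ uh.app U = u.app U ≫ ι'.hom.app (op (q ⁻¹ᵁ U)))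
    (huhz : (uh.app ⊤).hom z = RelCone.restrictTop 𝒮h' z' (q ⁻¹ᵁ ⊤))
    (Φh : ((RelProj.domQ uh pC' chartC' : PC'.Opens) : Scheme.{u}) ⟶ PC)
    (hΦh : RelProj.IsProjQMapOn uh pC chartC pC' chartC' (RelProj.domQ uh pC' chartC') Φh)
    {P P' : Scheme.{u}} (p : P ⟶ Y) (chart : ∀ (U : Y.Opens) (hU : IsAffineOpen U), (((p ⁻¹ᵁ U : P.Opens) : Scheme.{u}) ≅ Proj (𝒮.deg U hU)))
    (hP : RelProj.IsRelProj 𝒮 p chart)
    (p' : P' ⟶ Y') (chart' : ∀ (U : Y'.Opens) (hU : IsAffineOpen U), (((p' ⁻¹ᵁ U : P'.Opens) : Scheme.{u}) ≅ Proj (𝒮'.deg U hU)))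
    (hP' : RelProj.IsRelProj 𝒮' p' chart')
    (Φ : ((RelProj.domQ u p' chart' : P'.Opens) : Scheme.{u}) ⟶ P)
    (hΦ : RelProj.IsProjQMapOn u p chart p' chart' (RelProj.domQ u p' chart') Φ)
    (θ : 𝒮h.toQCAlg ⟶ 𝒮.toQCAlg) (hθ : RelProj.IsGradedHom θ) (hθι : ι ≫ θ = 𝟙 _)
    (hθz : (θ.hom.app (op ⊤)).hom z = 0)
    (jX : P ⟶ PC) (hjX : RelProj.IsProjQMap (RelProj.QGrHom.ofHom θ hθ) pC chartC p chart jX)
    (θ' : 𝒮h'.toQCAlg ⟶ 𝒮'.toQCAlg) (hθ' : RelProj.IsGradedHom θ') (hθι' : ι' ≫ θ' = 𝟙 _)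
    (hθz' : (θ'.hom.app (op ⊤)).hom z' = 0)
    (jX' : P' ⟶ PC') (hjX' : RelProj.IsProjQMap (RelProj.QGrHom.ofHom θ' hθ') pC' chartC' p' chart' jX')
    (T : Scheme.{u}) (d : T ⟶ ((RelProj.domQ u p' chart' : P'.Opens) : Scheme.{u}))
    (e : T ⟶ ((RelProj.domQ uh pC' chartC' : PC'.Opens) : Scheme.{u}))
    (hde : d ≫ (RelProj.domQ u p' chart').ι ≫ jX' = e ≫ (RelProj.domQ uh pC' chartC').ι) :
    jX'.base '' ((RelProj.domQ u p' chart' : P'.Opens) : Set P') ⊆ ((RelProj.domQ uh pC' chartC' : PC'.Opens) : Set PC') ∧ e ≫ Φh = d ≫ Φ ≫ jX := by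
  have hGθ : RelProj.domQ (RelProj.QGrHom.ofHom θ hθ) p chart = ⊤ := hjX.1
  have hGθ' : RelProj.domQ (RelProj.QGrHom.ofHom θ' hθ') p' chart' = ⊤ := hjX'.1
  have hw1 : ∀ U : Y.Opens, (compOfHom u θ hθ).app U = θ.hom.app (op U) ≫ u.app U := fun _ => rfl
  have hw2 := retr_hcomp u hz hz' uh θ hθ θ' hθ' huh huhz hθι hθz hθι' hθz'
  have hjXo := isProjQMapOn_of_isProjQMap (RelProj.QGrHom.ofHom θ hθ) hjX
    (RelProj.domQ (RelProj.QGrHom.ofHom θ hθ) p chart)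
  have hjXo' := isProjQMapOn_of_isProjQMap (RelProj.QGrHom.ofHom θ' hθ') hjX'
    (RelProj.domQ (RelProj.QGrHom.ofHom θ' hθ') p' chart')
  have hle1 : RelProj.domQ (compOfHom u θ hθ) p' chart' ≤ RelProj.domQ u p' chart' :=
    domQ_comp_le u θ hθ (compOfHom u θ hθ) hw1
  have hle2 : RelProj.domQ (compOfHom u θ hθ) p' chart' ≤
      RelProj.domQ (RelProj.QGrHom.ofHom θ' hθ') p' chart' := by
    rw [hGθ']; exact le_top
  obtain ⟨rw', hrwp⟩ := exists_qmapOn (compOfHom u θ hθ) (p := pC) (chart := chartC)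
    (p' := p') (chart' := chart') hC hP'
  have hrw := isProjQMapOn_of_pieces (compOfHom u θ hθ) rw' hrwp
  obtain ⟨m₁, hm₁, hm₁r⟩ := exists_comp_lift u θ hθ (compOfHom u θ hθ) hw1 hP hC hP' hΦ hrw hjXo hle1
  obtain ⟨m₂, hm₂, hm₂r⟩ := exists_srcComp_lift' uh θ' hθ' (compOfHom u θ hθ) hw2 hC hC' hP'
    hjXo' hΦh hrw hle2
  have hiffT := mem_domQ_comp_iff u θ hθ (compOfHom u θ hθ) hw1 hP hC hP' hΦ
  have hGw : RelProj.domQ u p' chart' ≤ RelProj.domQ (compOfHom u θ hθ) p' chart' := fun x hx =>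
    (hiffT ⟨x, hx⟩).mpr (by rw [hGθ]; trivial)
  have hiffS := mem_domQ_srcComp_iff' uh θ' hθ' (compOfHom u θ hθ) hw2 hC hC' hP' hjXo'
  constructor
  · rintro _ ⟨x, hx, rfl⟩
    have hxw := hGw hx
    have h := (hiffS ⟨x, hle2 hxw⟩).mp hxw
    rw [Scheme.Hom.comp_apply] at h
    exact h
  · have hrange : Set.range (d ≫ (RelProj.domQ u p' chart').ι).base ⊆
        Set.range (RelProj.domQ (compOfHom u θ hθ) p' chart').ι.base := by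
      rintro _ ⟨τ, rfl⟩
      rw [Scheme.Opens.range_ι, Scheme.Hom.comp_apply]
      exact hGw (d.base τ).2
    let f := IsOpenImmersion.lift (RelProj.domQ (compOfHom u θ hθ) p' chart').ι
      (d ≫ (RelProj.domQ u p' chart').ι) hrange
    have hf : f ≫ (RelProj.domQ (compOfHom u θ hθ) p' chart').ι =
        d ≫ (RelProj.domQ u p' chart').ι := IsOpenImmersion.lift_fac _ _ _
    have hfd : f ≫ P'.homOfLE hle1 = d := by
      rw [← cancel_mono (RelProj.domQ u p' chart').ι, Category.assoc, Scheme.homOfLE_ι, hf]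
    have hfe : f ≫ m₂ = e := by
      rw [← cancel_mono (RelProj.domQ uh pC' chartC').ι, Category.assoc, hm₂,
        ← Category.assoc (P'.homOfLE hle2), Scheme.homOfLE_ι, ← Category.assoc, hf,
        Category.assoc, hde]
    rw [← hfe, Category.assoc, hm₂r, ← hm₁r, ← Category.assoc m₁, hm₁, ← hfd]
    simp only [Category.assoc]

end Groth.Agent.S12158
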