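import Groth.Statements.S12161
import Groth.Agent.Lib.Helper13RLu
import Groth.Agent.Lib.Helper13ProjLine
import Groth.Agent.S12153
-- import your own Groth.Agent.* helpers here

set_option autoImplicit false
universe u
open CategoryTheory CategoryTheory.Limits AlgebraicGeometry TopologicalSpace Opposite
open scoped HomogeneousIdeal
noncomputable section
open EGA2

namespace Groth.Agent.S12161

theorem respectsRight_isImmersion :
    MorphismProperty.RespectsRight (@IsImmersion : MorphismProperty Scheme.{u}) @IsOpenImmersion where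
  postcomp i hi f hf := by
    have : IsOpenImmersion i := hi
    have : IsImmersion f := hf
    exact (inferInstance : IsImmersion (f ≫ i))

open Groth.Agent.Helper13RelProj Groth.Agent.Helper13RL in

/-- Let Y be a quasi-compact scheme, q : X → Y a quasi-compact morphism, L an invertible O_X-module with
𝒮L = ⊕ L^{⊗n} (whose Proj is X), 𝒮 = colim 𝒮^i a filtered colimit of quasi-coherent positively
graded O_Y-algebras along graded homomorphisms φ_i : 𝒮^i → 𝒮 (colimit taken on sections over affine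
opens), ψ♭ = u : 𝒮 → q_*𝒮L a graded q-morphism and ψ_i♭ = u ∘ φ_i, with q of finite type; let r =
r_{L,ψ} : G(ψ) → Proj(𝒮) and r_i = r_{L,ψ_i} : G(ψ_i) → Proj(𝒮^i). Then r is everywhere defined and
an immersion if and only if some r_i is, and then so is r_j for all j ≥ i. -/
theorem result {Y X P PL : Scheme.{u}} (q : X ⟶ Y)
    (L : X.Modules) (hL : PicF.IsInvertible L) (hLq : Coh.IsQCoh L)
    (𝒮 : RelProj.QCGrAlg Y) (𝒮L : RelProj.QCGrAlg X) (j : L ⟶ 𝒮L.toModule) (hj : RelProj.IsGrSymAlg L 𝒮L j)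
    (u : RelProj.QGrHom q 𝒮 𝒮L)
    (p : P ⟶ Y) (chart : ∀ (U : Y.Opens) (hU : IsAffineOpen U), (((p ⁻¹ᵁ U : P.Opens) : Scheme.{u}) ≅ Proj (𝒮.deg U hU)))
    (hP : RelProj.IsRelProj 𝒮 p chart)
    (pL : PL ⟶ X) (chartL : ∀ (U : X.Opens) (hU : IsAffineOpen U), (((pL ⁻¹ᵁ U : PL.Opens) : Scheme.{u}) ≅ Proj (𝒮L.deg U hU)))
    (hPL : RelProj.IsRelProj 𝒮L pL chartL)
    [CompactSpace Y] [QuasiCompact q] [LocallyOfFiniteType q]
    (r : ((RelProj.domQ u pL chartL : PL.Opens) : Scheme.{u}) ⟶ P)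
    (hr : RelProj.IsProjQMapOn u p chart pL chartL (RelProj.domQ u pL chartL) r)
    (Λ : Type u) [Preorder Λ] [IsDirected Λ (· ≤ ·)] [Nonempty Λ]
    (𝒮i : Λ → RelProj.QCGrAlg Y) (φ : ∀ i, (𝒮i i).toQCAlg ⟶ 𝒮.toQCAlg) (hφ : ∀ i, RelProj.IsGradedHom (φ i))
    (t : ∀ i j, i ≤ j → ((𝒮i i).toQCAlg ⟶ (𝒮i j).toQCAlg)) (ht : ∀ i j (h : i ≤ j), RelProj.IsGradedHom (t i j h))
    (hφt : ∀ i j (h : i ≤ j), t i j h ≫ φ j = φ i)
    (hsurj : ∀ (U : Y.Opens), IsAffineOpen U → ∀ x : 𝒮.presheaf.obj (op U),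
      ∃ (i : Λ) (y : (𝒮i i).presheaf.obj (op U)), ((φ i).hom.app (op U)).hom y = x)
    (hker : ∀ (U : Y.Opens), IsAffineOpen U → ∀ (i : Λ) (y : (𝒮i i).presheaf.obj (op U)),
      ((φ i).hom.app (op U)).hom y = 0 → ∃ (j : Λ) (h : i ≤ j), ((t i j h).hom.app (op U)).hom y = 0)
    (ui : ∀ i, RelProj.QGrHom q (𝒮i i) 𝒮L) (hui : ∀ i (U : Y.Opens), (ui i).app U = (φ i).hom.app (op U) ≫ u.app U)
    (Pi : Λ → Scheme.{u}) (pi : ∀ i, Pi i ⟶ Y)
    (charti : ∀ i (U : Y.Opens) (hU : IsAffineOpen U), ((((pi i) ⁻¹ᵁ U : (Pi i).Opens) : Scheme.{u}) ≅ Proj ((𝒮i i).deg U hU)))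
    (hPi : ∀ i, RelProj.IsRelProj (𝒮i i) (pi i) (charti i))
    (ri : ∀ i, ((RelProj.domQ (ui i) pL chartL : PL.Opens) : Scheme.{u}) ⟶ Pi i)
    (hri : ∀ i, RelProj.IsProjQMapOn (ui i) (pi i) (charti i) pL chartL (RelProj.domQ (ui i) pL chartL) (ri i)) :
    ((RelProj.domQ u pL chartL = ⊤ ∧ IsImmersion r) ↔
        ∃ i, RelProj.domQ (ui i) pL chartL = ⊤ ∧ IsImmersion (ri i)) ∧
      ∀ i, (RelProj.domQ (ui i) pL chartL = ⊤ ∧ IsImmersion (ri i)) →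
        ∀ j, i ≤ j → RelProj.domQ (ui j) pL chartL = ⊤ ∧ IsImmersion (ri j) := by
  haveI : L.IsQuasicoherent := hLq
  haveI : IsIso pL := Groth.Agent.Helper13ProjLine.isIso_relProj L 𝒮L j hj pL chartL hPL hL
  haveI : CompactSpace X := QuasiCompact.compactSpace_of_compactSpace q
  haveI : CompactSpace PL := (Scheme.homeoOfIso (asIso pL)).symm.compactSpace
  have hmono := domQ_ui_mono (pL := pL) (chartL := chartL) u 𝒮i φ t ht ui hφt hui
  have h153 : ∀ i k (h : i ≤ k), (RelProj.domQ (ui i) pL chartL = ⊤ ∧ IsImmersion (ri i)) →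
      RelProj.domQ (ui k) pL chartL = ⊤ ∧ IsImmersion (ri k) := by
    rintro i k h ⟨h1, h2⟩
    exact Groth.Agent.S12153.result q L hL hLq (𝒮i k) 𝒮L j hj (ui k) (pi k) (charti k) (hPi k) pL
      chartL hPL (ri k) (hri k) (𝒮i i) (t i k h) (ht i k h) (ui i)
      (ui_comp_t u 𝒮i φ t ui hφt hui i k h) (pi i) (charti i) (hPi i) (ri i) (hri i) h1 h2
  have h153' : ∀ i, (RelProj.domQ (ui i) pL chartL = ⊤ ∧ IsImmersion (ri i)) →
      RelProj.domQ u pL chartL = ⊤ ∧ IsImmersion r := by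
    rintro i ⟨h1, h2⟩
    exact Groth.Agent.S12153.result q L hL hLq 𝒮 𝒮L j hj u p chart hP pL chartL hPL r hr (𝒮i i)
      (φ i) (hφ i) (ui i) (hui i) (pi i) (charti i) (hPi i) (ri i) (hri i) h1 h2
  refine ⟨⟨?_, fun ⟨i, hi⟩ => h153' i hi⟩, fun i hi k hik => h153 i k hik hi⟩
  rintro ⟨hdom, himm⟩
  obtain ⟨i₁, hi₁⟩ := exists_domQ_eq_top_of_colim u 𝒮i φ hφ t ht ui hφt hsurj hui hdom
  have key : ∀ w : ((RelProj.domQ u pL chartL : PL.Opens) : Scheme.{u}),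
      ∃ (U : Y.Opens) (hU : IsAffineOpen U) (d : ℕ) (hd : 0 < d) (f : 𝒮.presheaf.obj (op U))
        (hf : f ∈ 𝒮.deg U hU d), r.base w ∈ (stdChart p chart U hU hd hf).opensRange ∧
          (stdChart p chart U hU hd hf).opensRange ≤ r.coborderRange := by
    intro w
    obtain ⟨_, ⟨U, hU, rfl⟩, hwU, -⟩ := Y.isBasis_affineOpens.exists_subset_of_mem_open
      (Set.mem_univ (p.base (r.base w))) isOpen_univ
    replace hU : IsAffineOpen U := hU
    obtain ⟨z, hz⟩ := exists_chart_point (chartB := chart) U hU (r.base w) hwU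
    have hzO : z ∈ (RelProj.emb p chart U hU) ⁻¹ᵁ r.coborderRange := by
      change (RelProj.emb p chart U hU).base z ∈ r.coborderRange
      rw [hz]
      exact subset_coborder ⟨w, rfl⟩
    obtain ⟨n, s, hn, hs, hzs, hle⟩ := exists_homogeneous_basicOpen_le (𝒮.deg U hU) _ z hzO
    refine ⟨U, hU, n, hn, s, hs, ?_, ?_⟩
    · rw [opensRange_stdChart]
      exact ⟨z, hzs, hz⟩
    · rw [opensRange_stdChart]
      rintro _ ⟨z₂, hz₂, rfl⟩
      exact hle hz₂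
  choose U hU d hd f hf hmem hle using key
  haveI : CompactSpace ((RelProj.domQ u pL chartL : PL.Opens) : Scheme.{u}) :=
    isCompact_iff_compactSpace.mp (by rw [hdom]; exact isCompact_univ)
  obtain ⟨F, hF⟩ := isCompact_univ.elim_finite_subcover
    (fun w => ((r ⁻¹ᵁ (stdChart p chart (U w) (hU w) (hd w) (hf w)).opensRange :
      ((RelProj.domQ u pL chartL : PL.Opens) : Scheme.{u}).Opens) :
        Set ((RelProj.domQ u pL chartL : PL.Opens) : Scheme.{u})))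
    (fun w => (r ⁻¹ᵁ (stdChart p chart (U w) (hU w) (hd w) (hf w)).opensRange).2)
    (fun w _ => Set.mem_iUnion.mpr ⟨w, hmem w⟩)
  have hlev := fun w => exists_level_isClosedImmersion u 𝒮i φ hφ t ht ui hP hPL hr hφt hsurj hui
    hPi hri (U w) (hU w) (hd w) (hf w) (hle w)
  choose i₂ hi₂ using hlev
  have hlift : ∀ w, ∃ (i₀ : Λ) (y₀ : (𝒮i i₀).presheaf.obj (op (U w))),
      y₀ ∈ (𝒮i i₀).deg (U w) (hU w) (d w) ∧ ψAt (φ i₀) (hφ i₀) (U w) (hU w) y₀ = f w := by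
    intro w
    obtain ⟨i₀, y₀', hy₀'⟩ := hsurj (U w) (hU w) (f w)
    obtain ⟨y₀, hy₀, hy₀f⟩ := exists_homogeneous_lift (ψAt (φ i₀) (hφ i₀) (U w) (hU w)) (hf w) y₀'
      ((ψAt_apply (φ i₀) (hφ i₀) (U w) (hU w) y₀').trans hy₀')
    exact ⟨i₀, y₀, hy₀, hy₀f⟩
  choose i₀ y₀ hy₀ hy₀f using hlift
  classical
  obtain ⟨i, hi⟩ := Finset.exists_le (F.image i₂ ∪ F.image i₀ ∪ {i₁})
  have hi_1 : i₁ ≤ i := hi i₁ (by simp)
  have hi_2 : ∀ w ∈ F, i₂ w ≤ i := fun w hw => hi _ (by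
    refine Finset.mem_union_left _ (Finset.mem_union_left _ (Finset.mem_image_of_mem _ hw)))
  have hi_0 : ∀ w ∈ F, i₀ w ≤ i := fun w hw => hi _ (by
    refine Finset.mem_union_left _ (Finset.mem_union_right _ (Finset.mem_image_of_mem _ hw)))
  refine ⟨i, eq_top_iff.mpr (hi₁ ▸ hmono i₁ i hi_1), ?_⟩
  have hyy : ∀ w : F, ψAt (t (i₀ w.1) i (hi_0 w.1 w.2)) (ht _ _ _) (U w.1) (hU w.1) (y₀ w.1) ∈
      (𝒮i i).deg (U w.1) (hU w.1) (d w.1) := fun w => Graded.map_mem _ (hy₀ w.1)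
  have hyyf : ∀ w : F, ψAt (φ i) (hφ i) (U w.1) (hU w.1)
      (ψAt (t (i₀ w.1) i (hi_0 w.1 w.2)) (ht _ _ _) (U w.1) (hU w.1) (y₀ w.1)) = f w.1 := fun w =>
    (ψAt_t 𝒮i φ hφ t ht hφt (i₀ w.1) i (hi_0 w.1 w.2) (U w.1) (hU w.1) (y₀ w.1)).trans (hy₀f w.1)
  have hci : ∀ w : F, IsClosedImmersion (ri i ∣_
      (stdChart (pi i) (charti i) (U w.1) (hU w.1) (hd w.1) (hyy w)).opensRange) := fun w =>
    hi₂ w.1 i (hi_2 w.1 w.2) _ (hyy w) (hyyf w)
  haveI := respectsRight_isImmersion.{u}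
  apply IsZariskiLocalAtTarget.of_range_subset_iSup (P := @IsImmersion)
    (fun w : F => (stdChart (pi i) (charti i) (U w.1) (hU w.1) (hd w.1) (hyy w)).opensRange)
  · rintro _ ⟨w', rfl⟩
    have hx : (RelProj.domQ (ui i) pL chartL).ι.base w' ∈ RelProj.domQ u pL chartL := by
      rw [hdom]; trivial
    obtain ⟨w, hwF, hw⟩ : ∃ w ∈ F, (⟨_, hx⟩ : ((RelProj.domQ u pL chartL : PL.Opens) : Scheme.{u})) ∈
        r ⁻¹ᵁ (stdChart p chart (U w) (hU w) (hd w) (hf w)).opensRange := by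
      obtain ⟨w, hwF, hw⟩ := Set.mem_iUnion₂.mp
        (hF (Set.mem_univ (⟨_, hx⟩ : ((RelProj.domQ u pL chartL : PL.Opens) : Scheme.{u}))))
      exact ⟨w, hwF, hw⟩
    refine Opens.mem_iSup.mpr ⟨⟨w, hwF⟩, ?_⟩
    have hL2 := image_preimage_comp_eq u (φ i) (hφ i) (ui i) (hui i) hP (hPi i) hPL hr (hri i)
      (U w) (hU w) (hd w) (hyy ⟨w, hwF⟩)
    have h1 : (RelProj.domQ (ui i) pL chartL).ι.base w' ∈ (RelProj.domQ u pL chartL).ι ''ᵁ
        (r ⁻¹ᵁ ((RelProj.emb p chart (U w) (hU w)) ''ᵁ Proj.basicOpen (𝒮.deg (U w) (hU w))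
          (ψAt (φ i) (hφ i) (U w) (hU w)
            (ψAt (t (i₀ w) i (hi_0 w hwF)) (ht _ _ _) (U w) (hU w) (y₀ w))))) := by
      refine ⟨⟨_, hx⟩, ?_, rfl⟩
      rw [hyyf ⟨w, hwF⟩, ← opensRange_stdChart (hd := hd w) (hf := hf w)]
      exact hw
    rw [← hL2] at h1
    obtain ⟨w₁, hw₁, hw₁e⟩ := h1
    have e := (RelProj.domQ (ui i) pL chartL).ι.isOpenEmbedding.injective hw₁e
    rw [← e, opensRange_stdChart]
    exact hw₁
  · intro w
    haveI := hci w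
    infer_instance

end Groth.Agent.S12161
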