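import Groth.Statements.S12163
-- import your own Groth.Agent.* helpers here

set_option autoImplicit false
universe u
open CategoryTheory CategoryTheory.Limits AlgebraicGeometry TopologicalSpace Opposite
open scoped HomogeneousIdeal
noncomputable section
open EGA2

namespace Groth.Agent.S12163

theorem gradedAt_ofHom_apply {Y : Scheme.{u}} (𝒜 ℬ : RelProj.QCGrAlg Y)
    (φ : 𝒜.toQCAlg ⟶ ℬ.toQCAlg) (hφ : RelProj.IsGradedHom φ) (U : Y.Opens) (hU : IsAffineOpen U)
    (hle : U ≤ (𝟙 Y : Y ⟶ Y) ⁻¹ᵁ U) (a : 𝒜.presheaf.obj (op U)) :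
    (RelProj.QGrHom.ofHom φ hφ).gradedAt U hU U hU hle a = RelProj.gradedHomAt φ hφ U hU a := by
  change (ℬ.presheaf.map (𝟙 (op U))).hom ((φ.hom.app (op U)).hom a) = (φ.hom.app (op U)).hom a
  rw [ℬ.presheaf.map_id]
  rfl


/-- Let φ : 𝒜 → ℬ be a graded homomorphism of quasi-coherent positively graded O_Y-algebras and PB =
Proj(ℬ) with its charts. If every point of Y has an affine neighbourhood U over which the irrelevant
ideal of ℬ(U) is contained in the ideal generated by φ(𝒜(U)_+), then the open of definition G(φ) of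
Proj(φ) is all of PB. (The published condition asks 𝒮_+ to be generated by the image as a module
over the functions on U; generation as an ideal, used here, is implied by it.) -/
theorem result {Y PB : Scheme.{u}} (𝒜 ℬ : RelProj.QCGrAlg Y)
    (φ : 𝒜.toQCAlg ⟶ ℬ.toQCAlg) (hφ : RelProj.IsGradedHom φ)
    (pB : PB ⟶ Y) (chartB : ∀ (U : Y.Opens) (hU : IsAffineOpen U), (((pB ⁻¹ᵁ U : PB.Opens) : Scheme.{u}) ≅ Proj (ℬ.deg U hU)))
    (hB : RelProj.IsRelProj ℬ pB chartB)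
    (hcov : ∀ y : Y, ∃ (U : Y.Opens) (hU : IsAffineOpen U), y ∈ U ∧
      (ℬ.deg U hU)₊ ≤ ((𝒜.deg U hU)₊).map (RelProj.gradedHomAt φ hφ U hU)) :
    RelProj.domQ (RelProj.QGrHom.ofHom φ hφ) pB chartB = ⊤ := by
  rw [eq_top_iff]
  intro x _
  obtain ⟨U, hU, hyU, hirr⟩ := hcov (pB.base x)
  have hle : U ≤ (𝟙 Y : Y ⟶ Y) ⁻¹ᵁ U := le_rfl
  have hx : x ∈ pB ⁻¹ᵁ U := hyU
  let x' : ((pB ⁻¹ᵁ U : PB.Opens) : Scheme.{u}) := ⟨x, hx⟩
  let z : Proj (ℬ.deg U hU) := (chartB U hU).hom.base x'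
  have h1 : (chartB U hU).inv.base z = x' := by
    change ((chartB U hU).hom ≫ (chartB U hU).inv).base x' = x'
    rw [Iso.hom_inv_id]; rfl
  have hz : (RelProj.emb pB chartB U hU).base z = x := by
    change (pB ⁻¹ᵁ U).ι.base ((chartB U hU).inv.base z) = x
    rw [h1]; rfl
  refine Opens.mem_iSup.mpr ⟨⟨(⟨U, hU⟩, ⟨U, hU⟩), hle⟩, ?_⟩
  refine ⟨z, ?_, hz⟩
  change z ∈ RelCone.domOpen ((RelProj.QGrHom.ofHom φ hφ).gradedAt U hU U hU hle)
  rw [RelCone.mem_domOpen]
  by_contra hcon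
  push Not at hcon
  let z' : ProjectiveSpectrum (ℬ.deg U hU) := z
  apply z'.not_irrelevant_le
  refine hirr.trans ?_
  rw [HomogeneousIdeal.map_le_iff_le_comap]
  intro a ha
  have := hcon a ha
  rw [gradedAt_ofHom_apply] at this
  exact this

end Groth.Agent.S12163
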