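import Groth.Statements.S12193
import Groth.Agent.S9966
import Groth.Agent.S10211
import Groth.Agent.S10175
import Groth.Agent.S10496
import Groth.Agent.Lib.Helper12EtSmST
import Groth.Agent.Lib.Helper12Reduced

set_option autoImplicit false
universe u
open CategoryTheory CategoryTheory.Limits AlgebraicGeometry
open AlgSp

namespace Groth.Agent.S12193

/-- Let X be a reduced algebraic space over S, f : X → Y a morphism of algebraic spaces over S, and Z →
Y the scheme theoretic image of f. Then forming the scheme theoretic image commutes with etale base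
change: for every etale morphism V → Y of algebraic spaces and cartesian squares X ×_Y V, Z ×_Y V,
the closed subspace Z ×_Y V → V is the scheme theoretic image of X ×_Y V → V. -/
theorem result {S : Scheme.{u}} {X Y Z V XV ZV : AlgSp.Space S} (f : X ⟶ Y)
    (i : Z ⟶ Y) (hX : AlgSp.IsReducedSp X.obj) (hZ : AlgSp.IsSchImage f.hom i.hom) (b : V ⟶ Y)
    (hb : AlgSp.IsEtaleMor b.hom) (f₁ : XV ⟶ X) (fV : XV ⟶ V) (i₁ : ZV ⟶ Z) (iV : ZV ⟶ V)
    (sqX : IsPullback f₁.hom fV.hom f.hom b.hom) (sqZ : IsPullback i₁.hom iV.hom i.hom b.hom) :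
    AlgSp.IsSchImage fV.hom iV.hom := by
  have hred := Groth.Agent.S9966.result f i hX hZ
  obtain ⟨hicl, ⟨f', hf'⟩, hmin⟩ := hZ
  have hZred : AlgSp.IsReducedSp Z.obj := hred.2.2
  have hrange : Set.range (AlgSp.Points.map i.hom) = closure (Set.range (AlgSp.Points.map f.hom)) :=
    hred.2.1
  -- (1) closed immersion
  have hiV : AlgSp.RepWith @IsClosedImmersion iV.hom := by
    haveI : (AlgSp.RepWith (S := S) @IsClosedImmersion).IsStableUnderBaseChange :=
      MorphismProperty.relative_isStableUnderBaseChange _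
    exact MorphismProperty.of_isPullback (P := AlgSp.RepWith @IsClosedImmersion) sqZ hicl
  -- (2) factorisation
  have hw : (f₁.hom ≫ f') ≫ i.hom = fV.hom ≫ b.hom := by
    rw [Category.assoc, hf', sqX.w]
  refine ⟨hiV, ⟨sqZ.lift (f₁.hom ≫ f') fV.hom hw, sqZ.lift_snd _ _ _⟩, ?_⟩
  -- (3) minimality
  intro Z' i' hZ' hi' ⟨f'', hf''⟩
  -- `ZV` is reduced
  have hi₁et : AlgSp.IsEtaleMor i₁.hom :=
    Groth.Agent.Lib.Helper12.EtSmST.isEtaleMor_baseChange V.property Y.property Z.property
      sqZ.flip hb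
  have hZVred : AlgSp.IsReducedSp ZV.obj :=
    Groth.Agent.Lib.Helper12.Reduced.isReducedSp_of_smooth ZV.property i₁.hom
      (Groth.Agent.Lib.Helper12.EtSmST.locP_smooth_of_isEtaleMor i₁.hom hi₁et) hZred
  refine Groth.Agent.S9966.exists_factor_of_reduced hZVred iV.hom i' hi' ?_
  -- the image of `iV` lies in the image of `i'`
  have hbopen : IsOpenMap (AlgSp.Points.map b.hom) := Groth.Agent.S10211.result b hb
  have hcl' : IsClosed (Set.range (AlgSp.Points.map i')) :=
    (Groth.Agent.S10496.isClosedMap_map_of_closedImmersion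
      (Z := ⟨Z', hZ'⟩) (X := V) (ObjectProperty.homMk i') hi').isClosed_range
  rintro _ ⟨z, rfl⟩
  -- `iV z` lies over a point of `range i = closure (range f)`
  have h1 : AlgSp.Points.map b.hom (AlgSp.Points.map iV.hom z) ∈
      closure (Set.range (AlgSp.Points.map f.hom)) := by
    rw [← hrange, ← AlgSp.Points.map_comp, ← sqZ.w, AlgSp.Points.map_comp]
    exact ⟨_, rfl⟩
  have h2 : AlgSp.Points.map iV.hom z ∈
      closure (AlgSp.Points.map b.hom ⁻¹' Set.range (AlgSp.Points.map f.hom)) :=
    hbopen.preimage_closure_subset_closure_preimage h1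
  refine (closure_minimal ?_ hcl') h2
  rintro v ⟨x, hx⟩
  obtain ⟨p, hp1, hp2⟩ := Groth.Agent.S10175.exists_point_of_isPullback sqX.flip v x hx.symm
  refine ⟨AlgSp.Points.map f'' p, ?_⟩
  rw [← AlgSp.Points.map_comp, hf'', hp1]

end Groth.Agent.S12193
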