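import Groth.Statements.S12208
import Groth.Agent.Lib.Helper15Noether
import Groth.Agent.Lib.Helper5IntDim

set_option autoImplicit false
universe u
open CAlg

namespace Groth.Agent.S12208

/-- Let k be a field and S = k[x_1, …, x_n]/I with I a proper ideal. Then there exist r ≥ 0 and elements
y_1, …, y_r of k[x_1, …, x_n] lying in the subring generated by x_1, …, x_n (polynomials with
integer coefficients) such that the k-algebra map from the polynomial ring k[t_1, …, t_r] to S
sending t_i to the class of y_i is injective and finite; and for any r ≥ 0 and any y_1, …, y_r in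
k[x_1, …, x_n] (with or without the integer-coefficient condition) for which that map is injective
and finite, r is the Krull dimension of S. -/
theorem result (k : Type u) [Field k] (n : ℕ) (I : Ideal (MvPolynomial (Fin n) k))
    (hI : I ≠ ⊤) :
    (∃ (r : ℕ) (y : Fin r → MvPolynomial (Fin n) k),
      (∀ i, y i ∈ Set.range (MvPolynomial.map (Int.castRingHom k) : MvPolynomial (Fin n) ℤ → MvPolynomial (Fin n) k)) ∧
      Function.Injective ((Ideal.Quotient.mkₐ k I).comp (MvPolynomial.aeval y)) ∧
      ((Ideal.Quotient.mkₐ k I).comp (MvPolynomial.aeval y)).toRingHom.Finite) ∧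
    ∀ (r : ℕ) (y : Fin r → MvPolynomial (Fin n) k),
      Function.Injective ((Ideal.Quotient.mkₐ k I).comp (MvPolynomial.aeval y)) →
      ((Ideal.Quotient.mkₐ k I).comp (MvPolynomial.aeval y)).toRingHom.Finite →
      ringKrullDim (MvPolynomial (Fin n) k ⧸ I) = r := by
  have hft : ∀ (r : ℕ) (g : MvPolynomial (Fin r) k →ₐ[k] MvPolynomial (Fin n) k ⧸ I),
      g.toRingHom.FiniteType := by
    intro r g
    have h : algebraMap k (MvPolynomial (Fin n) k ⧸ I) =
        g.toRingHom.comp (algebraMap k (MvPolynomial (Fin r) k)) := by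
      ext a
      simp
    have hfin : (algebraMap k (MvPolynomial (Fin n) k ⧸ I)).FiniteType :=
      RingHom.finiteType_algebraMap.mpr inferInstance
    exact (h ▸ hfin).of_comp_finiteType
  refine ⟨?_, ?_⟩
  · obtain ⟨s, -, y, hy, hinj, hint⟩ := Groth.Agent.Lib.Helper15.exists_int_integral_inj I hI
    exact ⟨s, y, hy, hinj, hint.to_finite (hft s _)⟩
  · intro r y hinj hfin
    let g := (Ideal.Quotient.mkₐ k I).comp (MvPolynomial.aeval y)
    let _ : Algebra (MvPolynomial (Fin r) k) (MvPolynomial (Fin n) k ⧸ I) := g.toRingHom.toAlgebra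
    have hint : Algebra.IsIntegral (MvPolynomial (Fin r) k) (MvPolynomial (Fin n) k ⧸ I) :=
      ⟨hfin.to_isIntegral⟩
    rw [Groth.Agent.Lib.Helper5.ringKrullDim_eq_of_isIntegral_of_injective
      (MvPolynomial (Fin r) k) (MvPolynomial (Fin n) k ⧸ I) hinj]
    simp

end Groth.Agent.S12208
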