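import Groth.Statements.S12217
import Groth.Agent.Lib.Helper5GorRing
import Groth.Agent.Lib.Helper5GorFlat
import Groth.Agent.Lib.Helper5GorArt
import Groth.Agent.Lib.Helper19ComplNoeth
import Groth.Agent.S0343

set_option autoImplicit false
universe u
open Curves

namespace Groth.Agent.S12217

section aux
open IsLocalRing PowerSeries Groth.Agent.Lib.Helper5.GorArt Groth.Agent.Lib.Helper5.GorRing

/-- The completion of a Gorenstein local ring is Gorenstein. -/
theorem gor_completion (A : Type u) [CommRing A] [hA : LocCoh.IsGorensteinLocalRing A] :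
    LocCoh.IsGorensteinLocalRing (AdicCompletion (maximalIdeal A) A) := by
  haveI : IsNoetherianRing (AdicCompletion (maximalIdeal A) A) :=
    Groth.Agent.Lib.Helper19.isNoetherianRing_adicCompletion (maximalIdeal A)
  have hker : RingHom.ker (IsLocalRing.residue (AdicCompletion (maximalIdeal A) A)) =
      (maximalIdeal A).map (algebraMap A (AdicCompletion (maximalIdeal A) A)) := by
    rw [IsLocalRing.ker_residue]
    exact AdicCompletion.maximalIdeal_eq_map
  exact (Groth.Agent.Lib.Helper5.GorFlat.main A _ _ (IsLocalRing.residue _)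
    IsLocalRing.residue_surjective hker).mpr ⟨hA, gorLocal_of_field _⟩

variable (k : Type u) [Field k] (n : ℕ)

/-- The multicross ring with `n` branches. -/
def MC : Subring (Fin n → PowerSeries k) where
  carrier := {f | ∀ i j : Fin n, constantCoeff (f i) = constantCoeff (f j)}
  mul_mem' := by
    intro a b ha hb i j
    simp only [Pi.mul_apply, map_mul]
    rw [ha i j, hb i j]
  one_mem' := by intro i j; rfl
  add_mem' := by
    intro a b ha hb i j
    simp only [Pi.add_apply, map_add]
    rw [ha i j, hb i j]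
  zero_mem' := by intro i j; rfl
  neg_mem' := by
    intro a ha i j
    simp only [Pi.neg_apply, map_neg]
    rw [ha i j]

variable {k n}

theorem mem_MC {f : Fin n → PowerSeries k} :
    f ∈ MC k n ↔ ∀ i j : Fin n, constantCoeff (f i) = constantCoeff (f j) := Iff.rfl

/-- The element `(t, …, t)`. -/
noncomputable def xel : MC k n := ⟨fun _ => X, fun _ _ => rfl⟩

/-- The element `t e_i`. -/
noncomputable def uel (i : Fin n) : MC k n := ⟨Pi.single i X, by
  intro a b
  have h : ∀ c : Fin n, constantCoeff ((Pi.single i (X : PowerSeries k) : Fin n → PowerSeries k) c)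
      = 0 := by
    intro c
    by_cases hc : c = i
    · subst hc; rw [Pi.single_eq_same]; exact constantCoeff_X
    · rw [Pi.single_eq_of_ne hc]; exact map_zero _
  rw [h a, h b]⟩

/-- An element all of whose constant coefficients vanish is `X` times a tuple. -/
theorem exists_eq_X_mul (y : MC k n) (hy : ∀ i, constantCoeff (y.1 i) = 0) :
    ∃ w : Fin n → PowerSeries k, ∀ i, y.1 i = X * w i := by
  have : ∀ i, ∃ w : PowerSeries k, y.1 i = X * w := fun i => X_dvd_iff.mpr (hy i)
  choose w hw using this
  exact ⟨w, hw⟩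

theorem mul_mem_span_of_constantCoeff (y z : MC k n) (hy : ∀ i, constantCoeff (y.1 i) = 0)
    (hz : ∀ i, constantCoeff (z.1 i) = 0) : y * z ∈ Ideal.span {(xel : MC k n)} := by
  obtain ⟨w, hw⟩ := exists_eq_X_mul y hy
  rw [Ideal.mem_span_singleton']
  refine ⟨⟨fun i => w i * z.1 i, ?_⟩, ?_⟩
  · intro i j
    simp only [map_mul]
    rw [hz i, hz j, mul_zero, mul_zero]
  · apply Subtype.ext
    funext i
    change (w i * z.1 i) * X = y.1 i * z.1 i
    rw [hw i]
    ring

theorem constantCoeff_uel (i j : Fin n) : constantCoeff ((uel i : MC k n).1 j) = 0 := by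
  change constantCoeff ((Pi.single i (X : PowerSeries k) : Fin n → PowerSeries k) j) = 0
  by_cases hc : j = i
  · subst hc; rw [Pi.single_eq_same]; exact constantCoeff_X
  · rw [Pi.single_eq_of_ne hc]; exact map_zero _

variable [IsLocalRing (MC k n)]

/-- Elements of the maximal ideal have vanishing constant coefficients. -/
theorem constantCoeff_of_mem_maximalIdeal (y : MC k n) (hy : y ∈ maximalIdeal (MC k n)) (i : Fin n) :
    constantCoeff (y.1 i) = 0 := by
  by_contra hne
  apply (IsLocalRing.mem_maximalIdeal y).mp hy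
  have hne' : ∀ j, constantCoeff (y.1 j) ≠ 0 := fun j => by rw [y.2 j i]; exact hne
  let z : MC k n := ⟨fun j => (y.1 j)⁻¹, by
    intro a b
    simp only [constantCoeff_inv]
    rw [y.2 a b]⟩
  refine IsUnit.of_mul_eq_one z ?_
  apply Subtype.ext
  funext j
  exact PowerSeries.mul_inv_cancel (y.1 j) (hne' j)

theorem mem_maximalIdeal_of_constantCoeff (y : MC k n) (i : Fin n)
    (hy : constantCoeff (y.1 i) = 0) : y ∈ maximalIdeal (MC k n) := by
  rw [IsLocalRing.mem_maximalIdeal]
  intro hu
  have h1 : IsUnit (y.1 i) :=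
    hu.map ((Pi.evalRingHom (fun _ : Fin n => PowerSeries k) i).comp (MC k n).subtype)
  rw [PowerSeries.isUnit_iff_constantCoeff, hy] at h1
  exact not_isUnit_zero h1

theorem uel_apply_same (i : Fin n) : (uel i : MC k n).1 i = X := by
  change (Pi.single i (X : PowerSeries k) : Fin n → PowerSeries k) i = X
  rw [Pi.single_eq_same]

theorem uel_apply_ne {i j : Fin n} (h : j ≠ i) : (uel i : MC k n).1 j = 0 := by
  change (Pi.single i (X : PowerSeries k) : Fin n → PowerSeries k) j = 0
  rw [Pi.single_eq_of_ne h]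

theorem main_MC (hn : 3 ≤ n) [hG : LocCoh.IsGorensteinLocalRing (MC k n)] : False := by
  let i0 : Fin n := ⟨0, by omega⟩
  let i1 : Fin n := ⟨1, by omega⟩
  let i2 : Fin n := ⟨2, by omega⟩
  have h10 : i1 ≠ i0 := by intro h; have := congrArg Fin.val h; simp [i0, i1] at this
  have h20 : i2 ≠ i0 := by intro h; have := congrArg Fin.val h; simp [i0, i2] at this
  have h21 : i2 ≠ i1 := by intro h; have := congrArg Fin.val h; simp [i1, i2] at this
  have hxm : (xel : MC k n) ∈ maximalIdeal (MC k n) :=
    mem_maximalIdeal_of_constantCoeff xel i0 constantCoeff_X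
  have hxreg : IsSMulRegular (MC k n) (xel : MC k n) := by
    intro a b hab
    apply Subtype.ext
    funext i
    have h1 : (X : PowerSeries k) * a.1 i = X * b.1 i :=
      congrArg (fun f : MC k n => f.1 i) hab
    exact mul_left_cancel₀ X_ne_zero h1
  haveI hG' : LocCoh.IsGorensteinLocalRing (MC k n ⧸ Ideal.span {(xel : MC k n)}) :=
    (Groth.Agent.S0343.result (MC k n) xel hxm hxreg).mp hG
  haveI hloc : IsLocalHom (Ideal.Quotient.mk (Ideal.span {(xel : MC k n)})) := by
    apply isLocalHom_of_le_jacobson_bot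
    refine le_trans ?_ (IsLocalRing.maximalIdeal_le_jacobson ⊥)
    exact (Ideal.span_singleton_le_iff_mem _).mpr hxm
  have hmk_max : ∀ y' : MC k n,
      Ideal.Quotient.mk (Ideal.span {(xel : MC k n)}) y' ∈
        maximalIdeal (MC k n ⧸ Ideal.span {(xel : MC k n)}) →
      ∀ i, constantCoeff (y'.1 i) = 0 := by
    intro y' hy' i
    apply constantCoeff_of_mem_maximalIdeal
    rw [IsLocalRing.mem_maximalIdeal] at hy' ⊢
    intro hu
    exact hy' (hu.map _)
  have hsq : ∀ y z : MC k n ⧸ Ideal.span {(xel : MC k n)},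
      y ∈ maximalIdeal (MC k n ⧸ Ideal.span {(xel : MC k n)}) →
      z ∈ maximalIdeal (MC k n ⧸ Ideal.span {(xel : MC k n)}) → y * z = 0 := by
    intro y z hy hz
    obtain ⟨y', rfl⟩ := Ideal.Quotient.mk_surjective y
    obtain ⟨z', rfl⟩ := Ideal.Quotient.mk_surjective z
    rw [← map_mul, Ideal.Quotient.eq_zero_iff_mem]
    exact mul_mem_span_of_constantCoeff y' z' (hmk_max y' hy) (hmk_max z' hz)
  haveI : IsArtinianRing (MC k n ⧸ Ideal.span {(xel : MC k n)}) := by
    rw [isArtinianRing_iff_isNilpotent_maximalIdeal]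
    refine ⟨2, ?_⟩
    rw [Ideal.zero_eq_bot, eq_bot_iff, pow_two, Ideal.mul_le]
    intro y hy z hz
    rw [hsq y z hy hz]
    exact Ideal.zero_mem _
  obtain ⟨s, hs0, hs⟩ := T1_of_gor (MC k n ⧸ Ideal.span {(xel : MC k n)})
  have hs_soc : s ∈ soc (MC k n ⧸ Ideal.span {(xel : MC k n)}) := hs ▸ Ideal.subset_span rfl
  have hu_soc : ∀ i, Ideal.Quotient.mk (Ideal.span {(xel : MC k n)}) (uel i) ∈
      soc (MC k n ⧸ Ideal.span {(xel : MC k n)}) := by
    intro i y hy
    obtain ⟨y', rfl⟩ := Ideal.Quotient.mk_surjective y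
    rw [← map_mul, Ideal.Quotient.eq_zero_iff_mem]
    exact mul_mem_span_of_constantCoeff y' (uel i) (hmk_max y' hy) (constantCoeff_uel i)
  have hu0 := hu_soc i0
  have hu1 := hu_soc i1
  rw [hs] at hu0 hu1
  obtain ⟨a, ha⟩ := Ideal.mem_span_singleton'.mp hu0
  obtain ⟨b, hb⟩ := Ideal.mem_span_singleton'.mp hu1
  obtain ⟨a', rfl⟩ := Ideal.Quotient.mk_surjective a
  obtain ⟨b', rfl⟩ := Ideal.Quotient.mk_surjective b
  have h0 : Ideal.Quotient.mk (Ideal.span {(xel : MC k n)}) (b' * uel i0 - a' * uel i1) = 0 := by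
    rw [map_sub, map_mul, map_mul, ← ha, ← hb]
    ring
  rw [Ideal.Quotient.eq_zero_iff_mem, Ideal.mem_span_singleton'] at h0
  obtain ⟨g, hg⟩ := h0
  have hc : ∀ i, g.1 i * X = b'.1 i * (uel i0 : MC k n).1 i - a'.1 i * (uel i1 : MC k n).1 i :=
    fun i => congrArg (fun f : MC k n => f.1 i) hg
  have hg2 : g.1 i2 = 0 := by
    have h := hc i2
    rw [uel_apply_ne h20, uel_apply_ne h21, mul_zero, mul_zero, sub_zero] at h
    exact (mul_eq_zero.mp h).resolve_right X_ne_zero
  have hgc : ∀ i, constantCoeff (g.1 i) = 0 := by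
    intro i
    rw [g.2 i i2, hg2, map_zero]
  have ha1 : constantCoeff (a'.1 i1) = 0 := by
    have h := hc i1
    rw [uel_apply_ne h10, uel_apply_same, mul_zero, zero_sub, ← neg_mul] at h
    have h2 : g.1 i1 = -a'.1 i1 := mul_right_cancel₀ X_ne_zero h
    have h3 : a'.1 i1 = -g.1 i1 := by rw [h2, neg_neg]
    rw [h3, map_neg, hgc i1, neg_zero]
  -- hence `u_0 = 0`
  have ha_max : Ideal.Quotient.mk (Ideal.span {(xel : MC k n)}) a' ∈
      maximalIdeal (MC k n ⧸ Ideal.span {(xel : MC k n)}) := by
    rw [IsLocalRing.mem_maximalIdeal]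
    intro hu
    have hu' : IsUnit a' := hloc.map_nonunit a' hu
    exact (IsLocalRing.mem_maximalIdeal a').mp (mem_maximalIdeal_of_constantCoeff a' i1 ha1) hu'
  have hu0z : Ideal.Quotient.mk (Ideal.span {(xel : MC k n)}) (uel i0) = 0 := by
    rw [← ha]
    exact hs_soc _ ha_max
  rw [Ideal.Quotient.eq_zero_iff_mem, Ideal.mem_span_singleton'] at hu0z
  obtain ⟨g', hg'⟩ := hu0z
  have hc' : ∀ i, g'.1 i * X = (uel i0 : MC k n).1 i :=
    fun i => congrArg (fun f : MC k n => f.1 i) hg'
  have h00 : g'.1 i0 = 1 := by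
    have h := hc' i0
    rw [uel_apply_same] at h
    have : g'.1 i0 * X = 1 * X := by rw [h, one_mul]
    exact mul_right_cancel₀ X_ne_zero this
  have h01 : g'.1 i1 = 0 := by
    have h := hc' i1
    rw [uel_apply_ne h10] at h
    exact (mul_eq_zero.mp h).resolve_right X_ne_zero
  have := g'.2 i0 i1
  rw [h00, h01, map_one, map_zero] at this
  exact one_ne_zero this

end aux

/-- In this form A is the local ring of the curve at the point, and a Gorenstein scheme has Gorenstein
local rings. Let k be an algebraically closed field and A a Gorenstein local ring whose completion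
with respect to its maximal ideal is isomorphic to the multicross ring with n ≥ 2 branches, the
subring of (k[[t]])^n consisting of the n-tuples of power series having a common constant term. Then
n = 2: a Gorenstein multicross singularity is a node. The isomorphism is given as an injective ring
map from the completion to (k[[t]])^n with that subring as its range. -/
theorem result (k : Type u) [Field k] [IsAlgClosed k]
    (A : Type u) [CommRing A] [LocCoh.IsGorensteinLocalRing A] (n : ℕ) (hn : 2 ≤ n)
    (φ : AdicCompletion (IsLocalRing.maximalIdeal A) A →+* (Fin n → PowerSeries k))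
    (hinj : Function.Injective φ)
    (hrange : Set.range φ = {f : Fin n → PowerSeries k | ∀ i j : Fin n, PowerSeries.constantCoeff (f i) = PowerSeries.constantCoeff (f j)}) :
    n = 2 := by
  by_contra hne
  have hn3 : 3 ≤ n := by omega
  haveI hÂ := gor_completion A
  have hmem : ∀ a, φ a ∈ MC k n := fun a => by
    have : φ a ∈ Set.range φ := ⟨a, rfl⟩
    rw [hrange] at this
    exact this
  let φ' : AdicCompletion (IsLocalRing.maximalIdeal A) A →+* MC k n := φ.codRestrict (MC k n) hmem
  have hbij : Function.Bijective φ' := by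
    constructor
    · intro a b hab
      exact hinj (congrArg Subtype.val hab)
    · intro f
      have : f.1 ∈ Set.range φ := by rw [hrange]; exact f.2
      obtain ⟨a, ha⟩ := this
      exact ⟨a, Subtype.ext ha⟩
  let e := RingEquiv.ofBijective φ' hbij
  haveI : LocCoh.IsGorensteinLocalRing (MC k n) :=
    Groth.Agent.Lib.Helper5.GorRing.gorLocal_of_ringEquiv e
  exact main_MC (k := k) (n := n) hn3

end Groth.Agent.S12217
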