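import Groth.Statements.S12226
import Groth.Agent.Lib.Helper20ZClos17

set_option autoImplicit false
set_option linter.style.haveILetI false
universe u
open CategoryTheory CategoryTheory.Limits AlgebraicGeometry TopologicalSpace
open LocCoh

namespace Groth.Agent.S12226

/-- Let j : U → X be the inclusion of an open subscheme of a Noetherian scheme X and F a coherent
O_X-module such that F' = j_*(F|_U) is coherent. Then (a) for every point x of X outside U the stalk
F'_x has depth at least 2 over O_{X,x}, and (b) F → F' is the unique map with these properties: for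
every coherent O_X-module G and every map φ : F → G whose restriction to U is an isomorphism and
such that depth(G_x) ≥ 2 for all x outside U, there is exactly one map ψ : G → F' whose composite
with φ is the canonical map F → j_*(F|_U), and this ψ is an isomorphism. (The compatibility of this
construction with flat base change is not part of this statement.) -/
theorem result (X : Scheme.{u}) [IsNoetherian X] (U : X.Opens)
    (F : X.Modules) (hF : Coh.IsCoh F) (hF' : Coh.IsCoh ((Coh.push U.ι).obj (F.restrict U.ι))) :
    (∀ x : ↥X, x ∉ U → (2 : ℕ∞) ≤ LocCoh.depth (X.presheaf.stalk x)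
        (((Coh.push U.ι).obj (F.restrict U.ι)).presheaf.stalk x)) ∧
    ∀ (G : X.Modules) (hG : Coh.IsCoh G) (φ : F ⟶ G),
      IsIso ((Scheme.Modules.restrictFunctor U.ι).map φ) →
      (∀ x : ↥X, x ∉ U → (2 : ℕ∞) ≤ LocCoh.depth (X.presheaf.stalk x) (G.presheaf.stalk x)) →
        (∃! ψ : G ⟶ (Coh.push U.ι).obj (F.restrict U.ι),
            φ ≫ ψ = (Scheme.Modules.restrictAdjunction U.ι).unit.app F) ∧
          ∀ ψ : G ⟶ (Coh.push U.ι).obj (F.restrict U.ι),
            φ ≫ ψ = (Scheme.Modules.restrictAdjunction U.ι).unit.app F → IsIso ψ := by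
  obtain ⟨K, rfl⟩ : ∃ K : TopologicalSpace.Closeds X, K.compl = U := ⟨U.compl, U.compl_compl⟩
  haveI : ((ZClos.resPush K.compl).obj F).IsQuasicoherent := hF'.1
  haveI : SheafOfModules.IsFiniteType (R := X.ringCatSheaf) ((ZClos.resPush K.compl).obj F) := hF'.2
  refine ⟨fun x hx => Groth.Agent.Lib.Helper20.ZClosLib.depth_push_restrict_ge_two K F x
    (not_not.mp hx), ?_⟩
  intro G hG φ hφ hdepth
  haveI : G.IsQuasicoherent := hG.1
  haveI : SheafOfModules.IsFiniteType (R := X.ringCatSheaf) G := hG.2
  exact Groth.Agent.Lib.Helper20.ZClosLib.push_restrict_universal K.compl φ hφ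
    (Groth.Agent.Lib.Helper20.ZClosLib.isIso_unit_of_depth_ge_two K G
      (fun x hx => hdepth x (not_not.mpr hx)))

end Groth.Agent.S12226
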