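import Groth.Statements.S1223
import Groth.Agent.Lib.Helper22GeomInt

set_option autoImplicit false
universe u
open FlatMor

namespace Groth.Agent.S1223

/-- Ring form, X = Spec B affine: a finite type, flat A-algebra B with geometrically integral fibres is
universally pure relative to Spec A. -/
theorem result {A B : Type u} [CommRing A] [CommRing B] [Algebra A B] [Algebra.FiniteType A B] [Module.Flat A B]
    (h : FlatCA.GeomIntegralFibres A B) : FlatCA.IsUnivPure A B B := by
  intro p _ A' B' N' _ _ _ _ _ _ _ _ _ _ _ _ _ _ f t' t _ _ P _ himp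
  obtain ⟨hpo, hbc, hle, htp, hPt', hass, hno⟩ := himp
  have h' := Groth.Agent.Lib.Helper22.GeomInt.geometricallyIntegral_of_isPushout
    (A := A) (B := B) (A' := A') (B' := B') h
  have hflat : Module.Flat A' B' := Module.Flat.isBaseChange (R := A) (S := A') (M := B) B'
    (Algebra.IsPushout.symm hpo).out
  let e : N' ≃ₗ[B'] B' := hbc.equiv.symm ≪≫ₗ TensorProduct.AlgebraTensorModule.rid B B' B'
  obtain ⟨P', hP', hPP', hover⟩ := Groth.Agent.Lib.Helper22.GeomInt.exists_prime_ge_liesOver
    (fun K _ _ => Groth.Agent.Lib.Helper22.GeomInt.isDomain_tensor_of_geometricallyIntegral h' K)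
    e t' t hle P hass
  exact hno P' hPP' hover

end Groth.Agent.S1223
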