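import Groth.Statements.S12233
import Mathlib
import Groth.Agent.Lib.Helper13BCTor
import Groth.Agent.Lib.Helper13LocTensor
import Groth.Agent.Lib.Helper5LocalFlat
-- import your own Groth.Agent.* helpers here

set_option autoImplicit false
universe u
open scoped TensorProduct
open CAlg

namespace Groth.Agent.S12233

open TensorProduct

section Main
attribute [local instance] Algebra.TensorProduct.rightAlgebra

variable {R S R' : Type u} [CommRing R] [CommRing S] [CommRing R']
  [Algebra R S] [Algebra R R']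
  (M : Type u) [AddCommGroup M] [Module S M] [Module R M] [IsScalarTower R S M]

/-- `(T ⊗_S M) ⊗_{R'} N ≃ N ⊗_R M` for `T = S ⊗_R R'`. -/
noncomputable def theta (N : Type u) [AddCommGroup N] [Module R' N] [Module R N]
    [IsScalarTower R R' N] :
    ((S ⊗[R] R') ⊗[S] M) ⊗[R'] N ≃ₗ[R'] N ⊗[R] M :=
  (LinearEquiv.rTensor N (Algebra.IsPushout.cancelBaseChange R R' S (S ⊗[R] R') M)) ≪≫ₗ
    (TensorProduct.comm R' _ _) ≪≫ₗ (AlgebraTensorModule.cancelBaseChange R R' R' N M)

theorem theta_symm_tmul (N : Type u) [AddCommGroup N] [Module R' N] [Module R N]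
    [IsScalarTower R R' N] (n : N) (m : M) :
    (theta (S := S) M N).symm (n ⊗ₜ m) = ((1 : S ⊗[R] R') ⊗ₜ[S] m) ⊗ₜ[R'] n := by
  simp [theta]

theorem theta_natural {N P : Type u} [AddCommGroup N] [Module R' N] [Module R N]
    [IsScalarTower R R' N] [AddCommGroup P] [Module R' P] [Module R P]
    [IsScalarTower R R' P] (u : N →ₗ[R'] P) (y : N ⊗[R] M) :
    u.lTensor ((S ⊗[R] R') ⊗[S] M) ((theta (S := S) M N).symm y) =
      (theta (S := S) M P).symm ((u.restrictScalars R).rTensor M y) := by
  induction y using TensorProduct.induction_on with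
  | zero => simp
  | tmul n m => simp [theta_symm_tmul]
  | add y₁ y₂ h₁ h₂ => simp only [map_add, h₁, h₂]


theorem flat_quot (I : Ideal R) (h2 : Module.Flat (R ⧸ I) ((R ⧸ I) ⊗[R] M)) :
    Module.Flat (R' ⧸ I.map (algebraMap R R'))
      ((R' ⧸ I.map (algebraMap R R')) ⊗[R'] ((S ⊗[R] R') ⊗[S] M)) := by
  letI : Algebra (R ⧸ I) (R' ⧸ I.map (algebraMap R R')) :=
    (Ideal.quotientMap (I.map (algebraMap R R')) (algebraMap R R') Ideal.le_comap_map).toAlgebra
  haveI : IsScalarTower R (R ⧸ I) (R' ⧸ I.map (algebraMap R R')) :=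
    IsScalarTower.of_algebraMap_eq (fun r => rfl)
  have e1 : (R' ⧸ I.map (algebraMap R R')) ⊗[R ⧸ I] ((R ⧸ I) ⊗[R] M) ≃ₗ[R' ⧸ I.map (algebraMap R R')]
      (R' ⧸ I.map (algebraMap R R')) ⊗[R] M :=
    AlgebraTensorModule.cancelBaseChange R (R ⧸ I) (R' ⧸ I.map (algebraMap R R'))
      (R' ⧸ I.map (algebraMap R R')) M
  have e2 : (R' ⧸ I.map (algebraMap R R')) ⊗[R'] (R' ⊗[R] M) ≃ₗ[R' ⧸ I.map (algebraMap R R')]
      (R' ⧸ I.map (algebraMap R R')) ⊗[R] M :=
    AlgebraTensorModule.cancelBaseChange R R' (R' ⧸ I.map (algebraMap R R'))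
      (R' ⧸ I.map (algebraMap R R')) M
  have e3 : (R' ⧸ I.map (algebraMap R R')) ⊗[R'] ((S ⊗[R] R') ⊗[S] M) ≃ₗ[R' ⧸ I.map (algebraMap R R')]
      (R' ⧸ I.map (algebraMap R R')) ⊗[R'] (R' ⊗[R] M) :=
    AlgebraTensorModule.congr (LinearEquiv.refl _ _)
      (Algebra.IsPushout.cancelBaseChange R R' S (S ⊗[R] R') M)
  exact Module.Flat.of_linearEquiv (e3 ≪≫ₗ e2 ≪≫ₗ e1.symm)


section G

variable {S' : Type u} [CommRing S'] [Algebra S S'] [Algebra R' S']
  (M' : Type u) [AddCommGroup M'] [Module S' M'] [Module R' M'] [IsScalarTower R' S' M']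
  [Module S M'] [IsScalarTower S S' M']
  [Algebra (S ⊗[R] R') S'] [IsScalarTower S (S ⊗[R] R') S']
  [Module (S ⊗[R] R') M'] [IsScalarTower (S ⊗[R] R') S' M'] [IsScalarTower S (S ⊗[R] R') M']

/-- the `T`-linear extension of `f`. -/
noncomputable def gmap (f : M →ₗ[S] M') : (S ⊗[R] R') ⊗[S] M →ₗ[S ⊗[R] R'] M' :=
  (TensorProduct.isBaseChange S M (S ⊗[R] R')).lift f

theorem gmap_tmul (f : M →ₗ[S] M') (m : M) : gmap M M' f ((1 : S ⊗[R] R') ⊗ₜ m) = f m :=
  IsBaseChange.lift_eq _ _ _

theorem isLocalizedModule_gmap (W : Submonoid (S ⊗[R] R')) [IsLocalization W S']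
    (f : M →ₗ[S] M') (hf : IsBaseChange S' f) : IsLocalizedModule W (gmap M M' f) := by
  rw [isLocalizedModule_iff_isBaseChange W S']
  apply IsBaseChange.of_comp (TensorProduct.isBaseChange S M (S ⊗[R] R'))
  have : ((gmap M M' f).restrictScalars S) ∘ₗ (TensorProduct.mk S (S ⊗[R] R') M 1) = f :=
    IsBaseChange.lift_comp _ _
  rw [this]
  exact hf

end G

section K

variable {S' : Type u} [CommRing S'] [Algebra S S'] [Algebra R' S']
  (M' : Type u) [AddCommGroup M'] [Module S' M'] [Module R' M'] [IsScalarTower R' S' M']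
  [Module S M'] [IsScalarTower S S' M'] [Module R M'] [IsScalarTower R R' M'] [IsScalarTower R S M']
  [Algebra (S ⊗[R] R') S'] [IsScalarTower S (S ⊗[R] R') S']
  [Module (S ⊗[R] R') M'] [IsScalarTower (S ⊗[R] R') S' M'] [IsScalarTower S (S ⊗[R] R') M']
  [IsScalarTower R' (S ⊗[R] R') M']

/-- the structure map `a ↦ (i ↦ a • i)`. -/
noncomputable def ell (I : Ideal R) : R' →ₗ[R] ↥I →ₗ[R] ↥(I.map (algebraMap R R')) :=
  LinearMap.mk₂ R (fun a i => a • Algebra.idealMap R' I i)
    (fun a b i => add_smul a b _) (fun c a i => smul_assoc c a _)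
    (fun a i k => by rw [map_add, smul_add]) (fun c a i => by rw [map_smul, smul_comm])

theorem ell_apply (I : Ideal R) (a : R') (i : ↥I) :
    ell (R' := R') I a i = a • Algebra.idealMap R' I i := rfl

theorem gmap_theta_ell (I : Ideal R) (f : M →ₗ[S] M') (a : R') (z : ↥I ⊗[R] M) :
    AlgebraTensorModule.rTensor R' ↥(I.map (algebraMap R R')) (gmap M M' f)
      ((theta (S := S) M ↥(I.map (algebraMap R R'))).symm ((ell (R' := R') I a).rTensor M z)) =
    a • (TensorProduct.comm R' ↥(I.map (algebraMap R R')) M')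
      ((TensorProduct.mapOfCompatibleSMul R' R R ↥(I.map (algebraMap R R')) M')
        ((TensorProduct.map (Algebra.idealMap R' I) (f.restrictScalars R)) z)) := by
  induction z using TensorProduct.induction_on with
  | zero => simp
  | tmul i m =>
    simp only [LinearMap.rTensor_tmul, theta_symm_tmul, AlgebraTensorModule.rTensor_tmul,
      gmap_tmul, TensorProduct.map_tmul, TensorProduct.mapOfCompatibleSMul_tmul,
      TensorProduct.comm_tmul, LinearMap.coe_restrictScalars, ell_apply]
    rw [TensorProduct.smul_tmul', TensorProduct.smul_tmul]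
  | add z₁ z₂ h₁ h₂ => simp only [map_add, smul_add, h₁, h₂]

theorem rTensor_gmap_eq_zero (I : Ideal R) (h2 : Module.Flat (R ⧸ I) ((R ⧸ I) ⊗[R] M))
    (f : M →ₗ[S] M')
    (h3 : ∀ x : ↥I ⊗[R] M, (Submodule.subtype I).rTensor M x = 0 →
      (TensorProduct.mapOfCompatibleSMul R' R R ↥(I.map (algebraMap R R')) M')
        ((TensorProduct.map (Algebra.idealMap R' I) (f.restrictScalars R)) x) = 0)
    (x : ((S ⊗[R] R') ⊗[S] M) ⊗[R'] ↥(I.map (algebraMap R R')))
    (hx : (I.map (algebraMap R R')).subtype.lTensor ((S ⊗[R] R') ⊗[S] M) x = 0) :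
    AlgebraTensorModule.rTensor R' ↥(I.map (algebraMap R R')) (gmap M M' f) x = 0 := by
  obtain ⟨y, rfl⟩ := (theta (S := S) M ↥(I.map (algebraMap R R'))).symm.surjective x
  rw [theta_natural] at hx
  have hy : ((I.map (algebraMap R R')).subtype.restrictScalars R).rTensor M y = 0 :=
    (theta (S := S) M R').symm.injective (hx.trans (map_zero _).symm)
  have hmem := Groth.Agent.Helper13BCTor.mem_span_of_rTensor_eq_zero I h2
    ((I.map (algebraMap R R')).subtype.restrictScalars R)
    (Subtype.val_injective)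
    (fun c => by
      rw [Ideal.smul_top_eq_map]
      exact c.2)
    (ell (R' := R') I)
    (fun a i => by
      rw [ell_apply]
      change a * algebraMap R R' (i : R) = (i : R) • a
      rw [Algebra.smul_def, mul_comm])
    y hy
  refine Submodule.span_induction ?_ ?_ ?_ ?_ hmem
  · rintro w ⟨a, z, hz, rfl⟩
    rw [gmap_theta_ell, h3 z hz, map_zero, smul_zero]
  · simp
  · intro y₁ y₂ _ _ h₁ h₂
    rw [map_add, map_add, h₁, h₂, add_zero]
  · intro r y₁ _ h₁
    rw [← algebraMap_smul R' r y₁, map_smul, LinearMap.map_smul_of_tower, h₁, smul_zero]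

theorem flat_main [IsNoetherianRing R'] [IsNoetherianRing S'] [Module.Finite S' M']
    (I : Ideal R)
    (hjac : (I.map (algebraMap R R')).map (algebraMap R' S') ≤ (⊥ : Ideal S').jacobson)
    (W : Submonoid (S ⊗[R] R')) [IsLocalization W S']
    (f : M →ₗ[S] M') (hf : IsBaseChange S' f)
    (h2 : Module.Flat (R ⧸ I) ((R ⧸ I) ⊗[R] M))
    (h3 : ∀ x : ↥I ⊗[R] M, (Submodule.subtype I).rTensor M x = 0 →
      (TensorProduct.mapOfCompatibleSMul R' R R ↥(I.map (algebraMap R R')) M')
        ((TensorProduct.map (Algebra.idealMap R' I) (f.restrictScalars R)) x) = 0) :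
    Module.Flat R' M' := by
  haveI := isLocalizedModule_gmap M M' W f hf
  apply Groth.Agent.Lib.Helper5.flat_of_lTensor_ideal_injective (A := R') (B := S') M'
    (I.map (algebraMap R R')) hjac
  · apply Groth.Agent.Helper13LocTensor.lTensor_injective_of_localized W (gmap M M' f)
    intro x hx
    exact rTensor_gmap_eq_zero M M' I h2 f h3 x hx
  · intro K
    apply Groth.Agent.Helper13LocTensor.lTensor_injective_of_localized W (gmap M M' f)
    intro x hx
    have := Groth.Agent.Lib.Helper5.lTensor_restrictScalars_subtype_injective_of_flat_baseChange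
      (I.map (algebraMap R R')) (flat_quot (S := S) M I h2) K
    rw [this (hx.trans (map_zero _).symm), map_zero]

end K
end Main


/-- Let R → S, R → R', S → S' and R' → S' be local homomorphisms of Noetherian local rings forming a
commutative square, I ⊊ R an ideal, M a finite S-module, I' = IR' and M' = M ⊗_S S' (given through a
base-change map f : M → M'). Assume (1) S' is a localization of S ⊗_R R' via the induced map, (2)
M/IM is flat over R/I, and (3) the map Tor_1^R(M, R/I) → Tor_1^{R'}(M', R'/I') is zero — with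
Tor_1(−, R/I) computed as the kernel of I ⊗_R M → M, this says that every element of that kernel
goes to zero under the natural map I ⊗_R M → I' ⊗_{R'} M'. Then M' is flat over R'. -/
theorem result
    (R S R' S' : Type u) [CommRing R] [CommRing S] [CommRing R'] [CommRing S']
    [IsLocalRing R] [IsLocalRing S] [IsLocalRing R'] [IsLocalRing S']
    [IsNoetherianRing R] [IsNoetherianRing S] [IsNoetherianRing R'] [IsNoetherianRing S']
    [Algebra R S] [Algebra R R'] [Algebra S S'] [Algebra R' S'] [Algebra R S']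
    [IsScalarTower R S S'] [IsScalarTower R R' S']
    [IsLocalHom (algebraMap R S)] [IsLocalHom (algebraMap R R')] [IsLocalHom (algebraMap S S')]
    [IsLocalHom (algebraMap R' S')]
    (I : Ideal R) (hI : I ≠ ⊤) (M : Type u) [AddCommGroup M] [Module S M] [Module R M] [IsScalarTower R S M]
    [Module.Finite S M]
    (M' : Type u) [AddCommGroup M'] [Module S' M'] [Module R' M'] [IsScalarTower R' S' M']
    [Module S M'] [IsScalarTower S S' M'] [Module R M'] [IsScalarTower R R' M'] [IsScalarTower R S M']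
    (f : M →ₗ[S] M') (hf : IsBaseChange S' f)
    (h1 : ∃ W : Submonoid (S ⊗[R] R'),
      letI : Algebra (S ⊗[R] R') S' :=
        (Algebra.TensorProduct.lift (IsScalarTower.toAlgHom R S S') (IsScalarTower.toAlgHom R R' S')
          (fun s r => Commute.all _ _)).toRingHom.toAlgebra;
      IsLocalization W S')
    (h2 : Module.Flat (R ⧸ I) ((R ⧸ I) ⊗[R] M))
    (h3 : ∀ x : ↥I ⊗[R] M, (Submodule.subtype I).rTensor M x = 0 →
      (TensorProduct.mapOfCompatibleSMul R' R R ↥(I.map (algebraMap R R')) M')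
        ((TensorProduct.map (Algebra.idealMap R' I) (f.restrictScalars R)) x) = 0) :
    Module.Flat R' M' := by
  obtain ⟨W, hW⟩ := h1
  letI : Algebra (S ⊗[R] R') S' :=
    (Algebra.TensorProduct.lift (IsScalarTower.toAlgHom R S S') (IsScalarTower.toAlgHom R R' S')
      (fun s r => Commute.all _ _)).toRingHom.toAlgebra
  haveI : IsLocalization W S' := hW
  haveI : IsScalarTower S (S ⊗[R] R') S' := IsScalarTower.of_algebraMap_eq (fun s => by
    simp [RingHom.algebraMap_toAlgebra])
  letI : Algebra R' (S ⊗[R] R') := Algebra.TensorProduct.rightAlgebra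
  haveI : IsScalarTower R' (S ⊗[R] R') S' := IsScalarTower.of_algebraMap_eq (fun r => by
    simp [RingHom.algebraMap_toAlgebra, Algebra.TensorProduct.right_algebraMap_apply])
  letI : Module (S ⊗[R] R') M' := Module.compHom M' (algebraMap (S ⊗[R] R') S')
  haveI : IsScalarTower (S ⊗[R] R') S' M' := IsScalarTower.of_algebraMap_smul (fun _ _ => rfl)
  haveI : IsScalarTower S (S ⊗[R] R') M' := IsScalarTower.of_algebraMap_smul (fun s m => by
    change algebraMap (S ⊗[R] R') S' (algebraMap S (S ⊗[R] R') s) • m = s • m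
    rw [← IsScalarTower.algebraMap_apply S (S ⊗[R] R') S', algebraMap_smul])
  haveI : IsScalarTower R' (S ⊗[R] R') M' := IsScalarTower.of_algebraMap_smul (fun r m => by
    change algebraMap (S ⊗[R] R') S' (algebraMap R' (S ⊗[R] R') r) • m = r • m
    rw [← IsScalarTower.algebraMap_apply R' (S ⊗[R] R') S', algebraMap_smul])
  haveI : Module.Finite S' M' := Module.Finite.equiv hf.equiv
  have hjac : (I.map (algebraMap R R')).map (algebraMap R' S') ≤ (⊥ : Ideal S').jacobson := by
    rw [IsLocalRing.jacobson_eq_maximalIdeal ⊥ bot_ne_top, Ideal.map_map, Ideal.map_le_iff_le_comap]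
    intro x hx
    rw [Ideal.mem_comap, IsLocalRing.mem_maximalIdeal, mem_nonunits_iff]
    intro hu
    have hu' : IsUnit (algebraMap R R' x) := isUnit_of_map_unit (algebraMap R' S') _ hu
    have hu'' : IsUnit x := isUnit_of_map_unit (algebraMap R R') _ hu'
    exact hI (Ideal.eq_top_of_isUnit_mem I hx hu'')
  exact flat_main M M' I hjac W f hf h2 h3

end Groth.Agent.S12233
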