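import Groth.Statements.S12258
import Mathlib
-- import your own Groth.Agent.* helpers here

set_option autoImplicit false
universe u v
open CategoryTheory CategoryTheory.Limits
open Deform

namespace Groth.Agent.S12258


theorem prod_app_bijective {C : Type*} [Category C] (F G : C ⥤ Type v) (X : C) :
    Function.Bijective (fun p : (F ⨯ G).obj X =>
      ((prod.fst : F ⨯ G ⟶ F).app X p, (prod.snd : F ⨯ G ⟶ G).app X p)) := by
  have hl : IsLimit (BinaryFan.mk ((prod.fst : F ⨯ G ⟶ F).app X) ((prod.snd : F ⨯ G ⟶ G).app X)) :=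
    (isLimitMapConeBinaryFanEquiv ((evaluation C (Type v)).obj X) _ _)
      (isLimitOfPreserves ((evaluation C (Type v)).obj X) (prodIsProd F G))
  let e := hl.conePointUniqueUpToIso (Types.binaryProductLimit (F.obj X) (G.obj X))
  have h1 : ∀ p, (e.hom p).1 = (prod.fst : F ⨯ G ⟶ F).app X p := by
    intro p
    have := ConcreteCategory.congr_hom
      (IsLimit.conePointUniqueUpToIso_hom_comp hl (Types.binaryProductLimit (F.obj X) (G.obj X))
        ⟨WalkingPair.left⟩) p
    exact this
  have h2 : ∀ p, (e.hom p).2 = (prod.snd : F ⨯ G ⟶ G).app X p := by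
    intro p
    have := ConcreteCategory.congr_hom
      (IsLimit.conePointUniqueUpToIso_hom_comp hl (Types.binaryProductLimit (F.obj X) (G.obj X))
        ⟨WalkingPair.right⟩) p
    exact this
  have he : (fun p : (F ⨯ G).obj X =>
      ((prod.fst : F ⨯ G ⟶ F).app X p, (prod.snd : F ⨯ G ⟶ G).app X p)) = e.toEquiv := by
    funext p
    exact Prod.ext (h1 p).symm (h2 p).symm
  rw [he]
  exact e.toEquiv.bijective

/-- Let k be an algebraically closed field, Λ a complete local Noetherian k-algebra with residue field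
k, and F, G set-valued functors on local Artinian Λ-algebras with residue field k, each with
one-point value at k. If F and G are smooth functors, i.e. F(B) → F(A) and G(B) → G(A) are
surjective for every surjection B → A, then the product functor F × G is smooth. -/
theorem result
    {k Λ : Type u} [Field k] [IsAlgClosed k] [CommRing Λ] [IsLocalRing Λ] [IsNoetherianRing Λ]
    [IsAdicComplete (IsLocalRing.maximalIdeal Λ) Λ] [Algebra k Λ] [Algebra Λ k] [IsScalarTower k Λ k]
    {F G : ArtFun.Art Λ k ⥤ Type v}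
    (hF : ArtFun.H0 F) (hG : ArtFun.H0 G) (sF : ArtFun.IsSmoothFunctor F) (sG : ArtFun.IsSmoothFunctor G) :
    ArtFun.IsSmoothFunctor (F ⨯ G) := by
  intro B A μ hμ p
  obtain ⟨a', ha'⟩ := sF μ hμ ((prod.fst : F ⨯ G ⟶ F).app A p)
  obtain ⟨b', hb'⟩ := sG μ hμ ((prod.snd : F ⨯ G ⟶ G).app A p)
  obtain ⟨q, hq⟩ := (prod_app_bijective F G B).2 (a', b')
  have hq1 : (prod.fst : F ⨯ G ⟶ F).app B q = a' := congrArg Prod.fst hq
  have hq2 : (prod.snd : F ⨯ G ⟶ G).app B q = b' := congrArg Prod.snd hq
  refine ⟨q, ?_⟩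
  apply (prod_app_bijective F G A).1
  apply Prod.ext
  · change (prod.fst : F ⨯ G ⟶ F).app A ((F ⨯ G).map μ q) = (prod.fst : F ⨯ G ⟶ F).app A p
    rw [NatTrans.naturality_apply (prod.fst : F ⨯ G ⟶ F) μ q, hq1, ha']
  · change (prod.snd : F ⨯ G ⟶ G).app A ((F ⨯ G).map μ q) = (prod.snd : F ⨯ G ⟶ G).app A p
    rw [NatTrans.naturality_apply (prod.snd : F ⨯ G ⟶ G) μ q, hq2, hb']

end Groth.Agent.S12258
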