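import Groth.Statements.S1226
import Groth.Agent.S1246

set_option autoImplicit false
universe u
open FlatMor

namespace Groth.Agent.S1226

section Core

set_option linter.style.haveILetI false

theorem quasiFiniteAt_of_etale {A A' A'' : Type u} [CommRing A] [CommRing A'] [CommRing A'']
    [Algebra A A'] [Algebra A' A''] [Algebra A A''] [IsScalarTower A A' A'']
    [Algebra.Etale A' A''] (p' : Ideal A') [p'.IsPrime] [Algebra.QuasiFiniteAt A p']
    (t : Ideal A'') [t.IsPrime] [t.LiesOver p'] : Algebra.QuasiFiniteAt A t := by
  letI := Localization.AtPrime.algebraOfLiesOver p' t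
  have h1 : Algebra.QuasiFinite A' A'' := inferInstance
  have h2 : Algebra.QuasiFinite A' (Localization.AtPrime t) := inferInstance
  have h3 : Algebra.QuasiFinite (Localization.AtPrime p') (Localization.AtPrime t) :=
    Algebra.QuasiFinite.of_restrictScalars A' (Localization.AtPrime p') (Localization.AtPrime t)
  exact Algebra.QuasiFinite.trans A (Localization.AtPrime p') (Localization.AtPrime t)

theorem main {A B : Type u} [CommRing A] [CommRing B] [Algebra A B] [Algebra.FiniteType A B]
    (N : Type u) [AddCommGroup N] [Module B N] (p : Ideal A) [p.IsPrime]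
    (A' B' N' : Type u) [CommRing A'] [CommRing B'] [Algebra A A'] [Algebra B B'] [Algebra A' B'] [Algebra A B']
    [IsScalarTower A B B'] [IsScalarTower A A' B'] [Algebra.IsPushout A B A' B']
    [AddCommGroup N'] [Module B' N'] [Module B N'] [IsScalarTower B B' N'] (g : N →ₗ[B] N') (hg : IsBaseChange B' g)
    (p' : Ideal A') [p'.IsPrime] [hp' : p'.LiesOver p] [Algebra.FiniteType A A'] [Algebra.QuasiFiniteAt A p']
    (h : FlatCA.IsPureAlong A B N p) : FlatCA.IsPureAlong A' B' N' p' := by
  intro A'' B'' N'' iCA iCB iAlgA iAlgB iAlgAB iAlgA'B iST1 iST2 iAG iMB'' iMB' iST3 iMA'' iST4 f t' t it' it P iP hEt himp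
  obtain ⟨h1, h2, h3, h4, h5, h6, h7⟩ := himp
  obtain ⟨hEtale, htp', hbij⟩ := hEt
  let algAA'' : Algebra A A'' := ((algebraMap A' A'').comp (algebraMap A A')).toAlgebra
  let algBB'' : Algebra B B'' := ((algebraMap B' B'').comp (algebraMap B B')).toAlgebra
  let algAB'' : Algebra A B'' := ((algebraMap A' B'').comp (algebraMap A A')).toAlgebra
  have stAA'A'' : IsScalarTower A A' A'' := IsScalarTower.of_algebraMap_eq (fun _ => rfl)
  have stBB'B'' : IsScalarTower B B' B'' := IsScalarTower.of_algebraMap_eq (fun _ => rfl)
  have stAA'B'' : IsScalarTower A A' B'' := IsScalarTower.of_algebraMap_eq (fun _ => rfl)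
  have stABB'' : IsScalarTower A B B'' := IsScalarTower.of_algebraMap_eq (fun a => by
    change algebraMap A' B'' (algebraMap A A' a) = algebraMap B' B'' (algebraMap B B' (algebraMap A B a))
    rw [IsScalarTower.algebraMap_apply A' B' B'', ← IsScalarTower.algebraMap_apply A A' B',
      IsScalarTower.algebraMap_apply A B B'])
  have stAA''B'' : IsScalarTower A A'' B'' := IsScalarTower.of_algebraMap_eq (fun a => by
    change algebraMap A' B'' (algebraMap A A' a) = algebraMap A'' B'' (algebraMap A' A'' (algebraMap A A' a))
    rw [← IsScalarTower.algebraMap_apply A' A'' B''])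
  have stAB'B'' : IsScalarTower A B' B'' := IsScalarTower.of_algebraMap_eq (fun a => by
    change algebraMap A' B'' (algebraMap A A' a) = algebraMap B' B'' (algebraMap A B' a)
    rw [IsScalarTower.algebraMap_apply A' B' B'', ← IsScalarTower.algebraMap_apply A A' B'])
  let modBN'' : Module B N'' := Module.compHom N'' (algebraMap B B')
  have stBB'N'' : IsScalarTower B B' N'' := ⟨fun b b' n => by
    rw [Algebra.smul_def, mul_smul]
    rfl⟩
  have stBB''N'' : IsScalarTower B B'' N'' := ⟨fun b b'' n => by
    rw [Algebra.smul_def, mul_smul]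
    change algebraMap B' B'' (algebraMap B B' b) • (b'' • n) = algebraMap B B' b • (b'' • n)
    rw [algebraMap_smul]⟩
  have hpush : Algebra.IsPushout A B A'' B'' := by
    have hl : Algebra.IsPushout A A' B B' := Algebra.IsPushout.symm inferInstance
    have hr : Algebra.IsPushout A' A'' B' B'' := Algebra.IsPushout.symm h1
    exact Algebra.IsPushout.symm ((Algebra.IsPushout.comp_iff A A' B B').mpr hr)
  have hbc : IsBaseChange B'' ((f.restrictScalars B).comp g) := IsBaseChange.comp hg h2
  have hlo : t.LiesOver p := Ideal.LiesOver.trans t p' p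
  have himp0 : FlatCA.IsImpurity A B N p A'' B'' N'' ((f.restrictScalars B).comp g) t' t P :=
    ⟨hpush, hbc, h3, hlo, h5, h6, h7⟩
  have hft' : Algebra.FiniteType A' A'' := inferInstance
  have hft : Algebra.FiniteType A A'' := Algebra.FiniteType.trans (inferInstance : Algebra.FiniteType A A') hft'
  have hqf : Algebra.QuasiFiniteAt A t := quasiFiniteAt_of_etale p' t
  obtain ⟨A2, B2, N2, _, _, _, _, _, _, _, _, _, _, _, _, _, _, f2, s', s0, _, _, Q0, _, himp2, _, het2⟩ :=
    Groth.Agent.S1246.core N p A'' B'' N'' ((f.restrictScalars B).comp g) t' t P himp0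
  exact h A2 B2 N2 f2 s' s0 Q0 het2 himp2

end Core

/-- Ring form, X = Spec B affine: let B be a finite type A-algebra, N a finite B-module and p a prime of
A; let A' be an A-algebra with a prime p' over p such that A' is of finite type over A and
quasi-finite at p', and let B', N' be the base changes of B, N. If N is pure along the fibre over p
then N' is pure along the fibre over p'. -/
theorem result {A B : Type u} [CommRing A] [CommRing B] [Algebra A B] [Algebra.FiniteType A B]
    (N : Type u) [AddCommGroup N] [Module B N] [Module.Finite B N] (p : Ideal A) [p.IsPrime]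
    (A' B' N' : Type u) [CommRing A'] [CommRing B'] [Algebra A A'] [Algebra B B'] [Algebra A' B'] [Algebra A B']
    [IsScalarTower A B B'] [IsScalarTower A A' B'] [Algebra.IsPushout A B A' B']
    [AddCommGroup N'] [Module B' N'] [Module B N'] [IsScalarTower B B' N'] (f : N →ₗ[B] N') (hf : IsBaseChange B' f)
    (p' : Ideal A') [p'.IsPrime] [p'.LiesOver p] [Algebra.FiniteType A A'] [Algebra.QuasiFiniteAt A p']
    (h : FlatCA.IsPureAlong A B N p) : FlatCA.IsPureAlong A' B' N' p' := by
  exact main N p A' B' N' f hf p' h

end Groth.Agent.S1226
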