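import Groth.Statements.S12263
import Groth.Agent.Lib.Helper19DefAffC
import Groth.Agent.Lib.Helper19RigidC

set_option autoImplicit false
universe u
open CategoryTheory CategoryTheory.Limits AlgebraicGeometry
open Deform

namespace Groth.Agent.S12263

/-- Let k be an algebraically closed field and B₀ a finitely generated commutative k-algebra. Suppose
T^1_{B₀} = 0 in the form: every k-algebra extension of B₀ by the B₀-module B₀ (square-zero kernel)
is trivial. Then B₀ is rigid: every deformation of Spec B₀ over a local Artinian k-algebra A with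
residue field k (a scheme flat over Spec A together with a cartesian square exhibiting Spec B₀ as
the fibre over the closed point) is isomorphic, over Spec A and under Spec B₀, to the product
deformation Spec B₀ ×_k Spec A. (The published statement is for a k-algebra B₀, Noetherian by the
standing convention; this row takes B₀ finitely generated over k, the case covered by the results on
algebraic schemes that its proof cites. It also asserts a semiuniversal formal element when T^1_{B₀}
is finite-dimensional, in particular for isolated singularities; those clauses are instances of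
results on all algebraic schemes and are not repeated here. The first-order deformations of B₀
correspond to the k-algebra extensions of B₀ by B₀, the trivial deformation to the trivial
extension.) -/
theorem result
    {k : Type u} [Field k] [IsAlgClosed k] (B₀ : Type u) [CommRing B₀] [Algebra k B₀] [Algebra.FiniteType k B₀]
    (hT : ∀ E : Exal.Ext k B₀ B₀, E.IsTrivial) (A : ArtFun.Art k k)
    (ξ : ArtFun.DefSch (Spec (CommRingCat.of B₀)) (Spec.map (CommRingCat.ofHom (algebraMap k B₀))) A) :
    Nonempty (ξ.Iso (ArtFun.DefSch.trivial (Spec (CommRingCat.of B₀))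
      (Spec.map (CommRingCat.ofHom (algebraMap k B₀))) inferInstance A)) := by
  classical
  open Groth.Agent.Lib.Helper19.DefAff in
  letI algA : Algebra A Γ(ξ.total, ⊤) := (phi ξ).hom.toAlgebra
  letI algk : Algebra k Γ(ξ.total, ⊤) := ((phi ξ).hom.comp (algebraMap k A)).toAlgebra
  haveI : IsScalarTower k A Γ(ξ.total, ⊤) := IsScalarTower.of_algebraMap_eq (fun c => rfl)
  haveI : Module.Flat A Γ(ξ.total, ⊤) := phi_flat ξ
  let ρ : Γ(ξ.total, ⊤) →ₐ[k] B₀ :=
    { (rho ξ).hom with
      commutes' := fun c => by
        change (rho ξ).hom ((phi ξ).hom (algebraMap k A c)) = _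
        rw [rho_phi, AlgHom.commutes]
        rfl }
  obtain ⟨σ, hσ⟩ := Groth.Agent.Lib.Helper19.Rigid.exists_section_of_rigid hT ρ (rho_surjective ξ)
    (ker_rho ξ)
  -- the retraction of the total space onto the closed fibre
  let r : ξ.total ⟶ Spec (CommRingCat.of B₀) :=
    (isoSpecTotal ξ).hom ≫ Spec.map (CommRingCat.ofHom σ.toRingHom)
  have hr1 : ξ.i ≫ r = 𝟙 _ := by
    change ξ.i ≫ (isoSpecTotal ξ).hom ≫ Spec.map (CommRingCat.ofHom σ.toRingHom) = _
    rw [← Category.assoc, i_isoSpecTotal_hom, ← Spec.map_comp]
    have : CommRingCat.ofHom σ.toRingHom ≫ rho ξ = 𝟙 _ := by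
      ext b
      exact hσ b
    rw [this, Spec.map_id]
  have hr2 : r ≫ Spec.map (CommRingCat.ofHom (algebraMap k B₀)) =
      ξ.f ≫ ArtFun.Art.specMap (ArtFun.Art.ofBase A) := by
    change ((isoSpecTotal ξ).hom ≫ Spec.map (CommRingCat.ofHom σ.toRingHom)) ≫ _ = _
    rw [← isoSpecTotal_hom_phi ξ, Category.assoc, Category.assoc, ← Spec.map_comp]
    change _ = (isoSpecTotal ξ).hom ≫ Spec.map (phi ξ) ≫ Spec.map _
    rw [← Spec.map_comp]
    congr 2
    ext c
    exact σ.commutes c
  let h : ξ.total ⟶ (ArtFun.DefSch.trivial (Spec (CommRingCat.of B₀))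
      (Spec.map (CommRingCat.ofHom (algebraMap k B₀))) inferInstance A).total :=
    pullback.lift r ξ.f hr2
  refine ⟨isoOfHom h (pullback.lift_snd _ _ _) ?_⟩
  apply pullback.hom_ext
  · refine (Category.assoc _ _ _).trans ?_
    refine (congrArg (ξ.i ≫ ·) (pullback.lift_fst r ξ.f hr2)).trans ?_
    exact hr1.trans (pullback.lift_fst _ _ _).symm
  · refine (Category.assoc _ _ _).trans ?_
    refine (congrArg (ξ.i ≫ ·) (pullback.lift_snd r ξ.f hr2)).trans ?_
    exact ξ.i_f.trans (pullback.lift_snd _ _ _).symm

end Groth.Agent.S12263
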