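import Groth.Statements.S12268
import Groth.Agent.Lib.Helper19ObsDefJ

set_option autoImplicit false
universe u
open CategoryTheory CategoryTheory.Limits AlgebraicGeometry
open Deform

namespace Groth.Agent.S12268

/-- Let k be an algebraically closed field and B₀ a k-algebra with a finite presentation P =
k[X_i]/(f_s); let T¹ = T¹(B₀/k, B₀) and T² = T²(B₀/k, B₀) be the first and second cotangent modules
computed from P, and assume T¹ is finite-dimensional over k. Then for every semiuniversal formal
deformation of Spec B₀ — a complete local Noetherian k-algebra R̄ with residue field k carrying a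
miniversal family for the functor Def_{B₀} of isomorphism classes of deformations — one has dim R̄ ≤
dim_k T¹; if T² is finite-dimensional as well, dim_k T¹ ≤ dim R̄ + dim_k T²; and dim R̄ = dim_k T¹
holds exactly when Spec B₀ is unobstructed, i.e. Def_{B₀}(B) → Def_{B₀}(A) is surjective for every
surjection B → A of local Artinian k-algebras with residue field k. (The published statement writes
the lower bound as dim_k T¹ − dim_k T² ≤ dim R̄, empty when T² is infinite-dimensional, and allows a
localisation of the polynomial ring as ambient algebra.) -/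
theorem result
    {k : Type u} [Field k] [IsAlgClosed k] (B₀ : Type u) [CommRing B₀] [Algebra k B₀] {ι σ : Type u} [Finite ι] [Finite σ]
    (P : Algebra.Presentation k B₀ ι σ)
    [Module.Finite k (CotT.T1 P B₀)] (H : ArtFun.Hull (ArtFun.defFunctor (Λ := k) (Spec (CommRingCat.of B₀)) (Spec.map (CommRingCat.ofHom (algebraMap k B₀))))) :
    ringKrullDim H.ring.carrier ≤ ((Module.finrank k (CotT.T1 P B₀) : ℕ∞) : WithBot ℕ∞) ∧
      (Module.Finite k (CotT.T2 P B₀) →
        ((Module.finrank k (CotT.T1 P B₀) : ℕ∞) : WithBot ℕ∞) ≤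
          ringKrullDim H.ring.carrier + ((Module.finrank k (CotT.T2 P B₀) : ℕ∞) : WithBot ℕ∞)) ∧
      (ringKrullDim H.ring.carrier = ((Module.finrank k (CotT.T1 P B₀) : ℕ∞) : WithBot ℕ∞) ↔
        ArtFun.IsSmoothFunctor (ArtFun.defFunctor (Λ := k) (Spec (CommRingCat.of B₀)) (Spec.map (CommRingCat.ofHom (algebraMap k B₀))))) := by
  classical
  have hemb : Module.finrank (IsLocalRing.ResidueField H.ring.carrier)
      (IsLocalRing.CotangentSpace H.ring.carrier) = Module.finrank k (CotT.T1 P B₀) := by
    letI T : ArtFun.TangentStr (Groth.Agent.Lib.Helper19.DefGlue.G k k B₀) :=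
      Groth.Agent.Lib.Helper19.TStr.tangentStr Groth.Agent.Lib.Helper19.DefGlue.h0_G
        Groth.Agent.Lib.Helper19.DefGlue.heps_G
    rw [← Groth.Agent.Lib.Helper19.ObsDef.finrank_tangentSpace_eq_embdim H,
      Groth.Agent.Lib.Helper19.ObsDef.finrank_tangentSpace_eq_T1 (Λ := k) P]
  have hcast : ∀ n : ℕ, ((n : ℕ∞) : WithBot ℕ∞) = (n : WithBot ℕ∞) := fun n => rfl
  have h1 : ringKrullDim H.ring.carrier ≤
      (Module.finrank (IsLocalRing.ResidueField H.ring.carrier)
        (IsLocalRing.CotangentSpace H.ring.carrier) : WithBot ℕ∞) := by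
    rw [← IsLocalRing.spanFinrank_maximalIdeal_eq_finrank_cotangentSpace H.ring.carrier]
    exact ringKrullDim_le_spanFinrank_maximalIdeal _
  have hversal := H.miniversal.1
  refine ⟨by rw [hcast, ← hemb]; exact h1, ?_, ?_⟩
  · intro hfin
    have hb := Groth.Agent.Lib.Helper19.cring_dim_bounds H.ring
      (Groth.Agent.Lib.Helper19.obsTheoryOfVersal H.family hversal
        (Groth.Agent.Lib.Helper19.ObsDef.obsTheoryDef P))
    rw [hcast, hcast, ← hemb]
    exact hb.2.1
  · constructor
    · intro hdim
      have hreg : IsRegularLocalRing H.ring.carrier := by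
        apply IsRegularLocalRing.of_spanFinrank_maximalIdeal_le
        rw [IsLocalRing.spanFinrank_maximalIdeal_eq_finrank_cotangentSpace H.ring.carrier, hemb,
          hdim, hcast]
      haveI := H.ring.isAdicComplete
      obtain ⟨d, ψ, hψ⟩ := Groth.Agent.Lib.Helper19.exists_ps_algEquiv_of_isRegularLocalRing
        (A := H.ring.carrier) H.ring.res
      have hsm : ArtFun.IsSmoothFunctor (ArtFun.hR H.ring.carrier H.ring.res) :=
        (Groth.Agent.Lib.Helper19.isSmoothFunctor_hR_iff_powerSeries
          (Groth.Agent.Lib.Helper19.hk0 (k := k)) H.ring).2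
          ⟨d, ⟨(AlgEquiv.ofBijective ψ hψ).symm⟩⟩
      exact (Groth.Agent.Lib.Helper19.isSmoothFunctor_iff_of_versal
        Groth.Agent.Lib.Helper19.DefGlue.h0_G H.ring H.family hversal).2 hsm
    · intro hF
      have hb := Groth.Agent.Lib.Helper19.cring_dim_bounds H.ring
        (Groth.Agent.Lib.Helper19.obsTheoryOfVersal H.family hversal
          (Groth.Agent.Lib.Helper19.ObsDef.obsTheoryOfSmooth hF))
      have h2 := hb.2.1
      have h0 : Module.finrank k PUnit.{u + 1} = 0 := Module.finrank_zero_of_subsingleton
      rw [h0, Nat.cast_zero, add_zero] at h2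
      rw [hcast, ← hemb]
      exact le_antisymm h1 h2

end Groth.Agent.S12268
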