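import Groth.Statements.S12269
import Groth.Agent.Lib.Helper19ExtTwoA
import Groth.Agent.Lib.Helper19ExtTwoB

set_option autoImplicit false
universe u
open CategoryTheory
open Deform

namespace Groth.Agent.S12269

/-- Let k be an algebraically closed field and B₀ a reduced k-algebra given with a finite presentation P
= k[X_i]/I (finitely many variables and relations); let T² = T²(B₀/k, B₀) be the second cotangent
module computed from P and I/I² the conormal module of the presentation. Then T² and Ext¹_{B₀}(I/I²,
B₀) are isomorphic B₀-modules (existence of a B₀-linear isomorphism; the published one is induced by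
the chosen presentation). (The published statement allows the quotient of any smooth k-algebra; this
row takes a polynomial presentation.) -/
theorem result
    {k : Type u} [Field k] [IsAlgClosed k] (B₀ : Type u) [CommRing B₀] [Algebra k B₀] {ι σ : Type u} [Finite ι] [Finite σ]
    (P : Algebra.Presentation k B₀ ι σ) [IsReduced B₀] :
    Nonempty (CotT.T2 P B₀ ≃ₗ[B₀]
      Abelian.Ext (ModuleCat.of B₀ P.toExtension.Cotangent) (ModuleCat.of B₀ B₀) 1) := by
  haveI : IsRegularRing P.toExtension.Ring :=
    inferInstanceAs (IsRegularRing (MvPolynomial ι k))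
  haveI : Module.Free B₀ (CotT.L1 P) :=
    inferInstanceAs (Module.Free B₀ (TensorProduct P.toExtension.Ring B₀ (σ →₀ P.toExtension.Ring)))
  exact Groth.Agent.Lib.Helper19.ExtTwo.nonempty_equiv_ext (CotT.d2 P) (CotT.toCot P)
    (Groth.Agent.Lib.Helper19.CotTReg.exact_d2_toCot P)
    (Groth.Agent.Lib.Helper19.CotTReg.toCot_surjective P)
    (Groth.Agent.Lib.Helper19.ExtTwo.apply_eq_zero_of_d2_eq_zero P)

end Groth.Agent.S12269
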