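import Groth.Statements.S1227
import Mathlib.LinearAlgebra.TensorProduct.RightExactness
import Mathlib.Algebra.Module.Projective
import Mathlib.RingTheory.Ideal.Maps
import Mathlib.RingTheory.TensorProduct.Basic
-- import your own Groth.Agent.* helpers here

set_option autoImplicit false
universe u
open FlatMor

namespace Groth.Agent.S1227

open TensorProduct in
/-- Let u be a surjective linear map from a projective A-module M to an A-module N. Then there is an
ideal I of A such that for every A-algebra B, the base change u ⊗ 1 from B ⊗ M to B ⊗ N is bijective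
if and only if the image of I in B is zero. -/
theorem result {A : Type u} [CommRing A] {M N : Type u} [AddCommGroup M] [Module A M] [Module.Projective A M]
    [AddCommGroup N] [Module A N] (u : M →ₗ[A] N) (hu : Function.Surjective u) :
    ∃ I : Ideal A, ∀ (B : Type u) [CommRing B] [Algebra A B],
      Function.Bijective (u.baseChange B) ↔ I.map (algebraMap A B) = ⊥ := by
  obtain ⟨s, hs⟩ := Module.projective_def'.1 (inferInstance : Module.Projective A M)
  refine ⟨Ideal.span {a | ∃ k ∈ LinearMap.ker u, ∃ m' : M, a = s k m'}, ?_⟩
  intro B _ _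
  rw [Ideal.map_eq_bot_iff_le_ker, Ideal.span_le]
  constructor
  · rintro ⟨hinj, -⟩ a ⟨k, hk, m', rfl⟩
    have h1 : (u.baseChange B) ((1 : B) ⊗ₜ[A] k) = 0 := by
      rw [LinearMap.baseChange_tmul, LinearMap.mem_ker.1 hk, tmul_zero]
    have h2 : (1 : B) ⊗ₜ[A] k = 0 := hinj (by rw [h1, map_zero])
    let c : M →ₗ[A] A := (Finsupp.lapply m') ∘ₗ s
    have h3 : (TensorProduct.rid A B) ((c.baseChange B) ((1 : B) ⊗ₜ[A] k)) = algebraMap A B (s k m') := by
      rw [LinearMap.baseChange_tmul, TensorProduct.rid_tmul, Algebra.smul_def, mul_one]
      rfl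
    rw [h2, map_zero, map_zero] at h3
    exact h3.symm
  · intro hI
    have hI' : ∀ k ∈ LinearMap.ker u, ∀ m' : M, algebraMap A B (s k m') = 0 :=
      fun k hk m' => hI ⟨k, hk, m', rfl⟩
    have hzero : ∀ k ∈ LinearMap.ker u, (1 : B) ⊗ₜ[A] k = 0 := by
      intro k hk
      have hk' : k = (s k).sum (fun m' a => a • m') := by
        have := LinearMap.congr_fun hs k
        simp only [LinearMap.coe_comp, Function.comp_apply, Finsupp.linearCombination_apply,
          LinearMap.id_coe, id_eq] at this
        exact this.symm
      rw [hk', Finsupp.sum, TensorProduct.tmul_sum]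
      apply Finset.sum_eq_zero
      intro m' _
      rw [← TensorProduct.smul_tmul, Algebra.smul_def, hI' k hk m', zero_mul, zero_tmul]
    have hzero' : ∀ y : B ⊗[A] (LinearMap.ker u), (LinearMap.lTensor B (LinearMap.ker u).subtype) y = 0 := by
      intro y
      induction y using TensorProduct.induction_on with
      | zero => rw [map_zero]
      | tmul b k =>
        rw [LinearMap.lTensor_tmul]
        have : b ⊗ₜ[A] ((LinearMap.ker u).subtype k) = b • ((1 : B) ⊗ₜ[A] (k : M)) := by
          rw [TensorProduct.smul_tmul', smul_eq_mul, mul_one]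
          rfl
        rw [this, hzero k k.2, smul_zero]
      | add x y hx hy => rw [map_add, hx, hy, add_zero]
    constructor
    · rw [← LinearMap.ker_eq_bot, eq_bot_iff]
      intro x hx
      have hex : Function.Exact (LinearMap.lTensor B (LinearMap.ker u).subtype) (LinearMap.lTensor B u) :=
        lTensor_exact B (LinearMap.exact_subtype_ker_map u) hu
      have hx' : (LinearMap.lTensor B u) x = 0 := hx
      obtain ⟨y, rfl⟩ := (hex x).1 hx'
      rw [Submodule.mem_bot]
      exact hzero' y
    · exact LinearMap.lTensor_surjective B hu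

end Groth.Agent.S1227
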