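import Groth.Statements.S12285
import Groth.Agent.Lib.Helper19NineL

set_option autoImplicit false
universe u w m
open scoped TensorProduct
open DefT

namespace Groth.Agent.S12285

/-- Let A → B → C be ring homomorphisms and M a C-module. Compute T^i(C/B, M), T^i(C/A, M) and T^i(B/A,
M) from the choice-free presentations (every element a variable, every kernel element a relation),
and let T^i(C/B, M) → T^i(C/A, M) and T^i(C/A, M) → T^i(B/A, M) be the maps induced by the morphisms
of presentations given by A → B over the identity of C and by B → C over the identity of A. Then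
T^0(C/B, M) → T^0(C/A, M) is injective, the sequences T^i(C/B, M) → T^i(C/A, M) → T^i(B/A, M) are
exact for i = 0, 1, 2, and there are additive connecting maps δ₀ : T^0(B/A, M) → T^1(C/B, M) and δ₁
: T^1(B/A, M) → T^2(C/B, M) making the nine-term sequence 0 → T^0(C/B) → T^0(C/A) → T^0(B/A) →
T^1(C/B) → T^1(C/A) → T^1(B/A) → T^2(C/B) → T^2(C/A) → T^2(B/A) exact. (The connecting maps are
asserted to exist with this exactness only, and only as additive maps; the published statement is an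
exact sequence of C-modules, with C-linear connecting maps.) -/
theorem result
    (A B C : Type u) [CommRing A] [CommRing B] [CommRing C] [Algebra A B] [Algebra B C] [Algebra A C]
    [IsScalarTower A B C] (M : Type u) [AddCommGroup M] [Module C M] [Module B M] [IsScalarTower B C M] :
    Function.Injective ((CotT.canonHom A C B C).T0pull M) ∧
    Function.Exact ((CotT.canonHom A C B C).T0pull M) ((CotT.canonHom A B A C).T0pull M) ∧
    Function.Exact ((CotT.canonHom A C B C).T1pull M) ((CotT.canonHom A B A C).T1pull M) ∧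
    Function.Exact ((CotT.canonHom A C B C).T2pull M) ((CotT.canonHom A B A C).T2pull M) ∧
    ∃ (δ₀ : CotT.T0 (CotT.canon A B) M →+ CotT.T1 (CotT.canon B C) M)
      (δ₁ : CotT.T1 (CotT.canon A B) M →+ CotT.T2 (CotT.canon B C) M),
      Function.Exact ((CotT.canonHom A B A C).T0pull M) δ₀ ∧ Function.Exact δ₀ ((CotT.canonHom A C B C).T1pull M) ∧
      Function.Exact ((CotT.canonHom A B A C).T1pull M) δ₁ ∧ Function.Exact δ₁ ((CotT.canonHom A C B C).T2pull M) := by
  classical
  obtain ⟨h0, h1, h2, h3, δ₀, δ₁, h4, h5, h6, h7⟩ :=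
    Groth.Agent.Lib.Helper19.Nine.nine_adapt (CotT.canon A B) (CotT.canon B C) M
  have Fα0 := Groth.Agent.Lib.Helper19.Nine.T0pull_comp (CotT.canonHom A C B C)
    (Groth.Agent.Lib.Helper19.Nine.κ A B C)
    (Groth.Agent.Lib.Helper19.Nine.h23 (CotT.canon A B) (CotT.canon B C))
    (Groth.Agent.Lib.Helper19.Nine.hα_ringHom A B C) M
  have Fα1 := Groth.Agent.Lib.Helper19.Nine.T1pull_comp (CotT.canonHom A C B C)
    (Groth.Agent.Lib.Helper19.Nine.κ A B C)
    (Groth.Agent.Lib.Helper19.Nine.h23 (CotT.canon A B) (CotT.canon B C))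
    (Groth.Agent.Lib.Helper19.Nine.hα_ringHom A B C)
    (Groth.Agent.Lib.Helper19.Nine.hα_relVal A B C) M
  have Fα2 := Groth.Agent.Lib.Helper19.Nine.T2pull_comp (CotT.canonHom A C B C)
    (Groth.Agent.Lib.Helper19.Nine.κ A B C)
    (Groth.Agent.Lib.Helper19.Nine.h23 (CotT.canon A B) (CotT.canon B C))
    (Groth.Agent.Lib.Helper19.Nine.hα_ringHom A B C)
    (Groth.Agent.Lib.Helper19.Nine.hα_relVal A B C) M
  have Fβ0 := Groth.Agent.Lib.Helper19.Nine.T0pull_comp (CotT.canonHom A B A C)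
    (Groth.Agent.Lib.Helper19.Nine.h12 (CotT.canon A B) (CotT.canon B C))
    (Groth.Agent.Lib.Helper19.Nine.rr A B C)
    (Groth.Agent.Lib.Helper19.Nine.hβ_ringHom A B C) M
  have Fβ1 := Groth.Agent.Lib.Helper19.Nine.T1pull_comp (CotT.canonHom A B A C)
    (Groth.Agent.Lib.Helper19.Nine.h12 (CotT.canon A B) (CotT.canon B C))
    (Groth.Agent.Lib.Helper19.Nine.rr A B C)
    (Groth.Agent.Lib.Helper19.Nine.hβ_ringHom A B C)
    (Groth.Agent.Lib.Helper19.Nine.hβ_relVal A B C) M
  have Fβ2 := Groth.Agent.Lib.Helper19.Nine.T2pull_comp (CotT.canonHom A B A C)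
    (Groth.Agent.Lib.Helper19.Nine.h12 (CotT.canon A B) (CotT.canon B C))
    (Groth.Agent.Lib.Helper19.Nine.rr A B C)
    (Groth.Agent.Lib.Helper19.Nine.hβ_ringHom A B C)
    (Groth.Agent.Lib.Helper19.Nine.hβ_relVal A B C) M
  have κr0 := Groth.Agent.Lib.Helper19.Nine.κ_rr_T0 A B C M
  have rκ0 := Groth.Agent.Lib.Helper19.Nine.rr_κ_T0 A B C M
  have κr1 := Groth.Agent.Lib.Helper19.Nine.κ_rr_T1 A B C M
  have rκ1 := Groth.Agent.Lib.Helper19.Nine.rr_κ_T1 A B C M
  have κr2 := Groth.Agent.Lib.Helper19.Nine.κ_rr_T2 A B C M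
  have rκ2 := Groth.Agent.Lib.Helper19.Nine.rr_κ_T2 A B C M
  refine ⟨?_, ?_, ?_, ?_, δ₀, δ₁, ?_, ?_, ?_, ?_⟩
  · intro x x' h
    rw [Fα0, Fα0] at h
    have h' := congrArg ((Groth.Agent.Lib.Helper19.Nine.rr A B C).T0pull M) h
    rw [rκ0, rκ0] at h'
    exact h0 h'
  · intro y
    rw [Fβ0]
    constructor
    · intro hy
      obtain ⟨x, hx⟩ := (h1 _).mp hy
      refine ⟨x, ?_⟩
      show (CotT.canonHom A C B C).T0pull M x = y
      rw [Fα0, hx, κr0]
    · rintro ⟨x, rfl⟩
      show _ = 0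
      rw [Fα0, rκ0]
      exact (h1 _).mpr ⟨x, rfl⟩
  · intro y
    rw [Fβ1]
    constructor
    · intro hy
      obtain ⟨x, hx⟩ := (h2 _).mp hy
      refine ⟨x, ?_⟩
      show (CotT.canonHom A C B C).T1pull M x = y
      rw [Fα1, hx, κr1]
    · rintro ⟨x, rfl⟩
      show _ = 0
      rw [Fα1, rκ1]
      exact (h2 _).mpr ⟨x, rfl⟩
  · intro y
    rw [Fβ2]
    constructor
    · intro hy
      obtain ⟨x, hx⟩ := (h3 _).mp hy
      refine ⟨x, ?_⟩
      show (CotT.canonHom A C B C).T2pull M x = y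
      rw [Fα2, hx, κr2]
    · rintro ⟨x, rfl⟩
      show _ = 0
      rw [Fα2, rκ2]
      exact (h3 _).mpr ⟨x, rfl⟩
  · intro z
    constructor
    · intro hz
      obtain ⟨y', hy'⟩ := (h4 z).mp hz
      refine ⟨(Groth.Agent.Lib.Helper19.Nine.κ A B C).T0pull M y', ?_⟩
      show (CotT.canonHom A B A C).T0pull M _ = z
      rw [Fβ0, rκ0, hy']
    · rintro ⟨y, rfl⟩
      show δ₀ _ = 0
      rw [Fβ0]
      exact (h4 _).mpr ⟨_, rfl⟩
  · intro x
    rw [Fα1]
    constructor
    · intro hx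
      have hx' := congrArg ((Groth.Agent.Lib.Helper19.Nine.rr A B C).T1pull M) hx
      rw [rκ1, map_zero] at hx'
      exact (h5 x).mp hx'
    · rintro ⟨z, rfl⟩
      have := (h5 _).mpr ⟨z, rfl⟩
      rw [this, map_zero]
  · intro z
    constructor
    · intro hz
      obtain ⟨y', hy'⟩ := (h6 z).mp hz
      refine ⟨(Groth.Agent.Lib.Helper19.Nine.κ A B C).T1pull M y', ?_⟩
      show (CotT.canonHom A B A C).T1pull M _ = z
      rw [Fβ1, rκ1, hy']
    · rintro ⟨y, rfl⟩
      show δ₁ _ = 0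
      rw [Fβ1]
      exact (h6 _).mpr ⟨_, rfl⟩
  · intro x
    rw [Fα2]
    constructor
    · intro hx
      have hx' := congrArg ((Groth.Agent.Lib.Helper19.Nine.rr A B C).T2pull M) hx
      rw [rκ2, map_zero] at hx'
      exact (h7 x).mp hx'
    · rintro ⟨z, rfl⟩
      have := (h7 _).mpr ⟨z, rfl⟩
      rw [this, map_zero]

end Groth.Agent.S12285
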