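import Groth.Statements.S12287
import Groth.Agent.Lib.Helper19CotTVanish

set_option autoImplicit false
universe u w m
open scoped TensorProduct
open DefT

namespace Groth.Agent.S12287

/-- Let B be an A-algebra that is isomorphic over A to a polynomial ring A[x_j] in some set of
variables. Then for every B-module M the modules T^1(B/A, M) and T^2(B/A, M), computed from the
choice-free presentation of B over A (every element of B a variable, every element of the kernel a
relation), are zero. -/
theorem result
    (A B : Type u) [CommRing A] [CommRing B] [Algebra A B] (κ : Type u) (e : MvPolynomial κ A ≃ₐ[A] B)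
    (M : Type u) [AddCommGroup M] [Module B M] :
    Subsingleton (CotT.T1 (CotT.canon A B) M) ∧ Subsingleton (CotT.T2 (CotT.canon A B) M) := by
  haveI : Algebra.FormallySmooth A B := Algebra.FormallySmooth.of_equiv e
  refine ⟨Groth.Agent.Lib.Helper19.CotTVanish.T1_subsingleton_of_formallySmooth _ M, ?_⟩
  let s : B →ₐ[A] (CotT.canon A B).toExtension.Ring :=
    ((MvPolynomial.aeval (fun k => (MvPolynomial.X (e (MvPolynomial.X k)) : MvPolynomial B A)) :
      MvPolynomial κ A →ₐ[A] MvPolynomial B A)).comp e.symm.toAlgHom
  refine Groth.Agent.Lib.Helper19.CotTVanish.T2_subsingleton_of_section _ M s ?_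
  intro b
  obtain ⟨p, rfl⟩ := e.surjective b
  have h1 : s (e p) = MvPolynomial.aeval
      (fun k => (MvPolynomial.X (e (MvPolynomial.X k)) : MvPolynomial B A)) p := by
    show MvPolynomial.aeval _ (e.symm (e p)) = _
    exact congrArg _ (e.symm_apply_apply p)
  rw [h1, CotT.algebraMap_toExtension]
  have h2 : ((MvPolynomial.aeval (CotT.canon A B).val : MvPolynomial B A →ₐ[A] B).comp
      (MvPolynomial.aeval (fun k => (MvPolynomial.X (e (MvPolynomial.X k)) : MvPolynomial B A)) :
        MvPolynomial κ A →ₐ[A] MvPolynomial B A)) = e.toAlgHom := by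
    refine MvPolynomial.algHom_ext fun k => ?_
    show MvPolynomial.aeval (CotT.canon A B).val (MvPolynomial.aeval _ (MvPolynomial.X k)) =
      e (MvPolynomial.X k)
    rw [MvPolynomial.aeval_X, MvPolynomial.aeval_X]
    rfl
  exact AlgHom.congr_fun h2 p

end Groth.Agent.S12287
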