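import Groth.Statements.S12291
import Groth.Agent.Lib.Helper19T2TransB
import Groth.Agent.Lib.Helper19T2RegB
import Groth.Agent.Lib.Helper28DepthCM2
import Groth.Agent.Lib.Helper5RLR3

set_option autoImplicit false
universe u w m
open scoped TensorProduct
open DefT

namespace Groth.Agent.S12291

/-- Let k be an algebraically closed field and A a regular local k-algebra with residue field k such
that T^1(A/k, N) = 0 and T^2(A/k, N) = 0 for all A-modules N; let I be a proper ideal of A and B =
A/I. Then B is cut out of A as a local complete intersection — meaning I is generated by some list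
of r elements with r + dim B = dim A, i.e. by dim A − dim B elements — exactly when T^2(B/k, M)
vanishes for each B-module M. The T^i are computed from the choice-free presentations. (The
published statement assumes only that A is a regular local k-algebra with residue field k; its proof
uses the vanishing of T^1(A/k, −) and T^2(A/k, −), which holds when A is essentially of finite type
over k and which this row carries as a hypothesis.) -/
theorem result
    (k A : Type u) [Field k] [IsAlgClosed k] [CommRing A] [IsRegularLocalRing A] [Algebra k A]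
    (hres : Function.Surjective (algebraMap k (IsLocalRing.ResidueField A)))
    (hT : ∀ (N : Type u) [AddCommGroup N] [Module A N],
      Subsingleton (CotT.T1 (CotT.canon k A) N) ∧ Subsingleton (CotT.T2 (CotT.canon k A) N))
    (I : Ideal A) (hI : I ≠ ⊤) :
    (∃ rs : List A, Ideal.ofList rs = I ∧ (rs.length : WithBot ℕ∞) + ringKrullDim (A ⧸ I) = ringKrullDim A) ↔
      ∀ (M : Type u) [AddCommGroup M] [Module (A ⧸ I) M], Subsingleton (CotT.T2 (CotT.canon k (A ⧸ I)) M) := by
  classical
  have hIm : I ≤ IsLocalRing.maximalIdeal A := IsLocalRing.le_maximalIdeal hI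
  have hsurj : Function.Surjective (algebraMap A (A ⧸ I)) := Ideal.Quotient.mk_surjective
  -- generalities on generating families
  have hfam : ∀ {n : ℕ} (g : Fin n → A), Ideal.span (Set.range g) = I →
      (∀ i, algebraMap A (A ⧸ I) (g i) = 0) ∧
      (∀ z : A, algebraMap A (A ⧸ I) z = 0 →
        ∃ x, Groth.Agent.Lib.Helper19.Kos.jm A g x = z) := by
    intro n g hg
    refine ⟨fun i => ?_, fun z hz => ?_⟩
    · rw [Ideal.Quotient.algebraMap_eq, Ideal.Quotient.eq_zero_iff_mem, ← hg]
      exact Ideal.subset_span ⟨i, rfl⟩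
    · rw [Ideal.Quotient.algebraMap_eq, Ideal.Quotient.eq_zero_iff_mem, ← hg,
        ← Groth.Agent.Lib.Helper19.Kos.range_jm] at hz
      exact hz
  constructor
  · rintro ⟨rs, hrs, hdim⟩ M _ _
    letI modA : Module A M := Module.compHom M (algebraMap A (A ⧸ I))
    haveI tow : IsScalarTower A (A ⧸ I) M := IsScalarTower.of_compHom A (A ⧸ I) M
    have hspan : Ideal.span (Set.range rs.get) = I := by
      rw [Set.range_list_get]; exact hrs
    obtain ⟨hf, hfspan⟩ := hfam rs.get hspan
    refine (Groth.Agent.Lib.Helper19.T2Trans.subsingleton_T2_iff_of_surjective hsurj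
      (CotT.canon k A) (CotT.canon k (A ⧸ I)) rs.get hf hfspan M (hT M).1 (hT M).2).mpr ?_
    -- the list is a regular sequence, by Cohen–Macaulayness
    have hCM : LocCoh.IsCohenMacaulayModule A A :=
      (Groth.Agent.Lib.Helper5.isCohenMacaulayLocalRing_of_isRegularLocalRing A).supportDim_eq_depth
    have hmem : ∀ x ∈ rs, x ∈ IsLocalRing.maximalIdeal A := fun x hx =>
      hIm (hrs ▸ Ideal.subset_span hx)
    have he : (Ideal.ofList rs • ⊤ : Submodule A A) = I := by
      rw [smul_eq_mul, Ideal.mul_top, hrs]
    have hdim' : Module.supportDim A (A ⧸ (Ideal.ofList rs • ⊤ : Submodule A A)) + rs.length =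
        Module.supportDim A A := by
      rw [Module.supportDim_eq_of_equiv (Submodule.quotEquivOfEq _ _ he),
        Module.supportDim_quotient_eq_ringKrullDim, Module.supportDim_self_eq_ringKrullDim,
        add_comm]
      exact hdim
    have hreg : RingTheory.Sequence.IsWeaklyRegular A rs :=
      Groth.Agent.Lib.Helper28.isWeaklyRegular_of_supportDim_add_length_eq rs A hCM hmem hdim'
    have hreg' : RingTheory.Sequence.IsWeaklyRegular A (List.ofFn rs.get) := by
      rw [List.ofFn_get]; exact hreg
    exact Groth.Agent.Lib.Helper19.CotTVanish.T2_subsingleton_of_Q_le hf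
      (Groth.Agent.Lib.Helper19.CotTVanish.Q_le_F0_of_isWeaklyRegular rs.get hreg') M
  · intro H
    obtain ⟨n, g, hg, hmin⟩ := Groth.Agent.Lib.Helper19.T2Reg.exists_minimal_generators I
    obtain ⟨hf, hfspan⟩ := hfam g hg
    -- the test module
    have htors : Module.IsTorsionBySet A (Groth.Agent.Lib.Helper19.T2Reg.TestMod g) (I : Set A) := by
      intro y a
      exact Groth.Agent.Lib.Helper19.T2Reg.smul_testMod_eq_zero g a.1 (hg ▸ a.2) y
    letI modB : Module (A ⧸ I) (Groth.Agent.Lib.Helper19.T2Reg.TestMod g) := htors.module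
    haveI tow : IsScalarTower A (A ⧸ I) (Groth.Agent.Lib.Helper19.T2Reg.TestMod g) :=
      htors.isScalarTower
    have h1 := (Groth.Agent.Lib.Helper19.T2Trans.subsingleton_T2_iff_of_surjective hsurj
      (CotT.canon k A) (CotT.canon k (A ⧸ I)) g hf hfspan
      (Groth.Agent.Lib.Helper19.T2Reg.TestMod g)
      (hT (Groth.Agent.Lib.Helper19.T2Reg.TestMod g)).1
      (hT (Groth.Agent.Lib.Helper19.T2Reg.TestMod g)).2).mp
      (H (Groth.Agent.Lib.Helper19.T2Reg.TestMod g))
    have h2 : Groth.Agent.Lib.Helper19.CotTwo.killing (Groth.Agent.Lib.Helper19.Kos.jm A g)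
        (Groth.Agent.Lib.Helper19.T2Reg.TestMod g) ≤
        Groth.Agent.Lib.Helper19.CotTwo.restr (Groth.Agent.Lib.Helper19.Kos.jm A g)
          (Groth.Agent.Lib.Helper19.T2Reg.TestMod g) := by
      rw [← Groth.Agent.Lib.Helper19.T2Trans.subsingleton_T2'_iff]
      exact (Groth.Agent.Lib.Helper19.CotTwo.T2equivT2' hf
        (Groth.Agent.Lib.Helper19.T2Reg.TestMod g)).symm.toEquiv.subsingleton
    have hQ := Groth.Agent.Lib.Helper19.T2Reg.Q_le_F0_of_killing_le g hmin h2
    have hgm : ∀ i, g i ∈ IsLocalRing.maximalIdeal A := fun i =>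
      hIm (hg ▸ Ideal.subset_span ⟨i, rfl⟩)
    have hreg := Groth.Agent.Lib.Helper19.T2Reg.isWeaklyRegular_of_Q_le_F0 n g hgm hQ
    have hrs : Ideal.ofList (List.ofFn g) = I := by
      rw [← hg]
      unfold Ideal.ofList
      congr 1
      ext z
      simp [List.mem_ofFn]
    refine ⟨List.ofFn g, hrs, ?_⟩
    have hreg2 : RingTheory.Sequence.IsRegular A (List.ofFn g) := by
      refine ⟨hreg, ?_⟩
      rw [smul_eq_mul, Ideal.mul_top, hrs]
      exact fun h => hI h.symm
    have h3 := ringKrullDim_add_length_eq_ringKrullDim_of_isRegular (List.ofFn g) hreg2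
    rw [add_comm]
    rw [hrs] at h3
    exact h3

end Groth.Agent.S12291
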