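import Groth.Statements.S12295
import Groth.Agent.Lib.Helper19CotTIndep

set_option autoImplicit false
universe u w m
open scoped TensorProduct
open DefT

namespace Groth.Agent.S12295

universe u1 u2 u3 u4

lemma jm_span {A : Type u1} {B : Type u2} {ι : Type u3} {σ : Type u4}
    [CommRing A] [CommRing B] [Algebra A B] (P : Algebra.Presentation A B ι σ)
    (z : P.toExtension.Ring) (hz : algebraMap P.toExtension.Ring B z = 0) :
    ∃ x, Groth.Agent.Lib.Helper19.Kos.jm P.toExtension.Ring (CotT.rel P) x = z := by
  have h : z ∈ LinearMap.range (CotT.jmap P) := by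
    rw [CotT.range_jmap]; exact hz
  obtain ⟨x, hx⟩ := h
  exact ⟨x, hx⟩

/-- Let k be a commutative ring, B a k-algebra and P a presentation of B over k with polynomial ring R =
k[x_i] (any set of variables), so that B = R/I; let P' be a presentation of B over R with no
polynomial variables (R itself mapping onto B, with chosen generators of I), and M a B-module. Then
T^2(B/R, M), computed from P', and T^2(B/k, M), computed from P, are isomorphic B-modules.
(Existence of a B-linear isomorphism only; the published statement has finitely many variables over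
a field and notes that any base ring works.) -/
theorem result
    (k B : Type u) [CommRing k] [CommRing B] [Algebra k B] (ι σ ι' σ' : Type w)
    (P : Algebra.Presentation k B ι σ) [IsEmpty ι']
    (P' : Algebra.Presentation P.toExtension.Ring B ι' σ')
    (M : Type m) [AddCommGroup M] [Module B M] :
    Nonempty (CotT.T2 P' M ≃ₗ[B] CotT.T2 P M) := by
  obtain ⟨e⟩ := Groth.Agent.Lib.Helper19.Kos.nonempty_T2_equiv_of_ringEquiv
    (CotT.algebraMap_rel P) (CotT.algebraMap_rel P')
    ((MvPolynomial.isEmptyRingEquiv P.toExtension.Ring ι').symm :
      P.toExtension.Ring ≃+* P'.toExtension.Ring)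
    (fun x => by
      rw [CotT.algebraMap_toExtension]
      show MvPolynomial.aeval P'.val ((MvPolynomial.isEmptyRingEquiv P.toExtension.Ring ι').symm x) = _
      rw [MvPolynomial.isEmptyRingEquiv_symm_apply, MvPolynomial.aeval_C])
    (jm_span P) (jm_span P') M
  exact ⟨(Groth.Agent.Lib.Helper19.Kos.bridge P' M).trans
    (e.trans (Groth.Agent.Lib.Helper19.Kos.bridge P M).symm)⟩

end Groth.Agent.S12295
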