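import Groth.Statements.S12297
import Groth.Agent.Lib.Helper19CotTLocal
import Groth.Agent.Lib.Helper19SmVar

set_option autoImplicit false
universe u w m
open scoped TensorProduct
open DefT

namespace Groth.Agent.S12297

/-- Let k be an algebraically closed field, B a finitely generated k-algebra, m a maximal ideal of B and
B_m the localization, a local k-algebra with residue field k. Then B_m is a regular local ring if
and only if T^1(B_m/k, M) = 0 for all B_m-modules M, and in that case T^2(B_m/k, M) = 0 for all M as
well; the T^i are computed from the choice-free presentation of B_m over k. (The published statement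
is for a local k-algebra with residue field k, k algebraically closed, proved by localization from
the finitely generated case; this row states it for the localizations of finitely generated
k-algebras at maximal ideals, the case that proof covers.) -/
theorem result
    (k B : Type u) [Field k] [IsAlgClosed k] [CommRing B] [Algebra k B] [Algebra.FiniteType k B]
    (m : Ideal B) [m.IsMaximal] :
    (IsRegularLocalRing (Localization.AtPrime m) ↔
      ∀ (M : Type u) [AddCommGroup M] [Module (Localization.AtPrime m) M],
        Subsingleton (CotT.T1 (CotT.canon k (Localization.AtPrime m)) M)) ∧
    (IsRegularLocalRing (Localization.AtPrime m) →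
      ∀ (M : Type u) [AddCommGroup M] [Module (Localization.AtPrime m) M],
        Subsingleton (CotT.T2 (CotT.canon k (Localization.AtPrime m)) M)) := by
  haveI : Algebra.FinitePresentation k B :=
    Algebra.FinitePresentation.of_finiteType.mp inferInstance
  haveI : IsNoetherianRing B := Algebra.FiniteType.isNoetherianRing k B
  have hfs : IsRegularLocalRing (Localization.AtPrime m) ↔
      Algebra.FormallySmooth k (Localization.AtPrime m) := by
    constructor
    · intro h
      haveI := h
      haveI : Algebra.EssFiniteType k m.ResidueField := Algebra.EssFiniteType.comp k B _
      haveI : Algebra.FormallySmooth k m.ResidueField := Algebra.FormallySmooth.of_perfectField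
      exact Groth.Agent.Lib.Helper6.RegSm.isSmoothAt_of_isRegularLocalRing k B m
    · intro h
      haveI : Algebra.IsSmoothAt k m := h
      exact Groth.Agent.Lib.Helper6.SmReg.isRegularLocalRing_of_isSmoothAt (R := k) m
  refine ⟨?_, ?_⟩
  · rw [hfs]
    constructor
    · intro h M _ _
      exact Groth.Agent.Lib.Helper19.CotTVanish.T1_subsingleton_of_formallySmooth _ M
    · intro h
      exact Groth.Agent.Lib.Helper19.CotTReg.formallySmooth_of_T1_subsingleton
        (CotT.canon k (Localization.AtPrime m)) (h _)
  · intro hreg M _ _
    haveI := hreg
    haveI : Algebra.FormallySmooth k (Localization.AtPrime m) := hfs.mp hreg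
    exact Groth.Agent.Lib.Helper19.CotTLocal.T2_canon_subsingleton m M

end Groth.Agent.S12297
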