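import Groth.Statements.S12306
import Groth.Agent.Lib.Helper19NonSmoothC
import Groth.Agent.Lib.Helper19ExalT1D
import Groth.Agent.Lib.Helper7ExalBaer

set_option autoImplicit false
universe u
open CotT

namespace Groth.Agent.S12306

/-- Let k be an algebraically closed field and B₀ a finitely generated k-algebra which is not smooth
over k and is rigid, in the sense that the cotangent module T¹(B₀/k, B₀) (from the choice-free
presentation) vanishes. Let A be a finitely generated k-algebra which is a domain, smooth over k of
Krull dimension one, t ∈ A an element generating a maximal ideal, and B a finitely generated flat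
A-algebra, a k-algebra compatibly with A, whose fibre B/tB is k-isomorphic to B₀. Then this family
does not smooth Spec B₀: there is a prime of B not containing t at which B is not smooth over A.
(The published statement asserts that a singular rigid scheme admits no smoothing by any flat
family; this row states it for flat families with affine total space over an affine nonsingular
curve whose point is cut out by one equation.) -/
theorem result
    {k : Type u} [Field k] [IsAlgClosed k] (B₀ : Type u) [CommRing B₀] [Algebra k B₀] [Algebra.FiniteType k B₀]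
    (hsing : ¬ Algebra.Smooth k B₀) (hrigid : Subsingleton (CotT.T1 (CotT.canon k B₀) B₀))
    (A B : Type u) [CommRing A] [CommRing B] [IsDomain A] [Algebra k A] [Algebra.FiniteType k A]
    [Algebra.Smooth k A] (hdim : ringKrullDim A = 1) (t : A) (ht : (Ideal.span {t}).IsMaximal)
    [Algebra A B] [Algebra.FiniteType A B] [Module.Flat A B] [Algebra k B] [IsScalarTower k A B]
    (e : (B ⧸ Ideal.span {algebraMap A B t}) ≃ₐ[k] B₀) :
    ∃ q : PrimeSpectrum B, algebraMap A B t ∉ q.asIdeal ∧ q ∉ Algebra.smoothLocus A B := by
  classical
  by_contra hcon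
  push Not at hcon
  -- every extension of `B₀` by `B₀` is trivial
  have hT : ∀ X : Exal.Ext k B₀ B₀, X.IsTrivial := by
    obtain ⟨eq, -⟩ := Groth.Agent.Lib.Helper19.ExalT1.exists_equiv_T1 k B₀ (CotT.canon k B₀) B₀
    haveI : Subsingleton (Exal.Exalcom k B₀ B₀) := eq.subsingleton
    intro X
    have h1 : X.cl = (Exal.Ext.trivial k B₀ B₀).cl := Subsingleton.elim _ _
    obtain ⟨θ⟩ := Quotient.exact h1
    exact Groth.Agent.Lib.Helper7.ExalLib.isTrivial_of_equiv θ
      (Groth.Agent.Lib.Helper7.ExalLib.trivial_isTrivial k B₀ B₀)
  -- `t ≠ 0`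
  have ht0 : t ≠ 0 := by
    rintro rfl
    have h1 : (⊥ : Ideal A).IsMaximal := by
      have : Ideal.span {(0 : A)} = ⊥ := Ideal.span_singleton_eq_bot.2 rfl
      rwa [this] at ht
    have h2 : IsField A := Ring.isField_iff_maximal_bot.2 h1
    rw [ringKrullDim_eq_zero_of_isField h2] at hdim
    exact zero_ne_one hdim
  -- the `A`-algebra structure on `B₀`
  letI algAB₀ : Algebra A B₀ :=
    ((e : (B ⧸ Ideal.span {algebraMap A B t}) →+* B₀).comp
      ((Ideal.Quotient.mk (Ideal.span {algebraMap A B t})).comp (algebraMap A B))).toAlgebra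
  haveI : IsScalarTower k A B₀ := IsScalarTower.of_algebraMap_eq (fun c => by
    change algebraMap k B₀ c = e (Ideal.Quotient.mk _ (algebraMap A B (algebraMap k A c)))
    rw [← IsScalarTower.algebraMap_apply k A B, ← e.commutes c]
    rfl)
  let π : B →ₐ[A] B₀ :=
    { (e : (B ⧸ Ideal.span {algebraMap A B t}) →+* B₀).comp
        (Ideal.Quotient.mk (Ideal.span {algebraMap A B t})) with
      commutes' := fun a => rfl }
  have hπ : ∀ b, π b = e (Ideal.Quotient.mk _ b) := fun b => rfl
  have hπs : Function.Surjective π := by
    intro b₀
    obtain ⟨y, rfl⟩ := e.surjective b₀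
    obtain ⟨b, rfl⟩ := Ideal.Quotient.mk_surjective y
    exact ⟨b, rfl⟩
  have hπk : RingHom.ker π = Ideal.span {algebraMap A B t} := by
    ext b
    rw [RingHom.mem_ker, hπ, map_eq_zero_iff e e.injective, Ideal.Quotient.eq_zero_iff_mem]
  exact hsing (Groth.Agent.Lib.Helper19.NonSmooth.smooth_of_rigid t ht ht0 π hπs hπk hT hcon)

end Groth.Agent.S12306
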