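import Groth.Statements.S12314
-- import your own Groth.Agent.* helpers here

set_option autoImplicit false
universe u
open CategoryTheory CategoryTheory.Limits AlgebraicGeometry MonObj
open SGA7

namespace Groth.Agent.S12314

/-- Let R be a henselian discrete valuation ring with fraction field K and residue field k, Ω a
separable closure of K, W a valuation subring of Ω lying over R, A and C abelian varieties over K
(proper, geometrically integral commutative group schemes), and u : C → A an isogeny, in the form:
there are a homomorphism v : A → C and an integer n > 0 with v ∘ u = n and u ∘ v = n. Let ℓ be a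
prime invertible in k and consider the ℓ-adic Tate modules of the Ω-points of C and A; call an
element fixed when all its components are fixed by the inertia group at W (for such ℓ the fixed part
is the inertia invariants). Then T_ℓ(u) maps the fixed part of T_ℓ(C) into the fixed part of T_ℓ(A)
and induces an isogeny between them: T_ℓ(u) is injective, and n times every fixed element of T_ℓ(A)
is the image of a fixed element of T_ℓ(C). (The case of a prime equal to the residue characteristic,
where the fixed part is defined through the Néron model, is not stated.) -/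
theorem result (R K Ω : Type u) [CommRing R] [IsDomain R] [IsDiscreteValuationRing R] [HenselianLocalRing R]
    [Field K] [Algebra R K] [IsFractionRing R K] [Field Ω] [Algebra K Ω] [IsSepClosure K Ω]
    (W : ValuationSubring Ω) (hW : SGA7.LiesOver K R W)
    (A C : Over (Spec (CommRingCat.of K))) [GrpObj A] [IsCommMonObj A] [IsProper A.hom] [GeometricallyIntegral A.hom]
    [GrpObj C] [IsCommMonObj C] [IsProper C.hom] [GeometricallyIntegral C.hom]
    (u : C ⟶ A) [IsMonHom u] (v : A ⟶ C) [IsMonHom v] (n : ℕ) (hn : 0 < n)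
    (huv : u ≫ v = (𝟙 C) ^ n) (hvu : v ≫ u = (𝟙 A) ^ n)
    (l : ℕ) (hl : l.Prime) (hlp : (l : IsLocalRing.ResidueField R) ≠ 0) :
    (∀ z : AbDual.TateMod C l (SGA7.pt Ω),
      (∀ (τ : Ω ≃ₐ[K] Ω) (m : ℕ), SGA7.IsInertia W τ →
        SGA7.galAct τ (AbDual.TateMod.component C l (SGA7.pt Ω) m z).toMul =
          (AbDual.TateMod.component C l (SGA7.pt Ω) m z).toMul) →
      (∀ (τ : Ω ≃ₐ[K] Ω) (m : ℕ), SGA7.IsInertia W τ →
        SGA7.galAct τ (AbDual.TateMod.component A l (SGA7.pt Ω) m (AbDual.tateMap u z)).toMul =
          (AbDual.TateMod.component A l (SGA7.pt Ω) m (AbDual.tateMap u z)).toMul)) ∧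
    (∀ z : AbDual.TateMod C l (SGA7.pt Ω), AbDual.tateMap (l := l) (T := SGA7.pt Ω) u z = 0 → z = 0) ∧
    (∀ y : AbDual.TateMod A l (SGA7.pt Ω),
      (∀ (τ : Ω ≃ₐ[K] Ω) (m : ℕ), SGA7.IsInertia W τ →
        SGA7.galAct τ (AbDual.TateMod.component A l (SGA7.pt Ω) m y).toMul =
          (AbDual.TateMod.component A l (SGA7.pt Ω) m y).toMul) →
      ∃ z : AbDual.TateMod C l (SGA7.pt Ω),
        (∀ (τ : Ω ≃ₐ[K] Ω) (m : ℕ), SGA7.IsInertia W τ →
        SGA7.galAct τ (AbDual.TateMod.component C l (SGA7.pt Ω) m z).toMul =
          (AbDual.TateMod.component C l (SGA7.pt Ω) m z).toMul) ∧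
        AbDual.tateMap (l := l) (T := SGA7.pt Ω) u z = n • y) := by
  classical
  -- Galois equivariance of postcomposition
  have hgal : ∀ {X Y : Over (Spec (CommRingCat.of K))} (f : X ⟶ Y) (τ : Ω ≃ₐ[K] Ω)
      (x : SGA7.Pts Ω X), SGA7.galAct τ (x ≫ f) = SGA7.galAct τ x ≫ f := by
    intro X Y f τ x
    exact (Category.assoc _ _ _).symm
  -- components of `T(v) (T(u) z)`
  have hcompC : ∀ (z : AbDual.TateMod C l (SGA7.pt Ω)) (m : ℕ),
      (AbDual.TateMod.component C l (SGA7.pt Ω) m (AbDual.tateMap v (AbDual.tateMap u z))) =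
        n • (AbDual.TateMod.component C l (SGA7.pt Ω) m z) := by
    intro z m
    apply Additive.toMul.injective
    rw [AbDual.tateMap_component, AbDual.tateMap_component, Category.assoc, huv, MonObj.comp_pow,
      Category.comp_id]
    rfl
  have hcompA : ∀ (y : AbDual.TateMod A l (SGA7.pt Ω)) (m : ℕ),
      (AbDual.TateMod.component A l (SGA7.pt Ω) m (AbDual.tateMap u (AbDual.tateMap v y))) =
        n • (AbDual.TateMod.component A l (SGA7.pt Ω) m y) := by
    intro y m
    apply Additive.toMul.injective
    rw [AbDual.tateMap_component, AbDual.tateMap_component, Category.assoc, hvu, MonObj.comp_pow,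
      Category.comp_id]
    rfl
  refine ⟨?_, ?_, ?_⟩
  · intro z hz τ m hτ
    rw [AbDual.tateMap_component, hgal, hz τ m hτ]
  · intro z hz
    have h1 : ∀ m, n • (AbDual.TateMod.component C l (SGA7.pt Ω) m z) = 0 := by
      intro m
      rw [← hcompC, hz, map_zero, map_zero]
    -- write n = l^b * n'
    obtain ⟨b, n', hn', hnn⟩ := Nat.exists_eq_pow_mul_and_not_dvd hn.ne' l hl.ne_one
    have hcop : ∀ m, Nat.Coprime n' (l ^ m) := fun m =>
      Nat.Coprime.pow_right m ((Nat.Prime.coprime_iff_not_dvd hl).mpr hn').symm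
    have hshift : ∀ (b m : ℕ), (l ^ b) • (AbDual.TateMod.component C l (SGA7.pt Ω) (m + b) z) =
        AbDual.TateMod.component C l (SGA7.pt Ω) m z := by
      intro b
      induction b with
      | zero => intro m; rw [pow_zero, one_smul]; rfl
      | succ b ih =>
        intro m
        rw [pow_succ, mul_smul]
        have : l • (AbDual.TateMod.component C l (SGA7.pt Ω) (m + (b + 1)) z) =
            AbDual.TateMod.component C l (SGA7.pt Ω) (m + b) z := z.compat (m + b)
        rw [this, ih]
    apply AbDual.TateMod.ext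
    intro m
    show AbDual.TateMod.component C l (SGA7.pt Ω) m z = 0
    have h2 : n' • (AbDual.TateMod.component C l (SGA7.pt Ω) m z) = 0 := by
      rw [← hshift b m, ← mul_smul, mul_comm, ← hnn]
      exact h1 (m + b)
    have h3 : (l ^ m) • (AbDual.TateMod.component C l (SGA7.pt Ω) m z) = 0 := z.torsion m
    have h4 := addOrderOf_dvd_of_nsmul_eq_zero h2
    have h5 := addOrderOf_dvd_of_nsmul_eq_zero h3
    have h6 : addOrderOf (AbDual.TateMod.component C l (SGA7.pt Ω) m z) = 1 :=
      Nat.eq_one_of_dvd_coprimes (hcop m) h4 h5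
    exact AddMonoid.addOrderOf_eq_one_iff.mp h6
  · intro y hy
    refine ⟨AbDual.tateMap v y, ?_, ?_⟩
    · intro τ m hτ
      rw [AbDual.tateMap_component, hgal, hy τ m hτ]
    · apply AbDual.TateMod.ext
      intro m
      exact hcompA y m

end Groth.Agent.S12314
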