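import Groth.Statements.S12417
import Mathlib.AlgebraicGeometry.Morphisms.Affine
import Mathlib.AlgebraicGeometry.Morphisms.QuasiSeparated

set_option autoImplicit false
universe u
open CategoryTheory AlgebraicGeometry
open Props

namespace Groth.Agent.S12417

/-- A quasi-compact open is a finite union of affine opens, indexed by `Fin n`. -/
theorem exists_fin_affine_cover (X : Scheme.{u}) (U : X.Opens) (hU : IsCompact (U : Set X)) :
    ∃ (n : ℕ) (V : Fin n → X.Opens), (∀ i, IsAffineOpen (V i)) ∧ ⨆ i, V i = U := by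
  obtain ⟨s, hs, rfl⟩ := isCompact_iff_finite_and_eq_biUnion_affineOpens.mp hU
  have : Finite ↥s := hs
  obtain ⟨n, ⟨e⟩⟩ := Finite.exists_equiv_fin ↥s
  refine ⟨n, fun i => ((e.symm i : ↥s) : X.affineOpens).1, fun i => ((e.symm i : ↥s) : X.affineOpens).2, ?_⟩
  rw [iSup_subtype']
  exact e.symm.iSup_comp (g := fun j : ↥s => ((j : X.affineOpens) : X.Opens))

/-- Two affine opens contained in a common affine open have affine intersection. -/
theorem isAffineOpen_inf_of_le (X : Scheme.{u}) {W V₁ V₂ : X.Opens} (hW : IsAffineOpen W)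
    (h₁ : V₁ ≤ W) (h₂ : V₂ ≤ W) (hV₁ : IsAffineOpen V₁) (hV₂ : IsAffineOpen V₂) :
    IsAffineOpen (V₁ ⊓ V₂) := by
  have : IsAffineHom (Limits.pullback.diagonal (𝟙 X)) := inferInstance
  exact (isAffineHom_diagonal_iff (f := 𝟙 X)).mp this W hW V₁ (by simpa using h₁) V₂
    (by simpa using h₂) hV₁ hV₂

/-- Let X be a quasi-compact quasi-separated scheme and P a property of opens of X such that (a) P holds
for every affine open, and (b) whenever a quasi-compact open U has a finite affine open covering U =
V_1 ∪ … ∪ V_n with P holding for every intersection V_i ∩ V_j, P holds for U. Then P holds for every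
quasi-compact open of X. -/
theorem result (X : Scheme.{u}) [CompactSpace X] [QuasiSeparatedSpace X]
    (P : X.Opens → Prop) (ha : ∀ U : X.Opens, IsAffineOpen U → P U)
    (hb : ∀ (U : X.Opens) (n : ℕ) (V : Fin n → X.Opens), IsCompact (U : Set X) →
      (∀ i, IsAffineOpen (V i)) → ⨆ i, V i = U → (∀ i j, P (V i ⊓ V j)) → P U)
    (U : X.Opens) (hU : IsCompact (U : Set X)) : P U := by
  -- step 1: quasi-compact opens inside an affine open
  have step1 : ∀ (W U : X.Opens), IsAffineOpen W → U ≤ W → IsCompact (U : Set X) → P U := by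
    intro W U hW hUW hU
    obtain ⟨n, V, hV, hVU⟩ := exists_fin_affine_cover X U hU
    refine hb U n V hU hV hVU fun i j => ha _ ?_
    have hi : V i ≤ W := (le_iSup V i).trans (hVU.le.trans hUW)
    have hj : V j ≤ W := (le_iSup V j).trans (hVU.le.trans hUW)
    exact isAffineOpen_inf_of_le X hW hi hj (hV i) (hV j)
  obtain ⟨n, V, hV, hVU⟩ := exists_fin_affine_cover X U hU
  refine hb U n V hU hV hVU fun i j => ?_
  refine step1 (V i) _ (hV i) inf_le_left ?_
  exact QuasiSeparatedSpace.inter_isCompact (V i : Set X) (V j : Set X) (V i).isOpen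
    (hV i).isCompact (V j).isOpen (hV j).isCompact

end Groth.Agent.S12417
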