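import Groth.Statements.S12421
import Mathlib

set_option autoImplicit false
universe u
open TensorProduct
open Desc

namespace Groth.Agent.S12421

section
variable (R R' : Type u) [CommRing R] [CommRing R'] [Algebra R R']
  (M : Type u) [AddCommGroup M] [Module R M] (N : Type u) [AddCommGroup N] [Module R N]

/-- the extra degeneracy `a ⊗ (m ⊗ (r ⊗ n)) ↦ a r ⊗ (m ⊗ n)` -/
noncomputable def sigma : R' ⊗[R] (M ⊗[R] (R' ⊗[R] N)) →ₗ[R] R' ⊗[R] (M ⊗[R] N) :=
  (TensorProduct.map (LinearMap.mul' R R') LinearMap.id) ∘ₗ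
    (TensorProduct.assoc R R' R' (M ⊗[R] N)).symm.toLinearMap ∘ₗ
      (LinearMap.lTensor R' (TensorProduct.leftComm R M R' N).toLinearMap)

theorem sigma_tmul (a : R') (m : M) (r : R') (n : N) :
    sigma R R' M N (a ⊗ₜ (m ⊗ₜ (r ⊗ₜ n))) = (a * r) ⊗ₜ (m ⊗ₜ n) := by
  simp [sigma]

end

section
variable (R R' : Type u) [CommRing R] [CommRing R'] [Algebra R R']
  (M : Type u) [AddCommGroup M] [Module R M]

noncomputable def d1 : M ⊗[R] R' →ₗ[R] M ⊗[R] (R' ⊗[R] R') :=
  LinearMap.lTensor M (Algebra.TensorProduct.includeRight : R' →ₐ[R] R' ⊗[R] R').toLinearMap -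
        LinearMap.lTensor M
          (Algebra.TensorProduct.includeLeft : R' →ₐ[R] R' ⊗[R] R').toLinearMap

noncomputable def d2 : M ⊗[R] (R' ⊗[R] R') →ₗ[R] M ⊗[R] (R' ⊗[R] (R' ⊗[R] R')) :=
  LinearMap.lTensor M
          (Algebra.TensorProduct.includeRight : R' ⊗[R] R' →ₐ[R] R' ⊗[R] (R' ⊗[R] R')).toLinearMap -
        LinearMap.lTensor M
          (Algebra.TensorProduct.map (AlgHom.id R R')
            (Algebra.TensorProduct.includeRight : R' →ₐ[R] R' ⊗[R] R')).toLinearMap +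
        LinearMap.lTensor M
          (Algebra.TensorProduct.map (AlgHom.id R R')
            (Algebra.TensorProduct.includeLeft : R' →ₐ[R] R' ⊗[R] R')).toLinearMap

theorem d1_tmul (m : M) (r : R') :
    d1 R R' M (m ⊗ₜ r) = m ⊗ₜ ((1 : R') ⊗ₜ r) - m ⊗ₜ (r ⊗ₜ (1 : R')) := by
  simp [d1]

theorem d2_tmul (m : M) (r₁ r₂ : R') :
    d2 R R' M (m ⊗ₜ (r₁ ⊗ₜ r₂)) = m ⊗ₜ ((1 : R') ⊗ₜ (r₁ ⊗ₜ r₂)) - m ⊗ₜ (r₁ ⊗ₜ ((1 : R') ⊗ₜ r₂))
      + m ⊗ₜ (r₁ ⊗ₜ (r₂ ⊗ₜ (1 : R'))) := by
  simp [d2]

theorem d2_d1 (x : M ⊗[R] R') : d2 R R' M (d1 R R' M x) = 0 := by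
  induction x using TensorProduct.induction_on with
  | zero => simp
  | tmul m r =>
    rw [d1_tmul, map_sub, d2_tmul, d2_tmul]
    abel
  | add x y hx hy => rw [map_add, map_add, hx, hy, add_zero]

theorem homotopy (y : R' ⊗[R] (M ⊗[R] (R' ⊗[R] R'))) :
    sigma R R' M (R' ⊗[R] R') (LinearMap.lTensor R' (d2 R R' M) y) +
      LinearMap.lTensor R' (d1 R R' M) (sigma R R' M R' y) = y := by
  induction y using TensorProduct.induction_on with
  | zero => simp
  | add x y hx hy =>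
    rw [map_add, map_add, map_add, map_add]
    rw [add_add_add_comm, hx, hy]
  | tmul a z =>
    induction z using TensorProduct.induction_on with
    | zero => simp
    | add x y hx hy =>
      rw [TensorProduct.tmul_add, map_add, map_add, map_add, map_add]
      rw [add_add_add_comm, hx, hy]
    | tmul m w =>
      induction w using TensorProduct.induction_on with
      | zero => simp
      | add x y hx hy =>
        rw [TensorProduct.tmul_add, TensorProduct.tmul_add, map_add, map_add, map_add, map_add]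
        rw [add_add_add_comm, hx, hy]
      | tmul r₁ r₂ =>
        rw [LinearMap.lTensor_tmul, d2_tmul, sigma_tmul, LinearMap.lTensor_tmul, d1_tmul]
        simp only [TensorProduct.tmul_add, TensorProduct.tmul_sub, map_add, map_sub, sigma_tmul,
          mul_one]
        abel

end

/-- Let R → R' be faithfully flat and M an R-module. With δ¹ : M ⊗ R' → M ⊗ (R' ⊗ R'), m ⊗ r ↦ m ⊗ (1 ⊗
r) − m ⊗ (r ⊗ 1), and δ² : M ⊗ (R' ⊗ R') → M ⊗ (R' ⊗ (R' ⊗ R')), m ⊗ x ↦ m ⊗ (1 ⊗ x) − m ⊗ (ins₁ x)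
+ m ⊗ (ins₂ x), where ins₁ (r₁ ⊗ r₂) = r₁ ⊗ (1 ⊗ r₂) and ins₂ (r₁ ⊗ r₂) = r₁ ⊗ (r₂ ⊗ 1), the
sequence M ⊗ R' → M ⊗ R'^{⊗2} → M ⊗ R'^{⊗3} is exact: the kernel of δ² is the image of δ¹. (The
published statement asserts exactness of the whole complex; this row states exactness at M ⊗ R′ ⊗ R′
only.) -/
theorem result (R R' : Type u) [CommRing R] [CommRing R'] [Algebra R R']
    [Module.FaithfullyFlat R R'] (M : Type u) [AddCommGroup M] [Module R M] :
    Function.Exact
      (LinearMap.lTensor M (Algebra.TensorProduct.includeRight : R' →ₐ[R] R' ⊗[R] R').toLinearMap -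
        LinearMap.lTensor M
          (Algebra.TensorProduct.includeLeft : R' →ₐ[R] R' ⊗[R] R').toLinearMap)
      (LinearMap.lTensor M
          (Algebra.TensorProduct.includeRight : R' ⊗[R] R' →ₐ[R] R' ⊗[R] (R' ⊗[R] R')).toLinearMap -
        LinearMap.lTensor M
          (Algebra.TensorProduct.map (AlgHom.id R R')
            (Algebra.TensorProduct.includeRight : R' →ₐ[R] R' ⊗[R] R')).toLinearMap +
        LinearMap.lTensor M
          (Algebra.TensorProduct.map (AlgHom.id R R')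
            (Algebra.TensorProduct.includeLeft : R' →ₐ[R] R' ⊗[R] R')).toLinearMap) := by
  show Function.Exact (d1 R R' M) (d2 R R' M)
  apply Module.FaithfullyFlat.lTensor_reflects_exact R R'
  intro y
  constructor
  · intro hy
    refine ⟨sigma R R' M R' y, ?_⟩
    have := homotopy R R' M y
    rw [hy, map_zero, zero_add] at this
    exact this
  · rintro ⟨x, rfl⟩
    rw [← LinearMap.comp_apply, ← LinearMap.lTensor_comp]
    have : d2 R R' M ∘ₗ d1 R R' M = 0 := LinearMap.ext (fun x => d2_d1 R R' M x)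
    rw [this, LinearMap.lTensor_zero, LinearMap.zero_apply]

end Groth.Agent.S12421
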