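import Groth.Statements.S12443
import Mathlib
-- import your own Groth.Agent.* helpers here

set_option autoImplicit false
universe u
open CategoryTheory TopologicalSpace
open ShSp

namespace Groth.Agent.S12443

/-- Let j : U → X be the inclusion of an open subset (an open embedding) and F a sheaf of sets on U.
Then the counit j⁻¹ j_* F → F is an isomorphism, i.e. j⁻¹ j_* is the identity on sheaves on U. -/
theorem result {U X : TopCat.{u}} (j : U ⟶ X) (hj : Topology.IsOpenEmbedding j)
    (F : U.Sheaf (Type u)) :
    IsIso ((TopCat.Sheaf.pullbackPushforwardAdjunction (Type u) j).counit.app F) := by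
  haveI : IsIso (TopCat.Sheaf.pullbackPushforwardAdjunction (Type u) j).counit := by
    apply Adjunction.isIso_counit_of_iso
    refine Functor.isoWhiskerLeft _ (hj.sheafPullbackIso (Type u)) ≪≫ ?_
    let e : hj.isOpenMap.functor ⋙ Opens.map j ≅ 𝟭 (Opens U) :=
      NatIso.ofComponents (fun V => eqToIso (TopologicalSpace.Opens.map_functor_eq' j hj V))
        (by intros; apply Subsingleton.elim)
    refine NatIso.ofComponents (fun G =>
      (fullyFaithfulSheafToPresheaf _ _).preimageIso
        (Functor.isoWhiskerRight (NatIso.op e).symm G.obj ≪≫ Functor.leftUnitor _)) ?_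
    intro G G' φ
    apply (sheafToPresheaf _ _).map_injective
    ext V x
    simp [Topology.IsOpenEmbedding.sheafPullback, TopCat.Sheaf.pushforward, Functor.sheafPushforwardContinuous]
    erw [ObjectProperty.FullSubcategory.comp_hom, ObjectProperty.FullSubcategory.comp_hom]
    simp
    erw [ObjectProperty.FullSubcategory.comp_hom]
    simp
  infer_instance

end Groth.Agent.S12443
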