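import Groth.Statements.S12445
import Mathlib
import Groth.Agent.Lib.Helper10Catenary2
-- import your own Groth.Agent.* helpers here

set_option autoImplicit false
universe u
open CategoryTheory AlgebraicGeometry
open Props

namespace Groth.Agent.S12445

/-- (1) ⇔ (3) ⇔ (4): for a scheme S, the underlying topological space of S is catenary if and only if
the coordinate ring of every affine open of S is a catenary ring, if and only if S is covered by
affine opens with catenary coordinate rings. (Clause (2), openness of catenarity, and the final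
assertion on locally closed subschemes are the topological statement for open coverings and locally
closed subspaces.) -/
theorem result (S : Scheme.{u}) :
    (PtTop.IsCatenarySpace S ↔ ∀ U : S.affineOpens, CAlg.IsCatenary Γ(S, U)) ∧
    (PtTop.IsCatenarySpace S ↔
      ∀ s : S, ∃ U : S.affineOpens, s ∈ (U : S.Opens) ∧ CAlg.IsCatenary Γ(S, U)) := by
  have key : ∀ U : S.affineOpens,
      PtTop.IsCatenarySpace (U : S.Opens) ↔ CAlg.IsCatenary Γ(S, U) := by
    intro U
    have e : ((U : S.Opens) : Scheme) ≃ₜ Spec Γ(S, U) := Scheme.homeoOfIso U.2.isoSpec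
    rw [← Groth.Agent.Lib.Helper10.Catenary2.isCatenarySpace_primeSpectrum_iff]
    exact ⟨Groth.Agent.Lib.Helper10.Catenary2.isCatenarySpace_of_homeomorph e.symm,
      Groth.Agent.Lib.Helper10.Catenary2.isCatenarySpace_of_homeomorph e⟩
  have hopen : PtTop.IsCatenarySpace S → ∀ U : S.Opens, PtTop.IsCatenarySpace U := fun h U =>
    Groth.Agent.Lib.Helper10.Catenary2.isCatenarySpace_subtype (U : Set S)
      U.isOpen.isLocallyClosed h
  have hcov : (∀ s : S, ∃ U : S.affineOpens, s ∈ (U : S.Opens) ∧ CAlg.IsCatenary Γ(S, U)) →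
      PtTop.IsCatenarySpace S := by
    intro h
    refine Groth.Agent.Lib.Helper10.Catenary2.isCatenarySpace_of_cover fun x => ?_
    obtain ⟨U, hxU, hU⟩ := h x
    exact ⟨U, hxU, (key U).mpr hU⟩
  have hex : ∀ s : S, ∃ U : S.affineOpens, s ∈ (U : S.Opens) := by
    intro s
    obtain ⟨U, hU, hsU, -⟩ := exists_isAffineOpen_mem_and_subset (X := S) (x := s) (U := ⊤) trivial
    exact ⟨⟨U, hU⟩, hsU⟩
  refine ⟨⟨fun h U => (key U).mp (hopen h U), fun h => hcov fun s => ?_⟩, ⟨fun h s => ?_, hcov⟩⟩
  · obtain ⟨U, hsU⟩ := hex s; exact ⟨U, hsU, h U⟩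
  · obtain ⟨U, hsU⟩ := hex s; exact ⟨U, hsU, (key U).mp (hopen h U)⟩

end Groth.Agent.S12445
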