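import Groth.Statements.S12446
import Mathlib
import Groth.Agent.Lib.Helper13Cat
import Groth.Agent.S12445
-- import your own Groth.Agent.* helpers here

set_option autoImplicit false
universe u
open CategoryTheory AlgebraicGeometry
open Props

namespace Groth.Agent.S12446

/-- For a scheme X, the underlying topological space of X is catenary if and only if for every point x
the local ring O_{X,x} is a catenary ring. -/
theorem result (X : Scheme.{u}) :
    PtTop.IsCatenarySpace X ↔ ∀ x : X, CAlg.IsCatenary (X.presheaf.stalk x) := by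
  rw [(Groth.Agent.S12445.result X).1]
  constructor
  · intro h x
    obtain ⟨U, hU, hxU, -⟩ :=
      exists_isAffineOpen_mem_and_subset (X := X) (x := x) (U := ⊤) trivial
    letI := TopCat.Presheaf.algebra_section_stalk X.presheaf ⟨x, hxU⟩
    haveI hloc : IsLocalization (hU.primeIdealOf ⟨x, hxU⟩).asIdeal.primeCompl (X.presheaf.stalk x) :=
      hU.isLocalization_stalk ⟨x, hxU⟩
    exact Groth.Agent.Helper13Cat.isCatenary_of_isLocalization Γ(X, U)
      (hU.primeIdealOf ⟨x, hxU⟩).asIdeal.primeCompl (X.presheaf.stalk x) (h ⟨U, hU⟩)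
  · intro h U
    refine Groth.Agent.Helper13Cat.isCatenary_of_cover fun P Q hPQ => ?_
    have hU : IsAffineOpen (U : X.Opens) := U.2
    have hy : hU.fromSpec Q ∈ (U : X.Opens) := by
      have := Set.mem_range_self (f := hU.fromSpec) Q
      rwa [hU.range_fromSpec] at this
    letI := TopCat.Presheaf.algebra_section_stalk X.presheaf ⟨hU.fromSpec Q, hy⟩
    haveI hloc : IsLocalization Q.asIdeal.primeCompl (X.presheaf.stalk (hU.fromSpec Q)) :=
      hU.isLocalization_stalk' Q hy
    refine ⟨X.presheaf.stalk (hU.fromSpec Q), inferInstance,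
      Groth.Agent.Helper13Cat.embOfIsEmbedding (algebraMap _ _)
        (PrimeSpectrum.localization_comap_isEmbedding _ Q.asIdeal.primeCompl),
      Groth.Agent.Helper13Cat.ordConnected_range_localization _ Q.asIdeal.primeCompl _,
      h _, ?_, ?_⟩
    · refine (Groth.Agent.Helper13Cat.mem_range_localization_iff _ Q.asIdeal.primeCompl _ P).mpr ?_
      exact Set.disjoint_left.mpr fun a ha hP => ha (hPQ hP)
    · refine (Groth.Agent.Helper13Cat.mem_range_localization_iff _ Q.asIdeal.primeCompl _ Q).mpr ?_
      exact Set.disjoint_left.mpr fun a ha hP => ha hP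

end Groth.Agent.S12446
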