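import Groth.Statements.S12452
import Mathlib
-- import your own Groth.Agent.* helpers here

set_option autoImplicit false
set_option linter.style.haveILetI false
set_option linter.unusedSectionVars false
universe u
open CategoryTheory TopologicalSpace Opposite
open ShSp

namespace Groth.Agent.S12452

section
variable {X Y : TopCat.{u}} (f : X ⟶ Y) (F : X.Sheaf (Type u)) (G : Y.Sheaf (Type u))
    {BX : Set (Opens X)} (hBX : Opens.IsBasis BX) {BY : Set (Opens Y)} (hBY : Opens.IsBasis BY)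
    (φ : ∀ (V : BY) (U : BX), (U : Opens X) ≤ (Opens.map f).obj V →
      (G.presheaf.obj (op (V : Opens Y)) → F.presheaf.obj (op (U : Opens X))))
    (hφ : ∀ (V V' : BY) (U U' : BX) (hUV : (U : Opens X) ≤ (Opens.map f).obj V)
      (hU'V' : (U' : Opens X) ≤ (Opens.map f).obj V') (hV : (V' : Opens Y) ≤ V) (hU : (U' : Opens X) ≤ U)
      (s : G.presheaf.obj (op (V : Opens Y))),
      F.presheaf.map (homOfLE hU).op (φ V U hUV s) = φ V' U' hU'V' (G.presheaf.map (homOfLE hV).op s))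

/-- index type of pairs for an open `W` of `Y` -/
def Idx (W : Opens Y) : Type u :=
  {p : BY × BX // (p.1 : Opens Y) ≤ W ∧ (p.2 : Opens X) ≤ (Opens.map f).obj p.1}

variable {f} in
abbrev Idx.U {W : Opens Y} (i : Idx f (BX := BX) (BY := BY) W) : Opens X := (i.1.2 : Opens X)

variable {f} in
abbrev Idx.V {W : Opens Y} (i : Idx f (BX := BX) (BY := BY) W) : Opens Y := (i.1.1 : Opens Y)

include hBX hBY in
theorem cover (W : Opens Y) :
    (Opens.map f).obj W ≤ ⨆ i : Idx f (BX := BX) (BY := BY) W, i.U := by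
  intro x hx
  obtain ⟨V, hV, hxV, hVW⟩ := (Opens.isBasis_iff_nbhd.1 hBY) (show f x ∈ W from hx)
  obtain ⟨U, hU, hxU, hUV⟩ := (Opens.isBasis_iff_nbhd.1 hBX)
    (show x ∈ (Opens.map f).obj V from hxV)
  exact Opens.mem_iSup.2 ⟨⟨(⟨V, hV⟩, ⟨U, hU⟩), hVW, hUV⟩, hxU⟩

omit hBX hBY in
theorem res_res {Z : TopCat.{u}} (H : Z.Sheaf (Type u)) {V V' V'' : Opens Z} (f : V' ⟶ V) (g : V'' ⟶ V')
    (h : V'' ⟶ V) (r : H.presheaf.obj (op V)) :
    H.presheaf.map g.op (H.presheaf.map f.op r) = H.presheaf.map h.op r := by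
  have : h = g ≫ f := Subsingleton.elim _ _
  subst this
  rw [op_comp, Functor.map_comp]
  rfl

/-- the family of local sections -/
def fam (W : Opens Y) (s : G.presheaf.obj (op W)) (i : Idx f (BX := BX) (BY := BY) W) :
    F.presheaf.obj (op i.U) :=
  φ i.1.1 i.1.2 i.2.2 (G.presheaf.map (homOfLE i.2.1).op s)

include hφ in
theorem fam_res (W : Opens Y) (s : G.presheaf.obj (op W)) (i : Idx f (BX := BX) (BY := BY) W)
    (V'' : BY) (U'' : BX) (hUV : (U'' : Opens X) ≤ (Opens.map f).obj V'') (hV : (V'' : Opens Y) ≤ i.V)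
    (hU : (U'' : Opens X) ≤ i.U) :
    F.presheaf.map (homOfLE hU).op (fam f F G φ W s i) =
      φ V'' U'' hUV (G.presheaf.map (homOfLE (hV.trans i.2.1)).op s) := by
  unfold fam
  rw [hφ i.1.1 V'' i.1.2 U'' i.2.2 hUV hV hU, res_res]

include hBX hBY hφ in
theorem fam_compat (W : Opens Y) (s : G.presheaf.obj (op W)) :
    TopCat.Presheaf.IsCompatible F.presheaf (fun i : Idx f (BX := BX) (BY := BY) W => i.U)
      (fam f F G φ W s) := by
  intro i j
  let K := {p : BY × BX // (p.1 : Opens Y) ≤ i.V ⊓ j.V ∧ (p.2 : Opens X) ≤ i.U ⊓ j.U ∧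
    (p.2 : Opens X) ≤ (Opens.map f).obj p.1}
  refine TopCat.Sheaf.eq_of_locally_eq' F (fun k : K => (k.1.2 : Opens X)) (i.U ⊓ j.U)
    (fun k => homOfLE k.2.2.1) ?_ _ _ ?_
  · intro x hx
    have hxi : x ∈ i.U := hx.1
    have hxj : x ∈ j.U := hx.2
    have hfx : f x ∈ i.V ⊓ j.V := ⟨i.2.2 hxi, j.2.2 hxj⟩
    obtain ⟨V, hV, hxV, hVW⟩ := (Opens.isBasis_iff_nbhd.1 hBY) hfx
    have hx' : x ∈ (i.U ⊓ j.U) ⊓ (Opens.map f).obj V := ⟨hx, hxV⟩
    obtain ⟨U, hU, hxU, hUV⟩ := (Opens.isBasis_iff_nbhd.1 hBX) hx'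
    exact Opens.mem_iSup.2 ⟨⟨(⟨V, hV⟩, ⟨U, hU⟩), hVW, hUV.trans inf_le_left, hUV.trans inf_le_right⟩, hxU⟩
  · intro k
    have h1 := fam_res f F G φ hφ W s i k.1.1 k.1.2 k.2.2.2 (k.2.1.trans inf_le_left)
      (k.2.2.1.trans inf_le_left)
    have h2 := fam_res f F G φ hφ W s j k.1.1 k.1.2 k.2.2.2 (k.2.1.trans inf_le_right)
      (k.2.2.1.trans inf_le_right)
    show F.presheaf.map (homOfLE k.2.2.1).op (F.presheaf.map (Opens.infLELeft i.U j.U).op (fam f F G φ W s i)) =
      F.presheaf.map (homOfLE k.2.2.1).op (F.presheaf.map (Opens.infLERight i.U j.U).op (fam f F G φ W s j))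
    rw [res_res F _ _ (homOfLE (k.2.2.1.trans inf_le_left)),
      res_res F _ _ (homOfLE (k.2.2.1.trans inf_le_right)), h1, h2]

omit hBX hBY in
theorem Idx.le {W : Opens Y} (i : Idx f (BX := BX) (BY := BY) W) : i.U ≤ (Opens.map f).obj W :=
  fun _ hx => i.2.1 (i.2.2 hx)

include hBX hBY hφ in
theorem exists_glue (W : Opens Y) (s : G.presheaf.obj (op W)) :
    ∃! t : F.presheaf.obj (op ((Opens.map f).obj W)), ∀ i : Idx f (BX := BX) (BY := BY) W,
      F.presheaf.map (homOfLE (Idx.le f i)).op t = fam f F G φ W s i :=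
  TopCat.Sheaf.existsUnique_gluing' F (fun i : Idx f (BX := BX) (BY := BY) W => i.U)
    ((Opens.map f).obj W) (fun i => homOfLE (Idx.le f i)) (cover f hBX hBY W) (fam f F G φ W s)
    (fam_compat f F G hBX hBY φ hφ W s)

/-- the glued section -/
noncomputable def ψW (W : Opens Y) (s : G.presheaf.obj (op W)) :
    F.presheaf.obj (op ((Opens.map f).obj W)) :=
  (exists_glue f F G hBX hBY φ hφ W s).exists.choose

theorem ψW_spec (W : Opens Y) (s : G.presheaf.obj (op W)) (i : Idx f (BX := BX) (BY := BY) W) :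
    F.presheaf.map (homOfLE (Idx.le f i)).op (ψW f F G hBX hBY φ hφ W s) = fam f F G φ W s i :=
  (exists_glue f F G hBX hBY φ hφ W s).exists.choose_spec i

theorem ψW_unique (W : Opens Y) (s : G.presheaf.obj (op W))
    (t : F.presheaf.obj (op ((Opens.map f).obj W)))
    (ht : ∀ i : Idx f (BX := BX) (BY := BY) W,
      F.presheaf.map (homOfLE (Idx.le f i)).op t = fam f F G φ W s i) :
    t = ψW f F G hBX hBY φ hφ W s :=
  (exists_glue f F G hBX hBY φ hφ W s).unique ht (ψW_spec f F G hBX hBY φ hφ W s)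

theorem ψW_nat {W W' : Opens Y} (hW : W' ≤ W) (s : G.presheaf.obj (op W)) :
    F.presheaf.map (homOfLE (show (Opens.map f).obj W' ≤ (Opens.map f).obj W from
      fun _ hx => hW hx)).op (ψW f F G hBX hBY φ hφ W s) =
      ψW f F G hBX hBY φ hφ W' (G.presheaf.map (homOfLE hW).op s) := by
  apply ψW_unique
  intro i
  let i' : Idx f (BX := BX) (BY := BY) W := ⟨i.1, i.2.1.trans hW, i.2.2⟩
  rw [res_res F _ _ (homOfLE (Idx.le f i'))]
  have := ψW_spec f F G hBX hBY φ hφ W s i'
  rw [this]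
  unfold fam
  rw [res_res G _ _ (homOfLE (i.2.1.trans hW))]

/-- the morphism of sheaves -/
noncomputable def ψ : G ⟶ (TopCat.Sheaf.pushforward (Type u) f).obj F :=
  ⟨{ app := fun W => TypeCat.ofHom (fun s => ψW f F G hBX hBY φ hφ W.unop s)
     naturality := by
      intro W W' g
      ext s
      have := ψW_nat f F G hBX hBY φ hφ (leOfHom g.unop) s
      exact this.symm }⟩

theorem ψ_app (W : Opens Y) (s : G.presheaf.obj (op W)) :
    (ψ f F G hBX hBY φ hφ).1.app (op W) s = ψW f F G hBX hBY φ hφ W s := rfl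

end


/-- For sheaves of sets, let f : X → Y be a continuous map, F a sheaf of sets on X, G a sheaf of sets on
Y, and B_X, B_Y bases for the topologies of X and Y. Suppose given, for every V in B_Y and U in B_X
with U ⊆ f⁻¹V, a map φ_V^U : G(V) → F(U), compatibly with restrictions. Then there is exactly one
morphism of sheaves ψ : G → f_*F (an f-map G → F) such that G(V) → F(f⁻¹V) → F(U) equals φ_V^U for
every such pair. -/
theorem result {X Y : TopCat.{u}} (f : X ⟶ Y) (F : X.Sheaf (Type u)) (G : Y.Sheaf (Type u))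
    {BX : Set (Opens X)} (hBX : Opens.IsBasis BX) {BY : Set (Opens Y)} (hBY : Opens.IsBasis BY)
    (φ : ∀ (V : BY) (U : BX), (U : Opens X) ≤ (Opens.map f).obj V →
      (G.presheaf.obj (op (V : Opens Y)) → F.presheaf.obj (op (U : Opens X))))
    (hφ : ∀ (V V' : BY) (U U' : BX) (hUV : (U : Opens X) ≤ (Opens.map f).obj V)
      (hU'V' : (U' : Opens X) ≤ (Opens.map f).obj V') (hV : (V' : Opens Y) ≤ V) (hU : (U' : Opens X) ≤ U)
      (s : G.presheaf.obj (op (V : Opens Y))),
      F.presheaf.map (homOfLE hU).op (φ V U hUV s) = φ V' U' hU'V' (G.presheaf.map (homOfLE hV).op s)) :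
    ∃! ψ : G ⟶ (TopCat.Sheaf.pushforward (Type u) f).obj F,
      ∀ (V : BY) (U : BX) (hUV : (U : Opens X) ≤ (Opens.map f).obj V) (s : G.presheaf.obj (op (V : Opens Y))),
        F.presheaf.map (homOfLE hUV).op (ψ.1.app (op (V : Opens Y)) s) = φ V U hUV s := by
  refine ⟨ψ f F G hBX hBY φ hφ, ?_, ?_⟩
  · intro V U hUV s
    rw [ψ_app]
    let i : Idx f (BX := BX) (BY := BY) (V : Opens Y) := ⟨(V, U), le_rfl, hUV⟩
    have h1 := ψW_spec f F G hBX hBY φ hφ (V : Opens Y) s i
    have h2 : fam f F G φ (V : Opens Y) s i = φ V U hUV s := by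
      unfold fam
      have : G.presheaf.map (homOfLE i.2.1).op s = s := by
        have h3 : (homOfLE i.2.1) = 𝟙 (V : Opens Y) := Subsingleton.elim _ _
        rw [h3, op_id, G.presheaf.map_id]
        rfl
      rw [this]
    exact h1.trans h2
  · intro ψ' hψ'
    apply Sheaf.hom_ext
    apply NatTrans.ext
    funext W
    obtain ⟨W⟩ := W
    apply ConcreteCategory.hom_ext
    intro s
    show ψ'.1.app (op W) s = ψW f F G hBX hBY φ hφ W s
    apply ψW_unique
    intro i
    have hle : i.U ≤ (Opens.map f).obj i.V := i.2.2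
    have hle2 : (Opens.map f).obj i.V ≤ (Opens.map f).obj W := fun _ hx => i.2.1 hx
    let t : F.presheaf.obj (op ((Opens.map f).obj W)) := ψ'.1.app (op W) s
    have e1 : F.presheaf.map (homOfLE (Idx.le f i)).op t =
        F.presheaf.map (homOfLE hle).op (F.presheaf.map (homOfLE hle2).op t) :=
      (res_res F (homOfLE hle2) (homOfLE hle) (homOfLE (Idx.le f i)) t).symm
    have hnat := ConcreteCategory.congr_hom (ψ'.1.naturality (homOfLE i.2.1).op) s
    simp only [types_comp_apply] at hnat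
    have hnat' : F.presheaf.map (homOfLE hle2).op t =
        ψ'.1.app (op i.V) (G.presheaf.map (homOfLE i.2.1).op s) := hnat.symm
    exact e1.trans ((congrArg (F.presheaf.map (homOfLE hle).op) hnat').trans
      (hψ' i.1.1 i.1.2 i.2.2 _))

end Groth.Agent.S12452
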