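import Groth.Statements.S12458
import Groth.Agent.Lib.Helper2FibVanF

set_option autoImplicit false
universe u
open CategoryTheory AlgebraicGeometry
open Lim

namespace Groth.Agent.S12458

/-- Let f : X → Y be proper and y ∈ Y a point whose fibre X_y has dimension at most d. Then there is an
affine open neighbourhood V of y such that for the restriction f⁻¹(V) → V the higher direct images
R^i of every quasi-coherent module on f⁻¹(V) vanish for all i > d. (f⁻¹(V) and V are then
quasi-compact and quasi-separated, so the pair satisfies the hypotheses of the top-degree base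
change statement; its conclusions (a)–(c) are that statement applied to this pair. The published
statement assumes dim X_y = d; at most d is what its proof uses.) -/
theorem result {X Y : Scheme.{u}} (f : X ⟶ Y) [IsProper f]
    (y : Y) (d : ℕ) (hd : topologicalKrullDim ↥(f.fiber y) ≤ d) :
    ∃ V : Y.Opens, y ∈ V ∧ IsAffineOpen V ∧
      ∀ (M : (↑(f ⁻¹ᵁ V) : Scheme.{u}).Modules) (i : ℕ), Coh.IsQCoh M → d < i →
        Limits.IsZero ((Coh.RpushAb (f ∣_ V) i).obj (Coh.toAb M)) := by
  have hU : IsOpen {s : Y | topologicalKrullDim (f.fiber s) ≤ (d : WithBot ℕ∞)} :=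
    Groth.Agent.S0403.result f d
  have hyU : y ∈ (⟨_, hU⟩ : Y.Opens) := hd
  obtain ⟨V, hVaff, hyV, hVU⟩ :=
    (TopologicalSpace.Opens.isBasis_iff_nbhd.1 Y.isBasis_affineOpens) hyU
  refine ⟨V, hyV, hVaff, fun M i hM hi => ?_⟩
  haveI := hM
  haveI : IsProper (f ∣_ V) := inferInstance
  refine Groth.Agent.Lib.Helper2.FibVanF.isZero_RpushAb (f ∣_ V) d (fun w => ?_) M i hi
  rw [Groth.Agent.Lib.Helper3.FlatFibDim2.dim_fiber_eq_of_isPullback f (Scheme.Opens.ι V) (f ∣_ V)
    (f ⁻¹ᵁ V).ι (isPullback_morphismRestrict f V).flip w]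
  exact hVU w.2

end Groth.Agent.S12458
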