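import Groth.Statements.S12459
-- import your own Groth.Agent.* helpers here
import Mathlib
import Groth.Agent.S12446
import Groth.Agent.Lib.Helper13Cat
import Groth.Agent.Lib.Helper10Catenary2

set_option autoImplicit false
universe u
open CategoryTheory AlgebraicGeometry
open Props

namespace Groth.Agent.S12459

theorem catenary_stalk_of_uc {S X : Scheme.{u}} (f : X ⟶ S) [LocallyOfFiniteType f] (x : X)
    (h : CAlg.IsUniversallyCatenary (S.presheaf.stalk (f x))) :
    CAlg.IsCatenary (X.presheaf.stalk x) := by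
  obtain ⟨V, hV, hsV, -⟩ :=
    exists_isAffineOpen_mem_and_subset (X := S) (x := f x) (U := ⊤) trivial
  obtain ⟨U, hU, hxU, hUV⟩ :=
    exists_isAffineOpen_mem_and_subset (X := X) (x := x) (U := f ⁻¹ᵁ V) hsV
  let φ : Γ(S, V) →+* Γ(X, U) := (f.appLE V U hUV).hom
  have hφ : φ.FiniteType := LocallyOfFiniteType.finiteType_appLE f hV hU hUV
  letI := TopCat.Presheaf.algebra_section_stalk S.presheaf ⟨f x, hsV⟩
  letI := TopCat.Presheaf.algebra_section_stalk X.presheaf ⟨x, hxU⟩
  haveI hlocS : IsLocalization.AtPrime (S.presheaf.stalk (f x))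
      (hV.primeIdealOf ⟨f x, hsV⟩).asIdeal := hV.isLocalization_stalk ⟨f x, hsV⟩
  haveI hlocX : IsLocalization.AtPrime (X.presheaf.stalk x)
      (hU.primeIdealOf ⟨x, hxU⟩).asIdeal := hU.isLocalization_stalk ⟨x, hxU⟩
  let M : Submonoid Γ(S, V) := (hV.primeIdealOf ⟨f x, hsV⟩).asIdeal.primeCompl
  let N : Submonoid Γ(X, U) := (hU.primeIdealOf ⟨x, hxU⟩).asIdeal.primeCompl
  let S' := Localization (M.map φ)
  let ψ : S.presheaf.stalk (f x) →+* S' := IsLocalization.map S' φ (Submonoid.le_comap_map M)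
  have hψ : ψ.FiniteType :=
    RingHom.finiteType_localizationPreserves φ M (S.presheaf.stalk (f x)) S' hφ
  letI := ψ.toAlgebra
  have hS' : CAlg.IsCatenary S' := h.2 S' hψ
  have hMN : M.map φ ≤ N := by
    rintro _ ⟨a, ha, rfl⟩
    have h1 : IsUnit (algebraMap Γ(S, V) (S.presheaf.stalk (f x)) a) :=
      IsLocalization.map_units (S.presheaf.stalk (f x)) (⟨a, ha⟩ : M)
    have h2 : IsUnit ((f.stalkMap x).hom (algebraMap Γ(S, V) (S.presheaf.stalk (f x)) a)) :=
      h1.map _
    have h3 : (f.stalkMap x).hom (algebraMap Γ(S, V) (S.presheaf.stalk (f x)) a) =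
        algebraMap Γ(X, U) (X.presheaf.stalk x) (φ a) := by
      have e1 : f.appLE V U hUV ≫ X.presheaf.germ U x hxU =
          S.presheaf.germ V (f x) hsV ≫ f.stalkMap x := by
        simp only [Scheme.Hom.appLE, Category.assoc, X.presheaf.germ_res', Scheme.Hom.germ_stalkMap]
      exact (congrArg (fun t => t.hom a) e1).symm
    rw [h3] at h2
    exact (IsLocalization.AtPrime.isUnit_to_map_iff (X.presheaf.stalk x)
      (hU.primeIdealOf ⟨x, hxU⟩).asIdeal (φ a)).mp h2
  letI : Algebra S' (X.presheaf.stalk x) :=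
    IsLocalization.localizationAlgebraOfSubmonoidLe S' (X.presheaf.stalk x) (M.map φ) N hMN
  haveI : IsScalarTower Γ(X, U) S' (X.presheaf.stalk x) :=
    IsLocalization.localization_isScalarTower_of_submonoid_le S' (X.presheaf.stalk x) (M.map φ) N hMN
  haveI : IsLocalization (N.map (algebraMap Γ(X, U) S')) (X.presheaf.stalk x) :=
    IsLocalization.isLocalization_of_submonoid_le S' (X.presheaf.stalk x) (M.map φ) N hMN
  exact Groth.Agent.Helper13Cat.isCatenary_of_isLocalization S' (N.map (algebraMap Γ(X, U) S'))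
    (X.presheaf.stalk x) hS'

theorem uc_stalk_of_catenary (S : Scheme.{u}) [IsLocallyNoetherian S]
    (h : ∀ (X : Scheme.{u}) (f : X ⟶ S), LocallyOfFiniteType f → PtTop.IsCatenarySpace X) (s : S) :
    CAlg.IsUniversallyCatenary (S.presheaf.stalk s) := by
  refine ⟨inferInstance, ?_⟩
  intro C _ _ hC
  obtain ⟨V, hV, hsV, -⟩ :=
    exists_isAffineOpen_mem_and_subset (X := S) (x := s) (U := ⊤) trivial
  letI := TopCat.Presheaf.algebra_section_stalk S.presheaf ⟨s, hsV⟩
  haveI hloc : IsLocalization.AtPrime (S.presheaf.stalk s)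
      (hV.primeIdealOf ⟨s, hsV⟩).asIdeal := hV.isLocalization_stalk ⟨s, hsV⟩
  let M : Submonoid Γ(S, V) := (hV.primeIdealOf ⟨s, hsV⟩).asIdeal.primeCompl
  letI : Algebra Γ(S, V) C :=
    ((algebraMap (S.presheaf.stalk s) C).comp
      (algebraMap Γ(S, V) (S.presheaf.stalk s))).toAlgebra
  haveI : IsScalarTower Γ(S, V) (S.presheaf.stalk s) C :=
    IsScalarTower.of_algebraMap_eq (fun _ => rfl)
  obtain ⟨t, ht⟩ := hC.out
  let C₀ : Subalgebra Γ(S, V) C := Algebra.adjoin Γ(S, V) (t : Set C)
  have hC₀ft : Algebra.FiniteType Γ(S, V) C₀ :=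
    (Subalgebra.fg_iff_finiteType _).mp (Subalgebra.fg_adjoin_finset t)
  have hcat₀ : CAlg.IsCatenary C₀ := by
    rw [← Groth.Agent.Lib.Helper10.Catenary2.isCatenarySpace_primeSpectrum_iff]
    have h1 : LocallyOfFiniteType (Spec.map (CommRingCat.ofHom (algebraMap Γ(S, V) C₀))) := by
      rw [HasRingHomProperty.Spec_iff (P := @LocallyOfFiniteType)]
      exact RingHom.finiteType_algebraMap.mpr hC₀ft
    exact h _ (Spec.map (CommRingCat.ofHom (algebraMap Γ(S, V) C₀)) ≫ hV.fromSpec) inferInstance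
  have hsurj : ∀ z : C, ∃ a ∈ M, z * algebraMap Γ(S, V) C a ∈ C₀ := by
    intro z
    have hz : z ∈ Algebra.adjoin (S.presheaf.stalk s) (t : Set C) := by rw [ht]; trivial
    induction hz using Algebra.adjoin_induction with
    | mem z hz =>
      exact ⟨1, Submonoid.one_mem _, by simpa using Algebra.subset_adjoin hz⟩
    | algebraMap r =>
      obtain ⟨⟨a', m⟩, hm⟩ := IsLocalization.surj M r
      refine ⟨m, m.2, ?_⟩
      have : algebraMap (S.presheaf.stalk s) C r * algebraMap Γ(S, V) C m =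
          algebraMap Γ(S, V) C a' := by
        rw [IsScalarTower.algebraMap_apply Γ(S, V) (S.presheaf.stalk s) C, ← map_mul, hm,
          ← IsScalarTower.algebraMap_apply]
      rw [this]
      exact Subalgebra.algebraMap_mem _ _
    | add z1 z2 _ _ h1 h2 =>
      obtain ⟨a1, ha1, h1⟩ := h1
      obtain ⟨a2, ha2, h2⟩ := h2
      refine ⟨a1 * a2, Submonoid.mul_mem _ ha1 ha2, ?_⟩
      have : (z1 + z2) * algebraMap Γ(S, V) C (a1 * a2) =
          (z1 * algebraMap Γ(S, V) C a1) * algebraMap Γ(S, V) C a2 +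
          (z2 * algebraMap Γ(S, V) C a2) * algebraMap Γ(S, V) C a1 := by
        rw [map_mul]; ring
      rw [this]
      exact Subalgebra.add_mem _ (Subalgebra.mul_mem _ h1 (Subalgebra.algebraMap_mem _ _))
        (Subalgebra.mul_mem _ h2 (Subalgebra.algebraMap_mem _ _))
    | mul z1 z2 _ _ h1 h2 =>
      obtain ⟨a1, ha1, h1⟩ := h1
      obtain ⟨a2, ha2, h2⟩ := h2
      refine ⟨a1 * a2, Submonoid.mul_mem _ ha1 ha2, ?_⟩
      have : (z1 * z2) * algebraMap Γ(S, V) C (a1 * a2) =
          (z1 * algebraMap Γ(S, V) C a1) * (z2 * algebraMap Γ(S, V) C a2) := by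
        rw [map_mul]; ring
      rw [this]
      exact Subalgebra.mul_mem _ h1 h2
  haveI : IsLocalization (Algebra.algebraMapSubmonoid C₀ M) C := by
    refine (isLocalization_iff _ _).mpr ⟨?_, ?_, ?_⟩
    · rintro ⟨_, a, ha, rfl⟩
      show IsUnit (algebraMap C₀ C (algebraMap Γ(S, V) C₀ a))
      rw [← IsScalarTower.algebraMap_apply Γ(S, V) C₀ C,
        IsScalarTower.algebraMap_apply Γ(S, V) (S.presheaf.stalk s) C]
      exact (IsLocalization.map_units (S.presheaf.stalk s) (⟨a, ha⟩ : M)).map _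
    · intro z
      obtain ⟨a, ha, hz⟩ := hsurj z
      exact ⟨(⟨_, hz⟩, ⟨algebraMap Γ(S, V) C₀ a, a, ha, rfl⟩), rfl⟩
    · intro x y hxy
      have : x = y := Subtype.ext hxy
      exact ⟨1, by rw [this]⟩
  exact Groth.Agent.Helper13Cat.isCatenary_of_isLocalization C₀ (Algebra.algebraMapSubmonoid C₀ M)
    C hcat₀

/-- For a locally Noetherian scheme S, the scheme S is universally catenary — every scheme X locally of
finite type over S has catenary underlying topological space — if and only if all local rings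
O_{S,s} are universally catenary rings. (Schemes X over S are taken in the universe of S.) -/
theorem result (S : Scheme.{u}) [IsLocallyNoetherian S] :
    (∀ (X : Scheme.{u}) (f : X ⟶ S), LocallyOfFiniteType f → PtTop.IsCatenarySpace X) ↔
      ∀ s : S, CAlg.IsUniversallyCatenary (S.presheaf.stalk s) := by
  constructor
  · intro h s
    exact uc_stalk_of_catenary S h s
  · intro h X f hf
    rw [Groth.Agent.S12446.result X]
    intro x
    exact catenary_stalk_of_uc f x (h (f x))

end Groth.Agent.S12459
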