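import Groth.Statements.S12460
import Mathlib

set_option autoImplicit false
universe u
open CategoryTheory AlgebraicGeometry
open Props

namespace Groth.Agent.S12460
open CategoryTheory CategoryTheory.Limits AlgebraicGeometry

theorem reg_spec_iff (R : Type u) [CommRing R] (x : Spec (CommRingCat.of R)) :
    IsRegularLocalRing ((Spec (CommRingCat.of R)).presheaf.stalk x) ↔ x ∈ EGA4.regLocus R := by
  let k : Algebra R ((Spec (CommRingCat.of R)).presheaf.stalk x) :=
    StructureSheaf.stalkAlgebra R x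
  have : IsLocalization.AtPrime ((Spec (CommRingCat.of R)).presheaf.stalk x) x.asIdeal :=
    StructureSheaf.IsLocalization.to_stalk R x
  let e : Localization.AtPrime x.asIdeal ≃ₐ[R] ((Spec (CommRingCat.of R)).presheaf.stalk x) :=
    IsLocalization.algEquiv x.asIdeal.primeCompl _ _
  constructor
  · intro h
    exact IsRegularLocalRing.of_ringEquiv e.symm.toRingEquiv
  · intro h
    have h' : IsRegularLocalRing (Localization.AtPrime x.asIdeal) := h
    exact IsRegularLocalRing.of_ringEquiv e.toRingEquiv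

theorem reg_openImm_iff {Y : Scheme.{u}} (R : Type u) [CommRing R]
    (j : Spec (CommRingCat.of R) ⟶ Y) [IsOpenImmersion j] (x : Spec (CommRingCat.of R)) :
    IsRegularLocalRing (Y.presheaf.stalk (j x)) ↔ x ∈ EGA4.regLocus R := by
  rw [← reg_spec_iff]
  let e := (asIso (j.stalkMap x)).commRingCatIsoToRingEquiv
  exact ⟨fun h => IsRegularLocalRing.of_ringEquiv e, fun h => IsRegularLocalRing.of_ringEquiv e.symm⟩


/-- (1) ⇔ (3) ⇔ (4): let X be a locally Noetherian scheme. Then X is J-2 — for every morphism Y → X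
locally of finite type the set of points y with O_{Y,y} a regular local ring is open in Y — if and
only if for every affine open U of X the ring Γ(X, U) is J-2 (every finite type algebra over it has
open regular locus), if and only if every point of X lies in such an affine open. (Schemes Y over X
are taken in the universe of X.) -/
theorem result (X : Scheme.{u}) [IsLocallyNoetherian X] :
    ((∀ (Y : Scheme.{u}) (g : Y ⟶ X), LocallyOfFiniteType g →
        IsOpen {y : Y | IsRegularLocalRing (Y.presheaf.stalk y)}) ↔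
      ∀ U : X.affineOpens, EGA4.IsJ2 Γ(X, U)) ∧
    ((∀ (Y : Scheme.{u}) (g : Y ⟶ X), LocallyOfFiniteType g →
        IsOpen {y : Y | IsRegularLocalRing (Y.presheaf.stalk y)}) ↔
      ∀ x : X, ∃ U : X.affineOpens, x ∈ (U : X.Opens) ∧ EGA4.IsJ2 Γ(X, U)) := by
  have h13 : (∀ (Y : Scheme.{u}) (g : Y ⟶ X), LocallyOfFiniteType g →
        IsOpen {y : Y | IsRegularLocalRing (Y.presheaf.stalk y)}) →
      ∀ U : X.affineOpens, EGA4.IsJ2 Γ(X, U) := by
    intro hQ U S _ _ hft
    have hlft : LocallyOfFiniteType (Spec.map (CommRingCat.ofHom (algebraMap Γ(X, U) S))) := by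
      rw [HasRingHomProperty.Spec_iff (P := @LocallyOfFiniteType)]
      exact RingHom.finiteType_algebraMap.mpr hft
    have := hQ (Spec (CommRingCat.of S))
      (Spec.map (CommRingCat.ofHom (algebraMap Γ(X, U) S)) ≫ U.2.fromSpec) inferInstance
    have heq : EGA4.regLocus S = {y : Spec (CommRingCat.of S) |
        IsRegularLocalRing ((Spec (CommRingCat.of S)).presheaf.stalk y)} := by
      ext x
      exact (reg_spec_iff S x).symm
    rw [heq]
    exact this
  have h34 : (∀ U : X.affineOpens, EGA4.IsJ2 Γ(X, U)) →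
      ∀ x : X, ∃ U : X.affineOpens, x ∈ (U : X.Opens) ∧ EGA4.IsJ2 Γ(X, U) := by
    intro h x
    obtain ⟨_, ⟨U, hU, rfl⟩, hxU, -⟩ :=
      X.isBasis_affineOpens.exists_subset_of_mem_open (Set.mem_univ x) isOpen_univ
    exact ⟨⟨U, hU⟩, hxU, h ⟨U, hU⟩⟩
  have h41 : (∀ x : X, ∃ U : X.affineOpens, x ∈ (U : X.Opens) ∧ EGA4.IsJ2 Γ(X, U)) →
      (∀ (Y : Scheme.{u}) (g : Y ⟶ X), LocallyOfFiniteType g →
        IsOpen {y : Y | IsRegularLocalRing (Y.presheaf.stalk y)}) := by
    intro h Y g hg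
    rw [isOpen_iff_forall_mem_open]
    intro y hy
    obtain ⟨U, hxU, hJ⟩ := h (g y)
    obtain ⟨_, ⟨V, hV, rfl⟩, hyV, hVU⟩ :=
      Y.isBasis_affineOpens.exists_subset_of_mem_open (show y ∈ (g ⁻¹ᵁ U.1 : Set Y) from hxU)
        (g ⁻¹ᵁ U.1).isOpen
    have hft : (g.appLE U.1 V hVU).hom.FiniteType :=
      HasRingHomProperty.appLE (P := @LocallyOfFiniteType) g hg U ⟨V, hV⟩ hVU
    algebraize [(g.appLE U.1 V hVU).hom]
    have hopen : IsOpen (EGA4.regLocus Γ(Y, V)) := hJ Γ(Y, V) inferInstance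
    refine ⟨hV.fromSpec '' (EGA4.regLocus Γ(Y, V)), ?_, hV.fromSpec.isOpenEmbedding.isOpenMap _ hopen, ?_⟩
    · rintro _ ⟨p, hp, rfl⟩
      exact (reg_openImm_iff Γ(Y, V) hV.fromSpec p).mpr hp
    · have hy' : y ∈ Set.range hV.fromSpec := by rw [hV.range_fromSpec]; exact hyV
      obtain ⟨p, rfl⟩ := hy'
      exact ⟨p, (reg_openImm_iff Γ(Y, V) hV.fromSpec p).mp hy, rfl⟩
  exact ⟨⟨h13, fun h => h41 (h34 h)⟩, ⟨fun h => h34 (h13 h), h41⟩⟩

end Groth.Agent.S12460
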