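import Groth.Statements.S12463
import Groth.Agent.Lib.Helper3WedgeB
import Groth.Agent.Lib.Helper3DeltaD
import Groth.Agent.Lib.Helper4TotalFrac
import Mathlib

set_option autoImplicit false
set_option linter.style.haveILetI false
universe u
open Variety

namespace Groth.Agent.S12463

-- congruent elements have the same image in the residue field of the localization
theorem residue_eq_of_sub_mem {R : Type*} [CommRing R] (p : Ideal R) [p.IsPrime] (x y : R)
    (h : x - y ∈ p) :
    IsLocalRing.residue (Localization.AtPrime p) (algebraMap R _ x) =
      IsLocalRing.residue (Localization.AtPrime p) (algebraMap R _ y) := by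
  rw [← sub_eq_zero, ← map_sub, ← map_sub, IsLocalRing.residue_eq_zero_iff,
    IsLocalization.AtPrime.to_map_mem_maximal_iff _ p]
  exact h

/-- Let (A, m) be a strictly henselian reduced Nagata local ring of dimension one with δ-invariant equal
to the number of geometric branches minus one, and A' the integral closure of A in its total ring of
fractions. Then A is a wedge of discrete valuation rings: for every maximal ideal m' of A' the
localization A'_{m'} is a discrete valuation ring whose residue field is the image of A, and A
consists exactly of the elements of A' congruent to an element of A modulo every maximal ideal of A'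
(the displayed inclusion; the reverse inclusion is trivial). (The inequality δ ≥ branches − 1 of the
published statement holds for every reduced Nagata local ring of dimension one and is not restated.) -/
theorem result (A : Type u) [CommRing A] [HenselianLocalRing A]
    [IsSepClosed (IsLocalRing.ResidueField A)] [IsReduced A] (hN : CAlg.IsNagata A) (hdim : ringKrullDim A = 1)
    (heq : Curv2.deltaInv A + 1 = Brnch.numGeomBranches A) :
    (∀ m' : MaximalSpectrum ↥(integralClosure A (FractionRing A)),
        (∃ _ : IsDomain (Localization.AtPrime m'.asIdeal), IsDiscreteValuationRing (Localization.AtPrime m'.asIdeal)) ∧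
        Function.Surjective (⇑(IsLocalRing.residue (Localization.AtPrime m'.asIdeal)) ∘
          ⇑(algebraMap ↥(integralClosure A (FractionRing A)) (Localization.AtPrime m'.asIdeal)) ∘
          ⇑(algebraMap A ↥(integralClosure A (FractionRing A))))) ∧
    ∀ a' : ↥(integralClosure A (FractionRing A)),
      (∃ a : A, ∀ m' : MaximalSpectrum ↥(integralClosure A (FractionRing A)),
          a' - algebraMap A _ a ∈ m'.asIdeal) →
      a' ∈ (algebraMap A ↥(integralClosure A (FractionRing A))).range := by
  haveI : IsNoetherianRing A := hN.1
  haveI hfinA : Module.Finite A (integralClosure A (FractionRing A)) :=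
    Groth.Agent.Lib.Helper4.TotalFrac.finite_normalization hN
  haveI hKD : Ring.KrullDimLE 1 A := Ring.krullDimLE_iff.mpr hdim.le
  have hmin : (minimalPrimes A).Finite := minimalPrimes.finite_of_isNoetherianRing A
  have hbij : Function.Bijective (Ideal.Quotient.mk (nilradical A)) := by
    refine ⟨?_, Ideal.Quotient.mk_surjective⟩
    rw [injective_iff_map_eq_zero]
    intro a ha
    rw [Ideal.Quotient.eq_zero_iff_mem, nilradical_eq_zero] at ha
    exact ha
  let ρ : A ≃+* CAlg2.red A := RingEquiv.ofBijective (Ideal.Quotient.mk (nilradical A)) hbij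
  letI algAB : Algebra A (CAlg2.normRed A) :=
    ((algebraMap (CAlg2.red A) (CAlg2.normRed A)).comp (Ideal.Quotient.mk (nilradical A))).toAlgebra
  obtain ⟨hfinB, hlen⟩ := Groth.Agent.Lib.Helper4.Branches.finite_and_length_eq ρ
    (show algebraMap A (CAlg2.normRed A) = _ from rfl)
  have hδfin : Curv2.deltaInv A < ⊤ := Groth.Agent.Lib.Helper4.TotalFrac.length_quotient_lt_top
  unfold Brnch.numGeomBranches at heq
  rw [if_pos hmin] at heq
  have hfin : Module.length A (CAlg2.normRed A ⧸
      LinearMap.range (Algebra.linearMap A (CAlg2.normRed A))) < ⊤ := by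
    rw [hlen]; exact hδfin
  obtain ⟨hW1, hW2⟩ := Groth.Agent.Lib.Helper3.Wedge.wedge_of_card_ge (A := A)
    (B := CAlg2.normRed A) (Ω := AlgebraicClosure (IsLocalRing.ResidueField A)) hfin
    (by rw [hlen]; exact heq.le)
  obtain ⟨e, he⟩ : ∃ e : integralClosure A (FractionRing A) ≃+* CAlg2.normRed A,
      ∀ a : A, e (algebraMap A _ a) = algebraMap A (CAlg2.normRed A) a :=
    ⟨Groth.Agent.Lib.Helper4.Branches.normalizationEquiv ρ, fun a => by
      rw [Groth.Agent.Lib.Helper4.Branches.normalizationEquiv_algebraMap]; rfl⟩
  -- congruence to elements of `A` modulo each maximal ideal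
  have hres : ∀ (m' : MaximalSpectrum ↥(integralClosure A (FractionRing A)))
      (a' : ↥(integralClosure A (FractionRing A))),
      ∃ a : A, a' - algebraMap A _ a ∈ m'.asIdeal := by
    intro m' a'
    haveI := m'.isMaximal
    obtain ⟨a, ha⟩ := hW1 ⟨m'.asIdeal.comap e.symm, Ideal.comap_isMaximal_of_equiv e.symm⟩ (e a')
    refine ⟨a, ?_⟩
    change e.symm (e a' - algebraMap A (CAlg2.normRed A) a) ∈ m'.asIdeal at ha
    rw [← he, ← map_sub, RingEquiv.symm_apply_apply] at ha
    exact ha
  refine ⟨fun m' => ⟨?_, ?_⟩, ?_⟩
  · -- DVR
    haveI := m'.isMaximal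
    obtain ⟨hD, hV⟩ :=
      Groth.Agent.Lib.Helper3.Delta.valuationRing_localization_normalization A hN m'.asIdeal
    haveI := hD
    haveI := hV
    haveI : IsNoetherianRing (integralClosure A (FractionRing A)) :=
      isNoetherian_of_tower A (isNoetherian_of_isNoetherianRing_of_finite A _)
    haveI : IsNoetherianRing (Localization.AtPrime m'.asIdeal) :=
      IsLocalization.isNoetherianRing m'.asIdeal.primeCompl _ inferInstance
    have hnotfield : ¬ IsField A := by
      intro hF
      have := ringKrullDim_eq_zero_of_isField hF
      rw [hdim] at this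
      exact one_ne_zero this
    obtain ⟨a, ham, hanzd⟩ :=
      Groth.Agent.Lib.Helper3.Wedge.exists_nonZeroDivisor_mem_maximalIdeal A hnotfield
    have hnf : ¬ IsField (Localization.AtPrime m'.asIdeal) := by
      intro hF
      have hbot := (IsLocalRing.isField_iff_maximalIdeal_eq.mp hF)
      have hmem : algebraMap A (integralClosure A (FractionRing A)) a ∈ m'.asIdeal := by
        have : a ∈ m'.asIdeal.comap (algebraMap A _) := by
          rw [Groth.Agent.Lib.Helper4.Branches.comap_eq_maximalIdeal]; exact ham
        exact this
      have h0 : algebraMap (integralClosure A (FractionRing A)) (Localization.AtPrime m'.asIdeal)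
          (algebraMap A _ a) = 0 := by
        have : algebraMap (integralClosure A (FractionRing A)) (Localization.AtPrime m'.asIdeal)
            (algebraMap A _ a) ∈ IsLocalRing.maximalIdeal (Localization.AtPrime m'.asIdeal) :=
          (IsLocalization.AtPrime.to_map_mem_maximal_iff _ m'.asIdeal _).mpr hmem
        rw [hbot] at this
        exact this
      rw [IsLocalization.map_eq_zero_iff m'.asIdeal.primeCompl] at h0
      obtain ⟨s, hs⟩ := h0
      have hs0 : (s : integralClosure A (FractionRing A)) = 0 := by
        apply Subtype.ext
        have h1 := congrArg Subtype.val hs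
        simp only [MulMemClass.coe_mul, ZeroMemClass.coe_zero] at h1
        have hu : IsUnit (algebraMap A (FractionRing A) a) :=
          IsLocalization.map_units (FractionRing A) ⟨a, hanzd⟩
        have h2 : ((algebraMap A (integralClosure A (FractionRing A)) a : _) : FractionRing A) =
            algebraMap A (FractionRing A) a := rfl
        rw [h2] at h1
        rw [mul_comm] at h1
        exact (hu.mul_right_eq_zero).mp h1
      exact s.2 (hs0 ▸ Ideal.zero_mem _)
    exact ⟨hD, ((IsDiscreteValuationRing.TFAE _ hnf).out 0 1).mpr hV⟩
  · -- residue field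
    haveI := m'.isMaximal
    intro y
    obtain ⟨a', ha'⟩ := Ideal.algebraMap_residueField_surjective m'.asIdeal y
    obtain ⟨a, ha⟩ := hres m' a'
    refine ⟨a, ?_⟩
    rw [← ha']
    show IsLocalRing.residue _ (algebraMap _ (Localization.AtPrime m'.asIdeal) (algebraMap A _ a)) =
      IsLocalRing.residue _ (algebraMap _ (Localization.AtPrime m'.asIdeal) a')
    symm
    exact residue_eq_of_sub_mem m'.asIdeal _ _ ha
  · -- wedge
    rintro a' ⟨a, ha⟩
    have hb : ∀ n : MaximalSpectrum (CAlg2.normRed A),
        e (a' - algebraMap A _ a) ∈ n.asIdeal := by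
      intro n
      haveI := n.isMaximal
      have := ha ⟨n.asIdeal.comap e, Ideal.comap_isMaximal_of_equiv e⟩
      exact this
    obtain ⟨a₂, ha₂⟩ := hW2 _ hb
    refine ⟨a + a₂, ?_⟩
    apply e.injective
    rw [map_add, map_add, he, he, ha₂, map_sub, he]
    ring

end Groth.Agent.S12463
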