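import Groth.Statements.S12482
import Mathlib

set_option autoImplicit false
universe u
open Dual

namespace Groth.Agent.S12482

open RingTheory.Sequence

theorem rel {A : Type u} [CommRing A] : ∀ (p : ℕ) (x : Fin p → A),
    IsWeaklyRegular A (List.ofFn x) → ∀ a : Fin p → A,
    ∑ i, a i * x i = 0 → ∀ i, a i ∈ Ideal.span (Set.range x)
  | 0, x, _, a, _ => fun i => i.elim0
  | p + 1, x, hreg, a, hsum => by
    have hofn : List.ofFn x = List.ofFn (fun i : Fin p => x i.castSucc) ++ [x (Fin.last p)] := by
      rw [List.ofFn_succ', List.concat_eq_append]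
    rw [hofn, isWeaklyRegular_append_iff, isWeaklyRegular_singleton_iff] at hreg
    set x' : Fin p → A := fun i => x i.castSucc with hx'
    have hJ' : (Ideal.ofList (List.ofFn x') • ⊤ : Submodule A A) = Ideal.span (Set.range x') := by
      rw [smul_eq_mul, Ideal.mul_top]
      unfold Ideal.ofList
      congr 1
      ext r
      simp [List.mem_ofFn]
    have hle : Ideal.span (Set.range x') ≤ Ideal.span (Set.range x) :=
      Ideal.span_mono (by rintro _ ⟨i, rfl⟩; exact ⟨i.castSucc, rfl⟩)
    rw [Fin.sum_univ_castSucc] at hsum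
    have h1 : a (Fin.last p) * x (Fin.last p) ∈ Ideal.span (Set.range x') := by
      have : a (Fin.last p) * x (Fin.last p) = -∑ i : Fin p, a i.castSucc * x' i := by
        linear_combination hsum
      rw [this]
      exact neg_mem (sum_mem fun i _ => Ideal.mul_mem_left _ _ (Ideal.subset_span ⟨i, rfl⟩))
    have h2 : a (Fin.last p) ∈ Ideal.span (Set.range x') := by
      have hr := hreg.2
      have h3 : x (Fin.last p) • (Submodule.Quotient.mk (a (Fin.last p)) :
          A ⧸ (Ideal.ofList (List.ofFn x') • ⊤ : Submodule A A)) = x (Fin.last p) • 0 := by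
        rw [smul_zero, ← Submodule.Quotient.mk_smul, Submodule.Quotient.mk_eq_zero, hJ',
          smul_eq_mul, mul_comm]
        exact h1
      have h4 := hr h3
      rw [Submodule.Quotient.mk_eq_zero, hJ'] at h4
      exact h4
    obtain ⟨d, hd⟩ := (Ideal.mem_span_range_iff_exists_fun).mp h2
    have ih := rel p x' hreg.1 (fun i => a i.castSucc + d i * x (Fin.last p)) (by
      have : ∑ i, (a i.castSucc + d i * x (Fin.last p)) * x' i =
          ∑ i : Fin p, a i.castSucc * x' i + x (Fin.last p) * ∑ i, d i * x' i := by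
        rw [Finset.mul_sum, ← Finset.sum_add_distrib]
        refine Finset.sum_congr rfl fun i _ => ?_
        ring
      rw [this, hd]
      linear_combination hsum)
    have hx_last : x (Fin.last p) ∈ Ideal.span (Set.range x) := Ideal.subset_span ⟨_, rfl⟩
    intro i
    refine Fin.lastCases ?_ ?_ i
    · exact hle h2
    · intro j
      have h5 : a j.castSucc = (a j.castSucc + d j * x (Fin.last p)) - d j * x (Fin.last p) := by
        ring
      rw [h5]
      exact sub_mem (hle (ih j)) (Ideal.mul_mem_left _ _ hx_last)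

theorem sq_rep {A : Type u} [CommRing A] (p : ℕ) (x : Fin p → A) (y : A)
    (hy : y ∈ Ideal.span (Set.range x) ^ 2) :
    ∃ c : Fin p → A, (∀ i, c i ∈ Ideal.span (Set.range x)) ∧ ∑ i, c i * x i = y := by
  rw [pow_two, ← smul_eq_mul] at hy
  refine Submodule.smul_induction_on hy ?_ ?_
  · intro r hr s hs
    obtain ⟨d, rfl⟩ := (Ideal.mem_span_range_iff_exists_fun).mp hs
    refine ⟨fun i => r * d i, fun i => Ideal.mul_mem_right _ _ hr, ?_⟩
    rw [smul_eq_mul, Finset.mul_sum]
    exact Finset.sum_congr rfl fun i _ => by ring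
  · rintro y₁ y₂ ⟨c₁, h₁, rfl⟩ ⟨c₂, h₂, rfl⟩
    refine ⟨fun i => c₁ i + c₂ i, fun i => add_mem (h₁ i) (h₂ i), ?_⟩
    rw [← Finset.sum_add_distrib]
    exact Finset.sum_congr rfl fun i _ => by ring

/-- Let `A` be a commutative ring, `x_1, …, x_p` a sequence of elements of `A` such that each `x_i` is a
non-zero-divisor on `A/(x_1, …, x_{i-1})`, and `J` the ideal generated by the `x_i`. Then `J/J²` is
a free `(A/J)`-module with basis the classes of the `x_i`: there is a basis of `J/J²` over `A/J`,
indexed by `1, …, p`, whose `i`-th vector is the class of `x_i`. (The other assertions of the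
published statement, on the Koszul complex and on Ext and Tor against `A/J`, are stated separately.) -/
theorem result (A : Type u) [CommRing A] (p : ℕ) (x : Fin p → A)
    (hreg : RingTheory.Sequence.IsWeaklyRegular A (List.ofFn x)) :
    ∃ b : Module.Basis (Fin p) (A ⧸ Ideal.span (Set.range x)) (Ideal.span (Set.range x)).Cotangent,
      ∀ i, b i = (Ideal.span (Set.range x)).toCotangent ⟨x i, Ideal.subset_span (Set.mem_range_self i)⟩ := by
  set J := Ideal.span (Set.range x) with hJ
  let v : Fin p → J.Cotangent :=
    fun i => J.toCotangent ⟨x i, Ideal.subset_span (Set.mem_range_self i)⟩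
  have hmk : ∀ (d : A) (m : J.Cotangent), Ideal.Quotient.mk J d • m = d • m := by
    intro d m
    rw [← Ideal.Quotient.algebraMap_eq, algebraMap_smul]
  have hsum : ∀ a : Fin p → A, ∑ i, Ideal.Quotient.mk J (a i) • v i =
      J.toCotangent ⟨∑ i, a i * x i,
        sum_mem fun i _ => Ideal.mul_mem_left _ _ (Ideal.subset_span (Set.mem_range_self i))⟩ := by
    intro a
    have : (⟨∑ i, a i * x i, sum_mem fun i _ => Ideal.mul_mem_left _ _
        (Ideal.subset_span (Set.mem_range_self i))⟩ : J) =
        ∑ i, a i • (⟨x i, Ideal.subset_span (Set.mem_range_self i)⟩ : J) := by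
      ext
      simp
    rw [this, map_sum]
    refine Finset.sum_congr rfl fun i _ => ?_
    rw [hmk, map_smul]
  have hli : LinearIndependent (A ⧸ J) v := by
    rw [Fintype.linearIndependent_iff]
    intro g hg i
    choose a ha using fun i => Ideal.Quotient.mk_surjective (g i)
    have h1 : ∑ i, g i • v i = ∑ i, Ideal.Quotient.mk J (a i) • v i := by
      simp only [ha]
    rw [h1, hsum, Ideal.toCotangent_eq_zero] at hg
    obtain ⟨c, hc, hcs⟩ := sq_rep p x _ hg
    have h2 := rel p x hreg (fun i => a i - c i) (by
      simp only [sub_mul, Finset.sum_sub_distrib]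
      rw [hcs]
      simp) i
    have h3 : a i ∈ J := by
      have := add_mem h2 (hc i)
      simpa using this
    rw [← ha i, Ideal.Quotient.eq_zero_iff_mem]
    exact h3
  have hsp : ⊤ ≤ Submodule.span (A ⧸ J) (Set.range v) := by
    intro m _
    obtain ⟨⟨y, hy⟩, rfl⟩ := J.toCotangent_surjective m
    obtain ⟨d, hd⟩ := (Ideal.mem_span_range_iff_exists_fun).mp hy
    have : J.toCotangent ⟨y, hy⟩ = ∑ i, Ideal.Quotient.mk J (d i) • v i := by
      rw [hsum]
      congr 1
      exact Subtype.ext hd.symm
    rw [this]
    exact sum_mem fun i _ => Submodule.smul_mem _ _ (Submodule.subset_span ⟨i, rfl⟩)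
  exact ⟨Module.Basis.mk hli hsp, fun i => by rw [Module.Basis.mk_apply]⟩

end Groth.Agent.S12482
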