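import Groth.Statements.S12483
import Groth.Agent.Lib.Helper21ExtLocFree

set_option autoImplicit false
universe u
open CategoryTheory CategoryTheory.Limits AlgebraicGeometry
open Coherent

namespace Groth.Agent.S12483

open Groth.Agent.Lib.Helper21 Groth.Agent.Lib.Helper21.ExtShDelta
  Groth.Agent.Lib.Helper21.ExtShLocFree Groth.Agent.Lib.Helper21.ExtLocFree
  Groth.Agent.Lib.Helper21.ModTensor3 Groth.Agent.Lib.Helper21.ModTensor5

/-- `DCoh.sheafHom F ≅ ModSite.sheafHom F`. -/
noncomputable def sheafHomIso {X : Scheme.{u}} (F : ModSite.Mod X.sheaf) [DCoh.HasSheafHom F]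
    [ModSite.HasSheafHom (O := X.sheaf) F] :
    (DCoh.sheafHom F : ModSite.Mod X.sheaf ⥤ ModSite.Mod X.sheaf) ≅
      ModSite.sheafHom (O := X.sheaf) F :=
  let e : tL X.sheaf F ≅ tR X.sheaf F := (brd X.sheaf).app F
  let adj₁ : tL X.sheaf F ⊣ (DCoh.sheafHom F : ModSite.Mod X.sheaf ⥤ ModSite.Mod X.sheaf) :=
    DCoh.sheafHomAdj F
  let adj₂ : tL X.sheaf F ⊣ ModSite.sheafHom (O := X.sheaf) F :=
    (ModSite.sheafHomAdj (O := X.sheaf) F).ofNatIsoLeft e.symm
  adj₁.rightAdjointUniq adj₂

/-- `Ext` is invariant under isomorphisms in the second variable. -/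
noncomputable def extAddEquivRight {𝒜 : Type*} [Category 𝒜] [Abelian 𝒜] [HasExt.{u} 𝒜] (Z : 𝒜)
    {Y Y' : 𝒜} (e : Y ≅ Y') (n : ℕ) : Abelian.Ext.{u} Z Y n ≃+ Abelian.Ext.{u} Z Y' n :=
  ((Abelian.extFunctorObj.{u} Z n).mapIso e).addCommGroupIsoToAddEquiv

/-- Let `X` be a scheme, `A` an `O_X`-module which is finite locally free (every point has an open
neighbourhood over which `A` is isomorphic to some `O^n`) and for which the internal Hom functor
`Hom_{O_X}(A, -)` exists (right adjoint of `A ⊗ -`), `B` any `O_X`-module and `p ≥ 0`. Then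
`Ext^p_{O_X}(X; A, B)`, the Ext group computed in the category of `O_X`-modules, is isomorphic to
`H^p(X, Hom_{O_X}(A, B))`. (Existence of an isomorphism of abelian groups only; the published
isomorphisms are canonical, the edge maps of the local-to-global spectral sequence for Ext. The
published statement is for an arbitrary ringed space; this row is the case of a scheme.) -/
theorem result (X : Scheme.{u}) [HasExt.{u} X.Modules]
    (A B : X.Modules) (hA : FlatMod.IsFinLocFree A) [DCoh.HasSheafHom A] (p : ℕ) :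
    Nonempty (Abelian.Ext A B p ≃+ Coh.HH X ((DCoh.sheafHom A).obj B) p) := by
  haveI : ModSite.HasSheafHom (O := X.sheaf) A := hasSheafHom X.sheaf A
  haveI := Groth.Agent.Lib.Helper21.ModTensor3.isGrothendieckAbelian X.sheaf
  haveI : EnoughInjectives (ModSite.Mod X.sheaf) := inferInstance
  haveI : HasExt.{u} (ModSite.Mod X.sheaf) := ‹HasExt.{u} X.Modules›
  haveI := preservesFiniteColimits_sheafHom X.sheaf A
    (fun G q => isZero_extSh_of_isFinLocFree A G hA q)
  obtain ⟨e⟩ := nonempty_ext_addEquiv_HC X.sheaf A B p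
  let φ : (DCoh.sheafHom A).obj B ≅ (ModSite.sheafHom (O := X.sheaf) A).obj B :=
    (sheafHomIso A).app B
  exact ⟨e.trans (extAddEquivRight _ ((SheafOfModules.toSheaf X.ringCatSheaf).mapIso φ.symm) p)⟩

end Groth.Agent.S12483
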