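import Groth.Statements.S12498
import Groth.Agent.Lib.Helper15SmallExt

set_option autoImplicit false
universe u
open Deform

namespace Groth.Agent.S12498

open Groth.Agent.Lib.Helper15.SmallExt

section aux

variable {k : Type u} [Field k] {A : Type u} [CommRing A] [Algebra k A] [IsLocalRing A]
  {B : Type u} [CommRing B] [Algebra A B] [Algebra k B] [IsScalarTower k A B]

/-- The image of `A` in `B ⧸ 𝔪 B` is the image of `k`. -/
theorem exists_algebraMap_eq
    (hres : ∀ a : A, ∃ c : k, a - algebraMap k A c ∈ IsLocalRing.maximalIdeal A) (a : A) :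
    ∃ c : k, Ideal.Quotient.mk ((IsLocalRing.maximalIdeal A).map (algebraMap A B))
      (algebraMap A B a) =
      algebraMap k (B ⧸ (IsLocalRing.maximalIdeal A).map (algebraMap A B)) c := by
  obtain ⟨c, hc⟩ := hres a
  refine ⟨c, ?_⟩
  have h1 : algebraMap k (B ⧸ (IsLocalRing.maximalIdeal A).map (algebraMap A B)) c =
      Ideal.Quotient.mk ((IsLocalRing.maximalIdeal A).map (algebraMap A B))
        (algebraMap A B (algebraMap k A c)) := by
    rw [← IsScalarTower.algebraMap_apply k A B]
    rfl
  rw [h1, Ideal.Quotient.eq, ← map_sub]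
  exact Ideal.mem_map_of_mem _ hc

/-- A `k`-derivation of `B ⧸ 𝔪 B` is linear over the image of `A`. -/
theorem derivation_algebraMap_mul
    (hres : ∀ a : A, ∃ c : k, a - algebraMap k A c ∈ IsLocalRing.maximalIdeal A)
    (d : Derivation k (B ⧸ (IsLocalRing.maximalIdeal A).map (algebraMap A B))
      (B ⧸ (IsLocalRing.maximalIdeal A).map (algebraMap A B))) (a : A)
    (x : B ⧸ (IsLocalRing.maximalIdeal A).map (algebraMap A B)) :
    d (Ideal.Quotient.mk ((IsLocalRing.maximalIdeal A).map (algebraMap A B))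
      (algebraMap A B a) * x) =
    Ideal.Quotient.mk ((IsLocalRing.maximalIdeal A).map (algebraMap A B))
      (algebraMap A B a) * d x := by
  obtain ⟨c, hc⟩ := exists_algebraMap_eq (B := B) hres a
  rw [hc, ← Algebra.smul_def, ← Algebra.smul_def, d.map_smul]

theorem derivation_algebraMap
    (hres : ∀ a : A, ∃ c : k, a - algebraMap k A c ∈ IsLocalRing.maximalIdeal A)
    (d : Derivation k (B ⧸ (IsLocalRing.maximalIdeal A).map (algebraMap A B))
      (B ⧸ (IsLocalRing.maximalIdeal A).map (algebraMap A B))) (a : A) :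
    d (Ideal.Quotient.mk ((IsLocalRing.maximalIdeal A).map (algebraMap A B))
      (algebraMap A B a)) = 0 := by
  obtain ⟨c, hc⟩ := exists_algebraMap_eq (B := B) hres a
  rw [hc, d.map_algebraMap]

end aux

section part2

variable {k : Type u} [Field k] {A : Type u} [CommRing A]
  {B : Type u} [CommRing B] [Algebra A B] [Algebra k B]

theorem exists_lift_of_derivation_aux (I : Ideal B) (T : B) (hTmem : T ∈ I) (hTT : T * T = 0)
    (hmul : ∀ x y : B, Ideal.Quotient.mk I x = Ideal.Quotient.mk I y → T * x = T * y)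
    (σ : (B ⧸ Ideal.span {T}) ≃ₐ[A] (B ⧸ Ideal.span {T}))
    (τ : B ≃ₐ[A] B)
    (hτ : ∀ b : B, Ideal.Quotient.mk (Ideal.span {T}) (τ b) =
      σ (Ideal.Quotient.mk (Ideal.span {T}) b))
    (hτ0 : ∀ b : B, τ b - b ∈ I)
    (d : Derivation k (B ⧸ I) (B ⧸ I))
    (hdA : ∀ a : A, d (Ideal.Quotient.mk I (algebraMap A B a)) = 0) :
    ∃ η : B ≃ₐ[A] B, (∀ b : B, Ideal.Quotient.mk (Ideal.span {T}) (η b) =
          σ (Ideal.Quotient.mk (Ideal.span {T}) b)) ∧
        ∀ b b' : B, Ideal.Quotient.mk I b' = d (Ideal.Quotient.mk I b) →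
          η b = τ b + T * b' := by
  let s : B ⧸ I → B := Function.surjInv Ideal.Quotient.mk_surjective
  have hs : ∀ x, Ideal.Quotient.mk I (s x) = x :=
    Function.surjInv_eq Ideal.Quotient.mk_surjective
  let δ : B → B := fun b => T * s (d (Ideal.Quotient.mk I b))
  have δ_eq : ∀ b b' : B, Ideal.Quotient.mk I b' = d (Ideal.Quotient.mk I b) →
      δ b = T * b' := fun b b' h => hmul _ _ ((hs _).trans h.symm)
  have hmkτ : ∀ b, Ideal.Quotient.mk I (τ b) = Ideal.Quotient.mk I b := fun b =>
    Ideal.Quotient.eq.mpr (hτ0 b)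
  have δ_add : ∀ b c, δ (b + c) = δ b + δ c := by
    intro b c
    rw [δ_eq (b + c) (s (d (Ideal.Quotient.mk I b)) + s (d (Ideal.Quotient.mk I c)))
      (by rw [map_add, hs, hs, map_add, map_add]), mul_add]
  have δ_mul : ∀ b c, δ (b * c) = T * (τ b * s (d (Ideal.Quotient.mk I c)) +
      s (d (Ideal.Quotient.mk I b)) * τ c) := by
    intro b c
    apply δ_eq
    rw [map_add, map_mul, map_mul, hs, hs, hmkτ, hmkτ, map_mul, d.leibniz, smul_eq_mul,
      smul_eq_mul]
    ring
  have δ_zero_of_mem : ∀ b ∈ I, δ b = 0 := by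
    intro b hb
    rw [δ_eq b 0 (by rw [Ideal.Quotient.eq_zero_iff_mem.mpr hb, map_zero, map_zero]), mul_zero]
  have δ_mem : ∀ b, δ b ∈ I := fun b => Ideal.mul_mem_right _ _ hTmem
  have δ_symm : ∀ b, δ (τ.symm b) = δ b := by
    intro b
    have : Ideal.Quotient.mk I (τ.symm b) = Ideal.Quotient.mk I b := by
      have := hmkτ (τ.symm b)
      rw [AlgEquiv.apply_symm_apply] at this
      exact this.symm
    change T * s (d (Ideal.Quotient.mk I (τ.symm b))) = T * s (d (Ideal.Quotient.mk I b))
    rw [this]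
  let ηhom : B →ₐ[A] B :=
    { toFun := fun b => τ b + δ b
      map_one' := by
        have : δ 1 = 0 := by
          rw [δ_eq 1 0 (by rw [map_one, map_zero, d.map_one_eq_zero]), mul_zero]
        rw [this, map_one, add_zero]
      map_mul' := by
        intro b c
        rw [δ_mul, map_mul]
        change _ = (τ b + T * s (d (Ideal.Quotient.mk I b))) *
          (τ c + T * s (d (Ideal.Quotient.mk I c)))
        linear_combination
          (- s (d (Ideal.Quotient.mk I b)) * s (d (Ideal.Quotient.mk I c))) * hTT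
      map_zero' := by
        have : δ 0 = 0 := δ_zero_of_mem 0 (Ideal.zero_mem _)
        rw [this, map_zero, add_zero]
      map_add' := by
        intro b c
        rw [δ_add, map_add]
        ring
      commutes' := by
        intro a
        have : δ (algebraMap A B a) = 0 := by
          rw [δ_eq (algebraMap A B a) 0 (by rw [map_zero, hdA a]), mul_zero]
        rw [this, add_zero, AlgEquiv.commutes] }
  have hη_apply : ∀ b, ηhom b = τ b + δ b := fun b => rfl
  have hinj : Function.Injective ηhom := by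
    rw [injective_iff_map_eq_zero]
    intro b hb
    rw [hη_apply] at hb
    have h1 : τ b = - δ b := eq_neg_of_add_eq_zero_left hb
    have h2 : δ b = 0 := by
      have h3 : δ b = δ (τ b) := by
        have := δ_symm (τ b)
        rw [AlgEquiv.symm_apply_apply] at this
        exact this
      rw [h3, h1]
      exact δ_zero_of_mem _ (Ideal.neg_mem_iff _ |>.mpr (δ_mem b))
    rw [h2, neg_zero] at h1
    exact (map_eq_zero_iff τ τ.injective).mp h1
  have hsurj : Function.Surjective ηhom := by
    intro c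
    refine ⟨τ.symm (c - δ c), ?_⟩
    rw [hη_apply, AlgEquiv.apply_symm_apply, δ_symm]
    have h1 : δ (c - δ c) = δ c := by
      have h2 := δ_add (c - δ c) (δ c)
      rw [sub_add_cancel, δ_zero_of_mem (δ c) (δ_mem c), add_zero] at h2
      exact h2.symm
    rw [h1, sub_add_cancel]
  refine ⟨AlgEquiv.ofBijective ηhom ⟨hinj, hsurj⟩, ?_, ?_⟩
  · intro b
    rw [AlgEquiv.coe_ofBijective, hη_apply, map_add, hτ]
    have : Ideal.Quotient.mk (Ideal.span {T}) (δ b) = 0 :=
      Ideal.Quotient.eq_zero_iff_mem.mpr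
        (Ideal.mul_mem_right _ _ (Ideal.mem_span_singleton_self _))
    rw [this, add_zero]
  · intro b b' h
    rw [AlgEquiv.coe_ofBijective, hη_apply, δ_eq b b' h]

end part2

section part1

variable {k : Type u} [Field k] {A : Type u} [CommRing A] [Algebra k A]
  {B : Type u} [CommRing B] [Algebra A B] [Algebra k B] [IsScalarTower k A B]
  (J : Ideal A)

local notation "JB" => Ideal.map (algebraMap A B) J

theorem existsUnique_derivation_aux (T : B)
    (hJT : ∀ a ∈ J, algebraMap A B a * T = 0)
    (hTmem : T ∈ JB)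
    (hmul : ∀ x y : B, Ideal.Quotient.mk JB x = Ideal.Quotient.mk JB y → T * x = T * y)
    (hmk : ∀ x y : B, T * x = T * y → Ideal.Quotient.mk JB x = Ideal.Quotient.mk JB y)
    (σ : (B ⧸ Ideal.span {T}) ≃ₐ[A] (B ⧸ Ideal.span {T}))
    (τ : B ≃ₐ[A] B)
    (hτ : ∀ b : B, Ideal.Quotient.mk (Ideal.span {T}) (τ b) =
      σ (Ideal.Quotient.mk (Ideal.span {T}) b))
    (hτ0 : ∀ b : B, τ b - b ∈ JB)
    (η : B ≃ₐ[A] B)
    (hη : ∀ b : B, Ideal.Quotient.mk (Ideal.span {T}) (η b) =
      σ (Ideal.Quotient.mk (Ideal.span {T}) b)) :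
    ∃! d : Derivation k (B ⧸ JB) (B ⧸ JB),
      ∀ b b' : B, Ideal.Quotient.mk JB b' = d (Ideal.Quotient.mk JB b) →
        η b = τ b + T * b' := by
  have hex : ∀ b : B, ∃ b' : B, η b - τ b = T * b' := by
    intro b
    have h1 : η b - τ b ∈ Ideal.span {T} := by
      rw [← Ideal.Quotient.eq, hη, hτ]
    obtain ⟨c, hc⟩ := Ideal.mem_span_singleton'.mp h1
    exact ⟨c, by rw [← hc, mul_comm]⟩
  choose D₁ hD₁ using hex
  have hmkτ : ∀ b, Ideal.Quotient.mk JB (τ b) = Ideal.Quotient.mk JB b := fun b =>
    Ideal.Quotient.eq.mpr (hτ0 b)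
  have hmkη : ∀ b, Ideal.Quotient.mk JB (η b) = Ideal.Quotient.mk JB b := by
    intro b
    rw [← hmkτ b, Ideal.Quotient.eq, hD₁ b]
    exact Ideal.mul_mem_right _ _ hTmem
  let D₀ : B → B ⧸ JB := fun b => Ideal.Quotient.mk JB (D₁ b)
  have hD₀ : ∀ b b'' : B, η b - τ b = T * b'' → D₀ b = Ideal.Quotient.mk JB b'' :=
    fun b b'' h => hmk _ _ ((hD₁ b).symm.trans h)
  have hD₀_add : ∀ b c, D₀ (b + c) = D₀ b + D₀ c := by
    intro b c
    rw [hD₀ (b + c) (D₁ b + D₁ c) (by rw [map_add, map_add, mul_add, ← hD₁ b, ← hD₁ c]; ring),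
      map_add]
  have hD₀_smul : ∀ (a : A) (b : B), D₀ (algebraMap A B a * b) =
      Ideal.Quotient.mk JB (algebraMap A B a) * D₀ b := by
    intro a b
    rw [hD₀ (algebraMap A B a * b) (algebraMap A B a * D₁ b)
      (by rw [map_mul, map_mul, AlgEquiv.commutes, AlgEquiv.commutes, ← mul_sub, hD₁ b]; ring),
      map_mul]
  have hD₀_mul : ∀ b c, D₀ (b * c) = D₀ b * Ideal.Quotient.mk JB c +
      Ideal.Quotient.mk JB b * D₀ c := by
    intro b c
    rw [hD₀ (b * c) (D₁ b * η c + τ b * D₁ c)
      (by rw [map_mul, map_mul]; linear_combination (η c) * hD₁ b + (τ b) * hD₁ c),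
      map_add, map_mul, map_mul, hmkη, hmkτ]
  have hηJ : ∀ b ∈ JB, η b = τ b := by
    intro b hb
    have hb' : b ∈ (J • ⊤ : Submodule A B) := by
      rw [Ideal.smul_top_eq_map]
      exact hb
    refine Submodule.smul_induction_on hb' ?_ ?_
    · intro r hr n _
      rw [map_smul, map_smul, ← sub_eq_zero, ← smul_sub, hD₁ n, Algebra.smul_def, ← mul_assoc,
        hJT r hr, zero_mul]
    · intro x y hx hy
      rw [map_add, map_add, hx, hy]
  have hD₀_mem : ∀ b ∈ JB, D₀ b = 0 := by
    intro b hb
    rw [hD₀ b 0 (by rw [hηJ b hb, sub_self, mul_zero]), map_zero]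
  let s : B ⧸ JB → B := Function.surjInv Ideal.Quotient.mk_surjective
  have hs : ∀ x, Ideal.Quotient.mk JB (s x) = x :=
    Function.surjInv_eq Ideal.Quotient.mk_surjective
  let d₀ : B ⧸ JB → B ⧸ JB := fun x => D₀ (s x)
  have hd₀ : ∀ b, d₀ (Ideal.Quotient.mk JB b) = D₀ b := by
    intro b
    have h1 : s (Ideal.Quotient.mk JB b) - b ∈ JB := Ideal.Quotient.eq.mp (hs _)
    have h2 : D₀ (s (Ideal.Quotient.mk JB b)) = D₀ ((s (Ideal.Quotient.mk JB b) - b) + b) := by
      rw [sub_add_cancel]
    change D₀ (s (Ideal.Quotient.mk JB b)) = D₀ b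
    rw [h2, hD₀_add, hD₀_mem _ h1, zero_add]
  let dlin : (B ⧸ JB) →ₗ[k] (B ⧸ JB) :=
    { toFun := d₀
      map_add' := by
        intro x y
        obtain ⟨b, rfl⟩ := Ideal.Quotient.mk_surjective x
        obtain ⟨c, rfl⟩ := Ideal.Quotient.mk_surjective y
        rw [← map_add, hd₀, hd₀, hd₀, hD₀_add]
      map_smul' := by
        intro c x
        obtain ⟨b, rfl⟩ := Ideal.Quotient.mk_surjective x
        have h1 : c • Ideal.Quotient.mk JB b =
            Ideal.Quotient.mk JB (algebraMap A B (algebraMap k A c) * b) := by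
          rw [Algebra.smul_def, map_mul, ← IsScalarTower.algebraMap_apply k A B]
          rfl
        have h2 : c • D₀ b = Ideal.Quotient.mk JB (algebraMap A B (algebraMap k A c)) * D₀ b := by
          rw [Algebra.smul_def, ← IsScalarTower.algebraMap_apply k A B]
          rfl
        rw [RingHom.id_apply, h1, hd₀, hd₀, hD₀_smul, h2] }
  have hdlin : ∀ b, dlin (Ideal.Quotient.mk JB b) = D₀ b := hd₀
  let d : Derivation k (B ⧸ JB) (B ⧸ JB) := Derivation.mk' dlin (by
    intro x y
    obtain ⟨b, rfl⟩ := Ideal.Quotient.mk_surjective x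
    obtain ⟨c, rfl⟩ := Ideal.Quotient.mk_surjective y
    rw [← map_mul, hdlin, hdlin, hdlin, hD₀_mul, smul_eq_mul, smul_eq_mul]
    ring)
  have hd : ∀ b, d (Ideal.Quotient.mk JB b) = D₀ b := hd₀
  refine ⟨d, ?_, ?_⟩
  · intro b b' h
    rw [hd] at h
    have h1 : T * b' = T * D₁ b := hmul _ _ h
    rw [h1, ← hD₁ b]
    ring
  · intro d' hd'
    apply Derivation.ext
    intro x
    obtain ⟨b, rfl⟩ := Ideal.Quotient.mk_surjective x
    rw [hd]
    have h1 := hd' b (s (d' (Ideal.Quotient.mk JB b))) (hs _)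
    have h2 : D₀ b = Ideal.Quotient.mk JB (s (d' (Ideal.Quotient.mk JB b))) :=
      hD₀ b _ (by rw [h1]; ring)
    rw [h2, hs]

end part1

/-- Let k be an algebraically closed field, A a local Artinian k-algebra with residue field k, and t a
nonzero element of the maximal ideal m_A annihilated by m_A, so that A → A/tA is a small extension.
Let B be a flat A-algebra (a deformation over A of its closed fibre B_0 = B/m_A B), and σ an
A-algebra automorphism of B/tB inducing the identity on B_0. Fix an A-algebra automorphism τ of B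
inducing σ (so τ induces the identity on B_0). Then the A-algebra automorphisms η of B inducing σ
correspond bijectively to the k-derivations d of B_0 through the rule η = τ + t·d, meaning η(b) =
τ(b) + t b′ for all b ∈ B and all b′ ∈ B lifting d applied to the image of b in B_0: every such η
determines a unique d, and every d comes from some such η. (The published statement phrases the
conclusion as a free and transitive action of Der_k(B_0, B_0) on the nonempty set of lifts of σ; the
condition that σ induces the identity on B_0 is expressed here through the chosen lift τ.) -/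
theorem result
    {k : Type u} [Field k] [IsAlgClosed k]
    {A : Type u} [CommRing A] [Algebra k A] [IsLocalRing A] [IsArtinianRing A]
    (hres : ∀ a : A, ∃ c : k, a - algebraMap k A c ∈ IsLocalRing.maximalIdeal A)
    (t : A) (ht : t ∈ IsLocalRing.maximalIdeal A) (ht0 : t ≠ 0)
    (htm : ∀ a ∈ IsLocalRing.maximalIdeal A, a * t = 0)
    {B : Type u} [CommRing B] [Algebra A B] [Module.Flat A B] [Algebra k B] [IsScalarTower k A B]
    (σ : (B ⧸ Ideal.span {algebraMap A B t}) ≃ₐ[A] (B ⧸ Ideal.span {algebraMap A B t}))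
    (τ : B ≃ₐ[A] B)
    (hτ : ∀ b : B, Ideal.Quotient.mk (Ideal.span {algebraMap A B t}) (τ b) =
      σ (Ideal.Quotient.mk (Ideal.span {algebraMap A B t}) b))
    (hτ0 : ∀ b : B, τ b - b ∈ (IsLocalRing.maximalIdeal A).map (algebraMap A B)) :
    (∀ η : B ≃ₐ[A] B, (∀ b : B, Ideal.Quotient.mk (Ideal.span {algebraMap A B t}) (η b) =
        σ (Ideal.Quotient.mk (Ideal.span {algebraMap A B t}) b)) →
      ∃! d : Derivation k (B ⧸ (IsLocalRing.maximalIdeal A).map (algebraMap A B))
          (B ⧸ (IsLocalRing.maximalIdeal A).map (algebraMap A B)),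
        ∀ b b' : B, Ideal.Quotient.mk ((IsLocalRing.maximalIdeal A).map (algebraMap A B)) b' =
            d (Ideal.Quotient.mk ((IsLocalRing.maximalIdeal A).map (algebraMap A B)) b) →
          η b = τ b + algebraMap A B t * b') ∧
    (∀ d : Derivation k (B ⧸ (IsLocalRing.maximalIdeal A).map (algebraMap A B))
        (B ⧸ (IsLocalRing.maximalIdeal A).map (algebraMap A B)),
      ∃ η : B ≃ₐ[A] B, (∀ b : B, Ideal.Quotient.mk (Ideal.span {algebraMap A B t}) (η b) =
          σ (Ideal.Quotient.mk (Ideal.span {algebraMap A B t}) b)) ∧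
        ∀ b b' : B, Ideal.Quotient.mk ((IsLocalRing.maximalIdeal A).map (algebraMap A B)) b' =
            d (Ideal.Quotient.mk ((IsLocalRing.maximalIdeal A).map (algebraMap A B)) b) →
          η b = τ b + algebraMap A B t * b') := by
  have hTmem : algebraMap A B t ∈ (IsLocalRing.maximalIdeal A).map (algebraMap A B) :=
    algebraMap_mem ht
  have hTT : algebraMap A B t * algebraMap A B t = 0 := mul_eq_zero_of_mem htm hTmem
  have hmul : ∀ x y : B,
      Ideal.Quotient.mk ((IsLocalRing.maximalIdeal A).map (algebraMap A B)) x =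
        Ideal.Quotient.mk ((IsLocalRing.maximalIdeal A).map (algebraMap A B)) y →
      algebraMap A B t * x = algebraMap A B t * y := fun x y h => mul_eq_of_mk_eq htm h
  have hmk : ∀ x y : B, algebraMap A B t * x = algebraMap A B t * y →
      Ideal.Quotient.mk ((IsLocalRing.maximalIdeal A).map (algebraMap A B)) x =
        Ideal.Quotient.mk ((IsLocalRing.maximalIdeal A).map (algebraMap A B)) y :=
    fun x y h => mk_eq_of_mul_eq ht0 htm h
  have hJT : ∀ a ∈ IsLocalRing.maximalIdeal A, algebraMap A B a * algebraMap A B t = 0 := by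
    intro a ha
    rw [← map_mul, htm a ha, map_zero]
  refine ⟨?_, ?_⟩
  · intro η hη
    exact existsUnique_derivation_aux (IsLocalRing.maximalIdeal A) (algebraMap A B t) hJT hTmem
      hmul hmk σ τ hτ hτ0 η hη
  · intro d
    exact exists_lift_of_derivation_aux _ (algebraMap A B t) hTmem hTT hmul σ τ hτ hτ0 d
      (derivation_algebraMap hres d)


end Groth.Agent.S12498
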