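import Groth.Statements.S1251
import Groth.Agent.Lib.Helper22ElemDevFP

set_option autoImplicit false
universe u
open FlatMor

namespace Groth.Agent.S1251

/-- Given an elementary dévissage E of N at q over p in dimension n, with S of finite presentation over
R: the finite map D → C is of finite presentation; the following are equivalent: N_q is a finitely
presented S_q-module; G_z is a finitely presented C_z-module; G_y is a finitely presented
D_y-module. Also equivalent to each other: N is finitely presented on some basic open of Spec S
containing q; G is finitely presented on some basic open of Spec C containing z; G as a D-module is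
finitely presented on some basic open of Spec D containing y. -/
theorem result {R S : Type u} [CommRing R] [CommRing S] [Algebra R S] [Algebra.FinitePresentation R S]
    (N : Type u) [AddCommGroup N] [Module S N] [Module R N] [IsScalarTower R S N] [Module.Finite S N]
    (p : Ideal R) [p.IsPrime] (q : Ideal S) [q.IsPrime] [q.LiesOver p] (n : ℕ) (E : FlatCA.ElemDevissage R S N p q n) :
    Algebra.FinitePresentation E.D E.C ∧
    [Module.FinitePresentation (Localization.AtPrime q) (LocalizedModule q.primeCompl N),
     Module.FinitePresentation (Localization.AtPrime E.z) (LocalizedModule E.z.primeCompl E.G),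
     Module.FinitePresentation (Localization.AtPrime E.y) (LocalizedModule E.y.primeCompl E.G)].TFAE ∧
    [∃ g : S, g ∉ q ∧ Module.FinitePresentation (Localization.Away g) (LocalizedModule (Submonoid.powers g) N),
     ∃ g : E.C, g ∉ E.z ∧ Module.FinitePresentation (Localization.Away g) (LocalizedModule (Submonoid.powers g) E.G),
     ∃ g : E.D, g ∉ E.y ∧ Module.FinitePresentation (Localization.Away g) (LocalizedModule (Submonoid.powers g) E.G)].TFAE := by
  classical
  letI : Module S E.G := Module.compHom E.G (algebraMap S E.S')
  have : IsScalarTower S E.S' E.G := IsScalarTower.of_algebraMap_smul fun _ _ => rfl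
  have := E.etaleR.1
  have := E.etaleS.1
  obtain ⟨hq'q, _⟩ := E.etaleS.2
  have := hq'q
  have := E.finiteDC
  have := E.fpC
  have hf' : IsBaseChange E.S' ((E.iso.toLinearMap.restrictScalars S).comp E.f) :=
    E.isBaseChange.comp (IsBaseChange.ofEquiv E.iso)
  have hfpD : Algebra.FinitePresentation E.R' E.D :=
    Groth.Agent.Lib.Helper22.ElemDevFP.finitePresentation_of_smoothOfRelativeDimension n E.smooth
  have hDC : Algebra.FinitePresentation E.D E.C :=
    Groth.Agent.Lib.Helper22.ElemDevFP.finitePresentation_DC (R := R) (S := S) (R' := E.R')
      (S' := E.S') (C := E.C) (D := E.D)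
  have : Module.Finite E.S' E.C := Module.Finite.of_surjective (Algebra.linearMap E.S' E.C) E.surjC
  have : Module.FinitePresentation E.S' E.C :=
    Module.FinitePresentation.of_finite_of_finitePresentation E.S' E.C
  have : Module.FinitePresentation E.D E.C :=
    Module.FinitePresentation.of_finite_of_finitePresentation E.D E.C
  exact ⟨hDC,
    Groth.Agent.Lib.Helper22.ElemDevFP.tfae_point _ hf' E.surjC q E.q' E.z E.y E.uniq,
    Groth.Agent.Lib.Helper22.ElemDevFP.tfae_open _ hf' E.surjC q E.q' E.z E.y E.uniq⟩

end Groth.Agent.S1251
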