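import Groth.Statements.S12515
import Mathlib.FieldTheory.PrimitiveElement
import Mathlib.FieldTheory.Separable
import Mathlib.Algebra.Squarefree.Basic

set_option autoImplicit false
open FunFld

namespace Groth.Agent.S12515

open Polynomial in
/-- Every nonzero polynomial over a field is a square times a squarefree polynomial. -/
theorem exists_sq_mul_squarefree {k : Type*} [Field k] :
    ∀ (n : ℕ) (h : Polynomial k), h.natDegree = n → h ≠ 0 →
      ∃ s f : Polynomial k, Squarefree f ∧ h = s ^ 2 * f := by
  intro n
  induction n using Nat.strong_induction_on with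
  | _ n ih =>
    intro h hn h0
    by_cases hsq : Squarefree h
    · exact ⟨1, h, hsq, by ring⟩
    · unfold Squarefree at hsq
      push Not at hsq
      obtain ⟨d, ⟨h', hh'⟩, hd⟩ := hsq
      have hd0 : d ≠ 0 := by
        rintro rfl
        apply h0
        rw [hh']
        ring
      have hh'0 : h' ≠ 0 := by
        rintro rfl
        apply h0
        rw [hh', mul_zero]
      have hdpos : 0 < d.natDegree := by
        rw [Nat.pos_iff_ne_zero]
        intro hd1
        apply hd
        rw [Polynomial.isUnit_iff_degree_eq_zero, Polynomial.degree_eq_natDegree hd0, hd1]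
        rfl
      have hdeg : h.natDegree = d.natDegree + d.natDegree + h'.natDegree := by
        rw [hh', Polynomial.natDegree_mul (mul_ne_zero hd0 hd0) hh'0,
          Polynomial.natDegree_mul hd0 hd0]
      obtain ⟨s', f, hf, hsf⟩ := ih h'.natDegree (by omega) h' rfl hh'0
      refine ⟨d * s', f, hf, ?_⟩
      rw [hh', hsf]
      ring

open scoped IntermediateField in
/-- In a degree two extension, every element outside the base field generates. -/
theorem adjoin_eq_top_of_finrank_two {F K : Type*} [Field F] [Field K] [Algebra F K]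
    (hdeg : Module.finrank F K = 2) (β : K) (hβ : β ∉ (⊥ : IntermediateField F K)) :
    F⟮β⟯ = ⊤ := by
  have hfin : FiniteDimensional F K := Module.finite_of_finrank_pos (by rw [hdeg]; norm_num)
  have h1 : Module.finrank F F⟮β⟯ ≠ 1 := fun h =>
    hβ (IntermediateField.finrank_adjoin_simple_eq_one_iff.1 h)
  have h2 : Module.finrank F F⟮β⟯ * Module.finrank F⟮β⟯ K = 2 := by
    rw [Module.finrank_mul_finrank, hdeg]
  have h3 : Module.finrank F F⟮β⟯ ∣ 2 := ⟨_, h2.symm⟩
  have h4 : Module.finrank F F⟮β⟯ = 2 := by
    rcases (Nat.dvd_prime Nat.prime_two).1 h3 with h | h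
    · exact absurd h h1
    · exact h
  apply IntermediateField.eq_of_le_of_finrank_le le_top
  rw [IntermediateField.finrank_top', hdeg, h4]

/-- If `char k ≠ 2` and `K` has degree `2` over the rational function field `k(x)`, then `K = k(x)(y)`
for some `y` with `y² = f(x)`, `f` a squarefree polynomial over `k`. -/
theorem result (k K : Type*) [Field k] [Field K] (h2 : ringChar k ≠ 2)
    [Algebra (RatFunc k) K] (hdeg : Module.finrank (RatFunc k) K = 2) :
    ∃ (y : K) (f : Polynomial k), Squarefree f ∧
      y ^ 2 = algebraMap (RatFunc k) K (algebraMap (Polynomial k) (RatFunc k) f) ∧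
      IntermediateField.adjoin (RatFunc k) ({y} : Set K) = ⊤ := by
  classical
  have hfin : FiniteDimensional (RatFunc k) K :=
    Module.finite_of_finrank_pos (by rw [hdeg]; norm_num)
  -- 2 ≠ 0
  have h2k : (2 : k) ≠ 0 := by
    intro h
    have hdvd : ringChar k ∣ 2 := ringChar.dvd (by exact_mod_cast h)
    rcases (Nat.dvd_prime Nat.prime_two).1 hdvd with h1 | h1
    · exact CharP.ringChar_ne_one h1
    · exact h2 h1
  have h2F : (2 : RatFunc k) ≠ 0 := by
    intro h
    apply h2k
    have : algebraMap k (RatFunc k) 2 = 0 := by rwa [map_ofNat]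
    exact (map_eq_zero _).1 this
  have h2K : (2 : K) ≠ 0 := by
    intro h
    apply h2F
    have : algebraMap (RatFunc k) K 2 = 0 := by rwa [map_ofNat]
    exact (map_eq_zero _).1 this
  -- an element outside the base field
  obtain ⟨α, hα⟩ : ∃ α : K, α ∉ (⊥ : IntermediateField (RatFunc k) K) := by
    by_contra hcon
    push Not at hcon
    have : (⊥ : IntermediateField (RatFunc k) K) = ⊤ := by
      ext x
      simp [hcon x]
    have h1 := IntermediateField.finrank_bot (F := RatFunc k) (E := K)
    rw [this, IntermediateField.finrank_top', hdeg] at h1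
    omega
  have hαtop := adjoin_eq_top_of_finrank_two hdeg α hα
  have hint : IsIntegral (RatFunc k) α := Algebra.IsIntegral.isIntegral α
  have hpdeg : (minpoly (RatFunc k) α).natDegree = 2 := by
    rw [← IntermediateField.adjoin.finrank hint, hαtop, IntermediateField.finrank_top', hdeg]
  have hmonic : (minpoly (RatFunc k) α).Monic := minpoly.monic hint
  have hc2 : (minpoly (RatFunc k) α).coeff 2 = 1 := by
    have := hmonic.coeff_natDegree
    rwa [hpdeg] at this
  obtain ⟨b, hb⟩ : ∃ b, b = (minpoly (RatFunc k) α).coeff 1 := ⟨_, rfl⟩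
  obtain ⟨c, hc⟩ : ∃ c, c = (minpoly (RatFunc k) α).coeff 0 := ⟨_, rfl⟩
  have hroot : α ^ 2 + algebraMap (RatFunc k) K b * α + algebraMap (RatFunc k) K c = 0 := by
    have h := minpoly.aeval (RatFunc k) α
    rw [Polynomial.aeval_eq_sum_range, hpdeg] at h
    simp only [Finset.sum_range_succ, Finset.range_zero, Finset.sum_empty, zero_add, pow_zero,
      pow_one, Algebra.smul_def, mul_one] at h
    rw [hc2, ← hb, ← hc, map_one, one_mul] at h
    linear_combination h
  -- complete the square
  obtain ⟨u, v, hv, huv⟩ := IsFractionRing.div_surjective (A := Polynomial k) (b ^ 2 - 4 * c)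
  have hv0 : v ≠ 0 := nonZeroDivisors.ne_zero hv
  have hvF : algebraMap (Polynomial k) (RatFunc k) v ≠ 0 := by
    rwa [Ne, map_eq_zero_iff _ (IsFractionRing.injective (Polynomial k) (RatFunc k))]
  set y₀ : K := 2 * α + algebraMap (RatFunc k) K b with hy₀
  have hy₀sq : y₀ ^ 2 = algebraMap (RatFunc k) K (b ^ 2 - 4 * c) := by
    rw [hy₀, map_sub, map_mul, map_pow, map_ofNat]
    linear_combination 4 * hroot
  have hy₀bot : y₀ ∉ (⊥ : IntermediateField (RatFunc k) K) := by
    intro h
    apply hα
    have : α = (2 : K)⁻¹ * (y₀ - algebraMap (RatFunc k) K b) := by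
      rw [hy₀, add_sub_cancel_right, inv_mul_cancel_left₀ h2K]
    rw [this]
    have h2mem : (2 : K) ∈ (⊥ : IntermediateField (RatFunc k) K) := by
      have := IntermediateField.algebraMap_mem (⊥ : IntermediateField (RatFunc k) K) (2 : RatFunc k)
      rwa [map_ofNat] at this
    exact mul_mem (inv_mem h2mem) (sub_mem h (IntermediateField.algebraMap_mem _ _))
  -- clear denominators
  set y₁ : K := algebraMap (RatFunc k) K (algebraMap (Polynomial k) (RatFunc k) v) * y₀ with hy₁
  have hy₁sq : y₁ ^ 2 =
      algebraMap (RatFunc k) K (algebraMap (Polynomial k) (RatFunc k) (u * v)) := by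
    rw [hy₁, mul_pow, hy₀sq, ← huv, map_mul, map_mul, map_div₀]
    have : algebraMap (RatFunc k) K (algebraMap (Polynomial k) (RatFunc k) v) ≠ 0 := by
      rwa [Ne, map_eq_zero]
    field_simp
  have hy₁bot : y₁ ∉ (⊥ : IntermediateField (RatFunc k) K) := by
    intro h
    apply hy₀bot
    have hvK : algebraMap (RatFunc k) K (algebraMap (Polynomial k) (RatFunc k) v) ≠ 0 := by
      rwa [Ne, map_eq_zero]
    have : y₀ = (algebraMap (RatFunc k) K (algebraMap (Polynomial k) (RatFunc k) v))⁻¹ * y₁ := by
      rw [hy₁]; field_simp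
    rw [this]
    exact mul_mem (inv_mem (IntermediateField.algebraMap_mem _ _)) h
  have huv0 : u * v ≠ 0 := by
    intro h
    rw [h, map_zero, map_zero] at hy₁sq
    have : y₁ = 0 := by simpa using hy₁sq
    apply hy₁bot
    rw [this]
    exact zero_mem _
  obtain ⟨s, f, hf, hsf⟩ := exists_sq_mul_squarefree _ (u * v) rfl huv0
  have hs0 : s ≠ 0 := by
    rintro rfl
    apply huv0
    rw [hsf]; ring
  have hsK : algebraMap (RatFunc k) K (algebraMap (Polynomial k) (RatFunc k) s) ≠ 0 := by
    rw [Ne, map_eq_zero, map_eq_zero_iff _ (IsFractionRing.injective (Polynomial k) (RatFunc k))]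
    exact hs0
  refine ⟨y₁ / algebraMap (RatFunc k) K (algebraMap (Polynomial k) (RatFunc k) s), f, hf, ?_, ?_⟩
  · rw [div_pow, hy₁sq, hsf, map_mul, map_mul, map_pow, map_pow]
    field_simp
  · apply adjoin_eq_top_of_finrank_two hdeg
    intro h
    apply hy₁bot
    have : y₁ = algebraMap (RatFunc k) K (algebraMap (Polynomial k) (RatFunc k) s) *
        (y₁ / algebraMap (RatFunc k) K (algebraMap (Polynomial k) (RatFunc k) s)) := by
      field_simp
    rw [this]
    exact mul_mem (IntermediateField.algebraMap_mem _ _) h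

end Groth.Agent.S12515
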