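import Groth.Statements.S12517
import Mathlib.FieldTheory.PrimitiveElement
import Mathlib.FieldTheory.Separable

set_option autoImplicit false
open FunFld
open scoped IntermediateField

namespace Groth.Agent.S12517

/-- If `k` is perfect of characteristic `2` and `K` is a separable extension of degree `2` of the
rational function field `k(x)`, then `K = k(x)(y)` for some `y` with `y² + y = f(x)`, `f ∈ k(x)`.
The correspondence between such extensions and cosets of `{a² + a}` in `k(x)` is not stated. -/
theorem result (k K : Type*) [Field k] [Field K] [PerfectField k]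
    (h2 : ringChar k = 2) [Algebra (RatFunc k) K] (hdeg : Module.finrank (RatFunc k) K = 2)
    [Algebra.IsSeparable (RatFunc k) K] :
    ∃ (y : K) (f : RatFunc k), y ^ 2 + y = algebraMap (RatFunc k) K f ∧
      IntermediateField.adjoin (RatFunc k) ({y} : Set K) = ⊤ := by
  classical
  have hfin : FiniteDimensional (RatFunc k) K :=
    Module.finite_of_finrank_pos (by rw [hdeg]; norm_num)
  -- characteristic two
  have h2k : (2 : k) = 0 := by
    have := ringChar.Nat.cast_ringChar (R := k)
    rw [h2] at this
    exact_mod_cast this
  have h2F : (2 : RatFunc k) = 0 := by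
    have := congrArg (algebraMap k (RatFunc k)) h2k
    rwa [map_ofNat, map_zero] at this
  obtain ⟨α, hα⟩ := Field.exists_primitive_element (RatFunc k) K
  have hint : IsIntegral (RatFunc k) α := Algebra.IsIntegral.isIntegral α
  have hpdeg : (minpoly (RatFunc k) α).natDegree = 2 := by
    rw [← IntermediateField.adjoin.finrank hint, hα, IntermediateField.finrank_top', hdeg]
  have hmonic : (minpoly (RatFunc k) α).Monic := minpoly.monic hint
  have hc2 : (minpoly (RatFunc k) α).coeff 2 = 1 := by
    have := hmonic.coeff_natDegree
    rwa [hpdeg] at this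
  obtain ⟨b, hb⟩ : ∃ b, b = (minpoly (RatFunc k) α).coeff 1 := ⟨_, rfl⟩
  obtain ⟨c, hc⟩ : ∃ c, c = (minpoly (RatFunc k) α).coeff 0 := ⟨_, rfl⟩
  have hsep : (minpoly (RatFunc k) α).Separable := Algebra.IsSeparable.isSeparable (RatFunc k) α
  have hb0 : b ≠ 0 := by
    intro hb0
    have hder : Polynomial.derivative (minpoly (RatFunc k) α) = 0 := by
      ext n
      rw [Polynomial.coeff_derivative, Polynomial.coeff_zero]
      rcases n with _ | _ | n
      · simp [← hb, hb0]
      · rw [hc2]
        norm_num
        exact h2F
      · rw [Polynomial.coeff_eq_zero_of_natDegree_lt (by rw [hpdeg]; omega), zero_mul]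
    have := (Polynomial.separable_iff_derivative_ne_zero (minpoly.irreducible hint)).1 hsep
    exact this hder
  have hroot : α ^ 2 + algebraMap (RatFunc k) K b * α + algebraMap (RatFunc k) K c = 0 := by
    have h := minpoly.aeval (RatFunc k) α
    rw [Polynomial.aeval_eq_sum_range, hpdeg] at h
    simp only [Finset.sum_range_succ, Finset.range_zero, Finset.sum_empty, zero_add, pow_zero,
      pow_one, Algebra.smul_def, mul_one] at h
    rw [hc2, ← hb, ← hc, map_one, one_mul] at h
    linear_combination h
  have hbK : algebraMap (RatFunc k) K b ≠ 0 := by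
    rwa [Ne, map_eq_zero]
  refine ⟨α / algebraMap (RatFunc k) K b, -c / b ^ 2, ?_, ?_⟩
  · rw [map_div₀, map_neg, map_pow]
    field_simp
    linear_combination hroot
  · rw [eq_top_iff, ← hα, IntermediateField.adjoin_simple_le_iff]
    have hy : α / algebraMap (RatFunc k) K b ∈ (RatFunc k)⟮α / algebraMap (RatFunc k) K b⟯ :=
      IntermediateField.mem_adjoin_simple_self (RatFunc k) _
    have hbm : algebraMap (RatFunc k) K b ∈ (RatFunc k)⟮α / algebraMap (RatFunc k) K b⟯ :=
      IntermediateField.algebraMap_mem _ b
    have h3 := mul_mem hbm hy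
    have : algebraMap (RatFunc k) K b * (α / algebraMap (RatFunc k) K b) = α := by
      field_simp
    rwa [this] at h3

end Groth.Agent.S12517
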