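import Groth.Statements.S12518
import Groth.Agent.S12517
import Groth.Agent.Lib.LeadAS17
open FunFld WithZero Groth.Agent.Lib.LeadFF Groth.Agent.Lib.LeadAS
-- import your own Groth.Agent.* helpers here

set_option autoImplicit false
open FunFld

namespace Groth.Agent.S12518

/-- If `k` is perfect of characteristic `2` and `K` is a separable extension of degree `2` of `k(x)`,
then `K = k(x)(y)` for some `y` with `y² + y = f(x)` such that every pole of `f`, at any place of
`k(x)/k` including the infinite one, has odd order. -/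
theorem result (k K : Type*) [Field k] [Field K] [PerfectField k] (h2 : ringChar k = 2)
    [Algebra k K] [Algebra (RatFunc k) K] [IsScalarTower k (RatFunc k) K]
    (hdeg : Module.finrank (RatFunc k) K = 2) [Algebra.IsSeparable (RatFunc k) K] :
    ∃ (y : K) (f : RatFunc k), y ^ 2 + y = algebraMap (RatFunc k) K f ∧
      IntermediateField.adjoin (RatFunc k) ({y} : Set K) = ⊤ ∧
      ∀ P : FunFld.Place k (RatFunc k), P.ord f < 0 → Odd (P.ord f) := by
  haveI : CharP k 2 := by rw [← h2]; exact ringChar.charP k
  obtain ⟨y₀, f₀, heq, hadj⟩ := Groth.Agent.S12517.result k K h2 hdeg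
  have h2K : (2 : K) = 0 := two_eq_zero_K k
  obtain ⟨h, hh⟩ := exists_odd_poles (zdiv k f₀⁻¹).deg.toNat f₀ (Int.self_le_toNat _)
  obtain ⟨h1, h3⟩ := shift_generator h2K heq hadj h
  exact ⟨y₀ + algebraMap (RatFunc k) K h, f₀ + h ^ 2 + h, h1, h3, hh⟩

end Groth.Agent.S12518
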