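import Groth.Statements.S12520
import Groth.Agent.Lib.LeadMS2

set_option autoImplicit false
universe u v
open FunFld

namespace Groth.Agent.S12520

/-- For a geometric function field of one variable `K/k` of characteristic `p > 0` and a geometric
function field `K₀/k₀` with `K₀ ⊆ K` of finite index (and `k₀ ⊆ k` compatibly), the map `Ω_{K₀/k₀} →
Ω_{K/k}` induced by the inclusion vanishes when `K₀ ⊆ kK^p` and is injective otherwise. -/
theorem result (k₀ k : Type u) (K₀ K : Type v) [Field k₀] [Field k] [Field K₀] [Field K]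
    [Algebra k₀ k] [Algebra k₀ K₀] [Algebra k₀ K] [Algebra k K] [Algebra K₀ K]
    [IsScalarTower k₀ k K] [IsScalarTower k₀ K₀ K] [FiniteDimensional K₀ K]
    (p : ℕ) [Fact p.Prime] [CharP K p]
    (hK : FunFld.IsFunctionField k K) (hg : FunFld.IsGeometric k K)
    (hK₀ : FunFld.IsFunctionField k₀ K₀) (hg₀ : FunFld.IsGeometric k₀ K₀) :
    (Set.range (algebraMap K₀ K) ⊆ ↑(IntermediateField.adjoin k (Set.range fun y : K => y ^ p)) →
      KaehlerDifferential.map k₀ k K₀ K = 0) ∧
    (¬ Set.range (algebraMap K₀ K) ⊆ ↑(IntermediateField.adjoin k (Set.range fun y : K => y ^ p)) →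
      Function.Injective (KaehlerDifferential.map k₀ k K₀ K)) := by
  open Groth.Agent.Lib.LeadMS in
  classical
  constructor
  · intro hsub
    apply LinearMap.ext; intro ω
    have hspan := KaehlerDifferential.span_range_derivation k₀ K₀
    have hmem : ω ∈ Submodule.span K₀ (Set.range (KaehlerDifferential.D k₀ K₀)) :=
      hspan ▸ Submodule.mem_top
    induction hmem using Submodule.span_induction with
    | mem _ h =>
      obtain ⟨z, rfl⟩ := h
      rw [KaehlerDifferential.map_D]
      exact D_eq_zero_of_mem p _ (hsub ⟨z, rfl⟩)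
    | zero => simp
    | add _ _ _ _ h1 h2 => rw [map_add, h1, h2]; simp
    | smul c _ _ h => rw [map_smul, h]; simp
  · intro hns
    obtain ⟨z, hz⟩ : ∃ z : K₀, algebraMap K₀ K z ∉ Fp k K p := by
      by_contra hcon
      push Not at hcon
      exact hns (by rintro _ ⟨z, rfl⟩; exact hcon z)
    have hDz : KaehlerDifferential.D k K (algebraMap K₀ K z) ≠ 0 := by
      obtain ⟨hxt, hsep⟩ := separable_of_not_mem hK hg p hz
      exact (kaehler_of_separating hxt).1
    have hDz₀ : KaehlerDifferential.D k₀ K₀ z ≠ 0 := by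
      intro h0; apply hDz; rw [← KaehlerDifferential.map_D k₀ k K₀ K, h0, map_zero]
    rw [injective_iff_map_eq_zero]
    intro ω hω
    obtain ⟨c, rfl⟩ := (finrank_eq_one_iff_of_nonzero' _ hDz₀).mp (finrank_kaehler hK₀ hg₀) ω
    rw [map_smul, KaehlerDifferential.map_D, ← algebraMap_smul K c, smul_eq_zero] at hω
    rcases hω with h | h
    · rw [(map_eq_zero_iff _ (algebraMap K₀ K).injective).mp h, zero_smul]
    · exact absurd h hDz

end Groth.Agent.S12520
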