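import Groth.Statements.S12549
import Mathlib
-- import your own Groth.Agent.* helpers here

set_option autoImplicit false
set_option linter.style.haveILetI false
set_option linter.unusedSectionVars false
universe u
open GIT

namespace Groth.Agent.S12549

section
variable (n g : ℕ)

/-- worst-case abscissae -/
noncomputable def eb (i : ℕ) : ℝ := if i ≤ n - g then (i : ℝ) else (i : ℝ) + g

theorem eb_lt {i j : ℕ} (h : i < j) : eb n g i < eb n g j := by
  unfold eb
  have h1 : (i : ℝ) < j := by exact_mod_cast h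
  have hg : (0 : ℝ) ≤ g := by positivity
  split_ifs with h2 h3 h3
  · exact h1
  · linarith
  · omega
  · linarith

theorem sum_eb (b : ℕ) : ∑ i ∈ Finset.range b, eb n g i =
    (b : ℝ) * ((b : ℝ) - 1) / 2 + (g : ℝ) * ((b - (n - g + 1) : ℕ) : ℝ) := by
  induction b with
  | zero => simp
  | succ b ih =>
    rw [Finset.sum_range_succ, ih]
    unfold eb
    by_cases hb : b ≤ n - g
    · rw [if_pos hb]
      have h1 : b - (n - g + 1) = 0 := by omega
      have h2 : b + 1 - (n - g + 1) = 0 := by omega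
      rw [h1, h2]; push_cast; ring
    · rw [if_neg hb]
      have h2 : b + 1 - (n - g + 1) = (b - (n - g + 1)) + 1 := by omega
      rw [h2]; push_cast; ring

noncomputable def hb (b : ℕ) : ℝ :=
  2 * ((n : ℝ) + g) * ∑ i ∈ Finset.range b, (eb n g b - eb n g i) - ((n : ℝ) + 1) * (eb n g b) ^ 2

theorem one_le_hb (hg : 1 ≤ g) (hn : 2 * g ≤ n) (b : ℕ) (hb1 : 1 ≤ b) (hbn : b ≤ n) :
    1 ≤ hb n g b := by
  unfold hb
  rw [Finset.sum_sub_distrib, Finset.sum_const, Finset.card_range, nsmul_eq_mul, sum_eb]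
  have hb1' : (1 : ℝ) ≤ b := by exact_mod_cast hb1
  have hg' : (1 : ℝ) ≤ g := by exact_mod_cast hg
  have hn' : (2 : ℝ) * g ≤ n := by exact_mod_cast hn
  have hbn' : (b : ℝ) ≤ n := by exact_mod_cast hbn
  by_cases hbm : b ≤ n - g
  · have h1 : b - (n - g + 1) = 0 := by omega
    rw [h1]; unfold eb; rw [if_pos hbm]
    push_cast
    nlinarith
  · have hbm' : n - g + 1 ≤ b := by omega
    unfold eb; rw [if_neg hbm]
    rw [Nat.cast_sub hbm']; push_cast; rw [Nat.cast_sub (by omega : g ≤ n)]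
    have key : 2 * ((n : ℝ) + g) * (b * (b + g) - (b * (b - 1) / 2 + g * (b - (n - g + 1)))) -
        (n + 1) * (b + g) ^ 2 =
        g * (n + g) * (n - 2 * g + 1) + (n + g) * (n - b) + (g - 1) * (n - b) ^ 2 := by ring
    rw [key]
    have h3 : (0 : ℝ) ≤ n - b := by linarith
    have h4 : (0 : ℝ) ≤ (g - 1) * (n - b) ^ 2 := by
      apply mul_nonneg; linarith; positivity
    have h5 : (0 : ℝ) ≤ (n + g) * (n - b) := by
      apply mul_nonneg; linarith; exact h3
    have h6 : (1 : ℝ) ≤ g * (n + g) * (n - 2 * g + 1) := by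
      have : (1 : ℝ) ≤ g * (n + g) := by nlinarith
      nlinarith
    linarith

noncomputable def Kp (rN : ℕ → ℝ) (a : ℕ) (Φ σ : ℝ) : ℝ :=
  ((n : ℝ) + 1) * (Φ + eb n g a * (2 * rN a - σ * eb n g a)) -
    2 * ((n : ℝ) + g) * (∑ i ∈ Finset.range a, (rN a - σ * (eb n g a - eb n g i)) +
      ∑ i ∈ Finset.Ico a (n + 1), rN i)

theorem step (rN : ℕ → ℝ) (a b : ℕ) (hab : a < b) (hbn : b ≤ n) (σa σb Φb : ℝ)
    (hσ : rN b - rN a = σa * (eb n g b - eb n g a))
    (hM1 : ∀ i, a < i → i < b → σa * (eb n g i - eb n g a) ≤ rN i - rN a) :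
    Kp n g rN a (Φb + (eb n g b - eb n g a) * (rN a + rN b)) σa ≤
      Kp n g rN b Φb σb - (σb - σa) * hb n g b := by
  have hS : ∑ i ∈ Finset.range b, (rN b - σa * (eb n g b - eb n g i)) +
      ∑ i ∈ Finset.Ico b (n + 1), rN i ≤
      ∑ i ∈ Finset.range a, (rN a - σa * (eb n g a - eb n g i)) +
      ∑ i ∈ Finset.Ico a (n + 1), rN i := by
    rw [← Finset.sum_Ico_consecutive (fun i => rN i) hab.le (by omega : b ≤ n + 1)]
    simp only [Finset.range_eq_Ico]
    rw [← Finset.sum_Ico_consecutive _ (Nat.zero_le a) hab.le]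
    have h1 : ∑ i ∈ Finset.Ico 0 a, (rN b - σa * (eb n g b - eb n g i)) =
        ∑ i ∈ Finset.Ico 0 a, (rN a - σa * (eb n g a - eb n g i)) := by
      apply Finset.sum_congr rfl
      intro i _
      linarith
    have h2 : ∑ i ∈ Finset.Ico a b, (rN b - σa * (eb n g b - eb n g i)) ≤
        ∑ i ∈ Finset.Ico a b, rN i := by
      apply Finset.sum_le_sum
      intro i hi
      rw [Finset.mem_Ico] at hi
      rcases eq_or_lt_of_le hi.1 with rfl | hai
      · linarith
      · have := hM1 i hai hi.2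
        linarith
    rw [h1]
    linarith
  have hT : ∑ i ∈ Finset.range b, (rN b - σa * (eb n g b - eb n g i)) =
      ∑ i ∈ Finset.range b, (rN b - σb * (eb n g b - eb n g i)) +
      (σb - σa) * ∑ i ∈ Finset.range b, (eb n g b - eb n g i) := by
    rw [Finset.mul_sum, ← Finset.sum_add_distrib]
    apply Finset.sum_congr rfl
    intro i _
    ring
  have hra : rN a = rN b - σa * (eb n g b - eb n g a) := by linarith
  have hA : (eb n g b - eb n g a) * (rN a + rN b) + eb n g a * (2 * rN a - σa * eb n g a) =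
      eb n g b * (2 * rN b - σa * eb n g b) := by
    rw [hra]; ring
  have hN : (0 : ℝ) ≤ 2 * ((n : ℝ) + g) := by positivity
  have hS' := mul_le_mul_of_nonneg_left hS hN
  rw [hT] at hS'
  unfold Kp hb
  nlinarith [hS', hA]

theorem eb_last (hg : 1 ≤ g) (hn : 2 * g ≤ n) : eb n g n = (n : ℝ) + g := by
  unfold eb; rw [if_neg (by omega)]

theorem eb_zero : eb n g 0 = 0 := by
  unfold eb; simp

theorem chain_exists (hg : 1 ≤ g) (hn : 2 * g ≤ n) (rN eN : ℕ → ℝ)
    (hr : ∀ i j, i ≤ j → rN j ≤ rN i)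
    (heN : ∀ i, i ≤ n → eN i ≤ eb n g i) (heNn : eN n = eb n g n) :
    ∀ d a, a ≤ n → n - a = d → ∀ σm : ℝ, σm ≤ 0 →
      (∀ k, a < k → k ≤ n → σm * (eb n g k - eb n g a) ≤ rN k - rN a) →
      ∃ (μ : ℕ) (c : Fin (μ + 1) → Fin (n + 1)) (Φ σ : ℝ), StrictMono c ∧
        ((c 0 : Fin (n + 1)) : ℕ) = a ∧ c (Fin.last μ) = Fin.last n ∧
        (∑ j : Fin μ, (eN (c j.succ) - eN (c j.castSucc)) *
          (rN (c j.succ) + rN (c j.castSucc))) ≤ Φ + 2 * (eb n g a - eN a) * rN a ∧
        σm ≤ σ ∧ σ ≤ 0 ∧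
        (∀ k, a < k → k ≤ n → σ * (eb n g k - eb n g a) ≤ rN k - rN a) ∧
        Kp n g rN a Φ σ ≤ σ := by
  intro d
  induction d using Nat.strong_induction_on with
  | _ d ih =>
    intro a ha hd σm hσm hslope
    rcases eq_or_lt_of_le ha with rfl | han
    · have hsm : StrictMono (fun _ : Fin (0 + 1) => Fin.last a) := by
        intro i j hij
        have h1 := i.2
        have h2 := j.2
        rw [Fin.lt_def] at hij
        omega
      refine ⟨0, fun _ => Fin.last a, 0, 0, hsm, rfl, rfl, ?_, hσm, le_rfl,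
        fun k hk1 hk2 => absurd hk1 (by omega), ?_⟩
      · rw [heNn]; simp
      · unfold Kp
        rw [eb_last a g hg hn]
        simp only [Nat.Ico_succ_singleton, Finset.sum_singleton, Finset.sum_const,
          Finset.card_range, nsmul_eq_mul, zero_mul, sub_zero, zero_add]
        nlinarith
    · -- choose the minimal slope
      have hne : (Finset.Ioc a n).Nonempty := ⟨n, Finset.mem_Ioc.mpr ⟨han, le_rfl⟩⟩
      obtain ⟨b, hbmem, hmin⟩ := Finset.exists_min_image (Finset.Ioc a n)
        (fun k => (rN k - rN a) / (eb n g k - eb n g a)) hne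
      rw [Finset.mem_Ioc] at hbmem
      obtain ⟨hab, hbn⟩ := hbmem
      have hpos : ∀ k, a < k → 0 < eb n g k - eb n g a := fun k hk =>
        sub_pos.mpr (eb_lt n g hk)
      set σ := (rN b - rN a) / (eb n g b - eb n g a) with hσdef
      have hσeq : rN b - rN a = σ * (eb n g b - eb n g a) := by
        rw [hσdef, div_mul_cancel₀ _ (hpos b hab).ne']
      have hσk : ∀ k, a < k → k ≤ n → σ * (eb n g k - eb n g a) ≤ rN k - rN a := by
        intro k hk1 hk2
        have := hmin k (Finset.mem_Ioc.mpr ⟨hk1, hk2⟩)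
        exact (le_div_iff₀ (hpos k hk1)).mp this
      have hσm' : σm ≤ σ := by
        have := hslope b hab hbn
        rw [hσeq] at this
        exact le_of_mul_le_mul_right this (hpos b hab)
      have hσ0 : σ ≤ 0 := by
        have h1 := hr a b hab.le
        have h2 := hpos b hab
        by_contra hcon
        push Not at hcon
        nlinarith
      obtain ⟨μ', c', Φ', σ', hmono', hc0', hclast', hsum', hσσ', hσ'0, hslope', hK'⟩ :=
        ih (n - b) (by omega) b hbn rfl σ hσ0 (fun k hbk hkn => by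
          have h1 := hσk k (hab.trans hbk) hkn
          have h2 : σ * (eb n g k - eb n g b) =
              σ * (eb n g k - eb n g a) - σ * (eb n g b - eb n g a) := by ring
          linarith)
      have hlt : ∀ j, (⟨a, by omega⟩ : Fin (n + 1)) < c' j := by
        intro j
        have h0 : c' 0 ≤ c' j := hmono'.monotone (Fin.zero_le j)
        have : (⟨a, by omega⟩ : Fin (n + 1)) < c' 0 := by
          rw [Fin.lt_def, hc0']; exact hab
        exact lt_of_lt_of_le this h0
      refine ⟨μ' + 1, Fin.cons ⟨a, by omega⟩ c', Φ' + (eb n g b - eb n g a) * (rN a + rN b), σ,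
        Fin.strictMono_cons.mpr ⟨hlt, hmono'⟩, ?_, ?_, ?_, hσm', hσ0, hσk, ?_⟩
      · simp
      · rw [← Fin.succ_last, Fin.cons_succ, hclast']
      · rw [Fin.sum_univ_succ]
        simp only [Fin.cons_succ, Fin.castSucc_zero, Fin.cons_zero, ← Fin.succ_castSucc]
        rw [hc0']
        have hδa : 0 ≤ eb n g a - eN a := sub_nonneg.mpr (heN a ha)
        have hδb : 0 ≤ eb n g b - eN b := sub_nonneg.mpr (heN b hbn)
        have hrab := hr a b hab.le
        nlinarith [mul_nonneg (add_nonneg hδa hδb) (sub_nonneg.mpr hrab)]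
      · have hst := step n g rN a b hab hbn σ σ' Φ' hσeq
          (fun i hai hib => hσk i hai (by omega))
        have hh := one_le_hb n g hg hn b (by omega) hbn
        nlinarith [mul_le_mul_of_nonneg_left hh (sub_nonneg.mpr hσσ')]

end


/-- Let g ≥ 1 and n ≥ 2g, and let e_0, …, e_n be natural numbers with e_0 = 0, e_n = n + g, e_0 ≤ … ≤
e_n, e_i ≤ i for i ≤ n − g and e_i ≤ i + g for all i. Then for all real r_0 ≥ r_1 ≥ … ≥ r_n with Σ
r_i = 0, not all zero, some chain 0 = c_0 < c_1 < … < c_μ = n has Σ_j (e_(c_(j+1)) − e_(c_j)) ·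
(r_(c_(j+1)) + r_(c_j)) < 0. -/
theorem result (n g : ℕ) (hg : 1 ≤ g) (hn : 2 * g ≤ n)
    (e : Fin (n + 1) → ℕ) (he0 : e 0 = 0) (hen : e (Fin.last n) = n + g) (hmono : Monotone e)
    (hle : ∀ i : Fin (n + 1), (i : ℕ) ≤ n - g → e i ≤ (i : ℕ)) (hle' : ∀ i : Fin (n + 1), e i ≤ (i : ℕ) + g)
    (r : Fin (n + 1) → ℝ) (hanti : Antitone r) (hsum : ∑ i, r i = 0) (hr : r ≠ 0) :
    ∃ (μ : ℕ) (c : Fin (μ + 1) → Fin (n + 1)), StrictMono c ∧ c 0 = 0 ∧ c (Fin.last μ) = Fin.last n ∧
      ∑ j : Fin μ, ((e (c j.succ) : ℝ) - (e (c j.castSucc) : ℝ)) * (r (c j.succ) + r (c j.castSucc)) < 0 := by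
  let cl : ℕ → Fin (n + 1) := fun i => ⟨min i n, Nat.lt_succ_of_le (min_le_right i n)⟩
  have hcl : ∀ i : Fin (n + 1), cl i = i := fun i =>
    Fin.ext (min_eq_left (Nat.lt_succ_iff.mp i.2))
  have hclmono : ∀ i j, i ≤ j → cl i ≤ cl j := fun i j h => by
    rw [Fin.le_def]; exact min_le_min_right n h
  have hrN : ∀ i j, i ≤ j → r (cl j) ≤ r (cl i) := fun i j h => hanti (hclmono i j h)
  have heN : ∀ i, i ≤ n → ((e (cl i) : ℕ) : ℝ) ≤ eb n g i := by
    intro i hi
    have hci : ((cl i : Fin (n + 1)) : ℕ) = i := min_eq_left hi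
    unfold eb
    split_ifs with h
    · have := hle (cl i) (by rw [hci]; exact h)
      rw [hci] at this; exact_mod_cast this
    · have := hle' (cl i)
      rw [hci] at this; exact_mod_cast this
  have hcln : cl n = Fin.last n := Fin.ext (min_self n)
  have hcl0 : cl 0 = 0 := Fin.ext (Nat.zero_min n)
  have heNn : ((e (cl n) : ℕ) : ℝ) = eb n g n := by
    rw [eb_last n g hg hn, hcln, hen]; push_cast; ring
  have hr0n : r (cl n) < r (cl 0) := by
    by_contra hcon
    push Not at hcon
    apply hr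
    have hall : ∀ i, r i = r 0 := by
      intro i
      have h1 : r i ≤ r 0 := hanti (Fin.zero_le i)
      have h2 : r (Fin.last n) ≤ r i := hanti (Fin.le_last i)
      rw [hcln, hcl0] at hcon
      linarith
    have h0 : r 0 = 0 := by
      have : ∑ i : Fin (n + 1), r i = ((n : ℝ) + 1) * r 0 := by
        simp only [hall, Finset.sum_const, Finset.card_univ, Fintype.card_fin, nsmul_eq_mul]
        push_cast; ring
      rw [hsum] at this
      have hn1 : (0 : ℝ) < (n : ℝ) + 1 := by positivity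
      rcases mul_eq_zero.mp this.symm with h | h
      · linarith
      · exact h
    funext i
    rw [hall i, h0]; rfl
  have key := chain_exists n g hg hn (fun i => r (cl i)) (fun i => ((e (cl i) : ℕ) : ℝ)) hrN heN heNn
    n 0 (Nat.zero_le n) rfl (r (cl n) - r (cl 0)) (by linarith) (by
      intro k hk1 hk2
      have h1 : (1 : ℝ) ≤ eb n g k := by
        have hk1' : (1 : ℝ) ≤ k := by exact_mod_cast hk1
        have hg0 : (0 : ℝ) ≤ g := by positivity
        unfold eb; split_ifs <;> linarith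
      have h2 : r (cl n) ≤ r (cl k) := hrN k n hk2
      rw [eb_zero]
      nlinarith)
  obtain ⟨μ, c, Φ, σ, hmono', hc0, hclast, hsum', -, hσ0, hslope, hK⟩ := key
  refine ⟨μ, c, hmono', Fin.ext hc0, hclast, ?_⟩
  have h1 : σ < 0 := by
    have := hslope n (by omega) le_rfl
    rw [eb_last n g hg hn, eb_zero] at this
    have hN : (0 : ℝ) < (n : ℝ) + g := by
      have : (1 : ℝ) ≤ g := by exact_mod_cast hg
      positivity
    by_contra hcon
    push Not at hcon
    nlinarith
  have h2 : Kp n g (fun i => r (cl i)) 0 Φ σ = ((n : ℝ) + 1) * Φ := by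
    unfold Kp
    rw [eb_zero]
    have : ∑ i ∈ Finset.Ico 0 (n + 1), r (cl i) = 0 := by
      rw [← Finset.range_eq_Ico, Finset.sum_range (fun i => r (cl i))]
      simp only [hcl]
      exact hsum
    simp only [this, Finset.range_zero, Finset.sum_empty]
    ring
  rw [h2] at hK
  have hΦ : Φ < 0 := by
    have hn1 : (0 : ℝ) < (n : ℝ) + 1 := by positivity
    by_contra hcon
    push Not at hcon
    nlinarith
  simp only [hcl] at hsum'
  rw [eb_zero, hcl0, he0] at hsum'
  simp only [Nat.cast_zero, sub_zero, mul_zero, zero_mul, add_zero] at hsum'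
  linarith

end Groth.Agent.S12549
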