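import Groth.Statements.S12550
import Mathlib
-- import your own Groth.Agent.* helpers here

set_option autoImplicit false
universe u
open GIT

namespace Groth.Agent.S12550

/-- Let V be a finite-dimensional vector space over a field K and x_0, …, x_m non-zero vectors, a
configuration of m + 1 points of the projective space P(V). If for every subspace L with 0 ≠ L ≠ V
the number of indices i with x_i ∈ L, multiplied by dim V, is less than dim L · (m + 1) (the
configuration is stable), then no two proper subspaces L', L'' with L' ∩ L'' = 0 contain between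
them all the x_i. -/
theorem result (K : Type u) [Field K]
    (V : Type u) [AddCommGroup V] [Module K V] [FiniteDimensional K V]
    (m : ℕ) (x : Fin (m + 1) → V) (hx : ∀ i, x i ≠ 0)
    (hst : ∀ L : Submodule K V, L ≠ ⊥ → L ≠ ⊤ →
      Set.ncard {i : Fin (m + 1) | x i ∈ L} * Module.finrank K V < Module.finrank K L * (m + 1)) :
    ¬ ∃ L' L'' : Submodule K V, L' ≠ ⊤ ∧ L'' ≠ ⊤ ∧ Disjoint L' L'' ∧ ∀ i, x i ∈ L' ∨ x i ∈ L'' := by
  rintro ⟨L', L'', hL', hL'', hdisj, hcov⟩
  have hdim := Submodule.finrank_add_finrank_le_of_disjoint hdisj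
  have hN : Set.ncard {i : Fin (m + 1) | x i ∈ L'} + Set.ncard {i : Fin (m + 1) | x i ∈ L''} ≥ m + 1 := by
    have hun : {i : Fin (m + 1) | x i ∈ L'} ∪ {i : Fin (m + 1) | x i ∈ L''} = Set.univ := by
      ext i
      simp only [Set.mem_union, Set.mem_setOf_eq, Set.mem_univ, iff_true]
      exact hcov i
    have := Set.ncard_union_le {i : Fin (m + 1) | x i ∈ L'} {i : Fin (m + 1) | x i ∈ L''}
    rw [hun, Set.ncard_univ, Nat.card_eq_fintype_card, Fintype.card_fin] at this
    exact this
  have hbot : ∀ L : Submodule K V, L = ⊥ → Set.ncard {i : Fin (m + 1) | x i ∈ L} = 0 := by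
    intro L hL
    have : {i : Fin (m + 1) | x i ∈ L} = ∅ := by
      ext i
      simp only [Set.mem_setOf_eq, Set.mem_empty_iff_false, iff_false, hL, Submodule.mem_bot]
      exact hx i
    rw [this, Set.ncard_empty]
  have hle : ∀ L : Submodule K V, Set.ncard {i : Fin (m + 1) | x i ∈ L} ≤ m + 1 := by
    intro L
    have := Set.ncard_le_ncard (Set.subset_univ {i : Fin (m + 1) | x i ∈ L}) (Set.toFinite _)
    rw [Set.ncard_univ, Nat.card_eq_fintype_card, Fintype.card_fin] at this
    exact this
  have hfin' : Module.finrank K L' ≤ Module.finrank K V := Submodule.finrank_le L'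
  have hfin'' : Module.finrank K L'' ≤ Module.finrank K V := Submodule.finrank_le L''
  by_cases h1 : L' = ⊥
  · by_cases h2 : L'' = ⊥
    · have e1 := hbot L' h1
      have e2 := hbot L'' h2
      omega
    · have e1 := hbot L' h1
      have s2 := hst L'' h2 hL''
      have := hle L''
      have e3 : Set.ncard {i : Fin (m + 1) | x i ∈ L''} = m + 1 := by omega
      rw [e3] at s2
      nlinarith
  · by_cases h2 : L'' = ⊥
    · have e2 := hbot L'' h2
      have s1 := hst L' h1 hL'
      have := hle L'
      have e3 : Set.ncard {i : Fin (m + 1) | x i ∈ L'} = m + 1 := by omega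
      rw [e3] at s1
      nlinarith
    · have s1 := hst L' h1 hL'
      have s2 := hst L'' h2 hL''
      nlinarith

end Groth.Agent.S12550
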