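import Groth.Statements.S12556
import Groth.Agent.Lib.Helper25Reynolds

set_option autoImplicit false
universe u
open TensorProduct
open GIT

namespace Groth.Agent.S12556

/-- Let k be a field, G = Spec A a linearly reductive affine group (A a commutative Hopf algebra whose
finite-dimensional comodules are all semisimple) acting on the affine scheme Spec R (a
multiplicative coaction of A on the commutative k-algebra R), and E : R → R a linear map commuting
with the coaction, idempotent, and fixing exactly the invariant elements. Then E(x · y) = E(x) · y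
for all x in R and all invariant y. -/
theorem result (k : Type u) [Field k] (A : Type u) [CommRing A] [HopfAlgebra k A]
    (hG : HopfRep.IsLinearlyReductive k A)
    (R : Type u) [CommRing R] [Algebra k R] [HopfRep.Comod k A R] [GLin.IsCoactAlg k A R]
    (E : R →ₗ[k] R) (h₁ : Hoch.IsComodHom A E) (h₂ : E ∘ₗ E = E)
    (h₃ : ∀ x : R, E x = x ↔ x ∈ GLin.invariants k A R)
    (x y : R) (hy : y ∈ GLin.invariants k A R) : E (x * y) = E x * y := by
  open Groth.Agent.Lib.Helper25 in
  have hss := isSemisimpleComod_of_isLinearlyReductive hG R
  have h₃' : ∀ x : R, E x = x ↔ x ∈ HopfRep.fixedPts k A R := h₃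
  have hrE : ∀ x, E x ∈ HopfRep.fixedPts k A R := fun x => (h₃' _).mp (LinearMap.congr_fun h₂ x)
  have hker : LinearMap.ker E ⊓ HopfRep.fixedPts k A R = ⊥ := by
    rw [eq_bot_iff]
    rintro z ⟨hz1, hz2⟩
    rw [Submodule.mem_bot, ← (h₃' z).mpr hz2]
    exact hz1
  -- multiplication by `y` is a comodule map
  have hmul : Hoch.IsComodHom A (LinearMap.mulRight k y) := by
    apply LinearMap.ext
    intro z
    change HopfRep.Comod.coact (k := k) (A := A) (z * y) =
      (LinearMap.mulRight k y).rTensor A (HopfRep.Comod.coact (k := k) (A := A) z)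
    rw [GLin.IsCoactAlg.coact_mul, (GLin.mem_invariants_iff k A R y).mp hy]
    generalize HopfRep.Comod.coact (k := k) (A := A) z = t
    induction t using TensorProduct.induction_on with
    | zero => simp
    | add a b ha hb => rw [add_mul, map_add, ha, hb]
    | tmul r a => simp [Algebra.TensorProduct.tmul_mul_tmul]
  open Groth.Agent.Lib.Helper25 in
  have h0 : (E ∘ₗ LinearMap.mulRight k y) (x - E x) = 0 :=
    eq_zero_of_range_le_fixedPts hss (isComodHom_comp hmul h₁) (fun z => hrE _)
      (isSubcomod_ker h₁) hker (by
        rw [LinearMap.mem_ker, map_sub]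
        have := LinearMap.congr_fun h₂ x
        simp only [LinearMap.comp_apply] at this
        rw [this, sub_self])
  simp only [LinearMap.comp_apply, LinearMap.mulRight_apply, sub_mul, map_sub] at h0
  rw [sub_eq_zero] at h0
  rw [h0]
  exact (h₃ _).mpr ((GLin.invariants k A R).mul_mem (hrE x) hy)

end Groth.Agent.S12556
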