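import Groth.Statements.S12557
import Groth.Agent.Lib.Helper25Reynolds

set_option autoImplicit false
universe u
open TensorProduct
open GIT

namespace Groth.Agent.S12557

/-- Let k be a field, G = Spec A a linearly reductive affine group (A a commutative Hopf algebra whose
finite-dimensional comodules are all semisimple) acting on the affine scheme Spec R, R_0 ⊆ R the
ring of invariants, and (𝔄_i) a family of ideals of R each stable under the coaction. Then the sum
of the 𝔄_i meets R_0 in the sum of the intersections 𝔄_i ∩ R_0. -/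
theorem result (k : Type u) [Field k] (A : Type u) [CommRing A] [HopfAlgebra k A]
    (hG : HopfRep.IsLinearlyReductive k A)
    (R : Type u) [CommRing R] [Algebra k R] [HopfRep.Comod k A R] [GLin.IsCoactAlg k A R]
    (ι : Type u) (𝔄 : ι → Ideal R) (h𝔄 : ∀ i, HopfRep.IsSubcomod (k := k) (A := A) ((𝔄 i).restrictScalars k)) :
    (⨆ i, (𝔄 i).restrictScalars k) ⊓ Subalgebra.toSubmodule (GLin.invariants k A R) =
      ⨆ i, ((𝔄 i).restrictScalars k ⊓ Subalgebra.toSubmodule (GLin.invariants k A R)) := by
  open Groth.Agent.Lib.Helper25 in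
  have hss := isSemisimpleComod_of_isLinearlyReductive hG R
  open Groth.Agent.Lib.Helper25 in
  obtain ⟨E, hE, hEE, hEx⟩ := exists_reynolds hss
  have hrE : ∀ x, E x ∈ HopfRep.fixedPts k A R := fun x => (hEx _).mp (LinearMap.congr_fun hEE x)
  apply le_antisymm
  · rintro x ⟨hx1, hx2⟩
    have hx3 : x ∈ HopfRep.fixedPts k A R := hx2
    rw [← (hEx x).mpr hx3]
    refine Submodule.iSup_induction (fun i => (𝔄 i).restrictScalars k)
      (motive := fun y => E y ∈ ⨆ i, ((𝔄 i).restrictScalars k ⊓
        Subalgebra.toSubmodule (GLin.invariants k A R))) hx1 ?_ ?_ ?_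
    · intro i y hy
      refine Submodule.mem_iSup_of_mem i ⟨?_, hrE y⟩
      exact Groth.Agent.Lib.Helper25.reynolds_mem_of_isSubcomod hss hE hEE hEx (h𝔄 i) hy
    · rw [map_zero]
      exact Submodule.zero_mem _
    · intro y z hy hz
      rw [map_add]
      exact Submodule.add_mem _ hy hz
  · exact iSup_le (fun i => le_inf (le_iSup_of_le i inf_le_left) inf_le_right)

end Groth.Agent.S12557
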