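import Groth.Statements.S12575
import Groth.Agent.Lib.LeadTT9
open FunFld WithZero Groth.Agent.Lib.LeadFF Groth.Agent.Lib.LeadCE Groth.Agent.Lib.LeadTR Groth.Agent.Lib

set_option autoImplicit false
universe u v w
open FunFld

namespace Groth.Agent.S12575

/-- Let `Q` be a place of a finite separable extension `K' = K(y)` of a geometric function field of one
variable `K/k`, over `P` with ramification index `e` and residue degree `1`, both with Laurent
expansions over `k` in local parameters, with `y` integral over `O_P` and `g` its minimal polynomial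
over `K`. Then `v_Q(g'(y)) ≥ d(Q|P)`, and when equality holds `O_Q` is the localisation of `O_P[y]`
at `Q`. -/
theorem result (k : Type u) (K K' : Type v) [Field k] [Field K] [Field K'] [Algebra k K] [Algebra K K'] [Algebra k K']
    [IsScalarTower k K K'] [FiniteDimensional K K'] [Algebra.IsSeparable K K']
    (hK : FunFld.IsFunctionField k K) (hg : FunFld.IsGeometric k K)
    (F F' : Type w) [Field F] [Algebra k F] [Field F'] [Algebra k F']
    (P : FunFld.Place k K) (Q : FunFld.Place k K') (e : ℕ) (he : FunFld.IsOverWith Q P e)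
    (φ : K →ₐ[k] LaurentSeries F) (hφ : LocRes.IsExpansionAt P.1 φ)
    (ψ : K' →ₐ[k] LaurentSeries F') (hψ : LocRes.IsExpansionAt Q.1 ψ)
    (x : K) (hx : LocRes.vDiff φ 1 x ≠ 0) (hx' : LocRes.vDiff ψ 1 (algebraMap K K' x) ≠ 0)
    [P.1.HasExtension Q.1]
    (hf : Function.Surjective (algebraMap (IsLocalRing.ResidueField P.O) (IsLocalRing.ResidueField Q.O)))
    [Algebra P.O K'] [IsScalarTower P.O K K']
    (y : K') (hy : IntermediateField.adjoin K ({y} : Set K') = ⊤) (hyi : IsIntegral P.O y) :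
    LocRes.diffExp φ ψ e x ≤ Q.ord (Polynomial.aeval y (Polynomial.derivative (minpoly K y))) ∧
    (Q.ord (Polynomial.aeval y (Polynomial.derivative (minpoly K y))) = LocRes.diffExp φ ψ e x →
      ∀ z : K', Q.1 z ≤ 1 → ∃ a ∈ Algebra.adjoin P.O ({y} : Set K'), ∃ b ∈ Algebra.adjoin P.O ({y} : Set K'),
        Q.1 b = 1 ∧ z * b = a) := by
  classical
  set δ := Polynomial.aeval y (Polynomial.derivative (minpoly K y)) with hδdef
  set d := LocRes.diffExp φ ψ e x with hd
  have hδ0 : δ ≠ 0 :=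
    (Algebra.IsSeparable.isSeparable K y).aeval_derivative_ne_zero (minpoly.aeval _ _)
  have hQδ : Q.1 δ = exp (-(Q.ord δ)) := LeadFG.val_eq_exp_neg_ord Q hδ0
  have hQP : IsOver Q P := ⟨e, he⟩
  have hadj : ∀ r ∈ Algebra.adjoin P.O ({y} : Set K'), Q.1 r ≤ 1 := fun r hr =>
    InR_of_isIntegral P (_root_.adjoin_le_integralClosure hyi hr) Q hQP
  obtain ⟨_, y₀, hy₀1, hy₀2⟩ := traceDual_diffExp hK hg P Q e he φ hφ ψ hψ x hx hx'
  have h1 : d ≤ Q.ord δ := by
    have := hadj _ (deriv_mul_mem_adjoin P y hy hyi y₀ hy₀1)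
    rw [map_mul, hQδ, hy₀2, ← exp_add, ← exp_zero, exp_le_exp] at this
    omega
  refine ⟨h1, fun heq z hz => ?_⟩
  have hQδi : Q.1 δ⁻¹ = exp d := by
    rw [map_inv₀, hQδ, heq, ← exp_neg, neg_neg]
  set Qs := (finite_over (K' := K') hK P).toFinset with hQsdef
  have hQs : ∀ Q', Q' ∈ Qs ↔ IsOver Q' P := by intro Q'; simp [Qs]
  have hQmem : Q ∈ Qs := (hQs Q).mpr hQP
  obtain ⟨M, hM⟩ := LeadFG.zm0_finset_bound Qs (fun Q' => max (Q'.1 δ⁻¹) (Q'.1 (z * δ⁻¹)))
  set N : ℤ := max 1 M with hN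
  have hN1 : 1 ≤ N := le_max_left _ _
  have hNM : (M : ℤ) ≤ N := le_max_right _ _
  obtain ⟨b, hb⟩ := LeadFG.exists_approx Qs (fun Q' => if Q' = Q then (1 : K') else 0) N
  have hbQ : Q.1 (b - 1) ≤ exp (-N) := by
    have := hb Q hQmem
    rwa [if_pos rfl] at this
  have hbQ' : ∀ Q' ∈ Qs, Q' ≠ Q → Q'.1 b ≤ exp (-N) := by
    intro Q' h hne
    have := hb Q' h
    rwa [if_neg hne, sub_zero] at this
  have hQb : Q.1 b = 1 := by
    have h : Q.1 b = Q.1 1 := by
      apply Valuation.map_eq_of_sub_lt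
      rw [map_one]
      refine lt_of_le_of_lt hbQ ?_
      rw [← exp_zero, exp_lt_exp]; omega
    rw [h, map_one]
  have hmem1 : δ * (b * δ⁻¹) ∈ Algebra.adjoin P.O ({y} : Set K') := by
    refine deriv_mul_mem_adjoin P y hy hyi _
      (mem_traceDual_of_bounds hK hg P Q e he φ hφ ψ hψ x hx hx' (b * δ⁻¹) ?_ ?_)
    · rw [map_mul, hQb, one_mul, hQδi]
    · intro Q' hQ' hne
      rw [map_mul]
      calc Q'.1 b * Q'.1 δ⁻¹ ≤ exp (-N) * exp (M : ℤ) :=
            mul_le_mul' (hbQ' Q' ((hQs Q').mpr hQ') hne)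
              ((le_max_left _ _).trans (hM Q' ((hQs Q').mpr hQ')))
        _ ≤ 1 := by rw [← exp_add, ← exp_zero, exp_le_exp]; omega
  have hmem2 : δ * (b * (z * δ⁻¹)) ∈ Algebra.adjoin P.O ({y} : Set K') := by
    refine deriv_mul_mem_adjoin P y hy hyi _
      (mem_traceDual_of_bounds hK hg P Q e he φ hφ ψ hψ x hx hx' (b * (z * δ⁻¹)) ?_ ?_)
    · rw [map_mul, map_mul, hQb, one_mul, hQδi]
      calc Q.1 z * exp d ≤ 1 * exp d := mul_le_mul' hz le_rfl
        _ = exp d := one_mul _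
    · intro Q' hQ' hne
      rw [map_mul]
      calc Q'.1 b * Q'.1 (z * δ⁻¹) ≤ exp (-N) * exp (M : ℤ) :=
            mul_le_mul' (hbQ' Q' ((hQs Q').mpr hQ') hne)
              ((le_max_right _ _).trans (hM Q' ((hQs Q').mpr hQ')))
        _ ≤ 1 := by rw [← exp_add, ← exp_zero, exp_le_exp]; omega
  have e1 : δ * (b * δ⁻¹) = b := by field_simp
  have e2 : δ * (b * (z * δ⁻¹)) = z * b := by field_simp
  rw [e1] at hmem1
  rw [e2] at hmem2
  exact ⟨z * b, hmem2, b, hmem1, hQb, rfl⟩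

end Groth.Agent.S12575
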