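import Groth.Statements.S12583
import Groth.Agent.Lib.LeadHS3

set_option autoImplicit false
universe u v w
open FunFld

namespace Groth.Agent.S12583

/-- At a separable place `P` of a geometric function field of one variable `K/k` with local parameter
`t`, if `x ∈ O_P` has expansion `∑ a_m t^m` then the Hasse derivative `D_t^{(n)}(x)` expands as the
series with coefficients `C(m,n) a_m` in degree `m - n`; in particular `D_t^{(n)}(O_P) ⊆ O_P`. Here
`φ` is a Laurent expansion over `k` at `P` with `φ t = X` and `H` is the total Hasse derivative with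
respect to `t`. -/
theorem result (k : Type u) (K : Type v) [Field k] [Field K] [Algebra k K] (hK : FunFld.IsFunctionField k K) (hg : FunFld.IsGeometric k K)
    (P : FunFld.Place k K) (F : Type w) [Field F] [Algebra k F]
    (φ : K →ₐ[k] LaurentSeries F) (hφ : LocRes.IsExpansionAt P.1 φ)
    (t : K) (ht : φ t = HahnSeries.single 1 1)
    (H : K →ₐ[k] PowerSeries K) (hH : LocRes.IsHasseFamily t H)
    (x : K) (hx : P.1 x ≤ 1) (n : ℕ) :
    φ (LocRes.hasseD H n x) = LaurentSeries.hasseDeriv F n (φ x) := by
  have hv : Valued.v (φ x) ≤ 1 := by rw [hφ.1]; exact hx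
  obtain ⟨f, hf⟩ := (LaurentSeries.val_le_one_iff_eq_coe F (φ x)).mp hv
  have hf' : φ x = HahnSeries.ofPowerSeries ℤ F f := hf.symm
  rw [Groth.Agent.Lib.LeadHS.expansion_hasseD hK hg φ t ht H hH x f hf' n, hf',
    Groth.Agent.Lib.LeadHS.hasseDeriv_coe]

end Groth.Agent.S12583
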