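import Groth.Statements.S12586
import Groth.Agent.Lib.LeadRI2

set_option autoImplicit false
universe u v
open FunFld

namespace Groth.Agent.S12586

/-- For `k` perfect of characteristic `2`, a function field of one variable `K/k` of genus `≥ 2` has at
most one rational subfield `k(x)` over which `K` is separable of degree `2`. (The published
statement says: the unique rational subfield of index `2`; the argument given covers the subfields
over which `K` is separable, which is what is stated here.) -/
theorem result (k : Type u) (K : Type v) [Field k] [Field K] [Algebra k K] [PerfectField k]
    (h2 : ringChar k = 2) (hK : FunFld.IsFunctionField k K) (hg : 2 ≤ FunFld.genus k K)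
    (x x' : K) (hx : Module.finrank (IntermediateField.adjoin k ({x} : Set K)) K = 2)
    [Algebra.IsSeparable (IntermediateField.adjoin k ({x} : Set K)) K]
    (hx' : Module.finrank (IntermediateField.adjoin k ({x'} : Set K)) K = 2)
    [Algebra.IsSeparable (IntermediateField.adjoin k ({x'} : Set K)) K] :
    IntermediateField.adjoin k ({x} : Set K) = IntermediateField.adjoin k ({x'} : Set K) := by
  by_contra hne
  by_cases h1 : x' ∈ IntermediateField.adjoin k ({x} : Set K)
  · by_cases h2 : x ∈ IntermediateField.adjoin k ({x'} : Set K)
    · apply hne
      apply le_antisymm
      · rw [IntermediateField.adjoin_le_iff]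
        intro z hz
        rw [Set.mem_singleton_iff] at hz
        subst hz
        exact h2
      · rw [IntermediateField.adjoin_le_iff]
        intro z hz
        rw [Set.mem_singleton_iff] at hz
        subst hz
        exact h1
    · have := Groth.Agent.Lib.LeadRI.genus_le_one_of_two hK hx' hx h2
      omega
  · have := Groth.Agent.Lib.LeadRI.genus_le_one_of_two hK hx hx' h1
    omega

end Groth.Agent.S12586
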