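import Groth.Statements.S12588
import Groth.Agent.Lib.LeadMS4

set_option autoImplicit false
universe u v w
open FunFld

namespace Groth.Agent.S12588

/-- For `k` perfect of characteristic `2`, `K` separable of degree `2` over `k(x)` with `y² + y = f(x)`,
and a place `p` of `k(x)` where `f` has a pole whose order `2d - 1` is odd: a place `P` of `K` above
`p` with ramification index `e` (necessarily `e = 2`, `P` unique) has different exponent `d(P|p) =
2d = 1 - ord_p(f)`; the exponent is computed on `dz` through Laurent expansions over `k` at `p` and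
`P`. -/
theorem result (k : Type u) (K : Type v) [Field k] [Field K] [Algebra k K] [Algebra (RatFunc k) K] [IsScalarTower k (RatFunc k) K]
    (hK : FunFld.IsFunctionField k K) (hdeg : Module.finrank (RatFunc k) K = 2) [PerfectField k] (h2 : ringChar k = 2)
    [Algebra.IsSeparable (RatFunc k) K]
    (y : K) (hy : y ∉ Set.range (algebraMap (RatFunc k) K)) (f : RatFunc k)
    (heq : y ^ 2 + y = algebraMap (RatFunc k) K f)
    (p : FunFld.Place k (RatFunc k)) (hp : 1 < p.1 f) (hodd : Odd (p.ord f))
    (P : FunFld.Place k K) (e : ℕ) (he : FunFld.IsOverWith P p e)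
    (F F' : Type w) [Field F] [Algebra k F] [Field F'] [Algebra k F']
    (φ : RatFunc k →ₐ[k] LaurentSeries F) (hφ : LocRes.IsExpansionAt p.1 φ)
    (ψ : K →ₐ[k] LaurentSeries F') (hψ : LocRes.IsExpansionAt P.1 ψ)
    (z : RatFunc k) (hz : LocRes.vDiff φ 1 z ≠ 0) (hz' : LocRes.vDiff ψ 1 (algebraMap (RatFunc k) K z) ≠ 0) :
    LocRes.diffExp φ ψ e z = 1 - p.ord f := by
  open Groth.Agent.Lib.LeadFF Groth.Agent.Lib.LeadMS WithZero in
  classical
  have hf0 : f ≠ 0 := by rintro rfl; simp at hp
  set n := p.ord f with hn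
  have hpf : p.1 f = exp (-n) := val_eq_exp_neg_ord p hf0
  have hnneg : n < 0 := by
    rw [hpf, ← exp_zero, exp_lt_exp] at hp; omega
  haveI : FiniteDimensional (RatFunc k) K :=
    Module.finite_of_finrank_pos (by rw [hdeg]; norm_num)
  -- e = 2
  have he2 : e = 2 := by
    have h1 := (artin_schreier_ramification h2 hdeg y hy f heq p).1 ⟨hnneg, hodd⟩
    exact (isOverWith_unique he (h1.2 P ⟨e, he⟩).1).2
  subst he2
  -- characteristic 2
  haveI : CharP k 2 := by rw [← h2]; exact ringChar.charP k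
  haveI : CharP F 2 := charP_of_injective_algebraMap (algebraMap k F).injective 2
  haveI : CharP F' 2 := charP_of_injective_algebraMap (algebraMap k F').injective 2
  haveI : CharP (LaurentSeries F') 2 :=
    charP_of_injective_algebraMap (algebraMap k (LaurentSeries F')).injective 2
  have hnF : ((n : ℤ) : F) ≠ 0 := by
    obtain ⟨m, hm⟩ := hodd
    have h2F : (2 : F) = 0 := by exact_mod_cast CharP.cast_eq_zero F 2
    rw [hm]; push_cast
    rw [h2F]; simp
  have hnF' : ((n : ℤ) : F') ≠ 0 := by
    obtain ⟨m, hm⟩ := hodd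
    have h2F : (2 : F') = 0 := by exact_mod_cast CharP.cast_eq_zero F' 2
    rw [hm]; push_cast
    rw [h2F]; simp
  -- value of y
  have hPf : P.1 (algebraMap (RatFunc k) K f) = exp (-n) ^ 2 := by rw [he, hpf]
  have hy1 : 1 < P.1 y := by
    by_contra hle
    push Not at hle
    have h1 : P.1 (y ^ 2 + y) ≤ 1 := by
      refine (P.1.map_add _ _).trans (max_le ?_ hle)
      rw [map_pow]; exact pow_le_one₀ zero_le' hle
    rw [heq, hPf, zm0_exp_pow, ← exp_zero, exp_le_exp] at h1
    omega
  have hy2 : P.1 (y ^ 2 + y) = P.1 (y ^ 2) := by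
    apply Valuation.map_add_eq_of_lt_left
    rw [map_pow, pow_two]
    have h0 : 0 < P.1 y := lt_trans zero_lt_one hy1
    calc P.1 y = P.1 y * 1 := (mul_one _).symm
      _ < P.1 y * P.1 y := by
        exact (mul_lt_mul_iff_right₀ h0).mpr hy1
  have hy0 : y ≠ 0 := by rintro rfl; simp at hy1
  have hPy : P.1 y = exp (-n) := by
    have h1 : P.1 y = exp (-(P.ord y)) := val_eq_exp_neg_ord P hy0
    rw [heq, hPf, map_pow, h1, zm0_exp_pow, zm0_exp_pow, exp_inj] at hy2
    rw [h1]
    congr 1; omega
  -- derivative of ψ (f) equals that of ψ y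
  have hDf : LocRes.D F' (ψ (algebraMap (RatFunc k) K f)) = LocRes.D F' (ψ y) := by
    rw [← heq, map_add, map_pow, map_add, Derivation.leibniz_pow]
    have : ((2 : ℕ) : LaurentSeries F') = 0 := CharP.cast_eq_zero _ 2
    rw [← Nat.cast_smul_eq_nsmul (LaurentSeries F'), this, zero_smul, zero_add]
  have hvψ : Valued.v (LocRes.D F' (ψ (algebraMap (RatFunc k) K f))) = exp (-(n - 1)) := by
    rw [hDf]
    exact val_D_of_ne (by rw [hψ.1, hPy]) hnF'
  have hvφ : Valued.v (LocRes.D F (φ f)) = exp (-(n - 1)) :=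
    val_D_of_ne (by rw [hφ.1, hpf]) hnF
  have hΩ := finrank_kaehler_ratFunc k
  rw [diffExp_eq' hΩ p P 2 he φ hφ ψ hψ z f hz hz' (by rw [vDiff_one, hvφ]; exact exp_ne_zero)]
  unfold LocRes.diffExp LocRes.ordDiff
  rw [vDiff_one, vDiff_one, hvψ, hvφ, log_exp]
  push_cast; ring

end Groth.Agent.S12588
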