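import Groth.Statements.S12596
import Groth.Agent.Lib.LeadSV2

set_option autoImplicit false
open FunFld

namespace Groth.Agent.S12596

/-- Over an algebraically closed constant field, replacing a projective map `φ` by `Aφ` for an
invertible matrix `A` over `k` does not change the `τ`-order sequence, and multiplies every
generalized Wronskian determinant `det [τ(φ) | D^(I₁) φ | ⋯ | D^(Iₙ) φ]` (Hasse derivatives taken
with `H`) by `det A`. -/
theorem result
    (k K : Type*) [Field k] [IsAlgClosed k] [Field K] [Algebra k K]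
    (hK : FunFld.IsFunctionField k K) {n : ℕ} (φ : Fin (n + 1) → K) (hφ : LinearIndependent k φ)
    (τ : K →ₐ[k] K) (s : K) (H : K →ₐ[k] PowerSeries K) (hH : LocRes.IsHasseFamily s H)
    (A : Matrix (Fin (n + 1)) (Fin (n + 1)) k) (hA : A.det ≠ 0)
    (φ' : Fin (n + 1) → K) (hφ' : ∀ i, φ' i = ∑ j, A i j • φ j) :
    (∀ J : Fin n → ℕ, FunFld.IsOrders K (FunFld.hcol τ H φ') J ↔ FunFld.IsOrders K (FunFld.hcol τ H φ) J) ∧
    ∀ I : Fin n → ℕ, (FunFld.wrMat τ H φ' I).det = algebraMap k K A.det * (FunFld.wrMat τ H φ I).det := by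
  obtain ⟨T, hT⟩ := Groth.Agent.Lib.LeadSV.hcol_change A φ φ' hA hφ' τ H
  refine ⟨fun J => ?_, fun I => ?_⟩
  · have : FunFld.hcol τ H φ' = fun m => T (FunFld.hcol τ H φ m) := funext hT
    rw [this]
    exact Groth.Agent.Lib.LeadSV.isOrders_equiv T _ J
  · rw [Groth.Agent.Lib.LeadSV.wrMat_change A φ φ' hφ' τ H I, Matrix.det_mul]
    congr 1
    rw [RingHom.map_det]; rfl

end Groth.Agent.S12596
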