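import Groth.Statements.S12620
import Mathlib
-- import your own Groth.Agent.* helpers here

set_option autoImplicit false
universe u v w
open LocRes

namespace Groth.Agent.S12620

/-- Let `K` be a field with a valuation `w` into `ℤ ∪ {0}` and `φ : K → F((X))` a `k`-algebra expansion
at `w` in a local parameter (valuation-compatible, valuation ring onto the coefficient field `F`,
`w` normalised). Then for every nonzero `f` the residue of the logarithmic differential `f⁻¹ df`
read through `φ` — the `X⁻¹`-coefficient of `φ(f)⁻¹ · (φ f)′` — is the order of `f` at `w` (the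
integer `n` with `w f = exp (-n)`), viewed in `F`. (The published statement is for a complete field
with a perfect coefficient field and its intrinsic residue; read through an expansion neither
completeness nor perfectness plays a role.) -/
theorem result {k : Type u} {K : Type v} {F : Type w} [CommRing k] [Field K] [Field F]
    [Algebra k K] [Algebra k F]
    (w : Valuation K (WithZero (Multiplicative ℤ))) (φ : K →ₐ[k] LaurentSeries F)
    (hφ : LocRes.IsExpansionAt w φ) (f : K) (hf : f ≠ 0) :
    LocRes.resExp φ f⁻¹ f = ((-WithZero.log (w f) : ℤ) : F) := by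
  obtain ⟨hv, -, -⟩ := hφ
  have hwf : w f ≠ 0 := (Valuation.ne_zero_iff w).mpr hf
  obtain ⟨n, hn⟩ : ∃ n : ℤ, n = -WithZero.log (w f) := ⟨_, rfl⟩
  have hwn : w f = WithZero.exp (-n) := by rw [hn, neg_neg, WithZero.exp_log hwf]
  rw [← hn]
  have hval : Valued.v (HahnSeries.single (-n) (1 : F) * φ f) = 1 := by
    rw [map_mul, LaurentSeries.valuation_single_zpow, hv, hwn, neg_neg, ← WithZero.exp_add,
      add_neg_cancel, WithZero.exp_zero]
  obtain ⟨G, hG⟩ := (LaurentSeries.val_le_one_iff_eq_coe F _).mp hval.le
  have hgG : φ f = HahnSeries.single n (1 : F) * (G : LaurentSeries F) := by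
    rw [hG, ← mul_assoc, HahnSeries.single_mul_single, add_neg_cancel, one_mul]
    change φ f = (1 : LaurentSeries F) * φ f
    rw [one_mul]
  have hG0 : PowerSeries.constantCoeff G ≠ 0 := by
    intro h0
    have h1 : Valued.v ((G : LaurentSeries F)) ≤ WithZero.exp (-((1 : ℕ) : ℤ)) :=
      (LaurentSeries.intValuation_le_iff_coeff_lt_eq_zero F G).mpr (by
        intro m hm
        interval_cases m
        simpa using h0)
    rw [hG, hval, ← WithZero.exp_zero, WithZero.exp_le_exp] at h1
    omega
  have hGu : IsUnit G := PowerSeries.isUnit_iff_constantCoeff.mpr (isUnit_iff_ne_zero.mpr hG0)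
  obtain ⟨G', hG'⟩ := isUnit_iff_exists_inv.mp hGu
  have hone : (HahnSeries.single (0 : ℤ) (1 : F) : LaurentSeries F) = 1 := rfl
  have hginv : (φ f)⁻¹ = HahnSeries.single (-n) (1 : F) * (G' : LaurentSeries F) := by
    apply inv_eq_of_mul_eq_one_right
    rw [hgG]
    calc HahnSeries.single n (1 : F) * (G : LaurentSeries F) *
          (HahnSeries.single (-n) (1 : F) * (G' : LaurentSeries F))
        = (HahnSeries.single n (1 : F) * HahnSeries.single (-n) (1 : F)) *
          ((G : LaurentSeries F) * (G' : LaurentSeries F)) := by ring
      _ = 1 := by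
        rw [HahnSeries.single_mul_single, add_neg_cancel, one_mul, hone, one_mul,
          ← PowerSeries.coe_mul, hG', PowerSeries.coe_one]
  unfold LocRes.resExp
  rw [map_inv₀, hginv, hgG, LocRes.D_apply, LocRes.derivative_single_mul, LocRes.derivative_coe]
  have e : HahnSeries.single (-n) (1 : F) * (G' : LaurentSeries F) *
      (HahnSeries.single n (1 : F) * ((PowerSeries.derivative F G : PowerSeries F) : LaurentSeries F) +
        HahnSeries.single (n - 1) (n • (1 : F)) * (G : LaurentSeries F)) =
      ((G' * PowerSeries.derivative F G : PowerSeries F) : LaurentSeries F) +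
        HahnSeries.single (-1 : ℤ) (n • (1 : F)) := by
    have e1 : HahnSeries.single (-n) (1 : F) * (G' : LaurentSeries F) *
        (HahnSeries.single n (1 : F) * ((PowerSeries.derivative F G : PowerSeries F) : LaurentSeries F)) =
        (HahnSeries.single (-n) (1 : F) * HahnSeries.single n (1 : F)) *
          ((G' : LaurentSeries F) * ((PowerSeries.derivative F G : PowerSeries F) : LaurentSeries F)) := by
      ring
    have e2 : HahnSeries.single (-n) (1 : F) * (G' : LaurentSeries F) *
        (HahnSeries.single (n - 1) (n • (1 : F)) * (G : LaurentSeries F)) =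
        (HahnSeries.single (-n) (1 : F) * HahnSeries.single (n - 1) (n • (1 : F))) *
          ((G : LaurentSeries F) * (G' : LaurentSeries F)) := by
      ring
    rw [mul_add, e1, e2, HahnSeries.single_mul_single, HahnSeries.single_mul_single,
      neg_add_cancel, one_mul, hone, one_mul, ← PowerSeries.coe_mul, ← PowerSeries.coe_mul, hG',
      PowerSeries.coe_one, mul_one, one_mul]
    congr 2
    ring
  rw [e, map_add, LocRes.res_apply, LocRes.res_apply, PowerSeries.coeff_coe,
    HahnSeries.coeff_single_same]
  simp

end Groth.Agent.S12620
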