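import Groth.Statements.S12626
import Mathlib
-- import your own Groth.Agent.* helpers here

set_option autoImplicit false
universe u v
open CAlg

namespace Groth.Agent.S12626

/-- For a perfect field `K` of characteristic `p > 0` and a commutative `K`-algebra `A`, put `δ_i(x) =
x^(p^i - 1) dx` in `Ω_{A/K}` and let the subsets `Σ^i ⊆ Ω_{A/K}` be given by `Σ^0 = {0}` and
`Σ^(i+1) = {δ_i(x) + σ | x ∈ A, σ ∈ Σ^i}`; then `Σ^i` is stable under multiplication by `p^i`-th
powers of elements of `A`: for `x ∈ A` and `ω ∈ Σ^i`, `x^(p^i) ω ∈ Σ^i`. This stability is what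
turns the rule `x · [ω] = [x^(p^i) ω]` into an `A`-module structure on the quotient `Ω_{A/K} / Σ^i`
(the row states the stability; that `x ↦ [δ_i(x)]` is then a derivation is a direct computation and
is not restated). -/
theorem result (K : Type u) (A : Type v) [Field K] [PerfectField K] (p : ℕ) [Fact p.Prime] [CharP K p]
    [CommRing A] [Algebra K A] (i : ℕ) (x : A)
    (ω : Ω[A⁄K]) (hω : ω ∈ W4bk4bump814p2.sigma K A p i) :
    (x ^ (p ^ i)) • ω ∈ W4bk4bump814p2.sigma K A p i := by
  have hpA : (p : A) = 0 := by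
    have h : (p : K) = 0 := CharP.cast_eq_zero K p
    rw [← map_natCast (algebraMap K A), h, map_zero]
  have hp1 : 1 ≤ p := (Fact.out : p.Prime).one_le
  have key : ∀ (i : ℕ) (x y : A), (x ^ (p ^ (i + 1))) • W4bk4bump814p2.delta K A p i y =
      W4bk4bump814p2.delta K A p i (x ^ p * y) := by
    intro i x y
    unfold W4bk4bump814p2.delta
    have hD : KaehlerDifferential.D K A (x ^ p * y) = x ^ p • KaehlerDifferential.D K A y := by
      rw [Derivation.leibniz, Derivation.leibniz_pow]
      have : (p : ℕ) • x ^ (p - 1) • (KaehlerDifferential.D K A) x = 0 := by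
        rw [← Nat.cast_smul_eq_nsmul A, hpA, zero_smul]
      rw [this, smul_zero, add_zero]
    rw [hD, smul_smul, smul_smul]
    congr 1
    have h1 : 1 ≤ p ^ i := Nat.one_le_pow _ _ (Fact.out : p.Prime).pos
    have e : p ^ (i + 1) = p * (p ^ i - 1) + p := by
      rw [pow_succ]
      have : p * (p ^ i - 1) + p = p * ((p ^ i - 1) + 1) := by ring
      rw [this, Nat.sub_add_cancel h1, mul_comm]
    rw [mul_pow, ← pow_mul, e, pow_add]
    ring
  induction i generalizing x ω with
  | zero =>
    simp only [W4bk4bump814p2.sigma_zero, Set.mem_singleton_iff] at hω ⊢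
    rw [hω, smul_zero]
  | succ i ih =>
    obtain ⟨y, hy⟩ := hω
    refine ⟨x ^ p * y, ?_⟩
    rw [← key, ← smul_sub]
    have := ih (x ^ p) _ hy
    rwa [← pow_mul, ← pow_succ'] at this

end Groth.Agent.S12626
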