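import Groth.Statements.S12713
import Groth.Agent.Lib.Helper19FibreProd

set_option autoImplicit false
universe u v
open CategoryTheory
open ArtFun ArtFun.Art

namespace Groth.Agent.S12713

open Groth.Agent.Lib.Helper19

variable {Λ : Type u} {k : Type u} [CommRing Λ] [Field k] [Algebra Λ k]

/-- In a semismall extension the maximal ideal kills the kernel. -/
lemma mul_eq_zero_of_mem_ker {A B : Art Λ k} (f : B ⟶ A)
    (hm : IsLocalRing.maximalIdeal B * RingHom.ker f.toAlgHom = ⊥) {y x : B}
    (hy : y ∈ IsLocalRing.maximalIdeal B) (hx : f x = 0) : y * x = 0 := by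
  have : y * x ∈ IsLocalRing.maximalIdeal B * RingHom.ker f.toAlgHom :=
    Ideal.mul_mem_mul hy ((hom_mem_ker f x).2 hx)
  rwa [hm, Ideal.mem_bot] at this

/-- Key step: if the range of `g` meets the kernel of the small extension `f` nontrivially and `g ≫ f` is
surjective then `g` is surjective. -/
lemma surjective_of_range_meets_ker {A B C : Art Λ k} (f : B ⟶ A) (hf : IsSmallExt f) (g : C ⟶ B)
    (hgf : Function.Surjective (g ≫ f)) (c : C) (hc : f (g c) = 0) (hc0 : g c ≠ 0) :
    Function.Surjective g := by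
  obtain ⟨-, -, ⟨⟨t, ht⟩⟩, hm⟩ := hf
  have ht' : RingHom.ker f.toAlgHom = Ideal.span {t} := ht
  have hker : ∀ y : B, f y = 0 → ∃ c' : C, g c' = y := by
    intro y hy
    have hx : g c ∈ Ideal.span {t} := by rw [← ht', hom_mem_ker]; exact hc
    obtain ⟨r, hr⟩ := Ideal.mem_span_singleton'.1 hx
    have hy' : y ∈ Ideal.span {t} := by rw [← ht', hom_mem_ker]; exact hy
    obtain ⟨r', hr'⟩ := Ideal.mem_span_singleton'.1 hy'
    have htker : f t = 0 := by
      rw [← hom_mem_ker, ht']; exact Ideal.mem_span_singleton_self t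
    have hru : IsUnit r := by
      by_contra hnu
      have hrm : r ∈ IsLocalRing.maximalIdeal B := (IsLocalRing.mem_maximalIdeal r).2 hnu
      apply hc0
      rw [← hr]
      exact mul_eq_zero_of_mem_ker f hm hrm htker
    obtain ⟨u, rfl⟩ := hru
    obtain ⟨c', hc'⟩ := C.res_surjective (B.res (r' * ↑u⁻¹))
    have hdiff : g c' - r' * ↑u⁻¹ ∈ IsLocalRing.maximalIdeal B := by
      rw [Art.mem_maximalIdeal_iff, map_sub, Art.res_app, hc', sub_self]
    have h0 := mul_eq_zero_of_mem_ker f hm hdiff hc
    rw [sub_mul, sub_eq_zero] at h0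
    refine ⟨c' * c, ?_⟩
    rw [hom_map_mul, h0, ← hr, ← hr']
    have : r' * ↑u⁻¹ * (↑u * t) = r' * t * (↑u⁻¹ * ↑u) := by ring
    rw [this, Units.inv_mul, mul_one]
  intro b
  obtain ⟨c₁, hc₁⟩ := hgf (f b)
  have hc₁' : f (g c₁) = f b := hc₁
  obtain ⟨c₂, hc₂⟩ := hker (b - g c₁) (by rw [hom_map_sub, hc₁', sub_self])
  refine ⟨c₂ + c₁, ?_⟩
  rw [hom_map_add, hc₂]; ring

/-- A small extension f : B → A in the category of Artinian local Λ-algebras with residue field k is not
an essential surjection (some morphism g : C → B is non-surjective although the composite C → A is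
surjective) if and only if f has a section A → B in the category. -/
theorem result {Λ : Type u} {k : Type u} [CommRing Λ] [Field k] [Algebra Λ k]
    [IsNoetherianRing Λ] [Module.Finite Λ k]
    {A B : ArtFun.Art Λ k} (f : B ⟶ A) (hf : ArtFun.Art.IsSmallExt f) :
    (∃ (C : ArtFun.Art Λ k) (g : C ⟶ B), Function.Surjective (g ≫ f) ∧ ¬ Function.Surjective g) ↔
      ∃ s : A ⟶ B, s ≫ f = 𝟙 A := by
  constructor
  · rintro ⟨C, g, hgf, hg⟩
    have hinj : ∀ c c' : C, f (g c) = f (g c') → g c = g c' := by
      intro c c' h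
      by_contra hne
      apply hg
      refine surjective_of_range_meets_ker f hf g hgf (c - c') ?_ ?_
      · rw [hom_map_sub, hom_map_sub, h, sub_self]
      · rw [hom_map_sub, sub_ne_zero]; exact hne
    have hex : ∀ a : A, ∃ c : C, f (g c) = a := fun a => hgf a
    let σ : A → C := fun a => Classical.choose (hex a)
    have hσ : ∀ a, f (g (σ a)) = a := fun a => Classical.choose_spec (hex a)
    have huniq : ∀ (a : A) (c : C), f (g c) = a → g (σ a) = g c := fun a c h =>
      hinj _ _ ((hσ a).trans h.symm)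
    refine ⟨⟨{ toFun := fun a => g (σ a)
               map_one' := ?_, map_mul' := ?_, map_zero' := ?_, map_add' := ?_, commutes' := ?_ }, ?_⟩, ?_⟩
    · rw [huniq 1 1 (by rw [hom_map_one, hom_map_one]), hom_map_one]
    · intro x y
      rw [huniq (x * y) (σ x * σ y) (by rw [hom_map_mul, hom_map_mul, hσ, hσ]), hom_map_mul]
    · rw [huniq 0 0 (by rw [hom_map_zero, hom_map_zero]), hom_map_zero]
    · intro x y
      rw [huniq (x + y) (σ x + σ y) (by rw [hom_map_add, hom_map_add, hσ, hσ]), hom_map_add]
    · intro r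
      have h1 : f (g (algebraMap Λ C r)) = algebraMap Λ A r := by
        rw [AlgHom.commutes, AlgHom.commutes]
      change g (σ (algebraMap Λ A r)) = algebraMap Λ B r
      rw [huniq _ _ h1]
      exact g.toAlgHom.commutes r
    · apply AlgHom.ext
      intro a
      change B.res (g (σ a)) = A.res a
      rw [← Art.res_app f, hσ]
    · apply hom_ext
      apply AlgHom.ext
      intro a
      exact hσ a
  · rintro ⟨s, hs⟩
    refine ⟨A, s, ?_, ?_⟩
    · rw [hs]; exact fun a => ⟨a, rfl⟩
    · intro hsurj
      apply hf.2.1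
      rw [eq_bot_iff]
      intro b hb
      rw [hom_mem_ker] at hb
      obtain ⟨a, rfl⟩ := hsurj b
      have : f (s a) = a := by
        change (s ≫ f) a = a
        rw [hs]; rfl
      rw [this] at hb
      rw [Ideal.mem_bot, hb, hom_map_zero]

end Groth.Agent.S12713
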