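import Groth.Statements.S12740
import Groth.Agent.Lib.Helper19Amalg

set_option autoImplicit false
universe u v
open CategoryTheory
open ArtFun ArtFun.CRing

namespace Groth.Agent.S12740

/-- The category of complete local Noetherian Λ-algebras with residue field k (Λ Noetherian, Λ → k
finite; morphisms the Λ-algebra maps compatible with the augmentations) admits pushouts: for R → S₁
and R → S₂ there is an object P with morphisms from S₁ and S₂ agreeing on R, through which every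
compatible pair S₁ → T ← S₂ agreeing on R factors by a unique morphism P → T. -/
theorem result {Λ : Type u} {k : Type u} [CommRing Λ] [Field k] [Algebra Λ k]
    [IsNoetherianRing Λ] [Module.Finite Λ k]
    (R S₁ S₂ : ArtFun.CRing Λ k)
    (f₁ : R.carrier →ₐ[Λ] S₁.carrier) (hf₁ : S₁.res.comp f₁ = R.res)
    (f₂ : R.carrier →ₐ[Λ] S₂.carrier) (hf₂ : S₂.res.comp f₂ = R.res) :
    ∃ (P : ArtFun.CRing Λ k) (i₁ : S₁.carrier →ₐ[Λ] P.carrier) (i₂ : S₂.carrier →ₐ[Λ] P.carrier),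
      P.res.comp i₁ = S₁.res ∧ P.res.comp i₂ = S₂.res ∧ i₁.comp f₁ = i₂.comp f₂ ∧
      ∀ (T : ArtFun.CRing Λ k) (g₁ : S₁.carrier →ₐ[Λ] T.carrier) (g₂ : S₂.carrier →ₐ[Λ] T.carrier),
        T.res.comp g₁ = S₁.res → T.res.comp g₂ = S₂.res → g₁.comp f₁ = g₂.comp f₂ →
          ∃! h : P.carrier →ₐ[Λ] T.carrier, T.res.comp h = P.res ∧ h.comp i₁ = g₁ ∧ h.comp i₂ = g₂ := by
  have hab : ∀ r : R.carrier, S₁.res (f₁ r) = S₂.res (f₂ r) := by
    intro r
    have h1 := AlgHom.congr_fun hf₁ r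
    have h2 := AlgHom.congr_fun hf₂ r
    rw [AlgHom.comp_apply] at h1 h2
    rw [h1, h2]
  obtain ⟨P, i₁, i₂, h1, h2, h3, h4⟩ :=
    Groth.Agent.Lib.Helper19.exists_amalgam (S₁ := S₁) (S₂ := S₂) (a := fun r : R.carrier => f₁ r)
      (b := fun r : R.carrier => f₂ r) hab
  refine ⟨P, i₁, i₂, h1, h2, AlgHom.ext h3, ?_⟩
  intro T g₁ g₂ hg₁ hg₂ hg
  exact h4 T g₁ g₂ hg₁ hg₂ (fun r => AlgHom.congr_fun hg r)

end Groth.Agent.S12740
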