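import Groth.Statements.S12744
import Groth.Agent.Lib.Helper19Functor
import Groth.Agent.S12719

set_option autoImplicit false
universe u v
open CategoryTheory
open ArtFun

namespace Groth.Agent.S12744

/-- For functors, if η : F → G is a smooth morphism of functors on Artinian local Λ-algebras with
residue field k and F(k) → G(k) is surjective, then for every complete local Noetherian R with
residue field k the induced map on formal elements over R (compatible systems of elements over the
truncations R/m^(n+1)) is surjective. -/
theorem result {Λ : Type u} {k : Type u} [CommRing Λ] [Field k] [Algebra Λ k]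
    [IsNoetherianRing Λ] [Module.Finite Λ k]
    {F G : ArtFun.Art Λ k ⥤ Type v} (η : F ⟶ G) (hη : ArtFun.IsSmooth η)
    (h0 : Function.Surjective (η.app (ArtFun.Art.base Λ k))) (R : ArtFun.CRing Λ k) :
    Function.Surjective (fun u : ArtFun.FormalElt F R => u.map η) := by
  intro v
  have hsurj : ∀ A, Function.Surjective (η.app A) := Groth.Agent.S12719.result η hη h0
  have hstep : ∀ (n : ℕ) (x : F.obj (R.trunc n)), η.app _ x = v.elt n →
      ∃ x' : F.obj (R.trunc (n + 1)), F.map (R.truncMap n) x' = x ∧ η.app _ x' = v.elt (n + 1) := by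
    intro n x hx
    have hs : Function.Surjective (R.truncMap n) := by
      intro y
      obtain ⟨a, rfl⟩ := Ideal.Quotient.mk_surjective y
      exact ⟨Ideal.Quotient.mk _ a, rfl⟩
    exact (Groth.Agent.Lib.Helper19.relCmp_surjective_iff η (R.truncMap n)).1 (hη _ hs) x (v.elt (n + 1))
      (by rw [hx, v.compat])
  let u : ∀ n : ℕ, {x : F.obj (R.trunc n) // η.app _ x = v.elt n} := fun n =>
    Nat.rec (motive := fun n => {x : F.obj (R.trunc n) // η.app _ x = v.elt n})
      ⟨Classical.choose (hsurj _ (v.elt 0)), Classical.choose_spec (hsurj _ (v.elt 0))⟩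
      (fun n x => ⟨Classical.choose (hstep n x.1 x.2), (Classical.choose_spec (hstep n x.1 x.2)).2⟩) n
  have hu : ∀ n, F.map (R.truncMap n) (u (n + 1)).1 = (u n).1 := fun n =>
    (Classical.choose_spec (hstep n (u n).1 (u n).2)).1
  refine ⟨⟨fun n => (u n).1, hu⟩, ?_⟩
  apply ArtFun.FormalElt.ext'
  intro n
  exact (u n).2

end Groth.Agent.S12744
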