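import Groth.Statements.S12751
import Groth.Agent.Lib.Helper19Kaehler

set_option autoImplicit false
universe u v
open CategoryTheory
open scoped TensorProduct
open ArtFun ArtFun.Art

namespace Groth.Agent.S12751

/-- A morphism f : B → A in the category of Artinian local Λ-algebras with residue field k is surjective
if and only if Ω_{B/Λ} ⊗_B k → Ω_{A/Λ} ⊗_A k is surjective; by right exactness of the sequence
Ω_{B/Λ} ⊗_B A → Ω_{A/Λ} → Ω_{A/B} → 0 this surjectivity is the vanishing of Ω_{A/B} ⊗_A k, which is
how it is written here (A a B-algebra through f, k an A-module through the augmentation). -/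
theorem result {Λ : Type u} {k : Type u} [CommRing Λ] [Field k] [Algebra Λ k]
    [IsNoetherianRing Λ] [Module.Finite Λ k]
    {A B : ArtFun.Art Λ k} (f : B ⟶ A) :
    letI : Algebra B A := f.toAlgHom.toRingHom.toAlgebra
    letI : Algebra A k := A.res.toRingHom.toAlgebra
    Function.Surjective f ↔ Subsingleton (k ⊗[A] Ω[A⁄B]) := by
  letI : Algebra B A := f.toAlgHom.toRingHom.toAlgebra
  letI : Algebra A k := A.res.toRingHom.toAlgebra
  haveI : IsScalarTower Λ B A :=
    IsScalarTower.of_algebraMap_eq (fun r => (f.toAlgHom.commutes r).symm)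
  haveI : IsScalarTower Λ A k :=
    IsScalarTower.of_algebraMap_eq (fun r => (A.res.commutes r).symm)
  have hA : Function.Surjective (algebraMap A k) := A.res_surjective
  have hB : Function.Surjective ((algebraMap A k).comp (algebraMap B A)) := by
    intro c
    obtain ⟨b, hb⟩ := B.res_surjective c
    refine ⟨b, ?_⟩
    rw [← hb]
    exact ArtFun.Art.res_app f b
  exact Groth.Agent.Lib.Helper19.surjective_iff_subsingleton_tensor_kaehler Λ hA hB

end Groth.Agent.S12751
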