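import Groth.Statements.S1276
import Mathlib

set_option autoImplicit false
universe u
open FlatMor

namespace Groth.Agent.S1276

open TensorProduct

/-- A finite module tensored with a field through whose kernel the annihilator passes is nonzero. -/
theorem nontrivial_tensor_field {B : Type u} [CommRing B] (N : Type u) [AddCommGroup N] [Module B N]
    [Module.Finite B N] (L : Type u) [Field L] [Algebra B L]
    (h : Module.annihilator B N ≤ RingHom.ker (algebraMap B L)) : Nontrivial (L ⊗[B] N) := by
  set q : Ideal B := RingHom.ker (algebraMap B L) with hq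
  have hqp : q.IsPrime := RingHom.ker_isPrime _
  have hsupp : (⟨q, hqp⟩ : PrimeSpectrum B) ∈ Module.support B N :=
    Module.mem_support_iff_of_finite.mpr h
  have h1 : Nontrivial (q.ResidueField ⊗[B] N) :=
    (Module.mem_support_iff_nontrivial_residueField_tensorProduct ⟨q, hqp⟩).mp hsupp
  let j : q.ResidueField →+* L := Ideal.ResidueField.lift q (algebraMap B L) le_rfl (by
    intro b hb
    simp only [Submonoid.mem_comap, IsUnit.mem_submonoid_iff, isUnit_iff_ne_zero, ne_eq]
    exact hb)
  letI : Algebra q.ResidueField L := j.toAlgebra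
  haveI : IsScalarTower B q.ResidueField L := IsScalarTower.of_algebraMap_eq (fun b => by
    change _ = j (algebraMap B q.ResidueField b)
    rw [Ideal.ResidueField.lift_algebraMap])
  have e := AlgebraTensorModule.cancelBaseChange B q.ResidueField L L N
  exact e.symm.toEquiv.nontrivial

theorem mem_support_baseChange {B F : Type u} [CommRing B] [CommRing F] [Algebra B F] (N : Type u)
    [AddCommGroup N] [Module B N] [Module.Finite B N] (x : PrimeSpectrum F)
    (h : Module.annihilator B N ≤ x.asIdeal.comap (algebraMap B F)) :
    x ∈ Module.support F (F ⊗[B] N) := by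
  rw [Module.mem_support_iff_nontrivial_residueField_tensorProduct]
  have hker : RingHom.ker (algebraMap B x.asIdeal.ResidueField) = x.asIdeal.comap (algebraMap B F) := by
    rw [IsScalarTower.algebraMap_eq B F x.asIdeal.ResidueField, ← RingHom.comap_ker,
      Ideal.ker_algebraMap_residueField]
  have h1 : Nontrivial (x.asIdeal.ResidueField ⊗[B] N) :=
    nontrivial_tensor_field N x.asIdeal.ResidueField (hker ▸ h)
  have e := AlgebraTensorModule.cancelBaseChange B F x.asIdeal.ResidueField x.asIdeal.ResidueField N
  exact e.toEquiv.nontrivial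

theorem map_annihilator_le {B F : Type u} [CommRing B] [CommRing F] [Algebra B F] (N : Type u)
    [AddCommGroup N] [Module B N] :
    (Module.annihilator B N).map (algebraMap B F) ≤ Module.annihilator F (F ⊗[B] N) := by
  rw [Ideal.map_le_iff_le_comap]
  intro a ha
  rw [Ideal.mem_comap, Module.mem_annihilator]
  intro z
  induction z using TensorProduct.induction_on with
  | zero => simp
  | tmul f n =>
    rw [TensorProduct.smul_tmul', smul_eq_mul, ← Algebra.smul_def, TensorProduct.smul_tmul,
      Module.mem_annihilator.mp ha n, tmul_zero]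
  | add y z hy hz => rw [smul_add, hy, hz, add_zero]

/-- finitely many elements of an ideal suffice to generate its extension to a Noetherian ring -/
theorem exists_fg_le_map_eq {B F : Type u} [CommRing B] [CommRing F] [Algebra B F]
    [IsNoetherianRing F] (𝔞 : Ideal B) :
    ∃ J : Ideal B, J.FG ∧ J ≤ 𝔞 ∧ J.map (algebraMap B F) = 𝔞.map (algebraMap B F) := by
  have hfg : (𝔞.map (algebraMap B F)).FG := IsNoetherian.noetherian _
  rw [Ideal.map, Ideal.span] at hfg
  obtain ⟨s', hs', hspan⟩ := (Submodule.fg_span_iff_fg_span_finset_subset _).mp hfg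
  -- pull back the finite set
  classical
  have : ∀ y ∈ s', ∃ a ∈ 𝔞, algebraMap B F a = y := fun y hy => hs' hy
  choose! g hg1 hg2 using this
  refine ⟨Ideal.span (s'.image g : Set B), ⟨s'.image g, rfl⟩, ?_, ?_⟩
  · rw [Ideal.span_le]
    intro a ha
    simp only [Finset.coe_image, Set.mem_image, Finset.mem_coe] at ha
    obtain ⟨y, hy, rfl⟩ := ha
    exact hg1 y hy
  · rw [Ideal.map_span]
    change _ = Submodule.span F _
    rw [hspan]
    congr 1
    ext y
    simp only [Finset.coe_image, Set.mem_image, Finset.mem_coe]
    constructor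
    · rintro ⟨_, ⟨z, hz, rfl⟩, rfl⟩
      rw [hg2 z hz]; exact hz
    · intro hy
      exact ⟨g y, ⟨y, hy, rfl⟩, hg2 y hy⟩

attribute [local instance] Algebra.TensorProduct.rightAlgebra

/-- Let B be a finite type A-algebra, N a finite B-module and p a prime of A. Then there is a finitely
generated ideal J of B annihilating N (so N is a module on the finitely presented closed subscheme
V(J) of Spec B) such that a point of the fibre Spec(κ(p) ⊗ B) lies in V(J) if and only if it lies in
the support of the fibre module of N. -/
theorem result {A B : Type u} [CommRing A] [CommRing B] [Algebra A B] [Algebra.FiniteType A B]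
    (N : Type u) [AddCommGroup N] [Module B N] [Module A N] [IsScalarTower A B N] [Module.Finite B N] (p : Ideal A) [p.IsPrime] :
    ∃ J : Ideal B, J.FG ∧ J ≤ Module.annihilator B N ∧
      ∀ x : PrimeSpectrum (p.Fiber B), FlatCA.fiberIdeal p J ≤ x.asIdeal ↔ x ∈ Module.support (p.Fiber B) (FlatCA.fiberMod p B N) := by
  haveI : IsNoetherianRing (p.Fiber B) := Algebra.FiniteType.isNoetherianRing p.ResidueField _
  obtain ⟨J, hJfg, hJle, hJmap⟩ := exists_fg_le_map_eq (F := p.Fiber B) (Module.annihilator B N)
  refine ⟨J, hJfg, hJle, fun x => ?_⟩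
  change J.map (algebraMap B (p.Fiber B)) ≤ x.asIdeal ↔
    x ∈ Module.support (p.Fiber B) ((p.Fiber B) ⊗[B] N)
  rw [hJmap]
  constructor
  · intro h
    exact mem_support_baseChange N x (Ideal.map_le_iff_le_comap.mp h)
  · intro h
    exact (map_annihilator_le N).trans (Module.annihilator_le_of_mem_support h)

end Groth.Agent.S1276
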