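import Groth.Statements.S1277
import Groth.Agent.Lib.Helper14FlatAboveA
import Groth.Agent.Lib.Helper14FlatAboveB

set_option autoImplicit false
set_option linter.style.haveILetI false
universe u
open FlatMor

namespace Groth.Agent.S1277

open IsLocalRing in
/-- Let A be a local ring, A → B a local homomorphism of local rings, B → C a flat local homomorphism of
local rings, M a B-module and N = M ⊗_B C. For every local homomorphism of local rings A → A', with
base changes B' = B ⊗_A A', M', C' = C ⊗_A A', N' (any models): M' is flat over A' at every prime of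
B' containing 𝔪_{A'}B' + 𝔪_B B' if and only if N' is flat over A' at every prime of C' containing
𝔪_{A'}C' + 𝔪_C C'. -/
theorem result {A B C : Type u} [CommRing A] [IsLocalRing A] [CommRing B] [IsLocalRing B] [CommRing C] [IsLocalRing C]
    [Algebra A B] [IsLocalHom (algebraMap A B)] [Algebra B C] [IsLocalHom (algebraMap B C)] [Algebra A C] [IsScalarTower A B C] [Module.Flat B C]
    (M : Type u) [AddCommGroup M] [Module B M] (N : Type u) [AddCommGroup N] [Module C N] [Module B N] [IsScalarTower B C N]
    (g : M →ₗ[B] N) (hg : IsBaseChange C g)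
    (A' : Type u) [CommRing A'] [IsLocalRing A'] [Algebra A A'] [IsLocalHom (algebraMap A A')]
    (B' M' : Type u) [CommRing B'] [Algebra B B'] [Algebra A' B'] [Algebra A B'] [IsScalarTower A B B'] [IsScalarTower A A' B']
        [Algebra.IsPushout A B A' B']
        [AddCommGroup M'] [Module B' M'] [Module B M'] [IsScalarTower B B' M'] [Module A' M'] [IsScalarTower A' B' M']
        (fB : M →ₗ[B] M') (hfB : IsBaseChange B' fB)
    (C' N' : Type u) [CommRing C'] [Algebra C C'] [Algebra A' C'] [Algebra A C'] [IsScalarTower A C C'] [IsScalarTower A A' C']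
        [Algebra.IsPushout A C A' C']
        [AddCommGroup N'] [Module C' N'] [Module C N'] [IsScalarTower C C' N'] [Module A' N'] [IsScalarTower A' C' N']
        (fC : N →ₗ[C] N') (hfC : IsBaseChange C' fC) :
    FlatCA.FlatAboveClosedPoints B A' B' M' ↔ FlatCA.FlatAboveClosedPoints C A' C' N' := by
  classical
  letI algBC' : Algebra B C' := ((algebraMap C C').comp (algebraMap B C)).toAlgebra
  obtain ⟨algB'C', t1, t3, t4, hpo⟩ :=
    Groth.Agent.Lib.Helper14.FlatAbove.exists_algebra_isPushout A B C A' B' C'
  -- module structures on `N'`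
  letI modBN' : Module B N' := Module.compHom N' (algebraMap B C)
  haveI s1 : IsScalarTower B C N' := IsScalarTower.of_algebraMap_smul fun _ _ => rfl
  letI modB'N' : Module B' N' := Module.compHom N' (algebraMap B' C')
  haveI s2 : IsScalarTower B' C' N' := IsScalarTower.of_algebraMap_smul fun _ _ => rfl
  have hBC' : ∀ (b : B) (x : N'), algebraMap B C' b • x = b • x := fun b x => by
    rw [IsScalarTower.algebraMap_apply B C C', algebraMap_smul]
    rfl
  haveI s3 : IsScalarTower B C' N' := IsScalarTower.of_algebraMap_smul hBC'
  haveI s4 : IsScalarTower B B' N' := IsScalarTower.of_algebraMap_smul fun b x => by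
    change algebraMap B' C' (algebraMap B B' b) • x = b • x
    rw [← IsScalarTower.algebraMap_apply B B' C', hBC']
  -- `M → N'` is a base change along `B → C'`
  have hk₁ : IsBaseChange C' ((fC.restrictScalars B).comp g) := hg.comp hfC
  let k₂ : M' →ₗ[B'] N' := hfB.lift ((fC.restrictScalars B).comp g)
  have hk₂ : IsBaseChange C' k₂ := by
    refine IsBaseChange.of_comp hfB ?_
    have : (k₂.restrictScalars B).comp fB = (fC.restrictScalars B).comp g := hfB.lift_comp _
    rw [this]
    exact hk₁
  haveI hflat : Module.Flat B' C' := by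
    have : Algebra.IsPushout B B' C C' := hpo.symm
    exact Module.Flat.isBaseChange B B' C C' this.out
  constructor
  · intro hB Q hQ hle
    haveI : (Q.comap (algebraMap B' C')).IsPrime := Ideal.comap_isPrime _ _
    haveI : Q.LiesOver (Q.comap (algebraMap B' C')) := ⟨rfl⟩
    have hq : (IsLocalRing.maximalIdeal A').map (algebraMap A' B') ⊔
        (IsLocalRing.maximalIdeal B).map (algebraMap B B') ≤ Q.comap (algebraMap B' C') := by
      refine sup_le ?_ ?_
      · rw [Ideal.map_le_iff_le_comap]
        intro a ha
        rw [Ideal.mem_comap, Ideal.mem_comap, ← IsScalarTower.algebraMap_apply A' B' C']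
        exact hle (Ideal.mem_sup_left (Ideal.mem_map_of_mem _ ha))
      · rw [Ideal.map_le_iff_le_comap]
        intro b hb
        rw [Ideal.mem_comap, Ideal.mem_comap, ← IsScalarTower.algebraMap_apply B B' C',
          IsScalarTower.algebraMap_apply B C C']
        refine hle (Ideal.mem_sup_right (Ideal.mem_map_of_mem _ ?_))
        rw [IsLocalRing.mem_maximalIdeal] at hb ⊢
        exact (map_mem_nonunits_iff (algebraMap B C) b).mpr hb
    exact Groth.Agent.Lib.Helper14.FlatAbove.flat_localized_of_flat (A' := A') hk₂
      (Q.comap (algebraMap B' C')) Q (hB _ hq)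
  · intro hC q hq hle
    obtain ⟨Q, hQp, hQq, hQC⟩ :=
      Groth.Agent.Lib.Helper14.FlatAbove.exists_prime_over_of_isPushout (B := B) (C := C)
        (B' := B') (C' := C') q (le_sup_right.trans hle)
    haveI := hQp
    haveI : Q.LiesOver q := ⟨hQq.symm⟩
    have hQ : (IsLocalRing.maximalIdeal A').map (algebraMap A' C') ⊔
        (IsLocalRing.maximalIdeal C).map (algebraMap C C') ≤ Q := by
      refine sup_le ?_ hQC
      rw [Ideal.map_le_iff_le_comap]
      intro a ha
      rw [Ideal.mem_comap, IsScalarTower.algebraMap_apply A' B' C', ← Ideal.mem_comap, hQq]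
      exact hle (Ideal.mem_sup_left (Ideal.mem_map_of_mem _ ha))
    exact Groth.Agent.Lib.Helper14.FlatAbove.flat_localized_of_flat_localized (A' := A') hk₂
      q Q (hC Q hQ)

end Groth.Agent.S1277
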