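import Groth.Statements.S12778
import Mathlib
import Groth.Agent.Lib.Helper15RepPsh
-- import your own Groth.Agent.* helpers here

set_option autoImplicit false
open CategoryTheory AlgebraicGeometry
universe u
open AlgSt

namespace Groth.Agent.S12778.Aux

set_option autoImplicit false
set_option backward.isDefEq.respectTransparency false
set_option backward.isDefEq.respectTransparency.types false
open CategoryTheory CategoryTheory.Functor CategoryTheory.Limits Opposite AlgebraicGeometry


open Groth.Agent.Lib.Helper17 Groth.Agent.Lib.Helper15PshFib Groth.Agent.Lib.Helper15RepComp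
  Groth.Agent.Lib.Helper15RepPsh

theorem main {S : Scheme.{u}} (Q : MorphismProperty (AlgSp.Sp S)) [Q.RespectsIso]
    {F G : AlgSp.PSp S} (a : F ⟶ G) (ha : AlgSp.RepBySp a) :
    AlgSp.RepBySpWith Q a ↔ AlgSt.RepByAlgSpWith Q (Stk.ofPshMap a) := by
  constructor
  · intro h U y
    obtain ⟨P', E, fst, hE, sq⟩ := exists_pullback_fp a y
    obtain ⟨hs, hA, hQ⟩ := h _ fst _ sq
    exact ⟨⟨⟨P', hs⟩, hA⟩, E, hE, hQ⟩
  · intro h U ξ F' fst snd sq
    obtain ⟨H, e, he, hQ⟩ := h U (pshOfSection (uliftYonedaEquiv ξ))
    have sq' := isPullback_of_isEquivOver a (uliftYonedaEquiv ξ) e he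
    rw [Equiv.symm_apply_apply] at sq'
    let i : H.obj.obj ≅ F' := sq'.isoIsPullback _ _ sq
    obtain ⟨hs, hA⟩ := ((AlgSp.isAlgSpaceP_obj_iff H.obj).2 H.property).of_iso i
    refine ⟨hs, hA, ?_⟩
    let j : H.obj ≅ (⟨F', hs⟩ : AlgSp.Sp S) := ObjectProperty.isoMk _ i
    have hj : AlgSt.spMapOfOver (BasedFunctor.comp e (FibCat.fpFst _ _)) =
        j.hom ≫ (ObjectProperty.homMk snd : (⟨F', hs⟩ : AlgSp.Sp S) ⟶ (AlgSp.yon S).obj U) := by
      apply ObjectProperty.hom_ext
      exact (sq'.isoIsPullback_hom_snd _ _ sq).symm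
    rw [hj] at hQ
    exact (Q.cancel_left_of_respectsIso j.hom _).1 hQ

end Groth.Agent.S12778.Aux

namespace Groth.Agent.S12778

/-- For presheaves of sets `F`, `G` on `(Sch/S)`, let `a : F ⟶ G` be a morphism representable by
algebraic spaces, and let `Q` be a property of morphisms of algebraic spaces. Then `a` has `Q`
(every base change `h_U ×_G F ⟶ h_U` has `Q`) if and only if the associated 1-morphism of categories
fibred in sets, which is representable by algebraic spaces, has `Q`. (The published statement
assumes `Q` stable under base change and fppf local on the base; this row assumes only that `Q`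
respects isomorphisms.) -/
theorem result {S : Scheme.{u}} (Q : MorphismProperty (AlgSp.Sp S)) [Q.RespectsIso]
    {F G : AlgSp.PSp S} (a : F ⟶ G) (ha : AlgSp.RepBySp a) :
    AlgSp.RepBySpWith Q a ↔ AlgSt.RepByAlgSpWith Q (Stk.ofPshMap a) := by
  exact Aux.main Q a ha

end Groth.Agent.S12778
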