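import Groth.Statements.S1278
import Groth.Agent.Lib.Helper14FlatAboveA
import Groth.Agent.Lib.Helper14FlatAboveB
import Groth.Agent.Lib.Helper14FlatAboveC

set_option autoImplicit false
set_option linter.style.haveILetI false
universe u
open FlatMor

namespace Groth.Agent.S1278

open IsLocalRing in
/-- Let A be a local ring and B → C a finite local homomorphism of local A-algebras (A → B local), and N
a C-module, viewed also as a B-module. For every local homomorphism of local rings A → A', with base
changes B', C' of B, C and base changes M' (of N over B') and N' (of N over C'): M' is flat over A'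
at every prime of B' containing 𝔪_{A'}B' + 𝔪_B B' if and only if N' is flat over A' at every prime
of C' containing 𝔪_{A'}C' + 𝔪_C C'. -/
theorem result {A B C : Type u} [CommRing A] [IsLocalRing A] [CommRing B] [IsLocalRing B] [CommRing C] [IsLocalRing C]
    [Algebra A B] [IsLocalHom (algebraMap A B)] [Algebra B C] [IsLocalHom (algebraMap B C)] [Algebra A C] [IsScalarTower A B C] [Module.Finite B C]
    (N : Type u) [AddCommGroup N] [Module C N] [Module B N] [IsScalarTower B C N]
    (A' : Type u) [CommRing A'] [IsLocalRing A'] [Algebra A A'] [IsLocalHom (algebraMap A A')]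
    (B' M' : Type u) [CommRing B'] [Algebra B B'] [Algebra A' B'] [Algebra A B'] [IsScalarTower A B B'] [IsScalarTower A A' B']
        [Algebra.IsPushout A B A' B']
        [AddCommGroup M'] [Module B' M'] [Module B M'] [IsScalarTower B B' M'] [Module A' M'] [IsScalarTower A' B' M']
        (fB : N →ₗ[B] M') (hfB : IsBaseChange B' fB)
    (C' N' : Type u) [CommRing C'] [Algebra C C'] [Algebra A' C'] [Algebra A C'] [IsScalarTower A C C'] [IsScalarTower A A' C']
        [Algebra.IsPushout A C A' C']
        [AddCommGroup N'] [Module C' N'] [Module C N'] [IsScalarTower C C' N'] [Module A' N'] [IsScalarTower A' C' N']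
        (fC : N →ₗ[C] N') (hfC : IsBaseChange C' fC) :
    FlatCA.FlatAboveClosedPoints B A' B' M' ↔ FlatCA.FlatAboveClosedPoints C A' C' N' := by
  classical
  letI algBC' : Algebra B C' := ((algebraMap C C').comp (algebraMap B C)).toAlgebra
  obtain ⟨algB'C', t1, t3, t4, hpo⟩ :=
    Groth.Agent.Lib.Helper14.FlatAbove.exists_algebra_isPushout A B C A' B' C'
  -- module structures on `N'`
  letI modBN' : Module B N' := Module.compHom N' (algebraMap B C)
  haveI s1 : IsScalarTower B C N' := IsScalarTower.of_algebraMap_smul fun _ _ => rfl
  letI modB'N' : Module B' N' := Module.compHom N' (algebraMap B' C')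
  haveI s2 : IsScalarTower B' C' N' := IsScalarTower.of_algebraMap_smul fun _ _ => rfl
  have hBC' : ∀ (b : B) (x : N'), algebraMap B C' b • x = b • x := fun b x => by
    rw [IsScalarTower.algebraMap_apply B C C', algebraMap_smul]
    rfl
  haveI s3 : IsScalarTower B C' N' := IsScalarTower.of_algebraMap_smul hBC'
  haveI s4 : IsScalarTower B B' N' := IsScalarTower.of_algebraMap_smul fun b x => by
    change algebraMap B' C' (algebraMap B B' b) • x = b • x
    rw [← IsScalarTower.algebraMap_apply B B' C', hBC']
  haveI s5 : IsScalarTower A' B' N' := IsScalarTower.of_algebraMap_smul fun a x => by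
    change algebraMap B' C' (algebraMap A' B' a) • x = a • x
    rw [← IsScalarTower.algebraMap_apply A' B' C', algebraMap_smul]
  have hpo' : Algebra.IsPushout B B' C C' := hpo.symm
  -- `N → N'` is a base change along `B → B'`
  have hN' : IsBaseChange B' (fC.restrictScalars B) := by
    refine IsBaseChange.of_equiv ((Algebra.IsPushout.cancelBaseChange B B' C C' N).symm ≪≫ₗ
      (hfC.equiv.restrictScalars B')) ?_
    intro x
    simp [IsBaseChange.equiv_tmul]
  let e : M' ≃ₗ[B'] N' := hfB.equiv.symm ≪≫ₗ hN'.equiv
  have hMN : ∀ (q : Ideal B') [q.IsPrime], Module.Flat A' (LocalizedModule q.primeCompl M') ↔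
      Module.Flat A' (LocalizedModule q.primeCompl N') := fun q _ => by
    let eq := IsLocalizedModule.mapEquiv q.primeCompl (LocalizedModule.mkLinearMap q.primeCompl M')
      (LocalizedModule.mkLinearMap q.primeCompl N') (Localization q.primeCompl) e
    exact Module.Flat.equiv_iff (eq.restrictScalars A')
  haveI : Module.Finite B' C' :=
    Module.Finite.equiv (Algebra.IsPushout.equiv B B' C C').toLinearEquiv
  haveI : Algebra.IsIntegral B' C' := Algebra.IsIntegral.of_finite B' C'
  have hmB : ∀ b ∈ IsLocalRing.maximalIdeal B, algebraMap B C b ∈ IsLocalRing.maximalIdeal C := by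
    intro b hb
    rw [IsLocalRing.mem_maximalIdeal] at hb ⊢
    exact (map_mem_nonunits_iff (algebraMap B C) b).mpr hb
  constructor
  · intro hB Q hQ hle
    haveI : (Q.comap (algebraMap B' C')).IsPrime := Ideal.comap_isPrime _ _
    have hq : (IsLocalRing.maximalIdeal A').map (algebraMap A' B') ⊔
        (IsLocalRing.maximalIdeal B).map (algebraMap B B') ≤ Q.comap (algebraMap B' C') := by
      refine sup_le ?_ ?_
      · rw [Ideal.map_le_iff_le_comap]
        intro a ha
        rw [Ideal.mem_comap, Ideal.mem_comap, ← IsScalarTower.algebraMap_apply A' B' C']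
        exact hle (Ideal.mem_sup_left (Ideal.mem_map_of_mem _ ha))
      · rw [Ideal.map_le_iff_le_comap]
        intro b hb
        rw [Ideal.mem_comap, Ideal.mem_comap, ← IsScalarTower.algebraMap_apply B B' C',
          IsScalarTower.algebraMap_apply B C C']
        exact hle (Ideal.mem_sup_right (Ideal.mem_map_of_mem _ (hmB b hb)))
    exact Groth.Agent.Lib.Helper14.FlatAbove.flat_localizedModule_of_over (A' := A')
      (Q.comap (algebraMap B' C')) Q rfl ((hMN _).mp (hB _ hq))
  · intro hC q hq hle
    refine (hMN q).mpr ?_
    refine Groth.Agent.Lib.Helper14.FlatAbove.flat_localizedModule_of_forall_over (A' := A')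
      (C' := C') q ?_
    intro Q hQ hQq
    refine hC Q (sup_le ?_ ?_)
    · rw [Ideal.map_le_iff_le_comap]
      intro a ha
      rw [Ideal.mem_comap, IsScalarTower.algebraMap_apply A' B' C', ← Ideal.mem_comap, hQq]
      exact hle (Ideal.mem_sup_left (Ideal.mem_map_of_mem _ ha))
    · -- `Q ∩ C` is a prime of `C` over `𝔪_B`, hence maximal by integrality
      haveI : Algebra.IsIntegral B C := Algebra.IsIntegral.of_finite B C
      haveI hP : (Q.comap (algebraMap C C')).IsPrime := Ideal.comap_isPrime _ _
      have hle' : IsLocalRing.maximalIdeal B ≤ (Q.comap (algebraMap C C')).comap (algebraMap B C) := by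
        intro b hb
        rw [Ideal.mem_comap, Ideal.mem_comap, ← IsScalarTower.algebraMap_apply B C C',
          IsScalarTower.algebraMap_apply B B' C', ← Ideal.mem_comap, hQq]
        exact hle (Ideal.mem_sup_right (Ideal.mem_map_of_mem _ hb))
      haveI hP' : ((Q.comap (algebraMap C C')).comap (algebraMap B C)).IsPrime :=
        Ideal.comap_isPrime _ _
      have hcomap : (Q.comap (algebraMap C C')).comap (algebraMap B C) = IsLocalRing.maximalIdeal B :=
        ((IsLocalRing.maximalIdeal.isMaximal B).eq_of_le hP'.ne_top hle').symm
      have hPmax : (Q.comap (algebraMap C C')).IsMaximal :=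
        Ideal.isMaximal_of_isIntegral_of_isMaximal_comap (R := B) _
          (hcomap ▸ IsLocalRing.maximalIdeal.isMaximal B)
      rw [Ideal.map_le_iff_le_comap, ← IsLocalRing.eq_maximalIdeal hPmax]

end Groth.Agent.S1278
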