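import Groth.Statements.S12784
import Groth.Agent.Lib.Helper17FpMap
-- import your own Groth.Agent.* helpers here

set_option autoImplicit false
open CategoryTheory CategoryTheory.Limits
universe v u
open FibCat

namespace Groth.Agent.S12784

/-- Consider a 2-commutative square of functors over `C` with vertical arrows `f' : 𝒳' ⟶ 𝒴'`, `f : 𝒳 ⟶
𝒴` and horizontal arrows equivalences over `C`. Then `f` is a representable 1-morphism if and only
if `f'` is. (The published statement is for categories fibred in groupoids over schemes over a base;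
this row is stated for categories over any base category.) -/
theorem result {C : Type u} [Category.{v} C] {𝒳 𝒴 𝒳' 𝒴' : BasedCategory.{v, max u v} C}
    (f : 𝒳 ⥤ᵇ 𝒴) (f' : 𝒳' ⥤ᵇ 𝒴') (a : 𝒳' ⥤ᵇ 𝒳) (b : 𝒴' ⥤ᵇ 𝒴)
    (ha : FibCat.IsEquivOver a) (hb : FibCat.IsEquivOver b) (e : BasedFunctor.comp f' b ≅ BasedFunctor.comp a f) :
    FibCat.IsRepresentable1 f ↔ FibCat.IsRepresentable1 f' := by
  open Groth.Agent.Lib.Helper17 in
  constructor
  · intro hf U G'
    have hrep := hf U (BasedFunctor.comp G' b)
    have := IsEquivOver.isEquivalence b hb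
    have hE := isEquivOver_fpMap (BasedFunctor.comp G' b) f G' f' (BasedFunctor.id _) a b
      (Iso.refl _) e (isEquivOver_id _) ha
    exact isRepresentable_of_isEquivOver _ hE hrep
  · intro hf' U G
    obtain ⟨b', hb', -, ⟨β⟩⟩ := IsEquivOver.exists_inverse_isEquivOver' b hb
    have hrep := hf' U (BasedFunctor.comp G b')
    have := IsEquivOver.isEquivalence b hb
    have hE := isEquivOver_fpMap G f (BasedFunctor.comp G b') f' (BasedFunctor.id _) a b
      (whiskerLeftIso G β) e (isEquivOver_id _) ha
    exact isRepresentable_of_isEquivOver' _ hE hrep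

end Groth.Agent.S12784
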