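import Groth.Statements.S12785
import Groth.Agent.Lib.Helper17FpPaste
-- import your own Groth.Agent.* helpers here

set_option autoImplicit false
open CategoryTheory CategoryTheory.Limits
universe v u
open FibCat

namespace Groth.Agent.S12785

/-- The composite of two representable 1-morphisms `f : 𝒳 ⟶ 𝒴`, `g : 𝒴 ⟶ 𝒵` of categories over `C` is a
representable 1-morphism. (The published statement is for categories fibred in groupoids over
schemes over a base; this row is stated for categories over any base category.) -/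
theorem result {C : Type u} [Category.{v} C] {𝒳 𝒴 𝒵 : BasedCategory.{v, max u v} C}
    (f : 𝒳 ⥤ᵇ 𝒴) (g : 𝒴 ⥤ᵇ 𝒵) (hf : FibCat.IsRepresentable1 f) (hg : FibCat.IsRepresentable1 g) :
    FibCat.IsRepresentable1 (BasedFunctor.comp f g) := by
  open Groth.Agent.Lib.Helper17 in
  intro U G
  obtain ⟨V, E, hE⟩ := hg U G
  obtain ⟨E', hE', -, -⟩ := IsEquivOver.exists_inverse_isEquivOver' E hE
  have hrep := hf V (BasedFunctor.comp E' (FibCat.fpSnd G g))
  have h1 : (BasedFunctor.id 𝒴).toFunctor.Full := inferInstanceAs (𝟭 𝒴.obj).Full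
  have h2 : (BasedFunctor.id 𝒴).toFunctor.Faithful := inferInstanceAs (𝟭 𝒴.obj).Faithful
  have hM := isEquivOver_fpMap (FibCat.fpSnd G g) f (BasedFunctor.comp E' (FibCat.fpSnd G g)) f
    E' (BasedFunctor.id 𝒳) (BasedFunctor.id 𝒴) (Iso.refl _) (Iso.refl _) hE' (isEquivOver_id _)
  have hrep2 := isRepresentable_of_isEquivOver' _ hM hrep
  exact isRepresentable_of_isEquivOver' _ (isEquivOver_pasteR G f g) hrep2

end Groth.Agent.S12785
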