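import Groth.Statements.S12806
import Groth.Agent.Lib.Helper17FibFp3
import Groth.Agent.Lib.Helper17FibDiag
-- import your own Groth.Agent.* helpers here

set_option autoImplicit false
open CategoryTheory
universe v u
open FibCat

namespace Groth.Agent.S12806

/-- Let `𝒮` be fibred in groupoids over `C`, `U` an object of `C` and `x, y : C/U ⟶ 𝒮` two functors over
`C` (objects over `U` in 2-Yoneda form), with `e` the 2-isomorphism identifying their composites
with the structure functor. Then the 2-fibre product over `C` of `(x, y) : C/U ⟶ 𝒮 ×_C 𝒮` with the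
diagonal `𝒮 ⟶ 𝒮 ×_C 𝒮` is fibred in setoids over `C/U` through its first projection. (The published
statement is for a fibred category with `x`, `y` the functors given by chosen pullbacks; this row is
the case of a category fibred in groupoids, where every functor over `C` out of `C/U` is of that
kind.) -/
theorem result {C : Type u} [Category.{v} C] {𝒮 : BasedCategory.{v, max u v} C} (h𝒮 : FibCat.IsFibGrpd 𝒮.p)
    (U : C) (x y : FibCat.overCat U ⥤ᵇ 𝒮)
    (e : BasedFunctor.comp x (FibCat.toSelf 𝒮) ≅ BasedFunctor.comp y (FibCat.toSelf 𝒮)) :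
    FibCat.IsFibSetoid (FibCat.fpFst (FibCat.fpLift x y e) (FibCat.diag (FibCat.toSelf 𝒮))).toFunctor := by
  have hself := Groth.Agent.Lib.Helper17.isFibGrpd_selfOver C
  have hO : FibCat.IsFibGrpd (FibCat.overCat U).p := (Groth.Agent.Lib.Helper17.isFibSet_overForget U).1
  have hSS := Groth.Agent.Lib.Helper17.isFibGrpd_fp (FibCat.toSelf 𝒮) (FibCat.toSelf 𝒮) h𝒮 h𝒮 hself
  have := Groth.Agent.Lib.Helper17.diag_faithful (FibCat.toSelf 𝒮)
  have := Groth.Agent.Lib.Helper17.fpFst_faithful (FibCat.fpLift x y e) (FibCat.diag (FibCat.toSelf 𝒮))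
  exact ⟨Groth.Agent.Lib.Helper17.isFibGrpd_fpFst _ _ hO h𝒮 hSS,
    fun c => Groth.Agent.Lib.Helper17.fiber_isThin_of_faithful _ c⟩

end Groth.Agent.S12806
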