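import Groth.Statements.S12848
import Mathlib
import Groth.Agent.Lib.Helper17MonoFF
import Groth.Agent.Lib.Helper17StkPts2

set_option autoImplicit false
open CategoryTheory AlgebraicGeometry
universe u
open AlgSt

namespace Groth.Agent.S12848

/-- A monomorphism `f : 𝒳 ⟶ 𝒴` of algebraic stacks over `S` induces an injective map `|𝒳| → |𝒴|` on
points. -/
theorem result {S : Scheme.{u}} {𝒳 𝒴 : AlgSt.Cat S}
    (h𝒳 : AlgSt.IsAlgStack Scheme.fppfPrecoverage 𝒳) (h𝒴 : AlgSt.IsAlgStack Scheme.fppfPrecoverage 𝒴) (f : 𝒳 ⥤ᵇ 𝒴) (hf : AlgSt.IsMono f) :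
    Function.Injective (AlgSt.Points.map f) := by
  have hfull := (Groth.Agent.Lib.Helper17.MonoFF.full_faithful_of_isMono h𝒳.isStack.1 h𝒴.isStack.1 f hf).1
  intro z z' h
  obtain ⟨p, rfl⟩ := AlgSt.Points.mk_surjective z
  obtain ⟨q, rfl⟩ := AlgSt.Points.mk_surjective z'
  rw [AlgSt.Points.map_mk, AlgSt.Points.map_mk] at h
  obtain ⟨r, a, b, -⟩ := Groth.Agent.Lib.Helper17.fpt_rel_of_mk_eq h𝒴.isStack.1 h
  obtain ⟨p', π, e₁, -, hp'⟩ := Groth.Agent.Lib.Helper17.exists_lift_over_map h𝒳.isStack.1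
    h𝒴.isStack.1 f (r := r.obj) (z := p.obj) a
  obtain ⟨q', κ, e₂, -, -⟩ := Groth.Agent.Lib.Helper17.exists_lift_over_map h𝒳.isStack.1
    h𝒴.isStack.1 f (r := r.obj) (z := q.obj) b
  let m : p' ⟶ q' := f.toFunctor.preimage (e₁.hom ≫ e₂.inv)
  let R : AlgSt.FPt 𝒳 := { K := r.K, str := r.str, obj := p', lies := hp'.trans r.lies }
  exact AlgSt.Points.sound ⟨R, π, m ≫ κ, trivial⟩

end Groth.Agent.S12848
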