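import Groth.Statements.S12880
import Mathlib
import Groth.Agent.Lib.Helper20ExtCohLN
import Groth.Agent.Lib.Helper21HomI5

set_option autoImplicit false
universe u
open CategoryTheory CategoryTheory.Limits TopologicalSpace AlgebraicGeometry
open Coherent

namespace Groth.Agent.S12880
open Opposite Groth.Agent.Lib.Helper21.HomI Groth.Agent.Lib.Helper21.HomU

section cat
variable {C : Type u} [SmallCategory C] {J : GrothendieckTopology C} (O : Sheaf J CommRingCat.{u})
  (U : C) [ModSite.HasPushOver O U]

/-- the unit `M ⟶ j_*(M|_U)` vanishes when `M|_U = 0`. -/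
theorem unit_eq_zero (M : ModSite.Mod O) (hM : ModSite.IsNullOn O U M) :
    (ModSite.restrPushOverAdj O U).unit.app M = 0 := by
  have h1 : (ModSite.restrPushOverAdj O U).unit.app M =
      (ModSite.restrPushOverAdj O U).homEquiv M _ (𝟙 _) := by
    rw [Adjunction.homEquiv_unit, CategoryTheory.Functor.map_id]
    exact (Category.comp_id _).symm
  have h2 : (𝟙 ((ModSite.restr O U).obj M)) = (ModSite.restr O U).map (0 : M ⟶ M) ≫ 𝟙 _ :=
    hM.eq_of_src _ _
  rw [h1, h2, Adjunction.homEquiv_naturality_left, zero_comp]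

/-- `Γ_Z(M) ⟶ M` is an isomorphism when `M|_U = 0`. -/
theorem isIso_sectOnι (M : ModSite.Mod O) (hM : ModSite.IsNullOn O U M) :
    IsIso ((ModSite.sectOnι O U).app M) := by
  change IsIso (kernel.ι ((ModSite.restrPushOverAdj O U).unit.app M))
  have h := unit_eq_zero O U M hM
  exact kernel.ι_of_zero h

/-- if `T` lands in modules vanishing on `U`, then `T ⋙ Γ_Z ≅ T`, also on derived functors. -/
theorem nonempty_rightDerived_iso [HasInjectiveResolutions (ModSite.Mod O)]
    (T : ModSite.Mod O ⥤ ModSite.Mod O) [T.Additive]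
    (hT : ∀ N, ModSite.IsNullOn O U (T.obj N)) (i : ℕ) (N : ModSite.Mod O) :
    Nonempty (((T ⋙ ModSite.sectOn O U).rightDerived i).obj N ≅ (T.rightDerived i).obj N) := by
  let α : T ⋙ ModSite.sectOn O U ⟶ T :=
    Functor.whiskerLeft T (ModSite.sectOnι O U) ≫ T.rightUnitor.hom
  haveI : IsIso α := by
    haveI : ∀ N, IsIso (α.app N) := by
      intro N
      have h : α.app N = (ModSite.sectOnι O U).app (T.obj N) := by
        simp [α]
      rw [h]
      exact isIso_sectOnι O U _ (hT N)
    exact NatIso.isIso_of_isIso_app α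
  have h1 : NatTrans.rightDerived α i ≫ NatTrans.rightDerived (inv α) i = 𝟙 _ := by
    rw [← NatTrans.rightDerived_comp, IsIso.hom_inv_id, NatTrans.rightDerived_id]
  have h2 : NatTrans.rightDerived (inv α) i ≫ NatTrans.rightDerived α i = 𝟙 _ := by
    rw [← NatTrans.rightDerived_comp, IsIso.inv_hom_id, NatTrans.rightDerived_id]
  exact ⟨{ hom := (NatTrans.rightDerived α i).app N
           inv := (NatTrans.rightDerived (inv α) i).app N
           hom_inv_id := by rw [← NatTrans.comp_app, h1]; rfl
           inv_hom_id := by rw [← NatTrans.comp_app, h2]; rfl }⟩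

end cat

section sch
variable {X : Scheme.{u}} (U : X.Opens) (F N : X.Modules)

theorem subsingleton_homFam
    (hF0 : ∀ V : X.Opens, V ≤ U → Subsingleton (F.val.obj (op V))) (W : X.Opens) (hW : W ≤ U) :
    Subsingleton (HomFam (O := X.sheaf) F N W) := by
  refine ⟨fun h h' => ?_⟩
  apply HomFam.ext
  funext V b x
  haveI := hF0 V ((leOfHom b).trans hW)
  rw [Subsingleton.elim x 0, h.zero', h'.zero']

theorem isNullOn_sheafHom [ModSite.HasSheafHom (O := X.sheaf) F]
    (hF0 : ∀ V : X.Opens, V ≤ U → Subsingleton (F.val.obj (op V))) :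
    ModSite.IsNullOn X.sheaf U ((ModSite.sheafHom (O := X.sheaf) F).obj N) := by
  unfold ModSite.IsNullOn
  refine IsZero.of_iso ?_ ((ModSite.restr X.sheaf U).mapIso (sheafHomIso (O := X.sheaf) F N))
  rw [IsZero.iff_id_eq_zero]
  apply SheafOfModules.hom_ext
  apply PresheafOfModules.hom_ext
  intro W
  ext m
  haveI : Subsingleton (HomFam (O := X.sheaf) F N W.unop.left) :=
    subsingleton_homFam U F N hF0 W.unop.left (leOfHom W.unop.hom)
  exact Subsingleton.elim (α := HomFam (O := X.sheaf) F N W.unop.left) _ _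

theorem subsingleton_sections_of_support (hsupp : ∀ x ∈ CohB1.support F, x ∉ (U : Set X))
    (V : X.Opens) (hV : V ≤ U) : Subsingleton (F.val.obj (op V)) := by
  refine ⟨fun a b => ?_⟩
  refine TopCat.Presheaf.section_ext ⟨F.presheaf, F.isSheaf⟩ V a b (fun x hx => ?_)
  have hns : Subsingleton (F.presheaf.stalk x) := by
    by_contra h
    exact hsupp x h (hV hx)
  exact hns.elim _ _

end sch


/-- Let X be a locally Noetherian scheme, Y a closed subset with open complement U, and F, G coherent
O_X-modules such that the support of F is contained in Y (no point of U has a non-zero stalk of F).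
Then for every i the local Ext sheaf with supports ℰxt^i_Y(F, G) is coherent. (Internal Hom of F and
injective resolutions of O_X-modules are the stated instance hypotheses, both true.) -/
theorem result (X : Scheme.{u}) [IsLocallyNoetherian X] (U : X.Opens)
    (F G : X.Modules) (hF : Coh.IsCoh F) (hG : Coh.IsCoh G)
    (hsupp : ∀ x ∈ CohB1.support F, x ∉ (U : Set X))
    [ModSite.HasSheafHom (O := X.sheaf) F] [HasInjectiveResolutions (ModSite.Mod X.sheaf)] (i : ℕ) :
    Coh.IsCoh ((ModSite.extZSh (O := X.sheaf) U F i).obj G) := by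
  have hF0 := subsingleton_sections_of_support U F hsupp
  obtain ⟨e⟩ := nonempty_rightDerived_iso X.sheaf U (ModSite.sheafHom (O := X.sheaf) F)
    (fun N => isNullOn_sheafHom U F N hF0) i G
  exact Groth.Agent.Lib.Helper4.Dev.isCoh_of_iso e.symm
    (Groth.Agent.Lib.Helper20.ExtCohLN.isCoh_extSh F G hF hG i)

end Groth.Agent.S12880
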