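import Groth.Statements.S12889
import Mathlib
import Groth.Agent.S12895
import Groth.Agent.Lib.Helper21NullOn3
import Groth.Agent.Lib.Helper21GSS
import Groth.Agent.Lib.Helper23LocSS
import Groth.Agent.Lib.Helper23ExtRD
import Groth.Agent.Lib.Helper21FreeConst
import Groth.Agent.Lib.Helper21DerPost
import Groth.Agent.Lib.Helper21DerAcyc
import Groth.Agent.Lib.Helper21ModCoh
import Groth.Agent.Lib.Helper21QuotZ

set_option autoImplicit false
universe u
open CategoryTheory CategoryTheory.Limits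
open ModSite

namespace Groth.Agent.S12889

/-- On a small ringed site (C, J, O) with O commutative, let U be an object with Z the closed complement
of the open it generates, and M an O-module. There is an E₂ spectral sequence of abelian groups with
E₂^{p,q} ≅ H^p(C, ℋ^q_Z(M)) for p, q ≥ 0 (and 0 otherwise), bounded, abutting with finite
filtrations to H^n_Z(M) (n ≥ 0; 0 for n < 0); here ℋ^q_Z are the right derived functors of sections
with support on O-modules, H^p(C, -) is the cohomology of the site with values in the underlying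
abelian sheaf, and H^n_Z(M) are the Ext groups out of ℤ/ℤ_U into the underlying abelian sheaf.
(Existence only: the E₂ identifications and the abutment are some isomorphisms. The direct image
along the localisation at U and injective resolutions of O-modules are the stated instance
hypotheses, both true.) -/
theorem result {C : Type u} [SmallCategory C] {J : GrothendieckTopology C}
    (O : Sheaf J CommRingCat.{u}) (U : C) (M : ModSite.Mod O)
    [ModSite.HasPushOver O U] [HasInjectiveResolutions (ModSite.Mod O)] :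
    ∃ (E : E₂CohomologicalSpectralSequence AddCommGrpCat.{u})
      (a : SpSeq.Abutment E (fun n : ℤ =>
        if 0 ≤ n then AddCommGrpCat.of (ModSite.HZ U M n.toNat) else AddCommGrpCat.of PUnit.{u + 1})),
      (∀ n : ℤ, a.IsFinite n) ∧ SpSeq.IsBounded E ∧
      ∀ p q : ℤ, Nonempty ((E.page 2 le_rfl).X (p, q) ≅
        (if 0 ≤ p ∧ 0 ≤ q then AddCommGrpCat.of (ModSite.HC O ((ModSite.HZsh O U q.toNat).obj M) p.toNat)
          else AddCommGrpCat.of PUnit.{u + 1})) := by
  open Groth.Agent.Lib.Helper21 Groth.Agent.Lib.Helper21.NullOn Groth.Agent.Lib.Helper23LocSS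
    Groth.Agent.Lib.Helper23ExtRD Groth.Agent.Lib.Helper21.FreeAb Groth.Agent.Lib.Helper21.DerPost
    Groth.Agent.Lib.Helper21.TorsFree Groth.Agent.Lib.Helper21.QuotZ Groth.Agent.S12895 Opposite in
  haveI := Groth.Agent.Lib.Helper21.ModTensor3.isGrothendieckAbelian O
  haveI : EnoughInjectives (ModSite.Mod O) := inferInstance
  have hz : IsZero (AddCommGrpCat.of PUnit.{u + 1}) := AddCommGrpCat.isZero_of_subsingleton _
  let ZU : Sheaf J AddCommGrpCat.{u} := ToposFin.quotZ (ToposFin.eps J U)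
  let E : ModSite.Mod O ⥤ Sheaf J AddCommGrpCat.{u} := SheafOfModules.toSheaf (ModSite.ringSh O)
  let F : ModSite.Mod O ⥤ ModSite.Mod O := ModSite.sectOn O U
  let T : ModSite.Mod O ⥤ Sheaf J AddCommGrpCat.{u} := F ⋙ E
  let S : Sheaf J AddCommGrpCat.{u} ⥤ AddCommGrpCat.{u} :=
    preadditiveCoyoneda.obj (op (Zc (J := J)))
  let S' : Sheaf J AddCommGrpCat.{u} ⥤ AddCommGrpCat.{u} :=
    preadditiveCoyoneda.obj (op ZU)
  have hT : ∀ Q : ModSite.Mod O, Injective Q → ∀ q : ℕ, 0 < q →
      IsZero ((S.rightDerived q).obj (T.obj Q)) := by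
    intro Q hQ q hq
    obtain ⟨q, rfl⟩ : ∃ k, q = k + 1 := ⟨q - 1, by lia⟩
    obtain ⟨e⟩ := rightDerived_coyoneda_iso (Zc (J := J)) (T.obj Q) (q + 1)
    refine IsZero.of_iso ?_ e
    haveI : Injective (F.obj Q) := F.injective_obj_of_injective hQ
    haveI : Subsingleton (Abelian.Ext.{u} (Zc (J := J)) (T.obj Q) (q + 1)) :=
      ⟨fun x y => (ext_toSheaf_eq_zero (ModSite.ringSh O) (F.obj Q) q _ TF_Zc x).trans
        (ext_toSheaf_eq_zero (ModSite.ringSh O) (F.obj Q) q _ TF_Zc y).symm⟩
    exact AddCommGrpCat.isZero_of_subsingleton _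
  have hE : ∀ I : ModSite.Mod O, Injective I → ∀ q : ℕ, 0 < q →
      IsZero ((S'.rightDerived q).obj (E.obj I)) := by
    intro Q hQ q hq
    obtain ⟨q, rfl⟩ : ∃ k, q = k + 1 := ⟨q - 1, by lia⟩
    obtain ⟨e⟩ := rightDerived_coyoneda_iso ZU (E.obj Q) (q + 1)
    refine IsZero.of_iso ?_ e
    haveI : Subsingleton (Abelian.Ext.{u} ZU (E.obj Q) (q + 1)) :=
      ⟨fun x y => (ext_toSheaf_eq_zero (ModSite.ringSh O) Q q _ (TF_quotZ _) x).trans
        (ext_toSheaf_eq_zero (ModSite.ringSh O) Q q _ (TF_quotZ _) y).symm⟩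
    exact AddCommGrpCat.isZero_of_subsingleton _
  let isoTS : T ⋙ S ≅ E ⋙ S' :=
    Functor.associator _ _ _ ≪≫ Functor.isoWhiskerLeft _ (toSheafCoyonedaIso O) ≪≫
      adjCoyonedaIso (quotSectAdj O U) (ModSite.unit O) ≪≫
      (toSheafCoyonedaQuotIso O U).symm
  exact GSS.gss_general T S hT M
    (fun n : ℤ => if 0 ≤ n then AddCommGrpCat.of (ModSite.HZ U M n.toNat)
      else AddCommGrpCat.of PUnit.{u + 1})
    (fun n => by
      rw [if_pos (Int.natCast_nonneg n), Int.toNat_natCast]
      obtain ⟨e₃⟩ := DerAcyc.nonempty_rightDerived_comp_iso E S' hE M n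
      obtain ⟨e₄⟩ := rightDerived_coyoneda_iso ZU (E.obj M) n
      exact ⟨(rightDerivedIso isoTS n).app M ≪≫ e₃ ≪≫ e₄⟩)
    (fun n hn => by rw [if_neg (by lia)]; exact hz)
    (fun p q : ℤ => if 0 ≤ p ∧ 0 ≤ q then
      AddCommGrpCat.of (ModSite.HC O ((ModSite.HZsh O U q.toNat).obj M) p.toNat)
      else AddCommGrpCat.of PUnit.{u + 1})
    (fun p q => by
      rw [if_pos ⟨Int.natCast_nonneg p, Int.natCast_nonneg q⟩, Int.toNat_natCast, Int.toNat_natCast]
      let e₂' : (T.rightDerived q).obj M ≅ ModSite.toAb ((ModSite.HZsh O U q).obj M) :=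
        (postIso F E q).app M
      obtain ⟨e₃⟩ := rightDerived_coyoneda_iso (Zc (J := J))
        (ModSite.toAb ((ModSite.HZsh O U q).obj M)) p
      exact ⟨(S.rightDerived p).mapIso e₂' ≪≫ e₃⟩)
    (fun p q h => by rw [if_neg h]; exact hz)

end Groth.Agent.S12889
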