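import Groth.Statements.S6025
import Mathlib
import Groth.Agent.Lib.Helper23OpenEmb
import Groth.Agent.Lib.Helper23DerLES
import Groth.Agent.Lib.Helper23DerComp
-- import your own Groth.Agent.* helpers here

set_option autoImplicit false
universe u
open CategoryTheory CategoryTheory.Limits TopologicalSpace
open LocCohZ

namespace Groth.Agent.S6025


open Groth.Agent.Lib.Helper16.ClosedEmb Groth.Agent.Lib.Helper16.Flasque
  Groth.Agent.Lib.Helper23OpenEmb Groth.Agent.Lib.Helper23DerLES Groth.Agent.Lib.Helper23DerComp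

theorem isZero_rightDerived_id {C : Type*} [Category C] [Abelian C] [HasInjectiveResolutions C]
    (X : C) (n : ℕ) : IsZero (((𝟭 C).rightDerived (n + 1)).obj X) := by
  let I : InjectiveResolution X := injectiveResolution X
  refine IsZero.of_iso ?_ (I.isoRightDerivedObj (𝟭 C) (n + 1))
  change IsZero ((((𝟭 C).mapHomologicalComplex _).obj I.cocomplex).homology (n + 1))
  rw [← HomologicalComplex.exactAt_iff_isZero_homology,
    HomologicalComplex.exactAt_iff' _ n (n + 1) (n + 2) (by simp)
      (by simp only [CochainComplex.next]; rfl)]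
  exact I.exact_succ n

/-- `Γ_Z ⟶ 𝟭`. -/
noncomputable def αΓ {X : TopCat.{u}} (U : Opens X) : LocCohZ.sectSuppF U ⟶ 𝟭 (CohTop.Ab X) where
  app F := ιΓ U F
  naturality _ _ f := ιΓ_nat U f

theorem pull_additive {Y X : TopCat.{u}} (i : Y ⟶ X) : (CohTop.pull i).Additive :=
  @Adjunction.left_adjoint_additive _ _ _ _ _ _ _ _
    (TopCat.Sheaf.pullbackPushforwardAdjunction AddCommGrpCat.{u} i) (CohTop.instAdditiveAbPush i)

theorem pull_preservesFiniteLimits {Y X : TopCat.{u}} (i : Y ⟶ X) :
    PreservesFiniteLimits (CohTop.pull i) :=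
  CategoryTheory.Functor.SmallCategories.instPreservesFiniteLimitsSheafSheafPullbackOfRepresentablyFlat
    (Opens.map i) AddCommGrpCat.{u} (Opens.grothendieckTopology ↑X) (Opens.grothendieckTopology ↑Y)

theorem pull_preservesFiniteColimits {Y X : TopCat.{u}} (i : Y ⟶ X) :
    PreservesFiniteColimits (CohTop.pull i) := by
  haveI : PreservesColimitsOfSize.{0, 0} (CohTop.pull i) :=
    (TopCat.Sheaf.pullbackPushforwardAdjunction AddCommGrpCat.{u} i).leftAdjoint_preservesColimits
  exact PreservesColimitsOfSize.preservesFiniteColimits _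

/-- Let X be a topological space, A a closed subset with open complement U and f : U → X the inclusion.
Then the functor ℋ^1_A is isomorphic to the cokernel of the unit F → f_* f⁻¹ F (so that 0 → ℋ^0_A(F)
→ F → f_*(F|_U) → ℋ^1_A(F) → 0 is exact), and for every i ≥ 1 the functor ℋ^{i+1}_A is isomorphic to
F ↦ R^i f_*(F|_U). (Existence of isomorphisms of functors only; the maps of the four-term sequence
other than the kernel inclusion are not pinned.) -/
theorem result {X : TopCat.{u}} (U : Opens X) :
    Nonempty (LocCohZ.HZsh U 1 ≅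
      cokernel (TopCat.Sheaf.pullbackPushforwardAdjunction AddCommGrpCat.{u} (CohCx.incl U)).unit) ∧
      ∀ i : ℕ, 1 ≤ i →
        Nonempty (LocCohZ.HZsh U (i + 1) ≅ CohTop.pull (CohCx.incl U) ⋙ CohTop.Rpush (CohCx.incl U) i) := by
  haveI : (CohTop.push (CohCx.incl U)).Additive := CohTop.instAdditiveAbPush (CohCx.incl U)
  haveI : (CohTop.pull (CohCx.incl U)).Additive := pull_additive (CohCx.incl U)
  haveI : PreservesFiniteLimits (CohTop.pull (CohCx.incl U)) := pull_preservesFiniteLimits _
  haveI : PreservesFiniteLimits (CohTop.push (CohCx.incl U)) := push_preservesFiniteLimits _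
  haveI : PreservesFiniteColimits (CohTop.pull (CohCx.incl U)) := pull_preservesFiniteColimits _
  let β : 𝟭 (CohTop.Ab X) ⟶ CohTop.pull (CohCx.incl U) ⋙ CohTop.push (CohCx.incl U) :=
    (TopCat.Sheaf.pullbackPushforwardAdjunction AddCommGrpCat.{u} (CohCx.incl U)).unit
  have w : αΓ U ≫ β = 0 := by
    apply NatTrans.ext
    funext F
    exact kernel.condition _
  have hex : ∀ Q : CohTop.Ab X, Injective Q → (ShortComplex.mk ((αΓ U).app Q) (β.app Q) (by
      rw [← NatTrans.comp_app, w]; rfl)).ShortExact := by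
    intro Q hQ
    haveI : TopCat.Sheaf.IsFlasque Q := injective_isFlasque Q
    exact shortExact_of_flasque U Q
  have hT : ∀ (n : ℕ) (F : CohTop.Ab X), IsZero (((𝟭 (CohTop.Ab X)).rightDerived (n + 1)).obj F) :=
    fun n F => isZero_rightDerived_id F n
  constructor
  · have := isIso_cokernel_desc (αΓ U) β w hex (hT 0)
    exact ⟨(asIso (cokernel.desc β (γ (αΓ U) β w hex) (β_γ (αΓ U) β w hex))).symm⟩
  · intro i hi
    obtain ⟨k, rfl⟩ : ∃ k, i = k + 1 := ⟨i - 1, by lia⟩
    have := isIso_δ (αΓ U) β w hex (k + 1) (hT k) (hT (k + 1))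
    exact ⟨(asIso (δ (αΓ U) β w hex (k + 1))).symm ≪≫
      compIso (CohTop.pull (CohCx.incl U)) (CohTop.push (CohCx.incl U)) (k + 1)⟩

end Groth.Agent.S6025
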