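import Groth.Statements.S12890
import Mathlib
import Groth.Agent.S6025
import Groth.Agent.Lib.Helper21Subterm
import Groth.Agent.Lib.Helper21RestrExact
import Groth.Agent.Lib.Helper23DerLES
import Groth.Agent.Lib.Helper23DerComp

set_option autoImplicit false
universe u
open CategoryTheory CategoryTheory.Limits
open ModSite

namespace Groth.Agent.S12890

/-- On a small ringed site (C, J, O) with O commutative, let U be a subterminal object (every object has
at most one morphism to U), Z its closed complement and j_{U*} the direct image of modules along the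
localisation C/U → C. Then ℋ^1_Z is isomorphic to the cokernel of the unit M → j_{U*}(M|_U) (so that
0 → ℋ^0_Z(M) → M → j_{U*}(M|_U) → ℋ^1_Z(M) → 0 is exact), and for every q ≥ 1 the functor ℋ^{q+1}_Z
is isomorphic to M ↦ R^q j_{U*}(M|_U). (Existence of isomorphisms of functors only. The direct image
j_{U*} with its additivity and injective resolutions of modules on C and on C/U are the stated
instance hypotheses, all true.) -/
theorem result {C : Type u} [SmallCategory C] {J : GrothendieckTopology C}
    (O : Sheaf J CommRingCat.{u}) (U : C)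
    (hU : ∀ V : C, Subsingleton (V ⟶ U)) [ModSite.HasPushOver O U] [(ModSite.pushOver O U).Additive]
    [HasInjectiveResolutions (ModSite.Mod O)] [HasInjectiveResolutions (ModSite.Mod (O.over U))] :
    Nonempty (ModSite.HZsh O U 1 ≅ cokernel (ModSite.restrPushOverAdj O U).unit) ∧
      ∀ q : ℕ, 1 ≤ q →
        Nonempty (ModSite.HZsh O U (q + 1) ≅ ModSite.restr O U ⋙ (ModSite.pushOver O U).rightDerived q) := by
  open Groth.Agent.Lib.Helper21 Groth.Agent.Lib.Helper21.NullOn Groth.Agent.Lib.Helper21.Subterm
    Groth.Agent.Lib.Helper21.RestrExact Groth.Agent.Lib.Helper21.ExtZeroS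
    Groth.Agent.Lib.Helper23DerLES Groth.Agent.Lib.Helper23DerComp in
  haveI : PreservesFiniteLimits (ModSite.pushOver O U) := by
    haveI : PreservesLimitsOfSize.{0, 0} (ModSite.pushOver O U) :=
      (ModSite.restrPushOverAdj O U).rightAdjoint_preservesLimits
    exact PreservesLimitsOfSize.preservesFiniteLimits.{0, 0} _
  let α : ModSite.sectOn O U ⟶ 𝟭 (ModSite.Mod O) := ModSite.sectOnι O U
  let β : 𝟭 (ModSite.Mod O) ⟶ ModSite.restr O U ⋙ ModSite.pushOver O U :=
    (ModSite.restrPushOverAdj O U).unit
  have w : α ≫ β = 0 := by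
    apply NatTrans.ext
    funext F
    exact kernel.condition _
  have hex : ∀ Q : ModSite.Mod O, Injective Q → (ShortComplex.mk (α.app Q) (β.app Q) (by
      rw [← NatTrans.comp_app, w]; rfl)).ShortExact := by
    intro Q hQ
    haveI : Epi (β.app Q) := epi_unit_of_injective O U hU Q
    haveI : Mono (α.app Q) := by
      change Mono (kernel.ι _)
      infer_instance
    exact { exact := ShortComplex.exact_kernel _ }
  have hT : ∀ (n : ℕ) (F : ModSite.Mod O),
      IsZero (((𝟭 (ModSite.Mod O)).rightDerived (n + 1)).obj F) :=
    fun n F => Groth.Agent.S6025.isZero_rightDerived_id F n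
  constructor
  · have := isIso_cokernel_desc α β w hex (hT 0)
    exact ⟨(asIso (cokernel.desc β (γ α β w hex) (β_γ α β w hex))).symm⟩
  · intro i hi
    obtain ⟨k, rfl⟩ : ∃ k, i = k + 1 := ⟨i - 1, by lia⟩
    have := isIso_δ α β w hex (k + 1) (hT k) (hT (k + 1))
    exact ⟨(asIso (δ α β w hex (k + 1))).symm ≪≫
      compIso (ModSite.restr O U) (ModSite.pushOver O U) (k + 1)⟩

end Groth.Agent.S12890
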