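import Groth.Statements.S12891
import Mathlib
import Groth.Agent.Lib.Helper21GammaZ2

set_option autoImplicit false
universe u
open CategoryTheory CategoryTheory.Limits
open ModSite

namespace Groth.Agent.S12891

/-- On a small ringed site (C, J, O) with O commutative, let U be an object with Z the closed complement
of the open it generates, and M an O-module whose underlying abelian sheaf is flasque (totally
acyclic: its cohomology with respect to every sheaf of sets vanishes in positive degrees). Then for
every q ≥ 1 the local cohomology sheaf ℋ^q_Z(M) (right derived functor of sections with support on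
O-modules) is zero and the group H^q_Z(M) is trivial. (The direct image along the localisation at U
and injective resolutions of O-modules are the stated instance hypotheses, both true.) -/
theorem result {C : Type u} [SmallCategory C] {J : GrothendieckTopology C}
    (O : Sheaf J CommRingCat.{u}) (U : C) (M : ModSite.Mod O)
    (hM : CohCx.IsTotallyAcyclic (ModSite.toAb M))
    [ModSite.HasPushOver O U] [HasInjectiveResolutions (ModSite.Mod O)] (q : ℕ) (hq : 1 ≤ q) :
    IsZero ((ModSite.HZsh O U q).obj M) ∧ Subsingleton (ModSite.HZ U M q) := by
  open Groth.Agent.Lib.Helper21.GammaZ Groth.Agent.Lib.Helper21.Flasque in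
  refine ⟨isZero_HZsh_of_isTotallyAcyclic O U M hM q (by lia), ?_⟩
  obtain ⟨p, rfl⟩ : ∃ k, q = k + 1 := ⟨q - 1, by lia⟩
  exact ⟨fun x y => (ext_Q_eq_zero (terminal.from (ToposFin.eps J U)) (ModSite.toAb M) hM p x).trans
    (ext_Q_eq_zero (terminal.from (ToposFin.eps J U)) (ModSite.toAb M) hM p y).symm⟩

end Groth.Agent.S12891
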