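import Groth.Statements.S12903
import Mathlib
import Groth.Agent.Lib.Helper2QCoh
import Groth.Agent.Lib.Helper20StalkExact
-- import your own Groth.Agent.* helpers here

set_option autoImplicit false
universe u
open CategoryTheory CategoryTheory.Limits AlgebraicGeometry Opposite
open Coherent

namespace Groth.Agent.S12903


open Groth.Agent.Lib.Helper20.StalkExact

/-- left exactness of sections: sections killed by `η` come from the kernel -/
theorem exists_eq_kernelι {X : Scheme.{u}} {A B : X.Modules} (η : A ⟶ B) (V : X.Opens) (a : Γ(A, V))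
    (ha : η.app V a = 0) : ∃ t : Γ(kernel η, V), (kernel.ι η).app V t = a := by
  let E : ShortComplex X.Modules := ShortComplex.mk (kernel.ι η) η (kernel.condition _)
  have hE : E.Exact := ShortComplex.exact_of_f_is_kernel E (kernelIsKernel η)
  haveI : Mono E.f := inferInstanceAs (Mono (kernel.ι η))
  haveI : (secF (X := X) V).PreservesZeroMorphisms := ⟨fun _ _ => rfl⟩
  have h1 : (E.map (secF V)).Exact := hE.map_of_mono_of_preservesKernel (secF V) inferInstance inferInstance
  rw [ShortComplex.ab_exact_iff] at h1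
  exact h1 a ha

theorem kernelι_app_eq_zero {X : Scheme.{u}} {A B : X.Modules} (η : A ⟶ B) (V : X.Opens) (t : Γ(kernel η, V)) :
    η.app V ((kernel.ι η).app V t) = 0 := by
  have h : kernel.ι η ≫ η = 0 := kernel.condition _
  have h2 : (kernel.ι η ≫ η).app V = 0 := by rw [h]; rfl
  exact ConcreteCategory.congr_hom h2 t

/-- Let X be a scheme, j : U → X a quasi-compact open immersion with closed complement Z, F a
quasi-coherent O_X-module, V an affine open of X and I a finitely generated ideal of Γ(V, O_X)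
cutting out Z ∩ V (a point of V lies outside U if and only if it lies in no basic open X_f with f ∈
I). Then a section s of F over V belongs to the subsheaf Γ_Z(F) of sections supported in Z (the
kernel of F → j_*(F|_U)) if and only if I^n s = 0 for some n. -/
theorem result {U X : Scheme.{u}} (j : U ⟶ X) [IsOpenImmersion j] [QuasiCompact j]
    (F : X.Modules) (hF : Coh.IsQCoh F) (V : X.Opens) (hV : IsAffineOpen V)
    (I : Ideal (X.ringCatSheaf.obj.obj (op V))) (hI : I.FG)
    (hZ : ∀ x : X, x ∈ V → (x ∉ Set.range j.base ↔ ∀ f ∈ I, x ∉ X.basicOpen (f : Γ(X, V))))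
    (s : F.val.obj (op V)) :
    s ∈ Set.range ((((CxOX.gammaZι j).app F).val.app (op V)).hom) ↔ ∃ n : ℕ, ∀ a ∈ I ^ n, a • s = 0 := by
  haveI : F.IsQuasicoherent := hF
  let η := (Scheme.Modules.restrictAdjunction j).unit.app F
  let W : X.Opens := j ''ᵁ (j ⁻¹ᵁ V)
  have hWV : W ≤ V := j.image_preimage_le V
  have h1 : s ∈ Set.range ((((CxOX.gammaZι j).app F).val.app (op V)).hom) ↔
      F.presheaf.map (homOfLE hWV).op (show Γ(F, V) from s) = 0 := by
    constructor
    · rintro ⟨t, rfl⟩
      exact kernelι_app_eq_zero η V t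
    · intro h
      obtain ⟨t, ht⟩ := exists_eq_kernelι η V (show Γ(F, V) from s) h
      exact ⟨t, ht⟩
  rw [h1]
  have hmemW : ∀ x : X, x ∈ W ↔ x ∈ V ∧ x ∈ Set.range j.base := by
    intro x
    constructor
    · rintro ⟨u, hu, rfl⟩
      exact ⟨hu, u, rfl⟩
    · rintro ⟨hxV, u, rfl⟩
      exact ⟨u, hxV, rfl⟩
  let sV : Γ(F, V) := s
  let I' : Ideal Γ(X, V) := I
  have hI' : I'.FG := hI
  change F.presheaf.map (homOfLE hWV).op sV = 0 ↔ ∃ n : ℕ, ∀ a ∈ I' ^ n, a • sV = 0
  replace hZ : ∀ x : X, x ∈ V → (x ∉ Set.range j.base ↔ ∀ f ∈ I', x ∉ X.basicOpen f) := hZ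
  clear_value I' sV
  constructor
  · intro hs
    have hle : I' ≤ (Ideal.torsionOf Γ(X, V) Γ(F, V) sV).radical := by
      intro f hf
      have hfW : X.basicOpen (f : Γ(X, V)) ≤ W := by
        intro x hx
        have hxV : x ∈ V := X.basicOpen_le (f : Γ(X, V)) hx
        rw [hmemW]
        refine ⟨hxV, ?_⟩
        by_contra hnr
        exact ((hZ x hxV).1 hnr) f hf hx
      have h0 : F.presheaf.map (homOfLE (X.basicOpen_le (f : Γ(X, V)))).op sV = 0 := by
        have : F.presheaf.map (homOfLE (X.basicOpen_le (f : Γ(X, V)))).op sV =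
            F.presheaf.map (homOfLE hfW).op (F.presheaf.map (homOfLE hWV).op sV) := by
          simp only [← ConcreteCategory.comp_apply, ← Functor.map_comp]
          rfl
        rw [this, hs, map_zero]
      obtain ⟨n, hn⟩ := Groth.Agent.Lib.Helper2.QCoh.exists_pow_smul_eq_zero hV F (f : Γ(X, V)) sV h0
      exact ⟨n, (Ideal.mem_torsionOf_iff _ _).2 hn⟩
    obtain ⟨n, hn⟩ := Ideal.exists_pow_le_of_le_radical_of_fg hle hI'
    exact ⟨n, fun a ha => (Ideal.mem_torsionOf_iff _ _).1 (hn ha)⟩
  · rintro ⟨n, hn⟩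
    refine TopCat.Presheaf.section_ext (⟨F.presheaf, F.isSheaf⟩ : TopCat.Sheaf Ab.{u} X.carrier) W _ 0 ?_
    intro x hx
    rw [map_zero]
    obtain ⟨hxV, hxr⟩ := (hmemW x).1 hx
    have hex : ¬ ∀ f ∈ I', x ∉ X.basicOpen (f : Γ(X, V)) := fun hall => ((hZ x hxV).2 hall) hxr
    simp only [not_forall, not_not] at hex
    obtain ⟨f, hfI, hxf⟩ := hex
    have hfn : (f ^ n : Γ(X, V)) • sV = 0 := hn _ (Ideal.pow_mem_pow hfI n)
    have hg := congrArg (F.presheaf.germ V x hxV) hfn
    rw [map_zero, Groth.Agent.Lib.Helper2.QCoh.germ_smul, map_pow] at hg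
    have hu : IsUnit (X.presheaf.germ V x hxV (f : Γ(X, V))) := (X.mem_basicOpen (f : Γ(X, V)) x hxV).1 hxf
    have h2 := Groth.Agent.Lib.Helper2.QCoh.germ_smul_eq_zero_of_isUnit (hu.pow n) hg
    exact (TopCat.Presheaf.germ_res_apply F.presheaf (homOfLE hWV) x hx sV).trans h2

end Groth.Agent.S12903
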