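import Groth.Statements.S12905
import Groth.Agent.Lib.LeadCohRank
import Groth.Agent.Lib.Helper27MumfordReg
import Groth.Agent.Lib.Helper27ProjSpaceFibres
import Groth.Agent.Lib.Helper4KTensor
import Groth.Agent.Lib.Helper4DevD
import Groth.Agent.S1526

set_option autoImplicit false
universe u
open CategoryTheory CategoryTheory.Limits AlgebraicGeometry
open Variety

namespace Groth.Agent.S12905

/-- Let k be a field and φ : F' → F a monomorphism of coherent modules on P^n_k whose cokernel has
support of Krull dimension at most zero (a finite set of closed points, possibly empty). If F' is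
m-regular then F is m-regular. (The published statement is the case of an ideal sheaf contained in
the ideal sheaf of a curve with quotient supported at finitely many points, phrased as an inequality
of regularities; the argument gives the form stated here.) -/
theorem result (k : Type u) [Field k] (n : ℕ)
    (F' F : (CohB1.ProjSpace n k).Modules) (hF' : Coh.IsCoh F') (hF : Coh.IsCoh F) (φ : F' ⟶ F) [Mono φ]
    (hsupp : topologicalKrullDim (CohB1.support (cokernel φ)) ≤ 0) (m : ℤ)
    (h : Curv2.IsMRegular k n F' m) : Curv2.IsMRegular k n F m := by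
  intro i hi1 hin
  haveI hprop : IsProper (CohB1.ProjSpace n k ↘ Spec (CommRingCat.of k)) :=
    Groth.Agent.Lib.Helper27ProjSpaceFibres.isProper_projSpace_toSpec n k
  haveI : IsLocallyNoetherian (CohB1.ProjSpace n k) :=
    LocallyOfFiniteType.isLocallyNoetherian (CohB1.ProjSpace n k ↘ Spec (CommRingCat.of k))
  -- the short exact sequence `0 → F' → F → Q → 0`
  let S : ShortComplex (CohB1.ProjSpace n k).Modules :=
    ShortComplex.mk φ (cokernel.π φ) (cokernel.condition φ)
  have hS : S.ShortExact :=
    { exact := ShortComplex.exact_of_g_is_cokernel _ (cokernelIsCokernel φ)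
      mono_f := (inferInstance : Mono φ)
      epi_g := (inferInstance : Epi (cokernel.π φ)) }
  have hflat : ModSite.IsFlat (O := (CohB1.ProjSpace n k).sheaf)
      (Twist.twistProjSpace n k (m - i)) :=
    Groth.Agent.Lib.Helper27CMReg.isFlat_of_isInvertible _
      (Groth.Agent.Lib.Helper27SerreVanPn.isInvertible_twist n k (m - i))
  haveI : PreservesFiniteLimits
      (Groth.Agent.Lib.Helper27SerreVan.tw (Twist.twistProjSpace n k (m - i))) := hflat.1
  haveI : PreservesFiniteColimits
      (Groth.Agent.Lib.Helper27SerreVan.tw (Twist.twistProjSpace n k (m - i))) := hflat.2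
  have hST : (S.map (Groth.Agent.Lib.Helper27SerreVan.tw
      (Twist.twistProjSpace n k (m - i)))).ShortExact :=
    hS.map_of_exact _
  -- vanishing at the ends
  have h1 : Subsingleton (Coh.HH (CohB1.ProjSpace n k)
      (S.map (Groth.Agent.Lib.Helper27SerreVan.tw (Twist.twistProjSpace n k (m - i)))).X₁ i) :=
    h i hi1 hin
  have hQ : Coh.IsCoh (cokernel φ) := Groth.Agent.Lib.Helper4.Dev.isCoh_cokernel φ hF' hF
  have h3 : Subsingleton (Coh.HH (CohB1.ProjSpace n k)
      (S.map (Groth.Agent.Lib.Helper27SerreVan.tw (Twist.twistProjSpace n k (m - i)))).X₃ i) := by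
    have hcoh : Coh.IsCoh (CohB1.tensorMod (cokernel φ) (Twist.twistProjSpace n k (m - i))) :=
      Groth.Agent.Lib.Helper27MumfordReg.isCoh_twisted k n (cokernel φ) hQ (m - i)
    have hsub : CohB1.support (CohB1.tensorMod (cokernel φ) (Twist.twistProjSpace n k (m - i))) ⊆
        CohB1.support (cokernel φ) := by
      intro x hx hQx
      apply hx
      haveI : Subsingleton ↑((cokernel φ).presheaf.stalk x) := hQx
      exact (Groth.Agent.Lib.Helper4.KTensor.stalkTensorEquiv (cokernel φ)
        (Twist.twistProjSpace n k (m - i)) x).toEquiv.subsingleton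
    have hdim : topologicalKrullDim
        (CohB1.support (CohB1.tensorMod (cokernel φ) (Twist.twistProjSpace n k (m - i)))) ≤ 0 :=
      (Groth.Agent.Lib.Helper4.KFilt.dim_le_of_subset hsub).trans hsupp
    exact Groth.Agent.S1526.result k (CohB1.ProjSpace n k) _ hcoh hdim i hi1
  -- conclude by exactness in the middle
  have key : ∀ x : Coh.HH (CohB1.ProjSpace n k)
      (S.map (Groth.Agent.Lib.Helper27SerreVan.tw (Twist.twistProjSpace n k (m - i)))).X₂ i,
      x = 0 := by
    intro x
    obtain ⟨y, hy⟩ := Groth.Agent.Lib.LeadCohRank.exact_mid _ hST i x (Subsingleton.elim _ _)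
    rw [← hy, Subsingleton.elim y 0, map_zero]
  exact ⟨fun x y => (key x).trans (key y).symm⟩


end Groth.Agent.S12905
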