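import Groth.Statements.S12910
import Mathlib
import Groth.Agent.Lib.Helper27CplxReg
import Groth.Agent.Lib.Helper27SuppDimVan
import Groth.Agent.Lib.Helper27Syzygy

set_option autoImplicit false
universe u
open CategoryTheory CategoryTheory.Limits AlgebraicGeometry
open Variety

namespace Groth.Agent.S12910

/-- Let k be a field, d an integer, and E a bounded chain complex ⋯ → E_2 → E_1 → E_0 of coherent
modules on P^n_k (E_s = 0 for s large) such that E_s is (d + s)-regular for every s and, for every i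
> 0, the homology sheaf H_i(E) has support of Krull dimension at most 1. Then the cokernel of E_1 →
E_0 is d-regular and the image of E_1 → E_0 is (d + 1)-regular. -/
theorem result (k : Type u) [Field k] (n : ℕ)
    (E : ChainComplex ((CohB1.ProjSpace n k).Modules) ℕ) (t : ℕ) (hbdd : ∀ s : ℕ, t < s → IsZero (E.X s))
    (hcoh : ∀ s : ℕ, Coh.IsCoh (E.X s)) (d : ℤ)
    (hreg : ∀ s : ℕ, Curv2.IsMRegular k n (E.X s) (d + s))
    (hsupp : ∀ i : ℕ, 0 < i → topologicalKrullDim (CohB1.support (E.homology i)) ≤ 1) :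
    Curv2.IsMRegular k n (cokernel (E.d 1 0)) d ∧
      Curv2.IsMRegular k n (Abelian.image (E.d 1 0)) (d + 1) := by
  classical
  have hN := Groth.Agent.Lib.Helper27QProjCover.isNoetherian_projSpace n k
  haveI : IsLocallyNoetherian (CohB1.ProjSpace n k) := inferInstance
  have hBcoh : ∀ s : ℕ, Coh.IsCoh (Abelian.image (E.d (s + 1) s)) := fun s =>
    Groth.Agent.Lib.Helper4.Dev.isCoh_image _ (hcoh _) (hcoh _)
  have hZcoh : ∀ s : ℕ, Coh.IsCoh (kernel (E.d (s + 1) s)) := fun s =>
    Groth.Agent.Lib.Helper4.Dev.isCoh_kernel _ (hcoh _) (hcoh _)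
  -- the homology sheaves have no higher twisted cohomology in degrees `≥ 2`
  have hH : ∀ (s : ℕ) (j : ℤ) (i : ℕ), 2 ≤ i →
      Subsingleton (Coh.HH (CohB1.ProjSpace n k)
        (CohB1.tensorMod (Groth.Agent.Lib.Helper27CplxSES.imKerSC (E.d (s + 2) (s + 1))
          (E.d (s + 1) s) (E.d_comp_d _ _ _)).X₃ (Twist.twistProjSpace n k j)) i) := by
    intro s j i hi
    let H : (CohB1.ProjSpace n k).Modules :=
      cokernel (Groth.Agent.Lib.Helper27CplxSES.imToKer (E.d (s + 2) (s + 1))
        (E.d (s + 1) s) (E.d_comp_d _ _ _))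
    change Subsingleton (Coh.HH (CohB1.ProjSpace n k)
      (CohB1.tensorMod H (Twist.twistProjSpace n k j)) i)
    have hHcoh : Coh.IsCoh H :=
      Groth.Agent.Lib.Helper4.Dev.isCoh_cokernel _ (hBcoh (s + 1)) (hZcoh s)
    have e : H ≅ E.homology (s + 1) :=
      Groth.Agent.Lib.Helper27CplxSES.cokerIsoHomology _ _ _ ≪≫
        (Groth.Agent.Lib.Helper27CplxSES.homologyIso E s).symm
    have hs1 : CohB1.support H = CohB1.support (E.homology (s + 1)) :=
      Groth.Agent.Lib.Helper4.Dev.support_eq_of_iso e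
    have hTcoh : Coh.IsCoh (CohB1.tensorMod H (Twist.twistProjSpace n k j)) :=
      Groth.Agent.Lib.Helper27MumfordReg.isCoh_twisted k n H hHcoh j
    have hsub : CohB1.support (CohB1.tensorMod H (Twist.twistProjSpace n k j)) ⊆
        CohB1.support (E.homology (s + 1)) := by
      rw [← hs1]
      exact Groth.Agent.Lib.Helper27SuppDimVan.support_tensorMod_subset_left H _
    have hdim : topologicalKrullDim
        (CohB1.support (CohB1.tensorMod H (Twist.twistProjSpace n k j))) <
        ((2 : ℕ) : WithBot ℕ∞) := by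
      have h1 : topologicalKrullDim
          (CohB1.support (CohB1.tensorMod H (Twist.twistProjSpace n k j))) ≤
          topologicalKrullDim (CohB1.support (E.homology (s + 1))) :=
        (Topology.IsEmbedding.inclusion hsub).isInducing.topologicalKrullDim_le
      refine lt_of_le_of_lt (h1.trans (hsupp (s + 1) (by omega))) ?_
      exact_mod_cast (by norm_num : (1 : ℕ∞) < 2)
    exact Groth.Agent.Lib.Helper27SuppDimVan.subsingleton_HH_of_support_dim k n _ hTcoh 2 hdim i hi
  -- descending induction: the images are regular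
  have key : ∀ (j s : ℕ), t ≤ s + j →
      Curv2.IsMRegular k n (Abelian.image (E.d (s + 1) s)) (d + s + 1) := by
    intro j
    induction j with
    | zero =>
      intro s hs
      exact Groth.Agent.Lib.Helper27Syzygy.isMRegular_of_isZero k n
        (Groth.Agent.Lib.Helper27CplxSES.isZero_image_of_isZero_src _ (hbdd (s + 1) (by omega))) _
    | succ j ih =>
      intro s hs
      have hB' := ih (s + 1) (by omega)
      have hW : Groth.Agent.Lib.Helper27CplxReg.WReg k n (kernel (E.d (s + 1) s))
          (d + ((s + 1 : ℕ) : ℤ) + 1) :=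
        Groth.Agent.Lib.Helper27CplxReg.wreg_X₂ k n
          (Groth.Agent.Lib.Helper27CplxSES.imKerSC (E.d (s + 2) (s + 1)) (E.d (s + 1) s)
            (E.d_comp_d _ _ _))
          (Groth.Agent.Lib.Helper27CplxSES.imKerSC_shortExact _ _ _) _
          (Groth.Agent.Lib.Helper27CplxReg.wreg_of_isMRegular k n hB') (hH s)
      have e1 : d + ((s + 1 : ℕ) : ℤ) + 1 = (d + (s : ℤ) + 1) + 1 := by push_cast; ring
      have e2 : d + ((s + 1 : ℕ) : ℤ) = d + (s : ℤ) + 1 := by push_cast; ring
      rw [e1] at hW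
      have hE := hreg (s + 1)
      rw [e2] at hE
      exact Groth.Agent.Lib.Helper27CplxReg.isMRegular_X₃ k n
        (Groth.Agent.Lib.Helper27CplxSES.kerImSC (E.d (s + 1) s))
        (Groth.Agent.Lib.Helper27CplxSES.kerImSC_shortExact _) (hZcoh s).1 _ hE hW
  have hB0 : Curv2.IsMRegular k n (Abelian.image (E.d 1 0)) (d + 1) := by
    have h := key t 0 (by omega)
    have e0 : d + ((0 : ℕ) : ℤ) + 1 = d + 1 := by push_cast; ring
    rw [e0] at h
    exact h
  refine ⟨?_, hB0⟩
  have hE0 := hreg 0
  have e0 : d + ((0 : ℕ) : ℤ) = d := by push_cast; ring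
  rw [e0] at hE0
  exact Groth.Agent.Lib.Helper27CplxReg.isMRegular_X₃ k n
    (Groth.Agent.Lib.Helper27CplxSES.imCokSC (E.d 1 0))
    (Groth.Agent.Lib.Helper27CplxSES.imCokSC_shortExact _) (hBcoh 0).1 d hE0
    (Groth.Agent.Lib.Helper27CplxReg.wreg_of_isMRegular k n hB0)

end Groth.Agent.S12910
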