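import Groth.Statements.S12914
import Mathlib
import Groth.Agent.Lib.Helper13GrQuot
import Groth.Agent.Lib.Helper13Pts
import Groth.Agent.Lib.Helper13PtsRes
-- import your own Groth.Agent.* helpers here

set_option autoImplicit false
universe u
open CAlgX

namespace Groth.Agent.S12914

/-- Let k be a field, Z a finite set of nonzero vectors in k^3, regarded as points of the projective
plane, and I the homogeneous vanishing ideal of Z in k[x_0, x_1, x_2]: a polynomial belongs to I
exactly when every one of its homogeneous components vanishes at every vector of Z. If Z lies on a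
curve of degree d, that is I contains a nonzero homogeneous form of degree d, then I is generated by
at most d + 1 elements. -/
theorem result (k : Type u) [Field k]
    (Z : Finset (Fin 3 → k)) (hZ : ∀ p ∈ Z, p ≠ 0) (I : Ideal (MvPolynomial (Fin 3) k))
    (hI : ∀ f : MvPolynomial (Fin 3) k, f ∈ I ↔
      ∀ p ∈ Z, ∀ j : ℕ, MvPolynomial.eval p (MvPolynomial.homogeneousComponent j f) = 0)
    (d : ℕ) (hf : ∃ f ∈ I, MvPolynomial.IsHomogeneous f d ∧ f ≠ 0) :
    Submodule.spanFinrank I ≤ d + 1 := by
  classical
  by_cases hZne : Z.Nonempty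
  swap
  · have hIt : I = ⊤ := by
      rw [Finset.not_nonempty_iff_eq_empty] at hZne
      subst hZne
      rw [Ideal.eq_top_iff_one, hI]
      simp
    rw [hIt]
    have h1 : Submodule.spanFinrank (Ideal.span ({1} : Set (MvPolynomial (Fin 3) k))) ≤
        ({1} : Set (MvPolynomial (Fin 3) k)).ncard :=
      Submodule.spanFinrank_span_le_ncard_of_finite (Set.finite_singleton 1)
    rw [Set.ncard_singleton, Ideal.span_singleton_one] at h1
    omega
  · have hIh := Groth.Agent.Helper13Pts.isHomogeneous Z I hI
    letI : DirectSum.Decomposition (Groth.Agent.Helper13GrQuot.quotGr I) :=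
      Groth.Agent.Helper13GrQuot.quotDecomposition I hIh
    haveI : SetLike.GradedSMul (GrSyz.stdGr k (Fin 3)) (Groth.Agent.Helper13GrQuot.quotGr I) :=
      Groth.Agent.Helper13GrQuot.quot_gradedSMul I
    exact Groth.Agent.Helper13PtsRes.main_abstract
      (ℳ := Groth.Agent.Helper13GrQuot.quotGr I) (Submodule.mkQ I)
      (Groth.Agent.Helper13GrQuot.mkQ_isGrHom I) Z I hI hZ hZne
      (Submodule.mkQ_surjective I) (Submodule.ker_mkQ I) d hf

end Groth.Agent.S12914
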