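import Groth.Statements.S12915
import Mathlib
-- import your own Groth.Agent.* helpers here

set_option autoImplicit false
universe u
open CAlgX

namespace Groth.Agent.S12915

open MvPolynomial in
theorem finrank_homog (k : Type u) [Field k] (r d : ℕ) :
    Module.finrank k ↥(homogeneousSubmodule (Fin (r+1)) k d) = Nat.choose (d + r) r := by
  classical
  rw [homogeneousSubmodule_eq_finsupp_supported]
  have e := AddMonoidAlgebra.supportedEquivFinsupp (R := k) (S := k) {e : Fin (r+1) →₀ ℕ | e.degree = d}
  rw [e.finrank_eq]
  let eq1 : Sym (Fin (r+1)) d ≃ {e : Fin (r+1) →₀ ℕ | e.degree = d} :=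
    (Sym.equivNatSum (Fin (r+1)) d).trans (Equiv.subtypeEquivRight (fun P => by
      simp [Finsupp.degree, Finsupp.sum]))
  let _ : Fintype {e : Fin (r+1) →₀ ℕ | e.degree = d} := Fintype.ofEquiv _ eq1
  rw [Module.finrank_finsupp_self, ← Fintype.card_congr eq1, Sym.card_sym_eq_choose]
  simp only [Fintype.card_fin]
  have : r + 1 + d - 1 = d + r := by omega
  rw [this]
  exact (Nat.choose_symm_of_eq_add (by omega)).symm

open MvPolynomial in
attribute [local instance] MvPolynomial.gradedAlgebra in
theorem hc_mul {k : Type u} [Field k] {σ : Type} (f q : MvPolynomial σ k) (m n : ℕ)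
    (hf : f.IsHomogeneous m) (h : m ≤ n) :
    homogeneousComponent n (f * q) = f * homogeneousComponent (n - m) q := by
  have := DirectSum.coe_decompose_mul_of_left_mem_of_le (𝒜 := homogeneousSubmodule σ k)
    (b := q) (n := n) ((mem_homogeneousSubmodule _ _).mpr hf) h
  rw [← decomposition.decompose'_apply, ← decomposition.decompose'_apply]
  exact this

/-- Let k be a field, S = k[x_0, …, x_r], and f a nonzero homogeneous polynomial of degree m. For every
t ≥ m the image in S/(f) of the homogeneous polynomials of degree t is a k-vector space of dimension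
C(t + r, r) - C(t + r - m, r). (The published clause states that the hypersurface f = 0 in P^r has
degree m; its proof computes exactly this Hilbert function, whose polynomial has leading term m
t^(r-1)/(r-1)!, and that computation is what is stated here.) -/
theorem result (k : Type u) [Field k] (r m : ℕ)
    (f : MvPolynomial (Fin (r + 1)) k) (hf : f.IsHomogeneous m) (hf0 : f ≠ 0) (t : ℕ) (ht : m ≤ t) :
    Module.finrank k
        (Submodule.map ((Ideal.Quotient.mkₐ k (Ideal.span {f})).toLinearMap)
          (MvPolynomial.homogeneousSubmodule (Fin (r + 1)) k t)) =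
      Nat.choose (t + r) r - Nat.choose (t + r - m) r := by
  classical
  haveI : FiniteDimensional k (MvPolynomial.homogeneousSubmodule (Fin (r + 1)) k t) := by
    apply Module.finite_of_finrank_pos
    rw [finrank_homog]
    exact Nat.choose_pos (by omega)
  have hrn := LinearMap.finrank_range_add_finrank_ker
    (((Ideal.Quotient.mkₐ k (Ideal.span {f})).toLinearMap).domRestrict
      (MvPolynomial.homogeneousSubmodule (Fin (r + 1)) k t))
  rw [LinearMap.range_domRestrict, finrank_homog] at hrn
  have hinj : Function.Injective (LinearMap.mulLeft k f) := by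
    intro a b hab
    exact mul_left_cancel₀ hf0 hab
  have h2 : (LinearMap.ker (((Ideal.Quotient.mkₐ k (Ideal.span {f})).toLinearMap).domRestrict
      (MvPolynomial.homogeneousSubmodule (Fin (r + 1)) k t))).map
        (MvPolynomial.homogeneousSubmodule (Fin (r + 1)) k t).subtype =
      (MvPolynomial.homogeneousSubmodule (Fin (r + 1)) k (t - m)).map (LinearMap.mulLeft k f) := by
    ext g
    simp only [Submodule.mem_map, LinearMap.mem_ker, LinearMap.domRestrict_apply,
      Submodule.subtype_apply, Subtype.exists, exists_and_right, exists_eq_right,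
      AlgHom.toLinearMap_apply, Ideal.Quotient.mkₐ_eq_mk, Ideal.Quotient.eq_zero_iff_mem,
      LinearMap.mulLeft_apply, MvPolynomial.mem_homogeneousSubmodule]
    constructor
    · rintro ⟨hg, hgf⟩
      obtain ⟨q, rfl⟩ := Ideal.mem_span_singleton'.mp hgf
      refine ⟨MvPolynomial.homogeneousComponent (t - m) q,
        MvPolynomial.homogeneousComponent_isHomogeneous _ _, ?_⟩
      rw [← hc_mul f q m t hf ht, mul_comm f q]
      exact MvPolynomial.homogeneousComponent_eq_self hg
    · rintro ⟨q, hq, rfl⟩
      refine ⟨?_, Ideal.mem_span_singleton'.mpr ⟨q, mul_comm _ _⟩⟩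
      have := hf.mul hq
      rwa [Nat.add_sub_cancel' ht] at this
  have hker : Module.finrank k (LinearMap.ker
      (((Ideal.Quotient.mkₐ k (Ideal.span {f})).toLinearMap).domRestrict
      (MvPolynomial.homogeneousSubmodule (Fin (r + 1)) k t))) = Nat.choose (t + r - m) r := by
    rw [LinearEquiv.finrank_eq (Submodule.equivMapOfInjective _
      (MvPolynomial.homogeneousSubmodule (Fin (r + 1)) k t).injective_subtype _), h2,
      ← LinearEquiv.finrank_eq (Submodule.equivMapOfInjective _ hinj _), finrank_homog]
    congr 1
    omega
  omega

end Groth.Agent.S12915
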