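import Groth.Statements.S12916
import Groth.Agent.Lib.Helper29FinLen

set_option autoImplicit false
universe u
open CAlgX

namespace Groth.Agent.S12916

/-- Let k be an infinite field, S = k[x_0, …, x_r], M a finitely generated S-module and d a natural
number. Then some nonzero homogeneous polynomial f of degree d is quasi-regular on M: the submodule
(0 :_M f) of elements of M annihilated by f has finite length. (The published statement assumes M
graded; this row assumes only that M is finitely generated.) -/
theorem result (k : Type u) [Field k] [Infinite k] (r d : ℕ)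
    (M : Type u) [AddCommGroup M] [Module (MvPolynomial (Fin (r + 1)) k) M] [Module.Finite (MvPolynomial (Fin (r + 1)) k) M] :
    ∃ f : MvPolynomial (Fin (r + 1)) k, f.IsHomogeneous d ∧ f ≠ 0 ∧
      IsFiniteLength (MvPolynomial (Fin (r + 1)) k) ↥(Submodule.torsionBy (MvPolynomial (Fin (r + 1)) k) M f) := by
  classical
  have hfin : (associatedPrimes (MvPolynomial (Fin (r + 1)) k) M).Finite :=
    associatedPrimes.finite (MvPolynomial (Fin (r + 1)) k) M
  -- a prime containing all forms of degree `d` is maximal
  have hkey : ∀ P : Ideal (MvPolynomial (Fin (r + 1)) k), P.IsPrime →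
      (∀ f ∈ MvPolynomial.homogeneousSubmodule (Fin (r + 1)) k d, f ∈ P) → P.IsMaximal := by
    intro P hP hV
    have hX : ∀ i : Fin (r + 1), (MvPolynomial.X i : MvPolynomial (Fin (r + 1)) k) ∈ P := by
      intro i
      apply hP.mem_of_pow_mem d
      apply hV
      rw [MvPolynomial.mem_homogeneousSubmodule]
      exact MvPolynomial.isHomogeneous_X_pow i d
    have hsurj : Function.Surjective
        (MvPolynomial.constantCoeff : MvPolynomial (Fin (r + 1)) k →+* k) := by
      intro c
      exact ⟨MvPolynomial.C c, MvPolynomial.constantCoeff_C _ c⟩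
    have hmax : (RingHom.ker
        (MvPolynomial.constantCoeff : MvPolynomial (Fin (r + 1)) k →+* k)).IsMaximal :=
      RingHom.ker_isMaximal_of_surjective _ hsurj
    have hle : RingHom.ker
        (MvPolynomial.constantCoeff : MvPolynomial (Fin (r + 1)) k →+* k) ≤ P := by
      intro p hp
      rw [RingHom.mem_ker] at hp
      rw [p.as_sum]
      apply Ideal.sum_mem
      intro m hm
      have hm0 : m ≠ 0 := by
        rintro rfl
        rw [MvPolynomial.mem_support_iff] at hm
        exact hm hp
      obtain ⟨i, hi⟩ : ∃ i, m i ≠ 0 := by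
        by_contra h
        push Not at h
        exact hm0 (Finsupp.ext h)
      obtain ⟨g, hg⟩ := (MvPolynomial.X_dvd_monomial (r := MvPolynomial.coeff m p)).mpr (Or.inr hi)
      rw [hg]
      exact P.mul_mem_right _ (hX i)
    rw [← hmax.eq_of_le hP.ne_top hle]
    exact hmax
  -- the finite family of proper subspaces to avoid
  let V := MvPolynomial.homogeneousSubmodule (Fin (r + 1)) k d
  let W : Ideal (MvPolynomial (Fin (r + 1)) k) → Submodule k V :=
    fun P => Submodule.comap V.subtype (P.restrictScalars k)
  let s : Finset (Submodule k V) :=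
    insert ⊥ ((hfin.toFinset.filter (fun P => ¬ P.IsMaximal)).image W)
  have hX0 : (MvPolynomial.X 0 ^ d : MvPolynomial (Fin (r + 1)) k) ∈ V := by
    rw [MvPolynomial.mem_homogeneousSubmodule]
    exact MvPolynomial.isHomogeneous_X_pow 0 d
  have hs : (⊤ : Submodule k V) ∉ s := by
    intro h
    rw [Finset.mem_insert] at h
    rcases h with h | h
    · have h1 : (⟨_, hX0⟩ : V) ∈ (⊤ : Submodule k V) := trivial
      rw [h, Submodule.mem_bot] at h1
      have h2 : (MvPolynomial.X 0 ^ d : MvPolynomial (Fin (r + 1)) k) = 0 := congrArg Subtype.val h1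
      exact pow_ne_zero d (MvPolynomial.X_ne_zero 0) h2
    · rw [Finset.mem_image] at h
      obtain ⟨P, hP, hWP⟩ := h
      rw [Finset.mem_filter, Set.Finite.mem_toFinset] at hP
      apply hP.2
      apply hkey P hP.1.isPrime
      intro f hf
      have : (⟨f, hf⟩ : V) ∈ W P := by rw [hWP]; trivial
      exact this
  have hne := Subspace.biUnion_ne_univ_of_top_notMem hs
  rw [Set.ne_univ_iff_exists_notMem] at hne
  obtain ⟨f, hf⟩ := hne
  simp only [Set.mem_iUnion, not_exists] at hf
  have hf0 : (f : MvPolynomial (Fin (r + 1)) k) ≠ 0 := by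
    intro h
    apply hf ⊥ (Finset.mem_insert_self _ _)
    rw [SetLike.mem_coe, Submodule.mem_bot]
    exact Subtype.ext h
  have hfP : ∀ P ∈ associatedPrimes (MvPolynomial (Fin (r + 1)) k) M, ¬ P.IsMaximal →
      (f : MvPolynomial (Fin (r + 1)) k) ∉ P := by
    intro P hP hmax hfP
    apply hf (W P)
    · apply Finset.mem_insert_of_mem
      rw [Finset.mem_image]
      refine ⟨P, ?_, rfl⟩
      rw [Finset.mem_filter, Set.Finite.mem_toFinset]
      exact ⟨hP, hmax⟩
    · exact hfP
  refine ⟨f, (MvPolynomial.mem_homogeneousSubmodule _ _).mp f.2, hf0, ?_⟩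
  apply Groth.Agent.Lib.Helper29.FinLen.isFiniteLength_of_associatedPrimes_isMaximal
  intro P hP
  by_contra hmax
  have hPM : P ∈ associatedPrimes (MvPolynomial (Fin (r + 1)) k) M :=
    associatedPrimes.subset_of_injective
      (f := (Submodule.torsionBy (MvPolynomial (Fin (r + 1)) k) M
        (f : MvPolynomial (Fin (r + 1)) k)).subtype)
      (Submodule.subtype_injective _) hP
  apply hfP P hPM hmax
  obtain ⟨_, n, rfl⟩ := isAssociatedPrime_iff.mp hP
  rw [Submodule.mem_colon_singleton, Submodule.mem_bot]
  apply Subtype.ext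
  exact n.2

end Groth.Agent.S12916
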