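import Groth.Statements.S12917
import Mathlib
import Groth.Agent.Lib.Helper13GrQuot
import Groth.Agent.Lib.Helper13Pts
import Groth.Agent.Lib.Helper13PtsRes
-- import your own Groth.Agent.* helpers here

set_option autoImplicit false
universe u
open CAlgX

namespace Groth.Agent.S12917

/-- Let k be a field, Z a finite set of nonzero vectors in k^3, regarded as points of the projective
plane, and I the homogeneous vanishing ideal of Z in S = k[x_0, x_1, x_2]: a polynomial belongs to I
exactly when each of its homogeneous components vanishes at every vector of Z. Then I has a free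
resolution of length one: for some t there are a (t+1) × t matrix Ψ over S, injective as a map S^t →
S^{t+1}, and an S-linear map π : S^{t+1} → S with ker π = im Ψ and im π = I. (The published
statement speaks of the minimal free resolution of I having length 1; stated here as the existence
of such a resolution.) -/
theorem result (k : Type u) [Field k]
    (Z : Finset (Fin 3 → k)) (hZ : ∀ p ∈ Z, p ≠ 0) (I : Ideal (MvPolynomial (Fin 3) k))
    (hI : ∀ f : MvPolynomial (Fin 3) k, f ∈ I ↔
      ∀ p ∈ Z, ∀ j : ℕ, MvPolynomial.eval p (MvPolynomial.homogeneousComponent j f) = 0) :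
    ∃ (t : ℕ) (Ψ : Matrix (Fin (t + 1)) (Fin t) (MvPolynomial (Fin 3) k)) (π : (Fin (t + 1) → MvPolynomial (Fin 3) k) →ₗ[MvPolynomial (Fin 3) k] MvPolynomial (Fin 3) k),
      LinearMap.ker Ψ.mulVecLin = ⊥ ∧ LinearMap.ker π = LinearMap.range Ψ.mulVecLin ∧ LinearMap.range π = I := by
  classical
  by_cases hZne : Z.Nonempty
  swap
  · have hIt : I = ⊤ := by
      rw [Finset.not_nonempty_iff_eq_empty] at hZne
      subst hZne
      rw [Ideal.eq_top_iff_one, hI]
      simp
    refine ⟨0, 0, LinearMap.proj 0, ?_, ?_, ?_⟩
    · rw [LinearMap.ker_eq_bot]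
      intro v w _
      exact Subsingleton.elim v w
    · have h1 : LinearMap.range (Matrix.mulVecLin
          (0 : Matrix (Fin (0 + 1)) (Fin 0) (MvPolynomial (Fin 3) k))) = ⊥ := by
        rw [eq_bot_iff]
        rintro _ ⟨v, rfl⟩
        simp
      rw [h1, LinearMap.ker_eq_bot]
      intro v w hvw
      funext i
      have hi : i = 0 := Fin.ext (by have := i.2; omega)
      rw [hi]
      exact hvw
    · rw [hIt, LinearMap.range_eq_top]
      intro g
      exact ⟨fun _ => g, rfl⟩
  · have hIh := Groth.Agent.Helper13Pts.isHomogeneous Z I hI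
    letI : DirectSum.Decomposition (Groth.Agent.Helper13GrQuot.quotGr I) :=
      Groth.Agent.Helper13GrQuot.quotDecomposition I hIh
    haveI : SetLike.GradedSMul (GrSyz.stdGr k (Fin 3)) (Groth.Agent.Helper13GrQuot.quotGr I) :=
      Groth.Agent.Helper13GrQuot.quot_gradedSMul I
    obtain ⟨n, m, Ψ, π', hnm, h1, h2, h3⟩ := Groth.Agent.Helper13PtsRes.exists_length_one_abstract
      (ℳ := Groth.Agent.Helper13GrQuot.quotGr I) (Submodule.mkQ I)
      (Groth.Agent.Helper13GrQuot.mkQ_isGrHom I) Z I hI hZ hZne
      (Submodule.mkQ_surjective I) (Submodule.ker_mkQ I)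
    subst hnm
    exact ⟨m, Ψ, π', h1, h2, h3⟩

end Groth.Agent.S12917
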