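import Groth.Statements.S12918
import Groth.Agent.Lib.Helper25TotInt

set_option autoImplicit false
universe u v w
open HopfRep TensorProduct Groth.Agent.Lib.Helper25

namespace Groth.Agent.S12918

/-- Let `k` be a commutative ring, `A` a commutative Hopf algebra over `k`, flat as a `k`-module and `B`
a commutative `k`-algebra with a coaction `ρ : B → B ⊗ A` that is an algebra map (an action of the
affine group scheme `Spec A` on `Spec B`). Then the action admits a total integral — a comodule map
`α : A → B`, for the regular coaction on `A`, with `α 1 = 1` — if and only if `ρ` has a left inverse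
`B ⊗ A → B` which is a comodule map for the coaction `id ⊗ Δ` on `B ⊗ A`. -/
theorem result
    (k : Type u) [CommRing k] (A : Type v) [CommRing A] [HopfAlgebra k A] [Module.Flat k A]
    (B : Type w) [CommRing B] [Algebra k B] [HopfRep.Comod k A B] [GLin.IsCoactAlg k A B] :
    (∃ α : A →ₗ[k] B, Hoch.IsComodHom A α ∧ α 1 = 1) ↔
      ∃ lam : Hoch.Ind k A B →ₗ[k] B, Hoch.IsComodHom A lam ∧ lam ∘ₗ Hoch.toInd k A B = LinearMap.id := by
  constructor
  · rintro ⟨α, hα, hα1⟩
    exact ⟨lamOf α, isComodHom_lamOf α hα, lamOf_comp_toInd α hα1⟩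
  · rintro ⟨lam, hlam, hlr⟩
    let lam' : B ⊗[k] A →ₗ[k] B := lam ∘ₗ (Hoch.Ind.equiv k A B).toLinearMap
    have hl' : ∀ y : B ⊗[k] A, HopfRep.Comod.coact (k := k) (A := A) (lam' y) =
        lam'.rTensor A (Hoch.Ind.coactAux k A B y) := fun y =>
      isComodHom_apply hlam (Hoch.Ind.equiv k A B y)
    refine ⟨lam' ∘ₗ TensorProduct.mk k B A 1, ?_, ?_⟩
    · apply LinearMap.ext
      intro a
      change HopfRep.Comod.coact (k := k) (A := A) (lam' ((1 : B) ⊗ₜ[k] a)) =
        (lam' ∘ₗ TensorProduct.mk k B A 1).rTensor A (CoalgebraStruct.comul (R := k) a)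
      rw [hl', Hoch.Ind.coactAux_tmul]
      generalize CoalgebraStruct.comul (R := k) a = v
      induction v using TensorProduct.induction_on with
      | zero => simp
      | add x y hx hy => simp only [TensorProduct.tmul_add, map_add, hx, hy]
      | tmul a' a'' =>
        rw [TensorProduct.assoc_symm_tmul, LinearMap.rTensor_tmul, LinearMap.rTensor_tmul]
        rfl
    · have h2 := LinearMap.congr_fun hlr (1 : B)
      have h3 : Hoch.toInd k A B (1 : B) = Hoch.Ind.equiv k A B ((1 : B) ⊗ₜ[k] (1 : A)) := by
        change Hoch.Ind.equiv k A B (HopfRep.Comod.coact (k := k) (A := A) (1 : B)) = _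
        rw [GLin.IsCoactAlg.coact_one, Algebra.TensorProduct.one_def]
      rw [LinearMap.comp_apply, h3] at h2
      exact h2

end Groth.Agent.S12918
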