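import Groth.Statements.S1292
import Mathlib
import Groth.Agent.Lib.Helper1WETor
import Groth.Agent.Lib.Helper3IndEtHz
import Groth.Agent.S0736
-- import your own Groth.Agent.* helpers here

set_option autoImplicit false
universe u
open CategoryTheory
attribute [local instance] HasDerivedCategory.standard
open FlatMor

namespace Groth.Agent.S1292

open IsLocalRing in
/-- Let A be a ring, p a prime ideal of A, Ah a henselization and Ash a strict henselization of the
local ring A_p, with Ash an Ah-algebra compatibly with the structure maps from A_p, and a, b
integers. Tor amplitude is meant in the flat-representative form: an object of the derived category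
of a ring has tor amplitude in [a, b] when it is isomorphic to a complex of flat modules vanishing
outside degrees [a, b]. For K in D(Ash) the following are equivalent: K with scalars restricted to
A_p has tor amplitude in [a, b]; K with scalars restricted to Ah has tor amplitude in [a, b]; K has
tor amplitude in [a, b] over Ash. Moreover, for L in D(Ah): L with scalars restricted to A_p has tor
amplitude in [a, b] if and only if L has tor amplitude in [a, b] over Ah. (The published statement
is for a general scheme S; this is the case S = Spec A.) -/
theorem result {A : Type u} [CommRing A] (p : Ideal A) [p.IsPrime]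
    (Ah Ash : Type u) [CommRing Ah] [IsLocalRing Ah] [CommRing Ash] [IsLocalRing Ash]
    [Algebra (Localization.AtPrime p) Ah] [IsLocalHom (algebraMap (Localization.AtPrime p) Ah)] [Hensel.IsHenselization (Localization.AtPrime p) Ah]
    [Algebra (Localization.AtPrime p) Ash] [IsLocalHom (algebraMap (Localization.AtPrime p) Ash)] [Hensel.IsStrictHenselization (Localization.AtPrime p) Ash]
    [Algebra Ah Ash] [IsScalarTower (Localization.AtPrime p) Ah Ash]
    (a b : ℤ) (K : Dual.D Ash) (L : Dual.D Ah) :
    [DRing.HasTorAmplitudeIn (Localization.AtPrime p) a b ((DRing.restrictD (algebraMap (Localization.AtPrime p) Ash)).obj K),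
     DRing.HasTorAmplitudeIn Ah a b ((DRing.restrictD (algebraMap Ah Ash)).obj K),
     DRing.HasTorAmplitudeIn Ash a b K].TFAE ∧
    (DRing.HasTorAmplitudeIn (Localization.AtPrime p) a b ((DRing.restrictD (algebraMap (Localization.AtPrime p) Ah)).obj L) ↔
      DRing.HasTorAmplitudeIn Ah a b L) := by
  have hwh : Algebra.WeaklyEtale (Localization.AtPrime p) Ah :=
    Groth.Agent.S0736.result _ _
      (Groth.Agent.Lib.Helper3.IndEt.isIndEtale_of_isHenselization (Localization.AtPrime p) Ah)
  have hwsh : Algebra.WeaklyEtale (Localization.AtPrime p) Ash :=
    Groth.Agent.S0736.result _ _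
      (Groth.Agent.Lib.Helper3.IndEt.isIndEtale_of_isStrictHenselization
        (Localization.AtPrime p) Ash)
  have hfl : Module.Flat Ah Ash :=
    Groth.Agent.Lib.Helper14.WEFlat.flat_of_flat_of_weaklyEtale (Localization.AtPrime p) Ah Ash
  refine ⟨?_, Groth.Agent.Lib.Helper1.WETor.hasTorAmp_restrictD_iff_of_weaklyEtale L a b⟩
  tfae_have 1 → 3 := Groth.Agent.Lib.Helper1.WETor.hasTorAmp_of_restrictD_of_weaklyEtale K a b
  tfae_have 3 → 2 := Groth.Agent.Lib.Helper1.WETor.hasTorAmp_restrictD_of_flat K a b
  tfae_have 2 → 1 := by
    intro h
    have h1 := Groth.Agent.Lib.Helper1.WETor.hasTorAmp_restrictD_of_flat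
      (A := Localization.AtPrime p) (B := Ah) _ a b h
    have e := Groth.Agent.Lib.Helper1.RelPC.restrictDCompIso
      (algebraMap (Localization.AtPrime p) Ah) (algebraMap Ah Ash) K
    rw [← IsScalarTower.algebraMap_eq] at e
    exact Groth.Agent.Lib.Helper1.Tor.hasTorAmp_of_iso e h1
  tfae_finish

end Groth.Agent.S1292
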