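import Groth.Statements.S12921
import Groth.Agent.Lib.Helper25Tame

set_option autoImplicit false
universe u v w
open HopfRep

namespace Groth.Agent.S12921

/-- Let `k` be a commutative ring, `A` a commutative Hopf algebra over `k`, flat as a `k`-module, `B` a
commutative `k`-algebra with a coaction of `A` that is an algebra map and admits a total integral (a
comodule map `α : A → B` with `α 1 = 1`), and `C = B^A` the subring of invariants. Then for every
ideal `c` of `C` one has `cB ∩ C = c`. (The published statement assumes only that taking invariants
is exact on `(B, A)`-modules; a total integral, assumed here, gives that exactness.) -/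
theorem result
    (k : Type u) [CommRing k] (A : Type v) [CommRing A] [HopfAlgebra k A] [Module.Flat k A]
    (B : Type w) [CommRing B] [Algebra k B] [HopfRep.Comod k A B] [GLin.IsCoactAlg k A B]
    (htame : ∃ α : A →ₗ[k] B, Hoch.IsComodHom A α ∧ α 1 = 1)
    (c : Ideal (GLin.invariants k A B)) :
    (c.map (algebraMap (GLin.invariants k A B) B)).comap (algebraMap (GLin.invariants k A B) B) = c := by
  open Groth.Agent.Lib.Helper25 in
  obtain ⟨α, hα, hα1⟩ := htame
  apply le_antisymm
  · intro x hx
    rw [Ideal.mem_comap] at hx
    -- the Reynolds operator `B → C`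
    have hfix : ∀ b : B, TameAct.reynolds k A B B α b ∈ GLin.invariants k A B :=
      fun b => reynolds_mem_fixedPts α hα b
    have hp : ∀ y ∈ c.map (algebraMap (GLin.invariants k A B) B),
        (⟨TameAct.reynolds k A B B α y, hfix y⟩ : GLin.invariants k A B) ∈ c := by
      intro y hy
      refine Submodule.span_induction (p := fun y _ =>
        ∀ r : B, (⟨TameAct.reynolds k A B B α (r * y), hfix _⟩ : GLin.invariants k A B) ∈ c)
        ?_ ?_ ?_ ?_ hy 1 |> fun h => by simpa using h
      · rintro _ ⟨z, hz, rfl⟩ r
        have h1 : TameAct.reynolds k A B B α (r * (z : B)) =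
            (z : B) * TameAct.reynolds k A B B α r := by
          rw [mul_comm]
          exact reynolds_smul_of_mem_fixedPts α z.2 r
        have h2 : (⟨TameAct.reynolds k A B B α (r * (z : B)), hfix _⟩ : GLin.invariants k A B) =
            z * ⟨TameAct.reynolds k A B B α r, hfix r⟩ := Subtype.ext h1
        change (⟨TameAct.reynolds k A B B α (r * (z : B)), hfix _⟩ : GLin.invariants k A B) ∈ c
        rw [h2]
        exact Ideal.mul_mem_right _ _ hz
      · intro r
        have : (⟨TameAct.reynolds k A B B α (r * 0), hfix _⟩ : GLin.invariants k A B) = 0 := by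
          apply Subtype.ext
          simp
        rw [this]
        exact Ideal.zero_mem _
      · intro y₁ y₂ _ _ h₁ h₂ r
        have : (⟨TameAct.reynolds k A B B α (r * (y₁ + y₂)), hfix _⟩ : GLin.invariants k A B) =
            ⟨TameAct.reynolds k A B B α (r * y₁), hfix _⟩ +
              ⟨TameAct.reynolds k A B B α (r * y₂), hfix _⟩ := by
          apply Subtype.ext
          simp [mul_add]
        rw [this]
        exact Ideal.add_mem _ (h₁ r) (h₂ r)
      · intro r' y _ h r
        have : r * (r' • y) = (r * r') * y := by rw [smul_eq_mul, mul_assoc]
        simp only [this]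
        exact h _
    have := hp _ hx
    have hx' : TameAct.reynolds k A B B α (algebraMap (GLin.invariants k A B) B x) =
        algebraMap (GLin.invariants k A B) B x := reynolds_of_mem_fixedPts α hα1 x.2
    have heq : (⟨TameAct.reynolds k A B B α (algebraMap (GLin.invariants k A B) B x), hfix _⟩ :
        GLin.invariants k A B) = x := Subtype.ext hx'
    rwa [heq] at this
  · exact Ideal.le_comap_map

end Groth.Agent.S12921
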