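import Groth.Statements.S12924
import Groth.Agent.Lib.Helper25CatQuot
import Groth.Agent.Lib.Helper25CatQuotHopf
import Groth.Agent.S12922

set_option autoImplicit false
universe u
open CategoryTheory AlgebraicGeometry
open HopfRep

namespace Groth.Agent.S12924

/-- Let `k` be a commutative ring, `A` a commutative Hopf algebra over `k`, flat as a `k`-module, `B` a
commutative `k`-algebra with a coaction `ρ : B → B ⊗ A` that is an algebra map and admits a total
integral (a comodule map `α : A → B` with `α 1 = 1`), and `C = B^A`. Then `Spec B → Spec C` is a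
categorical quotient of the action in the category of schemes: for every scheme `Z` and every
morphism `ψ : Spec B → Z` which is invariant, i.e. has the same composite with `Spec (B ⊗ A) → Spec
B` induced by `ρ` and by `b ↦ b ⊗ 1`, there is exactly one morphism `Spec C → Z` through which `ψ`
factors. (The published statement assumes only that taking invariants is exact on `(B, A)`-modules;
a total integral, assumed here, gives that exactness.) -/
theorem result
    (k : Type u) [CommRing k] (A : Type u) [CommRing A] [HopfAlgebra k A] [Module.Flat k A]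
    (B : Type u) [CommRing B] [Algebra k B] [HopfRep.Comod k A B] [GLin.IsCoactAlg k A B]
    (htame : ∃ α : A →ₗ[k] B, Hoch.IsComodHom A α ∧ α 1 = 1)
    (Z : Scheme.{u}) (ψ : Spec (CommRingCat.of B) ⟶ Z)
    (hψ : Spec.map (CommRingCat.ofHom (GLin.coactAlgHom k A B).toRingHom) ≫ ψ =
      Spec.map (CommRingCat.ofHom
        (Algebra.TensorProduct.includeLeftRingHom : B →+* TensorProduct k B A)) ≫ ψ) :
    ∃! χ : Spec (CommRingCat.of (GLin.invariants k A B)) ⟶ Z,
      Spec.map (CommRingCat.ofHom (algebraMap (GLin.invariants k A B) B)) ≫ χ = ψ := by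
  open Groth.Agent.Lib.Helper25 Groth.Agent.Lib.Helper25.CatQuot
    Groth.Agent.Lib.Helper25.CatQuotHopf in
  have hinj : Function.Injective (algebraMap (GLin.invariants k A B) B) := Subtype.val_injective
  have heq : ∀ b : B, (GLin.coactAlgHom k A B).toRingHom b =
      (Algebra.TensorProduct.includeLeftRingHom : B →+* TensorProduct k B A) b →
      b ∈ (algebraMap (GLin.invariants k A B) B).range := fun b hb => ⟨⟨b, hb⟩, rfl⟩
  have hι : ∀ c : GLin.invariants k A B,
      (GLin.coactAlgHom k A B).toRingHom (algebraMap (GLin.invariants k A B) B c) =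
      (Algebra.TensorProduct.includeLeftRingHom : B →+* TensorProduct k B A)
        (algebraMap (GLin.invariants k A B) B c) := fun c => c.2
  have hsurj := Groth.Agent.S12922.result k A B htame
  have hpt : ∀ P : PrimeSpectrum (TensorProduct k B A),
      ψ.base (PrimeSpectrum.comap (GLin.coactAlgHom k A B).toRingHom P) =
      ψ.base (PrimeSpectrum.comap
        (Algebra.TensorProduct.includeLeftRingHom : B →+* TensorProduct k B A) P) := by
    intro P
    have := congr(($hψ).base P)
    simp only [Scheme.Hom.comp_base, TopCat.hom_comp, ContinuousMap.comp_apply] at this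
    exact this
  have hloc : ∀ y : PrimeSpectrum (GLin.invariants k A B), ∃ f : GLin.invariants k A B,
      f ∉ y.asIdeal ∧ ∃ V : Z.Opens, IsAffineOpen V ∧
      ∀ x : PrimeSpectrum B, algebraMap (GLin.invariants k A B) B f ∉ x.asIdeal →
        ψ.base x ∈ V := by
    intro y
    have hopen : ∀ V : Z.affineOpens, IsOpen {x : PrimeSpectrum B | ψ.base x ∈ V.1} := by
      intro V
      exact V.1.isOpen.preimage ψ.continuous
    have hinv : ∀ V : Z.affineOpens,
        IsInvariantSet k A {x : PrimeSpectrum B | ψ.base x ∈ V.1} := by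
      intro V P
      simp only [Set.mem_setOf_eq]
      rw [hpt P]
    have hcov : ⋃ V : Z.affineOpens, {x : PrimeSpectrum B | ψ.base x ∈ V.1} = Set.univ := by
      apply Set.eq_univ_of_forall
      intro x
      obtain ⟨_, ⟨V, hV, rfl⟩, hxV, -⟩ := Z.isBasis_affineOpens.exists_subset_of_mem_open
        (Set.mem_univ (ψ.base x)) isOpen_univ
      exact Set.mem_iUnion.mpr ⟨⟨V, hV⟩, hxV⟩
    obtain ⟨V, f, hf, hfV⟩ := exists_invariant_basicOpen_subset htame (ι := Z.affineOpens)
      (fun V => {x : PrimeSpectrum B | ψ.base x ∈ V.1}) hopen hinv hcov y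
    exact ⟨f, hf, V.1, V.2, hfV⟩
  obtain ⟨χ, hχ⟩ := exists_desc_of_equalizer (algebraMap (GLin.invariants k A B) B)
    (GLin.coactAlgHom k A B).toRingHom
    (Algebra.TensorProduct.includeLeftRingHom : B →+* TensorProduct k B A)
    hinj heq hι hsurj Z ψ hψ hloc
  refine ⟨χ, hχ, ?_⟩
  intro χ' hχ'
  have : Surjective (Spec.map (CommRingCat.ofHom (algebraMap (GLin.invariants k A B) B))) :=
    ⟨hsurj⟩
  have : IsSchemeTheoreticallyDominant
      (Spec.map (CommRingCat.ofHom (algebraMap (GLin.invariants k A B) B))) :=
    dominant_SpecMap _ hinj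
  have : Epi (Spec.map (CommRingCat.ofHom (algebraMap (GLin.invariants k A B) B))) :=
    epi_of_surjective_of_dominant _
  rw [← cancel_epi (Spec.map (CommRingCat.ofHom (algebraMap (GLin.invariants k A B) B))), hχ, hχ']

end Groth.Agent.S12924
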