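import Groth.Statements.S12925
import Groth.Agent.S12927

set_option autoImplicit false
universe u w
open HopfRep

namespace Groth.Agent.S12925

/-- Let `k` be a commutative ring, `M` a commutative group and `B` a commutative `k`-algebra with a
coaction of the group algebra `k[M]` that is an algebra map (an action of the diagonalizable group
scheme `D(M) = Spec k[M]` on `Spec B`). Then the action is tame: there is a comodule map `α : k[M] →
B`, for the regular coaction on `k[M]`, with `α 1 = 1`. -/
theorem result
    (k : Type u) [CommRing k] (M : Type u) [CommGroup M]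
    (B : Type w) [CommRing B] [Algebra k B] [HopfRep.Comod k (MonoidAlgebra k M) B]
    [GLin.IsCoactAlg k (MonoidAlgebra k M) B] :
    ∃ α : MonoidAlgebra k M →ₗ[k] B, Hoch.IsComodHom (MonoidAlgebra k M) α ∧ α 1 = 1 := by
  classical
  let α₀ : MonoidAlgebra k M →ₗ[k] k :=
    Finsupp.lapply (1 : M) ∘ₗ (MonoidAlgebra.coeffLinearEquiv k).toLinearMap
  have hα₀s : ∀ (m : M) (c : k), α₀ (MonoidAlgebra.single m c) = if m = 1 then c else 0 := by
    intro m c
    change (MonoidAlgebra.single m c).coeff 1 = _
    rw [MonoidAlgebra.coeff_single, Finsupp.single_apply]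
  have h1 : α₀ 1 = 1 := by
    change (1 : MonoidAlgebra k M).coeff 1 = 1
    exact MonoidAlgebra.coeff_one_one
  have hα₀ : @Hoch.IsComodHom k _ (MonoidAlgebra k M) _ _ _ (MonoidAlgebra k M) _ _ _ k _ _
      (HopfRep.Comod.trivial k (MonoidAlgebra k M) k) α₀ := by
    apply MonoidAlgebra.lhom_ext'
    intro m
    apply LinearMap.ext
    intro c
    change (α₀ (MonoidAlgebra.single m c)) ⊗ₜ[k] (1 : MonoidAlgebra k M) =
      α₀.rTensor (MonoidAlgebra k M) (CoalgebraStruct.comul (R := k) (MonoidAlgebra.single m c))
    rw [MonoidAlgebra.comul_single, CommSemiring.comul_apply, TensorProduct.map_tmul,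
      LinearMap.rTensor_tmul, MonoidAlgebra.lsingle_apply, MonoidAlgebra.lsingle_apply,
      hα₀s, hα₀s]
    by_cases hm : m = 1
    · subst hm
      simp only [if_true]
      rw [MonoidAlgebra.one_def]
      have e1 : c ⊗ₜ[k] (MonoidAlgebra.single (1 : M) (1 : k)) =
          (c • (1 : k)) ⊗ₜ[k] (MonoidAlgebra.single (1 : M) (1 : k)) := by simp
      have e2 : (MonoidAlgebra.single (1 : M) c : MonoidAlgebra k M) =
          c • MonoidAlgebra.single (1 : M) (1 : k) := by simp
      rw [e1, e2, TensorProduct.smul_tmul]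
    · simp [hm]
  exact Groth.Agent.S12927.result k (MonoidAlgebra k M) B ⟨α₀, hα₀, h1⟩

end Groth.Agent.S12925
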