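import Groth.Statements.S12926
import Groth.Agent.Lib.Helper25Comod
import Mathlib.LinearAlgebra.Projection

set_option autoImplicit false
universe u v
open HopfRep

namespace Groth.Agent.S12926

/-- Let `k` be a commutative ring and `A` a commutative bialgebra over `k`, flat as a `k`-module. If the
submodule `k · 1` of the regular comodule `A` has a complement `H` which is a subcomodule — the case
used when `A` is cosemisimple, i.e. every subcomodule of every comodule is a direct summand as a
comodule — then the trivial action of `Spec A` on `Spec k` is tame: there is a comodule map `α : A →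
k`, for the regular coaction on `A` and the trivial coaction `r ↦ r ⊗ 1` on `k`, with `α 1 = 1`. -/
theorem result
    (k : Type u) [CommRing k] (A : Type v) [CommRing A] [Bialgebra k A] [Module.Flat k A]
    (H : Submodule k A) (hH : HopfRep.IsSubcomod (k := k) (A := A) H)
    (hc : IsCompl (Submodule.span k {(1 : A)}) H) :
    ∃ α : A →ₗ[k] k, @Hoch.IsComodHom k _ A _ _ _ A _ _ _ k _ _ (HopfRep.Comod.trivial k A k) α ∧ α 1 = 1 := by
  classical
  let π : A →ₗ[k] (Submodule.span k {(1 : A)}) := Submodule.projectionOnto _ _ hc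
  let α : A →ₗ[k] k := CoalgebraStruct.counit (R := k) (A := A) ∘ₗ
    (Submodule.span k {(1 : A)}).subtype ∘ₗ π
  have hα1 : α 1 = 1 := by
    have h1 : (1 : A) ∈ Submodule.span k {(1 : A)} := Submodule.mem_span_singleton_self 1
    have : π 1 = ⟨1, h1⟩ := Submodule.projectionOnto_apply_left hc ⟨1, h1⟩
    change CoalgebraStruct.counit (R := k) (A := A) ((π 1 : Submodule.span k {(1 : A)}) : A) = 1
    rw [this]
    exact Bialgebra.counit_one
  have hαH : ∀ h ∈ H, α h = 0 := by
    intro h hh
    have : π h = 0 := (Submodule.projectionOnto_apply_eq_zero_iff hc).mpr hh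
    change CoalgebraStruct.counit (R := k) (A := A) ((π h : Submodule.span k {(1 : A)}) : A) = 0
    rw [this]
    simp
  refine ⟨α, ?_, hα1⟩
  apply LinearMap.ext
  intro a
  have ha : a ∈ Submodule.span k {(1 : A)} ⊔ H := hc.sup_eq_top ▸ Submodule.mem_top
  obtain ⟨x, hx, h, hh, rfl⟩ := Submodule.mem_sup.mp ha
  obtain ⟨c, rfl⟩ := Submodule.mem_span_singleton.mp hx
  change (α (c • 1 + h)) ⊗ₜ[k] (1 : A) = α.rTensor A (CoalgebraStruct.comul (R := k) (c • (1 : A) + h))
  rw [map_add, map_add, map_add, TensorProduct.add_tmul, map_smul, map_smul, map_smul,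
    Bialgebra.comul_one, hαH h hh, TensorProduct.zero_tmul, add_zero]
  obtain ⟨y, hy⟩ := hH h hh
  have h0 : α.rTensor A (CoalgebraStruct.comul (R := k) h) = 0 := by
    change _ = CoalgebraStruct.comul (R := k) h at hy
    rw [← hy, ← LinearMap.comp_apply, ← LinearMap.rTensor_comp]
    have : α ∘ₗ H.subtype = 0 := by
      ext x
      exact hαH x x.2
    rw [this, LinearMap.rTensor_zero, LinearMap.zero_apply]
  rw [h0, add_zero, Algebra.TensorProduct.one_def, LinearMap.rTensor_tmul, hα1,
    TensorProduct.smul_tmul']

end Groth.Agent.S12926
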