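import Groth.Statements.S12931
import Mathlib
-- import your own Groth.Agent.* helpers here

set_option autoImplicit false
universe u v w
open HopfRep

namespace Groth.Agent.S12931

/-- Let `R` be a commutative ring, `Γ` a finite set and `T` a commutative `R`-algebra which is
connected: nonzero, with no idempotents other than `0` and `1`. Then `γ ↦ (evaluation at γ : (Γ → R)
→ R → T)` is a bijection from `Γ` onto the `R`-algebra maps `(Γ → R) → T`: every such map sends
exactly one of the indicator functions to `1` and the others to `0`. (Only the bijection of sets is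
stated; when `Γ` is a group, the compatibility with the group structures on both sides is not.) -/
theorem result
    (R : Type u) [CommRing R] (Γ : Type v) [Finite Γ]
    (T : Type w) [CommRing T] [Algebra R T] [Nontrivial T]
    (hT : ∀ e : T, IsIdempotentElem e → e = 0 ∨ e = 1) :
    Function.Bijective (fun γ : Γ => (Algebra.ofId R T).comp (Pi.evalAlgHom R (fun _ : Γ => R) γ)) := by
  classical
  have : Fintype Γ := Fintype.ofFinite Γ
  constructor
  · intro γ γ' h
    by_contra hne
    have h1 := DFunLike.congr_fun h (Pi.single γ (1 : R))
    simp only [AlgHom.comp_apply, Pi.evalAlgHom_apply, Pi.single_eq_same,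
      Pi.single_eq_of_ne (Ne.symm hne), map_one, map_zero] at h1
    exact one_ne_zero h1
  · intro φ
    -- idempotents e γ = φ (single γ 1)
    set e : Γ → T := fun γ => φ (Pi.single γ (1 : R)) with he
    have hidem : ∀ γ, IsIdempotentElem (e γ) := by
      intro γ
      show φ _ * φ _ = φ _
      rw [← map_mul, ← Pi.single_mul, one_mul]
    have horth : ∀ γ γ', γ ≠ γ' → e γ * e γ' = 0 := by
      intro γ γ' hne
      show φ _ * φ _ = 0
      rw [← map_mul]
      have : (Pi.single γ (1 : R) : Γ → R) * Pi.single γ' (1 : R) = 0 := by
        funext x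
        by_cases hx : x = γ
        · subst hx; simp [Pi.single_eq_of_ne hne]
        · simp [Pi.single_eq_of_ne hx]
      rw [this, map_zero]
    have hsum : ∑ γ, e γ = 1 := by
      show ∑ γ, φ (Pi.single γ (1 : R)) = 1
      rw [← map_sum, Finset.univ_sum_single]
      exact map_one φ
    have hex : ∃ γ, e γ = 1 := by
      by_contra hno
      have : ∀ γ, e γ = 0 := fun γ => (hT _ (hidem γ)).resolve_right (fun h => hno ⟨γ, h⟩)
      rw [Finset.sum_eq_zero (fun γ _ => this γ)] at hsum
      exact zero_ne_one hsum
    obtain ⟨γ, hγ⟩ := hex
    have hzero : ∀ γ', γ' ≠ γ → e γ' = 0 := by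
      intro γ' hne
      have := horth γ γ' (Ne.symm hne)
      rwa [hγ, one_mul] at this
    refine ⟨γ, ?_⟩
    apply AlgHom.ext
    intro f
    have hf : f = ∑ γ', f γ' • (Pi.single γ' (1 : R) : Γ → R) := by
      funext x
      simp [Finset.sum_apply, Pi.single_apply]
    conv_rhs => rw [hf]
    rw [map_sum]
    simp only [map_smul]
    rw [Finset.sum_eq_single γ]
    · show _ = f γ • e γ
      rw [hγ]
      simp [Algebra.smul_def]
    · intro γ' _ hne
      show f γ' • e γ' = 0
      rw [hzero γ' hne, smul_zero]
    · intro h; exact absurd (Finset.mem_univ γ) h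

end Groth.Agent.S12931
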