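import Groth.Statements.S12932
import Groth.Agent.Lib.Helper15Inertia

set_option autoImplicit false
universe u v
open scoped BigOperators
open InvTh

namespace Groth.Agent.S12932

/-- Let `B` be a commutative ring with an action of a finite group `Γ` by ring automorphisms, and call a
prime ideal `P` of `B` tame when the order of its inertia group `{γ | γ • x - x ∈ P for all x}` is
not divisible by the characteristic of `B/P` (its ramification group is trivial). Then every prime
of `B` is tame if and only if the trace `b ↦ Σ_γ γ • b`, which takes values in the invariant ring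
`B^Γ` and is `B^Γ`-linear, is onto `B^Γ` — equivalently, some element of `B` has trace `1`. -/
theorem result
    (B : Type u) [CommRing B] (Γ : Type v) [Group Γ] [Fintype Γ] [MulSemiringAction Γ B] :
    (∃ b : B, ∑ γ : Γ, γ • b = 1) ↔
      ∀ P : Ideal B, P.IsPrime → ((Nat.card (P.inertia Γ) : ℕ) : B ⧸ P) ≠ 0 := by
  classical
  constructor
  · rintro ⟨b, hb⟩ P hP hzero
    have : Fintype (P.inertia Γ) := Fintype.ofFinite _
    have : Fintype (Γ ⧸ P.inertia Γ) := Fintype.ofFinite _
    have h1 : ∑ γ : Γ, Ideal.Quotient.mk P (γ⁻¹ • b) = 1 := by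
      have h0 : ∑ γ : Γ, γ⁻¹ • b = ∑ γ : Γ, γ • b :=
        Equiv.sum_comp (Equiv.inv Γ) (fun γ => γ • b)
      rw [← map_sum, h0, hb, map_one]
    have h2 := Groth.Agent.Lib.Helper15.Inertia.sum_eq_sum_quotient_card_smul (P.inertia Γ)
      (fun γ : Γ => Ideal.Quotient.mk P (γ⁻¹ • b)) (by
        intro g t ht
        change Ideal.Quotient.mk P ((g * t)⁻¹ • b) = Ideal.Quotient.mk P (g⁻¹ • b)
        rw [mul_inv_rev, mul_smul]
        exact Groth.Agent.Lib.Helper15.Inertia.mk_smul_eq_of_mem_inertia P
          ((P.inertia Γ).inv_mem ht) _)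
    rw [h1, ← Finset.smul_sum, ← Nat.card_eq_fintype_card, nsmul_eq_mul, hzero, zero_mul] at h2
    have : Nontrivial (B ⧸ P) := Ideal.Quotient.nontrivial_iff.mpr hP.ne_top
    exact one_ne_zero h2
  · intro h
    by_contra hno
    push Not at hno
    let A := FixedPoints.subring B Γ
    have hinv : Algebra.IsInvariant A B Γ := ⟨fun b hb => ⟨⟨b, hb⟩, rfl⟩⟩
    have hint : Algebra.IsIntegral A B := Algebra.IsInvariant.isIntegral A B Γ
    have htrinv : ∀ b : B, ∀ γ : Γ, γ • (∑ δ : Γ, δ • b) = ∑ δ : Γ, δ • b := by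
      intro b γ
      rw [Finset.smul_sum]
      simp only [smul_smul]
      exact Finset.sum_bijective (γ * ·) (Group.mulLeft_bijective γ) (by simp) (fun _ _ ↦ rfl)
    let I : Ideal A :=
      { carrier := {a | ∃ b : B, ∑ γ : Γ, γ • b = (a : B)}
        add_mem' := by
          rintro a a' ⟨b, hb⟩ ⟨b', hb'⟩
          refine ⟨b + b', ?_⟩
          simp only [smul_add, Finset.sum_add_distrib, hb, hb']
          rfl
        zero_mem' := ⟨0, by simp⟩
        smul_mem' := by
          rintro c a ⟨b, hb⟩
          refine ⟨(c : B) * b, ?_⟩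
          have hc : ∀ γ : Γ, γ • (c : B) = c := fun γ => c.2 γ
          simp only [smul_mul', hc, ← Finset.mul_sum, hb]
          rfl }
    have hI : I ≠ ⊤ := by
      intro htop
      have h1 : (1 : A) ∈ I := by rw [htop]; trivial
      obtain ⟨b, hb⟩ := h1
      exact hno b hb
    obtain ⟨p, hp, hIp⟩ := Ideal.exists_le_maximal I hI
    obtain ⟨P, hPmax, hPp⟩ := Ideal.exists_ideal_over_maximal_of_isIntegral (S := B) p (by
      have : RingHom.ker (algebraMap A B) = ⊥ :=
        (RingHom.injective_iff_ker_eq_bot _).mp Subtype.val_injective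
      rw [this]; exact bot_le)
    obtain ⟨b, hb⟩ := Groth.Agent.Lib.Helper15.Inertia.exists_trace_notMem (Γ := Γ) P
      (h P (Ideal.IsMaximal.isPrime hPmax))
    apply hb
    have h1 : (⟨∑ γ : Γ, γ • b, htrinv b⟩ : A) ∈ I := ⟨b, rfl⟩
    have h2 := hIp h1
    rw [← hPp] at h2
    exact h2

end Groth.Agent.S12932
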