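import Groth.Statements.S12933
import Mathlib
-- import your own Groth.Agent.* helpers here

set_option autoImplicit false
universe u v w w'
open TensorProduct
open InvTh

namespace Groth.Agent.S12933

/-- Let `R` be a commutative ring, `B` a commutative `R`-algebra with an action of a finite group `Γ` by
`R`-algebra automorphisms, and `R'` a flat commutative `R`-algebra; let `Γ` act on `R' ⊗_R B`
through the factor `B`. Then an element of `R' ⊗_R B` is fixed by every element of `Γ` if and only
if it lies in the `R'`-submodule spanned by the tensors `1 ⊗ b` with `b ∈ B^Γ`: taking invariants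
commutes with flat base change (the map `R' ⊗_R B^Γ → R' ⊗_R B` being moreover injective by
flatness). -/
theorem result
    (R : Type u) [CommRing R] (B : Type v) [CommRing B] [Algebra R B]
    (Γ : Type w) [Group Γ] [Finite Γ] [MulSemiringAction Γ B] [SMulCommClass Γ R B]
    (R' : Type w') [CommRing R'] [Algebra R R'] [Module.Flat R R']
    (x : R' ⊗[R] B) :
    (∀ γ : Γ, Algebra.TensorProduct.map (AlgHom.id R R') (MulSemiringAction.toAlgHom R B γ) x = x) ↔
      x ∈ Submodule.span R' ((fun b : B => (1 : R') ⊗ₜ[R] b) '' {b : B | ∀ γ : Γ, γ • b = b}) := by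
  classical
  have : Fintype Γ := Fintype.ofFinite Γ
  -- the R-linear map b ↦ (γ • b - b)_γ
  let f : B →ₗ[R] (Γ → B) :=
    LinearMap.pi (fun γ => (MulSemiringAction.toAlgHom R B γ).toLinearMap - LinearMap.id)
  have hker : ∀ b : B, b ∈ LinearMap.ker f ↔ ∀ γ : Γ, γ • b = b := by
    intro b
    rw [LinearMap.mem_ker]
    constructor
    · intro h γ
      have := congrFun h γ
      simpa [f, sub_eq_zero] using this
    · intro h
      funext γ
      simp [f, h γ]
  have key : ∀ (γ : Γ) (y : R' ⊗[R] B),
      (TensorProduct.piRight R R' R' (fun _ : Γ => B)) (AlgebraTensorModule.lTensor R' R' f y) γ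
        = Algebra.TensorProduct.map (AlgHom.id R R') (MulSemiringAction.toAlgHom R B γ) y - y := by
    intro γ y
    induction y using TensorProduct.induction_on with
    | zero => simp
    | tmul a b => simp [f, TensorProduct.tmul_sub]
    | add y z hy hz => simp only [map_add, Pi.add_apply, hy, hz]; abel
  have hrange : ∀ y : R' ⊗[R] (LinearMap.ker f),
      (AlgebraTensorModule.lTensor R' R' (LinearMap.ker f).subtype) y ∈
        Submodule.span R' ((fun b : B => (1 : R') ⊗ₜ[R] b) '' {b : B | ∀ γ : Γ, γ • b = b}) := by
    intro y
    induction y using TensorProduct.induction_on with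
    | zero => simp
    | tmul a b =>
      have : (AlgebraTensorModule.lTensor R' R' (LinearMap.ker f).subtype) (a ⊗ₜ[R] b)
          = a • ((1 : R') ⊗ₜ[R] (b : B)) := by
        simp [TensorProduct.smul_tmul']
      rw [this]
      apply Submodule.smul_mem
      apply Submodule.subset_span
      exact ⟨(b : B), (hker _).1 b.2, rfl⟩
    | add y z hy hz =>
      rw [map_add]
      exact Submodule.add_mem _ hy hz
  have hsmul : ∀ (a : R') (y : R' ⊗[R] B), a • y = (a ⊗ₜ[R] (1 : B)) * y := by
    intro a y
    induction y using TensorProduct.induction_on with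
    | zero => simp
    | tmul c d => simp [TensorProduct.smul_tmul']
    | add y z hy hz => simp [mul_add, hy, hz]
  constructor
  · intro hx
    have hx0 : x ∈ LinearMap.ker (AlgebraTensorModule.lTensor R' R' f) := by
      rw [LinearMap.mem_ker]
      apply (TensorProduct.piRight R R' R' (fun _ : Γ => B)).injective
      rw [map_zero]
      funext γ
      rw [key, hx γ]
      simp
    rw [Module.Flat.ker_lTensor_eq] at hx0
    obtain ⟨y, rfl⟩ := hx0
    exact hrange y
  · intro hx γ
    induction hx using Submodule.span_induction with
    | mem y hy =>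
      obtain ⟨b, hb, rfl⟩ := hy
      simp [hb γ]
    | zero => simp
    | add y z _ _ hy hz => rw [map_add, hy, hz]
    | smul a y _ hy =>
      rw [hsmul, map_mul, hy]
      simp

end Groth.Agent.S12933
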