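import Groth.Statements.S12935
import Mathlib.RingTheory.Invariant.Basic

set_option autoImplicit false
universe u v
open InvTh

namespace Groth.Agent.S12935

/-- Let `B` be a commutative ring with an action of a finite group `Γ` by ring automorphisms, `Ω` a
normal subgroup of `Γ`, `B^Ω` the subring of `Ω`-invariants (stable under `Γ`, with the induced
action of `Γ/Ω`), and `P` a prime ideal of `B`. Then (decomposition groups) an element `γ` maps `P ∩
B^Ω` onto itself if and only if `γω` maps `P` onto itself for some `ω ∈ Ω`; and (inertia groups) `γ`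
fixes `B^Ω` modulo `P ∩ B^Ω` if and only if `γω` fixes `B` modulo `P` for some `ω ∈ Ω`. In other
words the decomposition and inertia groups of `P ∩ B^Ω` under `Γ/Ω` are the images of those of `P`.
(The published statement also asserts the same for the ramification groups, the Sylow subgroups of
the inertia groups at the residue characteristic; that clause is not included here.) -/
theorem result
    (B : Type u) [CommRing B] (Γ : Type v) [Group Γ] [Finite Γ] [MulSemiringAction Γ B]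
    (Ω : Subgroup Γ) [Ω.Normal] (P : Ideal B) [P.IsPrime] (γ : Γ) :
    ((∀ x : B, (∀ ω ∈ Ω, ω • x = x) → (x ∈ P ↔ γ • x ∈ P)) ↔
        ∃ ω ∈ Ω, ∀ x : B, x ∈ P ↔ (γ * ω) • x ∈ P) ∧
      ((∀ x : B, (∀ ω ∈ Ω, ω • x = x) → γ • x - x ∈ P) ↔
        ∃ ω ∈ Ω, ∀ x : B, (γ * ω) • x - x ∈ P) := by
  classical
  have hinv : Algebra.IsInvariant (FixedPoints.subring B Ω) B Ω :=
    ⟨fun b hb => ⟨⟨b, hb⟩, rfl⟩⟩
  -- the forward direction of the first part, for an arbitrary element
  have part1 : ∀ γ : Γ, (∀ x : B, (∀ ω ∈ Ω, ω • x = x) → (x ∈ P ↔ γ • x ∈ P)) →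
      ∃ ω ∈ Ω, ∀ x : B, x ∈ P ↔ (γ * ω) • x ∈ P := by
    intro γ h
    let Q : Ideal B := P.comap (MulSemiringAction.toRingHom Γ B γ)
    have hQ : Q.IsPrime := Ideal.comap_isPrime _ _
    have hPQ : P.under (FixedPoints.subring B Ω) = Q.under (FixedPoints.subring B Ω) := by
      ext ⟨x, hx⟩
      simp only [Ideal.under_def, Ideal.mem_comap]
      exact h x (fun ω hω => hx ⟨ω, hω⟩)
    obtain ⟨g, hg⟩ := Algebra.IsInvariant.exists_smul_of_under_eq
      (FixedPoints.subring B Ω) B Ω P Q hPQ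
    refine ⟨g, g.2, fun x => ?_⟩
    rw [mul_smul]
    change x ∈ P ↔ (g : Γ) • x ∈ Q
    rw [hg]
    exact (Ideal.smul_mem_pointwise_smul_iff (a := g) (S := P) (x := x)).symm
  refine ⟨⟨part1 γ, ?_⟩, ⟨?_, ?_⟩⟩
  · rintro ⟨ω, hω, h⟩ x hx
    rw [h x, mul_smul, hx ω hω]
  · intro h
    -- γ lies in the decomposition group of the contraction
    have h1 : ∀ x : B, (∀ ω ∈ Ω, ω • x = x) → (x ∈ P ↔ γ • x ∈ P) := by
      intro x hx
      constructor
      · intro hxP
        have := P.add_mem (h x hx) hxP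
        rwa [sub_add_cancel] at this
      · intro hxP
        have := P.sub_mem hxP (h x hx)
        rwa [sub_sub_cancel] at this
    obtain ⟨ω₀, hω₀, hstab⟩ := part1 γ h1
    -- the element γ' = γ ω₀ stabilises P and acts trivially on invariants modulo P
    have hfix : ∀ x : B, (∀ ω ∈ Ω, ω • x = x) → (γ * ω₀) • x - x ∈ P := by
      intro x hx
      rw [mul_smul, hx ω₀ hω₀]
      exact h x hx
    let p : Ideal (FixedPoints.subring B Ω) := P.under (FixedPoints.subring B Ω)
    have hmap : P = P.map (MulSemiringAction.toRingEquiv Γ B (γ * ω₀)) := by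
      ext x
      rw [Ideal.mem_map_of_equiv]
      constructor
      · intro hx
        refine ⟨(γ * ω₀)⁻¹ • x, ?_, smul_inv_smul _ _⟩
        rw [hstab, smul_inv_smul]
        exact hx
      · rintro ⟨y, hy, rfl⟩
        exact (hstab y).mp hy
    let σ : (B ⧸ P) ≃ₐ[FixedPoints.subring B Ω ⧸ p] (B ⧸ P) :=
      { __ := Ideal.quotientEquiv P P (MulSemiringAction.toRingEquiv Γ B (γ * ω₀)) hmap
        commutes' := by
          rintro ⟨x⟩
          change Ideal.Quotient.mk P ((γ * ω₀) • (x : B)) = Ideal.Quotient.mk P (x : B)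
          rw [Ideal.Quotient.eq]
          exact hfix x (fun ω hω => x.2 ⟨ω, hω⟩) }
    obtain ⟨ω₁, hω₁⟩ := Ideal.Quotient.stabilizerHom_surjective Ω p P σ
    refine ⟨ω₀ * ((ω₁ : Ω) : Γ)⁻¹, Ω.mul_mem hω₀ (Ω.inv_mem (ω₁ : Ω).2), fun x => ?_⟩
    have h2 := congrArg (fun τ => τ (Ideal.Quotient.mk P ((((ω₁ : Ω) : Γ))⁻¹ • x))) hω₁
    simp only [Ideal.Quotient.stabilizerHom_apply] at h2
    change Ideal.Quotient.mk P ((((ω₁ : Ω) : Γ)) • ((((ω₁ : Ω) : Γ))⁻¹ • x)) =
      Ideal.Quotient.mk P ((γ * ω₀) • ((((ω₁ : Ω) : Γ))⁻¹ • x)) at h2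
    rw [smul_inv_smul, Ideal.Quotient.eq] at h2
    have h3 : (γ * (ω₀ * ((ω₁ : Ω) : Γ)⁻¹)) • x - x =
        -(x - (γ * ω₀) • ((((ω₁ : Ω) : Γ))⁻¹ • x)) := by
      rw [← mul_assoc, mul_smul (γ * ω₀)]; ring
    rw [h3]
    exact P.neg_mem h2
  · rintro ⟨ω, hω, h⟩ x hx
    have := h x
    rwa [mul_smul, hx ω hω] at this

end Groth.Agent.S12935
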