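import Groth.Statements.S12936
import Mathlib.RingTheory.Ideal.Maps
import Mathlib.RingTheory.Ideal.Operations
import Mathlib.RingTheory.Ideal.Quotient.Basic
import Mathlib.Algebra.BigOperators.GroupWithZero.Action
import Mathlib.Algebra.Ring.Action.Group

set_option autoImplicit false
universe u v
open InvTh

namespace Groth.Agent.S12936

/-- Let `B` be a commutative ring with an action of a finite group `Γ` by ring automorphisms and `P` a
maximal ideal of `B`, with decomposition group `D_P = {γ | γP = P}` and decomposition ring `D =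
B^{D_P}`. Then `D = B^Γ + (P ∩ D)`: every element of `B` fixed by `D_P` is congruent modulo `P` to a
`Γ`-invariant element. Hence the residue field of `D` at `P ∩ D` is that of `B^Γ` at `P ∩ B^Γ`; for
an arbitrary prime `P` the same equality of residue fields follows by localising at `P ∩ B^Γ`. (The
published statement prints this residue field as `k(P)`; the proof establishes the equality with the
residue field of `B^Γ` stated here.) -/
theorem result
    (B : Type u) [CommRing B] (Γ : Type v) [Group Γ] [Finite Γ] [MulSemiringAction Γ B]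
    (P : Ideal B) [P.IsMaximal] (x : B)
    (hx : ∀ γ : Γ, (∀ y : B, y ∈ P ↔ γ • y ∈ P) → γ • x = x) :
    ∃ c : B, (∀ γ : Γ, γ • c = c) ∧ x - c ∈ P := by
  classical
  cases nonempty_fintype Γ
  have hPprime : P.IsPrime := Ideal.IsMaximal.isPrime inferInstance
  -- the decomposition group
  let D : Subgroup Γ :=
    { carrier := {γ | ∀ y : B, y ∈ P ↔ γ • y ∈ P}
      mul_mem' := fun {a b} ha hb y => by
        rw [mul_smul]; exact (hb y).trans (ha _)
      one_mem' := fun y => by rw [one_smul]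
      inv_mem' := fun {a} ha y => by
        have := ha (a⁻¹ • y)
        rw [smul_inv_smul] at this
        exact this.symm }
  have hD : ∀ γ : Γ, γ ∈ D ↔ ∀ y : B, y ∈ P ↔ γ • y ∈ P := fun _ => Iff.rfl
  -- Step 1: for σ outside D there is q ∉ P with σ • q ∈ P
  have step1 : ∀ σ : Γ, σ ∉ D → ∃ q : B, q ∉ P ∧ σ • q ∈ P := by
    intro σ hσ
    let φ : B →+* B := MulSemiringAction.toRingHom Γ B σ
    have hφ : Function.Surjective φ := fun b => ⟨σ⁻¹ • b, smul_inv_smul σ b⟩
    have hQ : (P.comap φ).IsMaximal := Ideal.comap_isMaximal_of_surjective φ hφ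
    by_contra hcon
    push Not at hcon
    have hle : P.comap φ ≤ P := by
      intro q hq
      by_contra hqP
      exact hcon q hqP hq
    have heq : P.comap φ = P := hQ.eq_of_le hPprime.ne_top hle
    apply hσ
    rw [hD]
    intro y
    have h0 : y ∈ P.comap φ ↔ σ • y ∈ P := Iff.rfl
    rw [← h0, heq]
  choose! qf hqf1 hqf2 using step1
  -- Step 2
  let q : B := ∏ σ ∈ Finset.univ.filter (fun σ : Γ => σ ∉ D), qf σ
  have hq1 : q ∉ P := by
    intro hq
    rw [Ideal.IsPrime.prod_mem_iff] at hq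
    obtain ⟨σ, hσ, hσP⟩ := hq
    exact hqf1 σ (Finset.mem_filter.mp hσ).2 hσP
  have hq2 : ∀ σ : Γ, σ ∉ D → σ • q ∈ P := by
    intro σ hσ
    have h1 : σ • q = ∏ τ ∈ Finset.univ.filter (fun σ : Γ => σ ∉ D), σ • qf τ :=
      Finset.smul_prod'
    rw [h1]
    exact Ideal.mem_of_dvd _
      (Finset.dvd_prod_of_mem _ (Finset.mem_filter.mpr ⟨Finset.mem_univ σ, hσ⟩)) (hqf2 σ hσ)
  -- Step 3
  obtain ⟨r, i, hi, hri⟩ := Ideal.IsMaximal.exists_inv (I := P) inferInstance hq1
  let z : B := r * q
  have hz1 : z - 1 ∈ P := by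
    have : z - 1 = -i := by
      simp only [z]; rw [← hri]; ring
    rw [this]; exact P.neg_mem hi
  have hz2 : ∀ σ : Γ, σ ∉ D → σ • z ∈ P := by
    intro σ hσ
    simp only [z, smul_mul']
    exact P.mul_mem_left _ (hq2 σ hσ)
  -- Step 4
  let w : B := ∏ δ : D, δ • z
  have hw_inv : ∀ δ : Γ, δ ∈ D → δ • w = w := by
    intro δ hδ
    exact Finset.smul_prod_perm z (⟨δ, hδ⟩ : D)
  have hw1 : w - 1 ∈ P := by
    rw [← Ideal.Quotient.eq_zero_iff_mem, map_sub, map_one, sub_eq_zero]
    simp only [w, map_prod]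
    apply Finset.prod_eq_one
    intro δ _
    have h1 : (δ : Γ) • (z - 1) ∈ P := ((hD δ).mp δ.2 _).mp hz1
    rw [smul_sub, smul_one] at h1
    have := Ideal.Quotient.eq_zero_iff_mem.mpr h1
    rw [map_sub, map_one, sub_eq_zero] at this
    exact this
  have hw2 : ∀ σ : Γ, σ ∉ D → σ • w ∈ P := by
    intro σ hσ
    have h1 : σ • w = ∏ δ : D, σ • ((δ : Γ) • z) := Finset.smul_prod'
    rw [h1]
    refine Ideal.mem_of_dvd _ (Finset.dvd_prod_of_mem _ (Finset.mem_univ (1 : D))) ?_
    change σ • ((1 : Γ) • z) ∈ P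
    rw [one_smul]
    exact hz2 σ hσ
  -- Step 5
  let y : B := x * w
  have hy_inv : ∀ δ : Γ, δ ∈ D → δ • y = y := by
    intro δ hδ
    simp only [y, smul_mul']
    rw [hx δ ((hD δ).mp hδ), hw_inv δ hδ]
  have hy1 : y - x ∈ P := by
    have : y - x = x * (w - 1) := by simp only [y]; ring
    rw [this]; exact P.mul_mem_left _ hw1
  have hy2 : ∀ σ : Γ, σ ∉ D → σ • y ∈ P := by
    intro σ hσ
    simp only [y, smul_mul']
    exact P.mul_mem_left _ (hw2 σ hσ)
  -- Step 6
  let T : Finset B := Finset.image (fun γ : Γ => γ • y) Finset.univ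
  let c : B := ∑ s ∈ T, s
  have hyT : y ∈ T := Finset.mem_image.mpr ⟨1, Finset.mem_univ _, one_smul _ _⟩
  have hc_inv : ∀ γ : Γ, γ • c = c := by
    intro γ
    have h1 : γ • c = ∑ s ∈ T, γ • s := Finset.smul_sum
    have h2 : ∑ s ∈ T, γ • s = ∑ s ∈ T.image (fun b : B => γ • b), s :=
      (Finset.sum_image (f := fun s : B => s) (s := T) (g := fun b : B => γ • b)
        (MulAction.injective (β := B) γ).injOn).symm
    have h3 : T.image (fun b : B => γ • b) = T := by
      ext b
      simp only [T, Finset.mem_image, Finset.mem_univ, true_and, exists_exists_eq_and]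
      constructor
      · rintro ⟨a, rfl⟩
        exact ⟨γ * a, mul_smul _ _ _⟩
      · rintro ⟨a, rfl⟩
        exact ⟨γ⁻¹ * a, by rw [← mul_smul, mul_inv_cancel_left]⟩
    rw [h1, h2, h3]
  have hc1 : c - y ∈ P := by
    have h1 : c = y + ∑ s ∈ T.erase y, s := (Finset.add_sum_erase T (fun s => s) hyT).symm
    rw [h1, add_sub_cancel_left]
    refine P.sum_mem fun s hs => ?_
    obtain ⟨hne, hsT⟩ := Finset.mem_erase.mp hs
    obtain ⟨γ, -, rfl⟩ := Finset.mem_image.mp hsT
    apply hy2
    intro hγ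
    exact hne (hy_inv γ hγ)
  refine ⟨c, hc_inv, ?_⟩
  have : x - c = -(y - x) - (c - y) := by ring
  rw [this]
  exact P.sub_mem (P.neg_mem hy1) hc1

end Groth.Agent.S12936
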