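import Groth.Statements.S12937
import Groth.Agent.Lib.Helper15Inertia
import Groth.Agent.S12936

set_option autoImplicit false
universe u v
open InvTh

namespace Groth.Agent.S12937


open Polynomial Groth.Agent.Lib.Helper15.Inertia in
/-- An element of the inertia ring is, modulo `P`, a root of a polynomial with invariant
coefficients which is separable modulo `P`. -/
theorem exists_separable_of_invariant
    (B : Type u) [CommRing B] (Γ : Type v) [Group Γ] [Finite Γ] [MulSemiringAction Γ B]
    (P : Ideal B) [P.IsMaximal] (y : B) (hyT : ∀ γ : Γ, γ ∈ P.inertia Γ → γ • y = y) :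
    ∃ g : Polynomial B, (∀ (i : ℕ) (γ : Γ), γ • g.coeff i = g.coeff i) ∧
      (g.map (Ideal.Quotient.mk P)).Separable ∧ Polynomial.aeval y g ∈ P := by
  classical
  let _ : Field (B ⧸ P) := Ideal.Quotient.field P
  let S : Subgroup Γ :=
    { carrier := {σ | σ ∈ dec (Γ := Γ) P ∧ σ • y - y ∈ P}
      mul_mem' := by
        rintro a b ⟨ha, hay⟩ ⟨hb, hby⟩
        refine ⟨(dec P).mul_mem ha hb, ?_⟩
        have h1 := smul_sub_mem_of_mem_dec ha hby
        have h2 : (a * b) • y - y = (a • b • y - a • y) + (a • y - y) := by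
          rw [mul_smul]; ring
        rw [h2]
        exact P.add_mem h1 hay
      one_mem' := ⟨(dec P).one_mem, by rw [one_smul, sub_self]; exact P.zero_mem⟩
      inv_mem' := by
        rintro a ⟨ha, hay⟩
        refine ⟨(dec P).inv_mem ha, ?_⟩
        have h1 := smul_sub_mem_of_mem_dec ((dec P).inv_mem ha) hay
        rw [inv_smul_smul] at h1
        have h2 : a⁻¹ • y - y = -(y - a⁻¹ • y) := by ring
        rw [h2]
        exact P.neg_mem h1 }
  have hTS : P.inertia Γ ≤ S := fun γ hγ => ⟨inertia_le_dec hγ, hγ y⟩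
  have hSD : S ≤ dec P := fun σ hσ => hσ.1
  obtain ⟨c, hcS, hcy⟩ := exists_invariant_of_fixed_mod P S hTS hSD y hyT (fun σ hσ => hσ.2)
  have : Fintype (dec (Γ := Γ) P) := Fintype.ofFinite _
  let Orb : Finset B := Finset.univ.image (fun δ : dec (Γ := Γ) P => (δ : Γ) • c)
  let G : B[X] := ∏ b ∈ Orb, (X - C b)
  have hcOrb : c ∈ Orb := Finset.mem_image.mpr ⟨1, Finset.mem_univ _, one_smul _ _⟩
  -- invariance of G under the decomposition group
  have hGinv : ∀ δ ∈ dec (Γ := Γ) P, ∀ k, δ • G.coeff k = G.coeff k := by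
    intro δ hδ k
    have h1 : δ • G = G := by
      change δ • (∏ b ∈ Orb, (X - C b)) = ∏ b ∈ Orb, (X - C b)
      rw [Finset.smul_prod']
      have h2 : ∀ b ∈ Orb, δ • ((X : B[X]) - C b) = X - C (δ • b) := fun b _ => by
        rw [smul_sub, Polynomial.smul_X, Polynomial.smul_C]
      rw [Finset.prod_congr rfl h2]
      have h3 : Orb.image (fun b : B => δ • b) = Orb := by
        ext b
        simp only [Orb, Finset.mem_image, Finset.mem_univ, true_and, exists_exists_eq_and]
        constructor
        · rintro ⟨a, rfl⟩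
          exact ⟨⟨δ, hδ⟩ * a, mul_smul _ _ _⟩
        · rintro ⟨a, rfl⟩
          refine ⟨⟨δ, hδ⟩⁻¹ * a, ?_⟩
          change δ • ((δ⁻¹ * (a : Γ)) • c) = (a : Γ) • c
          rw [← mul_smul, mul_inv_cancel_left]
      have h4 : ∏ b ∈ Orb.image (fun b : B => δ • b), ((X : B[X]) - C b) =
          ∏ b ∈ Orb, (X - C (δ • b)) :=
        Finset.prod_image (f := fun b : B => (X : B[X]) - C b) (s := Orb)
          (g := fun b : B => δ • b) (MulAction.injective (β := B) δ).injOn
      rw [← h4, h3]
    rw [← Polynomial.coeff_smul, h1]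
  -- distinct roots modulo P
  have hdist : ∀ b ∈ Orb, ∀ b' ∈ Orb, Ideal.Quotient.mk P b = Ideal.Quotient.mk P b' → b = b' := by
    intro b hb b' hb' h
    obtain ⟨δ, -, rfl⟩ := Finset.mem_image.mp hb
    obtain ⟨δ', -, rfl⟩ := Finset.mem_image.mp hb'
    rw [Ideal.Quotient.eq] at h
    have h1 := smul_sub_mem_of_mem_dec ((dec P).inv_mem δ'.2) h
    rw [inv_smul_smul, ← mul_smul] at h1
    set ε : Γ := (δ' : Γ)⁻¹ * (δ : Γ) with hε
    have hεD : ε ∈ dec (Γ := Γ) P := (dec P).mul_mem ((dec P).inv_mem δ'.2) δ.2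
    have h2 : ε • y - y ∈ P := by
      have h3 := smul_sub_mem_of_mem_dec hεD hcy
      have h4 : ε • y - y = -(ε • c - ε • y) + (ε • c - c) + (c - y) := by ring
      rw [h4]
      exact P.add_mem (P.add_mem (P.neg_mem h3) h1) hcy
    have h5 : ε • c = c := hcS ε ⟨hεD, h2⟩
    have h6 : (δ : Γ) • c = (δ' : Γ) • (ε • c) := by
      rw [← mul_smul, hε, mul_inv_cancel_left]
    rw [h6, h5]
  have hGsep : (G.map (Ideal.Quotient.mk P)).Separable := by
    have h1 : G.map (Ideal.Quotient.mk P) = ∏ b ∈ Orb, (X - C (Ideal.Quotient.mk P b)) := by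
      change (∏ b ∈ Orb, (X - C b)).map (Ideal.Quotient.mk P) = _
      rw [Polynomial.map_prod]
      refine Finset.prod_congr rfl fun b _ => ?_
      rw [Polynomial.map_sub, Polynomial.map_X, Polynomial.map_C]
    rw [h1, Polynomial.separable_prod_X_sub_C_iff']
    exact hdist
  have hGroot : G.eval c = 0 := by
    change (∏ b ∈ Orb, (X - C b)).eval c = 0
    rw [Polynomial.eval_prod]
    exact Finset.prod_eq_zero hcOrb (by simp)
  -- replace the coefficients by invariant ones
  have hex : ∀ k : ℕ, ∃ a : B, (∀ γ : Γ, γ • a = a) ∧ G.coeff k - a ∈ P := fun k =>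
    Groth.Agent.S12936.result B Γ P (G.coeff k) (fun γ hγ => hGinv γ hγ k)
  choose a ha_inv ha using hex
  let g : B[X] := ∑ k ∈ Finset.range (G.natDegree + 1), Polynomial.monomial k (a k)
  have hgcoeff : ∀ k, g.coeff k = if k ≤ G.natDegree then a k else 0 := by
    intro k
    change (∑ j ∈ Finset.range (G.natDegree + 1), Polynomial.monomial j (a j)).coeff k = _
    rw [Polynomial.finsetSum_coeff]
    simp only [Polynomial.coeff_monomial, Finset.sum_ite_eq', Finset.mem_range_succ_iff]
  have hgmap : g.map (Ideal.Quotient.mk P) = G.map (Ideal.Quotient.mk P) := by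
    ext k
    rw [Polynomial.coeff_map, Polynomial.coeff_map, hgcoeff]
    split_ifs with hk
    · exact (Ideal.Quotient.eq.mpr (ha k)).symm
    · rw [Polynomial.coeff_eq_zero_of_natDegree_lt (lt_of_not_ge hk)]
  refine ⟨g, ?_, ?_, ?_⟩
  · intro k γ
    rw [hgcoeff]
    split_ifs
    · exact ha_inv k γ
    · exact smul_zero γ
  · rw [hgmap]; exact hGsep
  · rw [← Ideal.Quotient.eq_zero_iff_mem, ← eval_map_mk, hgmap,
      show Ideal.Quotient.mk P y = Ideal.Quotient.mk P c from (Ideal.Quotient.eq.mpr hcy).symm,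
      eval_map_mk, Polynomial.coe_aeval_eq_eval, hGroot, map_zero]

/-- Let `B` be a commutative ring with an action of a finite group `Γ` by ring automorphisms, `P` a
maximal ideal of `B`, `T = {γ | γ x - x ∈ P for all x}` its inertia group, `B^T` the inertia ring
and `B^Γ` the ring of invariants, so that `k(P ∩ B^Γ) ⊆ k(P ∩ B^T) ⊆ k(P) = B/P`. Then `k(P ∩ B^T)`
is the largest separable extension of `k(P ∩ B^Γ)` inside `k(P)`: an element `x` of `B` is congruent
modulo `P` to a `T`-invariant element if and only if `x mod P` is a root of some polynomial with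
`Γ`-invariant coefficients whose reduction modulo `P` is separable. (The published statement is for
every prime ideal `P`, as an equality of residue fields; this row takes `P` maximal, the case to
which the published proof reduces by localising at `P ∩ B^Γ`.) -/
theorem result
    (B : Type u) [CommRing B] (Γ : Type v) [Group Γ] [Finite Γ] [MulSemiringAction Γ B]
    (P : Ideal B) [P.IsMaximal] (x : B) :
    (∃ y : B, (∀ γ : Γ, γ ∈ P.inertia Γ → γ • y = y) ∧ x - y ∈ P) ↔
      ∃ g : Polynomial B, (∀ (i : ℕ) (γ : Γ), γ • g.coeff i = g.coeff i) ∧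
        (g.map (Ideal.Quotient.mk P)).Separable ∧ Polynomial.aeval x g ∈ P := by
  constructor
  · rintro ⟨y, hyT, hxy⟩
    obtain ⟨g, hginv, hgsep, hgy⟩ := exists_separable_of_invariant B Γ P y hyT
    refine ⟨g, hginv, hgsep, ?_⟩
    have h1 : x - y ∣ Polynomial.eval x g - Polynomial.eval y g := Polynomial.sub_dvd_eval_sub x y g
    have h2 : Polynomial.eval x g - Polynomial.eval y g ∈ P := Ideal.mem_of_dvd P h1 hxy
    rw [Polynomial.coe_aeval_eq_eval] at hgy ⊢
    have := P.add_mem h2 hgy
    rwa [sub_add_cancel] at this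
  · rintro ⟨g, hginv, hgsep, hgx⟩
    exact Groth.Agent.Lib.Helper15.Inertia.exists_invariant_of_separable P x g hginv hgsep hgx

end Groth.Agent.S12937
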