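import Groth.Statements.S12942
import Mathlib
import Groth.Agent.Lib.Helper15MonoSep

set_option autoImplicit false
universe u
open CategoryTheory AlgebraicGeometry
open AlgSt

namespace Groth.Agent.S12942

/-- If a morphism f of algebraic stacks is representable by algebraic spaces, then its diagonal is
separated (as a morphism representable by algebraic spaces: every base change to a scheme is a
separated morphism of algebraic spaces). -/
theorem result
    (S : Scheme.{u}) (𝒳 : AlgSt.Cat S) (𝒴 : AlgSt.Cat S)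
    (h𝒳 : AlgSt.IsAlgStack Scheme.fppfPrecoverage 𝒳)
    (h𝒴 : AlgSt.IsAlgStack Scheme.fppfPrecoverage 𝒴)
    (f : 𝒳 ⥤ᵇ 𝒴)
    (hf : AlgSt.RepByAlgSp1 f) :
    AlgSt.RepByAlgSpWith AlgSp.IsSeparatedMor (FibCat.diag f) := by
  exact Groth.Agent.Lib.Helper15MonoSep.repByAlgSpWith_isSeparatedMor_of_isMono _
    (Groth.Agent.Lib.Helper15MonoFF.isMono_diag_of_repByAlgSp1 h𝒳.isStack.1 h𝒴.isStack.1 h𝒳.diag h𝒴.diag f hf)

end Groth.Agent.S12942
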