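import Groth.Statements.S12947
import Mathlib
import Groth.Agent.Lib.Helper15MonoUnram

set_option autoImplicit false
universe u
open CategoryTheory AlgebraicGeometry
open AlgSt

namespace Groth.Agent.S12947

/-- A morphism of algebraic stacks that is representable by algebraic spaces is DM (its diagonal, a
monomorphism locally of finite type, is unramified). -/
theorem result
    (S : Scheme.{u}) (𝒳 : AlgSt.Cat S) (𝒴 : AlgSt.Cat S)
    (h𝒳 : AlgSt.IsAlgStack Scheme.fppfPrecoverage 𝒳)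
    (h𝒴 : AlgSt.IsAlgStack Scheme.fppfPrecoverage 𝒴)
    (f : 𝒳 ⥤ᵇ 𝒴)
    (hf : AlgSt.RepByAlgSp1 f) :
    AlgSt.IsDMMor f := by
  exact Groth.Agent.Lib.Helper15MonoUnram.repByAlgSpWith_unramified_of_isMono_of_lft (FibCat.diag f)
    (Groth.Agent.Lib.Helper15MonoFF.isMono_diag_of_repByAlgSp1 h𝒳.isStack.1 h𝒴.isStack.1 h𝒳.diag h𝒴.diag f hf)
    (Groth.Agent.Lib.Helper15DiagLft.repByAlgSpWith_lft_diag h𝒳 h𝒴 f)

end Groth.Agent.S12947
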