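import Groth.Statements.S13041
import Mathlib
-- import your own Groth.Agent.* helpers here

set_option autoImplicit false
universe u
open MaxMod

namespace Groth.Agent.S13041

/-- Let R be a domain with fraction field K, let A → B be a homomorphism of commutative R-algebras that
are flat over R, with B module-finite over A, such that the induced map K ⊗_R A → K ⊗_R B is
bijective. If the A-linear map Hom_A(B, A) → A evaluating at 1 is surjective, then A → B is
bijective. (The published statement concerns a finite morphism of flat schemes over a discrete
valuation ring, with locally free relative dualizing sheaves, that is an isomorphism over a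
schematically dense open and whose trace map on dualizing sheaves is surjective; this row is the
statement about rings to which the printed proof reduces it and which that proof establishes, and
the argument uses only that R is a domain.) -/
theorem result
    (R K A B : Type u) [CommRing R] [IsDomain R] [Field K] [Algebra R K] [IsFractionRing R K]
    [CommRing A] [CommRing B] [Algebra R A] [Algebra R B] [Algebra A B] [IsScalarTower R A B]
    [Module.Flat R A] [Module.Flat R B] [Module.Finite A B]
    (hK : Function.Bijective
      (Algebra.TensorProduct.map (AlgHom.id R K) (IsScalarTower.toAlgHom R A B)))
    (htr : Function.Surjective (fun u : B →ₗ[A] A => u 1)) :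
    Function.Bijective (algebraMap A B) := by
  obtain ⟨u, hu⟩ := htr 1
  simp only at hu
  have hsec : ∀ a : A, u (algebraMap A B a) = a := by
    intro a
    rw [Algebra.algebraMap_eq_smul_one, map_smul, hu, smul_eq_mul, mul_one]
  -- the R-linear version of u
  let uR : B →ₗ[R] A := u.restrictScalars R
  have hinjK : Function.Injective (LinearMap.rTensor B (Algebra.linearMap R K)) :=
    Module.Flat.rTensor_preserves_injective_linearMap _ (IsFractionRing.injective R K)
  have hzero : ∀ c : B, u c = 0 → c = 0 := by
    intro c hc
    obtain ⟨z, hz⟩ := hK.2 (TensorProduct.tmul R (1 : K) c)
    have h1 : ∀ z : TensorProduct R K A, LinearMap.lTensor K uR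
        (Algebra.TensorProduct.map (AlgHom.id R K) (IsScalarTower.toAlgHom R A B) z) = z := by
      intro z
      induction z using TensorProduct.induction_on with
      | zero => simp
      | tmul x a => simp [uR, hsec]
      | add x y hx hy => simp only [map_add, hx, hy]
    have h2 : z = 0 := by
      rw [← h1 z, hz]
      simp [uR, hc]
    rw [h2, map_zero] at hz
    have h3 : LinearMap.rTensor B (Algebra.linearMap R K) (TensorProduct.tmul R (1 : R) c) = 0 := by
      simp [← hz]
    have h4 := hinjK (h3.trans (map_zero _).symm)
    have h5 := congrArg (TensorProduct.lid R B) h4
    simpa using h5
  constructor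
  · intro a a' h
    rw [← hsec a, ← hsec a', h]
  · intro b
    refine ⟨u b, ?_⟩
    have := hzero (b - algebraMap A B (u b)) (by rw [map_sub, hsec, sub_self])
    exact (sub_eq_zero.1 this).symm

end Groth.Agent.S13041
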