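import Groth.Statements.S13042
import Mathlib
-- import your own Groth.Agent.* helpers here

set_option autoImplicit false
universe u
open MaxMod

namespace Groth.Agent.S13042.Aux
set_option autoImplicit false

namespace TorsorIso
open MvPolynomial

variable (p : ℕ) [hp : Fact p.Prime] (R : Type u) [CommRing R] [IsLocalRing R] [CharP R p]
    (lam f : R)

local notation "P" => MvPolynomial (Fin 2) R

/-- source ideal -/
noncomputable abbrev I1 : Ideal P := Ideal.span {(X 0 ^ p - C f : P), X 1 ^ p - C f}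
/-- target ideal -/
noncomputable abbrev I2 : Ideal P := Ideal.span {(X 0 ^ p : P), X 1 ^ p - C f}

theorem mem1a : (X 0 ^ p - C f : P) ∈ I1 p R f := Ideal.subset_span (by simp)
theorem mem1b : (X 1 ^ p - C f : P) ∈ I1 p R f := Ideal.subset_span (by simp)
theorem mem2a : (X 0 ^ p : P) ∈ I2 p R f := Ideal.subset_span (by simp)
theorem mem2b : (X 1 ^ p - C f : P) ∈ I2 p R f := Ideal.subset_span (by simp)

/-- the polynomial `1 + λ W` -/
noncomputable abbrev U : P := 1 + C lam * X 1

theorem U_pow : (U R lam) ^ p = 1 + C (lam ^ p) * X 1 ^ p := by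
  rw [U, add_pow_char, one_pow, mul_pow, ← C_pow]

variable (hlam : lam ∈ IsLocalRing.maximalIdeal R)

include hlam in
theorem exists_c : ∃ c : R, (1 + lam ^ p * f) * c = 1 := by
  have hmem : lam ^ p * f ∈ IsLocalRing.maximalIdeal R :=
    Ideal.mul_mem_right _ _ (Ideal.pow_mem_of_mem _ hlam p hp.out.pos)
  have hunit : IsUnit (1 + lam ^ p * f) := by
    by_contra hnu
    have h1 : 1 + lam ^ p * f ∈ IsLocalRing.maximalIdeal R := (IsLocalRing.mem_maximalIdeal _).mpr hnu
    have h2 : (1 : R) ∈ IsLocalRing.maximalIdeal R := by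
      have := Ideal.sub_mem _ h1 hmem
      simpa using this
    exact (IsLocalRing.maximalIdeal.isMaximal R).ne_top ((Ideal.eq_top_iff_one _).mpr h2)
  obtain ⟨u, hu⟩ := hunit
  exact ⟨(u⁻¹ : Rˣ), by rw [← hu]; exact u.mul_inv⟩

/-- the inverse polynomial of `1 + λ W` modulo `W^p - f` -/
noncomputable abbrev V (c : R) : P := (U R lam) ^ (p - 1) * C c

theorem UV_sub_one_mem (c : R) (hc : (1 + lam ^ p * f) * c = 1) (J : Ideal P)
    (hJ : (X 1 ^ p - C f : P) ∈ J) : U R lam * V p R lam c - 1 ∈ J := by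
  have h1 : U R lam * V p R lam c = (U R lam) ^ p * C c := by
    rw [V, ← mul_assoc, ← pow_succ', Nat.sub_add_cancel hp.out.one_le]
  rw [h1, U_pow]
  have h2 : ((1 + C (lam ^ p) * X 1 ^ p) * C c - 1 : P) = C (lam ^ p) * C c * (X 1 ^ p - C f) := by
    have hc' : (1 : P) = (1 + C (lam ^ p) * C f) * C c := by
      rw [← C_mul, ← C_1, ← C_add, ← C_mul, hc]
    calc ((1 + C (lam ^ p) * X 1 ^ p) * C c - 1 : P)
        = (1 + C (lam ^ p) * X 1 ^ p) * C c - (1 + C (lam ^ p) * C f) * C c := by rw [← hc']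
      _ = C (lam ^ p) * C c * (X 1 ^ p - C f) := by ring
  rw [h2]
  exact Ideal.mul_mem_left _ _ hJ

/-- forward map on polynomials -/
noncomputable def fwd : P →ₐ[R] (P ⧸ I2 p R f) :=
  aeval (fun i : Fin 2 => if i = 0 then Ideal.Quotient.mk (I2 p R f) (X 0 + X 1 + C lam * X 0 * X 1)
    else Ideal.Quotient.mk (I2 p R f) (X 1))

/-- backward map on polynomials -/
noncomputable def bwd (c : R) : P →ₐ[R] (P ⧸ I1 p R f) :=
  aeval (fun i : Fin 2 => if i = 0 then Ideal.Quotient.mk (I1 p R f) ((X 0 - X 1) * V p R lam c)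
    else Ideal.Quotient.mk (I1 p R f) (X 1))

theorem fwd_X0 : fwd p R lam f (X 0) = Ideal.Quotient.mk (I2 p R f) (X 0 + X 1 + C lam * X 0 * X 1) := by
  simp [fwd]
theorem fwd_X1 : fwd p R lam f (X 1) = Ideal.Quotient.mk (I2 p R f) (X 1) := by
  simp [fwd]
theorem bwd_X0 (c : R) : bwd p R lam f c (X 0) = Ideal.Quotient.mk (I1 p R f) ((X 0 - X 1) * V p R lam c) := by
  simp [bwd]
theorem bwd_X1 (c : R) : bwd p R lam f c (X 1) = Ideal.Quotient.mk (I1 p R f) (X 1) := by
  simp [bwd]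

theorem fwd_C (r : R) : fwd p R lam f (C r) = Ideal.Quotient.mk (I2 p R f) (C r) := by
  rw [← algebraMap_eq, AlgHom.commutes]
  rfl
theorem bwd_C (c r : R) : bwd p R lam f c (C r) = Ideal.Quotient.mk (I1 p R f) (C r) := by
  rw [← algebraMap_eq, AlgHom.commutes]
  rfl

theorem fwd_le : I1 p R f ≤ RingHom.ker (fwd p R lam f).toRingHom := by
  rw [Ideal.span_le]
  intro g hg
  simp only [Set.mem_insert_iff, Set.mem_singleton_iff] at hg
  rcases hg with rfl | rfl
  · change (fwd p R lam f) (X 0 ^ p - C f) = 0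
    rw [map_sub, map_pow, fwd_X0, fwd_C, ← map_pow, ← map_sub, Ideal.Quotient.eq_zero_iff_mem]
    have : (X 0 + X 1 + C lam * X 0 * X 1 : P) ^ p - C f =
        X 0 ^ p * (1 + C (lam ^ p) * X 1 ^ p) + (X 1 ^ p - C f) := by
      rw [add_pow_char, add_pow_char, mul_pow, mul_pow, ← C_pow]
      ring
    rw [this]
    exact Ideal.add_mem _ (Ideal.mul_mem_right _ _ (mem2a p R f)) (mem2b p R f)
  · change (fwd p R lam f) (X 1 ^ p - C f) = 0
    rw [map_sub, map_pow, fwd_X1, fwd_C, ← map_pow, ← map_sub, Ideal.Quotient.eq_zero_iff_mem]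
    exact mem2b p R f

theorem bwd_le (c : R) : I2 p R f ≤ RingHom.ker (bwd p R lam f c).toRingHom := by
  rw [Ideal.span_le]
  intro g hg
  simp only [Set.mem_insert_iff, Set.mem_singleton_iff] at hg
  rcases hg with rfl | rfl
  · change (bwd p R lam f c) (X 0 ^ p) = 0
    rw [map_pow, bwd_X0, ← map_pow, Ideal.Quotient.eq_zero_iff_mem, mul_pow, sub_pow_char]
    have : (X 0 ^ p - X 1 ^ p : P) = (X 0 ^ p - C f) - (X 1 ^ p - C f) := by ring
    rw [this]
    exact Ideal.mul_mem_right _ _ (Ideal.sub_mem _ (mem1a p R f) (mem1b p R f))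
  · change (bwd p R lam f c) (X 1 ^ p - C f) = 0
    rw [map_sub, map_pow, bwd_X1, bwd_C, ← map_pow, ← map_sub, Ideal.Quotient.eq_zero_iff_mem]
    exact mem1b p R f

/-- forward map -/
noncomputable def φ : (P ⧸ I1 p R f) →ₐ[R] (P ⧸ I2 p R f) :=
  Ideal.Quotient.liftₐ (I1 p R f) (fwd p R lam f) (fun a ha => fwd_le p R lam f ha)

/-- backward map -/
noncomputable def ψ (c : R) : (P ⧸ I2 p R f) →ₐ[R] (P ⧸ I1 p R f) :=
  Ideal.Quotient.liftₐ (I2 p R f) (bwd p R lam f c) (fun a ha => bwd_le p R lam f c ha)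

theorem φ_mk (g : P) : φ p R lam f (Ideal.Quotient.mk _ g) = fwd p R lam f g := rfl
theorem ψ_mk (c : R) (g : P) : ψ p R lam f c (Ideal.Quotient.mk _ g) = bwd p R lam f c g := rfl

theorem ψφ (c : R) (hc : (1 + lam ^ p * f) * c = 1) :
    (ψ p R lam f c).comp (φ p R lam f) = AlgHom.id R _ := by
  apply Ideal.Quotient.algHom_ext
  apply MvPolynomial.algHom_ext
  intro i
  fin_cases i
  · change ψ p R lam f c (φ p R lam f (Ideal.Quotient.mk _ (X 0))) = Ideal.Quotient.mk _ (X 0)
    rw [φ_mk, fwd_X0, ψ_mk, map_add, map_add, map_mul, map_mul, bwd_X0, bwd_X1, bwd_C,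
      ← map_mul, ← map_mul, ← map_add, ← map_add, Ideal.Quotient.eq]
    have : ((X 0 - X 1) * V p R lam c + X 1 + C lam * ((X 0 - X 1) * V p R lam c) * X 1 - X 0 : P) =
        (X 0 - X 1) * (U R lam * V p R lam c - 1) := by
      simp only [U]; ring
    rw [this]
    exact Ideal.mul_mem_left _ _ (UV_sub_one_mem p R lam f c hc _ (mem1b p R f))
  · change ψ p R lam f c (φ p R lam f (Ideal.Quotient.mk _ (X 1))) = Ideal.Quotient.mk _ (X 1)
    rw [φ_mk, fwd_X1, ψ_mk, bwd_X1]

theorem fwd_V (c : R) : fwd p R lam f (V p R lam c) = Ideal.Quotient.mk _ (V p R lam c) := by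
  simp only [V, U, map_mul, map_pow, map_add, map_one, fwd_C, fwd_X1]

theorem φψ (c : R) (hc : (1 + lam ^ p * f) * c = 1) :
    (φ p R lam f).comp (ψ p R lam f c) = AlgHom.id R _ := by
  apply Ideal.Quotient.algHom_ext
  apply MvPolynomial.algHom_ext
  intro i
  fin_cases i
  · change φ p R lam f (ψ p R lam f c (Ideal.Quotient.mk _ (X 0))) = Ideal.Quotient.mk _ (X 0)
    rw [ψ_mk, bwd_X0, φ_mk, map_mul, map_sub, fwd_X0, fwd_X1, fwd_V, ← map_sub, ← map_mul,
      Ideal.Quotient.eq]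
    have : ((X 0 + X 1 + C lam * X 0 * X 1 - X 1) * V p R lam c - X 0 : P) =
        X 0 * (U R lam * V p R lam c - 1) := by
      simp only [U]; ring
    rw [this]
    exact Ideal.mul_mem_left _ _ (UV_sub_one_mem p R lam f c hc _ (mem2b p R f))
  · change φ p R lam f (ψ p R lam f c (Ideal.Quotient.mk _ (X 1))) = Ideal.Quotient.mk _ (X 1)
    rw [ψ_mk, bwd_X1, φ_mk, fwd_X1]

include hlam in
theorem main : ∃ e : (P ⧸ I1 p R f) ≃ₐ[R] (P ⧸ I2 p R f),
      e (Ideal.Quotient.mk _ (X 0)) = Ideal.Quotient.mk _ (X 0 + X 1 + C lam * X 0 * X 1) ∧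
      e (Ideal.Quotient.mk _ (X 1)) = Ideal.Quotient.mk _ (X 1) := by
  obtain ⟨c, hc⟩ := exists_c p R lam f hlam
  refine ⟨AlgEquiv.ofAlgHom (φ p R lam f) (ψ p R lam f c) (φψ p R lam f c hc) (ψφ p R lam f c hc),
    ?_, ?_⟩
  · change φ p R lam f (Ideal.Quotient.mk _ (X 0)) = _
    rw [φ_mk, fwd_X0]
  · change φ p R lam f (Ideal.Quotient.mk _ (X 1)) = _
    rw [φ_mk, fwd_X1]

end TorsorIso

end Groth.Agent.S13042.Aux

namespace Groth.Agent.S13042

open MvPolynomial in
/-- Let p be a prime, R a local ring of characteristic p, λ an element of the maximal ideal of R and f ∈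
R. Then there is an isomorphism of R-algebras R[W₁, W₂]/(W₁^p − f, W₂^p − f) ≅ R[x, W]/(x^p, W^p −
f) with W₁ ↦ x + W + λ·x·W and W₂ ↦ W; that is, Spec R[W]/(W^p − f) with the action w ↦ x + w + λxw
is a torsor under the group scheme Spec R[x]/(x^p) with law x₁ ∘ x₂ = x₁ + x₂ + λx₁x₂. (The
published statement is over a complete discrete valuation ring of characteristic p with λ a nonzero
nonunit, and also asserts that for f in the fraction field with negative valuation v(f) > −p·v(λ)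
the torsor W^p = f extends to a torsor over R, using the coordinate 1/W; that second case fails: for
p = 2, λ = π a uniformizer and f = 1/π, every model is Spec R[π^a t] with t² = π, and none of these
is a torsor since the coaction sends t to t − π(1 + t)x. Only the case f ∈ R is stated, and the
argument there uses only that R is local of characteristic p.) -/
theorem result
    (p : ℕ) [Fact p.Prime] (R : Type u) [CommRing R] [IsLocalRing R] [CharP R p]
    (lam f : R) (hlam : lam ∈ IsLocalRing.maximalIdeal R) :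
    ∃ e : (MvPolynomial (Fin 2) R ⧸ Ideal.span {(X 0 ^ p - C f : MvPolynomial (Fin 2) R), X 1 ^ p - C f}) ≃ₐ[R]
        (MvPolynomial (Fin 2) R ⧸ Ideal.span {(X 0 ^ p : MvPolynomial (Fin 2) R), X 1 ^ p - C f}),
      e (Ideal.Quotient.mk _ (X 0)) = Ideal.Quotient.mk _ (X 0 + X 1 + C lam * X 0 * X 1) ∧
      e (Ideal.Quotient.mk _ (X 1)) = Ideal.Quotient.mk _ (X 1) := by
  exact Aux.TorsorIso.main p R lam f hlam

end Groth.Agent.S13042
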