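import Groth.Statements.S13047
import Mathlib
-- import your own Groth.Agent.* helpers here

set_option autoImplicit false
set_option linter.style.haveILetI false
set_option linter.unusedSectionVars false
universe u
open FrobAlg

namespace Groth.Agent.S13047
open W4c1imperftorsors TensorProduct
universe v w

section general
variable (p : ℕ) [Fact p.Prime] (R : Type u) [CommRing R] [CharP R p]
  (A : Type v) [CommRing A] [Algebra R A] [CharP A p] (i : ℕ)

/-- pure tensors in the twist -/
noncomputable def tm (r : R) (a : A) : Twist p R A i :=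
  r ⊗ₜ[Src p R i] ((aEquiv p R A i).symm a : ASrc p R A i)

theorem relFrob_tm (r : R) (a : A) :
    relFrob p R A i (tm p R A (i + 1) r a) = tm p R A i r (a ^ p) := by
  change relFrobAux p R A i (r ⊗ₜ _) = _
  rw [relFrobAux, Algebra.TensorProduct.lift_tmul]
  change (algebraMap R (Twist p R A i) r) * ((1 : R) ⊗ₜ[Src p R i] _) = _
  rw [Algebra.TensorProduct.algebraMap_apply, Algebra.TensorProduct.tmul_mul_tmul, mul_one, one_mul]
  rfl

theorem tm_induction {P : Twist p R A i → Prop} (z : Twist p R A i)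
    (h0 : P 0) (ht : ∀ r a, P (tm p R A i r a)) (ha : ∀ x y, P x → P y → P (x + y)) : P z := by
  induction z using TensorProduct.induction_on with
  | zero => exact h0
  | tmul r a => exact ht r (aEquiv p R A i a)
  | add x y hx hy => exact ha x y hx hy

theorem smul_tm (s r : R) (a : A) : s • tm p R A i r a = tm p R A i (s * r) a := by
  rw [tm, tm, TensorProduct.smul_tmul', smul_eq_mul]

theorem tm_smul (s r : R) (a : A) :
    tm p R A i r (algebraMap R A s * a) = tm p R A i (s ^ (p ^ i) * r) a := by
  have h : (((srcEquiv p R i).symm s : Src p R i) • r) ⊗ₜ[Src p R i]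
      ((aEquiv p R A i).symm a : ASrc p R A i)
      = r ⊗ₜ[Src p R i] (((srcEquiv p R i).symm s : Src p R i) •
        ((aEquiv p R A i).symm a : ASrc p R A i)) := TensorProduct.smul_tmul _ _ _
  rw [tm, tm]
  have h1 : ((srcEquiv p R i).symm s : Src p R i) • r = s ^ (p ^ i) * r := by
    rw [Algebra.smul_def, algebraMap_src, RingEquiv.apply_symm_apply]
  have h2 : ((srcEquiv p R i).symm s : Src p R i) • ((aEquiv p R A i).symm a : ASrc p R A i)
      = (aEquiv p R A i).symm (algebraMap R A s * a) := by
    rw [Algebra.smul_def, algebraMap_aSrc, RingEquiv.apply_symm_apply, map_mul]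
  rw [h1, h2] at h
  exact h.symm

theorem tm_add_right (r : R) (a b : A) :
    tm p R A i r (a + b) = tm p R A i r a + tm p R A i r b := by
  rw [tm, tm, tm, map_add, TensorProduct.tmul_add]

theorem algebraMap_twist (r : R) : algebraMap R (Twist p R A i) r = tm p R A i r 1 := by
  rw [Algebra.TensorProduct.algebraMap_apply, tm, map_one]
  rfl

/-- a ring hom out of the twist from a compatible pair -/
noncomputable def twistLift {T : Type w} [CommRing T] (θ : R →+* T) (φ : A →+* T)
    (h : ∀ s : R, φ (algebraMap R A s) = θ (s ^ (p ^ i))) : Twist p R A i →+* T :=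
  letI : Algebra (Src p R i) T := (θ.comp (algebraMap (Src p R i) R)).toAlgebra
  let f : R →ₐ[Src p R i] T := { toRingHom := θ, commutes' := fun _ => rfl }
  let g : ASrc p R A i →ₐ[Src p R i] T :=
    { toRingHom := φ.comp (aEquiv p R A i : ASrc p R A i →+* A)
      commutes' := fun s => by
        change φ (aEquiv p R A i (algebraMap (Src p R i) (ASrc p R A i) s)) = θ _
        rw [algebraMap_aSrc, RingEquiv.apply_symm_apply, h, algebraMap_src] }
  (Algebra.TensorProduct.lift f g (fun _ _ => Commute.all _ _)).toRingHom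

theorem twistLift_tm {T : Type w} [CommRing T] (θ : R →+* T) (φ : A →+* T)
    (h : ∀ s : R, φ (algebraMap R A s) = θ (s ^ (p ^ i))) (r : R) (a : A) :
    twistLift p R A i θ φ h (tm p R A i r a) = θ r * φ a := by
  letI : Algebra (Src p R i) T := (θ.comp (algebraMap (Src p R i) R)).toAlgebra
  rw [twistLift, tm]
  simp only [AlgHom.toRingHom_eq_coe, RingHom.coe_coe, Algebra.TensorProduct.lift_tmul]
  change θ r * φ (aEquiv p R A i ((aEquiv p R A i).symm a)) = _
  rw [RingEquiv.apply_symm_apply]

end general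

section specific
open Polynomial
variable (p : ℕ) [Fact p.Prime] (R : Type u) [CommRing R] [CharP R p] (u v : R)

/-- the ideal -/
noncomputable abbrev II : Ideal R[X] := Ideal.span {(C u * X : R[X]), X ^ 2 - C (v ^ 2)}
/-- the algebra -/
abbrev BB : Type u := R[X] ⧸ II R u v
/-- class of X -/
noncomputable def al : BB R u v := Ideal.Quotient.mk _ X

theorem algMap_eq (r : R) : algebraMap R (BB R u v) r = Ideal.Quotient.mk _ (C r) := rfl

theorem u_al : algebraMap R (BB R u v) u * al R u v = 0 := by
  rw [algMap_eq, al, ← map_mul]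
  exact Ideal.Quotient.eq_zero_iff_mem.2 (Ideal.subset_span (by simp))

theorem al_sq : al R u v ^ 2 = algebraMap R (BB R u v) (v ^ 2) := by
  rw [algMap_eq, al, ← map_pow, ← sub_eq_zero, ← map_sub]
  exact Ideal.Quotient.eq_zero_iff_mem.2 (Ideal.subset_span (by simp))

theorem al_pow (hp : p ≠ 2) : al R u v ^ p = algebraMap R (BB R u v) (v ^ (p - 1)) * al R u v := by
  obtain ⟨m, hm⟩ := (Fact.out : p.Prime).odd_of_ne_two hp
  have : p - 1 = 2 * m := by omega
  rw [this, hm, pow_succ, pow_mul, al_sq, ← map_pow, ← pow_mul]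

theorem exists_rep (a : BB R u v) :
    ∃ r s : R, a = algebraMap R (BB R u v) r + algebraMap R (BB R u v) s * al R u v := by
  obtain ⟨g, rfl⟩ := Ideal.Quotient.mk_surjective a
  have hq : (X ^ 2 - C (v ^ 2) : R[X]).Monic := monic_X_pow_sub_C _ (by norm_num)
  by_cases hR : Nontrivial R
  · have hdeg : (g %ₘ (X ^ 2 - C (v ^ 2))).degree ≤ 1 := by
      have h1 := degree_modByMonic_lt g hq
      rw [degree_X_pow_sub_C (by norm_num)] at h1
      exact Order.le_of_lt_succ h1
    refine ⟨(g %ₘ (X ^ 2 - C (v ^ 2))).coeff 0, (g %ₘ (X ^ 2 - C (v ^ 2))).coeff 1, ?_⟩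
    have h2 := modByMonic_add_div g (X ^ 2 - C (v ^ 2))
    have h3 := eq_X_add_C_of_degree_le_one hdeg
    rw [algMap_eq, algMap_eq, al, ← map_mul, ← map_add, add_comm, ← h3]
    rw [← sub_eq_zero, ← map_sub]
    apply Ideal.Quotient.eq_zero_iff_mem.2
    have : g - g %ₘ (X ^ 2 - C (v ^ 2)) = (X ^ 2 - C (v ^ 2)) * (g /ₘ (X ^ 2 - C (v ^ 2))) := by
      linear_combination h2.symm
    rw [this]
    exact Ideal.mul_mem_right _ _ (Ideal.subset_span (by simp))
  · rw [not_nontrivial_iff_subsingleton] at hR
    have : Subsingleton (BB R u v) := by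
      have : Subsingleton R[X] := inferInstance
      infer_instance
    exact ⟨0, 0, Subsingleton.elim _ _⟩

theorem aeval_II (huv : u * v = 0) (a : R[X]) (ha : a ∈ II R u v) :
    Polynomial.aeval v a = 0 := by
  induction ha using Submodule.span_induction with
  | mem x hx =>
    rcases hx with rfl | rfl
    · simp [huv]
    · simp
  | zero => simp
  | add x y _ _ hx hy => rw [map_add, hx, hy, add_zero]
  | smul c x _ hx => rw [smul_eq_mul, map_mul, hx, mul_zero]

/-- the retraction -/
noncomputable def rho (huv : u * v = 0) : BB R u v →ₐ[R] R :=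
  Ideal.Quotient.liftₐ (II R u v) (Polynomial.aeval v) (aeval_II R u v huv)

theorem rho_al (huv : u * v = 0) : rho R u v huv (al R u v) = v := by
  change Polynomial.aeval v (X : R[X]) = v
  simp


/-- quotient ring `R/(u^(p^i))` -/
abbrev Ri (i : ℕ) : Type u := R ⧸ Ideal.span {u ^ (p ^ i)}

/-- the twisted quadratic polynomial -/
noncomputable def qi (i : ℕ) : (Ri p R u i)[X] :=
  X ^ 2 - C ((Ideal.Quotient.mk (Ideal.span {u ^ (p ^ i)}) (v ^ (p ^ i))) ^ 2)

/-- target ring of the detecting hom -/
abbrev Ti (i : ℕ) : Type u := AdjoinRoot (qi p R u v i)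

/-- structure map -/
noncomputable def theta (i : ℕ) : R →+* Ti p R u v i :=
  (AdjoinRoot.of (qi p R u v i)).comp (Ideal.Quotient.mk (Ideal.span {u ^ (p ^ i)}))

theorem theta_u (i : ℕ) : theta p R u v i (u ^ (p ^ i)) = 0 := by
  rw [theta, RingHom.comp_apply,
    Ideal.Quotient.eq_zero_iff_mem.2 (Ideal.subset_span (Set.mem_singleton _)), map_zero]

theorem root_sq (i : ℕ) :
    AdjoinRoot.root (qi p R u v i) ^ 2 = theta p R u v i ((v ^ 2) ^ (p ^ i)) := by
  have h : (X ^ 2 - C ((Ideal.Quotient.mk (Ideal.span {u ^ (p ^ i)}) (v ^ (p ^ i))) ^ 2) :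
      (Ri p R u i)[X]).eval₂ (AdjoinRoot.of (qi p R u v i)) (AdjoinRoot.root (qi p R u v i)) = 0 :=
    AdjoinRoot.eval₂_root (qi p R u v i)
  rw [eval₂_sub, eval₂_pow, eval₂_X, eval₂_C, sub_eq_zero] at h
  rw [h, theta, RingHom.comp_apply, ← map_pow, ← pow_mul, ← pow_mul, mul_comm]

theorem phi_aux (i : ℕ) (a : R[X]) (ha : a ∈ II R u v) :
    Polynomial.eval₂RingHom ((theta p R u v i).comp (iterateFrobenius R p i))
      (AdjoinRoot.root (qi p R u v i)) a = 0 := by
  induction ha using Submodule.span_induction with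
  | mem x hx =>
    rcases hx with rfl | rfl
    · rw [coe_eval₂RingHom, eval₂_mul, eval₂_C, eval₂_X, RingHom.comp_apply,
        iterateFrobenius_def, theta_u, zero_mul]
    · rw [coe_eval₂RingHom, eval₂_sub, eval₂_pow, eval₂_X, eval₂_C, RingHom.comp_apply,
        iterateFrobenius_def, root_sq, sub_self]
  | zero => simp
  | add x y _ _ hx hy => rw [map_add, hx, hy, add_zero]
  | smul c x _ hx => rw [smul_eq_mul, map_mul, hx, mul_zero]

/-- the Frobenius-twisted evaluation -/
noncomputable def phi (i : ℕ) : BB R u v →+* Ti p R u v i :=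
  Ideal.Quotient.lift (II R u v)
    (Polynomial.eval₂RingHom ((theta p R u v i).comp (iterateFrobenius R p i))
      (AdjoinRoot.root (qi p R u v i))) (phi_aux p R u v i)

theorem phi_algebraMap (i : ℕ) (s : R) :
    phi p R u v i (algebraMap R (BB R u v) s) = theta p R u v i (s ^ (p ^ i)) := by
  change Polynomial.eval₂RingHom _ _ (C s) = _
  rw [coe_eval₂RingHom, eval₂_C, RingHom.comp_apply, iterateFrobenius_def]

theorem phi_al (i : ℕ) : phi p R u v i (al R u v) = AdjoinRoot.root (qi p R u v i) := by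
  change Polynomial.eval₂RingHom _ _ X = _
  rw [coe_eval₂RingHom, eval₂_X]

theorem theta_mul_eq_zero (i : ℕ) (s : R)
    (h : theta p R u v i s * (AdjoinRoot.root (qi p R u v i) - theta p R u v i (v ^ (p ^ i))) = 0) :
    s ∈ Ideal.span {u ^ (p ^ i)} := by
  rw [← Ideal.Quotient.eq_zero_iff_mem]
  by_cases hR : Nontrivial (Ri p R u i)
  · set sb := Ideal.Quotient.mk (Ideal.span {u ^ (p ^ i)}) s with hsb
    set vb := Ideal.Quotient.mk (Ideal.span {u ^ (p ^ i)}) (v ^ (p ^ i)) with hvb
    have h1 : theta p R u v i s * (AdjoinRoot.root (qi p R u v i) - theta p R u v i (v ^ (p ^ i)))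
        = AdjoinRoot.mk (qi p R u v i) (C sb * (X - C vb)) := by
      rw [map_mul, map_sub, AdjoinRoot.mk_C, AdjoinRoot.mk_X, AdjoinRoot.mk_C]
      rfl
    rw [h1, AdjoinRoot.mk_eq_zero] at h
    have hq : (qi p R u v i).Monic := monic_X_pow_sub_C _ (by norm_num)
    have hqd : (qi p R u v i).natDegree = 2 := natDegree_X_pow_sub_C
    by_contra hne
    have h0 : C sb * (X - C vb) ≠ 0 := by
      intro h0
      have := congrArg (fun f => f.coeff 1) h0
      simp at this
      exact hne this
    refine hq.not_dvd_of_natDegree_lt h0 ?_ h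
    rw [hqd]
    calc (C sb * (X - C vb)).natDegree ≤ (C sb).natDegree + (X - C vb).natDegree :=
          natDegree_mul_le
      _ ≤ 0 + 1 := by
          gcongr
          · exact (natDegree_C _).le
          · exact (natDegree_X_sub_C_le _)
      _ < 2 := by norm_num
  · rw [not_nontrivial_iff_subsingleton] at hR
    exact Subsingleton.elim _ _

end specific

section main
open Polynomial
variable (p : ℕ) [Fact p.Prime] (R : Type u) [CommRing R] [CharP R p] (u v : R)
  [CharP (BB R u v) p]

/-- `ρ_i` -/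
noncomputable def rhoT (huv : u * v = 0) (i : ℕ) : Twist p R (BB R u v) i →+* R :=
  twistLift p R (BB R u v) i (RingHom.id R)
    ((iterateFrobenius R p i).comp (rho R u v huv).toRingHom) (fun s => by
      change iterateFrobenius R p i (rho R u v huv (algebraMap R (BB R u v) s)) = s ^ (p ^ i)
      rw [AlgHom.commutes, iterateFrobenius_def]
      rfl)

theorem rhoT_tm (huv : u * v = 0) (i : ℕ) (r : R) (a : BB R u v) :
    rhoT p R u v huv i (tm p R (BB R u v) i r a) = r * (rho R u v huv a) ^ (p ^ i) := by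
  rw [rhoT, twistLift_tm]
  rfl

theorem rhoT_relFrob (huv : u * v = 0) (i : ℕ) (z : Twist p R (BB R u v) (i + 1)) :
    rhoT p R u v huv i (relFrob p R (BB R u v) i z) = rhoT p R u v huv (i + 1) z := by
  induction z using tm_induction with
  | h0 => simp
  | ht r a => rw [relFrob_tm, rhoT_tm, rhoT_tm, map_pow, ← pow_mul, ← pow_succ']
  | ha x y hx hy => rw [map_add, map_add, map_add, hx, hy]

/-- `ψ_i` -/
noncomputable def psiT (i : ℕ) : Twist p R (BB R u v) i →+* Ti p R u v i :=
  twistLift p R (BB R u v) i (theta p R u v i) (phi p R u v i) (phi_algebraMap p R u v i)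

/-- `ξ_i` -/
noncomputable def xi (i : ℕ) : Twist p R (BB R u v) i :=
  tm p R (BB R u v) i 1 (al R u v) - tm p R (BB R u v) i (v ^ (p ^ i)) 1

theorem exists_decomp (i : ℕ) (z : Twist p R (BB R u v) i) :
    ∃ r s : R, z = tm p R (BB R u v) i r 1 + tm p R (BB R u v) i s (al R u v) := by
  induction z using tm_induction with
  | h0 => exact ⟨0, 0, by simp [tm]⟩
  | ht r a =>
    obtain ⟨r₁, s₁, rfl⟩ := exists_rep R u v a
    refine ⟨r₁ ^ (p ^ i) * r, s₁ ^ (p ^ i) * r, ?_⟩
    rw [tm_add_right, ← tm_smul, ← tm_smul, mul_one]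
  | ha x y hx hy =>
    obtain ⟨r₁, s₁, rfl⟩ := hx
    obtain ⟨r₂, s₂, rfl⟩ := hy
    refine ⟨r₁ + r₂, s₁ + s₂, ?_⟩
    simp only [tm, TensorProduct.add_tmul]
    abel

theorem eq_smul_xi (huv : u * v = 0) (i : ℕ) (z : Twist p R (BB R u v) i)
    (hz : rhoT p R u v huv i z = 0) : ∃ s : R, z = s • xi p R u v i := by
  obtain ⟨r, s, rfl⟩ := exists_decomp p R u v i z
  rw [map_add, rhoT_tm, rhoT_tm, map_one, one_pow, mul_one, rho_al] at hz
  refine ⟨s, ?_⟩
  rw [xi, smul_sub, smul_tm, smul_tm, mul_one]
  have : r = - (s * v ^ (p ^ i)) := eq_neg_of_add_eq_zero_left hz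
  rw [this]
  simp only [tm, TensorProduct.neg_tmul]
  abel

theorem relFrob_xi (hp : p ≠ 2) (i : ℕ) :
    relFrob p R (BB R u v) i (xi p R u v (i + 1)) = (v ^ ((p - 1) * p ^ i)) • xi p R u v i := by
  have h1p : 1 ≤ p := (Fact.out : p.Prime).one_le
  have e : v ^ (p ^ (i + 1)) = v ^ ((p - 1) * p ^ i) * v ^ (p ^ i) := by
    rw [← pow_add]
    congr 1
    rw [← Nat.succ_mul, Nat.succ_eq_add_one, Nat.sub_add_cancel h1p, pow_succ']
  rw [xi, map_sub, relFrob_tm, relFrob_tm, one_pow, al_pow p R u v hp, tm_smul, mul_one, ← pow_mul,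
    e, xi, smul_sub, smul_tm, smul_tm, mul_one]

theorem u_smul_xi (huv : u * v = 0) (i : ℕ) : (u ^ (p ^ i)) • xi p R u v i = 0 := by
  rw [xi, smul_sub, smul_tm, smul_tm, ← mul_pow, huv, zero_pow (pow_pos (Fact.out : p.Prime).pos i).ne',
    mul_one]
  have h1 := tm_smul p R (BB R u v) i u 1 (al R u v)
  rw [u_al, mul_one] at h1
  rw [← h1]
  simp [tm]

theorem psiT_smul_xi (i : ℕ) (s : R) :
    psiT p R u v i (s • xi p R u v i) = theta p R u v i s *
      (AdjoinRoot.root (qi p R u v i) - theta p R u v i (v ^ (p ^ i))) := by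
  rw [xi, smul_sub, smul_tm, smul_tm, map_sub, psiT, twistLift_tm, twistLift_tm, phi_al, map_one,
    mul_one, mul_one, map_mul]
  ring

end main


open Polynomial in
/-- Let p be an odd prime, R a commutative ring of characteristic p and u, v ∈ R with uv = 0, such that
for every N ≥ 1 an element of R lying in (v^n) + (u^N) for all n lies in (u^N) (v-adic separatedness
of R/(u^N)). Let B = R[α]/(uα, α² − v²), an R-algebra of characteristic p, with Frobenius twists
B^{p^i/R} = R ⊗_{F^i,R} B and preperfection B^{p^∞/R} = lim_i B^{p^i/R} along the relative Frobenius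
maps. Then the structure map R → B^{p^∞/R} is bijective: the preperfection of B is R. (The published
statement is for R = F_p[[u, v]]/(uv), where B arises as the preperfection of R[x, y, 1/(x − y)]/(xy
− u), so that the second preperfection of that algebra is R although the first is not perfect; the
printed computation uses only the hypotheses listed here, which that R satisfies.) -/
theorem result
    (p : ℕ) [Fact p.Prime] (hp : p ≠ 2) (R : Type u) [CommRing R] [CharP R p]
    (u v : R) (huv : u * v = 0)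
    (hsep : ∀ N : ℕ, 1 ≤ N → ∀ g : R,
      (∀ n : ℕ, g ∈ Ideal.span {v ^ n} ⊔ Ideal.span {u ^ N}) → g ∈ Ideal.span {u ^ N})
    [CharP (R[X] ⧸ Ideal.span {(C u * X : R[X]), X ^ 2 - C (v ^ 2)}) p] :
    Function.Bijective
      (algebraMap R ↥(W4c1imperftorsors.prePerf p R
        (R[X] ⧸ Ideal.span {(C u * X : R[X]), X ^ 2 - C (v ^ 2)}))) := by
  have h1 : ∀ (r : R) (j : ℕ), ((algebraMap R (prePerf p R (BB R u v)) r :
      prePerf p R (BB R u v)) : Π j, Twist p R (BB R u v) j) j
      = algebraMap R (Twist p R (BB R u v) j) r := fun r j => rfl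
  constructor
  · intro r₁ r₂ h
    have h0 := congrArg (fun x : prePerf p R (BB R u v) =>
      (x : Π j, Twist p R (BB R u v) j) 0) h
    simp only [h1] at h0
    have := congrArg (rhoT p R u v huv 0) h0
    rw [algebraMap_twist, algebraMap_twist, rhoT_tm, rhoT_tm, map_one, one_pow, mul_one,
      mul_one] at this
    exact this
  · intro x
    have hx : ∀ j, relFrob p R (BB R u v) j (x.1 (j + 1)) = x.1 j := by
      intro j
      have := x.2
      unfold prePerf at this
      rw [Algebra.mem_iInf] at this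
      exact this j
    have hr : ∀ j, rhoT p R u v huv j (x.1 j) = rhoT p R u v huv 0 (x.1 0) := by
      intro j
      induction j with
      | zero => rfl
      | succ j ih => rw [← rhoT_relFrob, hx, ih]
    set r := rhoT p R u v huv 0 (x.1 0) with hrdef
    have hy0 : ∀ j, rhoT p R u v huv j (x.1 j - algebraMap R (Twist p R (BB R u v) j) r) = 0 := by
      intro j
      rw [map_sub, hr, algebraMap_twist, rhoT_tm, map_one, one_pow, mul_one, sub_self]
    have hyc : ∀ j, relFrob p R (BB R u v) j
        (x.1 (j + 1) - algebraMap R (Twist p R (BB R u v) (j + 1)) r)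
        = x.1 j - algebraMap R (Twist p R (BB R u v) j) r := by
      intro j
      rw [map_sub, hx, AlgHom.commutes]
    choose s hs using fun j => eq_smul_xi p R u v huv j _ (hy0 j)
    have key : ∀ n j, ∃ s' : R, x.1 j - algebraMap R (Twist p R (BB R u v) j) r
        = (s' * v ^ n) • xi p R u v j := by
      intro n
      induction n with
      | zero => intro j; exact ⟨s j, by rw [pow_zero, mul_one]; exact hs j⟩
      | succ n ih =>
        intro j
        obtain ⟨s', hs'⟩ := ih (j + 1)
        obtain ⟨e, he⟩ : ∃ e, (p - 1) * p ^ j = e + 1 := by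
          have h1p : 2 ≤ p := (Fact.out : p.Prime).two_le
          have : 0 < (p - 1) * p ^ j := Nat.mul_pos (by omega) (pow_pos (by omega) j)
          exact ⟨(p - 1) * p ^ j - 1, by omega⟩
        refine ⟨s' * v ^ e, ?_⟩
        rw [← hyc j, hs', map_smul, relFrob_xi p R u v hp, smul_smul, he]
        congr 1
        ring
    have hsj : ∀ j, s j ∈ Ideal.span {u ^ (p ^ j)} := by
      intro j
      refine hsep (p ^ j) (Nat.one_le_pow _ _ (Fact.out : p.Prime).pos) (s j) (fun n => ?_)
      obtain ⟨s', hs'⟩ := key n j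
      have h2 : (s j - s' * v ^ n) • xi p R u v j = 0 := by
        rw [sub_smul, ← hs j, ← hs', sub_self]
      have h3 := congrArg (psiT p R u v j) h2
      rw [psiT_smul_xi, map_zero] at h3
      have h4 := theta_mul_eq_zero p R u v j _ h3
      rw [Submodule.mem_sup]
      exact ⟨s' * v ^ n, Ideal.mem_span_singleton'.2 ⟨s', rfl⟩, s j - s' * v ^ n, h4, by ring⟩
    have hzero : ∀ j, x.1 j - algebraMap R (Twist p R (BB R u v) j) r = 0 := by
      intro j
      obtain ⟨c, hc⟩ := Ideal.mem_span_singleton'.1 (hsj j)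
      rw [hs j, ← hc, mul_smul, u_smul_xi p R u v huv, smul_zero]
    refine ⟨r, Subtype.ext (funext fun j => ?_)⟩
    rw [h1]
    exact (sub_eq_zero.1 (hzero j)).symm

end Groth.Agent.S13047
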