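import Groth.Statements.S13048
import Mathlib

set_option autoImplicit false
universe u
open FrobAlg

namespace Groth.Agent.S13048

/-- Let k be an algebraically closed field of characteristic p > 0 and let A be a reduced finitely
generated commutative k-algebra with connected spectrum (A ≠ 0 and 0, 1 are its only idempotents).
If x ∈ A is a p^n-th power in A for every n ≥ 0, then x lies in the image of k; that is, ⋂_n A^{p^n}
= k. (The published statement is: for an artinian local ring R of characteristic p and a flat
R-algebra A of finite type, the maps A^ét → O(π₀(A)) → A^{p^∞/R} from the largest étale subalgebra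
to the preperfection are isomorphisms. This row is the case R = k algebraically closed and A reduced
with connected spectrum, where A^ét = k and the preperfection is ⋂_n A^{p^n}; the printed proof
reduces to this case and its last step proves it.) -/
theorem result
    (p : ℕ) [Fact p.Prime] (k : Type u) [Field k] [IsAlgClosed k] [CharP k p]
    (A : Type u) [CommRing A] [Algebra k A] [Algebra.FiniteType k A] [IsReduced A] [Nontrivial A]
    (hconn : ∀ e : A, IsIdempotentElem e → e = 0 ∨ e = 1)
    (x : A) (hx : ∀ n : ℕ, ∃ a : A, a ^ p ^ n = x) :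
    x ∈ (algebraMap k A).range := by
  classical
  haveI : CharP A p := charP_of_injective_algebraMap (algebraMap k A).injective p
  haveI : IsNoetherianRing A := Algebra.FiniteType.isNoetherianRing k A
  have hp : p.Prime := Fact.out
  -- Step 1: locally at every maximal ideal, `x` is a constant
  have step1 : ∀ m : Ideal A, m.IsMaximal →
      ∃ c : k, ∃ s : A, s ∉ m ∧ s * (x - algebraMap k A c) = 0 := by
    intro m hm
    letI := Ideal.Quotient.field m
    haveI : Algebra.FiniteType k (A ⧸ m) :=
      Algebra.FiniteType.of_surjective (Ideal.Quotient.mkₐ k m) (Ideal.Quotient.mkₐ_surjective k m)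
    haveI : Module.Finite k (A ⧸ m) := finite_of_finite_type_of_isJacobsonRing k (A ⧸ m)
    obtain ⟨c, hc⟩ := (IsAlgClosed.algebraMap_bijective_of_isIntegral (k := k) (K := A ⧸ m)).2
      (Ideal.Quotient.mk m x)
    have hxc : x - algebraMap k A c ∈ m := by
      rw [← Ideal.Quotient.eq, ← hc]
      rfl
    have hmem : ∀ n : ℕ, x - algebraMap k A c ∈ m ^ (p ^ n) := by
      intro n
      obtain ⟨a, ha⟩ := hx n
      obtain ⟨cn, hcn⟩ := IsAlgClosed.exists_pow_nat_eq c (pow_pos hp.pos n)
      have h1 : x - algebraMap k A c = (a - algebraMap k A cn) ^ (p ^ n) := by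
        rw [sub_pow_char_pow, ha, ← map_pow, hcn]
      rw [h1]
      apply Ideal.pow_mem_pow
      apply hm.isPrime.mem_of_pow_mem (p ^ n)
      rw [← h1]
      exact hxc
    have hinf : x - algebraMap k A c ∈ (⨅ i : ℕ, m ^ i • ⊤ : Submodule A A) := by
      rw [Submodule.mem_iInf]
      intro i
      rw [smul_eq_mul, Ideal.mul_top]
      exact Ideal.pow_le_pow_right (Nat.lt_pow_self hp.one_lt).le (hmem i)
    obtain ⟨r, hr⟩ := (Ideal.mem_iInf_smul_pow_eq_bot_iff m _).mp hinf
    refine ⟨c, 1 - r, ?_, ?_⟩
    · intro h
      apply hm.ne_top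
      rw [Ideal.eq_top_iff_one]
      have := m.add_mem h r.2
      simpa using this
    · rw [sub_mul, one_mul, ← smul_eq_mul (a := (r : A)), hr, sub_self]
  -- Step 2: the annihilators of the `x - c` generate the unit ideal
  have step2 : Ideal.span {s : A | ∃ c : k, s * (x - algebraMap k A c) = 0} = ⊤ := by
    by_contra hne
    obtain ⟨m, hm, hle⟩ := Ideal.exists_le_maximal _ hne
    obtain ⟨c, s, hs, hsc⟩ := step1 m hm
    exact hs (hle (Ideal.subset_span ⟨c, hsc⟩))
  -- Step 3: `x` is a root of a split separable polynomial
  have step3 : ∀ y ∈ Ideal.span {s : A | ∃ c : k, s * (x - algebraMap k A c) = 0},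
      ∃ S : Finset k, y * ∏ c ∈ S, (x - algebraMap k A c) = 0 := by
    intro y hy
    induction hy using Submodule.span_induction with
    | mem s hs =>
      obtain ⟨c, hc⟩ := hs
      exact ⟨{c}, by rw [Finset.prod_singleton]; exact hc⟩
    | zero => exact ⟨∅, by simp⟩
    | add y z _ _ hy hz =>
      obtain ⟨S, hS⟩ := hy
      obtain ⟨S', hS'⟩ := hz
      refine ⟨S ∪ S', ?_⟩
      obtain ⟨d, hd⟩ := Finset.prod_dvd_prod_of_subset S (S ∪ S')
        (fun c => x - algebraMap k A c) Finset.subset_union_left
      obtain ⟨d', hd'⟩ := Finset.prod_dvd_prod_of_subset S' (S ∪ S')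
        (fun c => x - algebraMap k A c) Finset.subset_union_right
      rw [add_mul]
      nth_rewrite 1 [hd]
      rw [hd', ← mul_assoc, ← mul_assoc, hS, hS', zero_mul, zero_mul, add_zero]
    | smul a y _ hy =>
      obtain ⟨S, hS⟩ := hy
      exact ⟨S, by rw [smul_eq_mul, mul_assoc, hS, mul_zero]⟩
  -- Step 4: connectedness
  have step4 : ∀ S : Finset k, (∏ c ∈ S, (x - algebraMap k A c)) = 0 →
      ∃ c ∈ S, x = algebraMap k A c := by
    intro S
    induction S using Finset.induction_on with
    | empty =>
      intro h
      simp at h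
    | insert c0 S hc0 ih =>
      intro h
      rw [Finset.prod_insert hc0] at h
      have hcop : IsCoprime (x - algebraMap k A c0) (∏ c ∈ S, (x - algebraMap k A c)) := by
        apply IsCoprime.prod_right
        intro c hc
        have hne : c0 - c ≠ 0 := sub_ne_zero.mpr (fun h => hc0 (h ▸ hc))
        refine ⟨- algebraMap k A (c0 - c)⁻¹, algebraMap k A (c0 - c)⁻¹, ?_⟩
        have h1 : algebraMap k A (c0 - c)⁻¹ * algebraMap k A (c0 - c) = 1 := by
          rw [← map_mul, inv_mul_cancel₀ hne, map_one]
        rw [map_sub] at h1
        linear_combination h1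
      obtain ⟨a, b, hab⟩ := hcop
      have hau : a * (x - algebraMap k A c0) = 1 - b * ∏ c ∈ S, (x - algebraMap k A c) := by
        linear_combination hab
      have he : IsIdempotentElem (a * (x - algebraMap k A c0)) := by
        unfold IsIdempotentElem
        calc a * (x - algebraMap k A c0) * (a * (x - algebraMap k A c0))
            = a * (x - algebraMap k A c0) * (1 - b * ∏ c ∈ S, (x - algebraMap k A c)) := by
              rw [← hau]
          _ = a * (x - algebraMap k A c0) -
              a * b * ((x - algebraMap k A c0) * ∏ c ∈ S, (x - algebraMap k A c)) := by ring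
          _ = a * (x - algebraMap k A c0) := by rw [h]; ring
      rcases hconn _ he with h0 | h1
      · have hbv : b * ∏ c ∈ S, (x - algebraMap k A c) = 1 := by
          rw [h0, zero_add] at hab
          exact hab
        have hu : x - algebraMap k A c0 = 0 := by
          calc x - algebraMap k A c0
              = (x - algebraMap k A c0) * (b * ∏ c ∈ S, (x - algebraMap k A c)) := by
                rw [hbv, mul_one]
            _ = b * ((x - algebraMap k A c0) * ∏ c ∈ S, (x - algebraMap k A c)) := by ring
            _ = 0 := by rw [h, mul_zero]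
        exact ⟨c0, Finset.mem_insert_self _ _, sub_eq_zero.mp hu⟩
      · have hv : (∏ c ∈ S, (x - algebraMap k A c)) = 0 := by
          calc (∏ c ∈ S, (x - algebraMap k A c))
              = (a * (x - algebraMap k A c0)) * ∏ c ∈ S, (x - algebraMap k A c) := by
                rw [h1, one_mul]
            _ = a * ((x - algebraMap k A c0) * ∏ c ∈ S, (x - algebraMap k A c)) := by ring
            _ = 0 := by rw [h, mul_zero]
        obtain ⟨c, hc, hxc⟩ := ih hv
        exact ⟨c, Finset.mem_insert_of_mem hc, hxc⟩
  obtain ⟨S, hS⟩ := step3 1 (by rw [step2]; trivial)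
  rw [one_mul] at hS
  obtain ⟨c, _, hc⟩ := step4 S hS
  exact ⟨c, hc.symm⟩

end Groth.Agent.S13048
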