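import Groth.Statements.S13049
import Mathlib
-- import your own Groth.Agent.* helpers here

set_option autoImplicit false
universe u
open FrobAlg

namespace Groth.Agent.S13049

/-- Let p be a prime and A a commutative ring of characteristic p whose nilradical N satisfies x^(p^e) =
0 for all x ∈ N and some fixed e (for instance A Noetherian). Then the map between the inverse-limit
perfections along the absolute Frobenius, lim (⋯ → A → A) → lim (⋯ → A/N → A/N), induced by the
projection A → A/N, is bijective. (The published argument takes A of finite type over a field, where
the nilradical is finitely generated; this row assumes only that the nilradical is killed by one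
fixed iterate of Frobenius, which is all that argument uses.) -/
theorem result
    (p : ℕ) [Fact p.Prime] (A : Type u) [CommRing A] [CharP A p]
    [CharP (A ⧸ nilradical A) p] (e : ℕ) (he : ∀ x ∈ nilradical A, x ^ p ^ e = 0) :
    Function.Bijective (Perfection.map p (Ideal.Quotient.mk (nilradical A))) := by
  have key : ∀ x y : A, Ideal.Quotient.mk (nilradical A) x = Ideal.Quotient.mk (nilradical A) y →
      x ^ p ^ e = y ^ p ^ e := by
    intro x y h
    have hxy : x - y ∈ nilradical A := Ideal.Quotient.eq.1 h
    have h0 := he _ hxy
    rw [sub_pow_char_pow] at h0
    exact sub_eq_zero.1 h0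
  have hpow : ∀ (B : Type u) [CommRing B] [CharP B p] (f : Perfection B p) (n : ℕ),
      (Perfection.coeff B p (n + e) f) ^ p ^ e = Perfection.coeff B p n f := by
    intro B _ _ f n
    rw [← map_pow]
    exact Perfection.coeffMonoidHom_pow_p_pow f n e
  constructor
  · intro f g h
    ext n
    have h1 : Ideal.Quotient.mk (nilradical A) (Perfection.coeff A p (n + e) f) =
        Ideal.Quotient.mk (nilradical A) (Perfection.coeff A p (n + e) g) := by
      have := congrArg (Perfection.coeff _ p (n + e)) h
      simpa using this
    have h2 := key _ _ h1
    rwa [hpow, hpow] at h2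
  · intro g
    choose l hl using fun n : ℕ => Ideal.Quotient.mk_surjective (Perfection.coeff _ p n g)
    have hf : ∀ n, ((l (n + 1 + e)) ^ p ^ e) ^ p = (l (n + e)) ^ p ^ e := by
      intro n
      rw [← pow_mul, mul_comm, pow_mul]
      apply key
      rw [map_pow, hl, hl]
      have : n + 1 + e = n + e + 1 := by ring
      rw [this]
      exact Perfection.coeff_pow_p' g (n + e)
    refine ⟨⟨fun n => (l (n + e)) ^ p ^ e, hf⟩, ?_⟩
    ext n
    rw [Perfection.coeff_map, Perfection.coeff_mk, map_pow, hl, hpow]

end Groth.Agent.S13049
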