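import Groth.Statements.S1305
import Mathlib
import Groth.Agent.Lib.Helper22ThickAffine

set_option autoImplicit false
universe u
open FlatMor

namespace Groth.Agent.S1305

open AlgebraicGeometry CategoryTheory Limits in
theorem affine_of_thick {X X' S S' : Scheme.{u}} (iX : X ⟶ X') (iS : S ⟶ S') (f : X ⟶ S)
    (f' : X' ⟶ S') [IsClosedImmersion iX] [Surjective iX] [IsClosedImmersion iS]
    (w : iX ≫ f' = f ≫ iS) [IsAffineHom f] : IsAffineHom f' := by
  refine ⟨fun U' hU' => ?_⟩
  have hV : IsAffineOpen (iX ⁻¹ᵁ f' ⁻¹ᵁ U') := by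
    rw [← Scheme.Hom.comp_preimage, w, Scheme.Hom.comp_preimage]
    exact (hU'.preimage iS).preimage f
  have : IsAffine (iX ⁻¹ᵁ f' ⁻¹ᵁ U').toScheme := hV
  have hsurj : Surjective (iX ∣_ (f' ⁻¹ᵁ U')) := IsZariskiLocalAtTarget.restrict ‹Surjective iX› _
  exact Groth.Agent.Lib.Helper22.ThickAffine.isAffine_of_thickening (iX ∣_ (f' ⁻¹ᵁ U')) hsurj.surj

open AlgebraicGeometry CategoryTheory Limits in
/-- For a morphism of thickenings, that is a commutative square whose horizontal maps are thickenings
(closed immersions that are surjective on points), the morphism between the thin schemes is integral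
if and only if the morphism between the thick ones is. -/
theorem result {X X' S S' : Scheme.{u}} (iX : X ⟶ X') (iS : S ⟶ S') (f : X ⟶ S) (f' : X' ⟶ S')
    (hX : MoreMor.IsThickening iX) (hS : MoreMor.IsThickening iS) (w : iX ≫ f' = f ≫ iS) :
    IsIntegralHom f ↔ IsIntegralHom f' := by
  obtain ⟨hX1, hX2⟩ := hX
  obtain ⟨hS1, hS2⟩ := hS
  constructor
  · intro hf
    rw [IsIntegralHom.iff_universallyClosed_and_isAffineHom]
    refine ⟨?_, affine_of_thick iX iS f f' w⟩
    have : UniversallyClosed (iX ≫ f') := by rw [w]; infer_instance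
    exact UniversallyClosed.of_comp_surjective iX f'
  · intro hf'
    have : IsIntegralHom (f ≫ iS) := by rw [← w]; infer_instance
    exact IsIntegralHom.of_comp f iS

end Groth.Agent.S1305
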