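import Groth.Statements.S13051
import Mathlib
import Groth.Agent.Lib.Helper27LogDeriv2

set_option autoImplicit false
universe u
open CategoryTheory AlgebraicGeometry
open Zeta

namespace Groth.Agent.S13051

/-- For a scheme X of finite type over a finite field k, Z(X, t) = ∏ over the closed points x of (1 −
t^{deg x})^{−1}, that is ∏_{r ≥ 1} (1 − t^r)^{−a_r} with a_r the number of closed points of residue
degree r; equivalently, for every n the product Z(X, t) · ∏_{r = 1}^{n} (1 − t^r)^{a_r} is ≡ 1
modulo t^{n+1}. In particular Z(X, t) has integer coefficients. (Stated for any scheme of finite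
type over k; reducedness plays no role.) -/
theorem result {k : Type u} [Field k] [Finite k] {X : Scheme.{u}}
    (f : X ⟶ Spec (CommRingCat.of k)) [LocallyOfFiniteType f] [QuasiCompact f] :
    (∀ n : ℕ, PowerSeries.trunc (n + 1)
        (Zeta.zetaFun f * ∏ r ∈ Finset.Icc 1 n, (1 - PowerSeries.X ^ r) ^ Zeta.degCount f r) = 1) ∧
      ∀ n : ℕ, ∃ z : ℤ, PowerSeries.coeff n (Zeta.zetaFun f) = (z : ℚ) := by
  classical
  have hL : PowerSeries.constantCoeff (Zeta.logZeta f) = 0 := by
    rw [← PowerSeries.coeff_zero_eq_constantCoeff_apply, Zeta.logZeta, PowerSeries.coeff_mk]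
    simp
  have hE : Groth.Agent.Lib.Helper27LogDeriv.LD (Zeta.zetaFun f)
      (PowerSeries.derivative ℚ (Zeta.logZeta f)) :=
    Groth.Agent.Lib.Helper27LogDeriv.LD.exp_subst _ hL
  have hE0 : PowerSeries.coeff 0 (Zeta.zetaFun f) = 1 :=
    Groth.Agent.Lib.Helper27LogDeriv.coeff_zero_exp_subst _ hL
  have hdL : ∀ m : ℕ, PowerSeries.coeff m (PowerSeries.derivative ℚ (Zeta.logZeta f)) =
      (Zeta.nPts f (m + 1) : ℚ) := by
    intro m
    rw [PowerSeries.coeff_derivative, Zeta.logZeta, PowerSeries.coeff_mk]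
    have h1 : ((m + 1 : ℕ) : ℚ) ≠ 0 := by positivity
    rw [show ((m : ℚ) + 1) = ((m + 1 : ℕ) : ℚ) by push_cast; ring, div_mul_cancel₀ _ h1]
  -- the key vanishing statement
  have key : ∀ n : ℕ,
      PowerSeries.coeff 0 (Zeta.zetaFun f * ∏ r ∈ Finset.Icc 1 n,
        (1 - PowerSeries.X ^ r : PowerSeries ℚ) ^ Zeta.degCount f r) = 1 ∧
      ∀ i : ℕ, 1 ≤ i → i ≤ n → PowerSeries.coeff i (Zeta.zetaFun f * ∏ r ∈ Finset.Icc 1 n,
        (1 - PowerSeries.X ^ r : PowerSeries ℚ) ^ Zeta.degCount f r) = 0 := by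
    intro n
    have hA : Groth.Agent.Lib.Helper27LogDeriv.LD (∏ r ∈ Finset.Icc 1 n,
        (1 - PowerSeries.X ^ r : PowerSeries ℚ) ^ Zeta.degCount f r)
        (∑ r ∈ Finset.Icc 1 n, Zeta.degCount f r • Groth.Agent.Lib.Helper27LogDeriv.K r) :=
      Groth.Agent.Lib.Helper27LogDeriv.LD.prod _ _ _ (fun r hr =>
        (Groth.Agent.Lib.Helper27LogDeriv.LD.one_sub_X_pow r (Finset.mem_Icc.mp hr).1).pow _)
    have hU := hE.mul hA
    refine ⟨?_, ?_⟩
    · rw [PowerSeries.coeff_zero_eq_constantCoeff_apply, map_mul,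
        ← PowerSeries.coeff_zero_eq_constantCoeff_apply, hE0, one_mul, map_prod]
      refine Finset.prod_eq_one (fun r hr => ?_)
      have hr1 : r ≠ 0 := by
        have := (Finset.mem_Icc.mp hr).1
        omega
      simp [hr1]
    · refine hU.coeff_eq_zero n ?_
      intro m hm
      rw [map_add, hdL, map_sum]
      have h1 : ∀ r ∈ Finset.Icc 1 n, PowerSeries.coeff m
          (Zeta.degCount f r • Groth.Agent.Lib.Helper27LogDeriv.K r) =
          if r ∣ m + 1 then -((r * Zeta.degCount f r : ℕ) : ℚ) else 0 := by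
        intro r _
        rw [map_nsmul, Groth.Agent.Lib.Helper27LogDeriv.K, PowerSeries.coeff_mk]
        split_ifs
        · rw [nsmul_eq_mul]
          push_cast
          ring
        · rw [smul_zero]
      rw [Finset.sum_congr rfl h1, ← Finset.sum_filter, Finset.sum_neg_distrib, Zeta.nPts]
      have h2 : (m + 1).divisors = Finset.filter (fun r => r ∣ m + 1) (Finset.Icc 1 n) := by
        ext r
        rw [Nat.mem_divisors, Finset.mem_filter, Finset.mem_Icc]
        constructor
        · rintro ⟨h3, _⟩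
          have h4 := Nat.le_of_dvd (by omega) h3
          have h5 : r ≠ 0 := by
            rintro rfl
            simp at h3
          exact ⟨⟨by omega, by omega⟩, h3⟩
        · rintro ⟨_, h3⟩
          exact ⟨h3, by omega⟩
      rw [h2]
      push_cast
      ring
  refine ⟨fun n => ?_, fun n => ?_⟩
  · obtain ⟨h0, h1⟩ := key n
    ext i
    rw [PowerSeries.coeff_trunc, Polynomial.coeff_one]
    by_cases hi : i < n + 1
    · rw [if_pos hi]
      by_cases hi0 : i = 0
      · rw [hi0, h0, if_pos rfl]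
      · rw [h1 i (by omega) (by omega), if_neg hi0]
    · rw [if_neg hi, if_neg (by omega)]
  · obtain ⟨h0, h1⟩ := key n
    set Aint : PowerSeries ℤ := ∏ r ∈ Finset.Icc 1 n,
      (1 - PowerSeries.X ^ r : PowerSeries ℤ) ^ Zeta.degCount f r with hAint
    have hA0 : PowerSeries.constantCoeff Aint = 1 := by
      rw [hAint, map_prod]
      refine Finset.prod_eq_one (fun r hr => ?_)
      have hr1 : r ≠ 0 := by
        have := (Finset.mem_Icc.mp hr).1
        omega
      simp [hr1]
    have hAB : Aint * PowerSeries.invOfUnit Aint 1 = 1 :=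
      PowerSeries.mul_invOfUnit Aint 1 (by rw [hA0]; rfl)
    have hmap : PowerSeries.map (Int.castRingHom ℚ) Aint = ∏ r ∈ Finset.Icc 1 n,
        (1 - PowerSeries.X ^ r : PowerSeries ℚ) ^ Zeta.degCount f r := by
      rw [hAint, map_prod]
      refine Finset.prod_congr rfl (fun r _ => ?_)
      rw [map_pow, map_sub, map_one, map_pow, PowerSeries.map_X]
    have hAB' : (∏ r ∈ Finset.Icc 1 n,
        (1 - PowerSeries.X ^ r : PowerSeries ℚ) ^ Zeta.degCount f r) *
        PowerSeries.map (Int.castRingHom ℚ) (PowerSeries.invOfUnit Aint 1) = 1 := by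
      rw [← hmap, ← map_mul, hAB, map_one]
    refine ⟨PowerSeries.coeff n (PowerSeries.invOfUnit Aint 1), ?_⟩
    have h2 : Zeta.zetaFun f = (Zeta.zetaFun f * ∏ r ∈ Finset.Icc 1 n,
        (1 - PowerSeries.X ^ r : PowerSeries ℚ) ^ Zeta.degCount f r) *
        PowerSeries.map (Int.castRingHom ℚ) (PowerSeries.invOfUnit Aint 1) := by
      rw [mul_assoc, hAB', mul_one]
    rw [h2, PowerSeries.coeff_mul, Finset.sum_eq_single (0, n)]
    · rw [h0, one_mul, PowerSeries.coeff_map]
      rfl
    · rintro ⟨i, j⟩ hij hne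
      have hij' := Finset.HasAntidiagonal.mem_antidiagonal.mp hij
      have hi : i ≠ 0 := by
        rintro rfl
        apply hne
        simp only [zero_add] at hij'
        rw [hij']
      rw [h1 i (by omega) (by simp only at hij'; omega), zero_mul]
    · intro h
      exact absurd (Finset.HasAntidiagonal.mem_antidiagonal.mpr (by simp)) h

end Groth.Agent.S13051
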