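import Groth.Statements.S13052
import Mathlib
import Groth.Agent.Lib.Helper10ZetaMult
-- import your own Groth.Agent.* helpers here

set_option autoImplicit false
universe u
open CategoryTheory AlgebraicGeometry
open Zeta

namespace Groth.Agent.S13052

/-- If X is a scheme of finite type over a finite field k, Y ↪ X a closed subscheme and U = X ∖ Y its
open complement, then Z(X, t) = Z(Y, t) · Z(U, t). Here Y is any scheme with a closed immersion into
X whose image is the complement of U (its scheme structure plays no role), and Y, U are k-schemes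
through X. -/
theorem result {k : Type u} [Field k] [Finite k]
    {X Y : Scheme.{u}} (f : X ⟶ Spec (CommRingCat.of k)) [LocallyOfFiniteType f] [QuasiCompact f]
    (U : X.Opens) (i : Y ⟶ X) [IsClosedImmersion i] (hY : Set.range i.base = (U : Set X)ᶜ) :
    Zeta.zetaFun f = Zeta.zetaFun (i ≫ f) * Zeta.zetaFun (U.ι ≫ f) := by
  classical
  let Y' : ULift.{u} Bool → Scheme.{u} := fun b => Bool.rec (U : Scheme.{u}) Y b.down
  let g' : ∀ b, Y' b ⟶ X := fun b => match b with
    | ⟨true⟩ => i
    | ⟨false⟩ => U.ι
  have hI : ∀ b, IsImmersion (g' b) := by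
    rintro ⟨_ | _⟩
    · exact inferInstanceAs (IsImmersion U.ι)
    · exact inferInstanceAs (IsImmersion i)
  have hpart : ∀ x : X, IsClosed ({x} : Set X) → ∃! b, x ∈ Set.range (g' b).base := by
    intro x _
    by_cases hx : x ∈ (U : Set X)
    · refine ⟨⟨false⟩, ?_, ?_⟩
      · change x ∈ Set.range U.ι.base
        rw [Scheme.Opens.range_ι]
        exact hx
      · rintro ⟨_ | _⟩ hb
        · rfl
        · exfalso
          have : x ∈ Set.range i.base := hb
          rw [hY] at this
          exact this hx
    · refine ⟨⟨true⟩, ?_, ?_⟩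
      · change x ∈ Set.range i.base
        rw [hY]
        exact hx
      · rintro ⟨_ | _⟩ hb
        · exfalso
          have : x ∈ Set.range U.ι.base := hb
          rw [Scheme.Opens.range_ι] at this
          exact hx this
        · rfl
  have h := @Groth.Agent.Lib.Helper10.ZetaMult.zetaFun_eq_prod k _ _ X f _ _ (ULift.{u} Bool) _ Y' g' hI hpart
  rw [h, ← Equiv.ulift.symm.prod_comp, Fintype.prod_bool]
  rfl

end Groth.Agent.S13052
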