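import Groth.Statements.S13057
import Mathlib
-- import your own Groth.Agent.* helpers here

set_option autoImplicit false
universe u
open Zeta

namespace Groth.Agent.S13057


/-- The polynomial `∑ j, c j * X ^ (N - j)`. -/
noncomputable def polyOf {L : Type u} [Field L] {N : ℕ} (c : Fin (N + 1) → L) : Polynomial L :=
  ∑ j : Fin (N + 1), Polynomial.C (c j) * Polynomial.X ^ ((Fin.rev j : Fin (N + 1)) : ℕ)

theorem coeff_mul_polyOf {L : Type u} [Field L] {N : ℕ} (f : PowerSeries L)
    (c : Fin (N + 1) → L) (i : ℕ) :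
    PowerSeries.coeff (i + N) (f * (polyOf c : PowerSeries L)) =
      ∑ j : Fin (N + 1), c j * PowerSeries.coeff (i + (j : ℕ)) f := by
  unfold polyOf
  rw [← Polynomial.coeToPowerSeries.ringHom_apply, map_sum, Finset.mul_sum, map_sum]
  simp only [Polynomial.coeToPowerSeries.ringHom_apply]
  apply Finset.sum_congr rfl
  intro j _
  rw [Polynomial.coe_mul, Polynomial.coe_C, Polynomial.coe_pow, Polynomial.coe_X,
    mul_left_comm, PowerSeries.coeff_C_mul, PowerSeries.coeff_mul_X_pow']
  have hj : ((Fin.rev j : Fin (N + 1)) : ℕ) = N - j := by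
    rw [Fin.val_rev]; omega
  have hjN : (j : ℕ) ≤ N := Nat.lt_succ_iff.1 j.2
  rw [hj, if_pos (by omega)]
  have h3 : i + N - (N - (j : ℕ)) = i + (j : ℕ) := by omega
  rw [h3]

theorem coeff_polyOf_rev {L : Type u} [Field L] {N : ℕ} (c : Fin (N + 1) → L) (j0 : Fin (N + 1)) :
    (polyOf c).coeff ((Fin.rev j0 : Fin (N + 1)) : ℕ) = c j0 := by
  unfold polyOf
  rw [Polynomial.finsetSum_coeff]
  rw [Finset.sum_eq_single j0]
  · simp
  · intro j _ hj
    rw [Polynomial.coeff_C_mul, Polynomial.coeff_X_pow, if_neg, mul_zero]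
    intro h
    exact hj (Fin.rev_injective (Fin.ext h)).symm
  · intro h; exact absurd (Finset.mem_univ _) h

theorem polyOf_coeff_rev {L : Type u} [Field L] (Q : Polynomial L) :
    polyOf (N := Q.natDegree) (fun j => Q.coeff ((Fin.rev j : Fin (Q.natDegree + 1)) : ℕ)) = Q := by
  unfold polyOf
  rw [← Equiv.sum_comp Fin.revPerm]
  simp only [Fin.revPerm_apply, Fin.rev_rev]
  rw [Fin.sum_univ_eq_sum_range (fun k => Polynomial.C (Q.coeff k) * Polynomial.X ^ k)
    (Q.natDegree + 1)]
  exact (Polynomial.as_sum_range_C_mul_X_pow Q).symm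

/-- A power series f = ∑_{m ≥ 0} a_m t^m over a field L lies in L(t), i.e. f · Q = P for some
polynomials P, Q with Q ≠ 0, if and only if there are natural numbers M, N such that the vectors
(a_i, a_{i+1}, …, a_{i+N}) ∈ L^{N+1}, i ≥ M, span a proper subspace. -/
theorem result {L : Type u} [Field L]
    (f : PowerSeries L) :
    (∃ P Q : Polynomial L, Q ≠ 0 ∧ f * (Q : PowerSeries L) = (P : PowerSeries L)) ↔
      ∃ M N : ℕ, Submodule.span L
          {v : Fin (N + 1) → L | ∃ i : ℕ, M ≤ i ∧ v = fun j : Fin (N + 1) => PowerSeries.coeff (i + (j : ℕ)) f} ≠ ⊤ := by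
  constructor
  · rintro ⟨P, Q, hQ, h⟩
    refine ⟨P.natDegree + 1, Q.natDegree, ?_⟩
    set N := Q.natDegree with hN
    set c : Fin (N + 1) → L := fun j => Q.coeff ((Fin.rev j : Fin (N + 1)) : ℕ) with hc
    have hQc : polyOf c = Q := polyOf_coeff_rev Q
    let ψ : (Fin (N + 1) → L) →ₗ[L] L := ∑ j : Fin (N + 1), c j • LinearMap.proj j
    have hψ : ∀ v, ψ v = ∑ j : Fin (N + 1), c j * v j := by
      intro v
      simp [ψ, LinearMap.sum_apply]
    intro htop
    have hle : Submodule.span L
        {v : Fin (N + 1) → L | ∃ i : ℕ, P.natDegree + 1 ≤ i ∧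
          v = fun j : Fin (N + 1) => PowerSeries.coeff (i + (j : ℕ)) f} ≤ LinearMap.ker ψ := by
      rw [Submodule.span_le]
      rintro v ⟨i, hi, rfl⟩
      rw [SetLike.mem_coe, LinearMap.mem_ker, hψ, ← coeff_mul_polyOf, hQc, h, Polynomial.coeff_coe]
      exact Polynomial.coeff_eq_zero_of_natDegree_lt (by omega)
    rw [htop, top_le_iff] at hle
    have h0 : ψ (Pi.single 0 1) = 0 := by
      have : (Pi.single 0 1 : Fin (N + 1) → L) ∈ LinearMap.ker ψ := by rw [hle]; trivial
      exact this
    rw [hψ, Finset.sum_eq_single 0] at h0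
    · simp only [Pi.single_eq_same, mul_one, hc] at h0
      have : ((Fin.rev (0 : Fin (N + 1)) : Fin (N + 1)) : ℕ) = N := by
        rw [Fin.val_rev]; simp
      rw [this] at h0
      exact hQ (Polynomial.leadingCoeff_eq_zero.1 h0)
    · intro j _ hj
      rw [Pi.single_eq_of_ne hj, mul_zero]
    · intro h; exact absurd (Finset.mem_univ _) h
  · rintro ⟨M, N, hne⟩
    obtain ⟨ψ, hψ0, hψ⟩ := Submodule.exists_le_ker_of_lt_top _ (lt_top_iff_ne_top.2 hne)
    set c : Fin (N + 1) → L := fun j => ψ (fun k => if j = k then 1 else 0) with hc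
    have hψv : ∀ v, ψ v = ∑ j : Fin (N + 1), c j * v j := by
      intro v
      rw [LinearMap.pi_apply_eq_sum_univ ψ v]
      apply Finset.sum_congr rfl
      intro j _
      rw [smul_eq_mul, mul_comm]
    obtain ⟨j0, hj0⟩ : ∃ j, c j ≠ 0 := by
      by_contra hno
      push Not at hno
      apply hψ0
      apply LinearMap.ext
      intro v
      rw [hψv]
      simp [hno]
    have hzero : ∀ n, M + N ≤ n → PowerSeries.coeff n (f * (polyOf c : PowerSeries L)) = 0 := by
      intro n hn
      obtain ⟨i, rfl⟩ : ∃ i, n = i + N := ⟨n - N, by omega⟩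
      rw [coeff_mul_polyOf, ← hψv]
      have : (fun j : Fin (N + 1) => PowerSeries.coeff (i + (j : ℕ)) f) ∈ LinearMap.ker ψ :=
        hψ (Submodule.subset_span ⟨i, by omega, rfl⟩)
      exact this
    refine ⟨PowerSeries.trunc (M + N) (f * (polyOf c : PowerSeries L)), polyOf c, ?_, ?_⟩
    · intro h0
      have := coeff_polyOf_rev c j0
      rw [h0, Polynomial.coeff_zero] at this
      exact hj0 this.symm
    · ext n
      rw [Polynomial.coeff_coe, PowerSeries.coeff_trunc]
      split_ifs with hn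
      · rfl
      · exact hzero n (by omega)

end Groth.Agent.S13057
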