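import Groth.Statements.S13058
import Mathlib
-- import your own Groth.Agent.* helpers here

set_option autoImplicit false
universe u v
open Zeta

namespace Groth.Agent.S13058


/-- Apply an `L`-linear functional coefficientwise to a polynomial over `L'`. -/
noncomputable def applyCoeff {L : Type u} {L' : Type v} [Field L] [Field L'] [Algebra L L']
    (φ : L' →ₗ[L] L) (Q : Polynomial L') : Polynomial L :=
  ∑ j ∈ Finset.range (Q.natDegree + 1), Polynomial.monomial j (φ (Q.coeff j))

theorem coeff_applyCoeff {L : Type u} {L' : Type v} [Field L] [Field L'] [Algebra L L']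
    (φ : L' →ₗ[L] L) (Q : Polynomial L') (n : ℕ) :
    (applyCoeff φ Q).coeff n = φ (Q.coeff n) := by
  unfold applyCoeff
  rw [Polynomial.finset_sum_coeff]
  simp only [Polynomial.coeff_monomial]
  rw [Finset.sum_ite_eq' (Finset.range (Q.natDegree + 1)) n]
  split_ifs with h
  · rfl
  · rw [Finset.mem_range, not_lt] at h
    rw [Polynomial.coeff_eq_zero_of_natDegree_lt (by omega), map_zero]

/-- If L'/L is a field extension, a power series f ∈ L⟦t⟧ belongs to L(t) exactly when it belongs to
L'(t); here membership in L(t) means f · Q = P for polynomials P, Q over the field in question with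
Q ≠ 0. -/
theorem result {L : Type u} {L' : Type v} [Field L] [Field L']
    [Algebra L L'] (f : PowerSeries L) :
    (∃ P Q : Polynomial L', Q ≠ 0 ∧
        PowerSeries.map (algebraMap L L') f * (Q : PowerSeries L') = (P : PowerSeries L')) ↔
      ∃ P Q : Polynomial L, Q ≠ 0 ∧ f * (Q : PowerSeries L) = (P : PowerSeries L) := by
  constructor
  · rintro ⟨P, Q, hQ, h⟩
    -- a nonzero coefficient of Q and a functional not killing it
    obtain ⟨j0, hj0⟩ : ∃ j, Q.coeff j ≠ 0 := by
      by_contra hno
      push Not at hno
      exact hQ (Polynomial.ext (by simpa using hno))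
    obtain ⟨φ, hφ⟩ : ∃ φ : L' →ₗ[L] L, φ (Q.coeff j0) ≠ 0 := by
      by_contra hno
      push Not at hno
      exact hj0 ((Module.forall_dual_apply_eq_zero_iff L (Q.coeff j0)).1 hno)
    refine ⟨applyCoeff φ P, applyCoeff φ Q, ?_, ?_⟩
    · intro h0
      have := congrArg (fun R => Polynomial.coeff R j0) h0
      simp only [coeff_applyCoeff, Polynomial.coeff_zero] at this
      exact hφ this
    · ext n
      have hn := congrArg (PowerSeries.coeff n) h
      rw [PowerSeries.coeff_mul] at hn ⊢
      simp only [Polynomial.coeff_coe, PowerSeries.coeff_map, coeff_applyCoeff] at hn ⊢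
      rw [← hn, map_sum]
      apply Finset.sum_congr rfl
      intro ij _
      rw [← Algebra.smul_def, map_smul, smul_eq_mul]
  · rintro ⟨P, Q, hQ, h⟩
    refine ⟨P.map (algebraMap L L'), Q.map (algebraMap L L'), ?_, ?_⟩
    · rwa [Ne, Polynomial.map_eq_zero]
    · have := congrArg (PowerSeries.map (algebraMap L L')) h
      rw [map_mul] at this
      simpa [Polynomial.polynomial_map_coe] using this

end Groth.Agent.S13058
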