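import Groth.Statements.S13059
import Mathlib


set_option autoImplicit false
universe u
open Zeta

namespace Groth.Agent.S13059

/-- Let B : V × W → K be a perfect pairing of finite-dimensional vector spaces over a field K, c ∈ K
nonzero, and f, g endomorphisms of V, W with B(f v, g w) = c · B(v, w) for all v, w. Then det(Id − t
g) = (−1)^r c^r t^r det(f)^{−1} det(Id − c^{−1} t^{−1} f) with r the common dimension; stated
cleared of denominators as det(f) · det(Id − t g) = (−1)^r c^r · det(t Id − c^{−1} f) in K[t],
det(Id − t g) being the reverse of the characteristic polynomial of g. -/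
theorem result (K : Type u) [Field K] (V W : Type u)
    [AddCommGroup V] [Module K V] [FiniteDimensional K V] [AddCommGroup W] [Module K W]
    [FiniteDimensional K W] (B : V →ₗ[K] W →ₗ[K] K) [B.IsPerfPair] (f : V →ₗ[K] V) (g : W →ₗ[K] W)
    (c : K) (hc : c ≠ 0) (hfg : ∀ (v : V) (w : W), B (f v) (g w) = c * B v w) :
    LinearMap.det f • (LinearMap.charpoly g).reverse =
      ((-1) ^ Module.finrank K W * c ^ Module.finrank K W) • (c⁻¹ • f).charpoly := by
  classical
  -- matrix computation
  have mat_key : ∀ {ι : Type u} [Fintype ι] [DecidableEq ι] (F H : Matrix ι ι K),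
      H * F = c • (1 : Matrix ι ι K) →
      F.det • H.charpoly.reverse =
        ((-1) ^ Fintype.card ι * c ^ Fintype.card ι) • (c⁻¹ • F).charpoly := by
    intro ι _ _ F H hHF
    rw [Matrix.reverse_charpoly, Matrix.charpolyRev, Matrix.charpoly, Polynomial.smul_eq_C_mul,
      Polynomial.smul_eq_C_mul]
    have h1 : (Polynomial.C F.det : Polynomial K) = (F.map Polynomial.C).det := by
      rw [RingHom.map_det, RingHom.mapMatrix_apply]
    have hcc : (Polynomial.C c * Polynomial.C c⁻¹ : Polynomial K) = 1 := by
      rw [← Polynomial.C_mul, mul_inv_cancel₀ hc, Polynomial.C_1]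
    have h2 : ((1 : Matrix ι ι (Polynomial K)) - (Polynomial.X : Polynomial K) • H.map Polynomial.C) *
        F.map Polynomial.C =
        (-(Polynomial.C c : Polynomial K)) • Matrix.charmatrix (c⁻¹ • F) := by
      have h3 : H.map Polynomial.C * F.map Polynomial.C =
          (Polynomial.C c : Polynomial K) • (1 : Matrix ι ι (Polynomial K)) := by
        rw [← Matrix.map_mul, hHF]
        refine Matrix.ext (fun i j => ?_)
        simp only [Matrix.map_apply, Matrix.smul_apply, Matrix.one_apply, smul_eq_mul]
        split_ifs <;> simp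
      rw [sub_mul, one_mul, Matrix.smul_mul, h3]
      refine Matrix.ext (fun i j => ?_)
      simp only [Matrix.sub_apply, Matrix.smul_apply, Matrix.map_apply, Matrix.charmatrix_apply,
        Matrix.one_apply, Matrix.diagonal_apply, smul_eq_mul, Polynomial.C_mul]
      split_ifs with hij
      · linear_combination (-(Polynomial.C (F i j))) * hcc
      · linear_combination (-(Polynomial.C (F i j))) * hcc
    rw [h1, mul_comm, ← Matrix.det_mul, h2, Matrix.det_smul]
    congr 1
    rw [neg_pow, ← Polynomial.C_pow]
    simp [mul_comm]
  have hdual : ∀ φ : W →ₗ[K] W, φ.dualMap.charpoly = φ.charpoly := by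
    intro φ
    set b := Module.Free.chooseBasis K W
    rw [← LinearMap.charpoly_toMatrix φ b, ← LinearMap.charpoly_toMatrix φ.dualMap b.dualBasis]
    simp [LinearMap.dualMap_def, LinearMap.toMatrix_transpose, Matrix.charpoly_transpose]
  set h : V →ₗ[K] V := B.toPerfPair.symm.conj g.dualMap with hh
  have hcp : h.charpoly = g.charpoly := by
    rw [hh, LinearEquiv.charpoly_conj, hdual]
  have hB : ∀ v w, B (h v) w = B v (g w) := by
    intro v w
    have h1 : h v = B.toPerfPair.symm (g.dualMap (B.toPerfPair v)) := by
      rw [hh, LinearEquiv.conj_apply]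
      simp
    rw [h1, B.apply_symm_toPerfPair_self, LinearMap.dualMap_apply]
    rfl
  have hhf : h ∘ₗ f = c • LinearMap.id := by
    ext v
    apply B.toPerfPair.injective
    ext w
    simp only [LinearMap.toPerfPair_apply, LinearMap.comp_apply, LinearMap.smul_apply,
      LinearMap.id_apply, map_smul]
    rw [hB, hfg]
    simp
  set b := Module.Free.chooseBasis K V with hb
  have hr : Module.finrank K W = Fintype.card (Module.Free.ChooseBasisIndex K V) := by
    rw [← Module.finrank_eq_card_chooseBasisIndex, Module.finrank_of_isPerfPair B]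
  rw [← hcp, ← LinearMap.charpoly_toMatrix h b, ← LinearMap.charpoly_toMatrix (c⁻¹ • f) b,
    ← LinearMap.det_toMatrix b f, hr, map_smul]
  apply mat_key
  rw [← LinearMap.toMatrix_comp, hhf, map_smul, LinearMap.toMatrix_id]

end Groth.Agent.S13059
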