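import Groth.Statements.S13060
import Mathlib
-- import your own Groth.Agent.* helpers here

set_option autoImplicit false
universe u v w x
open TensorProduct
open Zeta

namespace Groth.Agent.S13060

/-- Let k be a field, V and W vector spaces over k and G a group acting on V by k-linear automorphisms;
for the induced action on V ⊗_k W (trivial on W) one has (V ⊗_k W)^G = V^G ⊗_k W, i.e. the
invariants of V ⊗ W are the image of V^G ⊗ W → V ⊗ W. -/
theorem result {k : Type u} [Field k] {G : Type v} [Group G]
    {V : Type w} {W : Type x} [AddCommGroup V] [Module k V] [AddCommGroup W] [Module k W]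
    (ρ : Representation k G V) :
    (ρ.tprod (Representation.trivial k G W)).invariants =
      LinearMap.range (TensorProduct.map ρ.invariants.subtype (LinearMap.id : W →ₗ[k] W)) := by
  classical
  let b := Module.Free.chooseBasis k W
  let e := TensorProduct.equivFinsuppOfBasisRight (M := V) b
  ext x
  rw [Representation.mem_invariants, LinearMap.mem_range]
  constructor
  · intro hx
    have key : ∀ (g : G) (y : V ⊗[k] W) i,
        e ((ρ.tprod (Representation.trivial k G W)) g y) i = ρ g (e y i) := by
      intro g y i
      induction y using TensorProduct.induction_on with
      | zero => simp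
      | tmul v w =>
        simp [e, Representation.tprod_apply, TensorProduct.equivFinsuppOfBasisRight_apply_tmul_apply]
      | add y z hy hz => simp only [map_add, Finsupp.add_apply, hy, hz]
    have hinv : ∀ i, e x i ∈ ρ.invariants := fun i g => by rw [← key, hx g]
    refine ⟨∑ i ∈ (e x).support, (⟨e x i, hinv i⟩ : ρ.invariants) ⊗ₜ[k] b i, ?_⟩
    rw [map_sum]
    simp only [TensorProduct.map_tmul, Submodule.subtype_apply, LinearMap.id_apply]
    have := TensorProduct.equivFinsuppOfBasisRight_symm_apply (M := V) b (e x)
    rw [LinearEquiv.symm_apply_apply] at this
    exact this.symm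
  · rintro ⟨y, rfl⟩ g
    induction y using TensorProduct.induction_on with
    | zero => simp
    | tmul v w =>
      simp only [TensorProduct.map_tmul, Submodule.subtype_apply, LinearMap.id_apply,
        Representation.tprod_apply, Representation.trivial_apply]
      rw [v.2 g]
    | add y z hy hz => simp only [map_add, hy, hz]

end Groth.Agent.S13060
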