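import Groth.Statements.S13061
import Mathlib
-- import your own Groth.Agent.* helpers here

set_option autoImplicit false
universe u v w
open Zeta

namespace Groth.Agent.S13061


theorem aux {k : Type u} [Field k]
    {A : Type v} [CommRing A] [Algebra k A] {G : Type w} [Group G] [Finite G]
    [MulSemiringAction G A] [SMulCommClass G k A] (I : Ideal A)
    (hI : ∀ (g : G) (a : A), a ∈ I → g • a ∈ I) (u : A) (hu : ∀ g : G, g • u - u ∈ I)
    (P : Subgroup G) (hm : ((P.index : ℕ) : k) ≠ 0) :
    ∃ a : A, (∀ g : G, g • a = a) ∧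
      Ideal.Quotient.mk I a = Ideal.Quotient.mk I u ^ (Nat.card P) := by
  classical
  haveI : Fintype G := Fintype.ofFinite G
  haveI : Fintype P := Fintype.ofFinite P
  haveI : Fintype (G ⧸ P) := Fintype.ofFinite _
  have ha : ∀ g : G, Ideal.Quotient.mk I (g • u) = Ideal.Quotient.mk I u :=
    fun g => Ideal.Quotient.eq.2 (hu g)
  let N : A := ∏ h : P, (h : G) • u
  have hN : ∀ σ : G, σ • N = ∏ h : P, (σ * (h : G)) • u := by
    intro σ
    show MulSemiringAction.toRingHom G A σ N = _
    rw [map_prod]
    simp [mul_smul]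
  have hNP : ∀ g : P, (g : G) • N = N := by
    intro g
    rw [hN]
    exact Fintype.prod_equiv (Equiv.mulLeft g) _ _ (fun h => by simp)
  have hπN : ∀ σ : G, Ideal.Quotient.mk I (σ • N) = Ideal.Quotient.mk I u ^ Nat.card P := by
    intro σ
    rw [hN, map_prod]
    simp [ha, Nat.card_eq_fintype_card]
  let φ : G ⧸ P → A := Quotient.lift (fun σ : G => σ • N) (by
    intro σ τ h
    have hmem : σ⁻¹ * τ ∈ P := QuotientGroup.leftRel_apply.1 h
    show σ • N = τ • N
    calc σ • N = σ • (((⟨σ⁻¹ * τ, hmem⟩ : P) : G) • N) := by rw [hNP]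
      _ = τ • N := by rw [smul_smul]; simp)
  have hφ : ∀ (g σ : G), g • φ (σ : G ⧸ P) = φ ((g * σ : G) : G ⧸ P) := by
    intro g σ
    show g • σ • N = (g * σ) • N
    rw [mul_smul]
  refine ⟨((P.index : ℕ) : k)⁻¹ • ∑ x : G ⧸ P, φ x, ?_, ?_⟩
  · intro g
    rw [smul_comm, Finset.smul_sum]
    congr 1
    rw [← Equiv.sum_comp (MulAction.toPerm g : Equiv.Perm (G ⧸ P)) φ]
    apply Finset.sum_congr rfl
    intro x _
    induction x using QuotientGroup.induction_on with
    | H σ => exact hφ g σ
  · have h1 : Ideal.Quotient.mk I (∑ x : G ⧸ P, φ x) =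
        (P.index) • (Ideal.Quotient.mk I u ^ Nat.card P) := by
      rw [map_sum]
      have : ∀ x ∈ (Finset.univ : Finset (G ⧸ P)),
          Ideal.Quotient.mk I (φ x) = Ideal.Quotient.mk I u ^ Nat.card P := by
        intro x _
        induction x using QuotientGroup.induction_on with
        | H σ => exact hπN σ
      rw [Finset.sum_congr rfl this, Finset.sum_const, Finset.card_univ, Subgroup.index_eq_card,
        Nat.card_eq_fintype_card, Nat.card_eq_fintype_card]
    have h2 : Ideal.Quotient.mk I (((P.index : ℕ) : k)⁻¹ • ∑ x : G ⧸ P, φ x) =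
        ((P.index : ℕ) : k)⁻¹ • Ideal.Quotient.mk I (∑ x : G ⧸ P, φ x) :=
      map_smul (Ideal.Quotient.mkₐ k I) _ _
    rw [h2, h1, ← Nat.cast_smul_eq_nsmul k, inv_smul_smul₀ hm]

/-- Let A be a commutative algebra over a field k, G a finite group acting on A by k-algebra
automorphisms and I ⊆ A an ideal preserved by G. If p^n is the largest power of p = char(k) dividing
|G| (with p^n = 1 when char(k) = 0), then for every G-invariant b ∈ A/I the power b^{p^n} lies in
the image of A^G → (A/I)^G. (The published statement takes A finitely generated over k, which the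
proof does not use.) -/
theorem result {k : Type u} [Field k]
    {A : Type v} [CommRing A] [Algebra k A] {G : Type w} [Group G] [Finite G]
    [MulSemiringAction G A] [SMulCommClass G k A] (I : Ideal A)
    (hI : ∀ (g : G) (a : A), a ∈ I → g • a ∈ I) (u : A) (hu : ∀ g : G, g • u - u ∈ I) :
    ∃ a : A, (∀ g : G, g • a = a) ∧
      Ideal.Quotient.mk I a =
        Ideal.Quotient.mk I u ^ (ringChar k ^ (Nat.card G).factorization (ringChar k)) := by
  rcases CharP.char_is_prime_or_zero k (ringChar k) with hp | hp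
  · haveI : Fact (ringChar k).Prime := ⟨hp⟩
    obtain ⟨P⟩ : Nonempty (Sylow (ringChar k) G) := inferInstance
    have hidx : ((P.index : ℕ) : k) ≠ 0 := by
      rw [Ne, CharP.cast_eq_zero_iff k (ringChar k)]
      exact P.not_dvd_index
    obtain ⟨a, ha1, ha2⟩ := aux I hI u hu (P : Subgroup G) hidx
    refine ⟨a, ha1, ?_⟩
    rw [ha2]
    congr 1
    exact P.card_eq_multiplicity
  · obtain ⟨a, ha1, ha2⟩ := aux I hI u hu (⊥ : Subgroup G) (by
      haveI : CharZero k := by
        haveI : CharP k 0 := hp ▸ ringChar.charP k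
        exact CharP.charP_to_charZero k
      rw [Subgroup.index_bot]
      exact (Nat.cast_ne_zero (R := k)).2 Nat.card_pos.ne')
    refine ⟨a, ha1, ?_⟩
    rw [ha2, hp]
    simp

end Groth.Agent.S13061
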