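import Groth.Statements.S13065
import Mathlib
-- import your own Groth.Agent.* helpers here

set_option autoImplicit false
universe u
open Zeta

namespace Groth.Agent.S13065

open Finset in
theorem sum_pow_all (K : Type u) [Field K] [Fintype K] [DecidableEq K] (e : ℕ) :
    ∑ x : K, x ^ e = if e ≠ 0 ∧ (Fintype.card K - 1) ∣ e then -1 else 0 := by
  by_cases hi : e = 0
  · simp only [hi, nsmul_one, sum_const, pow_zero, card_univ, FiniteField.cast_card_eq_zero]
    simp
  let φ : Kˣ ↪ K := ⟨fun x ↦ x, Units.val_injective⟩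
  have : univ.map φ = univ \ {0} := by
    ext x
    simp only [mem_map, mem_univ, Function.Embedding.coeFn_mk, true_and, mem_sdiff,
      mem_singleton, φ]
    constructor
    · rintro ⟨u, rfl⟩
      exact u.ne_zero
    · intro hx
      exact ⟨Units.mk0 x hx, rfl⟩
  calc
    ∑ x : K, x ^ e = ∑ x ∈ univ \ {(0 : K)}, x ^ e := by
      rw [← sum_sdiff ({0} : Finset K).subset_univ, sum_singleton, zero_pow hi, add_zero]
    _ = ∑ x : Kˣ, (x ^ e : K) := by simp [φ, ← this, univ.sum_map φ]
    _ = _ := by rw [FiniteField.sum_pow_units K e]; simp [hi]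

open Finset in
theorem sum_eval_pow (K : Type u) [Field K] [Fintype K] [DecidableEq K] (n : ℕ)
    (F : MvPolynomial (Fin (n + 1)) K)
    (hF : F.IsHomogeneous ((n + 1) * (Fintype.card K - 1))) :
    ∑ a : Fin (n + 1) → K, MvPolynomial.eval a F =
      (-1) ^ (n + 1) * MvPolynomial.coeff
        (Finsupp.equivFunOnFinite.symm fun _ : Fin (n + 1) => Fintype.card K - 1) F := by
  have hq : 1 ≤ Fintype.card K - 1 := by
    have := Fintype.one_lt_card (α := K)
    omega
  set d₀ : Fin (n + 1) →₀ ℕ := Finsupp.equivFunOnFinite.symm fun _ : Fin (n + 1) => Fintype.card K - 1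
    with hd₀
  have h1 : ∀ d : Fin (n + 1) →₀ ℕ, ∑ a : Fin (n + 1) → K, ∏ i, a i ^ d i =
      ∏ i, (if d i ≠ 0 ∧ (Fintype.card K - 1) ∣ d i then (-1 : K) else 0) := by
    intro d
    have := Finset.prod_univ_sum (fun _ : Fin (n + 1) => (Finset.univ : Finset K))
      (fun i x => x ^ d i)
    rw [Fintype.piFinset_univ] at this
    rw [← this]
    exact Finset.prod_congr rfl (fun i _ => sum_pow_all K (d i))
  have h2 : ∀ d ∈ F.support, d ≠ d₀ →
      ∏ i, (if d i ≠ 0 ∧ (Fintype.card K - 1) ∣ d i then (-1 : K) else 0) = 0 := by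
    intro d hd hne
    by_contra hprod
    apply hne
    have hall : ∀ i, d i ≠ 0 ∧ (Fintype.card K - 1) ∣ d i := by
      intro i
      by_contra hi
      apply hprod
      exact Finset.prod_eq_zero (Finset.mem_univ i) (if_neg hi)
    have hge : ∀ i, Fintype.card K - 1 ≤ d i := fun i =>
      Nat.le_of_dvd (Nat.pos_of_ne_zero (hall i).1) (hall i).2
    have hdeg : d.degree = (n + 1) * (Fintype.card K - 1) := by
      have := hF (MvPolynomial.mem_support_iff.mp hd)
      rw [Finsupp.degree_eq_weight_one]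
      exact this
    have hsum : ∑ i, d i = ∑ _i : Fin (n + 1), (Fintype.card K - 1) := by
      rw [Finset.sum_const, Finset.card_univ, Fintype.card_fin, smul_eq_mul, ← hdeg,
        Finsupp.degree_eq_sum]
    ext i
    have hle := Finset.sum_le_sum (s := Finset.univ) (fun i _ => hge i)
    have := (Finset.sum_eq_sum_iff_of_le (s := Finset.univ) (fun i _ => hge i)).mp hsum.symm i
      (Finset.mem_univ i)
    have hi : d₀ i = Fintype.card K - 1 := by rw [hd₀]; rfl
    rw [hi]
    exact this.symm
  have h3 : ∏ i, (if d₀ i ≠ 0 ∧ (Fintype.card K - 1) ∣ d₀ i then (-1 : K) else 0) =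
      (-1) ^ (n + 1) := by
    have : ∀ i, (if d₀ i ≠ 0 ∧ (Fintype.card K - 1) ∣ d₀ i then (-1 : K) else 0) = -1 := by
      intro i
      have hi : d₀ i = Fintype.card K - 1 := by rw [hd₀]; rfl
      rw [if_pos]
      rw [hi]
      exact ⟨by omega, dvd_rfl⟩
    simp only [this]
    simp
  calc ∑ a : Fin (n + 1) → K, MvPolynomial.eval a F
      = ∑ a : Fin (n + 1) → K, ∑ d ∈ F.support, F.coeff d * ∏ i, a i ^ d i := by
        refine Finset.sum_congr rfl (fun a _ => ?_)
        rw [MvPolynomial.eval_eq']
    _ = ∑ d ∈ F.support, F.coeff d * ∑ a : Fin (n + 1) → K, ∏ i, a i ^ d i := by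
        rw [Finset.sum_comm]
        refine Finset.sum_congr rfl (fun d _ => ?_)
        rw [Finset.mul_sum]
    _ = ∑ d ∈ F.support, F.coeff d *
          ∏ i, (if d i ≠ 0 ∧ (Fintype.card K - 1) ∣ d i then (-1 : K) else 0) := by
        refine Finset.sum_congr rfl (fun d _ => ?_)
        rw [h1]
    _ = (-1) ^ (n + 1) * MvPolynomial.coeff d₀ F := by
        by_cases hd : d₀ ∈ F.support
        · rw [Finset.sum_eq_single_of_mem d₀ hd, h3, mul_comm]
          intro d hdS hne
          rw [h2 d hdS hne, mul_zero]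
        · rw [MvPolynomial.notMem_support_iff.mp hd, mul_zero]
          apply Finset.sum_eq_zero
          intro d hdS
          have hne : d ≠ d₀ := fun h => hd (h ▸ hdS)
          rw [h2 d hdS hne, mul_zero]

/-- Let k be a finite field with q elements and characteristic p, n ≥ 2, and f ∈ k[x_0, …, x_n]
homogeneous of degree n + 1, defining the hypersurface Z ⊂ P^n_k. Then #Z(F_q) ≢ 1 (mod p) if and
only if the coefficient of (x_0 ⋯ x_n)^{q−1} in f^{q−1} is nonzero. Stated through the affine count:
#Z(F_q) ≡ 1 (mod p) exactly when p divides the number of zeros of f in k^{n+1} (as (q − 1) #Z(F_q) +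
1 is that number). -/
theorem result {k : Type u} [Field k] [Finite k] (p : ℕ)
    [CharP k p] (n : ℕ) (hn : 2 ≤ n) (f : MvPolynomial (Fin (n + 1)) k)
    (hf : f.IsHomogeneous (n + 1)) :
    p ∣ Nat.card {a : Fin (n + 1) → k // MvPolynomial.eval a f = 0} ↔
      MvPolynomial.coeff (Finsupp.equivFunOnFinite.symm fun _ : Fin (n + 1) => Nat.card k - 1)
        (f ^ (Nat.card k - 1)) = 0 := by
  classical
  haveI : Fintype k := Fintype.ofFinite k
  rw [Nat.card_eq_fintype_card (α := k)]
  have hq : 1 ≤ Fintype.card k - 1 := by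
    have := Fintype.one_lt_card (α := k)
    omega
  have hF : (f ^ (Fintype.card k - 1)).IsHomogeneous ((n + 1) * (Fintype.card k - 1)) := hf.pow _
  have hsum := sum_eval_pow k n (f ^ (Fintype.card k - 1)) hF
  rw [← CharP.cast_eq_zero_iff k p, Nat.card_eq_fintype_card, Fintype.card_subtype,
    ← Finset.sum_boole]
  have hterm : ∀ a : Fin (n + 1) → k, (if MvPolynomial.eval a f = 0 then (1 : k) else 0) =
      1 - MvPolynomial.eval a (f ^ (Fintype.card k - 1)) := by
    intro a
    rw [map_pow]
    split_ifs with h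
    · rw [h, zero_pow (by omega), sub_zero]
    · rw [FiniteField.pow_card_sub_one_eq_one _ h, sub_self]
  rw [Finset.sum_congr rfl (fun a _ => hterm a), Finset.sum_sub_distrib, hsum]
  have hcard : (∑ _a : Fin (n + 1) → k, (1 : k)) = 0 := by
    rw [Finset.sum_const, Finset.card_univ, Fintype.card_fun, Fintype.card_fin, nsmul_one,
      Nat.cast_pow, FiniteField.cast_card_eq_zero, zero_pow (by omega)]
  rw [hcard, zero_sub, neg_eq_zero, mul_eq_zero]
  constructor
  · rintro (h | h)
    · exact absurd h (pow_ne_zero _ (neg_ne_zero.mpr one_ne_zero))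
    · exact h
  · intro h
    exact Or.inr h

end Groth.Agent.S13065
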