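import Groth.Statements.S13066
import Mathlib
import Groth.Agent.Lib.Helper27FrobCoeff

set_option autoImplicit false
universe u
open Zeta

namespace Groth.Agent.S13066

/-- Let k be a finite field with q elements and characteristic p, n ≥ 2, and f ∈ k[x_0, …, x_n]
homogeneous of degree n + 1. Then the coefficient of (x_0 ⋯ x_n)^{q−1} in f^{q−1} is nonzero if and
only if the coefficient of (x_0 ⋯ x_n)^{p−1} in f^{p−1} is nonzero. -/
theorem result {k : Type u} [Field k] [Finite k]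
    (p : ℕ) [CharP k p] (n : ℕ) (hn : 2 ≤ n) (f : MvPolynomial (Fin (n + 1)) k)
    (hf : f.IsHomogeneous (n + 1)) :
    MvPolynomial.coeff (Finsupp.equivFunOnFinite.symm fun _ : Fin (n + 1) => Nat.card k - 1)
        (f ^ (Nat.card k - 1)) ≠ 0 ↔
      MvPolynomial.coeff (Finsupp.equivFunOnFinite.symm fun _ : Fin (n + 1) => p - 1)
        (f ^ (p - 1)) ≠ 0 := by
  classical
  haveI : Fintype k := Fintype.ofFinite k
  have hp : p.Prime := CharP.char_is_prime k p
  haveI : Fact p.Prime := ⟨hp⟩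
  obtain ⟨a, -, ha⟩ := FiniteField.card k p
  have hcard : Nat.card k = p ^ (a : ℕ) := by rw [Nat.card_eq_fintype_card, ha]
  rw [hcard]
  have hF : (f ^ (p - 1)).IsHomogeneous (Fintype.card (Fin (n + 1)) * (p - 1)) := by
    rw [Fintype.card_fin]
    exact hf.pow (p - 1)
  have key : ∀ b : ℕ,
      MvPolynomial.coeff (Groth.Agent.Lib.Helper27FrobCoeff.cst (p ^ (b + 1) - 1) : Fin (n + 1) →₀ ℕ)
        (f ^ (p ^ (b + 1) - 1)) ≠ 0 ↔
      MvPolynomial.coeff (Groth.Agent.Lib.Helper27FrobCoeff.cst (p - 1) : Fin (n + 1) →₀ ℕ)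
        (f ^ (p - 1)) ≠ 0 := by
    intro b
    induction b with
    | zero => rw [zero_add, pow_one]
    | succ b ih =>
      have hQ : 1 ≤ p ^ (b + 1) := Nat.one_le_pow _ _ hp.pos
      have hp1 : 1 ≤ p := hp.pos
      have h2 : p ^ (b + 1 + 1) - 1 = p * p ^ (b + 1) - 1 := by rw [pow_succ' p (b + 1)]
      have h1 : f ^ (p * p ^ (b + 1) - 1) = f ^ (p - 1) * (f ^ (p ^ (b + 1) - 1)) ^ p := by
        rw [← pow_mul, ← pow_add]
        congr 1
        rw [Nat.sub_mul, one_mul, mul_comm (p ^ (b + 1)) p]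
        have := Nat.le_mul_of_pos_right p hQ
        omega
      rw [h2, h1, Groth.Agent.Lib.Helper27FrobCoeff.coeff_mul_pow_char p _ _ hF _ hQ,
        mul_ne_zero_iff, pow_ne_zero_iff hp.ne_zero, ih]
      tauto
  obtain ⟨b, hb⟩ : ∃ b, (a : ℕ) = b + 1 := ⟨(a : ℕ) - 1, by have := a.pos; omega⟩
  rw [hb]
  exact key b

end Groth.Agent.S13066
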