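import Groth.Statements.S13075
import Mathlib
-- import your own Groth.Agent.* helpers here

set_option autoImplicit false
open Zeta

namespace Groth.Agent.S13075

/-- For the formal power series exp(t) = ∑_{m ≥ 0} t^m / m! and log(1 + t) = ∑_{m ≥ 1} (−1)^{m+1} t^m /
m over ℚ, log(exp(u)) = u and exp(log(1 + u)) = 1 + u for every u ∈ tℚ⟦t⟧; stated for u = t (the
general case is obtained by substitution): substituting exp(t) − 1 into log(1 + ·) gives t, and
substituting log(1 + t) into exp gives 1 + t. -/
theorem result :
    PowerSeries.subst (PowerSeries.exp ℚ - 1)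
        (PowerSeries.mk fun m : ℕ => if m = 0 then (0 : ℚ) else (-1) ^ (m + 1) / (m : ℚ)) =
      PowerSeries.X ∧
    PowerSeries.subst (PowerSeries.mk fun m : ℕ => if m = 0 then (0 : ℚ) else (-1) ^ (m + 1) / (m : ℚ))
        (PowerSeries.exp ℚ) = 1 + PowerSeries.X := by
  have hlog : (PowerSeries.mk fun m : ℕ => if m = 0 then (0 : ℚ) else (-1) ^ (m + 1) / (m : ℚ)) =
      PowerSeries.log ℚ := by
    ext n
    simp [PowerSeries.coeff_log]
  rw [hlog]
  set G : PowerSeries ℚ := PowerSeries.mk fun n => (-1 : ℚ) ^ n with hG
  have hGmul : G * (1 + PowerSeries.X) = 1 := by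
    ext n
    rw [mul_add, mul_one, map_add]
    cases n with
    | zero => simp [hG]
    | succ n =>
      rw [PowerSeries.coeff_succ_mul_X]
      simp [hG, pow_succ]
  have hdlog : PowerSeries.derivative ℚ (PowerSeries.log ℚ) = G := by
    rw [PowerSeries.deriv_log]
    ext n
    simp [hG]
  have h1 : PowerSeries.HasSubst (PowerSeries.exp ℚ - 1) := PowerSeries.HasSubst.exp_sub_one
  have h2 : PowerSeries.HasSubst (PowerSeries.log ℚ) := PowerSeries.HasSubst.log
  have hsubst_one : ∀ {a : PowerSeries ℚ} (ha : PowerSeries.HasSubst a),
      PowerSeries.subst a (1 : PowerSeries ℚ) = 1 := by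
    intro a ha
    rw [← PowerSeries.coe_substAlgHom ha, map_one]
  constructor
  · apply PowerSeries.derivative.ext
    · rw [PowerSeries.derivative_subst h1, hdlog, PowerSeries.derivative_X, map_sub,
        PowerSeries.derivative_exp, PowerSeries.derivative_one, sub_zero]
      have := congrArg (PowerSeries.subst (PowerSeries.exp ℚ - 1)) hGmul
      rw [PowerSeries.subst_mul h1, PowerSeries.subst_add h1, PowerSeries.subst_X h1,
        hsubst_one h1] at this
      simpa using this
    · rw [PowerSeries.constantCoeff_X]
      refine PowerSeries.constantCoeff_subst_eq_zero ?_ _ PowerSeries.constantCoeff_log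
      rw [map_sub, map_one]
      change PowerSeries.constantCoeff (PowerSeries.exp ℚ) - 1 = 0
      rw [PowerSeries.constantCoeff_exp, sub_self]
  · set E : PowerSeries ℚ := PowerSeries.subst (PowerSeries.log ℚ) (PowerSeries.exp ℚ) with hE
    have hE' : PowerSeries.derivative ℚ E = E * G := by
      rw [hE, PowerSeries.derivative_subst h2, PowerSeries.derivative_exp, hdlog]
    have hG' : PowerSeries.derivative ℚ G = - (G * G) := by
      have h := congrArg (PowerSeries.derivative ℚ) hGmul
      rw [Derivation.leibniz, map_add, PowerSeries.derivative_one, PowerSeries.derivative_X,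
        zero_add, smul_eq_mul, smul_eq_mul, mul_one] at h
      have h3 : G * (G + (1 + PowerSeries.X) * PowerSeries.derivative ℚ G) = 0 := by
        rw [h, mul_zero]
      have h4 : G * (G + (1 + PowerSeries.X) * PowerSeries.derivative ℚ G) =
          G * G + (G * (1 + PowerSeries.X)) * PowerSeries.derivative ℚ G := by ring
      rw [h4, hGmul, one_mul] at h3
      exact eq_neg_of_add_eq_zero_right h3
    have hEG : E * G = 1 := by
      apply PowerSeries.derivative.ext
      · rw [Derivation.leibniz, hE', hG', PowerSeries.derivative_one, smul_eq_mul, smul_eq_mul]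
        ring
      · rw [map_mul, map_one]
        have hcE : PowerSeries.constantCoeff E = 1 := by
          have : PowerSeries.exp ℚ = 1 + (PowerSeries.exp ℚ - 1) := by ring
          rw [hE, this, PowerSeries.subst_add h2, hsubst_one h2, map_add, map_one]
          have h0 := PowerSeries.constantCoeff_subst_eq_zero (S := ℚ) (τ := Unit)
            (a := PowerSeries.log ℚ) PowerSeries.constantCoeff_log (PowerSeries.exp ℚ - 1)
            (by simp [PowerSeries.constantCoeff_exp])
          change PowerSeries.constantCoeff _ = 0 at h0
          rw [h0, add_zero]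
        have hcG : PowerSeries.constantCoeff G = 1 := by
          rw [← PowerSeries.coeff_zero_eq_constantCoeff_apply]
          simp [hG]
        rw [hcE, hcG, mul_one]
    calc E = E * (G * (1 + PowerSeries.X)) := by rw [hGmul, mul_one]
      _ = (E * G) * (1 + PowerSeries.X) := by ring
      _ = 1 + PowerSeries.X := by rw [hEG, one_mul]

end Groth.Agent.S13075
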