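import Groth.Statements.S13079
import Mathlib
import Groth.Agent.Lib.Helper20QuotComp
import Groth.Agent.Lib.Helper20QuotSheet

set_option autoImplicit false
universe u
open CategoryTheory AlgebraicGeometry Limits
open Zeta

namespace Groth.Agent.S13079
open Groth.Agent.Lib.Helper20 Groth.Agent.Lib.Helper20.QuotComp Groth.Agent.Lib.Helper20.QuotSheet


/-- Suppose the finite groups G and H act by algebraic k-automorphisms on schemes X and Y of finite type
over k, both admitting quotients X → X/G and Y → Y/H (equivalently, covered by invariant affine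
opens). Then X × Y has the same property for the product action of G × H and (X × Y)/(G × H) ≅ X/G ×
Y/H: the morphism X ×_k Y → X/G ×_k Y/H with components the two quotient maps is a quotient for the
product action. The product action θ and that morphism π are pinned by their composites with the
projections. -/
theorem result {k : Type u} [Field k] {G H : Type u} [Group G] [Finite G] [Group H]
    [Finite H] {X Y XG YH : Scheme.{u}} (fX : X ⟶ Spec (CommRingCat.of k))
    (fY : Y ⟶ Spec (CommRingCat.of k)) [LocallyOfFiniteType fX] [QuasiCompact fX]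
    [LocallyOfFiniteType fY] [QuasiCompact fY] (gX : XG ⟶ Spec (CommRingCat.of k))
    (gY : YH ⟶ Spec (CommRingCat.of k)) (ρ : G →* Aut X) (σ : H →* Aut Y)
    (hρ : ∀ g, (ρ g).hom ≫ fX = fX) (hσ : ∀ h, (σ h).hom ≫ fY = fY)
    (p : X ⟶ XG) (hp : p ≫ gX = fX) (q : Y ⟶ YH) (hq : q ≫ gY = fY)
    (hP : SGA1.IsQuot ρ p) (hQ : SGA1.IsQuot σ q)
    (θ : G × H →* Aut (pullback fX fY))
    (hθ1 : ∀ gh : G × H, (θ gh).hom ≫ pullback.fst fX fY = pullback.fst fX fY ≫ (ρ gh.1).hom)
    (hθ2 : ∀ gh : G × H, (θ gh).hom ≫ pullback.snd fX fY = pullback.snd fX fY ≫ (σ gh.2).hom)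
    (π : pullback fX fY ⟶ pullback gX gY) (hπ1 : π ≫ pullback.fst gX gY = pullback.fst fX fY ≫ p)
    (hπ2 : π ≫ pullback.snd gX gY = pullback.snd fX fY ≫ q) :
    SGA1.IsQuot θ π := by
  haveI : Flat fY := inferInstance
  haveI : Flat gX := inferInstance
  -- step 1
  let p'₁ : pullback fX fY ⟶ pullback fY gX :=
    pullback.lift (pullback.snd fX fY) (pullback.fst fX fY ≫ p)
      (by rw [Category.assoc, hp, pullback.condition])
  have hp'₁f : p'₁ ≫ pullback.fst fY gX = pullback.snd fX fY := pullback.lift_fst _ _ _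
  have hp'₁s : p'₁ ≫ pullback.snd fY gX = pullback.fst fX fY ≫ p := pullback.lift_snd _ _ _
  let ρ'₁ : G →* Aut (pullback fX fY) := θ.comp (MonoidHom.inl G H)
  have hY₁ : IsPullback (pullback.snd fY gX) (pullback.fst fY gX) gX fY :=
    (IsPullback.of_hasPullback fY gX).flip
  have hX₁ : IsPullback (pullback.fst fX fY) p'₁ p (pullback.snd fY gX) := by
    have hbig : IsPullback (pullback.fst fX fY) (p'₁ ≫ pullback.fst fY gX) (p ≫ gX) fY := by
      rw [hp'₁f, hp]
      exact IsPullback.of_hasPullback fX fY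
    exact IsPullback.of_bot hbig hp'₁s.symm hY₁
  have hσ1 : (σ 1).hom = 𝟙 Y := by rw [map_one]; rfl
  have hρ1 : (ρ 1).hom = 𝟙 X := by rw [map_one]; rfl
  have h₁ : SGA1.IsQuot ρ'₁ p'₁ := by
    refine Groth.Agent.S5137.result ρ p hP gX fY (pullback.snd fY gX) (pullback.fst fY gX) hY₁
      (pullback.fst fX fY) p'₁ hX₁ ρ'₁ (fun g => hθ1 (g, 1)) (fun g => ?_)
    change (θ (g, 1)).hom ≫ p'₁ = p'₁
    apply pullback.hom_ext
    · rw [Category.assoc, hp'₁f, hθ2, hσ1, Category.comp_id]
    · rw [Category.assoc, hp'₁s, ← Category.assoc, hθ1, Category.assoc, hP.inv]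
  -- step 2
  let ρ₂ : H →* Aut (pullback fY gX) := baseChangeAction σ fY hσ gX
  let p'₂ : pullback fY gX ⟶ pullback gX gY :=
    pullback.lift (pullback.snd fY gX) (pullback.fst fY gX ≫ q)
      (by rw [Category.assoc, hq, pullback.condition])
  have hp'₂f : p'₂ ≫ pullback.fst gX gY = pullback.snd fY gX := pullback.lift_fst _ _ _
  have hp'₂s : p'₂ ≫ pullback.snd gX gY = pullback.fst fY gX ≫ q := pullback.lift_snd _ _ _
  have hY₂ : IsPullback (pullback.snd gX gY) (pullback.fst gX gY) gY gX :=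
    (IsPullback.of_hasPullback gX gY).flip
  have hX₂ : IsPullback (pullback.fst fY gX) p'₂ q (pullback.snd gX gY) := by
    have hbig : IsPullback (pullback.fst fY gX) (p'₂ ≫ pullback.fst gX gY) (q ≫ gY) gX := by
      rw [hp'₂f, hq]
      exact IsPullback.of_hasPullback fY gX
    exact IsPullback.of_bot hbig hp'₂s.symm hY₂
  have h₂ : SGA1.IsQuot ρ₂ p'₂ := by
    refine Groth.Agent.S5137.result σ q hQ gY gX (pullback.snd gX gY) (pullback.fst gX gY) hY₂
      (pullback.fst fY gX) p'₂ hX₂ ρ₂ (baseChangeAction_fst σ fY hσ gX) (fun h => ?_)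
    apply pullback.hom_ext
    · rw [Category.assoc, hp'₂f, baseChangeAction_snd]
    · rw [Category.assoc, hp'₂s, ← Category.assoc, baseChangeAction_fst, Category.assoc, hQ.inv]
  -- step 3
  have hπ : π = p'₁ ≫ p'₂ := by
    apply pullback.hom_ext
    · rw [hπ1, Category.assoc, hp'₂f, hp'₁s]
    · rw [hπ2, Category.assoc, hp'₂s, ← Category.assoc, hp'₁f]
  rw [hπ]
  refine isQuot_comp θ ρ'₁ (fun g => rfl) p'₁ h₁ ρ₂ p'₂ h₂ (fun h => ?_)
  apply pullback.hom_ext
  · rw [Category.assoc, hp'₁f, hθ2, Category.assoc, baseChangeAction_fst, ← Category.assoc, hp'₁f]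
  · rw [Category.assoc, hp'₁s, ← Category.assoc, hθ1, hρ1, Category.comp_id, Category.assoc,
      baseChangeAction_snd, hp'₁s]

end Groth.Agent.S13079
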