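import Groth.Statements.S1308
import Groth.Agent.Lib.Helper1Thickening
-- import your own Groth.Agent.* helpers here

set_option autoImplicit false
universe u
open FlatMor

namespace Groth.Agent.S1308

open AlgebraicGeometry CategoryTheory Limits in
/-- For a morphism of thickenings, that is a commutative square whose horizontal maps are thickenings
(closed immersions that are surjective on points), the morphism between the thin schemes is
universally open if and only if the morphism between the thick ones is. -/
theorem result {X X' S S' : Scheme.{u}} (iX : X ⟶ X') (iS : S ⟶ S') (f : X ⟶ S) (f' : X' ⟶ S')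
    (hX : MoreMor.IsThickening iX) (hS : MoreMor.IsThickening iS) (w : iX ≫ f' = f ≫ iS) :
    UniversallyOpen f ↔ UniversallyOpen f' := by
  haveI hXo := Groth.Agent.Lib.Helper1.universallyOpen_of_isThickening iX hX
  haveI hSo := Groth.Agent.Lib.Helper1.universallyOpen_of_isThickening iS hS
  obtain ⟨hXc, hXs⟩ := hX
  obtain ⟨hSc, hSs⟩ := hS
  constructor
  · intro h
    haveI : UniversallyOpen (iX ≫ f') := by rw [w]; infer_instance
    exact Groth.Agent.Lib.Helper1.universallyOpen_of_comp_surjective iX f'
  · intro h
    haveI : UniversallyOpen (f ≫ iS) := by rw [← w]; infer_instance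
    exact Groth.Agent.Lib.Helper1.universallyOpen_of_comp_mono f iS

end Groth.Agent.S1308
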