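import Groth.Statements.S13081
import Groth.Agent.Lib.Helper20QuotRestrict

set_option autoImplicit false
universe u
open CategoryTheory AlgebraicGeometry Limits
open Zeta

namespace Groth.Agent.S13081

/-- Let G be a finite group acting by algebraic automorphisms over k on a scheme X of finite type over k
admitting a quotient X → X/G, and H a normal subgroup of G. Then X/H carries an induced action of
G/H and its quotient by this action is X/G: the induced morphism r : X/H → X/G is a quotient of X/H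
by G/H. The induced action ρ̄ is pinned by p_H ≫ ρ̄(ḡ) = ρ(g) ≫ p_H and r by p_H ≫ r = p. -/
theorem result {k : Type u} [Field k] {G : Type u} [Group G]
    [Finite G] {X XG XH : Scheme.{u}} (fX : X ⟶ Spec (CommRingCat.of k)) [LocallyOfFiniteType fX]
    [QuasiCompact fX] (ρ : G →* Aut X) (hρ : ∀ g, (ρ g).hom ≫ fX = fX) (p : X ⟶ XG)
    (hP : SGA1.IsQuot ρ p) (H : Subgroup G) [H.Normal] (pH : X ⟶ XH)
    (hPH : SGA1.IsQuot (ρ.comp H.subtype) pH) (ρbar : G ⧸ H →* Aut XH)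
    (hρbar : ∀ g : G, pH ≫ (ρbar (QuotientGroup.mk g)).hom = (ρ g).hom ≫ pH)
    (r : XH ⟶ XG) (hr : pH ≫ r = p) :
    SGA1.IsQuot ρbar r := by
  subst hr
  have hepiH : Epi pH := Groth.Agent.Lib.Helper20.epi_of_isQuot hPH
  have haffP := hP.affine
  have hinv : ∀ gb : G ⧸ H, (ρbar gb).hom ≫ r = r := by
    intro gb
    obtain ⟨g, rfl⟩ := QuotientGroup.mk_surjective gb
    rw [← cancel_epi pH, ← Category.assoc, hρbar, Category.assoc]
    exact hP.inv g
  have hcomp : ∀ (V : XG.Opens) (c : Γ(XG, V)),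
      ((pH ≫ r).app V).hom c = (pH.app (r ⁻¹ᵁ V)).hom ((r.app V).hom c) :=
    fun V c => congrArg (fun f => f.hom c) (Scheme.Hom.comp_app pH r V)
  refine ⟨⟨fun V hV => ?_⟩, hinv, fun V => ?_, fun V s => ⟨?_, ?_⟩⟩
  · exact Groth.Agent.Lib.Helper20.isAffineOpen_of_isQuot hPH (r ⁻¹ᵁ V)
      (haffP.isAffine_preimage V hV)
  · intro a b hab
    apply hP.injective V
    rw [hcomp, hcomp, hab]
  · rintro ⟨a, rfl⟩ gb
    have := Groth.Agent.Lib.Helper20.appLE_invariant (σ := fun gb : G ⧸ H => (ρbar gb).hom) hinv V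
      (r ⁻¹ᵁ V) le_rfl gb (SGA1.preimage_le_of_inv ρbar r hinv gb V) a
    rw [Scheme.Hom.appLE_eq_app] at this
    exact this
  · intro hs
    have ht : ∃ a, ((pH ≫ r).app V).hom a = (pH.app (r ⁻¹ᵁ V)).hom s := by
      refine (hP.range_iff V ((pH.app (r ⁻¹ᵁ V)).hom s)).mpr (fun g => ?_)
      have h1 : pH.app (r ⁻¹ᵁ V) ≫ (ρ g).hom.appLE ((pH ≫ r) ⁻¹ᵁ V) ((pH ≫ r) ⁻¹ᵁ V)
          (SGA1.preimage_le_of_inv ρ (pH ≫ r) hP.inv g V) =
          (ρbar (QuotientGroup.mk g)).hom.appLE (r ⁻¹ᵁ V) (r ⁻¹ᵁ V)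
            (SGA1.preimage_le_of_inv ρbar r hinv _ V) ≫ pH.app (r ⁻¹ᵁ V) := by
        rw [Scheme.Hom.app_eq_appLE]
        refine (Scheme.Hom.appLE_comp_appLE _ _ _ _ _ _ _).trans ?_
        refine Eq.trans ?_ (Scheme.Hom.appLE_comp_appLE _ _ _ _ _ _ _).symm
        exact (Groth.Agent.Lib.Helper20.appLE_congr_hom (hρbar g) _ _ _).symm
      have h2 : ((ρ g).hom.appLE ((pH ≫ r) ⁻¹ᵁ V) ((pH ≫ r) ⁻¹ᵁ V)
          (SGA1.preimage_le_of_inv ρ (pH ≫ r) hP.inv g V)).hom ((pH.app (r ⁻¹ᵁ V)).hom s) =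
          (pH.app (r ⁻¹ᵁ V)).hom (((ρbar (QuotientGroup.mk g)).hom.appLE (r ⁻¹ᵁ V) (r ⁻¹ᵁ V)
            (SGA1.preimage_le_of_inv ρbar r hinv _ V)).hom s) :=
        congrArg (fun f => f.hom s) h1
      rw [hs] at h2
      exact h2
    obtain ⟨a, ha⟩ := ht
    refine ⟨a, ?_⟩
    apply hPH.injective (r ⁻¹ᵁ V)
    rw [← ha, hcomp]

end Groth.Agent.S13081
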