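import Groth.Statements.S13096
import Mathlib

set_option autoImplicit false
universe u v
open CAlg

namespace Groth.Agent.S13096

/-- A surjective ring endomorphism of a Noetherian ring is injective. -/
lemma injective_of_surjective_endo {A : Type*} [CommRing A] [IsNoetherianRing A]
    (φ : A →+* A) (hφ : Function.Surjective φ) : Function.Injective φ := by
  let f : ℕ →o Ideal A :=
    { toFun := fun n => RingHom.ker (φ ^ n)
      monotone' := by
        intro n m hnm z hz
        obtain ⟨d, rfl⟩ := Nat.exists_eq_add_of_le hnm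
        rw [RingHom.mem_ker] at hz ⊢
        rw [add_comm, pow_add, RingHom.mul_def, RingHom.comp_apply, hz, map_zero] }
  obtain ⟨n, hn⟩ := monotone_stabilizes_iff_noetherian.mpr (inferInstanceAs (IsNoetherian A A)) f
  rw [injective_iff_map_eq_zero]
  intro z hz
  have hs : Function.Surjective (φ ^ n) := by
    rw [RingHom.coe_pow]; exact hφ.iterate n
  obtain ⟨w, rfl⟩ := hs z
  have h1 : w ∈ f (n + 1) := by
    change w ∈ RingHom.ker (φ ^ (n + 1))
    rw [RingHom.mem_ker, pow_succ', RingHom.mul_def, RingHom.comp_apply, hz]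
  rw [← hn (n + 1) (Nat.le_succ n)] at h1
  exact h1

lemma aeval_mem {R : Type*} [CommRing R] {A : Type*} [CommRing A] [Algebra R A] {σ : Type*}
    (S : Subring A) (v : σ → A) (hv : ∀ x, v x ∈ S) (P : MvPolynomial σ R)
    (hc : ∀ m ∈ P.support, algebraMap R A (P.coeff m) ∈ S) : MvPolynomial.aeval v P ∈ S := by
  rw [MvPolynomial.aeval_def, MvPolynomial.eval₂_eq]
  refine Subring.sum_mem _ fun m hm => ?_
  refine Subring.mul_mem _ (hc m hm) ?_
  exact Subring.prod_mem _ fun i _ => Subring.pow_mem _ (hv i) _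


/-- Let R be a commutative ring and R' a commutative R-algebra of finite presentation. Then every
surjective R-algebra endomorphism α : R' → R' is bijective (an automorphism). -/
theorem result (R : Type u) [CommRing R]
    (R' : Type v) [CommRing R'] [Algebra R R'] [Algebra.FinitePresentation R R']
    (α : R' →ₐ[R] R') (hα : Function.Surjective α) : Function.Bijective α := by
  refine ⟨?_, hα⟩
  rw [injective_iff_map_eq_zero]
  intro a ha
  classical
  have : Algebra.FiniteType R R' := inferInstance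
  obtain ⟨s, hs⟩ := (Algebra.FiniteType.out : (⊤ : Subalgebra R R').FG)
  have hrep : ∀ z : R', ∃ P : MvPolynomial s R, MvPolynomial.aeval (Subtype.val : s → R') P = z := by
    intro z
    have hz : z ∈ Algebra.adjoin R (s : Set R') := by rw [hs]; trivial
    rw [Algebra.adjoin_eq_range] at hz
    obtain ⟨P, hP⟩ := hz
    exact ⟨P, hP⟩
  choose P hP using fun x : s => hrep (α x)
  choose y hy using fun x : s => hα x
  choose Q hQ using fun x : s => hrep (y x)
  obtain ⟨F, hF⟩ := hrep a
  let coeffs : MvPolynomial s R → Finset R' := fun p => p.support.image fun m => algebraMap R R' (p.coeff m)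
  let T : Finset R' := s ∪ coeffs F ∪ (Finset.univ.biUnion fun x : s => coeffs (P x)) ∪
    (Finset.univ.biUnion fun x : s => coeffs (Q x))
  let A₀ : Subalgebra ℤ R' := Algebra.adjoin ℤ (T : Set R')
  have : Algebra.FiniteType ℤ A₀ := (Subalgebra.fg_iff_finiteType _).mp (Subalgebra.fg_adjoin_finset T)
  have : IsNoetherianRing A₀ := Algebra.FiniteType.isNoetherianRing ℤ A₀
  have hT : ∀ t ∈ T, t ∈ A₀ := fun t ht => Algebra.subset_adjoin ht
  have hsA : ∀ x : s, (x : R') ∈ A₀ := fun x => hT _ (by simp [T])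
  have hcoef : ∀ p : MvPolynomial s R, coeffs p ⊆ T →
      MvPolynomial.aeval (Subtype.val : s → R') p ∈ A₀ := by
    intro p hp
    have := aeval_mem (R := R) A₀.toSubring (Subtype.val : s → R') (fun x => hsA x) p (by
      intro m hm
      exact hT _ (hp (Finset.mem_image_of_mem _ hm)))
    exact this
  have hFT : coeffs F ⊆ T := by
    intro t ht; simp only [T, Finset.mem_union]; exact Or.inl (Or.inl (Or.inr ht))
  have hPT : ∀ x : s, coeffs (P x) ⊆ T := by
    intro x t ht; simp only [T, Finset.mem_union]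
    exact Or.inl (Or.inr (Finset.mem_biUnion.mpr ⟨x, Finset.mem_univ _, ht⟩))
  have hQT : ∀ x : s, coeffs (Q x) ⊆ T := by
    intro x t ht; simp only [T, Finset.mem_union]
    exact Or.inr (Finset.mem_biUnion.mpr ⟨x, Finset.mem_univ _, ht⟩)
  have hTcases : ∀ t ∈ T, (∃ x : s, (x : R') = t) ∨ ∃ r : R, algebraMap R R' r = t := by
    intro t ht
    simp only [T, Finset.mem_union, Finset.mem_biUnion, coeffs, Finset.mem_image] at ht
    rcases ht with ((ht | ⟨m, _, rfl⟩) | ⟨x, _, m, _, rfl⟩) | ⟨x, _, m, _, rfl⟩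
    · exact Or.inl ⟨⟨t, ht⟩, rfl⟩
    · exact Or.inr ⟨_, rfl⟩
    · exact Or.inr ⟨_, rfl⟩
    · exact Or.inr ⟨_, rfl⟩
  have hαT : ∀ t ∈ T, α t ∈ A₀ := by
    intro t ht
    rcases hTcases t ht with ⟨x, rfl⟩ | ⟨r, rfl⟩
    · rw [← hP x]; exact hcoef _ (hPT x)
    · rw [α.commutes]; exact hT _ ht
  have hαA : ∀ z ∈ A₀, α z ∈ A₀ := by
    intro z hz
    induction hz using Algebra.adjoin_induction with
    | mem t ht => exact hαT t ht
    | algebraMap n => rw [eq_intCast, map_intCast]; exact intCast_mem _ n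
    | add z w _ _ hz hw => rw [map_add]; exact add_mem hz hw
    | mul z w _ _ hz hw => rw [map_mul]; exact mul_mem hz hw
  have hsurj : ∀ z ∈ A₀, ∃ w ∈ A₀, α w = z := by
    intro z hz
    induction hz using Algebra.adjoin_induction with
    | mem t ht =>
      rcases hTcases t ht with ⟨x, rfl⟩ | ⟨r, rfl⟩
      · refine ⟨y x, ?_, hy x⟩
        rw [← hQ x]; exact hcoef _ (hQT x)
      · exact ⟨_, hT _ ht, α.commutes r⟩
    | algebraMap n => exact ⟨(n : R'), intCast_mem _ n, by rw [eq_intCast, map_intCast]⟩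
    | add z w _ _ hz hw =>
      obtain ⟨z', hz', rfl⟩ := hz
      obtain ⟨w', hw', rfl⟩ := hw
      exact ⟨z' + w', add_mem hz' hw', map_add _ _ _⟩
    | mul z w _ _ hz hw =>
      obtain ⟨z', hz', rfl⟩ := hz
      obtain ⟨w', hw', rfl⟩ := hw
      exact ⟨z' * w', mul_mem hz' hw', map_mul _ _ _⟩
  let α₀ : A₀ →+* A₀ := (α.toRingHom.comp A₀.val.toRingHom).codRestrict A₀ (fun z => hαA z z.2)
  have hα₀ : Function.Surjective α₀ := by
    rintro ⟨z, hz⟩
    obtain ⟨w, hw, rfl⟩ := hsurj z hz
    exact ⟨⟨w, hw⟩, rfl⟩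
  have hinj := injective_of_surjective_endo α₀ hα₀
  have haA : a ∈ A₀ := by rw [← hF]; exact hcoef _ hFT
  have h0 : α₀ ⟨a, haA⟩ = 0 := Subtype.ext ha
  have := (injective_iff_map_eq_zero α₀).mp hinj _ h0
  exact congrArg Subtype.val this


end Groth.Agent.S13096
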