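import Groth.Statements.S13097
import Mathlib
import Groth.Agent.Lib.Helper22ThickAffine

set_option autoImplicit false
universe u
open FlatMor

namespace Groth.Agent.S13097

open CategoryTheory AlgebraicGeometry
open Limits TopologicalSpace

/-- schematically dense opens are dense -/
theorem dense_of_isSchematicallyDense {X : Scheme.{u}} (W : X.Opens)
    (h : CInt.IsSchematicallyDense W) : Dense (W : Set X) := by
  rw [dense_iff_inter_open]
  intro V hV hVne
  by_contra hcon
  rw [Set.not_nonempty_iff_eq_empty] at hcon
  let V' : X.Opens := ⟨V, hV⟩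
  have hbot : V' ⊓ W = ⊥ := by
    ext x
    simp only [Opens.coe_inf, Opens.coe_bot]
    exact Set.ext_iff.mp hcon x
  have hinj := h V'
  have hsub : Subsingleton Γ(X, V' ⊓ W) := by
    rw [hbot]
    infer_instance
  have hsubV : Subsingleton Γ(X, V') := hinj.subsingleton
  have h1 : V' = ⊥ := by
    rw [← X.basicOpen_of_isUnit (U := V') isUnit_one, Subsingleton.elim (1 : Γ(X, V')) 0,
      X.basicOpen_zero]
  obtain ⟨x, hx⟩ := hVne
  have : x ∈ (V' : Set X) := hx
  rw [h1] at this
  exact this

/-- the section is surjective -/
theorem surjective_section {X S : Scheme.{u}} (f : X ⟶ S) (U : S.Opens)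
    (hdense : CInt.IsSchematicallyDense (f ⁻¹ᵁ U)) (hU : IsHomeomorph (f ∣_ U).base)
    (e : S ⟶ X) [IsClosedImmersion e] (he : e ≫ f = 𝟙 S) : Function.Surjective e := by
  have hcl : IsClosed (Set.range e) := e.isClosedEmbedding.isClosed_range
  have hsub : ((f ⁻¹ᵁ U : X.Opens) : Set X) ⊆ Set.range e := by
    intro x hx
    refine ⟨f x, ?_⟩
    have h1 : f (e (f x)) = f x := by
      rw [← Scheme.Hom.comp_apply, he]
      rfl
    have hx' : e (f x) ∈ f ⁻¹ᵁ U := by
      change f (e (f x)) ∈ U
      rw [h1]; exact hx
    have hinj : Function.Injective (U.1.restrictPreimage f) :=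
      morphismRestrict_base f U ▸ hU.injective
    have := @hinj ⟨e (f x), hx'⟩ ⟨x, hx⟩ (Subtype.ext h1)
    exact congrArg Subtype.val this
  have hd := dense_of_isSchematicallyDense _ hdense
  have : Set.range e = Set.univ := by
    apply Set.eq_univ_of_univ_subset
    rw [← hd.closure_eq]
    exact closure_minimal hsub hcl
  exact Set.range_eq_univ.mp this

open CategoryTheory AlgebraicGeometry in
/-- Let f : X → S be a quasi-compact, separated morphism of schemes with a section e : S → X (e followed
by f is the identity of S), and U ⊆ S an open subscheme such that f⁻¹(U) is schematically dense in X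
(for every open V of X, restriction of functions from V to V ∩ f⁻¹(U) is injective) and such that
the restriction f⁻¹(U) → U of f is a homeomorphism of underlying spaces. Then f is universally a
homeomorphism (every base change of f is a homeomorphism), and f is finite as soon as it is locally
of finite type. (The published statement also lists surjectivity of f, which a section forces, and
offers as an alternative to the section the hypothesis that f be flat, still with f⁻¹(U) → U only a
homeomorphism; that flat alternative fails: the spectrum of a separable quadratic field extension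
over the spectrum of the ground field, with U the whole base, is flat, surjective, quasi-compact,
separated and a homeomorphism over U, yet not universally injective. Only the case of a section,
whose published proof is complete, is stated here.) -/
theorem result {X S : Scheme.{u}} (f : X ⟶ S)
    [QuasiCompact f] [IsSeparated f] (U : S.Opens)
    (hdense : CInt.IsSchematicallyDense (f ⁻¹ᵁ U)) (hU : IsHomeomorph (f ∣_ U).base)
    (e : S ⟶ X) (he : e ≫ f = 𝟙 S) :
    FlatMor.IsUnivHomeo f ∧ (LocallyOfFiniteType f → IsFinite f) := by
  have hcl : IsClosedImmersion e := by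
    have : IsClosedImmersion (e ≫ f) := by rw [he]; infer_instance
    exact IsClosedImmersion.of_comp e f
  have hsurj : Function.Surjective e := surjective_section f U hdense hU e he
  have hsurj' : Surjective e := ⟨hsurj⟩
  constructor
  · intro X' S' i₁ i₂ f' h
    let e' : S' ⟶ X' := h.lift (𝟙 S') (i₂ ≫ e) (by rw [Category.id_comp, Category.assoc, he, Category.comp_id])
    have he'1 : e' ≫ f' = 𝟙 S' := h.lift_fst _ _ _
    have he'2 : e' ≫ i₁ = i₂ ≫ e := h.lift_snd _ _ _
    have hsq : IsPullback e' i₂ i₁ e := by
      refine IsPullback.of_right ?_ he'2 h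
      rw [he'1, he]
      exact IsPullback.id_horiz i₂
    have hcl' : IsClosedImmersion e' :=
      MorphismProperty.of_isPullback (P := @IsClosedImmersion) hsq.flip hcl
    have hsurj'' : Surjective e' :=
      MorphismProperty.of_isPullback (P := @Surjective) hsq.flip hsurj'
    have hE : IsHomeomorph e' :=
      isHomeomorph_iff_isEmbedding_surjective.mpr ⟨e'.isEmbedding, hsurj''.surj⟩
    change IsHomeomorph f'
    have heq : ⇑f' = hE.homeomorph.symm := by
      funext x
      obtain ⟨s, rfl⟩ := hsurj''.surj x
      have h1 : f' (e' s) = s := by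
        rw [← Scheme.Hom.comp_apply, he'1]
        rfl
      rw [h1]
      exact (hE.homeomorph.symm_apply_apply s).symm
    rw [heq]
    exact hE.homeomorph.symm.isHomeomorph
  · intro hlft
    rw [IsFinite.iff_isIntegralHom_and_locallyOfFiniteType]
    refine ⟨?_, hlft⟩
    have haff : ∀ V : S.Opens, IsAffineOpen V → IsAffineOpen (f ⁻¹ᵁ V) := by
      intro V hV
      have h1 : IsAffine (e ⁻¹ᵁ (f ⁻¹ᵁ V)).toScheme := by
        have : IsAffineOpen (e ⁻¹ᵁ (f ⁻¹ᵁ V)) := by
          rw [← Scheme.Hom.comp_preimage, he]
          exact hV
        exact this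
      have hs : Surjective (e ∣_ (f ⁻¹ᵁ V)) := IsZariskiLocalAtTarget.restrict hsurj' _
      exact Groth.Agent.Lib.Helper22.ThickAffine.isAffine_of_thickening (e ∣_ (f ⁻¹ᵁ V)) hs.surj
    have : IsAffineHom f := ⟨haff⟩
    refine ⟨fun V hV => ?_⟩
    intro b
    have hiso : IsIso (e ≫ f) := by rw [he]; infer_instance
    have hbij : Function.Bijective ((e ≫ f).app V).hom :=
      ConcreteCategory.bijective_of_isIso ((e ≫ f).app V)
    obtain ⟨a, ha⟩ := hbij.2 ((e.app (f ⁻¹ᵁ V)).hom b)
    have hcomp : ((e ≫ f).app V).hom a = (e.app (f ⁻¹ᵁ V)).hom ((f.app V).hom a) := by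
      rw [Scheme.Hom.comp_app]
      rfl
    have hker : b - (f.app V).hom a ∈ RingHom.ker (e.app (f ⁻¹ᵁ V)).hom := by
      rw [RingHom.mem_ker, map_sub, ← hcomp, ha, sub_self]
    have hnil : IsNilpotent (b - (f.app V).hom a) :=
      mem_nilradical.mp (Groth.Agent.Lib.Helper22.Thick.ker_app_le_nilradical e (haff V hV) hker)
    obtain ⟨k, hk⟩ := hnil
    have h1 : (f.app V).hom.IsIntegralElem ((f.app V).hom a) := RingHom.isIntegralElem_map _
    have h2 : (f.app V).hom.IsIntegralElem (b - (f.app V).hom a) :=
      ⟨Polynomial.X ^ k, Polynomial.monic_X_pow k, by simp [hk]⟩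
    have := RingHom.IsIntegralElem.add _ h1 h2
    rwa [add_sub_cancel] at this

end Groth.Agent.S13097
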