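import Groth.Statements.S13098
import Mathlib.Tactic
import Mathlib.LinearAlgebra.Basis.Basic

set_option autoImplicit false
universe u v
open Lie3Mod

namespace Groth.Agent.S13098

/-- Let R be a commutative ring, M an R-module with a basis x = bs 0, y = bs 1, z = bs 2 indexed by Fin
3, and B an R-bilinear alternating map on M (B m m = 0) with B x y = a x + b y + c z, B x z = d x +
e y + f z and B y z = g x + h y + i z. Then B satisfies the Jacobi identity for all triples if and
only if the three Jacobi polynomials vanish: ah + di − fg − bg = 0, ie + bd − fh − ae = 0 and hc +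
dc − af − bi = 0. (This is the statement that Lie brackets on a based free module of rank 3 are the
points of the closed subscheme of affine 9-space defined by these three equations.) -/
theorem result (R : Type u) [CommRing R] (M : Type v) [AddCommGroup M] [Module R M]
    (bs : Module.Basis (Fin 3) R M) (B : M →ₗ[R] M →ₗ[R] M) (halt : ∀ m : M, B m m = 0)
    (a b c d e f g h i : R)
    (hxy : B (bs 0) (bs 1) = a • bs 0 + b • bs 1 + c • bs 2)
    (hxz : B (bs 0) (bs 2) = d • bs 0 + e • bs 1 + f • bs 2)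
    (hyz : B (bs 1) (bs 2) = g • bs 0 + h • bs 1 + i • bs 2) :
    (∀ u v w : M, B u (B v w) + B v (B w u) + B w (B u v) = 0) ↔
      (a * h + d * i - f * g - b * g = 0 ∧ i * e + b * d - f * h - a * e = 0 ∧
        h * c + d * c - a * f - b * i = 0) := by
  have hanti : ∀ u v : M, B u v = -B v u := by
    intro u v
    have h0 := halt (u + v)
    simp only [map_add, LinearMap.add_apply, halt, zero_add, add_zero] at h0
    exact eq_neg_of_add_eq_zero_right h0
  have hyx : B (bs 1) (bs 0) = -(a • bs 0 + b • bs 1 + c • bs 2) := by rw [hanti, hxy]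
  have hzx : B (bs 2) (bs 0) = -(d • bs 0 + e • bs 1 + f • bs 2) := by rw [hanti, hxz]
  have hzy : B (bs 2) (bs 1) = -(g • bs 0 + h • bs 1 + i • bs 2) := by rw [hanti, hyz]
  have hJ : B (bs 0) (B (bs 1) (bs 2)) + B (bs 1) (B (bs 2) (bs 0)) + B (bs 2) (B (bs 0) (bs 1)) =
      (a * h + d * i - f * g - b * g) • bs 0 + (i * e + b * d - f * h - a * e) • bs 1 +
        (h * c + d * c - a * f - b * i) • bs 2 := by
    simp only [hyz, hzx, hxy, map_add, map_smul, map_neg, hxz, hyx, hzy, halt]
    module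
  constructor
  · intro hJac
    have h0 := hJac (bs 0) (bs 1) (bs 2)
    rw [hJ] at h0
    have e0 := congrArg (fun m => bs.repr m 0) h0
    have e1 := congrArg (fun m => bs.repr m 1) h0
    have e2 := congrArg (fun m => bs.repr m 2) h0
    simp at e0 e1 e2
    exact ⟨e0, e1, e2⟩
  · rintro ⟨h1, h2, h3⟩ u v w
    obtain ⟨u0, u1, u2, rfl⟩ : ∃ u0 u1 u2 : R, u = u0 • bs 0 + u1 • bs 1 + u2 • bs 2 :=
      ⟨_, _, _, by rw [← Fin.sum_univ_three (fun j => bs.repr u j • bs j)]; exact (bs.sum_repr u).symm⟩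
    obtain ⟨v0, v1, v2, rfl⟩ : ∃ v0 v1 v2 : R, v = v0 • bs 0 + v1 • bs 1 + v2 • bs 2 :=
      ⟨_, _, _, by rw [← Fin.sum_univ_three (fun j => bs.repr v j • bs j)]; exact (bs.sum_repr v).symm⟩
    obtain ⟨w0, w1, w2, rfl⟩ : ∃ w0 w1 w2 : R, w = w0 • bs 0 + w1 • bs 1 + w2 • bs 2 :=
      ⟨_, _, _, by rw [← Fin.sum_univ_three (fun j => bs.repr w j • bs j)]; exact (bs.sum_repr w).symm⟩
    simp only [map_add, map_smul, map_neg, LinearMap.add_apply, LinearMap.smul_apply,
      halt, hxy, hxz, hyz, hyx, hzx, hzy, smul_zero, add_zero, zero_add]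
    linear_combination (norm := module)
      ((u0 * (v1 * w2 - v2 * w1) - u1 * (v0 * w2 - v2 * w0) + u2 * (v0 * w1 - v1 * w0)) * h1) • bs 0 +
      ((u0 * (v1 * w2 - v2 * w1) - u1 * (v0 * w2 - v2 * w0) + u2 * (v0 * w1 - v1 * w0)) * h2) • bs 1 +
      ((u0 * (v1 * w2 - v2 * w1) - u1 * (v0 * w2 - v2 * w0) + u2 * (v0 * w1 - v1 * w0)) * h3) • bs 2

end Groth.Agent.S13098
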