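import Groth.Statements.S13099
import Mathlib

set_option autoImplicit false
universe u
open GrpSch

namespace Groth.Agent.S13099

open Polynomial

theorem L1 {A : Type u} [CommRing A] (q : A[X]) (i j : ℕ) :
    ((aeval (C X + X : A[X][X]) q).coeff j).coeff i = ((i + j).choose j : A) * q.coeff (i + j) := by
  induction q using Polynomial.induction_on' with
  | add p q hp hq => simp only [map_add, coeff_add, hp, hq, mul_add]
  | monomial n c =>
    have e : algebraMap A A[X][X] c = C (C c) := rfl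
    rw [aeval_monomial, add_comm (C X) X, e, coeff_C_mul,
      coeff_X_add_C_pow, coeff_C_mul, coeff_monomial]
    rw [← C_eq_natCast, coeff_mul_C, coeff_X_pow]
    by_cases h : n = i + j
    · subst h
      simp [mul_comm]
    · rw [if_neg h, mul_zero]
      by_cases hj : j ≤ n
      · have : i ≠ n - j := by omega
        rw [if_neg this]; simp
      · rw [Nat.choose_eq_zero_of_lt (by omega)]; simp

theorem L2 {A : Type u} [CommRing A] (q : A[X]) (j : ℕ) (hj : j ≠ 0) :
    ((aeval (C X : A[X][X]) q).coeff j) = 0 := by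
  have : aeval (C X : A[X][X]) q = C q := by
    have := aeval_algHom_apply (CAlgHom : A[X] →ₐ[A] A[X][X]) (X : A[X]) q
    simpa using this
  rw [this, coeff_C, if_neg hj]

theorem L3 {A : Type u} [CommRing A] (q : A[X]) (i j : ℕ) (hi : i ≠ 0) :
    ((aeval (X : A[X][X]) q).coeff j).coeff i = 0 := by
  rw [aeval_X_left_eq_map, coeff_map, ← C_eq_algebraMap, coeff_C, if_neg hi]

theorem L4 {A : Type u} [CommRing A] (s t : A[X][X]) (N i j : ℕ) (hi : i < N) (hj : j < N) :
    ((s * (C X) ^ N + t * X ^ N).coeff j).coeff i = 0 := by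
  rw [coeff_add, coeff_mul_X_pow', if_neg (by omega), add_zero, ← C_pow, coeff_mul_C,
    coeff_mul_X_pow', if_neg (by omega)]

theorem NT (p : ℕ) (hp : p.Prime) (n : ℕ) (h2 : 2 ≤ n) (hn : n < p ^ 2) (hnp : n ≠ p) :
    ∃ j, 0 < j ∧ j < n ∧ ¬ p ∣ n.choose j := by
  have : Fact p.Prime := ⟨hp⟩
  have hp2 := hp.two_le
  have hdm := Nat.div_add_mod n p
  have hb : n % p < p := Nat.mod_lt _ hp.pos
  have ha : n / p < p := by
    rw [Nat.div_lt_iff_lt_mul hp.pos]; nlinarith
  obtain ⟨a, ha_eq⟩ : ∃ a, n / p = a := ⟨_, rfl⟩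
  obtain ⟨b, hb_eq⟩ : ∃ b, n % p = b := ⟨_, rfl⟩
  rw [ha_eq, hb_eq] at hdm
  rw [ha_eq] at ha
  rw [hb_eq] at hb
  by_cases hb0 : b = 0
  · -- n = p * a
    subst hb0
    have ha2 : 2 ≤ a := by
      by_contra hlt
      have h01 : a = 0 ∨ a = 1 := by omega
      rcases h01 with h | h
      · subst h; omega
      · subst h; omega
    refine ⟨p, hp.pos, ?_, ?_⟩
    · nlinarith
    · have := Choose.choose_modEq_choose_mod_mul_choose_div_nat (p := p) (n := n) (k := p)
      rw [hb_eq, ha_eq, Nat.mod_self, Nat.div_self hp.pos, Nat.choose_zero_right, one_mul,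
        Nat.choose_one_right] at this
      rw [this.dvd_iff (dvd_refl p)]
      intro hdvd
      have := Nat.le_of_dvd (by omega) hdvd
      omega
  · by_cases ha0 : a = 0
    · -- n < p
      subst ha0
      have hnlt : n < p := by omega
      refine ⟨1, one_pos, by omega, ?_⟩
      rw [Nat.choose_one_right]
      intro hdvd
      have := Nat.le_of_dvd (by omega) hdvd
      omega
    · refine ⟨b, by omega, ?_, ?_⟩
      · have : p * a ≥ p := Nat.le_mul_of_pos_right p (by omega)
        omega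
      · have := Choose.choose_modEq_choose_mod_mul_choose_div_nat (p := p) (n := n) (k := b)
        rw [hb_eq, ha_eq, Nat.mod_eq_of_lt hb, Nat.choose_self, one_mul, Nat.div_eq_of_lt hb,
          Nat.choose_zero_right] at this
        rw [this.dvd_iff (dvd_refl p)]
        intro hdvd
        have := Nat.le_of_dvd one_pos hdvd
        omega

theorem part1_fwd (p : ℕ) [Fact p.Prime] (A : Type u) [CommRing A] [CharP A p] (q : A[X])
    (hq : q.natDegree < p ^ 2)
    (h : Polynomial.aeval (MvPolynomial.X 0 + MvPolynomial.X 1 : MvPolynomial (Fin 2) A) q -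
            Polynomial.aeval (MvPolynomial.X 0 : MvPolynomial (Fin 2) A) q -
            Polynomial.aeval (MvPolynomial.X 1 : MvPolynomial (Fin 2) A) q ∈
          Ideal.span ({MvPolynomial.X 0 ^ p ^ 2, MvPolynomial.X 1 ^ p ^ 2} :
            Set (MvPolynomial (Fin 2) A))) :
    ∃ a₁ ap : A, q = Polynomial.C a₁ * X + Polynomial.C ap * X ^ p := by
  have hp : p.Prime := Fact.out
  have hp2 := hp.two_le
  obtain ⟨s, t, hst⟩ := Ideal.mem_span_pair.mp h
  let ev : MvPolynomial (Fin 2) A →ₐ[A] A[X][X] := MvPolynomial.aeval ![C X, X]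
  have hev0 : ev (MvPolynomial.X 0) = C X := by simp [ev]
  have hev1 : ev (MvPolynomial.X 1) = X := by simp [ev]
  have hE := congrArg ev hst
  rw [map_add, map_mul, map_mul, map_pow, map_pow, hev0, hev1, map_sub, map_sub,
    ← aeval_algHom_apply, ← aeval_algHom_apply, ← aeval_algHom_apply, map_add, hev0, hev1] at hE
  -- coefficient extraction
  have hcoef : ∀ i j, 0 < i → 0 < j → i + j < p ^ 2 →
      ((i + j).choose j : A) * q.coeff (i + j) = 0 := by
    intro i j hi hj hij
    have := congrArg (fun P : A[X][X] => (P.coeff j).coeff i) hE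
    rw [L4 _ _ _ _ _ (by omega) (by omega), coeff_sub, coeff_sub, coeff_sub, coeff_sub, L1,
      L2 _ _ (by omega), L3 _ _ _ (by omega), coeff_zero, sub_zero, sub_zero] at this
    exact this.symm
  have hc0 : q.coeff 0 = 0 := by
    have := congrArg (fun P : A[X][X] => (P.coeff 0).coeff 0) hE
    rw [L4 _ _ _ _ _ (by positivity) (by positivity)] at this
    have e1 := L1 q 0 0
    have e2 : ((aeval (C X : A[X][X]) q).coeff 0).coeff 0 = q.coeff 0 := by
      have : aeval (C X : A[X][X]) q = C q := by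
        have := aeval_algHom_apply (CAlgHom : A[X] →ₐ[A] A[X][X]) (X : A[X]) q
        simpa using this
      rw [this, coeff_C_zero]
    have e3 : ((aeval (X : A[X][X]) q).coeff 0).coeff 0 = q.coeff 0 := by
      rw [aeval_X_left_eq_map, coeff_map, ← C_eq_algebraMap, coeff_C_zero]
    rw [coeff_sub, coeff_sub, coeff_sub, coeff_sub, e1, e2, e3] at this
    simp at this
    exact this
  have hcn : ∀ n, n ≠ 1 → n ≠ p → q.coeff n = 0 := by
    intro n hn1 hnp
    by_cases hn0 : n = 0
    · rw [hn0]; exact hc0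
    by_cases hnN : n < p ^ 2
    · obtain ⟨j, hj0, hjn, hjp⟩ := NT p hp n (by omega) hnN hnp
      have h1 := hcoef (n - j) j (by omega) hj0 (by omega)
      have e : n - j + j = n := by omega
      rw [e] at h1
      have hu : IsUnit ((n.choose j : ℕ) : A) := (CharP.isUnit_natCast_iff hp).mpr hjp
      exact (hu.mul_right_eq_zero).mp h1
    · exact coeff_eq_zero_of_natDegree_lt (by omega)
  refine ⟨q.coeff 1, q.coeff p, ?_⟩
  ext n
  rw [coeff_add, coeff_C_mul, coeff_C_mul, coeff_X, coeff_X_pow]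
  by_cases hn1 : n = 1
  · subst hn1
    have : ¬ (1 = p) := by omega
    simp [this]
  · by_cases hnp : n = p
    · subst hnp
      have : ¬ (1 = n) := by omega
      simp [this]
    · rw [hcn n hn1 hnp]
      have : ¬ (1 = n) := fun h => hn1 h.symm
      simp [this, hnp]

theorem part1_bwd (p : ℕ) [Fact p.Prime] (A : Type u) [CommRing A] [CharP A p] (a₁ ap : A) :
    Polynomial.aeval (MvPolynomial.X 0 + MvPolynomial.X 1 : MvPolynomial (Fin 2) A)
        (Polynomial.C a₁ * X + Polynomial.C ap * X ^ p) -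
      Polynomial.aeval (MvPolynomial.X 0 : MvPolynomial (Fin 2) A)
        (Polynomial.C a₁ * X + Polynomial.C ap * X ^ p) -
      Polynomial.aeval (MvPolynomial.X 1 : MvPolynomial (Fin 2) A)
        (Polynomial.C a₁ * X + Polynomial.C ap * X ^ p) = 0 := by
  simp only [map_add, map_mul, aeval_C, aeval_X, map_pow]
  rw [add_pow_char]
  ring

theorem phi_mk {A : Type u} [CommRing A] (N : ℕ) (Y₀ : A[X])
    (φ : (A[X] ⧸ Ideal.span ({X ^ N} : Set A[X])) →ₐ[A] (A[X] ⧸ Ideal.span ({X ^ N} : Set A[X])))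
    (hφ : φ (Ideal.Quotient.mk (Ideal.span ({X ^ N} : Set A[X])) X) =
          Ideal.Quotient.mk (Ideal.span ({X ^ N} : Set A[X])) Y₀) (r : A[X]) :
    φ (Ideal.Quotient.mk (Ideal.span ({X ^ N} : Set A[X])) r) =
      Ideal.Quotient.mk (Ideal.span ({X ^ N} : Set A[X])) (aeval Y₀ r) := by
  have h : φ.comp (Ideal.Quotient.mkₐ A (Ideal.span ({X ^ N} : Set A[X]))) =
      (Ideal.Quotient.mkₐ A (Ideal.span ({X ^ N} : Set A[X]))).comp (aeval Y₀) := by
    apply Polynomial.algHom_ext
    simpa using hφ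
  exact DFunLike.congr_fun h r

theorem part2_fwd (p : ℕ) [Fact p.Prime] (A : Type u) [CommRing A] [CharP A p] (a₁ ap : A)
    (φ : (A[X] ⧸ Ideal.span ({X ^ p ^ 2} : Set A[X])) →ₐ[A] (A[X] ⧸ Ideal.span ({X ^ p ^ 2} : Set A[X])))
    (hφ : φ (Ideal.Quotient.mk (Ideal.span ({X ^ p ^ 2} : Set A[X])) X) =
          Ideal.Quotient.mk (Ideal.span ({X ^ p ^ 2} : Set A[X])) (Polynomial.C a₁ * X + Polynomial.C ap * X ^ p))
    (hsurj : Function.Surjective φ) : IsUnit a₁ := by
  have hp : p.Prime := Fact.out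
  have hp2 := hp.two_le
  obtain ⟨rbar, hr⟩ := hsurj (Ideal.Quotient.mk _ X)
  obtain ⟨r, rfl⟩ := Ideal.Quotient.mk_surjective rbar
  rw [phi_mk _ _ φ hφ, Ideal.Quotient.eq, Ideal.mem_span_singleton] at hr
  obtain ⟨s, hs⟩ := hr
  have hs' : aeval (C a₁ * X + C ap * X ^ p) r = X + X ^ p ^ 2 * s := by
    rw [← hs]; ring
  have hd := congrArg (fun P => (derivative P).eval 0) hs'
  rw [← comp_eq_aeval, derivative_comp] at hd
  have hN : p ^ 2 - 1 ≠ 0 := by
    have : 4 ≤ p ^ 2 := by nlinarith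
    omega
  have hN' : p ^ 2 ≠ 0 := by positivity
  have hp1 : p - 1 ≠ 0 := by omega
  simp [derivative_X_pow, zero_pow hN'] at hd
  exact IsUnit.of_mul_eq_one _ hd

theorem part2_bwd (p : ℕ) [Fact p.Prime] (A : Type u) [CommRing A] [CharP A p] (a₁ ap : A)
    (φ : (A[X] ⧸ Ideal.span ({X ^ p ^ 2} : Set A[X])) →ₐ[A] (A[X] ⧸ Ideal.span ({X ^ p ^ 2} : Set A[X])))
    (hφ : φ (Ideal.Quotient.mk (Ideal.span ({X ^ p ^ 2} : Set A[X])) X) =
          Ideal.Quotient.mk (Ideal.span ({X ^ p ^ 2} : Set A[X])) (Polynomial.C a₁ * X + Polynomial.C ap * X ^ p))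
    (hu : IsUnit a₁) : Function.Bijective φ := by
  obtain ⟨b, hb⟩ := hu.exists_right_inv
  have hsurj : Function.Surjective φ := by
    -- preimage of mk X
    have hY : (C a₁ * X + C ap * X ^ p : A[X]) ^ p = C (a₁ ^ p) * X ^ p + C (ap ^ p) * X ^ p ^ 2 := by
      rw [add_pow_char, mul_pow, mul_pow, ← C_pow, ← C_pow, ← pow_mul, pow_two]
    have e : (C a₁ * C b : A[X]) = 1 := by rw [← C_mul, hb, C_1]
    have e2 : (C a₁ * C b : A[X]) ^ p = 1 := by rw [e, one_pow]
    have hw : φ (Ideal.Quotient.mk _ (C b * X - C (b * ap * b ^ p) * X ^ p)) =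
        Ideal.Quotient.mk _ X := by
      rw [phi_mk _ _ φ hφ, Ideal.Quotient.eq, Ideal.mem_span_singleton]
      refine ⟨- C (b * ap * b ^ p * ap ^ p), ?_⟩
      simp only [map_sub, map_mul, aeval_C, aeval_X, map_pow, hY]
      simp only [Polynomial.algebraMap_eq] at e2 ⊢
      linear_combination X * e - C b * C ap * X ^ p * e2
    intro y
    obtain ⟨r, rfl⟩ := Ideal.Quotient.mk_surjective y
    refine ⟨aeval (Ideal.Quotient.mk _ (C b * X - C (b * ap * b ^ p) * X ^ p)) r, ?_⟩
    rw [← aeval_algHom_apply, hw]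
    have := aeval_algHom_apply (Ideal.Quotient.mkₐ A (Ideal.span ({X ^ p ^ 2} : Set A[X]))) X r
    simpa using this
  have : Module.Finite A (A[X] ⧸ Ideal.span ({X ^ p ^ 2} : Set A[X])) :=
    (monic_X_pow (p ^ 2)).finite_quotient
  exact ⟨OrzechProperty.injective_of_surjective_endomorphism φ.toLinearMap hsurj, hsurj⟩


open Polynomial in
/-- Let p be a prime and A a commutative ring of characteristic p, and consider the infinitesimal group
scheme Spec A[X]/(X^{p²}) with the additive group law. In coordinates: (1) a polynomial q ∈ A[X] of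
degree less than p² satisfies q(Y + Z) − q(Y) − q(Z) ∈ (Y^{p²}, Z^{p²}) in A[Y, Z] (that is, X ↦ q
respects the comultiplication) if and only if q = a₁ X + a_p X^p for some a₁, a_p ∈ A; (2) an
A-algebra endomorphism of A[X]/(X^{p²}) that sends the class of X to the class of a₁ X + a_p X^p is
bijective if and only if a₁ is a unit of A. (The printed statement is that the automorphism group
scheme of this group scheme is the semidirect product of the additive group by the multiplicative
group, v acting on u by v^{p−1}u; this row records the two computations it consists of, in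
coordinates.) -/
theorem result (p : ℕ) [Fact p.Prime] (A : Type u) [CommRing A] [CharP A p] :
    (∀ q : A[X], q.natDegree < p ^ 2 →
      (Polynomial.aeval (MvPolynomial.X 0 + MvPolynomial.X 1 : MvPolynomial (Fin 2) A) q -
            Polynomial.aeval (MvPolynomial.X 0 : MvPolynomial (Fin 2) A) q -
            Polynomial.aeval (MvPolynomial.X 1 : MvPolynomial (Fin 2) A) q ∈
          Ideal.span ({MvPolynomial.X 0 ^ p ^ 2, MvPolynomial.X 1 ^ p ^ 2} : Set (MvPolynomial (Fin 2) A)) ↔
        ∃ a₁ ap : A, q = Polynomial.C a₁ * X + Polynomial.C ap * X ^ p)) ∧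
    (∀ (a₁ ap : A) (φ : (A[X] ⧸ Ideal.span ({X ^ p ^ 2} : Set A[X])) →ₐ[A] (A[X] ⧸ Ideal.span ({X ^ p ^ 2} : Set A[X]))),
      φ (Ideal.Quotient.mk (Ideal.span ({X ^ p ^ 2} : Set A[X])) X) =
          Ideal.Quotient.mk (Ideal.span ({X ^ p ^ 2} : Set A[X])) (Polynomial.C a₁ * X + Polynomial.C ap * X ^ p) →
        (Function.Bijective φ ↔ IsUnit a₁)) := by
  refine ⟨fun q hq => ⟨part1_fwd p A q hq, ?_⟩, ?_⟩
  · rintro ⟨a₁, ap, rfl⟩
    rw [part1_bwd]
    exact Ideal.zero_mem _
  · intro a₁ ap φ hφ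
    exact ⟨fun h => part2_fwd p A a₁ ap φ hφ h.2, fun h => part2_bwd p A a₁ ap φ hφ h⟩

end Groth.Agent.S13099
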