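import Groth.Statements.S13100
import Groth.Agent.Lib.Helper19PowerSeries
import Mathlib.RingTheory.Henselian
import Mathlib.RingTheory.PowerSeries.Inverse

set_option autoImplicit false
universe u
open GrpSch

namespace Groth.Agent.S13100

open Polynomial in
/-- A power series over an algebraically closed field of characteristic not two whose constant
coefficient is nonzero is a square. -/
lemma isSquare_powerSeries (k : Type u) [Field k] [IsAlgClosed k] (h2 : (2 : k) ≠ 0)
    (w : PowerSeries k) (hw : PowerSeries.constantCoeff w ≠ 0) : IsSquare w := by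
  have hmax : IsLocalRing.maximalIdeal k = ⊥ := IsLocalRing.maximalIdeal_eq_bot
  have hcomp0 : IsAdicComplete (IsLocalRing.maximalIdeal k) k := by
    rw [hmax]; infer_instance
  have hcomp : IsAdicComplete (IsLocalRing.maximalIdeal (MvPowerSeries Unit k))
      (MvPowerSeries Unit k) :=
    Groth.Agent.Lib.Helper19.isAdicComplete_mvPowerSeries
  have hcomp' : IsAdicComplete (IsLocalRing.maximalIdeal (PowerSeries k)) (PowerSeries k) := hcomp
  have hhens : HenselianRing (PowerSeries k) (IsLocalRing.maximalIdeal (PowerSeries k)) :=
    inferInstance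
  obtain ⟨b, hb⟩ := IsAlgClosed.exists_pow_nat_eq (PowerSeries.constantCoeff w) (n := 2) (by norm_num)
  have hb0 : b ≠ 0 := by
    rintro rfl
    apply hw
    rw [← hb]; simp
  have hmem : ∀ g : PowerSeries k, g ∈ IsLocalRing.maximalIdeal (PowerSeries k) ↔
      PowerSeries.constantCoeff g = 0 := by
    intro g
    rw [IsLocalRing.mem_maximalIdeal, mem_nonunits_iff, PowerSeries.isUnit_iff_constantCoeff,
      isUnit_iff_ne_zero, not_not]
  let f : (PowerSeries k)[X] := X ^ 2 - C w
  have hf : f.Monic := monic_X_pow_sub_C w (by norm_num)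
  have h1 : f.eval (PowerSeries.C b) ∈ IsLocalRing.maximalIdeal (PowerSeries k) := by
    rw [hmem]
    simp only [f, eval_sub, eval_pow, eval_X, eval_C, map_sub, map_pow,
      PowerSeries.constantCoeff_C]
    rw [hb, sub_self]
  have h2' : IsUnit (Ideal.Quotient.mk (IsLocalRing.maximalIdeal (PowerSeries k))
      (f.derivative.eval (PowerSeries.C b))) := by
    apply IsUnit.map
    rw [PowerSeries.isUnit_iff_constantCoeff, isUnit_iff_ne_zero]
    simp only [f, derivative_sub, derivative_X_pow, derivative_C, sub_zero, eval_mul, eval_pow,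
      eval_X, eval_C, map_mul, map_pow, PowerSeries.constantCoeff_C]
    have h3 : PowerSeries.constantCoeff (2 : PowerSeries k) = 2 := map_ofNat _ 2
    simp [h3, h2, hb0]
  obtain ⟨a, ha, -⟩ := HenselianRing.is_henselian f hf (PowerSeries.C b) h1 h2'
  refine ⟨a, ?_⟩
  have : a ^ 2 - w = 0 := by
    simpa [f, IsRoot.def] using ha
  rw [← sq, ← sub_eq_zero.mp this]

/-- Let k be an algebraically closed field of characteristic different from 2 and K = k((t)) the field
of Laurent series over k. Then a non-zero Laurent series f is a square in K if and only if its order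
in t is even; consequently the group Kˣ/Kˣ² of non-zero elements modulo squares has exactly two
elements, represented by 1 and t. -/
theorem result (k : Type u) [Field k] [IsAlgClosed k] (h2 : (2 : k) ≠ 0)
    (f : LaurentSeries k) (hf : f ≠ 0) : IsSquare f ↔ Even f.order := by
  constructor
  · rintro ⟨g, rfl⟩
    have hg : g ≠ 0 := by
      rintro rfl
      exact hf (by simp)
    rw [HahnSeries.order_mul hg hg]
    exact ⟨g.order, rfl⟩
  · rintro ⟨n, hn⟩
    have hw : PowerSeries.constantCoeff (LaurentSeries.powerSeriesPart f) ≠ 0 := by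
      rw [← PowerSeries.coeff_zero_eq_constantCoeff_apply, LaurentSeries.powerSeriesPart_coeff]
      simpa using (HahnSeries.coeff_order_eq_zero (x := f)).not.mpr hf
    obtain ⟨v, hv⟩ := isSquare_powerSeries k h2 _ hw
    refine ⟨HahnSeries.single n (1 : k) * (HahnSeries.ofPowerSeries ℤ k v), ?_⟩
    have h1 := LaurentSeries.single_order_mul_powerSeriesPart f
    rw [hn, hv] at h1
    rw [← h1, map_mul]
    have h3 : (HahnSeries.single (n + n) (1 : k) : LaurentSeries k) =
        HahnSeries.single n 1 * HahnSeries.single n 1 := by
      rw [HahnSeries.single_mul_single, mul_one]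
    rw [h3]
    ring

end Groth.Agent.S13100
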