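import Groth.Statements.S13101
import Mathlib
import Groth.Agent.Lib.Helper11Lie3

set_option autoImplicit false
universe u v
open GrpSch

namespace Groth.Agent.S13101

open Groth.Agent.Lib.Helper11Lie3


/-- Let A be a commutative ring in which 2 is a unit, and L a Lie algebra over A, free as a module with
basis x = bs 0, y = bs 1, z = bs 2 and brackets [x,y] = y, [x,z] = y + z, [y,z] = 0. Then for every
Lie algebra automorphism φ of L over A there are b, c, h ∈ A and a unit i of A with φ(x) = x + b y +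
c z, φ(y) = i y and φ(z) = h y + i z. Only the form of an automorphism is stated, not that every map
of this form is one. (The published statement identifies the automorphism group scheme with a
semidirect product of two additive groups by the product of the multiplicative and additive group,
for algebras over a field of Laurent series of characteristic not 2, and deduces the vanishing of
its first cohomology; this row records the determination of the automorphisms, over any base ring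
with 2 invertible; the cohomological consequence is not restated.) -/
theorem result (A : Type u) [CommRing A] (h2 : IsUnit (2 : A))
    (L : Type v) [LieRing L] [LieAlgebra A L] (bs : Module.Basis (Fin 3) A L)
    (hxy : ⁅bs 0, bs 1⁆ = bs 1) (hxz : ⁅bs 0, bs 2⁆ = bs 1 + bs 2) (hyz : ⁅bs 1, bs 2⁆ = 0)
    (φ : L ≃ₗ⁅A⁆ L) :
    ∃ b c h i : A, IsUnit i ∧ φ (bs 0) = bs 0 + b • bs 1 + c • bs 2 ∧ φ (bs 1) = i • bs 1 ∧
      φ (bs 2) = h • bs 1 + i • bs 2 := by
  -- coordinates of a Lie endomorphism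
  have key : ∀ ψ : L →ₗ⁅A⁆ L,
      mat bs bs (ψ : L →ₗ[A] L) 0 1 = 0 ∧ mat bs bs (ψ : L →ₗ[A] L) 0 2 = 0 ∧
      mat bs bs (ψ : L →ₗ[A] L) 1 1 = mat bs bs (ψ : L →ₗ[A] L) 0 0 * mat bs bs (ψ : L →ₗ[A] L) 1 1 +
        mat bs bs (ψ : L →ₗ[A] L) 0 0 * mat bs bs (ψ : L →ₗ[A] L) 2 1 ∧
      mat bs bs (ψ : L →ₗ[A] L) 2 1 = mat bs bs (ψ : L →ₗ[A] L) 0 0 * mat bs bs (ψ : L →ₗ[A] L) 2 1 ∧
      mat bs bs (ψ : L →ₗ[A] L) 1 1 + mat bs bs (ψ : L →ₗ[A] L) 1 2 =
        mat bs bs (ψ : L →ₗ[A] L) 0 0 * mat bs bs (ψ : L →ₗ[A] L) 1 2 +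
        mat bs bs (ψ : L →ₗ[A] L) 0 0 * mat bs bs (ψ : L →ₗ[A] L) 2 2 ∧
      mat bs bs (ψ : L →ₗ[A] L) 2 1 + mat bs bs (ψ : L →ₗ[A] L) 2 2 =
        mat bs bs (ψ : L →ₗ[A] L) 0 0 * mat bs bs (ψ : L →ₗ[A] L) 2 2 := by
    intro ψ
    obtain ⟨I1, I2, -⟩ := hom_identities bs bs (bs 1) (bs 1 + bs 2) hxy hxz hyz
      (bs 1) (bs 1 + bs 2) hxy hxz hyz ψ
    have c10 := congrArg (fun v => bs.repr v 0) I1
    have c11 := congrArg (fun v => bs.repr v 1) I1
    have c12 := congrArg (fun v => bs.repr v 2) I1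
    have c20 := congrArg (fun v => bs.repr v 0) I2
    have c21 := congrArg (fun v => bs.repr v 1) I2
    have c22 := congrArg (fun v => bs.repr v 2) I2
    simp only [map_add, map_smul, Module.Basis.repr_self, Finsupp.coe_add, Finsupp.coe_smul,
      Pi.add_apply, Pi.smul_apply, Finsupp.single_apply, smul_eq_mul] at c10 c11 c12 c20 c21 c22
    simp only [Fin.isValue, Fin.reduceEq, if_false, if_true, mul_zero, mul_one, add_zero,
      zero_add] at c10 c11 c12 c20 c21 c22
    have m01 : mat bs bs (ψ : L →ₗ[A] L) 0 1 = 0 := c10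
    have m02 : mat bs bs (ψ : L →ₗ[A] L) 0 2 = 0 := by
      have : mat bs bs (ψ : L →ₗ[A] L) 0 1 + mat bs bs (ψ : L →ₗ[A] L) 0 2 = 0 := c20
      rw [m01, zero_add] at this
      exact this
    have e11 : mat bs bs (ψ : L →ₗ[A] L) 1 1 = _ := c11
    have e12 : mat bs bs (ψ : L →ₗ[A] L) 2 1 = _ := c12
    have e21 : mat bs bs (ψ : L →ₗ[A] L) 1 1 + mat bs bs (ψ : L →ₗ[A] L) 1 2 = _ := c21
    have e22 : mat bs bs (ψ : L →ₗ[A] L) 2 1 + mat bs bs (ψ : L →ₗ[A] L) 2 2 = _ := c22
    rw [m01] at e11 e12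
    rw [m02] at e21 e22
    refine ⟨m01, m02, ?_, ?_, ?_, ?_⟩
    · linear_combination e11
    · linear_combination e12
    · linear_combination e21
    · linear_combination e22
  -- matrices
  set M := mat bs bs ((φ : L →ₗ⁅A⁆ L) : L →ₗ[A] L) with hM
  set N := mat bs bs ((φ.symm : L →ₗ⁅A⁆ L) : L →ₗ[A] L) with hN
  obtain ⟨m01, m02, e1, e2, e3, e4⟩ := key (φ : L →ₗ⁅A⁆ L)
  obtain ⟨n01, n02, -, -, -, -⟩ := key (φ.symm : L →ₗ⁅A⁆ L)
  rw [← hM] at m01 m02 e1 e2 e3 e4
  rw [← hN] at n01 n02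
  have hMN : ∀ i j : Fin 3, ∑ k, M i k * N k j = if i = j then 1 else 0 := by
    intro i j
    exact mat_mul_symm bs bs φ.toLinearEquiv i j
  have hNM : ∀ i j : Fin 3, ∑ k, N i k * M k j = if i = j then 1 else 0 := by
    intro i j
    exact mat_symm_mul bs bs φ.toLinearEquiv i j
  -- 2x2 blocks
  let P : Matrix (Fin 2) (Fin 2) A := !![M 1 1, M 1 2; M 2 1, M 2 2]
  let Pb : Matrix (Fin 2) (Fin 2) A := !![N 1 1, N 1 2; N 2 1, N 2 2]
  let J : Matrix (Fin 2) (Fin 2) A := !![1, 1; 0, 1]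
  have hPbP : Pb * P = 1 := by
    have h11 := hNM 1 1
    have h12 := hNM 1 2
    have h21 := hNM 2 1
    have h22 := hNM 2 2
    simp only [Fin.sum_univ_three, m01, m02, mul_zero, zero_add] at h11 h12 h21 h22
    ext i j
    fin_cases i <;> fin_cases j <;> simp [P, Pb, Matrix.mul_apply, Fin.sum_univ_two] <;>
      assumption
  have hPJ : P * J = M 0 0 • (J * P) := by
    ext i j
    fin_cases i <;> fin_cases j <;> simp [P, J, Matrix.mul_apply, Fin.sum_univ_two]
    · linear_combination e1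
    · linear_combination e3
    · linear_combination e2
    · linear_combination e4
  have hPPb : P * Pb = 1 := mul_eq_one_comm.mp hPbP
  have htr : (2 : A) = 2 * M 0 0 := by
    have h1 : Matrix.trace (Pb * (P * J)) = Matrix.trace (Pb * (M 0 0 • (J * P))) := by rw [hPJ]
    rw [← Matrix.mul_assoc, hPbP, Matrix.one_mul, Matrix.mul_smul, Matrix.trace_smul,
      Matrix.trace_mul_comm, Matrix.mul_assoc, hPPb, Matrix.mul_one] at h1
    have h2' : J.trace = 2 := by
      simp [J, Matrix.trace_fin_two]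
      norm_num
    rw [h2', smul_eq_mul] at h1
    linear_combination h1
  have ha : M 0 0 = 1 := by
    obtain ⟨u, hu⟩ := h2
    have h3 : (u : A) * (M 0 0 - 1) = 0 := by rw [hu]; linear_combination -htr
    have h4 := congrArg (fun t => ((u⁻¹ : Aˣ) : A) * t) h3
    simp only [mul_zero, ← mul_assoc, Units.inv_mul, one_mul] at h4
    linear_combination h4
  rw [ha] at e1 e3 e4
  simp only [one_mul] at e1 e3 e4
  have m21 : M 2 1 = 0 := by linear_combination -e1
  have m22 : M 2 2 = M 1 1 := by linear_combination -e3 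
  have hunit : IsUnit (M 1 1) := by
    have h11 := hNM 1 1
    simp only [Fin.sum_univ_three, m01, m21, mul_zero, zero_add, add_zero, if_true] at h11
    exact IsUnit.of_mul_eq_one _ (by rw [mul_comm]; exact h11)
  refine ⟨M 1 0, M 2 0, M 1 2, M 1 1, hunit, ?_, ?_, ?_⟩
  · have := map_basis bs bs ((φ : L →ₗ⁅A⁆ L) : L →ₗ[A] L) 0
    rw [← hM, ha, one_smul] at this
    exact this
  · have := map_basis bs bs ((φ : L →ₗ⁅A⁆ L) : L →ₗ[A] L) 1
    rw [← hM, m01, m21, zero_smul, zero_smul, zero_add, add_zero] at this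
    exact this
  · have := map_basis bs bs ((φ : L →ₗ⁅A⁆ L) : L →ₗ[A] L) 2
    rw [← hM, m02, m22, zero_smul, zero_add] at this
    exact this

end Groth.Agent.S13101
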