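import Groth.Statements.S13102
import Mathlib
import Groth.Agent.Lib.Helper11Lie3

set_option autoImplicit false
universe u v w
open GrpSch

namespace Groth.Agent.S13102

open Groth.Agent.Lib.Helper11Lie3


/-- Let K be a field, α ∈ K, A a commutative K-algebra and L a Lie algebra over A which is free as an
A-module with basis x = bs 0, y = bs 1, z = bs 2 and brackets [x,y] = y, [x,z] = α z, [y,z] = 0. If
α² ≠ 1 then every Lie algebra automorphism φ of L over A satisfies φ(x) = x + b y + c z, φ(y) = e y,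
φ(z) = i z for some b, c ∈ A and units e, i of A. If α = 1 then every such φ satisfies φ(x) = x + b
y + c z, φ(y) = e y + f z, φ(z) = h y + i z with e i − f h a unit of A. (The printed statement
identifies the automorphism group schemes with the corresponding semidirect products, treats also α
= −1 in characteristic not 2, and computes first cohomology over a field of Laurent series; those
clauses are not restated here.) -/
theorem result (K : Type u) [Field K] (α : K) (A : Type v) [CommRing A] [Algebra K A]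
    (L : Type w) [LieRing L] [LieAlgebra A L] (bs : Module.Basis (Fin 3) A L)
    (hxy : ⁅bs 0, bs 1⁆ = bs 1) (hxz : ⁅bs 0, bs 2⁆ = algebraMap K A α • bs 2) (hyz : ⁅bs 1, bs 2⁆ = 0)
    (φ : L ≃ₗ⁅A⁆ L) :
    (α ^ 2 ≠ 1 → ∃ b c e i : A, IsUnit e ∧ IsUnit i ∧ φ (bs 0) = bs 0 + b • bs 1 + c • bs 2 ∧
        φ (bs 1) = e • bs 1 ∧ φ (bs 2) = i • bs 2) ∧
    (α = 1 → ∃ b c e f h i : A, IsUnit (e * i - f * h) ∧ φ (bs 0) = bs 0 + b • bs 1 + c • bs 2 ∧
        φ (bs 1) = e • bs 1 + f • bs 2 ∧ φ (bs 2) = h • bs 1 + i • bs 2) := by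
  set α' := algebraMap K A α with hα'
  -- coordinates of a Lie endomorphism
  have key : ∀ ψ : L →ₗ⁅A⁆ L,
      mat bs bs (ψ : L →ₗ[A] L) 0 1 = 0 ∧
      mat bs bs (ψ : L →ₗ[A] L) 1 1 * (1 - mat bs bs (ψ : L →ₗ[A] L) 0 0) = 0 ∧
      mat bs bs (ψ : L →ₗ[A] L) 2 1 * (1 - α' * mat bs bs (ψ : L →ₗ[A] L) 0 0) = 0 ∧
      α' * mat bs bs (ψ : L →ₗ[A] L) 0 2 = 0 ∧
      (α' - mat bs bs (ψ : L →ₗ[A] L) 0 0) * mat bs bs (ψ : L →ₗ[A] L) 1 2 =
        - (mat bs bs (ψ : L →ₗ[A] L) 1 0 * mat bs bs (ψ : L →ₗ[A] L) 0 2) ∧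
      α' * mat bs bs (ψ : L →ₗ[A] L) 2 2 * (1 - mat bs bs (ψ : L →ₗ[A] L) 0 0) = 0 ∧
      mat bs bs (ψ : L →ₗ[A] L) 1 1 * mat bs bs (ψ : L →ₗ[A] L) 0 2 = 0 := by
    intro ψ
    obtain ⟨I1, I2, I3⟩ := hom_identities bs bs (bs 1) (α' • bs 2) hxy hxz hyz
      (bs 1) (α' • bs 2) hxy hxz hyz ψ
    have c10 := congrArg (fun v => bs.repr v 0) I1
    have c11 := congrArg (fun v => bs.repr v 1) I1
    have c12 := congrArg (fun v => bs.repr v 2) I1
    have c20 := congrArg (fun v => bs.repr v 0) I2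
    have c21 := congrArg (fun v => bs.repr v 1) I2
    have c22 := congrArg (fun v => bs.repr v 2) I2
    have c31 := congrArg (fun v => bs.repr v 1) I3
    simp only [map_add, map_smul, map_zero, Module.Basis.repr_self, Finsupp.coe_add,
      Finsupp.coe_smul, Finsupp.coe_zero, Pi.zero_apply,
      Pi.add_apply, Pi.smul_apply, Finsupp.single_apply, smul_eq_mul] at c10 c11 c12 c20 c21 c22 c31
    simp only [Fin.isValue, Fin.reduceEq, if_false, if_true, mul_zero, mul_one, add_zero,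
      zero_add] at c10 c11 c12 c20 c21 c22 c31
    have m01 : mat bs bs (ψ : L →ₗ[A] L) 0 1 = 0 := c10
    have e11 : mat bs bs (ψ : L →ₗ[A] L) 1 1 = _ := c11
    have e12 : mat bs bs (ψ : L →ₗ[A] L) 2 1 = _ := c12
    have e20 : α' * mat bs bs (ψ : L →ₗ[A] L) 0 2 = _ := c20
    have e21 : α' * mat bs bs (ψ : L →ₗ[A] L) 1 2 = _ := c21
    have e22 : α' * mat bs bs (ψ : L →ₗ[A] L) 2 2 = _ := c22
    rw [m01] at e11 e12 c31
    refine ⟨m01, ?_, ?_, e20, ?_, ?_, ?_⟩
    · linear_combination e11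
    · linear_combination e12
    · linear_combination e21
    · linear_combination e22 - mat bs bs (ψ : L →ₗ[A] L) 2 0 * e20
    · linear_combination c31
  -- matrices
  set M := mat bs bs ((φ : L →ₗ⁅A⁆ L) : L →ₗ[A] L) with hM
  set N := mat bs bs ((φ.symm : L →ₗ⁅A⁆ L) : L →ₗ[A] L) with hN
  obtain ⟨m01, E2, E3, E4, E5, E6, E7⟩ := key (φ : L →ₗ⁅A⁆ L)
  obtain ⟨n01, F2, F3, F4, F5, F6, F7⟩ := key (φ.symm : L →ₗ⁅A⁆ L)
  rw [← hM] at m01 E2 E3 E4 E5 E6 E7
  rw [← hN] at n01 F2 F3 F4 F5 F6 F7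
  have hMN : ∀ i j : Fin 3, ∑ k, M i k * N k j = if i = j then 1 else 0 := by
    intro i j
    exact mat_mul_symm bs bs φ.toLinearEquiv i j
  have hNM : ∀ i j : Fin 3, ∑ k, N i k * M k j = if i = j then 1 else 0 := by
    intro i j
    exact mat_symm_mul bs bs φ.toLinearEquiv i j
  have nm00 := hNM 0 0
  have nm11 := hNM 1 1
  have nm12 := hNM 1 2
  have nm21 := hNM 2 1
  have nm22 := hNM 2 2
  have mn11 := hMN 1 1
  have mn22 := hMN 2 2
  simp only [Fin.sum_univ_three, m01, n01, mul_zero, zero_mul, zero_add, add_zero, if_true,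
    Fin.isValue, Fin.reduceEq, if_false] at nm00 nm11 nm12 nm21 nm22 mn11 mn22
  have e0 := map_basis bs bs ((φ : L →ₗ⁅A⁆ L) : L →ₗ[A] L) 0
  have e1 := map_basis bs bs ((φ : L →ₗ⁅A⁆ L) : L →ₗ[A] L) 1
  have e2 := map_basis bs bs ((φ : L →ₗ⁅A⁆ L) : L →ₗ[A] L) 2
  rw [← hM] at e0 e1 e2
  constructor
  · intro hα
    -- units
    have hα1 : α - 1 ≠ 0 := by
      intro h
      apply hα
      have : α = 1 := by linear_combination h
      rw [this]; ring
    have hα2 : α + 1 ≠ 0 := by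
      intro h
      apply hα
      have : α = -1 := by linear_combination h
      rw [this]; ring
    obtain ⟨β1, hβ1⟩ : ∃ β : A, β * (α' - 1) = 1 := by
      refine ⟨algebraMap K A (α - 1)⁻¹, ?_⟩
      rw [hα', ← map_one (algebraMap K A), ← map_sub, ← map_mul, inv_mul_cancel₀ hα1]
    obtain ⟨β2, hβ2⟩ : ∃ β : A, β * (1 - α' ^ 2) = 1 := by
      refine ⟨algebraMap K A (-((α - 1)⁻¹ * (α + 1)⁻¹)), ?_⟩
      rw [hα', ← map_one (algebraMap K A), ← map_pow, ← map_sub, ← map_mul]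
      congr 1
      field_simp
      ring
    -- step 1: M02 = 0
    have fg : M 2 1 * M 0 2 = 0 := by
      linear_combination M 0 2 * E3 + M 0 0 * M 2 1 * E4
    have g0 : M 0 2 = 0 := by
      linear_combination (-(M 0 2)) * nm11 + N 1 1 * E7 + N 1 2 * fg
    rw [g0] at E5 nm22 nm12
    simp only [mul_zero, neg_zero, zero_add] at E5 nm22 nm12
    -- step 3: f h = 0
    have fh : M 2 1 * M 1 2 = 0 := by
      have h2 : (1 - α' ^ 2) * (M 2 1 * M 1 2) = 0 := by
        linear_combination M 1 2 * E3 - α' * M 2 1 * E5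
      linear_combination (-(M 2 1 * M 1 2)) * hβ2 + β2 * h2
    have f1 : M 2 1 = N 2 2 * M 2 2 * M 2 1 := by
      linear_combination (-(M 2 1)) * nm22 + N 2 1 * fh
    -- step 4
    have f2 : (1 - α') * M 2 1 = 0 := by
      linear_combination (1 - α') * f1 + N 2 2 * M 2 2 * E3 - N 2 2 * M 2 1 * E6
    have f0 : M 2 1 = 0 := by
      linear_combination (-(M 2 1)) * hβ1 - β1 * f2
    rw [f0] at nm11
    simp only [mul_zero, add_zero] at nm11
    have a1 : M 0 0 = 1 := by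
      linear_combination (-(M 0 0 - 1)) * nm11 - N 1 1 * E2
    rw [a1] at E5
    have h0 : M 1 2 = 0 := by
      linear_combination (-(M 1 2)) * hβ1 + β1 * E5
    rw [h0] at nm22
    simp only [mul_zero, zero_add] at nm22
    refine ⟨M 1 0, M 2 0, M 1 1, M 2 2, ?_, ?_, ?_, ?_, ?_⟩
    · exact IsUnit.of_mul_eq_one _ (by rw [mul_comm]; exact nm11)
    · exact IsUnit.of_mul_eq_one _ (by rw [mul_comm]; exact nm22)
    · rw [a1, one_smul] at e0; exact e0
    · rw [m01, f0, zero_smul, zero_smul, zero_add, add_zero] at e1; exact e1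
    · rw [g0, h0, zero_smul, zero_smul, zero_add, zero_add] at e2; exact e2
  · intro hα
    have hα1 : α' = 1 := by rw [hα', hα, map_one]
    rw [hα1] at E3 E4 E5 E6 F4
    simp only [one_mul] at E3 E4 E5 E6 F4
    rw [E4] at E5 nm22 nm12
    simp only [mul_zero, neg_zero, zero_add] at E5 nm22 nm12
    have a1 : M 0 0 = 1 := by
      linear_combination (-(M 0 0 - 1)) * nm11 - N 1 1 * E2 - N 1 2 * E3
    refine ⟨M 1 0, M 2 0, M 1 1, M 2 1, M 1 2, M 2 2, ?_, ?_, ?_, ?_⟩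
    · refine IsUnit.of_mul_eq_one (N 1 1 * N 2 2 - N 2 1 * N 1 2) ?_
      linear_combination (N 2 1 * M 1 2 + N 2 2 * M 2 2) * nm11 + nm22 -
        (N 2 1 * M 1 1 + N 2 2 * M 2 1) * nm12
    · rw [a1, one_smul] at e0; exact e0
    · rw [m01, zero_smul, zero_add] at e1; exact e1
    · rw [E4, zero_smul, zero_add] at e2; exact e2

end Groth.Agent.S13102
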