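import Groth.Statements.S13104
import Mathlib
import Groth.Agent.Lib.Helper11Epi

set_option autoImplicit false
universe u
open GrpSch

namespace Groth.Agent.S13104

open CategoryTheory AlgebraicGeometry in

open CategoryTheory AlgebraicGeometry in
/-- Let B be a commutative ring, B[ε] the ring of dual numbers (ε² = 0) and B[α, β]/(α², β²) the double
dual numbers, realised as dual numbers over the dual numbers with α the inner and β the outer
generator, and let ψ : B[ε] → B[α, β]/(α², β²) be the B-algebra homomorphism with ψ(ε) = αβ. Then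
for every scheme G the map u ↦ Spec(ψ) ≫ u from morphisms Spec B[ε] → G to morphisms Spec
B[α,β]/(α²,β²) → G is injective. (The printed statement is its consequence for a group scheme G: the
map Lie(G)(B) → G(B[α,β]/(α²,β²)), x ↦ exp(αβ x), is injective; the injectivity on all B[ε]-points
stated here is what the printed argument establishes.) -/
theorem result (B : Type u) [CommRing B]
    (ψ : DualNumber B →+* DualNumber (DualNumber B))
    (hψB : ∀ b : B, ψ (algebraMap B (DualNumber B) b) = algebraMap B (DualNumber (DualNumber B)) b)
    (hψ : ψ DualNumber.eps = algebraMap (DualNumber B) (DualNumber (DualNumber B)) DualNumber.eps * DualNumber.eps)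
    (G : Scheme.{u}) :
    Function.Injective (fun u : Spec (CommRingCat.of (DualNumber B)) ⟶ G =>
      Spec.map (CommRingCat.ofHom (R := DualNumber B) (S := DualNumber (DualNumber B)) ψ) ≫ u) := by
  have hψx : ∀ x : DualNumber B, ψ x = algebraMap B (DualNumber (DualNumber B)) x.fst +
      algebraMap B (DualNumber (DualNumber B)) x.snd *
        (algebraMap (DualNumber B) (DualNumber (DualNumber B)) DualNumber.eps * DualNumber.eps) := by
    intro x
    conv_lhs => rw [← x.inl_fst_add_inr_snd_eq, DualNumber.inr_eq_smul_eps, Algebra.smul_def,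
      ← TrivSqZeroExt.algebraMap_eq_inl]
    rw [map_add, map_mul, hψB, hψB, hψ]
  have hfst : ∀ x : DualNumber B, (ψ x).fst.fst = x.fst := by
    intro x
    rw [hψx]
    simp [TrivSqZeroExt.algebraMap_eq_inl']
  have hsnd : ∀ x : DualNumber B, (ψ x).snd.snd = x.snd := by
    intro x
    rw [hψx]
    simp [TrivSqZeroExt.algebraMap_eq_inl']
  have hinj : Function.Injective ψ := by
    rw [injective_iff_map_eq_zero]
    intro x hx
    ext
    · rw [← hfst, hx]; rfl
    · rw [← hsnd, hx]; rfl
  let π : DualNumber B →+* B := (TrivSqZeroExt.fstHom B B B).toRingHom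
  let π' : DualNumber (DualNumber B) →+* B :=
    π.comp (TrivSqZeroExt.fstHom (DualNumber B) (DualNumber B) (DualNumber B)).toRingHom
  have hππ : π'.comp ψ = π := by
    refine RingHom.ext fun x => ?_
    change (ψ x).fst.fst = x.fst
    exact hfst x
  have hπsurj : Function.Surjective π := fun b => ⟨TrivSqZeroExt.inl b, rfl⟩
  have hcomap : Function.Surjective (PrimeSpectrum.comap π) := by
    rw [← Set.range_eq_univ, range_comap_of_surjective _ _ hπsurj,
      PrimeSpectrum.zeroLocus_eq_univ_iff]
    intro x hx
    have hx0 : x.fst = 0 := hx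
    rw [SetLike.mem_coe, mem_nilradical]
    refine ⟨2, ?_⟩
    ext
    · simp [pow_two, hx0]
    · simp [pow_two, hx0]
  let F := Spec.map (CommRingCat.ofHom (R := DualNumber B) (S := DualNumber (DualNumber B)) ψ)
  haveI : IsSchemeTheoreticallyDominant F := by
    rw [isSchemeTheoreticallyDominant_iff]
    apply Scheme.IdealSheafData.ext_of_isAffine
    rw [Scheme.Hom.ker_apply, Scheme.IdealSheafData.ideal_bot, Pi.bot_apply,
      ← RingHom.injective_iff_ker_eq_bot]
    have h1 := Groth.Agent.Lib.Helper11.Epi.injective_appTop_SpecMap (A := DualNumber B) (A' := DualNumber (DualNumber B)) ψ hinj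
    exact h1
  have hS : Surjective (Spec.map (CommRingCat.ofHom π)) := by
    rw [surjective_iff]
    exact hcomap
  have hFπ : Spec.map (CommRingCat.ofHom π') ≫ F = Spec.map (CommRingCat.ofHom π) := by
    rw [← Spec.map_comp, ← CommRingCat.ofHom_comp, hππ]
  haveI : Surjective (Spec.map (CommRingCat.ofHom π') ≫ F) := by
    rw [hFπ]
    exact hS
  haveI : Surjective F := Surjective.of_comp (f := Spec.map (CommRingCat.ofHom π')) (g := F)
  intro a b hab
  exact Groth.Agent.Lib.Helper11.Epi.eq_of_comp_eq F a b hab

end Groth.Agent.S13104
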