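import Groth.Statements.S13107
import Mathlib
import Groth.Agent.Lib.Helper11Lie3B

set_option autoImplicit false
universe u v w
open GrpSch

namespace Groth.Agent.S13107

open Groth.Agent.Lib.Helper11Lie3

lemma no_sq (k : Type u) [Field k] (a : LaurentSeries k)
    (h : a * a * (HahnSeries.single 1 (1 : k) : LaurentSeries k) = 1) : False := by
  have ha : a ≠ 0 := by
    rintro rfl
    rw [zero_mul, zero_mul] at h
    exact zero_ne_one h
  have hT : (HahnSeries.single 1 (1 : k) : LaurentSeries k) ≠ 0 := by
    intro h0; rw [h0, mul_zero] at h; exact zero_ne_one h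
  have h1 := congrArg HahnSeries.order h
  rw [HahnSeries.order_mul (mul_ne_zero ha ha) hT, HahnSeries.order_mul ha ha,
    HahnSeries.order_single one_ne_zero, HahnSeries.order_one] at h1
  omega


/-- Let k be a field, K = k((t)) the field of Laurent series over k, F a Lie algebra over K with a basis
x' = bF 0, y' = bF 1, z' = bF 2 and brackets [x',y'] = z', [x',z'] = t y', [y',z'] = 0, and L a Lie
algebra over K with a basis x = bL 0, y = bL 1, z = bL 2 and brackets [x,y] = y, [x,z] = −z, [y,z] =
0. Then there is no K-linear isomorphism of Lie algebras between L and F: F is a non-trivial form of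
L over K. (The published result is the classification of three-dimensional Lie algebras over k((t))
for k algebraically closed of characteristic not 2, with F its only non-split entry; this row states
the non-isomorphism of F and L over k((t)) for every field k.) -/
theorem result (k : Type u) [Field k]
    (F : Type v) [LieRing F] [LieAlgebra (LaurentSeries k) F] (bF : Module.Basis (Fin 3) (LaurentSeries k) F)
    (hF01 : ⁅bF 0, bF 1⁆ = bF 2) (hF02 : ⁅bF 0, bF 2⁆ = (HahnSeries.single 1 (1 : k) : LaurentSeries k) • bF 1)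
    (hF12 : ⁅bF 1, bF 2⁆ = 0)
    (L : Type w) [LieRing L] [LieAlgebra (LaurentSeries k) L] (bL : Module.Basis (Fin 3) (LaurentSeries k) L)
    (hL01 : ⁅bL 0, bL 1⁆ = bL 1) (hL02 : ⁅bL 0, bL 2⁆ = -bL 2) (hL12 : ⁅bL 1, bL 2⁆ = 0) :
    IsEmpty (L ≃ₗ⁅LaurentSeries k⁆ F) := by
  refine ⟨fun φ => ?_⟩
  set T : LaurentSeries k := (HahnSeries.single 1 (1 : k) : LaurentSeries k) with hT
  obtain ⟨e1, e2, -⟩ := hom_identities bL bF (bL 1) (-bL 2) hL01 hL02 hL12 (bF 2) (T • bF 1)
    hF01 hF02 hF12 φ.toLieHom
  set M := mat bL bF (φ.toLieHom : L →ₗ[LaurentSeries k] F) with hM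
  have c01 : M 0 1 = 0 := by
    have := congrArg (fun v => bF.repr v 0) e1
    simpa [hM, mat] using this
  have c11 : M 1 1 = (M 0 0 * M 2 1 - M 2 0 * M 0 1) * T := by
    have := congrArg (fun v => bF.repr v 1) e1
    simpa [hM, mat] using this
  have c21 : M 2 1 = (M 0 0 * M 1 1 - M 1 0 * M 0 1) := by
    have := congrArg (fun v => bF.repr v 2) e1
    simpa [hM, mat] using this
  rw [c01, mul_zero, sub_zero] at c11 c21
  by_cases hsq : M 0 0 * M 0 0 * T = 1
  · exact no_sq k _ hsq
  · have hne : 1 - M 0 0 * M 0 0 * T ≠ 0 := sub_ne_zero.mpr (Ne.symm hsq)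
    have z11 : M 1 1 = 0 := by
      have : M 1 1 * (1 - M 0 0 * M 0 0 * T) = 0 := by
        rw [c21] at c11
        linear_combination c11
      rcases mul_eq_zero.mp this with h | h
      · exact h
      · exact absurd h hne
    have z21 : M 2 1 = 0 := by rw [c21, z11, mul_zero]
    have hz : φ (bL 1) = 0 := by
      have := map_basis bL bF (φ.toLieHom : L →ₗ[LaurentSeries k] F) 1
      rw [← hM, c01, z11, z21, zero_smul, zero_smul, zero_smul, add_zero, add_zero] at this
      exact this
    have : bL 1 = 0 := by
      apply φ.injective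
      exact hz.trans (map_zero φ).symm
    exact bL.ne_zero 1 this

end Groth.Agent.S13107
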