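import Groth.Statements.S13108
import Mathlib
import Groth.Agent.Lib.Helper11Lie3B

set_option autoImplicit false
universe u v w
open GrpSch

namespace Groth.Agent.S13108

open Groth.Agent.Lib.Helper11Lie3


/-- Let k be a field and t, t' ∈ k both non-zero; let L be a Lie algebra over k with a basis x = b 0, y
= b 1, z = b 2 and brackets [x,y] = y, [x,z] = t z, [y,z] = 0, and L' a Lie algebra over k with a
basis x' = b' 0, y' = b' 1, z' = b' 2 and brackets [x',y'] = y', [x',z'] = t' z', [y',z'] = 0. Then
L and L' are isomorphic Lie algebras over k if and only if t' = t or t' = t⁻¹. -/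
theorem result (k : Type u) [Field k] (t t' : k) (ht : t ≠ 0) (ht' : t' ≠ 0)
    (L : Type v) [LieRing L] [LieAlgebra k L] (b : Module.Basis (Fin 3) k L)
    (h01 : ⁅b 0, b 1⁆ = b 1) (h02 : ⁅b 0, b 2⁆ = t • b 2) (h12 : ⁅b 1, b 2⁆ = 0)
    (L' : Type w) [LieRing L'] [LieAlgebra k L'] (b' : Module.Basis (Fin 3) k L')
    (h01' : ⁅b' 0, b' 1⁆ = b' 1) (h02' : ⁅b' 0, b' 2⁆ = t' • b' 2) (h12' : ⁅b' 1, b' 2⁆ = 0) :
    Nonempty (L ≃ₗ⁅k⁆ L') ↔ (t' = t ∨ t' = t⁻¹) := by
  constructor
  · rintro ⟨φ⟩
    set M := mat b b' ((φ : L →ₗ⁅k⁆ L') : L →ₗ[k] L') with hM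
    set N := mat b' b ((φ.symm : L' →ₗ⁅k⁆ L) : L' →ₗ[k] L) with hN
    obtain ⟨I1, I2, -⟩ := hom_identities b b' (b 1) (t • b 2) h01 h02 h12
      (b' 1) (t' • b' 2) h01' h02' h12' (φ : L →ₗ⁅k⁆ L')
    rw [← hM] at I1 I2
    have c10 := congrArg (fun v => b'.repr v 0) I1
    have c11 := congrArg (fun v => b'.repr v 1) I1
    have c12 := congrArg (fun v => b'.repr v 2) I1
    have c20 := congrArg (fun v => b'.repr v 0) I2
    have c21 := congrArg (fun v => b'.repr v 1) I2
    have c22 := congrArg (fun v => b'.repr v 2) I2
    simp only [map_add, map_smul, Module.Basis.repr_self, Finsupp.coe_add,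
      Finsupp.coe_smul, Pi.add_apply, Pi.smul_apply, Finsupp.single_apply, smul_eq_mul]
      at c10 c11 c12 c20 c21 c22
    simp only [Fin.isValue, Fin.reduceEq, if_false, if_true, mul_zero, mul_one, add_zero,
      zero_add] at c10 c11 c12 c20 c21 c22
    have m01 : M 0 1 = 0 := c10
    have m02 : M 0 2 = 0 := by
      have h : t * M 0 2 = 0 := c20
      rcases mul_eq_zero.mp h with h | h
      · exact absurd h ht
      · exact h
    have e11 : M 1 1 = _ := c11
    have e12 : M 2 1 = _ := c12
    have e21 : t * M 1 2 = _ := c21
    have e22 : t * M 2 2 = _ := c22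
    rw [m01] at e11 e12
    rw [m02] at e21 e22
    have E1 : (1 - M 0 0) * M 1 1 = 0 := by linear_combination e11
    have E2 : (1 - t' * M 0 0) * M 2 1 = 0 := by linear_combination e12
    have E3 : (t - M 0 0) * M 1 2 = 0 := by linear_combination e21
    have E4 : (t - t' * M 0 0) * M 2 2 = 0 := by linear_combination e22
    have hNM : ∀ i j : Fin 3, ∑ l, N i l * M l j = if i = j then 1 else 0 := by
      intro i j
      exact mat_symm_mul b b' φ.toLinearEquiv i j
    have nm11 := hNM 1 1
    have nm12 := hNM 1 2
    have nm21 := hNM 2 1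
    have nm22 := hNM 2 2
    simp only [Fin.sum_univ_three, m01, m02, mul_zero, zero_add, if_true,
      Fin.isValue, Fin.reduceEq, if_false] at nm11 nm12 nm21 nm22
    by_cases h11 : M 1 1 = 0
    · -- swap case
      rw [h11, mul_zero, zero_add] at nm11 nm21
      have h21 : M 2 1 ≠ 0 := by
        intro h; rw [h, mul_zero] at nm11; exact zero_ne_one nm11
      have n22 : N 2 2 = 0 := by
        rcases mul_eq_zero.mp nm21 with h | h
        · exact h
        · exact absurd h h21
      rw [n22, zero_mul, add_zero] at nm22
      have h12' : M 1 2 ≠ 0 := by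
        intro h; rw [h, mul_zero] at nm22; exact zero_ne_one nm22
      have a1 : 1 - t' * M 0 0 = 0 := by
        rcases mul_eq_zero.mp E2 with h | h
        · exact h
        · exact absurd h h21
      have a2 : t - M 0 0 = 0 := by
        rcases mul_eq_zero.mp E3 with h | h
        · exact h
        · exact absurd h h12'
      right
      have a3 : M 0 0 = t := by linear_combination -a2
      rw [a3] at a1
      have : t' * t = 1 := by linear_combination -a1
      exact eq_inv_of_mul_eq_one_left this
    · have a1 : M 0 0 = 1 := by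
        rcases mul_eq_zero.mp E1 with h | h
        · linear_combination -h
        · exact absurd h h11
      rw [a1, mul_one] at E2 E4
      by_cases h22 : M 2 2 = 0
      · rw [h22, mul_zero, add_zero] at nm22 nm12
        have h12' : M 1 2 ≠ 0 := by
          intro h; rw [h, mul_zero] at nm22; exact zero_ne_one nm22
        have n11 : N 1 1 = 0 := by
          rcases mul_eq_zero.mp nm12 with h | h
          · exact h
          · exact absurd h h12'
        rw [n11, zero_mul, zero_add] at nm11
        have h21 : M 2 1 ≠ 0 := by
          intro h; rw [h, mul_zero] at nm11; exact zero_ne_one nm11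
        have a2 : t - M 0 0 = 0 := by
          rcases mul_eq_zero.mp E3 with h | h
          · exact h
          · exact absurd h h12'
        have a3 : 1 - t' = 0 := by
          rcases mul_eq_zero.mp E2 with h | h
          · exact h
          · exact absurd h h21
        left
        rw [a1] at a2
        linear_combination (-1:k) * a2 - a3
      · left
        rcases mul_eq_zero.mp E4 with h | h
        · linear_combination -h
        · exact absurd h h22
  · rintro (h | h)
    · subst h
      obtain ⟨φ, -⟩ := lieEquiv_of_basis b (b.equiv b' (Equiv.refl _))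
        (by rw [h01]; simp only [Module.Basis.equiv_apply, Equiv.refl_apply]; rw [h01'])
        (by rw [h02, map_smul]; simp only [Module.Basis.equiv_apply, Equiv.refl_apply]; rw [h02'])
        (by rw [h12, map_zero]; simp only [Module.Basis.equiv_apply, Equiv.refl_apply]; rw [h12'])
      exact ⟨φ⟩
    · subst h
      set b'' : Module.Basis (Fin 3) k L' :=
        (b'.reindex (Equiv.swap 1 2)).unitsSMul (fun i => if i = 0 then Units.mk0 t ht else 1)
        with hb''
      have v0 : b'' 0 = t • b' 0 := by
        rw [hb'', Module.Basis.unitsSMul_apply, Module.Basis.reindex_apply]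
        simp
        rfl
      have v1 : b'' 1 = b' 2 := by
        rw [hb'', Module.Basis.unitsSMul_apply, Module.Basis.reindex_apply]
        simp
      have v2 : b'' 2 = b' 1 := by
        rw [hb'', Module.Basis.unitsSMul_apply, Module.Basis.reindex_apply]
        simp
      obtain ⟨φ, -⟩ := lieEquiv_of_basis b (b.equiv b'' (Equiv.refl _))
        (by rw [h01]; simp only [Module.Basis.equiv_apply, Equiv.refl_apply]
            rw [v0, v1, smul_lie, h02', smul_smul, mul_inv_cancel₀ ht, one_smul])
        (by rw [h02, map_smul]; simp only [Module.Basis.equiv_apply, Equiv.refl_apply]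
            rw [v0, v2, smul_lie, h01'])
        (by rw [h12, map_zero]; simp only [Module.Basis.equiv_apply, Equiv.refl_apply]
            rw [v1, v2, ← lie_skew, h12', neg_zero])
      exact ⟨φ⟩

end Groth.Agent.S13108
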