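import Groth.Statements.S13114
import Mathlib.RingTheory.Artinian.Ring
import Mathlib.LinearAlgebra.Eigenspace.Zero
import Mathlib.RingTheory.Jacobson.Ideal
import Mathlib.RingTheory.LocalRing.ResidueField.Basic
import Mathlib.RingTheory.Ideal.Cotangent

set_option autoImplicit false
universe u
open HilbChow

namespace Groth.Agent.S13114

/-- Let k be an algebraically closed field, A a commutative local k-algebra of finite dimension n over k
and u a unit of A. Then the determinant of multiplication by u on the k-vector space A, mapped to
the residue field of A, equals the n-th power of the residue class of u. -/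
theorem result
    (k A : Type u) [Field k] [IsAlgClosed k] [CommRing A] [Algebra k A] [IsLocalRing A]
    [Module.Finite k A] (u : Aˣ) :
    algebraMap k (IsLocalRing.ResidueField A) (Algebra.norm k (u : A)) =
      IsLocalRing.residue A (u : A) ^ Module.finrank k A := by
  have hfin : Module.Finite k (IsLocalRing.ResidueField A) :=
    Module.Finite.of_surjective (IsScalarTower.toAlgHom k A (IsLocalRing.ResidueField A)).toLinearMap
      IsLocalRing.residue_surjective
  have hint : Algebra.IsIntegral k (IsLocalRing.ResidueField A) := Algebra.IsIntegral.of_finite k _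
  obtain ⟨c, hc⟩ := (IsAlgClosed.algebraMap_bijective_of_isIntegral
    (k := k) (K := IsLocalRing.ResidueField A)).2 (IsLocalRing.residue A (u : A))
  -- the nilpotent part
  have hres : IsLocalRing.residue A (algebraMap k A c) =
      algebraMap k (IsLocalRing.ResidueField A) c :=
    (IsScalarTower.algebraMap_apply k A (IsLocalRing.ResidueField A) c).symm
  have hmem : (u : A) - algebraMap k A c ∈ IsLocalRing.maximalIdeal A := by
    rw [← IsLocalRing.residue_eq_zero_iff, map_sub, hres, hc, sub_self]
  have hart : IsArtinianRing A := IsArtinianRing.of_finite k A
  have hnil : IsNilpotent ((u : A) - algebraMap k A c) := by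
    obtain ⟨N, hN⟩ := IsArtinianRing.isNilpotent_jacobson_bot (R := A)
    rw [IsLocalRing.jacobson_eq_maximalIdeal ⊥ bot_ne_top] at hN
    refine ⟨N, ?_⟩
    have := Ideal.pow_mem_pow hmem N
    rw [hN] at this
    exact this
  -- compute the norm through the characteristic polynomial
  have hnil' : IsNilpotent (Algebra.lmul k A (algebraMap k A c - (u : A))) := by
    have h1 : IsNilpotent (algebraMap k A c - (u : A)) := by
      rw [← neg_sub]; exact hnil.neg
    exact h1.map (Algebra.lmul k A)
  have hnorm : Algebra.norm k (u : A) = c ^ Module.finrank k A := by
    have h1 := LinearMap.eval_charpoly (Algebra.lmul k A (algebraMap k A c - (u : A))) c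
    rw [hnil'.charpoly_eq_X_pow_finrank, Polynomial.eval_pow, Polynomial.eval_X] at h1
    rw [h1, Algebra.norm_apply]
    congr 1
    ext x
    simp [Algebra.smul_def]
  rw [hnorm, map_pow, hc]

end Groth.Agent.S13114
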