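import Groth.Statements.S13120
import Groth.Agent.Lib.Helper15CharTwo

set_option autoImplicit false
universe u
open KumFam
open Groth.Agent.Lib.Helper15.CharTwo

namespace Groth.Agent.S13120

open MvPolynomial in
/-- Let R be a commutative ring of characteristic 2 and l0, l2, l4, s0, s2, s4, τ ∈ R with τ a unit.
Inside R[u, v] (u = X 0, v = X 1) let A = R[u², u³, v², v³] be the coordinate ring of the product of
two cuspidal curves, and let D be the R-derivation of R[u, v] with D(u) = v²(l0 u⁴ + τ u³ + l2 u² +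
l4) and D(v) = u²(s0 v⁴ + τ v³ + s2 v² + s4); D is u²v² times the rational vector field (l0 u² + τ u
+ l2 + l4 u⁻²) ∂_u + (s0 v² + τ v + s2 + s4 v⁻²) ∂_v, which maps A into itself, and u²v² is a
non-zero-divisor, so the kernel of that vector field on A is the set of a ∈ A with D(a) = 0. Then
for a ∈ A: D(a) = 0 if and only if a ∈ R[u², v², g], where g = (s0 v⁴ + s2 v² + s4) u³ + (l0 u⁴ + l2
u² + l4) v³ + τ u³ v³. (The published statement identifies this kernel with the ring of invariants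
of the corresponding action of the group scheme of square roots of unity; this row states the kernel
computation that is actually carried out.) -/
theorem result (R : Type u) [CommRing R] [CharP R 2]
    (l0 l2 l4 s0 s2 s4 τ : R) (hτ : IsUnit τ) (a : MvPolynomial (Fin 2) R)
    (ha : a ∈ Algebra.adjoin R
      ({X 0 ^ 2, X 0 ^ 3, X 1 ^ 2, X 1 ^ 3} : Set (MvPolynomial (Fin 2) R))) :
    MvPolynomial.mkDerivation R
        (![X 1 ^ 2 * (C l0 * X 0 ^ 4 + C τ * X 0 ^ 3 + C l2 * X 0 ^ 2 + C l4),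
          X 0 ^ 2 * (C s0 * X 1 ^ 4 + C τ * X 1 ^ 3 + C s2 * X 1 ^ 2 + C s4)] :
          Fin 2 → MvPolynomial (Fin 2) R) a = 0 ↔
      a ∈ Algebra.adjoin R
        ({X 0 ^ 2, X 1 ^ 2,
          (C s0 * X 1 ^ 4 + C s2 * X 1 ^ 2 + C s4) * X 0 ^ 3 +
            (C l0 * X 0 ^ 4 + C l2 * X 0 ^ 2 + C l4) * X 1 ^ 3 +
            C τ * X 0 ^ 3 * X 1 ^ 3} : Set (MvPolynomial (Fin 2) R)) := by
  classical
  let Ms : MvPolynomial (Fin 2) R := C s0 * X 1 ^ 2 + C s2 * X 1 + C s4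
  let Ll : MvPolynomial (Fin 2) R := C l0 * X 0 ^ 2 + C l2 * X 0 + C l4
  let T2 : MvPolynomial (Fin 2) R := C τ * X 0 * X 1
  let g : MvPolynomial (Fin 2) R := (C s0 * X 1 ^ 4 + C s2 * X 1 ^ 2 + C s4) * X 0 ^ 3 +
      (C l0 * X 0 ^ 4 + C l2 * X 0 ^ 2 + C l4) * X 1 ^ 3 + C τ * X 0 ^ 3 * X 1 ^ 3
  let δ : Derivation R (MvPolynomial (Fin 2) R) (MvPolynomial (Fin 2) R) :=
    MvPolynomial.mkDerivation R
      (![X 1 ^ 2 * (C l0 * X 0 ^ 4 + C τ * X 0 ^ 3 + C l2 * X 0 ^ 2 + C l4),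
          X 0 ^ 2 * (C s0 * X 1 ^ 4 + C τ * X 1 ^ 3 + C s2 * X 1 ^ 2 + C s4)] :
          Fin 2 → MvPolynomial (Fin 2) R)
  change δ a = 0 ↔ a ∈ Algebra.adjoin R
    ({X 0 ^ 2, X 1 ^ 2, g} : Set (MvPolynomial (Fin 2) R))
  have h2 : (2 : MvPolynomial (Fin 2) R) = 0 := CharTwo.two_eq_zero
  have hMs : expand 2 Ms = C s0 * X 1 ^ 4 + C s2 * X 1 ^ 2 + C s4 := by
    simp only [Ms, map_add, map_mul, map_pow, expand_X, expand_C]; ring
  have hLl : expand 2 Ll = C l0 * X 0 ^ 4 + C l2 * X 0 ^ 2 + C l4 := by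
    simp only [Ll, map_add, map_mul, map_pow, expand_X, expand_C]; ring
  have hT2 : expand 2 T2 = C τ * X 0 ^ 2 * X 1 ^ 2 := by
    simp only [T2, map_mul, expand_X, expand_C]
  have hg : g = expand 2 Ms * X 0 ^ 3 + expand 2 Ll * X 1 ^ 3 + C τ * X 0 ^ 3 * X 1 ^ 3 := by
    rw [hMs, hLl]
  have hδ0 : δ (X 0) = X 1 ^ 2 * expand 2 Ll + C τ * X 0 ^ 3 * X 1 ^ 2 := by
    rw [hLl]
    change MvPolynomial.mkDerivation R _ (X 0) = _
    rw [mkDerivation_X, Matrix.cons_val_zero]; ring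
  have hδ1 : δ (X 1) = X 0 ^ 2 * expand 2 Ms + C τ * X 0 ^ 2 * X 1 ^ 3 := by
    rw [hMs]
    change MvPolynomial.mkDerivation R _ (X 1) = _
    rw [mkDerivation_X, Matrix.cons_val_one, Matrix.cons_val_zero]; ring
  have hgcomb : g = comb 0 (Ms * X 0) (Ll * X 1) T2 := by
    rw [hg]
    simp only [comb, map_mul, expand_X, hT2, map_zero]; ring
  have hδg : δ g = 0 := by
    rw [hgcomb, derivation_comb, hδ0, hδ1]
    simp only [map_mul, expand_X, hT2]
    linear_combination (expand 2 Ms * expand 2 Ll * X 0 ^ 2 * X 1 ^ 2 +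
      C τ * expand 2 Ms * X 0 ^ 5 * X 1 ^ 2 + C τ * expand 2 Ll * X 0 ^ 2 * X 1 ^ 5 +
      C τ ^ 2 * X 0 ^ 5 * X 1 ^ 5) * h2
  obtain ⟨τ', hτ'⟩ := hτ.exists_left_inv
  have hCτ : (C τ' : MvPolynomial (Fin 2) R) * C τ = 1 := by rw [← C_mul, hτ', C_1]
  have hmem0 : (X 0 ^ 2 : MvPolynomial (Fin 2) R) ∈ Algebra.adjoin R
      ({X 0 ^ 2, X 1 ^ 2, g} : Set (MvPolynomial (Fin 2) R)) :=
    Algebra.subset_adjoin (by simp)
  have hmem1 : (X 1 ^ 2 : MvPolynomial (Fin 2) R) ∈ Algebra.adjoin R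
      ({X 0 ^ 2, X 1 ^ 2, g} : Set (MvPolynomial (Fin 2) R)) :=
    Algebra.subset_adjoin (by simp)
  have hmemg : g ∈ Algebra.adjoin R
      ({X 0 ^ 2, X 1 ^ 2, g} : Set (MvPolynomial (Fin 2) R)) :=
    Algebra.subset_adjoin (by simp)
  constructor
  · intro hp
    obtain ⟨A, B, C', D', rfl⟩ := exists_cusp_form ha
    have hform : expand 2 A + expand 2 B * X 0 ^ 3 + expand 2 C' * X 1 ^ 3 +
        expand 2 D' * (X 0 ^ 3 * X 1 ^ 3) = comb A (B * X 0) (C' * X 1) (D' * X 0 * X 1) := by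
      simp only [comb, map_mul, expand_X]; ring
    rw [hform] at hp ⊢
    have h1' : δ (comb A (B * X 0) (C' * X 1) (D' * X 0 * X 1)) =
        comb (B * X 0 * X 1 * Ll + C' * X 1 * X 0 * Ms)
          ((C τ * B + D' * Ms) * X 1 * X 0 * X 0)
          ((C τ * C' + D' * Ll) * X 0 * X 1 * X 1) 0 := by
      rw [derivation_comb, hδ0, hδ1]
      simp only [comb, map_add, map_mul, expand_X, expand_C, map_zero]
      linear_combination (expand 2 D' * C τ * X 0 ^ 5 * X 1 ^ 5) * h2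
    rw [h1'] at hp
    obtain ⟨-, hB, hC, -⟩ := comb_eq_zero hp
    have hB0 : C τ * B + D' * Ms = 0 :=
      eq_zero_of_mul_X_eq_zero _ _ (eq_zero_of_mul_X_eq_zero _ _
        (eq_zero_of_mul_X_eq_zero _ _ hB))
    have hC0 : C τ * C' + D' * Ll = 0 :=
      eq_zero_of_mul_X_eq_zero _ _ (eq_zero_of_mul_X_eq_zero _ _
        (eq_zero_of_mul_X_eq_zero _ _ hC))
    have hB' : B = C τ' * D' * Ms := by
      have : B + C τ' * D' * Ms = 0 := by
        linear_combination (C τ') * hB0 - B * hCτ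
      exact CharTwo.add_eq_zero.mp this
    have hC' : C' = C τ' * D' * Ll := by
      have : C' + C τ' * D' * Ll = 0 := by
        linear_combination (C τ') * hC0 - C' * hCτ
      exact CharTwo.add_eq_zero.mp this
    have hfinal : comb A (B * X 0) (C' * X 1) (D' * X 0 * X 1) =
        expand 2 A + expand 2 (C τ' * D') * g := by
      rw [hg, hB', hC']
      simp only [comb, map_mul, expand_X, expand_C]
      linear_combination (-(expand 2 D' * X 0 ^ 3 * X 1 ^ 3)) * hCτ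
    rw [hfinal]
    exact Subalgebra.add_mem _ (expand_two_mem_adjoin _ hmem0 hmem1 A)
      (Subalgebra.mul_mem _ (expand_two_mem_adjoin _ hmem0 hmem1 _) hmemg)
  · intro hmem
    refine derivation_eq_zero_of_mem_adjoin δ _ ?_ hmem
    intro x hx
    rcases hx with rfl | rfl | rfl
    · rw [← expand_X]
      exact derivation_expand_two δ _
    · rw [← expand_X]
      exact derivation_expand_two δ _
    · exact hδg

end Groth.Agent.S13120
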