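import Groth.Statements.S13121
import Groth.Agent.Lib.Helper15CharTwo

set_option autoImplicit false
universe u
open KumFam
open Groth.Agent.Lib.Helper15.CharTwo

namespace Groth.Agent.S13121

open MvPolynomial in
/-- Let R be a commutative ring of characteristic 2 and l0, l2, l4, s0, s2, s4, τ ∈ R with τ a unit. In
R[u, v] (u = X 0, v = X 1) put g = (s0 v⁴ + s2 v² + s4) u³ + (l0 u⁴ + l2 u² + l4) v³ + τ u³ v³. Then
the kernel of the R-algebra homomorphism R[a, b, c] → R[u, v] (a = X 0, b = X 1, c = X 2) with a ↦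
u², b ↦ v², c ↦ g is the ideal generated by c² + s0² a³ b⁴ + s2² a³ b² + s4² a³ + l0² a⁴ b³ + l2² a²
b³ + l4² b³ + τ² a³ b³; its image is the subalgebra R[u², v², g], which is therefore presented by
this one equation. -/
theorem result (R : Type u) [CommRing R] [CharP R 2]
    (l0 l2 l4 s0 s2 s4 τ : R) (hτ : IsUnit τ) :
    RingHom.ker (MvPolynomial.aeval (R := R) (S₁ := MvPolynomial (Fin 2) R)
        ![X 0 ^ 2, X 1 ^ 2,
          (C s0 * X 1 ^ 4 + C s2 * X 1 ^ 2 + C s4) * X 0 ^ 3 +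
            (C l0 * X 0 ^ 4 + C l2 * X 0 ^ 2 + C l4) * X 1 ^ 3 +
            C τ * X 0 ^ 3 * X 1 ^ 3]) =
      Ideal.span {(X 2 ^ 2 + C (s0 ^ 2) * X 0 ^ 3 * X 1 ^ 4 + C (s2 ^ 2) * X 0 ^ 3 * X 1 ^ 2 +
        C (s4 ^ 2) * X 0 ^ 3 + C (l0 ^ 2) * X 0 ^ 4 * X 1 ^ 3 + C (l2 ^ 2) * X 0 ^ 2 * X 1 ^ 3 +
        C (l4 ^ 2) * X 1 ^ 3 + C (τ ^ 2) * X 0 ^ 3 * X 1 ^ 3 : MvPolynomial (Fin 3) R)} := by
  classical
  let H0 : MvPolynomial (Fin 2) R := (C s0 * X 1 ^ 2 + C s2 * X 1 + C s4) * X 0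
  let H1 : MvPolynomial (Fin 2) R := (C l0 * X 0 ^ 2 + C l2 * X 0 + C l4) * X 1
  let H2 : MvPolynomial (Fin 2) R := C τ * X 0 * X 1
  let g : MvPolynomial (Fin 2) R := (C s0 * X 1 ^ 4 + C s2 * X 1 ^ 2 + C s4) * X 0 ^ 3 +
      (C l0 * X 0 ^ 4 + C l2 * X 0 ^ 2 + C l4) * X 1 ^ 3 + C τ * X 0 ^ 3 * X 1 ^ 3
  let G : MvPolynomial (Fin 2) R := C (s0 ^ 2) * X 0 ^ 3 * X 1 ^ 4 + C (s2 ^ 2) * X 0 ^ 3 * X 1 ^ 2 +
        C (s4 ^ 2) * X 0 ^ 3 + C (l0 ^ 2) * X 0 ^ 4 * X 1 ^ 3 + C (l2 ^ 2) * X 0 ^ 2 * X 1 ^ 3 +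
        C (l4 ^ 2) * X 1 ^ 3 + C (τ ^ 2) * X 0 ^ 3 * X 1 ^ 3
  have hh : g = comb 0 H0 H1 H2 := by
    simp only [comb, H0, H1, H2, g, map_add, map_mul, map_pow, expand_X, expand_C, map_zero]
    ring
  have hG : expand 2 G = g ^ 2 := by
    simp only [G, g, CharTwo.add_sq, mul_pow, map_add, map_mul, map_pow, expand_X, expand_C]
    ring
  obtain ⟨τ', hτ'⟩ := hτ.exists_left_inv
  have hCτ : (C τ' : MvPolynomial (Fin 2) R) * C τ = 1 := by rw [← C_mul, hτ', C_1]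
  change RingHom.ker (MvPolynomial.aeval (R := R) (S₁ := MvPolynomial (Fin 2) R)
      ![X 0 ^ 2, X 1 ^ 2, g]) = _
  rw [ker_eq_span g H0 H1 H2 G hh ?_ hG]
  · congr 2
    simp only [G, map_add, map_mul, map_pow, ren_X0, ren_X1, ren_C]
    ring
  · intro P hP
    have h1 : (P * C τ * X 0) * X 1 = 0 := by
      rw [← hP]; simp only [H2]; ring
    have h2 := eq_zero_of_mul_X_eq_zero _ _ (eq_zero_of_mul_X_eq_zero _ _ h1)
    have : P * C τ * C τ' = 0 := by rw [h2, zero_mul]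
    rw [mul_assoc, mul_comm (C τ), hCτ, mul_one] at this
    exact this

end Groth.Agent.S13121
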