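import Groth.Statements.S13122
import Groth.Agent.Lib.Helper15CharTwo

set_option autoImplicit false
universe u
open KumFam
open Groth.Agent.Lib.Helper15.CharTwo

namespace Groth.Agent.S13122

open MvPolynomial in
/-- Let R be a commutative ring of characteristic 2 and l0, l2, l4, s0, s2, s4, τ ∈ R with τ a unit. On
R[x, y] (x = X 0, y = X 1; the coordinates u⁻¹, v⁻¹ of the smooth chart of the product of two
cuspidal curves) let D be the R-derivation with D(x) = l4 x⁴ + l2 x² + τ x + l0 and D(y) = s4 y⁴ +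
s2 y² + τ y + s0, and put h = (s4 y⁴ + s2 y² + s0) x + (l4 x⁴ + l2 x² + l0) y + τ x y. Then: (1) for
p ∈ R[x, y], D(p) = 0 if and only if p lies in the image of the R-algebra homomorphism R[a, b, c] →
R[x, y] (a = X 0, b = X 1, c = X 2) with a ↦ x², b ↦ y², c ↦ h; (2) the kernel of that homomorphism
is the ideal generated by c² + τ² a b + (s4² b⁴ + s2² b² + s0²) a + (l4² a⁴ + l2² a² + l0²) b. (The
published statement asserts that the ring of invariants of the action of the group scheme of square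
roots of unity given by this vector field is R[a, b, c] modulo this equation, by the same
computation as on the other chart; this row pins the generator h and states the kernel computation.) -/
theorem result (R : Type u) [CommRing R]
    [CharP R 2] (l0 l2 l4 s0 s2 s4 τ : R) (hτ : IsUnit τ) :
    (∀ p : MvPolynomial (Fin 2) R,
      MvPolynomial.mkDerivation R
          (![C l4 * X 0 ^ 4 + C l2 * X 0 ^ 2 + C τ * X 0 + C l0,
            C s4 * X 1 ^ 4 + C s2 * X 1 ^ 2 + C τ * X 1 + C s0] :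
            Fin 2 → MvPolynomial (Fin 2) R) p = 0 ↔
        p ∈ (MvPolynomial.aeval (R := R) (S₁ := MvPolynomial (Fin 2) R)
          ![X 0 ^ 2, X 1 ^ 2,
            (C s4 * X 1 ^ 4 + C s2 * X 1 ^ 2 + C s0) * X 0 +
              (C l4 * X 0 ^ 4 + C l2 * X 0 ^ 2 + C l0) * X 1 + C τ * X 0 * X 1]).range) ∧
    RingHom.ker (MvPolynomial.aeval (R := R) (S₁ := MvPolynomial (Fin 2) R)
        ![X 0 ^ 2, X 1 ^ 2,
          (C s4 * X 1 ^ 4 + C s2 * X 1 ^ 2 + C s0) * X 0 +
            (C l4 * X 0 ^ 4 + C l2 * X 0 ^ 2 + C l0) * X 1 + C τ * X 0 * X 1]) =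
      Ideal.span {(X 2 ^ 2 + C (τ ^ 2) * X 0 * X 1 +
        (C (s4 ^ 2) * X 1 ^ 4 + C (s2 ^ 2) * X 1 ^ 2 + C (s0 ^ 2)) * X 0 +
        (C (l4 ^ 2) * X 0 ^ 4 + C (l2 ^ 2) * X 0 ^ 2 + C (l0 ^ 2)) * X 1 : MvPolynomial (Fin 3) R)} := by
  classical
  let M₀ : MvPolynomial (Fin 2) R := C s4 * X 1 ^ 2 + C s2 * X 1 + C s0
  let L₀ : MvPolynomial (Fin 2) R := C l4 * X 0 ^ 2 + C l2 * X 0 + C l0
  let h : MvPolynomial (Fin 2) R := (C s4 * X 1 ^ 4 + C s2 * X 1 ^ 2 + C s0) * X 0 +
      (C l4 * X 0 ^ 4 + C l2 * X 0 ^ 2 + C l0) * X 1 + C τ * X 0 * X 1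
  let δ : Derivation R (MvPolynomial (Fin 2) R) (MvPolynomial (Fin 2) R) :=
    MvPolynomial.mkDerivation R
    (![C l4 * X 0 ^ 4 + C l2 * X 0 ^ 2 + C τ * X 0 + C l0,
       C s4 * X 1 ^ 4 + C s2 * X 1 ^ 2 + C τ * X 1 + C s0] : Fin 2 → MvPolynomial (Fin 2) R)
  have h2 : (2 : MvPolynomial (Fin 2) R) = 0 := CharTwo.two_eq_zero
  have hM : expand 2 M₀ = C s4 * X 1 ^ 4 + C s2 * X 1 ^ 2 + C s0 := by
    simp only [M₀, map_add, map_mul, map_pow, expand_X, expand_C]; ring
  have hL : expand 2 L₀ = C l4 * X 0 ^ 4 + C l2 * X 0 ^ 2 + C l0 := by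
    simp only [L₀, map_add, map_mul, map_pow, expand_X, expand_C]; ring
  have hh : h = comb 0 M₀ L₀ (C τ) := by
    simp only [comb, hM, hL, expand_C, map_zero, h]; ring
  have hδ0 : δ (X 0) = expand 2 L₀ + C τ * X 0 := by
    rw [hL]
    change MvPolynomial.mkDerivation R _ (X 0) = _
    rw [mkDerivation_X, Matrix.cons_val_zero]; ring
  have hδ1 : δ (X 1) = expand 2 M₀ + C τ * X 1 := by
    rw [hM]
    change MvPolynomial.mkDerivation R _ (X 1) = _
    rw [mkDerivation_X, Matrix.cons_val_one, Matrix.cons_val_zero]; ring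
  have hδh : δ h = 0 := by
    rw [hh, derivation_comb, hδ0, hδ1, expand_C]
    linear_combination (expand 2 M₀ * expand 2 L₀ + C τ * expand 2 M₀ * X 0 +
      C τ * expand 2 L₀ * X 1 + C τ ^ 2 * X 0 * X 1) * h2
  obtain ⟨τ', hτ'⟩ := hτ.exists_left_inv
  have hCτ : (C τ' : MvPolynomial (Fin 2) R) * C τ = 1 := by rw [← C_mul, hτ', C_1]
  constructor
  · intro p
    change δ p = 0 ↔ p ∈ (MvPolynomial.aeval (R := R) (S₁ := MvPolynomial (Fin 2) R)
      ![X 0 ^ 2, X 1 ^ 2, h]).range
    rw [AlgHom.mem_range]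
    constructor
    · intro hp
      obtain ⟨A, B, C', D', rfl⟩ := exists_comb p
      have h1' : δ (comb A B C' D') = comb (B * L₀ + C' * M₀) (C τ * B + D' * M₀)
          (C τ * C' + D' * L₀) 0 := by
        rw [derivation_comb, hδ0, hδ1]
        simp only [comb, map_add, map_mul, expand_C, map_zero]
        linear_combination (expand 2 D' * C τ * X 0 * X 1) * h2
      rw [h1'] at hp
      obtain ⟨-, hB, hC, -⟩ := comb_eq_zero hp
      have hB' : B = C τ' * D' * M₀ := by
        have : B + C τ' * D' * M₀ = 0 := by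
          linear_combination (C τ') * hB - B * hCτ
        exact CharTwo.add_eq_zero.mp this
      have hC' : C' = C τ' * D' * L₀ := by
        have : C' + C τ' * D' * L₀ = 0 := by
          linear_combination (C τ') * hC - C' * hCτ
        exact CharTwo.add_eq_zero.mp this
      refine ⟨ren A + ren (C τ' * D') * X 2, ?_⟩
      rw [map_add, map_mul, aeval_ren, aeval_ren, aeval_X]
      change expand 2 A + expand 2 (C τ' * D') * h = _
      rw [hh, hB', hC']
      simp only [comb, map_mul, expand_C, map_zero]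
      linear_combination (expand 2 D' * X 0 * X 1) * hCτ
    · rintro ⟨q, rfl⟩
      apply derivation_aeval_eq_zero
      intro i
      fin_cases i
      · change δ (X 0 ^ 2) = 0
        rw [← expand_X]
        exact derivation_expand_two δ _
      · change δ (X 1 ^ 2) = 0
        rw [← expand_X]
        exact derivation_expand_two δ _
      · exact hδh
  · change RingHom.ker (MvPolynomial.aeval (R := R) (S₁ := MvPolynomial (Fin 2) R)
      ![X 0 ^ 2, X 1 ^ 2, h]) = _
    let G : MvPolynomial (Fin 2) R := C (τ ^ 2) * X 0 * X 1 +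
        (C (s4 ^ 2) * X 1 ^ 4 + C (s2 ^ 2) * X 1 ^ 2 + C (s0 ^ 2)) * X 0 +
        (C (l4 ^ 2) * X 0 ^ 4 + C (l2 ^ 2) * X 0 ^ 2 + C (l0 ^ 2)) * X 1
    have hG : expand 2 G = h ^ 2 := by
      simp only [G, h, CharTwo.add_sq, mul_pow, map_add, map_mul, map_pow, expand_X, expand_C]
      ring
    rw [ker_eq_span h M₀ L₀ (C τ) G hh ?_ hG]
    · congr 2
      simp only [G, map_add, map_mul, map_pow, ren_X0, ren_X1, ren_C]
      ring
    · intro P hP
      have : P * C τ * C τ' = 0 := by rw [hP, zero_mul]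
      rw [mul_assoc, mul_comm (C τ), hCτ, mul_one] at this
      exact this

end Groth.Agent.S13122
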