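import Groth.Statements.S13124
import Mathlib

set_option autoImplicit false
universe u v w
open KumFam

namespace Groth.Agent.S13124

open scoped TensorProduct

theorem result' (k : Type u) [CommRing k]
    (A : Type v) [CommRing A] [Bialgebra k A] [Module.Flat k A]
    (R : Type w) [CommRing R] [Algebra k R] [IsDomain R] [IsIntegrallyClosed R]
    [HopfRep.Comod k A R] [GLin.IsCoactAlg k A R] :
    IsIntegrallyClosed (GLin.invariants k A R) := by
  -- key: divisibility in R of invariants descends
  have key : ∀ (r : R) (a b : GLin.invariants k A R), b ≠ 0 → r * (b : R) = (a : R) →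
      r ∈ GLin.invariants k A R := by
    intro r a b hb hrb
    rw [GLin.mem_invariants_iff]
    have ha := (GLin.mem_invariants_iff k A R a.1).mp a.2
    have hbm := (GLin.mem_invariants_iff k A R b.1).mp b.2
    have hmul : HopfRep.Comod.coact (k := k) (A := A) r * ((b : R) ⊗ₜ[k] (1 : A)) =
        (r ⊗ₜ[k] (1 : A)) * ((b : R) ⊗ₜ[k] (1 : A)) := by
      rw [Algebra.TensorProduct.tmul_mul_tmul, hrb, one_mul, ← ha, ← hrb, GLin.IsCoactAlg.coact_mul, hbm]
    -- multiplication by b ⊗ 1 is injective
    have hb' : (b : R) ≠ 0 := fun h => hb (Subtype.ext h)
    have hinj : Function.Injective (LinearMap.rTensor A (LinearMap.mulRight k (b : R))) := by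
      apply Module.Flat.rTensor_preserves_injective_linearMap
      intro x y hxy
      exact mul_right_cancel₀ hb' hxy
    apply hinj
    have hform : ∀ z : R ⊗[k] A, LinearMap.rTensor A (LinearMap.mulRight k (b : R)) z =
        z * ((b : R) ⊗ₜ[k] (1 : A)) := by
      intro z
      induction z using TensorProduct.induction_on with
      | zero => simp
      | tmul x y => simp [Algebra.TensorProduct.tmul_mul_tmul]
      | add x y hx hy => rw [map_add, hx, hy, add_mul]
    rw [hform, hform, hmul]
  refine (isIntegrallyClosed_iff (FractionRing (GLin.invariants k A R))).mpr ?_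
  intro x hx
  have hginj : Function.Injective ((algebraMap R (FractionRing R)).comp
      (GLin.invariants k A R).val.toRingHom) :=
    (IsFractionRing.injective R (FractionRing R)).comp Subtype.val_injective
  obtain ⟨a, b, hb, rfl⟩ := IsFractionRing.div_surjective (A := GLin.invariants k A R) x
  have hb0 : b ≠ 0 := nonZeroDivisors.ne_zero hb
  have hbK : algebraMap (GLin.invariants k A R) (FractionRing (GLin.invariants k A R)) b ≠ 0 := by
    intro h
    exact hb0 ((IsFractionRing.injective _ _) (by rw [h, map_zero]))
  have hint : IsIntegral R (IsFractionRing.lift hginj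
      (algebraMap _ (FractionRing (GLin.invariants k A R)) a /
        algebraMap _ (FractionRing (GLin.invariants k A R)) b)) := by
    refine IsIntegral.map_of_comp_eq (GLin.invariants k A R).val.toRingHom
      (IsFractionRing.lift hginj) ?_ hx
    ext y
    simp [IsFractionRing.lift_algebraMap]
  obtain ⟨r, hr⟩ := IsIntegrallyClosed.isIntegral_iff.mp hint
  have hrb : r * (b : R) = (a : R) := by
    apply IsFractionRing.injective R (FractionRing R)
    rw [map_mul, hr, map_div₀, IsFractionRing.lift_algebraMap, IsFractionRing.lift_algebraMap]
    have : (algebraMap R (FractionRing R)) (b : R) ≠ 0 := by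
      intro h
      have hb' : (b : R) = 0 := (IsFractionRing.injective R (FractionRing R)) (by rw [h, map_zero])
      exact hb0 (Subtype.ext hb')
    simp only [RingHom.coe_comp, Function.comp_apply]
    exact div_mul_cancel₀ _ this
  have hrS := key r a b hb0 hrb
  refine ⟨⟨r, hrS⟩, ?_⟩
  rw [eq_div_iff hbK, ← map_mul]
  congr 1
  exact Subtype.ext hrb



/-- Let k be a commutative ring, A a commutative k-bialgebra that is flat over k, and R a commutative
k-algebra which is an integrally closed domain, with a coaction R → R ⊗ A that is an algebra
homomorphism. Then the ring of invariants (the elements f with coaction f ⊗ 1) is an integrally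
closed domain. (The published statement is for a finite group scheme acting on a normal scheme whose
quotient is, locally, the spectrum of the ring of invariants; this row is the affine integral case
and allows any commutative bialgebra flat over k, flatness being automatic over a field.) -/
theorem result (k : Type u) [CommRing k]
    (A : Type v) [CommRing A] [Bialgebra k A] [Module.Flat k A]
    (R : Type w) [CommRing R] [Algebra k R] [IsDomain R] [IsIntegrallyClosed R]
    [HopfRep.Comod k A R] [GLin.IsCoactAlg k A R] :
    IsIntegrallyClosed (GLin.invariants k A R) := by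
  exact result' k A R

end Groth.Agent.S13124
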