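import Groth.Statements.S13125
import Mathlib.RingTheory.GradedAlgebra.Basic
import Mathlib.Algebra.DirectSum.Decomposition
import Mathlib.RingTheory.Ideal.Quotient.Basic

set_option autoImplicit false
universe u v
open KumFam

namespace Groth.Agent.S13125

open DirectSum

/-- Let A be a commutative ring graded by an additive monoid ι (an abelian group in the published
statement) through additive subgroups 𝒜 i, and I an ideal of A. Then I is a homogeneous ideal if and
only if A/I carries a structure of ι-graded ring ℬ for which the quotient map sends 𝒜 i into ℬ i for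
all i. -/
theorem result (ι : Type u) [DecidableEq ι] [AddMonoid ι]
    (A : Type v) [CommRing A] (𝒜 : ι → AddSubgroup A) [GradedRing 𝒜] (I : Ideal A) :
    I.IsHomogeneous 𝒜 ↔
      ∃ ℬ : ι → AddSubgroup (A ⧸ I), Nonempty (GradedRing ℬ) ∧
        ∀ i : ι, (𝒜 i).map (Ideal.Quotient.mk I : A →+ A ⧸ I) ≤ ℬ i := by
  classical
  constructor
  · intro hI
    let mkA : A →+ A ⧸ I := (Ideal.Quotient.mk I : A →+ A ⧸ I)
    have hmkA : ∀ a : A, mkA a = Ideal.Quotient.mk I a := fun _ => rfl
    have hsurj : Function.Surjective mkA := Ideal.Quotient.mk_surjective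
    let ℬ : ι → AddSubgroup (A ⧸ I) := fun i => (𝒜 i).map mkA
    let ψ : ∀ i, 𝒜 i →+ ℬ i := fun i => mkA.addSubgroupMap (𝒜 i)
    let φ : A →+ ⨁ i, ℬ i :=
      (DirectSum.map ψ).comp (DirectSum.decomposeAddEquiv 𝒜).toAddMonoidHom
    have hφ : ∀ a : A, φ a = DirectSum.map ψ (DirectSum.decompose 𝒜 a) := fun _ => rfl
    have hker : mkA.ker ≤ φ.ker := by
      intro a ha
      rw [AddMonoidHom.mem_ker, hmkA, Ideal.Quotient.eq_zero_iff_mem] at ha
      rw [AddMonoidHom.mem_ker, hφ]
      ext i
      rw [DirectSum.map_apply, DirectSum.zero_apply]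
      change ((mkA (DirectSum.decompose 𝒜 a i : A)) : A ⧸ I) = 0
      rw [hmkA, Ideal.Quotient.eq_zero_iff_mem]
      exact hI i ha
    let dec : A ⧸ I →+ ⨁ i, ℬ i :=
      AddMonoidHom.liftOfRightInverse mkA (Function.surjInv hsurj)
        (Function.rightInverse_surjInv hsurj) ⟨φ, hker⟩
    have hdec : ∀ a : A, dec (mkA a) = φ a := fun a =>
      AddMonoidHom.liftOfRightInverse_comp_apply mkA (Function.surjInv hsurj)
        (Function.rightInverse_surjInv hsurj) ⟨φ, hker⟩ a
    -- compatibility of the two coercion maps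
    have hcoe : ∀ x : ⨁ i, 𝒜 i, DirectSum.coeAddMonoidHom ℬ (DirectSum.map ψ x) =
        mkA (DirectSum.coeAddMonoidHom 𝒜 x) := by
      intro x
      induction x using DirectSum.induction_on with
      | zero => simp
      | of i x =>
        rw [DirectSum.map_of, DirectSum.coeAddMonoidHom_of, DirectSum.coeAddMonoidHom_of]
        rfl
      | add x y hx hy => rw [map_add, map_add, map_add, map_add, hx, hy]
    have h_left : (DirectSum.coeAddMonoidHom ℬ).comp dec = AddMonoidHom.id _ := by
      ext q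
      obtain ⟨a, rfl⟩ := hsurj q
      rw [AddMonoidHom.comp_apply, hdec, hφ, hcoe, AddMonoidHom.id_apply]
      congr 1
      exact (DirectSum.decompose 𝒜).left_inv a
    have h_right : dec.comp (DirectSum.coeAddMonoidHom ℬ) = AddMonoidHom.id _ := by
      ext i ⟨b, hb⟩
      obtain ⟨a, ha, rfl⟩ := hb
      simp only [AddMonoidHom.comp_apply, AddMonoidHom.id_apply, DirectSum.coeAddMonoidHom_of]
      rw [hdec, hφ]
      have : DirectSum.decompose 𝒜 a = DirectSum.of (fun i => 𝒜 i) i ⟨a, ha⟩ :=
        DirectSum.decompose_of_mem 𝒜 ha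
      rw [this, DirectSum.map_of]
      rfl
    have hone : (1 : A ⧸ I) ∈ ℬ 0 :=
      ⟨1, SetLike.GradedOne.one_mem, map_one (Ideal.Quotient.mk I)⟩
    have hmul : ∀ ⦃i j : ι⦄ {gi gj : A ⧸ I}, gi ∈ ℬ i → gj ∈ ℬ j → gi * gj ∈ ℬ (i + j) := by
      rintro i j _ _ ⟨a, ha, rfl⟩ ⟨b, hb, rfl⟩
      exact ⟨a * b, SetLike.GradedMul.mul_mem ha hb, map_mul (Ideal.Quotient.mk I) a b⟩
    have hmon : SetLike.GradedMonoid ℬ := { one_mem := hone, mul_mem := hmul }
    have hG : GradedRing ℬ :=
      { hmon with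
        toDecomposition := DirectSum.Decomposition.ofAddHom ℬ dec h_left h_right }
    exact ⟨ℬ, ⟨hG⟩, fun i => le_rfl⟩
  · rintro ⟨ℬ, ⟨hℬ⟩, hle⟩
    intro i a ha
    let mkA : A →+ A ⧸ I := (Ideal.Quotient.mk I : A →+ A ⧸ I)
    have hmkA : ∀ a : A, mkA a = Ideal.Quotient.mk I a := fun _ => rfl
    -- the image of the decomposition of `a` is a decomposition of `mk a = 0`
    have hmem : ∀ j, mkA (DirectSum.decompose 𝒜 a j : A) ∈ ℬ j := fun j =>
      hle j ⟨_, (DirectSum.decompose 𝒜 a j).2, rfl⟩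
    have hsum : (∑ j ∈ (DirectSum.decompose 𝒜 a).support, mkA (DirectSum.decompose 𝒜 a j : A)) = 0 := by
      rw [← map_sum, DirectSum.sum_support_decompose 𝒜 a, hmkA, Ideal.Quotient.eq_zero_iff_mem]
      exact ha
    have h2 := congrArg (fun q => (DirectSum.decompose ℬ q i : A ⧸ I)) hsum
    simp only [DirectSum.decompose_sum, DirectSum.decompose_zero, DirectSum.zero_apply,
      ZeroMemClass.coe_zero] at h2
    rw [DFinsupp.finsetSum_apply, AddSubmonoidClass.coe_finsetSum] at h2
    have h3 : ∀ j ∈ (DirectSum.decompose 𝒜 a).support,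
        ((DirectSum.decompose ℬ (mkA (DirectSum.decompose 𝒜 a j : A)) i : ℬ i) : A ⧸ I) =
          if j = i then mkA (DirectSum.decompose 𝒜 a j : A) else 0 := by
      intro j _
      rw [DirectSum.decompose_of_mem ℬ (hmem j), DirectSum.of_apply]
      split_ifs with hji
      · subst hji; rfl
      · rfl
    rw [Finset.sum_congr rfl h3, Finset.sum_ite_eq'] at h2
    by_cases hi : i ∈ (DirectSum.decompose 𝒜 a).support
    · rw [if_pos hi, hmkA, Ideal.Quotient.eq_zero_iff_mem] at h2
      exact h2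
    · rw [DFinsupp.notMem_support_iff] at hi
      rw [hi]
      exact I.zero_mem

end Groth.Agent.S13125
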