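import Groth.Statements.S13126
import Mathlib.Algebra.Polynomial.RingDivision
import Mathlib.RingTheory.Polynomial.Ideal
import Mathlib.RingTheory.Ideal.Quotient.Operations
import Mathlib.Algebra.Polynomial.BigOperators
import Mathlib.Tactic

set_option autoImplicit false
universe u
open KumFam

namespace Groth.Agent.S13126

open Polynomial in
/-- Let R be a commutative ring, n a natural number which is a unit in R, and ζ ∈ R with ζ^n = 1 and 1 −
ζ^i a unit for 0 < i < n (a primitive n-th root of unity in the fibrewise sense: the powers ζ^0, …,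
ζ^(n−1) are roots of X^n − 1 with pairwise unit differences; over an integral domain in which n is a
unit this is the same as ζ having multiplicative order n). Then the R-algebra homomorphism R[X] →
(Fin n → R) sending a polynomial to its values at ζ^0, …, ζ^(n−1) is surjective and its kernel is
the ideal generated by X^n − 1; hence R[X]/(X^n − 1) ≅ R^n as R-algebras, i.e. the scheme of n-th
roots of unity over Spec R is the disjoint union of n copies of Spec R. (The published statement
asks that R contain a primitive n-th root of unity without defining the term; its Chinese-remainder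
argument uses that the ideals (X − ζ^i), i < n, are pairwise comaximal, which is the unit-difference
condition taken as the hypothesis here, whereas under the reading 'ζ has multiplicative order n'
alone the surjectivity fails over a product of two fields. The published statement also asserts that
the isomorphism respects the group-scheme structures of the n-th roots of unity and of the constant
group ℤ/n; this row does not state that.) -/
theorem result (R : Type u) [CommRing R]
    (n : ℕ) (hn : IsUnit (n : R)) (ζ : R) (hζ : ζ ^ n = 1)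
    (hprim : ∀ i : ℕ, 0 < i → i < n → IsUnit (1 - ζ ^ i)) :
    Function.Surjective (AlgHom.pi (fun i : Fin n => Polynomial.aeval (R := R) (ζ ^ (i : ℕ)))) ∧
      RingHom.ker (AlgHom.pi (fun i : Fin n => Polynomial.aeval (R := R) (ζ ^ (i : ℕ)))) =
        Ideal.span {(X ^ n - 1 : R[X])} := by
  classical
  rcases subsingleton_or_nontrivial R with hsub | hnt
  · refine ⟨fun g => ⟨0, Subsingleton.elim _ _⟩, ?_⟩
    ext p
    have hp : p = 0 := Subsingleton.elim _ _
    subst hp
    simp
  -- `n` is positive
  have hn0 : n ≠ 0 := by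
    rintro rfl
    simp at hn
  have hζu : IsUnit ζ := by
    obtain ⟨m, rfl⟩ := Nat.exists_eq_succ_of_ne_zero hn0
    rw [pow_succ] at hζ
    exact IsUnit.of_mul_eq_one _ (by rw [mul_comm]; exact hζ)
  -- differences of distinct powers are units
  have hdiff_lt : ∀ i j : ℕ, i < j → j < n → IsUnit (ζ ^ i - ζ ^ j) := by
    intro i j hij hj
    have h1 : ζ ^ i - ζ ^ j = ζ ^ i * (1 - ζ ^ (j - i)) := by
      rw [mul_sub, mul_one, ← pow_add, Nat.add_sub_cancel' hij.le]
    rw [h1]
    exact (hζu.pow i).mul (hprim (j - i) (Nat.sub_pos_of_lt hij) (by omega))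
  have hdiff : ∀ i j : Fin n, i ≠ j → IsUnit (ζ ^ (i : ℕ) - ζ ^ (j : ℕ)) := by
    intro i j hij
    rcases lt_or_gt_of_ne (Fin.val_ne_of_ne hij) with h | h
    · exact hdiff_lt i j h j.2
    · have := hdiff_lt j i h i.2
      rw [← neg_sub]
      exact this.neg
  have hcopE : ∀ i j : Fin n, i ≠ j →
      IsCoprime (X - C (ζ ^ (i : ℕ)) : R[X]) (X - C (ζ ^ (j : ℕ))) := fun i j hij =>
    isCoprime_X_sub_C_of_isUnit_sub (hdiff i j hij)
  have hcop : Pairwise (Function.onFun IsCoprime
      (fun i : Fin n => Ideal.span {(X - C (ζ ^ (i : ℕ)) : R[X])})) := by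
    intro i j hij
    exact (Ideal.isCoprime_span_singleton_iff _ _).mpr (hcopE i j hij)
  -- evaluation and membership
  have hmem : ∀ (i : Fin n) (p : R[X]),
      p ∈ Ideal.span {(X - C (ζ ^ (i : ℕ)) : R[X])} ↔ p.eval (ζ ^ (i : ℕ)) = 0 := by
    intro i p
    rw [← ker_evalRingHom, RingHom.mem_ker, coe_evalRingHom]
  have hker : ∀ p : R[X],
      p ∈ RingHom.ker (AlgHom.pi (fun i : Fin n => Polynomial.aeval (R := R) (ζ ^ (i : ℕ)))) ↔
        ∀ i : Fin n, p.eval (ζ ^ (i : ℕ)) = 0 := by
    intro p
    rw [RingHom.mem_ker]
    constructor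
    · intro h i
      have := congrFun h i
      simpa [coe_aeval_eq_eval] using this
    · intro h
      funext i
      simpa [coe_aeval_eq_eval] using h i
  -- the product of the linear factors
  have hprod : (∏ i : Fin n, (X - C (ζ ^ (i : ℕ)) : R[X])) = X ^ n - 1 := by
    have hmonP : (∏ i : Fin n, (X - C (ζ ^ (i : ℕ)) : R[X])).Monic :=
      monic_prod_of_monic _ _ fun i _ => monic_X_sub_C _
    have hdegP : (∏ i : Fin n, (X - C (ζ ^ (i : ℕ)) : R[X])).natDegree = n := by
      rw [natDegree_prod_of_monic _ _ fun i _ => monic_X_sub_C _]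
      simp only [natDegree_X_sub_C, Finset.sum_const, Finset.card_univ, Fintype.card_fin,
        smul_eq_mul, mul_one]
    have hmem2 : (X ^ n - 1 : R[X]) ∈ ⨅ i : Fin n, Ideal.span {(X - C (ζ ^ (i : ℕ)) : R[X])} := by
      rw [Ideal.mem_iInf]
      intro i
      rw [hmem]
      simp only [eval_sub, eval_pow, eval_X, eval_one]
      rw [← pow_mul, mul_comm, pow_mul, hζ, one_pow, sub_self]
    rw [Ideal.iInf_span_singleton (fun i j hij => hcopE i j hij), Ideal.mem_span_singleton] at hmem2
    obtain ⟨Q, hQ⟩ := hmem2
    have hmonX : (X ^ n - 1 : R[X]).Monic := by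
      have := monic_X_pow_sub_C (1 : R) hn0
      simpa using this
    have hQmon : Q.Monic := hmonP.of_mul_monic_left (hQ ▸ hmonX)
    have hdeg : (X ^ n - 1 : R[X]).natDegree = n := by
      have := natDegree_X_pow_sub_C (R := R) (n := n) (r := 1)
      simpa using this
    have hQdeg : Q.natDegree = 0 := by
      have h1 := hmonP.natDegree_mul hQmon
      rw [← hQ, hdeg, hdegP] at h1
      omega
    have hQ1 : Q = 1 := (Polynomial.Monic.natDegree_eq_zero hQmon).mp hQdeg
    rw [hQ, hQ1, mul_one]
  constructor
  · intro g
    obtain ⟨p, hp⟩ := Ideal.exists_forall_sub_mem_ideal hcop (fun i => C (g i))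
    refine ⟨p, ?_⟩
    funext i
    have h1 := (hmem i _).mp (hp i)
    rw [eval_sub, eval_C, sub_eq_zero] at h1
    simpa [coe_aeval_eq_eval] using h1
  · ext p
    rw [hker, ← hprod, ← Ideal.iInf_span_singleton (fun i j hij => hcopE i j hij), Ideal.mem_iInf]
    exact forall_congr' fun i => (hmem i p).symm

end Groth.Agent.S13126
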