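import Groth.Statements.S13131
import Mathlib.AlgebraicGeometry.Gluing
import Mathlib.AlgebraicGeometry.Restrict

set_option autoImplicit false
universe u
open CategoryTheory CategoryTheory.Limits AlgebraicGeometry
open KumFam

namespace Groth.Agent.S13131


section aux

variable {S : Scheme.{u}} {M : Type u} {T : Scheme.{u}}

/-- The index of the copy of `S` containing the image of a point. -/
noncomputable def idx (f : T ⟶ ∐ (fun _ : M => S)) (t : T) : M :=
  ((sigmaMk (fun _ : M => S)).symm (f.base t)).1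

theorem idx_eq_iff (f : T ⟶ ∐ (fun _ : M => S)) (t : T) (i : M) :
    idx f t = i ↔ f.base t ∈ Set.range (Sigma.ι (fun _ : M => S) i).base := by
  constructor
  · intro h
    have h1 : (sigmaMk (fun _ : M => S)) ((sigmaMk (fun _ : M => S)).symm (f.base t)) =
        f.base t := Homeomorph.apply_symm_apply _ _
    unfold idx at h
    generalize (sigmaMk (fun _ : M => S)).symm (f.base t) = z at h h1
    obtain ⟨j, s⟩ := z
    change j = i at h
    subst h
    rw [sigmaMk_mk] at h1
    exact ⟨s, h1⟩
  · rintro ⟨s, hs⟩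
    have h1 : (sigmaMk (fun _ : M => S)).symm (f.base t) = ⟨i, s⟩ := by
      rw [Homeomorph.symm_apply_eq, sigmaMk_mk]
      exact hs.symm
    change ((sigmaMk (fun _ : M => S)).symm (f.base t)).1 = i
    rw [h1]

theorem isLocallyConstant_idx (f : T ⟶ ∐ (fun _ : M => S)) : IsLocallyConstant (idx f) := by
  rw [IsLocallyConstant.iff_isOpen_fiber]
  intro i
  have : idx f ⁻¹' {i} = f.base ⁻¹' Set.range (Sigma.ι (fun _ : M => S) i).base := by
    ext t
    exact idx_eq_iff f t i
  rw [this]
  exact (Sigma.ι (fun _ : M => S) i).isOpenEmbedding.isOpen_range.preimage f.continuous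

/-- On an open where the index is constant, the morphism is the structure map followed by the
coprojection. -/
theorem ι_comp_eq {p : T ⟶ S} (f : T ⟶ ∐ (fun _ : M => S))
    (hf : f ≫ Sigma.desc (fun _ : M => 𝟙 S) = p) (V : T.Opens) (i : M)
    (hV : ∀ t ∈ V, idx f t = i) :
    V.ι ≫ f = V.ι ≫ p ≫ Sigma.ι (fun _ : M => S) i := by
  have hrange : Set.range (V.ι ≫ f).base ⊆ Set.range (Sigma.ι (fun _ : M => S) i).base := by
    rintro _ ⟨v, rfl⟩
    have := (idx_eq_iff f (V.ι.base v) i).mp (hV _ (by simp))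
    simpa using this
  have h1 := IsOpenImmersion.lift_fac (Sigma.ι (fun _ : M => S) i) (V.ι ≫ f) hrange
  have h2 : IsOpenImmersion.lift (Sigma.ι (fun _ : M => S) i) (V.ι ≫ f) hrange = V.ι ≫ p := by
    have h3 : Sigma.ι (fun _ : M => S) i ≫ Sigma.desc (fun _ : M => 𝟙 S) = 𝟙 S :=
      Sigma.ι_desc _ _
    calc IsOpenImmersion.lift (Sigma.ι (fun _ : M => S) i) (V.ι ≫ f) hrange
        = IsOpenImmersion.lift (Sigma.ι (fun _ : M => S) i) (V.ι ≫ f) hrange ≫
            (Sigma.ι (fun _ : M => S) i ≫ Sigma.desc (fun _ : M => 𝟙 S)) := by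
          rw [h3, Category.comp_id]
      _ = (V.ι ≫ f) ≫ Sigma.desc (fun _ : M => 𝟙 S) := by
          rw [← Category.assoc, h1]
      _ = V.ι ≫ p := by rw [Category.assoc, hf]
  rw [← h1, h2, Category.assoc]

end aux

/-- Let S be a scheme, M a set and p : T → S a scheme over S. The S-morphisms T → ∐_{m ∈ M} S (the
constant S-scheme on M, with its structure map the codiagonal) are in bijection with the locally
constant maps T → M, a morphism f corresponding to the function sending t to the index of the copy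
of S containing f(t). (In the published statement M is a group and ∐_M S the constant group scheme;
the group structures play no role in this description of T-points.) -/
theorem result (S : Scheme.{u}) (M : Type u)
    (T : Scheme.{u}) (p : T ⟶ S) :
    ∃ e : {f : T ⟶ ∐ (fun _ : M => S) // f ≫ Sigma.desc (fun _ : M => 𝟙 S) = p} ≃
        LocallyConstant T M,
      ∀ (f : {f : T ⟶ ∐ (fun _ : M => S) // f ≫ Sigma.desc (fun _ : M => 𝟙 S) = p}) (t : T),
        e f t = ((sigmaMk (fun _ : M => S)).symm (f.1.base t)).1 := by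
  let toLC : {f : T ⟶ ∐ (fun _ : M => S) // f ≫ Sigma.desc (fun _ : M => 𝟙 S) = p} →
      LocallyConstant T M := fun f => ⟨idx f.1, isLocallyConstant_idx f.1⟩
  have hinj : Function.Injective toLC := by
    intro f f' h
    have hidx : ∀ t, idx f.1 t = idx f'.1 t := fun t => congrArg (fun c : LocallyConstant T M => c t) h
    apply Subtype.ext
    apply Scheme.hom_ext_of_forall
    intro x
    let V : T.Opens := ⟨idx f.1 ⁻¹' {idx f.1 x}, (isLocallyConstant_idx f.1).isOpen_fiber _⟩
    refine ⟨V, rfl, ?_⟩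
    rw [ι_comp_eq f.1 f.2 V (idx f.1 x) (fun t ht => ht),
      ι_comp_eq f'.1 f'.2 V (idx f.1 x) (fun t ht => (hidx t).symm.trans ht)]
  have hsurj : Function.Surjective toLC := by
    intro c
    let U : M → T.Opens := fun i => ⟨c ⁻¹' {i}, c.isLocallyConstant.isOpen_fiber i⟩
    have hU : TopologicalSpace.IsOpenCover U := by
      rw [TopologicalSpace.IsOpenCover, eq_top_iff]
      intro t _
      rw [TopologicalSpace.Opens.mem_iSup]
      exact ⟨c t, rfl⟩
    let 𝒰 : T.OpenCover := T.openCoverOfIsOpenCover U hU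
    have hcompat : ∀ i j : M, pullback.fst (𝒰.f i) (𝒰.f j) ≫
        ((U i).ι ≫ p ≫ Sigma.ι (fun _ : M => S) i) =
        pullback.snd (𝒰.f i) (𝒰.f j) ≫ ((U j).ι ≫ p ≫ Sigma.ι (fun _ : M => S) j) := by
      intro i j
      by_cases hij : i = j
      · subst hij
        have := pullback.condition (f := 𝒰.f i) (g := 𝒰.f i)
        change pullback.fst (𝒰.f i) (𝒰.f i) ≫ (U i).ι = pullback.snd (𝒰.f i) (𝒰.f i) ≫ (U i).ι
          at this
        rw [← Category.assoc, this, Category.assoc]
      · have hempty : IsEmpty ↥(pullback (𝒰.f i) (𝒰.f j)) := by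
          refine ⟨fun z => hij ?_⟩
          have h1 : ((pullback.fst (𝒰.f i) (𝒰.f j) ≫ 𝒰.f i).base z) ∈ U i := by
            rw [Scheme.Hom.comp_base, TopCat.comp_app]
            exact ((pullback.fst (𝒰.f i) (𝒰.f j)).base z).2
          have h2 : ((pullback.snd (𝒰.f i) (𝒰.f j) ≫ 𝒰.f j).base z) ∈ U j := by
            rw [Scheme.Hom.comp_base, TopCat.comp_app]
            exact ((pullback.snd (𝒰.f i) (𝒰.f j)).base z).2
          rw [← pullback.condition] at h2
          exact (show c _ = i from h1).symm.trans (show c _ = j from h2)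
        exact (isInitialOfIsEmpty (X := pullback (𝒰.f i) (𝒰.f j))).hom_ext _ _
    let f : T ⟶ ∐ (fun _ : M => S) :=
      𝒰.glueMorphisms (fun i => (U i).ι ≫ p ≫ Sigma.ι (fun _ : M => S) i) hcompat
    have hfι : ∀ i, (U i).ι ≫ f = (U i).ι ≫ p ≫ Sigma.ι (fun _ : M => S) i := fun i =>
      𝒰.ι_glueMorphisms _ hcompat i
    have hf : f ≫ Sigma.desc (fun _ : M => 𝟙 S) = p := by
      apply 𝒰.hom_ext
      intro i
      change (U i).ι ≫ f ≫ _ = (U i).ι ≫ p
      rw [← Category.assoc, hfι, Category.assoc, Category.assoc, Sigma.ι_desc, Category.comp_id]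
    refine ⟨⟨f, hf⟩, ?_⟩
    ext t
    change idx f t = c t
    rw [idx_eq_iff]
    have ht : t ∈ U (c t) := rfl
    have h1 : f.base t = ((U (c t)).ι ≫ f).base ⟨t, ht⟩ := by
      rw [Scheme.Hom.comp_base, TopCat.comp_app]
      rfl
    rw [h1, hfι, Scheme.Hom.comp_base, TopCat.comp_app, Scheme.Hom.comp_base, TopCat.comp_app]
    exact ⟨_, rfl⟩
  exact ⟨Equiv.ofBijective toLC ⟨hinj, hsurj⟩, fun f t => rfl⟩

end Groth.Agent.S13131
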