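import Groth.Statements.S13132
import Mathlib
import Groth.Agent.Lib.Helper5ArtNZD

set_option autoImplicit false
universe u v
open CAlg

namespace Groth.Agent.S13132

/-- Let A' be an Artinian local ring, I a proper ideal of A' and S' a flat A'-algebra. An element f' of
S' is a non-zero-divisor exactly when its image in S'/IS' is one; and when f' is a non-zero-divisor,
the quotient S'/(f') is flat over A'. (The published statement is for local Artinian algebras with a
fixed residue field over a ring of Witt vectors and a surjection between two of them; the argument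
uses only that A' is Artinian local and I is a proper ideal, which is the form taken here.) -/
theorem result
    {A' : Type u} [CommRing A'] [IsArtinianRing A'] [IsLocalRing A'] (I : Ideal A') (hI : I ≠ ⊤)
    {S' : Type v} [CommRing S'] [Algebra A' S'] [Module.Flat A' S'] (f' : S') :
    (f' ∈ nonZeroDivisors S' ↔
      Ideal.Quotient.mk (I.map (algebraMap A' S')) f' ∈ nonZeroDivisors (S' ⧸ I.map (algebraMap A' S'))) ∧
    (f' ∈ nonZeroDivisors S' → Module.Flat A' (S' ⧸ Ideal.span {f'})) := by
  obtain ⟨n, hn⟩ : ∃ n : ℕ, IsLocalRing.maximalIdeal A' ^ n = ⊥ := by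
    obtain ⟨n, hn⟩ := IsArtinianRing.isNilpotent_jacobson_bot (R := A')
    rw [IsLocalRing.jacobson_eq_maximalIdeal ⊥ bot_ne_top] at hn
    exact ⟨n, hn⟩
  obtain ⟨u, hu⟩ : ∃ u : S' →ₗ[A'] S', ∀ x, u x = f' * x :=
    ⟨LinearMap.mulLeft A' f', fun x => rfl⟩
  have hmem : ∀ x : S', x ∈ (I • ⊤ : Submodule A' S') ↔ x ∈ I.map (algebraMap A' S') := by
    intro x
    rw [Ideal.smul_top_eq_map, Submodule.restrictScalars_mem]
  have h1 : f' ∈ nonZeroDivisors S' ↔ Function.Injective u := by
    rw [mem_nonZeroDivisors_iff_left, injective_iff_map_eq_zero]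
    constructor
    · intro h x hx
      rw [hu] at hx
      exact h x hx
    · intro h x hx
      rw [← hu] at hx
      exact h x hx
  have h2 : Ideal.Quotient.mk (I.map (algebraMap A' S')) f' ∈
      nonZeroDivisors (S' ⧸ I.map (algebraMap A' S')) ↔
      Function.Injective (u.lTensor (A' ⧸ I)) := by
    rw [mem_nonZeroDivisors_iff_left, Groth.Agent.Lib.Helper5.lTensor_quotient_injective_iff]
    constructor
    · intro h x hx
      rw [hmem] at hx ⊢
      rw [hu, ← Ideal.Quotient.eq_zero_iff_mem, map_mul] at hx
      rw [← Ideal.Quotient.eq_zero_iff_mem]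
      exact h _ hx
    · intro h y hy
      obtain ⟨x, rfl⟩ := Ideal.Quotient.mk_surjective y
      rw [← map_mul, Ideal.Quotient.eq_zero_iff_mem, ← hu, ← hmem] at hy
      rw [Ideal.Quotient.eq_zero_iff_mem, ← hmem]
      exact h x hy
  refine ⟨?_, ?_⟩
  · rw [h1, h2]
    exact Groth.Agent.Lib.Helper5.injective_iff_lTensor_quotient_injective n hn I hI u
  · intro hf
    rw [h1] at hf
    refine Groth.Agent.Lib.Helper5.flat_of_exact_of_injective_endomorphism n hn u hf
      (Ideal.Quotient.mkₐ A' (Ideal.span {f'})).toLinearMap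
      (Ideal.Quotient.mkₐ_surjective A' _) ?_
    intro x
    rw [AlgHom.toLinearMap_apply, Ideal.Quotient.mkₐ_eq_mk, Ideal.Quotient.eq_zero_iff_mem,
      Ideal.mem_span_singleton']
    constructor
    · rintro ⟨a, rfl⟩
      exact ⟨a, by rw [hu, mul_comm]⟩
    · rintro ⟨a, rfl⟩
      exact ⟨a, by rw [hu, mul_comm]⟩

end Groth.Agent.S13132
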