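import Groth.Statements.S13133
import Mathlib
import Groth.Agent.Lib.Helper5ArtRegSeq

set_option autoImplicit false
universe u v
open CAlg

namespace Groth.Agent.S13133

/-- Let A' be an Artinian local ring, I a proper ideal of A', S' a flat A'-algebra and f'_1, …, f'_n
elements of S' with n ≥ 1. A family f'_1, …, f'_n in S' is a regular sequence exactly when its
reduction modulo I·S' is a regular sequence of S'/IS'. (Regular sequences are defined in the
published text over Noetherian rings; this row does not assume S' Noetherian, which the argument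
does not use. The published statement is for a surjection of local Artinian algebras with a fixed
residue field over a ring of Witt vectors; only the Artinian local base and the proper ideal are
used, which is the form taken here.) -/
theorem result
    {A' : Type u} [CommRing A'] [IsArtinianRing A'] [IsLocalRing A'] (I : Ideal A') (hI : I ≠ ⊤)
    {S' : Type v} [CommRing S'] [Algebra A' S'] [Module.Flat A' S'] {n : ℕ} (hn : 1 ≤ n)
    (f' : Fin n → S') :
    RingTheory.Sequence.IsRegular S' (List.ofFn f') ↔
      RingTheory.Sequence.IsRegular (S' ⧸ I.map (algebraMap A' S'))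
        (List.ofFn fun i => Ideal.Quotient.mk (I.map (algebraMap A' S')) (f' i)) := by
  obtain ⟨m, hm⟩ : ∃ m : ℕ, IsLocalRing.maximalIdeal A' ^ m = ⊥ := by
    obtain ⟨m, hm⟩ := IsArtinianRing.isNilpotent_jacobson_bot (R := A')
    rw [IsLocalRing.jacobson_eq_maximalIdeal ⊥ bot_ne_top] at hm
    exact ⟨m, hm⟩
  rw [Groth.Agent.Lib.Helper5.isRegular_iff_isRegular_quotient m hm I hI (List.ofFn f') S']
  have hJ : (I.map (algebraMap A' S') • ⊤ : Submodule S' S') = I.map (algebraMap A' S') := by
    rw [smul_eq_mul, Ideal.mul_top]
  have hlist : (List.ofFn fun i => Ideal.Quotient.mk (I.map (algebraMap A' S')) (f' i)) =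
      (List.ofFn f').map (Ideal.Quotient.mk (I.map (algebraMap A' S'))) :=
    List.map_ofFn.symm
  rw [hlist]
  refine (Submodule.quotEquivOfEq _ _ hJ).toAddEquiv.isRegular_congr ?_
  refine List.forall₂_map_right_iff.mpr (List.forall₂_same.mpr fun r _ x => ?_)
  have h1 : (Submodule.quotEquivOfEq _ _ hJ).toAddEquiv (r • x) =
      r • (Submodule.quotEquivOfEq _ _ hJ) x := (Submodule.quotEquivOfEq _ _ hJ).map_smul r x
  rw [h1, Algebra.smul_def, Ideal.Quotient.algebraMap_eq]
  rfl

end Groth.Agent.S13133
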