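import Groth.Statements.S13134
import Mathlib
import Groth.Agent.Lib.Helper5NilSup
import Groth.Agent.Lib.Helper5NilFree

set_option autoImplicit false
universe u v
open CAlg

namespace Groth.Agent.S13134

/-- Let A' be an Artinian local ring, I a proper ideal, A = A'/I and f_1, …, f_m ∈ A[x_1, …, x_n]. Every
flat A'-algebra B' equipped with a surjection π onto A[x]/(f_1, …, f_m) with kernel I·B', compatible
with A' → A, is a quotient of A'[x_1, …, x_n] by the ideal generated by some lifts f'_1, …, f'_m of
the f_i, compatibly with π and with reduction of polynomials modulo I. (The published statement is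
for a surjection of local Artinian algebras with a fixed residue field over a ring of Witt vectors;
only the Artinian local base and the proper ideal are used, which is the form taken here.) -/
theorem result
    {A' : Type u} [CommRing A'] [IsArtinianRing A'] [IsLocalRing A'] (I : Ideal A') (hI : I ≠ ⊤)
    {n m : ℕ} (f : Fin m → MvPolynomial (Fin n) (A' ⧸ I))
    {B' : Type v} [CommRing B'] [Algebra A' B'] [Module.Flat A' B']
    (π : B' →+* MvPolynomial (Fin n) (A' ⧸ I) ⧸ Ideal.span (Set.range f))
    (hπ : Function.Surjective π) (hker : RingHom.ker π = I.map (algebraMap A' B'))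
    (hcomp : π.comp (algebraMap A' B') =
      ((Ideal.Quotient.mk (Ideal.span (Set.range f))).comp MvPolynomial.C).comp (Ideal.Quotient.mk I)) :
    ∃ (f' : Fin m → MvPolynomial (Fin n) A') (ψ : MvPolynomial (Fin n) A' →ₐ[A'] B'),
      (∀ i, MvPolynomial.map (Ideal.Quotient.mk I) (f' i) = f i) ∧
      Function.Surjective ψ ∧ RingHom.ker ψ.toRingHom = Ideal.span (Set.range f') ∧
      ∀ q, π (ψ q) = Ideal.Quotient.mk (Ideal.span (Set.range f)) (MvPolynomial.map (Ideal.Quotient.mk I) q) := by
  classical
  have hnil : IsNilpotent I := by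
    obtain ⟨k, hk⟩ := IsArtinianRing.isNilpotent_jacobson_bot (R := A')
    rw [IsLocalRing.jacobson_eq_maximalIdeal ⊥ bot_ne_top, Ideal.zero_eq_bot] at hk
    refine ⟨k, ?_⟩
    rw [Ideal.zero_eq_bot, ← le_bot_iff, ← hk]
    exact Ideal.pow_right_mono (IsLocalRing.le_maximalIdeal hI) k
  obtain ⟨red, hred⟩ : ∃ red : MvPolynomial (Fin n) A' →+* MvPolynomial (Fin n) (A' ⧸ I),
      red = MvPolynomial.map (Ideal.Quotient.mk I) := ⟨_, rfl⟩
  have hredsurj : Function.Surjective red := by
    rw [hred]
    exact MvPolynomial.map_surjective _ Ideal.Quotient.mk_surjective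
  obtain ⟨q, hq⟩ : ∃ q : MvPolynomial (Fin n) (A' ⧸ I) →+*
      (MvPolynomial (Fin n) (A' ⧸ I) ⧸ Ideal.span (Set.range f)),
      q = Ideal.Quotient.mk (Ideal.span (Set.range f)) := ⟨_, rfl⟩
  have hbex : ∀ j : Fin n, ∃ b : B', π b = q (MvPolynomial.X j) := fun j => hπ _
  choose b hb using hbex
  obtain ⟨ψ, hψdef⟩ : ∃ ψ : MvPolynomial (Fin n) A' →ₐ[A'] B', ψ = MvPolynomial.aeval b :=
    ⟨_, rfl⟩
  have hπψ : π.comp ψ.toRingHom = q.comp red := by
    apply MvPolynomial.ringHom_ext
    · intro a
      have h1 := RingHom.congr_fun hcomp a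
      simp only [RingHom.comp_apply] at h1 ⊢
      have h2 : ψ.toRingHom (MvPolynomial.C a) = algebraMap A' B' a := by
        rw [hψdef]
        exact MvPolynomial.aeval_C b a
      rw [h2, hred, MvPolynomial.map_C, hq]
      exact h1
    · intro j
      simp only [RingHom.comp_apply]
      have h2 : ψ.toRingHom (MvPolynomial.X j) = b j := by
        rw [hψdef]
        exact MvPolynomial.aeval_X b j
      rw [h2, hb, hred, MvPolynomial.map_X]
  have hπψ' : ∀ p, π (ψ p) = q (red p) := fun p => RingHom.congr_fun hπψ p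
  have hIB : ∀ x : B', x ∈ (I • ⊤ : Submodule A' B') ↔ π x = 0 := by
    intro x
    rw [Ideal.smul_top_eq_map, Submodule.restrictScalars_mem, ← hker, RingHom.mem_ker]
  have hIP : ∀ p : MvPolynomial (Fin n) A',
      p ∈ (I • ⊤ : Submodule A' (MvPolynomial (Fin n) A')) ↔ red p = 0 := by
    intro p
    rw [Ideal.smul_top_eq_map, Submodule.restrictScalars_mem, MvPolynomial.algebraMap_eq,
      ← RingHom.mem_ker, hred, MvPolynomial.ker_map, Ideal.mk_ker]
  have hψsurj : Function.Surjective ψ := by
    have hr : LinearMap.range ψ.toLinearMap = ⊤ := by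
      apply Groth.Agent.Lib.Helper5.eq_top_of_sup_smul_top_eq_top_of_isNilpotent hnil
      rw [eq_top_iff]
      intro x _
      obtain ⟨pb, hpb⟩ := Ideal.Quotient.mk_surjective (π x)
      obtain ⟨p, rfl⟩ := hredsurj pb
      have h0 : x - ψ p ∈ (I • ⊤ : Submodule A' B') := by
        rw [hIB, map_sub, hπψ', hq, hpb, sub_self]
      have hx : x = ψ p + (x - ψ p) := by abel
      rw [hx]
      exact Submodule.add_mem_sup ⟨p, rfl⟩ h0
    exact LinearMap.range_eq_top.mp hr
  have hlift : ∀ i : Fin m, ∃ g : MvPolynomial (Fin n) A', red g = f i ∧ ψ g = 0 := by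
    intro i
    obtain ⟨g, hg⟩ := hredsurj (f i)
    have h1 : ψ g ∈ (I • ⊤ : Submodule A' B') := by
      rw [hIB, hπψ', hg, hq, Ideal.Quotient.eq_zero_iff_mem]
      exact Ideal.subset_span ⟨i, rfl⟩
    have h2 : (I • ⊤ : Submodule A' B') =
        (I • ⊤ : Submodule A' (MvPolynomial (Fin n) A')).map ψ.toLinearMap := by
      rw [Submodule.map_smul'', Submodule.map_top, LinearMap.range_eq_top.mpr hψsurj]
    rw [h2] at h1
    obtain ⟨h, hh, hhg⟩ := h1
    refine ⟨g - h, ?_, ?_⟩
    · rw [map_sub, hg, (hIP h).mp hh, sub_zero]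
    · rw [map_sub, sub_eq_zero]
      exact hhg.symm
  choose f' hf'red hf'ker using hlift
  refine ⟨f', ψ, ?_, hψsurj, ?_, ?_⟩
  · intro i
    rw [← hred]
    exact hf'red i
  · have hle : LinearMap.ker ψ.toLinearMap ≤
        (Ideal.span (Set.range f')).restrictScalars A' := by
      apply Groth.Agent.Lib.Helper5.le_of_le_sup_smul_of_isNilpotent hnil
      intro p hp
      have hp0 : ψ p = 0 := hp
      have h1 : red p ∈ Ideal.span (Set.range f) := by
        rw [← Ideal.Quotient.eq_zero_iff_mem, ← hq, ← hπψ', hp0, map_zero]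
      obtain ⟨cb, hcb⟩ := Ideal.mem_span_range_iff_exists_fun.mp h1
      choose c hc using fun i => hredsurj (cb i)
      have h2 : ∑ i, c i * f' i ∈ (Ideal.span (Set.range f')).restrictScalars A' := by
        rw [Submodule.restrictScalars_mem]
        exact Ideal.sum_mem _ fun i _ => Ideal.mul_mem_left _ _ (Ideal.subset_span ⟨i, rfl⟩)
      have h3 : p - ∑ i, c i * f' i ∈
          (I • LinearMap.ker ψ.toLinearMap : Submodule A' (MvPolynomial (Fin n) A')) := by
        apply Groth.Agent.Lib.Helper5.mem_smul_ker_of_mem_smul_top_of_flat ψ.toLinearMap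
          hψsurj I
        · show ψ (p - ∑ i, c i * f' i) = 0
          rw [map_sub, hp0, map_sum, zero_sub, neg_eq_zero]
          apply Finset.sum_eq_zero
          intro i _
          rw [map_mul, hf'ker, mul_zero]
        · rw [hIP, map_sub, map_sum, ← hcb, sub_eq_zero]
          apply Finset.sum_congr rfl
          intro i _
          rw [map_mul, hc, hf'red]
      have hpp : p = ∑ i, c i * f' i + (p - ∑ i, c i * f' i) := by abel
      rw [hpp]
      exact Submodule.add_mem_sup h2 h3
    ext p
    rw [RingHom.mem_ker]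
    constructor
    · intro hp
      exact hle hp
    · intro hp
      have hsp : Ideal.span (Set.range f') ≤ RingHom.ker ψ.toRingHom := by
        rw [Ideal.span_le]
        rintro _ ⟨i, rfl⟩
        exact hf'ker i
      exact hsp hp
  · intro p
    rw [hπψ', hq, hred]

end Groth.Agent.S13134
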