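import Groth.Statements.S13135
import Mathlib
import Groth.Agent.Lib.Helper5ArtRegSeq

set_option autoImplicit false
universe u
open CAlg

namespace Groth.Agent.S13135

/-- Let A' be an Artinian local ring, I a proper ideal, A = A'/I and f_1, …, f_m a regular sequence in
A[x_1, …, x_n]. For every choice of lifts f'_1, …, f'_m in A'[x_1, …, x_n] the quotient A'[x]/(f'_1,
…, f'_m) is flat over A' (so it is a flat lifting of A[x]/(f_1, …, f_m)). (The published statement
is for a surjection of local Artinian algebras with a fixed residue field over a ring of Witt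
vectors; only the Artinian local base and the proper ideal are used, which is the form taken here.) -/
theorem result
    {A' : Type u} [CommRing A'] [IsArtinianRing A'] [IsLocalRing A'] (I : Ideal A') (hI : I ≠ ⊤)
    {n m : ℕ} (f : Fin m → MvPolynomial (Fin n) (A' ⧸ I))
    (hreg : RingTheory.Sequence.IsRegular (MvPolynomial (Fin n) (A' ⧸ I)) (List.ofFn f))
    (f' : Fin m → MvPolynomial (Fin n) A') (hf' : ∀ i, MvPolynomial.map (Ideal.Quotient.mk I) (f' i) = f i) :
    Module.Flat A' (MvPolynomial (Fin n) A' ⧸ Ideal.span (Set.range f')) := by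
  obtain ⟨k, hk⟩ : ∃ k : ℕ, IsLocalRing.maximalIdeal A' ^ k = ⊥ := by
    obtain ⟨k, hk⟩ := IsArtinianRing.isNilpotent_jacobson_bot (R := A')
    rw [IsLocalRing.jacobson_eq_maximalIdeal ⊥ bot_ne_top] at hk
    exact ⟨k, hk⟩
  obtain ⟨red, hred⟩ : ∃ red : MvPolynomial (Fin n) A' →+* MvPolynomial (Fin n) (A' ⧸ I),
      red = MvPolynomial.map (Ideal.Quotient.mk I) := ⟨_, rfl⟩
  have hredsurj : Function.Surjective red := by
    rw [hred]
    exact MvPolynomial.map_surjective _ Ideal.Quotient.mk_surjective
  -- the reduction of the polynomial ring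
  have hJ : (I.map (algebraMap A' (MvPolynomial (Fin n) A')) • ⊤ :
      Submodule (MvPolynomial (Fin n) A') (MvPolynomial (Fin n) A')) = RingHom.ker red := by
    rw [smul_eq_mul, Ideal.mul_top, MvPolynomial.algebraMap_eq, hred, MvPolynomial.ker_map,
      Ideal.mk_ker]
  obtain ⟨e, he⟩ : ∃ e : (MvPolynomial (Fin n) A' ⧸
      (I.map (algebraMap A' (MvPolynomial (Fin n) A')) • ⊤ :
        Submodule (MvPolynomial (Fin n) A') (MvPolynomial (Fin n) A'))) ≃+
      MvPolynomial (Fin n) (A' ⧸ I), ∀ x, e (Submodule.Quotient.mk x) = red x :=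
    ⟨(Submodule.quotEquivOfEq _ _ hJ).toAddEquiv.trans
      (RingHom.quotientKerEquivOfSurjective hredsurj).toAddEquiv, fun x => rfl⟩
  have hreg' : RingTheory.Sequence.IsRegular (MvPolynomial (Fin n) A') (List.ofFn f') := by
    rw [Groth.Agent.Lib.Helper5.isRegular_iff_isRegular_quotient k hk I hI (List.ofFn f')
      (MvPolynomial (Fin n) A')]
    have hlist : List.ofFn f = (List.ofFn f').map red := by
      rw [List.map_ofFn]
      congr 1
      funext i
      rw [Function.comp_apply, hred, hf']
    rw [hlist] at hreg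
    refine (e.isRegular_congr ?_).mpr hreg
    refine List.forall₂_map_right_iff.mpr (List.forall₂_same.mpr fun r _ x => ?_)
    obtain ⟨y, rfl⟩ := Submodule.Quotient.mk_surjective _ x
    rw [← Submodule.Quotient.mk_smul, he, he, smul_eq_mul, map_mul, smul_eq_mul]
  have hflat := Groth.Agent.Lib.Helper5.flat_quotient_ofList_smul_top_of_isWeaklyRegular
    (A := A') k hk (List.ofFn f') (MvPolynomial (Fin n) A') hreg'.toIsWeaklyRegular
  have hJ' : (Ideal.ofList (List.ofFn f') • ⊤ :
      Submodule (MvPolynomial (Fin n) A') (MvPolynomial (Fin n) A')) =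
      Ideal.span (Set.range f') := by
    rw [smul_eq_mul, Ideal.mul_top]
    show Ideal.span {r | r ∈ List.ofFn f'} = Ideal.span (Set.range f')
    congr 1
    ext a
    exact List.mem_ofFn' f' a
  exact Module.Flat.of_linearEquiv
    ((Submodule.quotEquivOfEq _ _ hJ').restrictScalars A').symm

end Groth.Agent.S13135
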