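import Groth.Statements.S13137
import Mathlib
import Groth.Agent.Lib.Helper5W2

set_option autoImplicit false
universe u v
open FrobAlg

namespace Groth.Agent.S13137

/-- For a perfect field k of characteristic p, a flat W₂(k)-algebra B and an ideal J of B, the quotient
B/J is flat over W₂(k) if and only if (p) ∩ J = pJ in B. (With B a flat lifting of A = B/pB this
says: B/J is a flat lifting of A modulo the image of J exactly when (p) ∩ J = pJ.) -/
theorem result
    (p : ℕ) [Fact p.Prime] (k : Type u) [Field k] [CharP k p] [PerfectRing k p]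
    (B : Type v) [CommRing B] [Algebra (FrobAlg.W2 p k) B] [Module.Flat (FrobAlg.W2 p k) B]
    (J : Ideal B) :
    Module.Flat (FrobAlg.W2 p k) (B ⧸ J) ↔
      Ideal.span {(p : B)} ⊓ J = Ideal.span {(p : B)} * J := by
  have hB := (Groth.Agent.Lib.Helper5.W2.flat_iff (p := p) (k := k) B).mp inferInstance
  have hsmulB : ∀ x : B, ((p : ℕ) : FrobAlg.W2 p k) • x = (p : B) * x := by
    intro x
    rw [Algebra.smul_def, map_natCast]
  have hsmulQ : ∀ x : B ⧸ J, ((p : ℕ) : FrobAlg.W2 p k) • x = (p : B ⧸ J) * x := by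
    intro x
    rw [Algebra.smul_def, map_natCast]
  have hpp : (p : B) * (p : B) = 0 := by
    have h := Groth.Agent.Lib.Helper5.W2.p_sq_eq_zero p k
    have h2 := congrArg (algebraMap (FrobAlg.W2 p k) B) h
    rw [map_mul, map_natCast, map_zero] at h2
    exact h2
  rw [Groth.Agent.Lib.Helper5.W2.flat_iff (p := p) (k := k) (B ⧸ J)]
  constructor
  · intro h
    apply le_antisymm
    · intro z hz
      obtain ⟨hz1, hz2⟩ := hz
      obtain ⟨b, rfl⟩ := Ideal.mem_span_singleton'.mp hz1
      have h1 : ((p : ℕ) : FrobAlg.W2 p k) • (Ideal.Quotient.mk J b) = 0 := by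
        rw [hsmulQ, ← map_natCast (Ideal.Quotient.mk J), ← map_mul,
          Ideal.Quotient.eq_zero_iff_mem, mul_comm]
        exact hz2
      obtain ⟨y, hy⟩ := h _ h1
      obtain ⟨c, rfl⟩ := Ideal.Quotient.mk_surjective y
      rw [hsmulQ, ← map_natCast (Ideal.Quotient.mk J), ← map_mul, Ideal.Quotient.eq] at hy
      have h2 : b * (p : B) = (p : B) * (b - (p : B) * c) := by
        rw [mul_sub, ← mul_assoc, hpp, zero_mul, sub_zero, mul_comm]
      rw [h2]
      exact Ideal.mul_mem_mul (Ideal.subset_span rfl) hy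
    · exact Ideal.mul_le_inf
  · intro h x hx
    obtain ⟨b, rfl⟩ := Ideal.Quotient.mk_surjective x
    rw [hsmulQ, ← map_natCast (Ideal.Quotient.mk J), ← map_mul,
      Ideal.Quotient.eq_zero_iff_mem] at hx
    have h1 : (p : B) * b ∈ Ideal.span {(p : B)} ⊓ J :=
      ⟨Ideal.mul_mem_right _ _ (Ideal.subset_span rfl), hx⟩
    rw [h, Ideal.mem_span_singleton_mul] at h1
    obtain ⟨j, hj, hjb⟩ := h1
    have h2 : ((p : ℕ) : FrobAlg.W2 p k) • (b - j) = 0 := by
      rw [hsmulB, mul_sub, hjb, sub_self]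
    obtain ⟨c, hc⟩ := hB _ h2
    refine ⟨Ideal.Quotient.mk J c, ?_⟩
    rw [hsmulQ, ← map_natCast (Ideal.Quotient.mk J), ← map_mul, Ideal.Quotient.eq,
      ← hsmulB, ← hc]
    have : b - (b - j) = j := by ring
    rw [this]
    exact hj

end Groth.Agent.S13137
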