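import Groth.Statements.S13139
import Mathlib
import Groth.Agent.Lib.Helper5FrobCI

set_option autoImplicit false
universe u
open scoped BigOperators
open FrobAlg

namespace Groth.Agent.S13139

open Groth.Agent.Lib.Helper5.W2Lift Groth.Agent.Lib.Helper5.FrobPoly

/-- Let k be a perfect field of characteristic p and f_1, …, f_m a regular sequence in R = k[x_1, …,
x_n]. The complete intersection A = R/(f_1, …, f_m) lifts to W₂(k) compatibly with Frobenius if and
only if for some lifts f'_1, …, f'_m ∈ R' = W₂(k)[x_1, …, x_n] of the f_i and some h_1, …, h_n ∈ R'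
one has F'(f'_i) − f'_i^p − p·Σ_j (∂f'_i/∂x_j)^p h_j ∈ p·(f'_1, …, f'_m) for every i, F' being the
standard Frobenius lift of R'. In terms of Frobenius residues P(f') = (F'(f') − f'^p)/p ∈ R, which
change by g^p when f' changes by pg, this is the congruence P_{f_i} + g_i^p ≡ Σ_j (∂f_i/∂x_j)^p h_j
modulo (f_1, …, f_m) for some g_i, h_j. -/
theorem result
    (p : ℕ) [Fact p.Prime] (k : Type u) [Field k] [CharP k p] [PerfectRing k p]
    {n m : ℕ} (f : Fin m → MvPolynomial (Fin n) k)
    (hreg : RingTheory.Sequence.IsRegular (MvPolynomial (Fin n) k) (List.ofFn f)) :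
    FrobAlg.IsFLiftable p k (MvPolynomial (Fin n) k ⧸ Ideal.span (Set.range f)) ↔
    ∃ (f' : Fin m → MvPolynomial (Fin n) (FrobAlg.W2 p k)) (h : Fin n → MvPolynomial (Fin n) (FrobAlg.W2 p k)),
      (∀ i, MvPolynomial.map (FrobAlg.res p k) (f' i) = f i) ∧
      ∀ i, FrobAlg.polyFrob p k (Fin n) (f' i) - f' i ^ p
        - (p : MvPolynomial (Fin n) (FrobAlg.W2 p k)) * ∑ j, MvPolynomial.pderiv j (f' i) ^ p * h j
        ∈ Ideal.span {(p : MvPolynomial (Fin n) (FrobAlg.W2 p k))} * Ideal.span (Set.range f') := by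
  constructor
  · intro hF
    exact exists_congruence_of_isFLiftable f hF
  · rintro ⟨f', h, hf', hh⟩
    have hfun : (fun i => MvPolynomial.map (FrobAlg.res p k) (f' i)) = f := funext hf'
    have hflat := flat_of_isRegular f' (by rw [hfun]; exact hreg)
    have hJ : (Ideal.span (Set.range f')).map (MvPolynomial.map (FrobAlg.res p k)) =
        Ideal.span (Set.range f) := by
      rw [Ideal.map_span, ← Set.range_comp]
      congr 2
    have hh' : ∀ g ∈ Set.range f', FrobAlg.polyFrob p k (Fin n) g - g ^ p
        - ((p : ℕ) : MvPolynomial (Fin n) (FrobAlg.W2 p k)) * ∑ j, MvPolynomial.pderiv j g ^ p * h j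
          ∈ Ideal.span (Set.range f') := by
      intro g hg
      obtain ⟨i, rfl⟩ := hg
      have h1 : Ideal.span {((p : ℕ) : MvPolynomial (Fin n) (FrobAlg.W2 p k))} *
          Ideal.span (Set.range f') ≤ Ideal.span (Set.range f') := Ideal.mul_le_right
      exact h1 (hh i)
    exact isFLiftable_quotient _ (Set.range f') hJ hflat h hh'

end Groth.Agent.S13139
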