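import Groth.Statements.S13140
import Mathlib
-- import your own Groth.Agent.* helpers here

set_option autoImplicit false
universe u v w
open GrpAlg

namespace Groth.Agent.S13140

open TensorProduct in
/-- The action map `A ⊗[R] M → M`, as an `R`-linear map (A possibly noncommutative). -/
noncomputable def actR (R : Type u) [CommRing R] (A : Type*) [Ring A] [Algebra R A]
    (M : Type w) [AddCommGroup M] [Module R M] [Module A M] [IsScalarTower R A M] :
    A ⊗[R] M →ₗ[R] M :=
  TensorProduct.lift (LinearMap.mk₂ R (fun (a : A) (m : M) => a • m)
    (fun a b m => add_smul a b m) (fun r a m => smul_assoc r a m)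
    (fun a m n => smul_add a m n) (fun r a m => smul_comm a r m))

open TensorProduct in
@[simp] theorem actR_tmul (R : Type u) [CommRing R] (A : Type*) [Ring A] [Algebra R A]
    (M : Type w) [AddCommGroup M] [Module R M] [Module A M] [IsScalarTower R A M] (a : A) (m : M) :
    actR R A M (a ⊗ₜ m) = a • m := by
  simp [actR]

open TensorProduct in
/-- The action map `A ⊗[R] M → M`, as an `A`-linear map. -/
noncomputable def actA (R : Type u) [CommRing R] (A : Type*) [Ring A] [Algebra R A]
    (M : Type w) [AddCommGroup M] [Module R M] [Module A M] [IsScalarTower R A M] :
    A ⊗[R] M →ₗ[A] M where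
  toFun := actR R A M
  map_add' := map_add _
  map_smul' := by
    intro a x
    induction x using TensorProduct.induction_on with
    | zero => simp
    | tmul b m =>
      simp only [TensorProduct.smul_tmul', actR_tmul, RingHom.id_apply, smul_eq_mul, mul_smul]
    | add x y hx hy =>
      simp only [smul_add, map_add, hx, hy]

/-- Let G be a finite group, R a commutative ring in which |G| is a unit, and M a module over the group
algebra R[G] whose underlying R-module is projective. Then M is a projective R[G]-module. -/
theorem result
    (R : Type u) [CommRing R] (G : Type v) [Group G] [Finite G] (hG : IsUnit ((Nat.card G : ℕ) : R))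
    (M : Type w) [AddCommGroup M] [Module R M] [Module (MonoidAlgebra R G) M]
    [IsScalarTower R (MonoidAlgebra R G) M] [Module.Projective R M] :
    Module.Projective (MonoidAlgebra R G) M := by
  classical
  cases nonempty_fintype G
  let A := MonoidAlgebra R G
  let s : TensorProduct R A M →ₗ[A] M := actA R A M
  let σ : M →ₗ[R] TensorProduct R A M := TensorProduct.mk R A M 1
  let σ' : M →ₗ[A] TensorProduct R A M := LinearMap.equivariantProjection G σ
  have H : s.comp σ' = LinearMap.id := by
    refine LinearMap.ext fun m => ?_
    simp only [LinearMap.comp_apply, LinearMap.id_apply, σ']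
    rw [LinearMap.equivariantProjection_apply]
    have hs : ∀ x, s x = actR R A M x := fun x => rfl
    rw [hs, map_smul, map_sum]
    have : ∀ g : G, actR R A M (σ.conjugate g m) = m := by
      intro g
      rw [LinearMap.conjugate_apply, ← hs, map_smul, hs]
      simp only [σ, TensorProduct.mk_apply, actR_tmul, one_smul]
      rw [← mul_smul, MonoidAlgebra.single_mul_single, mul_one, inv_mul_cancel,
        ← MonoidAlgebra.one_def, one_smul]
    simp only [this]
    rw [Finset.sum_const, Finset.card_univ, ← Nat.cast_smul_eq_nsmul R, smul_smul,
      Fintype.card_eq_nat_card, Ring.inverse_mul_cancel _ hG, one_smul]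
  exact Module.Projective.of_split σ' s H

end Groth.Agent.S13140
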