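import Groth.Statements.S13141
import Mathlib
-- import your own Groth.Agent.* helpers here

set_option autoImplicit false
universe u v w w'
open scoped TensorProduct
open GrpAlg

namespace Groth.Agent.S13141

/-- Let G be a finite group, R a commutative ring with |G| invertible in R, M a projective R-module with
an R-linear G-action and S an R-algebra. The natural map M^G ⊗_R S → M ⊗_R S is injective and its
image is the submodule of G-invariants of M ⊗_R S (G acting on the first factor); that is, M^G ⊗_R S
→ (M ⊗_R S)^G is bijective. -/
theorem result
    (R : Type u) [CommRing R] (G : Type v) [Group G] [Finite G] (hG : IsUnit ((Nat.card G : ℕ) : R))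
    (M : Type w) [AddCommGroup M] [Module R M] [Module.Projective R M] (ρ : Representation R G M)
    (S : Type w') [CommRing S] [Algebra R S] :
    Function.Injective (TensorProduct.map ρ.invariants.subtype (LinearMap.id : S →ₗ[R] S)) ∧
    LinearMap.range (TensorProduct.map ρ.invariants.subtype (LinearMap.id : S →ₗ[R] S)) =
      ⨅ g : G, LinearMap.eqLocus (LinearMap.rTensor S (ρ g)) LinearMap.id := by
  classical
  cases nonempty_fintype G
  have hG' : IsUnit ((Fintype.card G : ℕ) : R) := by rwa [← Nat.card_eq_fintype_card]
  letI : Invertible ((Fintype.card G : ℕ) : R) := hG'.invertible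
  let r : M →ₗ[R] ρ.invariants :=
    LinearMap.codRestrict ρ.invariants ρ.averageMap (ρ.averageMap_invariant)
  have hr : r.comp ρ.invariants.subtype = LinearMap.id := by
    refine LinearMap.ext fun v => Subtype.ext ?_
    exact ρ.averageMap_id v.1 v.2
  have hsr : ρ.invariants.subtype.comp r = ρ.averageMap := by
    refine LinearMap.ext fun v => rfl
  constructor
  · have h1 : (TensorProduct.map r (LinearMap.id : S →ₗ[R] S)).comp
        (TensorProduct.map ρ.invariants.subtype (LinearMap.id : S →ₗ[R] S)) = LinearMap.id := by
      rw [← TensorProduct.map_comp, hr, LinearMap.id_comp, TensorProduct.map_id]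
    exact Function.LeftInverse.injective (fun x => LinearMap.congr_fun h1 x)
  · apply le_antisymm
    · rintro _ ⟨z, rfl⟩
      rw [Submodule.mem_iInf]
      intro g
      rw [LinearMap.mem_eqLocus]
      induction z using TensorProduct.induction_on with
      | zero => simp
      | tmul x s =>
        have hx : ρ g x.1 = x.1 := x.2 g
        simp [hx]
      | add a b ha hb => simp only [map_add, ha, hb]
    · intro z hz
      rw [Submodule.mem_iInf] at hz
      have hz' : ∀ g, LinearMap.rTensor S (ρ g) z = z := fun g => by
        simpa [LinearMap.mem_eqLocus] using hz g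
      have havg : ρ.averageMap = ⅟((Fintype.card G : ℕ) : R) • ∑ g : G, ρ g := by
        simp [Representation.averageMap, GroupAlgebra.average, map_smul, map_sum]
      have key : LinearMap.rTensor S ρ.averageMap z = z := by
        rw [havg, LinearMap.rTensor_smul, ← LinearMap.coe_rTensorHom, map_sum]
        simp only [LinearMap.coe_rTensorHom, LinearMap.smul_apply, LinearMap.sum_apply, hz']
        rw [Finset.sum_const, Finset.card_univ, ← Nat.cast_smul_eq_nsmul R, smul_smul,
          invOf_mul_self, one_smul]
      refine ⟨TensorProduct.map r LinearMap.id z, ?_⟩
      rw [← LinearMap.comp_apply, ← TensorProduct.map_comp, hsr, LinearMap.id_comp]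
      exact key

end Groth.Agent.S13141
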