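import Groth.Statements.S13142
import Mathlib
-- import your own Groth.Agent.* helpers here

set_option autoImplicit false
universe u v
open GrpAlg

namespace Groth.Agent.S13142

/-- Let G be a finite group and R a commutative ring with |G| invertible in R, acting on R[x_1, …, x_n]
by R-algebra automorphisms. The invariant subring R[x_1, …, x_n]^G is a flat R-module (so the
quotient of affine n-space over R by G is flat over R). -/
theorem result
    (R : Type u) [CommRing R] (G : Type v) [Group G] [Finite G] (hG : IsUnit ((Nat.card G : ℕ) : R))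
    (n : ℕ) (ρ : G →* (MvPolynomial (Fin n) R ≃ₐ[R] MvPolynomial (Fin n) R)) :
    Module.Flat R ↥(⨅ g : G, LinearMap.eqLocus (ρ g).toLinearMap (LinearMap.id : MvPolynomial (Fin n) R →ₗ[R] MvPolynomial (Fin n) R)) := by
  classical
  cases nonempty_fintype G
  have hG' : IsUnit ((Fintype.card G : ℕ) : R) := by rwa [← Nat.card_eq_fintype_card]
  letI : Invertible ((Fintype.card G : ℕ) : R) := hG'.invertible
  let ρ' : Representation R G (MvPolynomial (Fin n) R) :=
    { toFun := fun g => (ρ g).toLinearMap
      map_one' := by rw [map_one]; rfl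
      map_mul' := fun g h => by rw [map_mul]; rfl }
  set N : Submodule R (MvPolynomial (Fin n) R) :=
    ⨅ g : G, LinearMap.eqLocus (ρ g).toLinearMap
      (LinearMap.id : MvPolynomial (Fin n) R →ₗ[R] MvPolynomial (Fin n) R) with hN
  have hmem : ∀ v, v ∈ N ↔ v ∈ ρ'.invariants := by
    intro v
    rw [hN, Submodule.mem_iInf]
    simp only [LinearMap.mem_eqLocus, Representation.mem_invariants]
    rfl
  let r : MvPolynomial (Fin n) R →ₗ[R] N :=
    LinearMap.codRestrict N ρ'.averageMap (fun v => (hmem _).2 (ρ'.averageMap_invariant v))
  have hr : r.comp N.subtype = LinearMap.id := by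
    refine LinearMap.ext fun v => Subtype.ext ?_
    exact ρ'.averageMap_id v.1 ((hmem _).1 v.2)
  exact Module.Flat.of_retract N.subtype r hr

end Groth.Agent.S13142
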