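import Groth.Statements.S13144
import Mathlib
import Groth.Agent.Lib.Helper5W2Lift

set_option autoImplicit false
universe u
open FrobAlg

namespace Groth.Agent.S13144

open Groth.Agent.Lib.Helper5.W2Lift

/-- Let k be a perfect field of characteristic p, A → B a homomorphism of Noetherian k-algebras with an
A-linear retraction B → A, and A' → B' a homomorphism over W₂(k) between flat liftings of A and B
which reduces to A → B. If the Frobenius of B lifts to B' (a σ₂-semilinear ring endomorphism
reducing to the p-th power map), then the Frobenius of A lifts to A'. (The published statement is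
for an affine morphism whose map on structure sheaves splits linearly; the affine case with an
A-linear splitting is taken here.) -/
theorem result
    (p : ℕ) [Fact p.Prime] (k : Type u) [Field k] [CharP k p] [PerfectRing k p]
    (A B : Type u) [CommRing A] [CommRing B] [Algebra k A] [Algebra k B]
    [IsNoetherianRing A] [IsNoetherianRing B] [Algebra A B] [IsScalarTower k A B]
    (r : B →ₗ[A] A) (hr : ∀ a : A, r (algebraMap A B a) = a)
    (A' B' : Type u) [CommRing A'] [CommRing B']
    (ιA : FrobAlg.W2 p k →+* A') (πA : A' →+* A) (hA : FrobAlg.IsLift p k A A' ιA πA)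
    (ιB : FrobAlg.W2 p k →+* B') (πB : B' →+* B) (hB : FrobAlg.IsLift p k B B' ιB πB)
    (φ' : A' →+* B') (hφι : φ'.comp ιA = ιB) (hφπ : πB.comp φ' = (algebraMap A B).comp πA)
    (ΦB : B' →+* B') (hΦB : FrobAlg.IsFrobLift p k B B' ιB πB ΦB) :
    ∃ ΦA : A' →+* A', FrobAlg.IsFrobLift p k A A' ιA πA ΦA := by
  classical
  have hBl : FrobAlg.IsLift p k B B' ιB πB := hB
  obtain ⟨G, hG⟩ : ∃ G : A' →+* B', G = ΦB.comp φ' := ⟨_, rfl⟩
  have hπφ : ∀ a : A', πB (φ' a) = algebraMap A B (πA a) := fun a => RingHom.congr_fun hφπ a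
  have hker : ∀ a : A', πB (G a - φ' a ^ p) = 0 := by
    intro a
    rw [map_sub, map_pow, hG, RingHom.comp_apply, hΦB.red, sub_self]
  choose δ hδ using fun a => exists_mu_eq hB (hker a)
  have hδ_one : δ 1 = 0 :=
    mu_eq_zero hB (by rw [hδ, map_one, map_one, one_pow, sub_self])
  have hδ_zero : δ 0 = 0 :=
    mu_eq_zero hB (by
      rw [hδ, map_zero, map_zero, zero_pow (Fact.out : p.Prime).ne_zero, sub_self])
  have hδ_mul : ∀ a b, δ (a * b) =
      (algebraMap A B (πA a)) ^ p * δ b + (algebraMap A B (πA b)) ^ p * δ a := by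
    intro a b
    apply mu_injective hB
    have e1 : mu hB ((algebraMap A B (πA a)) ^ p * δ b) = φ' a ^ p * mu hB (δ b) := by
      rw [mul_mu, map_pow, hπφ]
    have e2 : mu hB ((algebraMap A B (πA b)) ^ p * δ a) = φ' b ^ p * mu hB (δ a) := by
      rw [mul_mu, map_pow, hπφ]
    rw [mu_add, e1, e2, hδ, hδ, hδ, map_mul G, map_mul φ']
    have := mu_mul_mu hB (δ a) (δ b)
    rw [hδ, hδ] at this
    linear_combination this
  have hδ_add : ∀ a b, δ (a + b) = δ a + δ b - algebraMap A B (πA (Q p a b)) := by
    intro a b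
    apply mu_injective hB
    rw [mu_sub, mu_add, hδ, hδ, hδ, ← hπφ, mu_pi, map_add, map_add, add_pow_eq (φ' a) (φ' b),
      map_Q]
    ring
  let ΦA : A' →+* A' :=
    { toFun := fun a => a ^ p + mu hA (r (δ a))
      map_one' := by rw [hδ_one, map_zero, mu_zero, one_pow, add_zero]
      map_mul' := fun a b => by
        have e1 : ∀ x y, r ((algebraMap A B (πA x)) ^ p * δ y) = (πA x) ^ p * r (δ y) := by
          intro x y
          rw [← map_pow, ← Algebra.smul_def, map_smul, smul_eq_mul]
        have e3 : ∀ x y, mu hA ((πA x) ^ p * r (δ y)) = x ^ p * mu hA (r (δ y)) := by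
          intro x y
          rw [mul_mu, map_pow]
        rw [hδ_mul, map_add, e1, e1, mu_add, e3, e3]
        have := mu_mul_mu hA (r (δ a)) (r (δ b))
        linear_combination -this
      map_zero' := by
        rw [hδ_zero, map_zero, mu_zero, zero_pow (Fact.out : p.Prime).ne_zero, add_zero]
      map_add' := fun a b => by
        rw [hδ_add, map_sub, map_add, hr, mu_sub, mu_add, mu_pi, add_pow_eq]
        ring }
  have hπι : ∀ w, πA (ιA w) = algebraMap k A (FrobAlg.res p k w) :=
    fun w => RingHom.congr_fun hA.comm w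
  refine ⟨ΦA, ⟨hA, ?_, ?_⟩⟩
  · ext w
    change (ιA w) ^ p + mu hA (r (δ (ιA w))) = ιA (FrobAlg.sigma p k w)
    have h1 : πA (ιA (FrobAlg.sigma p k w) - ιA w ^ p) = 0 := by
      rw [map_sub, map_pow, hπι, hπι, FrobAlg.res_apply, FrobAlg.res_apply, WittGrp.coeff_frob,
        map_pow, sub_self]
    obtain ⟨c, hc⟩ := exists_mu_eq hA h1
    have h2 : δ (ιA w) = algebraMap A B c := by
      apply mu_injective hB
      rw [hδ, ← map_mu hA hB (algebraMap A B) φ' hφπ, hc, map_sub, map_pow]
      congr 1
      rw [hG, RingHom.comp_apply]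
      have e1 : φ' (ιA w) = ιB w := RingHom.congr_fun hφι w
      have e2 : φ' (ιA (FrobAlg.sigma p k w)) = ιB (FrobAlg.sigma p k w) :=
        RingHom.congr_fun hφι _
      rw [e1, e2]
      exact RingHom.congr_fun hΦB.semi w
    rw [h2, hr, hc]
    ring
  · intro b
    change πA (b ^ p + mu hA _) = _
    rw [map_add, pi_mu, add_zero, map_pow]

end Groth.Agent.S13144
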