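import Groth.Statements.S13146
import Mathlib
import Groth.Agent.Lib.Helper16FrobLift
-- import your own Groth.Agent.* helpers here

set_option autoImplicit false
set_option linter.style.haveILetI false
set_option linter.unusedSectionVars false
universe u
open scoped BigOperators
open FrobAlg

namespace Groth.Agent.S13146
open Groth.Agent.Lib.Helper16FrobLift
universe v

theorem key2 {A B : Type v} [CommRing A] [CommRing B] (p : ℕ) [Fact p.Prime] (π : B →+* A)
    (hsq : (p : B) * p = 0) (hker : ∀ b, π b = 0 → ∃ c, b = (p : B) * c)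
    (hann : ∀ b, (p : B) * b = 0 → π b = 0)
    {n : ℕ} (X Y : Fin n → B) (hq : π (∑ i, X i * Y i) = 0)
    (hX : ∀ i, π (X i ^ p) = 0) (hY : ∀ i, π (Y i ^ p) = 0)
    (S : MvPolynomial (Fin n) ℤ)
    (hS : MvPolynomial.C (p : ℤ) * S
      = (∑ i, MvPolynomial.X i) ^ p - ∑ i, (MvPolynomial.X i) ^ p) :
    MvPolynomial.aeval (fun i => π (X i) * π (Y i)) S = 0 := by
  have hp2 : 2 ≤ p := (Fact.out : p.Prime).two_le
  obtain ⟨b, hb⟩ := hker _ hq
  choose a ha using fun i => hker _ (hX i)
  choose c hc using fun i => hker _ (hY i)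
  have h1 := congrArg (MvPolynomial.aeval (fun i => X i * Y i)) hS
  rw [map_mul, map_sub, map_pow, map_sum, map_sum] at h1
  simp only [map_pow, MvPolynomial.aeval_X, MvPolynomial.aeval_C] at h1
  have h0 : (algebraMap ℤ B) (p : ℤ) = (p : B) := by simp
  rw [h0, hb] at h1
  have hpp : ((p : B) * b) ^ p = 0 := by
    obtain ⟨r, rfl⟩ : ∃ r, p = r + 2 := ⟨p - 2, by omega⟩
    rw [mul_pow, pow_add, pow_two, hsq, mul_zero, zero_mul]
  have h2 : ∑ i, (X i * Y i) ^ p = 0 := by
    refine Finset.sum_eq_zero fun i _ => ?_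
    rw [mul_pow, ha, hc]
    have : (p : B) * a i * ((p : B) * c i) = ((p : B) * p) * (a i * c i) := by ring
    rw [this, hsq, zero_mul]
  rw [hpp, h2, sub_zero] at h1
  have h5 := hann _ h1
  have h6 : π (MvPolynomial.aeval (fun i => X i * Y i) S)
      = MvPolynomial.aeval (fun i => π (X i) * π (Y i)) S := by
    have := MvPolynomial.comp_aeval_apply (f := fun i => X i * Y i) π.toIntAlgHom S
    simp only [RingHom.toIntAlgHom_apply, map_mul] at this
    exact this
  rw [← h6, h5]


/-- In an even number of variables — for a perfect field k of characteristic p and n ≥ 3, the local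
Artinian algebra k[x_1, y_1, …, x_n, y_n]/(x_1y_1 + ⋯ + x_ny_n, x_1^p, y_1^p, …, x_n^p, y_n^p)
admits no flat lifting over W₂(k). (The published statement covers every number N ≥ 5 of variables,
using x_1x_2 + ⋯ + x_{N−2}x_{N−1} + x_N² for odd N; the printed argument is written out for even N
and the odd case is said to be analogous, so only even N = 2n ≥ 6 is taken here.) -/
theorem result
    (p : ℕ) [Fact p.Prime] (k : Type u) [Field k] [CharP k p] [PerfectRing k p]
    (n : ℕ) (hn : 3 ≤ n) :
    ¬ FrobAlg.IsW2Liftable p k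
      (MvPolynomial (Fin n × Fin 2) k ⧸ Ideal.span
        (insert (∑ i : Fin n, MvPolynomial.X (i, (0 : Fin 2)) * MvPolynomial.X (i, (1 : Fin 2)))
          (Set.range fun v : Fin n × Fin 2 => (MvPolynomial.X v : MvPolynomial (Fin n × Fin 2) k) ^ p))) := by
  rintro ⟨B, _, ι, π, hl⟩
  choose X hX using fun i : Fin n => hl.surj (Ideal.Quotient.mk _ (MvPolynomial.X (i, (0 : Fin 2))))
  choose Y hY using fun i : Fin n => hl.surj (Ideal.Quotient.mk _ (MvPolynomial.X (i, (1 : Fin 2))))
  have hq : π (∑ i, X i * Y i) = 0 := by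
    have h1 : ∀ i, π (X i * Y i) = Ideal.Quotient.mk _
        (MvPolynomial.X (i, (0 : Fin 2)) * MvPolynomial.X (i, (1 : Fin 2))) := fun i => by
      rw [map_mul, hX, hY, map_mul]
    rw [map_sum]
    simp only [h1]
    rw [← map_sum]
    exact Ideal.Quotient.eq_zero_iff_mem.2 (Ideal.subset_span (Set.mem_insert _ _))
  have hXp : ∀ i, π (X i ^ p) = 0 := fun i => by
    rw [map_pow, hX, ← map_pow]
    exact Ideal.Quotient.eq_zero_iff_mem.2
      (Ideal.subset_span (Set.mem_insert_of_mem _ ⟨(i, 0), rfl⟩))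
  have hYp : ∀ i, π (Y i ^ p) = 0 := fun i => by
    rw [map_pow, hY, ← map_pow]
    exact Ideal.Quotient.eq_zero_iff_mem.2
      (Ideal.subset_span (Set.mem_insert_of_mem _ ⟨(i, 1), rfl⟩))
  obtain ⟨S, hS⟩ := exists_S p n
  have hkey := key2 p π (lift_p_sq p k hl) (lift_ker p k hl) (lift_ann p k hl) X Y hq hXp hYp S hS
  have hmem : MvPolynomial.aeval (fun i : Fin n => (MvPolynomial.X (i, (0 : Fin 2)) *
        MvPolynomial.X (i, (1 : Fin 2)) : MvPolynomial (Fin n × Fin 2) k)) S
      ∈ Ideal.span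
        (insert (∑ i : Fin n, MvPolynomial.X (i, (0 : Fin 2)) * MvPolynomial.X (i, (1 : Fin 2)))
          (Set.range fun v : Fin n × Fin 2 => (MvPolynomial.X v : MvPolynomial (Fin n × Fin 2) k) ^ p)) := by
    rw [← Ideal.Quotient.eq_zero_iff_mem]
    have := MvPolynomial.comp_aeval_apply (f := fun i : Fin n => (MvPolynomial.X (i, (0 : Fin 2)) *
        MvPolynomial.X (i, (1 : Fin 2)) : MvPolynomial (Fin n × Fin 2) k))
      (Ideal.Quotient.mk (Ideal.span
        (insert (∑ i : Fin n, MvPolynomial.X (i, (0 : Fin 2)) * MvPolynomial.X (i, (1 : Fin 2)))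
          (Set.range fun v : Fin n × Fin 2 => (MvPolynomial.X v : MvPolynomial (Fin n × Fin 2) k) ^ p)))).toIntAlgHom S
    simp only [RingHom.toIntAlgHom_apply] at this
    refine (this.trans ?_).trans hkey
    congr 2
    funext i
    rw [hX, hY, map_mul]
  have hL : ∀ x ∈ Ideal.span
        (insert (∑ i : Fin n, MvPolynomial.X (i, (0 : Fin 2)) * MvPolynomial.X (i, (1 : Fin 2)))
          (Set.range fun v : Fin n × Fin 2 => (MvPolynomial.X v : MvPolynomial (Fin n × Fin 2) k) ^ p)),
      ∀ f, L k p n (f * x) = 0 := by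
    intro x hx
    induction hx using Submodule.span_induction with
    | mem y hy =>
      intro f
      rcases hy with rfl | ⟨⟨i, j⟩, rfl⟩
      · exact L_mul_q k p n hn f
      · rw [mul_comm]; exact L_pow_mul k p n i j f
    | zero => intro f; rw [mul_zero, L_zero]
    | add y z _ _ hy hz => intro f; rw [mul_add, L_add, hy, hz, add_zero]
    | smul a y _ hy => intro f; rw [smul_eq_mul, ← mul_assoc]; exact hy _
  have h1 := hL _ hmem 1
  rw [one_mul] at h1
  exact L_aeval_ne_zero k p n hn S hS h1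

end Groth.Agent.S13146
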