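import Groth.Statements.S13147
import Mathlib
import Groth.Agent.Lib.Helper5W2Coeff

set_option autoImplicit false
universe u
open FrobAlg

namespace Groth.Agent.S13147

open Groth.Agent.Lib.Helper5.W2Lift Groth.Agent.Lib.Helper5.W2Coeff

theorem mem_splitIdeal {p : ℕ} [Fact p.Prime] {A : Type u} [CommRing A] (hpA : ((p : ℕ) : A) = 0)
    (φ : A →+ A) (hφ : ∀ a b : A, φ (a ^ p * b) = a * φ b) (y : FrobAlg.W2 p A)
    (hy : y ∈ FrobAlg.splitIdeal p A φ) : y.coeff 0 = 0 ∧ φ (y.coeff 1) = 0 := by
  unfold FrobAlg.splitIdeal at hy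
  induction hy using Submodule.span_induction with
  | mem y hy => exact ⟨by rw [← FrobAlg.res_apply]; exact hy.1, hy.2⟩
  | zero => exact ⟨t_zero_coeff 0, by rw [t_zero_coeff, map_zero]⟩
  | add y z _ _ hy hz =>
    refine ⟨by rw [t_add_coeff_zero, hy.1, hz.1, add_zero], ?_⟩
    rw [t_add_coeff_one, hy.1, hz.1, Q_zero_left, sub_zero, map_add, hy.2, hz.2, add_zero]
  | smul a y _ hy =>
    rw [smul_eq_mul]
    refine ⟨by rw [t_mul_coeff_zero, hy.1, mul_zero], ?_⟩
    rw [t_mul_coeff_one_charP hpA, hy.1, zero_pow (Fact.out : p.Prime).ne_zero, mul_zero, zero_add,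
      hφ, hy.2, mul_zero]

/-- Let k be a perfect field of characteristic p and (A, φ) a k-algebra with a Frobenius splitting (φ
additive, φ(a^p b) = a φ(b), φ(1) = 1). The quotient of W₂(A) by the ideal generated by the Witt
vectors (0, a) with φ(a) = 0 — the ring of twisted Witt vectors of (A, φ) — is a flat lifting of A
over W₂(k): flat over W₂(k), with reduction map onto A induced by (a₀, a₁) ↦ a₀ whose kernel is
generated by the maximal ideal of W₂(k). (The published statement also asserts that a morphism of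
algebras with Frobenius splittings compatible with the splittings induces a ring map between these
quotients; that part is not stated here.) -/
theorem result
    (p : ℕ) [Fact p.Prime] (k : Type u) [Field k] [CharP k p] [PerfectRing k p]
    (A : Type u) [CommRing A] [Algebra k A] (φ : A →+ A)
    (hφ : ∀ a b : A, φ (a ^ p * b) = a * φ b) (hφ1 : φ 1 = 1) :
    FrobAlg.IsLift p k A (FrobAlg.W2 p A ⧸ FrobAlg.splitIdeal p A φ)
      ((Ideal.Quotient.mk (FrobAlg.splitIdeal p A φ)).comp (WittGrp.truncMap p 2 (algebraMap k A)))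
      (FrobAlg.splitRes p A φ) := by
  have hpA : ((p : ℕ) : A) = 0 := by
    rw [← map_natCast (algebraMap k A), CharP.cast_eq_zero, map_zero]
  have hp0 : p ≠ 0 := (Fact.out : p.Prime).ne_zero
  rcases subsingleton_or_nontrivial A with hA | hA
  · -- the zero ring
    have hsub : Subsingleton (FrobAlg.W2 p A) :=
      ⟨fun x y => TruncatedWittVector.ext fun i => Subsingleton.elim _ _⟩
    have hsubq : Subsingleton (FrobAlg.W2 p A ⧸ FrobAlg.splitIdeal p A φ) :=
      ⟨fun x y => by
        obtain ⟨x, rfl⟩ := Ideal.Quotient.mk_surjective x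
        obtain ⟨y, rfl⟩ := Ideal.Quotient.mk_surjective y
        rw [Subsingleton.elim x y]⟩
    refine isLift_of ?_ ?_ ?_ ?_
    · intro a
      exact ⟨0, Subsingleton.elim _ _⟩
    · ext w
      exact Subsingleton.elim _ _
    · intro x _
      exact ⟨0, Subsingleton.elim _ _⟩
    · intro x _
      exact Subsingleton.elim _ _
  have hchar : CharP A p :=
    charP_of_injective_algebraMap (algebraMap k A).injective p
  have hmk : ∀ z : FrobAlg.W2 p A,
      FrobAlg.splitRes p A φ (Ideal.Quotient.mk _ z) = z.coeff 0 := by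
    intro z
    unfold FrobAlg.splitRes
    rw [Ideal.Quotient.lift_mk, FrobAlg.res_apply]
  have hpz : ∀ z : FrobAlg.W2 p A,
      (((p : ℕ) : FrobAlg.W2 p A) * z).coeff 0 = 0 ∧
      (((p : ℕ) : FrobAlg.W2 p A) * z).coeff 1 = z.coeff 0 ^ p := by
    intro z
    refine ⟨by rw [t_mul_coeff_zero, t_p_coeff_zero, zero_mul], ?_⟩
    rw [t_mul_coeff_one_charP hpA, t_p_coeff_one, t_p_coeff_zero, zero_pow hp0, zero_mul,
      add_zero, one_mul]
  refine isLift_of ?_ ?_ ?_ ?_
  · intro a
    refine ⟨Ideal.Quotient.mk _ (TruncatedWittVector.mk p ![a, 0]), ?_⟩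
    rw [hmk, TruncatedWittVector.coeff_mk]
    rfl
  · refine RingHom.ext fun w => ?_
    change FrobAlg.splitRes p A φ (Ideal.Quotient.mk _ (WittGrp.truncMap p 2 (algebraMap k A) w)) =
      algebraMap k A (FrobAlg.res p k w)
    rw [hmk, WittGrp.coeff_truncMap, FrobAlg.res_apply]
  · intro x hx
    obtain ⟨z, rfl⟩ := Ideal.Quotient.mk_surjective x
    rw [hmk] at hx
    refine ⟨Ideal.Quotient.mk _ (TruncatedWittVector.mk p ![φ (z.coeff 1), 0]), ?_⟩
    rw [← map_natCast (Ideal.Quotient.mk (FrobAlg.splitIdeal p A φ)), ← map_mul,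
      Ideal.Quotient.eq]
    have hz : z - ((p : ℕ) : FrobAlg.W2 p A) * TruncatedWittVector.mk p ![φ (z.coeff 1), 0] =
        TruncatedWittVector.mk p ![0, z.coeff 1 - φ (z.coeff 1) ^ p] := by
      rw [sub_eq_iff_eq_add]
      apply t_ext
      · rw [t_add_coeff_zero, (hpz _).1, TruncatedWittVector.coeff_mk, hx]
        simp
      · rw [t_add_coeff_one, (hpz _).1, (hpz _).2, TruncatedWittVector.coeff_mk,
          TruncatedWittVector.coeff_mk, TruncatedWittVector.coeff_mk, Q_zero_right]
        simp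
    rw [hz]
    apply Ideal.subset_span
    refine ⟨by rw [FrobAlg.res_apply, TruncatedWittVector.coeff_mk]; rfl, ?_⟩
    rw [TruncatedWittVector.coeff_mk]
    change φ (z.coeff 1 - φ (z.coeff 1) ^ p) = 0
    have := hφ (φ (z.coeff 1)) 1
    rw [mul_one, hφ1, mul_one] at this
    rw [map_sub, this, sub_self]
  · intro x hx
    obtain ⟨z, rfl⟩ := Ideal.Quotient.mk_surjective x
    rw [hmk]
    rw [← map_natCast (Ideal.Quotient.mk (FrobAlg.splitIdeal p A φ)), ← map_mul,
      Ideal.Quotient.eq_zero_iff_mem] at hx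
    have h1 := (mem_splitIdeal hpA φ hφ _ hx).2
    rw [(hpz z).2] at h1
    have := hφ (z.coeff 0) 1
    rw [mul_one, hφ1, mul_one] at this
    rw [← this, h1]

end Groth.Agent.S13147
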