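import Groth.Statements.S13149
import Mathlib

set_option autoImplicit false
universe u
open CAlg

namespace Groth.Agent.S13149

open Matrix

section gen
variable {A : Type u} [CommRing A]

def Prim (x : Fin 3 → A) : Prop := ∃ i, IsUnit (x i)
def Sim (x y : Fin 3 → A) : Prop := ∃ c : Aˣ, x = (c : A) • y

lemma Sim.prim {x y : Fin 3 → A} (h : Sim x y) (hy : Prim y) : Prim x := by
  obtain ⟨c, rfl⟩ := h
  obtain ⟨i, hi⟩ := hy
  refine ⟨i, ?_⟩
  rw [Pi.smul_apply, smul_eq_mul]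
  exact c.isUnit.mul hi

lemma Sim.symm {x y : Fin 3 → A} (h : Sim x y) : Sim y x := by
  obtain ⟨c, rfl⟩ := h
  refine ⟨c⁻¹, ?_⟩
  rw [smul_smul, Units.inv_mul, one_smul]

lemma Sim.trans {x y z : Fin 3 → A} (h : Sim x y) (h' : Sim y z) : Sim x z := by
  obtain ⟨c, rfl⟩ := h
  obtain ⟨d, rfl⟩ := h'
  exact ⟨c * d, by rw [smul_smul, Units.val_mul]⟩

lemma Sim.dot_zero {x y n : Fin 3 → A} (h : Sim x y) : x ⬝ᵥ n = 0 ↔ y ⬝ᵥ n = 0 := by
  obtain ⟨c, rfl⟩ := h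
  rw [smul_dotProduct, smul_eq_mul]
  exact c.isUnit.mul_right_eq_zero

lemma Sim.dot_zero' {x y n : Fin 3 → A} (h : Sim x y) : n ⬝ᵥ x = 0 ↔ n ⬝ᵥ y = 0 := by
  rw [dotProduct_comm n x, dotProduct_comm n y]
  exact h.dot_zero

lemma parallel {m n : Fin 3 → A} (hm : Prim m) (hn : Prim n) (h : m ⨯₃ n = 0) : Sim n m := by
  rw [cross_apply] at h
  have e0 : m 1 * n 2 - m 2 * n 1 = 0 := by simpa using congrFun h 0
  have e1 : m 2 * n 0 - m 0 * n 2 = 0 := by simpa using congrFun h 1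
  have e2 : m 0 * n 1 - m 1 * n 0 = 0 := by simpa using congrFun h 2
  obtain ⟨i, c, hc⟩ := hn
  have key : ∀ j, m j * n i = m i * n j := by
    intro j
    fin_cases i <;> fin_cases j <;> simp only [Fin.zero_eta, Fin.mk_one, Fin.reduceFinMk]
    · linear_combination (-1 : A) * e2
    · linear_combination e1
    · linear_combination e2
    · linear_combination (-1 : A) * e0
    · linear_combination (-1 : A) * e1
    · linear_combination e0
  have hmn : m = (m i * (c⁻¹ : Aˣ)) • n := by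
    ext j
    rw [Pi.smul_apply, smul_eq_mul]
    have := key j
    rw [← hc] at this
    calc m j = m j * c * (c⁻¹ : Aˣ) := by rw [mul_assoc, Units.mul_inv, mul_one]
      _ = m i * n j * (c⁻¹ : Aˣ) := by rw [this]
      _ = _ := by ring
  obtain ⟨j, hj⟩ := hm
  have hu : IsUnit (m i * (c⁻¹ : Aˣ)) := by
    rw [hmn, Pi.smul_apply, smul_eq_mul] at hj
    exact isUnit_of_mul_isUnit_left hj
  obtain ⟨d, hd⟩ := hu
  refine ⟨d⁻¹, ?_⟩
  rw [hmn, ← hd, smul_smul, Units.inv_mul, one_smul]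

lemma line_unique {p q n : Fin 3 → A} (hn : Prim n) (hpq : Prim (p ⨯₃ q))
    (h1 : p ⬝ᵥ n = 0) (h2 : q ⬝ᵥ n = 0) : Sim n (p ⨯₃ q) :=
  parallel hpq hn (by rw [cross_cross_eq_smul_sub_smul, h1, h2]; simp)

lemma meet {l l' x : Fin 3 → A} (hx : Prim x) (hll : Prim (l ⨯₃ l'))
    (h1 : x ⬝ᵥ l = 0) (h2 : x ⬝ᵥ l' = 0) : Sim x (l ⨯₃ l') :=
  parallel hll hx (by
    rw [cross_cross_eq_smul_sub_smul, dotProduct_comm l x, dotProduct_comm l' x, h1, h2]; simp)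

lemma step (p : ℕ) (ρ : (Fin 3 → ZMod p) → (Fin 3 → A))
    (hpt : ∀ v : Fin 3 → ZMod p, v ≠ 0 → ∃ i, IsUnit (ρ v i))
    (hcol : ∀ u v w : Fin 3 → ZMod p, u ≠ 0 → v ≠ 0 → w ≠ 0 →
      Matrix.det (Matrix.of ![u, v, w]) = 0 →
      ∃ n : Fin 3 → A, (∃ i, IsUnit (n i)) ∧
        dotProduct (ρ u) n = 0 ∧ dotProduct (ρ v) n = 0 ∧ dotProduct (ρ w) n = 0)
    (P1 P2 Q1 Q2 R : Fin 3 → ZMod p) (hP1 : P1 ≠ 0) (hP2 : P2 ≠ 0) (hQ1 : Q1 ≠ 0) (hQ2 : Q2 ≠ 0)
    (hR : R ≠ 0)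
    (dP : Matrix.det (Matrix.of ![P1, P2, R]) = 0) (dQ : Matrix.det (Matrix.of ![Q1, Q2, R]) = 0)
    (p1 p2 q1 q2 r : Fin 3 → A) (s1 : Sim (ρ P1) p1) (s2 : Sim (ρ P2) p2)
    (t1 : Sim (ρ Q1) q1) (t2 : Sim (ρ Q2) q2)
    (hp : Prim (p1 ⨯₃ p2)) (hq : Prim (q1 ⨯₃ q2)) (hr : Prim r)
    (hrr : Sim ((p1 ⨯₃ p2) ⨯₃ (q1 ⨯₃ q2)) r) : Sim (ρ R) r := by
  obtain ⟨n, hn, a1, a2, a3⟩ := hcol P1 P2 R hP1 hP2 hR dP
  obtain ⟨n', hn', b1, b2, b3⟩ := hcol Q1 Q2 R hQ1 hQ2 hR dQ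
  have l1 : Sim n (p1 ⨯₃ p2) := line_unique hn hp (s1.dot_zero.mp a1) (s2.dot_zero.mp a2)
  have l2 : Sim n' (q1 ⨯₃ q2) := line_unique hn' hq (t1.dot_zero.mp b1) (t2.dot_zero.mp b2)
  have m1 : ρ R ⬝ᵥ (p1 ⨯₃ p2) = 0 := l1.dot_zero'.mp a3
  have m2 : ρ R ⬝ᵥ (q1 ⨯₃ q2) = 0 := l2.dot_zero'.mp b3
  exact (meet (hpt R hR) (hrr.prim hr) m1 m2).trans hrr

lemma prim_of_entry {x : Fin 3 → A} (i : Fin 3) (h : IsUnit (x i)) : Prim x := ⟨i, h⟩

lemma normalized (p : ℕ) [Fact p.Prime] (ρ : (Fin 3 → ZMod p) → (Fin 3 → A))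
    (hpt : ∀ v : Fin 3 → ZMod p, v ≠ 0 → ∃ i, IsUnit (ρ v i))
    (hcol : ∀ u v w : Fin 3 → ZMod p, u ≠ 0 → v ≠ 0 → w ≠ 0 →
      Matrix.det (Matrix.of ![u, v, w]) = 0 →
      ∃ n : Fin 3 → A, (∃ i, IsUnit (n i)) ∧
        dotProduct (ρ u) n = 0 ∧ dotProduct (ρ v) n = 0 ∧ dotProduct (ρ w) n = 0)
    (h0 : Sim (ρ ![1, 0, 0]) ![1, 0, 0]) (h1 : Sim (ρ ![0, 1, 0]) ![0, 1, 0])
    (h2 : Sim (ρ ![0, 0, 1]) ![0, 0, 1]) (hu : Sim (ρ ![1, 1, 1]) ![1, 1, 1]) : (p : A) = 0 := by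
  have one_ne : (1 : ZMod p) ≠ 0 := one_ne_zero
  have ne0 : (![1, 0, 0] : Fin 3 → ZMod p) ≠ 0 := fun h => one_ne (by simpa using congrFun h 0)
  have ne1 : (![0, 1, 0] : Fin 3 → ZMod p) ≠ 0 := fun h => one_ne (by simpa using congrFun h 1)
  have ne2 : (![0, 0, 1] : Fin 3 → ZMod p) ≠ 0 := fun h => one_ne (by simpa using congrFun h 2)
  have neu : (![1, 1, 1] : Fin 3 → ZMod p) ≠ 0 := fun h => one_ne (by simpa using congrFun h 0)
  have ne011 : (![0, 1, 1] : Fin 3 → ZMod p) ≠ 0 := fun h => one_ne (by simpa using congrFun h 1)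
  have ne101 : (![1, 0, 1] : Fin 3 → ZMod p) ≠ 0 := fun h => one_ne (by simpa using congrFun h 0)
  have ne1m0 : (![1, -1, 0] : Fin 3 → ZMod p) ≠ 0 := fun h => one_ne (by simpa using congrFun h 0)
  have u1 : IsUnit (1 : A) := isUnit_one
  have um1 : IsUnit (-1 : A) := isUnit_one.neg
  -- the point (0,1,1)
  have k1 : Sim (ρ ![0, 1, 1]) ![0, 1, 1] := by
    refine step p ρ hpt hcol ![0, 1, 0] ![0, 0, 1] ![1, 0, 0] ![1, 1, 1] ![0, 1, 1]
      ne1 ne2 ne0 neu ne011 ?_ ?_ _ _ _ _ _ h1 h2 h0 hu ?_ ?_ ?_ ?_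
    · simp [Matrix.det_fin_three]
    · simp [Matrix.det_fin_three]
    · exact prim_of_entry 0 (by simpa [cross_apply] using u1)
    · exact prim_of_entry 1 (by simpa [cross_apply] using um1)
    · exact prim_of_entry 1 (by simpa using u1)
    · refine ⟨-1, ?_⟩
      ext i; fin_cases i <;> simp [cross_apply]
  have k2 : Sim (ρ ![1, 0, 1]) ![1, 0, 1] := by
    refine step p ρ hpt hcol ![1, 0, 0] ![0, 0, 1] ![0, 1, 0] ![1, 1, 1] ![1, 0, 1]
      ne0 ne2 ne1 neu ne101 ?_ ?_ _ _ _ _ _ h0 h2 h1 hu ?_ ?_ ?_ ?_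
    · simp [Matrix.det_fin_three]
    · simp [Matrix.det_fin_three]
    · exact prim_of_entry 1 (by simpa [cross_apply] using um1)
    · exact prim_of_entry 0 (by simpa [cross_apply] using u1)
    · exact prim_of_entry 0 (by simpa using u1)
    · refine ⟨1, ?_⟩
      ext i; fin_cases i <;> simp [cross_apply]
  have k3 : Sim (ρ ![1, -1, 0]) ![1, -1, 0] := by
    refine step p ρ hpt hcol ![1, 0, 0] ![0, 1, 0] ![1, 0, 1] ![0, 1, 1] ![1, -1, 0]
      ne0 ne1 ne101 ne011 ne1m0 ?_ ?_ _ _ _ _ _ h0 h1 k2 k1 ?_ ?_ ?_ ?_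
    · simp [Matrix.det_fin_three]
    · simp [Matrix.det_fin_three]
    · exact prim_of_entry 2 (by simpa [cross_apply] using u1)
    · exact prim_of_entry 2 (by simpa [cross_apply] using u1)
    · exact prim_of_entry 0 (by simpa using u1)
    · refine ⟨1, ?_⟩
      ext i; fin_cases i <;> simp [cross_apply]
  have ind : ∀ n : ℕ, Sim (ρ ![(n : ZMod p), 0, 1]) ![(n : A), 0, 1] := by
    intro n
    induction n with
    | zero => simpa using h2
    | succ n ih =>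
      have nen01 : (![(n : ZMod p), 0, 1] : Fin 3 → ZMod p) ≠ 0 :=
        fun h => one_ne (by simpa using congrFun h 2)
      have nen11 : (![(n : ZMod p), 1, 1] : Fin 3 → ZMod p) ≠ 0 :=
        fun h => one_ne (by simpa using congrFun h 2)
      have nes01 : (![((n + 1 : ℕ) : ZMod p), 0, 1] : Fin 3 → ZMod p) ≠ 0 :=
        fun h => one_ne (by simpa using congrFun h 2)
      have j1 : Sim (ρ ![(n : ZMod p), 1, 1]) ![(n : A), 1, 1] := by
        refine step p ρ hpt hcol ![(n : ZMod p), 0, 1] ![0, 1, 0] ![0, 1, 1] ![1, 0, 0]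
          ![(n : ZMod p), 1, 1] nen01 ne1 ne011 ne0 nen11 ?_ ?_ _ _ _ _ _ ih h1 k1 h0 ?_ ?_ ?_ ?_
        · simp [Matrix.det_fin_three]
        · simp [Matrix.det_fin_three]
        · exact prim_of_entry 0 (by simpa [cross_apply] using um1)
        · exact prim_of_entry 1 (by simpa [cross_apply] using u1)
        · exact prim_of_entry 1 (by simpa using u1)
        · refine ⟨-1, ?_⟩
          ext i; fin_cases i <;> simp [cross_apply]
      refine step p ρ hpt hcol ![1, 0, 0] ![0, 0, 1] ![(n : ZMod p), 1, 1] ![1, -1, 0]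
        ![((n + 1 : ℕ) : ZMod p), 0, 1] ne0 ne2 nen11 ne1m0 nes01 ?_ ?_ _ _ _ _ _ h0 h2 j1 k3
        ?_ ?_ ?_ ?_
      · simp [Matrix.det_fin_three]
      · simp [Matrix.det_fin_three]; ring
      · exact prim_of_entry 1 (by simpa [cross_apply] using um1)
      · exact prim_of_entry 0 (by simpa [cross_apply] using u1)
      · exact prim_of_entry 2 (by simpa using u1)
      · refine ⟨1, ?_⟩
        ext i; fin_cases i <;> simp [cross_apply]
        ring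
  have hp := ind p
  rw [ZMod.natCast_self] at hp
  obtain ⟨c, hc⟩ := h2.symm.trans hp
  have := congrFun hc 0
  simp only [Matrix.cons_val_zero, Pi.smul_apply, smul_eq_mul] at this
  exact (c.isUnit.mul_right_eq_zero).mp this.symm

end gen

section loc
variable {A : Type u} [CommRing A] [IsLocalRing A]

lemma prim_vecMul (M : Matrix (Fin 3) (Fin 3) A) (hM : IsUnit M.det) {x : Fin 3 → A}
    (hx : Prim x) : Prim (x ᵥ* M) := by
  by_contra hcon
  have hall : ∀ i, (x ᵥ* M) i ∈ IsLocalRing.maximalIdeal A := by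
    intro i
    rw [IsLocalRing.mem_maximalIdeal, mem_nonunits_iff]
    intro hi; exact hcon ⟨i, hi⟩
  have hx' : (x ᵥ* M) ᵥ* M⁻¹ = x := by
    rw [Matrix.vecMul_vecMul, Matrix.mul_nonsing_inv _ hM, Matrix.vecMul_one]
  obtain ⟨i, hi⟩ := hx
  have hmem : ((x ᵥ* M) ᵥ* M⁻¹) i ∈ IsLocalRing.maximalIdeal A := by
    simp only [Matrix.vecMul, dotProduct]
    exact Ideal.sum_mem _ (fun j _ => Ideal.mul_mem_right _ _ (hall j))
  rw [hx'] at hmem
  exact (IsLocalRing.mem_maximalIdeal _).mp hmem hi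

lemma prim_mulVec (M : Matrix (Fin 3) (Fin 3) A) (hM : IsUnit M.det) {x : Fin 3 → A}
    (hx : Prim x) : Prim (M *ᵥ x) := by
  rw [← Matrix.vecMul_transpose]
  exact prim_vecMul Mᵀ (by rwa [Matrix.det_transpose]) hx

end loc


/-- Let A be a local ring and ρ a map from the points of the projective plane over F_p to the points of
the projective plane over A (vectors with a unit coordinate, up to units) taking collinear triples
to collinear triples (three points are collinear when a vector with a unit coordinate is orthogonal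
to all three). If ρ sends the standard frame (1:0:0), (0:1:0), (0:0:1), (1:1:1) to four points in
general position, then p = 0 in A. (The published statement asks only that ρ preserve collinearity;
a constant map does so over any ring, and the published argument begins by moving the images of the
standard frame to the standard frame, which needs them in general position — that condition is made
a hypothesis here.) -/
theorem result
    (p : ℕ) [Fact p.Prime] (A : Type u) [CommRing A] [IsLocalRing A]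
    (ρ : (Fin 3 → ZMod p) → (Fin 3 → A))
    (hpt : ∀ v : Fin 3 → ZMod p, v ≠ 0 → ∃ i, IsUnit (ρ v i))
    (hcol : ∀ u v w : Fin 3 → ZMod p, u ≠ 0 → v ≠ 0 → w ≠ 0 →
      Matrix.det (Matrix.of ![u, v, w]) = 0 →
      ∃ n : Fin 3 → A, (∃ i, IsUnit (n i)) ∧
        dotProduct (ρ u) n = 0 ∧ dotProduct (ρ v) n = 0 ∧ dotProduct (ρ w) n = 0)
    (hgen : IsUnit (Matrix.det (Matrix.of ![ρ (Pi.single 0 1), ρ (Pi.single 1 1), ρ (Pi.single 2 1)])) ∧
      IsUnit (Matrix.det (Matrix.of ![ρ (Pi.single 0 1), ρ (Pi.single 1 1), ρ (fun _ => 1)])) ∧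
      IsUnit (Matrix.det (Matrix.of ![ρ (Pi.single 0 1), ρ (Pi.single 2 1), ρ (fun _ => 1)])) ∧
      IsUnit (Matrix.det (Matrix.of ![ρ (Pi.single 1 1), ρ (Pi.single 2 1), ρ (fun _ => 1)]))) :
    (p : A) = 0 := by
  obtain ⟨hg, hg2, hg1, hg0⟩ := hgen
  obtain ⟨a0, ha0⟩ : ∃ a, a = ρ (Pi.single 0 1) := ⟨_, rfl⟩
  obtain ⟨a1, ha1⟩ : ∃ a, a = ρ (Pi.single 1 1) := ⟨_, rfl⟩
  obtain ⟨a2, ha2⟩ : ∃ a, a = ρ (Pi.single 2 1) := ⟨_, rfl⟩
  obtain ⟨au, hau⟩ : ∃ a, a = ρ (fun _ => 1) := ⟨_, rfl⟩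
  rw [← ha0, ← ha1, ← ha2] at hg
  rw [← ha0, ← ha1, ← hau] at hg2
  rw [← ha0, ← ha2, ← hau] at hg1
  rw [← ha1, ← ha2, ← hau] at hg0
  obtain ⟨g, hgd⟩ : ∃ g : Matrix (Fin 3) (Fin 3) A, g = Matrix.of ![a0, a1, a2] := ⟨_, rfl⟩
  rw [← hgd] at hg
  obtain ⟨w, hw⟩ : ∃ w : Fin 3 → A, w = au ᵥ* g⁻¹ := ⟨_, rfl⟩
  have hwg : w ᵥ* g = au := by
    rw [hw, Matrix.vecMul_vecMul, Matrix.nonsing_inv_mul _ hg, Matrix.vecMul_one]
  have hcoord : ∀ j, au j = w 0 * a0 j + w 1 * a1 j + w 2 * a2 j := by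
    intro j
    rw [← hwg, hgd]
    simp [Matrix.vecMul, dotProduct, Fin.sum_univ_three]
  have d2 : Matrix.det (Matrix.of ![a0, a1, au]) = w 2 * g.det := by
    rw [hgd, Matrix.det_fin_three, Matrix.det_fin_three]
    simp only [Matrix.of_apply, Matrix.cons_val_zero, Matrix.cons_val_one, Matrix.cons_val]
    rw [hcoord 0, hcoord 1, hcoord 2]
    ring
  have d1 : Matrix.det (Matrix.of ![a0, a2, au]) = -(w 1 * g.det) := by
    rw [hgd, Matrix.det_fin_three, Matrix.det_fin_three]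
    simp only [Matrix.of_apply, Matrix.cons_val_zero, Matrix.cons_val_one, Matrix.cons_val]
    rw [hcoord 0, hcoord 1, hcoord 2]
    ring
  have d0 : Matrix.det (Matrix.of ![a1, a2, au]) = w 0 * g.det := by
    rw [hgd, Matrix.det_fin_three, Matrix.det_fin_three]
    simp only [Matrix.of_apply, Matrix.cons_val_zero, Matrix.cons_val_one, Matrix.cons_val]
    rw [hcoord 0, hcoord 1, hcoord 2]
    ring
  have hw2 : IsUnit (w 2) := by
    rw [d2] at hg2; exact isUnit_of_mul_isUnit_left hg2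
  have hw1 : IsUnit (w 1) := by
    rw [d1, IsUnit.neg_iff] at hg1; exact isUnit_of_mul_isUnit_left hg1
  have hw0 : IsUnit (w 0) := by
    rw [d0] at hg0; exact isUnit_of_mul_isUnit_left hg0
  have hwall : ∀ i, IsUnit (w i) := by
    intro i; fin_cases i
    · exact hw0
    · exact hw1
    · exact hw2
  choose W hW using hwall
  obtain ⟨D, hD⟩ : ∃ D : Matrix (Fin 3) (Fin 3) A,
      D = Matrix.diagonal (fun i => (((W i)⁻¹ : Aˣ) : A)) := ⟨_, rfl⟩
  have hDdet : IsUnit D.det := by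
    rw [hD, Matrix.det_diagonal, ← Units.coe_prod]
    exact Units.isUnit _
  obtain ⟨M, hM⟩ : ∃ M : Matrix (Fin 3) (Fin 3) A, M = g⁻¹ * D := ⟨_, rfl⟩
  have hMdet : IsUnit M.det := by
    rw [hM, Matrix.det_mul]
    exact (Matrix.isUnit_nonsing_inv_det _ hg).mul hDdet
  have hrow : ∀ i : Fin 3, (g i) ᵥ* M = (((W i)⁻¹ : Aˣ) : A) • (Pi.single i 1 : Fin 3 → A) := by
    intro i
    have hgi : Pi.single i 1 ᵥ* g = g i := Matrix.single_one_vecMul i g
    have hDi : Pi.single i 1 ᵥ* D = D i := Matrix.single_one_vecMul i D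
    rw [hM, ← Matrix.vecMul_vecMul, ← hgi, Matrix.vecMul_vecMul _ g,
      Matrix.mul_nonsing_inv _ hg, Matrix.vecMul_one, hDi, hD]
    ext j
    simp [Matrix.diagonal_apply, Pi.single_apply, eq_comm]
  have hurow : au ᵥ* M = fun _ => 1 := by
    rw [hM, ← Matrix.vecMul_vecMul, ← hw, hD]
    ext j
    rw [Matrix.vecMul_diagonal, ← hW j, Units.mul_inv]
  have E0 : (![1, 0, 0] : Fin 3 → ZMod p) = Pi.single 0 1 := by
    ext i; fin_cases i <;> simp
  have E1 : (![0, 1, 0] : Fin 3 → ZMod p) = Pi.single 1 1 := by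
    ext i; fin_cases i <;> simp
  have E2 : (![0, 0, 1] : Fin 3 → ZMod p) = Pi.single 2 1 := by
    ext i; fin_cases i <;> simp
  have Eu : (![1, 1, 1] : Fin 3 → ZMod p) = fun _ => 1 := by
    ext i; fin_cases i <;> simp
  have F0 : (![1, 0, 0] : Fin 3 → A) = Pi.single 0 1 := by
    ext i; fin_cases i <;> simp
  have F1 : (![0, 1, 0] : Fin 3 → A) = Pi.single 1 1 := by
    ext i; fin_cases i <;> simp
  have F2 : (![0, 0, 1] : Fin 3 → A) = Pi.single 2 1 := by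
    ext i; fin_cases i <;> simp
  have Fu : (![1, 1, 1] : Fin 3 → A) = fun _ => 1 := by
    ext i; fin_cases i <;> simp
  have g0 : g 0 = a0 := by rw [hgd]; rfl
  have g1 : g 1 = a1 := by rw [hgd]; rfl
  have g2 : g 2 = a2 := by rw [hgd]; rfl
  refine normalized p (fun v => ρ v ᵥ* M) (fun v hv => prim_vecMul M hMdet (hpt v hv)) ?_ ?_ ?_ ?_ ?_
  · intro u v x hu hv hx hd
    obtain ⟨n, hn, c1, c2, c3⟩ := hcol u v x hu hv hx hd
    have hMM : M *ᵥ (M⁻¹ *ᵥ n) = n := by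
      rw [Matrix.mulVec_mulVec, Matrix.mul_nonsing_inv _ hMdet, Matrix.one_mulVec]
    refine ⟨M⁻¹ *ᵥ n, prim_mulVec M⁻¹ (Matrix.isUnit_nonsing_inv_det _ hMdet) hn, ?_, ?_, ?_⟩
    · show (ρ u ᵥ* M) ⬝ᵥ (M⁻¹ *ᵥ n) = 0
      rw [← Matrix.dotProduct_mulVec, hMM, c1]
    · show (ρ v ᵥ* M) ⬝ᵥ (M⁻¹ *ᵥ n) = 0
      rw [← Matrix.dotProduct_mulVec, hMM, c2]
    · show (ρ x ᵥ* M) ⬝ᵥ (M⁻¹ *ᵥ n) = 0
      rw [← Matrix.dotProduct_mulVec, hMM, c3]
  · show Sim (ρ ![1, 0, 0] ᵥ* M) ![1, 0, 0]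
    rw [E0, ← ha0, ← g0, hrow 0, F0]
    exact ⟨(W 0)⁻¹, rfl⟩
  · show Sim (ρ ![0, 1, 0] ᵥ* M) ![0, 1, 0]
    rw [E1, ← ha1, ← g1, hrow 1, F1]
    exact ⟨(W 1)⁻¹, rfl⟩
  · show Sim (ρ ![0, 0, 1] ᵥ* M) ![0, 0, 1]
    rw [E2, ← ha2, ← g2, hrow 2, F2]
    exact ⟨(W 2)⁻¹, rfl⟩
  · show Sim (ρ ![1, 1, 1] ᵥ* M) ![1, 1, 1]
    rw [Eu, ← hau, hurow, Fu]
    exact ⟨1, by simp⟩

end Groth.Agent.S13149
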