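import Groth.Statements.S1315
import Groth.Agent.Lib.Helper2Thick
import Groth.Agent.S1307

set_option autoImplicit false
universe u
open FlatMor

namespace Groth.Agent.S1315

section Dev
open AlgebraicGeometry CategoryTheory Limits TopologicalSpace
open Groth.Agent.Lib.Helper2.Thick

theorem mono_of_thick {X X' Y Y' : Scheme.{u}} (iX : X ⟶ X') (iY : Y ⟶ Y') (f : X ⟶ Y) (f' : X' ⟶ Y')
    (hY : MoreMor.IsThickening iY) (hc : IsPullback iX f f' iY) [LocallyOfFiniteType f']
    [Mono f] : Mono f' := by
  have hX : MoreMor.IsThickening iX :=
    ⟨MorphismProperty.of_isPullback (P := @IsClosedImmersion) hc.flip hY.1,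
      MorphismProperty.of_isPullback (P := @Surjective) hc.flip hY.2⟩
  haveI : IsIso (pullback.diagonal f) := (pullback.isIso_diagonal_iff f).mpr inferInstance
  haveI : FormallyUnramified f := inferInstance
  haveI : UniversallyInjective f := inferInstance
  haveI : FormallyUnramified f' := fu_of_thick iX iY f f' hY hc
  haveI : UniversallyInjective f' := (Groth.Agent.S1307.result iX iY f f' hX hY hc.w).mp inferInstance
  haveI : Surjective (pullback.diagonal f') := (UniversallyInjective.iff_diagonal f').mp inferInstance
  haveI : IsOpenImmersion (pullback.diagonal f') := inferInstance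
  haveI : Epi (pullback.diagonal f').base :=
    (TopCat.epi_iff_surjective _).mpr (pullback.diagonal f').surjective
  haveI : IsIso (pullback.diagonal f') := IsOpenImmersion.isIso _
  exact (pullback.isIso_diagonal_iff f').mp inferInstance


end Dev

open AlgebraicGeometry CategoryTheory Limits in
/-- Let Y ⟶ Y' be a thickening, let X be the base change to Y of a scheme X' over Y', and assume both X
⟶ Y and X' ⟶ Y' are locally of finite type. Then X ⟶ Y is a monomorphism if and only if X' ⟶ Y' is. -/
theorem result {X X' Y Y' : Scheme.{u}} (iX : X ⟶ X') (iY : Y ⟶ Y') (f : X ⟶ Y) (f' : X' ⟶ Y')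
    (hY : MoreMor.IsThickening iY) (hc : IsPullback iX f f' iY) [LocallyOfFiniteType f] [LocallyOfFiniteType f'] :
    Mono f ↔ Mono f' := by
  constructor
  · intro h
    exact mono_of_thick iX iY f f' hY hc
  · intro h
    exact MorphismProperty.of_isPullback (P := MorphismProperty.monomorphisms Scheme) hc h

end Groth.Agent.S1315
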