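import Groth.Statements.S13150
import Mathlib
import Groth.Agent.Lib.Helper5W2Coeff

set_option autoImplicit false
universe u
open FrobAlg

namespace Groth.Agent.S13150

open Groth.Agent.Lib.Helper5.W2Lift Groth.Agent.Lib.Helper5.W2Coeff

theorem p_eq_zero_A (p : ℕ) (k : Type u) [Field k] [CharP k p] (A : Type u) [CommRing A]
    [Algebra k A] : ((p : ℕ) : A) = 0 := by
  rw [← map_natCast (algebraMap k A), CharP.cast_eq_zero, map_zero]

section Aux

variable {p : ℕ} [Fact p.Prime] {k : Type u} [Field k] [CharP k p] [PerfectRing k p]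
  {A B : Type u} [CommRing A] [Algebra k A] [CommRing B]
  {ι : FrobAlg.W2 p k →+* B} {π : B →+* A}

/-- A `p`-derivation over `π`: the data of a Frobenius lift `b ↦ b^p + p·d(b)`, equivalently of a
ring map `b ↦ (π b, d b)` to `W₂(A)`. -/
structure IsPDer (ι : FrobAlg.W2 p k →+* B) (π : B →+* A) (d : B → A) : Prop where
  one : d 1 = 0
  zero : d 0 = 0
  mul : ∀ a b, d (a * b) = d a * π b ^ p + π a ^ p * d b
  add : ∀ a b, d (a + b) = d a + d b - Q p (π a) (π b)
  iota : ∀ w, d (ι w) = algebraMap k A (w.coeff 1)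


omit [CharP k p] [PerfectRing k p] in
theorem pi_iota (hB : FrobAlg.IsLift p k A B ι π) (w : FrobAlg.W2 p k) :
    π (ι w) = algebraMap k A (w.coeff 0) := by
  have := RingHom.congr_fun hB.comm w
  rw [RingHom.comp_apply, RingHom.comp_apply, FrobAlg.res_apply] at this
  exact this

theorem iota_sigma (hB : FrobAlg.IsLift p k A B ι π) (w : FrobAlg.W2 p k) :
    ι (FrobAlg.sigma p k w) = ι w ^ p + mu hB (algebraMap k A (w.coeff 1)) := by
  rw [sigma_eq, map_add, map_pow, map_mul, map_natCast, ← mu_pi hB, pi_iota hB,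
    TruncatedWittVector.coeff_mk]
  rfl

/-- The Frobenius lift attached to a `p`-derivation. -/
noncomputable def PhiOf (hB : FrobAlg.IsLift p k A B ι π) (d : B → A) (hd : IsPDer ι π d) :
    B →+* B where
  toFun b := b ^ p + mu hB (d b)
  map_one' := by rw [hd.one, mu_zero, one_pow, add_zero]
  map_mul' a b := by
    have e1 : mu hB (d a * π b ^ p) = b ^ p * mu hB (d a) := by
      rw [mul_mu, map_pow, mul_comm]
    have e2 : mu hB (π a ^ p * d b) = a ^ p * mu hB (d b) := by
      rw [mul_mu, map_pow]
    rw [hd.mul, mu_add, e1, e2]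
    have := mu_mul_mu hB (d a) (d b)
    linear_combination -this
  map_zero' := by
    rw [hd.zero, mu_zero, zero_pow (Fact.out : p.Prime).ne_zero, add_zero]
  map_add' a b := by
    rw [hd.add, ← map_Q, mu_sub, mu_add, mu_pi, add_pow_eq]
    ring

theorem isFrobLift_PhiOf (hB : FrobAlg.IsLift p k A B ι π) (d : B → A) (hd : IsPDer ι π d) :
    FrobAlg.IsFrobLift p k A B ι π (PhiOf hB d hd) := by
  refine ⟨hB, ?_, ?_⟩
  · ext w
    change ι w ^ p + mu hB (d (ι w)) = ι (FrobAlg.sigma p k w)
    rw [hd.iota, iota_sigma hB]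
  · intro b
    change π (b ^ p + mu hB (d b)) = _
    rw [map_add, pi_mu, add_zero, map_pow]

/-- The map to `W₂(A)` attached to a `p`-derivation. -/
noncomputable def thetaOf (d : B → A) (hd : IsPDer ι π d) : B →+* FrobAlg.W2 p A where
  toFun b := TruncatedWittVector.mk p ![π b, d b]
  map_one' := by
    apply t_ext
    · rw [t_one_coeff_zero, TruncatedWittVector.coeff_mk]
      simp
    · rw [t_one_coeff_one, TruncatedWittVector.coeff_mk]
      simp [hd.one]
  map_mul' a b := by
    apply t_ext
    · rw [t_mul_coeff_zero]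
      simp [TruncatedWittVector.coeff_mk]
    · rw [t_mul_coeff_one_charP (p_eq_zero_A p k A)]
      simp [TruncatedWittVector.coeff_mk, hd.mul]
  map_zero' := by
    apply t_ext
    · rw [t_zero_coeff, TruncatedWittVector.coeff_mk]
      simp
    · rw [t_zero_coeff, TruncatedWittVector.coeff_mk]
      simp [hd.zero]
  map_add' a b := by
    apply t_ext
    · rw [t_add_coeff_zero]
      simp [TruncatedWittVector.coeff_mk]
    · rw [t_add_coeff_one]
      simp [TruncatedWittVector.coeff_mk, hd.add]

theorem exists_isPDer_of_frobLift (Φ : B →+* B) (hΦ : FrobAlg.IsFrobLift p k A B ι π Φ) :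
    ∃ d : B → A, IsPDer ι π d := by
  have hB : FrobAlg.IsLift p k A B ι π := hΦ.toIsLift
  have hker : ∀ b : B, π (Φ b - b ^ p) = 0 := by
    intro b
    rw [map_sub, map_pow, hΦ.red, sub_self]
  choose d hd using fun b => exists_mu_eq hB (hker b)
  refine ⟨d, ⟨?_, ?_, ?_, ?_, ?_⟩⟩
  · exact mu_eq_zero hB (by rw [hd, map_one, one_pow, sub_self])
  · exact mu_eq_zero hB (by
      rw [hd, map_zero, zero_pow (Fact.out : p.Prime).ne_zero, sub_self])
  · intro a b
    apply mu_injective hB
    have e1 : mu hB (d a * π b ^ p) = b ^ p * mu hB (d a) := by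
      rw [mul_mu, map_pow, mul_comm]
    have e2 : mu hB (π a ^ p * d b) = a ^ p * mu hB (d b) := by
      rw [mul_mu, map_pow]
    rw [mu_add, e1, e2, hd, hd, hd, map_mul]
    have := mu_mul_mu hB (d a) (d b)
    rw [hd, hd] at this
    linear_combination this
  · intro a b
    apply mu_injective hB
    rw [← map_Q, mu_sub, mu_add, hd, hd, hd, mu_pi, map_add, add_pow_eq a b]
    ring
  · intro w
    apply mu_injective hB
    rw [hd]
    have h1 : Φ (ι w) = ι (FrobAlg.sigma p k w) := RingHom.congr_fun hΦ.semi w
    rw [h1, iota_sigma hB]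
    ring

end Aux

/-- Let k be a perfect field of characteristic p and (B, ι, π) a flat lifting over W₂(k) of a Noetherian
k-algebra A. The Frobenius of A lifts to B (a σ₂-semilinear ring endomorphism of B reducing to the
p-th power map) if and only if there is a ring homomorphism θ : B → W₂(A) over A (the zeroth Witt
component of θ(b) is π(b)) with θ ∘ ι equal to the map W₂(k) → W₂(A) induced by k → A. (The
published statement is for a flat W₂(k)-extension of the structure sheaf of a scheme and says: the
push-out of that extension along the Frobenius O_X → F_*O_X is isomorphic, as an extension by F_*O_X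
over W₂(k), to W₂(O_X); by the universal property of the push-out this is the existence of a
morphism of extensions to W₂(O_X), which in the affine case taken here is the map θ.) -/
theorem result
    (p : ℕ) [Fact p.Prime] (k : Type u) [Field k] [CharP k p] [PerfectRing k p]
    (A B : Type u) [CommRing A] [Algebra k A] [IsNoetherianRing A] [CommRing B]
    (ι : FrobAlg.W2 p k →+* B) (π : B →+* A) (hB : FrobAlg.IsLift p k A B ι π) :
    (∃ Φ : B →+* B, FrobAlg.IsFrobLift p k A B ι π Φ) ↔
      ∃ θ : B →+* FrobAlg.W2 p A,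
        (FrobAlg.res p A).comp θ = π ∧ θ.comp ι = WittGrp.truncMap p 2 (algebraMap k A) := by
  constructor
  · rintro ⟨Φ, hΦ⟩
    obtain ⟨d, hd⟩ := exists_isPDer_of_frobLift Φ hΦ
    refine ⟨thetaOf d hd, ?_, ?_⟩
    · refine RingHom.ext fun b => ?_
      change FrobAlg.res p A (TruncatedWittVector.mk p ![π b, d b]) = π b
      rw [FrobAlg.res_apply, TruncatedWittVector.coeff_mk]
      rfl
    · refine RingHom.ext fun w => ?_
      change TruncatedWittVector.mk p ![π (ι w), d (ι w)] = _
      apply t_ext
      · rw [TruncatedWittVector.coeff_mk, WittGrp.coeff_truncMap, pi_iota hB]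
        rfl
      · rw [TruncatedWittVector.coeff_mk, WittGrp.coeff_truncMap, ← hd.iota]
        rfl
  · rintro ⟨θ, hθ1, hθ2⟩
    have h0 : ∀ b, (θ b).coeff 0 = π b := by
      intro b
      rw [← hθ1, RingHom.comp_apply, FrobAlg.res_apply]
    have hd : IsPDer ι π (fun b => (θ b).coeff 1) := by
      refine ⟨?_, ?_, ?_, ?_, ?_⟩
      · change (θ 1).coeff 1 = 0
        rw [map_one, t_one_coeff_one]
      · change (θ 0).coeff 1 = 0
        rw [map_zero, t_zero_coeff]
      · intro a b
        change (θ (a * b)).coeff 1 = (θ a).coeff 1 * π b ^ p + π a ^ p * (θ b).coeff 1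
        rw [map_mul, t_mul_coeff_one_charP (p_eq_zero_A p k A), h0, h0]
      · intro a b
        change (θ (a + b)).coeff 1 = (θ a).coeff 1 + (θ b).coeff 1 - _
        rw [map_add, t_add_coeff_one, h0, h0]
      · intro w
        change (θ (ι w)).coeff 1 = _
        have : θ (ι w) = WittGrp.truncMap p 2 (algebraMap k A) w := RingHom.congr_fun hθ2 w
        rw [this, WittGrp.coeff_truncMap]
    exact ⟨PhiOf hB _ hd, isFrobLift_PhiOf hB _ hd⟩

end Groth.Agent.S13150
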