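import Groth.Statements.S13151
import Mathlib
-- import your own Groth.Agent.* helpers here

set_option autoImplicit false
universe u
open CAlg

namespace Groth.Agent.S13151

theorem dvd_of_dvd_map {A B : Type u} [CommRing A] [CommRing B]
    [IsDomain A] [IsDomain B] [IsIntegrallyClosed A] [Algebra A B] [Algebra.IsIntegral A B]
    (hinj : Function.Injective (algebraMap A B)) (π a : A) (b : B)
    (hb : algebraMap A B a = algebraMap A B π * b) : ∃ a' : A, a = π * a' := by
  by_cases hπ : π = 0
  · subst hπ
    refine ⟨0, ?_⟩
    rw [map_zero, zero_mul] at hb
    rw [mul_zero]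
    exact hinj (by rw [hb, map_zero])
  let K := FractionRing A
  let L := FractionRing B
  let g : A →+* L := (algebraMap B L).comp (algebraMap A B)
  have hg : Function.Injective g :=
    (IsFractionRing.injective B L).comp hinj
  let ψ : K →+* L := IsFractionRing.lift hg
  have hψ : ∀ x, ψ (algebraMap A K x) = g x := fun x => IsFractionRing.lift_algebraMap hg x
  have hπK : algebraMap A K π ≠ 0 := by
    intro h
    exact hπ ((IsFractionRing.injective A K) (by rw [h, map_zero]))
  have hπL : g π ≠ 0 := by
    intro h
    exact hπ (hg (by rw [h, map_zero]))
  set x : K := algebraMap A K a / algebraMap A K π with hx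
  have hψx : ψ x = algebraMap B L b := by
    rw [hx, map_div₀, hψ, hψ]
    rw [div_eq_iff hπL]
    change algebraMap B L (algebraMap A B a) = algebraMap B L b * algebraMap B L (algebraMap A B π)
    rw [hb, map_mul, mul_comm]
  have hint : IsIntegral A x := by
    obtain ⟨P, hmonic, hP⟩ := Algebra.IsIntegral.isIntegral (R := A) b
    refine ⟨P, hmonic, ?_⟩
    apply ψ.injective
    rw [map_zero, Polynomial.hom_eval₂, hψx]
    have h2 : ψ.comp (algebraMap A K) = (algebraMap B L).comp (algebraMap A B) := by
      ext y
      exact hψ y
    rw [h2, ← Polynomial.hom_eval₂, hP, map_zero]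
  obtain ⟨a', ha'⟩ := IsIntegrallyClosed.algebraMap_eq_of_integral hint
  refine ⟨a', ?_⟩
  apply IsFractionRing.injective A K
  rw [map_mul, ha', hx, mul_div_cancel₀ _ hπK]

/-- Let A → B be an injective ring homomorphism of integral domains which is integral, with A integrally
closed, and let π be an element of A. Then the contraction to A of the ideal πB is πA, i.e. an
element of A which is a multiple of π in B is already a multiple of π in A; in particular if B/πB is
an integral domain then A/πA is an integral domain. (The published statement is for an integral
dominant morphism of integral schemes flat over a discrete valuation ring, with normal target and π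
a uniformizer; flatness and the valuation ring play no role, so π is an arbitrary element here.) -/
theorem result {A B : Type u} [CommRing A] [CommRing B]
    [IsDomain A] [IsDomain B] [IsIntegrallyClosed A] [Algebra A B] [Algebra.IsIntegral A B]
    (hinj : Function.Injective (algebraMap A B)) (π : A) :
    (Ideal.span {algebraMap A B π}).comap (algebraMap A B) = Ideal.span {π} ∧
      (IsDomain (B ⧸ Ideal.span {algebraMap A B π}) → IsDomain (A ⧸ Ideal.span {π})) := by
  have key : (Ideal.span {algebraMap A B π}).comap (algebraMap A B) = Ideal.span {π} := by
    apply le_antisymm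
    · intro a ha
      rw [Ideal.mem_comap, Ideal.mem_span_singleton] at ha
      obtain ⟨b, hb⟩ := ha
      rw [Ideal.mem_span_singleton]
      obtain ⟨a', ha'⟩ := dvd_of_dvd_map hinj π a b hb
      exact ⟨a', ha'⟩
    · rw [Ideal.span_le, Set.singleton_subset_iff]
      exact Ideal.subset_span rfl
  refine ⟨key, fun hdom => ?_⟩
  have hinj' : Function.Injective
      (Ideal.quotientMap (Ideal.span {algebraMap A B π}) (algebraMap A B) (le_of_eq key.symm)) :=
    Ideal.quotientMap_injective' (le_of_eq key)
  exact hinj'.isDomain _

end Groth.Agent.S13151
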