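import Groth.Statements.S13153
import Mathlib
import Groth.Agent.Lib.Helper7CharZeroD

set_option autoImplicit false
universe u
open CAlg

namespace Groth.Agent.S13153

/-- Let R be a discrete valuation ring whose fraction field K has characteristic zero, A an integral
domain which is a faithfully flat R-algebra, with fraction field L, such that K is algebraically
closed in L (every element of L algebraic over K is in the image of K). If f ∈ A has vanishing
differential, df = 0 in Ω_{A/R}, then f is the image of an element of R. (The published statement is
the sheaf form: for a faithfully flat morphism X → Spec R with geometrically integral generic fibre,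
the kernel of d : O_X → Ω¹_{X/R} is the inverse image of O_{Spec R}; for integral X, geometric
integrality of the generic fibre in characteristic zero amounts to K being algebraically closed in
the function field, which is the form used here, and this row is the case of global sections over an
affine X = Spec A.) -/
theorem result (R : Type u) [CommRing R] [IsDomain R]
    [IsDiscreteValuationRing R] [CharZero R] (K : Type u) [Field K] [Algebra R K] [IsFractionRing R K]
    (A : Type u) [CommRing A] [IsDomain A] [Algebra R A] [Module.FaithfullyFlat R A]
    (L : Type u) [Field L] [Algebra A L] [IsFractionRing A L] [Algebra R L] [Algebra K L]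
    [IsScalarTower R A L] [IsScalarTower R K L]
    (hac : ∀ x : L, IsAlgebraic K x → x ∈ (algebraMap K L).range)
    (f : A) (hf : KaehlerDifferential.D R A f = 0) : f ∈ (algebraMap R A).range := by
  classical
  haveI : SMulCommClass K A L := ⟨fun k a l => by
    simp only [Algebra.smul_def]; ring⟩
  have hD : KaehlerDifferential.D K L (algebraMap A L f) = 0 := by
    have := congrArg (KaehlerDifferential.map R K A L) hf
    rw [KaehlerDifferential.map_D, map_zero] at this
    exact this
  haveI : CharZero K := charZero_of_injective_algebraMap (IsFractionRing.injective R K)
  have halg := Groth.Agent.Lib.Helper7.CharZeroD.isAlgebraic_of_D_eq_zero hD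
  obtain ⟨c, hc⟩ := hac _ halg
  obtain ⟨a, b, hb, rfl⟩ := IsFractionRing.div_surjective (A := R) c
  have hb0 : b ≠ 0 := nonZeroDivisors.ne_zero hb
  have hinjRA : Function.Injective (algebraMap R A) := FaithfulSMul.algebraMap_injective R A
  have hinjAL : Function.Injective (algebraMap A L) := IsFractionRing.injective A L
  have hbK : algebraMap R K b ≠ 0 := fun h =>
    hb0 ((IsFractionRing.injective R K) (h.trans (map_zero _).symm))
  have h1 : algebraMap R A a = algebraMap R A b * f := by
    apply hinjAL
    rw [map_mul, ← hc, ← IsScalarTower.algebraMap_apply R A L, ← IsScalarTower.algebraMap_apply R A L,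
      IsScalarTower.algebraMap_apply R K L a, IsScalarTower.algebraMap_apply R K L b, ← map_mul,
      mul_div_cancel₀ _ hbK]
  have h2 : a ∈ Ideal.comap (algebraMap R A) (Ideal.map (algebraMap R A) (Ideal.span {b})) := by
    rw [Ideal.mem_comap, h1]
    exact Ideal.mul_mem_right _ _ (Ideal.mem_map_of_mem _ (Ideal.mem_span_singleton_self b))
  rw [Ideal.comap_map_eq_self_of_faithfullyFlat] at h2
  obtain ⟨r, rfl⟩ := Ideal.mem_span_singleton'.1 h2
  refine ⟨r, ?_⟩
  have hbA : algebraMap R A b ≠ 0 := fun h => hb0 (hinjRA (h.trans (map_zero _).symm))
  rw [map_mul, mul_comm] at h1
  exact mul_left_cancel₀ hbA h1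


end Groth.Agent.S13153
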