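import Groth.Statements.S13154
import Mathlib

set_option autoImplicit false
universe u
open scoped TensorProduct
open CAlg

namespace Groth.Agent.S13154

section
variable {R : Type u} [CommRing R] [IsDomain R] [IsDiscreteValuationRing R]
  {K : Type u} [Field K] [Algebra R K] [IsFractionRing R K]
  {A : Type u} [CommRing A] [Algebra R A] [Module.FaithfullyFlat R A]
  {B : Type u} [CommRing B] [Algebra R B] [Module.Flat R B]

/-- clearing denominators in `K ⊗ B` -/
lemma clear_denom (x : K ⊗[R] B) : ∃ s : R, s ≠ 0 ∧ ∃ b : B, s • x = (1 : K) ⊗ₜ[R] b := by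
  induction x using TensorProduct.induction_on with
  | zero => exact ⟨1, one_ne_zero, 0, by simp⟩
  | tmul k b =>
    obtain ⟨r, s, hs, rfl⟩ := IsFractionRing.div_surjective (A := R) k
    have hs0 : s ≠ 0 := nonZeroDivisors.ne_zero hs
    have hsK : algebraMap R K s ≠ 0 := by
      rw [Ne, map_eq_zero_iff _ (IsFractionRing.injective R K)]; exact hs0
    refine ⟨s, hs0, r • b, ?_⟩
    rw [TensorProduct.smul_tmul', Algebra.smul_def, mul_div_cancel₀ _ hsK,
      ← mul_one (algebraMap R K r), ← Algebra.smul_def, TensorProduct.smul_tmul]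
  | add x y hx hy =>
    obtain ⟨s, hs, b, hb⟩ := hx
    obtain ⟨t, ht, c, hc⟩ := hy
    refine ⟨s * t, mul_ne_zero hs ht, t • b + s • c, ?_⟩
    rw [smul_add, mul_smul, mul_smul, smul_comm s t x, hb, hc,
      TensorProduct.tmul_add, TensorProduct.tmul_smul, TensorProduct.tmul_smul]


variable (R K A B) in
/-- the map `K ⊗ B → (K ⊗ A) ⊗ B` -/
noncomputable def iL : K ⊗[R] B →ₐ[R] (K ⊗[R] A) ⊗[R] B :=
  Algebra.TensorProduct.map (Algebra.TensorProduct.includeLeft : K →ₐ[R] K ⊗[R] A) (AlgHom.id R B)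

variable (R K A B) in
/-- the map `A ⊗ B → (K ⊗ A) ⊗ B` -/
noncomputable def iR : A ⊗[R] B →ₐ[R] (K ⊗[R] A) ⊗[R] B :=
  Algebra.TensorProduct.map (Algebra.TensorProduct.includeRight : A →ₐ[R] K ⊗[R] A) (AlgHom.id R B)

lemma iL_one_tmul (b : B) : iL R K A B ((1 : K) ⊗ₜ[R] b) = (1 : K ⊗[R] A) ⊗ₜ[R] b := by
  simp [iL, Algebra.TensorProduct.one_def]

lemma iR_one_tmul (b : B) : iR R K A B ((1 : A) ⊗ₜ[R] b) = (1 : K ⊗[R] A) ⊗ₜ[R] b := by
  simp [iR, Algebra.TensorProduct.one_def]

lemma iR_injective : Function.Injective (iR R K A B) := by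
  have h1 : Function.Injective (Algebra.TensorProduct.includeRight : A →ₐ[R] K ⊗[R] A) :=
    Algebra.TensorProduct.includeRight_injective (IsFractionRing.injective R K)
  have h2 := Module.Flat.rTensor_preserves_injective_linearMap (M := B)
    (Algebra.TensorProduct.includeRight : A →ₐ[R] K ⊗[R] A).toLinearMap h1
  have h3 : (iR R K A B).toLinearMap =
      LinearMap.rTensor B (Algebra.TensorProduct.includeRight : A →ₐ[R] K ⊗[R] A).toLinearMap := by
    apply TensorProduct.ext'
    intro x y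
    simp [iR]
  intro x y hxy
  apply h2
  have := congrArg (fun f => f x) h3
  have h4 : ∀ z, (iR R K A B) z = LinearMap.rTensor B
      (Algebra.TensorProduct.includeRight : A →ₐ[R] K ⊗[R] A).toLinearMap z := fun z =>
    LinearMap.congr_fun h3 z
  rw [← h4, ← h4, hxy]

lemma kill (ϖ : R) (z : A ⊗[R] (B ⧸ LinearMap.range (LinearMap.lsmul R B ϖ))) : ϖ • z = 0 := by
  induction z using TensorProduct.induction_on with
  | zero => simp
  | tmul a m =>
    obtain ⟨m', rfl⟩ := Submodule.Quotient.mk_surjective _ m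
    rw [← TensorProduct.tmul_smul, ← Submodule.Quotient.mk_smul]
    have : Submodule.Quotient.mk (p := LinearMap.range (LinearMap.lsmul R B ϖ)) (ϖ • m') = 0 := by
      rw [Submodule.Quotient.mk_eq_zero]
      exact ⟨m', rfl⟩
    rw [this, TensorProduct.tmul_zero]
  | add x y hx hy => rw [smul_add, hx, hy, add_zero]

lemma key (ϖ : R) (hϖ : Irreducible ϖ) : ∀ (n : ℕ) (x : K ⊗[R] B) (y : A ⊗[R] B) (b : B),
    iL R K A B x = iR R K A B y → ϖ ^ n • x = (1 : K) ⊗ₜ[R] b → ∃ b' : B, x = (1 : K) ⊗ₜ[R] b' := by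
  intro n
  induction n with
  | zero =>
    intro x y b _ hb
    rw [pow_zero, one_smul] at hb
    exact ⟨b, hb⟩
  | succ n ih =>
    intro x y b hxy hb
    have e1 : iR R K A B (ϖ ^ (n + 1) • y) = iR R K A B ((1 : A) ⊗ₜ[R] b) := by
      rw [map_smul, ← hxy, ← map_smul, hb, iL_one_tmul, iR_one_tmul]
    have e2 : ϖ ^ (n + 1) • y = (1 : A) ⊗ₜ[R] b := iR_injective e1
    have e3 : (LinearMap.lTensor A (LinearMap.range (LinearMap.lsmul R B ϖ)).mkQ)
        ((1 : A) ⊗ₜ[R] b) = 0 := by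
      rw [← e2, pow_succ', mul_smul, map_smul]
      exact kill ϖ _
    rw [LinearMap.lTensor_tmul] at e3
    have e4 : (LinearMap.range (LinearMap.lsmul R B ϖ)).mkQ b = 0 := by
      apply Module.FaithfullyFlat.tensorProduct_mk_injective (A := R) (B := A)
      rw [map_zero]
      exact e3
    rw [Submodule.mkQ_apply, Submodule.Quotient.mk_eq_zero] at e4
    obtain ⟨b', hb'⟩ := e4
    have hb'' : ϖ • b' = b := hb'
    have hϖK : algebraMap R K ϖ ≠ 0 := by
      rw [Ne, map_eq_zero_iff _ (IsFractionRing.injective R K)]; exact hϖ.ne_zero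
    have e5 : ϖ ^ n • x = (1 : K) ⊗ₜ[R] b' := by
      have h5 : ϖ • (ϖ ^ n • x - (1 : K) ⊗ₜ[R] b') = 0 := by
        rw [smul_sub, ← mul_smul, ← pow_succ', hb, ← TensorProduct.tmul_smul, hb'', sub_self]
      rw [← algebraMap_smul K ϖ, smul_eq_zero] at h5
      rcases h5 with h5 | h5
      · exact absurd h5 hϖK
      · exact sub_eq_zero.mp h5
    exact ih x y b' hxy e5

lemma descend_elt (x : K ⊗[R] B) (y : A ⊗[R] B) (hxy : iL R K A B x = iR R K A B y) :
    ∃ b : B, x = (1 : K) ⊗ₜ[R] b ∧ y = (1 : A) ⊗ₜ[R] b := by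
  obtain ⟨s, hs, b, hb⟩ := clear_denom x
  obtain ⟨ϖ, hϖ⟩ := IsDiscreteValuationRing.exists_irreducible R
  obtain ⟨n, u, rfl⟩ := IsDiscreteValuationRing.eq_unit_mul_pow_irreducible hs hϖ
  have h1 : ϖ ^ n • x = (1 : K) ⊗ₜ[R] ((↑u⁻¹ : R) • b) := by
    rw [TensorProduct.tmul_smul, ← hb, ← mul_smul, ← mul_assoc, Units.inv_mul, one_mul]
  obtain ⟨b', hb'⟩ := key (A := A) ϖ hϖ n x y _ hxy h1
  refine ⟨b', hb', ?_⟩
  apply iR_injective (R := R) (K := K)
  rw [← hxy, hb', iL_one_tmul, iR_one_tmul]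

end


/-- Let R be a discrete valuation ring with fraction field K, A a faithfully flat R-algebra (an affine
faithfully flat base change S' → S = Spec R) and B₁, B₂ flat R-algebras (two affine S-schemes X₁ =
Spec B₁, X₂ = Spec B₂, flat over S). Suppose given a K-algebra homomorphism φ_K : K ⊗ B₂ → K ⊗ B₁ (a
morphism of the generic fibres X₁,K → X₂,K) and an A-algebra homomorphism φ_A : A ⊗ B₂ → A ⊗ B₁ (a
morphism X₁ ×_S S' → X₂ ×_S S' over S') which coincide after base change to K ⊗ A, in the sense that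
for every b ∈ B₂ the images of φ_K(1 ⊗ b) and φ_A(1 ⊗ b) in (K ⊗ A) ⊗ B₁ agree. Then there is
exactly one R-algebra homomorphism φ : B₂ → B₁ (a morphism X₁ → X₂) whose base changes to K and to A
are φ_K and φ_A. (The published statement assumes only X₂ flat over S; flatness of X₁ is also
needed: with B₂ = R[t], B₁ = R[e]/(e², πe) for a uniformizer π and A = R[x], the maps t ↦ 0 over K
and t ↦ e x over A agree over K ⊗ A = K[x] but come from no map over R.) -/
theorem result (R : Type u) [CommRing R] [IsDomain R]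
    [IsDiscreteValuationRing R] (K : Type u) [Field K] [Algebra R K] [IsFractionRing R K]
    (A : Type u) [CommRing A] [Algebra R A] [Module.FaithfullyFlat R A]
    (B₁ B₂ : Type u) [CommRing B₁] [CommRing B₂] [Algebra R B₁] [Algebra R B₂]
    [Module.Flat R B₁] [Module.Flat R B₂]
    (φK : K ⊗[R] B₂ →ₐ[K] K ⊗[R] B₁) (φA : A ⊗[R] B₂ →ₐ[A] A ⊗[R] B₁)
    (hcomp : ∀ b : B₂,
      Algebra.TensorProduct.map (Algebra.TensorProduct.includeLeft : K →ₐ[R] K ⊗[R] A) (AlgHom.id R B₁)
          (φK (1 ⊗ₜ b)) =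
        Algebra.TensorProduct.map (Algebra.TensorProduct.includeRight : A →ₐ[R] K ⊗[R] A) (AlgHom.id R B₁)
          (φA (1 ⊗ₜ b))) :
    ∃! φ : B₂ →ₐ[R] B₁, (∀ b : B₂, φK (1 ⊗ₜ b) = 1 ⊗ₜ φ b) ∧ (∀ b : B₂, φA (1 ⊗ₜ b) = 1 ⊗ₜ φ b) := by
  have hex : ∀ b₂ : B₂, ∃ b₁ : B₁, φK (1 ⊗ₜ b₂) = (1 : K) ⊗ₜ[R] b₁ ∧
      φA (1 ⊗ₜ b₂) = (1 : A) ⊗ₜ[R] b₁ := fun b₂ => descend_elt _ _ (hcomp b₂)
  choose f hfK hfA using hex
  have inj : ∀ a b : B₁, (1 : K) ⊗ₜ[R] a = (1 : K) ⊗ₜ[R] b → a = b := by
    intro a b hab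
    have := Algebra.TensorProduct.includeRight_injective (R := R) (A := K) (B := B₁)
      (IsFractionRing.injective R K)
    apply this
    simpa using hab
  have hsm : ∀ (r : R) (z : K ⊗[R] B₂), φK (r • z) = r • φK z := by
    intro r z
    rw [← algebraMap_smul K r z, map_smul, algebraMap_smul]
  let φ : B₂ →ₐ[R] B₁ :=
    { toFun := f
      map_one' := by
        apply inj
        rw [← hfK, ← Algebra.TensorProduct.one_def, map_one, Algebra.TensorProduct.one_def]
      map_mul' := by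
        intro a b
        apply inj
        rw [← hfK, ← mul_one (1 : K), ← Algebra.TensorProduct.tmul_mul_tmul, map_mul, hfK, hfK,
          Algebra.TensorProduct.tmul_mul_tmul]
      map_zero' := by
        apply inj
        rw [← hfK, TensorProduct.tmul_zero, map_zero, TensorProduct.tmul_zero]
      map_add' := by
        intro a b
        apply inj
        rw [← hfK, TensorProduct.tmul_add, map_add, hfK, hfK, TensorProduct.tmul_add]
      commutes' := by
        intro r
        apply inj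
        rw [← hfK, Algebra.algebraMap_eq_smul_one, Algebra.algebraMap_eq_smul_one,
          TensorProduct.tmul_smul, hsm, ← Algebra.TensorProduct.one_def, map_one,
          TensorProduct.tmul_smul, Algebra.TensorProduct.one_def] }
  refine ⟨φ, ⟨hfK, hfA⟩, ?_⟩
  rintro ψ ⟨hψK, -⟩
  ext b
  apply inj
  rw [← hψK b]
  exact hfK b

end Groth.Agent.S13154
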