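import Groth.Statements.S13157
import Mathlib
-- import your own Groth.Agent.* helpers here

set_option autoImplicit false
universe u
open scoped Polynomial
open CAlg

namespace Groth.Agent.S13157

open Polynomial in
theorem ode_iff {A : Type u} [CommRing A] (μ : A) (F : A[X]) :
    F * Polynomial.C (F.coeff 1) = Polynomial.derivative F * (1 + Polynomial.C μ * Polynomial.X) ↔
      ∀ r : ℕ, F.coeff r * F.coeff 1 =
        F.coeff (r + 1) * ((r : A) + 1) + μ * (F.coeff r * (r : A)) := by
  rw [Polynomial.ext_iff]
  refine forall_congr' fun r => ?_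
  rw [Polynomial.coeff_mul_C, mul_add, mul_one, Polynomial.coeff_add, ← mul_assoc]
  cases r with
  | zero =>
    rw [Polynomial.coeff_mul_X_zero, Polynomial.coeff_derivative]
    simp
  | succ n =>
    rw [Polynomial.coeff_mul_X, Polynomial.coeff_mul_C, Polynomial.coeff_derivative,
      Polynomial.coeff_derivative]
    push_cast
    constructor <;> intro h <;> linear_combination h

theorem isUnit_factorial {A : Type u} [CommRing A] (p : ℕ)
    (hu : IsUnit ((Nat.factorial (p - 1) : ℕ) : A)) (r : ℕ) (hr : r < p) :
    IsUnit ((r.factorial : ℕ) : A) := by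
  have hdvd : r.factorial ∣ (p - 1).factorial := Nat.factorial_dvd_factorial (by omega)
  exact isUnit_of_dvd_unit (Nat.cast_dvd_cast (α := A) hdvd) hu

/-- (i) ⇔ (ii): let p be a prime number, A a commutative ring in which (p−1)! is invertible, μ ∈ A, and
F ∈ A[X] a polynomial of degree at most p − 1 with constant term a_0 = 1 and coefficients a_1, a_2,
…. Then the relations a_{r−1}·a_1 = (r − 1)μ·a_{r−1} + r·a_r for 1 ≤ r ≤ p (with a_p = 0), written
here as the single identity a_1·F = F′·(1 + μX), hold if and only if r!·a_r = ∏_{k=0}^{r−1} (a_1 −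
kμ) for every 1 ≤ r ≤ p − 1 and ∏_{k=0}^{p−1} (a_1 − kμ) = 0. (The published statement lists the
relations only for 1 ≤ r ≤ p − 1, while its proof uses and derives the relation for r = p as well,
which is needed for the vanishing of the last product; it is included here. The published setting is
the quotient of a discrete valuation ring of residue characteristic p by a nonzero non-unit; only
the invertibility of 1, …, p − 1 is used.) -/
theorem result (A : Type u) [CommRing A] (p : ℕ) [Fact p.Prime]
    (hu : IsUnit ((Nat.factorial (p - 1) : ℕ) : A)) (μ : A) (F : A[X]) (hF : F.natDegree < p)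
    (h0 : F.coeff 0 = 1) :
    F * Polynomial.C (F.coeff 1) = Polynomial.derivative F * (1 + Polynomial.C μ * Polynomial.X) ↔
      ((∀ r : ℕ, 1 ≤ r → r < p →
          (r.factorial : A) * F.coeff r = ∏ k ∈ Finset.range r, (F.coeff 1 - (k : A) * μ)) ∧
        ∏ k ∈ Finset.range p, (F.coeff 1 - (k : A) * μ) = 0) := by
  have hp := (Fact.out : p.Prime)
  have hp2 : 2 ≤ p := hp.two_le
  have hzero : ∀ r, p ≤ r → F.coeff r = 0 := fun r hr =>
    Polynomial.coeff_eq_zero_of_natDegree_lt (lt_of_lt_of_le hF hr)
  rw [ode_iff]
  constructor
  · intro hE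
    have hE' : ∀ r : ℕ, F.coeff (r + 1) * ((r : A) + 1) = (F.coeff 1 - (r : A) * μ) * F.coeff r := by
      intro r
      linear_combination -(hE r)
    have hform : ∀ r : ℕ, r < p →
        (r.factorial : A) * F.coeff r = ∏ k ∈ Finset.range r, (F.coeff 1 - (k : A) * μ) := by
      intro r
      induction r with
      | zero => intro _; simp [h0]
      | succ n ih =>
        intro hn
        have ih' := ih (by omega)
        rw [Finset.prod_range_succ, ← ih', Nat.factorial_succ]
        push_cast
        linear_combination (n.factorial : A) * hE' n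
    refine ⟨fun r _ hr => hform r hr, ?_⟩
    obtain ⟨q, rfl⟩ : ∃ q, p = q + 1 := ⟨p - 1, by omega⟩
    rw [Finset.prod_range_succ, ← hform q (by omega)]
    have := hE' q
    rw [hzero (q + 1) le_rfl, zero_mul] at this
    linear_combination (-(q.factorial : A)) * this
  · rintro ⟨hform, hprod⟩ r
    have hform' : ∀ r : ℕ, r < p →
        (r.factorial : A) * F.coeff r = ∏ k ∈ Finset.range r, (F.coeff 1 - (k : A) * μ) := by
      intro r hr
      rcases Nat.eq_zero_or_pos r with rfl | hpos
      · simp [h0]
      · exact hform r hpos hr
    suffices h : F.coeff (r + 1) * ((r : A) + 1) = (F.coeff 1 - (r : A) * μ) * F.coeff r by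
      linear_combination -h
    rcases lt_trichotomy (r + 1) p with hlt | heq | hgt
    · have hunit := isUnit_factorial p hu r (by omega)
      apply hunit.mul_left_cancel
      have h1 := hform' (r + 1) hlt
      have h2 := hform' r (by omega)
      rw [Finset.prod_range_succ, ← h2, Nat.factorial_succ] at h1
      push_cast at h1
      linear_combination h1
    · have hunit := isUnit_factorial p hu r (by omega)
      apply hunit.mul_left_cancel
      have h2 := hform' r (by omega)
      rw [hzero (r + 1) (by omega), zero_mul, mul_zero]
      have h3 : ∏ k ∈ Finset.range (r + 1), (F.coeff 1 - (k : A) * μ) = 0 := by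
        rw [heq]; exact hprod
      rw [Finset.prod_range_succ, ← h2] at h3
      linear_combination -h3
    · rw [hzero (r + 1) (by omega), hzero r (by omega)]
      ring

end Groth.Agent.S13157
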