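import Groth.Statements.S13156
import Mathlib
import Groth.Agent.S13157

set_option autoImplicit false
universe u
open scoped Polynomial
open CAlg

namespace Groth.Agent.S13156

open Polynomial

section uniq
variable {B : Type u} [CommRing B]

/-- coefficient form of `P * C c = P' * (1 + C μ * X)` -/
lemma ode_coeff (μ c : B) (P : B[X])
    (h : P * C c = derivative P * (1 + C μ * X)) (r : ℕ) :
    P.coeff r * c = P.coeff (r + 1) * ((r : B) + 1) + μ * (P.coeff r * (r : B)) := by
  have : (P * C c).coeff r = (derivative P * (1 + C μ * X)).coeff r := by rw [h]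
  rw [Polynomial.coeff_mul_C, mul_add, mul_one, Polynomial.coeff_add, ← mul_assoc] at this
  cases r with
  | zero =>
    rw [Polynomial.coeff_mul_X_zero, Polynomial.coeff_derivative] at this
    simpa using this
  | succ n =>
    rw [Polynomial.coeff_mul_X, Polynomial.coeff_mul_C, Polynomial.coeff_derivative,
      Polynomial.coeff_derivative] at this
    push_cast at this ⊢
    linear_combination this

lemma uniq (p : ℕ) (hunit : ∀ r : ℕ, r + 1 < p → IsUnit ((r : B) + 1)) (μ c : B) (P : B[X])
    (hdeg : P.natDegree < p)
    (h : P * C c = derivative P * (1 + C μ * X)) (h0 : P.coeff 0 = 0) : P = 0 := by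
  ext r
  rw [Polynomial.coeff_zero]
  induction r with
  | zero => exact h0
  | succ r ih =>
    by_cases hr : r + 1 < p
    · have h1 := ode_coeff μ c P h r
      rw [ih] at h1
      have h2 : P.coeff (r + 1) * ((r : B) + 1) = 0 := by
        linear_combination -h1
      exact (hunit r hr).mul_left_eq_zero.1 h2
    · exact Polynomial.coeff_eq_zero_of_natDegree_lt (lt_of_lt_of_le hdeg (not_lt.1 hr))

end uniq


/-- Let p be a prime number, A a commutative ring in which (p−1)! is invertible, μ an element of A, and
F ∈ A[X] a polynomial of degree at most p − 1 with coefficients a_0, a_1, …. Then the identity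
F(S)·F(T) − a_0² = F(S + T + μST) − a_0 holds in the polynomial ring A[S, T] if and only if a_1·F(S)
= F′(S)·(1 + μS) holds in A[S], F′ the formal derivative. (The published statement is over the
quotient of a discrete valuation ring of residue characteristic p by a nonzero element of its
maximal ideal; only the invertibility of 1, …, p − 1 is used, so an arbitrary such ring A is allowed
here.) -/
theorem result (A : Type u) [CommRing A] (p : ℕ) [Fact p.Prime]
    (hu : IsUnit ((Nat.factorial (p - 1) : ℕ) : A)) (μ : A) (F : A[X]) (hF : F.natDegree < p) :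
    (Polynomial.aeval (MvPolynomial.X 0 : MvPolynomial (Fin 2) A) F *
          Polynomial.aeval (MvPolynomial.X 1 : MvPolynomial (Fin 2) A) F - MvPolynomial.C (F.coeff 0 ^ 2) =
        Polynomial.aeval (MvPolynomial.X 0 + MvPolynomial.X 1 +
            MvPolynomial.C μ * MvPolynomial.X 0 * MvPolynomial.X 1 : MvPolynomial (Fin 2) A) F -
          MvPolynomial.C (F.coeff 0)) ↔
      F * Polynomial.C (F.coeff 1) = Polynomial.derivative F * (1 + Polynomial.C μ * Polynomial.X) := by
  have hp := (Fact.out : p.Prime)
  have hzero : ∀ r, p ≤ r → F.coeff r = 0 := fun r hr =>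
    Polynomial.coeff_eq_zero_of_natDegree_lt (lt_of_lt_of_le hF hr)
  -- units
  have hunitA : ∀ r : ℕ, r + 1 < p → IsUnit ((r : A) + 1) := by
    intro r hr
    have h1 := Groth.Agent.S13157.isUnit_factorial p hu (r + 1) hr
    have hdvd : (r + 1) ∣ (r + 1).factorial := Nat.dvd_factorial (Nat.succ_pos r) le_rfl
    have := isUnit_of_dvd_unit (Nat.cast_dvd_cast (α := A) hdvd) h1
    simpa using this
  set Bt := MvPolynomial (Fin 2) A with hBt
  constructor
  · intro hid
    -- differentiate w.r.t. X 1
    have h1 := congrArg (MvPolynomial.pderiv (1 : Fin 2)) hid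
    simp only [map_sub, Derivation.leibniz, Derivation.map_aeval, MvPolynomial.pderiv_C,
      MvPolynomial.pderiv_X, map_add, smul_eq_mul] at h1
    -- evaluate X0 ↦ X, X1 ↦ 0
    let ev : MvPolynomial (Fin 2) A →ₐ[A] A[X] := MvPolynomial.aeval ![Polynomial.X, 0]
    have h2 := congrArg ev h1
    have hev0 : ev (MvPolynomial.X 0) = Polynomial.X := by simp [ev]
    have hev1 : ev (MvPolynomial.X 1) = 0 := by simp [ev]
    have hevC : ∀ a : A, ev (MvPolynomial.C a) = Polynomial.C a := by
      intro a; simp [ev]
    simp only [map_sub, map_add, map_mul, ← Polynomial.aeval_algHom_apply, hev0, hev1, hevC,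
      Pi.single_apply] at h2
    simp only [Polynomial.aeval_X_left_apply] at h2
    have h3 : Polynomial.aeval (0 : A[X]) (derivative F) = Polynomial.C (F.coeff 1) := by
      rw [Polynomial.aeval_def, Polynomial.eval₂_at_zero, Polynomial.coeff_derivative]
      simp
    simp at h2
    rw [h3] at h2
    rw [h2]
  · intro hode
    have hrec := (Groth.Agent.S13157.ode_iff μ F).1 hode
    -- (a0 - 1) * a_{r+1} = 0
    have hkill : ∀ r : ℕ, (F.coeff 0 - 1) * F.coeff (r + 1) = 0 := by
      intro r
      induction r with
      | zero =>
        have := hrec 0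
        simp only [Nat.cast_zero, zero_add, mul_zero, add_zero, mul_one] at this
        linear_combination this
      | succ r ih =>
        by_cases hr : r + 1 + 1 < p
        · have h1 := hrec (r + 1)
          have hu1 := hunitA (r + 1) hr
          have h2 : ((F.coeff 0 - 1) * F.coeff (r + 1 + 1)) * (((r + 1 : ℕ) : A) + 1) = 0 := by
            linear_combination (-(F.coeff 0 - 1)) * h1 + (F.coeff 1 - μ * ((r + 1 : ℕ) : A)) * ih
          exact hu1.mul_left_eq_zero.1 h2
        · rw [hzero (r + 1 + 1) (not_lt.1 hr), mul_zero]
    have hQ : C (F.coeff 0 - 1) * (F - C (F.coeff 0)) = 0 := by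
      ext r
      rw [Polynomial.coeff_C_mul, Polynomial.coeff_sub, Polynomial.coeff_zero]
      cases r with
      | zero => rw [Polynomial.coeff_C_zero, sub_self, mul_zero]
      | succ r => rw [Polynomial.coeff_C_succ, sub_zero, hkill r]
    -- setup over B
    let B := MvPolynomial (Fin 2) A
    let s : B := MvPolynomial.X 1
    let FB : B[X] := F.map (algebraMap A B)
    let μB : B := algebraMap A B μ
    let c : B := algebraMap A B (F.coeff 1)
    let L : B[X] := C (1 + μB * s) * X + C s
    let G : B[X] := FB.comp L
    let Fs : B := Polynomial.aeval s F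
    let k0 : B := algebraMap A B (F.coeff 0 ^ 2 - F.coeff 0)
    let P : B[X] := G - C Fs * FB + C k0
    have hodeB : FB * C c = derivative FB * (1 + C μB * X) := by
      have := congrArg (Polynomial.map (algebraMap A B)) hode
      show (F.map (algebraMap A B)) * C (algebraMap A B (F.coeff 1))
        = derivative (F.map (algebraMap A B)) * (1 + C (algebraMap A B μ) * X)
      rw [Polynomial.derivative_map]
      simpa only [Polynomial.map_mul, Polynomial.map_C,
        Polynomial.map_add, Polynomial.map_one, Polynomial.map_X] using this
    have e1 : G * C c = (derivative FB).comp L * (1 + C μB * L) := by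
      have := congrArg (fun Q : B[X] => Q.comp L) hodeB
      simpa only [Polynomial.mul_comp, Polynomial.C_comp, Polynomial.add_comp,
        Polynomial.one_comp, Polynomial.X_comp] using this
    have e2 : (1 : B[X]) + C μB * L = C (1 + μB * s) * (1 + C μB * X) := by
      simp only [L, map_add, map_mul, map_one]
      ring
    have e3 : derivative P = (derivative FB).comp L * C (1 + μB * s) - C Fs * derivative FB := by
      have hL' : derivative L = C (1 + μB * s) := by
        show derivative (C (1 + μB * s) * X + C s) = _
        rw [Polynomial.derivative_add, Polynomial.derivative_C, add_zero,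
          Polynomial.derivative_C_mul, Polynomial.derivative_X, mul_one]
      show derivative (FB.comp L - C Fs * FB + C k0) = _
      rw [Polynomial.derivative_add, Polynomial.derivative_sub, Polynomial.derivative_C, add_zero,
        Polynomial.derivative_comp, hL', Polynomial.derivative_C_mul]
      ring
    have e4 : C k0 * C c = 0 := by
      rw [← C_mul, ← map_mul]
      have : (F.coeff 0 ^ 2 - F.coeff 0) * F.coeff 1 = 0 := by
        have := hkill 0
        linear_combination F.coeff 0 * this
      rw [this, map_zero, map_zero]
    have hPode : P * C c = derivative P * (1 + C μB * X) := by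
      rw [e3]
      linear_combination e1 + (derivative FB).comp L * e2 - C Fs * hodeB + e4
    have hFBdeg : FB.natDegree ≤ F.natDegree := Polynomial.natDegree_map_le
    have hLdeg : L.natDegree ≤ 1 := Polynomial.natDegree_linear_le
    have hGdeg : G.natDegree ≤ F.natDegree := by
      calc G.natDegree ≤ FB.natDegree * L.natDegree := Polynomial.natDegree_comp_le
        _ ≤ F.natDegree * 1 := Nat.mul_le_mul hFBdeg hLdeg
        _ = F.natDegree := mul_one _
    have hPdeg : P.natDegree < p := by
      have h1 : (C Fs * FB).natDegree ≤ F.natDegree :=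
        (Polynomial.natDegree_C_mul_le _ _).trans hFBdeg
      have h2 : (G - C Fs * FB).natDegree ≤ F.natDegree :=
        (Polynomial.natDegree_sub_le _ _).trans (max_le hGdeg h1)
      have h3 : P.natDegree ≤ F.natDegree := by
        refine (Polynomial.natDegree_add_le _ _).trans (max_le h2 ?_)
        rw [Polynomial.natDegree_C]; exact Nat.zero_le _
      exact lt_of_le_of_lt h3 hF
    have hP0 : P.coeff 0 = 0 := by
      rw [Polynomial.coeff_zero_eq_eval_zero]
      simp only [P, G, L, Polynomial.eval_add, Polynomial.eval_sub, Polynomial.eval_mul,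
        Polynomial.eval_C, Polynomial.eval_comp, Polynomial.eval_X, mul_zero, zero_add]
      have h1 : Polynomial.eval s FB = Fs := Polynomial.eval_map_algebraMap F s
      have h2 : Polynomial.eval 0 FB = algebraMap A B (F.coeff 0) := by
        rw [← Polynomial.coeff_zero_eq_eval_zero, Polynomial.coeff_map]
      rw [h1, h2]
      have h3 := congrArg (Polynomial.aeval s) hQ
      simp only [map_mul, map_sub, Polynomial.aeval_C, map_one, map_zero] at h3
      simp only [k0, map_sub, map_pow, map_one] at h3 ⊢
      linear_combination -h3
    have hunitB : ∀ r : ℕ, r + 1 < p → IsUnit ((r : B) + 1) := by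
      intro r hr
      have := (hunitA r hr).map (algebraMap A B)
      simpa using this
    have hPz : P = 0 := uniq p hunitB μB c P hPdeg hPode hP0
    have hev := congrArg (Polynomial.eval (MvPolynomial.X 0 : B)) hPz
    simp only [P, G, L, Polynomial.eval_add, Polynomial.eval_sub, Polynomial.eval_mul,
      Polynomial.eval_C, Polynomial.eval_comp, Polynomial.eval_X, Polynomial.eval_zero] at hev
    have h1 : ∀ x : B, Polynomial.eval x FB = Polynomial.aeval x F :=
      fun x => Polynomial.eval_map_algebraMap F x
    rw [h1, h1] at hev
    have harg : (1 + μB * s) * MvPolynomial.X 0 + s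
        = (MvPolynomial.X 0 + MvPolynomial.X 1 + MvPolynomial.C μ * MvPolynomial.X 0 * MvPolynomial.X 1 : B) := by
      have hμ : μB = MvPolynomial.C μ := rfl
      rw [hμ]
      simp only [s]
      ring
    rw [harg] at hev
    have hk0 : k0 = MvPolynomial.C (F.coeff 0 ^ 2) - MvPolynomial.C (F.coeff 0) := by
      show MvPolynomial.C (F.coeff 0 ^ 2 - F.coeff 0) = _
      rw [map_sub]
    rw [hk0] at hev
    linear_combination -hev

end Groth.Agent.S13156
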