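import Groth.Statements.S13158
import Mathlib
-- import your own Groth.Agent.* helpers here

set_option autoImplicit false
universe u
open CAlg

namespace Groth.Agent.S13158.Aux

namespace KumDiv

/-- `p^(n-j)` divides `C(p^n, k)` when `k = p^j m`. -/
lemma pow_dvd_choose (p n k : ℕ) (hp : p.Prime) (hk1 : 1 ≤ k) (hk : k ≤ p ^ n) :
    ∃ j : ℕ, j ≤ n ∧ p ^ j ≤ k ∧ p ^ (n - j) ∣ (p ^ n).choose k := by
  obtain ⟨j, m, hm, hkm⟩ := Nat.exists_eq_pow_mul_and_not_dvd (by omega : k ≠ 0) p hp.ne_one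
  have hmpos : 0 < m := by
    rcases Nat.eq_zero_or_pos m with h | h
    · rw [h, mul_zero] at hkm; omega
    · exact h
  have hpj : p ^ j ≤ k := by
    rw [hkm]; exact Nat.le_mul_of_pos_right _ hmpos
  have hjn : j ≤ n := by
    by_contra hlt
    push Not at hlt
    have : p ^ n < p ^ j := Nat.pow_lt_pow_right hp.one_lt hlt
    omega
  refine ⟨j, hjn, hpj, ?_⟩
  obtain ⟨k', rfl⟩ : ∃ k', k = k' + 1 := ⟨k - 1, by omega⟩
  obtain ⟨N', hN'⟩ : ∃ N', p ^ n = N' + 1 := ⟨p ^ n - 1, by
    have := Nat.pos_of_ne_zero (pow_ne_zero n hp.ne_zero); omega⟩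
  have h1 := Nat.add_one_mul_choose_eq N' k'
  -- (N'+1) * C(N',k') = C(N'+1,k'+1) * (k'+1)
  have h2 : p ^ n ∣ (p ^ n).choose (k' + 1) * (k' + 1) := by
    rw [hN', ← h1]
    exact Dvd.intro _ rfl
  have hkm' : (p ^ n).choose (k' + 1) * (k' + 1) = (p ^ n).choose (k' + 1) * (p ^ j * m) :=
    congrArg (fun t => (p ^ n).choose (k' + 1) * t) hkm
  rw [hkm'] at h2
  have h3 : p ^ n = p ^ (n - j) * p ^ j := by
    rw [← pow_add]; congr 1; omega
  have h4 : p ^ (n - j) * p ^ j ∣ ((p ^ n).choose (k' + 1) * m) * p ^ j := by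
    rw [← h3]
    convert h2 using 1
    ring
  have h5 : p ^ (n - j) ∣ (p ^ n).choose (k' + 1) * m :=
    Nat.dvd_of_mul_dvd_mul_right (pow_pos hp.pos j) h4
  have hcop : Nat.Coprime (p ^ (n - j)) m :=
    Nat.Coprime.pow_left _ ((Nat.Prime.coprime_iff_not_dvd hp).mpr hm)
  exact hcop.dvd_of_dvd_mul_right h5

lemma ineq (p n j k : ℕ) (hp : 2 ≤ p) (hn : 1 ≤ n) (hjn : j ≤ n) (hk : p ^ j ≤ k) :
    p ^ n ≤ p ^ (n - 1) * (p - 1) * (n - j) + k := by
  obtain ⟨n', rfl⟩ : ∃ n', n = n' + 1 := ⟨n - 1, by omega⟩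
  simp only [Nat.add_sub_cancel]
  have hq : 0 < p ^ n' := pow_pos (by omega) n'
  have hpn : p ^ (n' + 1) = p ^ n' * p := pow_succ p n'
  obtain ⟨p', rfl⟩ : ∃ p', p = p' + 2 := ⟨p - 2, by omega⟩
  have hp1 : p' + 2 - 1 = p' + 1 := by omega
  rw [hp1]
  rcases Nat.lt_or_ge j (n' + 1) with hlt | hge
  · rcases Nat.lt_or_ge j n' with hlt2 | hge2
    · -- n - j ≥ 2
      have h2 : 2 ≤ n' + 1 - j := by omega
      have : (p' + 2) ^ n' * (p' + 1) * 2 ≤ (p' + 2) ^ n' * (p' + 1) * (n' + 1 - j) :=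
        Nat.mul_le_mul_left _ h2
      rw [hpn]
      nlinarith
    · -- j = n'
      have hj : j = n' := by omega
      rw [hj] at hk ⊢
      have h1 : n' + 1 - n' = 1 := by omega
      rw [h1, mul_one, hpn]
      nlinarith
  · have hj : j = n' + 1 := by omega
    rw [hj] at hk
    omega

variable (R : Type u) [CommRing R]

lemma lam_pow_dvd_choose (p n : ℕ) (hp : p.Prime) (hn : 1 ≤ n) (lam : R)
    (hstar : lam ^ (p ^ (n - 1) * (p - 1)) ∣ (p : R)) (k : ℕ) (hk1 : 1 ≤ k) (hk : k ≤ p ^ n) :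
    lam ^ (p ^ n - k) ∣ (((p ^ n).choose k : ℕ) : R) := by
  obtain ⟨j, hjn, hpj, hdvd⟩ := pow_dvd_choose p n k hp hk1 hk
  obtain ⟨c, hc⟩ := hdvd
  rw [hc, Nat.cast_mul, Nat.cast_pow]
  refine Dvd.dvd.mul_right ?_ _
  have h1 : lam ^ (p ^ (n - 1) * (p - 1) * (n - j)) ∣ (p : R) ^ (n - j) := by
    rw [pow_mul]
    exact pow_dvd_pow_of_dvd hstar _
  refine dvd_trans (pow_dvd_pow lam ?_) h1
  have := ineq p n j k hp.two_le hn hjn hpj
  omega

theorem main [IsDomain R] (p n : ℕ) [Fact p.Prime] (hn : 1 ≤ n)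
    (lam : R) (hlam : lam ≠ 0)
    (hstar : lam ^ (p ^ (n - 1) * (p - 1)) ∣ (p : R))
    (A : Type u) [CommRing A] [IsDomain A] [IsIntegrallyClosed A] [Algebra R A]
    [Module.FaithfullyFlat R A] (x : Aˣ) :
    (algebraMap R A lam ^ p ^ n ∣ (x : A) ^ p ^ n - 1) ↔ (algebraMap R A lam ∣ (x : A) - 1) := by
  have hp : p.Prime := Fact.out
  set N := p ^ n with hN
  set a := algebraMap R A lam with ha
  have ha0 : a ≠ 0 := by
    intro h
    apply hlam
    have hinj : Function.Injective (algebraMap R A) := FaithfulSMul.algebraMap_injective R A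
    exact hinj (by rw [← ha, h, map_zero])
  -- the coefficients
  have hc : ∀ m, 1 ≤ m → m ≤ N → ∃ c : A, ((N.choose m : ℕ) : A) = a ^ (N - m) * c := by
    intro m hm1 hmN
    obtain ⟨c, hc⟩ := lam_pow_dvd_choose R p n hp hn lam hstar m hm1 hmN
    refine ⟨algebraMap R A c, ?_⟩
    rw [ha, ← map_pow, ← map_mul, ← hc, map_natCast]
  constructor
  · rintro ⟨z, hz⟩
    -- integrality
    let K := FractionRing A
    let ι := algebraMap A K
    have hιinj : Function.Injective ι := IsFractionRing.injective A K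
    have hιa : ι a ≠ 0 := fun h => ha0 (hιinj (by rw [h, map_zero]))
    set y : K := (ι (x : A) - 1) / ι a with hy
    have hay : ι a * y + 1 = ι (x : A) := by
      rw [hy, mul_div_cancel₀ _ hιa]; ring
    choose! c hcm using hc
    -- coefficient function
    let f : ℕ → A := fun m => if m = 0 then -z else c m
    have hfin : IsIntegral A y := by
      refine ⟨Polynomial.X ^ N + ∑ i : Fin N, Polynomial.C (f i) * Polynomial.X ^ (i : ℕ),
        Polynomial.monic_X_pow_add (Polynomial.degree_sum_fin_lt _), ?_⟩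
      rw [← Polynomial.aeval_def]
      simp only [map_add, map_pow, Polynomial.aeval_X, map_sum, map_mul, Polynomial.aeval_C]
      rw [Fin.sum_univ_eq_sum_range (fun i => (algebraMap A K) (f i) * y ^ i) N]
      -- multiply by `a^N`
      have hN0 : 0 < N := pow_pos hp.pos n
      have key : ι a ^ N * (y ^ N + ∑ i ∈ Finset.range N, ι (f i) * y ^ i) = 0 := by
        have hexp := add_pow (ι a * y) 1 N
        rw [hay] at hexp
        simp only [one_pow, mul_one] at hexp
        rw [Finset.sum_range_succ' ] at hexp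
        simp only [pow_zero, Nat.choose_zero_right, Nat.cast_one, mul_one] at hexp
        -- hexp : ι x ^ N = ∑ m ∈ range N, (ι a * y)^(m+1) * C(N,m+1) + 1
        have hz' : ι (x : A) ^ N - 1 = ι a ^ N * ι z := by
          rw [← map_pow, ← map_pow, ← map_mul, ← hz, map_sub, map_one]
        obtain ⟨N', hN'⟩ : ∃ N', N = N' + 1 := ⟨N - 1, by omega⟩
        rw [hN', Finset.sum_range_succ'] at ⊢
        rw [hN'] at hexp hz'
        have hf0 : f 0 = -z := by simp [f]
        have hfs : ∀ m, f (m + 1) = c (m + 1) := fun m => by simp [f]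
        simp only [hf0, hfs, pow_zero, mul_one, map_neg]
        have hterm : ∀ m ∈ Finset.range N', ι a ^ (N' + 1) * (ι (c (m + 1)) * y ^ (m + 1)) =
            (ι a * y) ^ (m + 1) * (((N' + 1).choose (m + 1) : ℕ) : K) := by
          intro m hm
          rw [Finset.mem_range] at hm
          have h1 := hcm (m + 1) (by omega) (by omega)
          rw [hN'] at h1
          have h2 : (((N' + 1).choose (m + 1) : ℕ) : K) = ι a ^ (N' + 1 - (m + 1)) * ι (c (m + 1)) := by
            rw [← map_pow, ← map_mul, ← h1, map_natCast]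
          rw [h2, mul_pow]
          have h3 : ι a ^ (N' + 1) = ι a ^ (m + 1) * ι a ^ (N' + 1 - (m + 1)) := by
            rw [← pow_add]; congr 1; omega
          rw [h3]; ring
        have hlast : ι a ^ (N' + 1) * y ^ (N' + 1) =
            (ι a * y) ^ (N' + 1) * (((N' + 1).choose (N' + 1) : ℕ) : K) := by
          rw [Nat.choose_self, Nat.cast_one, mul_one, mul_pow]
        rw [Finset.sum_range_succ] at hexp
        rw [mul_add, mul_add, Finset.mul_sum, Finset.sum_congr rfl hterm, hlast]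
        have : ι a ^ (N' + 1) * -ι z = -(ι (x : A) ^ (N' + 1) - 1) := by rw [hz']; ring
        rw [this, hexp]
        ring
      exact (mul_eq_zero.mp key).resolve_left (pow_ne_zero _ hιa)
    obtain ⟨y', hy'⟩ := IsIntegrallyClosed.isIntegral_iff.mp hfin
    refine ⟨y', ?_⟩
    apply hιinj
    rw [map_sub, map_one, map_mul, hy', hy, mul_div_cancel₀ _ hιa]
  · rintro ⟨y, hy⟩
    have hx : (x : A) = a * y + 1 := by rw [← hy]; ring
    rw [hx, add_pow]
    simp only [one_pow, mul_one]
    rw [Finset.sum_range_succ']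
    simp only [pow_zero, Nat.choose_zero_right, Nat.cast_one, mul_one, add_sub_cancel_right]
    refine Finset.dvd_sum fun m hm => ?_
    rw [Finset.mem_range] at hm
    obtain ⟨c, hc⟩ := hc (m + 1) (by omega) (by omega)
    rw [hc, mul_pow]
    have h3 : a ^ N = a ^ (m + 1) * a ^ (N - (m + 1)) := by
      rw [← pow_add]; congr 1; omega
    rw [h3]
    exact ⟨y ^ (m + 1) * c, by ring⟩

end KumDiv

end Groth.Agent.S13158.Aux

namespace Groth.Agent.S13158

/-- Let R be a discrete valuation ring of characteristic zero whose maximal ideal contains the prime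
number p, let n ≥ 1, and let λ be a nonzero element of R such that λ^(p^(n−1)(p−1)) divides p (the
condition v(p) ≥ p^(n−1)(p−1)·v(λ) under which the polynomial ((1 + λT)^(p^n) − 1)/λ^(p^n) has
coefficients in R). Let A be an integrally closed integral domain which is a faithfully flat
R-algebra. Then for every unit x of A, λ^(p^n) divides x^(p^n) − 1 in A if and only if λ divides x −
1 in A. -/
theorem result (R : Type u) [CommRing R]
    [IsDomain R] [IsDiscreteValuationRing R] [CharZero R] (p n : ℕ) [Fact p.Prime] (hn : 1 ≤ n)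
    (hp : (p : R) ∈ IsLocalRing.maximalIdeal R) (lam : R) (hlam : lam ≠ 0)
    (hstar : lam ^ (p ^ (n - 1) * (p - 1)) ∣ (p : R))
    (A : Type u) [CommRing A] [IsDomain A] [IsIntegrallyClosed A] [Algebra R A] [Module.FaithfullyFlat R A]
    (x : Aˣ) :
    (algebraMap R A lam ^ p ^ n ∣ (x : A) ^ p ^ n - 1) ↔ (algebraMap R A lam ∣ (x : A) - 1) := by
  exact Aux.KumDiv.main R p n hn lam hlam hstar A x

end Groth.Agent.S13158
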