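import Groth.Statements.S1316
import Groth.Agent.Lib.Helper2Thick
import Mathlib

set_option autoImplicit false
universe u
open FlatMor

namespace Groth.Agent.S1316

section Dev
open AlgebraicGeometry CategoryTheory Limits TopologicalSpace
open Groth.Agent.Lib.Helper2.Thick

/-- restriction of a pullback square to an open of the base -/
theorem restrict_isPullback {X X' Y Y' : Scheme.{u}} {iX : X ⟶ X'} {iY : Y ⟶ Y'} {f : X ⟶ Y}
    {f' : X' ⟶ Y'} (hc : IsPullback iX f f' iY) (U' : Y'.Opens) :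
    ∃ top : (f ⁻¹ᵁ (iY ⁻¹ᵁ U')).toScheme ⟶ (f' ⁻¹ᵁ U').toScheme,
      IsPullback top (f ∣_ (iY ⁻¹ᵁ U')) (f' ∣_ U') (iY ∣_ U') := by
  have h1 := (isPullback_morphismRestrict f' U').flip
  have h2 := (isPullback_morphismRestrict iY U')
  have h3 := (isPullback_morphismRestrict f (iY ⁻¹ᵁ U')).flip
  have big := h3.paste_horiz hc
  have e2 : (iY ⁻¹ᵁ U').ι ≫ iY = (iY ∣_ U') ≫ U'.ι := h2.w.symm
  rw [e2] at big
  let top := h1.lift ((f ⁻¹ᵁ (iY ⁻¹ᵁ U')).ι ≫ iX) (f ∣_ (iY ⁻¹ᵁ U') ≫ iY ∣_ U') big.w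
  have e1 : top ≫ (f' ⁻¹ᵁ U').ι = (f ⁻¹ᵁ (iY ⁻¹ᵁ U')).ι ≫ iX := h1.lift_fst _ _ _
  have e3 : top ≫ f' ∣_ U' = f ∣_ (iY ⁻¹ᵁ U') ≫ iY ∣_ U' := h1.lift_snd _ _ _
  rw [← e1] at big
  exact ⟨top, IsPullback.of_right big e3 h1⟩

theorem isImmersion_of_thick {X X' Y Y' : Scheme.{u}} (iX : X ⟶ X') (iY : Y ⟶ Y') (f : X ⟶ Y)
    (f' : X' ⟶ Y') (hY : MoreMor.IsThickening iY) (hc : IsPullback iX f f' iY)
    [LocallyOfFiniteType f'] [IsImmersion f] : IsImmersion f' := by
  have : IsClosedImmersion iY := hY.1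
  have : Surjective iY := hY.2
  have : Surjective iX := MorphismProperty.of_isPullback (P := @Surjective) hc.flip hY.2
  have hhomeo : IsHomeomorph iY := by
    rw [isHomeomorph_iff_isEmbedding_surjective]
    exact ⟨iY.isClosedEmbedding.isEmbedding, iY.surjective⟩
  let U : Y.Opens := f.coborderRange
  let U' : Y'.Opens := ⟨iY '' U.1, hhomeo.isOpenMap _ U.2⟩
  have hV : iY ⁻¹ᵁ U' = U := by
    ext y
    constructor
    · rintro ⟨z, hz, hzy⟩
      rwa [← iY.injective hzy]
    · intro hy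
      exact ⟨y, hy, rfl⟩
  obtain ⟨top, sq⟩ := restrict_isPullback hc U'
  have hj : MoreMor.IsThickening (iY ∣_ U') := ⟨inferInstance,
    MorphismProperty.of_isPullback (P := @Surjective) (isPullback_morphismRestrict iY U').flip
      inferInstance⟩
  have hci : IsClosedImmersion (f ∣_ (iY ⁻¹ᵁ U')) := by
    apply IsClosedImmersion.of_isPreimmersion
    have hVU : ∀ y ∈ iY ⁻¹ᵁ U', y ∈ coborder (Set.range f) := by
      intro y hy; rw [hV] at hy; exact hy
    have h1 : Set.range (f ∣_ (iY ⁻¹ᵁ U')) =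
        (Subtype.val : (iY ⁻¹ᵁ U' : Y.Opens) → Y) ⁻¹' closure (Set.range f) := by
      ext ⟨y, hy⟩
      constructor
      · rintro ⟨x, hx⟩
        apply subset_closure
        refine ⟨x.1, ?_⟩
        rw [← morphismRestrict_base_coe, hx]
      · intro hcl
        have h2 : y ∈ closure (Set.range f) ∩ coborder (Set.range f) := ⟨hcl, hVU y hy⟩
        rw [closure_inter_coborder] at h2
        obtain ⟨x, rfl⟩ := h2
        refine ⟨⟨x, hy⟩, ?_⟩
        apply Subtype.ext
        rw [morphismRestrict_base_coe]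
    rw [h1]
    exact isClosed_closure.preimage continuous_subtype_val
  have hci' : IsClosedImmersion (f' ∣_ U') := ci_of_thick top (iY ∣_ U') _ _ hj sq
  have htop : f' ⁻¹ᵁ U' = ⊤ := by
    rw [eq_top_iff]
    intro x' _
    obtain ⟨x, rfl⟩ := iX.surjective x'
    refine ⟨f x, ?_, (congr($(hc.w) x)).symm⟩
    exact subset_coborder ⟨x, rfl⟩
  have hsurj : Surjective (f' ⁻¹ᵁ U').ι := by
    constructor
    intro x'
    exact ⟨⟨x', by rw [htop]; trivial⟩, rfl⟩
  have hiso : IsIso (f' ⁻¹ᵁ U').ι :=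
    (isIso_iff_isOpenImmersion_and_surjective _).mpr ⟨inferInstance, hsurj⟩
  have h4 : IsImmersion ((f' ⁻¹ᵁ U').ι ≫ f') := by
    rw [← (isPullback_morphismRestrict f' U').w]
    infer_instance
  exact (MorphismProperty.cancel_left_of_respectsIso @IsImmersion _ _).mp h4


end Dev

open AlgebraicGeometry CategoryTheory Limits in
/-- Let Y ⟶ Y' be a thickening, let X be the base change to Y of a scheme X' over Y', and assume both X
⟶ Y and X' ⟶ Y' are locally of finite type. Then X ⟶ Y is an immersion if and only if X' ⟶ Y' is. -/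
theorem result {X X' Y Y' : Scheme.{u}} (iX : X ⟶ X') (iY : Y ⟶ Y') (f : X ⟶ Y) (f' : X' ⟶ Y')
    (hY : MoreMor.IsThickening iY) (hc : IsPullback iX f f' iY) [LocallyOfFiniteType f] [LocallyOfFiniteType f'] :
    IsImmersion f ↔ IsImmersion f' := by
  constructor
  · intro h
    exact isImmersion_of_thick iX iY f f' hY hc
  · intro h
    exact MorphismProperty.of_isPullback (P := @IsImmersion) hc h

end Groth.Agent.S1316
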