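import Groth.Statements.S13160
import Mathlib
-- import your own Groth.Agent.* helpers here

set_option autoImplicit false
set_option linter.style.haveILetI false
set_option linter.unusedSectionVars false
universe u
open CAlg

namespace Groth.Agent.S13160

open MvPolynomial WittVector

section Poly

variable (p : ℕ) [hp : Fact p.Prime]

local notation "𝔪" => idealOfVars (Fin 2 × ℕ) ℤ

theorem wittAdd_mem (n : ℕ) : wittAdd p n ∈ 𝔪 := by
  have h := (mem_pow_idealOfVars_iff' (σ := Fin 2 × ℕ) (R := ℤ) 1 (wittAdd p n)).mpr ?_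
  · simpa using h
  · intro x hx
    have hx0 : x = 0 := by
      have : x.degree = 0 := by omega
      exact (Finsupp.degree_eq_zero_iff x).mp this
    rw [hx0]
    exact constantCoeff_wittAdd p n

theorem X_mem (s : Fin 2 × ℕ) : (X s : MvPolynomial (Fin 2 × ℕ) ℤ) ∈ 𝔪 :=
  Ideal.subset_span ⟨s, rfl⟩

theorem pow_mem_of_le {f : MvPolynomial (Fin 2 × ℕ) ℤ} (hf : f ∈ 𝔪) {e : ℕ} (he : p ≤ e) :
    f ^ e ∈ 𝔪 ^ p :=
  Ideal.pow_le_pow_right he (Ideal.pow_mem_pow hf e)

theorem key (n : ℕ) : wittAdd p n - X (0, n) - X (1, n) ∈ 𝔪 ^ p := by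
  have hprop := wittStructureInt_prop p (X 0 + X 1 : MvPolynomial (Fin 2) ℤ) n
  simp only [wittPolynomial_eq_sum_C_mul_X_pow, map_sum, map_mul, map_pow, bind₁_X_right,
    map_add, rename_X, algHom_C] at hprop
  simp only [MvPolynomial.algebraMap_eq, ← map_pow] at hprop
  change ∑ i ∈ Finset.range (n + 1), C ((p : ℤ) ^ i) * wittAdd p i ^ p ^ (n - i) = _ at hprop
  rw [Finset.sum_range_succ, Finset.sum_range_succ, Finset.sum_range_succ] at hprop
  simp only [Nat.sub_self, pow_zero, pow_one] at hprop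
  have h2 : C ((p : ℤ) ^ n) * (wittAdd p n - X (0, n) - X (1, n)) =
      ∑ i ∈ Finset.range n, C ((p : ℤ) ^ i) *
        (X (0, i) ^ p ^ (n - i) + X (1, i) ^ p ^ (n - i) - wittAdd p i ^ p ^ (n - i)) := by
    have : ∑ i ∈ Finset.range n, C ((p : ℤ) ^ i) *
        (X (0, i) ^ p ^ (n - i) + X (1, i) ^ p ^ (n - i) - wittAdd p i ^ p ^ (n - i))
        = ∑ i ∈ Finset.range n, (C ((p : ℤ) ^ i) * X (0, i) ^ p ^ (n - i))
          + ∑ i ∈ Finset.range n, (C ((p : ℤ) ^ i) * X (1, i) ^ p ^ (n - i))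
          - ∑ i ∈ Finset.range n, C ((p : ℤ) ^ i) * wittAdd p i ^ p ^ (n - i) := by
      rw [← Finset.sum_add_distrib, ← Finset.sum_sub_distrib]
      exact Finset.sum_congr rfl (fun i _ => by ring)
    rw [this]
    linear_combination hprop
  have h3 : C ((p : ℤ) ^ n) * (wittAdd p n - X (0, n) - X (1, n)) ∈ 𝔪 ^ p := by
    rw [h2]
    apply Ideal.sum_mem
    intro i hi
    rw [Finset.mem_range] at hi
    apply Ideal.mul_mem_left
    have hle : p ≤ p ^ (n - i) := by
      calc p = p ^ 1 := (pow_one p).symm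
        _ ≤ p ^ (n - i) := Nat.pow_le_pow_right hp.out.pos (by omega)
    exact Ideal.sub_mem _ (Ideal.add_mem _ (pow_mem_of_le p (X_mem _) hle)
      (pow_mem_of_le p (X_mem _) hle)) (pow_mem_of_le p (wittAdd_mem p i) hle)
  rw [mem_pow_idealOfVars_iff'] at h3 ⊢
  intro x hx
  have := h3 x hx
  rw [coeff_C_mul] at this
  rcases mul_eq_zero.mp this with h | h
  · exact absurd h (pow_ne_zero _ (by exact_mod_cast hp.out.ne_zero))
  · exact h

end Poly

theorem aeval_mem {A : Type u} [CommRing A] (J : Ideal A) (f : Fin 2 × ℕ → A)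
    (hf : ∀ s, f s ∈ J) (e : ℕ) (c : MvPolynomial (Fin 2 × ℕ) ℤ)
    (hc : c ∈ idealOfVars (Fin 2 × ℕ) ℤ ^ e) : aeval f c ∈ J ^ e := by
  have h1 : aeval f c ∈ Ideal.map (aeval f) (idealOfVars (Fin 2 × ℕ) ℤ ^ e) :=
    Ideal.mem_map_of_mem _ hc
  rw [Ideal.map_pow] at h1
  refine Ideal.pow_right_mono ?_ e h1
  rw [Ideal.map_span, Ideal.span_le]
  rintro _ ⟨_, ⟨s, rfl⟩, rfl⟩
  rw [aeval_X]
  exact hf s

theorem exists_ideal (R : Type u) [CommRing R] [IsDomain R] [IsDiscreteValuationRing R]
    (p : ℕ) (hp : 0 < p) (lam : R) :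
    ∃ J : Ideal (R ⧸ Ideal.span {lam}), (∀ x : R ⧸ Ideal.span {lam}, x ^ p = 0 → x ∈ J) ∧
      J ^ p = ⊥ := by
  by_cases hlam : lam = 0
  · refine ⟨⊥, ?_, ?_⟩
    · intro x hx
      obtain ⟨r, rfl⟩ := Ideal.Quotient.mk_surjective x
      rw [← map_pow, Ideal.Quotient.eq_zero_iff_mem, hlam, Ideal.span_singleton_eq_bot.mpr rfl,
        Ideal.mem_bot] at hx
      have : r = 0 := eq_zero_of_pow_eq_zero hx
      rw [this, map_zero]
      exact Ideal.zero_mem _
    · rw [← Ideal.zero_eq_bot, zero_pow hp.ne']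
  · obtain ⟨ϖ, hϖ⟩ := IsDiscreteValuationRing.exists_irreducible R
    obtain ⟨m, u, hu⟩ := IsDiscreteValuationRing.eq_unit_mul_pow_irreducible hlam hϖ
    set s := (m + p - 1) / p with hs
    have hsp : m ≤ s * p := by
      have h1 := Nat.div_add_mod (m + p - 1) p
      have h2 := Nat.mod_lt (m + p - 1) hp
      rw [← hs] at h1
      have : p * s = s * p := Nat.mul_comm _ _
      omega
    refine ⟨Ideal.map (Ideal.Quotient.mk (Ideal.span {lam})) (Ideal.span {ϖ ^ s}), ?_, ?_⟩
    · intro x hx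
      obtain ⟨r, rfl⟩ := Ideal.Quotient.mk_surjective x
      apply Ideal.mem_map_of_mem
      rw [Ideal.mem_span_singleton]
      by_cases hr : r = 0
      · rw [hr]; exact dvd_zero _
      obtain ⟨i, v, hv⟩ := IsDiscreteValuationRing.eq_unit_mul_pow_irreducible hr hϖ
      rw [← map_pow, Ideal.Quotient.eq_zero_iff_mem, Ideal.mem_span_singleton] at hx
      have h1 : ϖ ^ m ∣ r ^ p := by
        refine dvd_trans ?_ hx
        rw [hu]
        exact Dvd.intro_left _ rfl
      rw [hv, mul_pow, ← pow_mul] at h1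
      have h2 : ϖ ^ m ∣ ϖ ^ (i * p) := (IsUnit.dvd_mul_left (v.isUnit.pow p)).mp h1
      have h3 : m ≤ i * p := (pow_dvd_pow_iff hϖ.ne_zero hϖ.not_isUnit).mp h2
      have hsi : s ≤ i := by
        rw [hs]
        apply Nat.le_of_lt_succ
        rw [Nat.div_lt_iff_lt_mul hp]
        have : i.succ * p = i * p + p := Nat.succ_mul i p
        omega
      rw [hv]
      exact Dvd.dvd.mul_left (pow_dvd_pow ϖ hsi) _
    · rw [← Ideal.map_pow, Ideal.span_singleton_pow, ← pow_mul, eq_bot_iff]
      calc Ideal.map (Ideal.Quotient.mk (Ideal.span {lam})) (Ideal.span {ϖ ^ (s * p)})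
          ≤ Ideal.map (Ideal.Quotient.mk (Ideal.span {lam})) (Ideal.span {lam}) := by
            apply Ideal.map_mono
            rw [Ideal.span_singleton_le_span_singleton, hu]
            have : ϖ ^ (s * p) = ϖ ^ m * ϖ ^ (s * p - m) := by
              rw [← pow_add]; congr 1; omega
            rw [this]
            exact (IsUnit.mul_left_dvd u.isUnit).mpr (Dvd.intro _ rfl)
        _ = ⊥ := Ideal.map_quotient_self _


/-- Let R be a discrete valuation ring, p a prime number and λ an element of R dividing p (so that R/λR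
is an 𝔽_p-algebra), and let a and b be p-typical Witt vectors with coefficients in R/λR which are
killed by the Frobenius endomorphism. Then the Witt sum a + b has components a_n + b_n for every n.
(The published statement allows an arbitrary λ ∈ R and is stated for Witt vectors with finitely many
nonzero components; this row assumes that λ divides p, so that p = 0 in R/λR, and allows all Witt
vectors.) -/
theorem result (R : Type u) [CommRing R] [IsDomain R]
    [IsDiscreteValuationRing R] (p : ℕ) [Fact p.Prime] (lam : R) (hlam : lam ∣ (p : R))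
    (a b : WittVector p (R ⧸ Ideal.span {lam})) (ha : WittVector.frobenius a = 0)
    (hb : WittVector.frobenius b = 0) (n : ℕ) : (a + b).coeff n = a.coeff n + b.coeff n := by
  have hpp : p.Prime := Fact.out
  rcases subsingleton_or_nontrivial (R ⧸ Ideal.span {lam}) with hsub | hnt
  · exact Subsingleton.elim _ _
  have hp0 : ((p : ℕ) : R ⧸ Ideal.span {lam}) = 0 := by
    have : ((p : R) : R ⧸ Ideal.span {lam}) = 0 := by
      rw [Ideal.Quotient.eq_zero_iff_mem, Ideal.mem_span_singleton]
      exact hlam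
    rwa [map_natCast] at this
  haveI : CharP (R ⧸ Ideal.span {lam}) p :=
    (CharP.ringChar_of_prime_eq_zero hpp hp0) ▸ ringChar.charP _
  obtain ⟨J, hJ1, hJ2⟩ := exists_ideal R p hpp.pos lam
  have haJ : ∀ i, a.coeff i ∈ J := by
    intro i
    apply hJ1
    rw [← WittVector.coeff_frobenius_charP, ha, WittVector.zero_coeff]
  have hbJ : ∀ i, b.coeff i ∈ J := by
    intro i
    apply hJ1
    rw [← WittVector.coeff_frobenius_charP, hb, WittVector.zero_coeff]
  rw [WittVector.add_coeff]
  unfold WittVector.peval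
  have hf : ∀ s : Fin 2 × ℕ, Function.uncurry ![a.coeff, b.coeff] s ∈ J := by
    rintro ⟨i, j⟩
    fin_cases i
    · exact haJ j
    · exact hbJ j
  have hk := aeval_mem J _ hf p _ (key p n)
  rw [hJ2, Ideal.mem_bot, map_sub, map_sub, aeval_X, aeval_X] at hk
  rw [sub_sub, sub_eq_zero] at hk
  rw [hk]
  rfl

end Groth.Agent.S13160
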