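import Groth.Statements.S13161
import Mathlib
-- import your own Groth.Agent.* helpers here

set_option autoImplicit false
universe u
open scoped TensorProduct
open CAlg

namespace Groth.Agent.S13161

/-- Let R be a discrete valuation ring with fraction field K, A an R-algebra which is semireflexive as
an R-module (the map to its double dual is injective: every nonzero a ∈ A has an R-linear form f : A
→ R with f(a) ≠ 0), and B an A-algebra which is finitely generated as an A-module and flat over R.
Suppose B ⊗ K is semireflexive as a module over A ⊗ K, which for such B amounts to: every nonzero b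
∈ B has an A-linear map g : B → A ⊗_R K with g(b) ≠ 0. Then B is semireflexive as an R-module: every
nonzero b ∈ B has an R-linear form h : B → R with h(b) ≠ 0. (The published statement phrases the
hypothesis on B_K as an A_K-module; for B flat over R and finite over A this is the elementwise
condition used here.) -/
theorem result (R : Type u) [CommRing R] [IsDomain R]
    [IsDiscreteValuationRing R] (K : Type u) [Field K] [Algebra R K] [IsFractionRing R K]
    (A B : Type u) [CommRing A] [CommRing B] [Algebra R A] [Algebra R B] [Algebra A B] [IsScalarTower R A B]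
    [Module.Finite A B] [Module.Flat R B]
    (hA : ∀ a : A, a ≠ 0 → ∃ f : A →ₗ[R] R, f a ≠ 0)
    (hBK : ∀ b : B, b ≠ 0 → ∃ g : B →ₗ[A] A ⊗[R] K, g b ≠ 0) :
    ∀ b : B, b ≠ 0 → ∃ h : B →ₗ[R] R, h b ≠ 0 := by
  classical
  intro b hb
  obtain ⟨g, hg⟩ := hBK b hb
  -- ι : A → A ⊗ K
  let ι : A →ₗ[R] A ⊗[R] K := (TensorProduct.mk R A K).flip 1
  have hι : ∀ a : A, ι a = a ⊗ₜ[R] (1 : K) := fun a => rfl
  have hιA : ∀ (a a' : A), ι (a * a') = a • ι a' := by
    intro a a'
    rw [hι, hι, TensorProduct.smul_tmul', smul_eq_mul]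
  have hinj : Function.Injective ι := by
    rw [injective_iff_map_eq_zero]
    intro a ha
    by_contra hne
    obtain ⟨f, hf⟩ := hA a hne
    have h1 : (TensorProduct.lid R K) (LinearMap.rTensor K f (ι a)) = algebraMap R K (f a) := by
      rw [hι, LinearMap.rTensor_tmul, TensorProduct.lid_tmul, Algebra.smul_def, mul_one]
    rw [ha, map_zero, map_zero] at h1
    exact hf ((IsFractionRing.injective R K) (by rw [← h1, map_zero]))
  -- denominators
  have hden : ∀ x : A ⊗[R] K, ∃ d : R, d ≠ 0 ∧ d • x ∈ LinearMap.range ι := by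
    intro x
    induction x using TensorProduct.induction_on with
    | zero => exact ⟨1, one_ne_zero, by simp⟩
    | tmul a κ =>
      obtain ⟨r, s, hs, rfl⟩ := IsFractionRing.div_surjective (A := R) κ
      have hs0 : s ≠ 0 := nonZeroDivisors.ne_zero hs
      refine ⟨s, hs0, r • a, ?_⟩
      rw [hι, TensorProduct.smul_tmul', TensorProduct.smul_tmul, TensorProduct.smul_tmul]
      congr 1
      rw [Algebra.smul_def, Algebra.smul_def, mul_one, mul_div_cancel₀]
      exact (map_ne_zero_iff _ (IsFractionRing.injective R K)).2 hs0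
    | add x y hx hy =>
      obtain ⟨d₁, h₁, a₁, ha₁⟩ := hx
      obtain ⟨d₂, h₂, a₂, ha₂⟩ := hy
      refine ⟨d₁ * d₂, mul_ne_zero h₁ h₂, d₂ • a₁ + d₁ • a₂, ?_⟩
      rw [map_add, map_smul, map_smul, ha₁, ha₂, smul_add, smul_smul, smul_smul, mul_comm d₂ d₁]
  obtain ⟨S, hS⟩ := (Module.Finite.fg_top : (⊤ : Submodule A B).FG)
  choose dd hdd0 hdd using hden
  let d : R := ∏ t ∈ S, dd (g t)
  have hd0 : d ≠ 0 := Finset.prod_ne_zero_iff.2 (fun t _ => hdd0 _)
  have hdS : ∀ t ∈ S, d • g t ∈ LinearMap.range ι := by
    intro t ht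
    have : d = (∏ t' ∈ S.erase t, dd (g t')) * dd (g t) := by
      rw [Finset.prod_erase_mul S _ ht]
    rw [this, mul_smul]
    exact Submodule.smul_mem _ _ (hdd (g t))
  have hdall : ∀ y : B, d • g y ∈ LinearMap.range ι := by
    intro y
    have hy : y ∈ Submodule.span A (S : Set B) := by rw [hS]; trivial
    induction hy using Submodule.span_induction with
    | mem t ht => exact hdS t ht
    | zero => simp
    | add u v _ _ hu hv => rw [map_add, smul_add]; exact Submodule.add_mem _ hu hv
    | smul a u _ hu =>
      obtain ⟨c, hc⟩ := hu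
      refine ⟨a * c, ?_⟩
      rw [hιA, hc, map_smul, smul_comm]
  -- the map g' : B → A
  let g₁ : B →ₗ[R] LinearMap.range ι :=
    LinearMap.codRestrict (LinearMap.range ι) (d • (g.restrictScalars R)) (fun y => hdall y)
  let e := LinearEquiv.ofInjective ι hinj
  let g' : B →ₗ[R] A := e.symm.toLinearMap ∘ₗ g₁
  have hg' : ∀ y : B, ι (g' y) = d • g y := by
    intro y
    have : (e (g' y) : A ⊗[R] K) = d • g y := by
      simp only [g', LinearMap.comp_apply, LinearEquiv.coe_coe, LinearEquiv.apply_symm_apply]
      rfl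
    rw [← this]
    rfl
  -- d • x = 0 → x = 0
  have hdinj : ∀ x : A ⊗[R] K, d • x = 0 → x = 0 := by
    intro x hx
    let μ : K →ₗ[R] K := (LinearMap.lsmul K K (algebraMap R K d)⁻¹).restrictScalars R
    have hμ : ∀ x : A ⊗[R] K, LinearMap.lTensor A μ (d • x) = x := by
      intro x
      induction x using TensorProduct.induction_on with
      | zero => simp
      | tmul a κ =>
        rw [← TensorProduct.tmul_smul, LinearMap.lTensor_tmul]
        congr 1
        show (algebraMap R K d)⁻¹ • (d • κ) = κ
        rw [smul_eq_mul, Algebra.smul_def, ← mul_assoc, inv_mul_cancel₀, one_mul]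
        exact (map_ne_zero_iff _ (IsFractionRing.injective R K)).2 hd0
      | add x y hx hy => rw [smul_add, map_add, hx, hy]
    rw [← hμ x, hx, map_zero]
  have hne : g' b ≠ 0 := by
    intro h0
    have := hg' b
    rw [h0, map_zero] at this
    exact hg (hdinj _ this.symm)
  obtain ⟨f, hf⟩ := hA (g' b) hne
  exact ⟨f ∘ₗ g', hf⟩

end Groth.Agent.S13161
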