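import Groth.Statements.S13162
import Mathlib
-- import your own Groth.Agent.* helpers here

set_option autoImplicit false
universe u v
open ZeroCyc

namespace Groth.Agent.S13162

theorem not_dvd_choose (p n : ℕ) [Fact p.Prime] (hn0 : n ≠ 0) :
    ¬ p ∣ n.choose (p ^ n.factorization p) := by
  have hp := (Fact.out : p.Prime)
  have h1 : p ^ n.factorization p * (n / p ^ n.factorization p) = n :=
    Nat.ordProj_mul_ordCompl_eq_self n p
  have h2 : ¬ p ∣ n / p ^ n.factorization p := Nat.not_dvd_ordCompl hp hn0
  have h3 := Choose.choose_pow_mul_pow_mul_modEq_choose_nat (p := p) (k := n.factorization p)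
    (a := n / p ^ n.factorization p) (b := 1)
  rw [h1, mul_one, Nat.choose_one_right] at h3
  intro hdiv
  exact h2 ((Nat.modEq_zero_iff_dvd.1 (h3.symm.trans (Nat.modEq_zero_iff_dvd.2 hdiv))))

/-- Let a finite group G act on a commutative ring A by ring automorphisms and let p be a prime such
that every integer prime to p is a unit in A. If I is an ideal of A and f ∈ A has G-invariant class
modulo I, then f^(p^k) is congruent modulo I to a G-invariant element of A, where p^k is the exact
power of p dividing the order of G. (The published statement assumes I stable under G, so that G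
acts on A/I and the claim reads: the p^k-th power of an invariant of A/I lies in the image of the
invariants of A; the form here asks only that the class of f be invariant.) -/
theorem result {A : Type u} [CommRing A] {G : Type v} [Group G] [Fintype G]
    [MulSemiringAction G A] (p : ℕ) [Fact p.Prime]
    (hA : ∀ m : ℕ, ¬ p ∣ m → IsUnit (m : A))
    (I : Ideal A) (f : A) (hf : ∀ g : G, g • f - f ∈ I) :
    ∃ a : A, (∀ g : G, g • a = a) ∧ a - f ^ (p ^ (Fintype.card G).factorization p) ∈ I := by
  classical
  have hn0 : Fintype.card G ≠ 0 := Fintype.card_ne_zero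
  obtain ⟨u, hu⟩ := hA _ (not_dvd_choose p (Fintype.card G) hn0)
  have hσinv : ∀ h : G, h • (∑ S ∈ Finset.powersetCard (p ^ (Fintype.card G).factorization p)
      (Finset.univ : Finset G), ∏ g ∈ S, g • f) =
      ∑ S ∈ Finset.powersetCard (p ^ (Fintype.card G).factorization p)
      (Finset.univ : Finset G), ∏ g ∈ S, g • f := by
    intro h
    simp only [Finset.smul_sum, Finset.smul_prod', smul_smul]
    refine Finset.sum_bij' (fun S _ => S.map (Equiv.mulLeft h).toEmbedding)
      (fun S _ => S.map (Equiv.mulLeft h⁻¹).toEmbedding) ?_ ?_ ?_ ?_ ?_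
    · intro S hS
      rw [Finset.mem_powersetCard] at hS ⊢
      exact ⟨Finset.subset_univ _, by rw [Finset.card_map]; exact hS.2⟩
    · intro S hS
      rw [Finset.mem_powersetCard] at hS ⊢
      exact ⟨Finset.subset_univ _, by rw [Finset.card_map]; exact hS.2⟩
    · intro S _
      ext x
      simp
    · intro S _
      ext x
      simp
    · intro S _
      rw [Finset.prod_map]
      rfl
  have hσmod : (∑ S ∈ Finset.powersetCard (p ^ (Fintype.card G).factorization p)
      (Finset.univ : Finset G), ∏ g ∈ S, g • f) -
      ((Fintype.card G).choose (p ^ (Fintype.card G).factorization p) : A) *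
        f ^ (p ^ (Fintype.card G).factorization p) ∈ I := by
    rw [← Ideal.Quotient.mk_eq_mk_iff_sub_mem]
    have hgf : ∀ g : G, Ideal.Quotient.mk I (g • f) = Ideal.Quotient.mk I f :=
      fun g => (Ideal.Quotient.mk_eq_mk_iff_sub_mem _ _).2 (hf g)
    simp only [map_sum, map_prod, hgf, Finset.prod_const, map_mul, map_natCast, map_pow]
    rw [Finset.sum_congr rfl (fun S hS => by rw [(Finset.mem_powersetCard.1 hS).2]),
      Finset.sum_const, Finset.card_powersetCard, Finset.card_univ, nsmul_eq_mul]
  refine ⟨↑u⁻¹ * (∑ S ∈ Finset.powersetCard (p ^ (Fintype.card G).factorization p)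
      (Finset.univ : Finset G), ∏ g ∈ S, g • f), ?_, ?_⟩
  · intro h
    rw [smul_mul', hσinv]
    congr 1
    have h1 : h • (u : A) = u := by
      rw [hu]
      show MulSemiringAction.toRingHom G A h _ = _
      rw [map_natCast]
    have h2 : h • ((u⁻¹ : Aˣ) : A) * (u : A) = 1 := by
      rw [← h1, ← smul_mul', Units.inv_mul, smul_one]
    calc h • ((u⁻¹ : Aˣ) : A) = h • ((u⁻¹ : Aˣ) : A) * ((u : A) * ((u⁻¹ : Aˣ) : A)) := by
          rw [Units.mul_inv, mul_one]
      _ = ((u⁻¹ : Aˣ) : A) := by rw [← mul_assoc, h2, one_mul]
  · have : ↑u⁻¹ * (∑ S ∈ Finset.powersetCard (p ^ (Fintype.card G).factorization p)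
        (Finset.univ : Finset G), ∏ g ∈ S, g • f) - f ^ (p ^ (Fintype.card G).factorization p) =
        ↑u⁻¹ * ((∑ S ∈ Finset.powersetCard (p ^ (Fintype.card G).factorization p)
          (Finset.univ : Finset G), ∏ g ∈ S, g • f) -
          ((Fintype.card G).choose (p ^ (Fintype.card G).factorization p) : A) *
            f ^ (p ^ (Fintype.card G).factorization p)) := by
      rw [mul_sub, ← mul_assoc, ← hu, Units.inv_mul, one_mul]
    rw [this]
    exact I.mul_mem_left _ hσmod

end Groth.Agent.S13162
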