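import Groth.Statements.S13163
import Mathlib
-- import your own Groth.Agent.* helpers here

set_option autoImplicit false
universe u
open ZeroCyc

namespace Groth.Agent.S13163

open Polynomial in
/-- Let P_d(T) = ∏_{0 ≤ i < j ≤ d} (T^i − T^j) − 1 ∈ ℤ[T]. Every residue field of ℤ[T]/(P_d), i.e. every
field receiving a ring homomorphism from it, has at least d + 1 elements. -/
theorem result (d : ℕ) (k : Type u) [Field k]
    (φ : (ℤ[X] ⧸ Ideal.span {(∏ j ∈ Finset.range (d + 1), ∏ i ∈ Finset.range j,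
        ((X : ℤ[X]) ^ i - X ^ j)) - 1}) →+* k) :
    ((d + 1 : ℕ) : Cardinal) ≤ Cardinal.mk k := by
  classical
  set t : k := φ (Ideal.Quotient.mk _ X) with ht
  have h0 : φ (Ideal.Quotient.mk _ ((∏ j ∈ Finset.range (d + 1), ∏ i ∈ Finset.range j,
        ((X : ℤ[X]) ^ i - X ^ j)) - 1)) = 0 := by
    have : Ideal.Quotient.mk (Ideal.span {(∏ j ∈ Finset.range (d + 1), ∏ i ∈ Finset.range j,
        ((X : ℤ[X]) ^ i - X ^ j)) - 1}) ((∏ j ∈ Finset.range (d + 1), ∏ i ∈ Finset.range j,
        ((X : ℤ[X]) ^ i - X ^ j)) - 1) = 0 :=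
      Ideal.Quotient.eq_zero_iff_mem.mpr (Ideal.mem_span_singleton_self _)
    rw [this, map_zero]
  have h1 : (∏ j ∈ Finset.range (d + 1), ∏ i ∈ Finset.range j, (t ^ i - t ^ j)) = 1 := by
    have := h0
    rw [map_sub, map_sub, map_one, map_one, sub_eq_zero] at this
    rw [← this]
    simp only [map_prod, map_sub, map_pow, ht]
  have hinj : Function.Injective (fun i : Fin (d + 1) => t ^ (i : ℕ)) := by
    intro a b hab
    by_contra hne
    have key : ∀ i j : ℕ, i < j → j < d + 1 → t ^ i ≠ t ^ j := by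
      intro i j hij hj heq
      have : (∏ j ∈ Finset.range (d + 1), ∏ i ∈ Finset.range j, (t ^ i - t ^ j)) = 0 := by
        apply Finset.prod_eq_zero (Finset.mem_range.mpr hj)
        apply Finset.prod_eq_zero (Finset.mem_range.mpr hij)
        rw [heq, sub_self]
      rw [h1] at this
      exact one_ne_zero this
    have hne' : (a : ℕ) ≠ (b : ℕ) := fun h => hne (Fin.ext h)
    rcases lt_or_gt_of_ne hne' with h | h
    · exact key a b h b.2 hab
    · exact key b a h a.2 hab.symm
  have := Cardinal.lift_mk_le_lift_mk_of_injective hinj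
  simpa using this

end Groth.Agent.S13163
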