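import Groth.Statements.S13166
import Mathlib
-- import your own Groth.Agent.* helpers here

set_option autoImplicit false
universe u
open ZeroCyc

namespace Groth.Agent.S13166.Aux

set_option autoImplicit false

namespace SepPts
open Cardinal

lemma exists_notMem_of_card_le {ι K M : Type*} [Field K] [AddCommGroup M] [Module K M]
    [DecidableEq ι] [DecidableEq K] (s : Finset ι) (p : ι → Submodule K M) (h₁ : ∀ i ∈ s, p i ≠ ⊤)
    (h₂ : ∀ T : Finset K, T.card < s.card → ∃ t, t ∉ T) : ∃ x, ∀ i ∈ s, x ∉ p i := by
  classical
  induction s using Finset.induction_on with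
  | empty => exact ⟨0, by simp⟩
  | insert j s hj ih =>
    rw [Finset.card_insert_of_notMem hj] at h₂
    obtain ⟨y, hy⟩ := ih (fun i hi => h₁ i (Finset.mem_insert_of_mem hi))
      (fun T hT => h₂ T (by omega))
    by_cases hyj : y ∉ p j
    · refine ⟨y, fun i hi => ?_⟩
      rcases Finset.mem_insert.mp hi with rfl | hi
      · exact hyj
      · exact hy i hi
    rw [not_not] at hyj
    obtain ⟨z, hz⟩ : ∃ z, z ∉ p j := by
      by_contra hcon
      push Not at hcon
      exact h₁ j (Finset.mem_insert_self _ _) (eq_top_iff.mpr fun z _ => hcon z)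
    -- for each `i ∈ s` a parameter `t` with `z + t y ∈ p i`, if there is one
    let f : ι → K := fun i => if h : ∃ t : K, z + t • y ∈ p i then h.choose else 0
    obtain ⟨t, ht⟩ := h₂ (s.image f) (lt_of_le_of_lt Finset.card_image_le (Nat.lt_succ_self _))
    refine ⟨z + t • y, fun i hi hmem => ?_⟩
    rcases Finset.mem_insert.mp hi with rfl | hi
    · apply hz
      have := (p i).sub_mem hmem ((p i).smul_mem t hyj)
      simpa using this
    · apply ht
      rw [Finset.mem_image]
      refine ⟨i, hi, ?_⟩
      have hex : ∃ t : K, z + t • y ∈ p i := ⟨t, hmem⟩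
      have hf : f i = hex.choose := by simp only [f]; rw [dif_pos hex]
      have m2 := hex.choose_spec
      by_contra hne
      rw [hf] at hne
      have : (hex.choose - t) • y ∈ p i := by
        have := (p i).sub_mem m2 hmem
        have e : z + hex.choose • y - (z + t • y) = (hex.choose - t) • y := by rw [sub_smul]; abel
        rwa [e] at this
      rw [(p i).smul_mem_iff (sub_ne_zero.mpr hne)] at this
      exact hy _ hi this

variable {k : Type u} [Field k] {B : Type u} [CommRing B] [Algebra k B]

theorem main (V : Submodule k B)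
    (hV : Algebra.adjoin k (V : Set B) = ⊤) {k' : Type u} [Field k'] [Algebra k k']
    {d : ℕ} (x : Fin d → (B →ₐ[k] k')) (hx : Function.Injective x)
    (hk : ((d.choose 2 : ℕ) : Cardinal) ≤ Cardinal.mk k) :
    ∃ b ∈ V, Function.Injective fun i => x i b := by
  classical
  let p : Finset (Fin d) → Submodule k V := fun t =>
    { carrier := {b | ∀ i ∈ t, ∀ j ∈ t, x i b.1 = x j b.1}
      add_mem' := fun {a b} ha hb i hi j hj => by
        simp only [Submodule.coe_add, map_add, ha i hi j hj, hb i hi j hj]
      zero_mem' := fun i _ j _ => by simp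
      smul_mem' := fun c b hb i hi j hj => by
        simp only [Submodule.coe_smul, map_smul, hb i hi j hj] }
  have hp : ∀ t ∈ Finset.powersetCard 2 (Finset.univ : Finset (Fin d)), p t ≠ ⊤ := by
    intro t ht htop
    rw [Finset.mem_powersetCard] at ht
    obtain ⟨i, j, hij, rfl⟩ := Finset.card_eq_two.mp ht.2
    apply hij
    apply hx
    have hall : ∀ b ∈ V, x i b = x j b := by
      intro b hb
      have : (⟨b, hb⟩ : V) ∈ p {i, j} := by rw [htop]; trivial
      exact this i (by simp) j (by simp)
    apply AlgHom.ext_of_adjoin_eq_top hV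
    intro b hb
    exact hall b hb
  have hcard : ∀ T : Finset k,
      T.card < (Finset.powersetCard 2 (Finset.univ : Finset (Fin d))).card → ∃ t, t ∉ T := by
    intro T hT
    rw [Finset.card_powersetCard, Finset.card_univ, Fintype.card_fin] at hT
    by_contra hcon
    push Not at hcon
    letI : Fintype k := ⟨T, hcon⟩
    rw [Cardinal.mk_fintype] at hk
    have h1 : d.choose 2 ≤ Fintype.card k := by exact_mod_cast hk
    have h2 : Fintype.card k = T.card := rfl
    omega
  obtain ⟨b, hb⟩ := exists_notMem_of_card_le _ p hp hcard
  refine ⟨b.1, b.2, ?_⟩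
  intro i j hij
  by_contra hne
  have hmem : ({i, j} : Finset (Fin d)) ∈ Finset.powersetCard 2 (Finset.univ : Finset (Fin d)) := by
    rw [Finset.mem_powersetCard]
    exact ⟨Finset.subset_univ _, Finset.card_pair hne⟩
  apply hb _ hmem
  intro a ha c hc
  simp only [Finset.mem_insert, Finset.mem_singleton] at ha hc
  rcases ha with rfl | rfl <;> rcases hc with rfl | rfl
  · rfl
  · exact hij
  · exact hij.symm
  · rfl

end SepPts

end Groth.Agent.S13166.Aux

namespace Groth.Agent.S13166

/-- Let k be a field, B a k-algebra generated as an algebra by a k-subspace V, k'/k a field extension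
and x_1, …, x_d pairwise distinct k'-points of B ⊗_k k' (equivalently, distinct k-algebra
homomorphisms B → k'). If k has at least d(d − 1)/2 elements, then there is b ∈ V whose values at
x_1, …, x_d are pairwise distinct. -/
theorem result {k : Type u} [Field k] {B : Type u} [CommRing B] [Algebra k B] (V : Submodule k B)
    (hV : Algebra.adjoin k (V : Set B) = ⊤) {k' : Type u} [Field k'] [Algebra k k']
    {d : ℕ} (x : Fin d → (B →ₐ[k] k')) (hx : Function.Injective x)
    (hk : ((d.choose 2 : ℕ) : Cardinal) ≤ Cardinal.mk k) :
    ∃ b ∈ V, Function.Injective fun i => x i b := by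
  exact Aux.SepPts.main V hV x hx hk

end Groth.Agent.S13166
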