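import Groth.Statements.S13167
import Mathlib
import Groth.Agent.Lib.Helper27AvoidPts

set_option autoImplicit false
universe u
open AlgebraicGeometry
open ZeroCyc

namespace Groth.Agent.S13167

/-- Let B be a graded R-algebra generated by its degree-one part B_1, with B_1 a finitely generated
R-module, and let x_1, …, x_d be points of X = Proj B lying over one and the same prime p of R. If
the residue field of p has at least d elements, then some f ∈ B_1 ⊆ Γ(X, O_X(1)) has all the x_i in
D_+(f). (Without the hypothesis on the residue field such an f exists in some B_n with n ≥ 1; that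
first assertion is a known property of ample sheaves and is not restated here.) -/
theorem result {R A : Type u} [CommRing R] [CommRing A] [Algebra R A] (𝒜 : ℕ → Submodule R A) [GradedAlgebra 𝒜]
    (hgen : Algebra.adjoin R (𝒜 1 : Set A) = ⊤) (hfg : (𝒜 1).FG)
    (p : Ideal R) [p.IsPrime] {d : ℕ} (x : Fin d → Proj 𝒜)
    (hx : ∀ i, ((x i).asHomogeneousIdeal.toIdeal).comap (algebraMap R A) = p)
    (hcard : (d : Cardinal) ≤ Cardinal.mk p.ResidueField) :
    ∃ g ∈ 𝒜 1, ∀ i, x i ∈ Proj.basicOpen 𝒜 g := by
  classical
  have hS : ∀ z ∈ Finset.univ.image (fun i => (show ProjectiveSpectrum 𝒜 from x i)),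
      (z.asHomogeneousIdeal.toIdeal).comap (algebraMap R A) = p := by
    intro z hz
    obtain ⟨i, -, rfl⟩ := Finset.mem_image.mp hz
    exact hx i
  have hc : ((Finset.univ.image (fun i => (show ProjectiveSpectrum 𝒜 from x i))).card :
      Cardinal.{u}) ≤ Cardinal.mk p.ResidueField := by
    refine le_trans ?_ hcard
    have h1 : (Finset.univ.image (fun i => (show ProjectiveSpectrum 𝒜 from x i))).card ≤ d :=
      Finset.card_image_le.trans (by simp)
    exact_mod_cast h1
  obtain ⟨g, hg1, hg⟩ := Groth.Agent.Lib.Helper27AvoidPts.exists_avoid 𝒜 hgen p _ hS hc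
  refine ⟨g, hg1, fun i => ?_⟩
  exact (ProjectiveSpectrum.mem_basicOpen 𝒜 g (x i)).mpr
    (hg _ (Finset.mem_image_of_mem _ (Finset.mem_univ i)))

end Groth.Agent.S13167
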