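import Groth.Statements.S13169
import Mathlib
import Groth.Agent.Lib.Helper27TwistAmple2
import Groth.Agent.Lib.Helper27ProjCover

set_option autoImplicit false
universe u
open AlgebraicGeometry
open ZeroCyc

namespace Groth.Agent.S13169

/-- Let B be a graded R-algebra generated by homogeneous elements f_1, …, f_s of positive degrees d_1,
…, d_s, let l be the least common multiple of the d_i and X = Proj B. For n = a l with a ≥ 1, the
twisting sheaf O_X(n) is ample and is generated by its global sections b/1, b ∈ B_n. -/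
theorem result {R A : Type u} [CommRing R] [CommRing A] [Algebra R A] (𝒜 : ℕ → Submodule R A) [GradedAlgebra 𝒜]
    {s : ℕ} (f : Fin s → A) (deg : Fin s → ℕ) (hdeg : ∀ i, 0 < deg i) (hf : ∀ i, f i ∈ 𝒜 (deg i))
    (hgen : Algebra.adjoin R (Set.range f) = ⊤) (a : ℕ) (ha : 0 < a) :
    CohB1.IsAmple (Twist.twist 𝒜 ((a * Finset.univ.lcm deg : ℕ) : ℤ)) ∧
      ProjUP.GeneratedBy (Twist.twist 𝒜 ((a * Finset.univ.lcm deg : ℕ) : ℤ))
        (fun b : 𝒜 (a * Finset.univ.lcm deg) =>
          (Twist.globalOf 𝒜 b : ProjUP.Γm (Twist.twist 𝒜 ((a * Finset.univ.lcm deg : ℕ) : ℤ)))) := by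
  classical
  have hdvd : ∀ i, deg i ∣ Finset.univ.lcm deg := fun i => Finset.dvd_lcm (Finset.mem_univ i)
  have hl : 0 < Finset.univ.lcm deg := by
    apply Nat.pos_of_ne_zero
    rw [Ne, Finset.lcm_eq_zero_iff]
    rintro ⟨i, -, hi⟩
    exact (hdeg i).ne' hi
  have hn : 0 < a * Finset.univ.lcm deg := Nat.mul_pos ha hl
  have hG : ∀ i, f i ^ (a * (Finset.univ.lcm deg / deg i)) ∈ 𝒜 (a * Finset.univ.lcm deg) := by
    intro i
    have e : (a * (Finset.univ.lcm deg / deg i)) • deg i = a * Finset.univ.lcm deg := by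
      rw [smul_eq_mul, mul_assoc, Nat.div_mul_cancel (hdvd i)]
    exact e ▸ SetLike.pow_mem_graded _ (hf i)
  have hcov : ∀ y : Proj 𝒜, ∃ i, f i ^ (a * (Finset.univ.lcm deg / deg i)) ∉
      (show ProjectiveSpectrum 𝒜 from y).asHomogeneousIdeal := by
    intro y
    obtain ⟨i, -, hi⟩ := Groth.Agent.Lib.Helper27ProjCover.exists_not_mem 𝒜 f deg hf hgen y
    exact ⟨i, fun h => hi ((show ProjectiveSpectrum 𝒜 from y).isPrime.mem_of_pow_mem _ h)⟩
  haveI : CompactSpace (Proj 𝒜) := by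
    refine ⟨?_⟩
    have huniv : (Set.univ : Set (Proj 𝒜)) =
        ⋃ i : Fin s, ((Proj.basicOpen 𝒜 (f i) : (Proj 𝒜).Opens) : Set (Proj 𝒜)) := by
      apply Set.eq_of_subset_of_subset
      · intro y _
        obtain ⟨i, -, hi⟩ := Groth.Agent.Lib.Helper27ProjCover.exists_not_mem 𝒜 f deg hf hgen y
        exact Set.mem_iUnion.mpr ⟨i, (ProjectiveSpectrum.mem_basicOpen 𝒜 (f i) y).mpr hi⟩
      · exact Set.subset_univ _
    rw [huniv]
    exact isCompact_iUnion (fun i => (Proj.isAffineOpen_basicOpen 𝒜 (f i) (hf i) (hdeg i)).isCompact)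
  exact ⟨Groth.Agent.Lib.Helper27GrTildeSect.isAmple_of_cover 𝒜 (a * Finset.univ.lcm deg)
      (fun i => f i ^ (a * (Finset.univ.lcm deg / deg i))) hG hcov hn,
    Groth.Agent.Lib.Helper27GrTildeSect.generatedBy_of_cover 𝒜 (a * Finset.univ.lcm deg)
      (fun i => f i ^ (a * (Finset.univ.lcm deg / deg i))) hG hcov⟩

end Groth.Agent.S13169
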