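import Groth.Statements.S13170
import Mathlib
import Groth.Agent.Lib.Helper27GrTildeMul2
import Groth.Agent.Lib.Helper27ProjCover

set_option autoImplicit false
universe u
open AlgebraicGeometry CategoryTheory
open ZeroCyc

namespace Groth.Agent.S13170

/-- Let B be a graded R-algebra generated by homogeneous elements f_1, …, f_s of positive degrees d_1,
…, d_s, let l be the least common multiple of the d_i and X = Proj B. For all integers a and n,
O_X(al) ⊗ O_X(n) ≅ O_X(al + n). (The published statement asserts that the canonical multiplication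
map is an isomorphism; this row asserts only that an isomorphism exists.) -/
theorem result {R A : Type u} [CommRing R] [CommRing A] [Algebra R A] (𝒜 : ℕ → Submodule R A) [GradedAlgebra 𝒜]
    {s : ℕ} (f : Fin s → A) (deg : Fin s → ℕ) (hdeg : ∀ i, 0 < deg i) (hf : ∀ i, f i ∈ 𝒜 (deg i))
    (hgen : Algebra.adjoin R (Set.range f) = ⊤) (a n : ℤ) :
    Nonempty (CohB1.tensorMod (Twist.twist 𝒜 (a * (Finset.univ.lcm deg : ℕ))) (Twist.twist 𝒜 n) ≅
      Twist.twist 𝒜 (a * (Finset.univ.lcm deg : ℕ) + n)) := by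
  apply Groth.Agent.Lib.Helper27GrTildeSect.nonempty_tensor_iso_of_cover 𝒜
    (rfl : a * ((Finset.univ.lcm deg : ℕ) : ℤ) + n = a * ((Finset.univ.lcm deg : ℕ) : ℤ) + n)
  intro y
  obtain ⟨i0, -, hi0⟩ := Groth.Agent.Lib.Helper27ProjCover.exists_not_mem 𝒜 f deg hf hgen y
  obtain ⟨c, hc⟩ : deg i0 ∣ Finset.univ.lcm deg := Finset.dvd_lcm (Finset.mem_univ i0)
  have hpq : (((a * c).toNat : ℕ) : ℤ) - ((-(a * c)).toNat : ℕ) = a * c := by omega
  generalize (a * c).toNat = P at hpq
  generalize (-(a * (c : ℤ))).toNat = Q at hpq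
  have hW : ∀ (k : ℕ) (z : (Proj.basicOpen 𝒜 (f i0) : (Proj 𝒜).Opens)),
      f i0 ^ k ∉ z.1.asHomogeneousIdeal := fun k z h =>
    (ProjectiveSpectrum.mem_basicOpen 𝒜 (f i0) z.1).mp z.2 (z.1.isPrime.mem_of_pow_mem _ h)
  refine ⟨Proj.basicOpen 𝒜 (f i0), P • deg i0, Q • deg i0, f i0 ^ P, f i0 ^ Q,
    (ProjectiveSpectrum.mem_basicOpen 𝒜 (f i0) y).mpr hi0,
    SetLike.pow_mem_graded P (hf i0), SetLike.pow_mem_graded Q (hf i0), ?_, hW Q, hW P⟩
  rw [hc]
  simp only [smul_eq_mul]
  push_cast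
  have : (P : ℤ) = Q + a * c := by omega
  rw [this]
  ring

end Groth.Agent.S13170
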