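import Groth.Statements.S13174
import Mathlib
-- import your own Groth.Agent.* helpers here

set_option autoImplicit false
universe u v w
open scoped TensorProduct
open ZeroCyc

namespace Groth.Agent.S13174

section aux
open TensorProduct LinearMap MvPolynomial

theorem exists_commRing {A : Type u} [CommRing A] (S : Type u) [inst : CommSemiring S]
    [Algebra A S] : ∃ r : CommRing S, r.toCommSemiring = inst :=
  ⟨RingHom.commSemiringToCommRing (algebraMap A S), rfl⟩

variable {A : Type u} [CommRing A] {M : Type v} [AddCommGroup M] [Module A M]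
  {N : Type w} [AddCommGroup N] [Module A N]
  (T : ∀ n : ℕ, MvPolynomial (Fin n) A ⊗[A] M → MvPolynomial (Fin n) A ⊗[A] N)
  (hT : ∀ (n m : ℕ) (φ : MvPolynomial (Fin n) A →ₐ[A] MvPolynomial (Fin m) A),
    φ.toLinearMap.rTensor N ∘ T n = T m ∘ φ.toLinearMap.rTensor M)
  {S : Type u} [CommRing S] [Algebra A S]

include hT in
theorem hT' {n m : ℕ} (φ : MvPolynomial (Fin n) A →ₐ[A] MvPolynomial (Fin m) A)
    (x : MvPolynomial (Fin n) A ⊗[A] M) :
    φ.toLinearMap.rTensor N (T n x) = T m (φ.toLinearMap.rTensor M x) :=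
  congr_fun (hT n m φ) x

include hT in
theorem transport {n k : ℕ} (ι : MvPolynomial (Fin n) A →ₐ[A] MvPolynomial (Fin k) A)
    (Ψ : MvPolynomial (Fin k) A →ₐ[A] S) (ψ : MvPolynomial (Fin n) A →ₐ[A] S)
    (h : Ψ.comp ι = ψ) (p : MvPolynomial (Fin n) A ⊗[A] M) :
    ψ.toLinearMap.rTensor N (T n p) =
      Ψ.toLinearMap.rTensor N (T k (ι.toLinearMap.rTensor M p)) := by
  subst h
  rw [AlgHom.comp_toLinearMap, rTensor_comp, LinearMap.comp_apply, hT' T hT]

theorem transport' {n k : ℕ} (ι : MvPolynomial (Fin n) A →ₐ[A] MvPolynomial (Fin k) A)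
    (Ψ : MvPolynomial (Fin k) A →ₐ[A] S) (ψ : MvPolynomial (Fin n) A →ₐ[A] S)
    (h : Ψ.comp ι = ψ) (p : MvPolynomial (Fin n) A ⊗[A] M) :
    ψ.toLinearMap.rTensor M p = Ψ.toLinearMap.rTensor M (ι.toLinearMap.rTensor M p) := by
  subst h
  rw [AlgHom.comp_toLinearMap, rTensor_comp, LinearMap.comp_apply]

include hT in
theorem L1 {n : ℕ} (Ψ : MvPolynomial (Fin n) A →ₐ[A] S) (k : MvPolynomial (Fin n) A)
    (hk : Ψ k = 0) (m : M) (q' : MvPolynomial (Fin n) A ⊗[A] M) :
    Ψ.toLinearMap.rTensor N (T n (q' + k ⊗ₜ[A] m)) = Ψ.toLinearMap.rTensor N (T n q') := by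
  let ι : MvPolynomial (Fin n) A →ₐ[A] MvPolynomial (Fin (n + 1)) A := rename Fin.castSucc
  let α : MvPolynomial (Fin (n + 1)) A →ₐ[A] MvPolynomial (Fin n) A :=
    aeval (Fin.snoc (fun i => X i) k : Fin (n + 1) → MvPolynomial (Fin n) A)
  let β : MvPolynomial (Fin (n + 1)) A →ₐ[A] MvPolynomial (Fin n) A :=
    aeval (Fin.snoc (fun i => X i) 0 : Fin (n + 1) → MvPolynomial (Fin n) A)
  let Q : MvPolynomial (Fin (n + 1)) A ⊗[A] M :=
    ι.toLinearMap.rTensor M q' + (X (Fin.last n)) ⊗ₜ[A] m
  have hα : α.comp ι = AlgHom.id A _ := by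
    apply MvPolynomial.algHom_ext
    intro i
    simp [ι, α]
  have hβ : β.comp ι = AlgHom.id A _ := by
    apply MvPolynomial.algHom_ext
    intro i
    simp [ι, β]
  have hαQ : α.toLinearMap.rTensor M Q = q' + k ⊗ₜ[A] m := by
    simp only [Q, map_add, rTensor_tmul, ← LinearMap.comp_apply, ← rTensor_comp,
      ← AlgHom.comp_toLinearMap, hα]
    simp [α]
  have hβQ : β.toLinearMap.rTensor M Q = q' := by
    simp only [Q, map_add, rTensor_tmul, ← LinearMap.comp_apply, ← rTensor_comp,
      ← AlgHom.comp_toLinearMap, hβ]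
    simp [β]
  have hΨ : Ψ.comp α = Ψ.comp β := by
    apply MvPolynomial.algHom_ext
    intro i
    refine Fin.lastCases ?_ (fun j => ?_) i
    · simp [α, β, hk]
    · simp [α, β]
  calc Ψ.toLinearMap.rTensor N (T n (q' + k ⊗ₜ[A] m))
      = Ψ.toLinearMap.rTensor N (T n (α.toLinearMap.rTensor M Q)) := by rw [hαQ]
    _ = (Ψ.comp α).toLinearMap.rTensor N (T (n + 1) Q) := by
        rw [← hT' T hT, AlgHom.comp_toLinearMap, rTensor_comp, LinearMap.comp_apply]
    _ = (Ψ.comp β).toLinearMap.rTensor N (T (n + 1) Q) := by rw [hΨ]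
    _ = Ψ.toLinearMap.rTensor N (T n (β.toLinearMap.rTensor M Q)) := by
        rw [← hT' T hT, AlgHom.comp_toLinearMap, rTensor_comp, LinearMap.comp_apply]
    _ = _ := by rw [hβQ]

include hT in
theorem L2 {n : ℕ} (Ψ : MvPolynomial (Fin n) A →ₐ[A] S)
    (w : (LinearMap.ker Ψ.toLinearMap) ⊗[A] M) (q' : MvPolynomial (Fin n) A ⊗[A] M) :
    Ψ.toLinearMap.rTensor N (T n (q' + (LinearMap.ker Ψ.toLinearMap).subtype.rTensor M w)) =
      Ψ.toLinearMap.rTensor N (T n q') := by
  induction w using TensorProduct.induction_on generalizing q' with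
  | zero => simp
  | tmul k m =>
    rw [rTensor_tmul]
    apply L1 T hT
    have := k.2
    rw [LinearMap.mem_ker] at this
    exact this
  | add w₁ w₂ ih₁ ih₂ =>
    rw [map_add, ← add_assoc, ih₂, ih₁]

include hT in
theorem L3 {n : ℕ} (Ψ : MvPolynomial (Fin n) A →ₐ[A] S)
    (q q' : MvPolynomial (Fin n) A ⊗[A] M)
    (h : Ψ.rangeRestrict.toLinearMap.rTensor M q = Ψ.rangeRestrict.toLinearMap.rTensor M q') :
    Ψ.toLinearMap.rTensor N (T n q) = Ψ.toLinearMap.rTensor N (T n q') := by
  have hex0 : Function.Exact (LinearMap.ker Ψ.toLinearMap).subtype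
      Ψ.rangeRestrict.toLinearMap := by
    intro x
    constructor
    · intro hx
      refine ⟨⟨x, ?_⟩, rfl⟩
      rw [LinearMap.mem_ker]
      have := congr_arg Subtype.val hx
      simpa using this
    · rintro ⟨y, rfl⟩
      have := y.2
      rw [LinearMap.mem_ker] at this
      apply Subtype.ext
      show Ψ.toLinearMap (y : MvPolynomial (Fin n) A) = 0
      exact this
  have hex : Function.Exact ((LinearMap.ker Ψ.toLinearMap).subtype.rTensor M)
      (Ψ.rangeRestrict.toLinearMap.rTensor M) :=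
    rTensor_exact M hex0 Ψ.rangeRestrict_surjective
  have h0 : Ψ.rangeRestrict.toLinearMap.rTensor M (q - q') = 0 := by
    rw [map_sub, h, sub_self]
  obtain ⟨w, hw⟩ := (hex _).1 h0
  have : q = q' + (LinearMap.ker Ψ.toLinearMap).subtype.rTensor M w := by
    rw [hw]; abel
  rw [this, L2 T hT]

include hT in
theorem L4 {n : ℕ} (Ψ : MvPolynomial (Fin n) A →ₐ[A] S)
    (q q' : MvPolynomial (Fin n) A ⊗[A] M)
    (h : Ψ.toLinearMap.rTensor M q = Ψ.toLinearMap.rTensor M q') :
    Ψ.toLinearMap.rTensor N (T n q) = Ψ.toLinearMap.rTensor N (T n q') := by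
  have hB₀ : Subalgebra.FG (R := A) Ψ.range := by
    rw [← Algebra.map_top]
    exact Subalgebra.FG.map _ Algebra.FiniteType.out
  have ht : Ψ.range.val.toLinearMap.rTensor M (Ψ.rangeRestrict.toLinearMap.rTensor M q) =
      Ψ.range.val.toLinearMap.rTensor M (Ψ.rangeRestrict.toLinearMap.rTensor M q') := by
    simp only [← LinearMap.comp_apply, ← rTensor_comp, ← AlgHom.comp_toLinearMap,
      AlgHom.val_comp_rangeRestrict, h]
  obtain ⟨B, hB₀B, hBfg, hBeq⟩ := TensorProduct.Algebra.eq_of_fg_of_subtype_eq hB₀ ht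
  obtain ⟨s, hs⟩ := PolynomialLaw.exists_range_φ_eq_of_fg hBfg
  let χ : MvPolynomial (Fin s.card) A →ₐ[A] S := PolynomialLaw.φ A s
  let Ψ' : MvPolynomial (Fin (n + s.card)) A →ₐ[A] S :=
    aeval (Fin.addCases (fun i => Ψ (X i)) (fun j => χ (X j)) : Fin (n + s.card) → S)
  let ι : MvPolynomial (Fin n) A →ₐ[A] MvPolynomial (Fin (n + s.card)) A :=
    rename (Fin.castAdd s.card)
  let ι' : MvPolynomial (Fin s.card) A →ₐ[A] MvPolynomial (Fin (n + s.card)) A :=
    rename (Fin.natAdd n)
  have h1 : Ψ'.comp ι = Ψ := by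
    apply MvPolynomial.algHom_ext
    intro i
    simp [Ψ', ι]
  have h2 : Ψ'.comp ι' = χ := by
    apply MvPolynomial.algHom_ext
    intro i
    simp [Ψ', ι']
  rw [transport T hT ι Ψ' Ψ h1 q, transport T hT ι Ψ' Ψ h1 q']
  apply L3 T hT
  have hBle : B ≤ Ψ'.range := by
    rw [← hs]
    show χ.range ≤ Ψ'.range
    rw [← h2]
    exact AlgHom.range_comp_le_range _ _
  have hcomp : Ψ'.rangeRestrict.comp ι =
      ((Subalgebra.inclusion hBle).comp (Subalgebra.inclusion hB₀B)).comp Ψ.rangeRestrict := by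
    ext x
    simp only [AlgHom.comp_apply]
    have := congr_arg (fun f => f (X x)) h1
    simpa using this
  calc Ψ'.rangeRestrict.toLinearMap.rTensor M (ι.toLinearMap.rTensor M q)
      = (Subalgebra.inclusion hBle).toLinearMap.rTensor M
        ((Subalgebra.inclusion hB₀B).toLinearMap.rTensor M
          (Ψ.rangeRestrict.toLinearMap.rTensor M q)) := by
        simp only [← LinearMap.comp_apply, ← rTensor_comp, ← AlgHom.comp_toLinearMap, hcomp]
        rfl
    _ = (Subalgebra.inclusion hBle).toLinearMap.rTensor M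
        ((Subalgebra.inclusion hB₀B).toLinearMap.rTensor M
          (Ψ.rangeRestrict.toLinearMap.rTensor M q')) := by rw [hBeq]
    _ = _ := by
        simp only [← LinearMap.comp_apply, ← rTensor_comp, ← AlgHom.comp_toLinearMap, hcomp]
        rfl

include hT in
theorem L5 {n m : ℕ} (ψ : MvPolynomial (Fin n) A →ₐ[A] S) (ψ' : MvPolynomial (Fin m) A →ₐ[A] S)
    (p : MvPolynomial (Fin n) A ⊗[A] M) (p' : MvPolynomial (Fin m) A ⊗[A] M)
    (h : ψ.toLinearMap.rTensor M p = ψ'.toLinearMap.rTensor M p') :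
    ψ.toLinearMap.rTensor N (T n p) = ψ'.toLinearMap.rTensor N (T m p') := by
  let Ψ : MvPolynomial (Fin (n + m)) A →ₐ[A] S :=
    aeval (Fin.addCases (fun i => ψ (X i)) (fun j => ψ' (X j)) : Fin (n + m) → S)
  let ι : MvPolynomial (Fin n) A →ₐ[A] MvPolynomial (Fin (n + m)) A :=
    rename (Fin.castAdd m)
  let ι' : MvPolynomial (Fin m) A →ₐ[A] MvPolynomial (Fin (n + m)) A :=
    rename (Fin.natAdd n)
  have h1 : Ψ.comp ι = ψ := by
    apply MvPolynomial.algHom_ext
    intro i
    simp [Ψ, ι]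
  have h2 : Ψ.comp ι' = ψ' := by
    apply MvPolynomial.algHom_ext
    intro i
    simp [Ψ, ι']
  rw [transport T hT ι Ψ ψ h1 p, transport T hT ι' Ψ ψ' h2 p']
  apply L4 T hT
  rw [← transport' ι Ψ ψ h1 p, ← transport' ι' Ψ ψ' h2 p', h]

end aux

/-- Let M and N be A-modules. Polynomial laws M → N correspond one-to-one, by restriction, to families
of maps T_n : M[t_1, …, t_n] → N[t_1, …, t_n], n ≥ 0, compatible with all A-algebra homomorphisms
A[t_1, …, t_n] → A[t_1, …, t_m]: in the definition of a polynomial law the category of A-algebras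
may be replaced by the polynomial rings in finitely many variables. (Here a polynomial law is given
on all commutative A-algebra semirings of the universe of A.) -/
theorem result {A : Type u} [CommRing A] {M : Type v} [AddCommGroup M] [Module A M] {N : Type w} [AddCommGroup N] [Module A N] :
    Function.Bijective (fun F : M →ₚₗ[A] N =>
      (⟨fun n => F.toFun' (MvPolynomial (Fin n) A), fun n m φ => F.isCompat' φ⟩ :
        {T : ∀ n : ℕ, MvPolynomial (Fin n) A ⊗[A] M → MvPolynomial (Fin n) A ⊗[A] N //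
          ∀ (n m : ℕ) (φ : MvPolynomial (Fin n) A →ₐ[A] MvPolynomial (Fin m) A),
            φ.toLinearMap.rTensor N ∘ T n = T m ∘ φ.toLinearMap.rTensor M})) := by
  classical
  constructor
  · intro F G hFG
    have h : ∀ n : ℕ, F.toFun' (MvPolynomial (Fin n) A) = G.toFun' (MvPolynomial (Fin n) A) := by
      intro n
      have := congr_arg Subtype.val hFG
      exact congr_fun this n
    apply PolynomialLaw.ext
    funext S _ _ x
    obtain ⟨n, ψ, p, rfl⟩ := PolynomialLaw.exists_lift x
    rw [← PolynomialLaw.isCompat_apply', ← PolynomialLaw.isCompat_apply', h n]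
  · rintro ⟨T, hT⟩
    have key : ∀ (S : Type u) [CommSemiring S] [Algebra A S] (x : S ⊗[A] M)
        (n : ℕ) (ψ : MvPolynomial (Fin n) A →ₐ[A] S) (p : MvPolynomial (Fin n) A ⊗[A] M),
        ψ.toLinearMap.rTensor M p = x →
        (PolynomialLaw.exists_lift x).choose_spec.choose.toLinearMap.rTensor N
          (T (PolynomialLaw.exists_lift x).choose
            (PolynomialLaw.exists_lift x).choose_spec.choose_spec.choose) =
        ψ.toLinearMap.rTensor N (T n p) := by
      intro S inst _ x n ψ p hp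
      obtain ⟨r, rfl⟩ := exists_commRing (A := A) S
      apply L5 T hT
      rw [hp]
      exact (PolynomialLaw.exists_lift x).choose_spec.choose_spec.choose_spec
    let F : M →ₚₗ[A] N :=
      { toFun' := fun S _ _ x =>
          (PolynomialLaw.exists_lift x).choose_spec.choose.toLinearMap.rTensor N
          (T (PolynomialLaw.exists_lift x).choose
            (PolynomialLaw.exists_lift x).choose_spec.choose_spec.choose)
        isCompat' := by
          intro S _ _ S' _ _ φ
          funext x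
          obtain ⟨n, ψ, p, hp⟩ := PolynomialLaw.exists_lift x
          simp only [Function.comp_apply]
          rw [key S x n ψ p hp, key S' (φ.toLinearMap.rTensor M x) n (φ.comp ψ) p
            (by rw [AlgHom.comp_toLinearMap, LinearMap.rTensor_comp, LinearMap.comp_apply, hp])]
          rw [AlgHom.comp_toLinearMap, LinearMap.rTensor_comp, LinearMap.comp_apply] }
    refine ⟨F, ?_⟩
    apply Subtype.ext
    funext n p
    show F.toFun' (MvPolynomial (Fin n) A) p = T n p
    have := key (MvPolynomial (Fin n) A) p n (AlgHom.id A _) p (by simp)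
    rw [show F.toFun' (MvPolynomial (Fin n) A) p = _ from this]
    simp

end Groth.Agent.S13174
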