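import Groth.Statements.S13175
import Mathlib
-- import your own Groth.Agent.* helpers here

set_option autoImplicit false
universe u v w
open scoped TensorProduct
open ZeroCyc

namespace Groth.Agent.S13175

open TensorProduct PolynomialLaw in
/-- Simultaneous lift of two tensors to a polynomial ring. -/
theorem exists_lift₂ {A : Type u} [CommRing A] {B : Type v} [CommRing B] [Algebra A B]
    (S : Type u) [CommRing S] [Algebra A S] (x y : S ⊗[A] B) :
    ∃ (n : ℕ) (ψ : MvPolynomial (Fin n) A →ₐ[A] S) (p q : MvPolynomial (Fin n) A ⊗[A] B),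
      ψ.toLinearMap.rTensor B p = x ∧ ψ.toLinearMap.rTensor B q = y := by
  obtain ⟨Ax, hAx, hx⟩ := TensorProduct.Algebra.exists_of_fg x
  obtain ⟨Ay, hAy, hy⟩ := TensorProduct.Algebra.exists_of_fg y
  have hB : Subalgebra.FG (Ax ⊔ Ay) := Subalgebra.FG.sup hAx hAy
  obtain ⟨gen, hgen⟩ := PolynomialLaw.exists_range_φ_eq_of_fg hB
  have h1 : Ax ≤ (PolynomialLaw.φ A gen).range := by rw [hgen]; exact le_sup_left
  have h2 : Ay ≤ (PolynomialLaw.φ A gen).range := by rw [hgen]; exact le_sup_right
  obtain ⟨p, hp⟩ := PolynomialLaw.exists_lift_of_mem_range_rTensor _ h1 hx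
  obtain ⟨q, hq⟩ := PolynomialLaw.exists_lift_of_mem_range_rTensor _ h2 hy
  exact ⟨gen.card, PolynomialLaw.φ A gen, p, q, hp, hq⟩

open TensorProduct in
theorem rTensor_eq_map {A : Type u} [CommRing A] {B : Type v} [CommRing B] [Algebra A B]
    {P S : Type u} [CommRing P] [Algebra A P] [CommRing S] [Algebra A S] (ψ : P →ₐ[A] S)
    (z : P ⊗[A] B) :
    ψ.toLinearMap.rTensor B z = Algebra.TensorProduct.map ψ (AlgHom.id A B) z := by
  induction z using TensorProduct.induction_on with
  | zero => simp
  | tmul a b => simp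
  | add a b ha hb => simp only [map_add, ha, hb]

/-- Let B and C be A-algebras and F : B → C a polynomial law. If the maps F over the polynomial rings
A[t_1, …, t_n], n ≥ 0, are multiplicative (send 1 to 1 and products to products), then F is a
multiplicative law: F sends 1 to 1 and products to products over every A-algebra. -/
theorem result {A : Type u} [CommRing A] {B : Type v} [CommRing B] [Algebra A B] {C : Type w} [CommRing C] [Algebra A C]
    (F : B →ₚₗ[A] C)
    (h1 : ∀ n : ℕ, F.toFun' (MvPolynomial (Fin n) A) 1 = 1)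
    (hmul : ∀ (n : ℕ) (x y : MvPolynomial (Fin n) A ⊗[A] B),
      F.toFun' (MvPolynomial (Fin n) A) (x * y) = F.toFun' (MvPolynomial (Fin n) A) x * F.toFun' (MvPolynomial (Fin n) A) y) :
    ∀ (S : Type u) [CommRing S] [Algebra A S], F.toFun' S 1 = 1 ∧
      ∀ x y : S ⊗[A] B, F.toFun' S (x * y) = F.toFun' S x * F.toFun' S y := by
  intro S _ _
  constructor
  · let ψ₀ : MvPolynomial (Fin 0) A →ₐ[A] S := MvPolynomial.aeval (fun i : Fin 0 => i.elim0)
    have h := PolynomialLaw.isCompat_apply' (f := F) ψ₀ (1 : MvPolynomial (Fin 0) A ⊗[A] B)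
    rw [h1 0, rTensor_eq_map, rTensor_eq_map, map_one, map_one] at h
    exact h.symm
  · intro x y
    obtain ⟨n, ψ, p, q, rfl, rfl⟩ := exists_lift₂ (A := A) (B := B) S x y
    have hpq : ψ.toLinearMap.rTensor B p * ψ.toLinearMap.rTensor B q =
        ψ.toLinearMap.rTensor B (p * q) := by
      rw [rTensor_eq_map, rTensor_eq_map, rTensor_eq_map, map_mul]
    rw [hpq, ← PolynomialLaw.isCompat_apply', ← PolynomialLaw.isCompat_apply',
      ← PolynomialLaw.isCompat_apply', hmul, rTensor_eq_map, rTensor_eq_map, rTensor_eq_map, map_mul]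

end Groth.Agent.S13175
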