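import Groth.Statements.S13176
import Mathlib
import Groth.Agent.Lib.Helper27QuotInt

set_option autoImplicit false
universe u
open CategoryTheory CategoryTheory.Limits AlgebraicGeometry
open ZeroCyc

namespace Groth.Agent.S13176

/-- Let a finite group G act on a scheme X over S through ρ, let q : X → Y be a quotient of X by G over
S (affine, G-invariant, O_Y = the G-invariant sections of O_X), let S' → S be any morphism and X' =
X ×_S S' with the induced action ρ', and let r : X' → Y' be a quotient of X' by G. Then the morphism
Y' → Y ×_S S' through which the canonical map X' → Y ×_S S' factors via r is a universal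
homeomorphism. (The published statement assumes every G-orbit lies in an affine open, which is what
makes the quotients exist; here the two quotients are hypotheses.) -/
theorem result {X Y S S' Y' : Scheme.{u}} {G : Type u} [Group G] [Finite G]
    (ρ : G →* Aut X) (f : X ⟶ S) (hρ : ∀ σ : G, (ρ σ).hom ≫ f = f)
    (q : X ⟶ Y) (h : Y ⟶ S) (hq : q ≫ h = f) (hquot : SGA1.IsQuot ρ q)
    (g : S' ⟶ S)
    (ρ' : G →* Aut (pullback f g))
    (hρ' : ∀ σ : G, (ρ' σ).hom ≫ pullback.fst f g = pullback.fst f g ≫ (ρ σ).hom ∧
      (ρ' σ).hom ≫ pullback.snd f g = pullback.snd f g)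
    (r : pullback f g ⟶ Y') (hr : SGA1.IsQuot ρ' r)
    (m : Y' ⟶ pullback h g)
    (hm : r ≫ m = pullback.map f g h g q (𝟙 S') (𝟙 S)
      ((Category.comp_id f).trans hq.symm) ((Category.comp_id g).trans (Category.id_comp g).symm)) :
    FlatMor.IsUnivHomeo m := by
  have hqint : IsIntegralHom q := Groth.Agent.Lib.Helper27QuotInt.isIntegralHom_of_isQuot hquot
  have hqsurj : Surjective q := ⟨Groth.Agent.Lib.Helper20.surjective_of_isQuot hquot⟩
  haveI : MorphismProperty.IsStableUnderComposition @Surjective.{u} :=
    (inferInstance : MorphismProperty.IsMultiplicative @Surjective.{u}).toIsStableUnderComposition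
  have hqq1 : IsIntegralHom (pullback.map f g h g q (𝟙 S') (𝟙 S)
      ((Category.comp_id f).trans hq.symm) ((Category.comp_id g).trans (Category.id_comp g).symm)) :=
    MorphismProperty.pullbackMap (P := @IsIntegralHom) hqint
      (inferInstance : IsIntegralHom (𝟙 S')) hq.symm (Category.id_comp g).symm
  have hqq2 : Surjective (pullback.map f g h g q (𝟙 S') (𝟙 S)
      ((Category.comp_id f).trans hq.symm) ((Category.comp_id g).trans (Category.id_comp g).symm)) :=
    MorphismProperty.pullbackMap (P := @Surjective) hqsurj
      (inferInstance : Surjective (𝟙 S')) hq.symm (Category.id_comp g).symm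
  rw [← hm] at hqq1 hqq2
  haveI hmint : IsIntegralHom m := Groth.Agent.Lib.Helper27QuotInt.isIntegralHom_of_comp hr m
  haveI hmsurj : Surjective m := Surjective.of_comp r m
  haveI hmui : UniversallyInjective m := by
    refine Groth.Agent.Lib.Helper27QuotPts.universallyInjective_of_pts hr m ?_
    intro K _ a b hab
    rw [hm] at hab
    have h1 : (a ≫ pullback.fst f g) ≫ q = (b ≫ pullback.fst f g) ≫ q := by
      have := congrArg (fun t => t ≫ pullback.fst h g) hab
      simpa only [Category.assoc, pullback.lift_fst, pullback.map] using this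
    have h2 : a ≫ pullback.snd f g = b ≫ pullback.snd f g := by
      have := congrArg (fun t => t ≫ pullback.snd h g) hab
      simpa only [Category.assoc, pullback.lift_snd, pullback.map, Category.comp_id] using this
    obtain ⟨σ, hσ⟩ := Groth.Agent.Lib.Helper27QuotPts.exists_rho_of_comp_eq hquot _ _ h1
    refine ⟨σ, ?_⟩
    apply pullback.hom_ext
    · rw [hσ, Category.assoc, Category.assoc, (hρ' σ).1]
    · rw [h2.symm, Category.assoc, (hρ' σ).2]
  exact Groth.Agent.Lib.Helper27QuotInt.isUnivHomeo_of m

end Groth.Agent.S13176
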