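import Groth.Statements.S13177
import Mathlib
import Groth.Agent.Lib.Helper27QuotInt

set_option autoImplicit false
universe u
open CategoryTheory CategoryTheory.Limits AlgebraicGeometry
open ZeroCyc

namespace Groth.Agent.S13177

/-- Let a finite group G act on a scheme X with quotient q : X → Y (affine, G-invariant, O_Y = the
invariant sections), let i : Z → X be a G-stable closed subscheme with the induced action and r : Z
→ W a quotient of Z by G, and let q(Z) be the scheme-theoretic image of Z in Y. Then the morphism W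
→ q(Z) through which Z → q(Z) factors via r is a schematically dominant universal homeomorphism.
(The published statement assumes the quotient of X exists; here both quotients are hypotheses.) -/
theorem result {X Y Z W : Scheme.{u}} {G : Type u} [Group G] [Finite G]
    (ρ : G →* Aut X) (q : X ⟶ Y) (hquot : SGA1.IsQuot ρ q)
    (i : Z ⟶ X) [IsClosedImmersion i] (ρZ : G →* Aut Z) (hρZ : ∀ σ : G, (ρZ σ).hom ≫ i = i ≫ (ρ σ).hom)
    (r : Z ⟶ W) (hr : SGA1.IsQuot ρZ r)
    (m : W ⟶ (i ≫ q).ker.subscheme) (hm : r ≫ m ≫ (i ≫ q).ker.subschemeι = i ≫ q) :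
    FlatMor.IsUnivHomeo m ∧ IsSchemeTheoreticallyDominant m := by
  have hqint : IsIntegralHom q := Groth.Agent.Lib.Helper27QuotInt.isIntegralHom_of_isQuot hquot
  haveI hF : IsIntegralHom (i ≫ q) := inferInstance
  haveI h1 : IsIntegralHom (r ≫ (m ≫ (i ≫ q).ker.subschemeι)) := by rw [hm]; exact hF
  haveI h2 : IsIntegralHom (m ≫ (i ≫ q).ker.subschemeι) :=
    Groth.Agent.Lib.Helper27QuotInt.isIntegralHom_of_comp hr _
  haveI h3 : IsIntegralHom m := IsIntegralHom.of_comp m (i ≫ q).ker.subschemeι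
  have hrm : r ≫ m = (i ≫ q).toImage := by
    rw [← cancel_mono (i ≫ q).ker.subschemeι, Category.assoc, hm, Scheme.Hom.toImage_imageι]
  haveI h4 : IsIntegralHom ((r ≫ m) ≫ (i ≫ q).ker.subschemeι) := by
    rw [Category.assoc]; exact h1
  haveI h5 : IsIntegralHom (r ≫ m) := IsIntegralHom.of_comp (r ≫ m) (i ≫ q).ker.subschemeι
  haveI hsurj_rm : Surjective (r ≫ m) := by
    constructor
    have hd : DenseRange (r ≫ m).base := by
      rw [hrm]; exact Scheme.Hom.denseRange _
    have hc : IsClosed (Set.range (r ≫ m).base) := (r ≫ m).isClosedMap.isClosed_range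
    rw [← Set.range_eq_univ, ← hc.closure_eq]
    exact hd.closure_range
  haveI hsurj : Surjective m := Surjective.of_comp r m
  haveI hui : UniversallyInjective m := by
    refine Groth.Agent.Lib.Helper27QuotPts.universallyInjective_of_pts hr m ?_
    intro K _ a b hab
    have hab' : (a ≫ i) ≫ q = (b ≫ i) ≫ q := by
      have := congrArg (fun t => t ≫ (i ≫ q).ker.subschemeι) hab
      simpa only [Category.assoc, hm] using this
    obtain ⟨σ, hσ⟩ := Groth.Agent.Lib.Helper27QuotPts.exists_rho_of_comp_eq hquot _ _ hab'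
    refine ⟨σ, ?_⟩
    rw [← cancel_mono i, hσ, Category.assoc, Category.assoc, hρZ]
  refine ⟨Groth.Agent.Lib.Helper27QuotInt.isUnivHomeo_of m, ⟨?_⟩⟩
  -- scheme-theoretic dominance
  refine Scheme.IdealSheafData.ext_of_iSup_eq_top
    (fun V : Y.affineOpens => (⟨(i ≫ q).ker.subschemeι ⁻¹ᵁ V.1,
      V.2.preimage (i ≫ q).ker.subschemeι⟩ : (i ≫ q).ker.subscheme.affineOpens)) ?_ ?_
  · rw [eq_top_iff]
    intro x _
    obtain ⟨V, hV, hxV⟩ := Groth.Agent.Lib.Helper20.exists_affine_nhd Y
      ((i ≫ q).ker.subschemeι.base x)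
    exact TopologicalSpace.Opens.mem_iSup.mpr ⟨⟨V, hV⟩, hxV⟩
  · intro V
    rw [Scheme.Hom.ker_apply, Scheme.IdealSheafData.ideal_bot, Pi.bot_apply,
      ← RingHom.injective_iff_ker_eq_bot]
    have hinj := Scheme.Hom.toImage_app_injective (i ≫ q) V
    rw [← hrm] at hinj
    have e : (r ≫ m).app ((i ≫ q).ker.subschemeι ⁻¹ᵁ V.1) =
      m.app ((i ≫ q).ker.subschemeι ⁻¹ᵁ V.1) ≫ r.app (m ⁻¹ᵁ ((i ≫ q).ker.subschemeι ⁻¹ᵁ V.1)) :=
      Scheme.Hom.comp_app r m _
    intro s t hst
    apply hinj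
    change ((r ≫ m).app _).hom s = ((r ≫ m).app _).hom t
    rw [e]
    change (r.app _).hom ((m.app _).hom s) = (r.app _).hom ((m.app _).hom t)
    rw [hst]

end Groth.Agent.S13177
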