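import Groth.Statements.S13182
import Mathlib
import Groth.Agent.Lib.Helper27VeryAmpleLcm

set_option autoImplicit false
universe u
open CategoryTheory CategoryTheory.Limits AlgebraicGeometry
open ZeroCyc

namespace Groth.Agent.S13182

/-- Let B be a graded R-algebra generated by homogeneous elements f_1, …, f_s of positive degrees d_1,
…, d_s, let l be the least common multiple of the d_i and X = Proj B. For n = a l with a ≥ max(1, s
− 1) there is a closed immersion i of X into a projective space over R, over Spec R, with O_X(n) ≅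
i^*O(1); in particular O_X(n) is very ample relative to Spec R. (The published statement takes for i
the canonical morphism into P(B_n) given by the sections B_n; this row asserts only a closed
immersion into some projective space P^N over R with an isomorphism O_X(n) ≅ i^*O(1).) -/
theorem result {R A : Type u} [CommRing R] [CommRing A] [Algebra R A] (𝒜 : ℕ → Submodule R A) [GradedAlgebra 𝒜]
    {s : ℕ} (f : Fin s → A) (deg : Fin s → ℕ) (hdeg : ∀ i, 0 < deg i) (hf : ∀ i, f i ∈ 𝒜 (deg i))
    (hgen : Algebra.adjoin R (Set.range f) = ⊤) (a : ℕ) (ha : 0 < a) (has : s - 1 ≤ a) :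
    ∃ (N : ℕ) (i : Proj 𝒜 ⟶ CohB1.ProjSpaceOver N (Spec (CommRingCat.of R))), IsClosedImmersion i ∧
      i ≫ pullback.snd (CohB1.ProjSpace.toSpec N (ULift.{u} ℤ)) (specULiftZIsTerminal.from (Spec (CommRingCat.of R))) =
        Proj.toSpecZero 𝒜 ≫ Spec.map (CommRingCat.ofHom (algebraMap R (𝒜 0))) ∧
      Nonempty (Twist.twist 𝒜 ((a * Finset.univ.lcm deg : ℕ) : ℤ) ≅
        (Scheme.Modules.pullback i).obj (Twist.twistOver N (Spec (CommRingCat.of R)) 1)) := by
  classical
  have hft0 : Algebra.FiniteType R A := by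
    refine ⟨⟨Finset.univ.image f, ?_⟩⟩
    rw [Finset.coe_image, Finset.coe_univ, Set.image_univ]
    exact hgen
  have hst : IsScalarTower R (𝒜 0) A := ⟨fun r a x => by
    change ((r • a : 𝒜 0) : A) * x = r • ((a : A) * x)
    rw [Submodule.coe_smul, smul_mul_assoc]⟩
  have hft : Algebra.FiniteType (𝒜 0) A := Algebra.FiniteType.of_restrictScalars_finiteType R (𝒜 0) A
  have hsurj : Function.Surjective (algebraMap R (𝒜 0)) :=
    Groth.Agent.Lib.Helper27VeryAmpleDeg1.surjective_algebraMap_zero 𝒜 (Set.range f) hgen (by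
      rintro _ ⟨i, rfl⟩
      exact ⟨deg i, hdeg i, hf i⟩)
  obtain ⟨M, i, hi, hi2, hiso⟩ :=
    Groth.Agent.Lib.Helper27VeryAmpleLcm.exists_closedImmersion_lcm (𝒜 := 𝒜) (f := f) (deg := deg)
      hdeg hf hgen a ha has hsurj
  exact ⟨M, i, hi, hi2, hiso⟩

end Groth.Agent.S13182
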