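import Groth.Statements.S13183
import Mathlib
import Groth.Agent.Lib.Helper27VeryAmpleDeg1

set_option autoImplicit false
universe u
open CategoryTheory CategoryTheory.Limits AlgebraicGeometry
open ZeroCyc

namespace Groth.Agent.S13183

/-- Let B be a graded R-algebra of finite type, generated by elements of degrees between 1 and d, such
that X = Proj B is covered by the opens D_+(g), g ∈ B_1. For n ≥ d, n ≥ 1, there is a closed
immersion i of X into a projective space over R, over Spec R, with O_X(n) ≅ i^*O(1); in particular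
O_X(n) is very ample relative to Spec R. (The published statement assumes neither finite generation
nor that the generators have positive degree, and its target is P(B_n) with i the canonical morphism
given by B_n; a closed immersion into a projective space of finite type over R needs X proper over
R, so B is taken of finite type with generators of positive degree; existence of the isomorphism
only.) -/
theorem result {R A : Type u} [CommRing R] [CommRing A] [Algebra R A] (𝒜 : ℕ → Submodule R A) [GradedAlgebra 𝒜]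
    (d : ℕ) (hgen : Algebra.adjoin R (⋃ i ∈ Finset.Icc 1 d, (𝒜 i : Set A)) = ⊤)
    (hcov : (⨆ g : 𝒜 1, Proj.basicOpen 𝒜 (g : A)) = ⊤) [Algebra.FiniteType R A] (n : ℕ) (hn : d ≤ n) (hn1 : 0 < n) :
    ∃ (N : ℕ) (i : Proj 𝒜 ⟶ CohB1.ProjSpaceOver N (Spec (CommRingCat.of R))), IsClosedImmersion i ∧
      i ≫ pullback.snd (CohB1.ProjSpace.toSpec N (ULift.{u} ℤ)) (specULiftZIsTerminal.from (Spec (CommRingCat.of R))) =
        Proj.toSpecZero 𝒜 ≫ Spec.map (CommRingCat.ofHom (algebraMap R (𝒜 0))) ∧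
      Nonempty (Twist.twist 𝒜 (n : ℤ) ≅
        (Scheme.Modules.pullback i).obj (Twist.twistOver N (Spec (CommRingCat.of R)) 1)) := by
  classical
  have hst : IsScalarTower R (𝒜 0) A := ⟨fun r a x => by
    change ((r • a : 𝒜 0) : A) * x = r • ((a : A) * x)
    rw [Submodule.coe_smul, smul_mul_assoc]⟩
  have hft : Algebra.FiniteType (𝒜 0) A := Algebra.FiniteType.of_restrictScalars_finiteType R (𝒜 0) A
  set S : Set A := ⋃ i ∈ Finset.Icc 1 d, (𝒜 i : Set A) with hS
  have hSmem : ∀ x ∈ S, ∃ i, (1 ≤ i ∧ i ≤ d) ∧ x ∈ 𝒜 i := by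
    intro x hx
    simp only [hS, Set.mem_iUnion, Finset.mem_Icc, SetLike.mem_coe, exists_prop] at hx
    exact hx
  obtain ⟨T, hTS, hTgen⟩ := Groth.Agent.Lib.Helper27VeryAmpleDeg1.exists_finset_adjoin_eq_top S hgen
  have hsurj : Function.Surjective (algebraMap R (𝒜 0)) :=
    Groth.Agent.Lib.Helper27VeryAmpleDeg1.surjective_algebraMap_zero 𝒜 S hgen (fun x hx => by
      obtain ⟨i, ⟨hi1, -⟩, hxi⟩ := hSmem x hx
      exact ⟨i, hi1, hxi⟩)
  let dg : A → ℕ := fun t => if h : ∃ i, (1 ≤ i ∧ i ≤ d) ∧ t ∈ 𝒜 i then h.choose else 0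
  have hT : ∀ t ∈ T, t ∈ 𝒜 (dg t) ∧ dg t ≤ n := by
    intro t ht
    have h := hSmem t (hTS ht)
    have hd : dg t = h.choose := dif_pos h
    rw [hd]
    exact ⟨h.choose_spec.2, h.choose_spec.1.2.trans hn⟩
  -- finite subcover
  have hcs : CompactSpace (Proj 𝒜) :=
    QuasiCompact.compactSpace_of_compactSpace (Proj.toSpecZero 𝒜)
  have hopen : ∀ g : 𝒜 1, IsOpen ((Proj.basicOpen 𝒜 (g : A) : (Proj 𝒜).Opens) : Set (Proj 𝒜)) :=
    fun g => (Proj.basicOpen 𝒜 (g : A)).isOpen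
  have hcovS : (Set.univ : Set (Proj 𝒜)) ⊆ ⋃ g : 𝒜 1, ((Proj.basicOpen 𝒜 (g : A) : (Proj 𝒜).Opens) : Set (Proj 𝒜)) := by
    intro x _
    have hx : x ∈ (⨆ g : 𝒜 1, Proj.basicOpen 𝒜 (g : A) : (Proj 𝒜).Opens) := by rw [hcov]; trivial
    obtain ⟨g, hg⟩ := TopologicalSpace.Opens.mem_iSup.mp hx
    exact Set.mem_iUnion.mpr ⟨g, hg⟩
  obtain ⟨Q₀, hQ₀⟩ := isCompact_univ.elim_finite_subcover _ hopen hcovS
  let Q : Finset A := Q₀.image Subtype.val
  have hQ : ∀ g ∈ Q, g ∈ 𝒜 1 := by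
    intro g hg
    obtain ⟨g', -, rfl⟩ := Finset.mem_image.mp hg
    exact g'.2
  have hQcov : ∀ x : Proj 𝒜, ∃ g ∈ Q, x ∈ Proj.basicOpen 𝒜 g := by
    intro x
    have := hQ₀ (Set.mem_univ x)
    simp only [Set.mem_iUnion] at this
    obtain ⟨g, hgQ, hx⟩ := this
    exact ⟨g.1, Finset.mem_image.mpr ⟨g, hgQ, rfl⟩, hx⟩
  obtain ⟨M, i, hi, hi2, hiso⟩ :=
    Groth.Agent.Lib.Helper27VeryAmpleDeg1.exists_closedImmersion_deg1 (𝒜 := 𝒜) (n := n) (Q := Q)
      (T := T) (dg := dg) hn1 hQ hQcov hT hTgen hsurj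
  exact ⟨M, i, hi, hi2, hiso⟩

end Groth.Agent.S13183
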