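import Groth.Statements.S13186
import Groth.Agent.Lib.Helper29Hilbert90

set_option autoImplicit false
universe u
open GalCoh

namespace Groth.Agent.S13186

/-- Let L/K be a finite Galois extension of fields, n a natural number, and B a map from the Galois
group of L over K to the invertible n × n matrices over L such that B(σ) · σ(B(τ)) = B(στ) for all
σ, τ (σ acting on matrices entrywise, στ applying τ first) and det B(σ) = 1 for every σ. Then there
is an invertible matrix A over L of determinant 1 with B(σ) = A⁻¹ · σ(A) for every σ; that is, every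
1-cocycle of the Galois group with values in SL_n(L) is the coboundary of an element of SL_n(L), so
H¹ of the Galois group with values in SL_n(L) is a point. (The published statement says that every
torsor under the special linear group over K is trivial; this row is the finite-Galois-level cocycle
form that its proof establishes.) -/
theorem result (K L : Type u) [Field K] [Field L]
    [Algebra K L] [FiniteDimensional K L] [IsGalois K L] (n : ℕ)
    (B : (L ≃ₐ[K] L) → GL (Fin n) L)
    (hB : ∀ σ τ : L ≃ₐ[K] L,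
      (B σ : Matrix (Fin n) (Fin n) L) * (B τ : Matrix (Fin n) (Fin n) L).map σ =
        (B (σ * τ) : Matrix (Fin n) (Fin n) L))
    (hdet : ∀ σ : L ≃ₐ[K] L, Matrix.det (B σ : Matrix (Fin n) (Fin n) L) = 1) :
    ∃ A : GL (Fin n) L, Matrix.det (A : Matrix (Fin n) (Fin n) L) = 1 ∧ ∀ σ : L ≃ₐ[K] L,
      (B σ : Matrix (Fin n) (Fin n) L) =
        ((A⁻¹ : GL (Fin n) L) : Matrix (Fin n) (Fin n) L) * (A : Matrix (Fin n) (Fin n) L).map σ := by
  classical
  have hmapmul : ∀ (σ : L ≃ₐ[K] L) (X Y : Matrix (Fin n) (Fin n) L),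
      (X * Y).map σ = X.map σ * Y.map σ := fun σ X Y => Matrix.map_mul
  have hmapone : ∀ σ : L ≃ₐ[K] L, (1 : Matrix (Fin n) (Fin n) L).map σ = 1 := fun σ => by
    ext i j
    simp [Matrix.map_apply, Matrix.one_apply, apply_ite]
  have hc1 : ((B 1 : GL (Fin n) L) : Matrix (Fin n) (Fin n) L) = 1 := by
    have h := hB 1 1
    have hid : ((B 1 : GL (Fin n) L) : Matrix (Fin n) (Fin n) L).map (1 : L ≃ₐ[K] L) =
        (B 1 : Matrix (Fin n) (Fin n) L) := by
      ext i j
      rfl
    rw [hid, mul_one] at h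
    have h' : (B 1 : GL (Fin n) L) * B 1 = B 1 := Units.ext h
    have h'' : (B 1 : GL (Fin n) L) = 1 := by
      have := congrArg (fun z => (B 1 : GL (Fin n) L)⁻¹ * z) h'
      simpa using this
    rw [h'']
    rfl
  obtain ⟨M, hM, hMc⟩ := Groth.Agent.Lib.Helper29.exists_isUnit_mul_map_eq
    (fun σ => ((B σ : GL (Fin n) L) : Matrix (Fin n) (Fin n) L)) (fun σ τ => (hB σ τ).symm) hc1
  -- A₀ = M⁻¹
  set Mu : GL (Fin n) L := hM.unit with hMu
  have hMuv : (Mu : Matrix (Fin n) (Fin n) L) = M := rfl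
  have hinvmap : ∀ σ : L ≃ₐ[K] L,
      M.map σ * ((Mu⁻¹ : GL (Fin n) L) : Matrix (Fin n) (Fin n) L).map σ = 1 := by
    intro σ
    rw [← hmapmul, ← hMuv, ← Units.val_mul, mul_inv_cancel, Units.val_one, hmapone]
  have hBσ : ∀ σ : L ≃ₐ[K] L, (B σ : Matrix (Fin n) (Fin n) L) =
      M * ((Mu⁻¹ : GL (Fin n) L) : Matrix (Fin n) (Fin n) L).map σ := by
    intro σ
    conv_rhs => rw [← hMc σ]
    rw [Matrix.mul_assoc, hinvmap, mul_one]
  -- the determinant of `A₀` is fixed
  set d : L := Matrix.det ((Mu⁻¹ : GL (Fin n) L) : Matrix (Fin n) (Fin n) L) with hd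
  have hdetM : Matrix.det M * d = 1 := by
    rw [hd, ← Matrix.det_mul, ← hMuv, ← Units.val_mul, mul_inv_cancel, Units.val_one, Matrix.det_one]
  have hd0 : d ≠ 0 := right_ne_zero_of_mul_eq_one hdetM
  have hdetmap : ∀ (σ : L ≃ₐ[K] L) (X : Matrix (Fin n) (Fin n) L),
      Matrix.det (X.map σ) = σ (Matrix.det X) := by
    intro σ X
    exact (RingHom.map_det (σ : L →+* L) X).symm
  have hdfix : ∀ σ : L ≃ₐ[K] L, σ d = d := by
    intro σ
    have h1 := hdet σ
    rw [hBσ σ, Matrix.det_mul, hdetmap] at h1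
    have h2 : Matrix.det M * σ d = Matrix.det M * d := by rw [h1, hdetM]
    exact mul_left_cancel₀ (left_ne_zero_of_mul_eq_one hdetM) h2
  rcases Nat.eq_zero_or_pos n with hn | hn
  · subst hn
    refine ⟨1, by simp, fun σ => ?_⟩
    ext i
    exact i.elim0
  · -- rescale the first row
    let D : Matrix (Fin n) (Fin n) L :=
      Matrix.diagonal fun i => if i = (⟨0, hn⟩ : Fin n) then d⁻¹ else 1
    have hDdet : Matrix.det D = d⁻¹ := by
      rw [Matrix.det_diagonal, Finset.prod_ite_eq' Finset.univ (⟨0, hn⟩ : Fin n)]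
      simp
    have hDmap : ∀ σ : L ≃ₐ[K] L, D.map σ = D := by
      intro σ
      ext i j
      simp only [D, Matrix.map_apply, Matrix.diagonal_apply]
      split_ifs
      · rw [map_inv₀, hdfix]
      · rw [map_one]
      · rw [map_zero]
    have hDu : IsUnit D := by
      rw [Matrix.isUnit_iff_isUnit_det, hDdet]
      exact (isUnit_iff_ne_zero.mpr (inv_ne_zero hd0))
    set Du : GL (Fin n) L := hDu.unit with hDudef
    have hDuv : (Du : Matrix (Fin n) (Fin n) L) = D := rfl
    refine ⟨Du * Mu⁻¹, ?_, fun σ => ?_⟩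
    · rw [Units.val_mul, Matrix.det_mul, hDuv, hDdet, ← hd, inv_mul_cancel₀ hd0]
    · rw [mul_inv_rev, inv_inv, Units.val_mul, Units.val_mul, hmapmul, hDuv, hDmap, hMuv,
        Matrix.mul_assoc, ← Matrix.mul_assoc _ D, ← hDuv, ← Units.val_mul, inv_mul_cancel,
        Units.val_one, one_mul]
      exact hBσ σ

end Groth.Agent.S13186
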