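import Groth.Statements.S13188
import Mathlib

set_option autoImplicit false
universe u v w
open Brauer

namespace Groth.Agent.S13188

/-- Let K be a field with property C_2 for systems of forms and D a finite-dimensional central division
algebra over K with dim_K D = d². Let N : D → K be multiplicative, a reduced norm of D over K, and
given in the coordinates of a K-basis b of D by a homogeneous polynomial F of degree d, i.e. N(Σ x_i
b_i) = F(x) for every coordinate vector x (the reduced norm of a central simple algebra of dimension
d² is such a polynomial map of degree d; these data record it). Then N : D → K is surjective. -/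
theorem result (K : Type u) [Field K] (hK : Curves.IsCi K 2)
    (D : Type v) [DivisionRing D] [Algebra K D] [Algebra.IsCentral K D] [FiniteDimensional K D]
    (d : ℕ) (hd : Module.finrank K D = d ^ 2)
    (N : D →* K) (hN : CSAGal.IsRedNorm K D N)
    {ι : Type w} [Fintype ι] (b : Module.Basis ι K D)
    (F : MvPolynomial ι K) (hF : F.IsHomogeneous d)
    (hNF : ∀ x : ι → K, N (∑ i, x i • b i) = MvPolynomial.eval x F) :
    Function.Surjective N := by
  classical
  have scal : ∀ (s : K) (x : ι → K), MvPolynomial.eval (s • x) F = s ^ d * MvPolynomial.eval x F := by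
    intro s x
    rw [MvPolynomial.eval_eq', MvPolynomial.eval_eq', Finset.mul_sum]
    refine Finset.sum_congr rfl fun m hm => ?_
    have hdeg : ∑ i, m i = d := by
      have h1 := hF.degree_eq_sum_deg_support hm
      rw [h1]
      symm
      apply Finset.sum_subset (Finset.subset_univ _)
      intro i _ hi
      simpa using hi
    simp only [Pi.smul_apply, smul_eq_mul, mul_pow, Finset.prod_mul_distrib,
      Finset.prod_pow_eq_pow_sum, hdeg]
    ring
  have hdpos : 0 < d := by
    by_contra h
    have h0 : d = 0 := by omega
    subst h0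
    have h1 : Module.finrank K D = 0 := by simpa using hd
    have h2 := Module.finrank_pos (R := K) (M := D)
    omega
  have hN0 : N 0 = 0 := by
    have h1 := hNF 0
    have h2 := scal 0 0
    rw [zero_smul, zero_pow hdpos.ne', zero_mul] at h2
    rw [h2] at h1
    simpa using h1
  intro c
  by_cases hc : c = 0
  · exact ⟨0, by rw [hN0, hc]⟩
  have hcard : Fintype.card ι = d ^ 2 := by
    rw [← Module.finrank_eq_card_basis b, hd]
  let e : ι ≃ Fin (d ^ 2) := Fintype.equivFinOfCardEq hcard
  let f : ι → Fin (d ^ 2 + 1) := fun i => Fin.castSucc (e i)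
  let G : MvPolynomial (Fin (d ^ 2 + 1)) K :=
    MvPolynomial.rename f F - MvPolynomial.C c * MvPolynomial.X (Fin.last _) ^ d
  have hG : G.IsHomogeneous d :=
    (hF.rename_isHomogeneous).sub ((MvPolynomial.isHomogeneous_X_pow _ d).C_mul c)
  obtain ⟨a, ha0, ha⟩ := hK 1 (d ^ 2 + 1) (fun _ => G) (fun _ => d) (fun _ => hG)
    (fun _ => hdpos) (by simp)
  have hev : MvPolynomial.eval (a ∘ f) F = c * a (Fin.last _) ^ d := by
    have h1 := ha 0
    simp only [G, map_sub, MvPolynomial.eval_rename, map_mul, MvPolynomial.eval_C, map_pow,
      MvPolynomial.eval_X] at h1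
    exact sub_eq_zero.mp h1
  by_cases ht : a (Fin.last _) = 0
  · exfalso
    have hy : N (∑ i, (a ∘ f) i • b i) = 0 := by
      rw [hNF, hev, ht, zero_pow hdpos.ne', mul_zero]
    have hx : (a ∘ f) ≠ 0 := by
      intro hx
      apply ha0
      funext j
      refine Fin.lastCases ?_ (fun j' => ?_) j
      · exact ht
      · have h1 := congrFun hx (e.symm j')
        simpa [f] using h1
    have hyne : (∑ i, (a ∘ f) i • b i) ≠ 0 := by
      intro h0
      apply hx
      funext i
      exact Fintype.linearIndependent_iff.mp b.linearIndependent (a ∘ f) h0 i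
    have hu : IsUnit (∑ i, (a ∘ f) i • b i) := isUnit_iff_ne_zero.mpr hyne
    have h3 := hu.map N
    rw [hy] at h3
    exact not_isUnit_zero h3
  · refine ⟨∑ i, ((a (Fin.last _))⁻¹ • (a ∘ f)) i • b i, ?_⟩
    rw [hNF, scal, hev, inv_pow, mul_comm, mul_assoc, mul_inv_cancel₀ (pow_ne_zero d ht), mul_one]

end Groth.Agent.S13188
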