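import Groth.Statements.S13189
import Mathlib

set_option autoImplicit false
universe u
open CAlg

namespace Groth.Agent.S13189

/-- For a finite field K of cardinality q and n ≥ 0, a polynomial p in n variables over K vanishes at
every point of K^n if and only if p belongs to the ideal generated by the X_i^q − X_i, i = 1, …, n;
in other words that ideal is the kernel of the evaluation homomorphism from K[X_1, …, X_n] to the
ring of K-valued functions on K^n. -/
theorem result (K : Type u) [Field K] [Fintype K]
    (n : ℕ) (p : MvPolynomial (Fin n) K) :
    (∀ a : Fin n → K, MvPolynomial.eval a p = 0) ↔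
      p ∈ Ideal.span (Set.range fun i : Fin n =>
        (MvPolynomial.X i ^ Fintype.card K - MvPolynomial.X i : MvPolynomial (Fin n) K)) := by
  classical
  set q := Fintype.card K with hq
  have hq2 : 2 ≤ q := Fintype.one_lt_card
  set J : Ideal (MvPolynomial (Fin n) K) := Ideal.span (Set.range fun i : Fin n =>
    (MvPolynomial.X i ^ q - MvPolynomial.X i : MvPolynomial (Fin n) K)) with hJ
  have hgen : ∀ i : Fin n, (MvPolynomial.X i ^ q - MvPolynomial.X i : MvPolynomial (Fin n) K) ∈ J :=
    fun i => Ideal.subset_span ⟨i, rfl⟩
  constructor
  · intro hp
    -- every monomial is congruent mod J to an element of restrictDegree (q - 1)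
    have hmon : ∀ (d : ℕ) (s : Fin n →₀ ℕ), Finsupp.degree s = d →
        ∃ p' ∈ MvPolynomial.restrictDegree (Fin n) K (q - 1),
          (MvPolynomial.monomial s (1 : K)) - p' ∈ J := by
      intro d
      induction d using Nat.strong_induction_on with
      | _ d ih =>
        intro s hs
        by_cases hall : ∀ i, s i ≤ q - 1
        · refine ⟨MvPolynomial.monomial s 1, ?_, by rw [sub_self]; exact J.zero_mem⟩
          rw [MvPolynomial.mem_restrictDegree]
          intro t ht i
          have := MvPolynomial.support_monomial_subset ht
          rw [Finset.mem_singleton] at this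
          rw [this]
          exact hall i
        · rw [not_forall] at hall
          obtain ⟨i, hi⟩ := hall
          have hiq : q ≤ s i := by omega
          set t : Fin n →₀ ℕ := s - Finsupp.single i q with ht
          have hst : s = t + Finsupp.single i q := by
            rw [ht]
            refine (tsub_add_cancel_of_le ?_).symm
            rw [Finsupp.le_def]
            intro j
            by_cases hj : j = i
            · subst hj; rw [Finsupp.single_eq_same]; exact hiq
            · rw [Finsupp.single_eq_of_ne hj]; exact Nat.zero_le _
          have hdeg : Finsupp.degree (t + Finsupp.single i 1) < d := by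
            rw [← hs, hst, map_add, map_add, Finsupp.degree_single, Finsupp.degree_single]
            omega
          obtain ⟨p', hp', hpJ⟩ := ih _ hdeg (t + Finsupp.single i 1) rfl
          refine ⟨p', hp', ?_⟩
          have h1 : MvPolynomial.monomial s (1 : K) - MvPolynomial.monomial (t + Finsupp.single i 1) 1
              = MvPolynomial.monomial t 1 * (MvPolynomial.X i ^ q - MvPolynomial.X i) := by
            rw [hst, MvPolynomial.monomial_add_single, MvPolynomial.monomial_add_single, pow_one,
              mul_sub]
          have h2 : MvPolynomial.monomial s (1 : K) - p' =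
              (MvPolynomial.monomial s (1 : K) - MvPolynomial.monomial (t + Finsupp.single i 1) 1)
              + (MvPolynomial.monomial (t + Finsupp.single i 1) 1 - p') := by ring
          rw [h2, h1]
          exact J.add_mem (J.mul_mem_left _ (hgen i)) hpJ
    have hall : ∀ p : MvPolynomial (Fin n) K,
        ∃ p' ∈ MvPolynomial.restrictDegree (Fin n) K (q - 1), p - p' ∈ J := by
      intro p
      induction p using MvPolynomial.induction_on' with
      | monomial s a =>
        obtain ⟨p', hp', hpJ⟩ := hmon _ s rfl
        refine ⟨a • p', Submodule.smul_mem _ a hp', ?_⟩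
        have : MvPolynomial.monomial s a - a • p' =
            MvPolynomial.C a * (MvPolynomial.monomial s 1 - p') := by
          rw [mul_sub, MvPolynomial.C_mul_monomial, mul_one, MvPolynomial.smul_eq_C_mul]
        rw [this]
        exact J.mul_mem_left _ hpJ
      | add p₁ p₂ h₁ h₂ =>
        obtain ⟨p₁', hp₁', h₁J⟩ := h₁
        obtain ⟨p₂', hp₂', h₂J⟩ := h₂
        refine ⟨p₁' + p₂', Submodule.add_mem _ hp₁' hp₂', ?_⟩
        have : p₁ + p₂ - (p₁' + p₂') = (p₁ - p₁') + (p₂ - p₂') := by ring
        rw [this]
        exact J.add_mem h₁J h₂J
    obtain ⟨p', hp', hpJ⟩ := hall p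
    -- evaluation kills J
    have hJeval : ∀ (a : Fin n → K) (f : MvPolynomial (Fin n) K), f ∈ J → MvPolynomial.eval a f = 0 := by
      intro a f hf
      have hle : J ≤ RingHom.ker (MvPolynomial.eval a) := by
        rw [hJ, Ideal.span_le]
        rintro _ ⟨i, rfl⟩
        rw [SetLike.mem_coe, RingHom.mem_ker, map_sub, map_pow, MvPolynomial.eval_X,
          FiniteField.pow_card, sub_self]
      exact hle hf
    have hp'0 : p' = 0 := by
      let e : Fin n ≃ ULift.{u} (Fin n) := Equiv.ulift.symm
      apply MvPolynomial.rename_injective e e.injective
      rw [map_zero]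
      apply MvPolynomial.eq_zero_of_eval_eq_zero (ULift.{u} (Fin n)) K (MvPolynomial.rename e p')
      · intro v
        rw [MvPolynomial.eval_rename]
        have := hJeval (v ∘ e) _ hpJ
        rw [map_sub, hp (v ∘ e), zero_sub, neg_eq_zero] at this
        exact this
      · rw [MvPolynomial.mem_restrictDegree]
        intro t ht i
        rw [MvPolynomial.support_rename_of_injective e.injective, Finset.mem_image] at ht
        obtain ⟨s, hs, rfl⟩ := ht
        rw [Finsupp.mapDomain_equiv_apply]
        exact (MvPolynomial.mem_restrictDegree (σ := Fin n) p' (q - 1)).mp hp' s hs _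
    rw [hp'0, sub_zero] at hpJ
    exact hpJ
  · intro hp a
    have hle : J ≤ RingHom.ker (MvPolynomial.eval a) := by
      rw [hJ, Ideal.span_le]
      rintro _ ⟨i, rfl⟩
      rw [SetLike.mem_coe, RingHom.mem_ker, map_sub, map_pow, MvPolynomial.eval_X,
        FiniteField.pow_card, sub_self]
    exact hle hp

end Groth.Agent.S13189
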