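import Groth.Statements.S13198
import Groth.Agent.Lib.Helper3GeomUnibranch
import Mathlib

set_option autoImplicit false
universe u
open scoped TensorProduct
open Hensel

namespace Groth.Agent.S13198

open IsLocalRing

/-- Let R be a local ring which is strictly henselian (henselian, with separably closed residue field),
A a local ring which is an integral R-algebra with local structure map and whose residue field is
purely inseparable over that of R, and B a local ring with a local homomorphism R → B. Then A ⊗_R B
is a local ring, the map B → A ⊗_R B is local, and the residue field extension of A ⊗_R B over B is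
purely inseparable: every element of A ⊗_R B has a p^n-th power, p the characteristic exponent of
the residue field of B, congruent modulo the maximal ideal to an element 1 ⊗ b. -/
theorem result
    (R A B : Type u) [CommRing R] [HenselianLocalRing R] [IsSepClosed (IsLocalRing.ResidueField R)]
    [CommRing A] [IsLocalRing A] [Algebra R A] [IsLocalHom (algebraMap R A)] [Algebra.IsIntegral R A]
    [IsPurelyInseparable (IsLocalRing.ResidueField R) (IsLocalRing.ResidueField A)]
    [CommRing B] [IsLocalRing B] [Algebra R B] [IsLocalHom (algebraMap R B)] :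
    ∃ _ : IsLocalRing (A ⊗[R] B),
      IsLocalHom (Algebra.TensorProduct.includeRight : B →ₐ[R] A ⊗[R] B).toRingHom ∧
      ∀ x : A ⊗[R] B, ∃ (n : ℕ) (b : B),
        x ^ (ringExpChar (IsLocalRing.ResidueField B)) ^ n - (1 : A) ⊗ₜ[R] b ∈ IsLocalRing.maximalIdeal (A ⊗[R] B) := by
  classical
  -- the common exponential characteristic
  set p := ringExpChar (ResidueField B) with hp
  haveI : ExpChar (ResidueField B) p := ringExpChar.expChar _
  haveI : ExpChar (ResidueField R) p :=
    (algebraMap (ResidueField R) (ResidueField B)).expChar (RingHom.injective _) p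
  haveI : ExpChar (ResidueField A) p :=
    expChar_of_injective_ringHom (algebraMap (ResidueField R) (ResidueField A)).injective p
  -- nontriviality through a common field
  let Ω := AlgebraicClosure (ResidueField B)
  letI : Algebra (ResidueField R) Ω :=
    ((algebraMap (ResidueField B) Ω).comp (algebraMap (ResidueField R) (ResidueField B))).toAlgebra
  haveI : Algebra.IsAlgebraic (ResidueField R) (ResidueField A) := inferInstance
  let l : ResidueField A →ₐ[ResidueField R] Ω := IsAlgClosed.lift
  letI : Algebra R Ω := ((algebraMap (ResidueField B) Ω).comp (algebraMap R (ResidueField B))).toAlgebra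
  let fA : A →ₐ[R] Ω :=
    { (l : ResidueField A →+* Ω).comp (residue A) with
      commutes' := fun r => by
        show l (residue A (algebraMap R A r)) = _
        have h1 : residue A (algebraMap R A r) =
            algebraMap (ResidueField R) (ResidueField A) (residue R r) := rfl
        rw [h1, l.commutes]
        rfl }
  let fB : B →ₐ[R] Ω :=
    { (algebraMap (ResidueField B) Ω).comp (residue B) with
      commutes' := fun r => rfl }
  let F : A ⊗[R] B →ₐ[R] Ω := Algebra.TensorProduct.lift fA fB (fun _ _ => Commute.all _ _)
  haveI : Nontrivial (A ⊗[R] B) := F.toRingHom.domain_nontrivial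
  have hpi : ∀ a : A, ∃ (n : ℕ) (r : R), a ^ p ^ n - algebraMap R A r ∈ maximalIdeal A := by
    intro a
    obtain ⟨n, y, hy⟩ := IsPurelyInseparable.pow_mem (ResidueField R) p (residue A a)
    obtain ⟨r, rfl⟩ := residue_surjective y
    refine ⟨n, r, ?_⟩
    rw [← residue_eq_zero_iff, map_sub, map_pow, ← hy, sub_eq_zero]
    rfl
  haveI hloc : IsLocalRing (A ⊗[R] B) :=
    Groth.Agent.Lib.Helper3.TensorPI.isLocalRing_tensor (A := R) (B := A) (S := B) p hpi
  refine ⟨hloc, ?_, ?_⟩
  · refine ((local_hom_TFAE _).out 4 0).mp ?_
    exact Groth.Agent.Lib.Helper3.TensorPI.comap_includeRight_of_isMaximal (A := R) (B := A) (S := B)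
      (maximalIdeal (A ⊗[R] B))
  · intro x
    obtain ⟨n, b, hnb⟩ := Groth.Agent.Lib.Helper3.TensorPI.exists_pow_eq (A := R) (B := A) (S := B)
      p hpi x
    refine ⟨n, b, ?_⟩
    rw [← map_pow, Ideal.Quotient.mk_eq_mk_iff_sub_mem] at hnb
    exact Groth.Agent.Lib.Helper3.TensorPI.J_le_of_isMaximal (A := R) (B := A) (S := B)
      (maximalIdeal (A ⊗[R] B)) hnb

end Groth.Agent.S13198
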