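import Groth.Statements.S13200
import Groth.Agent.Lib.Helper7CplDom
import Groth.Agent.Lib.Helper7NormLoc
import Groth.Agent.Lib.Helper7PolyGRing2
import Groth.Agent.Lib.Helper7ExcDim1
import Groth.Agent.Lib.Helper2CoeffField
import Groth.Agent.Lib.Helper28ComplQuot
import Groth.Agent.Lib.Helper5RLR

set_option autoImplicit false
universe u
open Hensel

namespace Groth.Agent.S13200

/-- Let R be an excellent local ring which is strictly henselian (henselian with separably closed
residue field), and let R^ denote its completion at the maximal ideal. An element Δ of R is a prime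
element of R exactly when its image in R^ is a prime element of R^. -/
theorem result
    (R : Type u) [CommRing R] [HenselianLocalRing R] [IsSepClosed (IsLocalRing.ResidueField R)]
    (hR : EGA4.IsExcellent R) (Δ : R) :
    Prime Δ ↔ Prime (algebraMap R (AdicCompletion (IsLocalRing.maximalIdeal R) R) Δ) := by
  obtain ⟨hN, hUC, hG, hJ⟩ := hR
  haveI := hN
  haveI : Module.FaithfullyFlat R (EGA4.Cpl R) := Module.FaithfullyFlat.of_flat_of_isLocalHom
  have hinj : Function.Injective (algebraMap R (EGA4.Cpl R)) :=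
    FaithfulSMul.algebraMap_injective R (EGA4.Cpl R)
  change Prime Δ ↔ Prime (algebraMap R (EGA4.Cpl R) Δ)
  have hmap : (Ideal.span {Δ}).map (algebraMap R (EGA4.Cpl R)) =
      Ideal.span {algebraMap R (EGA4.Cpl R) Δ} := by
    rw [Ideal.map_span, Set.image_singleton]
  constructor
  · intro hΔ
    have h0 : algebraMap R (EGA4.Cpl R) Δ ≠ 0 :=
      fun h => hΔ.ne_zero (hinj (h.trans (map_zero _).symm))
    rw [← Ideal.span_singleton_prime h0, ← hmap]
    haveI hK : (Ideal.span {Δ}).IsPrime := (Ideal.span_singleton_prime hΔ.ne_zero).2 hΔ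
    haveI : Nontrivial (R ⧸ Ideal.span {Δ}) := Ideal.Quotient.nontrivial_iff.2 hK.ne_top
    haveI : HenselianLocalRing (R ⧸ Ideal.span {Δ}) :=
      Groth.Agent.Lib.Helper2.henselianLocalRing_of_surjective (Ideal.Quotient.mk _)
        Ideal.Quotient.mk_surjective
    haveI : IsDomain (R ⧸ Ideal.span {Δ}) := Ideal.Quotient.isDomain _
    have hGK : CAlg.IsGRing (R ⧸ Ideal.span {Δ}) :=
      Groth.Agent.Lib.Helper7.PolyGRing2.isGRing_quotient R hG _
    have hreg := Groth.Agent.Lib.Helper7.ExcDim1.isRegularHom_cpl_of_isGRing _ hGK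
    have hnff := Groth.Agent.Lib.Helper7.NormLoc.hasGeomNormalFormalFibres_of_isRegularHom _ hreg
    haveI hdom : IsDomain (EGA4.Cpl (R ⧸ Ideal.span {Δ})) :=
      Groth.Agent.Lib.Helper7.CplDom.isDomain_cpl_of_henselian _ hnff
    obtain ⟨e, -⟩ := Groth.Agent.Lib.Helper28.exists_ringEquiv_adicCompletion_quotient
      (IsLocalRing.maximalIdeal R) (Ideal.span {Δ})
    haveI hdom' : IsDomain (AdicCompletion ((IsLocalRing.maximalIdeal R).map
        (Ideal.Quotient.mk (Ideal.span {Δ}))) (R ⧸ Ideal.span {Δ})) := by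
      rw [← Groth.Agent.Lib.Helper5.maximalIdeal_quotient_eq_map (Ideal.span {Δ})]
      exact hdom
    haveI : IsDomain (EGA4.Cpl R ⧸ (Ideal.span {Δ}).map (algebraMap R (EGA4.Cpl R))) :=
      e.toMulEquiv.isDomain _
    exact (Ideal.Quotient.isDomain_iff_prime _).1 this
  · intro hΔ'
    have h0 : Δ ≠ 0 := fun h => hΔ'.ne_zero (by rw [h, map_zero])
    rw [← Ideal.span_singleton_prime h0]
    haveI hP : (Ideal.span {algebraMap R (EGA4.Cpl R) Δ}).IsPrime :=
      (Ideal.span_singleton_prime hΔ'.ne_zero).2 hΔ'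
    have : Ideal.span {Δ} = (Ideal.span {algebraMap R (EGA4.Cpl R) Δ}).comap
        (algebraMap R (EGA4.Cpl R)) := by
      rw [← hmap, Ideal.comap_map_eq_self_of_faithfullyFlat]
    rw [this]
    exact Ideal.comap_isPrime _ _


end Groth.Agent.S13200
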