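import Groth.Statements.S13202
import Groth.Agent.Lib.Helper3SmPrime2
import Groth.Agent.Lib.Helper3ShBC
import Groth.Agent.Lib.Helper3Branch
import Mathlib

set_option autoImplicit false
universe u
open Hensel

namespace Groth.Agent.S13202

set_option linter.style.haveILetI false
set_option maxHeartbeats 1600000

open TensorProduct IsLocalRing Groth.Agent.Lib.Helper3 in

/-- Let R be a Noetherian regular ring (every localization at a prime ideal is a regular local ring) and
Δ ∈ R. The element Δ is étale-universally prime — meaning that for every prime ideal p of R
containing Δ and every strict henselization T of R_p, the image of Δ in T is a prime element —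
exactly when for every smooth R-algebra R', every prime ideal q of R' and every strict henselization
T of R'_q, the image of Δ in T is either invertible or a prime element. (Smooth R-algebras and their
strict henselizations are taken in the universe of R.) -/
theorem result
    (R : Type u) [CommRing R] [IsNoetherianRing R]
    (hreg : ∀ (p : Ideal R) [p.IsPrime], IsRegularLocalRing (Localization.AtPrime p)) (Δ : R) :
    (∀ (p : Ideal R) [p.IsPrime], Δ ∈ p →
        ∀ (T : Type u) [CommRing T] [IsLocalRing T] [Algebra (Localization.AtPrime p) T]
          [IsLocalHom (algebraMap (Localization.AtPrime p) T)]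
          [Hensel.IsStrictHenselization (Localization.AtPrime p) T],
          Prime (algebraMap (Localization.AtPrime p) T (algebraMap R (Localization.AtPrime p) Δ))) ↔
    (∀ (R' : Type u) [CommRing R'] [Algebra R R'] [Algebra.Smooth R R'] (q : Ideal R') [q.IsPrime]
        (T : Type u) [CommRing T] [IsLocalRing T] [Algebra (Localization.AtPrime q) T]
          [IsLocalHom (algebraMap (Localization.AtPrime q) T)]
          [Hensel.IsStrictHenselization (Localization.AtPrime q) T],
        IsUnit (algebraMap (Localization.AtPrime q) T (algebraMap R' (Localization.AtPrime q) (algebraMap R R' Δ))) ∨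
          Prime (algebraMap (Localization.AtPrime q) T (algebraMap R' (Localization.AtPrime q) (algebraMap R R' Δ)))) := by
  constructor
  · intro H R' _ _ _ q _ T _ _ _ _ _
    obtain ⟨p, hp⟩ : ∃ p : Ideal R, p = q.comap (algebraMap R R') := ⟨_, rfl⟩
    haveI : p.IsPrime := by rw [hp]; exact Ideal.comap_isPrime _ _
    haveI : q.LiesOver p := ⟨hp⟩
    by_cases hΔ : Δ ∈ p
    · right
      obtain ⟨T₀, _, _, _, _, hT₀⟩ := Branch.exists_isStrictHenselization (Localization.AtPrime p)
      letI : Algebra R T₀ := ((algebraMap (Localization.AtPrime p) T₀).comp
        (algebraMap R (Localization.AtPrime p))).toAlgebra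
      haveI : IsScalarTower R (Localization.AtPrime p) T₀ :=
        IsScalarTower.of_algebraMap_eq (fun _ => rfl)
      have hΔ₀ := H p hΔ T₀
      obtain ⟨q'', hq''p, c, hsh, hq''m, hs, hr⟩ := ShBC.exists_sh_baseChange R R' q p T₀ T
      letI := c.toAlgebra
      obtain ⟨hloc, hSh⟩ := hsh
      haveI := hloc
      haveI := hSh
      haveI : HenselianLocalRing T₀ := hT₀.henselian
      haveI : IsSepClosed (ResidueField T₀) := hT₀.isSepClosure.sep_closed
      have key := SmGU.prime_map_sh_of_smooth T₀ (T₀ ⊗[R] R') T q'' hq''m _ hΔ₀
      have e := hr Δ
      have e2 : algebraMap (Localization.AtPrime q'') T (algebraMap (T₀ ⊗[R] R')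
          (Localization.AtPrime q'') (algebraMap T₀ (T₀ ⊗[R] R')
            (algebraMap (Localization.AtPrime p) T₀ (algebraMap R (Localization.AtPrime p) Δ))))
          = algebraMap (Localization.AtPrime q) T (algebraMap R' (Localization.AtPrime q)
            (algebraMap R R' Δ)) := e
      rw [← e2]
      exact key
    · left
      apply IsUnit.map
      rw [IsLocalization.AtPrime.isUnit_to_map_iff (Localization.AtPrime q) q]
      intro hmem
      apply hΔ
      rw [hp]
      exact hmem
  · intro H p _ hΔ T _ _ _ _ _
    rcases H R p T with h | h
    · exfalso
      have h1 := isUnit_of_map_unit (algebraMap (Localization.AtPrime p) T) _ h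
      rw [IsLocalization.AtPrime.isUnit_to_map_iff (Localization.AtPrime p) p] at h1
      exact h1 hΔ
    · exact h

end Groth.Agent.S13202
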