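import Groth.Statements.S17731
import Mathlib
import Groth.Agent.Lib.Helper20NeronCat

set_option autoImplicit false
universe u
open Neron

namespace Groth.Agent.S17731


open CategoryTheory AlgebraicGeometry Limits Groth.Agent.Lib.Helper20.NeronCat

/-- injectivity of restriction, unfolded. -/
lemma injective_map_iff {S S₀ : Scheme.{u}} (i : S₀ ⟶ S) (Z N : Over S) :
    Function.Injective (fun f : Z ⟶ N => (Over.pullback i).map f) ↔
      ∀ f₁ f₂ : Z ⟶ N, pullback.fst Z.hom i ≫ f₁.left = pullback.fst Z.hom i ≫ f₂.left →
        f₁ = f₂ := by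
  constructor
  · intro h f₁ f₂ h12
    apply h
    change (Over.pullback i).map f₁ = (Over.pullback i).map f₂
    apply pullback_obj_hom_ext
    rw [pullback_map_left_fst, pullback_map_left_fst, h12]
  · intro h f₁ f₂ h12
    have h12 : (Over.pullback i).map f₁ = (Over.pullback i).map f₂ := h12
    apply h
    rw [← pullback_map_left_fst, ← pullback_map_left_fst, h12]

/-- the comparison of the two restrictions. -/
lemma exists_iso_restrict {S S' : Scheme.{u}} (g : S' ⟶ S) (U : S.Opens) (Y' : Over S') :
    ∃ e : pullback Y'.hom (g ⁻¹ᵁ U).ι ≅ pullback (Y'.hom ≫ g) U.ι,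
      e.hom ≫ pullback.fst (Y'.hom ≫ g) U.ι = pullback.fst Y'.hom (g ⁻¹ᵁ U).ι := by
  have H1 : IsPullback (pullback.fst Y'.hom (g ⁻¹ᵁ U).ι) (pullback.snd Y'.hom (g ⁻¹ᵁ U).ι)
      Y'.hom (g ⁻¹ᵁ U).ι := IsPullback.of_hasPullback _ _
  have H2 := isPullback_morphismRestrict g U
  have H3 := (H1.flip.paste_horiz H2).flip
  exact ⟨H3.isoPullback, H3.isoPullback_hom_fst⟩

/-- morphisms to the base change, as morphisms to `N`. -/
lemma over_pullback_hom_ext {S S' : Scheme.{u}} (g : S' ⟶ S) (N : Over S) {Y' : Over S'}
    (f₁ f₂ : Y' ⟶ (Over.pullback g).obj N)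
    (h : f₁.left ≫ pullback.fst N.hom g = f₂.left ≫ pullback.fst N.hom g) : f₁ = f₂ :=
  pullback_obj_hom_ext g f₁ f₂ h

/-- a morphism to the base change gives a morphism to `N` over `S`. -/
noncomputable def toBase {S S' : Scheme.{u}} (g : S' ⟶ S) (N : Over S) {Y' : Over S'}
    (f : Y' ⟶ (Over.pullback g).obj N) : (Over.mk (Y'.hom ≫ g) : Over S) ⟶ N :=
  Over.homMk (f.left ≫ pullback.fst N.hom g) (by
    have h := Over.w f
    simp only [Over.pullback, Over.mk_hom] at h
    change (f.left ≫ pullback.fst N.hom g) ≫ N.hom = Y'.hom ≫ g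
    rw [Category.assoc, pullback.condition, ← Category.assoc, h])



open CategoryTheory AlgebraicGeometry in
/-- Let S be a scheme, U ⊆ S a schematically dense open subscheme and N → S a smooth S-scheme having
uniqueness in the Néron mapping property with respect to U: for every smooth S-scheme Y, restriction
to U is injective on S-morphisms Y → N. Then for every smooth morphism g : S' → S the base change N
×_S S' → S' has uniqueness in the Néron mapping property with respect to g⁻¹(U): for every smooth
S'-scheme Y', restriction to g⁻¹(U) is injective on S'-morphisms Y' → N ×_S S'. (The published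
statement is for models which are algebraic spaces, tested against smooth algebraic spaces; this row
states the case of a scheme model tested against smooth schemes. The companion assertion that Néron
models are preserved by smooth base change is not restated here.) -/
theorem result
    {S S' : Scheme.{u}} (g : S' ⟶ S) [Smooth g]
    (U : S.Opens) (hU : CInt.IsSchematicallyDense U) (N : Over S) [Smooth N.hom]
    (hN : ∀ Y : Over S, Smooth Y.hom →
      Function.Injective (fun f : Y ⟶ N => (Over.pullback U.ι).map f))
    (Y' : Over S') [Smooth Y'.hom] :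
    Function.Injective (fun f : Y' ⟶ (Over.pullback g).obj N => (Over.pullback (g ⁻¹ᵁ U).ι).map f) := by
  rw [injective_map_iff]
  intro f₁ f₂ h12
  obtain ⟨e, he⟩ := exists_iso_restrict g U Y'
  have hY : Smooth (Over.mk (Y'.hom ≫ g) : Over S).hom := by
    change Smooth (Y'.hom ≫ g)
    infer_instance
  have hN' := (injective_map_iff U.ι (Over.mk (Y'.hom ≫ g)) N).1 (hN _ hY)
  have key := hN' (toBase g N f₁) (toBase g N f₂) (by
    change pullback.fst (Y'.hom ≫ g) U.ι ≫ f₁.left ≫ pullback.fst N.hom g =
      pullback.fst (Y'.hom ≫ g) U.ι ≫ f₂.left ≫ pullback.fst N.hom g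
    rw [← cancel_epi e.hom, reassoc_of% he, reassoc_of% he, reassoc_of% h12])
  apply over_pullback_hom_ext
  exact congrArg (fun m => m.left) key

end Groth.Agent.S17731
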