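import Groth.Statements.S13203
import Mathlib
import Groth.Agent.S17731

set_option autoImplicit false
universe u
open CategoryTheory AlgebraicGeometry
open Neron

namespace Groth.Agent.S13203


open Limits Groth.Agent.Lib.Helper20.NeronCat Groth.Agent.S17731



/-- Let S be a scheme, U ⊆ S a schematically dense open subscheme and N → S a smooth S-scheme with the
Néron mapping property with respect to U: for every smooth S-scheme Y, sending an S-morphism Y → N
to its restriction Y ×_S U → N ×_S U is a bijection onto the U-morphisms. Then for every smooth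
morphism g : S' → S the base change N ×_S S' → S' (again smooth) has the Néron mapping property with
respect to g⁻¹(U): for every smooth S'-scheme Y', restriction to g⁻¹(U) is a bijection from
S'-morphisms Y' → N ×_S S' onto g⁻¹(U)-morphisms. (The published statement is for models which are
algebraic spaces, tested against smooth algebraic spaces, and also says that separatedness is
preserved; this row states the case of a smooth scheme model tested against smooth schemes.) -/
theorem result
    {S S' : Scheme.{u}} (g : S' ⟶ S) [Smooth g]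
    (U : S.Opens) (hU : CInt.IsSchematicallyDense U) (N : Over S) [Smooth N.hom]
    (hN : ∀ Y : Over S, Smooth Y.hom →
      Function.Bijective (fun f : Y ⟶ N => (Over.pullback U.ι).map f))
    (Y' : Over S') [Smooth Y'.hom] :
    Function.Bijective (fun f : Y' ⟶ (Over.pullback g).obj N => (Over.pullback (g ⁻¹ᵁ U).ι).map f) := by
  rw [bijective_map_iff]
  obtain ⟨e, he⟩ := exists_iso_restrict g U Y'
  have hY : Smooth (Over.mk (Y'.hom ≫ g) : Over S).hom := by
    change Smooth (Y'.hom ≫ g)
    infer_instance
  have hN' := (bijective_map_iff U.ι (Over.mk (Y'.hom ≫ g)) N).1 (hN _ hY)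
  intro u' hu'
  have hu'' : u' ≫ pullback.snd N.hom g = pullback.fst Y'.hom (g ⁻¹ᵁ U).ι ≫ Y'.hom := hu'
  have hu : (e.inv ≫ u' ≫ pullback.fst N.hom g) ≫ N.hom =
      pullback.fst (Y'.hom ≫ g) U.ι ≫ (Y'.hom ≫ g) := by
    rw [Category.assoc, Category.assoc, pullback.condition, reassoc_of% hu'', ← reassoc_of% he,
      Iso.inv_hom_id_assoc]
  obtain ⟨f, hf, hfu⟩ := hN' _ hu
  have hf : pullback.fst (Y'.hom ≫ g) U.ι ≫ f.left = e.inv ≫ u' ≫ pullback.fst N.hom g := hf
  have hw : f.left ≫ N.hom = Y'.hom ≫ g := Over.w f
  let f' : Y' ⟶ (Over.pullback g).obj N :=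
    Over.homMk (pullback.lift f.left Y'.hom hw) (by
      change pullback.lift f.left Y'.hom hw ≫ pullback.snd N.hom g = Y'.hom
      exact pullback.lift_snd _ _ _)
  have hf'1 : f'.left ≫ pullback.fst N.hom g = f.left := pullback.lift_fst _ _ _
  have hf'2 : f'.left ≫ pullback.snd N.hom g = Y'.hom := pullback.lift_snd _ _ _
  refine ⟨f', ?_, ?_⟩
  · change pullback.fst Y'.hom (g ⁻¹ᵁ U).ι ≫ f'.left = u'
    apply pullback.hom_ext
    · rw [Category.assoc, hf'1, ← he, Category.assoc, hf, Iso.hom_inv_id_assoc]
    · rw [Category.assoc, hf'2, hu'']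
  · intro f'' hf''
    have hf'' : pullback.fst Y'.hom (g ⁻¹ᵁ U).ι ≫ f''.left = u' := hf''
    apply over_pullback_hom_ext
    rw [hf'1]
    have := hfu (toBase g N f'') (by
      change pullback.fst (Y'.hom ≫ g) U.ι ≫ f''.left ≫ pullback.fst N.hom g =
        e.inv ≫ u' ≫ pullback.fst N.hom g
      rw [← cancel_epi e.hom, reassoc_of% he, reassoc_of% hf'', Iso.hom_inv_id_assoc])
    rw [← this]
    rfl

end Groth.Agent.S13203
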