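import Groth.Statements.S13204
import Groth.Agent.Lib.Helper4DVRDom

set_option autoImplicit false
universe u
open Neron

namespace Groth.Agent.S13204

open IsLocalRing in
theorem exists_dvr (D : Type u) [CommRing D] [IsDomain D] [IsNoetherianRing D] [IsLocalRing D]
    (hD : ¬ IsField D) :
    ∃ (A : Type u) (_ : CommRing A) (_ : IsDomain A) (_ : IsDiscreteValuationRing A) (g : D →+* A),
      Function.Injective g ∧ ∀ x ∈ maximalIdeal D, g x ∈ maximalIdeal A := by
  haveI : Algebra.EssFiniteType D (FractionRing D) :=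
    Algebra.EssFiniteType.of_isLocalization (FractionRing D) (nonZeroDivisors D)
  obtain ⟨V, hVdvr, hV, hVm⟩ := Groth.Agent.Lib.Helper4.DVRDom.exists_dvr_dominating'
    (R := D) (L := FractionRing D) hD
  refine ⟨V, inferInstance, inferInstance, hVdvr,
    (algebraMap D (FractionRing D)).codRestrict V.toSubring hV, ?_, ?_⟩
  · intro a b hab
    have := congrArg (Subtype.val) hab
    exact IsFractionRing.injective D (FractionRing D) this
  · intro x hx
    rw [mem_maximalIdeal, mem_nonunits_iff]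
    intro hu
    have := hVm x hx
    rw [ValuationSubring.mem_nonunits_iff_exists_mem_maximalIdeal] at this
    obtain ⟨hx', hx''⟩ := this
    exact (mem_maximalIdeal _).mp hx'' hu

open IsLocalRing in
theorem exists_dvr_at (B : Type u) [CommRing B] [IsDomain B] [IsNoetherianRing B]
    (𝔫 : Ideal B) [𝔫.IsPrime] (x : B) (hx : x ∈ 𝔫) (hx0 : x ≠ 0) :
    ∃ (A : Type u) (_ : CommRing A) (_ : IsDomain A) (_ : IsDiscreteValuationRing A) (g : B →+* A),
      Function.Injective g ∧ (∀ x ∈ 𝔫, g x ∈ maximalIdeal A) ∧ ∀ x ∉ 𝔫, IsUnit (g x) := by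
  haveI : IsDomain (Localization.AtPrime 𝔫) := IsLocalization.isDomain_localization (M := 𝔫.primeCompl)
    (Ideal.primeCompl_le_nonZeroDivisors 𝔫)
  have hloc_inj : Function.Injective (algebraMap B (Localization.AtPrime 𝔫)) :=
    IsLocalization.injective _ (Ideal.primeCompl_le_nonZeroDivisors 𝔫)
  have hmapmem : ∀ b ∈ 𝔫, algebraMap B (Localization.AtPrime 𝔫) b ∈ maximalIdeal (Localization.AtPrime 𝔫) := by
    intro b hb
    rw [← Localization.AtPrime.map_eq_maximalIdeal (I := 𝔫)]
    exact Ideal.mem_map_of_mem _ hb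
  have hBn_notField : ¬ IsField (Localization.AtPrime 𝔫) := by
    intro hF
    have hne : algebraMap B (Localization.AtPrime 𝔫) x ≠ 0 := by
      intro h0
      exact hx0 (hloc_inj (by rw [h0, map_zero]))
    exact (mem_maximalIdeal _).mp (hmapmem x hx)
      (let ⟨b, hb⟩ := hF.mul_inv_cancel hne; IsUnit.of_mul_eq_one _ hb)
  obtain ⟨A, iA, iD, iDVR, g, hg, hgm⟩ := exists_dvr (Localization.AtPrime 𝔫) hBn_notField
  refine ⟨A, iA, iD, iDVR, g.comp (algebraMap B _), hg.comp hloc_inj, fun b hb => hgm _ (hmapmem b hb), ?_⟩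
  intro b hb
  exact (IsLocalization.map_units (Localization.AtPrime 𝔫) (⟨b, hb⟩ : 𝔫.primeCompl)).map g

open Polynomial IsLocalRing in
theorem main
    (R : Type u) [CommRing R] [IsDomain R] [IsNoetherianRing R] [UniqueFactorizationMonoid R]
    [IsLocalRing R]
    (Δ₁ Δ₂ : R) (h₁ : ¬ IsUnit Δ₁) (h₂ : ¬ IsUnit Δ₂) (hcop : IsRelPrime Δ₁ Δ₂) :
    ∃ (A : Type u) (_ : CommRing A) (_ : IsDomain A) (_ : IsDiscreteValuationRing A) (f : R →+* A),
      IsLocalHom f ∧ Function.Injective f ∧ ¬ IsUnit (f Δ₁) ∧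
        ∃ u : Aˣ, (u : A) - 1 ∈ IsLocalRing.maximalIdeal A ∧ f Δ₁ = (u : A) * f Δ₂ := by
  classical
  have hΔ₂0 : Δ₂ ≠ 0 := by
    rintro rfl
    exact h₁ (hcop (dvd_refl _) (dvd_zero _))
  have hΔ₁0 : Δ₁ ≠ 0 := by
    rintro rfl
    exact h₂ (hcop (dvd_zero _) (dvd_refl _))
  set p : R[X] := C Δ₂ * X + C (-Δ₁) with hp
  have hirr : Irreducible p :=
    irreducible_C_mul_X_add_C hΔ₂0 (by
      intro d hd1 hd2
      exact hcop ((dvd_neg).mp hd2) hd1)
  have hprime : Prime p := UniqueFactorizationMonoid.irreducible_iff_prime.mp hirr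
  haveI hIprime : (Ideal.span {p}).IsPrime :=
    (Ideal.span_singleton_prime hprime.ne_zero).mpr hprime
  haveI : IsDomain (R[X] ⧸ Ideal.span {p}) := Ideal.Quotient.isDomain _
  -- the map to the residue field
  let π : R[X] →+* ResidueField R := eval₂RingHom (residue R) 1
  have hm₁ : residue R Δ₁ = 0 := (residue_eq_zero_iff _).mpr ((mem_maximalIdeal _).mpr h₁)
  have hm₂ : residue R Δ₂ = 0 := (residue_eq_zero_iff _).mpr ((mem_maximalIdeal _).mpr h₂)
  have hπp : π p = 0 := by
    simp [π, hp, hm₁, hm₂]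
  let πb : (R[X] ⧸ Ideal.span {p}) →+* ResidueField R := Ideal.Quotient.lift _ π (by
    intro a ha
    obtain ⟨c, rfl⟩ := Ideal.mem_span_singleton.mp ha
    rw [map_mul, hπp, zero_mul])
  let mk : R[X] →+* (R[X] ⧸ Ideal.span {p}) := Ideal.Quotient.mk _
  have hπb : ∀ q, πb (mk q) = π q := fun q => Ideal.Quotient.lift_mk _ _ _
  haveI h𝔫 : (RingHom.ker πb).IsPrime := RingHom.ker_isPrime πb
  let ι : R →+* (R[X] ⧸ Ideal.span {p}) := mk.comp C
  have hι_inj : Function.Injective ι := by
    rw [injective_iff_map_eq_zero]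
    intro r hr
    have : (C r : R[X]) ∈ Ideal.span {p} := Ideal.Quotient.eq_zero_iff_mem.mp hr
    obtain ⟨q, hq⟩ := Ideal.mem_span_singleton.mp this
    by_contra hr0
    have hq0 : q ≠ 0 := by
      rintro rfl
      rw [mul_zero] at hq
      exact hr0 (C_eq_zero.mp hq)
    have hdeg := congrArg natDegree hq
    rw [natDegree_C, natDegree_mul hprime.ne_zero hq0] at hdeg
    have hp1 : p.natDegree = 1 := by
      rw [hp]
      compute_degree!
    omega
  have hι_mem : ∀ r ∈ maximalIdeal R, ι r ∈ RingHom.ker πb := by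
    intro r hr
    change πb (mk (C r)) = 0
    rw [hπb]
    simp only [π, coe_eval₂RingHom, eval₂_C]
    exact (residue_eq_zero_iff _).mpr hr
  have ht : mk X - 1 ∈ RingHom.ker πb := by
    change πb (mk X - 1) = 0
    rw [map_sub, hπb, map_one]
    simp [π]
  have hrel : ι Δ₁ = mk X * ι Δ₂ := by
    have : mk p = 0 := Ideal.Quotient.eq_zero_iff_mem.mpr (Ideal.mem_span_singleton_self p)
    simp only [hp, map_add, map_mul, map_neg] at this
    have h2 : mk (C Δ₂) * mk X = mk (C Δ₁) := by
      linear_combination this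
    simp only [ι, RingHom.comp_apply]
    rw [← h2]; ring
  have htn : mk X ∉ RingHom.ker πb := by
    intro htn
    have h1 : (1 : R[X] ⧸ Ideal.span {p}) ∈ RingHom.ker πb := by
      have := (RingHom.ker πb).sub_mem htn ht
      simpa using this
    exact h𝔫.ne_top ((Ideal.eq_top_iff_one _).mpr h1)
  obtain ⟨A, iA, iD, iDVR, g, hg, hgm, hgu⟩ := exists_dvr_at (R[X] ⧸ Ideal.span {p}) (RingHom.ker πb)
    (ι Δ₁) (hι_mem _ ((mem_maximalIdeal _).mpr h₁)) (fun h0 => hΔ₁0 (hι_inj (by rw [h0, map_zero])))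
  have hf_mem : ∀ r ∈ maximalIdeal R, g (ι r) ∈ maximalIdeal A := fun r hr =>
    hgm _ (hι_mem r hr)
  refine ⟨A, iA, iD, iDVR, g.comp ι, ⟨?_⟩, hg.comp hι_inj, ?_, (hgu _ htn).unit, ?_, ?_⟩
  · intro r hr
    by_contra hnu
    exact (mem_maximalIdeal _).mp (hf_mem r ((mem_maximalIdeal _).mpr hnu)) hr
  · exact (mem_maximalIdeal _).mp (hf_mem _ ((mem_maximalIdeal _).mpr h₁))
  · have : ((hgu _ htn).unit : A) - 1 = g (mk X - 1) := by
      simp [IsUnit.unit_spec]
    rw [this]
    exact hgm _ ht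
  · change g (ι Δ₁) = ((hgu _ htn).unit : A) * g (ι Δ₂)
    rw [hrel, map_mul]
    rfl

/-- Let R be a strictly henselian Noetherian local unique factorization domain and Δ₁, Δ₂ two non-units
of R with no common prime factor. Then there are a discrete valuation ring A and an injective local
homomorphism f : R → A — so that Spec A → Spec R sends the closed point to the closed point and the
generic point to the generic point, which lies in every dense open subset — such that f(Δ₁) is a
non-zero non-unit and f(Δ₁) = u · f(Δ₂) for some unit u of A congruent to 1 modulo the maximal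
ideal. (The published statement asks for the images of Δ₁ and Δ₂ in A to be equal, with the generic
point of Spec A sent into a given dense open subset of Spec R; that cannot hold in general — for R =
ℂ[[a,b]], Δ₁ = a, Δ₂ = b and the dense open D(a − b), any local map to a discrete valuation ring
identifying a and b sends the generic point into V(a − b) — so this row asks instead for f(Δ₁) = u ·
f(Δ₂) with u a unit congruent to 1 modulo the maximal ideal.) -/
theorem result
    (R : Type u) [CommRing R] [IsDomain R] [IsNoetherianRing R] [UniqueFactorizationMonoid R]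
    [HenselianLocalRing R] [IsSepClosed (IsLocalRing.ResidueField R)]
    (Δ₁ Δ₂ : R) (h₁ : ¬ IsUnit Δ₁) (h₂ : ¬ IsUnit Δ₂) (hcop : IsRelPrime Δ₁ Δ₂) :
    ∃ (A : Type u) (_ : CommRing A) (_ : IsDomain A) (_ : IsDiscreteValuationRing A) (f : R →+* A),
      IsLocalHom f ∧ Function.Injective f ∧ ¬ IsUnit (f Δ₁) ∧
        ∃ u : Aˣ, (u : A) - 1 ∈ IsLocalRing.maximalIdeal A ∧ f Δ₁ = (u : A) * f Δ₂ := by
  haveI : IsLocalRing R := inferInstance
  exact main R Δ₁ Δ₂ h₁ h₂ hcop

end Groth.Agent.S13204
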