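import Groth.Statements.S13206
-- import your own Groth.Agent.* helpers here

set_option autoImplicit false
universe u
open CategoryTheory AlgebraicGeometry
open AlgGrp

namespace Groth.Agent.S13206

section aux
open Limits

variable {X S : Scheme.{u}} (p : X ⟶ S) [IsSeparated p]

/-- One automorphism: fixed locus is a closed subscheme. -/
theorem single (f : X ⟶ X) (hf : f ≫ p = p) :
    ∃ (Z : Scheme.{u}) (i : Z ⟶ X), IsClosedImmersion i ∧ i ≫ f = i ∧
      ∀ (T : Scheme.{u}) (x : T ⟶ X), x ≫ f = x → ∃ z : T ⟶ Z, z ≫ i = x := by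
  let gr : X ⟶ pullback p p := pullback.lift (𝟙 X) f (by simp [hf])
  refine ⟨pullback gr (pullback.diagonal p), pullback.fst _ _, ?_, ?_, ?_⟩
  · infer_instance
  · have h := pullback.condition (f := gr) (g := pullback.diagonal p)
    have h1 := congrArg (· ≫ pullback.fst p p) h
    have h2 := congrArg (· ≫ pullback.snd p p) h
    simp only [Category.assoc, gr, pullback.lift_fst, pullback.lift_snd, pullback.diagonal_fst,
      pullback.diagonal_snd, Category.comp_id] at h1 h2
    rw [h2, ← h1]
  · intro T x hx
    refine ⟨pullback.lift x x ?_, pullback.lift_fst _ _ _⟩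
    apply pullback.hom_ext
    · simp only [Category.assoc, gr, pullback.lift_fst, pullback.diagonal_fst, Category.comp_id]
    · simp only [Category.assoc, gr, pullback.lift_snd, pullback.diagonal_snd, Category.comp_id, hx]

/-- Finitely many: by induction on a list. -/
theorem list (ρ : List (X ⟶ X)) (hρ : ∀ f ∈ ρ, f ≫ p = p) :
    ∃ (Z : Scheme.{u}) (i : Z ⟶ X), IsClosedImmersion i ∧ (∀ f ∈ ρ, i ≫ f = i) ∧
      ∀ (T : Scheme.{u}) (x : T ⟶ X), (∀ f ∈ ρ, x ≫ f = x) → ∃ z : T ⟶ Z, z ≫ i = x := by
  induction ρ with
  | nil =>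
    exact ⟨X, 𝟙 X, inferInstance, by simp, fun T x _ => ⟨x, by simp⟩⟩
  | cons f l ih =>
    obtain ⟨Z, i, hi, hfix, huniv⟩ := ih (fun g hg => hρ g (List.mem_cons_of_mem _ hg))
    obtain ⟨Z', i', hi', hfix', huniv'⟩ := single p f (hρ f List.mem_cons_self)
    refine ⟨pullback i i', pullback.fst i i' ≫ i, ?_, ?_, ?_⟩
    · infer_instance
    · intro g hg
      rcases List.mem_cons.mp hg with rfl | hg
      · rw [pullback.condition, Category.assoc, hfix']
      · rw [Category.assoc, hfix g hg]
    · intro T x hx
      obtain ⟨z, hz⟩ := huniv T x (fun g hg => hx g (List.mem_cons_of_mem _ hg))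
      obtain ⟨z', hz'⟩ := huniv' T x (hx f List.mem_cons_self)
      refine ⟨pullback.lift z z' (by rw [hz, hz']), ?_⟩
      rw [← Category.assoc, pullback.lift_fst, hz]

end aux

/-- Let X → S be a separated morphism of schemes and let a finite group G act on X through
S-automorphisms. Then the functor of G-fixed points is represented by a closed subscheme of X: there
are a scheme Z and a closed immersion i : Z → X with i ∘ g = i for all g ∈ G such that every
morphism x : T → X with g ∘ x = x for all g ∈ G factors uniquely through i. (The published statement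
is for an algebraic space X over S, also treats the locally separated case and notes compatibility
with base change; this row is the separated case for schemes.) -/
theorem result
    {X S : Scheme.{u}} (p : X ⟶ S) [IsSeparated p]
    (G : Type u) [Group G] [Finite G] (ρ : G →* Aut X) (hρ : ∀ g : G, (ρ g).hom ≫ p = p) :
    ∃ (Z : Scheme.{u}) (i : Z ⟶ X), IsClosedImmersion i ∧ (∀ g : G, i ≫ (ρ g).hom = i) ∧
      ∀ (T : Scheme.{u}) (x : T ⟶ X), (∀ g : G, x ≫ (ρ g).hom = x) → ∃! z : T ⟶ Z, z ≫ i = x := by
  classical
  haveI : Fintype G := Fintype.ofFinite G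
  obtain ⟨Z, i, hi, hfix, huniv⟩ := list p ((Finset.univ : Finset G).toList.map fun g => (ρ g).hom)
    (by
      intro f hf
      obtain ⟨g, -, rfl⟩ := List.mem_map.mp hf
      exact hρ g)
  have hmem : ∀ g : G, (ρ g).hom ∈ (Finset.univ : Finset G).toList.map fun g => (ρ g).hom :=
    fun g => List.mem_map.mpr ⟨g, by simp, rfl⟩
  refine ⟨Z, i, hi, fun g => hfix _ (hmem g), ?_⟩
  intro T x hx
  obtain ⟨z, hz⟩ := huniv T x (by
    intro f hf
    obtain ⟨g, -, rfl⟩ := List.mem_map.mp hf
    exact hx g)
  refine ⟨z, hz, ?_⟩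
  intro z' hz'
  haveI : Mono i := inferInstance
  exact (cancel_mono i).mp (hz'.trans hz.symm)

end Groth.Agent.S13206
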