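import Groth.Statements.S13207
import Mathlib
import Groth.Agent.Lib.Helper20NeronCat

set_option autoImplicit false
universe u
open CategoryTheory CategoryTheory.Limits AlgebraicGeometry
open Neron

namespace Groth.Agent.S13207
open CategoryTheory CategoryTheory.Limits AlgebraicGeometry
open Groth.Agent.Lib.Helper20.NeronCat

section General

universe v' u'
variable {C : Type u'} [Category.{v'} C] [HasPullbacks C]

/-- Plain form of the Néron mapping property. -/
def NMP {U S T Z : C} (j : U ⟶ S) (F : T ⟶ S) (z : Z ⟶ S) : Prop :=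
  ∀ u : pullback z j ⟶ T, u ≫ F = pullback.fst z j ≫ z →
    ∃! g : Z ⟶ T, g ≫ F = z ∧ pullback.fst z j ≫ g = u

theorem ext_iff_nmp {U S T : C} (j : U ⟶ S) (F : T ⟶ S) (Z : Over S) :
    Ext j Z (Over.mk F) ↔ NMP j F Z.hom := by
  constructor
  · intro h u hu
    obtain ⟨g, hg, hguniq⟩ := h u hu
    refine ⟨g.left, ⟨Over.w g, hg⟩, ?_⟩
    rintro g' ⟨hg'1, hg'2⟩
    have := hguniq (Over.homMk g' hg'1) hg'2
    rw [← this]
    rfl
  · intro h u hu
    obtain ⟨g, ⟨hg1, hg2⟩, hguniq⟩ := h u hu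
    refine ⟨Over.homMk g hg1, hg2, ?_⟩
    intro g' hg'
    apply Over.OverMorphism.ext
    exact hguniq g'.left ⟨Over.w g', hg'⟩

theorem NMP.of_isPullback {U S T Z : C} {j : U ⟶ S} {F : T ⟶ S} {z : Z ⟶ S} (h : NMP j F z)
    {P : C} {p : P ⟶ Z} {q : P ⟶ U} (sq : IsPullback p q z j) (u : P ⟶ T) (hu : u ≫ F = p ≫ z) :
    ∃! g : Z ⟶ T, g ≫ F = z ∧ p ≫ g = u := by
  have he : sq.isoPullback.hom ≫ pullback.fst z j = p := sq.isoPullback_hom_fst
  have he' : sq.isoPullback.inv ≫ p = pullback.fst z j := sq.isoPullback_inv_fst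
  obtain ⟨g, ⟨hg1, hg2⟩, hguniq⟩ := h (sq.isoPullback.inv ≫ u) (by
    rw [Category.assoc, hu, ← Category.assoc, he'])
  refine ⟨g, ⟨hg1, ?_⟩, ?_⟩
  · rw [← he, Category.assoc, hg2, Iso.hom_inv_id_assoc]
  · rintro g' ⟨hg'1, hg'2⟩
    apply hguniq
    refine ⟨hg'1, ?_⟩
    rw [← he', Category.assoc, hg'2]

/-- Restriction of the mapping property to a piece. -/
theorem NMP.restrict {U S T U' B' N' Z : C} {j : U ⟶ S} {F : T ⟶ S}
    {ι : B' ⟶ S} {ιN : N' ⟶ T} {f' : N' ⟶ B'} (sqN : IsPullback ιN f' F ι)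
    {k : U' ⟶ U} {j' : U' ⟶ B'} (sqU : IsPullback k j' j ι)
    (z' : Z ⟶ B') (h : NMP j F (z' ≫ ι)) : NMP j' f' z' := by
  intro u' hu'
  have sq : IsPullback (pullback.fst z' j') (pullback.snd z' j' ≫ k) (z' ≫ ι) j :=
    ((IsPullback.of_hasPullback z' j').flip.paste_horiz sqU).flip
  obtain ⟨g, ⟨hg1, hg2⟩, hguniq⟩ := h.of_isPullback sq (u' ≫ ιN) (by
    rw [Category.assoc, sqN.w, ← Category.assoc, hu', Category.assoc])
  refine ⟨sqN.lift g z' hg1, ⟨sqN.lift_snd _ _ _, ?_⟩, ?_⟩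
  · apply sqN.hom_ext
    · rw [Category.assoc, sqN.lift_fst, hg2]
    · rw [Category.assoc, sqN.lift_snd, hu']
  · rintro g' ⟨hg'1, hg'2⟩
    apply sqN.hom_ext
    · rw [sqN.lift_fst]
      apply hguniq
      refine ⟨?_, ?_⟩
      · rw [Category.assoc, sqN.w, ← Category.assoc, hg'1]
      · rw [← Category.assoc, hg'2]
    · rw [sqN.lift_snd, hg'1]

end General

theorem sqA {I : Type u} (B N : I → Scheme.{u}) (f : ∀ i, N i ⟶ B i) (i : I) :
    IsPullback (Sigma.ι N i) (f i) (Limits.Sigma.map f) (Sigma.ι B i) := by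
  refine (IsOpenImmersion.isPullback (f i) (Sigma.ι N i) (Sigma.ι B i) (Limits.Sigma.map f)
    (by simp) ?_).flip
  ext x
  constructor
  · intro hx
    obtain ⟨j, y, rfl⟩ := (sigmaOpenCover N).exists_eq x
    obtain ⟨b, hb⟩ := hx
    have h1 : (Limits.Sigma.map f) ((Sigma.ι N j) y) = (Sigma.ι B j) ((f j) y) := by
      rw [← Scheme.Hom.comp_apply, ← Scheme.Hom.comp_apply]
      congr 2
      simp
    have h2 : (Sigma.ι B i) b = (Sigma.ι B j) ((f j) y) := by
      rw [← h1]; exact hb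
    obtain ⟨rfl⟩ := (sigmaι_eq_iff _ _ _ _ _).mp h2
    exact ⟨y, rfl⟩
  · rintro ⟨y, rfl⟩
    refine ⟨f i y, ?_⟩
    rw [← Scheme.Hom.comp_apply, ← Scheme.Hom.comp_apply]
    congr 2
    simp

theorem nmp_glue {I : Type u} (B N : I → Scheme.{u}) (f : ∀ i, N i ⟶ B i) (U : (∐ B).Opens)
    (h : ∀ i (Z : Scheme.{u}) (z : Z ⟶ B i), Smooth z →
      NMP ((Sigma.ι B i ⁻¹ᵁ U).ι) (f i) z)
    (Z : Scheme.{u}) (z : Z ⟶ ∐ B) [Smooth z] : NMP U.ι (Limits.Sigma.map f) z := by
  intro u hu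
  let 𝒰 : Z.OpenCover := (sigmaOpenCover B).pullback₁ z
  let zi : ∀ i, 𝒰.X i ⟶ B i := fun i => pullback.snd z (Sigma.ι B i)
  have hzi : ∀ i, 𝒰.f i ≫ z = zi i ≫ Sigma.ι B i := fun i => pullback.condition
  have hsm : ∀ i, Smooth (zi i) := fun i => by
    exact MorphismProperty.pullback_snd (P := @Smooth) _ _ inferInstance
  have sqU : ∀ i, IsPullback (Sigma.ι B i ∣_ U) (Sigma.ι B i ⁻¹ᵁ U).ι U.ι (Sigma.ι B i) :=
    fun i => isPullback_morphismRestrict _ _
  let b : ∀ i, pullback (zi i) (Sigma.ι B i ⁻¹ᵁ U).ι ⟶ pullback z U.ι := fun i =>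
    pullback.lift (pullback.fst _ _ ≫ 𝒰.f i) (pullback.snd _ _ ≫ (Sigma.ι B i ∣_ U)) (by
      rw [Category.assoc, hzi, ← Category.assoc, pullback.condition, Category.assoc,
        Category.assoc, (sqU i).w])
  have hb1 : ∀ i, b i ≫ pullback.fst z U.ι = pullback.fst _ _ ≫ 𝒰.f i :=
    fun i => pullback.lift_fst _ _ _
  have hb2 : ∀ i, b i ≫ pullback.snd z U.ι = pullback.snd _ _ ≫ (Sigma.ι B i ∣_ U) :=
    fun i => pullback.lift_snd _ _ _
  have hui : ∀ i, (b i ≫ u) ≫ Limits.Sigma.map f =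
      (pullback.fst (zi i) (Sigma.ι B i ⁻¹ᵁ U).ι ≫ zi i) ≫ Sigma.ι B i := fun i => by
    rw [Category.assoc, hu, ← Category.assoc, hb1, Category.assoc, hzi, Category.assoc]
  let ui : ∀ i, pullback (zi i) (Sigma.ι B i ⁻¹ᵁ U).ι ⟶ N i := fun i =>
    (sqA B N f i).lift (b i ≫ u) (pullback.fst _ _ ≫ zi i) (hui i)
  have hui1 : ∀ i, ui i ≫ Sigma.ι N i = b i ≫ u := fun i => (sqA B N f i).lift_fst _ _ _
  have hui2 : ∀ i, ui i ≫ f i = pullback.fst _ _ ≫ zi i := fun i => (sqA B N f i).lift_snd _ _ _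
  choose gi hgi hgiuniq using fun i => h i _ (zi i) (hsm i) (ui i) (hui2 i)
  have key : ∀ g : Z ⟶ ∐ N, (g ≫ Limits.Sigma.map f = z ∧ pullback.fst z U.ι ≫ g = u) ↔
      ∀ i, 𝒰.f i ≫ g = gi i ≫ Sigma.ι N i := by
    intro g
    constructor
    · rintro ⟨hg1, hg2⟩ i
      have hl : (𝒰.f i ≫ g) ≫ Limits.Sigma.map f = zi i ≫ Sigma.ι B i := by
        rw [Category.assoc, hg1, hzi]
      have : (sqA B N f i).lift (𝒰.f i ≫ g) (zi i) hl = gi i := by
        apply hgiuniq
        refine ⟨(sqA B N f i).lift_snd _ _ _, ?_⟩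
        apply (sqA B N f i).hom_ext
        · rw [Category.assoc, (sqA B N f i).lift_fst, hui1, ← Category.assoc, ← hb1,
            Category.assoc, hg2]
        · rw [Category.assoc, (sqA B N f i).lift_snd, hui2]
      rw [← this, (sqA B N f i).lift_fst]
    · intro hg
      have hg1 : g ≫ Limits.Sigma.map f = z := by
        apply 𝒰.hom_ext
        intro i
        rw [← Category.assoc, hg, Category.assoc, (sqA B N f i).w, ← Category.assoc, (hgi i).1,
          hzi]
      refine ⟨hg1, ?_⟩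
      let 𝒱 : (pullback z U.ι).OpenCover := 𝒰.pullback₁ (pullback.fst z U.ι)
      apply 𝒱.hom_ext
      intro i
      have hc : pullback.fst (pullback.fst z U.ι) (𝒰.f i) ≫ pullback.fst z U.ι =
          pullback.snd (pullback.fst z U.ι) (𝒰.f i) ≫ 𝒰.f i := pullback.condition
      have hl : (pullback.fst (pullback.fst z U.ι) (𝒰.f i) ≫ pullback.snd z U.ι) ≫ U.ι =
          (pullback.snd (pullback.fst z U.ι) (𝒰.f i) ≫ zi i) ≫ Sigma.ι B i := by
        rw [Category.assoc, ← pullback.condition, ← Category.assoc, hc, Category.assoc, hzi,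
          Category.assoc]
      let d : pullback (pullback.fst z U.ι) (𝒰.f i) ⟶ pullback (zi i) (Sigma.ι B i ⁻¹ᵁ U).ι :=
        pullback.lift (pullback.snd _ _) ((sqU i).lift _ _ hl) ((sqU i).lift_snd _ _ _).symm
      have hd1 : d ≫ pullback.fst _ _ = pullback.snd _ _ := pullback.lift_fst _ _ _
      have hd2 : d ≫ pullback.snd _ _ = (sqU i).lift _ _ hl := pullback.lift_snd _ _ _
      have hdb : d ≫ b i = pullback.fst (pullback.fst z U.ι) (𝒰.f i) := by
        apply pullback.hom_ext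
        · rw [Category.assoc, hb1, ← Category.assoc, hd1, hc]
        · rw [Category.assoc, hb2, ← Category.assoc, hd2, (sqU i).lift_fst]
      change pullback.fst (pullback.fst z U.ι) (𝒰.f i) ≫ pullback.fst z U.ι ≫ g =
        pullback.fst (pullback.fst z U.ι) (𝒰.f i) ≫ u
      rw [← Category.assoc, hc, Category.assoc, hg, ← hd1, Category.assoc, ← Category.assoc _ (gi i),
        (hgi i).2, hui1, ← Category.assoc, hdb]
  have compat : ∀ i j, pullback.fst (𝒰.f i) (𝒰.f j) ≫ gi i ≫ Sigma.ι N i =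
      pullback.snd (𝒰.f i) (𝒰.f j) ≫ gi j ≫ Sigma.ι N j := by
    intro i j
    by_cases hij : i = j
    · subst hij
      have : pullback.fst (𝒰.f i) (𝒰.f i) = pullback.snd (𝒰.f i) (𝒰.f i) := by
        rw [← cancel_mono (𝒰.f i)]
        exact pullback.condition
      rw [this]
    · have hcs : CommSq (pullback.fst (𝒰.f i) (𝒰.f j) ≫ zi i) (pullback.snd (𝒰.f i) (𝒰.f j) ≫ zi j)
          (Sigma.ι B i) (Sigma.ι B j) := ⟨by
        rw [Category.assoc, ← hzi, Category.assoc, ← hzi, ← Category.assoc, pullback.condition,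
          Category.assoc]⟩
      have : IsEmpty ↑(pullback (𝒰.f i) (𝒰.f j)) := isEmpty_of_commSq_sigmaι_of_ne hcs hij
      exact (isInitialOfIsEmpty).hom_ext _ _
  refine ⟨𝒰.glueMorphisms (fun i => gi i ≫ Sigma.ι N i) compat, ?_, ?_⟩
  · exact (key _).mpr (fun i => 𝒰.ι_glueMorphisms _ _ i)
  · intro g' hg'
    apply 𝒰.hom_ext
    intro i
    rw [(key g').mp hg' i, 𝒰.ι_glueMorphisms]


/-- Let (S_i)_{i ∈ I} be a family of schemes, (N_i → S_i)_{i ∈ I} morphisms of schemes, S = ∐ S_i and N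
= ∐ N_i with the induced morphism N → S, and U ⊆ S a schematically dense open subscheme with
preimages U_i ⊆ S_i. Then N → S is smooth with the Néron mapping property with respect to U — for
every smooth S-scheme Y, restriction to U is a bijection from S-morphisms Y → N onto U-morphisms Y
×_S U → N ×_S U — if and only if every N_i → S_i is smooth with the Néron mapping property with
respect to U_i. (The published statement is for algebraic spaces N_i tested against smooth algebraic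
spaces, and has the same form for separated models; this row is the not-necessarily-separated case
for schemes tested against smooth schemes.) -/
theorem result
    {I : Type u} (B N : I → Scheme.{u}) (f : ∀ i, N i ⟶ B i)
    (U : (∐ B).Opens) (hU : CInt.IsSchematicallyDense U) :
    (Smooth (Limits.Sigma.map f) ∧ ∀ Y : Over (∐ B), Smooth Y.hom →
        Function.Bijective (fun g : Y ⟶ Over.mk (Limits.Sigma.map f) => (Over.pullback U.ι).map g)) ↔
    ∀ i, Smooth (f i) ∧ ∀ Y : Over (B i), Smooth Y.hom →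
        Function.Bijective (fun g : Y ⟶ Over.mk (f i) => (Over.pullback ((Limits.Sigma.ι B i) ⁻¹ᵁ U).ι).map g) := by
  constructor
  · rintro ⟨hF, hN⟩ i
    refine ⟨MorphismProperty.of_isPullback (sqA B N f i) hF, ?_⟩
    intro Y hY
    rw [bijective_map_iff, ext_iff_nmp]
    have hsm : Smooth (Over.mk (Y.hom ≫ Sigma.ι B i)).hom := by
      dsimp
      infer_instance
    have := hN (Over.mk (Y.hom ≫ Sigma.ι B i)) hsm
    rw [bijective_map_iff, ext_iff_nmp] at this
    exact NMP.restrict (sqA B N f i) (isPullback_morphismRestrict _ _) Y.hom this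
  · intro h
    have hF : Smooth (Limits.Sigma.map f) := by
      rw [IsZariskiLocalAtSource.iff_of_openCover (P := @Smooth) (sigmaOpenCover N)]
      intro (i : I)
      have e : (sigmaOpenCover N).f i ≫ Limits.Sigma.map f = f i ≫ Sigma.ι B i :=
        (sqA B N f i).w
      rw [e]
      have h1 := (h i).1
      have h2 : Smooth (Sigma.ι B i) := inferInstance
      exact MorphismProperty.comp_mem _ _ _ h1 h2
    refine ⟨hF, ?_⟩
    intro Y hY
    rw [bijective_map_iff, ext_iff_nmp]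
    apply nmp_glue
    intro i Z z hz
    have := (h i).2 (Over.mk z) hz
    rwa [bijective_map_iff, ext_iff_nmp] at this

end Groth.Agent.S13207
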