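import Groth.Statements.S13209
import Mathlib
import Groth.Agent.Lib.Helper9QuotSh
import Groth.Agent.S9927

set_option autoImplicit false
universe u
open CategoryTheory CategoryTheory.Limits AlgebraicGeometry
open Neron

namespace Groth.Agent.S13209


open CategoryTheory.Limits Opposite Groth.Agent.Lib.Helper9

variable {S : Scheme.{u}} (U : S.Opens)

/-- `Y ×_S U` as a scheme over `S`. -/
noncomputable abbrev resObj (Y : Over S) : Over S :=
  (Over.map U.ι).obj ((Over.pullback U.ι).obj Y)

/-- the projection `Y ×_S U ⟶ Y`. -/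
noncomputable abbrev cU (Y : Over S) : resObj U Y ⟶ Y := (Over.mapPullbackAdj U.ι).counit.app Y

/-- the projection `Y ×_S U ⟶ U`. -/
noncomputable def prU (Y : Over S) : resObj U Y ⟶ Over.mk U.ι :=
  Over.homMk (pullback.snd Y.hom U.ι) rfl

lemma cU_left (Y : Over S) : (cU U Y).left = pullback.fst Y.hom U.ι := by
  simp [cU]


/-- `Y ×_S U` is the product of `Y` and `U` in `Over S`. -/
noncomputable def isLimitRes (Y : Over S) : IsLimit (BinaryFan.mk (cU U Y) (prU U Y)) :=
  BinaryFan.IsLimit.mk _
    (fun {T} y u' => Over.homMk (pullback.lift y.left u'.left (by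
        rw [Over.w y]; exact (Over.w u').symm)) (by
        change pullback.lift _ _ _ ≫ pullback.snd Y.hom U.ι ≫ U.ι = T.hom
        rw [pullback.lift_snd_assoc]; exact Over.w u'))
    (fun {T} y u' => by
      ext
      simp only [BinaryFan.mk_fst, Over.comp_left, Over.homMk_left, cU_left]
      exact pullback.lift_fst _ _ _)
    (fun {T} y u' => by
      ext
      simp only [BinaryFan.mk_snd, Over.comp_left, Over.homMk_left, prU]
      exact pullback.lift_snd _ _ _)
    (fun {T} y u' m h1 h2 => by
      ext
      apply pullback.hom_ext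
      · have := congrArg (fun k => k.left) h1
        simp only [BinaryFan.mk_fst, Over.comp_left, cU_left] at this
        exact this.trans (pullback.lift_fst _ _ _).symm
      · have := congrArg (fun k => k.left) h2
        simp only [BinaryFan.mk_snd, Over.comp_left, prU, Over.homMk_left] at this
        exact this.trans (pullback.lift_snd _ _ _).symm)

/-- the comparison map `h_{Y ×_S U} ⟶ h_Y ⨯ h_U`. -/
noncomputable def eU (Y : Over S) :
    (AlgSp.yon S).obj (resObj U Y) ⟶ (AlgSp.yon S).obj Y ⨯ (AlgSp.yon S).obj (Over.mk U.ι) :=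
  prod.lift ((AlgSp.yon S).map (cU U Y)) ((AlgSp.yon S).map (prU U Y))

instance (Y : Over S) : IsIso (eU U Y) := by
  have hl : IsLimit (BinaryFan.mk ((AlgSp.yon S).map (cU U Y)) ((AlgSp.yon S).map (prU U Y))) :=
    (isLimitMapConeBinaryFanEquiv (AlgSp.yon S) (cU U Y) (prU U Y))
      (isLimitOfPreserves (AlgSp.yon S) (isLimitRes U Y))
  have : eU U Y = (hl.conePointUniqueUpToIso (prodIsProd _ _)).hom := by
    apply Limits.prod.hom_ext
    · rw [eU, prod.lift_fst]
      exact (hl.conePointUniqueUpToIso_hom_comp (prodIsProd _ _) ⟨WalkingPair.left⟩).symm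
    · rw [eU, prod.lift_snd]
      exact (hl.conePointUniqueUpToIso_hom_comp (prodIsProd _ _) ⟨WalkingPair.right⟩).symm
  rw [this]
  infer_instance


lemma isPullback_prod_map {E : Type*} [Category* E] [HasBinaryProducts E] {A B : E} (p : A ⟶ B)
    (C : E) :
    IsPullback (prod.map p (𝟙 C)) (prod.fst : A ⨯ C ⟶ A) (prod.fst : B ⨯ C ⟶ B) p := by
  refine ⟨⟨by simp⟩, ⟨PullbackCone.IsLimit.mk _ (fun s => prod.lift s.snd (s.fst ≫ prod.snd))
    ?_ ?_ ?_⟩⟩
  · intro s
    apply Limits.prod.hom_ext
    · rw [Category.assoc, prod.map_fst, prod.lift_fst_assoc, s.condition]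
    · rw [Category.assoc, prod.map_snd, prod.lift_snd_assoc, Category.comp_id]
  · intro s
    exact prod.lift_fst _ _
  · intro s m h1 h2
    apply Limits.prod.hom_ext
    · rw [prod.lift_fst]; exact h2
    · rw [prod.lift_snd, ← h1, Category.assoc, prod.map_snd, Category.comp_id]

/-- the terminal sheaf `h_S`. -/
lemma hom_terminal_ext {F : AlgSp.Sp S} {V : Over S} (p : (AlgSp.yon S).obj V ⟶ F)
    (sF : F ⟶ (AlgSp.yon S).obj (Over.mk (𝟙 S))) :
    p ≫ sF = (AlgSp.yon S).map (Over.homMk V.hom : V ⟶ Over.mk (𝟙 S)) ≫ 𝟙 _ := by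
  obtain ⟨k, hk⟩ := (AlgSp.yon S).map_surjective (p ≫ sF)
  rw [← hk, Category.comp_id]
  congr 1
  ext
  simpa using Over.w k



/-- Let S be a scheme, U ⊆ S a schematically dense open subscheme and N → S a smooth S-scheme with the
Néron mapping property for schemes with respect to U: for every smooth S-scheme Y, composition with
the projection Y ×_S U → Y is a bijection from S-morphisms Y → N onto S-morphisms Y ×_S U → N
(equivalently, onto U-morphisms Y ×_S U → N ×_S U). Then N also has the Néron mapping property with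
respect to smooth algebraic spaces: for every algebraic space F over S (an fppf sheaf of sets on
S-schemes with representable diagonal and an étale surjective chart from a scheme) whose structure
map to h_S is smooth, composition with the first projection F × h_U → F is a bijection from
morphisms of sheaves F → h_N onto morphisms F × h_U → h_N. -/
theorem result
    {S : Scheme.{u}} (U : S.Opens) (hU : CInt.IsSchematicallyDense U) (N : Over S) [Smooth N.hom]
    (hN : ∀ Y : Over S, Smooth Y.hom →
      Function.Bijective (fun g : Y ⟶ N => (Over.mapPullbackAdj U.ι).counit.app Y ≫ g))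
    (F : AlgSp.Sp S) (hF : AlgSp.IsAlgSpace F)
    (sF : F ⟶ (AlgSp.yon S).obj (Over.mk (𝟙 S))) (hsm : AlgSp.LocP @Smooth sF) :
    Function.Bijective (fun φ : F ⟶ (AlgSp.yon S).obj N =>
      (Limits.prod.fst : F ⨯ (AlgSp.yon S).obj (Over.mk U.ι) ⟶ F) ≫ φ) := by
  obtain ⟨V, p, hp, hps⟩ := hF.atlas
  haveI : Epi p := S9927.epi_of_repWith p hp hps
  -- the kernel pair
  obtain ⟨R', b, fst', sq⟩ := hp.1 p
  obtain ⟨a, rfl⟩ := (AlgSp.yon S).map_surjective fst'
  have hb : Etale b.left := hp.2 p _ b sq
  -- smoothness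
  have hVsm : Smooth V.hom := by
    have := hsm p (𝟙 _) (Over.homMk V.hom : V ⟶ Over.mk (𝟙 S)) hp (AlgSp.repWith_id _ _)
      (hom_terminal_ext p sF)
    simpa using this
  have hRsm : Smooth R'.hom := by
    rw [← Over.w b]
    infer_instance
  -- notation
  let HU := (AlgSp.yon S).obj (Over.mk U.ι)
  let cF : ∀ (Y : Over S) (x : (AlgSp.yon S).obj Y ⟶ F), (AlgSp.yon S).obj (resObj U Y) ⟶ F ⨯ HU :=
    fun Y x => prod.lift ((AlgSp.yon S).map (cU U Y) ≫ x) ((AlgSp.yon S).map (prU U Y))
  have hcF : ∀ (Y : Over S) (x : (AlgSp.yon S).obj Y ⟶ F), cF Y x = eU U Y ≫ prod.map x (𝟙 HU) := by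
    intro Y x
    apply Limits.prod.hom_ext <;> simp [cF, eU, HU]
  haveI : Epi (prod.map p (𝟙 HU)) :=
    ToposLike.epi_of_isPullback (isPullback_prod_map p HU) inferInstance
  haveI : Epi (cF V p) := by rw [hcF]; infer_instance
  constructor
  · -- injectivity
    intro φ1 φ2 h
    simp only at h
    obtain ⟨g1, hg1⟩ := (AlgSp.yon S).map_surjective (p ≫ φ1)
    obtain ⟨g2, hg2⟩ := (AlgSp.yon S).map_surjective (p ≫ φ2)
    have hg : g1 = g2 := by
      apply (hN V hVsm).1
      apply (AlgSp.yon S).map_injective
      simp only [Functor.map_comp]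
      rw [hg1, hg2]
      have e1 : (AlgSp.yon S).map (cU U V) ≫ p = cF V p ≫ prod.fst := (prod.lift_fst _ _).symm
      rw [← Category.assoc, ← Category.assoc, e1, Category.assoc, Category.assoc, h]
    rw [← cancel_epi p, ← hg1, ← hg2, hg]
  · -- surjectivity
    intro ψ
    obtain ⟨gU, hgU⟩ := (AlgSp.yon S).map_surjective (cF V p ≫ ψ)
    obtain ⟨g, hg⟩ := (hN V hVsm).2 gU
    simp only at hg
    have hab : a ≫ g = b ≫ g := by
      apply (hN R' hRsm).1
      apply (AlgSp.yon S).map_injective
      simp only
      have n1 : cU U R' ≫ a = (Over.map U.ι).map ((Over.pullback U.ι).map a) ≫ cU U V :=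
        ((Over.mapPullbackAdj U.ι).counit.naturality a).symm
      have n2 : cU U R' ≫ b = (Over.map U.ι).map ((Over.pullback U.ι).map b) ≫ cU U V :=
        ((Over.mapPullbackAdj U.ι).counit.naturality b).symm
      rw [← Category.assoc, ← Category.assoc, n1, n2, Category.assoc, Category.assoc, hg,
        Functor.map_comp, Functor.map_comp, hgU, ← Category.assoc, ← Category.assoc]
      congr 1
      apply Limits.prod.hom_ext
      · simp only [cF, Category.assoc, prod.lift_fst]
        rw [← Functor.map_comp_assoc, ← Functor.map_comp_assoc, ← n1, ← n2, Functor.map_comp,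
          Functor.map_comp, Category.assoc, Category.assoc, sq.w]
      · simp only [cF, Category.assoc, prod.lift_snd]
        rw [← Functor.map_comp, ← Functor.map_comp]
        congr 1
        ext
        simp only [prU, Over.comp_left, Over.homMk_left, Over.map_map_left, Over.pullback_map_left]
        exact (pullback.lift_snd _ _ _).trans (pullback.lift_snd _ _ _).symm
    obtain ⟨φ, hφ, -⟩ := existsUnique_desc_of_kernelPair p inferInstance _ _ sq
      ((AlgSp.yon S).map g) (by rw [← Functor.map_comp, ← Functor.map_comp, hab])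
    refine ⟨φ, ?_⟩
    simp only
    rw [← cancel_epi (cF V p), ← hgU, ← hg, Functor.map_comp, hφ]
    exact (prod.lift_fst_assoc _ _ _).trans (Category.assoc _ _ _)

end Groth.Agent.S13209
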