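import Groth.Statements.S1323
import Groth.Agent.Lib.Helper2Deform
import Groth.Agent.S1304
import Groth.Agent.S1312
import Groth.Agent.S2306
import Mathlib

set_option autoImplicit false
universe u
open FlatMor

namespace Groth.Agent.S1323

section Dev
open AlgebraicGeometry CategoryTheory Limits TopologicalSpace
open Groth.Agent.Lib.Helper2.Thick Groth.Agent.Lib.Helper2.Deform

theorem finite_of_fthick {X X' Y Y' : Scheme.{u}} (iX : X ⟶ X') (iY : Y ⟶ Y') (f : X ⟶ Y)
    (f' : X' ⟶ Y') (hY : MoreMor.IsFiniteOrderThickening iY) (hc : IsPullback iX f f' iY)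
    [IsFinite f] : IsFinite f' := by
  have hX := fthick_baseChange iX iY f f' hY hc
  have : IsClosedImmersion iX := hX.1.1
  have : Surjective iX := hX.1.2
  have : IsClosedImmersion iY := hY.1.1
  have : LocallyOfFiniteType f' := lft_of_fthick iX iY f f' hY hc
  have : IsSeparated f' := (Groth.Agent.S2306.result f' f iX iY hc.w.symm).mpr inferInstance
  have : UniversallyClosed f' := (Groth.Agent.S1304.result iX iY f f' hX.1 hY.1 hc.w).mp inferInstance
  have : IsProper f' := {}
  have : LocallyQuasiFinite f' := (Groth.Agent.S1312.result iX iY f f' hY.1 hc).mp inferInstance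
  exact IsFinite.of_isProper_of_locallyQuasiFinite f'


end Dev

open AlgebraicGeometry CategoryTheory Limits in
/-- Let S ⟶ S' be a finite order thickening, let X' ⟶ Y' be a morphism of schemes over S' with X' flat
over S', and let X ⟶ Y be its base change to S. Then X ⟶ Y is finite locally free of rank d if and
only if X' ⟶ Y' is. -/
theorem result (d : ℕ) {X X' Y Y' S S' : Scheme.{u}} (iX : X ⟶ X') (iY : Y ⟶ Y') (iS : S ⟶ S')
    (f : X ⟶ Y) (f' : X' ⟶ Y') (g : Y ⟶ S) (g' : Y' ⟶ S')
    (hS : MoreMor.IsFiniteOrderThickening iS) (hcX : IsPullback iX (f ≫ g) (f' ≫ g') iS) (hcY : IsPullback iY g g' iS)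
    (w : iX ≫ f' = f ≫ iY) [Flat (f' ≫ g')] :
    Mor2.IsFinLocFreeOfDeg d f ↔ Mor2.IsFinLocFreeOfDeg d f' := by
  open Groth.Agent.Lib.Helper2.Thick Groth.Agent.Lib.Helper2.Deform in
  have hc := deform_isPullback iX iY iS f f' g g' hcX hcY w
  have hY := fthick_baseChange iY iS g g' hS hcY
  have : Surjective iY := hY.1.2
  constructor
  · rintro ⟨⟨h1, h2, h3⟩, h4⟩
    have h1' : IsFinite f' := finite_of_fthick iX iY f f' hY hc
    have h2' : Flat f' := flat_of_deform iX iY iS f f' g g' hS hcX hcY w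
    have h3' : LocallyOfFinitePresentation f' := lfp_of_deform iX iY iS f f' g g' hS hcX hcY w
    refine ⟨⟨h1', h2', h3'⟩, ?_⟩
    intro y'
    obtain ⟨y, rfl⟩ := iY.surjective y'
    rw [← Scheme.Hom.finrank_of_isPullback iX f f' iY hc y]
    exact h4 y
  · rintro ⟨⟨h1, h2, h3⟩, h4⟩
    refine ⟨⟨MorphismProperty.of_isPullback (P := @IsFinite) hc h1,
      MorphismProperty.of_isPullback (P := @Flat) hc h2,
      MorphismProperty.of_isPullback (P := @LocallyOfFinitePresentation) hc h3⟩, ?_⟩
    intro y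
    rw [Scheme.Hom.finrank_of_isPullback iX f f' iY hc y]
    exact h4 (iY y)

end Groth.Agent.S1323
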