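import Groth.Statements.S1327
import Groth.Agent.Lib.Helper22SCFlat

set_option autoImplicit false
universe u
open FlatMor

namespace Groth.Agent.S1327

open AlgebraicGeometry CategoryTheory Limits in
/-- Let f be flat and of finite presentation with a section s, and let y be a point of the target whose
fibre is geometrically reduced. Then the section components of (f, s) contain an open neighbourhood
of the connected component of s y in the fibre over y. -/
theorem result {X Y : Scheme.{u}} (f : X ⟶ Y) (s : Y ⟶ X) (hs : s ≫ f = 𝟙 Y)
    [LocallyOfFinitePresentation f] [QuasiCompact f] [QuasiSeparated f] [Flat f] (y : Y)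
    (hy : GeometricallyReduced (f.fiberToSpecResidueField y)) :
    connectedComponentIn (f ⁻¹' {y}) (s y) ⊆ interior (MoreMor.sectionComponents f s) := by
  refine Groth.Agent.Lib.Helper22.SC.subset_interior_sectionComponents_of_flat f s hs y ?_
  intro x hx
  have hfx : f x = y := connectedComponentIn_subset (f ⁻¹' {y}) (s y) hx
  rw [Groth.Agent.Lib.Helper22.SC.gRAt_iff f x y hfx]
  intro K _ _ x' _
  have hred : AlgebraicGeometry.IsReduced (FBase.bc (f.fiberToSpecResidueField y) K) :=
    hy.geometrically_isReduced _ _ _ (IsPullback.of_hasPullback _ _)
  infer_instance

end Groth.Agent.S1327
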