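import Groth.Statements.S13341
import Mathlib.AlgebraicGeometry.Morphisms.Separated

set_option autoImplicit false
open CategoryTheory CategoryTheory.Limits
universe u
open FCompl

namespace Groth.Agent.S13341

set_option linter.unusedVariables false

/-- Graphs are compatible with levelwise fibre products: a purely categorical pullback square. -/
theorem isPullback_graph {C : Type*} [Category C] [HasPullbacks C]
    {X X' Y Y' S S' : C} (ιX : X ⟶ X') (ιY : Y ⟶ Y') (ιS : S ⟶ S') [Mono ιY]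
    (p : X ⟶ S) (p' : X' ⟶ S') (q : Y ⟶ S) (q' : Y' ⟶ S') (f : X ⟶ Y) (f' : X' ⟶ Y')
    (hp : p ≫ ιS = ιX ≫ p') (hq : q ≫ ιS = ιY ≫ q') (hf : f ≫ ιY = ιX ≫ f')
    (w : 𝟙 X ≫ p = f ≫ q) (w' : 𝟙 X' ≫ p' = f' ≫ q') :
    IsPullback ιX (pullback.lift (𝟙 X) f w) (pullback.lift (𝟙 X') f' w')
      (pullback.map p q p' q' ιX ιY ιS hp hq) := by
  refine ⟨⟨?_⟩, ⟨PullbackCone.IsLimit.mk _ (fun s => s.snd ≫ pullback.fst _ _) ?_ ?_ ?_⟩⟩
  · apply pullback.hom_ext
    · simp only [Category.assoc, pullback.lift_fst, pullback.lift_fst_assoc, Category.comp_id,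
        Category.id_comp]
    · simp only [Category.assoc, pullback.lift_snd, pullback.lift_snd_assoc, hf]
  · intro s
    have h1 := s.condition
    have h2 := congrArg (· ≫ pullback.fst _ _) h1
    simp only [Category.assoc, pullback.lift_fst, Category.comp_id] at h2
    rw [Category.assoc, h2]
  · intro s
    have h1 := s.condition
    have h2 := congrArg (· ≫ pullback.fst _ _) h1
    have h3 := congrArg (· ≫ pullback.snd _ _) h1
    simp only [Category.assoc, pullback.lift_fst, pullback.lift_snd, Category.comp_id] at h2 h3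
    apply pullback.hom_ext
    · simp only [Category.assoc, pullback.lift_fst, Category.comp_id]
    · rw [Category.assoc, pullback.lift_snd, ← cancel_mono ιY, Category.assoc, Category.assoc, hf,
        Category.assoc, ← h3, h2, Category.assoc, Category.assoc]
  · intro s m _ hm2
    rw [← hm2, Category.assoc, pullback.lift_fst, Category.comp_id]

open AlgebraicGeometry in
/-- Formal schemes are presented as locally Noetherian adic systems of thickenings and the fibre product
is taken levelwise (it presents the fibre product of formal schemes since one factor is adic over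
the base). Let 𝔖 be a locally Noetherian formal system, 𝔛 and 𝔜 locally Noetherian formal systems
over 𝔖 such that 𝔛 or 𝔜 is of finite type over 𝔖, and 𝔜 separated over 𝔖 at level 0. Then for every
𝔖-morphism f : 𝔛 → 𝔜 the graph morphism 𝔛 → 𝔛 ×_𝔖 𝔜 is a closed immersion: adic, with level 0 a
closed immersion. -/
theorem result {𝔛 𝔜 𝔖 : FSch.Sys.{u}} (h𝔖 : 𝔖.IsLocNoethFormal) (h𝔛 : 𝔛.IsLocNoethFormal)
    (h𝔜 : 𝔜.IsLocNoethFormal) (p : 𝔛 ⟶ 𝔖) (q : 𝔜 ⟶ 𝔖) (hpq : FSch.IsFiniteTypeHom p ∨ FSch.IsFiniteTypeHom q)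
    (hq : IsSeparated ((q : FSch.Hom 𝔜 𝔖).app 0)) (f : 𝔛 ⟶ 𝔜) (w : f ≫ q = p) :
    FSch.IsClosedImmHom (FSch.graph f p q w) := by
  subst w
  refine ⟨fun n => ?_, ?_⟩
  · have hmono : Mono (𝔜.ι n) := by
      have := (h𝔜.1 n).1
      infer_instance
    exact isPullback_graph (𝔛.ι n) (𝔜.ι n) (𝔖.ι n) _ _ _ _ _ _
      ((f ≫ q : FSch.Hom 𝔛 𝔖).comm n) ((q : FSch.Hom 𝔜 𝔖).comm n) ((f : FSch.Hom 𝔛 𝔜).comm n) _ _
  · have := hq
    exact inferInstanceAs (IsClosedImmersion (pullback.lift (𝟙 _) ((f : FSch.Hom 𝔛 𝔜).app 0)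
      (Category.id_comp _)))

end Groth.Agent.S13341
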