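import Groth.Statements.S13352
import Mathlib
import Groth.Agent.S11525
import Groth.Agent.S11529
import Groth.Agent.Lib.Helper11BoschI

set_option autoImplicit false
universe u
open scoped TensorProduct
open AdicRing

namespace Groth.Agent.S13352

open TensorProduct in
theorem isUnit_algebraMap_tensor (R : Type u) [CommRing R] [IsDomain R]
    (A : Type u) [CommRing A] [Algebra R A] (r : R) (hr : r ≠ 0) :
    IsUnit (algebraMap R (A ⊗[R] FractionRing R) r) := by
  have h1 : IsUnit (algebraMap R (FractionRing R) r) := by
    apply IsUnit.mk0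
    intro h0
    exact hr (IsFractionRing.injective R (FractionRing R) (by rw [h0, map_zero]))
  have h2 := h1.map (Algebra.TensorProduct.includeRight : FractionRing R →ₐ[R] A ⊗[R] FractionRing R)
  rwa [AlgHom.commutes] at h2

open TensorProduct in
/-- the general statement: for any `A`-subalgebra generated by finitely many integral elements -/
theorem main
    (R : Type u) [CommRing R] [IsDomain R] [ValuationRing R] [Ring.KrullDimLE 1 R]
    (t : R) (ht : t ≠ 0) [IsAdicComplete (Ideal.span {t}) R]
    (A : Type u) [CommRing A] [Algebra R A] (hA : AdicRing.TopFiniteType R (Ideal.span {t}) A)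
    (n : ℕ) (f : Fin n → A ⊗[R] FractionRing R) (hf : ∀ i, IsIntegral A (f i)) :
    AdicRing.Admissible R (Ideal.span {t}) ↥(Algebra.adjoin A (Set.range f)) ∧
      Module.Finite A ↥(Algebra.adjoin A (Set.range f)) := by
  classical
  have hR : AdicRing.IsBase R (Ideal.span {t}) :=
    ⟨inferInstance, Or.inr ⟨inferInstance, inferInstance, inferInstance, t, ht, rfl⟩⟩
  haveI hfin : Module.Finite A ↥(Algebra.adjoin A (Set.range f)) :=
    Algebra.finite_adjoin_of_finite_of_isIntegral (Set.finite_range _) (by
      rintro _ ⟨j, rfl⟩
      exact hf j)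
  refine ⟨?_, hfin⟩
  haveI hcompl : IsAdicComplete (Ideal.span {t}) ↥(Algebra.adjoin A (Set.range f)) :=
    Groth.Agent.S11529.result R _ hR A hA _
  have hT : AdicRing.NoPowTorsion (Ideal.span {t}) ↥(Algebra.adjoin A (Set.range f)) := by
    intro x k hx
    have h1 := hx (t ^ k) (Ideal.pow_mem_pow (Ideal.mem_span_singleton_self t) k)
    have h2 : algebraMap R (A ⊗[R] FractionRing R) (t ^ k) * (x : A ⊗[R] FractionRing R) = 0 := by
      have := congrArg Subtype.val h1
      rw [← Algebra.smul_def]
      simpa using this
    have h3 := isUnit_algebraMap_tensor R A (t ^ k) (pow_ne_zero k ht)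
    have h4 := (h3.mul_right_eq_zero).1 h2
    exact Subtype.ext h4
  refine ⟨?_, hT⟩
  apply Groth.Agent.S11525.result R _ hR _ _ hT
  let f' : Fin n → ↥(Algebra.adjoin A (Set.range f)) :=
    fun j => ⟨f j, Algebra.subset_adjoin ⟨j, rfl⟩⟩
  apply Groth.Agent.Lib.Helper11.Bosch.topFiniteType_of_adjoin (Ideal.span {t}) ⟨{t}, by simp⟩
    A hA _ n f'
  have h1 := Algebra.adjoin_adjoin_coe_preimage (R := A) (s := Set.range f)
  have h2 : Set.range f' = Subtype.val ⁻¹' Set.range f := by
    ext x
    constructor
    · rintro ⟨j, rfl⟩
      exact ⟨j, rfl⟩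
    · rintro ⟨j, hj⟩
      exact ⟨j, Subtype.ext hj⟩
  rw [h2]
  exact h1


/-- Let R be a complete valuation ring of height one with t a nonzero element generating an ideal of
definition and K its field of fractions, A an admissible R-algebra, and f_1, ..., f_n elements of A
⊗_R K that are integral over A. Then A' = A[f_1, ..., f_n], a subalgebra of A ⊗_R K, is an
admissible R-algebra which is finite over A. (The published hypothesis is that each f_i has supremum
seminorm at most 1 on the affinoid algebra A ⊗_R K; integrality of the f_i over A is what is derived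
from it and used, and is the hypothesis taken here.) -/
theorem result
    (R : Type u) [CommRing R] [IsDomain R] [ValuationRing R] [Ring.KrullDimLE 1 R]
    (t : R) (ht : t ≠ 0) [IsAdicComplete (Ideal.span {t}) R]
    (A : Type u) [CommRing A] [Algebra R A] (hA : AdicRing.Admissible R (Ideal.span {t}) A)
    (n : ℕ) (f : Fin n → A ⊗[R] FractionRing R) (hf : ∀ i, IsIntegral A (f i)) :
    AdicRing.Admissible R (Ideal.span {t}) ↥(Algebra.adjoin A (Set.range f)) ∧
      Module.Finite A ↥(Algebra.adjoin A (Set.range f)) := by
  exact main R t ht A (Groth.Agent.Lib.Helper11.Bosch.topFiniteType_of_admissible R _ A hA) n f hf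

end Groth.Agent.S13352
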