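import Groth.Statements.S13353
import Mathlib
import Groth.Agent.Lib.Helper11BoschA
import Groth.Agent.Lib.Helper11BoschC

set_option autoImplicit false
universe u
open scoped TensorProduct
open AdicRing

namespace Groth.Agent.S13353

open TensorProduct Groth.Agent.Lib.Helper11.Bosch

theorem isUnit_algebraMap_tensor (R : Type u) [CommRing R] [IsDomain R]
    (A : Type u) [CommRing A] [Algebra R A] (r : R) (hr : r ≠ 0) :
    IsUnit (algebraMap R (A ⊗[R] FractionRing R) r) := by
  have h1 : IsUnit (algebraMap R (FractionRing R) r) := by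
    apply IsUnit.mk0
    intro h0
    exact hr (IsFractionRing.injective R (FractionRing R) (by rw [h0, map_zero]))
  have h2 := h1.map (Algebra.TensorProduct.includeRight : FractionRing R →ₐ[R] A ⊗[R] FractionRing R)
  rwa [AlgHom.commutes] at h2

/-- an `R`-module without `t`-power torsion is torsion free -/
theorem torsion_eq_bot
    (R : Type u) [CommRing R] [IsDomain R] [ValuationRing R] [Ring.KrullDimLE 1 R]
    (t : R) [IsAdicComplete (Ideal.span {t}) R]
    (D : Type u) [AddCommGroup D] [Module R D] (hD : AdicRing.NoPowTorsion (Ideal.span {t}) D) :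
    Submodule.torsion R D = ⊥ := by
  rw [eq_bot_iff]
  rintro x ⟨a, ha⟩
  rw [Submodule.mem_bot]
  have ha0 : (a : R) ≠ 0 := nonZeroDivisors.coe_ne_zero a
  have ha' : (a : R) • x = 0 := ha
  by_cases hu : IsUnit (a : R)
  · obtain ⟨b, hb⟩ := hu.exists_left_inv
    have : x = b • ((a : R) • x) := by rw [smul_smul, hb, one_smul]
    rw [this, ha', smul_zero]
  · obtain ⟨N, hN⟩ := exists_pow_mem_span R (a : R) ha0 t (t_mem_maximalIdeal R t)
    rw [Ideal.mem_span_singleton] at hN
    obtain ⟨b, hb⟩ := hN
    apply hD x N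
    intro r hr
    rw [Ideal.span_singleton_pow, Ideal.mem_span_singleton] at hr
    obtain ⟨r', rfl⟩ := hr
    rw [hb, mul_comm (a : R) b, mul_assoc, mul_comm (a : R) r', ← mul_assoc, mul_smul, ha', smul_zero]

theorem includeLeft_injective
    (R : Type u) [CommRing R] [IsDomain R] [ValuationRing R] [Ring.KrullDimLE 1 R]
    (t : R) [IsAdicComplete (Ideal.span {t}) R]
    (D : Type u) [CommRing D] [Algebra R D] (hD : AdicRing.NoPowTorsion (Ideal.span {t}) D) :
    Function.Injective (Algebra.TensorProduct.includeLeft : D →ₐ[R] D ⊗[R] FractionRing R) := by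
  haveI : Module.Flat R D :=
    (Module.Flat.flat_iff_torsion_eq_bot_of_isBezout).2 (torsion_eq_bot R t D hD)
  have h1 : Function.Injective (LinearMap.lTensor D (Algebra.linearMap R (FractionRing R))) :=
    Module.Flat.lTensor_preserves_injective_linearMap _ (IsFractionRing.injective R (FractionRing R))
  have h2 : ∀ d : D, (Algebra.TensorProduct.includeLeft : D →ₐ[R] D ⊗[R] FractionRing R) d =
      LinearMap.lTensor D (Algebra.linearMap R (FractionRing R)) ((TensorProduct.rid R D).symm d) := by
    intro d
    simp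
  intro d d' hdd
  rw [h2, h2] at hdd
  exact (TensorProduct.rid R D).symm.injective (h1 hdd)


/-- Let R be a complete valuation ring of height one with t a nonzero element generating an ideal of
definition and K its field of fractions, A an admissible R-algebra, f_1, ..., f_n elements of A ⊗_R
K integral over A, c a nonzero element of R and g_1, ..., g_n elements of A with g_i = c f_i in A
⊗_R K; put 𝔞 = (c, g_1, ..., g_n) and A' = A[f_1, ..., f_n] ⊂ A ⊗_R K. If D is an admissible
R-algebra and φ : A → D an R-algebra homomorphism such that the ideal 𝔞D is generated by the image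
of c, or by the image of some g_i, then 𝔞D is generated by c and φ extends to exactly one R-algebra
homomorphism A' → D. (This is the universal property through which Spf A' → Spf A is identified with
the formal blowing-up of 𝔞 on Spf A; the published hypothesis on the f_i is a supremum-seminorm
bound, from which their integrality over A is derived.) -/
theorem result
    (R : Type u) [CommRing R] [IsDomain R] [ValuationRing R] [Ring.KrullDimLE 1 R]
    (t : R) (ht : t ≠ 0) [IsAdicComplete (Ideal.span {t}) R]
    (A : Type u) [CommRing A] [Algebra R A] (hA : AdicRing.Admissible R (Ideal.span {t}) A)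
    (n : ℕ) (f : Fin n → A ⊗[R] FractionRing R) (hf : ∀ i, IsIntegral A (f i))
    (c : R) (hc : c ≠ 0) (g : Fin n → A)
    (hg : ∀ i, algebraMap A (A ⊗[R] FractionRing R) (g i) = c • f i)
    (D : Type u) [CommRing D] [Algebra R D] (hD : AdicRing.Admissible R (Ideal.span {t}) D)
    (φ : A →ₐ[R] D)
    (hgen : (Ideal.span (insert (algebraMap R A c) (Set.range g))).map φ =
          Ideal.span {algebraMap R D c} ∨
      ∃ i, (Ideal.span (insert (algebraMap R A c) (Set.range g))).map φ = Ideal.span {φ (g i)}) :
    (Ideal.span (insert (algebraMap R A c) (Set.range g))).map φ = Ideal.span {algebraMap R D c} ∧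
      ∃! ψ : ↥(Algebra.adjoin A (Set.range f)) →ₐ[R] D,
        ψ.comp (IsScalarTower.toAlgHom R A ↥(Algebra.adjoin A (Set.range f))) = φ := by
  classical
  let ιD : D →ₐ[R] (D ⊗[R] FractionRing R) := Algebra.TensorProduct.includeLeft
  have hinj : Function.Injective ιD := includeLeft_injective R t D hD.2
  let φK : (A ⊗[R] FractionRing R) →ₐ[R] (D ⊗[R] FractionRing R) := Algebra.TensorProduct.map φ (AlgHom.id R (FractionRing R))
  have hφK : ∀ a : A, φK (algebraMap A (A ⊗[R] FractionRing R) a) = ιD (φ a) := by
    intro a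
    rw [Algebra.TensorProduct.algebraMap_apply]
    simp only [φK, ιD, Algebra.TensorProduct.map_tmul, AlgHom.id_apply,
      Algebra.TensorProduct.includeLeft_apply, Algebra.algebraMap_self, RingHom.id_apply]
  have huc : IsUnit (algebraMap R (D ⊗[R] FractionRing R) c) := isUnit_algebraMap_tensor R D c hc
  -- key relation
  have hrel : ∀ i, algebraMap R (D ⊗[R] FractionRing R) c * φK (f i) = ιD (φ (g i)) := by
    intro i
    rw [← hφK, hg i, map_smul]
    exact (Algebra.smul_def _ _).symm
  set 𝔞D := (Ideal.span (insert (algebraMap R A c) (Set.range g))).map φ with h𝔞D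
  have hc_mem : algebraMap R D c ∈ 𝔞D := by
    have := Ideal.mem_map_of_mem φ (Ideal.subset_span (Set.mem_insert (algebraMap R A c) (Set.range g)))
    rwa [AlgHom.commutes] at this
  have hg_mem : ∀ i, φ (g i) ∈ 𝔞D := fun i =>
    Ideal.mem_map_of_mem φ (Ideal.subset_span (Set.mem_insert_of_mem _ ⟨i, rfl⟩))
  have hmain : 𝔞D = Ideal.span {algebraMap R D c} := by
    rcases hgen with h | ⟨i, hi⟩
    · exact h
    · -- `c = γ e`
      have h1 := hc_mem
      rw [hi, Ideal.mem_span_singleton] at h1
      obtain ⟨e, he⟩ := h1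
      have h2 : ιD e * φK (f i) = 1 := by
        apply huc.mul_left_cancel
        rw [mul_one, mul_comm (ιD e), ← mul_assoc, hrel i, ← map_mul, ← he, AlgHom.commutes]
      have hint : IsIntegral D (φK (f i)) := by
        obtain ⟨p, hp, hp0⟩ := hf i
        refine ⟨p.map φ.toRingHom, hp.map _, ?_⟩
        rw [Polynomial.eval₂_map]
        have h3 := congrArg (φK : (A ⊗[R] FractionRing R) →+* (D ⊗[R] FractionRing R)) hp0
        rw [Polynomial.hom_eval₂, map_zero] at h3
        have h4 : (φK : (A ⊗[R] FractionRing R) →+* (D ⊗[R] FractionRing R)).comp (algebraMap A (A ⊗[R] FractionRing R)) = (algebraMap D (D ⊗[R] FractionRing R)).comp φ.toRingHom := by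
          ext a
          simp only [RingHom.comp_apply, RingHom.coe_coe]
          rw [hφK]
          rfl
        rw [h4] at h3
        exact h3
      have h5 := inv_mem_adjoin_of_isIntegral (R := D) (ιD e) (φK (f i)) h2 hint
      have h6 : Algebra.adjoin D {ιD e} ≤ ⊥ := Algebra.adjoin_le (by
        rintro _ rfl
        exact Subalgebra.algebraMap_mem ⊥ e)
      obtain ⟨d, hd⟩ := Algebra.mem_bot.1 (h6 h5)
      have h7 : φ (g i) = algebraMap R D c * d := by
        apply hinj
        rw [← hrel i, map_mul, AlgHom.commutes]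
        congr 1
        exact hd.symm
      apply le_antisymm
      · rw [hi, Ideal.span_singleton_le_span_singleton]
        exact ⟨d, h7⟩
      · rw [Ideal.span_singleton_le_iff_mem]
        exact hc_mem
  refine ⟨hmain, ?_⟩
  -- images of the `f i`
  have hd : ∀ i, ∃ d : D, φK (f i) = ιD d := by
    intro i
    have h1 := hg_mem i
    rw [hmain, Ideal.mem_span_singleton] at h1
    obtain ⟨d, hd⟩ := h1
    refine ⟨d, ?_⟩
    apply huc.mul_left_cancel
    rw [hrel i, hd, map_mul, AlgHom.commutes]
  set A' := Algebra.adjoin A (Set.range f) with hA'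
  have hrange : ∀ x : (A ⊗[R] FractionRing R), x ∈ A' → φK x ∈ ιD.range := by
    intro x hx
    induction hx using Algebra.adjoin_induction with
    | mem x hx =>
      obtain ⟨j, rfl⟩ := hx
      obtain ⟨d, hd⟩ := hd j
      exact ⟨d, hd.symm⟩
    | algebraMap a => exact ⟨φ a, (hφK a).symm⟩
    | add x y _ _ hx hy => rw [map_add]; exact Subalgebra.add_mem _ hx hy
    | mul x y _ _ hx hy => rw [map_mul]; exact Subalgebra.mul_mem _ hx hy
  let ψ₀ : ↥A' →ₐ[R] ιD.range :=
    AlgHom.codRestrict (φK.comp (A'.val.restrictScalars R)) ιD.range (fun x => hrange x x.2)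
  let e := AlgEquiv.ofInjective ιD hinj
  let ψ : ↥A' →ₐ[R] D := (e.symm : ιD.range →ₐ[R] D).comp ψ₀
  have hψ : ∀ x : ↥A', ιD (ψ x) = φK (x : (A ⊗[R] FractionRing R)) := by
    intro x
    have h1 : e (ψ x) = ψ₀ x := e.apply_symm_apply (ψ₀ x)
    have h2 := congrArg Subtype.val h1
    exact h2
  -- uniqueness criterion
  have huniq : ∀ ψ' : ↥A' →ₐ[R] D, ψ'.comp (IsScalarTower.toAlgHom R A ↥A') = φ →
      ∀ x : ↥A', ιD (ψ' x) = φK (x : (A ⊗[R] FractionRing R)) := by
    intro ψ' hψ' x
    obtain ⟨x, hx⟩ := x
    induction hx using Algebra.adjoin_induction with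
    | mem x hx =>
      obtain ⟨j, rfl⟩ := hx
      apply huc.mul_left_cancel
      rw [hrel j, ← AlgHom.commutes ιD, ← map_mul, ← hψ']
      congr 1
      rw [AlgHom.comp_apply, ← AlgHom.commutes ψ', ← map_mul]
      congr 1
      apply Subtype.ext
      simp only [IsScalarTower.coe_toAlgHom', MulMemClass.coe_mul]
      change algebraMap R (A ⊗[R] FractionRing R) c * f j = algebraMap A (A ⊗[R] FractionRing R) (g j)
      rw [hg j]
      exact (Algebra.smul_def _ _).symm
    | algebraMap a =>
      rw [hφK, ← hψ']
      rfl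
    | add x y hx hy hx' hy' =>
      have : (⟨x + y, Subalgebra.add_mem _ hx hy⟩ : ↥A') = ⟨x, hx⟩ + ⟨y, hy⟩ := rfl
      rw [this, map_add, map_add, hx', hy']
      exact (map_add φK x y).symm
    | mul x y hx hy hx' hy' =>
      have : (⟨x * y, Subalgebra.mul_mem _ hx hy⟩ : ↥A') = ⟨x, hx⟩ * ⟨y, hy⟩ := rfl
      rw [this, map_mul, map_mul, hx', hy']
      exact (map_mul φK x y).symm
  refine ⟨ψ, ?_, ?_⟩
  · ext a
    apply hinj
    rw [AlgHom.comp_apply, hψ, ← hφK]
    rfl
  · intro ψ' hψ'
    ext x
    apply hinj
    rw [huniq ψ' hψ' x, hψ]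

end Groth.Agent.S13353
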