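import Groth.Statements.S13354
import Mathlib
import Groth.Agent.S11541
import Groth.Agent.Lib.Helper11BoschC
import Groth.Agent.Lib.Helper5IntDim

set_option autoImplicit false
universe u
open AdicRing

namespace Groth.Agent.S13354

open Groth.Agent.Lib.Helper11.Bosch in
/-- A subalgebra of `L` contained in the (local) integral closure of `B` is local. -/
theorem isLocalRing_of_le_integralClosure {B L : Type*} [CommRing B] [CommRing L] [Algebra B L]
    [IsLocalRing (integralClosure B L)] (S : Subalgebra B L) (hS : S ≤ integralClosure B L) :
    IsLocalRing S := by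
  have hunit : ∀ x : S, IsUnit (Subalgebra.inclusion hS x) → IsUnit x := by
    intro x hx
    obtain ⟨y, hy⟩ := hx.exists_right_inv
    have hy' : (x : L) * (y : L) = 1 := by
      have := congrArg Subtype.val hy
      simpa using this
    have h1 := inv_mem_adjoin_of_isIntegral (R := B) (x : L) (y : L) hy' y.2
    have h2 : Algebra.adjoin B {(x : L)} ≤ S := Algebra.adjoin_le (by
      rintro _ rfl
      exact x.2)
    refine IsUnit.of_mul_eq_one (⟨(y : L), h2 h1⟩ : S) ?_
    exact Subtype.ext hy'
  haveI : Nontrivial S := by
    have : Nontrivial (integralClosure B L) := inferInstance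
    exact (Subalgebra.inclusion hS).toRingHom.domain_nontrivial
  apply IsLocalRing.of_nonunits_add
  intro a b ha hb hab
  rw [mem_nonunits_iff] at ha hb
  have ha' : ¬ IsUnit (Subalgebra.inclusion hS a) := fun h => ha (hunit a h)
  have hb' : ¬ IsUnit (Subalgebra.inclusion hS b) := fun h => hb (hunit b h)
  have h1 := (IsLocalRing.mem_maximalIdeal _).2 ha'
  have h2 := (IsLocalRing.mem_maximalIdeal _).2 hb'
  have h3 := (IsLocalRing.mem_maximalIdeal _).1 (Ideal.add_mem _ h1 h2)
  apply h3
  have := hab.map (Subalgebra.inclusion hS)
  simpa using this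


/-- Let R be a complete valuation ring of height one with t a nonzero element generating an ideal of
definition, B an admissible R-algebra which is a local integral domain of Krull dimension one (the
algebra of a rig-point), and b_1, ..., b_n elements of B, not all zero. Then there is a B-subalgebra
B' of the field of fractions of B which is finite over B, is again a local ring of Krull dimension
one, and in which the ideal generated by b_1, ..., b_n is generated by one of the b_i alone (hence
is invertible). (This is the algebraic step by which a rig-point is lifted along the formal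
blowing-up of a finitely generated open ideal; the resulting bijection between rig-points of the
blowing-up and of the base is not stated here.) -/
theorem result
    (R : Type u) [CommRing R] [IsDomain R] [ValuationRing R] [Ring.KrullDimLE 1 R]
    (t : R) (ht : t ≠ 0) [IsAdicComplete (Ideal.span {t}) R]
    (B : Type u) [CommRing B] [Algebra R B] [IsDomain B] [IsLocalRing B]
    (hB : AdicRing.Admissible R (Ideal.span {t}) B) (hdim : ringKrullDim B = 1)
    (n : ℕ) (b : Fin n → B) (hb : ∃ i, b i ≠ 0) :
    ∃ B' : Subalgebra B (FractionRing B), Module.Finite B ↥B' ∧ IsLocalRing ↥B' ∧ ringKrullDim ↥B' = 1 ∧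
      ∃ i, Ideal.span (Set.range (fun j => algebraMap B ↥B' (b j))) =
        Ideal.span {algebraMap B ↥B' (b i)} := by
  classical
  obtain ⟨hfin, hval⟩ := Groth.Agent.S11541.result R t ht B hB hdim
  set L := FractionRing B with hL
  set C := integralClosure B L with hC
  haveI : ValuationRing C := hval
  haveI : Algebra.IsAlgebraic B L := IsLocalization.isAlgebraic L (nonZeroDivisors B)
  have hinjBL : Function.Injective (algebraMap B L) := IsFractionRing.injective B L
  haveI : IsFractionRing C L :=
    integralClosure.isFractionRing_of_algebraic
      (fun x hx => hinjBL (by rw [hx, map_zero]))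
  let v := ValuationRing.valuation C L
  obtain ⟨i0, hi0⟩ := hb
  obtain ⟨i, -, hi⟩ := Finset.exists_max_image Finset.univ (fun j => v (algebraMap B L (b j)))
    ⟨i0, Finset.mem_univ _⟩
  have hbi : algebraMap B L (b i) ≠ 0 := by
    intro h0
    have h1 := hi i0 (Finset.mem_univ _)
    simp only [h0, map_zero, le_zero_iff] at h1
    rw [map_eq_zero] at h1
    exact hi0 (hinjBL (by rw [h1, map_zero]))
  have hmem : ∀ j, algebraMap B L (b j) / algebraMap B L (b i) ∈ C := by
    intro j
    have h1 : v (algebraMap B L (b j) / algebraMap B L (b i)) ≤ 1 := by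
      rw [map_div₀]
      have hvi : v (algebraMap B L (b i)) ≠ 0 := by
        rw [Ne, map_eq_zero]; exact hbi
      rw [div_le_one₀ (zero_lt_iff.2 hvi)]
      exact hi j (Finset.mem_univ _)
    have h2 : algebraMap B L (b j) / algebraMap B L (b i) ∈ v.integer := h1
    rw [ValuationRing.mem_integer_iff] at h2
    obtain ⟨a, ha⟩ := h2
    rw [← ha]
    exact a.2
  let B' : Subalgebra B L :=
    Algebra.adjoin B (Set.range (fun j => algebraMap B L (b j) / algebraMap B L (b i)))
  have hle : B' ≤ C := Algebra.adjoin_le (by
    rintro _ ⟨j, rfl⟩
    exact hmem j)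
  haveI hfinB' : Module.Finite B B' :=
    Algebra.finite_adjoin_of_finite_of_isIntegral (Set.finite_range _) (by
      rintro _ ⟨j, rfl⟩
      exact hmem j)
  haveI : IsLocalRing C := ValuationRing.isLocalRing C
  haveI hloc : IsLocalRing B' := isLocalRing_of_le_integralClosure B' hle
  haveI : Algebra.IsIntegral B B' := Algebra.IsIntegral.of_finite B B'
  have hinjB' : Function.Injective (algebraMap B B') := by
    intro x y hxy
    apply hinjBL
    have := congrArg Subtype.val hxy
    simpa using this
  refine ⟨B', hfinB', hloc, ?_, i, ?_⟩
  · rw [Groth.Agent.Lib.Helper5.ringKrullDim_eq_of_isIntegral_of_injective B B' hinjB']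
    exact hdim
  · apply le_antisymm
    · rw [Ideal.span_le]
      rintro _ ⟨j, rfl⟩
      rw [SetLike.mem_coe, Ideal.mem_span_singleton]
      refine ⟨⟨algebraMap B L (b j) / algebraMap B L (b i),
        Algebra.subset_adjoin ⟨j, rfl⟩⟩, ?_⟩
      apply Subtype.ext
      change algebraMap B L (b j) = algebraMap B L (b i) * (algebraMap B L (b j) / algebraMap B L (b i))
      rw [mul_div_cancel₀ _ hbi]
    · rw [Ideal.span_le]
      rintro _ rfl
      exact Ideal.subset_span ⟨i, rfl⟩

end Groth.Agent.S13354
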