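import Groth.Statements.S13355
-- import your own Groth.Agent.* helpers here

set_option autoImplicit false
universe u
open GaDual

namespace Groth.Agent.S13355

lemma mult_iff (A : Type u) [CommRing A] (χ : PowerSeries A) :
    PowerSeries.subst (MvPowerSeries.X 0 + MvPowerSeries.X 1 : MvPowerSeries (Fin 2) A) χ =
        PowerSeries.subst (MvPowerSeries.X 0 : MvPowerSeries (Fin 2) A) χ *
          PowerSeries.subst (MvPowerSeries.X 1 : MvPowerSeries (Fin 2) A) χ ↔
    ∀ i j : ℕ, ((i + j).choose i : A) * PowerSeries.coeff (i + j) χ =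
      PowerSeries.coeff i χ * PowerSeries.coeff j χ := by
  constructor
  · intro h i j
    have := congrArg (MvPowerSeries.coeff (Finsupp.single 0 i + Finsupp.single 1 j)) h
    rw [PowerSeries.coeff_subst_X_zero_add_X_one, PowerSeries.coeff_subst_X_zero_subst_mul_X_one] at this
    simpa using this
  · intro h
    ext e
    rw [PowerSeries.coeff_subst_X_zero_add_X_one, PowerSeries.coeff_subst_X_zero_subst_mul_X_one]
    exact h (e 0) (e 1)

/-- Over a commutative algebra A over the rationals, the formal characters (power series with constant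
term 1 satisfying χ(X+Y) = χ(X)χ(Y) in two variables) are exactly the power series exp(aX) for a in
A. -/
theorem result (A : Type u) [CommRing A] [Algebra ℚ A] (χ : PowerSeries A) :
    (PowerSeries.constantCoeff χ = 1 ∧
      PowerSeries.subst (MvPowerSeries.X 0 + MvPowerSeries.X 1 : MvPowerSeries (Fin 2) A) χ =
        PowerSeries.subst (MvPowerSeries.X 0 : MvPowerSeries (Fin 2) A) χ *
          PowerSeries.subst (MvPowerSeries.X 1 : MvPowerSeries (Fin 2) A) χ) ↔
      ∃ a : A, χ = PowerSeries.rescale a (PowerSeries.exp A) := by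
  rw [mult_iff]
  constructor
  · rintro ⟨h0, h⟩
    refine ⟨PowerSeries.coeff 1 χ, ?_⟩
    ext n
    rw [PowerSeries.coeff_rescale, PowerSeries.coeff_exp]
    induction n with
    | zero =>
      simp [h0]
    | succ n ih =>
      have h1 := h n 1
      rw [Nat.choose_succ_self_right, ih] at h1
      have hinv : (algebraMap ℚ A ((n + 1 : ℕ) : ℚ)) * algebraMap ℚ A (1 / ((n + 1 : ℕ) : ℚ)) = 1 := by
        rw [← map_mul, mul_one_div_cancel (by positivity), map_one]
      have hcast : ((n + 1 : ℕ) : A) = algebraMap ℚ A ((n + 1 : ℕ) : ℚ) := by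
        rw [map_natCast]
      calc PowerSeries.coeff (n + 1) χ
          = (algebraMap ℚ A ((n + 1 : ℕ) : ℚ) * algebraMap ℚ A (1 / ((n + 1 : ℕ) : ℚ))) *
              PowerSeries.coeff (n + 1) χ := by rw [hinv, one_mul]
        _ = algebraMap ℚ A (1 / ((n + 1 : ℕ) : ℚ)) *
              (((n + 1 : ℕ) : A) * PowerSeries.coeff (n + 1) χ) := by rw [hcast]; ring
        _ = algebraMap ℚ A (1 / ((n + 1 : ℕ) : ℚ)) *
              (PowerSeries.coeff 1 χ ^ n * algebraMap ℚ A (1 / (n.factorial : ℚ)) * PowerSeries.coeff 1 χ) := by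
            rw [h1]
        _ = PowerSeries.coeff 1 χ ^ (n + 1) *
              (algebraMap ℚ A (1 / ((n + 1 : ℕ) : ℚ)) * algebraMap ℚ A (1 / (n.factorial : ℚ))) := by ring
        _ = PowerSeries.coeff 1 χ ^ (n + 1) * algebraMap ℚ A (1 / ((n + 1).factorial : ℚ)) := by
            rw [← map_mul, Nat.factorial_succ]
            congr 2
            push_cast
            field_simp
  · rintro ⟨a, rfl⟩
    refine ⟨?_, ?_⟩
    · rw [← PowerSeries.coeff_zero_eq_constantCoeff_apply, PowerSeries.coeff_rescale, pow_zero,
        one_mul, PowerSeries.coeff_exp]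
      simp
    intro i j
    simp only [PowerSeries.coeff_rescale, PowerSeries.coeff_exp]
    have hcast : (((i + j).choose i : ℕ) : A) = algebraMap ℚ A (((i + j).choose i : ℕ) : ℚ) := by
      rw [map_natCast]
    rw [hcast]
    have key : algebraMap ℚ A (((i + j).choose i : ℕ) : ℚ) * algebraMap ℚ A (1 / ((i + j).factorial : ℚ)) =
        algebraMap ℚ A (1 / (i.factorial : ℚ)) * algebraMap ℚ A (1 / (j.factorial : ℚ)) := by
      rw [← map_mul, ← map_mul]
      congr 1
      have := Nat.add_choose_mul_factorial_mul_factorial i j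
      rw [← Nat.choose_symm_add] at this
      have h2 : (((i + j).choose i : ℕ) : ℚ) * (i.factorial : ℚ) * (j.factorial : ℚ) = ((i + j).factorial : ℚ) := by
        exact_mod_cast this
      have hi : (i.factorial : ℚ) ≠ 0 := by positivity
      have hj : (j.factorial : ℚ) ≠ 0 := by positivity
      have hij : ((i + j).factorial : ℚ) ≠ 0 := by positivity
      field_simp
      linarith
    calc algebraMap ℚ A (((i + j).choose i : ℕ) : ℚ) * (a ^ (i + j) * algebraMap ℚ A (1 / ((i + j).factorial : ℚ)))
        = a ^ (i + j) * (algebraMap ℚ A (((i + j).choose i : ℕ) : ℚ) * algebraMap ℚ A (1 / ((i + j).factorial : ℚ))) := by ring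
      _ = a ^ (i + j) * (algebraMap ℚ A (1 / (i.factorial : ℚ)) * algebraMap ℚ A (1 / (j.factorial : ℚ))) := by rw [key]
      _ = a ^ i * algebraMap ℚ A (1 / (i.factorial : ℚ)) * (a ^ j * algebraMap ℚ A (1 / (j.factorial : ℚ))) := by
          rw [pow_add]; ring

end Groth.Agent.S13355
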