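import Groth.Statements.S13356
import Groth.Agent.S13355
import Mathlib.RingTheory.PowerSeries.Substitution

set_option autoImplicit false
universe u
open GaDual

namespace Groth.Agent.S13356

lemma coe_aeval (A : Type u) [CommRing A] (b : MvPolynomial (Fin 2) A) (f : Polynomial A) :
    ((Polynomial.aeval b f : MvPolynomial (Fin 2) A) : MvPowerSeries (Fin 2) A) =
      Polynomial.aeval (b : MvPowerSeries (Fin 2) A) f := by
  have h := Polynomial.aeval_algHom_apply
    (MvPolynomial.coeToMvPowerSeries.algHom (σ := Fin 2) (R := A) A) b f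
  simp only [MvPolynomial.coeToMvPowerSeries.algHom_apply, Algebra.algebraMap_self,
    MvPowerSeries.map_id, RingHom.id_apply] at h
  exact h.symm

lemma mult_iff' (A : Type u) [CommRing A] (f : Polynomial A) :
    (Polynomial.aeval (MvPolynomial.X 0 + MvPolynomial.X 1 : MvPolynomial (Fin 2) A) f =
        Polynomial.aeval (MvPolynomial.X 0 : MvPolynomial (Fin 2) A) f *
          Polynomial.aeval (MvPolynomial.X 1 : MvPolynomial (Fin 2) A) f) ↔
    (PowerSeries.subst (MvPowerSeries.X 0 + MvPowerSeries.X 1 : MvPowerSeries (Fin 2) A) (f : PowerSeries A) =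
        PowerSeries.subst (MvPowerSeries.X 0 : MvPowerSeries (Fin 2) A) (f : PowerSeries A) *
          PowerSeries.subst (MvPowerSeries.X 1 : MvPowerSeries (Fin 2) A) (f : PowerSeries A)) := by
  have h0 : PowerSeries.HasSubst (MvPowerSeries.X 0 : MvPowerSeries (Fin 2) A) := PowerSeries.HasSubst.X 0
  have h1 : PowerSeries.HasSubst (MvPowerSeries.X 1 : MvPowerSeries (Fin 2) A) := PowerSeries.HasSubst.X 1
  rw [PowerSeries.subst_coe (h0.add h1), PowerSeries.subst_coe h0, PowerSeries.subst_coe h1]
  rw [← MvPolynomial.coe_X, ← MvPolynomial.coe_X, ← MvPolynomial.coe_add, ← coe_aeval, ← coe_aeval,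
    ← coe_aeval, ← MvPolynomial.coe_mul]
  exact (MvPolynomial.coe_injective (σ := Fin 2) (R := A)).eq_iff.symm

/-- Over a commutative algebra A over the rationals, the polynomials f with f(0) = 1 and f(X+Y) =
f(X)f(Y) (the characters of the additive group into the multiplicative group over A) are exactly the
polynomials exp(aX) with a in A nilpotent. -/
theorem result (A : Type u) [CommRing A] [Algebra ℚ A] (f : Polynomial A) :
    (f.eval 0 = 1 ∧
      Polynomial.aeval (MvPolynomial.X 0 + MvPolynomial.X 1 : MvPolynomial (Fin 2) A) f =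
        Polynomial.aeval (MvPolynomial.X 0 : MvPolynomial (Fin 2) A) f *
          Polynomial.aeval (MvPolynomial.X 1 : MvPolynomial (Fin 2) A) f) ↔
      ∃ a : A, IsNilpotent a ∧ (f : PowerSeries A) = PowerSeries.rescale a (PowerSeries.exp A) := by
  rw [mult_iff', ← Polynomial.coeff_zero_eq_eval_zero, ← Polynomial.constantCoeff_coe]
  rw [Groth.Agent.S13355.result A (f : PowerSeries A)]
  constructor
  · rintro ⟨a, ha⟩
    refine ⟨a, ?_, ha⟩
    refine ⟨f.natDegree + 1, ?_⟩
    have h1 := congrArg (PowerSeries.coeff (f.natDegree + 1)) ha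
    rw [Polynomial.coeff_coe, Polynomial.coeff_eq_zero_of_natDegree_lt (Nat.lt_succ_self _),
      PowerSeries.coeff_rescale, PowerSeries.coeff_exp] at h1
    have h2 : algebraMap ℚ A (1 / ((f.natDegree + 1).factorial : ℚ)) * algebraMap ℚ A ((f.natDegree + 1).factorial : ℚ) = 1 := by
      rw [← map_mul, one_div_mul_cancel (by positivity), map_one]
    calc a ^ (f.natDegree + 1) = a ^ (f.natDegree + 1) * (algebraMap ℚ A (1 / ((f.natDegree + 1).factorial : ℚ)) * algebraMap ℚ A ((f.natDegree + 1).factorial : ℚ)) := by rw [h2, mul_one]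
      _ = (a ^ (f.natDegree + 1) * algebraMap ℚ A (1 / ((f.natDegree + 1).factorial : ℚ))) * algebraMap ℚ A ((f.natDegree + 1).factorial : ℚ) := by ring
      _ = 0 := by rw [← h1, zero_mul]
  · rintro ⟨a, _, ha⟩
    exact ⟨a, ha⟩

end Groth.Agent.S13356
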