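import Groth.Statements.S13359
import Groth.Agent.Lib.Helper20PiLoc

set_option autoImplicit false
universe u
open UltraProd

namespace Groth.Agent.S13359

/-- If (R_i) is a nonempty family of integrally closed domains, then the localization of the product
ring ∏ R_i at any prime ideal is an integrally closed domain. -/
theorem result {ι : Type u} [Nonempty ι] (R : ι → Type u)
    [∀ i, CommRing (R i)] [∀ i, IsDomain (R i)] [∀ i, IsIntegrallyClosed (R i)]
    (P : Ideal (∀ i, R i)) [P.IsPrime] :
    IsDomain (Localization.AtPrime P) ∧ IsIntegrallyClosed (Localization.AtPrime P) := by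
  have hdom : IsDomain (Localization.AtPrime P) := Groth.Agent.Lib.Helper20.isDomain_localization_pi R P
  refine ⟨hdom, ?_⟩
  let L := Localization.AtPrime P
  let K := FractionRing L
  let M := P.primeCompl
  rw [isIntegrallyClosed_iff K]
  intro x hx
  obtain ⟨a, b, hb, rfl⟩ := IsFractionRing.div_surjective (A := L) x
  obtain ⟨a', s, rfl⟩ := IsLocalization.exists_mk'_eq M a
  obtain ⟨b', t, rfl⟩ := IsLocalization.exists_mk'_eq M b
  let g : (∀ i, R i) →+* L := algebraMap _ L
  let f : L →+* K := algebraMap L K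
  have hf : Function.Injective f := IsFractionRing.injective L K
  have hunit : ∀ m : M, IsUnit (g m) := fun m => IsLocalization.map_units L m
  -- new numerator and denominator
  let a₁ : ∀ i, R i := a' * t
  let b₁ : ∀ i, R i := b' * s
  have hb₁ : g b₁ ≠ 0 := by
    intro h0
    have hb0 : IsLocalization.mk' L b' t ≠ 0 := nonZeroDivisors.ne_zero hb
    apply hb0
    rw [IsLocalization.mk'_eq_zero_iff]
    rw [← IsLocalization.mk'_one (M := M), IsLocalization.mk'_eq_zero_iff] at h0
    obtain ⟨m, hm⟩ := h0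
    refine ⟨m * s, ?_⟩
    rw [← hm]
    simp only [Submonoid.coe_mul, b₁]
    ring
  have hx' : f (IsLocalization.mk' L a' s) / f (IsLocalization.mk' L b' t) = f (g a₁) / f (g b₁) := by
    have hfb₁ : f (g b₁) ≠ 0 := fun h0 => hb₁ (hf (by rw [h0, map_zero]))
    have hfb : f (IsLocalization.mk' L b' t) ≠ 0 := fun h0 =>
      nonZeroDivisors.ne_zero hb (hf (by rw [h0, map_zero]))
    rw [div_eq_div_iff hfb hfb₁, ← map_mul, ← map_mul]
    congr 1
    have e1 : IsLocalization.mk' L a' s * g s = g a' := IsLocalization.mk'_spec L a' s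
    have e2 : IsLocalization.mk' L b' t * g t = g b' := IsLocalization.mk'_spec L b' t
    simp only [a₁, b₁, map_mul]
    rw [← e1, ← e2]
    ring
  rw [hx'] at hx ⊢
  obtain ⟨p, hpm, hp⟩ := hx
  obtain ⟨m, hmM, hm⟩ := IsLocalization.integerNormalization_spec M p
  set q := IsLocalization.integerNormalization M p with hq
  have hq0 : Polynomial.eval₂ (f.comp g) (f (g a₁) / f (g b₁)) q = 0 :=
    IsLocalization.integerNormalization_eval₂_eq_zero M f p hp
  -- leading coefficient of q
  have hgm : g m ≠ 0 := (hunit ⟨m, hmM⟩).ne_zero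
  have hdeg : q.natDegree = p.natDegree := by
    apply le_antisymm
    · exact Polynomial.natDegree_le_natDegree
        (Polynomial.degree_mono (IsLocalization.integerNormalization_support M p))
    · have hc : g (q.coeff p.natDegree) = g m := by
        have := congrArg (Polynomial.coeff · p.natDegree) hm
        beta_reduce at this
        rw [Polynomial.coeff_map, Polynomial.coeff_smul, Polynomial.coeff_natDegree,
          hpm.leadingCoeff, Algebra.smul_def, mul_one] at this
        exact this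
      apply Polynomial.le_natDegree_of_ne_zero
      intro h0
      rw [h0, map_zero] at hc
      exact hgm hc.symm
  have hlc : g q.leadingCoeff = g m := by
    have := congrArg (Polynomial.coeff · p.natDegree) hm
    beta_reduce at this
    rw [Polynomial.coeff_map, Polynomial.coeff_smul, Polynomial.coeff_natDegree,
      hpm.leadingCoeff, Algebra.smul_def, mul_one] at this
    rw [Polynomial.leadingCoeff, hdeg]
    exact this
  -- homogeneous relation
  have h1 : Polynomial.eval₂ (f.comp g) ((f.comp g) b₁ * (f (g a₁) / f (g b₁))) (Polynomial.scaleRoots q b₁)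
      = (f.comp g) b₁ ^ q.natDegree * Polynomial.eval₂ (f.comp g) (f (g a₁) / f (g b₁)) q :=
    Polynomial.scaleRoots_eval₂_mul (f.comp g) _ b₁
  have hfb₁ : f (g b₁) ≠ 0 := fun h0 => hb₁ (hf (by rw [h0, map_zero]))
  have h2 : (f.comp g) b₁ * (f (g a₁) / f (g b₁)) = (f.comp g) a₁ := by
    simp only [RingHom.comp_apply]
    rw [mul_div_assoc']
    exact mul_div_cancel_left₀ _ hfb₁
  rw [h2, hq0, mul_zero, Polynomial.eval₂_at_apply] at h1
  have h3 : g (Polynomial.eval a₁ (Polynomial.scaleRoots q b₁)) = 0 := by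
    apply hf
    rw [map_zero]
    exact h1
  rw [← IsLocalization.mk'_one (M := M), IsLocalization.mk'_eq_zero_iff] at h3
  obtain ⟨u, hu⟩ := h3
  -- the good set
  let S : Set ι := ({i | (u : ∀ i, R i) i ≠ 0} ∩ {i | q.leadingCoeff i ≠ 0}) ∩ {i | b₁ i ≠ 0}
  have hS : Groth.Agent.Lib.Helper20.ind R S ∈ M := by
    simp only [S, Groth.Agent.Lib.Helper20.ind_inter]
    refine M.mul_mem (M.mul_mem ?_ ?_) ?_
    · exact Groth.Agent.Lib.Helper20.ind_support_mem_primeCompl R P _ (hunit u).ne_zero
    · exact Groth.Agent.Lib.Helper20.ind_support_mem_primeCompl R P _ (by rw [hlc]; exact hgm)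
    · exact Groth.Agent.Lib.Helper20.ind_support_mem_primeCompl R P _ hb₁
  have hdiv : ∀ i, i ∈ S → b₁ i ∣ q.leadingCoeff i * a₁ i := by
    rintro i ⟨⟨hui, hli⟩, hbi⟩
    have hli' : (Pi.evalRingHom R i) q.leadingCoeff ≠ 0 := hli
    have key := Groth.Agent.Lib.Helper20.dvd_of_scaleRoots_eval_eq_zero (a₁ i) (b₁ i) hbi
      (q.map (Pi.evalRingHom R i)) ?_
    · rw [Polynomial.leadingCoeff_map_of_leadingCoeff_ne_zero _ hli'] at key
      exact key
    · have h5 := congrFun hu i
      simp only [Pi.mul_apply, Pi.zero_apply] at h5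
      have h6 : (Polynomial.eval a₁ (Polynomial.scaleRoots q b₁)) i = 0 :=
        (mul_eq_zero.mp h5).resolve_left hui
      show Polynomial.eval ((Pi.evalRingHom R i) a₁)
        ((Polynomial.map (Pi.evalRingHom R i) q).scaleRoots ((Pi.evalRingHom R i) b₁)) = 0
      rw [← Polynomial.map_scaleRoots _ _ _ hli', Polynomial.eval_map_apply]
      exact h6
  classical
  let r : ∀ i, R i := fun i => if hi : i ∈ S then (hdiv i hi).choose else 0
  have hr : Groth.Agent.Lib.Helper20.ind R S * (q.leadingCoeff * a₁) = b₁ * r := by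
    funext i
    by_cases hi : i ∈ S
    · simp only [Pi.mul_apply, Groth.Agent.Lib.Helper20.ind_apply_mem R hi, one_mul, r, dif_pos hi]
      exact (hdiv i hi).choose_spec
    · simp [Groth.Agent.Lib.Helper20.ind_apply_not_mem R hi, r, dif_neg hi]
  refine ⟨IsLocalization.mk' L r (⟨_, hS⟩ * ⟨m, hmM⟩ : M), ?_⟩
  rw [eq_div_iff hfb₁]
  show f (IsLocalization.mk' L r (⟨_, hS⟩ * ⟨m, hmM⟩ : M)) * f (g b₁) = f (g a₁)
  rw [← map_mul]
  congr 1
  have e3 := IsLocalization.mk'_spec L r (⟨_, hS⟩ * ⟨m, hmM⟩ : M)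
  have hu2 : IsUnit (g ((⟨_, hS⟩ * ⟨m, hmM⟩ : M) : ∀ i, R i)) := hunit _
  apply hu2.mul_left_cancel
  have hr' := congrArg g hr
  simp only [map_mul] at hr'
  calc g ((⟨_, hS⟩ * ⟨m, hmM⟩ : M) : ∀ i, R i) * (IsLocalization.mk' L r (⟨_, hS⟩ * ⟨m, hmM⟩ : M) * g b₁)
      = (IsLocalization.mk' L r (⟨_, hS⟩ * ⟨m, hmM⟩ : M) * g ((⟨_, hS⟩ * ⟨m, hmM⟩ : M) : ∀ i, R i)) * g b₁ := by ring
    _ = g r * g b₁ := by rw [e3]
    _ = g b₁ * g r := mul_comm _ _
    _ = g (Groth.Agent.Lib.Helper20.ind R S) * (g q.leadingCoeff * g a₁) := hr'.symm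
    _ = g ((⟨_, hS⟩ * ⟨m, hmM⟩ : M) : ∀ i, R i) * g a₁ := by
        rw [hlc]; simp only [Submonoid.coe_mul, map_mul]; ring

end Groth.Agent.S13359
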