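import Groth.Statements.S1336
import Groth.Agent.Lib.Helper22GI10

set_option autoImplicit false
universe u
open FlatMor

namespace Groth.Agent.S1336

open AlgebraicGeometry CategoryTheory Limits in
/-- Let f be of finite type and let y be a point of the target. Then the function counting the
irreducible components of the geometric fibres of f is constant on some subset of the closure of y
which is open in that closure and contains y. -/
theorem result {X Y : Scheme.{u}} (f : X ⟶ Y) [LocallyOfFiniteType f] [QuasiCompact f] (y : Y) :
    ∃ V : Set ↑Y, V ⊆ closure {y} ∧ y ∈ V ∧ IsOpen (Subtype.val ⁻¹' V : Set ↑(closure ({y} : Set ↑Y))) ∧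
      ∀ y' ∈ V, MoreMor.nGeomIrredComp f y' = MoreMor.nGeomIrredComp f y := by
  exact Groth.Agent.Lib.Helper22.GI.exists_forall_eq_of_baseChange
    (fun f y => MoreMor.nGeomIrredComp f y)
    (fun f f' g' g hc y' => Groth.Agent.Lib.Helper2.GeomFibBC.nGeomIrredComp_eq f f' g' g hc y')
    (fun A _ _ _ f _ _ η₀ hη₀ =>
      Groth.Agent.Lib.Helper22.GI.exists_ne_zero_forall_nGeomIrredComp_eq f η₀ hη₀) f y

end Groth.Agent.S1336
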