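import Groth.Statements.S13360
import Groth.Agent.Lib.Helper20PiLoc

set_option autoImplicit false
universe u
open UltraProd

namespace Groth.Agent.S13360

/-- If (R_i) is a nonempty family of valuation rings, then the localization of the product ring ∏ R_i at
any prime ideal is a valuation ring: a domain in which, of any two elements, one divides the other. -/
theorem result {ι : Type u} [Nonempty ι] (R : ι → Type u)
    [∀ i, CommRing (R i)] [∀ i, IsDomain (R i)] [∀ i, ValuationRing (R i)]
    (P : Ideal (∀ i, R i)) [P.IsPrime] :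
    IsDomain (Localization.AtPrime P) ∧ PreValuationRing (Localization.AtPrime P) := by
  refine ⟨Groth.Agent.Lib.Helper20.isDomain_localization_pi R P, ⟨?_⟩⟩
  intro a b
  obtain ⟨a', s, rfl⟩ := IsLocalization.exists_mk'_eq P.primeCompl a
  obtain ⟨b', t, rfl⟩ := IsLocalization.exists_mk'_eq P.primeCompl b
  let S : Set ι := {i | ∃ c : R i, a' i * c = b' i}
  have hcompl : ∀ i, i ∉ S → ∃ c : R i, b' i * c = a' i := by
    intro i hi
    obtain ⟨c, hc⟩ := ValuationRing.cond (a' i) (b' i)
    rcases hc with hc | hc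
    · exact absurd ⟨c, hc⟩ hi
    · exact ⟨c, hc⟩
  rcases Groth.Agent.Lib.Helper20.ind_mem_primeCompl_or R P S with h | h
  · -- e * b' = a' * c
    classical
    let c : ∀ i, R i := fun i => if hi : i ∈ S then hi.choose else 0
    have hc : Groth.Agent.Lib.Helper20.ind R S * b' = a' * c := by
      funext i
      by_cases hi : i ∈ S
      · simp only [Pi.mul_apply, Groth.Agent.Lib.Helper20.ind_apply_mem R hi, one_mul, c, dif_pos hi]
        exact hi.choose_spec.symm
      · simp [Groth.Agent.Lib.Helper20.ind_apply_not_mem R hi, c, dif_neg hi]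
    refine ⟨IsLocalization.mk' _ (c * s) (⟨Groth.Agent.Lib.Helper20.ind R S, h⟩ * t), Or.inl ?_⟩
    rw [← IsLocalization.mk'_mul, IsLocalization.mk'_eq_iff_eq]
    congr 1
    simp only [Submonoid.coe_mul]
    calc (↑t : ∀ i, R i) * (a' * (c * ↑s)) = ↑t * ↑s * (a' * c) := by ring
      _ = ↑t * ↑s * (Groth.Agent.Lib.Helper20.ind R S * b') := by rw [hc]
      _ = ↑s * (Groth.Agent.Lib.Helper20.ind R S * ↑t) * b' := by ring
  · classical
    let c : ∀ i, R i := fun i => if hi : i ∈ S then 0 else (hcompl i hi).choose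
    have hc : Groth.Agent.Lib.Helper20.ind R Sᶜ * a' = b' * c := by
      funext i
      by_cases hi : i ∈ S
      · have : i ∉ Sᶜ := fun hcc => hcc hi
        simp [Groth.Agent.Lib.Helper20.ind_apply_not_mem R this, c, dif_pos hi]
      · have hi' : i ∈ Sᶜ := hi
        simp only [Pi.mul_apply, Groth.Agent.Lib.Helper20.ind_apply_mem R hi', one_mul, c, dif_neg hi]
        exact (hcompl i hi).choose_spec.symm
    refine ⟨IsLocalization.mk' _ (c * t) (⟨Groth.Agent.Lib.Helper20.ind R Sᶜ, h⟩ * s), Or.inr ?_⟩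
    rw [← IsLocalization.mk'_mul, IsLocalization.mk'_eq_iff_eq]
    congr 1
    simp only [Submonoid.coe_mul]
    calc (↑s : ∀ i, R i) * (b' * (c * ↑t)) = ↑s * ↑t * (b' * c) := by ring
      _ = ↑s * ↑t * (Groth.Agent.Lib.Helper20.ind R Sᶜ * a') := by rw [hc]
      _ = ↑t * (Groth.Agent.Lib.Helper20.ind R Sᶜ * ↑s) * a' := by ring

end Groth.Agent.S13360
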