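import Groth.Statements.S13361
import Mathlib.GroupTheory.FiniteAbelian.Basic

set_option autoImplicit false
universe u
open ProCompl

namespace Groth.Agent.S13361

/-- A finite abelian group with a nonzero element contained in every nonzero subgroup is isomorphic to a
cyclic group of prime-power order Z/p^n. -/
theorem result {A : Type u} [AddCommGroup A] [Finite A]
    (a : A) (ha : a ≠ 0) (h : ∀ B : AddSubgroup A, B ≠ ⊥ → a ∈ B) :
    ∃ p n : ℕ, p.Prime ∧ Nonempty (A ≃+ ZMod (p ^ n)) := by
  classical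
  obtain ⟨ι, hι, p, hp, e, ⟨φ0⟩⟩ := AddCommGroup.equiv_directSum_zmod_of_finite A
  let φ : A ≃+ (∀ i, ZMod (p i ^ e i)) := φ0.trans (DirectSum.addEquivProd _)
  -- a lies in each nonzero coordinate subgroup
  have hmem : ∀ i, e i ≠ 0 → ∃ x, φ a = Pi.single i x := by
    intro i hi
    let B : AddSubgroup A := AddSubgroup.comap φ.toAddMonoidHom (AddMonoidHom.single (fun i => ZMod (p i ^ e i)) i).range
    have hB : B ≠ ⊥ := by
      intro hB
      have h1 : φ.symm (Pi.single i 1) ∈ B := by
        show φ (φ.symm (Pi.single i 1)) ∈ (AddMonoidHom.single (fun i => ZMod (p i ^ e i)) i).range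
        rw [AddEquiv.apply_symm_apply]
        exact ⟨1, rfl⟩
      rw [hB, AddSubgroup.mem_bot] at h1
      have h2 : (Pi.single i 1 : ∀ i, ZMod (p i ^ e i)) = 0 := by
        rw [← φ.apply_symm_apply (Pi.single i 1), h1, map_zero]
      have h3 := congrFun h2 i
      rw [Pi.single_eq_same, Pi.zero_apply] at h3
      haveI : Fact (1 < p i ^ e i) := ⟨one_lt_pow₀ (hp i).one_lt hi⟩
      exact one_ne_zero h3
    obtain ⟨x, hx⟩ := h B hB
    exact ⟨x, hx.symm⟩
  have hzero : ∀ j, e j = 0 → Subsingleton (ZMod (p j ^ e j)) := by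
    intro j hj
    rw [hj, pow_zero]
    infer_instance
  have hφa : φ a ≠ 0 := fun h0 => ha (φ.injective (by rw [h0, map_zero]))
  have hex : ∃ i, e i ≠ 0 := by
    by_contra hcon
    push Not at hcon
    apply hφa
    funext j
    have := hzero j (hcon j)
    exact Subsingleton.elim _ _
  obtain ⟨i0, hi0⟩ := hex
  have huniq : ∀ j, j ≠ i0 → e j = 0 := by
    intro j hj
    by_contra hej
    obtain ⟨x, hx⟩ := hmem i0 hi0
    obtain ⟨y, hy⟩ := hmem j hej
    apply hφa
    have h1 : φ a i0 = 0 := by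
      rw [hy, Pi.single_eq_of_ne (Ne.symm hj)]
    have h2 : x = 0 := by
      rw [hx, Pi.single_eq_same] at h1
      exact h1
    rw [hx, h2, Pi.single_zero]
  refine ⟨p i0, e i0, hp i0, ⟨AddEquiv.ofBijective
    ((Pi.evalAddMonoidHom (fun i => ZMod (p i ^ e i)) i0).comp φ.toAddMonoidHom) ⟨?_, ?_⟩⟩⟩
  · rw [injective_iff_map_eq_zero]
    intro x hx
    apply φ.injective
    rw [map_zero]
    funext j
    by_cases hj : j = i0
    · subst hj
      exact hx
    · have := hzero j (huniq j hj)
      exact Subsingleton.elim _ _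
  · intro y
    refine ⟨φ.symm (Pi.single i0 y), ?_⟩
    show φ (φ.symm (Pi.single i0 y)) i0 = y
    rw [AddEquiv.apply_symm_apply, Pi.single_eq_same]

end Groth.Agent.S13361
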