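import Groth.Statements.S13362
import Mathlib.Data.Set.Finite.Basic
import Mathlib.Data.Nat.Factors
import Mathlib.RingTheory.Coprime.Lemmas
import Mathlib.RingTheory.Int.Basic
import Mathlib.Tactic.Linarith
import Mathlib.Data.Nat.Prime.Int

set_option autoImplicit false
universe u
open ProCompl

namespace Groth.Agent.S13362

lemma mem_zmultiples_of_prime_nsmul {A : Type u} [AddCommGroup A] (a : A) (ha : a ≠ 0)
    (h : ∀ B : AddSubgroup A, B ≠ ⊥ → a ∈ B) (q : ℕ) (hq : q.Prime) (x : A) (hx : q • x = 0) :
    x ∈ AddSubgroup.zmultiples a := by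
  by_cases hx0 : x = 0
  · rw [hx0]; exact zero_mem _
  have hB : AddSubgroup.zmultiples x ≠ ⊥ := by
    intro hB
    apply hx0
    have : x ∈ AddSubgroup.zmultiples x := AddSubgroup.mem_zmultiples x
    rw [hB, AddSubgroup.mem_bot] at this
    exact this
  obtain ⟨k, hk⟩ := AddSubgroup.mem_zmultiples_iff.mp (h _ hB)
  have hqx : (q : ℤ) • x = 0 := by rw [natCast_zsmul]; exact hx
  have hndvd : ¬ (q : ℤ) ∣ k := by
    rintro ⟨c, hc⟩
    apply ha
    rw [← hk, hc, mul_comm, mul_zsmul, hqx, zsmul_zero]
  have hcop : IsCoprime k (q : ℤ) :=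
    ((Nat.prime_iff_prime_int.mp hq).coprime_iff_not_dvd.mpr hndvd).symm
  obtain ⟨u, v, huv⟩ := hcop
  rw [AddSubgroup.mem_zmultiples_iff]
  refine ⟨u, ?_⟩
  calc u • a = u • (k • x) + v • ((q : ℤ) • x) := by rw [hk, hqx, zsmul_zero, add_zero]
    _ = (u * k + v * q) • x := by rw [add_zsmul, mul_zsmul, mul_zsmul]
    _ = x := by rw [huv, one_zsmul]

lemma finite_torsion_prime {A : Type u} [AddCommGroup A] (a : A) (ha : a ≠ 0)
    (h : ∀ B : AddSubgroup A, B ≠ ⊥ → a ∈ B) (q : ℕ) (hq : q.Prime) :
    {x : A | q • x = 0}.Finite := by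
  by_cases hex : ∃ x : A, x ≠ 0 ∧ q • x = 0
  · obtain ⟨x0, hx0, hqx0⟩ := hex
    -- then q • a = 0
    have hB : AddSubgroup.zmultiples x0 ≠ ⊥ := by
      intro hB
      apply hx0
      have : x0 ∈ AddSubgroup.zmultiples x0 := AddSubgroup.mem_zmultiples x0
      rw [hB, AddSubgroup.mem_bot] at this
      exact this
    obtain ⟨k, hk⟩ := AddSubgroup.mem_zmultiples_iff.mp (h _ hB)
    have hqa : (q : ℤ) • a = 0 := by
      rw [← hk, smul_comm, natCast_zsmul, hqx0, zsmul_zero]
    apply Set.Finite.subset (Set.finite_range (fun j : Fin q => ((j : ℕ) : ℤ) • a))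
    intro x hx
    obtain ⟨u, hu⟩ := AddSubgroup.mem_zmultiples_iff.mp
      (mem_zmultiples_of_prime_nsmul a ha h q hq x hx)
    have hqpos : (0 : ℤ) < q := by exact_mod_cast hq.pos
    refine ⟨⟨(u % q).toNat, ?_⟩, ?_⟩
    · have h1 := Int.emod_lt_of_pos u hqpos
      have h2 := Int.emod_nonneg u hqpos.ne'
      omega
    · show (((u % q).toNat : ℕ) : ℤ) • a = x
      rw [Int.toNat_of_nonneg (Int.emod_nonneg u hqpos.ne'), ← hu]
      conv_rhs => rw [← Int.emod_add_mul_ediv u q, add_zsmul, mul_comm, mul_zsmul, hqa, zsmul_zero, add_zero]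
  · push Not at hex
    apply Set.Finite.subset (Set.finite_singleton (0 : A))
    intro x hx
    by_contra hne
    exact hex x hne hx

lemma finite_torsion {A : Type u} [AddCommGroup A] (a : A) (ha : a ≠ 0)
    (h : ∀ B : AddSubgroup A, B ≠ ⊥ → a ∈ B) (m : ℕ) (hm : 0 < m) :
    {x : A | m • x = 0}.Finite := by
  induction m using Nat.strong_induction_on with
  | _ m ih =>
    by_cases h1 : m = 1
    · subst h1
      apply Set.Finite.subset (Set.finite_singleton (0 : A))
      intro x hx
      simpa using hx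
    · let q := m.minFac
      have hq : q.Prime := Nat.minFac_prime h1
      obtain ⟨m', hm'⟩ : q ∣ m := Nat.minFac_dvd m
      have hm'pos : 0 < m' := by
        rcases Nat.eq_zero_or_pos m' with h0 | h0
        · rw [h0, mul_zero] at hm'; omega
        · exact h0
      have hlt : m' < m := by
        rw [hm']
        have := hq.two_le
        nlinarith
      have hfin := ih m' hlt hm'pos
      have : {x : A | m • x = 0} = (fun x : A => q • x) ⁻¹' {y : A | m' • y = 0} := by
        ext x
        show m • x = 0 ↔ m' • q • x = 0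
        rw [hm', mul_comm, mul_nsmul']
      rw [this]
      apply Set.Finite.preimage' hfin
      intro b _
      by_cases hb : ∃ x0 : A, q • x0 = b
      · obtain ⟨x0, hx0⟩ := hb
        apply Set.Finite.subset ((finite_torsion_prime a ha h q hq).image (fun y => x0 + y))
        intro x hx
        refine ⟨x - x0, ?_, by simp⟩
        have hx' : q • x = b := hx
        show q • (x - x0) = 0
        rw [nsmul_sub, hx', hx0, sub_self]
      · apply Set.Finite.subset Set.finite_empty
        intro x hx
        exact absurd ⟨x, hx⟩ hb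

/-- An abelian group of finite exponent having a nonzero element contained in every nonzero subgroup is
finite. -/
theorem result {A : Type u} [AddCommGroup A]
    (hA : AddMonoid.exponent A ≠ 0) (a : A) (ha : a ≠ 0) (h : ∀ B : AddSubgroup A, B ≠ ⊥ → a ∈ B) :
    Finite A := by
  have hpos : 0 < AddMonoid.exponent A := Nat.pos_of_ne_zero hA
  have hfin := finite_torsion a ha h (AddMonoid.exponent A) hpos
  have huniv : {x : A | AddMonoid.exponent A • x = 0} = Set.univ := by
    ext x
    simp [AddMonoid.exponent_nsmul_eq_zero]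
  rw [huniv] at hfin
  exact Set.finite_univ_iff.mp hfin

end Groth.Agent.S13362
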