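import Groth.Statements.S13363
import Groth.Agent.S13362
import Mathlib.Order.Zorn
import Mathlib.Topology.Algebra.OpenSubgroup
import Mathlib.GroupTheory.OrderOfElement

set_option autoImplicit false
universe u
open ProCompl

namespace Groth.Agent.S13363

/-- Let A be a topological abelian group such that the subgroup n·A is open for each n > 0, and a ∈ A.
Then A has an open subgroup of finite index not containing a if and only if a does not lie in the
subgroup of divisible elements ∩_n nA. -/
theorem result {A : Type u} [AddCommGroup A]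
    [TopologicalSpace A] [IsTopologicalAddGroup A]
    (hn : ∀ n : ℕ, 0 < n → IsOpen (Set.range (fun x : A => n • x))) (a : A) :
    (∃ B : AddSubgroup A, IsOpen (B : Set A) ∧ B.FiniteIndex ∧ a ∉ B) ↔
      ¬ (∀ n : ℕ, 0 < n → ∃ b : A, n • b = a) := by
  constructor
  · rintro ⟨B, _, hfi, haB⟩ hdiv
    apply haB
    have hidx : 0 < B.index := Nat.pos_of_ne_zero hfi.index_ne_zero
    obtain ⟨b, hb⟩ := hdiv B.index hidx
    rw [← hb]
    exact B.nsmul_index_mem b
  · intro hnd
    push Not at hnd
    obtain ⟨n, hnpos, hna⟩ := hnd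
    let nA : AddSubgroup A := (nsmulAddMonoidHom n : A →+ A).range
    have hnAopen : IsOpen (nA : Set A) := by
      have : (nA : Set A) = Set.range (fun x : A => n • x) := by
        ext x
        simp [nA, nsmulAddMonoidHom]
      rw [this]
      exact hn n hnpos
    have hanA : a ∉ nA := by
      rintro ⟨b, hb⟩
      exact hna b hb
    let 𝒮 : Set (AddSubgroup A) := {B | nA ≤ B ∧ a ∉ B}
    obtain ⟨B, hnAB, hBmax⟩ := zorn_le_nonempty₀ 𝒮 (by
      intro c hc hchain y hy
      refine ⟨sSup c, ⟨?_, ?_⟩, fun z hz => le_sSup hz⟩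
      · exact (hc hy).1.trans (le_sSup hy)
      · rw [AddSubgroup.mem_sSup_of_directedOn ⟨y, hy⟩ hchain.directedOn]
        rintro ⟨s, hs, has⟩
        exact (hc hs).2 has) nA ⟨le_rfl, hanA⟩
    have hB𝒮 : B ∈ 𝒮 := hBmax.prop
    have haB : a ∉ B := hB𝒮.2
    refine ⟨B, AddSubgroup.isOpen_mono hnAB hnAopen, ?_, haB⟩
    -- the quotient is finite
    have hexp : AddMonoid.exponent (A ⧸ B) ≠ 0 := by
      rw [AddMonoid.exponent_ne_zero]
      refine ⟨n, hnpos, ?_⟩
      intro g
      obtain ⟨x, rfl⟩ := QuotientAddGroup.mk_surjective g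
      rw [← QuotientAddGroup.mk_nsmul, QuotientAddGroup.eq_zero_iff]
      exact hnAB ⟨x, rfl⟩
    have ha0 : (QuotientAddGroup.mk a : A ⧸ B) ≠ 0 := by
      rw [Ne, QuotientAddGroup.eq_zero_iff]
      exact haB
    have hsub : ∀ C : AddSubgroup (A ⧸ B), C ≠ ⊥ → (QuotientAddGroup.mk a : A ⧸ B) ∈ C := by
      intro C hC
      let C' : AddSubgroup A := C.comap (QuotientAddGroup.mk' B)
      have hBC' : B ≤ C' := by
        intro x hx
        show (QuotientAddGroup.mk' B) x ∈ C
        have : (QuotientAddGroup.mk' B) x = 0 := (QuotientAddGroup.eq_zero_iff x).mpr hx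
        rw [this]
        exact C.zero_mem
      by_contra haC
      have hC'𝒮 : C' ∈ 𝒮 := ⟨hnAB.trans hBC', haC⟩
      have hC'B : C' ≤ B := hBmax.le_of_ge hC'𝒮 hBC'
      apply hC
      rw [eq_bot_iff]
      intro c hc
      obtain ⟨x, rfl⟩ := QuotientAddGroup.mk_surjective c
      rw [AddSubgroup.mem_bot, QuotientAddGroup.eq_zero_iff]
      exact hC'B hc
    haveI : Finite (A ⧸ B) := Groth.Agent.S13362.result hexp _ ha0 hsub
    exact AddSubgroup.finiteIndex_of_finite_quotient

end Groth.Agent.S13363
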