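import Groth.Statements.S13365
import Mathlib.Topology.Algebra.ClopenNhdofOne
-- import your own Groth.Agent.* helpers here

set_option autoImplicit false
universe u
open ProCompl

namespace Groth.Agent.S13365

/-- The quotient of a profinite (compact, Hausdorff, totally disconnected) abelian topological group by
a compact subgroup is profinite. -/
theorem result {A : Type u} [AddCommGroup A] [TopologicalSpace A]
    [IsTopologicalAddGroup A] [CompactSpace A] [T2Space A] [TotallyDisconnectedSpace A]
    (B : AddSubgroup A) (hB : IsCompact (B : Set A)) :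
    CompactSpace (A ⧸ B) ∧ T2Space (A ⧸ B) ∧ TotallyDisconnectedSpace (A ⧸ B) := by
  have hBc : IsClosed (B : Set A) := hB.isClosed
  haveI : IsClosed (B : Set A) := hBc
  refine ⟨inferInstance, inferInstance, ?_⟩
  haveI : TotallySeparatedSpace (A ⧸ B) := by
    rw [totallySeparatedSpace_iff_exists_isClopen]
    intro x y hxy
    obtain ⟨x, rfl⟩ := QuotientAddGroup.mk_surjective x
    obtain ⟨y, rfl⟩ := QuotientAddGroup.mk_surjective y
    have hne : x - y ∉ B := by
      intro hmem
      apply hxy
      rw [QuotientAddGroup.eq_iff_sub_mem]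
      exact hmem
    have key := ProfiniteGrp.closedAddSubgroup_eq_sInf_open (G := A) ⟨B, hBc⟩
    have hne' : x - y ∉ sInf {N : AddSubgroup A | IsOpen (N : Set A) ∧ B ≤ N} := by
      intro hmem
      apply hne
      have : (⟨B, hBc⟩ : ClosedAddSubgroup A).toAddSubgroup = B := rfl
      rw [← this, key]
      exact hmem
    rw [AddSubgroup.mem_sInf] at hne'
    push Not at hne'
    obtain ⟨N, ⟨hNo, hBN⟩, hxN⟩ := hne'
    -- the set of cosets z with z - y in N
    let π : A → A ⧸ B := QuotientAddGroup.mk
    have hπo : IsOpenMap π := QuotientAddGroup.isOpenMap_coe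
    have hNc : IsClosed (N : Set A) := AddSubgroup.isClosed_of_isOpen N hNo
    let S : Set A := {z | z - y ∈ N}
    have hSo : IsOpen S := by
      have : S = (fun z => z - y) ⁻¹' (N : Set A) := rfl
      rw [this]
      exact hNo.preimage (by fun_prop)
    have hSc : IsOpen Sᶜ := by
      have : Sᶜ = (fun z => z - y) ⁻¹' ((N : Set A)ᶜ) := rfl
      rw [this]
      exact hNc.isOpen_compl.preimage (by fun_prop)
    have hsat : ∀ z w : A, π z = π w → (z ∈ S ↔ w ∈ S) := by
      intro z w hzw
      have hzw' : z - w ∈ B := by
        rw [← QuotientAddGroup.eq_iff_sub_mem]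
        exact hzw
      have h1 : z - w ∈ N := hBN hzw'
      constructor
      · intro hz
        have : w - y = (z - y) - (z - w) := by abel
        show w - y ∈ N
        rw [this]
        exact N.sub_mem hz h1
      · intro hw
        have : z - y = (w - y) + (z - w) := by abel
        show z - y ∈ N
        rw [this]
        exact N.add_mem hw h1
    have himg_compl : (π '' S)ᶜ = π '' Sᶜ := by
      ext q
      obtain ⟨z, rfl⟩ := QuotientAddGroup.mk_surjective q
      constructor
      · intro hq
        refine ⟨z, ?_, rfl⟩
        intro hz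
        exact hq ⟨z, hz, rfl⟩
      · rintro ⟨w, hw, hwz⟩ ⟨v, hv, hvz⟩
        apply hw
        exact (hsat v w (hvz.trans hwz.symm)).mp hv
    refine ⟨(π '' S)ᶜ, ⟨?_, ?_⟩, ?_, ?_⟩
    · rw [← isOpen_compl_iff, compl_compl]
      exact hπo S hSo
    · rw [himg_compl]
      exact hπo _ hSc
    · rintro ⟨w, hw, hwx⟩
      apply hxN
      exact (hsat w x hwx).mp hw
    · intro hy
      apply hy
      refine ⟨y, ?_, rfl⟩
      show y - y ∈ N
      rw [sub_self]
      exact N.zero_mem
  infer_instance

end Groth.Agent.S13365
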