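import Groth.Statements.S13369
import Mathlib
import Groth.Agent.Lib.Helper7PField3

set_option autoImplicit false
universe u
open GaDual

namespace Groth.Agent.S13369

/-- For a normal Noetherian domain A of prime characteristic p, an element whose differential vanishes
in the absolute Kähler differentials of A is a p-th power; that is, the sequence F : A → A, d : A →
Ω_A (F the Frobenius) is exact at the middle term. (The published statement is for normal locally
Noetherian schemes of characteristic p; this row is the case of the spectrum of a normal Noetherian
domain.) -/
theorem result (p : ℕ) [Fact p.Prime] {A : Type u} [CommRing A] [IsDomain A]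
    [IsNoetherianRing A] [IsIntegrallyClosed A] [CharP A p] (s : A) (hs : KaehlerDifferential.D ℤ A s = 0) :
    ∃ f : A, f ^ p = s := by
  have hp : p.Prime := Fact.out
  haveI : CharP (FractionRing A) p :=
    charP_of_injective_algebraMap (IsFractionRing.injective A (FractionRing A)) p
  have h0 : KaehlerDifferential.D ℤ (FractionRing A) (algebraMap A (FractionRing A) s) = 0 := by
    rw [← KaehlerDifferential.map_D ℤ ℤ A (FractionRing A), hs, map_zero]
  obtain ⟨b, hb⟩ := Groth.Agent.Lib.Helper7.PPow.exists_pow_eq_of_D_eq_zero p (k := ℤ)
    (K := FractionRing A) (fun c => ⟨(c : FractionRing A), by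
      rw [← frobenius_def, map_intCast]; exact (eq_intCast (algebraMap ℤ (FractionRing A)) c).symm⟩) h0
  have hint : IsIntegral A b := by
    apply IsIntegral.of_pow hp.pos
    rw [hb]
    exact isIntegral_algebraMap
  obtain ⟨f, rfl⟩ := IsIntegrallyClosed.isIntegral_iff.mp hint
  refine ⟨f, IsFractionRing.injective A (FractionRing A) ?_⟩
  rw [map_pow, hb]


end Groth.Agent.S13369
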