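import Groth.Statements.S13370
import Mathlib

set_option autoImplicit false
universe u
open GaDual

namespace Groth.Agent.S13370

open AlgebraicGeometry CategoryTheory MvPolynomial

/-- the zero section. -/
noncomputable def zeroSec (n : Type u) (X : Scheme.{u}) : X ⟶ 𝔸(n; X) :=
  AffineSpace.homOfVector (𝟙 X) (fun _ => 0)

lemma zeroSec_over (n : Type u) (X : Scheme.{u}) : zeroSec n X ≫ (𝔸(n; X) ↘ X) = 𝟙 X :=
  AffineSpace.homOfVector_over _ _

lemma zeroSec_map (n : Type u) {U X : Scheme.{u}} (f : U ⟶ X) :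
    f ≫ zeroSec n X = zeroSec n U ≫ AffineSpace.map n f := by
  apply AffineSpace.hom_ext
  · rw [Category.assoc, zeroSec_over, Category.assoc, AffineSpace.map_over,
      reassoc_of% (zeroSec_over n U), Category.comp_id]
  · intro i
    rw [Scheme.Hom.comp_appTop, Scheme.Hom.comp_appTop, CommRingCat.comp_apply,
      CommRingCat.comp_apply, AffineSpace.map_appTop_coord, zeroSec, zeroSec,
      AffineSpace.homOfVector_appTop_coord, AffineSpace.homOfVector_appTop_coord, map_zero]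

/-- affine reduced case: units of `𝔸(n; U)` are pulled back from `U`. -/
lemma affine_case (n : Type u) (U : Scheme.{u}) [IsAffine U] [IsReduced U]
    (w : Γ(𝔸(n; U), ⊤)) (hw : IsUnit w) :
    ∃ r : Γ(U, ⊤), (𝔸(n; U) ↘ U).appTop r = w := by
  obtain ⟨Φ, hΦ⟩ : ∃ Φ : MvPolynomial n Γ(U, ⊤) →+* Γ(𝔸(n; U), ⊤),
      Φ = eval₂Hom ((𝔸(n; U) ↘ U).appTop).hom (AffineSpace.coord U) := ⟨_, rfl⟩
  have hiso : IsIso (CommRingCat.ofHom Φ) := by
    have h1 := AffineSpace.isoOfIsAffine_hom_appTop (n := n) (S := U)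
    rw [← hΦ] at h1
    have h2 : CommRingCat.ofHom Φ = (Scheme.ΓSpecIso _).inv ≫ (AffineSpace.isoOfIsAffine n U).hom.appTop := by
      rw [h1, Iso.inv_hom_id_assoc]
    rw [h2]
    have h4 : IsIso (AffineSpace.isoOfIsAffine n U).hom.appTop :=
      inferInstanceAs (IsIso ((AffineSpace.isoOfIsAffine n U).hom.app ⊤))
    infer_instance
  have hbij : Function.Bijective Φ :=
    ConcreteCategory.bijective_of_isIso (CommRingCat.ofHom Φ)
  let e : MvPolynomial n Γ(U, ⊤) ≃+* Γ(𝔸(n; U), ⊤) := RingEquiv.ofBijective Φ hbij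
  have hp : IsUnit (e.symm w) := hw.map e.symm
  obtain ⟨r, _, hr⟩ := MvPolynomial.isUnit_iff_eq_C_of_isReduced.mp hp
  refine ⟨r, ?_⟩
  have h3 : Φ (e.symm w) = w := e.apply_symm_apply w
  rw [← h3, hr, hΦ, coe_eval₂Hom, eval₂_C]


open AlgebraicGeometry in
/-- Over a reduced scheme X, each invertible global function on 𝔸ⁿ_X comes, by pullback along the
projection to X, from an invertible global function on X. -/
theorem result (n : Type u) [Finite n] (X : Scheme.{u}) [IsReduced X]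
    (w : Γ(𝔸(n; X), ⊤)) (hw : IsUnit w) :
    ∃ v : Γ(X, ⊤), IsUnit v ∧ (𝔸(n; X) ↘ X).appTop v = w := by
  refine ⟨(zeroSec n X).appTop w, hw.map _, ?_⟩
  -- the cover
  let 𝒰 := X.affineCover
  have hopen : ∀ i, IsOpenImmersion (AffineSpace.map n (𝒰.f i)) := fun i =>
    MorphismProperty.of_isPullback (AffineSpace.isPullback_map (n := n) (𝒰.f i)).flip inferInstance
  have hcov : ∀ x : 𝔸(n; X), ∃ (i : 𝒰.I₀) (y : 𝔸(n; 𝒰.X i)),
      (AffineSpace.map n (𝒰.f i)).base y = x := by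
    intro x
    obtain ⟨u, hu⟩ := 𝒰.covers ((𝔸(n; X) ↘ X).base x)
    obtain ⟨y, hy, _⟩ := Scheme.exists_preimage_of_isPullback
      (AffineSpace.isPullback_map (n := n) (𝒰.f (𝒰.idx ((𝔸(n; X) ↘ X).base x)))) x u hu.symm
    exact ⟨_, y, hy⟩
  let 𝒱 : (𝔸(n; X)).OpenCover := Scheme.Cover.mkOfCovers 𝒰.I₀ (fun i => 𝔸(n; 𝒰.X i))
    (fun i => AffineSpace.map n (𝒰.f i)) hcov hopen
  apply 𝒱.ext_elem
  intro i
  change (AffineSpace.map n (𝒰.f i)).appTop ((𝔸(n; X) ↘ X).appTop ((zeroSec n X).appTop w)) =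
    (AffineSpace.map n (𝒰.f i)).appTop w
  have hred : IsReduced (𝒰.X i) := isReduced_of_isOpenImmersion (𝒰.f i)
  obtain ⟨r, hr⟩ := affine_case n (𝒰.X i) ((AffineSpace.map n (𝒰.f i)).appTop w) (hw.map _)
  have h1 : AffineSpace.map n (𝒰.f i) ≫ (𝔸(n; X) ↘ X) ≫ zeroSec n X =
      (𝔸(n; 𝒰.X i) ↘ 𝒰.X i) ≫ zeroSec n (𝒰.X i) ≫ AffineSpace.map n (𝒰.f i) := by
    rw [← Category.assoc, AffineSpace.map_over, Category.assoc, zeroSec_map]
  have h2 : (AffineSpace.map n (𝒰.f i)).appTop ((𝔸(n; X) ↘ X).appTop ((zeroSec n X).appTop w)) =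
      (AffineSpace.map n (𝒰.f i) ≫ (𝔸(n; X) ↘ X) ≫ zeroSec n X).appTop w := by
    rw [Scheme.Hom.comp_appTop, Scheme.Hom.comp_appTop]
    rfl
  rw [h2, h1, Scheme.Hom.comp_appTop, Scheme.Hom.comp_appTop, CommRingCat.comp_apply,
    CommRingCat.comp_apply, ← hr, ← CommRingCat.comp_apply (f := (𝔸(n; 𝒰.X i) ↘ 𝒰.X i).appTop),
    ← Scheme.Hom.comp_appTop, zeroSec_over]
  rfl

end Groth.Agent.S13370
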