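import Groth.Statements.S13371
import Mathlib
import Groth.Agent.Lib.Helper27GaGm

set_option autoImplicit false
universe u
open GaDual

namespace Groth.Agent.S13371

section Aux
open CategoryTheory AlgebraicGeometry MonObj CartesianMonoidalCategory Limits
open Groth.Agent.Lib.Helper27.GaGm Polynomial

lemma unit_poly_eq_one {R : Type u} [CommRing R] [IsReduced R] (v : R[X]) (hv : IsUnit v)
    (h0 : v.eval 0 = 1) : v = 1 := by
  have h := (Polynomial.isUnit_iff_coeff_isUnit_isNilpotent.mp hv).2
  have hv' : v = C (v.coeff 0) := by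
    ext i
    rcases Nat.eq_zero_or_pos i with rfl | hi
    · simp
    · rw [coeff_C, if_neg hi.ne']
      exact (h i hi.ne').eq_zero
  rw [hv', ← coeff_zero_eq_eval_zero] at h0
  rw [hv']
  simp only [coeff_C_zero] at h0
  rw [h0, map_one]

lemma appTop_specMap_inv {A B : Type u} [CommRing A] [CommRing B] (f : A →+* B) (a : A) :
    (Spec.map (CommRingCat.ofHom f)).appTop.hom ((Scheme.ΓSpecIso (CommRingCat.of A)).inv.hom a) =
      (Scheme.ΓSpecIso (CommRingCat.of B)).inv.hom (f a) := by
  have := Scheme.ΓSpecIso_inv_naturality (CommRingCat.ofHom f)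
  have h2 := congrArg (fun k => k.hom a) this
  simp only [CommRingCat.hom_comp, RingHom.comp_apply, CommRingCat.hom_ofHom] at h2
  exact h2.symm

theorem gmFn_eq_one_of_factors {S : Scheme.{u}} (φ : Red.Ga S ⟶ Red.Gm S) [IsMonHom φ]
    (R : Type u) [CommRing R] [IsReduced R] (j : Spec (CommRingCat.of R) ⟶ S)
    (W : Over S) (P : W ⟶ Red.Ga S) (g : W.left ⟶ Spec (CommRingCat.of R)) (hg : g ≫ j = W.hom) :
    Red.gmFn (P ≫ φ) = 1 := by
  let Y : Over S := Over.mk (Spec.map (CommRingCat.ofHom (C : R →+* R[X])) ≫ j)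
  let tY : Γ(Y.left, ⊤) := (Scheme.ΓSpecIso (CommRingCat.of R[X])).inv.hom X
  let y : Y ⟶ Red.Ga S := (gaEquiv Y).symm tY
  have hy : Red.gaFn y = tY := gaFn_gaEquiv_symm _
  have hvu : IsUnit (Red.gmFn (y ≫ φ)) := gmFn_isUnit _
  let Z : Over S := Over.mk j
  have hzc : Spec.map (CommRingCat.ofHom (Polynomial.evalRingHom (0 : R))) ≫
      (Spec.map (CommRingCat.ofHom (C : R →+* R[X])) ≫ j) = j := by
    rw [← Category.assoc, ← Spec.map_comp, ← CommRingCat.ofHom_comp]
    have : (evalRingHom (0 : R)).comp C = RingHom.id R := by ext; simp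
    rw [this]
    simp
  let z : Z ⟶ Y := Over.homMk (Spec.map (CommRingCat.ofHom (Polynomial.evalRingHom (0 : R)))) hzc
  have hzy : z ≫ y = 1 := by
    apply gaFn_injective
    rw [gaFn_comp, gaFn_one, hy]
    show (Spec.map (CommRingCat.ofHom (Polynomial.evalRingHom (0 : R)))).appTop.hom
      ((Scheme.ΓSpecIso (CommRingCat.of R[X])).inv.hom X) = 0
    rw [appTop_specMap_inv]
    simp
  have hzv : z.left.appTop.hom (Red.gmFn (y ≫ φ)) = 1 := by
    have h3 := MonObj.one_comp (X := Z) φ
    have := gmFn_comp z (y ≫ φ)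
    rw [← Category.assoc, hzy, h3, gmFn_one] at this
    exact this.symm
  have hv1 : Red.gmFn (y ≫ φ) = 1 := by
    obtain ⟨v', hv'⟩ : ∃ v' : R[X], (Scheme.ΓSpecIso (CommRingCat.of R[X])).inv.hom v' =
        Red.gmFn (y ≫ φ) :=
      ⟨(Scheme.ΓSpecIso (CommRingCat.of R[X])).hom.hom (Red.gmFn (y ≫ φ)), by simp⟩
    have hinjX : Function.Injective (Scheme.ΓSpecIso (CommRingCat.of R[X])).inv.hom :=
      (ConcreteCategory.bijective_of_isIso (Scheme.ΓSpecIso (CommRingCat.of R[X])).inv).1
    have hinjR : Function.Injective (Scheme.ΓSpecIso (CommRingCat.of R)).inv.hom :=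
      (ConcreteCategory.bijective_of_isIso (Scheme.ΓSpecIso (CommRingCat.of R)).inv).1
    have hu' : IsUnit v' := by
      have : v' = (Scheme.ΓSpecIso (CommRingCat.of R[X])).hom.hom (Red.gmFn (y ≫ φ)) := by
        rw [← hv']; simp
      rw [this]
      exact hvu.map _
    have h0 : v'.eval 0 = 1 := by
      apply hinjR
      rw [map_one, ← hzv, ← hv']
      exact (appTop_specMap_inv (Polynomial.evalRingHom (0 : R)) v').symm
    rw [← hv', unit_poly_eq_one v' hu' h0, map_one]
  -- factor `P` through `y`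
  let a : Γ(W.left, ⊤) := Red.gaFn P
  let ρ : R →+* Γ(W.left, ⊤) := fnHom g
  let θ : R[X] →+* Γ(W.left, ⊤) := Polynomial.eval₂RingHom ρ a
  obtain ⟨h, hh⟩ := fn_surj θ
  have hhC : h ≫ Spec.map (CommRingCat.ofHom (C : R →+* R[X])) = g := by
    apply fn_ext
    intro r
    rw [fn_specMap, hh, fn_eq]
    simp [θ, ρ]
  have hhw : h ≫ Y.hom = W.hom := by
    show h ≫ (Spec.map (CommRingCat.ofHom (C : R →+* R[X])) ≫ j) = W.hom
    rw [← Category.assoc, hhC, hg]
  let H : W ⟶ Y := Over.homMk h hhw
  have hHy : H ≫ y = P := by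
    apply gaFn_injective
    rw [gaFn_comp, hy]
    show fn h X = a
    rw [hh]
    simp [θ]
  rw [← hHy, Category.assoc, gmFn_comp, hv1, map_one]

end Aux

open Groth.Agent.Lib.Helper27.GaGm CategoryTheory.Limits in
open CategoryTheory AlgebraicGeometry MonObj CartesianMonoidalCategory in

open CategoryTheory AlgebraicGeometry MonObj CartesianMonoidalCategory in
/-- If S is a reduced scheme, every homomorphism of S-group schemes from the additive group to the
multiplicative group over S is the trivial homomorphism. -/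
theorem result (S : Scheme.{u}) [IsReduced S] (φ : Red.Ga S ⟶ Red.Gm S)
    [IsMonHom φ] : φ = 1 := by
  apply gmFn_injective
  rw [gmFn_one]
  have hsub : Red.gmFn φ - 1 = 0 := by
    refine Scheme.zero_of_zero_cover _
      (S.affineOpenCover.openCover.pullback₁ (Red.Ga S).hom) (fun i => ?_)
    have : IsReduced (Spec (S.affineOpenCover.X i)) :=
      isReduced_of_isOpenImmersion (S.affineOpenCover.f i)
    have hR : _root_.IsReduced (S.affineOpenCover.X i) := by
      have := (affine_isReduced_iff (S.affineOpenCover.X i)).mp this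
      exact this
    let W : Over S := Over.mk (pullback.fst (Red.Ga S).hom (S.affineOpenCover.f i) ≫ (Red.Ga S).hom)
    let P : W ⟶ Red.Ga S := Over.homMk (pullback.fst (Red.Ga S).hom (S.affineOpenCover.f i)) rfl
    have key := @gmFn_eq_one_of_factors S φ _ (S.affineOpenCover.X i) _ hR (S.affineOpenCover.f i) W P
      (pullback.snd (Red.Ga S).hom (S.affineOpenCover.f i)) pullback.condition.symm
    rw [gmFn_comp] at key
    show (pullback.fst (Red.Ga S).hom (S.affineOpenCover.f i)).appTop.hom (Red.gmFn φ - 1) = 0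
    rw [map_sub, map_one, sub_eq_zero]
    exact key
  exact sub_eq_zero.mp hsub

end Groth.Agent.S13371
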