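import Groth.Statements.S13373
import Groth.Agent.Lib.Helper20GaChar

set_option autoImplicit false
universe u
open GaDual

namespace Groth.Agent.S13373

/-- Over a commutative algebra A of prime characteristic p, the formal characters (power series χ with
constant term 1 and χ(X+Y) = χ(X)χ(Y)) are exactly the infinite products ∏_n exp_p(a_n X^(p^n)) with
a_n^p = 0, where exp_p(Y) = Σ_{j<p} Y^j/j!; the infinite product is expressed through its
truncations: χ mod X^(p^m) equals the finite product over n < m. -/
theorem result (p : ℕ) [Fact p.Prime] (A : Type u) [CommRing A] [CharP A p]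
    (χ : PowerSeries A) :
    (PowerSeries.constantCoeff χ = 1 ∧
      PowerSeries.subst (MvPowerSeries.X 0 + MvPowerSeries.X 1 : MvPowerSeries (Fin 2) A) χ =
        PowerSeries.subst (MvPowerSeries.X 0 : MvPowerSeries (Fin 2) A) χ *
          PowerSeries.subst (MvPowerSeries.X 1 : MvPowerSeries (Fin 2) A) χ) ↔
      ∃ a : ℕ → A, (∀ n, a n ^ p = 0) ∧ ∀ m : ℕ,
        PowerSeries.trunc (p ^ m) χ = ∏ n ∈ Finset.range m, ∑ j ∈ Finset.range p,
          Polynomial.C (Ring.inverse (j.factorial : A) * a n ^ j) * Polynomial.X ^ (j * p ^ n) := by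
  have hp : Fact p.Prime := inferInstance
  constructor
  · intro hχ
    have h := (Groth.Agent.Lib.Helper20.GaChar.ps_char_iff χ).mp hχ
    refine ⟨fun n => PowerSeries.coeff (p ^ n) χ, fun n => h.pow_p_eq_zero n, fun m => ?_⟩
    have h1 := h.sum_eq_P (p := p) m
    rw [PowerSeries.trunc_apply, Nat.Ico_zero_eq_range]
    simp only [← Polynomial.C_mul_X_pow_eq_monomial]
    exact h1
  · rintro ⟨a, ha, htr⟩
    apply (Groth.Agent.Lib.Helper20.GaChar.ps_char_iff χ).mpr
    have hco : ∀ m l, l < p ^ m →
        (Groth.Agent.Lib.Helper20.GaChar.P p a m).coeff l = PowerSeries.coeff l χ := by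
      intro m l hl
      have := congrArg (fun q => Polynomial.coeff q l) (htr m)
      simp only [PowerSeries.coeff_trunc, if_pos hl] at this
      exact this.symm
    have hP : ∀ m, Groth.Agent.Lib.Helper20.GaChar.Rel
        (fun i => (Groth.Agent.Lib.Helper20.GaChar.P p a m).coeff i) := fun m =>
      (Groth.Agent.Lib.Helper20.GaChar.poly_char_iff _).mp
        ⟨Groth.Agent.Lib.Helper20.GaChar.eval_zero_P (p := p) a m,
          Groth.Agent.Lib.Helper20.GaChar.aeval_P_add (p := p) a ha m _ _⟩
    refine ⟨?_, fun i j => ?_⟩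
    · have h1 := (hP 1).1
      have h2 := hco 1 0 (by rw [pow_one]; exact hp.out.pos)
      show PowerSeries.coeff 0 χ = 1
      rw [← h2]
      exact h1
    · have hlt : i + j < p ^ (i + j + 1) :=
        lt_trans (Nat.lt_succ_self _) (Nat.lt_pow_self hp.out.one_lt)
      have h1 := (hP (i + j + 1)).2 i j
      show (((i + j).choose i : ℕ) : A) * PowerSeries.coeff (i + j) χ =
        PowerSeries.coeff i χ * PowerSeries.coeff j χ
      simp only at h1
      rw [hco _ _ hlt, hco _ _ (lt_of_le_of_lt (Nat.le_add_right i j) hlt),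
        hco _ _ (lt_of_le_of_lt (Nat.le_add_left j i) hlt)] at h1
      exact h1

end Groth.Agent.S13373
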