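import Groth.Statements.S13375
import Mathlib
-- import your own Groth.Agent.* helpers here

set_option autoImplicit false
universe u v
open CechDer

namespace Groth.Agent.S13375

section helpers
open CategoryTheory CategoryTheory.Limits

variable {V : Type u} [Category.{v} V] [Abelian V]

/-- inclusion `H⁰ ↪ X⁰`. -/
noncomputable def ι₀ (K : CochainComplex V ℕ) : K.homology 0 ⟶ K.X 0 :=
  K.isoHomologyπ₀.inv ≫ K.iCycles 0

instance (K : CochainComplex V ℕ) : Mono (ι₀ K) := by
  unfold ι₀; infer_instance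

lemma ι₀_d (K : CochainComplex V ℕ) : ι₀ K ≫ K.d 0 1 = 0 := by simp [ι₀]

lemma ι₀_exact (K : CochainComplex V ℕ) : (ShortComplex.mk (ι₀ K) (K.d 0 1) (ι₀_d K)).Exact := by
  have h1 : (ShortComplex.mk (K.iCycles 0) (K.d 0 1) (by simp)).Exact :=
    ShortComplex.exact_of_f_is_kernel _ (K.cyclesIsKernel 0 1 (by simp))
  refine (ShortComplex.exact_iff_of_iso ?_).1 h1
  exact ShortComplex.isoMk K.isoHomologyπ₀ (Iso.refl _) (Iso.refl _) (by simp [ι₀]) (by simp)

lemma ι₀_naturality {K L : CochainComplex V ℕ} (φ : K ⟶ L) :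
    HomologicalComplex.homologyMap φ 0 ≫ ι₀ L = ι₀ K ≫ φ.f 0 := by
  simp [ι₀]

lemma exS (C : CochainComplex V ℕ) (hC : ∀ n, 0 < n → C.ExactAt n) (n : ℕ) :
    (ShortComplex.mk (C.d n (n+1)) (C.d (n+1) (n+2)) (C.d_comp_d _ _ _)).Exact := by
  have := hC (n+1) (Nat.succ_pos n)
  rw [C.exactAt_iff' n (n+1) (n+2) (by simp) (by simp)] at this
  exact this

lemma exists_lift (C I : CochainComplex V ℕ) (hC : ∀ n, 0 < n → C.ExactAt n)
    [∀ n, Injective (I.X n)] (g : C.homology 0 ⟶ I.homology 0) :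
    ∃ f : C ⟶ I, HomologicalComplex.homologyMap f 0 = g := by
  have ex0 := ι₀_exact C
  let f0 : C.X 0 ⟶ I.X 0 := Injective.factorThru (g ≫ ι₀ I) (ι₀ C)
  have hf0 : ι₀ C ≫ f0 = g ≫ ι₀ I := Injective.comp_factorThru _ _
  let f1 : C.X 1 ⟶ I.X 1 := ex0.descToInjective (f0 ≫ I.d 0 1) (by
      show ι₀ C ≫ f0 ≫ I.d 0 1 = 0
      rw [← Category.assoc, hf0, Category.assoc, ι₀_d, comp_zero])
  have hf1 : C.d 0 1 ≫ f1 = f0 ≫ I.d 0 1 := ex0.comp_descToInjective _ _
  let f := CochainComplex.mkHom C I f0 f1 hf1.symm (fun n p =>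
    ⟨(exS C hC n).descToInjective (p.2.1 ≫ I.d (n+1) (n+2)) (by
       show C.d n (n+1) ≫ p.2.1 ≫ I.d (n+1) (n+2) = 0
       rw [← Category.assoc, ← p.2.2, Category.assoc, I.d_comp_d, comp_zero]),
      ((exS C hC n).comp_descToInjective _ _).symm⟩)
  refine ⟨f, ?_⟩
  rw [← cancel_mono (ι₀ I), ι₀_naturality]
  exact hf0

lemma exists_homotopy_zero (C I : CochainComplex V ℕ) (hC : ∀ n, 0 < n → C.ExactAt n)
    [∀ n, Injective (I.X n)] (f : C ⟶ I) (hf : HomologicalComplex.homologyMap f 0 = 0) :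
    Nonempty (Homotopy f 0) := by
  have ex0 := ι₀_exact C
  have h0 : ι₀ C ≫ f.f 0 = 0 := by rw [← ι₀_naturality, hf, zero_comp]
  let z : C.X 1 ⟶ I.X 0 := ex0.descToInjective (f.f 0) h0
  have hz : C.d 0 1 ≫ z = f.f 0 := ex0.comp_descToInjective _ _
  let o : C.X 2 ⟶ I.X 1 := (exS C hC 0).descToInjective (f.f 1 - z ≫ I.d 0 1) (by
     show C.d 0 1 ≫ (f.f 1 - z ≫ I.d 0 1) = 0
     rw [Preadditive.comp_sub, ← Category.assoc, hz, f.comm, sub_self])
  have ho : C.d 1 2 ≫ o = f.f 1 - z ≫ I.d 0 1 := (exS C hC 0).comp_descToInjective _ _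
  exact ⟨Homotopy.mkCoinductive f z hz.symm o (by rw [ho]; abel) (fun n ⟨a, b, w⟩ =>
    ⟨(exS C hC (n+1)).descToInjective (f.f (n+2) - b ≫ I.d (n+1) (n+2)) (by
      show C.d (n+1) (n+2) ≫ (f.f (n+2) - b ≫ I.d _ _) = 0
      rw [Preadditive.comp_sub, ← f.comm, w, Preadditive.add_comp, Category.assoc,
        Category.assoc, I.d_comp_d, comp_zero, zero_add, sub_self]),
      by rw [(exS C hC (n+1)).comp_descToInjective]; abel⟩)⟩

open Classical in
lemma exists_extension (S C I : CochainComplex V ℕ) (u : S ⟶ C) [∀ n, Mono (u.f n)]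
    (hS : ∀ n, 0 < n → S.ExactAt n) (hC : ∀ n, 0 < n → C.ExactAt n)
    [∀ n, Injective (I.X n)] (φ : S ⟶ I) (g : C.homology 0 ⟶ I.homology 0)
    (hg : HomologicalComplex.homologyMap u 0 ≫ g = HomologicalComplex.homologyMap φ 0) :
    ∃ f : C ⟶ I, u ≫ f = φ ∧ HomologicalComplex.homologyMap f 0 = g := by
  obtain ⟨f₀, hf₀⟩ := exists_lift C I hC g
  obtain ⟨h⟩ := exists_homotopy_zero S I hS (u ≫ f₀ - φ) (by
    rw [HomologicalComplex.homologyMap_sub, HomologicalComplex.homologyMap_comp, hf₀, hg, sub_self])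
  let k : ∀ i j, C.X i ⟶ I.X j := fun i j =>
    if (ComplexShape.up ℕ).Rel j i then Injective.factorThru (h.hom i j) (u.f i) else 0
  have hk : ∀ i j, u.f i ≫ k i j = h.hom i j := by
    intro i j
    by_cases hr : (ComplexShape.up ℕ).Rel j i
    · simp only [k, if_pos hr]; exact Injective.comp_factorThru _ _
    · simp only [k, if_neg hr, comp_zero]; exact (h.zero i j hr).symm
  have hk0 : ∀ i j, ¬ (ComplexShape.up ℕ).Rel j i → k i j = 0 := by
    intro i j hr
    simp only [k, if_neg hr]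
  refine ⟨f₀ - Homotopy.nullHomotopicMap k, ?_, ?_⟩
  · rw [Preadditive.comp_sub, Homotopy.comp_nullHomotopicMap]
    have e1 : (fun i j => u.f i ≫ k i j) = h.hom := by
      funext i j; exact hk i j
    have e2 : Homotopy.nullHomotopicMap h.hom = u ≫ f₀ - φ := by
      ext n
      have := h.comm n
      simp only [HomologicalComplex.zero_f, add_zero] at this
      rw [this]
      simp [Homotopy.nullHomotopicMap]
    rw [e1, e2]; abel
  · rw [HomologicalComplex.homologyMap_sub, hf₀,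
      (Homotopy.nullHomotopy k hk0).homologyMap_eq 0, HomologicalComplex.homologyMap_zero, sub_zero]

end helpers

open CategoryTheory CategoryTheory.Limits in
/-- In an abelian category, given two degreewise left exact sequences of nonnegatively graded cochain
complexes 0 → C' → C → C'' and 0 → I' → I → I'', each complex exact in positive degrees and the I's
termwise injective, every commutative ladder of maps g', g, g'' between their degree-zero
cohomologies is induced by chain maps f' : C' → I', f : C → I, f'' : C'' → I'' commuting with the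
given maps of complexes. -/
theorem result {V : Type u} [Category.{v} V]
    [Abelian V] (C' C C'' I' I I'' : CochainComplex V ℕ)
    (jC : C' ⟶ C) (πC : C ⟶ C'') (jI : I' ⟶ I) (πI : I ⟶ I'')
    (mC : ∀ n, Mono (jC.f n)) (wC : ∀ n, jC.f n ≫ πC.f n = 0)
    (exC : ∀ n, (ShortComplex.mk (jC.f n) (πC.f n) (wC n)).Exact)
    (mI : ∀ n, Mono (jI.f n)) (wI : ∀ n, jI.f n ≫ πI.f n = 0)
    (exI : ∀ n, (ShortComplex.mk (jI.f n) (πI.f n) (wI n)).Exact)
    (hC' : ∀ n, 0 < n → C'.ExactAt n) (hC : ∀ n, 0 < n → C.ExactAt n) (hC'' : ∀ n, 0 < n → C''.ExactAt n)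
    (hI' : ∀ n, 0 < n → I'.ExactAt n) (hI : ∀ n, 0 < n → I.ExactAt n) (hI'' : ∀ n, 0 < n → I''.ExactAt n)
    (injI' : ∀ n, Injective (I'.X n)) (injI : ∀ n, Injective (I.X n)) (injI'' : ∀ n, Injective (I''.X n))
    (g' : C'.homology 0 ⟶ I'.homology 0) (g : C.homology 0 ⟶ I.homology 0)
    (g'' : C''.homology 0 ⟶ I''.homology 0)
    (hg1 : HomologicalComplex.homologyMap jC 0 ≫ g = g' ≫ HomologicalComplex.homologyMap jI 0)
    (hg2 : HomologicalComplex.homologyMap πC 0 ≫ g'' = g ≫ HomologicalComplex.homologyMap πI 0) :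
    ∃ (f' : C' ⟶ I') (f : C ⟶ I) (f'' : C'' ⟶ I''),
      jC ≫ f = f' ≫ jI ∧ πC ≫ f'' = f ≫ πI ∧
      HomologicalComplex.homologyMap f' 0 = g' ∧ HomologicalComplex.homologyMap f 0 = g ∧
      HomologicalComplex.homologyMap f'' 0 = g'' := by
  have := injI'
  have := injI
  have := injI''
  have := mC
  obtain ⟨f', hf'⟩ := exists_lift C' I' hC' g'
  obtain ⟨f, hf1, hf2⟩ := exists_extension C' C I jC hC' hC (f' ≫ jI) g (by
    rw [hg1, HomologicalComplex.homologyMap_comp, hf'])
  have wC' : jC ≫ πC = 0 := by ext n; exact wC n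
  have wI' : jI ≫ πI = 0 := by ext n; exact wI n
  have : Mono jC := HomologicalComplex.mono_of_mono_f _ mC
  let Q := cokernel jC
  let p : C ⟶ Q := cokernel.π jC
  let u : Q ⟶ C'' := cokernel.desc jC πC wC'
  have hpu : p ≫ u = πC := cokernel.π_desc _ _ _
  let T : ShortComplex (CochainComplex V ℕ) := ShortComplex.mk jC πC wC'
  have hT : T.Exact := HomologicalComplex.exact_of_degreewise_exact T (fun n => exC n)
  have : Mono u := hT.mono_cokernelDesc
  let T' : ShortComplex (CochainComplex V ℕ) := ShortComplex.mk jC p (cokernel.condition jC)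
  have hT' : T'.ShortExact :=
    { exact := ShortComplex.exact_cokernel jC
      mono_f := by dsimp [T']; infer_instance
      epi_g := by dsimp [T', p]; infer_instance }
  have hQ : ∀ n, 0 < n → Q.ExactAt n := by
    intro n hn
    rw [HomologicalComplex.exactAt_iff_isZero_homology]
    have e3 := hT'.homology_exact₃ n (n+1) rfl
    refine e3.isZero_of_both_zeros (IsZero.eq_of_src ?_ _ _) (IsZero.eq_of_tgt ?_ _ _)
    · exact (HomologicalComplex.exactAt_iff_isZero_homology _ _).1 (hC n hn)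
    · exact (HomologicalComplex.exactAt_iff_isZero_homology _ _).1 (hC' (n+1) (Nat.succ_pos n))
  have : Epi (HomologicalComplex.homologyMap p 0) := by
    have e3 := hT'.homology_exact₃ 0 1 rfl
    exact e3.epi_f (IsZero.eq_of_tgt
      ((HomologicalComplex.exactAt_iff_isZero_homology _ _).1 (hC' 1 one_pos)) _ _)
  let φ : Q ⟶ I'' := cokernel.desc jC (f ≫ πI) (by
    rw [← Category.assoc, hf1, Category.assoc, wI', comp_zero])
  have hφ : p ≫ φ = f ≫ πI := cokernel.π_desc _ _ _
  obtain ⟨f'', hf''1, hf''2⟩ := exists_extension Q C'' I'' u hQ hC'' φ g'' (by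
    rw [← cancel_epi (HomologicalComplex.homologyMap p 0),
      ← HomologicalComplex.homologyMap_comp_assoc, hpu, hg2, ← HomologicalComplex.homologyMap_comp,
      hφ, HomologicalComplex.homologyMap_comp, hf2])
  refine ⟨f', f, f'', hf1, ?_, hf', hf2, hf''2⟩
  rw [← hpu, Category.assoc, hf''1, hφ]

end Groth.Agent.S13375
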