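import Groth.Statements.S13378
import Mathlib
import Groth.Agent.Lib.Helper22ProfComp

set_option autoImplicit false
universe u
open ProCompl

namespace Groth.Agent.S13378

open CategoryTheory ProfiniteGrp ProfiniteGrp.ProfiniteCompletion Groth.Agent.Lib.Helper22.ProfComp

/-- For an abelian group A (written multiplicatively, discrete) and a subgroup A' such that the quotient
A/A' has no nontrivial divisible element and its torsion elements are killed by one positive
integer, the map induced on profinite completions by the inclusion of A' in A is injective. (The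
published statement is for topological abelian groups in which every nA is open, with completions
formed from open subgroups of finite index; this row is the case of the discrete topology.) -/
theorem result (A : Type u) [CommGroup A] (A' : Subgroup A)
    (hdiv : ∀ x : A ⧸ A', (∀ n : ℕ, 0 < n → ∃ y : A ⧸ A', y ^ n = x) → x = 1)
    (htors : ∃ N : ℕ, 0 < N ∧ ∀ x : A ⧸ A', IsOfFinOrder x → x ^ N = 1) :
    Function.Injective (ProfiniteGrp.profiniteCompletion.map (GrpCat.ofHom A'.subtype)).hom := by
  classical
  let ι : GrpCat.of A' ⟶ GrpCat.of A := GrpCat.ofHom A'.subtype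
  show Function.Injective (ProfiniteGrp.profiniteCompletion.map ι).hom
  rw [injective_iff_map_eq_one]
  intro x hx
  apply ext_coord
  intro H
  have : H.toSubgroup.FiniteIndex := H.isFiniteIndex'
  obtain ⟨N0, hN0fi, hN0⟩ := exists_finiteIndex_comap_le A' htors H.toSubgroup
  let N : FiniteIndexNormalSubgroup A :=
    { toSubgroup := N0
      isNormal' := inferInstance
      isFiniteIndex' := hN0fi }
  have hcm := coord_map ι N x
  have hL : coord (GrpCat.of A) N ((ProfiniteGrp.profiniteCompletion.map ι).hom x) = 1 := by
    rw [hx]; rfl
  rw [hL] at hcm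
  obtain ⟨a, ha⟩ := QuotientGroup.mk_surjective (coord (GrpCat.of A') (N.comap ι.hom) x)
  rw [← ha] at hcm
  have hcm' : (QuotientGroup.mk (a : A) : A ⧸ N.toSubgroup) = 1 := hcm.symm
  rw [QuotientGroup.eq_one_iff] at hcm'
  have haN : a ∈ (N.comap ι.hom).toSubgroup := hcm'
  have h1 : coord (GrpCat.of A') (N.comap ι.hom) x = QuotientGroup.mk (1 : A') := by
    rw [← ha, QuotientGroup.mk_one]
    exact (QuotientGroup.eq_one_iff _).mpr haN
  have hle : N.comap ι.hom ≤ H := fun z hz => hN0 hz
  have := coord_of_le x hle 1 h1
  rw [this]
  rfl

end Groth.Agent.S13378
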