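import Groth.Statements.S13379
import Mathlib
import Groth.Agent.Lib.Helper22ProfComp

set_option autoImplicit false
universe u
open ProCompl

namespace Groth.Agent.S13379

open CategoryTheory ProfiniteGrp ProfiniteGrp.ProfiniteCompletion Groth.Agent.Lib.Helper22.ProfComp

/-- Profinite completion is right exact: for an abelian group A (written multiplicatively, discrete) and
a subgroup A', the map on profinite completions induced by A → A/A' is surjective and its kernel is
the image of the completion of A'. (The published statement is right-exactness for topological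
abelian groups with completions formed from open subgroups of finite index; this row is the case of
the discrete topology.) -/
theorem result (A : Type u) [CommGroup A] (A' : Subgroup A) :
    Function.Surjective (ProfiniteGrp.profiniteCompletion.map (GrpCat.ofHom (QuotientGroup.mk' A'))).hom ∧
      (ProfiniteGrp.profiniteCompletion.map (GrpCat.ofHom (QuotientGroup.mk' A'))).hom.toMonoidHom.ker =
        (ProfiniteGrp.profiniteCompletion.map (GrpCat.ofHom A'.subtype)).hom.toMonoidHom.range := by
  classical
  let π : GrpCat.of A ⟶ GrpCat.of (A ⧸ A') := GrpCat.ofHom (QuotientGroup.mk' A')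
  let ι : GrpCat.of A' ⟶ GrpCat.of A := GrpCat.ofHom A'.subtype
  show Function.Surjective (ProfiniteGrp.profiniteCompletion.map π).hom ∧
      (ProfiniteGrp.profiniteCompletion.map π).hom.toMonoidHom.ker =
        (ProfiniteGrp.profiniteCompletion.map ι).hom.toMonoidHom.range
  have hclπ : IsClosed (Set.range (ProfiniteGrp.profiniteCompletion.map π).hom) :=
    (isCompact_range (ProfiniteGrp.profiniteCompletion.map π).hom.continuous_toFun).isClosed
  have hclι : IsClosed (Set.range (ProfiniteGrp.profiniteCompletion.map ι).hom) :=
    (isCompact_range (ProfiniteGrp.profiniteCompletion.map ι).hom.continuous_toFun).isClosed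
  constructor
  · have hsub : Set.range (etaFn (GrpCat.of (A ⧸ A'))) ⊆
        Set.range (ProfiniteGrp.profiniteCompletion.map π).hom := by
      rintro _ ⟨q, rfl⟩
      obtain ⟨a, rfl⟩ := QuotientGroup.mk_surjective q
      exact ⟨etaFn _ a, map_etaFn π a⟩
    intro y
    exact hclπ.closure_subset_iff.mpr hsub (denseRange _ y)
  · ext x
    constructor
    · intro hx
      have hx1 : (ProfiniteGrp.profiniteCompletion.map π).hom x = 1 := hx
      have hsub : etaFn (GrpCat.of A) '' (A' : Set A) ⊆
          Set.range (ProfiniteGrp.profiniteCompletion.map ι).hom := by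
        rintro _ ⟨a, ha, rfl⟩
        exact ⟨etaFn _ (⟨a, ha⟩ : A'), map_etaFn ι (⟨a, ha⟩ : A')⟩
      have hmem : x ∈ closure (etaFn (GrpCat.of A) '' (A' : Set A)) := by
        apply mem_closure_etaFn_image
        intro N
        -- the image of N in A/A'
        have hKfi : (N.toSubgroup.map (QuotientGroup.mk' A')).FiniteIndex := by
          constructor
          intro h0
          have := Subgroup.index_map_dvd N.toSubgroup (QuotientGroup.mk'_surjective A')
          rw [h0] at this
          exact N.isFiniteIndex'.index_ne_zero (Nat.eq_zero_of_zero_dvd this)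
        let K : FiniteIndexNormalSubgroup (A ⧸ A') :=
          { toSubgroup := N.toSubgroup.map (QuotientGroup.mk' A')
            isNormal' := inferInstance
            isFiniteIndex' := hKfi }
        obtain ⟨b, hb⟩ := QuotientGroup.mk_surjective (coord (GrpCat.of A) N x)
        have hNle : N ≤ K.comap π.hom := fun n hn => ⟨n, hn, rfl⟩
        have hb' := coord_of_le x hNle b hb.symm
        have hcm := coord_map π K x
        rw [hb'] at hcm
        have hL : coord (GrpCat.of (A ⧸ A')) K
            ((ProfiniteGrp.profiniteCompletion.map π).hom x) = 1 := by rw [hx1]; rfl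
        rw [hL] at hcm
        have hcm' : (QuotientGroup.mk ((QuotientGroup.mk b : A ⧸ A')) :
            (A ⧸ A') ⧸ K.toSubgroup) = 1 := hcm.symm
        rw [QuotientGroup.eq_one_iff] at hcm'
        obtain ⟨m, hm, hmb⟩ := hcm'
        have hmb' : (QuotientGroup.mk m : A ⧸ A') = QuotientGroup.mk b := hmb
        rw [QuotientGroup.eq] at hmb'
        refine ⟨m⁻¹ * b, hmb', ?_⟩
        rw [← hb]
        rw [QuotientGroup.eq]
        have : b⁻¹ * (m⁻¹ * b) = m⁻¹ := by
          rw [mul_comm m⁻¹ b, ← mul_assoc, inv_mul_cancel, one_mul]
        rw [this]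
        exact N.toSubgroup.inv_mem hm
      exact hclι.closure_subset_iff.mpr hsub hmem
    · rintro ⟨y, rfl⟩
      show (ProfiniteGrp.profiniteCompletion.map π).hom
        ((ProfiniteGrp.profiniteCompletion.map ι).hom y) = 1
      apply ext_coord
      intro K
      rw [coord_map, coord_map]
      obtain ⟨a, ha⟩ := QuotientGroup.mk_surjective
        (coord (GrpCat.of A') ((K.comap π.hom).comap ι.hom) y)
      rw [← ha]
      show (QuotientGroup.mk ((QuotientGroup.mk (a : A) : A ⧸ A')) :
            (A ⧸ A') ⧸ K.toSubgroup) = 1
      have : (QuotientGroup.mk (a : A) : A ⧸ A') = 1 := (QuotientGroup.eq_one_iff _).mpr a.2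
      rw [this]
      rfl

end Groth.Agent.S13379
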