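import Groth.Statements.S13380
import Mathlib
import Groth.Agent.Lib.Helper11GaSplitI

set_option autoImplicit false
universe u
open GaDual

namespace Groth.Agent.S13380

open Groth.Agent.Lib.Helper11GaSplit

theorem coeffs_nilpotent {R : Type u} [CommRing R] (h : MvPolynomial (Fin 2) R) (hu : IsUnit h)
    (h0 : MvPolynomial.aeval ![(MvPolynomial.X 0 : MvPolynomial (Fin 2) R), 0] h = 1) :
    ∀ m, IsNilpotent (MvPolynomial.coeff m (h - 1)) := by
  intro m
  by_cases hm : m = 0
  · subst hm
    have h1 : MvPolynomial.constantCoeff h = 1 := by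
      rw [← constantCoeff_aeval_X0_zero, h0, map_one]
    rw [MvPolynomial.coeff_sub, MvPolynomial.coeff_zero_one, ← MvPolynomial.constantCoeff_eq, h1,
      sub_self]
    exact IsNilpotent.zero
  · rw [MvPolynomial.coeff_sub, MvPolynomial.coeff_one, if_neg (Ne.symm hm), sub_zero]
    exact (MvPolynomial.isUnit_iff.mp hu).2 m hm


/-- Over a commutative ring R of prime characteristic p whose Frobenius is surjective, every commutative
extension of the additive group by the multiplicative group that has a scheme-theoretic section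
splits. In the coordinates given by such a section the extension is the product G_m × G_a with law
(t,x)(t',x') = (tt'h(x,x'), x+x') for an invertible polynomial h with h(X,0) = 1, h symmetric and
h(Y,Z)h(X,Y+Z) = h(X+Y,Z)h(X,Y), and a group-theoretic section is an invertible polynomial f with
f(X+Y) = f(X)f(Y)h(X,Y); the row states the existence of such f for every such h. -/
theorem result (p : ℕ) [Fact p.Prime] (R : Type u)
    [CommRing R] [CharP R p] (hF : Function.Surjective (frobenius R p))
    (h : MvPolynomial (Fin 2) R) (hu : IsUnit h)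
    (h0 : MvPolynomial.aeval ![(MvPolynomial.X 0 : MvPolynomial (Fin 2) R), 0] h = 1)
    (hsymm : MvPolynomial.aeval ![(MvPolynomial.X 1 : MvPolynomial (Fin 2) R), MvPolynomial.X 0] h = h)
    (hcoc : MvPolynomial.aeval ![(MvPolynomial.X 1 : MvPolynomial (Fin 3) R), MvPolynomial.X 2] h *
        MvPolynomial.aeval ![MvPolynomial.X 0, MvPolynomial.X 1 + MvPolynomial.X 2] h =
      MvPolynomial.aeval ![MvPolynomial.X 0 + MvPolynomial.X 1, MvPolynomial.X 2] h *
        MvPolynomial.aeval ![MvPolynomial.X 0, MvPolynomial.X 1] h) :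
    ∃ f : Polynomial R, IsUnit f ∧
      Polynomial.aeval (MvPolynomial.X 0 + MvPolynomial.X 1 : MvPolynomial (Fin 2) R) f =
        Polynomial.aeval (MvPolynomial.X 0 : MvPolynomial (Fin 2) R) f *
          Polynomial.aeval (MvPolynomial.X 1 : MvPolynomial (Fin 2) R) f * h := by
  classical
  have hF' : ∀ x : R, ∃ y, y ^ p = x := by
    intro x
    obtain ⟨y, hy⟩ := hF x
    exact ⟨y, by rw [← hy, frobenius_def]⟩
  set u : (MvPolynomial (Fin 2) R)ˣ := hu.unit with hudef
  have huv : (u : MvPolynomial (Fin 2) R) = h := rfl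
  have hZ : u ∈ Zg R := by
    rw [mem_Zg_iff, huv]
    exact ⟨h0, hsymm, hcoc⟩
  -- the ideal generated by the coefficients of h - 1
  set I : Ideal R := Ideal.span (((h - 1).support.image (fun m => MvPolynomial.coeff m (h - 1)) :
    Finset R) : Set R) with hI
  have hfg : I.FG := ⟨_, rfl⟩
  have hnil := coeffs_nilpotent h hu h0
  have hle : I ≤ nilradical R := by
    rw [hI, Ideal.span_le]
    intro x hx
    rw [Finset.mem_coe, Finset.mem_image] at hx
    obtain ⟨m, _, rfl⟩ := hx
    exact hnil m
  obtain ⟨N, hN⟩ := (Ideal.FG.isNilpotent_iff_le_nilradical hfg).mpr hle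
  rw [Ideal.zero_eq_bot] at hN
  have hU : u ∈ Ug I := by
    rw [mem_Ug_iff, mem_JJ_iff, huv]
    intro m
    by_cases hm : m ∈ (h - 1).support
    · apply Ideal.subset_span
      rw [Finset.mem_coe, Finset.mem_image]
      exact ⟨m, hm, rfl⟩
    · rw [MvPolynomial.notMem_support_iff.mp hm]
      exact I.zero_mem
  obtain ⟨f, hfN, hf⟩ := mem_Bg p hF' I N hN u hZ hU
  refine ⟨(f : Polynomial R), f.isUnit, ?_⟩
  rw [dl_apply, mul_inv_eq_iff_eq_mul, mul_inv_eq_iff_eq_mul] at hf
  have := congrArg (fun v : (MvPolynomial (Fin 2) R)ˣ => (v : MvPolynomial (Fin 2) R)) hf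
  simp only [Units.val_mul, um_val, pa_apply, huv] at this
  rw [this]; ring

end Groth.Agent.S13380
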