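import Groth.Statements.S13388
import Groth.Agent.Lib.Helper14DPConv

set_option autoImplicit false
universe u
open ZeroCyc

namespace Groth.Agent.S13388

/-- Let A be a commutative ring, M a finitely generated A-module and d ≥ 0. If the degree-d piece
Γ^d_A(M) of Γ_A(M) is spanned over A by the divided powers γ_d(m), m ∈ M, then at each prime p of A
either k(p) has d or more elements, or the localisation M_p is a cyclic A_p-module. -/
theorem result {A M : Type u} [CommRing A] [AddCommGroup M]
    [Module A M] [Module.Finite A M] (d : ℕ)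
    (h : Submodule.span A (Set.range (DividedPowerAlgebra.dp A d : M → DividedPowerAlgebra A M)) =
      PolLaw.gammaPiece A M d)
    (p : PrimeSpectrum A) :
    (d : Cardinal) ≤ Cardinal.mk p.asIdeal.ResidueField ∨
      ∃ x : LocalizedModule p.asIdeal.primeCompl M, Submodule.span (Localization.AtPrime p.asIdeal) {x} = ⊤ := by
  by_contra hcon
  rw [not_or] at hcon
  obtain ⟨hcard, hN⟩ := hcon
  rw [not_le] at hcard
  have hfin : Finite p.asIdeal.ResidueField :=
    Cardinal.lt_aleph0_iff_finite.mp (hcard.trans (Cardinal.natCast_lt_aleph0))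
  let _ : Fintype p.asIdeal.ResidueField := Fintype.ofFinite _
  have hq : Fintype.card p.asIdeal.ResidueField < d := by
    rw [Cardinal.mk_fintype] at hcard
    exact_mod_cast hcard
  obtain ⟨φ1, φ2, m1, m2, h11, h21, h22⟩ :=
    Groth.Agent.Lib.Helper14.DPConv.exists_forms_of_not_cyclic p hN
  refine Groth.Agent.Lib.Helper14.DPConv.notMem_span_dp hq φ1 φ2 m1 m2 h11 h21 h22 ?_
  rw [h]
  refine Submodule.subset_span ⟨2, ![d - 1, 1], ![m1, m2], ?_, ?_⟩
  · rw [Fin.sum_univ_two]
    simp only [Matrix.cons_val_zero, Matrix.cons_val_one]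
    omega
  · rw [Fin.prod_univ_two]
    simp only [Matrix.cons_val_zero, Matrix.cons_val_one]

end Groth.Agent.S13388
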