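import Groth.Statements.S13398
import Groth.Agent.Lib.Helper14NormDesc3

set_option autoImplicit false
universe u
open scoped TensorProduct
open ZeroCyc

namespace Groth.Agent.S13398

/-- Let A be a commutative ring, B an A-algebra, d ≥ 0, and let (C, γ) be the degree-d divided power
algebra Γ^d_A(B) with its universal multiplicative law γ : B → C of degree d (every multiplicative
law of degree d out of B factors uniquely through γ). Let φ : Γ^d_A(B) → TS^d_A(B) be the canonical
homomorphism to the symmetric tensors, taken here as data characterised by: after any base change S,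
φ ∘ γ sends Σ_j s_j ⊗ b_j to Σ_{c : [d] → [n]} (∏_i s_{c(i)}) ⊗ (b_{c(1)} ⊗ ⋯ ⊗ b_{c(d)}), i.e. φ
corresponds to the law x ↦ x ⊗ ⋯ ⊗ x. Then x^{d!} = 0 for every x in the kernel of φ, and y^{d!}
lies in the image of φ for every symmetric tensor y ∈ TS^d_A(B). -/
theorem result {A B C : Type u} [CommRing A] [CommRing B] [Algebra A B] [CommRing C] [Algebra A C] (d : ℕ)
    (γ : PolLaw.MulLaw A B C d) (hγ : PolLaw.IsGammaD γ) (φ : C →ₐ[A] SymTen.TS A B d)
    (hφ : ∀ (S : Type u) [CommSemiring S] [Algebra A S] (n : ℕ) (s : Fin n → S) (b : Fin n → B),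
      ((SymTen.TS A B d).val.comp φ).toLinearMap.lTensor S (γ.law.toFun' S (∑ j, s j ⊗ₜ[A] b j)) =
        ∑ c : Fin d → Fin n, (∏ i, s (c i)) ⊗ₜ[A] PiTensorProduct.tprod A (fun i => b (c i))) :
    (∀ x : C, φ x = 0 → x ^ d.factorial = 0) ∧
      (∀ y : SymTen.TS A B d, y ^ d.factorial ∈ φ.range) := by
  have hπ := Groth.Agent.Lib.Helper14.NormDesc.cover_surjective (A := A) B
  set F := Groth.Agent.Lib.Helper14.NormDesc.normTS
      (Groth.Agent.Lib.Helper14.NormDesc.cover (A := A) B) hπ γ with hF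
  have h1 := Groth.Agent.Lib.Helper14.NormDesc.postcomp_normTS
      (Groth.Agent.Lib.Helper14.NormDesc.cover (A := A) B) hπ hφ
  have h2 := Groth.Agent.Lib.Helper14.NormDesc.precomp_normTS
      (Groth.Agent.Lib.Helper14.NormDesc.cover (A := A) B) hπ hφ hγ
  rw [← hF] at h1 h2
  have hpos : d.factorial ≠ 0 := Nat.factorial_ne_zero d
  constructor
  · intro x hx
    have e := congrArg (fun G : PolLaw.MulLaw A C C d.factorial =>
      G.law.toFun' A ((1 : A) ⊗ₜ[A] x)) h2
    have e' : F.law.toFun' A (φ.toLinearMap.lTensor A ((1 : A) ⊗ₜ[A] x)) =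
        ((1 : A) ⊗ₜ[A] x) ^ d.factorial := e
    rw [LinearMap.lTensor_tmul, AlgHom.toLinearMap_apply, hx, TensorProduct.tmul_zero] at e'
    have h0 : F.law.toFun' A (0 : A ⊗[A] SymTen.TS A B d) = 0 := by
      have := F.homog A (0 : A) (0 : A ⊗[A] SymTen.TS A B d)
      rw [zero_smul, zero_pow hpos, zero_smul] at this
      exact this
    rw [h0, Algebra.TensorProduct.tmul_pow, one_pow] at e'
    have e2 := congrArg (TensorProduct.lid A C) e'
    simpa using e2.symm
  · intro y
    have e := congrArg (fun G : PolLaw.MulLaw A (SymTen.TS A B d) (SymTen.TS A B d) d.factorial =>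
      G.law.toFun' A ((1 : A) ⊗ₜ[A] y)) h1
    have e' : φ.toLinearMap.lTensor A (F.law.toFun' A ((1 : A) ⊗ₜ[A] y)) =
        ((1 : A) ⊗ₜ[A] y) ^ d.factorial := e
    rw [Algebra.TensorProduct.tmul_pow, one_pow] at e'
    have e2 := congrArg (TensorProduct.lid A (SymTen.TS A B d)) e'
    rw [Groth.Agent.Lib.Helper14.NormDesc.lid_lTensor] at e2
    refine ⟨TensorProduct.lid A C (F.law.toFun' A ((1 : A) ⊗ₜ[A] y)), ?_⟩
    rw [AlgHom.toLinearMap_apply] at e2
    show φ _ = _
    rw [e2]
    simp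

end Groth.Agent.S13398
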