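import Groth.Statements.S13400
import Groth.Agent.Lib.Helper14SplitLaw2
import Groth.Agent.Lib.Helper20EtSplit
import Groth.Agent.Lib.Helper14GammaUniv

set_option autoImplicit false
universe u
open scoped TensorProduct
open ZeroCyc
open Groth.Agent.Lib.Helper14

namespace Groth.Agent.S13400

/-- Let A be a commutative ring and B a finite étale A-algebra, free of rank d as an A-module, so that X
= Spec B is finite étale of constant rank d over S = Spec A, and let N : B → A be the determinant
law: the multiplicative polynomial law of degree d which on each A-algebra S is the norm of the free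
S-algebra S ⊗_A B (N is taken as data characterised by this formula; it is the canonical family N_X
: S → Γ^d(X/S)). Then the kernel of N is the zero ideal, i.e. the image of N_X is X itself, and N is
the unique multiplicative law B → A of degree d whose kernel consists of nilpotent elements, i.e.
whose support is all of X_red. (The published statement is over an arbitrary algebraic space S with
X/S finite étale of locally constant rank, phrased with morphisms to Γ^?(X/S); this row is its
content over an affine base with X free of rank d.) -/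
theorem result {A B : Type u} [CommRing A] [CommRing B] [Algebra A B]
    [Module.Free A B] [Module.Finite A B] [Algebra.Etale A B] (d : ℕ) (hd : Module.finrank A B = d)
    (N : PolLaw.MulLaw A B A d)
    (hN : ∀ (S : Type u) [CommRing S] [Algebra A S] (x : S ⊗[A] B),
      N.law.toFun' S x = Algebra.norm S x ⊗ₜ[A] (1 : A)) :
    PolLaw.ker N.law = ⊥ ∧
      ∀ F : PolLaw.MulLaw A B A d, PolLaw.ker F.law ≤ nilradical B → F = N := by
  classical
  have hsplit : ∀ p : PrimeSpectrum A, ∃ (W : Type u) (_ : CommRing W) (_ : Algebra A W)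
      (_ : Module.Flat A W) (P : PrimeSpectrum W),
      P.comap (algebraMap A W) = p ∧ Nonempty (W ⊗[A] B ≃ₐ[W] (Fin d → W)) := by
    intro p
    obtain ⟨W, i1, i2, i3, P, hP, hα⟩ :=
      Groth.Agent.Lib.Helper20.EtSplit.exists_etale_split d A B p
        (by rw [Module.rankAtStalk_eq_finrank_of_free, hd]; rfl)
    exact ⟨W, i1, i2, inferInstance, P, hP, hα⟩
  have keyN : ∀ (W : Type u) [CommRing W] [Algebra A W] (α : W ⊗[A] B ≃ₐ[W] (Fin d → W))
      (R : Type u) [CommRing R] [Algebra A R] [Algebra W R] [IsScalarTower A W R]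
      (s : Fin d → R),
      N.law.toFun' R (∑ i, s i • SplitLaw.ε α R i) = (∏ i, s i) ⊗ₜ[A] (1 : A) :=
    fun W _ _ α R _ _ _ _ s =>
      SplitLaw.law_comb_eq α R N (SplitLaw.coeff_zero_of_norm α N hN) s
  refine ⟨?_, ?_⟩
  · rw [eq_bot_iff]
    intro c hc
    rw [Submodule.mem_bot]
    apply SplitLaw.eq_zero_of_forall_prime (A := A) c
    intro p
    obtain ⟨W, i1, i2, i3, P, hP, ⟨α⟩⟩ := hsplit p
    refine ⟨W, i1, i2, i3, P, hP, ?_⟩
    have hz : (1 : W) ⊗ₜ[A] c ∈ PolLaw.kerBC N.law W :=
      Groth.Agent.Lib.Helper14.PolLawPoly.map_ker_le_kerBC N.law W (Ideal.mem_map_of_mem _ hc)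
    rw [SplitLaw.eq_sum_smul_e α ((1 : W) ⊗ₜ[A] c)]
    refine Finset.sum_eq_zero (fun i _ => ?_)
    set t : W := α ((1 : W) ⊗ₜ[A] c) i with ht
    have h1 := hz W (∑ j, (Function.update (1 : Fin d → W) i 0) j • SplitLaw.ε α W j)
      ((1 : W) • SplitLaw.ε α W i)
    have h2 : Algebra.TensorProduct.map (IsScalarTower.toAlgHom A W W) (AlgHom.id A B)
        ((1 : W) ⊗ₜ[A] c) = ∑ j, (α ((1 : W) ⊗ₜ[A] c) j) • SplitLaw.ε α W j := by
      have := SplitLaw.θ_eq_sum α W ((1 : W) ⊗ₜ[A] c)
      simpa [SplitLaw.θ] using this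
    rw [h2, mul_comm, SplitLaw.comb_mul_smul_ε, mul_one, ← SplitLaw.comb_add_single, keyN, keyN]
      at h1
    have hp1 : ∏ j, ((Function.update (1 : Fin d → W) i 0 + Pi.single i t : Fin d → W) j) = t := by
      rw [Finset.prod_eq_single i]
      · simp
      · intro j _ hj
        simp [Function.update_of_ne hj, Pi.single_eq_of_ne hj]
      · intro h; exact absurd (Finset.mem_univ i) h
    have hp0 : ∏ j, (Function.update (1 : Fin d → W) i 0) j = 0 :=
      Finset.prod_eq_zero (Finset.mem_univ i) (by simp)
    rw [hp1, hp0] at h1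
    have h3 := SplitLaw.tmul_one_inj h1
    rw [h3, zero_smul]
  · intro F hF
    have keyF : ∀ (W : Type u) [CommRing W] [Algebra A W] (α : W ⊗[A] B ≃ₐ[W] (Fin d → W))
        (R : Type u) [CommRing R] [Algebra A R] [Algebra W R] [IsScalarTower A W R]
        (s : Fin d → R),
        F.law.toFun' R (∑ i, s i • SplitLaw.ε α R i) = (∏ i, s i) ⊗ₜ[A] (1 : A) :=
      fun W _ _ α R _ _ _ _ s =>
        SplitLaw.law_comb_eq α R F (SplitLaw.coeff_zero_of_ker_le α F hF) s
    apply PolLaw.MulLaw.ext
    apply Groth.Agent.Lib.Helper14.GammaUniv.law_ext_P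
    intro n x
    set m : MvPolynomial (Fin n) A :=
      TensorProduct.rid A _ (F.law.toFun' (MvPolynomial (Fin n) A) x) -
        TensorProduct.rid A _ (N.law.toFun' (MvPolynomial (Fin n) A) x) with hm_def
    have hm : m = 0 := by
      apply SplitLaw.eq_zero_of_forall_prime (A := A) m
      intro p
      obtain ⟨W, i1, i2, i3, P, hP, ⟨α⟩⟩ := hsplit p
      refine ⟨W, i1, i2, i3, P, hP, ?_⟩
      have h1 : F.law.toFun' (W ⊗[A] MvPolynomial (Fin n) A)
          (Algebra.TensorProduct.map (Algebra.TensorProduct.includeRight :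
            MvPolynomial (Fin n) A →ₐ[A] W ⊗[A] MvPolynomial (Fin n) A) (AlgHom.id A B) x) =
          N.law.toFun' (W ⊗[A] MvPolynomial (Fin n) A)
          (Algebra.TensorProduct.map (Algebra.TensorProduct.includeRight :
            MvPolynomial (Fin n) A →ₐ[A] W ⊗[A] MvPolynomial (Fin n) A) (AlgHom.id A B) x) := by
        obtain ⟨s, hs⟩ := SplitLaw.exists_eq_comb α (W ⊗[A] MvPolynomial (Fin n) A)
          (Algebra.TensorProduct.map (Algebra.TensorProduct.includeRight :
            MvPolynomial (Fin n) A →ₐ[A] W ⊗[A] MvPolynomial (Fin n) A) (AlgHom.id A B) x)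
        rw [hs, keyF, keyN]
      rw [Groth.Agent.Lib.Helper14.PolLawRed.toFun'_map,
        Groth.Agent.Lib.Helper14.PolLawRed.toFun'_map] at h1
      have h2 := congrArg (TensorProduct.rid A (W ⊗[A] MvPolynomial (Fin n) A)) h1
      rw [Groth.Agent.Lib.Helper14.PolLawFin.rid_map,
        Groth.Agent.Lib.Helper14.PolLawFin.rid_map] at h2
      rw [hm_def, TensorProduct.tmul_sub, sub_eq_zero]
      exact h2
    exact (TensorProduct.rid A _).injective (sub_eq_zero.mp hm)

end Groth.Agent.S13400
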