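import Groth.Statements.S13409
import Mathlib
import Groth.Agent.Lib.Helper22WalkLabel

set_option autoImplicit false
universe u v
open CombGraph

namespace Groth.Agent.S13409

open Groth.Agent.Lib.Helper22.WalkLabel

/-- Let `A` be an abelian group and `G` a finite connected simple graph on `V` that is bipartite for a
two-colouring `c : V → Bool` (adjacent vertices get different colours). If `a : V → A` has the same
sum over the vertices of each colour, then some labelling `x` of the edges by elements of `A` has,
at every vertex `v`, the sum of `x` over the edges incident to `v` equal to `a v`. (The published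
statement concerns finite bipartite graphs in general; this row treats simple graphs.) -/
theorem result {V : Type u} [Fintype V] [DecidableEq V]
    (G : SimpleGraph V) [DecidableRel G.Adj] (hconn : G.Connected) (c : V → Bool)
    (hbip : ∀ v w : V, G.Adj v w → c v ≠ c w) (A : Type v) [AddCommGroup A] (a : V → A)
    (hsum : ∑ v ∈ Finset.univ.filter (fun v => c v = true), a v =
      ∑ v ∈ Finset.univ.filter (fun v => c v = false), a v) :
    ∃ x : Sym2 V → A, ∀ v : V, ∑ e ∈ G.incidenceFinset v, x e = a v := by
  obtain ⟨r⟩ := hconn.nonempty
  let p : ∀ v, G.Walk v r := fun v => (hconn.preconnected v r).some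
  refine ⟨∑ v, L (a v) (p v), fun w => ?_⟩
  simp only [Finset.sum_apply]
  rw [Finset.sum_comm]
  simp only [sum_incidence G le_rfl, neg_one_pow_length c hbip]
  rw [Finset.sum_sub_distrib, Finset.sum_ite_eq Finset.univ w a]
  simp only [Finset.mem_univ, if_true]
  have key : ∑ v, (if c v = c r then (1 : ℤ) else -1) • a v = 0 := by
    rw [← Finset.sum_filter_add_sum_filter_not Finset.univ (fun v => c v = true)]
    have h2 : (Finset.univ.filter fun v => ¬ c v = true) = Finset.univ.filter fun v => c v = false := by
      ext v; simp
    rw [h2]
    cases hr : c r
    · rw [Finset.sum_congr rfl (g := fun v => - a v), Finset.sum_congr (s₁ := Finset.univ.filter fun v => c v = false) rfl (g := fun v => a v)]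
      · rw [Finset.sum_neg_distrib, hsum]; abel
      · intro v hv
        rw [Finset.mem_filter] at hv
        simp [hv.2]
      · intro v hv
        rw [Finset.mem_filter] at hv
        simp [hv.2]
    · rw [Finset.sum_congr rfl (g := fun v => a v), Finset.sum_congr (s₁ := Finset.univ.filter fun v => c v = false) rfl (g := fun v => - a v)]
      · rw [Finset.sum_neg_distrib, hsum]; abel
      · intro v hv
        rw [Finset.mem_filter] at hv
        simp [hv.2]
      · intro v hv
        rw [Finset.mem_filter] at hv
        simp [hv.2]
  by_cases hw : w = r
  · simp only [hw, if_true]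
    rw [key, sub_zero]
  · simp [hw]

end Groth.Agent.S13409
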