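import Groth.Statements.S1341
import Groth.Agent.Lib.Helper5RelCMOpen

set_option autoImplicit false
universe u
open FlatMor

namespace Groth.Agent.S1341

open AlgebraicGeometry CategoryTheory Limits in
/-- Let f : X ⟶ S be flat and locally of finite presentation. Then the set of points of X at which f is
Cohen–Macaulay is open in X, and its intersection with every fibre of f is dense in that fibre. -/
theorem result {X S : Scheme.{u}} (f : X ⟶ S) [Flat f] [LocallyOfFinitePresentation f] :
    IsOpen {x : ↑X | MoreMor.IsCMAt f x} ∧ ∀ s : S, Dense ((f.fiberι s) ⁻¹' {x : ↑X | MoreMor.IsCMAt f x}) := by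
  refine ⟨Groth.Agent.Lib.Helper5.RelCMOpen.isOpen_isCMAt f, fun s => ?_⟩
  haveI : LocallyOfFiniteType f := inferInstance
  haveI : LocallyOfFiniteType (f.fiberToSpecResidueField s) := by
    dsimp only [Scheme.Hom.fiberToSpecResidueField]
    exact MorphismProperty.pullback_snd (P := @LocallyOfFiniteType) f _ inferInstance
  haveI : IsLocallyNoetherian (f.fiber s) :=
    LocallyOfFiniteType.isLocallyNoetherian (f.fiberToSpecResidueField s)
  refine (Groth.Agent.Lib.Helper5.GrpCM.dense_cmLocus (f.fiber s)).mono ?_
  intro z hz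
  show MoreMor.IsCMAt f (f.fiberι s z)
  refine ⟨Flat.stalkMap f _, ?_⟩
  have hzs : f (f.fiberι s z) = s := by
    have : f.fiberι s z ∈ Set.range (f.fiberι s) := ⟨z, rfl⟩
    rw [f.range_fiberι s] at this
    exact this
  obtain ⟨e⟩ := Groth.Agent.Lib.Helper5.FiberBC.fiber_stalk_transport f hzs
    (f.asFiber (f.fiberι s z)) z (f.fiberι_asFiber _)
  exact Groth.Agent.Lib.Helper5.FiberMor.isoInv_cm _ _ e.symm hz

end Groth.Agent.S1341
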