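import Groth.Statements.S13410
import Mathlib
import Groth.Agent.Lib.Helper22WalkLabel

set_option autoImplicit false
universe u v
open CombGraph

namespace Groth.Agent.S13410

open Groth.Agent.Lib.Helper22.WalkLabel

/-- Let `A` be an abelian group and `G` a finite connected simple graph on `V`, bipartite for a
two-colouring `c`. Consider the additive group of labellings `x : Sym2 V → A` vanishing off the edge
set and with `∑_{e ∋ v} x e = 0` at every vertex `v`. If `e₀` is an edge whose deletion leaves `G`
connected, then evaluation at `e₀` restricted to this group is surjective and split: there is an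
additive map `φ : A → (Sym2 V → A)` with values in this group and with `φ a e₀ = a` for all `a`.
(The published statement concerns finite bipartite graphs in general; this row treats simple
graphs.) -/
theorem result {V : Type u} [Fintype V]
    [DecidableEq V] (G : SimpleGraph V) [DecidableRel G.Adj] (hconn : G.Connected) (c : V → Bool)
    (hbip : ∀ v w : V, G.Adj v w → c v ≠ c w) (A : Type v) [AddCommGroup A] (e₀ : Sym2 V)
    (he₀ : e₀ ∈ G.edgeSet) (hdel : (G.deleteEdges {e₀}).Connected) :
    ∃ φ : A →+ (Sym2 V → A),
      (∀ a : A, (∀ e : Sym2 V, e ∉ G.edgeSet → φ a e = 0) ∧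
        ∀ v : V, ∑ e ∈ G.incidenceFinset v, φ a e = 0) ∧
      ∀ a : A, φ a e₀ = a := by
  induction e₀ using Sym2.ind with
  | _ u v =>
  have huv : G.Adj u v := he₀
  have hle : G.deleteEdges {s(u, v)} ≤ G := SimpleGraph.deleteEdges_le _
  have hbip' : ∀ a b : V, (G.deleteEdges {s(u, v)}).Adj a b → c a ≠ c b :=
    fun a b h => hbip a b (hle h)
  let q : (G.deleteEdges {s(u, v)}).Walk v u := (hdel.preconnected v u).some
  have hq0 : ∀ t : A, L t q s(u, v) = 0 := by
    intro t
    apply L_apply_of_notMem_edgeSet
    rw [SimpleGraph.edgeSet_deleteEdges]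
    simp
  refine ⟨⟨⟨fun t => Pi.single s(u, v) t - L t q, ?_⟩, ?_⟩, ?_, ?_⟩
  · simp [L_zero]
  · intro t t'
    simp only [L_add, Pi.single_add]
    abel
  · intro t
    refine ⟨fun e he => ?_, fun w => ?_⟩
    · show ((Pi.single s(u, v) t - L t q : Sym2 V → A) e) = 0
      rw [Pi.sub_apply, L_apply_of_notMem_edgeSet t q e (fun h => he (SimpleGraph.edgeSet_mono hle h)),
        sub_zero]
      exact Pi.single_eq_of_ne (fun h => he (by rw [h]; exact he₀)) _
    · show ∑ e ∈ G.incidenceFinset w, ((Pi.single s(u, v) t - L t q : Sym2 V → A) e) = 0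
      simp only [Pi.sub_apply, Finset.sum_sub_distrib]
      rw [sum_single_incidence G huv, sum_incidence G hle, neg_one_pow_length c hbip',
        if_neg (hbip u v huv).symm]
      simp only [neg_smul, one_smul]
      split_ifs <;> abel
  · intro t
    show ((Pi.single s(u, v) t - L t q : Sym2 V → A) s(u, v)) = t
    rw [Pi.sub_apply, hq0, sub_zero, Pi.single_eq_same]

end Groth.Agent.S13410
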