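import Groth.Statements.S13411
import Mathlib
import Groth.Agent.Lib.Helper22TreeLabel

set_option autoImplicit false
universe u v
open CombGraph

namespace Groth.Agent.S13411

open Groth.Agent.Lib.Helper22.WalkLabel SimpleGraph

/-- Let `A` be an abelian group and `G` a finite connected simple graph on `V`, bipartite for a
two-colouring `c`, with cyclomatic number `n` (number of edges minus number of vertices plus one).
Then the additive group of labellings `x : Sym2 V → A` vanishing off the edge set and with `∑_{e ∋
v} x e = 0` at every vertex `v` is isomorphic to `A^n`: it is the range of an injective additive map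
`(Fin n → A) → (Sym2 V → A)`. (The published statement concerns finite bipartite graphs in general;
this row treats simple graphs.) -/
theorem result {V : Type u} [Fintype V]
    [DecidableEq V] (G : SimpleGraph V) [DecidableRel G.Adj] (hconn : G.Connected) (c : V → Bool)
    (hbip : ∀ v w : V, G.Adj v w → c v ≠ c w) (A : Type v) [AddCommGroup A] (n : ℕ)
    (hn : G.edgeFinset.card + 1 = Fintype.card V + n) :
    ∃ f : (Fin n → A) →+ (Sym2 V → A), Function.Injective f ∧
      Set.range f = {x : Sym2 V → A | (∀ e : Sym2 V, e ∉ G.edgeSet → x e = 0) ∧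
        ∀ v : V, ∑ e ∈ G.incidenceFinset v, x e = 0} := by
  classical
  obtain ⟨T, hTG, hT⟩ := hconn.exists_isTree_le
  have hbipT : ∀ a b : V, T.Adj a b → c a ≠ c b := fun a b h => hbip a b (hTG h)
  let N : Finset (Sym2 V) := G.edgeFinset.filter (fun e => e ∉ T.edgeSet)
  have hNcard : N.card = n := by
    have h1 := hT.card_edgeFinset
    have h2 : T.edgeFinset = G.edgeFinset.filter (fun e => e ∈ T.edgeSet) := by
      ext e
      simp only [mem_edgeFinset, Finset.mem_filter, iff_and_self]
      exact fun h => edgeSet_mono hTG h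
    have h3 := Finset.card_filter_add_card_filter_not (s := G.edgeFinset) (fun e => e ∈ T.edgeSet)
    rw [← h2] at h3
    show (G.edgeFinset.filter (fun e => e ∉ T.edgeSet)).card = n
    omega
  let ε : N ≃ Fin n := N.equivFin.trans (finCongr hNcard)
  have hex : ∀ k : Fin n, ∃ a b : V, (ε.symm k : Sym2 V) = s(a, b) ∧ G.Adj a b ∧ ¬ T.Adj a b := by
    intro k
    have hk := (ε.symm k).2
    simp only [N, Finset.mem_filter, mem_edgeFinset] at hk
    revert hk
    induction (ε.symm k : Sym2 V) using Sym2.ind with
    | _ a b => exact fun hk => ⟨a, b, rfl, hk.1, hk.2⟩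
  choose uu vv he hG hnT using hex
  let q : ∀ k, T.Walk (vv k) (uu k) := fun k => (hT.connected.preconnected _ _).some
  let z : Fin n → A → (Sym2 V → A) := fun k t => Pi.single s(uu k, vv k) t - L t (q k)
  have hz_supp : ∀ k t e, e ∉ G.edgeSet → z k t e = 0 := by
    intro k t e he'
    show ((Pi.single s(uu k, vv k) t - L t (q k) : Sym2 V → A) e) = 0
    rw [Pi.sub_apply, L_apply_of_notMem_edgeSet t (q k) e (fun h => he' (edgeSet_mono hTG h)),
      sub_zero]
    exact Pi.single_eq_of_ne (fun h => he' (by rw [h]; exact hG k)) _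
  have hz_inc : ∀ k t w, ∑ e ∈ G.incidenceFinset w, z k t e = 0 := by
    intro k t w
    show ∑ e ∈ G.incidenceFinset w, ((Pi.single s(uu k, vv k) t - L t (q k) : Sym2 V → A) e) = 0
    simp only [Pi.sub_apply, Finset.sum_sub_distrib]
    rw [sum_single_incidence G (hG k), sum_incidence G hTG, neg_one_pow_length c hbipT,
      if_neg (hbip _ _ (hG k)).symm]
    simp only [neg_smul, one_smul]
    split_ifs <;> abel
  have hz_N : ∀ k t k', z k t (ε.symm k' : Sym2 V) = if k = k' then t else 0 := by
    intro k t k'
    show ((Pi.single s(uu k, vv k) t - L t (q k) : Sym2 V → A) (ε.symm k' : Sym2 V)) = _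
    have hk' := (ε.symm k').2
    simp only [N, Finset.mem_filter, mem_edgeFinset] at hk'
    rw [Pi.sub_apply, L_apply_of_notMem_edgeSet t (q k) _ hk'.2, sub_zero, ← he k]
    by_cases hkk : k = k'
    · rw [if_pos hkk, hkk, Pi.single_eq_same]
    · rw [if_neg hkk]
      apply Pi.single_eq_of_ne
      intro h
      exact hkk (ε.symm.injective (Subtype.ext h)).symm
  let f : (Fin n → A) →+ (Sym2 V → A) :=
    { toFun := fun τ => ∑ k, z k (τ k)
      map_zero' := by
        refine Finset.sum_eq_zero fun k _ => ?_
        show (Pi.single s(uu k, vv k) (0 : A) - L (0 : A) (q k) : Sym2 V → A) = 0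
        rw [L_zero, Pi.single_zero, sub_zero]
      map_add' := by
        intro τ τ'
        rw [← Finset.sum_add_distrib]
        refine Finset.sum_congr rfl fun k _ => ?_
        show (Pi.single s(uu k, vv k) (τ k + τ' k) - L (τ k + τ' k) (q k) : Sym2 V → A) =
          (Pi.single s(uu k, vv k) (τ k) - L (τ k) (q k)) +
            (Pi.single s(uu k, vv k) (τ' k) - L (τ' k) (q k))
        rw [L_add, Pi.single_add]
        abel }
  have hf_apply : ∀ τ e, f τ e = ∑ k, z k (τ k) e := by
    intro τ e
    show (∑ k, z k (τ k)) e = _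
    rw [Finset.sum_apply]
  have hf_N : ∀ τ k', f τ (ε.symm k' : Sym2 V) = τ k' := by
    intro τ k'
    rw [hf_apply]
    simp only [hz_N]
    rw [Finset.sum_ite_eq' Finset.univ k' τ]
    simp
  have hf_mem : ∀ τ, (∀ e : Sym2 V, e ∉ G.edgeSet → f τ e = 0) ∧
        ∀ v : V, ∑ e ∈ G.incidenceFinset v, f τ e = 0 := by
    intro τ
    refine ⟨fun e he' => ?_, fun w => ?_⟩
    · rw [hf_apply]
      exact Finset.sum_eq_zero fun k _ => hz_supp k _ e he'
    · simp only [hf_apply]
      rw [Finset.sum_comm]
      exact Finset.sum_eq_zero fun k _ => hz_inc k _ w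
  refine ⟨f, ?_, ?_⟩
  · intro τ τ' h
    funext k
    rw [← hf_N τ k, ← hf_N τ' k, h]
  · ext x
    simp only [Set.mem_range, Set.mem_ofPred_eq]
    constructor
    · rintro ⟨τ, rfl⟩
      exact hf_mem τ
    · rintro ⟨hx1, hx2⟩
      let τ : Fin n → A := fun k => x (ε.symm k : Sym2 V)
      refine ⟨τ, ?_⟩
      have hy : x - f τ = 0 := by
        apply eq_zero_of_forest G c hbip T hTG hT.isAcyclic
        · intro e heT
          by_cases heG : e ∈ G.edgeSet
          · have heN : e ∈ N := by
              simp only [N, Finset.mem_filter, mem_edgeFinset]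
              exact ⟨heG, heT⟩
            have : e = (ε.symm (ε ⟨e, heN⟩) : Sym2 V) := by rw [Equiv.symm_apply_apply]
            rw [Pi.sub_apply, this, hf_N]
            simp [τ]
          · rw [Pi.sub_apply, hx1 e heG, (hf_mem τ).1 e heG, sub_zero]
        · intro w
          simp only [Pi.sub_apply, Finset.sum_sub_distrib]
          rw [hx2 w, (hf_mem τ).2 w, sub_zero]
      exact (sub_eq_zero.1 hy).symm

end Groth.Agent.S13411
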