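import Groth.Statements.S15993
import Mathlib

set_option autoImplicit false
open CategoryTheory AlgebraicGeometry
universe u
open EtHull

namespace Groth.Agent.S15993

open CategoryTheory.Limits

/-- A schematically dense (prelude sense) retrocompact open gives a scheme-theoretically dominant
open immersion. -/
theorem isSchemeTheoreticallyDominant_ι {X : Scheme.{u}} (V : X.Opens) [QuasiCompact V.ι]
    (hV : CInt.IsSchematicallyDense V) : IsSchemeTheoreticallyDominant V.ι := by
  rw [isSchemeTheoreticallyDominant_iff]
  refine Scheme.IdealSheafData.ext ?_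
  funext W
  rw [Scheme.Hom.ker_apply]
  simp only [Scheme.IdealSheafData.ideal_bot, Pi.bot_apply]
  rw [← RingHom.injective_iff_ker_eq_bot]
  rw [Scheme.Opens.ι_app]
  have heq : W.1 ⊓ V = V.ι ''ᵁ V.ι ⁻¹ᵁ W.1 := by
    rw [Scheme.Hom.image_preimage_eq_opensRange_inf, Scheme.Opens.opensRange_ι, inf_comm]
  have key : ∀ (W' : X.Opens) (_ : W' = W.1 ⊓ V) (i : Opposite.op W.1 ⟶ Opposite.op W'),
      Function.Injective (X.presheaf.map i).hom := by
    intro W' hW' i
    subst hW'
    have : i = (homOfLE (inf_le_left : W.1 ⊓ V ≤ W.1)).op := Subsingleton.elim _ _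
    rw [this]
    exact hV W.1
  exact key _ heq.symm _


/-- Let f : X → S be a morphism of schemes which is faithfully flat (flat and surjective), quasi-compact
and separated, and schematically birational in the following sense: there are schematically dense
opens U of S and V of X, with the inclusion V → X quasi-compact, such that f maps V into U and the
induced morphism V → U is an isomorphism. Then f is an isomorphism. (The source states this for
algebraic spaces and puts no quasi-compactness condition on the dense opens. Its proof base-changes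
along f and uses that the inverse image of V in X ×_S X is again schematically dense, which holds
when V → X is quasi-compact, for instance when X is locally Noetherian, and fails in general: over
the Boolean ring of eventually constant sequences of elements of the field with two elements, the
spectrum of the ring of eventually two-periodic sequences is faithfully flat and affine, and it is
an isomorphism above the open set of principal points, which is schematically dense on both sides,
yet it is not an isomorphism, the point at infinity being doubled. So V is taken retrocompact in X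
here, and X, S are schemes.) -/
theorem result {X S : Scheme.{u}} (f : X ⟶ S)
    [Flat f] [Surjective f] [QuasiCompact f] [IsSeparated f]
    (U : S.Opens) (V : X.Opens) [QuasiCompact V.ι]
    (hU : CInt.IsSchematicallyDense U) (hV : CInt.IsSchematicallyDense V)
    (hle : V ≤ f ⁻¹ᵁ U) (hiso : IsIso (f.resLE U V hle)) : IsIso f := by
  have hVstd := isSchemeTheoreticallyDominant_ι V hV
  have hmono : Mono (V.ι ≫ f) := by
    have : V.ι ≫ f = f.resLE U V hle ≫ U.ι := (Scheme.Hom.resLE_comp_ι f hle).symm
    rw [this]
    infer_instance
  let p₁ := pullback.fst f f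
  let p₂ := pullback.snd f f
  let k₁ := pullback.fst p₁ V.ι
  have hk₁ : IsSchemeTheoreticallyDominant k₁ := inferInstance
  have hk₁flat : Flat (k₁ ≫ p₂) := inferInstance
  let k₂ := pullback.fst (k₁ ≫ p₂) V.ι
  have hk₂ : IsSchemeTheoreticallyDominant k₂ := inferInstance
  let k := k₂ ≫ k₁
  have hk : IsSchemeTheoreticallyDominant k := inferInstance
  let a₁ := k₂ ≫ pullback.snd p₁ V.ι
  let a₂ := pullback.snd (k₁ ≫ p₂) V.ι
  have ha₁ : a₁ ≫ V.ι = k ≫ p₁ := by
    show (k₂ ≫ pullback.snd p₁ V.ι) ≫ V.ι = (k₂ ≫ k₁) ≫ p₁
    rw [Category.assoc, Category.assoc, ← pullback.condition]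
  have ha₂ : a₂ ≫ V.ι = k ≫ p₂ := by
    show pullback.snd (k₁ ≫ p₂) V.ι ≫ V.ι = (pullback.fst (k₁ ≫ p₂) V.ι ≫ k₁) ≫ p₂
    rw [← pullback.condition, Category.assoc]
  have ha : a₁ = a₂ := by
    rw [← cancel_mono (V.ι ≫ f), ← Category.assoc, ← Category.assoc, ha₁, ha₂, Category.assoc,
      Category.assoc]
    show k ≫ pullback.fst f f ≫ f = k ≫ pullback.snd f f ≫ f
    rw [pullback.condition]
  have hkp : k ≫ p₁ = k ≫ p₂ := by rw [← ha₁, ← ha₂, ha]
  have hfac : (k ≫ p₁) ≫ pullback.diagonal f = k := by
    apply pullback.hom_ext
    · simp only [Category.assoc, pullback.diagonal_fst, Category.comp_id]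
      rfl
    · simp only [Category.assoc, pullback.diagonal_snd, Category.comp_id]
      exact hkp
  have hΔ : IsIso (pullback.diagonal f) := by
    rw [IsClosedImmersion.isIso_iff_ker_eq_bot, ← le_bot_iff]
    have h1 := Scheme.Hom.le_ker_comp (k ≫ p₁) (pullback.diagonal f)
    rw [hfac, Scheme.Hom.ker_eq_bot k] at h1
    exact h1
  have hp₁ : IsIso (pullback.fst f f) := by
    have h2 : pullback.diagonal f ≫ pullback.fst f f = 𝟙 _ := pullback.diagonal_fst f
    have h3 : IsIso (pullback.diagonal f ≫ pullback.fst f f) := by
      rw [h2]; infer_instance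
    exact IsIso.of_isIso_comp_left (pullback.diagonal f) (pullback.fst f f)
  exact MorphismProperty.of_pullback_fst_of_descendsAlong
    (P := MorphismProperty.isomorphisms Scheme.{u})
    (Q := @Surjective ⊓ @Flat ⊓ @QuasiCompact) (f := f) (g := f) ⟨⟨‹_›, ‹_›⟩, ‹_›⟩ hp₁

end Groth.Agent.S15993
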