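import Groth.Statements.S13422
import Mathlib
import Groth.Agent.Lib.Helper20SmoothPt
import Groth.Agent.Lib.Helper20NeronDesc
import Groth.Agent.Lib.Helper20NeronCat
import Groth.Agent.S15993

set_option autoImplicit false
universe u
open CategoryTheory AlgebraicGeometry
open NeronHD

namespace Groth.Agent.S13422
open CategoryTheory AlgebraicGeometry CategoryTheory.Limits
open Groth.Agent.Lib.Helper20.NeronCat Groth.Agent.Lib.Helper20NeronDesc
open Groth.Agent.Lib.Helper20.SmoothPt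

theorem charZero_residueField {k : Type u} [Field k] [CharZero k] {S : Scheme.{u}}
    (σ : S ⟶ Spec (CommRingCat.of k)) (U : S.Opens) (𝔭 : Ideal Γ(S, U)) [𝔭.IsPrime] :
    CharZero 𝔭.ResidueField := by
  let φ : k →+* 𝔭.ResidueField :=
    (algebraMap Γ(S, U) 𝔭.ResidueField).comp
      (((Scheme.ΓSpecIso (CommRingCat.of k)).inv ≫ σ.appLE ⊤ U le_top).hom)
  exact charZero_of_injective_ringHom φ.injective


/-- Let S be a locally Noetherian scheme over a field of characteristic 0, S₀ ⊆ S a scheme-theoretically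
dense open, and N a smooth S-scheme with the weak Néron mapping property for S₀ ⊆ S: for every étale
S-scheme U, restriction to S₀ is a bijection from S-morphisms U → N onto S₀-morphisms U|S₀ → N|S₀.
Then N has the uniqueness half of the Néron mapping property: for every smooth S-scheme Z,
restriction of S-morphisms Z → N to S₀ is injective. (Case of schemes of a statement about algebraic
spaces.) -/
theorem result {k : Type u} [Field k] [CharZero k] {S : Scheme.{u}} (σ : S ⟶ Spec (CommRingCat.of k)) [IsLocallyNoetherian S] (S₀ : S.Opens) (hS₀ : CInt.IsSchematicallyDense S₀)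
    (N : Over S) [Smooth N.hom]
    (hN : ∀ U : Over S, Etale U.hom → Function.Bijective (fun g : U ⟶ N => (Over.pullback S₀.ι).map g))
    (Z : Over S) [Smooth Z.hom] :
    Function.Injective (fun g : Z ⟶ N => (Over.pullback S₀.ι).map g) := by
  intro g₁ g₂ h12
  have h12' : (Over.pullback S₀.ι).map g₁ = (Over.pullback S₀.ι).map g₂ := h12
  have hqc : QuasiCompact S₀.ι := inferInstance
  have hstd : IsSchemeTheoreticallyDominant S₀.ι :=
    Groth.Agent.S15993.isSchemeTheoreticallyDominant_ι S₀ hS₀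
  have hZ₀ : pullback.fst Z.hom S₀.ι ≫ g₁.left = pullback.fst Z.hom S₀.ι ≫ g₂.left := by
    rw [← pullback_map_left_fst, ← pullback_map_left_fst, h12']
  -- pointwise equality implies local equality
  have hloc : ∀ z : Z.left, g₁.left z = g₂.left z →
      ∃ W : Z.left.Opens, z ∈ W ∧ W.ι ≫ g₁.left = W.ι ≫ g₂.left := by
    intro z hz
    obtain ⟨_, ⟨N'', hN'', rfl⟩, hnN'', -⟩ := N.left.isBasis_affineOpens.exists_subset_of_mem_open
      (Set.mem_univ (g₁.left z)) isOpen_univ
    obtain ⟨N', hN', hnN'⟩ : ∃ N' : N.left.Opens, IsAffineOpen N' ∧ g₁.left z ∈ N' :=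
      ⟨N'', hN'', hnN''⟩
    let W : Z.left.Opens := g₁.left ⁻¹ᵁ N' ⊓ g₂.left ⁻¹ᵁ N'
    have hzW : z ∈ W := ⟨hnN', by change g₂.left z ∈ N'; rw [← hz]; exact hnN'⟩
    refine ⟨W, hzW, ?_⟩
    have hr₁ : Set.range (W.ι ≫ g₁.left).base ⊆ Set.range N'.ι.base := by
      rintro _ ⟨w, rfl⟩
      rw [Scheme.Opens.range_ι]
      exact w.2.1
    have hr₂ : Set.range (W.ι ≫ g₂.left).base ⊆ Set.range N'.ι.base := by
      rintro _ ⟨w, rfl⟩
      rw [Scheme.Opens.range_ι]
      exact w.2.2
    let a₁ : (W : Scheme.{u}) ⟶ N' := IsOpenImmersion.lift N'.ι (W.ι ≫ g₁.left) hr₁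
    let a₂ : (W : Scheme.{u}) ⟶ N' := IsOpenImmersion.lift N'.ι (W.ι ≫ g₂.left) hr₂
    have ha₁ : a₁ ≫ N'.ι = W.ι ≫ g₁.left := IsOpenImmersion.lift_fac _ _ _
    have ha₂ : a₂ ≫ N'.ι = W.ι ≫ g₂.left := IsOpenImmersion.lift_fac _ _ _
    haveI : IsAffine (N' : Scheme.{u}) := hN'
    have hsep : IsSeparated (N'.ι ≫ N.hom) := inferInstance
    have hflat : Flat (W.ι ≫ Z.hom) := inferInstance
    have hstd' : IsSchemeTheoreticallyDominant (pullback.fst (W.ι ≫ Z.hom) S₀.ι) := inferInstance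
    have ha : a₁ = a₂ := by
      apply eq_of_std_comp_eq (pullback.fst (W.ι ≫ Z.hom) S₀.ι) (N'.ι ≫ N.hom)
      · rw [reassoc_of% ha₁, reassoc_of% ha₂, Over.w g₁, Over.w g₂]
      · rw [← cancel_mono N'.ι, Category.assoc, Category.assoc, ha₁, ha₂]
        let l : pullback (W.ι ≫ Z.hom) S₀.ι ⟶ pullback Z.hom S₀.ι :=
          pullback.lift (pullback.fst (W.ι ≫ Z.hom) S₀.ι ≫ W.ι) (pullback.snd (W.ι ≫ Z.hom) S₀.ι)
            (by rw [Category.assoc, pullback.condition])
        have hl : l ≫ pullback.fst Z.hom S₀.ι = pullback.fst (W.ι ≫ Z.hom) S₀.ι ≫ W.ι :=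
          pullback.lift_fst _ _ _
        rw [← Category.assoc, ← Category.assoc, ← hl, Category.assoc, Category.assoc, hZ₀]
    rw [← ha₁, ← ha₂, ha]
  -- étale test schemes
  have het : ∀ (U : Scheme.{u}) (gU : U ⟶ S) (h : U ⟶ Z.left), Etale gU → h ≫ Z.hom = gU →
      h ≫ g₁.left = h ≫ g₂.left := by
    intro U gU h hgU hh
    let hO : Over.mk gU ⟶ Z := Over.homMk h hh
    have : hO ≫ g₁ = hO ≫ g₂ := by
      apply (hN (Over.mk gU) hgU).1
      change (Over.pullback S₀.ι).map (hO ≫ g₁) = (Over.pullback S₀.ι).map (hO ≫ g₂)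
      rw [Functor.map_comp, Functor.map_comp, h12']
    exact congrArg (fun m => m.left) this
  apply Over.OverMorphism.ext
  apply Scheme.hom_ext_of_forall
  intro z
  obtain ⟨z', hzz', U, gU, h, hgU, hh, u, rfl⟩ :=
    exists_etale_hom_through_specialization Z.hom (fun U 𝔭 _ => charZero_residueField σ U 𝔭) z
  have hpt : g₁.left (h u) = g₂.left (h u) := by
    rw [← Scheme.Hom.comp_apply, ← Scheme.Hom.comp_apply, het U gU h hgU hh]
  obtain ⟨W, hW, hWeq⟩ := hloc _ hpt
  exact ⟨W, hzz'.mem_open W.2 hW, hWeq⟩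

end Groth.Agent.S13422
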