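import Groth.Statements.S13423
import Mathlib
import Groth.Agent.Lib.Helper23EtSmFib
import Groth.Agent.S2755
-- import your own Groth.Agent.* helpers here

set_option autoImplicit false
set_option backward.isDefEq.respectTransparency.types false
universe u
open CategoryTheory AlgebraicGeometry
open NeronHD

namespace Groth.Agent.S13423


theorem isDomain_of_isUnibranch_of_isReduced (A : Type u) [CommRing A] [IsLocalRing A] [IsReduced A]
    (h : CAlg2.IsUnibranch A) : IsDomain A := by
  haveI := h.1
  have hnil : nilradical A = ⊥ := nilradical_eq_bot_iff.2 inferInstance
  have e : A ≃+* CAlg2.red A :=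
    (RingEquiv.quotientBot A).symm.trans (Ideal.quotEquivOfEq hnil.symm)
  exact e.toMulEquiv.isDomain (CAlg2.red A)

/-- Let S be a reduced, locally Noetherian scheme over a field of characteristic 0 whose local rings are
all geometrically unibranch, and let f : X → S be quasi-finite (locally of finite type,
quasi-compact, with finite discrete fibres), separated and dominant, with X connected and nonempty,
such that every fibre X_s over the residue field k(s) is smooth. Then f is étale. (Case of schemes
of a statement about algebraic spaces.) -/
theorem result {k : Type u} [Field k] [CharZero k] {S : Scheme.{u}} (σ : S ⟶ Spec (CommRingCat.of k)) [IsLocallyNoetherian S] [IsReduced S]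
    (hS : ∀ s : S, CAlg2.IsGeomUnibranch (S.presheaf.stalk s))
    {X : Scheme.{u}} (f : X ⟶ S) [LocallyOfFiniteType f] [QuasiCompact f] [LocallyQuasiFinite f] [IsSeparated f] [IsDominant f]
    [ConnectedSpace X]
    (hfib : ∀ s : S, Smooth (Limits.pullback.snd f (S.fromSpecResidueField s))) :
    Etale f := by
  have hdom : ∀ s : S, IsDomain (S.presheaf.stalk s) := fun s =>
    isDomain_of_isUnibranch_of_isReduced _ (hS s).1
  -- S is connected
  haveI : ConnectedSpace S := by
    have hr : _root_.IsConnected (Set.range f) := isConnected_range f.continuous
    have hcl : closure (Set.range f) = Set.univ := f.denseRange.closure_range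
    have := hr.closure
    rw [hcl] at this
    exact connectedSpace_iff_univ.2 this
  haveI : IrreducibleSpace S :=
    Groth.Agent.Lib.Helper23.EtSmFib.irreducibleSpace_of_connected_of_isLocallyNoetherian hdom
  haveI : IsIntegral S := isIntegral_of_irreducibleSpace_of_isReduced S
  haveI : FormallyUnramified f :=
    Groth.Agent.Lib.Helper23.EtSmFib.formallyUnramified_of_smooth_fibres f hfib
  haveI : IsLocallyNoetherian X := LocallyOfFiniteType.isLocallyNoetherian f
  have hη := Groth.Agent.Lib.Helper23.EtSmFib.exists_eq_genericPoint f
  exact (Groth.Agent.S2755.result f hS hη).1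

end Groth.Agent.S13423
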