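import Groth.Statements.S13424
import Mathlib
import Groth.Agent.Lib.Helper20NormFin
import Groth.Agent.Lib.Helper20CDivEq
import Groth.Agent.Lib.Helper20FinHom

set_option autoImplicit false
universe u
open CategoryTheory AlgebraicGeometry
open GrpSch

namespace Groth.Agent.S13424
open CategoryTheory AlgebraicGeometry CategoryTheory.Limits
open Groth.Agent.Lib.Helper20NormFin Groth.Agent.Lib.Helper20CDivEq

/-- In a locally Noetherian scheme whose local rings are domains, the closure of an open subset is
open. -/
theorem isOpen_closure_of_isOpen {P : Scheme.{u}} [IsLocallyNoetherian P]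
    (hP : ∀ x : P, IsDomain (P.presheaf.stalk x)) (U : Set P) (hU : IsOpen U) :
    IsOpen (closure U) := by
  rw [isOpen_iff_forall_mem_open]
  intro x hx
  haveI := hP x
  obtain ⟨W, hW, hxW, -, hdom⟩ := exists_affineOpen_isDomain x ⊤ trivial
  haveI := hdom
  refine ⟨W, ?_, W.2, hxW⟩
  set ξ : P := hW.fromSpec ⟨⊥, Ideal.isPrime_bot⟩ with hξdef
  have hξ : ∀ y ∈ W, ξ ⤳ y := by
    intro y hy
    have h1 : (⟨⊥, Ideal.isPrime_bot⟩ : PrimeSpectrum Γ(P, W)) ⤳ hW.primeIdealOf ⟨y, hy⟩ :=
      (PrimeSpectrum.le_iff_specializes _ _).mp bot_le
    have h2 := h1.map hW.fromSpec.continuous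
    rwa [hW.fromSpec_primeIdealOf ⟨y, hy⟩] at h2
  obtain ⟨y, hyW, hyU⟩ := mem_closure_iff.mp hx W W.2 hxW
  have hξU : ξ ∈ U := (hξ y hyW).mem_open hU hyU
  intro y' hy'
  exact (hξ y' hy').mem_closed isClosed_closure (subset_closure hξU)

theorem etale_transport {G S : Scheme.{u}} (p : G ⟶ S) {I J : G.IdealSheafData} (h : I = J)
    (hJ : Etale (J.subschemeι ≫ p)) : Etale (I.subschemeι ≫ p) := by
  subst h; exact hJ


/-- Let S be a normal, locally Noetherian scheme over a field of characteristic 0. Let p : G → S and q :
H → S be smooth morphisms with sections e_G and e_H, and f : G → H an étale morphism over S with f ∘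
e_G = e_H (the case in view: an étale homomorphism of smooth group schemes and their unit sections).
Call such a pointed S-scheme aligned when the scheme-theoretic image of its section is étale over S.
If H is aligned then G is aligned. (The published statement has an arbitrary locally Noetherian
base; over the reducible curve xy = 0 the étale group scheme obtained from two copies of the base
glued along the complement of one branch maps to the trivial group by an étale homomorphism and is
not aligned, so the base is taken normal here, where the closure of the section is a union of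
connected components of the preimage of the image of e_H. Schemes only.) -/
theorem result {k : Type u} [Field k] [CharZero k] {S : Scheme.{u}} (σ : S ⟶ Spec (CommRingCat.of k)) [IsLocallyNoetherian S] (hS : Pi1.IsNormalScheme S)
    {G H : Scheme.{u}} (p : G ⟶ S) (q : H ⟶ S) [Smooth p] [Smooth q]
    (eG : S ⟶ G) (eH : S ⟶ H) (heG : eG ≫ p = 𝟙 S) (heH : eH ≫ q = 𝟙 S)
    (f : G ⟶ H) [Etale f] (hf : f ≫ q = p) (hfe : eG ≫ f = eH)
    (hH : Etale (eH.ker.subschemeι ≫ q)) :
    Etale (eG.ker.subschemeι ≫ p) := by
  let r : pullback f eH.imageι ⟶ S := pullback.snd f eH.imageι ≫ eH.imageι ≫ q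
  have hEt : Etale r := by
    have : Etale (eH.imageι ≫ q) := hH
    infer_instance
  have hr : r = pullback.fst f eH.imageι ≫ p := by
    rw [← hf, pullback.condition_assoc]
  let s : S ⟶ pullback f eH.imageι :=
    pullback.lift eG eH.toImage (by rw [hfe, Scheme.Hom.toImage_imageι])
  have hs1 : s ≫ pullback.fst f eH.imageι = eG := pullback.lift_fst _ _ _
  have hs : s ≫ r = 𝟙 S := by rw [hr, ← Category.assoc, hs1, heG]
  have hsOI : IsOpenImmersion s := Groth.Agent.Lib.Helper20.FinHom.isOpenImmersion_of_section r s hs
  have hPn : Pi1.IsNormalScheme (pullback f eH.imageι) := isNormalScheme_of_smooth hS r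
  have hPN : IsLocallyNoetherian (pullback f eH.imageι) :=
    LocallyOfFiniteType.isLocallyNoetherian r
  have hCo : IsOpen (closure (Set.range s)) :=
    isOpen_closure_of_isOpen (fun x => (hPn x).1) _ s.isOpenEmbedding.isOpen_range
  let C : (pullback f eH.imageι).Opens := ⟨closure (Set.range s), hCo⟩
  have hCι : IsClosedImmersion C.ι := by
    apply IsClosedImmersion.of_isPreimmersion
    rw [Scheme.Opens.range_ι]
    exact isClosed_closure
  let k : (C : Scheme.{u}) ⟶ G := C.ι ≫ pullback.fst f eH.imageι
  have hk : IsClosedImmersion k := inferInstance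
  have hsC : Set.range s ⊆ Set.range C.ι := by
    rw [Scheme.Opens.range_ι]
    exact subset_closure
  let s' : S ⟶ (C : Scheme.{u}) := IsOpenImmersion.lift C.ι s hsC
  have hs' : s' ≫ C.ι = s := IsOpenImmersion.lift_fac _ _ _
  have hs'k : s' ≫ k = eG := by
    rw [← Category.assoc, hs', hs1]
  have hdom : IsDominant s' := by
    constructor
    rw [DenseRange, C.ι.isEmbedding.isInducing.dense_iff]
    intro x
    have h1 : C.ι '' Set.range s' = Set.range s := by
      rw [← Set.range_comp, ← hs']
      rfl
    rw [h1]
    exact x.2
  have hred : IsReduced (C : Scheme.{u}) := by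
    have : IsReduced (pullback f eH.imageι) := by
      have : ∀ x : ↥(pullback f eH.imageι), _root_.IsReduced ((pullback f eH.imageι).presheaf.stalk x) := by
        intro x
        haveI := (hPn x).1
        infer_instance
      exact isReduced_of_isReduced_stalk _
    infer_instance
  have hstd : IsSchemeTheoreticallyDominant s' := IsSchemeTheoreticallyDominant.of_isDominant s'
  have hker : eG.ker = k.ker := by
    rw [← hs'k, Scheme.Hom.ker_comp, s'.ker_eq_bot, Scheme.IdealSheafData.map_bot]
  apply etale_transport p hker
  have h1 : k.imageι = inv k.toImage ≫ k := by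
    rw [IsIso.eq_inv_comp, k.toImage_imageι]
  have h2 : k ≫ p = C.ι ≫ r := by
    rw [hr, Category.assoc]
  change Etale (k.imageι ≫ p)
  rw [h1, Category.assoc, h2]
  infer_instance

end Groth.Agent.S13424
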