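import Groth.Statements.S13426
import Mathlib
import Groth.Agent.Lib.Helper20NeronDesc
import Groth.Agent.Lib.Helper20NeronCat
import Groth.Agent.Lib.Helper20FinHom
import Groth.Agent.Lib.Helper8Grp

set_option autoImplicit false
universe u
open CategoryTheory MonoidalCategory CartesianMonoidalCategory MonObj GrpObj AlgebraicGeometry
open GrpSch

namespace Groth.Agent.S13426
open CategoryTheory MonoidalCategory CartesianMonoidalCategory MonObj GrpObj AlgebraicGeometry
open CategoryTheory.Limits
open Groth.Agent.Lib.Helper20.NeronCat Groth.Agent.Lib.Helper20NeronDesc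

/-- The canonical map to the scheme-theoretic image of a quasi-compact morphism is
scheme-theoretically dominant. -/
theorem std_toImage {X Y : Scheme.{u}} (f : X ⟶ Y) [QuasiCompact f] :
    IsSchemeTheoreticallyDominant f.toImage := by
  rw [isSchemeTheoreticallyDominant_iff]
  refine Scheme.IdealSheafData.ext_of_iSup_eq_top
    (fun U : Y.affineOpens => ⟨f.imageι ⁻¹ᵁ U.1, U.2.preimage f.imageι⟩) ?_ ?_
  · rw [eq_top_iff]
    intro x _
    obtain ⟨_, ⟨V, hV, rfl⟩, hxV, -⟩ := Y.isBasis_affineOpens.exists_subset_of_mem_open
      (Set.mem_univ (f.imageι x)) isOpen_univ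
    exact TopologicalSpace.Opens.mem_iSup.mpr ⟨⟨V, hV⟩, hxV⟩
  · intro U
    rw [Scheme.Hom.ker_apply, Scheme.IdealSheafData.ideal_bot, Pi.bot_apply,
      ← RingHom.injective_iff_ker_eq_bot]
    exact f.toImage_app_injective U

/-- A topological embedding into a locally Noetherian scheme is quasi-compact. -/
theorem quasiCompact_of_isInducing {X Y : Scheme.{u}} [IsLocallyNoetherian Y] (f : X ⟶ Y)
    (hf : Topology.IsInducing f) : QuasiCompact f := by
  apply quasiCompact_iff_forall_isAffineOpen.mpr
  intro U hU
  rw [TopologicalSpace.Opens.map_coe, ← Set.preimage_inter_range]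
  apply hf.isCompact_preimage'
  · apply (TopologicalSpace.noetherianSpace_set_iff _).mp
    · convert! noetherianSpace_of_isAffineOpen U hU
      apply IsLocallyNoetherian.component_noetherian ⟨U, hU⟩
    · exact Set.inter_subset_left
  · exact Set.inter_subset_right


/-- Let S be a locally Noetherian scheme over a field of characteristic 0, S₀ ⊆ S a scheme-theoretically
dense open, and G a smooth S-scheme with the weak Néron mapping property for S₀ ⊆ S: for every étale
S-scheme U, restriction to S₀ is a bijection from S-morphisms U → G onto S₀-morphisms. Let H be a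
smooth group scheme over S together with a monomorphism H → G of S-schemes (the case in view: G a
group scheme and H a subgroup scheme), and assume that H is aligned, i.e. the scheme-theoretic image
of its unit section is étale over S, and that H ×_S S₀ → S₀ is separated. Then H → S is separated.
(Case of schemes of a statement about group algebraic spaces; only the injectivity of H → G on
morphisms is used of the subgroup condition.) -/
theorem result {k : Type u} [Field k] [CharZero k] {S : Scheme.{u}} (σ : S ⟶ Spec (CommRingCat.of k)) [IsLocallyNoetherian S] (S₀ : S.Opens) (hS₀ : CInt.IsSchematicallyDense S₀)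
    (G : Over S) [Smooth G.hom]
    (hG : ∀ U : Over S, Etale U.hom → Function.Bijective (fun g : U ⟶ G => (Over.pullback S₀.ι).map g))
    (H : Over S) [GrpObj H] [Smooth H.hom] (j : H ⟶ G) [Mono j.left]
    (hal : Etale (η[H].left.ker.subschemeι ≫ H.hom))
    (h0 : IsSeparated (Limits.pullback.snd H.hom S₀.ι)) :
    IsSeparated H.hom := by
  let e : S ⟶ H.left := η[H].left
  have he : e ≫ H.hom = 𝟙 S := Over.w η[H]
  have hHN : IsLocallyNoetherian H.left := LocallyOfFiniteType.isLocallyNoetherian H.hom
  have heqc : QuasiCompact e := by
    apply quasiCompact_of_isInducing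
    have hli : Function.LeftInverse H.hom.base e.base := by
      intro x
      rw [← Scheme.Hom.comp_apply, he]
      rfl
    exact (hli.isEmbedding H.hom.continuous e.continuous).isInducing
  let i : e.image ⟶ H.left := e.imageι
  let t : S ⟶ e.image := e.toImage
  have hti : t ≫ i = e := e.toImage_imageι
  obtain ⟨r, hrdef⟩ : ∃ r : e.image ⟶ S, r = i ≫ H.hom := ⟨_, rfl⟩
  have hr : Etale r := by rw [hrdef]; exact hal
  have htr : t ≫ r = 𝟙 S := by
    rw [hrdef, ← Category.assoc, hti, he]
  have htstd : IsSchemeTheoreticallyDominant t := std_toImage e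
  have htqc : QuasiCompact t := inferInstance
  -- the two maps
  let a : e.image ⟶ G.left := i ≫ j.left
  let b : e.image ⟶ G.left := r ≫ e ≫ j.left
  have ha : a ≫ G.hom = r := by
    rw [Category.assoc, Over.w j, hrdef]
  have hb : b ≫ G.hom = r := by
    rw [Category.assoc, Category.assoc, Over.w j, he, Category.comp_id]
  let aO : Over.mk r ⟶ G := Over.homMk a ha
  let bO : Over.mk r ⟶ G := Over.homMk b hb
  have hab : aO = bO := by
    apply (hG (Over.mk r) hr).1
    change (Over.pullback S₀.ι).map aO = (Over.pullback S₀.ι).map bO
    apply pullback_obj_hom_ext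
    rw [pullback_map_left_fst, pullback_map_left_fst]
    change pullback.fst r S₀.ι ≫ a = pullback.fst r S₀.ι ≫ b
    -- it suffices to compare the maps to `H`
    suffices hαβ : pullback.fst r S₀.ι ≫ i = pullback.fst r S₀.ι ≫ r ≫ e by
      simp only [a, b]
      rw [← Category.assoc, hαβ]
      simp only [Category.assoc]
    set w := pullback.fst r S₀.ι with hw
    have hwc : w ≫ r = pullback.snd r S₀.ι ≫ S₀.ι := pullback.condition
    let α' : pullback r S₀.ι ⟶ pullback H.hom S₀.ι :=
      pullback.lift (w ≫ i) (pullback.snd r S₀.ι) (by rw [Category.assoc, ← hrdef]; exact hwc)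
    let β' : pullback r S₀.ι ⟶ pullback H.hom S₀.ι :=
      pullback.lift (w ≫ r ≫ e) (pullback.snd r S₀.ι) (by
        rw [Category.assoc, Category.assoc, he, Category.comp_id]; exact hwc)
    have hα1 : α' ≫ pullback.fst H.hom S₀.ι = w ≫ i := pullback.lift_fst _ _ _
    have hβ1 : β' ≫ pullback.fst H.hom S₀.ι = w ≫ r ≫ e := pullback.lift_fst _ _ _
    have hα2 : α' ≫ pullback.snd H.hom S₀.ι = pullback.snd r S₀.ι := pullback.lift_snd _ _ _
    have hβ2 : β' ≫ pullback.snd H.hom S₀.ι = pullback.snd r S₀.ι := pullback.lift_snd _ _ _
    have hwflat : Flat w := inferInstance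
    have hstd : IsSchemeTheoreticallyDominant (pullback.snd t w) := inferInstance
    have hαβ' : α' = β' := by
      apply eq_of_std_comp_eq (pullback.snd t w) (pullback.snd H.hom S₀.ι)
      · rw [hα2, hβ2]
      · apply pullback.hom_ext
        · rw [Category.assoc, Category.assoc, hα1, hβ1, ← pullback.condition_assoc,
            ← pullback.condition_assoc, hti, reassoc_of% htr]
        · rw [Category.assoc, Category.assoc, hα2, hβ2]
    rw [← hα1, ← hβ1, hαβ']
  have hab' : a = b := congrArg (fun m => m.left) hab
  have hi : i = r ≫ e := by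
    rw [← cancel_mono j.left, Category.assoc]
    exact hab'
  have hrt : r ≫ t = 𝟙 _ := by
    rw [← cancel_mono i, Category.assoc, hti, Category.id_comp]
    exact hi.symm
  have htiso : IsIso t := ⟨r, htr, hrt⟩
  have hcl : IsClosedImmersion η[H].left := by
    change IsClosedImmersion e
    rw [← hti]
    infer_instance
  exact Groth.Agent.Lib.Helper8.isSeparated_of_isClosedImmersion_one H

end Groth.Agent.S13426
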