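import Groth.Statements.S17728
import Mathlib
import Groth.Agent.S15993
import Groth.Agent.S10879

set_option autoImplicit false
universe u
open Neron

namespace Groth.Agent.S17728

open CategoryTheory AlgebraicGeometry
open CategoryTheory.Limits

/-- A flat separated morphism `f` which becomes a monomorphism after precomposition with a flat
quasi-compact scheme-theoretically dominant morphism is a monomorphism. -/
theorem mono_of_std {X Y Q : Scheme.{u}} (f : X ⟶ Y) [Flat f] [IsSeparated f]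
    (g : Q ⟶ X) [IsSchemeTheoreticallyDominant g] [QuasiCompact g] [Flat g]
    (hmono : Mono (g ≫ f)) : Mono f := by
  let p₁ := pullback.fst f f
  let p₂ := pullback.snd f f
  let k₁ := pullback.fst p₁ g
  have hk₁ : IsSchemeTheoreticallyDominant k₁ := inferInstance
  have hk₁flat : Flat (k₁ ≫ p₂) := inferInstance
  let k₂ := pullback.fst (k₁ ≫ p₂) g
  have hk₂ : IsSchemeTheoreticallyDominant k₂ := inferInstance
  let k := k₂ ≫ k₁
  have hk : IsSchemeTheoreticallyDominant k := inferInstance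
  let a₁ := k₂ ≫ pullback.snd p₁ g
  let a₂ := pullback.snd (k₁ ≫ p₂) g
  have ha₁ : a₁ ≫ g = k ≫ p₁ := by
    show (k₂ ≫ pullback.snd p₁ g) ≫ g = (k₂ ≫ k₁) ≫ p₁
    rw [Category.assoc, Category.assoc, ← pullback.condition]
  have ha₂ : a₂ ≫ g = k ≫ p₂ := by
    show pullback.snd (k₁ ≫ p₂) g ≫ g = (pullback.fst (k₁ ≫ p₂) g ≫ k₁) ≫ p₂
    rw [← pullback.condition, Category.assoc]
  have ha : a₁ = a₂ := by
    rw [← cancel_mono (g ≫ f), ← Category.assoc, ← Category.assoc, ha₁, ha₂, Category.assoc,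
      Category.assoc]
    show k ≫ pullback.fst f f ≫ f = k ≫ pullback.snd f f ≫ f
    rw [pullback.condition]
  have hkp : k ≫ p₁ = k ≫ p₂ := by rw [← ha₁, ← ha₂, ha]
  have hfac : (k ≫ p₁) ≫ pullback.diagonal f = k := by
    apply pullback.hom_ext
    · simp only [Category.assoc, pullback.diagonal_fst, Category.comp_id]
      rfl
    · simp only [Category.assoc, pullback.diagonal_snd, Category.comp_id]
      exact hkp
  have hΔ : IsIso (pullback.diagonal f) := by
    rw [IsClosedImmersion.isIso_iff_ker_eq_bot, ← le_bot_iff]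
    have h1 := Scheme.Hom.le_ker_comp (k ≫ p₁) (pullback.diagonal f)
    rw [hfac, Scheme.Hom.ker_eq_bot k] at h1
    exact h1
  exact (pullback.isIso_diagonal_iff f).mp hΔ

theorem isIso_stalkMap_of_flat {X S : Scheme.{u}} [IsNoetherian S] (f : X ⟶ S)
    [LocallyOfFiniteType f] (U : S.Opens) (hiso : IsIso (morphismRestrict f U))
    (hdense : CInt.IsSchematicallyDense (f ⁻¹ᵁ U))
    (x : X) (hflat : (f.stalkMap x).hom.Flat) : IsIso (f.stalkMap x) := by
  have hXN : IsLocallyNoetherian X := LocallyOfFiniteType.isLocallyNoetherian f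
  have hqc : QuasiCompact (f ⁻¹ᵁ U).ι := inferInstance
  have hstd : IsSchemeTheoreticallyDominant (f ⁻¹ᵁ U).ι :=
    Groth.Agent.S15993.isSchemeTheoreticallyDominant_ι _ hdense
  let f' := Spec.map (f.stalkMap x)
  let gX := X.fromSpecStalk x
  have hgXflat : Flat gX := Groth.Agent.S10879.flat_fromSpecStalk X x
  let k := pullback.fst gX (f ⁻¹ᵁ U).ι
  have hkstd : IsSchemeTheoreticallyDominant k := inferInstance
  have hkqc : QuasiCompact k := inferInstance
  have hkflat : Flat k := inferInstance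
  have hf'flat : Flat f' := Flat.SpecMap_iff.mpr hflat
  have hcomm : f' ≫ S.fromSpecStalk (f x) = gX ≫ f := Scheme.SpecMap_stalkMap_fromSpecStalk f
  have hmono : Mono (k ≫ f') := by
    have h1 : (k ≫ f') ≫ S.fromSpecStalk (f x) =
        pullback.snd gX (f ⁻¹ᵁ U).ι ≫ (f ∣_ U) ≫ U.ι := by
      rw [Category.assoc, hcomm, ← Category.assoc, pullback.condition, Category.assoc,
        morphismRestrict_ι]
    have h2 : Mono ((k ≫ f') ≫ S.fromSpecStalk (f x)) := by
      rw [h1]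
      infer_instance
    exact mono_of_mono (k ≫ f') (S.fromSpecStalk (f x))
  have hf'mono : Mono f' := mono_of_std f' k hmono
  have hf'surj : Surjective f' := by
    have hff : (f.stalkMap x).hom.FaithfullyFlat := by
      algebraize [(f.stalkMap x).hom]
      have : Module.FaithfullyFlat (S.presheaf.stalk (f x)) (X.presheaf.stalk x) :=
        @Module.FaithfullyFlat.of_flat_of_isLocalHom _ _ _ _ _ _ _ hflat (f.toLRSHom.prop x)
      exact ‹RingHom.FaithfullyFlat _›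
    exact ((flat_and_surjective_SpecMap_iff (f.stalkMap x)).mpr hff).2
  have hf'iso : IsIso f' := Flat.isIso_of_surjective_of_mono f'
  have : IsIso (Scheme.Spec.map (f.stalkMap x).op) := hf'iso
  have h3 : IsIso (f.stalkMap x).op := isIso_of_reflects_iso _ Scheme.Spec
  exact isIso_of_op (f.stalkMap x)

theorem exists_section_of_isIso_stalkMap {X S : Scheme.{u}} [IsNoetherian S] (f : X ⟶ S)
    [LocallyOfFiniteType f] (x : X) (h : IsIso (f.stalkMap x)) :
    ∃ (V : S.Opens) (hV : f.base x ∈ V) (σ : (V : Scheme.{u}) ⟶ X),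
      σ ≫ f = V.ι ∧ σ.base ⟨f.base x, hV⟩ = x := by
  let φ : Spec (S.presheaf.stalk (f x)) ⟶ X :=
    Spec.map (inv (f.stalkMap x)) ≫ X.fromSpecStalk x
  have hφ : φ ≫ f = S.fromSpecStalk (f x) ≫ 𝟙 S := by
    rw [Category.assoc, ← Scheme.SpecMap_stalkMap_fromSpecStalk, ← Spec.map_comp_assoc,
      IsIso.hom_inv_id, Spec.map_id, Category.id_comp, Category.comp_id]
  obtain ⟨V, hV, σ, h1, h2⟩ := spread_out_of_isGermInjective' (𝟙 S) f φ hφ
  refine ⟨V, hV, σ, by simpa using h2, ?_⟩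
  have h3 := congr($h1 (IsLocalRing.closedPoint _))
  have h4 : φ (IsLocalRing.closedPoint _) = x := by
    show (Spec.map (inv (f.stalkMap x)) ≫ X.fromSpecStalk x) (IsLocalRing.closedPoint _) = x
    rw [Scheme.Hom.comp_apply, Spec_closedPoint, Scheme.fromSpecStalk_closedPoint]
  have h5 : (V.fromSpecStalkOfMem (f x) hV) (IsLocalRing.closedPoint _) = ⟨f x, hV⟩ := by
    show (Spec.map (inv (V.ι.stalkMap ⟨f x, hV⟩)) ≫ V.toScheme.fromSpecStalk ⟨f x, hV⟩)
      (IsLocalRing.closedPoint _) = _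
    rw [Scheme.Hom.comp_apply, Spec_closedPoint, Scheme.fromSpecStalk_closedPoint]
  rw [h4, Scheme.Hom.comp_apply, h5] at h3
  exact h3.symm

theorem exists_isOpenImmersion_nhd_of_local_section {E S : Scheme.{u}} (f : E ⟶ S) (U : S.Opens)
    (hiso : IsIso (morphismRestrict f U)) (hdense : CInt.IsSchematicallyDense (f ⁻¹ᵁ U))
    (V : S.Opens) (σ : (V : Scheme.{u}) ⟶ E) (hσ : σ ≫ f = V.ι) (s : V) :
    ∃ W : E.Opens, σ.base s ∈ W ∧ IsOpenImmersion (W.ι ≫ f) := by
  -- an affine open neighbourhood of `σ s`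
  obtain ⟨W₀, hW₀, hsW₀⟩ : ∃ W₀ : E.Opens, IsAffineOpen W₀ ∧ σ.base s ∈ W₀ := by
    obtain ⟨_, ⟨W₀, hW₀, rfl⟩, hsW₀, -⟩ :=
      E.isBasis_affineOpens.exists_subset_of_mem_open (Set.mem_univ (σ.base s)) isOpen_univ
    exact ⟨W₀, hW₀, hsW₀⟩
  have hW₀' : IsAffine W₀.toScheme := hW₀
  let V₁ : S.Opens := V.ι ''ᵁ (σ ⁻¹ᵁ W₀)
  have hV₁V : V₁ ≤ V := by
    rintro _ ⟨w, -, rfl⟩
    exact w.2
  let σ₁ : V₁.toScheme ⟶ E := S.homOfLE hV₁V ≫ σ
  have hσ₁ : σ₁ ≫ f = V₁.ι := by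
    rw [Category.assoc, hσ, Scheme.homOfLE_ι]
  have hσ₁W₀ : ∀ v : V₁.toScheme, σ₁ v ∈ W₀ := by
    intro v
    obtain ⟨w, hw, hwv⟩ := v.2
    have h1 : V.ι ((S.homOfLE hV₁V) v) = V.ι w := by
      rw [← Scheme.Hom.comp_apply, Scheme.homOfLE_ι]
      exact hwv.symm
    have h2 : (S.homOfLE hV₁V) v = w := V.ι.injective h1
    show σ ((S.homOfLE hV₁V) v) ∈ W₀
    rw [h2]
    exact hw
  have hfσ₁ : ∀ v : V₁.toScheme, f (σ₁ v) = V₁.ι v := by
    intro v
    rw [← Scheme.Hom.comp_apply, hσ₁]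
  let W : E.Opens := W₀ ⊓ f ⁻¹ᵁ V₁
  have hWV : W ≤ f ⁻¹ᵁ V₁ := inf_le_right
  let f' : W.toScheme ⟶ V₁.toScheme := f.resLE V₁ W hWV
  have hrangeσ₁ : Set.range σ₁ ⊆ Set.range W.ι := by
    rintro _ ⟨v, rfl⟩
    rw [Scheme.Opens.range_ι]
    refine ⟨hσ₁W₀ v, ?_⟩
    show f (σ₁ v) ∈ V₁
    rw [hfσ₁]
    exact v.2
  let σ' : V₁.toScheme ⟶ W.toScheme := IsOpenImmersion.lift W.ι σ₁ hrangeσ₁
  have hσ'ι : σ' ≫ W.ι = σ₁ := IsOpenImmersion.lift_fac _ _ _
  have hf'ι : f' ≫ V₁.ι = W.ι ≫ f := Scheme.Hom.resLE_comp_ι f hWV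
  have hσf : σ' ≫ f' = 𝟙 _ := by
    rw [← cancel_mono V₁.ι, Category.assoc, hf'ι, ← Category.assoc, hσ'ι, hσ₁, Category.id_comp]
  -- key fact
  let P : E.Opens := f ⁻¹ᵁ (U ⊓ V₁)
  have hPV₁ : P ≤ f ⁻¹ᵁ V₁ := fun _ hp => hp.2
  have hPU : P ≤ f ⁻¹ᵁ U := fun _ hp => hp.1
  let fP : P.toScheme ⟶ V₁.toScheme := f.resLE V₁ P hPV₁
  have hfPι : fP ≫ V₁.ι = P.ι ≫ f := Scheme.Hom.resLE_comp_ι f hPV₁
  have K : fP ≫ σ₁ = P.ι := by
    set m := fP ≫ σ₁ with hm
    have hmf : m ≫ f = P.ι ≫ f := by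
      rw [hm, Category.assoc, hσ₁, hfPι]
    have hrange : Set.range m ⊆ Set.range (f ⁻¹ᵁ U).ι := by
      rintro _ ⟨p, rfl⟩
      rw [Scheme.Opens.range_ι]
      show f (m p) ∈ U
      have : f (m p) = f (P.ι p) := by
        rw [← Scheme.Hom.comp_apply, hmf, Scheme.Hom.comp_apply]
      rw [this]
      exact hPU p.2
    have hfac := IsOpenImmersion.lift_fac (f ⁻¹ᵁ U).ι m hrange
    set m' := IsOpenImmersion.lift (f ⁻¹ᵁ U).ι m hrange with hm'
    have h1 : m' ≫ (f ∣_ U) = E.homOfLE hPU ≫ (f ∣_ U) := by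
      rw [← cancel_mono U.ι, Category.assoc, morphismRestrict_ι, ← Category.assoc, hfac, hmf,
        Category.assoc, morphismRestrict_ι, Scheme.homOfLE_ι_assoc]
    have h2 : m' = E.homOfLE hPU := (cancel_mono (f ∣_ U)).mp h1
    rw [← hfac, h2, Scheme.homOfLE_ι]
  -- the other composite
  let g₂ : W.toScheme ⟶ W₀.toScheme := E.homOfLE inf_le_left
  let D : E.Opens := W ⊓ f ⁻¹ᵁ U
  let d : D.toScheme ⟶ W.toScheme := E.homOfLE inf_le_left
  have hDP : D ≤ P := fun _ hx => ⟨hx.2, hx.1.2⟩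
  have hdf' : d ≫ f' = E.homOfLE hDP ≫ fP := by
    rw [← cancel_mono V₁.ι, Category.assoc, hf'ι, Category.assoc, hfPι, Scheme.homOfLE_ι_assoc,
      Scheme.homOfLE_ι_assoc]
  have hdg : d ≫ (f' ≫ σ' ≫ g₂) = d ≫ g₂ := by
    rw [← cancel_mono W₀.ι]
    have e1 : g₂ ≫ W₀.ι = W.ι := Scheme.homOfLE_ι _ _
    rw [Category.assoc, Category.assoc, Category.assoc, Category.assoc, e1, hσ'ι,
      ← Category.assoc, hdf', Category.assoc, K, Scheme.homOfLE_ι, Scheme.homOfLE_ι]
  have hdinj : Function.Injective d.appTop.hom := by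
    rw [Scheme.homOfLE_appTop]
    have key : ∀ (A B : E.Opens) (_ : A = W) (_ : B = W ⊓ f ⁻¹ᵁ U)
        (i : Opposite.op A ⟶ Opposite.op B), Function.Injective (E.presheaf.map i).hom := by
      intro A B hA hB i
      subst hA hB
      have : i = (homOfLE (inf_le_left : W ⊓ f ⁻¹ᵁ U ≤ W)).op := Subsingleton.elim _ _
      rw [this]
      exact hdense W
    exact key _ _ (by simp) (by simp [D]) _
  have hg : f' ≫ σ' ≫ g₂ = g₂ := by
    apply ext_of_isAffine
    have h1 := congrArg Scheme.Hom.appTop hdg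
    rw [Scheme.Hom.comp_appTop, Scheme.Hom.comp_appTop] at h1
    ext x
    apply hdinj
    exact congrArg (fun k => k.hom x) h1
  have hfσ : f' ≫ σ' = 𝟙 _ := by
    rw [← cancel_mono g₂, Category.assoc, hg, Category.id_comp]
  have hf'iso : IsIso f' := ⟨σ', hfσ, hσf⟩
  have hsV₁ : V.ι s ∈ V₁ := ⟨s, hsW₀, rfl⟩
  refine ⟨W, ⟨hsW₀, ?_⟩, ?_⟩
  · show f (σ s) ∈ V₁
    rw [← Scheme.Hom.comp_apply, hσ]
    exact hsV₁
  · have : W.ι ≫ f = f' ≫ V₁.ι := hf'ι.symm
    rw [this]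
    infer_instance


open CategoryTheory AlgebraicGeometry in
/-- Let S be a Noetherian scheme, U ⊆ S a dense open subscheme and f : X → S a morphism locally of
finite type which restricts to an isomorphism over U and for which the preimage of U is
schematically dense in X. For a point x of X the following are equivalent: f is étale on some open
neighbourhood of x; f is flat at x, that is, the local ring of X at x is flat over the local ring of
S at f(x); some open neighbourhood V of f(x) carries a section σ of f over V passing through x. -/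
theorem result
    {X S : Scheme.{u}} [IsNoetherian S] (f : X ⟶ S) [LocallyOfFiniteType f]
    (U : S.Opens) (hU : Dense (U : Set S))
    (hiso : IsIso (morphismRestrict f U)) (hdense : CInt.IsSchematicallyDense (f ⁻¹ᵁ U))
    (x : X) :
    List.TFAE [
      ∃ W : X.Opens, x ∈ W ∧ Etale (W.ι ≫ f),
      (f.stalkMap x).hom.Flat,
      ∃ (V : S.Opens) (hV : f.base x ∈ V) (σ : (V : Scheme.{u}) ⟶ X),
        σ ≫ f = V.ι ∧ σ.base ⟨f.base x, hV⟩ = x] := by
  tfae_have 1 → 2 := by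
    rintro ⟨W, hxW, hW⟩
    have h1 : ((W.ι ≫ f).stalkMap ⟨x, hxW⟩).hom.Flat := Flat.stalkMap (W.ι ≫ f) ⟨x, hxW⟩
    rw [Scheme.Hom.stalkMap_comp] at h1
    have h2 : Function.Bijective (W.ι.stalkMap ⟨x, hxW⟩).hom :=
      ConcreteCategory.bijective_of_isIso (W.ι.stalkMap ⟨x, hxW⟩)
    have h1' : ((W.ι.stalkMap ⟨x, hxW⟩).hom.comp (f.stalkMap x).hom).Flat := h1
    exact (RingHom.Flat.comp_iff_of_bijective_left h2).mp h1'
  tfae_have 2 → 3 := fun h =>
    exists_section_of_isIso_stalkMap f x (isIso_stalkMap_of_flat f U hiso hdense x h)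
  tfae_have 3 → 1 := by
    rintro ⟨V, hV, σ, hσ, hσx⟩
    obtain ⟨W, hW, hWo⟩ :=
      exists_isOpenImmersion_nhd_of_local_section f U hiso hdense V σ hσ ⟨f.base x, hV⟩
    rw [hσx] at hW
    exact ⟨W, hW, inferInstance⟩
  tfae_finish

end Groth.Agent.S17728
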