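import Groth.Statements.S13428
import Mathlib
import Groth.Agent.S15993
import Groth.Agent.S17728

set_option autoImplicit false
universe u
open CategoryTheory AlgebraicGeometry
open NeronHD

namespace Groth.Agent.S13428

open CategoryTheory.Limits

/-- Ring-level key lemma: a standard smooth algebra which becomes formally unramified after a
nontrivial localization away from one element is formally unramified. -/
theorem formallyUnramified_of_isStandardSmooth_of_away
    {A B B' : Type u} [CommRing A] [CommRing B] [CommRing B'] [Algebra A B] [Algebra B B']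
    [Algebra A B'] [IsScalarTower A B B'] [Algebra.IsStandardSmooth A B]
    (b : B) [IsLocalization.Away b B'] [Nontrivial B'] [Algebra.FormallyUnramified A B'] :
    Algebra.FormallyUnramified A B := by
  rw [Algebra.formallyUnramified_iff]
  have hfree : Module.Free B Ω[B⁄A] := inferInstance
  let bas := Module.Free.chooseBasis B Ω[B⁄A]
  by_contra hns
  rw [not_subsingleton_iff_nontrivial] at hns
  have hne : Nonempty (Module.Free.ChooseBasisIndex B Ω[B⁄A]) := by
    by_contra hemp
    rw [not_nonempty_iff] at hemp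
    exact not_subsingleton _ (bas.repr.toEquiv.subsingleton)
  obtain ⟨i⟩ := hne
  have hsub : Subsingleton Ω[B'⁄A] := (Algebra.formallyUnramified_iff A B').mp inferInstance
  have hloc : IsLocalizedModule (Submonoid.powers b) (KaehlerDifferential.map A A B B') :=
    inferInstance
  have h0 : KaehlerDifferential.map A A B B' (bas i) = KaehlerDifferential.map A A B B' 0 :=
    Subsingleton.elim _ _
  obtain ⟨⟨_, n, rfl⟩, hc⟩ := (IsLocalizedModule.eq_iff_exists (Submonoid.powers b)
    (KaehlerDifferential.map A A B B')).mp h0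
  have hc' : b ^ n • bas i = 0 := by
    rw [smul_zero] at hc
    exact hc
  have hbn : b ^ n = 0 := by
    have := congrArg (fun v => bas.repr v i) hc'
    simpa using this
  have h1 : (algebraMap B B' b) ^ n = 0 := by rw [← map_pow, hbn, map_zero]
  have hunit : IsUnit (algebraMap B B' b) := IsLocalization.Away.algebraMap_isUnit b
  have : IsUnit ((algebraMap B B' b) ^ n) := hunit.pow n
  rw [h1] at this
  exact not_isUnit_zero this

theorem formallyUnramified_of_smooth_of_dense {X S : Scheme.{u}} (f : X ⟶ S) [Smooth f]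
    (S₀ : S.Opens) (hd : Dense ((f ⁻¹ᵁ S₀ : X.Opens) : Set X))
    (hu : FormallyUnramified (f ∣_ S₀)) : FormallyUnramified f := by
  have hQ : RingHom.StableUnderCompositionWithLocalizationAwaySource
      RingHom.FormallyUnramified :=
    (RingHom.FormallyUnramified.stableUnderComposition.stableUnderCompositionWithLocalizationAway
      RingHom.FormallyUnramified.holdsForLocalizationAway).left
  rw [HasRingHomProperty.iff_exists_appLE (P := @FormallyUnramified) hQ]
  intro x
  obtain ⟨U, hU, V, hV, hxV, e, hstd⟩ := Smooth.exists_isStandardSmooth f x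
  refine ⟨⟨U, hU⟩, ⟨V, hV⟩, hxV, e, ?_⟩
  obtain ⟨y, hyV, hyS₀⟩ : ∃ y, y ∈ V ∧ y ∈ f ⁻¹ᵁ S₀ := by
    obtain ⟨y, hy1, hy2⟩ := hd.inter_open_nonempty V.1 V.2 ⟨x, hxV⟩
    exact ⟨y, hy1, hy2⟩
  obtain ⟨a, ha_le, hya⟩ := hU.exists_basicOpen_le (V := S₀) ⟨f y, hyS₀⟩ (e hyV)
  let b : Γ(X, V) := f.appLE U V e a
  have hU' : IsAffineOpen (S.basicOpen a) := hU.basicOpen a
  have hV' : IsAffineOpen (X.basicOpen b) := hV.basicOpen b
  have e' : X.basicOpen b ≤ f ⁻¹ᵁ (S.basicOpen a) := by simp [b, Scheme.Hom.appLE]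
  have hVle : X.basicOpen b ≤ V := X.basicOpen_le b
  have hUle : S.basicOpen a ≤ U := S.basicOpen_le a
  have hbeq : X.basicOpen b = V ⊓ f ⁻¹ᵁ (S.basicOpen a) := Scheme.basicOpen_appLE f V U e a
  have hyb : y ∈ X.basicOpen b := by
    rw [hbeq]
    exact ⟨hyV, hya⟩
  have h1 : (f.appLE (S.basicOpen a) (X.basicOpen b) e').hom.FormallyUnramified := by
    have hA1 : IsAffineOpen (S₀.ι ⁻¹ᵁ (S.basicOpen a)) :=
      hU'.preimage_of_isOpenImmersion S₀.ι (by simpa using ha_le)
    have hle : X.basicOpen b ≤ f ⁻¹ᵁ S₀ := e'.trans (f.preimage_mono ha_le)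
    have hA2 : IsAffineOpen ((f ⁻¹ᵁ S₀).ι ⁻¹ᵁ (X.basicOpen b)) :=
      hV'.preimage_of_isOpenImmersion (f ⁻¹ᵁ S₀).ι (by simpa using hle)
    have hle2 : (f ⁻¹ᵁ S₀).ι ⁻¹ᵁ (X.basicOpen b) ≤ (f ∣_ S₀) ⁻¹ᵁ (S₀.ι ⁻¹ᵁ (S.basicOpen a)) := by
      intro z hz
      have hz' : (f ⁻¹ᵁ S₀).ι z ∈ X.basicOpen b := hz
      have h2 : f ((f ⁻¹ᵁ S₀).ι z) ∈ S.basicOpen a := e' hz'
      show S₀.ι ((f ∣_ S₀) z) ∈ S.basicOpen a
      rw [← Scheme.Hom.comp_apply, morphismRestrict_ι, Scheme.Hom.comp_apply]
      exact h2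
    have := HasRingHomProperty.appLE (P := @FormallyUnramified) (f ∣_ S₀) hu
      ⟨S₀.ι ⁻¹ᵁ (S.basicOpen a), hA1⟩ ⟨(f ⁻¹ᵁ S₀).ι ⁻¹ᵁ (X.basicOpen b), hA2⟩ hle2
    rw [morphismRestrict_appLE] at this
    have e1 : S₀.ι ''ᵁ (S₀.ι ⁻¹ᵁ (S.basicOpen a)) = S.basicOpen a := by
      rw [Scheme.Hom.image_preimage_eq_opensRange_inf, Scheme.Opens.opensRange_ι]
      exact inf_eq_right.mpr ha_le
    have e2 : (f ⁻¹ᵁ S₀).ι ''ᵁ ((f ⁻¹ᵁ S₀).ι ⁻¹ᵁ (X.basicOpen b)) = X.basicOpen b := by
      rw [Scheme.Hom.image_preimage_eq_opensRange_inf, Scheme.Opens.opensRange_ι]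
      exact inf_eq_right.mpr hle
    exact (Scheme.Hom.appLE_congr f _ e1 e2 (fun φ => φ.hom.FormallyUnramified)).mp this
  -- algebra structures
  letI alg1 : Algebra Γ(S, U) Γ(X, V) := (f.appLE U V e).hom.toAlgebra
  haveI : Algebra.IsStandardSmooth Γ(S, U) Γ(X, V) := hstd
  letI alg2 : Algebra Γ(S, U) Γ(X, X.basicOpen b) :=
    ((algebraMap Γ(X, V) Γ(X, X.basicOpen b)).comp (f.appLE U V e).hom).toAlgebra
  haveI : IsScalarTower Γ(S, U) Γ(X, V) Γ(X, X.basicOpen b) := IsScalarTower.of_algebraMap_eq' rfl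
  haveI : IsLocalization.Away b Γ(X, X.basicOpen b) := hV.isLocalization_basicOpen b
  haveI : Nonempty (X.basicOpen b) := ⟨⟨y, hyb⟩⟩
  haveI : Nontrivial Γ(X, X.basicOpen b) := inferInstance
  haveI : Algebra.FormallyUnramified Γ(S, U) Γ(X, X.basicOpen b) := by
    have h2 : (S.presheaf.map (homOfLE hUle).op).hom.FormallyUnramified := by
      haveI := hU.isLocalization_basicOpen a
      exact RingHom.FormallyUnramified.holdsForLocalizationAway Γ(S, S.basicOpen a) a
    have h3 := RingHom.FormallyUnramified.comp h2 h1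
    have h4 : (f.appLE (S.basicOpen a) (X.basicOpen b) e').hom.comp
        (S.presheaf.map (homOfLE hUle).op).hom =
        (algebraMap Γ(X, V) Γ(X, X.basicOpen b)).comp (f.appLE U V e).hom := by
      have h5 : S.presheaf.map (homOfLE hUle).op ≫ f.appLE (S.basicOpen a) (X.basicOpen b) e' =
          f.appLE U V e ≫ X.presheaf.map (homOfLE hVle).op := by
        rw [Scheme.Hom.map_appLE, Scheme.Hom.appLE_map]
      exact congrArg CommRingCat.Hom.hom h5
    rw [h4] at h3
    exact h3
  exact formallyUnramified_of_isStandardSmooth_of_away (B' := Γ(X, X.basicOpen b)) b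

/-- A smooth morphism which is étale over an open whose preimage is dense is étale. -/
theorem etale_of_smooth_of_dense {X S : Scheme.{u}} (f : X ⟶ S) [Smooth f]
    (S₀ : S.Opens) (hd : Dense ((f ⁻¹ᵁ S₀ : X.Opens) : Set X))
    (hu : FormallyUnramified (f ∣_ S₀)) : Etale f := by
  have := formallyUnramified_of_smooth_of_dense f S₀ hd hu
  exact Etale.of_formallyUnramified_of_flat f


/-- Let S be a normal Noetherian scheme over a field of characteristic 0 and S₀ ⊆ S a
scheme-theoretically dense open. Let N be a smooth, separated and quasi-compact S-scheme with the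
Néron mapping property for S₀ ⊆ S (restriction to S₀ of S-morphisms from smooth S-schemes is
bijective) such that N|S₀ → S₀ is étale, so that N is a quasi-projective Néron model of the
quasi-projective étale S₀-scheme N|S₀. If M is a separated, quasi-compact, étale S-scheme and φ : M
→ N is an S-morphism restricting to an isomorphism over S₀ (so M is another quasi-projective étale
extension of N|S₀, and φ is its canonical map to the Néron model), then φ is an open immersion.
(Case of schemes of the published statement.) -/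
theorem result {k : Type u} [Field k] [CharZero k] {S : Scheme.{u}} (σ : S ⟶ Spec (CommRingCat.of k)) [IsNoetherian S] (hS : Pi1.IsNormalScheme S) (S₀ : S.Opens) (hS₀ : CInt.IsSchematicallyDense S₀)
    (N : Over S) [Smooth N.hom] [IsSeparated N.hom] [QuasiCompact N.hom]
    (hN : ∀ Z : Over S, Smooth Z.hom → Function.Bijective (fun g : Z ⟶ N => (Over.pullback S₀.ι).map g))
    [Etale ((Over.pullback S₀.ι).obj N).hom]
    (M : Over S) [Etale M.hom] [IsSeparated M.hom] [QuasiCompact M.hom]
    (φ : M ⟶ N) [IsIso ((Over.pullback S₀.ι).map φ)] :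
    IsOpenImmersion φ.left := by
  have hqc : QuasiCompact S₀.ι := inferInstance
  have hstd : IsSchemeTheoreticallyDominant S₀.ι :=
    Groth.Agent.S15993.isSchemeTheoreticallyDominant_ι _ hS₀
  -- Step A: `N.hom` is étale
  have hNet : Etale N.hom := by
    have hstdN : IsSchemeTheoreticallyDominant (N.hom ⁻¹ᵁ S₀).ι :=
      IsSchemeTheoreticallyDominant.of_isPullback (isPullback_morphismRestrict N.hom S₀)
    have hqcN : QuasiCompact (N.hom ⁻¹ᵁ S₀).ι :=
      MorphismProperty.of_isPullback (P := @QuasiCompact)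
        (isPullback_morphismRestrict N.hom S₀) hqc
    have hdom : IsDominant (N.hom ⁻¹ᵁ S₀).ι := inferInstance
    have hd : Dense ((N.hom ⁻¹ᵁ S₀ : N.left.Opens) : Set N.left) := by
      have := (N.hom ⁻¹ᵁ S₀).ι.denseRange
      rwa [DenseRange, Scheme.Opens.range_ι] at this
    have hu : FormallyUnramified (N.hom ∣_ S₀) := by
      have h1 : Etale (pullback.snd N.hom S₀.ι) := ‹Etale ((Over.pullback S₀.ι).obj N).hom›
      have h2 : N.hom ∣_ S₀ = (pullbackRestrictIsoRestrict N.hom S₀).inv ≫ pullback.snd N.hom S₀.ι := by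
        rw [Iso.eq_inv_comp, pullbackRestrictIsoRestrict_hom_morphismRestrict]
      rw [h2]
      infer_instance
    exact etale_of_smooth_of_dense N.hom S₀ hd hu
  -- Step B: `φ.left` is étale and separated
  have hw : φ.left ≫ N.hom = M.hom := Over.w φ
  have hφet : Etale φ.left := by
    have : Etale (φ.left ≫ N.hom) := by rw [hw]; infer_instance
    exact Etale.of_comp φ.left N.hom
  have hφsep : IsSeparated φ.left := by
    have : IsSeparated (φ.left ≫ N.hom) := by rw [hw]; infer_instance
    exact IsSeparated.of_comp φ.left N.hom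
  -- Step C: `φ.left` is a monomorphism
  let g := pullback.fst M.hom S₀.ι
  have hgstd : IsSchemeTheoreticallyDominant g := inferInstance
  have hgqc : QuasiCompact g := inferInstance
  have hgflat : Flat g := inferInstance
  have hmono : Mono (g ≫ φ.left) := by
    have h1 : g ≫ φ.left = ((Over.pullback S₀.ι).map φ).left ≫ pullback.fst N.hom S₀.ι := by
      show g ≫ φ.left = pullback.lift (pullback.fst M.hom S₀.ι ≫ φ.left) (pullback.snd M.hom S₀.ι) _ ≫
        pullback.fst N.hom S₀.ι
      rw [pullback.lift_fst]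
    rw [h1]
    have : IsIso ((Over.pullback S₀.ι).map φ).left :=
      (Over.forget _).map_isIso ((Over.pullback S₀.ι).map φ)
    infer_instance
  have hφmono : Mono φ.left := Groth.Agent.S17728.mono_of_std φ.left g hmono
  exact IsOpenImmersion.of_flat_of_mono φ.left

end Groth.Agent.S13428
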