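import Groth.Statements.S13432
import Mathlib
import Groth.Agent.Lib.Helper20NormFin
import Groth.Agent.Lib.Helper20NeronCat
import Groth.Agent.S15993

set_option autoImplicit false
universe u
open CategoryTheory AlgebraicGeometry
open NeronHD

namespace Groth.Agent.S13432
open CategoryTheory AlgebraicGeometry CategoryTheory.Limits
open Groth.Agent.Lib.Helper20.NeronCat Groth.Agent.Lib.Helper20NeronDesc
open Groth.Agent.Lib.Helper20NormFin


/-- Let S be a normal Noetherian scheme over a field of characteristic 0 and S₀ ⊆ S a
scheme-theoretically dense open. Let π : T → S be finite with T normal, and let N ⊆ T be the open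
subscheme where π is smooth (equivalently étale, π being finite). Then N → S has the Néron mapping
property for S₀ ⊆ S: for every smooth S-scheme Z, restriction to S₀ is a bijection from S-morphisms
Z → N onto S₀-morphisms Z|S₀ → N|S₀. (In the published statement T is the normal finite S-scheme
compactifying a given quasi-projective étale S-scheme and N is the maximal quasi-projective étale
scheme containing it; that origin of T plays no role in this part of the proof, so any finite T → S
with T normal is allowed here. Case of schemes, with smooth test schemes, of a statement about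
algebraic spaces.) -/
theorem result {k : Type u} [Field k] [CharZero k] {S : Scheme.{u}} (σ : S ⟶ Spec (CommRingCat.of k)) [IsNoetherian S] (hS : Pi1.IsNormalScheme S) (S₀ : S.Opens) (hS₀ : CInt.IsSchematicallyDense S₀)
    {T : Scheme.{u}} (π : T ⟶ S) [IsFinite π] [LocallyOfFinitePresentation π] (hT : Pi1.IsNormalScheme T) :
    ∀ Z : Over S, Smooth Z.hom → Function.Bijective (fun g : Z ⟶ Over.mk (π.smoothLocus.ι ≫ π) => (Over.pullback S₀.ι).map g) := by
  intro Z hZ
  rw [bijective_map_iff]
  have := hZ
  have hqc : QuasiCompact S₀.ι := inferInstance
  have hstd : IsSchemeTheoreticallyDominant S₀.ι :=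
    Groth.Agent.S15993.isSchemeTheoreticallyDominant_ι S₀ hS₀
  have : IsSeparated (π.smoothLocus.ι ≫ π) := inferInstance
  have : Flat Z.hom := inferInstance
  change Ext S₀.ι (Over.mk Z.hom) (Over.mk (π.smoothLocus.ι ≫ π))
  apply ext_of_forall_exists_local
  intro u hu z
  exact exists_local_extension_finite hS S₀ π hT Z.hom u hu z

end Groth.Agent.S13432
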