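import Groth.Statements.S13429
import Mathlib
import Groth.Agent.Lib.Helper20NormEt
import Groth.Agent.Lib.Helper20NeronCat
import Groth.Agent.S13432

set_option autoImplicit false
universe u
open CategoryTheory AlgebraicGeometry
open NeronHD

namespace Groth.Agent.S13429
open CategoryTheory AlgebraicGeometry CategoryTheory.Limits
open Groth.Agent.Lib.Helper20.NeronCat
open Groth.Agent.Lib.Helper20NormFin Groth.Agent.Lib.Helper20NormEt

instance locallyQuasiFinite_of_etale {X Y : Scheme.{u}} (f : X ⟶ Y) [Etale f] :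
    LocallyQuasiFinite f := ⟨fun {U} hU {V} hV e => by
  have h := f.etale_appLE hU hV e
  algebraize [(f.appLE U V e).hom]
  exact (inferInstance : Algebra.QuasiFinite Γ(Y, U) Γ(X, V))⟩

/-- a morphism from a smooth scheme to an étale scheme over the same base is an open map. -/
theorem isOpenMap_of_smooth_of_etale {Z P S : Scheme.{u}} (q : Z ⟶ S) [Smooth q] (p : P ⟶ S)
    [Etale p] (h : Z ⟶ P) (hh : h ≫ p = q) : IsOpenMap h := by
  let γ : Z ⟶ pullback q p := pullback.lift (𝟙 Z) h (by rw [Category.id_comp, hh])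
  have h1 : γ ≫ pullback.fst q p = 𝟙 Z := pullback.lift_fst _ _ _
  have h2 : γ ≫ pullback.snd q p = h := pullback.lift_snd _ _ _
  haveI : Etale (γ ≫ pullback.fst q p) := by rw [h1]; infer_instance
  haveI : Etale γ := Etale.of_comp γ (pullback.fst q p)
  haveI : Smooth (γ ≫ pullback.snd q p) := inferInstance
  haveI : Smooth h := h2 ▸ this
  exact h.isOpenMap

theorem charZero_fractionRing {k : Type u} [Field k] [CharZero k] {S : Scheme.{u}}
    (σ : S ⟶ Spec (CommRingCat.of k)) (U : S.Opens) [IsDomain Γ(S, U)] :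
    CharZero (FractionRing Γ(S, U)) := by
  let φ : k →+* FractionRing Γ(S, U) :=
    (algebraMap Γ(S, U) (FractionRing Γ(S, U))).comp
      ((σ.appLE ⊤ U le_top).hom.comp (Scheme.ΓSpecIso (CommRingCat.of k)).inv.hom)
  exact charZero_of_injective_ringHom φ.injective

/-- removing the closure of a set lying over `S₀` from an étale `S`-scheme with the Néron
extension property keeps the extension property. -/
theorem ext_of_open {S : Scheme.{u}} (S₀ : S.Opens) {T : Scheme.{u}} (π : T ⟶ S)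
    (W W' : T.Opens) (hWW' : W ≤ W') [Etale (W'.ι ≫ π)] (D : Set T)
    (hD : D ⊆ π ⁻¹' (S₀ : Set S)) (hW : ∀ t ∈ W', t ∉ closure D → t ∈ W)
    (hWD : ∀ t ∈ W, t ∉ closure D)
    (Z : Over S) [Smooth Z.hom] (h' : Ext S₀.ι Z (Over.mk (W'.ι ≫ π))) :
    Ext S₀.ι Z (Over.mk (W.ι ≫ π)) := by
  intro u hu
  have hu0 : u ≫ W.ι ≫ π = pullback.fst Z.hom S₀.ι ≫ Z.hom := hu
  let i : (W : Scheme.{u}) ⟶ (W' : Scheme.{u}) := T.homOfLE hWW'
  have hi : i ≫ W'.ι = W.ι := T.homOfLE_ι hWW'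
  have hu' : (u ≫ i) ≫ (Over.mk (W'.ι ≫ π)).hom = pullback.fst Z.hom S₀.ι ≫ Z.hom := by
    change (u ≫ i) ≫ W'.ι ≫ π = _
    rw [Category.assoc, reassoc_of% hi, hu0]
  obtain ⟨g', hg', huniq⟩ := h' (u ≫ i) hu'
  have hg'w : g'.left ≫ W'.ι ≫ π = Z.hom := Over.w g'
  -- the composite `Z → T`
  have hopen : IsOpenMap (g'.left ≫ W'.ι) :=
    W'.ι.isOpenEmbedding.isOpenMap.comp (isOpenMap_of_smooth_of_etale Z.hom (W'.ι ≫ π) g'.left hg'w)
  have hrange : Set.range (g'.left ≫ W'.ι) ⊆ Set.range W.ι := by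
    rintro _ ⟨z, rfl⟩
    rw [Scheme.Opens.range_ι]
    apply hW _ (by simp)
    intro hzC
    obtain ⟨_, ⟨z', rfl⟩, hz'D⟩ := mem_closure_iff.1 hzC _ hopen.isOpen_range ⟨z, rfl⟩
    have hz'S₀ : Z.hom z' ∈ S₀ := by
      have := hD hz'D
      rw [Set.mem_preimage, ← Scheme.Hom.comp_apply, Category.assoc, hg'w] at this
      exact this
    obtain ⟨z'', rfl⟩ : z' ∈ Set.range (pullback.fst Z.hom S₀.ι) := by
      rw [Scheme.Pullback.range_fst, Scheme.Opens.range_ι]
      exact hz'S₀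
    have h1 : (g'.left ≫ W'.ι) (pullback.fst Z.hom S₀.ι z'') = W.ι (u z'') := by
      rw [← Scheme.Hom.comp_apply, ← Category.assoc, hg', Category.assoc, hi, Scheme.Hom.comp_apply]
    rw [h1] at hz'D
    exact hWD _ (u z'').2 (subset_closure hz'D)
  let v : Z.left ⟶ (W : Scheme.{u}) := IsOpenImmersion.lift W.ι (g'.left ≫ W'.ι) hrange
  have hv : v ≫ W.ι = g'.left ≫ W'.ι := IsOpenImmersion.lift_fac _ _ _
  refine ⟨Over.homMk v (by change v ≫ W.ι ≫ π = _; rw [reassoc_of% hv, hg'w]), ?_, ?_⟩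
  · change pullback.fst Z.hom S₀.ι ≫ v = u
    rw [← cancel_mono W.ι, Category.assoc, hv, ← Category.assoc, hg', Category.assoc, hi]
  · intro g₂ hg₂
    have h2 : g₂ ≫ (Over.homMk i (by change i ≫ W'.ι ≫ π = W.ι ≫ π; rw [reassoc_of% hi]) :
        Over.mk (W.ι ≫ π) ⟶ Over.mk (W'.ι ≫ π)) = g' := by
      apply huniq
      change pullback.fst Z.hom S₀.ι ≫ g₂.left ≫ i = u ≫ i
      rw [← Category.assoc, hg₂]
    apply Over.OverMorphism.ext
    change g₂.left = v
    rw [← cancel_mono W.ι, hv, ← h2]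
    change g₂.left ≫ W.ι = (g₂.left ≫ i) ≫ W'.ι
    rw [Category.assoc, hi]

theorem exists_iso_restrict {S : Scheme.{u}} (S₀ : S.Opens) {T : Scheme.{u}} (π : T ⟶ S)
    (W : T.Opens) (N₀ : Over (S₀ : Scheme.{u})) (j : N₀.left ⟶ T) [IsOpenImmersion j]
    (hj : j ≫ π = N₀.hom ≫ S₀.ι)
    (hrange : Set.range j = (W : Set T) ∩ π ⁻¹' (S₀ : Set S)) :
    Nonempty ((Over.pullback S₀.ι).obj (Over.mk (W.ι ≫ π)) ≅ N₀) := by
  let a : pullback (W.ι ≫ π) S₀.ι ⟶ T := pullback.fst (W.ι ≫ π) S₀.ι ≫ W.ι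
  have ha : Set.range a = Set.range j := by
    rw [hrange, Scheme.Hom.comp_base, TopCat.coe_comp, Set.range_comp, Scheme.Pullback.range_fst,
      Scheme.Opens.range_ι]
    ext t
    constructor
    · rintro ⟨w, hw, rfl⟩
      exact ⟨w.2, hw⟩
    · rintro ⟨htW, htS⟩
      exact ⟨⟨t, htW⟩, htS, rfl⟩
  let e₀ : pullback (W.ι ≫ π) S₀.ι ≅ N₀.left := IsOpenImmersion.isoOfRangeEq a j ha
  have he₀ : e₀.hom ≫ j = a := IsOpenImmersion.isoOfRangeEq_hom_fac a j ha
  refine ⟨Over.isoMk e₀ ?_⟩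
  dsimp [Over.pullback]
  rw [← cancel_mono S₀.ι, Category.assoc, ← hj, reassoc_of% he₀, ← pullback.condition]
  simp [a]

theorem main_aux {k : Type u} [Field k] [CharZero k] {S : Scheme.{u}}
    (σ : S ⟶ Spec (CommRingCat.of k)) [IsNoetherian S] (hS : Pi1.IsNormalScheme S) (S₀ : S.Opens)
    (hS₀ : CInt.IsSchematicallyDense S₀) (N₀ : Over (S₀ : Scheme.{u}))
    [Smooth (N₀.hom ≫ S₀.ι)]
    {T : Scheme.{u}} (π : T ⟶ S) [IsFinite π] (hT : Pi1.IsNormalScheme T)
    (j : N₀.left ⟶ T) [IsOpenImmersion j] (hj : j ≫ π = N₀.hom ≫ S₀.ι) :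
    ∃ (N : Over S) (e : (Over.pullback S₀.ι).obj N ≅ N₀), Etale N.hom ∧ IsSeparated N.hom ∧ QuasiCompact N.hom ∧
      ∀ Z : Over S, Smooth Z.hom → Function.Bijective (fun g : Z ⟶ N => (Over.pullback S₀.ι).map g) := by
  have hchar : ∀ (U : S.Opens), IsAffineOpen U → IsDomain Γ(S, U) →
      CharZero (FractionRing Γ(S, U)) := fun U _ hdom => by
    haveI := hdom
    exact charZero_fractionRing σ U
  haveI : LocallyOfFinitePresentation π := inferInstance
  haveI : IsLocallyNoetherian T := LocallyOfFiniteType.isLocallyNoetherian π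
  haveI : CompactSpace T := QuasiCompact.compactSpace_of_compactSpace π
  haveI : IsNoetherian T := {}
  let D : Set T := (π ⁻¹' (S₀ : Set S)) \ Set.range j
  let W : T.Opens := π.smoothLocus ⊓ ⟨(closure D)ᶜ, isClosed_closure.isOpen_compl⟩
  have hjsm : ∀ x : N₀.left, j x ∈ π.smoothLocus := by
    intro x
    have h1 : j ⁻¹ᵁ π.smoothLocus = (j ≫ π).smoothLocus := Scheme.Hom.preimage_smoothLocus_eq j π
    have h2 : (j ≫ π).smoothLocus = ⊤ := by
      rw [Scheme.Hom.smoothLocus_eq_top_iff, hj]; infer_instance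
    have : x ∈ j ⁻¹ᵁ π.smoothLocus := by rw [h1, h2]; trivial
    exact this
  have hjS₀ : ∀ x : N₀.left, π (j x) ∈ S₀ := by
    intro x
    rw [← Scheme.Hom.comp_apply, hj, Scheme.Hom.comp_apply]
    exact (N₀.hom x).2
  have hjD : ∀ x : N₀.left, j x ∉ closure D := by
    intro x hx
    obtain ⟨t, htj, htD⟩ := mem_closure_iff.1 hx _ j.isOpenEmbedding.isOpen_range ⟨x, rfl⟩
    exact htD.2 htj
  have hrange : Set.range j = (W : Set T) ∩ π ⁻¹' (S₀ : Set S) := by
    ext t
    constructor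
    · rintro ⟨x, rfl⟩
      exact ⟨⟨hjsm x, hjD x⟩, hjS₀ x⟩
    · rintro ⟨⟨-, htD⟩, htS⟩
      by_contra htj
      exact htD (subset_closure ⟨htS, htj⟩)
  haveI : Smooth (π.smoothLocus.ι ≫ π) := by
    rw [← Scheme.Hom.smoothLocus_eq_top_iff, ← Scheme.Hom.preimage_smoothLocus_eq]
    simp
  have hT' : Pi1.IsNormalScheme (π.smoothLocus : Scheme.{u}) :=
    isNormalScheme_of_smooth hT π.smoothLocus.ι
  haveI : Etale (π.smoothLocus.ι ≫ π) :=
    etale_of_smooth_of_locallyQuasiFinite _ (fun s => (hS s).1) (fun t => (hT' t).1) hchar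
  have hle : W ≤ π.smoothLocus := inf_le_left
  haveI : Etale (W.ι ≫ π) := by
    rw [← T.homOfLE_ι hle, Category.assoc]; infer_instance
  obtain ⟨e⟩ := exists_iso_restrict S₀ π W N₀ j hj hrange
  refine ⟨Over.mk (W.ι ≫ π), e, ‹Etale (W.ι ≫ π)›, ?_, ?_, ?_⟩
  · change IsSeparated (W.ι ≫ π); infer_instance
  · change QuasiCompact (W.ι ≫ π); infer_instance
  · intro Z hZ
    haveI := hZ
    rw [bijective_map_iff]
    have h' := (bijective_map_iff S₀.ι Z _).1 (Groth.Agent.S13432.result σ hS S₀ hS₀ π hT Z hZ)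
    exact ext_of_open S₀ π W π.smoothLocus hle D Set.sdiff_subset
      (fun t ht htD => ⟨ht, htD⟩) (fun t ht => ht.2) Z h'


/-- Let S be a normal Noetherian scheme over a field of characteristic 0, S₀ ⊆ S a scheme-theoretically
dense open, and N₀ → S₀ separated, quasi-compact and étale (a quasi-projective étale S₀-scheme).
Then N₀ has a quasi-projective Néron model: there exist a separated, quasi-compact, étale S-scheme N
and an isomorphism of S₀-schemes N|S₀ ≅ N₀ such that N has the Néron mapping property for S₀ ⊆ S,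
i.e. for every smooth S-scheme Z restriction to S₀ is a bijection from S-morphisms Z → N onto
S₀-morphisms Z|S₀ → N|S₀ (this determines N up to unique isomorphism). (Case of schemes, with smooth
test schemes, of the published statement.) -/
theorem result {k : Type u} [Field k] [CharZero k] {S : Scheme.{u}} (σ : S ⟶ Spec (CommRingCat.of k)) [IsNoetherian S] (hS : Pi1.IsNormalScheme S) (S₀ : S.Opens) (hS₀ : CInt.IsSchematicallyDense S₀)
    (N₀ : Over (S₀ : Scheme.{u})) [Etale N₀.hom] [IsSeparated N₀.hom] [QuasiCompact N₀.hom] :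
    ∃ (N : Over S) (e : (Over.pullback S₀.ι).obj N ≅ N₀), Etale N.hom ∧ IsSeparated N.hom ∧ QuasiCompact N.hom ∧
      ∀ Z : Over S, Smooth Z.hom → Function.Bijective (fun g : Z ⟶ N => (Over.pullback S₀.ι).map g) := by
  haveI hqc : QuasiCompact S₀.ι := inferInstance
  let f₀ : N₀.left ⟶ S := N₀.hom ≫ S₀.ι
  haveI : Etale f₀ := inferInstance
  haveI : IsSeparated f₀ := inferInstance
  haveI : QuasiCompact f₀ := inferInstance
  haveI : IsLocallyNoetherian N₀.left := LocallyOfFiniteType.isLocallyNoetherian f₀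
  have hN₀ : Pi1.IsNormalScheme N₀.left := isNormalScheme_of_smooth hS f₀
  have hchar : ∀ (U : S.Opens), IsAffineOpen U → IsDomain Γ(S, U) →
      CharZero (FractionRing Γ(S, U)) := fun U _ hdom => by
    haveI := hdom
    exact charZero_fractionRing σ U
  haveI : IsFinite f₀.fromNormalization := isFinite_fromNormalization f₀ hS hN₀ hchar
  have hT : Pi1.IsNormalScheme f₀.normalization := isNormalScheme_normalization f₀ hN₀
  exact main_aux σ hS S₀ hS₀ N₀ f₀.fromNormalization hT f₀.toNormalization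
    f₀.toNormalization_fromNormalization

end Groth.Agent.S13429
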