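import Groth.Statements.S13430
import Mathlib
import Groth.Agent.Lib.Helper20NeronCat

set_option autoImplicit false
universe u
open CategoryTheory MonoidalCategory CartesianMonoidalCategory MonObj GrpObj AlgebraicGeometry
open NeronHD

namespace Groth.Agent.S13430


open Groth.Agent.Lib.Helper20.NeronCat

/-- the Néron mapping property passes to products. -/
lemma nmp_tensor {S S₀ : Scheme.{u}} (j : S₀ ⟶ S) (A B : Over S)
    (hA : ∀ Z : Over S, Smooth Z.hom → Function.Bijective (fun g : Z ⟶ A => (Over.pullback j).map g))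
    (hB : ∀ Z : Over S, Smooth Z.hom → Function.Bijective (fun g : Z ⟶ B => (Over.pullback j).map g)) :
    ∀ Z : Over S, Smooth Z.hom →
      Function.Bijective (fun g : Z ⟶ A ⊗ B => (Over.pullback j).map g) := by
  intro Z hZ
  change Function.Bijective (fun g : Z ⟶ Over.mk (Limits.pullback.fst A.hom B.hom ≫ A.hom) =>
    (Over.pullback j).map g)
  rw [bijective_map_iff]
  exact Ext.prod ((bijective_map_iff j Z A).mp (hA Z hZ)) ((bijective_map_iff j Z B).mp (hB Z hZ))

lemma smooth_tensor_hom {S : Scheme.{u}} (A B : Over S) [Smooth A.hom] [Smooth B.hom] :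
    Smooth (A ⊗ B).hom := by
  have h1 : (A ⊗ B).hom = (fst A B).left ≫ A.hom := (Over.w (fst A B)).symm
  have h2 : (fst A B).left = Limits.pullback.fst A.hom B.hom := rfl
  rw [h1, h2]
  infer_instance



/-- The implication ⇐: let S be a locally Noetherian scheme over a field of characteristic 0 and S₀ ⊆ S
a scheme-theoretically dense open. Let G be a smooth group scheme over S and N a smooth S-scheme,
both with the Néron mapping property for S₀ ⊆ S (restriction to S₀ of S-morphisms from smooth
S-schemes is bijective), and let a be an action of G on N over S whose translation map G ×_S N → N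
×_S N, (g, x) ↦ (g·x, x), restricts to an isomorphism over S₀, so that N|S₀ is a pseudo-torsor under
G|S₀ and a is the unique extension of that action. If N → S is surjective, then the translation map
is an isomorphism: N is a pseudo-torsor under G over all of S (and then a torsor for the étale
topology, N → S being smooth and surjective). (Case of schemes of a statement about group algebraic
spaces; the converse 'torsor ⇒ surjective' presumes local triviality.) -/
theorem result {k : Type u} [Field k] [CharZero k] {S : Scheme.{u}} (σ : S ⟶ Spec (CommRingCat.of k)) [IsLocallyNoetherian S] (S₀ : S.Opens) (hS₀ : CInt.IsSchematicallyDense S₀)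
    (G : Over S) [GrpObj G] [Smooth G.hom]
    (hG : ∀ Z : Over S, Smooth Z.hom → Function.Bijective (fun g : Z ⟶ G => (Over.pullback S₀.ι).map g))
    (N : Over S) [Smooth N.hom] [Surjective N.hom]
    (hN : ∀ Z : Over S, Smooth Z.hom → Function.Bijective (fun g : Z ⟶ N => (Over.pullback S₀.ι).map g))
    (a : AlgGrp.Action G N)
    (h0 : IsIso ((Over.pullback S₀.ι).map (lift a.act (snd G N)))) :
    NonAbH1.IsPseudoTorsorSch a := by
  unfold NonAbH1.IsPseudoTorsorSch
  set Φ := lift a.act (snd G N) with hΦ
  have hGN := nmp_tensor S₀.ι G N hG hN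
  have hNN := nmp_tensor S₀.ι N N hN hN
  have sGN : Smooth (G ⊗ N).hom := smooth_tensor_hom G N
  have sNN : Smooth (N ⊗ N).hom := smooth_tensor_hom N N
  obtain ⟨Ψ, hΨ⟩ := (hGN (N ⊗ N) sNN).2 (inv ((Over.pullback S₀.ι).map Φ))
  have hΨ : (Over.pullback S₀.ι).map Ψ = inv ((Over.pullback S₀.ι).map Φ) := hΨ
  refine ⟨Ψ, ?_, ?_⟩
  · apply (hGN (G ⊗ N) sGN).1
    change (Over.pullback S₀.ι).map (Φ ≫ Ψ) = (Over.pullback S₀.ι).map (𝟙 _)
    rw [Functor.map_comp, hΨ, IsIso.hom_inv_id, CategoryTheory.Functor.map_id]
  · apply (hNN (N ⊗ N) sNN).1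
    change (Over.pullback S₀.ι).map (Ψ ≫ Φ) = (Over.pullback S₀.ι).map (𝟙 _)
    rw [Functor.map_comp, hΨ, IsIso.inv_hom_id, CategoryTheory.Functor.map_id]

end Groth.Agent.S13430
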