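import Groth.Statements.S16227
import Mathlib
import Groth.Agent.Lib.Helper12BundleMap
import Groth.Agent.Lib.Helper12PseudoTorsor
import Groth.Agent.S14276

set_option autoImplicit false
universe u
open CategoryTheory MonoidalCategory CartesianMonoidalCategory MonObj AlgebraicGeometry
open PrincBund

namespace Groth.Agent.S16227


open Groth.Agent.Lib.Helper12 Groth.Agent.Lib.Helper12.BundleMap
  Groth.Agent.Lib.Helper12.RelTorsor Groth.Agent.Lib.Helper12.PseudoTorsor

/-- the etale precoverage is contained in the fpqc precoverage. -/
lemma etalePrecoverage_le_fpqcPrecoverage :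
    Scheme.etalePrecoverage.{u} ≤ Scheme.fpqcPrecoverage := by
  refine le_trans ?_ Scheme.fppfPrecoverage_le_fpqcPrecoverage
  unfold Scheme.etalePrecoverage Scheme.fppfPrecoverage
  exact Scheme.precoverage_mono fun X Y f hf => by
    haveI : Etale f := hf
    exact ⟨inferInstance, inferInstance⟩

/-- local triviality for the etale topology implies local triviality for the fpqc topology. -/
lemma isLocallyTrivialFor_fpqc_of_etale {S : Scheme.{u}} {X : Over S}
    (h : NonAbH1.IsLocallyTrivialFor Scheme.etalePrecoverage X) :
    NonAbH1.IsLocallyTrivialFor Scheme.fpqcPrecoverage X := by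
  obtain ⟨R, hR, hsec⟩ := h
  exact ⟨R, etalePrecoverage_le_fpqcPrecoverage _ hR, hsec⟩

/-- a pseudo-torsor over `S` is a principal bundle over the terminal object. -/
lemma isPullback_toUnit_of_isPseudoTorsorSch {S : Scheme.{u}} {G E : Over S} [GrpObj G]
    (aE : AlgGrp.Action G E) (h : NonAbH1.IsPseudoTorsorSch aE) :
    IsPullback aE.act (snd G E) (toUnit E) (toUnit E) := by
  refine isPullback_of_existsUnique (toUnit_unique _ _) ?_
  intro T x₁ x₂ _
  exact ⟨lift x₁ x₂ ≫ diff aE h, diff_act aE h x₁ x₂,
    fun g hg => diff_unique aE h g x₁ x₂ hg⟩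



/-- Let i : G → H be a homomorphism of group schemes over a base scheme S which is a closed immersion, F
an H-torsor over S for the etale topology with action aF, and π : F → Q a morphism of S-schemes
exhibiting Q as the quotient F/G, in the sense that the square formed by the restricted action G ×_S
F → F, the projection G ×_S F → F and π twice is cartesian and π acquires sections etale-locally on
Q. Then a reduction of the structure group of F to G, namely a G-torsor E over S for the etale
topology together with an i-equivariant morphism φ : E → F over S, determines a unique section σ of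
Q over S such that the composite E → S → Q equals φ followed by π, and for this σ the square (φ, E →
S; π, σ) is cartesian, so that E is recovered as the pullback of F along σ. (Stated over an
arbitrary base scheme and for arbitrary group schemes; the quotient F/G is taken as data through its
torsor property rather than constructed.) -/
theorem result
    {S : Scheme.{u}} {G H F Q : Over S} [GrpObj G] [GrpObj H]
    (i : G ⟶ H) [IsMonHom i] [IsClosedImmersion i.left]
    (aF : AlgGrp.Action H F) (hF : NonAbH1.IsTorsorFor Scheme.etalePrecoverage aF)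
    (π : F ⟶ Q)
    (hsq : IsPullback (aF.restrict i).act (snd G F) π π)
    (hloc : NonAbH1.IsLocallyTrivialFor Scheme.etalePrecoverage (Over.mk π.left : Over Q.left))
    {E : Over S} (aE : AlgGrp.Action G E) (hE : NonAbH1.IsTorsorFor Scheme.etalePrecoverage aE)
    (φ : E ⟶ F) (hφ : AlgGrp.Action.IsEquivariant aE (aF.restrict i) φ) :
    (∃! σ : 𝟙_ (Over S) ⟶ Q, toUnit E ≫ σ = φ ≫ π) ∧
      ∀ σ : 𝟙_ (Over S) ⟶ Q, toUnit E ≫ σ = φ ≫ π → IsPullback φ (toUnit E) π σ := by
  have hEloc : NonAbH1.IsLocallyTrivialFor Scheme.fpqcPrecoverage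
      (Over.mk (toUnit E).left : Over (𝟙_ (Over S)).left) := by
    obtain ⟨R, hR, hsec⟩ := isLocallyTrivialFor_fpqc_of_etale hE.2
    exact ⟨R, hR, hsec⟩
  have cE := isPullback_toUnit_of_isPseudoTorsorSch aE hE.1
  have hφ' : aE.act ≫ φ = (G ◁ φ) ≫ (aF.restrict i).act := hφ
  have hφpt : ∀ {W : Over S} (g : W ⟶ G) (e : W ⟶ E),
      (lift g e ≫ aE.act) ≫ φ = lift g (e ≫ φ) ≫ (aF.restrict i).act := by
    intro W g e
    rw [Category.assoc, hφ', ← Category.assoc]
    congr 1
    apply CartesianMonoidalCategory.hom_ext <;> simp
  refine ⟨?_, ?_⟩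
  · refine existsUnique_desc_over (toUnit E) hEloc (φ ≫ π) ?_
    intro W p₁ p₂ _
    have h1 := diff_act aE hE.1 p₁ p₂
    rw [← h1, ← Category.assoc, hφpt, Category.assoc, hsq.w, ← Category.assoc, lift_snd,
      Category.assoc]
  · intro σ hσ
    exact (isPullback_of_equivariant aE (aF.restrict i) (toUnit E) π cE hsq hEloc φ hφ' σ
      hσ).flip

end Groth.Agent.S16227
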