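import Groth.Statements.S13431
import Mathlib
import Groth.Agent.Lib.Helper20NeronCat
import Groth.Agent.Lib.Helper12LocSplit
import Groth.Agent.Lib.Helper12PseudoTorsor
import Groth.Agent.Lib.Helper12Act
import Groth.Agent.S0412
import Groth.Agent.S14276
import Groth.Agent.S16227
import Groth.Agent.S13430

set_option autoImplicit false
universe u
open CategoryTheory MonoidalCategory CartesianMonoidalCategory MonObj GrpObj AlgebraicGeometry
open NeronHD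

namespace Groth.Agent.S13431


open Groth.Agent.Lib.Helper20.NeronCat Groth.Agent.Lib.Helper12 Groth.Agent.Lib.Helper12.LocSplit
  Groth.Agent.Lib.Helper12.PseudoTorsor

variable {S : Scheme.{u}}

/-- `O`-extension property of `A` at `Z`: morphisms `Z ⊗ O ⟶ A` extend uniquely to `Z`. -/
def ExtP (O Z A : Over S) : Prop := ∀ u : Z ⊗ O ⟶ A, ∃! g : Z ⟶ A, fst Z O ≫ g = u

lemma extP_iff {S₀ : Scheme.{u}} (f : S₀ ⟶ S) (Z A : Over S) :
    Function.Bijective (fun g : Z ⟶ A => (Over.pullback f).map g) ↔ ExtP (Over.mk f) Z A := by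
  rw [bijective_map_iff]
  constructor
  · intro h u
    have hu : u.left ≫ A.hom = Limits.pullback.fst Z.hom f ≫ Z.hom := Over.w u
    obtain ⟨g, hg, hgu⟩ := h u.left hu
    refine ⟨g, ?_, ?_⟩
    · ext
      exact hg
    · intro g' hg'
      apply hgu
      exact congrArg (fun m => m.left) hg'
  · intro h u hu
    obtain ⟨g, hg, hgu⟩ := h (Over.homMk u hu)
    refine ⟨g, congrArg (fun m => m.left) hg, ?_⟩
    intro g' hg'
    apply hgu
    ext
    exact hg'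

variable {G N : Over S} [GrpObj G] (a : AlgGrp.Action G N) (ha : NonAbH1.IsPseudoTorsorSch a)
  (hloc : NonAbH1.IsLocallyTrivialFor Scheme.fpqcPrecoverage N) (O : Over S)

include ha hloc in
/-- the extension property passes from a pseudo-torsor with local sections to the group. -/
theorem extP_group_of_torsor (Z : Over S) (hN1 : ExtP O (N ⊗ Z) N)
    (hN2 : ExtP O (N ⊗ (N ⊗ Z)) N) : ExtP O Z G := by
  intro u
  -- notation
  obtain ⟨U, hU⟩ : ∃ U : (N ⊗ Z) ⊗ O ⟶ G,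
    U = lift (fst (N ⊗ Z) O ≫ snd N Z) (snd (N ⊗ Z) O) ≫ u := ⟨_, rfl⟩
  obtain ⟨w, hw⟩ : ∃ w : (N ⊗ Z) ⊗ O ⟶ N,
    w = lift U (fst (N ⊗ Z) O ≫ fst N Z) ≫ a.act := ⟨_, rfl⟩
  obtain ⟨m, hm, hmu⟩ := hN1 w
  have hm : fst (N ⊗ Z) O ≫ m = w := hm
  obtain ⟨g', hg'⟩ : ∃ g' : N ⊗ Z ⟶ G, g' = lift m (fst N Z) ≫ diff a ha := ⟨_, rfl⟩
  have hA : lift g' (fst N Z) ≫ a.act = m := by rw [hg', diff_act]
  have hB : fst (N ⊗ Z) O ≫ g' = U := by
    rw [hg', ← Category.assoc, comp_lift, hm]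
    exact (diff_unique a ha U w _ hw.symm).symm
  -- constancy along the fibres
  have hconst : lift (fst N (N ⊗ Z)) (snd N (N ⊗ Z) ≫ snd N Z) ≫ g' =
      lift (snd N (N ⊗ Z) ≫ fst N Z) (snd N (N ⊗ Z) ≫ snd N Z) ≫ g' := by
    set q₁ : N ⊗ (N ⊗ Z) ⟶ N ⊗ Z := lift (fst N (N ⊗ Z)) (snd N (N ⊗ Z) ≫ snd N Z) with hq₁
    set q₂ : N ⊗ (N ⊗ Z) ⟶ N ⊗ Z :=
      lift (snd N (N ⊗ Z) ≫ fst N Z) (snd N (N ⊗ Z) ≫ snd N Z) with hq₂
    set n₂ : N ⊗ (N ⊗ Z) ⟶ N := snd N (N ⊗ Z) ≫ fst N Z with hn₂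
    have hq₂n : q₂ ≫ fst N Z = n₂ := by simp [q₂, n₂]
    have e1 : lift (q₁ ≫ g') n₂ ≫ a.act = q₂ ≫ m := by
      obtain ⟨r, -, hru⟩ := hN2 (fst (N ⊗ (N ⊗ Z)) O ≫ q₂ ≫ m)
      rw [hru (q₂ ≫ m) rfl]
      apply hru
      change fst (N ⊗ (N ⊗ Z)) O ≫ lift (q₁ ≫ g') n₂ ≫ a.act = fst (N ⊗ (N ⊗ Z)) O ≫ q₂ ≫ m
      have h1 : fst (N ⊗ (N ⊗ Z)) O ≫ q₂ = (q₂ ▷ O) ≫ fst (N ⊗ Z) O := by simp
      have h2 : fst (N ⊗ (N ⊗ Z)) O ≫ q₁ = (q₁ ▷ O) ≫ fst (N ⊗ Z) O := by simp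
      rw [reassoc_of% h1, hm, hw, ← Category.assoc, comp_lift, reassoc_of% h2, hB, hU]
      rw [← Category.assoc (q₂ ▷ O), comp_lift]
      congr 1
      apply CartesianMonoidalCategory.hom_ext
      · rw [lift_fst, lift_fst]
        simp only [← Category.assoc]
        congr 1
        apply CartesianMonoidalCategory.hom_ext <;> simp [q₁, q₂]
      · rw [lift_snd, lift_snd]
        simp [q₂, n₂]
    have e2 : q₂ ≫ m = lift (q₂ ≫ g') n₂ ≫ a.act := by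
      rw [← hA, ← Category.assoc, comp_lift, hq₂n]
    rw [diff_unique a ha (q₁ ≫ g') _ n₂ e1, diff_unique a ha (q₂ ≫ g') _ n₂ e2.symm]
  obtain ⟨g, hg, hgu⟩ := existsUnique_desc_snd hloc g' (by
    intro W x₁ x₂ y
    have h1 := congrArg (fun t => lift x₁ (lift x₂ y) ≫ t) hconst
    simp only [← Category.assoc, comp_lift] at h1
    simpa using h1)
  have hg : snd N Z ≫ g = g' := hg
  haveI := epi_snd hloc (Z ⊗ O)
  have he : (α_ N Z O).inv ≫ fst (N ⊗ Z) O ≫ snd N Z = snd N (Z ⊗ O) ≫ fst Z O := by simp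
  have he2 : (α_ N Z O).inv ≫ lift (fst (N ⊗ Z) O ≫ snd N Z) (snd (N ⊗ Z) O) =
      snd N (Z ⊗ O) := by
    apply CartesianMonoidalCategory.hom_ext <;> simp
  refine ⟨g, ?_, ?_⟩
  · change fst Z O ≫ g = u
    rw [← cancel_epi (snd N (Z ⊗ O)), ← reassoc_of% he, hg, hB, hU, reassoc_of% he2]
  · intro g₁ hg₁
    have hg₁ : fst Z O ≫ g₁ = u := hg₁
    apply hgu
    change snd N Z ≫ g₁ = g'
    rw [hg']
    apply diff_unique
    apply hmu
    change fst (N ⊗ Z) O ≫ lift (snd N Z ≫ g₁) (fst N Z) ≫ a.act = w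
    rw [hw, ← Category.assoc, comp_lift]
    congr 2
    rw [hU, ← hg₁]
    simp

include ha hloc in
/-- the extension property passes from the group to a pseudo-torsor with local sections. -/
theorem extP_torsor_of_group (Z : Over S) (hG0 : ExtP O Z G) (hG1 : ExtP O (N ⊗ Z) G)
    (hG2 : ExtP O (N ⊗ (N ⊗ Z)) G) : ExtP O Z N := by
  intro u
  obtain ⟨U, hU⟩ : ∃ U : (N ⊗ Z) ⊗ O ⟶ N,
    U = lift (fst (N ⊗ Z) O ≫ snd N Z) (snd (N ⊗ Z) O) ≫ u := ⟨_, rfl⟩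
  obtain ⟨w, hw⟩ : ∃ w : (N ⊗ Z) ⊗ O ⟶ G,
    w = lift U (fst (N ⊗ Z) O ≫ fst N Z) ≫ diff a ha := ⟨_, rfl⟩
  obtain ⟨d, hd, hdu⟩ := hG1 w
  have hd : fst (N ⊗ Z) O ≫ d = w := hd
  obtain ⟨m', hm'⟩ : ∃ m' : N ⊗ Z ⟶ N, m' = lift d (fst N Z) ≫ a.act := ⟨_, rfl⟩
  have hB : fst (N ⊗ Z) O ≫ m' = U := by
    rw [hm', ← Category.assoc, comp_lift, hd, hw, diff_act]
  have hconst : lift (fst N (N ⊗ Z)) (snd N (N ⊗ Z) ≫ snd N Z) ≫ m' =
      lift (snd N (N ⊗ Z) ≫ fst N Z) (snd N (N ⊗ Z) ≫ snd N Z) ≫ m' := by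
    set q₁ : N ⊗ (N ⊗ Z) ⟶ N ⊗ Z := lift (fst N (N ⊗ Z)) (snd N (N ⊗ Z) ≫ snd N Z) with hq₁
    set q₂ : N ⊗ (N ⊗ Z) ⟶ N ⊗ Z :=
      lift (snd N (N ⊗ Z) ≫ fst N Z) (snd N (N ⊗ Z) ≫ snd N Z) with hq₂
    set n₁ : N ⊗ (N ⊗ Z) ⟶ N := fst N (N ⊗ Z) with hn₁
    set n₂ : N ⊗ (N ⊗ Z) ⟶ N := snd N (N ⊗ Z) ≫ fst N Z with hn₂
    have hq₁n : q₁ ≫ fst N Z = n₁ := by simp [q₁, n₁]
    have hq₂n : q₂ ≫ fst N Z = n₂ := by simp [q₂, n₂]
    have e1 : q₁ ≫ d = (q₂ ≫ d) * (lift n₂ n₁ ≫ diff a ha) := by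
      obtain ⟨r, -, hru⟩ := hG2 (fst (N ⊗ (N ⊗ Z)) O ≫ q₁ ≫ d)
      rw [hru (q₁ ≫ d) rfl]
      symm
      apply hru
      change fst (N ⊗ (N ⊗ Z)) O ≫ ((q₂ ≫ d) * (lift n₂ n₁ ≫ diff a ha)) =
        fst (N ⊗ (N ⊗ Z)) O ≫ q₁ ≫ d
      have h1 : fst (N ⊗ (N ⊗ Z)) O ≫ q₂ = (q₂ ▷ O) ≫ fst (N ⊗ Z) O := by simp
      have h2 : fst (N ⊗ (N ⊗ Z)) O ≫ q₁ = (q₁ ▷ O) ≫ fst (N ⊗ Z) O := by simp
      have h3 : (q₁ ▷ O) ≫ U = (q₂ ▷ O) ≫ U := by
        rw [hU]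
        simp only [← Category.assoc]
        congr 1
        apply CartesianMonoidalCategory.hom_ext <;> simp [q₁, q₂]
      rw [MonObj.comp_mul, reassoc_of% h1, reassoc_of% h2, hd, hw]
      simp only [← Category.assoc, comp_lift]
      simp only [Category.assoc]
      rw [h3]
      have h4 : (q₂ ▷ O) ≫ fst (N ⊗ Z) O ≫ fst N Z = fst (N ⊗ (N ⊗ Z)) O ≫ n₂ := by
        simp [q₂, n₂]
      have h5 : (q₁ ▷ O) ≫ fst (N ⊗ Z) O ≫ fst N Z = fst (N ⊗ (N ⊗ Z)) O ≫ n₁ := by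
        simp [q₁, n₁]
      rw [h4, h5]
      apply diff_unique
      rw [act_mul, diff_act, diff_act]
    rw [hm', ← Category.assoc, ← Category.assoc, comp_lift, comp_lift, hq₁n, hq₂n, e1, act_mul,
      diff_act]
  obtain ⟨m, hm, hmu⟩ := existsUnique_desc_snd hloc m' (by
    intro W x₁ x₂ y
    have h1 := congrArg (fun t => lift x₁ (lift x₂ y) ≫ t) hconst
    simp only [← Category.assoc, comp_lift] at h1
    simpa using h1)
  have hm : snd N Z ≫ m = m' := hm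
  haveI := epi_snd hloc (Z ⊗ O)
  have he : (α_ N Z O).inv ≫ fst (N ⊗ Z) O ≫ snd N Z = snd N (Z ⊗ O) ≫ fst Z O := by simp
  have he2 : (α_ N Z O).inv ≫ lift (fst (N ⊗ Z) O ≫ snd N Z) (snd (N ⊗ Z) O) =
      snd N (Z ⊗ O) := by
    apply CartesianMonoidalCategory.hom_ext <;> simp
  refine ⟨m, ?_, ?_⟩
  · change fst Z O ≫ m = u
    rw [← cancel_epi (snd N (Z ⊗ O)), ← reassoc_of% he, hm, hB, hU, reassoc_of% he2]
  · intro m₁ hm₁
    have hm₁ : fst Z O ≫ m₁ = u := hm₁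
    have hm0 : fst Z O ≫ m = u := by
      rw [← cancel_epi (snd N (Z ⊗ O)), ← reassoc_of% he, hm, hB, hU, reassoc_of% he2]
    have h1 : lift m₁ m ≫ diff a ha = 1 := by
      obtain ⟨r, -, hru⟩ := hG0 (fst Z O ≫ (1 : Z ⟶ G))
      rw [hru 1 rfl]
      apply hru
      change fst Z O ≫ lift m₁ m ≫ diff a ha = fst Z O ≫ 1
      rw [← Category.assoc, comp_lift, hm₁, hm0, diff_self, MonObj.comp_one]
    have h2 := diff_act a ha m₁ m
    rw [h1, act_one] at h2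
    exact h2.symm



/-- Let S be a locally Noetherian scheme over a field of characteristic 0 and S₀ ⊆ S a
scheme-theoretically dense open. Let G be a smooth group scheme over S and N a smooth S-scheme with
N → S surjective, equipped with an action of G making N a pseudo-torsor: the translation map G ×_S N
→ N ×_S N, (g, x) ↦ (g·x, x), is an isomorphism. Then G has the Néron mapping property for S₀ ⊆ S
(restriction to S₀ of S-morphisms from smooth S-schemes is bijective) if and only if N has it. (The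
published statement says 'G-torsor' with torsor defined as an action whose translation map is an
isomorphism; for N empty that holds and N has the mapping property while G need not, so surjectivity
of N → S — which gives étale-local sections — is assumed here, as the published proof uses. Case of
schemes of a statement about algebraic spaces.) -/
theorem result {k : Type u} [Field k] [CharZero k] {S : Scheme.{u}} (σ : S ⟶ Spec (CommRingCat.of k)) [IsLocallyNoetherian S] (S₀ : S.Opens) (hS₀ : CInt.IsSchematicallyDense S₀)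
    (G : Over S) [GrpObj G] [Smooth G.hom]
    (N : Over S) [Smooth N.hom] [Surjective N.hom]
    (a : AlgGrp.Action G N) (ha : NonAbH1.IsPseudoTorsorSch a) :
    (∀ Z : Over S, Smooth Z.hom → Function.Bijective (fun g : Z ⟶ G => (Over.pullback S₀.ι).map g)) ↔
    (∀ Z : Over S, Smooth Z.hom → Function.Bijective (fun g : Z ⟶ N => (Over.pullback S₀.ι).map g)) := by
  have hloc : NonAbH1.IsLocallyTrivialFor Scheme.fpqcPrecoverage N := by
    apply Groth.Agent.S16227.isLocallyTrivialFor_fpqc_of_etale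
    refine ⟨fun S' g => Etale g ∧ ∃ t : S' ⟶ N.left, t ≫ N.hom = g, ?_, ?_⟩
    · unfold Scheme.etalePrecoverage
      refine Groth.Agent.S14276.mem_precoverage_iff'.2 ⟨?_, ?_⟩
      · intro x
        obtain ⟨S', g, s', hg, hgs, t, ht⟩ :=
          Groth.Agent.S0412.result N.hom x (N.hom.surjective x)
        exact ⟨S', g, ⟨hg, t, ht⟩, s', hgs⟩
      · intro S' g hg
        exact hg.1
    · intro S' g hg
      exact hg.2
  have hsm : ∀ Z : Over S, Smooth Z.hom → Smooth (N ⊗ Z).hom := fun Z hZ =>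
    Groth.Agent.S13430.smooth_tensor_hom N Z
  simp only [extP_iff]
  constructor
  · intro hG Z hZ
    exact extP_torsor_of_group a ha hloc _ Z (hG Z hZ) (hG _ (hsm Z hZ))
      (hG _ (hsm _ (hsm Z hZ)))
  · intro hN Z hZ
    exact extP_group_of_torsor a ha hloc _ Z (hN _ (hsm Z hZ)) (hN _ (hsm _ (hsm Z hZ)))

end Groth.Agent.S13431
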