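import Groth.Statements.S13441
import Groth.Agent.Lib.Helper20Monomial

set_option autoImplicit false
universe u
open W4c1hilbpn

namespace Groth.Agent.S13441

open W4c1hilbpn Groth.Agent.Lib.Helper20 in
lemma finite_fiber (k : Type u) [Field k]
    (I : Ideal (MvPolynomial (Fin 3) k)) (hI : IsMonomial I) [Module.Finite k (MvPolynomial (Fin 3) k ⧸ I)]
    (f : ℕ → (Fin 3 →₀ ℕ)) (hf : Function.Injective f) : Finite {c : ℕ // f c ∉ exps I} := by
  haveI := finite_compl_exps I hI
  apply Finite.of_injective (fun c : {c : ℕ // f c ∉ exps I} => (⟨f c.1, c.2⟩ : {β : Fin 3 →₀ ℕ // β ∉ exps I}))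
  intro c c' h
  apply Subtype.ext
  apply hf
  exact congrArg Subtype.val h

open W4c1hilbpn in
/-- Let k be an infinite field, S = k[x,y,z] with variables ordered x > y > z, and I a strongly stable
ideal of finite colength, with staircase numbers b^z_{i,j} = the number of c with x^i y^j z^c
outside I and b^y_{i,j} = the number of b with x^i y^b z^j outside I. Then b^z_{i+1,j} ≤ b^z_{i,j+1}
and b^y_{i+1,j} ≤ b^y_{i,j+1} for all i and j (equivalently the maximum of the two neighbouring
staircase numbers is the second one). -/
theorem result (k : Type u) [Field k] [Infinite k]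
    (I : Ideal (MvPolynomial (Fin 3) k)) (hI : IsStronglyStable I) [Module.Finite k (MvPolynomial (Fin 3) k ⧸ I)] (i j : ℕ) :
    stairZ I (i + 1) j ≤ stairZ I i (j + 1) ∧ stairY I (i + 1) j ≤ stairY I i (j + 1) := by
  open Groth.Agent.Lib.Helper20 in
  constructor
  · have : Finite {c : ℕ // e3 i (j + 1) c ∉ exps I} := by
      apply finite_fiber k I hI.1
      intro c c' h
      have := congrArg (fun β => β 2) h
      simpa [e3_two] using this
    apply Nat.card_le_card_of_injective
      (fun c : {c : ℕ // e3 (i + 1) j c ∉ exps I} => (⟨c.1, ?_⟩ : {c : ℕ // e3 i (j + 1) c ∉ exps I}))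
    · intro c c' h
      apply Subtype.ext
      have h' := congrArg Subtype.val h
      exact h'
    · intro hmem
      apply c.2
      have h1 := hI.2 (e3 i (j + 1) c.1) hmem 0 1 (by decide) (by rw [e3_one]; omega)
      have h2 : e3 i (j + 1) c.1 - Finsupp.single 1 1 + Finsupp.single 0 1 = e3 (i + 1) j c.1 := by
        apply e3_ext <;> simp [e3_zero, e3_one, e3_two]
      rw [h2] at h1
      exact h1
  · have : Finite {b : ℕ // e3 i b (j + 1) ∉ exps I} := by
      apply finite_fiber k I hI.1
      intro c c' h
      have := congrArg (fun β => β 1) h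
      simpa [e3_one] using this
    apply Nat.card_le_card_of_injective
      (fun c : {b : ℕ // e3 (i + 1) b j ∉ exps I} => (⟨c.1, ?_⟩ : {b : ℕ // e3 i b (j + 1) ∉ exps I}))
    · intro c c' h
      apply Subtype.ext
      have h' := congrArg Subtype.val h
      exact h'
    · intro hmem
      apply c.2
      have h1 := hI.2 (e3 i c.1 (j + 1)) hmem 0 2 (by decide) (by rw [e3_two]; omega)
      have h2 : e3 i c.1 (j + 1) - Finsupp.single 2 1 + Finsupp.single 0 1 = e3 (i + 1) c.1 j := by
        apply e3_ext <;> simp [e3_zero, e3_one, e3_two]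
      rw [h2] at h1
      exact h1

end Groth.Agent.S13441
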