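import Groth.Statements.S13453
import Mathlib

set_option autoImplicit false
universe u
open W4c1hilbpn

namespace Groth.Agent.S13453

open W4c1hilbpn MvPolynomial

section
variable {k : Type u} [Field k]

/-- embed an exponent of `k[y,z]` into `k[x,y,z]` with `x`-exponent `a` -/
noncomputable def emb (β : Fin 2 →₀ ℕ) (a : ℕ) : Fin 3 →₀ ℕ :=
  β.mapDomain Fin.succ + Finsupp.single 0 a

lemma mem_slice (I : Ideal (MvPolynomial (Fin 3) k)) (a : ℕ) (f : MvPolynomial (Fin 2) k) :
    f ∈ sliceX I a ↔ rename Fin.succ f * X 0 ^ a ∈ I := by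
  unfold sliceX
  rw [Ideal.mem_comap, Submodule.mem_colon_singleton, smul_eq_mul]
  rfl

lemma coeff_emb (f : MvPolynomial (Fin 2) k) (β : Fin 2 →₀ ℕ) (a : ℕ) :
    coeff (emb β a) (rename Fin.succ f * X 0 ^ a) = coeff β f := by
  rw [X_pow_eq_monomial, emb, coeff_mul_monomial, mul_one,
    coeff_rename_mapDomain _ (Fin.succ_injective 2)]

lemma mono_mem {σ : Type*} (I : Ideal (MvPolynomial σ k)) (hI : IsMonomial I)
    (p : MvPolynomial σ k) (hp : p ∈ I) (γ : σ →₀ ℕ) (h : coeff γ p ≠ 0) : γ ∈ exps I :=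
  hI p hp γ (MvPolynomial.mem_support_iff.2 h)

lemma exps_slice (I : Ideal (MvPolynomial (Fin 3) k)) (a : ℕ) (β : Fin 2 →₀ ℕ) :
    β ∈ exps (sliceX I a) ↔ emb β a ∈ exps I := by
  change monomial β (1 : k) ∈ sliceX I a ↔ monomial (emb β a) (1 : k) ∈ I
  rw [mem_slice, rename_monomial, X_pow_eq_monomial, monomial_mul, mul_one]
  rfl

lemma mem_slice_of_support (I : Ideal (MvPolynomial (Fin 3) k)) (a : ℕ)
    (f : MvPolynomial (Fin 2) k) (h : ∀ β ∈ f.support, emb β a ∈ exps I) : f ∈ sliceX I a := by
  rw [f.as_sum]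
  refine Ideal.sum_mem _ fun β hβ => ?_
  have : monomial β (coeff β f) = C (coeff β f) * monomial β (1 : k) := by
    rw [C_mul_monomial, mul_one]
  rw [this]
  exact Ideal.mul_mem_left _ _ ((exps_slice I a β).2 (h β hβ))

lemma emb_add_single (β : Fin 2 →₀ ℕ) (a : ℕ) (j : Fin 2) :
    emb (β + Finsupp.single j 1) a = emb β a + Finsupp.single j.succ 1 := by
  unfold emb
  rw [Finsupp.mapDomain_add, Finsupp.mapDomain_single]
  abel

lemma emb_succ (β : Fin 2 →₀ ℕ) (a : ℕ) :
    emb β (a + 1) = emb β a + Finsupp.single 0 1 := by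
  unfold emb
  rw [Finsupp.single_add, add_assoc]

lemma emb_apply_succ (β : Fin 2 →₀ ℕ) (a : ℕ) (j : Fin 2) : emb β a j.succ = β j := by
  unfold emb
  rw [Finsupp.add_apply, Finsupp.mapDomain_apply (Fin.succ_injective 2),
    Finsupp.single_apply, if_neg (Fin.succ_ne_zero j).symm, add_zero]

end


open W4c1hilbpn in
/-- Let k be an infinite field, S = k[x,y,z] with variables ordered x > y > z, and I a strongly stable
ideal of finite colength; write I_i for the ideal of polynomials f in k[y,z] with x^i f in I (so I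
is the direct sum of the x^i I_i). Then each I_i is a strongly stable ideal of k[y,z] (with y > z)
and the ideal quotient (I_i : y) is contained in I_{i+1}. -/
theorem result (k : Type u) [Field k] [Infinite k]
    (I : Ideal (MvPolynomial (Fin 3) k)) (hI : IsStronglyStable I) [Module.Finite k (MvPolynomial (Fin 3) k ⧸ I)] (i : ℕ) :
    IsStronglyStable (sliceX I i) ∧
      (sliceX I i).colon {(MvPolynomial.X 0 : MvPolynomial (Fin 2) k)} ≤ sliceX I (i + 1) := by
  obtain ⟨hmon, hss⟩ := hI
  refine ⟨⟨?_, ?_⟩, ?_⟩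
  · -- monomial
    intro p hp β hβ
    change β ∈ exps (sliceX I i)
    rw [exps_slice]
    refine mono_mem I hmon _ ((mem_slice I i p).1 hp) _ ?_
    rw [coeff_emb]
    exact MvPolynomial.mem_support_iff.1 hβ
  · -- exchange
    intro β hβ i' j hij hj
    rw [exps_slice] at hβ ⊢
    have hβ' : β = (β - Finsupp.single j 1) + Finsupp.single j 1 := by
      rw [tsub_add_cancel_of_le]
      rw [Finsupp.single_le_iff]
      exact hj
    have h1 := hss (emb β i) hβ i'.succ j.succ (Fin.succ_lt_succ_iff.2 hij)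
      (by rw [emb_apply_succ]; exact hj)
    rw [emb_add_single]
    have : emb β i - Finsupp.single j.succ 1 = emb (β - Finsupp.single j 1) i := by
      conv_lhs => rw [hβ', emb_add_single, add_tsub_cancel_right]
    rw [this] at h1
    exact h1
  · -- colon
    intro f hf
    rw [Submodule.mem_colon_singleton, smul_eq_mul] at hf
    apply mem_slice_of_support
    intro β hβ
    have h1 : emb (β + Finsupp.single 0 1) i ∈ exps I := by
      refine mono_mem I hmon _ ((mem_slice I i _).1 hf) _ ?_
      rw [coeff_emb, coeff_mul_X]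
      exact MvPolynomial.mem_support_iff.1 hβ
    rw [emb_add_single] at h1
    have h2 := hss _ h1 0 (Fin.succ 0) (by decide) (by
      rw [Finsupp.add_apply, Finsupp.single_eq_same]
      exact Nat.succ_pos _)
    rw [add_tsub_cancel_right] at h2
    rw [emb_succ]
    exact h2

end Groth.Agent.S13453
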