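import Groth.Statements.S13455
import Mathlib

set_option autoImplicit false
universe u
open W4c1hilbpn

namespace Groth.Agent.S13455

open MvPolynomial

section
variable (n k0 e1 e2 : ℕ)

/-- exponents of the generators of the big ideal. -/
def G : Set (Fin (n + 1) →₀ ℕ) :=
  {d | ∃ p q : Fin (n + 1), e1 ≤ p.val ∧ p.val ≤ e2 ∧ e1 ≤ q.val ∧ q.val ≤ e2 ∧
      d = Finsupp.single p 1 + Finsupp.single q 1} ∪
  {d | ∃ p q m : Fin (n + 1), e1 ≤ p.val ∧ p.val < q.val ∧ q.val ≤ e2 ∧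
      m.val + k0 = n + 1 + q.val ∧ d = Finsupp.single p 1 + Finsupp.single m 1}

/-- exponents of the generators of the `j`-th component. -/
def Gj (j : Fin (n + 1)) : Set (Fin (n + 1) →₀ ℕ) :=
  {d | ∃ i : Fin (n + 1), e1 ≤ i.val ∧ i.val ≤ e2 ∧ i ≠ j ∧ d = Finsupp.single i 1} ∪
    {Finsupp.single j 2} ∪
  {d | ∃ q m : Fin (n + 1), j.val < q.val ∧ q.val ≤ e2 ∧ m.val + k0 = n + 1 + q.val ∧
      d = Finsupp.single m 1}

theorem two_le {x y : Fin (n + 1)} (d : Fin (n + 1) →₀ ℕ) (hxy : x ≠ y) (hx : 1 ≤ d x)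
    (hy : 1 ≤ d y) : Finsupp.single x 1 + Finsupp.single y 1 ≤ d := by
  intro z
  rw [Finsupp.add_apply, Finsupp.single_apply, Finsupp.single_apply]
  split_ifs with h1 h2 h2
  · exact absurd (h1.trans h2.symm) hxy
  · subst h1; omega
  · subst h2; omega
  · omega

theorem sq_le {x : Fin (n + 1)} (d : Fin (n + 1) →₀ ℕ) (hx : 2 ≤ d x) :
    Finsupp.single x 1 + Finsupp.single x 1 ≤ d := by
  intro z
  rw [Finsupp.add_apply, Finsupp.single_apply]
  split_ifs with h1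
  · subst h1; omega
  · omega

theorem core (hn : 2 * k0 ≤ n + 1) (he2 : e2 + 1 ≤ k0) (d : Fin (n + 1) →₀ ℕ)
    (hall : ∀ j : Fin (n + 1), e1 ≤ j.val → j.val ≤ e2 → ∃ g ∈ Gj n k0 e1 e2 j, g ≤ d)
    (he : e1 ≤ e2) : ∃ g ∈ G n k0 e1 e2, g ≤ d := by
  have step2 : ∀ p : Fin (n + 1), e1 ≤ p.val → p.val ≤ e2 → 1 ≤ d p →
      ∃ g ∈ G n k0 e1 e2, g ≤ d := by
    intro p hp1 hp2 hdp
    obtain ⟨g, hg, hgd⟩ := hall p hp1 hp2
    rcases hg with (⟨i, hi1, hi2, hip, rfl⟩ | hg) | ⟨q, m, hq1, hq2, hm, rfl⟩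
    · have hdi : 1 ≤ d i := by simpa using hgd i
      exact ⟨_, Or.inl ⟨p, i, hp1, hp2, hi1, hi2, rfl⟩, two_le n d (Ne.symm hip) hdp hdi⟩
    · rw [Set.mem_singleton_iff] at hg
      subst hg
      have hdp2 : 2 ≤ d p := by simpa using hgd p
      exact ⟨_, Or.inl ⟨p, p, hp1, hp2, hp1, hp2, rfl⟩, sq_le n d hdp2⟩
    · have hdm : 1 ≤ d m := by simpa using hgd m
      have hpm : p ≠ m := by
        intro h
        rw [h] at hp2
        omega
      exact ⟨_, Or.inr ⟨p, q, m, hp1, hq1, hq2, hm, rfl⟩, two_le n d hpm hdp hdm⟩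
  have hlt : e2 < n + 1 := by omega
  obtain ⟨g, hg, hgd⟩ := hall ⟨e2, hlt⟩ he le_rfl
  rcases hg with (⟨i, hi1, hi2, -, rfl⟩ | hg) | ⟨q, m, hq1, hq2, -, -⟩
  · have hdi : 1 ≤ d i := by simpa using hgd i
    exact step2 i hi1 hi2 hdi
  · rw [Set.mem_singleton_iff] at hg
    subst hg
    have hdp2 : 2 ≤ d ⟨e2, hlt⟩ := by simpa using hgd ⟨e2, hlt⟩
    exact step2 ⟨e2, hlt⟩ he le_rfl (by omega)
  · exfalso
    simp only at hq1
    omega

variable (k : Type u) [Field k]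

theorem X_mul_X (p q : Fin (n + 1)) :
    (X p * X q : MvPolynomial (Fin (n + 1)) k)
      = monomial (Finsupp.single p 1 + Finsupp.single q 1) 1 := by
  rw [X, X, monomial_mul, one_mul]

theorem gen_eq :
    ({f : MvPolynomial (Fin (n + 1)) k | ∃ p q : Fin (n + 1), e1 ≤ p.val ∧ p.val ≤ e2 ∧ e1 ≤ q.val ∧ q.val ≤ e2 ∧
        f = MvPolynomial.X p * MvPolynomial.X q} ∪
      {f : MvPolynomial (Fin (n + 1)) k | ∃ p q m : Fin (n + 1), e1 ≤ p.val ∧ p.val < q.val ∧ q.val ≤ e2 ∧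
        m.val + k0 = n + 1 + q.val ∧ f = MvPolynomial.X p * MvPolynomial.X m})
      = (fun s => monomial s (1 : k)) '' G n k0 e1 e2 := by
  ext f
  constructor
  · rintro (⟨p, q, h1, h2, h3, h4, rfl⟩ | ⟨p, q, m, h1, h2, h3, h4, rfl⟩)
    · exact ⟨_, Or.inl ⟨p, q, h1, h2, h3, h4, rfl⟩, (X_mul_X n k p q).symm⟩
    · exact ⟨_, Or.inr ⟨p, q, m, h1, h2, h3, h4, rfl⟩, (X_mul_X n k p m).symm⟩
  · rintro ⟨d, (⟨p, q, h1, h2, h3, h4, rfl⟩ | ⟨p, q, m, h1, h2, h3, h4, rfl⟩), rfl⟩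
    · exact Or.inl ⟨p, q, h1, h2, h3, h4, (X_mul_X n k p q).symm⟩
    · exact Or.inr ⟨p, q, m, h1, h2, h3, h4, (X_mul_X n k p m).symm⟩

theorem genj_eq (j : Fin (n + 1)) :
    ({f : MvPolynomial (Fin (n + 1)) k | ∃ i : Fin (n + 1), e1 ≤ i.val ∧ i.val ≤ e2 ∧ i ≠ j ∧ f = MvPolynomial.X i} ∪
        {MvPolynomial.X j ^ 2} ∪
        {f : MvPolynomial (Fin (n + 1)) k | ∃ q m : Fin (n + 1), j.val < q.val ∧ q.val ≤ e2 ∧ m.val + k0 = n + 1 + q.val ∧
          f = MvPolynomial.X m})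
      = (fun s => monomial s (1 : k)) '' Gj n k0 e1 e2 j := by
  have hsq : (X j ^ 2 : MvPolynomial (Fin (n + 1)) k) = monomial (Finsupp.single j 2) 1 := by
    rw [X_pow_eq_monomial]
  ext f
  constructor
  · rintro ((⟨i, h1, h2, h3, rfl⟩ | hf) | ⟨q, m, h1, h2, h3, rfl⟩)
    · exact ⟨_, Or.inl (Or.inl ⟨i, h1, h2, h3, rfl⟩), rfl⟩
    · rw [Set.mem_singleton_iff] at hf
      subst hf
      exact ⟨_, Or.inl (Or.inr rfl), hsq.symm⟩
    · exact ⟨_, Or.inr ⟨q, m, h1, h2, h3, rfl⟩, rfl⟩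
  · rintro ⟨d, ((⟨i, h1, h2, h3, rfl⟩ | hd) | ⟨q, m, h1, h2, h3, rfl⟩), rfl⟩
    · exact Or.inl (Or.inl ⟨i, h1, h2, h3, rfl⟩)
    · rw [Set.mem_singleton_iff] at hd
      subst hd
      exact Or.inl (Or.inr hsq.symm)
    · exact Or.inr ⟨q, m, h1, h2, h3, rfl⟩

end


/-- Let k be an algebraically closed field of characteristic different from 2, k0 ≥ 1 and n ≥ 2k0 - 1
natural numbers, S = k[x_0, ..., x_n], and e1 ≤ e2 ≤ k0 - 1. The ideal generated by all products x_p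
x_q with e1 ≤ p, q ≤ e2 together with the products x_p x_{n-k0+1+q} for e1 ≤ p < q ≤ e2 is the
intersection, over j from e1 to e2, of the ideals generated by the variables x_i with e1 ≤ i ≤ e2
and i ≠ j, the square x_j^2, and the variables x_{n-k0+1+q} for j < q ≤ e2 (a primary decomposition
of this monomial ideal). -/
theorem result (k : Type u) [Field k] [IsAlgClosed k] (hchar : ringChar k ≠ 2)
    (n k0 e1 e2 : ℕ) (hk : 1 ≤ k0) (hn : 2 * k0 ≤ n + 1) (he : e1 ≤ e2) (he2 : e2 + 1 ≤ k0) :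
    Ideal.span ({f : MvPolynomial (Fin (n + 1)) k | ∃ p q : Fin (n + 1), e1 ≤ p.val ∧ p.val ≤ e2 ∧ e1 ≤ q.val ∧ q.val ≤ e2 ∧
        f = MvPolynomial.X p * MvPolynomial.X q} ∪
      {f : MvPolynomial (Fin (n + 1)) k | ∃ p q m : Fin (n + 1), e1 ≤ p.val ∧ p.val < q.val ∧ q.val ≤ e2 ∧
        m.val + k0 = n + 1 + q.val ∧ f = MvPolynomial.X p * MvPolynomial.X m}) =
    ⨅ j : Fin (n + 1), ⨅ (_ : e1 ≤ j.val ∧ j.val ≤ e2),
      Ideal.span ({f : MvPolynomial (Fin (n + 1)) k | ∃ i : Fin (n + 1), e1 ≤ i.val ∧ i.val ≤ e2 ∧ i ≠ j ∧ f = MvPolynomial.X i} ∪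
        {MvPolynomial.X j ^ 2} ∪
        {f : MvPolynomial (Fin (n + 1)) k | ∃ q m : Fin (n + 1), j.val < q.val ∧ q.val ≤ e2 ∧ m.val + k0 = n + 1 + q.val ∧
          f = MvPolynomial.X m}) := by
  apply le_antisymm
  · rw [Ideal.span_le]
    rintro f (⟨p, q, h1, h2, h3, h4, rfl⟩ | ⟨p, q, m, h1, h2, h3, h4, rfl⟩)
    · simp only [SetLike.mem_coe, Ideal.mem_iInf]
      intro j hj
      by_cases hpj : p = j
      · by_cases hqj : q = j
        · subst hpj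
          subst hqj
          rw [← pow_two]
          exact Ideal.subset_span (Or.inl (Or.inr rfl))
        · exact Ideal.mul_mem_left _ _
            (Ideal.subset_span (Or.inl (Or.inl ⟨q, h3, h4, hqj, rfl⟩)))
      · exact Ideal.mul_mem_right _ _
          (Ideal.subset_span (Or.inl (Or.inl ⟨p, h1, by omega, hpj, rfl⟩)))
    · simp only [SetLike.mem_coe, Ideal.mem_iInf]
      intro j hj
      by_cases hpj : p = j
      · subst hpj
        exact Ideal.mul_mem_left _ _ (Ideal.subset_span (Or.inr ⟨q, m, h2, h3, h4, rfl⟩))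
      · exact Ideal.mul_mem_right _ _
          (Ideal.subset_span (Or.inl (Or.inl ⟨p, h1, by omega, hpj, rfl⟩)))
  · intro f hf
    rw [gen_eq, mem_ideal_span_monomial_image]
    intro d hd
    refine core n k0 e1 e2 hn he2 d (fun j hj1 hj2 => ?_) he
    have h1 := Ideal.mem_iInf.mp (Ideal.mem_iInf.mp hf j) ⟨hj1, hj2⟩
    rw [genj_eq, mem_ideal_span_monomial_image] at h1
    exact h1 d hd

end Groth.Agent.S13455
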