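import Groth.Statements.S13456
-- import your own Groth.Agent.* helpers here
import Mathlib
import Groth.Agent.Lib.Helper26FittStrat

set_option autoImplicit false
universe u
open W4c1hilbpn

namespace Groth.Agent.S13456

set_option linter.style.haveILetI false

open Groth.Agent.Lib.Helper26.FittStrat Groth.Agent.Helper18Fitt

open TensorProduct in
/-- Let A be a Noetherian ring, R a finitely generated graded A-algebra (graded by the integers), M a
finitely generated graded R-module and h a function from the integers to the natural numbers. Then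
the functor sending an A-algebra B to the condition 'every graded piece of M ⊗_A B is a finitely
generated locally free B-module of rank h(v)' is represented by a locally closed subscheme of Spec
A: there are ideals a and b of A such that, for every A-algebra B, all B ⊗_A M_v are finitely
generated projective of constant rank h(v) if and only if a generates the zero ideal of B and b
generates the unit ideal of B. (The graded pieces M_v are assumed finitely generated over A, as they
are when R is positively graded with degree-zero part finite over A; the published setup allows any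
finitely generated graded algebra, where graded pieces need not be finitely generated over A. Test
algebras B range over one universe.) -/
theorem result
    (A : Type u) [CommRing A] [IsNoetherianRing A]
    (R : Type u) [CommRing R] [Algebra A R] [Algebra.FiniteType A R]
    (𝒜 : ℤ → Submodule A R) [GradedAlgebra 𝒜]
    (M : Type u) [AddCommGroup M] [Module A M] [Module R M] [IsScalarTower A R M] [Module.Finite R M]
    (ℳ : ℤ → Submodule A M) [DirectSum.Decomposition ℳ] [SetLike.GradedSMul 𝒜 ℳ]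
    (hfg : ∀ v : ℤ, Module.Finite A ↥(ℳ v)) (h : ℤ → ℕ) :
    ∃ a b : Ideal A, ∀ (B : Type u) [CommRing B] [Algebra A B],
      ((∀ v : ℤ, Module.Finite B (B ⊗[A] ↥(ℳ v)) ∧ Module.Projective B (B ⊗[A] ↥(ℳ v)) ∧
          ∀ p : PrimeSpectrum B, Module.rankAtStalk (B ⊗[A] ↥(ℳ v)) p = h v) ↔
        (Ideal.map (algebraMap A B) a = ⊥ ∧ Ideal.map (algebraMap A B) b = ⊤)) := by
  classical
  haveI := hfg
  let πv : ∀ v : ℤ, M →ₗ[A] ↥(ℳ v) := fun v =>
    (DirectSum.component A ℤ (fun i => ↥(ℳ i)) v).comp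
      (DirectSum.decomposeLinearEquiv ℳ).toLinearMap
  have hπ : ∀ v : ℤ, (πv v).comp (ℳ v).subtype = LinearMap.id := by
    intro v
    refine LinearMap.ext fun x => ?_
    change (DirectSum.decompose ℳ (x : M)) v = x
    rw [DirectSum.decompose_coe, DirectSum.of_eq_same]
  set a : Ideal A := ⨆ (v : ℤ) (k : ℕ) (_ : k < h v), Fitt.ideal A ↥(ℳ v) k with ha
  let 𝓕 : Set (Ideal A) := Set.range (fun v : ℤ => Fitt.ideal A ↥(ℳ v) (h v))
  have hgen : ∀ p : Ideal A, p.IsPrime → a ≤ p → (∀ I ∈ 𝓕, ¬ I ≤ p) →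
      ∃ f : A, f ∉ p ∧ ∀ q : Ideal A, q.IsPrime → p ≤ q → f ∉ q → ∀ I ∈ 𝓕, ¬ I ≤ q := by
    intro p hp _ hpW
    haveI := hp
    obtain ⟨f, hfp, hf⟩ := exists_generic_fitt R M p
    refine ⟨f, hfp, fun q hq hpq hfq I hI => ?_⟩
    obtain ⟨v, rfl⟩ := hI
    exact hf ↥(ℳ v) (ℳ v).subtype (πv v) (hπ v) (h v) (hpW _ ⟨v, rfl⟩) q hq hpq hfq
  obtain ⟨b, hb⟩ := exists_ideal_of_generic a 𝓕 hgen
  refine ⟨a, b, fun B _ _ => ?_⟩
  -- per-degree criterion
  have hv : ∀ v : ℤ, (Module.Finite B (B ⊗[A] ↥(ℳ v)) ∧ Module.Projective B (B ⊗[A] ↥(ℳ v)) ∧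
      ∀ p : PrimeSpectrum B, Module.rankAtStalk (B ⊗[A] ↥(ℳ v)) p = h v) ↔
      ((∀ k, k < h v → (Fitt.ideal A ↥(ℳ v) k).map (algebraMap A B) = ⊥) ∧
        (Fitt.ideal A ↥(ℳ v) (h v)).map (algebraMap A B) = ⊤) := by
    intro v
    haveI : Module.FinitePresentation A ↥(ℳ v) := Module.finitePresentation_of_finite A _
    constructor
    · rintro ⟨-, hp, hr⟩
      have := (projective_rank_iff_fitt (B ⊗[A] ↥(ℳ v)) (h v)).mp ⟨hp, hr⟩
      refine ⟨fun k hk => ?_, ?_⟩
      · rw [← fitt_baseChange]
        exact this.1 k hk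
      · rw [← fitt_baseChange]
        exact this.2
    · rintro ⟨h1, h2⟩
      have := (projective_rank_iff_fitt (B ⊗[A] ↥(ℳ v)) (h v)).mpr ⟨fun k hk => by
        rw [fitt_baseChange]
        exact h1 k hk, by
        rw [fitt_baseChange]
        exact h2⟩
      exact ⟨inferInstance, this.1, this.2⟩
  have hamap : a.map (algebraMap A B) = ⊥ ↔
      ∀ (v : ℤ) (k : ℕ), k < h v → (Fitt.ideal A ↥(ℳ v) k).map (algebraMap A B) = ⊥ := by
    rw [ha]
    simp only [Ideal.map_iSup, iSup_eq_bot]
  simp_rw [hv]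
  constructor
  · intro hall
    have ha0 : a.map (algebraMap A B) = ⊥ := hamap.mpr (fun v k hk => (hall v).1 k hk)
    refine ⟨ha0, ?_⟩
    by_contra hne
    obtain ⟨Q, hQmax, hbQ⟩ := Ideal.exists_le_maximal _ hne
    haveI := hQmax.isPrime
    have hq : (Q.comap (algebraMap A B)).IsPrime := inferInstance
    have haq : a ≤ Q.comap (algebraMap A B) := Ideal.map_le_iff_le_comap.mp (ha0 ▸ bot_le)
    have hbq : b ≤ Q.comap (algebraMap A B) := Ideal.map_le_iff_le_comap.mp hbQ
    have hW : ∀ I ∈ 𝓕, ¬ I ≤ Q.comap (algebraMap A B) := by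
      rintro _ ⟨v, rfl⟩ hle
      have h1 : (Fitt.ideal A ↥(ℳ v) (h v)).map (algebraMap A B) ≤ Q :=
        Ideal.map_le_iff_le_comap.mpr hle
      rw [(hall v).2] at h1
      exact hQmax.ne_top (top_le_iff.mp h1)
    exact (hb _ hq haq).mpr hW hbq
  · rintro ⟨ha0, hb1⟩ v
    refine ⟨fun k hk => hamap.mp ha0 v k hk, ?_⟩
    by_contra hne
    obtain ⟨Q, hQmax, hFQ⟩ := Ideal.exists_le_maximal _ hne
    haveI := hQmax.isPrime
    have hq : (Q.comap (algebraMap A B)).IsPrime := inferInstance
    have haq : a ≤ Q.comap (algebraMap A B) := Ideal.map_le_iff_le_comap.mp (ha0 ▸ bot_le)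
    have hFq : Fitt.ideal A ↥(ℳ v) (h v) ≤ Q.comap (algebraMap A B) :=
      Ideal.map_le_iff_le_comap.mp hFQ
    have hbq : b ≤ Q.comap (algebraMap A B) := by
      by_contra hnb
      exact (hb _ hq haq).mp hnb _ ⟨v, rfl⟩ hFq
    have h1 : b.map (algebraMap A B) ≤ Q := Ideal.map_le_iff_le_comap.mpr hbq
    rw [hb1] at h1
    exact hQmax.ne_top (top_le_iff.mp h1)

end Groth.Agent.S13456
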