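import Groth.Statements.S13501
import Mathlib
import Groth.Agent.Lib.Helper23ConstrColim3
-- import your own Groth.Agent.* helpers here

set_option autoImplicit false
set_option backward.isDefEq.respectTransparency.types false
universe u
open CategoryTheory CategoryTheory.Limits AlgebraicGeometry Opposite
open EtPBC

namespace Groth.Agent.S13501


open Groth.Agent.Lib.Helper23ConstrColim Groth.Agent.Lib.Helper23CptObj

/-- a retract is the kernel of an idempotent -/
noncomputable def retractIso {C : Type*} [Category C] [Abelian C] {F G : C} (g : F ⟶ G) (d : G ⟶ F)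
    (h : g ≫ d = 𝟙 F) : F ≅ kernel (𝟙 G - d ≫ g) where
  hom := kernel.lift _ g (by
    rw [Preadditive.comp_sub, Category.comp_id, ← Category.assoc, h, Category.id_comp, sub_self])
  inv := kernel.ι _ ≫ d
  hom_inv_id := by rw [← Category.assoc, kernel.lift_ι, h]
  inv_hom_id := by
    rw [← cancel_mono (kernel.ι (𝟙 G - d ≫ g)), Category.assoc, Category.assoc, kernel.lift_ι,
      Category.id_comp]
    have := kernel.condition (𝟙 G - d ≫ g)
    rw [Preadditive.comp_sub, Category.comp_id, sub_eq_zero] at this
    exact this.symm

/-- Let X be a quasi-compact and quasi-separated scheme and F a torsion abelian sheaf on X_et. If Hom(F,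
-) commutes with filtered colimits (of shape any small filtered category in the universe of the
sheaf category's morphisms), then F is constructible. This is the converse of the compactness of
constructible sheaves. -/
theorem result (X : Scheme.{u}) [CompactSpace X]
    [QuasiSeparatedSpace X] (F : EtCoh.Ab X) (hF : EtCoh.IsTorsion F)
    (hc : ∀ (J : Type (u + 1)) [SmallCategory J] [IsFiltered J],
      PreservesColimitsOfShape J (coyoneda.obj (op F))) :
    EtPBC.IsConstructible F := by
  haveI := epi_desc F hF
  haveI := mono_desc F
  haveI : IsIso ((colimit.isColimit (DF F)).desc (coconeF F)) := isIso_of_mono_of_epi (θ F)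
  have hcol : IsColimit (coconeF F) := IsColimit.ofPointIso (colimit.isColimit (DF F))
  haveI := hc (J F)
  have hcpt : CptAt F (coconeF F) :=
    CptAt.of_isColimit (isColimitOfPreserves (coyoneda.obj (op F)) hcol)
  obtain ⟨j, g, hg⟩ := hcpt.surj (𝟙 F)
  have hj := isConstructible_J F j
  exact Groth.Agent.S0133.isConstructible_of_iso (retractIso g ((coconeF F).ι.app j) hg).symm
    (Groth.Agent.S0131.isConstructible_kernel _ hj hj)

end Groth.Agent.S13501
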