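import Groth.Statements.S14624
import Groth.Agent.Lib.Helper26FPColim
-- import your own Groth.Agent.* helpers here

set_option autoImplicit false
open CategoryTheory CategoryTheory.Limits
universe u
open Hensel

namespace Groth.Agent.S14624

/-- Let A be a commutative ring, m a proper ideal of A and Â the m-adic completion. Assume the
approximation property for polynomial systems: whenever finitely many polynomials over A in finitely
many variables have a common zero â in Â, then for every c there is a common zero a in A which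
agrees with â in A/m^c. Let F be a functor from A-algebras (commutative rings under A) to sets which
preserves filtered colimits, c a natural number and ξ ∈ F(Â). Then there is η ∈ F(A) whose image in
F(A/m^c) equals the image of ξ; here π is the A-algebra map Â → A/m^c (pinned by its underlying ring
map) and ρ the A-algebra map A → A/m^c. (The published statement takes for A the henselization at a
prime ideal of an algebra of finite type over a field or over an excellent discrete valuation ring,
for which the approximation property of polynomial systems is quoted; this row carries that property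
as a hypothesis and draws the published conclusion for functors.) -/
theorem result (A : Type u) [CommRing A]
    (m : Ideal A) (hm : m ≠ ⊤)
    (hAP : ∀ (k l c : ℕ) (f : Fin l → MvPolynomial (Fin k) A) (â : Fin k → AdicCompletion m A),
      (∀ i, MvPolynomial.aeval â (f i) = 0) →
      ∃ a : Fin k → A, (∀ i, MvPolynomial.eval a (f i) = 0) ∧
        ∀ j, Ideal.Quotient.mk (m ^ c) (a j) = AdicCompletion.evalₐ m c (â j))
    (F : Under (CommRingCat.of A) ⥤ Type u)
    (hF : ∀ (J : Type u) [SmallCategory J] [IsFiltered J], PreservesColimitsOfShape J F)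
    (c : ℕ)
    (π : Under.mk (CommRingCat.ofHom (algebraMap A (AdicCompletion m A))) ⟶
      Under.mk (CommRingCat.ofHom (algebraMap A (A ⧸ m ^ c))))
    (hπ : π.right = CommRingCat.ofHom
      (AdicCompletion.evalₐ m c : AdicCompletion m A →ₐ[A] A ⧸ m ^ c).toRingHom)
    (ρ : Under.mk (𝟙 (CommRingCat.of A)) ⟶ Under.mk (CommRingCat.ofHom (algebraMap A (A ⧸ m ^ c))))
    (ξ : F.obj (Under.mk (CommRingCat.ofHom (algebraMap A (AdicCompletion m A))))) :
    ∃ η : F.obj (Under.mk (𝟙 (CommRingCat.of A))), F.map ρ η = F.map π ξ := by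
  classical
  obtain ⟨hc⟩ := Groth.Agent.Lib.Helper26.FPColim.isColimit_cocone A (AdicCompletion m A)
  haveI := hF (Groth.Agent.Lib.Helper26.FPColim.Idx A (AdicCompletion m A))
  have hc' := isColimitOfPreserves F hc
  obtain ⟨a, ξa, hξa⟩ := Types.jointly_surjective_of_isColimit hc' ξ
  obtain ⟨gens, hgens⟩ := a.fg
  let eg : Fin gens.card ≃ gens := gens.equivFin.symm
  let e : {x // x ∈ a.s} ≃ Fin a.s.card := a.s.equivFin
  let f : Fin gens.card → MvPolynomial (Fin a.s.card) A := fun i =>
    MvPolynomial.rename e ((eg i : gens) : Groth.Agent.Lib.Helper26.FPColim.Pol A (AdicCompletion m A) a.s)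
  let â : Fin a.s.card → AdicCompletion m A := fun j => ((e.symm j : {x // x ∈ a.s}) : AdicCompletion m A)
  have hf : ∀ i, MvPolynomial.aeval â (f i) = 0 := by
    intro i
    simp only [f]
    rw [MvPolynomial.aeval_rename]
    have h1 : ((eg i : gens) : Groth.Agent.Lib.Helper26.FPColim.Pol A (AdicCompletion m A) a.s) ∈ a.J := by
      rw [← hgens]
      exact Ideal.subset_span (eg i).2
    have h2 := a.le_ker h1
    rw [RingHom.mem_ker] at h2
    have h3 : (â ∘ e) = fun x : {x // x ∈ a.s} => (x : AdicCompletion m A) := by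
      funext x
      simp [â]
    rw [h3]
    exact h2
  obtain ⟨a', ha', hcong⟩ := hAP a.s.card gens.card c f â hf
  let ψ0 : Groth.Agent.Lib.Helper26.FPColim.Pol A (AdicCompletion m A) a.s →ₐ[A] A :=
    MvPolynomial.aeval (fun x => a' (e x))
  have hψ0 : ∀ p ∈ a.J, ψ0 p = 0 := by
    intro p hp
    have hle : a.J ≤ RingHom.ker ψ0.toRingHom := by
      rw [← hgens, Ideal.span_le]
      intro g hg
      rw [SetLike.mem_coe, RingHom.mem_ker]
      have h1 := ha' (eg.symm ⟨g, hg⟩)
      simp only [f, Equiv.apply_symm_apply] at h1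
      rw [MvPolynomial.eval_rename] at h1
      show MvPolynomial.aeval (fun x => a' (e x)) g = 0
      rw [MvPolynomial.aeval_def, ← h1]
      rfl
    exact hle hp
  let ψ : (Groth.Agent.Lib.Helper26.FPColim.Pol A (AdicCompletion m A) a.s ⧸ a.J) →ₐ[A] A :=
    Ideal.Quotient.liftₐ a.J ψ0 hψ0
  let Ψ : (Groth.Agent.Lib.Helper26.FPColim.diag A (AdicCompletion m A)).obj a ⟶
      Under.mk (𝟙 (CommRingCat.of A)) :=
    Under.homMk (CommRingCat.ofHom ψ.toRingHom) (by
      ext r
      exact ψ.commutes r)
  let ι' : (Groth.Agent.Lib.Helper26.FPColim.diag A (AdicCompletion m A)).obj a ⟶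
      Under.mk (CommRingCat.ofHom (algebraMap A (AdicCompletion m A))) :=
    (Groth.Agent.Lib.Helper26.FPColim.cocone A (AdicCompletion m A)).ι.app a
  have hξa' : F.map ι' ξa = ξ := hξa
  refine ⟨F.map Ψ ξa, ?_⟩
  rw [← hξa']
  have e1 : F.map ρ (F.map Ψ ξa) = F.map (Ψ ≫ ρ) ξa := (FunctorToTypes.map_comp_apply F Ψ ρ ξa).symm
  have e2 : F.map π (F.map ι' ξa) = F.map (ι' ≫ π) ξa := (FunctorToTypes.map_comp_apply F ι' π ξa).symm
  rw [e1, e2]
  have key : Ψ ≫ ρ = ι' ≫ π := by
    have hρ : ρ.right = CommRingCat.ofHom (algebraMap A (A ⧸ m ^ c)) := by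
      have := Under.w ρ
      simpa using this
    apply Under.UnderMorphism.ext
    apply CommRingCat.hom_ext
    apply Ideal.Quotient.ringHom_ext
    apply MvPolynomial.ringHom_ext
    · intro r
      show ρ.right.hom (ψ (Ideal.Quotient.mk _ (MvPolynomial.C r))) =
        π.right.hom (Groth.Agent.Lib.Helper26.FPColim.toA a (Ideal.Quotient.mk _ (MvPolynomial.C r)))
      rw [hρ, hπ]
      have h1 : ψ (Ideal.Quotient.mk _ (MvPolynomial.C r)) = r := by
        show ψ0 (MvPolynomial.C r) = r
        simp [ψ0]
      have h2 : Groth.Agent.Lib.Helper26.FPColim.toA a (Ideal.Quotient.mk _ (MvPolynomial.C r)) =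
          algebraMap A (AdicCompletion m A) r := by
        rw [Groth.Agent.Lib.Helper26.FPColim.toA_mk]
        simp [Groth.Agent.Lib.Helper26.FPColim.ev]
      rw [h1, h2]
      show algebraMap A (A ⧸ m ^ c) r = (AdicCompletion.evalₐ m c) (algebraMap A (AdicCompletion m A) r)
      rw [AlgHom.commutes]
    · intro x
      show ρ.right.hom (ψ (Ideal.Quotient.mk _ (MvPolynomial.X x))) =
        π.right.hom (Groth.Agent.Lib.Helper26.FPColim.toA a (Ideal.Quotient.mk _ (MvPolynomial.X x)))
      rw [hρ, hπ]
      have h1 : ψ (Ideal.Quotient.mk _ (MvPolynomial.X x)) = a' (e x) := by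
        show ψ0 (MvPolynomial.X x) = a' (e x)
        simp [ψ0]
      have h2 : Groth.Agent.Lib.Helper26.FPColim.toA a (Ideal.Quotient.mk _ (MvPolynomial.X x)) =
          (x : AdicCompletion m A) := by
        rw [Groth.Agent.Lib.Helper26.FPColim.toA_mk]
        simp [Groth.Agent.Lib.Helper26.FPColim.ev]
      rw [h1, h2]
      have h3 := hcong (e x)
      have h4 : â (e x) = (x : AdicCompletion m A) := by simp [â]
      rw [h4] at h3
      exact h3
  rw [key]

end Groth.Agent.S14624
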