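import Groth.Statements.S13504
import Mathlib
import Groth.Agent.Lib.Helper23TorsInj
-- import your own Groth.Agent.* helpers here

set_option autoImplicit false
set_option backward.isDefEq.respectTransparency.types false
universe u
open CategoryTheory CategoryTheory.Limits AlgebraicGeometry
open EtPBC

namespace Groth.Agent.S13504


open Groth.Agent.Lib.Helper23ConstrColim Groth.Agent.Lib.Helper23CptObj Groth.Agent.Lib.Helper23ConstrGen
  Groth.Agent.Lib.Helper23ConstrTors Groth.Agent.Lib.Helper23ConstrCpt Groth.Agent.Lib.Helper23TorsInj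

theorem isTorsion_of_killedBy {X : Scheme.{u}} {F : EtCoh.Ab X} {N : ℕ} (hN : 0 < N)
    (h : EtCoh.KilledBy N F) : EtCoh.IsTorsion F := by
  intro U s x
  refine ⟨U, 𝟙 U, ⟨x, rfl⟩, ?_⟩
  rw [isOfFinAddOrder_iff_nsmul_eq_zero]
  exact ⟨N, hN, h U _⟩

theorem killedBy_tors {X : Scheme.{u}} (I : EtCoh.Ab X) (N : ℕ) : EtCoh.KilledBy N (tors I N) := by
  rw [killedBy_iff, ← cancel_mono (kernel.ι (N • 𝟙 I)), zero_comp, Preadditive.nsmul_comp,
    Category.id_comp]
  have := kernel.condition (N • 𝟙 I)
  rw [Preadditive.comp_nsmul, Category.comp_id] at this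
  exact this


/-- Let X be a quasi-compact and quasi-separated scheme. For every constructible abelian sheaf F on the
small étale site of X, every q > 0 and every class α in H^q(X, F) there are a constructible abelian
sheaf G and a monomorphism u : F → G such that H^q(u) sends α to 0. -/
theorem result (X : Scheme.{u}) [CompactSpace X] [QuasiSeparatedSpace X]
    (F : EtCoh.Ab X) (hF : EtPBC.IsConstructible F) (q : ℕ) (hq : 0 < q) (α : EtCoh.H X F q) :
    ∃ (G : EtCoh.Ab X) (u : F ⟶ G), EtPBC.IsConstructible G ∧ Mono u ∧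
      (EtCoh.HF X q).map u α = 0 := by
  obtain ⟨q, rfl⟩ : ∃ q', q = q' + 1 := ⟨q - 1, by omega⟩
  obtain ⟨N, hN, hFN⟩ := exists_killedBy_of_isConstructible F hF
  let I := Injective.under F
  let e : F ⟶ I := Injective.ι F
  have he : e ≫ (N • 𝟙 I) = 0 := by
    rw [Preadditive.comp_nsmul, Category.comp_id]
    have h1 : N • e = (N • 𝟙 F) ≫ e := by rw [Preadditive.nsmul_comp, Category.id_comp]
    rw [h1, (killedBy_iff N F).1 hFN, zero_comp]
  let e' : F ⟶ tors I N := kernel.lift _ e he
  have he' : e' ≫ kernel.ι (N • 𝟙 I) = e := kernel.lift_ι _ _ _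
  haveI : Mono e := inferInstanceAs (Mono (Injective.ι F))
  have hme' : Mono e' := mono_of_mono_fac he'
  -- the torsion sheaf `T = I[N]` as a filtered colimit of constructible sheaves
  have hT : EtCoh.IsTorsion (tors I N) := isTorsion_of_killedBy hN (killedBy_tors I N)
  haveI := epi_desc (tors I N) hT
  haveI := mono_desc (tors I N)
  haveI : IsIso ((colimit.isColimit (DF (tors I N))).desc (coconeF (tors I N))) :=
    isIso_of_mono_of_epi (θ (tors I N))
  have hcol : IsColimit (coconeF (tors I N)) := IsColimit.ofPointIso (colimit.isColimit _)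
  obtain ⟨j, g, hg⟩ := (cptAt_of_isConstructible hcol F hF).surj e'
  -- the class dies in `H^{q+1}(T) = 0`, hence at a finite stage
  haveI := Groth.Agent.Lib.Helper9.EtFp.preservesColimitsOfShape_HF X (q + 1) (J (tors I N))
  have hcolH := isColimitOfPreserves (EtCoh.HF X (q + 1)) hcol
  have hgood := Groth.Agent.Lib.Helper16.FiltColim.good_of_isColimit hcolH
  obtain ⟨j', a, ha⟩ := hgood.inj j (((EtCoh.HF X (q + 1)).map g).hom α)
    (eq_zero_of_H_tors I N hN q _)
  refine ⟨(DF (tors I N)).obj j', g ≫ (DF (tors I N)).map a, isConstructible_J _ j', ?_, ?_⟩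
  · have h1 : (g ≫ (DF (tors I N)).map a) ≫ (coconeF (tors I N)).ι.app j' = e' := by
      rw [Category.assoc, (coconeF (tors I N)).w, hg]
    exact @mono_of_mono_fac _ _ _ _ _ _ _ _ hme' h1
  · rw [Functor.map_comp]
    exact ha

end Groth.Agent.S13504
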