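import Groth.Statements.S2107
-- import your own Groth.Agent.* helpers here
import Mathlib
import Groth.Agent.Lib.Helper26TildeMain
import Groth.Agent.Lib.Helper26LocDesc

set_option autoImplicit false
universe u
open CAlg

namespace Groth.Agent.S2107

open CategoryTheory AlgebraicGeometry IsLocalRing
open Groth.Agent.Lib.Helper26.TildeMain Groth.Agent.Lib.Helper26.LocDesc

/-- Let `R → S` be a local homomorphism of local rings with `S` essentially of finite presentation over
`R`, `M`, `N` finitely presented `S`-modules with `N` flat over `R`, and `u : M → N` an `S`-linear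
map which is injective modulo `𝔪_R`. Then `u` is injective and its cokernel is flat over `R`. -/
theorem result {R S M N : Type u} [CommRing R] [CommRing S] [IsLocalRing R]
    [IsLocalRing S] [Algebra R S] [IsLocalHom (algebraMap R S)] (hS : CAlgX.IsEssFinitePresentation R S)
    [AddCommGroup M] [Module S M] [Module R M] [IsScalarTower R S M] [Module.FinitePresentation S M]
    [AddCommGroup N] [Module S N] [Module R N] [IsScalarTower R S N] [Module.FinitePresentation S N] [Module.Flat R N]
    (u : M →ₗ[S] N)
    (hu : ∀ x : M, u x ∈ (IsLocalRing.maximalIdeal R).map (algebraMap R S) • (⊤ : Submodule S N) →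
      x ∈ (IsLocalRing.maximalIdeal R).map (algebraMap R S) • (⊤ : Submodule S M)) :
    Function.Injective u ∧ Module.Flat R (N ⧸ LinearMap.range u) := by
  obtain ⟨S₀, _, _, _, _, T, hfp, hloc⟩ := hS
  let p : Ideal S₀ := (maximalIdeal S).comap (algebraMap S₀ S)
  haveI hp : p.IsPrime := Ideal.comap_isPrime _ _
  haveI hAt : IsLocalization.AtPrime S p := by
    refine IsLocalization.of_le (M := T) (S := S) p.primeCompl ?_ ?_
    · intro t ht hp'
      have h1 : IsUnit (algebraMap S₀ S t) := IsLocalization.map_units S ⟨t, ht⟩
      exact (IsLocalRing.mem_maximalIdeal _).1 hp' h1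
    · intro r hr
      by_contra h
      exact hr ((IsLocalRing.mem_maximalIdeal _).2 h)
  letI : Module S₀ M := Module.compHom M (algebraMap S₀ S)
  haveI : IsScalarTower S₀ S M := IsScalarTower.of_algebraMap_smul (fun _ _ => rfl)
  letI : Module S₀ N := Module.compHom N (algebraMap S₀ S)
  haveI : IsScalarTower S₀ S N := IsScalarTower.of_algebraMap_smul (fun _ _ => rfl)
  obtain ⟨M₀, _, _, _, jM, hjM⟩ := exists_fp_model p.primeCompl (B := S) M
  obtain ⟨N₀, _, _, _, jN, hjN⟩ := exists_fp_model p.primeCompl (B := S) N
  obtain ⟨u₀, s, hs⟩ := Module.FinitePresentation.exists_lift_of_isLocalizedModule p.primeCompl jN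
    ((u.restrictScalars S₀) ∘ₗ jM)
  let x : PrimeSpectrum S₀ := ⟨p, hp⟩
  haveI : IsLocalization.AtPrime S x.asIdeal := hAt
  haveI : IsLocalizedModule x.asIdeal.primeCompl jM := hjM
  haveI : IsLocalizedModule x.asIdeal.primeCompl jN := hjN
  have hcomm : ∀ m : M₀, jN (u₀ m) = (algebraMap S₀ S s) • u (jM m) := by
    intro m
    have := LinearMap.congr_fun hs m
    exact this
  have hc : IsUnit (algebraMap S₀ S (s : S₀)) := IsLocalization.map_units S s
  have hN : ∀ (r : R) (n : N), r • n = (algebraMap R S₀ r) • n := by
    intro r n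
    change r • n = algebraMap S₀ S (algebraMap R S₀ r) • n
    rw [← IsScalarTower.algebraMap_apply, algebraMap_smul]
  have hI : Ideal.map ((algebraMap S₀ S).comp (algebraMap R S₀)) (x.asIdeal.comap (algebraMap R S₀)) =
      (maximalIdeal R).map (algebraMap R S) := by
    rw [← IsScalarTower.algebraMap_eq]
    congr 1
    change ((maximalIdeal S).comap (algebraMap S₀ S)).comap (algebraMap R S₀) = _
    rw [Ideal.comap_comap, ← IsScalarTower.algebraMap_eq, IsLocalRing.maximalIdeal_comap]
  have hφ : (algebraMap R S₀).FinitePresentation := RingHom.finitePresentation_algebraMap.mpr hfp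
  have := injective_and_flat_of_local (R₀ := .of R) (A := .of S₀)
    (CommRingCat.ofHom (algebraMap R S₀)) x (S := S) (M' := .of S₀ M₀) (M := .of S₀ N₀)
    (ModuleCat.ofHom u₀) jM jN u (algebraMap S₀ S s) hcomm hφ hc hN
    (by
      intro n hn
      have e : Ideal.map ((algebraMap (CommRingCat.of S₀) S).comp
          (CommRingCat.ofHom (algebraMap R S₀)).hom)
          (Ideal.comap (CommRingCat.ofHom (algebraMap R S₀)).hom x.asIdeal) =
          (maximalIdeal R).map (algebraMap R S) := hI
      rw [e] at hn ⊢
      exact hu n hn) (P := N ⧸ LinearMap.range u)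
    (LinearMap.range u).mkQ.toAddMonoidHom (LinearMap.range u).mkQ_surjective
    (fun n => Submodule.Quotient.mk_eq_zero _)
    (fun r n => by
      have e : (CommRingCat.ofHom (algebraMap R S₀)).hom r • n = r • n := (hN r n).symm
      rw [e]
      rfl)
  exact this

end Groth.Agent.S2107
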