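import Groth.Statements.S1351
import Groth.Agent.S2107
import Groth.Agent.Lib.Helper28Nagata
import Mathlib

set_option autoImplicit false
universe u
open FlatMor

namespace Groth.Agent.S1351

set_option linter.style.haveILetI false
set_option linter.unusedSectionVars false
set_option linter.unusedVariables false

open IsLocalRing

/-- `(I.map (algebraMap A B')) • ⊤` as a `B'`-submodule has the same elements as the `A`-submodule `I • ⊤` -/
theorem mem_map_smul_top_iff {A B' M : Type*} [CommRing A] [CommRing B'] [Algebra A B']
    [AddCommGroup M] [Module A M] [Module B' M] [IsScalarTower A B' M] (I : Ideal A) (x : M) :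
    x ∈ (I.map (algebraMap A B')) • (⊤ : Submodule B' M) ↔ x ∈ I • (⊤ : Submodule A M) := by
  constructor
  · intro hx
    have key : ∀ r ∈ I.map (algebraMap A B'), ∀ n : M, r • n ∈ I • (⊤ : Submodule A M) := by
      intro r hr
      refine Submodule.span_induction (p := fun r _ => ∀ n : M, r • n ∈ I • (⊤ : Submodule A M))
        ?_ ?_ ?_ ?_ hr
      · rintro _ ⟨a, ha, rfl⟩ n
        rw [algebraMap_smul]
        exact Submodule.smul_mem_smul ha Submodule.mem_top
      · intro n
        rw [zero_smul]
        exact Submodule.zero_mem _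
      · intro x y _ _ hx hy n
        rw [add_smul]
        exact Submodule.add_mem _ (hx n) (hy n)
      · intro b x _ hx n
        rw [smul_eq_mul, mul_comm, mul_smul]
        exact hx (b • n)
    refine Submodule.smul_induction_on hx ?_ ?_
    · intro r hr n _
      exact key r hr n
    · intro x y hx hy
      exact Submodule.add_mem _ hx hy
  · intro hx
    refine Submodule.smul_induction_on hx ?_ ?_
    · intro a ha n _
      rw [← algebraMap_smul B' a n]
      exact Submodule.smul_mem_smul (Ideal.mem_map_of_mem _ ha) Submodule.mem_top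
    · intro x y hx hy
      exact Submodule.add_mem _ hx hy

/-- in a valuation ring, an element of `𝔪 • ⊤` is a multiple `a • n'` with `a ∈ 𝔪` -/
theorem exists_smul_of_mem_smul_top {A N : Type*} [CommRing A] [IsDomain A] [ValuationRing A]
    [AddCommGroup N] [Module A N] (I : Ideal A) (n : N) (hn : n ∈ I • (⊤ : Submodule A N)) :
    ∃ a ∈ I, ∃ n' : N, n = a • n' := by
  refine Submodule.smul_induction_on hn ?_ ?_
  · intro a ha m _
    exact ⟨a, ha, m, rfl⟩
  · rintro x y ⟨a, ha, x', rfl⟩ ⟨b, hb, y', rfl⟩
    rcases ValuationRing.dvd_total a b with ⟨c, rfl⟩ | ⟨c, rfl⟩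
    · exact ⟨a, ha, x' + c • y', by rw [smul_add, mul_smul]⟩
    · exact ⟨b, hb, c • x' + y', by rw [smul_add, mul_smul]⟩



open IsLocalRing Groth.Agent.Lib.Helper28.Nagata

theorem main {A B : Type u} [CommRing A] [IsDomain A] [ValuationRing A] [CommRing B] [IsLocalRing B]
    [Algebra A B] [IsLocalHom (algebraMap A B)] [Algebra.EssFiniteType A B]
    {N M : Type u} [AddCommGroup N] [Module B N] [Module A N] [IsScalarTower A B N] [Module.Finite B N]
    [AddCommGroup M] [Module B M] [Module A M] [IsScalarTower A B M] [Module.Finite B M] [Module.Flat A M]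
    (u : N →ₗ[B] M)
    (hu : Function.Injective (Submodule.mapQ (IsLocalRing.maximalIdeal A • ⊤ : Submodule A N) (IsLocalRing.maximalIdeal A • ⊤ : Submodule A M) (u.restrictScalars A)
      (fun n hn => Submodule.smul_top_le_comap_smul_top _ _ hn))) :
    Function.Injective u ∧ Module.Flat A (M ⧸ LinearMap.range u) := by
  classical
  -- consequence of `hu`
  have hu0 : ∀ n : N, u n ∈ (maximalIdeal A • ⊤ : Submodule A M) →
      n ∈ (maximalIdeal A • ⊤ : Submodule A N) := by
    intro n hn
    have h1 : Submodule.mapQ (maximalIdeal A • ⊤ : Submodule A N)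
        (maximalIdeal A • ⊤ : Submodule A M) (u.restrictScalars A)
        (fun n hn => Submodule.smul_top_le_comap_smul_top _ _ hn)
        (Submodule.Quotient.mk n) = 0 := by
      rw [Submodule.mapQ_apply]
      exact (Submodule.Quotient.mk_eq_zero _).mpr hn
    have h2 := hu (h1.trans (map_zero _).symm)
    exact (Submodule.Quotient.mk_eq_zero _).mp h2
  have htfM : ∀ (a : A) (x : M), a ≠ 0 → a • x = 0 → x = 0 := by
    intro a x ha hax
    have hreg : IsSMulRegular M a :=
      Module.Flat.isSMulRegular_of_nonZeroDivisors (mem_nonZeroDivisors_of_ne_zero ha)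
    exact hreg (show a • x = a • 0 by rw [hax, smul_zero])
  -- the presentation
  obtain ⟨n, f, hf⟩ := Algebra.FiniteType.iff_quotient_mvPolynomial''.mp
    (inferInstance : Algebra.FiniteType A (Algebra.EssFiniteType.subalgebra A B))
  let φ : MvPolynomial (Fin n) A →ₐ[A] B := (Algebra.EssFiniteType.subalgebra A B).val.comp f
  let 𝔮 : Ideal (MvPolynomial (Fin n) A) := (maximalIdeal B).comap φ.toRingHom
  haveI h𝔮 : 𝔮.IsPrime := Ideal.comap_isPrime _ _
  have hunit : ∀ y : 𝔮.primeCompl, IsUnit (φ.toRingHom y) := by
    intro y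
    have hy : (y : MvPolynomial (Fin n) A) ∉ 𝔮 := y.2
    exact IsLocalRing.notMem_maximalIdeal.mp (fun h => hy (Ideal.mem_comap.mpr h))
  let φ' : Localization.AtPrime 𝔮 →+* B := IsLocalization.lift (M := 𝔮.primeCompl) hunit
  have hφ' : ∀ p : MvPolynomial (Fin n) A,
      φ' (algebraMap (MvPolynomial (Fin n) A) (Localization.AtPrime 𝔮) p) = φ p :=
    fun p => IsLocalization.lift_eq hunit p
  letI algB'B : Algebra (Localization.AtPrime 𝔮) B := φ'.toAlgebra
  have halgB'B : ∀ b' : Localization.AtPrime 𝔮, algebraMap (Localization.AtPrime 𝔮) B b' = φ' b' :=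
    fun _ => rfl
  have hφ'A : ∀ a : A, φ' (algebraMap A (Localization.AtPrime 𝔮) a) = algebraMap A B a := by
    intro a
    rw [IsScalarTower.algebraMap_apply A (MvPolynomial (Fin n) A) (Localization.AtPrime 𝔮), hφ']
    exact φ.commutes a
  haveI tAB'B : IsScalarTower A (Localization.AtPrime 𝔮) B :=
    .of_algebraMap_eq (fun a => (hφ'A a).symm)
  -- surjectivity
  have hsurj : Function.Surjective φ' := by
    intro b
    obtain ⟨⟨b₀, s₀⟩, h⟩ := IsLocalization.surj (Algebra.EssFiniteType.submonoid A B) b
    obtain ⟨p, hp⟩ := hf b₀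
    obtain ⟨s, hs⟩ := hf (s₀ : Algebra.EssFiniteType.subalgebra A B)
    have hφs : φ s = algebraMap (Algebra.EssFiniteType.subalgebra A B) B s₀ := by
      change ((Algebra.EssFiniteType.subalgebra A B).val (f s)) = _
      rw [hs]
      rfl
    have hφp : φ p = algebraMap (Algebra.EssFiniteType.subalgebra A B) B b₀ := by
      change ((Algebra.EssFiniteType.subalgebra A B).val (f p)) = _
      rw [hp]
      rfl
    have hsu : IsUnit (φ s) := by
      rw [hφs]
      exact IsLocalization.map_units B s₀
    have hs𝔮 : s ∈ 𝔮.primeCompl := by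
      intro hs'
      exact (IsLocalRing.mem_maximalIdeal _).mp (Ideal.mem_comap.mp hs') hsu
    refine ⟨IsLocalization.mk' (Localization.AtPrime 𝔮) p ⟨s, hs𝔮⟩, ?_⟩
    have h1 : φ' (IsLocalization.mk' (Localization.AtPrime 𝔮) p ⟨s, hs𝔮⟩) * φ s = φ p := by
      rw [← hφ' s, ← map_mul, ← hφ' p]
      congr 1
      exact IsLocalization.mk'_spec (Localization.AtPrime 𝔮) p ⟨s, hs𝔮⟩
    have h2 : b * φ s = φ p := by
      rw [hφs, hφp]
      exact h
    exact hsu.mul_right_cancel (h1.trans h2.symm)
  haveI hlocA : IsLocalHom (algebraMap A (Localization.AtPrime 𝔮)) := by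
    refine ⟨fun a ha => ?_⟩
    have h1 : IsUnit (φ' (algebraMap A (Localization.AtPrime 𝔮) a)) := ha.map φ'
    rw [hφ'A] at h1
    exact IsLocalHom.map_nonunit a h1
  have hS : CAlgX.IsEssFinitePresentation A (Localization.AtPrime 𝔮) :=
    ⟨MvPolynomial (Fin n) A, inferInstance, inferInstance, inferInstance, inferInstance,
      𝔮.primeCompl, inferInstance, inferInstance⟩
  haveI hfinB : Module.Finite (Localization.AtPrime 𝔮) B :=
    Module.Finite.of_surjective (Algebra.linearMap (Localization.AtPrime 𝔮) B) hsurj
  -- module structures over `B'`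
  letI modM : Module (Localization.AtPrime 𝔮) M := Module.compHom M φ'
  letI modN : Module (Localization.AtPrime 𝔮) N := Module.compHom N φ'
  have hsmulM : ∀ (b' : Localization.AtPrime 𝔮) (m : M), b' • m = φ' b' • m := fun _ _ => rfl
  have hsmulN : ∀ (b' : Localization.AtPrime 𝔮) (m : N), b' • m = φ' b' • m := fun _ _ => rfl
  haveI tB'BM : IsScalarTower (Localization.AtPrime 𝔮) B M := ⟨fun b' b m => by
    rw [hsmulM, Algebra.smul_def, halgB'B, mul_smul]⟩
  haveI tB'BN : IsScalarTower (Localization.AtPrime 𝔮) B N := ⟨fun b' b m => by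
    rw [hsmulN, Algebra.smul_def, halgB'B, mul_smul]⟩
  haveI tAB'M : IsScalarTower A (Localization.AtPrime 𝔮) M := ⟨fun a b' m => by
    rw [hsmulM, hsmulM, Algebra.smul_def, map_mul, hφ'A, mul_smul, algebraMap_smul]⟩
  haveI tAB'N : IsScalarTower A (Localization.AtPrime 𝔮) N := ⟨fun a b' m => by
    rw [hsmulN, hsmulN, Algebra.smul_def, map_mul, hφ'A, mul_smul, algebraMap_smul]⟩
  haveI hfinM : Module.Finite (Localization.AtPrime 𝔮) M := Module.Finite.trans B M
  haveI hfinN : Module.Finite (Localization.AtPrime 𝔮) N := Module.Finite.trans B N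
  let u' : N →ₗ[Localization.AtPrime 𝔮] M :=
    { toFun := u
      map_add' := u.map_add
      map_smul' := fun b' x => by
        rw [hsmulN, RingHom.id_apply, hsmulM]
        exact u.map_smul (φ' b') x }
  have hu' : ∀ x, u' x = u x := fun _ => rfl
  haveI hfpM : Module.FinitePresentation (Localization.AtPrime 𝔮) M :=
    finitePresentation_of_essFiniteType_of_flat (A := A) (Localization.AtPrime 𝔮) M
  -- the image
  haveI hfinR : Module.Finite (Localization.AtPrime 𝔮) (LinearMap.range u') := Module.Finite.range u'
  haveI hflatR : Module.Flat A (LinearMap.range u') := by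
    refine (Module.Flat.flat_iff_torsion_eq_bot_of_isBezout (R := A)
      (M := LinearMap.range u')).mpr ?_
    rw [eq_bot_iff]
    intro x hx
    rw [Submodule.mem_torsion_iff] at hx
    obtain ⟨a, ha⟩ := hx
    rw [Submodule.mem_bot]
    apply Subtype.ext
    have h1 : (a : A) • (x : M) = 0 := by
      rw [Submonoid.smul_def] at ha
      exact congrArg Subtype.val ha
    exact htfM a x (nonZeroDivisors.ne_zero a.2) h1
  haveI hfpR : Module.FinitePresentation (Localization.AtPrime 𝔮) (LinearMap.range u') :=
    finitePresentation_of_essFiniteType_of_flat (A := A) (Localization.AtPrime 𝔮) (LinearMap.range u')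
  -- apply the criterion
  have hcrit := Groth.Agent.S2107.result (R := A) (S := Localization.AtPrime 𝔮) hS
    (M := LinearMap.range u') (N := M) (LinearMap.range u').subtype (by
      rintro ⟨x, n0, rfl⟩ hx
      rw [Submodule.subtype_apply] at hx
      change u' n0 ∈ _ at hx
      rw [mem_map_smul_top_iff, hu'] at hx
      obtain ⟨a, ha, n', rfl⟩ := exists_smul_of_mem_smul_top _ n0 (hu0 n0 hx)
      have h1 : (⟨u' (a • n'), ⟨a • n', rfl⟩⟩ : LinearMap.range u') =
          algebraMap A (Localization.AtPrime 𝔮) a • (⟨u' n', ⟨n', rfl⟩⟩ : LinearMap.range u') := by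
        apply Subtype.ext
        change u (a • n') = (algebraMap A (Localization.AtPrime 𝔮) a) • u n'
        rw [algebraMap_smul]
        exact (u.restrictScalars A).map_smul a n'
      rw [h1]
      exact Submodule.smul_mem_smul (Ideal.mem_map_of_mem _ ha) Submodule.mem_top)
  obtain ⟨-, hflatQ⟩ := hcrit
  rw [Submodule.range_subtype] at hflatQ
  refine ⟨?_, ?_⟩
  · -- injectivity
    have hKfg : (LinearMap.ker u').FG := by
      have := Module.FinitePresentation.fg_ker (R := Localization.AtPrime 𝔮) (M := N)
        (N := LinearMap.range u') u'.rangeRestrict u'.surjective_rangeRestrict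
      rwa [LinearMap.ker_rangeRestrict] at this
    have hKle : LinearMap.ker u' ≤
        ((maximalIdeal A).map (algebraMap A (Localization.AtPrime 𝔮))) • LinearMap.ker u' := by
      intro x hx
      rw [LinearMap.mem_ker, hu'] at hx
      have hx0 : u x ∈ (maximalIdeal A • ⊤ : Submodule A M) := by
        rw [hx]
        exact Submodule.zero_mem _
      obtain ⟨a, ha, n', rfl⟩ := exists_smul_of_mem_smul_top _ x (hu0 x hx0)
      by_cases ha0 : a = 0
      · rw [ha0, zero_smul]
        exact Submodule.zero_mem _
      · have h1 : a • u n' = 0 := by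
          rw [← hx]
          exact ((u.restrictScalars A).map_smul a n').symm
        have h2 : u n' = 0 := htfM a _ ha0 h1
        have h3 : n' ∈ LinearMap.ker u' := by
          rw [LinearMap.mem_ker, hu']
          exact h2
        rw [← algebraMap_smul (Localization.AtPrime 𝔮) a n']
        exact Submodule.smul_mem_smul (Ideal.mem_map_of_mem _ ha) h3
    have hJ : (maximalIdeal A).map (algebraMap A (Localization.AtPrime 𝔮)) ≤
        (⊥ : Ideal (Localization.AtPrime 𝔮)).jacobson := by
      rw [IsLocalRing.jacobson_eq_maximalIdeal _ bot_ne_top, Ideal.map_le_iff_le_comap]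
      intro a ha
      rw [Ideal.mem_comap, IsLocalRing.mem_maximalIdeal]
      exact fun h => ((IsLocalRing.mem_maximalIdeal a).mp ha) (IsLocalHom.map_nonunit a h)
    have hK : LinearMap.ker u' = ⊥ :=
      Submodule.eq_bot_of_le_smul_of_le_jacobson_bot _ _ hKfg hKle hJ
    intro x y hxy
    have h1 : x - y ∈ LinearMap.ker u' := by
      rw [LinearMap.mem_ker, hu', map_sub, hxy, sub_self]
    rw [hK, Submodule.mem_bot, sub_eq_zero] at h1
    exact h1
  · -- flatness of the cokernel
    have heq : (LinearMap.range u').restrictScalars A = (LinearMap.range u).restrictScalars A := by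
      ext x
      simp only [Submodule.restrictScalars_mem, LinearMap.mem_range]
      exact Iff.rfl
    let e : (M ⧸ LinearMap.range u) ≃ₗ[A] (M ⧸ LinearMap.range u') :=
      (Submodule.Quotient.restrictScalarsEquiv A (LinearMap.range u)).symm ≪≫ₗ
        (Submodule.quotEquivOfEq _ _ heq.symm) ≪≫ₗ
        (Submodule.Quotient.restrictScalarsEquiv A (LinearMap.range u'))
    exact Module.Flat.of_linearEquiv e

/-- Let A be a valuation ring, A → B a local homomorphism of local rings essentially of finite type, and
u : N → M a B-linear map of finite B-modules with M flat over A. If u is injective after tensoring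
with the residue field of A (that is, modulo the maximal ideal of A), then u is injective and its
cokernel is flat over A. -/
theorem result {A B : Type u} [CommRing A] [IsDomain A] [ValuationRing A] [CommRing B] [IsLocalRing B]
    [Algebra A B] [IsLocalHom (algebraMap A B)] [Algebra.EssFiniteType A B]
    {N M : Type u} [AddCommGroup N] [Module B N] [Module A N] [IsScalarTower A B N] [Module.Finite B N]
    [AddCommGroup M] [Module B M] [Module A M] [IsScalarTower A B M] [Module.Finite B M] [Module.Flat A M]
    (u : N →ₗ[B] M)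
    (hu : Function.Injective (Submodule.mapQ (IsLocalRing.maximalIdeal A • ⊤ : Submodule A N) (IsLocalRing.maximalIdeal A • ⊤ : Submodule A M) (u.restrictScalars A)
      (fun n hn => Submodule.smul_top_le_comap_smul_top _ _ hn))) :
    Function.Injective u ∧ Module.Flat A (M ⧸ LinearMap.range u) := by
  exact main u hu

end Groth.Agent.S1351
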