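import Groth.Statements.S13514
import Groth.Agent.Lib.Helper9FibSiteTerm

set_option autoImplicit false
universe u
open CategoryTheory CategoryTheory.Limits Opposite Pseudofunctor.CoGrothendieck
open FibSite

namespace Groth.Agent.S13514

/-- Let `F` be a fibred site over a small category `𝒮` with small fibres (every inverse-image functor is
a morphism of sites) and let `i` be a final object of `𝒮`. Then the left adjoint `α_{i!}` of the
restriction of sheaves of sets from the total site to the fibre over `i` is left exact (it preserves
finite limits), so that the pair (`α_{i!}`, restriction) is a morphism of topoi from the total topos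
to the topos of the fibre. The continuity of the fibre inclusion and the existence of the left
adjoint are carried as instance hypotheses. -/
theorem result {𝒮 : Type u} [SmallCategory 𝒮]
    (F : Pseudofunctor (LocallyDiscrete 𝒮ᵒᵖ) Cat.{u, u}) (J : FibSite.Topologies F)
    (hF : FibSite.IsFibSite F J) (i : 𝒮) (hi : IsTerminal i)
    [(ι F i).IsContinuous (J i) (FibSite.totalTopology F J)]
    [((ι F i).sheafPushforwardContinuous (Type u) (J i) (FibSite.totalTopology F J)).IsRightAdjoint] :
    PreservesFiniteLimits (FibSite.extend F J (Type u) i) := by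
  haveI hcont : ∀ S : 𝒮, (ι F S).IsContinuous (J S) (FibSite.totalTopology F J) :=
    fun S => Groth.Agent.Lib.Helper9.FibSite.ι_isContinuous hF.isPreFibSite S
  apply Groth.Agent.Lib.Helper9.FibSite.preservesFiniteLimits_of_forall_restr (F := F) (J := J)
  intro j
  haveI := Groth.Agent.Lib.Helper9.FibSite.ι_isCocontinuous F J hF.isPreFibSite j
  haveI : ∀ f : j ⟶ i, (FibSite.invImage F f).IsContinuous (J i) (J j) := fun f => (hF f).1
  haveI : ∀ f : j ⟶ i, ((FibSite.invImage F f).sheafPushforwardContinuous (Type u) (J i)
      (J j)).IsRightAdjoint := fun f => (hF f).2.1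
  haveI : Subsingleton (j ⟶ i) := ⟨fun f g => hi.hom_ext f g⟩
  let f : j ⟶ i := hi.from j
  haveI : PreservesFiniteLimits ((FibSite.invImage F f).sheafPullback (Type u) (J i) (J j)) :=
    (hF f).2.2
  haveI : ∀ a, IsIso ((Groth.Agent.Lib.Helper9.FibSite.lanInjNat (F := F) (J := J) f).app a) :=
    fun a => (Groth.Agent.Lib.Helper9.FibSite.lanCofanIsColimit a).isIso_ι_app_of_isTerminal ⟨f⟩
      (Groth.Agent.Lib.Helper9.FibSite.discreteIsTerminal _)
  haveI : IsIso (Groth.Agent.Lib.Helper9.FibSite.lanInjNat (F := F) (J := J) f) :=
    NatIso.isIso_of_isIso_app _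
  exact preservesFiniteLimits_of_natIso
    (asIso (Groth.Agent.Lib.Helper9.FibSite.lanInjNat (F := F) (J := J) f))

end Groth.Agent.S13514
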