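import Groth.Statements.S13532
import Groth.Agent.Lib.Helper20FibreDisc

set_option autoImplicit false
universe u
open CategoryTheory CategoryTheory.Limits AlgebraicGeometry
open ResProp

namespace Groth.Agent.S13532
open TopologicalSpace Groth.Agent.Lib.Helper20FibreDisc

/-- If the fibre has no nontrivial specializations, it is finite. -/
theorem finite_fibre_of_forall_specializes_eq {X Y : Scheme.{u}} (f : Y ⟶ X)
    [LocallyOfFiniteType f] [QuasiCompact f] (x : X)
    (h : ∀ y z : Y, f.base y = x → f.base z = x → z ⤳ y → z = y) :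
    (f.base ⁻¹' {x}).Finite := by
  have : LocallyOfFiniteType (f.fiberToSpecResidueField x) :=
    MorphismProperty.pullback_snd _ _ inferInstance
  have : IsLocallyNoetherian (f.fiber x) :=
    LocallyOfFiniteType.isLocallyNoetherian (f.fiberToSpecResidueField x)
  have hmem : ∀ u : f.fiber x, f.base ((f.fiberι x).base u) = x := by
    intro u
    have : (f.fiberι x).base u ∈ Set.range (f.fiberι x).base := ⟨u, rfl⟩
    rw [f.range_fiberι x] at this
    exact this
  have : DiscreteTopology (f.fiber x) := by
    apply discreteTopology_of_forall_specializes_eq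
    intro u w huw
    apply (f.fiberι x).isEmbedding.injective
    exact h _ _ (hmem w) (hmem u) (huw.map (f.fiberι x).base.hom.continuous)
  have : Finite (f.fiber x) := finite_of_compact_of_discrete
  rw [← f.range_fiberι x]
  exact Set.finite_range _

/-- In the spectrum of a local ring of dimension `≤ 1`, no chains of length two. -/
theorem eq_of_specializes_of_dim_le_one {X : Scheme.{u}} (x : X)
    (hx : ringKrullDim (X.presheaf.stalk x) ≤ 1) (a b : X) (hab : a ⤳ b) (hbx : b ⤳ x)
    (hne : b ≠ x) : a = b := by
  have hdim : Ring.KrullDimLE 1 (X.presheaf.stalk x) := Ring.krullDimLE_iff.mpr hx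
  have hemb := (X.fromSpecStalk x).isEmbedding
  have hrange : ∀ z : X, z ⤳ x → ∃ q : Spec (X.presheaf.stalk x), X.fromSpecStalk x q = z := by
    intro z hz
    have : z ∈ Set.range (X.fromSpecStalk x) := by
      rw [Scheme.range_fromSpecStalk]; exact hz
    exact this
  obtain ⟨qa, rfl⟩ := hrange a (hab.trans hbx)
  obtain ⟨qb, rfl⟩ := hrange b hbx
  congr 1
  rw [hemb.specializes_iff] at hab
  have hle : qa.asIdeal ≤ qb.asIdeal := (PrimeSpectrum.le_iff_specializes qa qb).mpr hab
  rcases Ring.krullDimLE_one_iff.mp hdim qb.asIdeal qb.isPrime with hmin | hmax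
  · apply PrimeSpectrum.ext
    exact le_antisymm hle (hmin.2 ⟨qa.isPrime, bot_le⟩ hle)
  · exfalso
    apply hne
    have : qb = IsLocalRing.closedPoint _ :=
      PrimeSpectrum.ext (IsLocalRing.eq_maximalIdeal hmax)
    rw [this, Scheme.fromSpecStalk_closedPoint]


/-- A morphism of finite type between locally Noetherian schemes which is birational (an isomorphism
over a dense open of the target whose preimage is dense in the source) has finite fibres over all
points of the target of codimension at most 1, i.e. whose local ring has Krull dimension at most 1. -/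
theorem result {X Y : Scheme.{u}}
    [IsLocallyNoetherian X] [IsLocallyNoetherian Y] (f : Y ⟶ X) [LocallyOfFiniteType f] [QuasiCompact f]
    (U : X.Opens) (hU : Dense (U : Set X)) (hU' : Dense ((f ⁻¹ᵁ U : Y.Opens) : Set Y)) (hiso : IsIso (f ∣_ U))
    (x : X) (hx : ringKrullDim (X.presheaf.stalk x) ≤ 1) :
    (f.base ⁻¹' {x}).Finite := by
  have hinj : ∀ a b : Y, f.base a ∈ U → f.base a = f.base b → a = b := by
    intro a b ha hab
    have hb : f.base b ∈ U := hab ▸ ha
    have hinj' : Function.Injective (f ∣_ U).base :=
      (TopCat.homeoOfIso (asIso (f ∣_ U).base)).injective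
    have : (⟨a, ha⟩ : (f ⁻¹ᵁ U : Y.Opens)) = ⟨b, hb⟩ := by
      apply hinj'
      apply Subtype.ext
      rw [morphismRestrict_base_coe, morphismRestrict_base_coe]
      exact hab
    exact congrArg Subtype.val this
  apply finite_fibre_of_forall_specializes_eq
  intro y z hy hz hzy
  by_cases hxU : x ∈ U
  · exact hinj z y (hz ▸ hxU) (hz.trans hy.symm)
  obtain ⟨η, hηU, hηz⟩ := exists_mem_specializes_of_dense_scheme Y (f ⁻¹ᵁ U) hU' z
  have hηU' : f.base η ∈ U := hηU
  have hne : f.base η ≠ f.base y := by
    intro h
    rw [hy] at h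
    exact hxU (h ▸ hηU')
  have key := generalization_eq_or_eq f y η (hηz.trans hzy) hne (by
    intro w hηw hwy hwne
    by_contra hfw
    rw [hy] at hfw
    have h1 : f.base η ⤳ f.base w := hηw.map f.base.hom.continuous
    have h2 : f.base w ⤳ x := hy ▸ hwy.map f.base.hom.continuous
    have h3 := eq_of_specializes_of_dim_le_one x hx _ _ h1 h2 hfw
    exact hwne (hinj η w hηU' h3).symm)
  rcases key z hηz hzy with h | h
  · exfalso
    rw [h] at hz
    exact hne (hz.trans hy.symm)
  · exact h

end Groth.Agent.S13532
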