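import Groth.Statements.S13533
import Groth.Agent.Lib.Helper28Basic
-- import your own Groth.Agent.* helpers here

set_option autoImplicit false
universe u
open ResProp

namespace Groth.Agent.S13533

open Groth.Agent.Lib.Helper28.Basic

/-- Let k ≤ r, let A be a Noetherian ring none of whose associated primes has height greater than k, and
let M be a finitely generated A-module which is free of rank r at every prime of height at most k.
Then M has a free submodule N of rank r - k such that M/N is free of rank k at every prime of height
at most k. Freeness of a given rank is expressed by linear isomorphisms with coordinate modules.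
(The published statement has no hypothesis on the associated primes of A; for A = ℤ[X]/(X², 2X), M =
A/(X), k = 0 and r = 1 every other hypothesis holds while X annihilates M, so M contains no free
submodule of rank 1. The printed argument produces an element of M that is part of a basis at every
prime of height at most k; the submodule it generates is free exactly when its annihilator vanishes
at the associated primes of A, which the added hypothesis guarantees.) -/
theorem result (A : Type u) [CommRing A] [IsNoetherianRing A]
    (M : Type u) [AddCommGroup M] [Module A M] [Module.Finite A M] (k r : ℕ) (hkr : k ≤ r)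
    (hAss : ∀ p ∈ associatedPrimes A A, p.height ≤ k)
    (hM : ∀ p : PrimeSpectrum A, p.asIdeal.height ≤ k →
      Nonempty (LocalizedModule p.asIdeal.primeCompl M ≃ₗ[Localization.AtPrime p.asIdeal]
        (Fin r → Localization.AtPrime p.asIdeal))) :
    ∃ N : Submodule A M, Nonempty (N ≃ₗ[A] (Fin (r - k) → A)) ∧
      ∀ p : PrimeSpectrum A, p.asIdeal.height ≤ k →
        Nonempty (LocalizedModule p.asIdeal.primeCompl (M ⧸ N) ≃ₗ[Localization.AtPrime p.asIdeal]
          (Fin k → Localization.AtPrime p.asIdeal)) := by
  have hrk : ∀ p : PrimeSpectrum A, p.asIdeal.height ≤ k →
      Module.finrank p.asIdeal.ResidueField (TensorProduct A p.asIdeal.ResidueField M) = r := by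
    intro p hp
    obtain ⟨e⟩ := hM p hp
    exact finrank_fibre_of_equiv p.asIdeal M e
  obtain ⟨x, hx⟩ := exists_basic_tuple k r hkr hrk
  have hli := linearIndependent_of_fibres k r hAss hM x hx
  refine ⟨Submodule.span A (Set.range x), ⟨(Module.Basis.span hli).equivFun⟩, fun p hp => ?_⟩
  obtain ⟨e⟩ := hM p hp
  have h := quotient_free_at p.asIdeal e x (hx p hp)
  have hk : r - (r - k) = k := by omega
  rw [hk] at h
  exact h

end Groth.Agent.S13533
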