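import Groth.Statements.S1354
import Groth.Agent.Lib.Helper20EtFinParts

set_option autoImplicit false
universe u
open FlatMor

namespace Groth.Agent.S1354

open AlgebraicGeometry CategoryTheory Limits in
/-- Let f be locally of finite type, s a point of the target, and x_1, ..., x_n points over s at each of
which f is quasi-finite. Then there are an elementary étale neighbourhood (U, u) of (S, s) and, for
each i, an open V_i of the base change of X to U which is finite over U, has exactly one point v_i
over u, and v_i maps to x_i inducing a bijection of residue fields. -/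
theorem result {X S : Scheme.{u}} (f : X ⟶ S) [LocallyOfFiniteType f] (s : S) {ι : Type} [Finite ι]
    (x : ι → ↑X) (hs : ∀ i, f (x i) = s) (hx : ∀ i, f.QuasiFiniteAt (x i)) :
    ∃ (U : Scheme.{u}) (g : U ⟶ S) (u : U), Hens2.IsEtaleNbhd g u s ∧
      ∃ (V : ι → (pullback f g).Opens) (v : ι → ↑(pullback f g)), ∀ i, v i ∈ V i ∧ IsFinite ((V i).ι ≫ pullback.snd f g) ∧
        pullback.snd f g (v i) = u ∧ (∀ w : ↑(pullback f g), w ∈ V i → pullback.snd f g w = u → w = v i) ∧
        pullback.fst f g (v i) = x i ∧ Function.Bijective ((pullback.fst f g).residueFieldMap (v i)) := by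
  obtain ⟨U, g, u, hg, hu, hbij, d⟩ :=
    Groth.Agent.Lib.Helper20.EtSections.hasFinParts_of_finite (f := f) s (Set.range x)
      (Set.finite_range x) (by rintro _ ⟨i, rfl⟩; exact ⟨hs i, hx i⟩)
  have hd : ∀ i, ∃ V : (pullback f g).Opens, IsFinite (V.ι ≫ pullback.snd f g) ∧
      ∀ w : ↥(pullback f g), pullback.snd f g w = u → (w ∈ V ↔ pullback.fst f g w = x i) :=
    fun i => d (x i) ⟨i, rfl⟩
  choose V hVfin hV using hd
  have hv : ∀ i, ∃ v : ↥(pullback f g), pullback.fst f g v = x i ∧ pullback.snd f g v = u :=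
    fun i => Scheme.Pullback.exists_preimage_pullback (x i) u ((hs i).trans hu.symm)
  choose v hvx hvu using hv
  have hbv : ∀ i, Function.Bijective (g.residueFieldMap (pullback.snd f g (v i))) := by
    intro i; rw [hvu i]; exact hbij
  refine ⟨U, g, u, ⟨hg, hu, hbij⟩, V, v, fun i => ⟨(hV i (v i) (hvu i)).mpr (hvx i), hVfin i, hvu i,
    ?_, hvx i, ?_⟩⟩
  · intro w hwV hwu
    have hwx := (hV i w hwu).mp hwV
    exact Groth.Agent.Lib.Helper20.ResFld.eq_of_fst_eq_of_snd_eq w (v i) (hwx.trans (hvx i).symm)
      (hwu.trans (hvu i).symm) (hbv i)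
  · exact Groth.Agent.Lib.Helper20.ResFld.bijective_fst_residueFieldMap (v i) (hbv i)

end Groth.Agent.S1354
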