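import Groth.Statements.S13567
import Groth.Agent.Lib.Helper17StkPts3
import Groth.Agent.Lib.Helper17FpPaste
-- import your own Groth.Agent.* helpers here

set_option autoImplicit false
universe u
open CategoryTheory AlgebraicGeometry
open AlgSt

namespace Groth.Agent.S13567

/-- The base change of a universally injective morphism of algebraic stacks along any morphism of
algebraic stacks is universally injective: if every base change of `f : 𝒳 ⟶ 𝒴` to an algebraic stack
is injective on points, then the same holds for the projection `𝒵 ×_𝒴 𝒳 ⟶ 𝒵` for every morphism `g :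
𝒵 ⟶ 𝒴` of algebraic stacks. -/
theorem result {S : Scheme.{u}} {𝒳 𝒴 𝒵 : AlgSt.Cat S}
    (h𝒳 : AlgSt.IsAlgStack Scheme.fppfPrecoverage 𝒳) (h𝒴 : AlgSt.IsAlgStack Scheme.fppfPrecoverage 𝒴)
    (h𝒵 : AlgSt.IsAlgStack Scheme.fppfPrecoverage 𝒵)
    (f : 𝒳 ⥤ᵇ 𝒴) (g : 𝒵 ⥤ᵇ 𝒴) (hf : AlgSt.IsUnivInjective Scheme.fppfPrecoverage f) :
    AlgSt.IsUnivInjective Scheme.fppfPrecoverage (FibCat.fpFst g f) := by
  intro 𝒲 h𝒲 h
  have h1 := hf 𝒲 h𝒲 (BasedFunctor.comp h g)
  have h2 := Groth.Agent.Lib.Helper17.points_map_injective_of_isEquivOver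
    (Groth.Agent.Lib.Helper17.pasteL f g h) (Groth.Agent.Lib.Helper17.isEquivOver_pasteL f g h)
  have h3 : AlgSt.Points.map (FibCat.fpFst h (FibCat.fpFst g f)) =
      AlgSt.Points.map (FibCat.fpFst (BasedFunctor.comp h g) f) ∘
        AlgSt.Points.map (Groth.Agent.Lib.Helper17.pasteL f g h) := by
    funext x
    obtain ⟨p, rfl⟩ := AlgSt.Points.mk_surjective x
    rfl
  rw [h3]
  exact h1.comp h2

end Groth.Agent.S13567
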