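import Groth.Statements.S13578
import Groth.Agent.Lib.Helper10KosProI
-- import your own Groth.Agent.* helpers here

set_option autoImplicit false
universe u
open CategoryTheory CategoryTheory.Limits MonoidalCategory
attribute [local instance] HasDerivedCategory.standard
open DTen

namespace Groth.Agent.S13578

/-- Let `A` be a Noetherian commutative ring (the derived tensor product on `D(A)` being assumed to
exist and to be computed by K-flat complexes), `I` an ideal and `M` a finite `A`-module. Then there
is an integer `n > 0` such that the inclusion `I^n M ⟶ M`, viewed in `D(A)` in degree `0`, factors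
through the canonical morphism `I ⊗^L M ⟶ M` (the map `I ⊗^L M ⟶ A ⊗^L M` induced by `I ⊆ A`,
followed by the unit isomorphism). -/
theorem result (A : Type u) [CommRing A] [IsNoetherianRing A]
    [DTen.HasLTen A] [DTen.KFlatComputes A] (I : Ideal A) (M : Type u) [AddCommGroup M] [Module A M]
    [Module.Finite A M] :
    ∃ (n : ℕ) (_ : 0 < n)
      (g : DerivedCategory.Q.obj ((HomologicalComplex.single (ModuleCat.{u} A) (ComplexShape.up ℤ) 0).obj
              (ModuleCat.of A ↥(I ^ n • (⊤ : Submodule A M)))) ⟶
            (DTen.LTen₂ A).obj (DerivedCategory.Q.obj ((HomologicalComplex.single (ModuleCat.{u} A) (ComplexShape.up ℤ) 0).obj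
              (ModuleCat.of A ↥I)),
              DerivedCategory.Q.obj ((HomologicalComplex.single (ModuleCat.{u} A) (ComplexShape.up ℤ) 0).obj
              (ModuleCat.of A M)))),
      g ≫ (DTen.LTen₂ A).map (Prod.mkHom
              (DerivedCategory.Q.map ((HomologicalComplex.single (ModuleCat.{u} A) (ComplexShape.up ℤ) 0).map
                (ModuleCat.ofHom I.subtype)))
              (𝟙 _)) ≫
          (DTen.unitL A).app (DerivedCategory.Q.obj ((HomologicalComplex.single (ModuleCat.{u} A) (ComplexShape.up ℤ) 0).obj
              (ModuleCat.of A M))) =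
        DerivedCategory.Q.map ((HomologicalComplex.single (ModuleCat.{u} A) (ComplexShape.up ℤ) 0).map
          (ModuleCat.ofHom (I ^ n • (⊤ : Submodule A M)).subtype)) := by
  classical
  -- notation
  let Mm : ModuleCat.{u} A := ModuleCat.of A M
  let K : Groth.Agent.Lib.Helper10.KosPro.Cx A :=
    (HomologicalComplex.single (ModuleCat.{u} A) (ComplexShape.up ℤ) 0).obj Mm
  have hK : DRing.VanishesOutside K 0 0 := fun i hi =>
    HomologicalComplex.isZero_single_obj_X (ComplexShape.up ℤ) 0 _ i (by omega)
  have hKf : ∀ i : ℤ, Module.Finite A (K.X i) := by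
    intro i
    by_cases hi : i = 0
    · subst hi
      exact Module.Finite.equiv
        (HomologicalComplex.singleObjXSelf (ComplexShape.up ℤ) 0 Mm).symm.toLinearEquiv
    · have hz : IsZero (K.X i) := HomologicalComplex.isZero_single_obj_X (ComplexShape.up ℤ) 0 _ i hi
      haveI : Subsingleton (K.X i) := ModuleCat.subsingleton_of_isZero hz
      infer_instance
  -- the pro-isomorphism at level 0
  obtain ⟨m, hm, b, hb1, -⟩ := Groth.Agent.Lib.Helper10.KosPro.isProIso_εRight I K 0 0 hK hKf 0
  refine ⟨m + 1, Nat.succ_pos m, ?_⟩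
  let F := DTen.tensorRightD A (DerivedCategory.Q.obj K)
  -- the maps
  let T := Groth.Agent.Lib.Helper10.KosPro.Tsys I
  let η := Groth.Agent.Lib.Helper10.KosPro.ηT I
  let j : (HomologicalComplex.single (ModuleCat.{u} A) (ComplexShape.up ℤ) 0).obj
      (ModuleCat.of A ↥(I ^ (m + 1) • (⊤ : Submodule A M))) ⟶ K :=
    (HomologicalComplex.single (ModuleCat.{u} A) (ComplexShape.up ℤ) 0).map
      (ModuleCat.ofHom (I ^ (m + 1) • (⊤ : Submodule A M)).subtype)
  -- the short exact sequence `I → A → A/I`
  let S0 : ShortComplex (ModuleCat.{u} A) :=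
    ShortComplex.mk (ModuleCat.ofHom I.subtype) (Groth.Agent.Lib.Helper10.KosPro.qA I 0) (by
      refine ModuleCat.hom_ext (LinearMap.ext fun x => ?_)
      show Submodule.Quotient.mk (x : A) = (0 : A ⧸ (I ^ (0 + 1) • (⊤ : Submodule A A)))
      rw [Submodule.Quotient.mk_eq_zero]
      have : (x : A) ∈ I := x.2
      simp [smul_eq_mul, Ideal.mul_top, this])
  have hS0 : S0.ShortExact := by
    refine ShortComplex.ShortExact.mk' ?_ ?_ ?_
    · rw [ShortComplex.moduleCat_exact_iff]
      intro (x : A) hx
      have hx' : Submodule.Quotient.mk x = (0 : A ⧸ (I ^ (0 + 1) • (⊤ : Submodule A A))) := hx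
      rw [Submodule.Quotient.mk_eq_zero] at hx'
      have : x ∈ I := by simpa [smul_eq_mul, Ideal.mul_top] using hx'
      exact ⟨⟨x, this⟩, rfl⟩
    · exact (ModuleCat.mono_iff_injective _).2 (Submodule.injective_subtype I)
    · exact (ModuleCat.epi_iff_surjective _).2 (Submodule.mkQ_surjective _)
  have hS : (S0.map (HomologicalComplex.single (ModuleCat.{u} A) (ComplexShape.up ℤ) 0)).ShortExact :=
    hS0.map_of_exact _
  have hT := DerivedCategory.triangleOfSES_distinguished hS
  have hex := Groth.Agent.Lib.Helper10.DTenB.hexact_tensorRightD (DerivedCategory.Q.obj K) _ hT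
  -- the unit isomorphism
  have huL := DTen.unitL_app (A := A) K
  haveI iε : IsIso ((DTen.ε A).app (𝟙_ (DRing.Cx A), K)) :=
    Groth.Agent.Lib.Helper1.DT.isIso_ε_of_kflat _ K (Or.inl Groth.Agent.Lib.Helper10.KosPro.kflat_unit')
  haveI iuL : IsIso ((DTen.unitL A).app (DerivedCategory.Q.obj K)) := by
    rw [huL]
    infer_instance
  have hinv : inv ((DTen.unitL A).app (DerivedCategory.Q.obj K)) ≫ (DTen.ε A).app (𝟙_ (DRing.Cx A), K) =
      DerivedCategory.Q.map (λ_ K).inv := by
    rw [IsIso.inv_comp_eq, huL, Category.assoc, ← Functor.map_comp, Iso.hom_inv_id,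
      CategoryTheory.Functor.map_id]
    exact (Category.comp_id _).symm
  -- the key vanishing
  have hπ : η.app (Opposite.op 0) = η.app (Opposite.op m) ≫ ARSys.tr T hm := by
    have := η.naturality (homOfLE hm).op
    simp only [Functor.const_obj_obj, Functor.const_obj_map, Category.id_comp] at this
    exact this
  have nat := (DTen.εRight A K).naturality (η.app (Opposite.op m))
  have hzero : j ≫ (λ_ K).inv ≫ (η.app (Opposite.op m) ▷ K) = 0 := by
    rw [← Category.assoc, leftUnitor_inv_naturality, Category.assoc, whisker_exchange,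
      Groth.Agent.Lib.Helper10.KosPro.whiskerLeft_single_subtype_eq_zero I m M, comp_zero, comp_zero]
  have hvan : (DerivedCategory.Q.map j ≫ inv ((DTen.unitL A).app (DerivedCategory.Q.obj K))) ≫
      F.map (DerivedCategory.Q.map (η.app (Opposite.op 0))) = 0 := by
    have e1 : F.map (DerivedCategory.Q.map (η.app (Opposite.op 0))) =
        F.map (DerivedCategory.Q.map (η.app (Opposite.op m))) ≫
          F.map (DerivedCategory.Q.map (ARSys.tr T hm)) := by
      rw [← Functor.map_comp, ← Functor.map_comp, hπ]
    have e2 : F.map (DerivedCategory.Q.map (ARSys.tr T hm)) =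
        (DTen.ε A).app (T.obj (Opposite.op m), K) ≫ b := hb1.symm
    have e3 : F.map (DerivedCategory.Q.map (η.app (Opposite.op m))) ≫
        (DTen.ε A).app (T.obj (Opposite.op m), K) =
        (DTen.ε A).app (𝟙_ (DRing.Cx A), K) ≫
          DerivedCategory.Q.map (η.app (Opposite.op m) ▷ K) := nat
    rw [e1, e2, Category.assoc, ← Category.assoc (F.map _), e3, Category.assoc,
      ← Category.assoc (inv _), hinv, ← Category.assoc (DerivedCategory.Q.map (λ_ K).inv),
      ← Functor.map_comp, ← Category.assoc (DerivedCategory.Q.map j), ← Functor.map_comp, hzero,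
      Functor.map_zero, zero_comp]
  obtain ⟨g, hg⟩ := hex _ hvan
  refine ⟨g, ?_⟩
  have : g ≫ F.map (DerivedCategory.Q.map
      ((HomologicalComplex.single (ModuleCat.{u} A) (ComplexShape.up ℤ) 0).map
        (ModuleCat.ofHom I.subtype))) =
      DerivedCategory.Q.map j ≫ inv ((DTen.unitL A).app (DerivedCategory.Q.obj K)) := hg
  calc g ≫ (DTen.LTen₂ A).map (Prod.mkHom
          (DerivedCategory.Q.map ((HomologicalComplex.single (ModuleCat.{u} A) (ComplexShape.up ℤ) 0).map
            (ModuleCat.ofHom I.subtype))) (𝟙 _)) ≫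
        (DTen.unitL A).app (DerivedCategory.Q.obj K)
      = (g ≫ F.map (DerivedCategory.Q.map
          ((HomologicalComplex.single (ModuleCat.{u} A) (ComplexShape.up ℤ) 0).map
            (ModuleCat.ofHom I.subtype)))) ≫ (DTen.unitL A).app (DerivedCategory.Q.obj K) := by
        rw [Category.assoc]; rfl
    _ = DerivedCategory.Q.map j := by
        rw [this, Category.assoc, IsIso.inv_hom_id, Category.comp_id]

end Groth.Agent.S13578
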