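import Groth.Statements.S13580
import Groth.Agent.Lib.Helper21Excision
import Groth.Agent.S13581

set_option autoImplicit false
universe w' w u
open CategoryTheory CategoryTheory.Limits
open ExtSupp

namespace Groth.Agent.S13580

open Abelian in
/-- `Ext` is invariant under isomorphisms in the first variable. -/
noncomputable def extAddEquivLeft {𝒜 : Type*} [Category 𝒜] [Abelian 𝒜] [HasExt.{w} 𝒜] {X X' : 𝒜}
    (e : X ≅ X') (Y : 𝒜) (n : ℕ) : Ext.{w} X Y n ≃+ Ext.{w} X' Y n :=
  (((extFunctor.{w} n).mapIso e.symm.op).app Y).addCommGroupIsoToAddEquiv

/-- Let `U`, `V` be objects of a ringed site which together cover it, with `V` subterminal (every object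
has at most one morphism to `V`, so that `V` is an open of the topos and the closed complement `Z`
of `U` is contained in it), and let `M`, `N` be sheaves of modules. Then `Ext^i_Z(M, N)` computed on
the whole site is isomorphic to `Ext^i_{Z}(V; M|_V, N|_V)`, the Ext group with supports computed on
the localised site over `V` with support the complement of `U × V ⟶ V`. Existence of an isomorphism
of groups in each degree only. (The published statement is for a ringed space, where every open set
is subterminal, a locally closed `Z` and an isomorphism of cohomological functors; this row is the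
closed case on a ringed site, degree by degree, with the subterminality of `V` made an explicit
hypothesis. Without the covering hypothesis the statement fails, e.g. for `V = U`; without the
subterminality of `V` it fails already in degree `0`, because restricting to the localised site over
an object that receives two different morphisms from one object can enlarge the group of sections.) -/
theorem result {C : Type u} [SmallCategory C] [HasBinaryProducts C]
    {J : GrothendieckTopology C} {O : Sheaf J CommRingCat.{u}} [HasExt.{w} (ModSite.Mod O)]
    (U V : C) [HasExt.{w'} (ModSite.Mod (O.over V))]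
    (hV : ∀ X : C, Subsingleton (X ⟶ V)) (hUV : J.CoversTop (fun b : Bool => cond b U V)) (M N : ModSite.Mod O)
    (i : ℕ) :
    Nonempty (ExtSupp.ExtZ U M N i ≃+ ExtSupp.ExtZover V (Over.mk (prod.snd : U ⨯ V ⟶ V)) M N i) := by
  open Groth.Agent.Lib.Helper21.Excision Groth.Agent.S13581 in
  haveI := isIso_a hV hUV M
  have e0 : Abelian.Ext.{w} ((ModSite.quotOn O U).obj M) N i ≃+
      Abelian.Ext.{w} ((ModSite.extZero O V).obj (A U V M)) N i :=
    extAddEquivLeft (asIso (a U V M)).symm N i
  haveI : EnoughInjectives (ModSite.Mod O) := Groth.Agent.S0485.result J _
  haveI : EnoughInjectives (ModSite.Mod (O.over V)) := Groth.Agent.S0485.result (J.over V) _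
  haveI : HasExt.{u} (ModSite.Mod O) := hasExt_of_enoughInjectives.{u} _
  haveI : HasExt.{u} (ModSite.Mod (O.over V)) := hasExt_of_enoughInjectives.{u} _
  obtain ⟨e⟩ := nonempty_ext_adj (ModSite.extZeroAdj O V) (A U V M) N i
  exact ⟨e0.trans
    ((extChgUniv.{u, u+1, w, u} _ _ _).trans (e.trans (extChgUniv.{u, u+1, u, w'} _ _ _)))⟩

end Groth.Agent.S13580
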