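import Groth.Statements.S13583
import Mathlib
import Groth.Agent.Lib.Helper16LocCohShift
import Groth.Agent.Lib.Helper16Restr
import Groth.Agent.Lib.Helper16RpushSh
-- import your own Groth.Agent.* helpers here

set_option autoImplicit false
set_option linter.style.haveILetI false
set_option linter.unusedSectionVars false
universe u
open CategoryTheory TopologicalSpace
open SuppFam

namespace Groth.Agent.S13583
open Opposite Abelian CategoryTheory.Limits LocCohZ
open Groth.Agent.Lib.Helper16.SectSupp Groth.Agent.Lib.Helper16.ClosedEmb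
  Groth.Agent.Lib.Helper16.DimShift Groth.Agent.Lib.Helper16.Flasque Groth.Agent.Lib.Helper23LocSS
  Groth.Agent.Lib.Helper16.LocCohShift Groth.Agent.Lib.Helper16.Restr

variable {X : TopCat.{u}} {W V : Opens X} (h : W ≤ V)

/-- the open `V' ∩ V` of the subspace `V`. -/
abbrev TT (V : Opens X) (V' : Opens X) : Opens (TopCat.of V) := (Opens.map (CohCx.incl V)).obj V'

lemma le_img_TT (V' : Opens X) : V ⊓ V' ≤ img V (TT V V') := by
  rintro x ⟨hxV, hxV'⟩
  exact ⟨⟨x, hxV⟩, hxV', rfl⟩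

lemma img_TT_le (V' : Opens X) : img V (TT V V') ≤ V ⊓ V' := by
  rintro _ ⟨x, hx, rfl⟩
  exact ⟨x.2, hx⟩

include h in
lemma le_img_TT_inf (V' : Opens X) : W ⊓ V' ≤ img V (TT V V' ⊓ inOpen V W) := by
  rintro x ⟨hxW, hxV'⟩
  exact ⟨⟨x, h hxW⟩, ⟨hxV', hxW⟩, rfl⟩

lemma img_TT_inf_le (V' : Opens X) : img V (TT V V' ⊓ inOpen V W) ≤ W ⊓ V' := by
  rintro _ ⟨x, ⟨hx, hxW⟩, rfl⟩
  exact ⟨hxW, hx⟩

/-- sections of `Γ_Z A` over `V'`, as a type. -/
abbrev GSec (A : CohTop.Ab X) (V' : Opens X) : Type u :=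
  ((sectSuppLC h).obj A).obj.obj (op V')

lemma img_inf_le_img (V' : Opens X) : img V (TT V V' ⊓ inOpen V W) ≤ img V (TT V V') := by
  rintro _ ⟨x, ⟨hx, _⟩, rfl⟩
  exact ⟨x, hx, rfl⟩

/-- the inclusion `Γ_Z(A)(V') → A(img (V' ∩ V))`. -/
noncomputable def ιT (A : CohTop.Ab X) (V' : Opens X) :
    GSec h A V' →+ A.obj.obj (op (img V (TT V V'))) :=
  ((ιΓ (inOpen V W) ((CohTop.restrFunctor V).obj A)).hom.app (op (TT V V'))).hom

lemma ιT_injective (A : CohTop.Ab X) (V' : Opens X) : Function.Injective (ιT h A V') :=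
  ιΓ_injective (inOpen V W) ((CohTop.restrFunctor V).obj A) (TT V V')

lemma ιT_res (A : CohTop.Ab X) (V' : Opens X) (t : GSec h A V') :
    A.obj.map (homOfLE (img_inf_le_img (W := W) V')).op (ιT h A V' t) = 0 :=
  (exists_sectSupp_iff (inOpen V W) ((CohTop.restrFunctor V).obj A) (TT V V')
    ((ιΓ (inOpen V W) ((CohTop.restrFunctor V).obj A)).hom.app (op (TT V V')) t)).1 ⟨t, rfl⟩

lemma exists_ιT_eq (A : CohTop.Ab X) (V' : Opens X) (s' : A.obj.obj (op (img V (TT V V'))))
    (hs' : A.obj.map (homOfLE (img_inf_le_img (W := W) V')).op s' = 0) :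
    ∃ t : GSec h A V', ιT h A V' t = s' :=
  (exists_sectSupp_iff (inOpen V W) ((CohTop.restrFunctor V).obj A) (TT V V') s').2 hs'

/-- the comparison map `Γ_Z(A)(V') → A(V ⊓ V')`. -/
noncomputable def ρ (A : CohTop.Ab X) (V' : Opens X) : GSec h A V' →+ A.obj.obj (op (V ⊓ V')) :=
  (A.obj.map (homOfLE (le_img_TT V')).op).hom.comp (ιT h A V')

lemma ρ_apply (A : CohTop.Ab X) (V' : Opens X) (t : GSec h A V') :
    ρ h A V' t = A.obj.map (homOfLE (le_img_TT V')).op (ιT h A V' t) := rfl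

lemma ρ_injective (A : CohTop.Ab X) (V' : Opens X) : Function.Injective (ρ h A V') := by
  intro t t' htt
  rw [ρ_apply, ρ_apply] at htt
  have h1 := (map_bijective_of_eq A (homOfLE (le_img_TT (V := V) V'))
    (le_antisymm (img_TT_le V') (le_img_TT V'))).1 htt
  exact ιT_injective h A V' h1

lemma ρ_res (A : CohTop.Ab X) (V' : Opens X) (t : GSec h A V') :
    A.obj.map (homOfLE (inf_le_inf_right V' h)).op (ρ h A V' t) = 0 := by
  rw [ρ_apply, map_map_apply A (homOfLE (le_img_TT V')) (homOfLE (inf_le_inf_right V' h))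
      (homOfLE ((inf_le_inf_right V' h).trans (le_img_TT V'))),
    ← map_map_apply A (homOfLE (img_inf_le_img (W := W) V')) (homOfLE (le_img_TT_inf h V')) _ _,
    ιT_res, map_zero]

lemma exists_ρ_eq (A : CohTop.Ab X) (V' : Opens X) (s : A.obj.obj (op (V ⊓ V')))
    (hs : A.obj.map (homOfLE (inf_le_inf_right V' h)).op s = 0) : ∃ t : GSec h A V', ρ h A V' t = s := by
  have h0 : A.obj.map (homOfLE (img_inf_le_img (W := W) V')).op
      (A.obj.map (homOfLE (img_TT_le (V := V) V')).op s) = 0 := by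
    rw [map_map_apply A (homOfLE (img_TT_le (V := V) V')) _
        (homOfLE ((img_TT_inf_le V').trans (inf_le_inf_right V' h))),
      ← map_map_apply A (homOfLE (inf_le_inf_right V' h)) (homOfLE (img_TT_inf_le V')) _ s, hs, map_zero]
  obtain ⟨t, ht⟩ := exists_ιT_eq h A V' _ h0
  refine ⟨t, ?_⟩
  rw [ρ_apply, ht, map_map_apply A (homOfLE (img_TT_le (V := V) V')) (homOfLE (le_img_TT V'))
    (homOfLE le_rfl) s]
  have : (homOfLE (le_rfl : V ⊓ V' ≤ V ⊓ V')).op = 𝟙 _ := rfl
  rw [this, A.obj.map_id]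
  rfl


lemma ιT_natA {A A' : CohTop.Ab X} (g : A ⟶ A') (V' : Opens X) (t : GSec h A V') :
    ιT h A' V' (((sectSuppLC h).map g).hom.app (op V') t) =
      g.hom.app (op (img V (TT V V'))) (ιT h A V' t) :=
  congrArg (fun m => m.hom.app (op (TT V V')) t)
    (ιΓ_nat (inOpen V W) ((CohTop.restrFunctor V).map g))

lemma ρ_natA {A A' : CohTop.Ab X} (g : A ⟶ A') (V' : Opens X) (t : GSec h A V') :
    ρ h A' V' (((sectSuppLC h).map g).hom.app (op V') t) =
      g.hom.app (op (V ⊓ V')) (ρ h A V' t) := by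
  rw [ρ_apply, ρ_apply, ιT_natA]
  exact (ConcreteCategory.congr_hom (g.hom.naturality (homOfLE (le_img_TT (V := V) V')).op)
    (ιT h A V' t)).symm

lemma ιT_natV (A : CohTop.Ab X) {V' V'' : Opens X} (i : V'' ≤ V') (t : GSec h A V') :
    ιT h A V'' (((sectSuppLC h).obj A).obj.map (homOfLE i).op t) =
      A.obj.map (homOfLE (show img V (TT V V'') ≤ img V (TT V V') from by
        rintro _ ⟨x, hx, rfl⟩; exact ⟨x, i hx, rfl⟩)).op (ιT h A V' t) :=
  ConcreteCategory.congr_hom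
    ((ιΓ (inOpen V W) ((CohTop.restrFunctor V).obj A)).hom.naturality
      ((Opens.map (CohCx.incl V)).map (homOfLE i)).op) t

lemma ρ_natV (A : CohTop.Ab X) {V' V'' : Opens X} (i : V'' ≤ V') (t : GSec h A V') :
    ρ h A V'' (((sectSuppLC h).obj A).obj.map (homOfLE i).op t) =
      A.obj.map (homOfLE (inf_le_inf_left V i)).op (ρ h A V' t) := by
  rw [ρ_apply, ρ_apply, ιT_natV h A i t,
    map_map_apply A _ (homOfLE (le_img_TT (V := V) V''))
      (homOfLE ((inf_le_inf_left V i).trans (le_img_TT (V := V) V'))),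
    map_map_apply A (homOfLE (le_img_TT (V := V) V')) (homOfLE (inf_le_inf_left V i))
      (homOfLE ((inf_le_inf_left V i).trans (le_img_TT (V := V) V')))]


/-- naturality of `homZqEquiv` in the pair of opens. -/
lemma homZqEquiv_zqMap (A : CohTop.Ab X) {W₁ V₁ W₂ V₂ : Opens X} (h₁ : W₁ ≤ V₁) (h₂ : W₂ ≤ V₂)
    (hW : W₂ ≤ W₁) (hV : V₂ ≤ V₁) (φ : zq h₁ ⟶ A) :
    ((homZqEquiv A h₂ (zqMap h₁ h₂ hW hV ≫ φ) : sectZ A h₂) : A.obj.obj (op V₂)) =
      A.obj.map (homOfLE hV).op ((homZqEquiv A h₁ φ : sectZ A h₁) : A.obj.obj (op V₁)) := by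
  rw [homZqEquiv_apply_coe, homZqEquiv_apply_coe]
  have h1 : cokernel.π (CohCx.freeSheafMap (J X) (homOfLE h₂)) ≫ zqMap h₁ h₂ hW hV =
      CohCx.freeSheafMap (J X) (homOfLE hV) ≫ cokernel.π (CohCx.freeSheafMap (J X) (homOfLE h₁)) :=
    cokernel.π_desc _ _ _
  rw [← Category.assoc, h1, Category.assoc]
  exact CohFree.evalGen_freeSheafMap_comp _ _ _ _

/-- the pair `W ⊓ V' ≤ V ⊓ V'`. -/
abbrev hP (V' : Opens X) : W ⊓ V' ≤ V ⊓ V' := inf_le_inf_right V' h

/-- sections of `Γ_Z A` over `V'` as maps `ℤ_{V∩V'}/ℤ_{W∩V'} ⟶ A`. -/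
noncomputable def toHom (A : CohTop.Ab X) (V' : Opens X) : GSec h A V' →+ (zq (hP h V') ⟶ A) :=
  (homZqEquiv A (hP h V')).symm.toAddMonoidHom.comp
    ((ρ h A V').codRestrict (sectZ A (hP h V')) (fun t => ρ_res h A V' t))

lemma homZqEquiv_toHom (A : CohTop.Ab X) (V' : Opens X) (t : GSec h A V') :
    ((homZqEquiv A (hP h V') (toHom h A V' t) : sectZ A (hP h V')) : A.obj.obj (op (V ⊓ V'))) =
      ρ h A V' t := by
  have h1 : toHom h A V' t = (homZqEquiv A (hP h V')).symm
      ⟨ρ h A V' t, ρ_res h A V' t⟩ := rfl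
  rw [h1, AddEquiv.apply_symm_apply]

lemma toHom_bijective (A : CohTop.Ab X) (V' : Opens X) : Function.Bijective (toHom h A V') := by
  constructor
  · intro t t' htt
    apply ρ_injective h A V'
    rw [← homZqEquiv_toHom, ← homZqEquiv_toHom, htt]
  · intro φ
    obtain ⟨t, ht⟩ := exists_ρ_eq h A V' ((homZqEquiv A (hP h V') φ : sectZ A (hP h V')) : _)
      (homZqEquiv A (hP h V') φ).2
    refine ⟨t, ?_⟩
    apply (homZqEquiv A (hP h V')).injective
    apply Subtype.ext
    rw [homZqEquiv_toHom, ht]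

lemma toHom_natA {A A' : CohTop.Ab X} (g : A ⟶ A') (V' : Opens X) (t : GSec h A V') :
    toHom h A' V' (((sectSuppLC h).map g).hom.app (op V') t) = toHom h A V' t ≫ g := by
  apply (homZqEquiv A' (hP h V')).injective
  apply Subtype.ext
  rw [homZqEquiv_toHom, homZqEquiv_comp, homZqEquiv_toHom, ρ_natA]

lemma toHom_natV (A : CohTop.Ab X) {V' V'' : Opens X} (i : V'' ≤ V') (t : GSec h A V') :
    toHom h A V'' (((sectSuppLC h).obj A).obj.map (homOfLE i).op t) =
      zqMap (hP h V') (hP h V'') (inf_le_inf_left W i) (inf_le_inf_left V i) ≫ toHom h A V' t := by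
  apply (homZqEquiv A (hP h V'')).injective
  apply Subtype.ext
  rw [homZqEquiv_toHom, homZqEquiv_zqMap, homZqEquiv_toHom, ρ_natV]


section Tau

variable {A F : CohTop.Ab X} {n : ℕ} (c : Ext.{u} A F n)

/-- sectionwise: `Γ_Z(A)(V') → Ext^n(ℤ_{V∩V'}/ℤ_{W∩V'}, F)`, `t ↦ φ_t ≫ c`. -/
noncomputable def τapp (V' : Opens X) : GSec h A V' →+ HZ F n (hP h V') :=
  (c.postcomp (zq (hP h V')) (zero_add n)).comp
    ((Ext.addEquiv₀ (X := zq (hP h V')) (Y := A)).symm.toAddMonoidHom.comp (toHom h A V'))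

lemma τapp_apply (V' : Opens X) (t : GSec h A V') :
    τapp h c V' t = (Ext.mk₀ (toHom h A V' t)).comp c (zero_add n) := rfl

/-- the presheaf map `Γ_Z(A) ⟶ (V' ↦ H^n_{Z ∩ V'}(V ∩ V', F))` given by `c ∈ Ext^n(A, F)`. -/
noncomputable def τ : ((sectSuppLC h).obj A).obj ⟶ HZpre F n h where
  app V' := AddCommGrpCat.ofHom (τapp h c V'.unop)
  naturality V' V'' g := by
    ext t
    have hg : g = (homOfLE (leOfHom g.unop)).op := rfl
    change τapp h c V''.unop (((sectSuppLC h).obj A).obj.map g t) =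
      LocCohZ.resZ F n (hP h V'.unop) (hP h V''.unop) (inf_le_inf_left W (leOfHom g.unop))
        (inf_le_inf_left V (leOfHom g.unop)) (τapp h c V'.unop t)
    rw [hg, τapp_apply, toHom_natV h A (leOfHom g.unop) t, τapp_apply]
    change _ = (Ext.mk₀ _).comp ((Ext.mk₀ _).comp c (zero_add n)) (zero_add n)
    rw [Ext.mk₀_comp_mk₀_assoc]

end Tau


open Groth.Agent.Lib.Helper16.RpushSh

section Main

variable (F : CohTop.Ab X)

lemma sectSuppLC_preservesFiniteLimits : PreservesFiniteLimits (sectSuppLC h) := by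
  haveI := restr_preservesFiniteLimits V
  haveI := sectSuppF_preservesFiniteLimits (inOpen V W)
  haveI : PreservesFiniteLimits (CohTop.push (CohCx.incl V)) := by
    haveI : PreservesLimitsOfSize.{0, 0} (CohTop.push (CohCx.incl V)) :=
      (TopCat.Sheaf.pullbackPushforwardAdjunction AddCommGrpCat.{u} (CohCx.incl V)).rightAdjoint_preservesLimits
    exact PreservesLimitsOfSize.preservesFiniteLimits _
  unfold sectSuppLC
  infer_instance

/-- `(P.obj)^# ≅ P` for a sheaf `P`. -/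
noncomputable def counitIso (P : CohTop.Ab X) :
    (presheafToSheaf (J X) AddCommGrpCat.{u}).obj P.obj ≅ P :=
  asIso ((sheafificationAdjunction (J X) AddCommGrpCat.{u}).counit.app P)

lemma counitIso_naturality {P P' : CohTop.Ab X} (φ : P ⟶ P') :
    (presheafToSheaf (J X) AddCommGrpCat.{u}).map φ.hom ≫ (counitIso P').hom =
      (counitIso P).hom ≫ φ :=
  (sheafificationAdjunction (J X) AddCommGrpCat.{u}).counit.naturality φ

/-- degree zero. -/
noncomputable def zeroIso :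
    (HZshLC h 0).obj F ≅ (presheafToSheaf (J X) AddCommGrpCat.{u}).obj (HZpre F 0 h) := by
  haveI := sectSuppLC_preservesFiniteLimits h
  haveI : ∀ V' : (Opens X)ᵒᵖ, IsIso ((τ h (Ext.mk₀ (𝟙 F))).app V') := fun V' => by
    apply (ConcreteCategory.isIso_iff_bijective _).2
    have hfun : ∀ t, τapp h (Ext.mk₀ (𝟙 F)) V'.unop t = Ext.mk₀ (toHom h F V'.unop t) := by
      intro t
      rw [τapp_apply, Ext.mk₀_comp_mk₀, Category.comp_id]
    have : (τapp h (Ext.mk₀ (𝟙 F)) V'.unop : _ → _) = (fun φ => Ext.mk₀ φ) ∘ (toHom h F V'.unop) := by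
      funext t
      exact hfun t
    change Function.Bijective (τapp h (Ext.mk₀ (𝟙 F)) V'.unop)
    rw [this]
    exact (Ext.mk₀_bijective _ _).comp (toHom_bijective h F V'.unop)
  haveI : IsIso (τ h (Ext.mk₀ (𝟙 F))) := NatIso.isIso_of_isIso_app _
  exact ((sectSuppLC h).rightDerivedZeroIsoSelf).app F ≪≫ (counitIso _).symm ≪≫
    (presheafToSheaf (J X) AddCommGrpCat.{u}).mapIso (asIso (τ h (Ext.mk₀ (𝟙 F))))


attribute [local instance] Ext.subsingleton_of_injective in
lemma ds_zq (k : ℕ) (V' : Opens X) :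
    Function.Surjective ((DD F).δ (zq (hP h V')) k) ∧
      ((DD F).δ (zq (hP h V')) k).ker =
        (Preadditive.rightComp (zq (hP h V')) ((DD F).g k)).range := by
  refine ds'.{u} (zq (hP h V')) k (DD F) (fun j q => ?_)
  haveI : Injective ((DD F).J j) := (injectiveResolution F).injective j
  infer_instance

lemma τapp_cls (k : ℕ) (V' : Opens X) (t : GSec h ((DD F).Z (k + 1)) V') :
    τapp h ((DD F).cls k) V' t = (DD F).δ (zq (hP h V')) k (toHom h _ V' t) := rfl

lemma τapp_cls_surjective (k : ℕ) (V' : Opens X) :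
    Function.Surjective (τapp h ((DD F).cls k) V') := by
  intro x
  obtain ⟨φ, hφ⟩ := (ds_zq h F k V').1 x
  obtain ⟨t, ht⟩ := (toHom_bijective h _ V').2 φ
  exact ⟨t, by rw [τapp_cls, ht, hφ]⟩

lemma τapp_cls_eq_zero_iff (k : ℕ) (V' : Opens X) (t : GSec h ((DD F).Z (k + 1)) V') :
    τapp h ((DD F).cls k) V' t = 0 ↔
      ∃ t₀ : GSec h ((DD F).J k) V', ((sectSuppLC h).map ((DD F).g k)).hom.app (op V') t₀ = t := by
  rw [τapp_cls, ← AddMonoidHom.mem_ker, (ds_zq h F k V').2, AddMonoidHom.mem_range]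
  constructor
  · rintro ⟨ψ, hψ⟩
    obtain ⟨t₀, ht₀⟩ := (toHom_bijective h _ V').2 ψ
    refine ⟨t₀, ?_⟩
    apply (toHom_bijective h _ V').1
    rw [toHom_natA, ht₀]
    exact hψ
  · rintro ⟨t₀, rfl⟩
    exact ⟨toHom h _ V' t₀, (toHom_natA h ((DD F).g k) V' t₀).symm⟩

/-- the short complex of presheaves `Γ_Z J^k → Γ_Z Z^{k+1} → H^{k+1}_Z(-, F)`. -/
noncomputable def preSC (k : ℕ) : ShortComplex ((Opens X)ᵒᵖ ⥤ AddCommGrpCat.{u}) :=
  ShortComplex.mk ((sectSuppLC h).map ((DD F).g k)).hom (τ h ((DD F).cls k)) (by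
    ext V' t₀
    exact (τapp_cls_eq_zero_iff h F k V'.unop _).2 ⟨t₀, rfl⟩)

lemma preSC_exact (k : ℕ) : (preSC h F k).Exact := by
  apply exact_of_pointwise
  intro V' x hx
  exact (τapp_cls_eq_zero_iff h F k V'.unop x).1 hx

instance preSC_epi_g (k : ℕ) : Epi (preSC h F k).g := by
  haveI : ∀ V' : (Opens X)ᵒᵖ, Epi ((preSC h F k).g.app V') := fun V' =>
    (AddCommGrpCat.epi_iff_surjective _).2 (τapp_cls_surjective h F k V'.unop)
  exact NatTrans.epi_of_epi_app _

/-- positive degrees. -/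
noncomputable def succIso (k : ℕ) :
    (HZshLC h (k + 1)).obj F ≅ (presheafToSheaf (J X) AddCommGrpCat.{u}).obj (HZpre F (k + 1) h) := by
  haveI := sectSuppLC_preservesFiniteLimits h
  let e1 : (HZshLC h (k + 1)).obj F ≅ cokernel ((sectSuppLC h).map ((DD F).g k)) :=
    rightDerivedSuccIso (sectSuppLC h) (injectiveResolution F) k
  let S := (preSC h F k).map (presheafToSheaf (J X) AddCommGrpCat.{u})
  have hS : S.Exact := (preSC_exact h F k).map _
  haveI : Epi S.g := by
    change Epi ((presheafToSheaf (J X) AddCommGrpCat.{u}).map (preSC h F k).g)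
    infer_instance
  let e2 : (presheafToSheaf (J X) AddCommGrpCat.{u}).obj (HZpre F (k + 1) h) ≅
      cokernel ((presheafToSheaf (J X) AddCommGrpCat.{u}).map ((sectSuppLC h).map ((DD F).g k)).hom) :=
    (IsColimit.coconePointUniqueUpToIso (colimit.isColimit _) hS.gIsCokernel).symm
  let e3 : cokernel ((presheafToSheaf (J X) AddCommGrpCat.{u}).map
      ((sectSuppLC h).map ((DD F).g k)).hom) ≅ cokernel ((sectSuppLC h).map ((DD F).g k)) :=
    cokernel.mapIso _ _ (counitIso _) (counitIso _)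
      (counitIso_naturality ((sectSuppLC h).map ((DD F).g k)))
  exact e1 ≪≫ e3.symm ≪≫ e2.symm

end Main


/-- For an abelian sheaf `F` on a topological space `X` and a locally closed `Z = V ∖ W` (`W ≤ V`
opens), the local cohomology sheaf `ℋ^q_Z(F)`, the `q`-th right derived functor of the sheaf of
sections with supports in `Z`, is isomorphic to the sheaf associated to the presheaf `V' ↦ H^q_{Z ∩
V'}(V', F)` (here written through the Ext groups with supports for the pair `W ∩ V' ≤ V ∩ V'`).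
Existence of an isomorphism only; the canonical comparison map is not named. -/
theorem result {X : TopCat.{u}} (F : CohTop.Ab X) {W V : Opens X} (h : W ≤ V)
    (q : ℕ) :
    Nonempty ((SuppFam.HZshLC h q).obj F ≅
      (presheafToSheaf (Opens.grothendieckTopology X) AddCommGrpCat.{u}).obj (SuppFam.HZpre F q h)) := by
  cases q with
  | zero => exact ⟨zeroIso h F⟩
  | succ k => exact ⟨succIso h F k⟩

end Groth.Agent.S13583
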