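import Groth.Statements.S13586
import Mathlib
import Groth.Agent.S12895
import Groth.Agent.Lib.Helper21NullOn3
import Groth.Agent.Lib.Helper21GSS
import Groth.Agent.Lib.Helper23LocSS
import Groth.Agent.Lib.Helper23ExtRD
import Groth.Agent.Lib.Helper21FreeConst
import Groth.Agent.Lib.Helper21DerPost
import Groth.Agent.Lib.Helper21QuotZ

set_option autoImplicit false
universe u
open CategoryTheory CategoryTheory.Limits
open ExtSupp

namespace Groth.Agent.S13586

/-- On a ringed site, for an object `U` with closed complement `Z` and sheaves of modules `M`, `N`,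
there is a bounded `E_2` spectral sequence of abelian groups with `E_2^{p,q}` isomorphic to
`H^p_Z(ℰxt^q_O(M, N))` for `p, q ≥ 0` and zero otherwise, together with abutment data whose
filtrations are finite on `Ext^n_Z(M, N)` (`n ≥ 0`; zero for `n < 0`). The `E_2` identifications and
the abutment isomorphisms are asserted to exist only and are not pinned to the canonical maps, so
edge maps are not part of this statement; the internal hom out of `M`, the right adjoint of
restriction to `U` and injective resolutions of sheaves of modules are assumed to exist. (The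
published statement, on a ringed topos and likewise on a ringed space, is functorial in `M`, `N` and
in an object `X` of the topos; this row is the case of the final object.) -/
theorem result {C : Type u} [SmallCategory C]
    {J : GrothendieckTopology C} {O : Sheaf J CommRingCat.{u}} [HasExt.{u} (ModSite.Mod O)]
    (U : C) [ModSite.HasPushOver O U] (M N : ModSite.Mod O) [ModSite.HasSheafHom M]
    [HasInjectiveResolutions (ModSite.Mod O)] :
    ∃ (E : E₂CohomologicalSpectralSequence AddCommGrpCat.{u})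
      (a : SpSeq.Abutment E (fun n : ℤ =>
        if 0 ≤ n then AddCommGrpCat.of (ExtSupp.ExtZ U M N n.toNat) else AddCommGrpCat.of PUnit.{u + 1})),
      (∀ n, a.IsFinite n) ∧ SpSeq.IsBounded E ∧
      ∀ p q : ℤ, Nonempty ((E.page 2 le_rfl).X (p, q) ≅
        (if 0 ≤ p ∧ 0 ≤ q then AddCommGrpCat.of (ModSite.HZ U ((ModSite.extSh M q.toNat).obj N) p.toNat)
         else AddCommGrpCat.of PUnit.{u + 1})) := by
  open Groth.Agent.Lib.Helper21 Groth.Agent.Lib.Helper21.NullOn Groth.Agent.Lib.Helper23LocSS
    Groth.Agent.Lib.Helper23ExtRD Groth.Agent.Lib.Helper21.FreeAb Groth.Agent.Lib.Helper21.DerPost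
    Groth.Agent.Lib.Helper21.TorsFree Groth.Agent.Lib.Helper21.QuotZ Groth.Agent.S12895 Opposite in
  have hz : IsZero (AddCommGrpCat.of PUnit.{u + 1}) := AddCommGrpCat.isZero_of_subsingleton _
  let ZU : Sheaf J AddCommGrpCat.{u} := ToposFin.quotZ (ToposFin.eps J U)
  let F : ModSite.Mod O ⥤ ModSite.Mod O := ModSite.sheafHom M
  let T : ModSite.Mod O ⥤ Sheaf J AddCommGrpCat.{u} :=
    F ⋙ SheafOfModules.toSheaf (ModSite.ringSh O)
  let S : Sheaf J AddCommGrpCat.{u} ⥤ AddCommGrpCat.{u} :=
    preadditiveCoyoneda.obj (op ZU)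
  have hT : ∀ Q : ModSite.Mod O, Injective Q → ∀ q : ℕ, 0 < q →
      IsZero ((S.rightDerived q).obj (T.obj Q)) := by
    intro Q hQ q hq
    obtain ⟨q, rfl⟩ : ∃ k, q = k + 1 := ⟨q - 1, by lia⟩
    obtain ⟨e⟩ := rightDerived_coyoneda_iso ZU (T.obj Q) (q + 1)
    refine IsZero.of_iso ?_ e
    haveI : Subsingleton (Abelian.Ext.{u} ZU (T.obj Q) (q + 1)) :=
      ⟨fun x y => (ext_sheafHom_eq_zero O M Q q _ (TF_quotZ _) x).trans
        (ext_sheafHom_eq_zero O M Q q _ (TF_quotZ _) y).symm⟩
    exact AddCommGrpCat.isZero_of_subsingleton _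
  let eQ : (ModTensor3.tR O M).obj ((ModSite.quotOn O U).obj (ModSite.unit O)) ≅
      (ModSite.quotOn O U).obj M :=
    φApp O U (ModSite.unit O) M ≪≫ (ModSite.quotOn O U).mapIso ((ModTensor7.tLUnitIso O).app M)
  let isoTS : T ⋙ S ≅ preadditiveCoyoneda.obj (op ((ModSite.quotOn O U).obj M)) :=
    Functor.associator _ _ _ ≪≫ Functor.isoWhiskerLeft _ (toSheafCoyonedaQuotIso O U) ≪≫
      adjCoyonedaIso (ModSite.sheafHomAdj M) ((ModSite.quotOn O U).obj (ModSite.unit O)) ≪≫
      coyonedaIsoOfIso eQ
  exact GSS.gss_general T S hT N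
    (fun n : ℤ => if 0 ≤ n then AddCommGrpCat.of (ExtSupp.ExtZ U M N n.toNat)
      else AddCommGrpCat.of PUnit.{u + 1})
    (fun n => by
      rw [if_pos (Int.natCast_nonneg n), Int.toNat_natCast]
      obtain ⟨e₄⟩ := rightDerived_coyoneda_iso ((ModSite.quotOn O U).obj M) N n
      exact ⟨(rightDerivedIso isoTS n).app N ≪≫ e₄⟩)
    (fun n hn => by rw [if_neg (by lia)]; exact hz)
    (fun p q : ℤ => if 0 ≤ p ∧ 0 ≤ q then
      AddCommGrpCat.of (ModSite.HZ U ((ModSite.extSh M q.toNat).obj N) p.toNat)
      else AddCommGrpCat.of PUnit.{u + 1})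
    (fun p q => by
      rw [if_pos ⟨Int.natCast_nonneg p, Int.natCast_nonneg q⟩, Int.toNat_natCast, Int.toNat_natCast]
      let e₂' : (T.rightDerived q).obj N ≅ ModSite.toAb ((ModSite.extSh M q).obj N) :=
        (postIso F (SheafOfModules.toSheaf (ModSite.ringSh O)) q).app N
      obtain ⟨e₃⟩ := rightDerived_coyoneda_iso ZU
        (ModSite.toAb ((ModSite.extSh M q).obj N)) p
      exact ⟨(S.rightDerived p).mapIso e₂' ≪≫ e₃⟩)
    (fun p q h => by rw [if_neg h]; exact hz)

end Groth.Agent.S13586
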