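import Groth.Statements.S13588
import Mathlib
import Groth.Agent.Lib.Helper21NullOn2
import Groth.Agent.Lib.Helper21GSS
import Groth.Agent.Lib.Helper23LocSS
import Groth.Agent.Lib.Helper23ExtRD
import Groth.Agent.Lib.Helper21FreeConst

set_option autoImplicit false
universe u
open CategoryTheory CategoryTheory.Limits
open ExtSupp

namespace Groth.Agent.S13588

/-- On a ringed site, for an object `U` with closed complement `Z` and sheaves of modules `M`, `N`,
there is a bounded `E_2` spectral sequence of abelian groups with `E_2^{p,q}` isomorphic to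
`Ext^p_O(M, ℋ^q_Z(N))` for `p, q ≥ 0` and zero otherwise, together with abutment data whose
filtrations are finite on `Ext^n_Z(M, N)` (`n ≥ 0`; zero for `n < 0`). The `E_2` identifications and
the abutment isomorphisms are asserted to exist only and are not pinned to the canonical maps, so
edge maps are not part of this statement; the internal hom out of `M`, the right adjoint of
restriction to `U` and injective resolutions of sheaves of modules are assumed to exist. (The
published statement, on a ringed topos and likewise on a ringed space, is functorial in `M`, `N` and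
in an object `X` of the topos; this row is the case of the final object.) -/
theorem result {C : Type u} [SmallCategory C]
    {J : GrothendieckTopology C} {O : Sheaf J CommRingCat.{u}} [HasExt.{u} (ModSite.Mod O)]
    (U : C) [ModSite.HasPushOver O U] (M N : ModSite.Mod O) [ModSite.HasSheafHom M]
    [HasInjectiveResolutions (ModSite.Mod O)] :
    ∃ (E : E₂CohomologicalSpectralSequence AddCommGrpCat.{u})
      (a : SpSeq.Abutment E (fun n : ℤ =>
        if 0 ≤ n then AddCommGrpCat.of (ExtSupp.ExtZ U M N n.toNat) else AddCommGrpCat.of PUnit.{u + 1})),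
      (∀ n, a.IsFinite n) ∧ SpSeq.IsBounded E ∧
      ∀ p q : ℤ, Nonempty ((E.page 2 le_rfl).X (p, q) ≅
        (if 0 ≤ p ∧ 0 ≤ q then AddCommGrpCat.of (Abelian.Ext.{u} M ((ModSite.HZsh O U q.toNat).obj N) p.toNat)
         else AddCommGrpCat.of PUnit.{u + 1})) := by
  open Groth.Agent.Lib.Helper21 Groth.Agent.Lib.Helper21.NullOn Groth.Agent.Lib.Helper23LocSS
    Groth.Agent.Lib.Helper23ExtRD Groth.Agent.Lib.Helper21.FreeAb Opposite in
  have hz : IsZero (AddCommGrpCat.of PUnit.{u + 1}) := AddCommGrpCat.isZero_of_subsingleton _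
  let T : ModSite.Mod O ⥤ ModSite.Mod O := ModSite.sectOn O U
  let S : ModSite.Mod O ⥤ AddCommGrpCat.{u} := preadditiveCoyoneda.obj (op M)
  have hT : ∀ Q : ModSite.Mod O, Injective Q → ∀ q : ℕ, 0 < q →
      IsZero ((S.rightDerived q).obj (T.obj Q)) := by
    intro Q hQ q hq
    obtain ⟨q, rfl⟩ : ∃ k, q = k + 1 := ⟨q - 1, by lia⟩
    haveI : Injective (T.obj Q) := (ModSite.sectOn O U).injective_obj_of_injective hQ
    exact Functor.isZero_rightDerived_obj_injective_succ S q (T.obj Q)
  let isoTS : T ⋙ S ≅ preadditiveCoyoneda.obj (op ((ModSite.quotOn O U).obj M)) :=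
    adjCoyonedaIso (quotSectAdj O U) M
  exact GSS.gss_general T S hT N
    (fun n : ℤ => if 0 ≤ n then AddCommGrpCat.of (ExtSupp.ExtZ U M N n.toNat)
      else AddCommGrpCat.of PUnit.{u + 1})
    (fun n => by
      rw [if_pos (Int.natCast_nonneg n), Int.toNat_natCast]
      obtain ⟨e₄⟩ := rightDerived_coyoneda_iso ((ModSite.quotOn O U).obj M) N n
      exact ⟨(rightDerivedIso isoTS n).app N ≪≫ e₄⟩)
    (fun n hn => by rw [if_neg (by lia)]; exact hz)
    (fun p q : ℤ => if 0 ≤ p ∧ 0 ≤ q then
      AddCommGrpCat.of (Abelian.Ext.{u} M ((ModSite.HZsh O U q.toNat).obj N) p.toNat)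
      else AddCommGrpCat.of PUnit.{u + 1})
    (fun p q => by
      rw [if_pos ⟨Int.natCast_nonneg p, Int.natCast_nonneg q⟩, Int.toNat_natCast, Int.toNat_natCast]
      exact rightDerived_coyoneda_iso M ((ModSite.HZsh O U q).obj N) p)
    (fun p q h => by rw [if_neg h]; exact hz)

end Groth.Agent.S13588
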