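import Groth.Statements.S13590
import Mathlib
import Groth.Agent.Lib.Helper16RestrInj
-- import your own Groth.Agent.* helpers here

set_option autoImplicit false
universe u
open CategoryTheory TopologicalSpace
open SuppFam

namespace Groth.Agent.S13590
open CategoryTheory.Limits
open Groth.Agent.Lib.Helper16.Restr Groth.Agent.Lib.Helper16.RestrInj

/-- For an abelian sheaf `F` on a topological space `X` and a locally closed `Z = V ∖ W` (`W ≤ V`
opens), if `F` is injective then the sheaf `Γ_Z(F) = i_* i^!(F)` of sections of `F` with supports in
`Z` is injective. -/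
theorem result {X : TopCat.{u}} (F : CohTop.Ab X) {W V : Opens X} (h : W ≤ V)
    (hF : Injective F) : Injective ((SuppFam.sectSuppLC h).obj F) := by
  haveI := hF
  haveI h1 : Injective ((CohTop.restrFunctor V).obj F) :=
    (CohTop.restrFunctor V).injective_obj F
  haveI h2 : Injective ((LocCohZ.sectSuppF (SuppFam.inOpen V W)).obj ((CohTop.restrFunctor V).obj F)) :=
    Groth.Agent.Lib.Helper23LocSS2.injective_sectSuppF (SuppFam.inOpen V W) _
  haveI := restr_preservesFiniteLimits V
  haveI : (CohTop.restrFunctor V).PreservesMonomorphisms :=
    preservesMonomorphisms_of_preservesLimitsOfShape _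
  haveI : (CohTop.push (CohCx.incl V)).PreservesInjectiveObjects :=
    Functor.preservesInjectiveObjects_of_adjunction_of_preservesMonomorphisms
      (Groth.Agent.Lib.Helper23OpenEmb.adjR V)
  exact (CohTop.push (CohCx.incl V)).injective_obj _

end Groth.Agent.S13590
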