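import Groth.Statements.S13599
import Mathlib
import Groth.Agent.S1875
import Groth.Agent.S1919
import Groth.Agent.Lib.Helper6GalAct
import Groth.Agent.Lib.Helper14GeomRed
import Groth.Agent.Lib.Helper16PInsepLen
-- import your own Groth.Agent.* helpers here

set_option autoImplicit false
set_option linter.style.haveILetI false
set_option linter.unusedSectionVars false
universe u
open CategoryTheory AlgebraicGeometry
open CategoryTheory.Limits
open Cyc

namespace Groth.Agent.S13599

open TensorProduct Groth.Agent.Lib.Helper16.PInsepLen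

section Core

variable {k : Type*} {W T : Type*} [Field k] [CommRing W] [CommRing T] [Algebra k W]
  [Algebra W T]

/-- variant of `exists_length_eq_pow`: the length divides the rank. -/
theorem exists_length_dvd (p : ℕ) [ExpChar k p] [IsReduced W] [Module.Free W T]
    [Module.Finite W T]
    (hpow : ∀ x : T, ∃ n : ℕ, x ^ p ^ n ∈ (algebraMap W T).range)
    (q : Ideal T) [q.IsPrime] (hq : q ∈ minimalPrimes T) :
    ∃ l : ℕ, Module.length (Localization.AtPrime q) (Localization.AtPrime q) = (l : ℕ∞) ∧
      l ∣ Module.finrank W T := by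
  classical
  have hp0 : 0 < p := expChar_pos k p
  let q0 : Ideal W := q.under W
  haveI hq0prime : q0.IsPrime := inferInstance
  haveI hover : q.LiesOver q0 := ⟨rfl⟩
  have hq0min : q0 ∈ minimalPrimes W := by
    refine ⟨⟨hq0prime, bot_le⟩, fun p' hp' hle => ?_⟩
    haveI hp'prime : p'.IsPrime := hp'.1
    by_contra hne
    have hlt : p' < q.under W := lt_of_le_of_ne hle (fun h => hne (h ▸ le_rfl))
    obtain ⟨P, hPq, hPprime, hPover⟩ :=
      Algebra.HasGoingDown.exists_ideal_le_liesOver_of_lt (R := W) (S := T) q hlt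
    have hqP : q ≤ P := hq.2 ⟨hPprime, bot_le⟩ hPq
    have hPeq : P = q := le_antisymm hPq hqP
    have h1 : p' = P.under W := hPover.over
    rw [hPeq] at h1
    exact hne h1.ge
  have hEfield : IsField (Localization.AtPrime q0) := isField_localization_of_minimal q0 hq0min
  letI : Field (Localization.AtPrime q0) := hEfield.toField
  letI : Algebra (Localization.AtPrime q0) (Localization.AtPrime q) :=
    Localization.AtPrime.algebraOfLiesOver q0 q
  haveI : IsScalarTower W (Localization.AtPrime q0) (Localization.AtPrime q) := inferInstance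
  have hloc : IsLocalization (Algebra.algebraMapSubmonoid T q0.primeCompl)
      (Localization.AtPrime q) := by
    refine (IsLocalization.iff_of_le_of_exists_dvd
      (M := Algebra.algebraMapSubmonoid T q0.primeCompl) q.primeCompl ?_ ?_).mpr inferInstance
    · rintro _ ⟨w, hw, rfl⟩
      exact hw
    · intro s hs
      obtain ⟨n, w, hw⟩ := hpow s
      refine ⟨s ^ p ^ n, ⟨w, ?_, hw⟩, dvd_pow_self s (pow_ne_zero _ hp0.ne')⟩
      intro hwq
      have h1 : algebraMap W T w ∈ q := hwq
      rw [hw] at h1
      exact hs (Ideal.IsPrime.mem_of_pow_mem inferInstance _ h1)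
  have hlm : IsLocalizedModule q0.primeCompl
      (IsScalarTower.toAlgHom W T (Localization.AtPrime q)).toLinearMap :=
    isLocalizedModule_iff_isLocalization.mpr hloc
  let b := Module.Free.chooseBasis W T
  let b' := b.ofIsLocalizedModule (Localization.AtPrime q0) q0.primeCompl
    (IsScalarTower.toAlgHom W T (Localization.AtPrime q)).toLinearMap
  haveI hfinE : Module.Finite (Localization.AtPrime q0) (Localization.AtPrime q) :=
    Module.Finite.of_basis b'
  haveI hWnt : Nontrivial W :=
    ⟨⟨0, 1, fun h => hq0prime.ne_top ((Ideal.eq_top_iff_one _).mpr (h ▸ q0.zero_mem))⟩⟩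
  have hfr : Module.finrank (Localization.AtPrime q0) (Localization.AtPrime q) =
      Module.finrank W T := by
    rw [Module.finrank_eq_card_basis b', Module.finrank_eq_card_basis b]
  have hlen := length_mul_finrank (E := Localization.AtPrime q0) (A := Localization.AtPrime q)
    (Localization.AtPrime q)
  rw [hfr] at hlen
  have hTnt : Nontrivial T :=
    ⟨⟨0, 1, fun h => (inferInstance : q.IsPrime).ne_top ((Ideal.eq_top_iff_one _).mpr (h ▸ q.zero_mem))⟩⟩
  letI : Field (Localization.AtPrime q ⧸ IsLocalRing.maximalIdeal (Localization.AtPrime q)) :=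
    Ideal.Quotient.field _
  have hpos : 0 < Module.finrank (Localization.AtPrime q0)
      (Localization.AtPrime q ⧸ IsLocalRing.maximalIdeal (Localization.AtPrime q)) := by
    haveI : Module.Finite (Localization.AtPrime q0)
        (Localization.AtPrime q ⧸ IsLocalRing.maximalIdeal (Localization.AtPrime q)) :=
      Module.Finite.of_surjective
        (Ideal.Quotient.mkₐ (Localization.AtPrime q0)
          (IsLocalRing.maximalIdeal (Localization.AtPrime q))).toLinearMap
        (Ideal.Quotient.mkₐ_surjective (Localization.AtPrime q0) _)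
    exact Module.finrank_pos
  have hne : Module.length (Localization.AtPrime q) (Localization.AtPrime q) ≠ ⊤ := by
    intro htop
    rw [htop, ENat.top_mul (by exact_mod_cast hpos.ne')] at hlen
    exact ENat.top_ne_natCast _ hlen
  obtain ⟨l, hl⟩ := ENat.ne_top_iff_exists.mp hne
  rw [← hl] at hlen
  refine ⟨l, hl.symm, ⟨Module.finrank (Localization.AtPrime q0)
      (Localization.AtPrime q ⧸ IsLocalRing.maximalIdeal (Localization.AtPrime q)), ?_⟩⟩
  exact_mod_cast hlen.symm

end Core

theorem lemmaA' (k K M L : Type u) [Field k] [Field K] [Field M] [Field L] [Algebra k K]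
    [Algebra k M] [Algebra k L] [Algebra M L] [IsScalarTower k M L] [Module.Finite M L]
    [IsPurelyInseparable M L] (p : ℕ) [ExpChar k p] (hred : IsReduced (M ⊗[k] K))
    (q : Ideal (L ⊗[k] K)) [q.IsPrime] (hq : q ∈ minimalPrimes (L ⊗[k] K)) :
    ∃ l : ℕ, Module.length (Localization.AtPrime q) (Localization.AtPrime q) = (l : ℕ∞) ∧
      l ∣ Module.finrank M L := by
  classical
  letI : Algebra (M ⊗[k] K) (L ⊗[k] K) :=
    (Algebra.TensorProduct.map (IsScalarTower.toAlgHom k M L) (AlgHom.id k K)).toRingHom.toAlgebra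
  have hmap : ∀ x, algebraMap (M ⊗[k] K) (L ⊗[k] K) x =
      Algebra.TensorProduct.map (IsScalarTower.toAlgHom k M L) (AlgHom.id k K) x := fun _ => rfl
  haveI : IsScalarTower M (M ⊗[k] K) (L ⊗[k] K) := by
    refine IsScalarTower.of_algebraMap_eq fun x => ?_
    rw [hmap]
    simp [Algebra.TensorProduct.algebraMap_apply]
  have hpo : Algebra.IsPushout M L (M ⊗[k] K) (L ⊗[k] K) := by
    refine Algebra.IsPushout.tensorProduct_tensorProduct k K M L ?_
    ext x
    simp [hmap]
  have hpo' : Algebra.IsPushout M (M ⊗[k] K) L (L ⊗[k] K) := hpo.symm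
  have ibc := hpo'.out
  let b := Module.Free.chooseBasis M L
  let b' := ibc.basis b
  haveI : Module.Free (M ⊗[k] K) (L ⊗[k] K) := Module.Free.of_basis b'
  haveI : Module.Finite (M ⊗[k] K) (L ⊗[k] K) := Module.Finite.of_basis b'
  haveI : ExpChar M p := expChar_of_injective_algebraMap (algebraMap k M).injective p
  haveI hnt : Nontrivial (M ⊗[k] K) :=
    (Algebra.TensorProduct.includeLeft_injective (S := M) (R := k) (A := M) (B := K)
      (algebraMap k K).injective).nontrivial
  have hrank : Module.finrank (M ⊗[k] K) (L ⊗[k] K) = Module.finrank M L := by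
    rw [Module.finrank_eq_card_basis b', Module.finrank_eq_card_basis b]
  haveI : ExpChar (L ⊗[k] K) p :=
    expChar_of_injective_algebraMap (FaithfulSMul.algebraMap_injective k (L ⊗[k] K)) p
  have hpi := (isPurelyInseparable_iff_pow_mem (F := M) (E := L) p).mp inferInstance
  have hpow : ∀ x : L ⊗[k] K, ∃ n : ℕ, x ^ p ^ n ∈ (algebraMap (M ⊗[k] K) (L ⊗[k] K)).range := by
    intro x
    induction x using TensorProduct.induction_on with
    | zero => exact ⟨0, 0, by simp⟩
    | tmul l a =>
      obtain ⟨n, m, hm⟩ := hpi l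
      refine ⟨n, m ⊗ₜ (a ^ p ^ n), ?_⟩
      rw [hmap, Algebra.TensorProduct.map_tmul, Algebra.TensorProduct.tmul_pow]
      simp only [IsScalarTower.coe_toAlgHom', AlgHom.coe_id, id_eq]
      rw [hm]
    | add x y hx hy =>
      obtain ⟨n, w1, h1⟩ := hx
      obtain ⟨m, w2, h2⟩ := hy
      refine ⟨n + m, w1 ^ p ^ m + w2 ^ p ^ n, ?_⟩
      rw [add_pow_expChar_pow, map_add, map_pow, map_pow, h1, h2, ← pow_mul, ← pow_mul,
        ← pow_add, ← pow_add, add_comm m n]
  obtain ⟨l, hl, hd⟩ := exists_length_dvd (k := k) (W := M ⊗[k] K) (T := L ⊗[k] K) p hpow q hq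
  exact ⟨l, hl, hrank ▸ hd⟩

theorem ring_main (k K κ : Type u) [Field k] [Field K] [Field κ] [Algebra k K] [Algebra k κ]
    [FiniteDimensional k K] (q : Ideal (K ⊗[k] κ)) [q.IsPrime] :
    ∃ l : ℕ, Module.length (Localization.AtPrime q) (Localization.AtPrime q) = (l : ℕ∞) ∧
      l ∣ Field.finInsepDegree k K := by
  obtain ⟨p, hp⟩ := ExpChar.exists k
  let M : IntermediateField k K := separableClosure k K
  haveI : IsPurelyInseparable M K := separableClosure.isPurelyInseparable k K
  haveI : Algebra.IsSeparable k M := separableClosure.isSeparable k K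
  haveI : Module.Finite M K := Module.Finite.of_restrictScalars_finite k M K
  have hred : IsReduced (M ⊗[k] κ) := Groth.Agent.Lib.Helper14.GeomRed.isReduced_tensor_of_isSeparable
  haveI : IsArtinianRing (K ⊗[k] κ) := by
    haveI : IsArtinianRing (κ ⊗[k] K) := IsArtinianRing.of_finite κ (κ ⊗[k] K)
    exact (Algebra.TensorProduct.comm k κ K).toRingEquiv.isArtinianRing
  have hqmin : q ∈ minimalPrimes (K ⊗[k] κ) := IsArtinianRing.mem_minimalPrimes bot_le
  obtain ⟨l, hl, hd⟩ := lemmaA' k κ M K p hred q hqmin
  exact ⟨l, hl, hd⟩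


theorem length_fiber_dvd (k K : Type u) [Field k] [Field K] [Algebra k K] [FiniteDimensional k K]
    {X : Scheme.{u}} (f : X ⟶ Spec (CommRingCat.of k)) (x : X)
    (y : ↥((pullback.fst f (Spec.map (CommRingCat.ofHom (algebraMap k K)))).fiber x)) :
    ∃ l : ℕ, Module.length
      ((pullback f (Spec.map (CommRingCat.ofHom (algebraMap k K)))).presheaf.stalk
        (((pullback.fst f (Spec.map (CommRingCat.ofHom (algebraMap k K)))).fiberι x) y))
      ((pullback f (Spec.map (CommRingCat.ofHom (algebraMap k K)))).presheaf.stalk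
        (((pullback.fst f (Spec.map (CommRingCat.ofHom (algebraMap k K)))).fiberι x) y) ⧸
        Ideal.map ((pullback.fst f (Spec.map (CommRingCat.ofHom (algebraMap k K)))).stalkMap
          (((pullback.fst f (Spec.map (CommRingCat.ofHom (algebraMap k K)))).fiberι x) y)).hom
          (IsLocalRing.maximalIdeal (X.presheaf.stalk
            ((pullback.fst f (Spec.map (CommRingCat.ofHom (algebraMap k K))))
              (((pullback.fst f (Spec.map (CommRingCat.ofHom (algebraMap k K)))).fiberι x) y)))))
      = (l : ℕ∞) ∧ l ∣ Field.finInsepDegree k K := by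
  letI : Algebra k (X.residueField x) :=
    (Spec.preimage (X.fromSpecResidueField x ≫ f)).hom.toAlgebra
  obtain ⟨e1⟩ := Groth.Agent.S1919.quot_equiv_fiber_stalk
    (pullback.fst f (Spec.map (CommRingCat.ofHom (algebraMap k K)))) x y
  obtain ⟨e2⟩ := Groth.Agent.S1919.fiber_iso k K f x
  obtain ⟨q, hq, ⟨e3⟩⟩ := Groth.Agent.S1919.stalk_equiv_localization _ e2 y
  obtain ⟨l, hl, hd⟩ := ring_main k K (X.residueField x) q
  refine ⟨l, ?_, hd⟩
  rw [← hl, ← Groth.Agent.S1875.length_eq_of_ringEquiv (e1.trans e3)]
  exact Module.length_eq_of_surjective Ideal.Quotient.mk_surjective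

theorem length_dvd (k K : Type u) [Field k] [Field K] [Algebra k K] [FiniteDimensional k K]
    {X : Scheme.{u}} (f : X ⟶ Spec (CommRingCat.of k))
    (x' : ↥(pullback f (Spec.map (CommRingCat.ofHom (algebraMap k K))))) :
    ∃ l : ℕ, Module.length
      ((pullback f (Spec.map (CommRingCat.ofHom (algebraMap k K)))).presheaf.stalk x')
      ((pullback f (Spec.map (CommRingCat.ofHom (algebraMap k K)))).presheaf.stalk x' ⧸
        Ideal.map ((pullback.fst f (Spec.map (CommRingCat.ofHom (algebraMap k K)))).stalkMap x').hom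
          (IsLocalRing.maximalIdeal (X.presheaf.stalk
            ((pullback.fst f (Spec.map (CommRingCat.ofHom (algebraMap k K)))) x'))))
      = (l : ℕ∞) ∧ l ∣ Field.finInsepDegree k K := by
  have key : ∀ z : ↥(pullback f (Spec.map (CommRingCat.ofHom (algebraMap k K)))), z = x' →
      (∃ l : ℕ, Module.length
        ((pullback f (Spec.map (CommRingCat.ofHom (algebraMap k K)))).presheaf.stalk z)
        ((pullback f (Spec.map (CommRingCat.ofHom (algebraMap k K)))).presheaf.stalk z ⧸
          Ideal.map ((pullback.fst f (Spec.map (CommRingCat.ofHom (algebraMap k K)))).stalkMap z).hom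
            (IsLocalRing.maximalIdeal (X.presheaf.stalk
              ((pullback.fst f (Spec.map (CommRingCat.ofHom (algebraMap k K)))) z)))) =
        (l : ℕ∞) ∧ l ∣ Field.finInsepDegree k K) →
      ∃ l : ℕ, Module.length
        ((pullback f (Spec.map (CommRingCat.ofHom (algebraMap k K)))).presheaf.stalk x')
        ((pullback f (Spec.map (CommRingCat.ofHom (algebraMap k K)))).presheaf.stalk x' ⧸
          Ideal.map ((pullback.fst f (Spec.map (CommRingCat.ofHom (algebraMap k K)))).stalkMap x').hom
            (IsLocalRing.maximalIdeal (X.presheaf.stalk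
              ((pullback.fst f (Spec.map (CommRingCat.ofHom (algebraMap k K)))) x')))) =
        (l : ℕ∞) ∧ l ∣ Field.finInsepDegree k K := by
    rintro z rfl h
    exact h
  exact key _ (Scheme.Hom.fiberι_asFiber _ x')
    (length_fiber_dvd k K f _ (Scheme.Hom.asFiber _ x'))

theorem length_comp_iso {X'' X' X : Scheme.{u}} (g : X'' ⟶ X') [IsIso g] (π : X' ⟶ X)
    (π' : X'' ⟶ X) (h : g ≫ π = π') (x'' : X'') :
    Module.length (X''.presheaf.stalk x'')
      (X''.presheaf.stalk x'' ⧸ Ideal.map (π'.stalkMap x'').hom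
        (IsLocalRing.maximalIdeal (X.presheaf.stalk (π' x'')))) =
    Module.length (X'.presheaf.stalk (g x''))
      (X'.presheaf.stalk (g x'') ⧸ Ideal.map (π.stalkMap (g x'')).hom
        (IsLocalRing.maximalIdeal (X.presheaf.stalk (π (g x''))))) := by
  subst h
  let e : X'.presheaf.stalk (g x'') ≃+* X''.presheaf.stalk x'' :=
    (asIso (g.stalkMap x'')).commRingCatIsoToRingEquiv
  have he : ∀ a, e a = (g.stalkMap x'').hom a := fun _ => rfl
  set I := Ideal.map (π.stalkMap (g x'')).hom
    (IsLocalRing.maximalIdeal (X.presheaf.stalk (π (g x'')))) with hI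
  set J := Ideal.map ((g ≫ π).stalkMap x'').hom
    (IsLocalRing.maximalIdeal (X.presheaf.stalk ((g ≫ π) x''))) with hJ
  have hJI : J = Ideal.map (e : X'.presheaf.stalk (g x'') →+* X''.presheaf.stalk x'') I := by
    rw [hJ, hI, Ideal.map_map]
    have : ((g ≫ π).stalkMap x'').hom =
        (e : X'.presheaf.stalk (g x'') →+* X''.presheaf.stalk x'').comp
          (π.stalkMap (g x'')).hom := by
      rw [Scheme.Hom.stalkMap_comp]
      rfl
    rw [this]
    rfl
  let E : (X'.presheaf.stalk (g x'') ⧸ I) ≃+* (X''.presheaf.stalk x'' ⧸ J) :=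
    Ideal.quotientEquiv I J e hJI
  rw [Module.length_eq_of_surjective (S := X''.presheaf.stalk x'')
      (R := X''.presheaf.stalk x'' ⧸ J) (M := X''.presheaf.stalk x'' ⧸ J)
      Ideal.Quotient.mk_surjective,
    Module.length_eq_of_surjective (S := X'.presheaf.stalk (g x''))
      (R := X'.presheaf.stalk (g x'') ⧸ I) (M := X'.presheaf.stalk (g x'') ⧸ I)
      Ideal.Quotient.mk_surjective]
  exact (Groth.Agent.S1875.length_eq_of_ringEquiv E).symm



/-- Let k be a field, X a separated k-scheme of finite type, and k' a finite normal extension field of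
k, with G the group of k-automorphisms of k'; put X' = X ×_k Spec k' with first projection p. The
group G acts on X' over X (σ acts through Spec σ on the second factor). If Z' is a cycle on X' (an
integer-valued function on the points of X' with locally finite support) invariant under every σ ∈
G, then there is exactly one cycle Z on X with [k' : k]_insep · Z' = p^*Z, where [k' : k]_insep is
the inseparable degree and p^*Z is the flat pullback of cycles along p: its coefficient at x' is Z(p
x') times the length of the Artinian local ring O_{X',x'}/𝔪_{p x'}O_{X',x'} (p has discrete fibres,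
so there is no dimension condition; the two auxiliary dimension functions are taken to be zero). -/
theorem result
    {k : Type u} [Field k] {k' : Type u} [Field k'] [Algebra k k'] [FiniteDimensional k k'] [Normal k k']
    {X : Scheme.{u}} (f : X ⟶ Spec (CommRingCat.of k)) [LocallyOfFiniteType f] [QuasiCompact f]
    [IsSeparated f]
    (Z' : AlgebraicCycle (pullback f (Spec.map (CommRingCat.ofHom (algebraMap k k')))) ℤ)
    (hZ' : ∀ (σ : k' ≃ₐ[k] k')
      (t : pullback f (Spec.map (CommRingCat.ofHom (algebraMap k k'))) ⟶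
        pullback f (Spec.map (CommRingCat.ofHom (algebraMap k k')))),
      t ≫ pullback.fst f _ = pullback.fst f _ →
      t ≫ pullback.snd f _ = pullback.snd f _ ≫ Spec.map (CommRingCat.ofHom σ.toAlgHom.toRingHom) →
      ∀ x', Z' (t.base x') = Z' x') :
    ∃! Z : AlgebraicCycle X ℤ, ∀ x' : ↥(pullback f (Spec.map (CommRingCat.ofHom (algebraMap k k')))),
      (Field.finInsepDegree k k' : ℤ) * Z' x' =
        Cyc.pullFun (pullback.fst f (Spec.map (CommRingCat.ofHom (algebraMap k k'))))
          (fun _ => 0) (fun _ => 0) 0 ⇑Z x' := by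
  classical
  letI : X.Over (Spec (CommRingCat.of k)) := ⟨f⟩
  haveI hgs : Surjective (Spec.map (CommRingCat.ofHom (algebraMap k k'))) :=
    ⟨fun y => ⟨default, Subsingleton.elim _ _⟩⟩
  haveI : Surjective (pullback.fst f (Spec.map (CommRingCat.ofHom (algebraMap k k')))) :=
    inferInstance
  have hsurj : Function.Surjective
      (pullback.fst f (Spec.map (CommRingCat.ofHom (algebraMap k k')))) :=
    Scheme.Hom.surjective _
  have hC := length_dvd k k' f
  choose l hl hdvd using hC
  have hins : Field.finInsepDegree k k' ≠ 0 := NeZero.ne _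
  have hlne : ∀ x', l x' ≠ 0 := by
    intro x' h0
    have := hdvd x'
    rw [h0, zero_dvd_iff] at this
    exact hins this
  -- pullFun
  have hpull : ∀ (W : X → ℤ) x',
      Cyc.pullFun (pullback.fst f (Spec.map (CommRingCat.ofHom (algebraMap k k'))))
        (fun _ => 0) (fun _ => 0) 0 W x' =
      W ((pullback.fst f (Spec.map (CommRingCat.ofHom (algebraMap k k')))) x') * (l x' : ℤ) := by
    intro W x'
    unfold Cyc.pullFun
    rw [if_pos (by simp), hl x', ENat.toNat_natCast]
  -- transitivity
  have htrans : ∀ x₁ x₂ : ↥(pullback f (Spec.map (CommRingCat.ofHom (algebraMap k k')))),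
      (pullback.fst f (Spec.map (CommRingCat.ofHom (algebraMap k k')))) x₁ =
        (pullback.fst f (Spec.map (CommRingCat.ofHom (algebraMap k k')))) x₂ →
      Z' x₁ = Z' x₂ ∧ l x₁ = l x₂ := by
    intro x₁ x₂ h
    obtain ⟨σ, hσ⟩ := Groth.Agent.Lib.Helper6.GalAct.exists_galAct_eq k X k' x₁ x₂ h
    have h1 := Groth.Agent.Lib.Helper6.GalAct.galAct_fst k X k' σ
    have h2 := Groth.Agent.Lib.Helper6.GalAct.galAct_snd k X k' σ
    haveI : IsIso (Curv2.galAct k X k' σ) :=
      ⟨⟨Curv2.galAct k X k' σ.symm, Groth.Agent.Lib.Helper6.GalAct.galAct_comp_symm k X k' σ,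
        Groth.Agent.Lib.Helper6.GalAct.galAct_symm_comp k X k' σ⟩⟩
    constructor
    · rw [← hσ]
      exact (hZ' σ (Curv2.galAct k X k' σ) h1 h2 x₁).symm
    · have h3 : (l x₁ : ℕ∞) = (l ((Curv2.galAct k X k' σ) x₁) : ℕ∞) := by
        refine (hl x₁).symm.trans (Eq.trans ?_ (hl ((Curv2.galAct k X k' σ) x₁)))
        exact length_comp_iso (Curv2.galAct k X k' σ)
          (pullback.fst f (Spec.map (CommRingCat.ofHom (algebraMap k k'))))
          (pullback.fst f (Spec.map (CommRingCat.ofHom (algebraMap k k')))) h1 x₁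
      rw [hσ] at h3
      exact_mod_cast h3
  -- finite support
  haveI : CompactSpace ↥(pullback f (Spec.map (CommRingCat.ofHom (algebraMap k k')))) :=
    QuasiCompact.compactSpace_of_compactSpace
      (pullback.snd f (Spec.map (CommRingCat.ofHom (algebraMap k k'))))
  have hfin : (Function.support ⇑Z').Finite := by
    have := (Function.locallyFinsupp.locallyFiniteSupport Z').finite_inter_support_of_isCompact
      isCompact_univ
    simpa using this
  let s := Function.surjInv hsurj
  have hs : ∀ x, (pullback.fst f (Spec.map (CommRingCat.ofHom (algebraMap k k')))) (s x) = x :=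
    Function.surjInv_eq hsurj
  let Zf : X → ℤ := fun x => (Field.finInsepDegree k k' : ℤ) * Z' (s x) / (l (s x) : ℤ)
  have hZsupp : (Function.support Zf).Finite := by
    refine (hfin.image (pullback.fst f (Spec.map (CommRingCat.ofHom (algebraMap k k'))))).subset ?_
    intro x hx
    refine ⟨s x, ?_, hs x⟩
    intro h0
    apply hx
    change (Field.finInsepDegree k k' : ℤ) * Z' (s x) / (l (s x) : ℤ) = 0
    rw [h0, mul_zero, Int.zero_ediv]
  let Z : AlgebraicCycle X ℤ :=
    ⟨Zf, fun _ _ => trivial, fun z _ => ⟨Set.univ, Filter.univ_mem, by simpa using hZsupp⟩⟩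
  have hZ : ∀ x', (Field.finInsepDegree k k' : ℤ) * Z' x' =
      Zf ((pullback.fst f (Spec.map (CommRingCat.ofHom (algebraMap k k')))) x') * (l x' : ℤ) := by
    intro x'
    obtain ⟨h1, h2⟩ := htrans (s ((pullback.fst f
      (Spec.map (CommRingCat.ofHom (algebraMap k k')))) x')) x' (hs _)
    change _ = (Field.finInsepDegree k k' : ℤ) * Z' (s _) / (l (s _) : ℤ) * _
    rw [h1, h2]
    refine (Int.ediv_mul_cancel ?_).symm
    exact Dvd.dvd.mul_right (Int.natCast_dvd_natCast.mpr (hdvd x')) _
  refine ⟨Z, fun x' => ?_, fun Z₁ hZ₁ => ?_⟩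
  · rw [hpull]
    exact hZ x'
  · ext x
    have h1 := hZ₁ (s x)
    rw [hpull, hs x] at h1
    have h2 := hZ (s x)
    rw [hs x] at h2
    have h3 : Z₁ x * (l (s x) : ℤ) = Zf x * (l (s x) : ℤ) := by rw [← h1, ← h2]
    exact mul_right_cancel₀ (by exact_mod_cast hlne (s x)) h3

end Groth.Agent.S13599
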