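import Groth.Statements.S13602
import Groth.Agent.Lib.Helper20SymProd
import Groth.Agent.Lib.Helper20QuotCat

set_option autoImplicit false
universe u
open CategoryTheory CategoryTheory.Limits AlgebraicGeometry
open SymProd

namespace Groth.Agent.S13602

/-- Let f : X ⟶ S be a morphism of schemes satisfying (AF): every finite set of points of X over a
single point of S lies in an affine open of X. Then for every d ≥ 0 and every point x of the d-fold
fibre power X ×_S ⋯ ×_S X, some affine open of the fibre power contains the whole orbit of x under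
the symmetric group on d letters permuting the factors. (With the existence of a quotient by a
finite group whose orbits lie in affine opens, this is the existence of the symmetric power
Sym^d(X/S) for X/S satisfying (AF).) -/
theorem result {X S : Scheme.{u}} (f : X ⟶ S) (hAF : SymProd.IsAF f)
    (d : ℕ) (x : ↥(SymProd.fibPow f d)) :
    ∃ U : (SymProd.fibPow f d).Opens, IsAffineOpen U ∧
      ∀ σ : Equiv.Perm (Fin d), (SymProd.permHom f d σ).base x ∈ U := by
  classical
  have hπf : ∀ (i : Fin d) (z : ↥(SymProd.fibPow f d)),
      f.base ((WidePullback.π (fun _ : Fin d => f) i).base z) =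
        (WidePullback.base (fun _ : Fin d => f)).base z := by
    intro i z
    have := congrArg (fun k => k.base z) (WidePullback.π_arrow (fun _ : Fin d => f) i)
    simp only [Scheme.Hom.comp_base, TopCat.hom_comp, ContinuousMap.comp_apply] at this
    exact this
  obtain ⟨V, hV, hsV⟩ := Groth.Agent.Lib.Helper20.exists_affine_nhd S
    ((WidePullback.base (fun _ : Fin d => f)).base x)
  let T : Finset X := Finset.univ.image (fun i : Fin d => (WidePullback.π (fun _ : Fin d => f) i).base x)
  have hTs : ∀ t ∈ T, f.base t = (WidePullback.base (fun _ : Fin d => f)).base x := by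
    intro t ht
    obtain ⟨i, -, rfl⟩ := Finset.mem_image.mp ht
    exact hπf i x
  obtain ⟨U₀, hU₀, hTU₀⟩ := hAF _ T hTs
  obtain ⟨U, hU, -, hUV, hTU⟩ := Groth.Agent.Lib.Helper20.exists_affine_finite hU₀ (f ⁻¹ᵁ V) T
    (fun t ht => ⟨hTU₀ t ht, by
      change f.base t ∈ V
      rw [hTs t ht]; exact hsV⟩)
  refine ⟨Groth.Agent.Lib.Helper20.fibPowOpen f d V U,
    Groth.Agent.Lib.Helper20.isAffineOpen_fibPowOpen f d hV hU hUV, fun σ => ?_⟩
  rw [Groth.Agent.Lib.Helper20.mem_fibPowOpen]
  constructor
  · have := congrArg (fun k => k.base x) (SymProd.permHom_base f d σ)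
    simp only [Scheme.Hom.comp_base, TopCat.hom_comp, ContinuousMap.comp_apply] at this
    rw [this]; exact hsV
  · intro i
    have := congrArg (fun k => k.base x) (SymProd.permHom_π f d σ i)
    simp only [Scheme.Hom.comp_base, TopCat.hom_comp, ContinuousMap.comp_apply] at this
    rw [this]
    exact hTU _ (Finset.mem_image.mpr ⟨σ.symm i, Finset.mem_univ _, rfl⟩)

end Groth.Agent.S13602
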