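import Groth.Statements.S13603
import Mathlib.Algebra.BigOperators.Group.Finset.Basic
import Mathlib.Data.Set.Finite.Basic

set_option autoImplicit false
universe u v
open CAlg

namespace Groth.Agent.S13603

/-- Let a group G act on a commutative ring B by ring automorphisms so that every element of B has a
finite orbit, and let S ⊆ B be a multiplicative set of G-fixed elements (so each g ∈ G induces an
endomorphism of the localization S⁻¹B; the hypothesis that g maps S into S is implied by the
previous one and is only carried to name that endomorphism). Then an element of S⁻¹B is fixed by all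
of G if and only if it is a fraction b/s with b fixed by G and s ∈ S: the canonical map S⁻¹(B^G) →
(S⁻¹B)^G is onto. -/
theorem result {B : Type u} [CommRing B]
    {G : Type v} [Group G] [MulSemiringAction G B] (hfin : ∀ b : B, (MulAction.orbit G b).Finite)
    (S : Submonoid B) (hS : ∀ (g : G) (s : B), s ∈ S → g • s = s)
    (hS' : ∀ g : G, S ≤ S.comap (MulSemiringAction.toRingHom G B g)) (x : Localization S) :
    (∀ g : G, IsLocalization.map (Localization S) (MulSemiringAction.toRingHom G B g) (hS' g) x = x) ↔
      ∃ (b : B) (s : S), (∀ g : G, g • b = b) ∧ x = IsLocalization.mk' (Localization S) b s := by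
  classical
  constructor
  · intro hx
    obtain ⟨b, s, rfl⟩ := IsLocalization.exists_mk'_eq S x
    -- for each g some u in S with u * g • b = u * b
    have key : ∀ g : G, ∃ u : S, (u : B) * g • b = u * b := by
      intro g
      have h1 := hx g
      rw [IsLocalization.map_mk', IsLocalization.eq] at h1
      obtain ⟨c, hc⟩ := h1
      refine ⟨c * s, ?_⟩
      simp only [MulSemiringAction.toRingHom_apply, hS g s s.2] at hc
      simp only [Submonoid.coe_mul]
      calc (c : B) * s * g • b = c * (s * g • b) := by ring
        _ = c * (s * b) := hc
        _ = c * s * b := by ring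
    -- choose one u for each element of the orbit
    have key2 : ∀ y : MulAction.orbit G b, ∃ u : S, (u : B) * y = u * b := by
      rintro ⟨y, g, rfl⟩
      exact key g
    choose u hu using key2
    haveI : Fintype (MulAction.orbit G b) := (hfin b).fintype
    let U : S := ∏ y : MulAction.orbit G b, u y
    have hU : ∀ g : G, (U : B) * g • b = U * b := by
      intro g
      let y : MulAction.orbit G b := ⟨g • b, g, rfl⟩
      have hsplit : U = (∏ z ∈ Finset.univ.erase y, u z) * u y :=
        (Finset.prod_erase_mul Finset.univ u (Finset.mem_univ y)).symm
      rw [hsplit]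
      simp only [Submonoid.coe_mul]
      have := hu y
      calc ((∏ z ∈ Finset.univ.erase y, u z : S) : B) * (u y) * g • b
          = (∏ z ∈ Finset.univ.erase y, u z : S) * ((u y : B) * g • b) := by ring
        _ = (∏ z ∈ Finset.univ.erase y, u z : S) * ((u y : B) * b) := by rw [show (u y : B) * g • b = u y * b from this]
        _ = (∏ z ∈ Finset.univ.erase y, u z : S) * (u y) * b := by ring
    refine ⟨U * b, U * s, ?_, ?_⟩
    · intro g
      rw [smul_mul', hS g U U.2, hU g]
    · exact IsLocalization.mk'_eq_of_eq (by simp only [Submonoid.coe_mul]; ring)
  · rintro ⟨b, s, hb, rfl⟩ g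
    rw [IsLocalization.map_mk']
    apply IsLocalization.mk'_eq_of_eq
    simp only [MulSemiringAction.toRingHom_apply, hb g, hS g s s.2]

end Groth.Agent.S13603
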