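import Groth.Statements.S13605
import Groth.Agent.Lib.Helper20SymProd
import Groth.Agent.Lib.Helper20QuotCat

set_option autoImplicit false
universe u
open CategoryTheory CategoryTheory.Limits AlgebraicGeometry
open CategoryTheory.Limits
open SymProd

namespace Groth.Agent.S13605

/-- Let f : X ⟶ S be a morphism of schemes satisfying (AF) (every finite set of points of X over a
single point of S lies in an affine open of X), let 𝒮 be a cover of S by affine opens, let d ≥ 1 and
let (Y, q, g) be a d-th symmetric power of X over S: q : X ×_S ⋯ ×_S X ⟶ Y is a quotient by the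
symmetric group on d letters permuting the factors (affine, invariant, sections of O_Y = invariant
sections) and q ≫ g is the structure map of the fibre power. Then Y is covered by affine opens of
the form Sym^d(U/V) with V in the given cover: for every point y of Y there are V ∈ 𝒮 and an affine
open U ⊆ f⁻¹V of X such that the open W = ⋂_i pr_i⁻¹ U of the fibre power (the fibre power of U over
V) is affine and stable under every permutation of the factors, and an affine open W' of Y
containing y with q⁻¹ W' = W. (The published statement also fixes an affine open cover of X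
subordinate to the cover of S, in which any d points over a common point of a member V lie in a
common member mapping into V, and concludes that the corresponding opens Sym^d(U/V) cover Y; this
row states the pointwise form, producing U for each y.) -/
theorem result {X S Y : Scheme.{u}} (f : X ⟶ S) (hAF : SymProd.IsAF f)
    (𝒮 : Set S.Opens) (h𝒮 : ∀ V ∈ 𝒮, IsAffineOpen V) (hcov : ∀ s : S, ∃ V ∈ 𝒮, s ∈ V)
    (d : ℕ) (hd : 0 < d) (q : SymProd.fibPow f d ⟶ Y) (g : Y ⟶ S) (hq : SymProd.IsSymProd f d q g) (y : Y) :
    ∃ V ∈ 𝒮, ∃ U : X.Opens, IsAffineOpen U ∧ U ≤ f ⁻¹ᵁ V ∧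
      ∃ W : (SymProd.fibPow f d).Opens,
        (W : Set ↥(SymProd.fibPow f d)) =
          ⋂ i : Fin d, (WidePullback.π (fun _ : Fin d => f) i).base ⁻¹' (U : Set X) ∧
        IsAffineOpen W ∧ (∀ σ : Equiv.Perm (Fin d), (SymProd.permHom f d σ) ⁻¹ᵁ W = W) ∧
        ∃ W' : Y.Opens, y ∈ W' ∧ IsAffineOpen W' ∧ q ⁻¹ᵁ W' = W := by
  classical
  have hQ := hq.isQuot
  have hπf : ∀ (i : Fin d) (z : ↥(SymProd.fibPow f d)),
      f.base ((WidePullback.π (fun _ : Fin d => f) i).base z) =
        (WidePullback.base (fun _ : Fin d => f)).base z := by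
    intro i z
    have := congrArg (fun k => k.base z) (WidePullback.π_arrow (fun _ : Fin d => f) i)
    simp only [Scheme.Hom.comp_base, TopCat.hom_comp, ContinuousMap.comp_apply] at this
    exact this
  obtain ⟨x, rfl⟩ := Groth.Agent.Lib.Helper20.surjective_of_isQuot hQ y
  obtain ⟨V, hV𝒮, hsV⟩ := hcov ((WidePullback.base (fun _ : Fin d => f)).base x)
  have hV := h𝒮 V hV𝒮
  let T : Finset X := Finset.univ.image (fun i : Fin d => (WidePullback.π (fun _ : Fin d => f) i).base x)
  have hTs : ∀ t ∈ T, f.base t = (WidePullback.base (fun _ : Fin d => f)).base x := by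
    intro t ht
    obtain ⟨i, -, rfl⟩ := Finset.mem_image.mp ht
    exact hπf i x
  obtain ⟨U₀, hU₀, hTU₀⟩ := hAF _ T hTs
  obtain ⟨U, hU, -, hUV, hTU⟩ := Groth.Agent.Lib.Helper20.exists_affine_finite hU₀ (f ⁻¹ᵁ V) T
    (fun t ht => ⟨hTU₀ t ht, by
      change f.base t ∈ V
      rw [hTs t ht]; exact hsV⟩)
  refine ⟨V, hV𝒮, U, hU, hUV, Groth.Agent.Lib.Helper20.fibPowOpen f d V U, ?_,
    Groth.Agent.Lib.Helper20.isAffineOpen_fibPowOpen f d hV hU hUV, ?_, ?_⟩
  · ext z
    rw [SetLike.mem_coe, Groth.Agent.Lib.Helper20.mem_fibPowOpen, Set.mem_iInter]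
    constructor
    · exact fun h => h.2
    · intro h
      refine ⟨?_, h⟩
      rw [← hπf ⟨0, hd⟩ z]
      exact hUV (h ⟨0, hd⟩)
  · intro σ
    ext z
    change (SymProd.permHom f d σ).base z ∈ Groth.Agent.Lib.Helper20.fibPowOpen f d V U ↔
      z ∈ Groth.Agent.Lib.Helper20.fibPowOpen f d V U
    rw [Groth.Agent.Lib.Helper20.mem_fibPowOpen, Groth.Agent.Lib.Helper20.mem_fibPowOpen]
    have hb := congrArg (fun k => k.base z) (SymProd.permHom_base f d σ)
    simp only [Scheme.Hom.comp_base, TopCat.hom_comp, ContinuousMap.comp_apply] at hb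
    have hπ : ∀ i, (WidePullback.π (fun _ : Fin d => f) i).base ((SymProd.permHom f d σ).base z) =
        (WidePullback.π (fun _ : Fin d => f) (σ.symm i)).base z := by
      intro i
      have := congrArg (fun k => k.base z) (SymProd.permHom_π f d σ i)
      simp only [Scheme.Hom.comp_base, TopCat.hom_comp, ContinuousMap.comp_apply] at this
      exact this
    rw [hb]
    constructor
    · rintro ⟨h1, h2⟩
      refine ⟨h1, fun i => ?_⟩
      have := h2 (σ i)
      rwa [hπ, Equiv.symm_apply_apply] at this
    · rintro ⟨h1, h2⟩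
      refine ⟨h1, fun i => ?_⟩
      rw [hπ]
      exact h2 _
  · have hstable : ∀ g : ULift.{u} (Equiv.Perm (Fin d)),
        (SymProd.permActU f d g).hom ⁻¹ᵁ Groth.Agent.Lib.Helper20.fibPowOpen f d V U =
          Groth.Agent.Lib.Helper20.fibPowOpen f d V U := by
      intro g
      rw [SymProd.permActU_hom]
      ext z
      change (SymProd.permHom f d g.down).base z ∈ Groth.Agent.Lib.Helper20.fibPowOpen f d V U ↔
        z ∈ Groth.Agent.Lib.Helper20.fibPowOpen f d V U
      rw [Groth.Agent.Lib.Helper20.mem_fibPowOpen, Groth.Agent.Lib.Helper20.mem_fibPowOpen]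
      have hb := congrArg (fun k => k.base z) (SymProd.permHom_base f d g.down)
      simp only [Scheme.Hom.comp_base, TopCat.hom_comp, ContinuousMap.comp_apply] at hb
      have hπ : ∀ i, (WidePullback.π (fun _ : Fin d => f) i).base
          ((SymProd.permHom f d g.down).base z) =
          (WidePullback.π (fun _ : Fin d => f) (g.down.symm i)).base z := by
        intro i
        have := congrArg (fun k => k.base z) (SymProd.permHom_π f d g.down i)
        simp only [Scheme.Hom.comp_base, TopCat.hom_comp, ContinuousMap.comp_apply] at this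
        exact this
      rw [hb]
      constructor
      · rintro ⟨h1, h2⟩
        refine ⟨h1, fun i => ?_⟩
        have := h2 (g.down i)
        rwa [hπ, Equiv.symm_apply_apply] at this
      · rintro ⟨h1, h2⟩
        refine ⟨h1, fun i => ?_⟩
        rw [hπ]
        exact h2 _
    obtain ⟨W', hW'⟩ := Groth.Agent.Lib.Helper20.exists_open_of_stable hQ _ hstable
    refine ⟨W', ?_, ?_, hW'⟩
    · have hxW : x ∈ Groth.Agent.Lib.Helper20.fibPowOpen f d V U := by
        rw [Groth.Agent.Lib.Helper20.mem_fibPowOpen]
        exact ⟨hsV, fun i => hTU _ (Finset.mem_image.mpr ⟨i, Finset.mem_univ _, rfl⟩)⟩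
      rw [← hW'] at hxW
      exact hxW
    · apply Groth.Agent.Lib.Helper20.isAffineOpen_of_isQuot hQ W'
      rw [hW']
      exact Groth.Agent.Lib.Helper20.isAffineOpen_fibPowOpen f d hV hU hUV

end Groth.Agent.S13605
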