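import Groth.Statements.S13608
import Mathlib

set_option autoImplicit false
universe u v
open CAlg

namespace Groth.Agent.S13608

section Dev
section
variable (A : Type u) [CommRing A] (I : Ideal A)
    (M : ℕ → Type v) [∀ n, AddCommGroup (M n)] [∀ n, Module A (M n)]
    (f : ∀ n, M (n + 1) →ₗ[A] M n)
    (hkill : ∀ n, I ^ (n + 1) • (⊤ : Submodule A (M n)) = ⊥)
    (L : Type v) [AddCommGroup L] [Module A L] (π : ∀ n, L →ₗ[A] M n)
    (hπ : ∀ n, f n ∘ₗ π (n + 1) = π n)
    (hinj : ∀ x : L, (∀ n, π n x = 0) → x = 0)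
    (hlift : ∀ y : (∀ n, M n), (∀ n, f n (y (n + 1)) = y n) → ∃ x : L, ∀ n, π n x = y n)

include hkill in
theorem pi_eq_zero (n k : ℕ) (hk : n + 1 ≤ k) (z : L) (hz : z ∈ I ^ k • (⊤ : Submodule A L)) :
    π n z = 0 := by
  have hle : I ^ k • (⊤ : Submodule A L) ≤ I ^ (n + 1) • (⊤ : Submodule A L) :=
    Submodule.smul_mono_left (Ideal.pow_le_pow_right hk)
  have h1 : π n z ∈ I ^ (n + 1) • (⊤ : Submodule A (M n)) := by
    refine Submodule.smul_induction_on (hle hz) ?_ ?_
    · intro r hr y _
      rw [map_smul]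
      exact Submodule.smul_mem_smul hr Submodule.mem_top
    · intro a b ha hb
      rw [map_add]
      exact Submodule.add_mem _ ha hb
  rw [hkill n] at h1
  exact h1

include hkill hπ hlift in
theorem series (w : ℕ → L) (hw : ∀ j, w j ∈ I ^ j • (⊤ : Submodule A L)) :
    ∃ W : L, ∀ m, π m W = π m (∑ j ∈ Finset.range (m + 1), w j) := by
  apply hlift (fun m => π m (∑ j ∈ Finset.range (m + 1), w j))
  intro m
  have h1 : f m (π (m + 1) (∑ j ∈ Finset.range (m + 1 + 1), w j)) =
      π m (∑ j ∈ Finset.range (m + 1 + 1), w j) := by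
    rw [← hπ m]; rfl
  rw [h1, Finset.sum_range_succ _ (m + 1), map_add,
    pi_eq_zero A I M hkill L π m (m + 1) le_rfl _ (hw (m + 1)), add_zero]

theorem rep (n j r : ℕ) (g : Fin r → A) (hg : Ideal.span (Set.range g) = I ^ n) (z : L)
    (hz : z ∈ I ^ (n + j) • (⊤ : Submodule A L)) :
    ∃ w : Fin r → L, (∀ k, w k ∈ I ^ j • (⊤ : Submodule A L)) ∧ z = ∑ k, g k • w k := by
  rw [pow_add, Submodule.mul_smul] at hz
  refine Submodule.smul_induction_on hz ?_ ?_
  · intro a ha y hy
    rw [← hg] at ha
    obtain ⟨c, rfl⟩ := (Ideal.mem_span_range_iff_exists_fun).mp ha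
    refine ⟨fun k => c k • y, fun k => Submodule.smul_mem _ _ hy, ?_⟩
    rw [Finset.sum_smul]
    apply Finset.sum_congr rfl
    intro k _
    rw [smul_smul, mul_comm]
  · rintro a b ⟨wa, hwa, rfl⟩ ⟨wb, hwb, rfl⟩
    refine ⟨fun k => wa k + wb k, fun k => Submodule.add_mem _ (hwa k) (hwb k), ?_⟩
    rw [← Finset.sum_add_distrib]
    apply Finset.sum_congr rfl
    intro k _
    rw [smul_add]

include hkill hπ hinj hlift in
theorem main (hI : I.FG) : IsAdicComplete I L := by
  have hH : IsHausdorff I L := by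
    refine ⟨fun x hx => hinj x (fun n => ?_)⟩
    exact pi_eq_zero A I M hkill L π n (n + 1) le_rfl x (SModEq.zero.mp (hx (n + 1)))
  have hP : IsPrecomplete I L := by
    refine ⟨fun x hx => ?_⟩
    have hdiff : ∀ m n, m ≤ n → x n - x m ∈ I ^ m • (⊤ : Submodule A L) := fun m n hmn => by
      have := (SModEq.sub_mem.mp (hx hmn))
      rw [← neg_sub]
      exact Submodule.neg_mem _ this
    -- the limit
    obtain ⟨X, hX⟩ := hlift (fun m => π m (x (m + 1))) (by
      intro m
      have h1 : f m (π (m + 1) (x (m + 1 + 1))) = π m (x (m + 1 + 1)) := by rw [← hπ m]; rfl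
      rw [h1]
      have h2 := pi_eq_zero A I M hkill L π m (m + 1) le_rfl _ (hdiff (m + 1) (m + 1 + 1) (Nat.le_succ _))
      rw [map_sub, sub_eq_zero] at h2
      exact h2)
    have hX' : ∀ m k, m + 1 ≤ k → π m X = π m (x k) := by
      intro m k hk
      rw [hX m]
      have h2 := pi_eq_zero A I M hkill L π m (m + 1) le_rfl _ (hdiff (m + 1) k hk)
      rw [map_sub, sub_eq_zero] at h2
      exact h2.symm
    refine ⟨X, fun n => ?_⟩
    rw [SModEq.sub_mem, ← neg_sub, Submodule.neg_mem_iff]
    -- X - x n ∈ I^n • ⊤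
    obtain ⟨r, g, hg⟩ := Submodule.fg_iff_exists_fin_generating_family.mp (hI.pow (n := n))
    have hg' : Ideal.span (Set.range g) = I ^ n := hg
    have hz : ∀ j, x (n + j + 1) - x (n + j) ∈ I ^ (n + j) • (⊤ : Submodule A L) := fun j =>
      hdiff (n + j) (n + j + 1) (Nat.le_succ _)
    choose w hw1 hw2 using fun j => rep A I L n j r g hg' _ (hz j)
    choose W hW using fun k => series A I M f hkill L π hπ hlift (fun j => w j k) (fun j => hw1 j k)
    have hfinal : X - x n = ∑ k, g k • W k := by
      rw [← sub_eq_zero]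
      apply hinj
      intro m
      rw [map_sub, map_sub, map_sum, sub_eq_zero]
      have h3 : ∀ k, π m (g k • W k) = π m (g k • ∑ j ∈ Finset.range (m + 1), w j k) := by
        intro k
        rw [map_smul, hW k m, map_smul]
      rw [Finset.sum_congr rfl (fun k _ => h3 k), ← map_sum]
      have h4 : ∑ k, g k • ∑ j ∈ Finset.range (m + 1), w j k =
          ∑ j ∈ Finset.range (m + 1), (x (n + j + 1) - x (n + j)) := by
        simp_rw [Finset.smul_sum]
        rw [Finset.sum_comm]
        apply Finset.sum_congr rfl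
        intro j _
        rw [hw2 j]
      have h5 : ∑ j ∈ Finset.range (m + 1), (x (n + j + 1) - x (n + j)) = x (n + (m + 1)) - x n := by
        have := Finset.sum_range_sub (fun j => x (n + j)) (m + 1)
        simpa [add_assoc] using this
      rw [h4, h5, map_sub, hX' m (n + (m + 1)) (by omega)]
    rw [hfinal]
    apply Submodule.sum_mem
    intro k _
    refine Submodule.smul_mem_smul ?_ Submodule.mem_top
    rw [← hg']
    exact Ideal.subset_span ⟨k, rfl⟩
  exact { toIsHausdorff := hH, toIsPrecomplete := hP }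

end
end Dev

/-- Let A be a commutative ring, I a finitely generated ideal of A and (M_n) an inverse system of
A-modules with transition maps f_n : M_(n+1) → M_n such that I^(n+1) M_n = 0 for every n. If L is an
inverse limit of the system (projections π_n compatible with the f_n, jointly injective, and such
that every compatible family of elements lifts to L), then L is complete and separated for the
I-adic topology. No surjectivity of the transition maps is assumed. -/
theorem result
    (A : Type u) [CommRing A] (I : Ideal A) (hI : I.FG)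
    (M : ℕ → Type v) [∀ n, AddCommGroup (M n)] [∀ n, Module A (M n)]
    (f : ∀ n, M (n + 1) →ₗ[A] M n)
    (hkill : ∀ n, I ^ (n + 1) • (⊤ : Submodule A (M n)) = ⊥)
    (L : Type v) [AddCommGroup L] [Module A L] (π : ∀ n, L →ₗ[A] M n)
    (hπ : ∀ n, f n ∘ₗ π (n + 1) = π n)
    (hinj : ∀ x : L, (∀ n, π n x = 0) → x = 0)
    (hlift : ∀ y : (∀ n, M n), (∀ n, f n (y (n + 1)) = y n) → ∃ x : L, ∀ n, π n x = y n) :
    IsAdicComplete I L := by
  exact main A I M f hkill L π hπ hinj hlift hI

end Groth.Agent.S13608
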