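import Groth.Statements.S13609
-- import your own Groth.Agent.* helpers here

set_option autoImplicit false
universe u v
open CAlg

namespace Groth.Agent.S13609

lemma smodEq_map {A : Type u} [CommRing A] (I : Ideal A) {M N : Type v} [AddCommGroup M] [Module A M]
    [AddCommGroup N] [Module A N] (f : M →ₗ[A] N) (n : ℕ) {x y : M}
    (h : x ≡ y [SMOD (I ^ n • ⊤ : Submodule A M)]) :
    f x ≡ f y [SMOD (I ^ n • ⊤ : Submodule A N)] := by
  have h1 := h.map f
  refine h1.mono ?_
  rw [Submodule.map_smul'']
  exact smul_mono_right _ le_top

/-- A direct summand of a module that is complete and separated for the I-adic topology is again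
complete and separated: for a commutative ring A, an ideal I and A-modules M₁, M₂, if M₁ × M₂ is
I-adically complete then so is M₁. -/
theorem result (A : Type u) [CommRing A] (I : Ideal A)
    (M₁ M₂ : Type v) [AddCommGroup M₁] [Module A M₁] [AddCommGroup M₂] [Module A M₂]
    [IsAdicComplete I (M₁ × M₂)] : IsAdicComplete I M₁ := by
  have hH : IsHausdorff I (M₁ × M₂) := inferInstance
  have hP : IsPrecomplete I (M₁ × M₂) := inferInstance
  refine { haus' := ?_, prec' := ?_ }
  · intro x hx
    have h0 : (LinearMap.inl A M₁ M₂) x = 0 := by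
      apply hH.haus
      intro n
      have := smodEq_map I (LinearMap.inl A M₁ M₂) n (hx n)
      rwa [map_zero] at this
    exact (LinearMap.inl_injective (R := A) (M := M₁) (M₂ := M₂)) (by rw [h0, map_zero])
  · intro f hf
    obtain ⟨L, hL⟩ := hP.prec (f := fun n => LinearMap.inl A M₁ M₂ (f n))
      (fun {m n} hmn => smodEq_map I (LinearMap.inl A M₁ M₂) m (hf hmn))
    refine ⟨L.1, fun n => ?_⟩
    have := smodEq_map I (LinearMap.fst A M₁ M₂) n (hL n)
    simpa using this

end Groth.Agent.S13609
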