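import Groth.Statements.S1362
import Mathlib
import Groth.Agent.Lib.Helper22RelNN2
import Groth.Agent.Lib.Helper22RelNN4
import Groth.Agent.Lib.Helper22RelNN5

set_option autoImplicit false
universe u
open FlatMor

namespace Groth.Agent.S1362

open MvPolynomial TensorProduct Topology Groth.Agent.Lib.Helper22.RelNN

theorem fibreMap_reduce {R S : Type u} [CommRing R] [CommRing S] [Algebra R S] (m u : ℕ)
    (ψ : MvPolynomial (Fin (m + 1)) R →ₐ[R] S) (p : Ideal R) [p.IsPrime] :
    fibreMap (MvPolynomial.aeval (fun i : Fin m => ψ (X i.succ) - ψ (X 0) ^ (u ^ i.succ.1)) :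
      MvPolynomial (Fin m) R →ₐ[R] S) p = reduce u (fibreMap ψ p) := by
  apply MvPolynomial.algHom_ext
  intro i
  rw [fibreMap_X, reduce, aeval_X, aeval_X, fibreMap_X, fibreMap_X, tmul_sub,
    Algebra.TensorProduct.tmul_pow, one_pow]

/-- the descent step -/
theorem descend {R S : Type u} [CommRing R] [CommRing S] [Algebra R S] [Algebra.FiniteType R S]
    (m : ℕ) (ψ : MvPolynomial (Fin (m + 1)) R →ₐ[R] S) (hψ : ψ.toRingHom.QuasiFinite)
    (hdim : ∀ p : PrimeSpectrum R, ringKrullDim (p.asIdeal.Fiber S) ≤ (m : WithBot ℕ∞)) :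
    ∃ ψ' : MvPolynomial (Fin m) R →ₐ[R] S, ψ'.toRingHom.QuasiFinite := by
  classical
  have hdata : ∀ p : PrimeSpectrum R, ∃ (F : MvPolynomial (Fin (m + 1)) R)
      (v : Fin (m + 1) →₀ ℕ) (c : R) (J : Ideal R),
      coeff v F ∉ p.asIdeal ∧ c ∉ p.asIdeal ∧ J.FG ∧ J ≤ p.asIdeal ∧
        c • ψ F ∈ J.map (algebraMap R S) := by
    intro p
    obtain ⟨Fb, hFb0, hFb⟩ := exists_relation_of_dim_le p.asIdeal.ResidueField
      (p.asIdeal.Fiber S) m (hdim p) (fun i => (1 : p.asIdeal.ResidueField) ⊗ₜ[R] ψ (X i))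
    exact exists_spread ψ p.asIdeal Fb hFb0 hFb
  choose F v c J hv hc hJfg hJle hrel using hdata
  let N : PrimeSpectrum R → Set (PrimeSpectrum R) := fun p =>
    (PrimeSpectrum.basicOpen (coeff (v p) (F p) * c p) : Set (PrimeSpectrum R)) ∩
      PrimeSpectrum.zeroLocus (J p)
  have hNopen : ∀ p, IsOpen[constructibleTopology (PrimeSpectrum R)] (N p) := fun p =>
    isOpen_constructible_basicOpen_inter_zeroLocus _ _ (hJfg p)
  have hNmem : ∀ p, ∃ q, p ∈ N q := fun p => by
    refine ⟨p, ?_, ?_⟩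
    · rw [SetLike.mem_coe, PrimeSpectrum.mem_basicOpen]
      exact Ideal.IsPrime.mul_notMem p.2 (hv p) (hc p)
    · rw [PrimeSpectrum.mem_zeroLocus]
      exact hJle p
  obtain ⟨t, ht⟩ := exists_finite_cover_constructible N hNopen hNmem
  set u : ℕ := 2 + t.sup (fun p => (F p).totalDegree) with hu
  have hu1 : 1 < u := by omega
  have hudeg : ∀ p ∈ t, (F p).totalDegree < u := by
    intro p hp
    have h0 : (F p).totalDegree ≤ t.sup (fun p => (F p).totalDegree) :=
      Finset.le_sup (f := fun p => (F p).totalDegree) hp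
    omega
  refine ⟨MvPolynomial.aeval (fun i : Fin m => ψ (X i.succ) - ψ (X 0) ^ (u ^ i.succ.1)), ?_⟩
  apply quasiFinite_of_fibreMap
  intro p' hp'
  rw [fibreMap_reduce]
  obtain ⟨p, hpt, hpN⟩ := ht ⟨p', hp'⟩
  obtain ⟨h1, h2⟩ := hpN
  rw [SetLike.mem_coe, PrimeSpectrum.mem_basicOpen] at h1
  rw [PrimeSpectrum.mem_zeroLocus] at h2
  have hv' : coeff (v p) (F p) ∉ p' := fun h => h1 (Ideal.mul_mem_right _ _ h)
  have hc' : c p ∉ p' := fun h => h1 (Ideal.mul_mem_left _ _ h)
  refine reduce_quasiFinite hu1 (fibreMap ψ p') (fibreMap_quasiFinite ψ hψ p')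
    (MvPolynomial.map (algebraMap R p'.ResidueField) (F p))
    (map_ne_zero_of_coeff_notMem p' (F p) (v p) hv') ?_
    (fibreMap_map_eq_zero ψ p' (F p) (c p) (J p) hc' h2 (hrel p))
  have hle : (MvPolynomial.map (algebraMap R p'.ResidueField) (F p)).totalDegree ≤
      (F p).totalDegree := by
    unfold MvPolynomial.totalDegree
    exact Finset.sup_mono (MvPolynomial.support_map_subset _ _)
  exact lt_of_le_of_lt hle (hudeg p hpt)

/-- For a finite type ring map R → S whose fibre rings have dimensions with maximum exactly d: there is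
an R-algebra map from the polynomial ring R[t_1, ..., t_d] to S which is quasi-finite (here: every
fibre ring is finite over the residue field; S is of finite type over the polynomial ring
automatically). -/
theorem result {R S : Type u} [CommRing R] [CommRing S] [Algebra R S] [Algebra.FiniteType R S] (d : ℕ)
    (hd : ⨆ p : PrimeSpectrum R, ringKrullDim (p.asIdeal.Fiber S) = (d : WithBot ℕ∞)) :
    ∃ φ : MvPolynomial (Fin d) R →ₐ[R] S, φ.toRingHom.QuasiFinite := by
  classical
  have hdim : ∀ p : PrimeSpectrum R, ringKrullDim (p.asIdeal.Fiber S) ≤ (d : WithBot ℕ∞) := by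
    intro p
    rw [← hd]
    exact le_iSup (fun p : PrimeSpectrum R => ringKrullDim (p.asIdeal.Fiber S)) p
  -- descending induction
  have key : ∀ k : ℕ, ∀ ψ : MvPolynomial (Fin (d + k)) R →ₐ[R] S, ψ.toRingHom.QuasiFinite →
      ∃ φ : MvPolynomial (Fin d) R →ₐ[R] S, φ.toRingHom.QuasiFinite := by
    intro k
    induction k with
    | zero => intro ψ hψ; exact ⟨ψ, hψ⟩
    | succ k ih =>
      intro ψ hψ
      obtain ⟨ψ', hψ'⟩ := descend (d + k) ψ hψ (fun p => (hdim p).trans (by
        exact_mod_cast Nat.le_add_right d k))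
      exact ih ψ' hψ'
  -- initial surjection
  obtain ⟨n, f, hf⟩ := Algebra.FiniteType.iff_quotient_mvPolynomial''.mp
    (inferInstance : Algebra.FiniteType R S)
  let ψ₀ : MvPolynomial (Fin (d + n)) R →ₐ[R] S :=
    MvPolynomial.aeval (fun i : Fin (d + n) => if h : i.val < n then f (X ⟨i.val, h⟩) else 0)
  have hcomp : ψ₀.comp (MvPolynomial.rename (Fin.castLE (Nat.le_add_left n d))) = f := by
    apply MvPolynomial.algHom_ext
    intro j
    simp [ψ₀]
  have hsurj : Function.Surjective ψ₀ := by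
    have : Function.Surjective (ψ₀.comp (MvPolynomial.rename (Fin.castLE (Nat.le_add_left n d)))) := by
      rw [hcomp]; exact hf
    exact Function.Surjective.of_comp this
  exact key n ψ₀ (RingHom.QuasiFinite.of_finite (RingHom.Finite.of_surjective _ hsurj))

end Groth.Agent.S1362
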