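import Groth.Statements.S13623
import Mathlib

set_option autoImplicit false
universe u
open TensorProduct
open CAlg

namespace Groth.Agent.S13623

open DirectSum

/-- local-global Nakayama -/
lemma subsingleton_of_forall_maximal {A : Type u} [CommRing A] {Q : Type u} [AddCommGroup Q]
    [Module A Q] [Module.Finite A Q]
    (h : ∀ 𝔪 : Ideal A, 𝔪.IsMaximal → (⊤ : Submodule A Q) ≤ 𝔪 • (⊤ : Submodule A Q)) :
    Subsingleton Q := by
  by_contra hns
  rw [not_subsingleton_iff_nontrivial] at hns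
  have hann : Module.annihilator A Q ≠ ⊤ := by
    intro htop
    have h1 : (1 : A) ∈ Module.annihilator A Q := htop ▸ Submodule.mem_top
    rw [Module.mem_annihilator] at h1
    obtain ⟨x, y, hxy⟩ := hns.exists_pair_ne
    apply hxy
    rw [← one_smul A x, ← one_smul A y, h1 x, h1 y]
  obtain ⟨𝔪, h𝔪, hle⟩ := Ideal.exists_le_maximal _ hann
  obtain ⟨r, hr1, hr⟩ := Submodule.exists_sub_one_mem_and_smul_eq_zero_of_fg_of_le_smul 𝔪
    (⊤ : Submodule A Q) Module.Finite.fg_top (h 𝔪 h𝔪)
  have hrann : r ∈ Module.annihilator A Q := by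
    rw [Module.mem_annihilator]
    exact fun q => hr q Submodule.mem_top
  have : (1 : A) ∈ 𝔪 := by
    have := 𝔪.sub_mem (hle hrann) hr1
    simpa using this
  exact h𝔪.ne_top ((Ideal.eq_top_iff_one _).2 this)

section
variable {A : Type u} [CommRing A] {B : Type u} [CommRing B] [Algebra A B]
    (𝒜 : ℕ → Submodule A B) [GradedAlgebra 𝒜]

/-- the subalgebra generated by degree one is homogeneous -/
lemma proj_mem_adjoin (m : ℕ) (x : B) (hx : x ∈ Algebra.adjoin A (𝒜 1 : Set B)) :
    GradedAlgebra.proj 𝒜 m x ∈ Algebra.adjoin A (𝒜 1 : Set B) := by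
  have hx' : x ∈ Submodule.span A (Submonoid.closure (𝒜 1 : Set B) : Set B) := by
    rw [← Algebra.adjoin_eq_span]
    exact hx
  have hhom : ∀ y ∈ Submonoid.closure (𝒜 1 : Set B), ∃ j, y ∈ 𝒜 j := by
    intro y hy
    induction hy using Submonoid.closure_induction with
    | mem y hy => exact ⟨1, hy⟩
    | one => exact ⟨0, SetLike.GradedOne.one_mem⟩
    | mul y z _ _ hy hz =>
      obtain ⟨i, hi⟩ := hy
      obtain ⟨j, hj⟩ := hz
      exact ⟨i + j, SetLike.GradedMul.mul_mem hi hj⟩
  clear hx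
  induction hx' using Submodule.span_induction with
  | mem y hy =>
    obtain ⟨j, hj⟩ := hhom y hy
    have hyP : y ∈ Algebra.adjoin A (𝒜 1 : Set B) := by
      have : y ∈ Submodule.span A (Submonoid.closure (𝒜 1 : Set B) : Set B) :=
        Submodule.subset_span hy
      rw [← Algebra.adjoin_eq_span] at this
      exact this
    rw [GradedAlgebra.proj_apply]
    by_cases hjm : j = m
    · subst hjm
      rw [decompose_of_mem_same 𝒜 hj]
      exact hyP
    · rw [decompose_of_mem_ne 𝒜 hj hjm]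
      exact Subalgebra.zero_mem _
  | zero => rw [map_zero]; exact Subalgebra.zero_mem _
  | add y z _ _ hy hz => rw [map_add]; exact Subalgebra.add_mem _ hy hz
  | smul a y _ hy => rw [map_smul]; exact Subalgebra.smul_mem _ hy a

end


/-- Let A be a commutative ring and B a commutative A-algebra, graded by A-submodules B_m (m ≥ 0)
forming a graded-algebra structure, such that every B_m is a finitely generated A-module. If for
every algebraically closed field k and every A-algebra structure on k the k-algebra k ⊗_A B is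
generated by the image of B_1 under b ↦ 1 ⊗ b, then its degree-one part B_1 generates the A-algebra
B. (Algebraically closed fields are taken in the universe of A.) -/
theorem result
    (A : Type u) [CommRing A] (B : Type u) [CommRing B] [Algebra A B]
    (𝒜 : ℕ → Submodule A B) [GradedAlgebra 𝒜]
    (hfin : ∀ m : ℕ, Module.Finite A (𝒜 m))
    (hgen : ∀ (k : Type u) [Field k] [IsAlgClosed k] [Algebra A k],
      Algebra.adjoin k ((Algebra.TensorProduct.includeRight : B →ₐ[A] k ⊗[A] B) '' (𝒜 1 : Set B)) = ⊤) :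
    Algebra.adjoin A (𝒜 1 : Set B) = ⊤ := by
  classical
  set P := Algebra.adjoin A (𝒜 1 : Set B) with hP
  -- enough: every graded piece lies in P
  suffices hmain : ∀ m, 𝒜 m ≤ Subalgebra.toSubmodule P by
    rw [eq_top_iff]
    intro x _
    rw [← DirectSum.sum_support_decompose 𝒜 x]
    exact Subalgebra.sum_mem _ fun i _ => hmain i (decompose 𝒜 x i).2
  intro m
  have := hfin m
  -- the quotient Q
  set N' : Submodule A (𝒜 m) := (Subalgebra.toSubmodule P).comap (𝒜 m).subtype with hN'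
  suffices hQ : Subsingleton (𝒜 m ⧸ N') by
    intro b hb
    have : (⟨b, hb⟩ : 𝒜 m) ∈ N' := by
      rw [← Submodule.Quotient.mk_eq_zero]
      exact Subsingleton.elim _ _
    exact this
  apply subsingleton_of_forall_maximal (A := A)
  intro 𝔪 h𝔪
  let : Field (A ⧸ 𝔪) := Ideal.Quotient.field 𝔪
  set k := AlgebraicClosure (A ⧸ 𝔪) with hk
  have hg := hgen k
  -- projection to degree m
  let π' : B →ₗ[A] 𝒜 m :=
    (DirectSum.component A ℕ (fun i => 𝒜 i) m) ∘ₗ (DirectSum.decomposeLinearEquiv 𝒜).toLinearMap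
  have hπ'coe : ∀ x, ((π' x : 𝒜 m) : B) = GradedAlgebra.proj 𝒜 m x := fun x => rfl
  have hπ'P : ∀ y ∈ P, π' y ∈ N' := by
    intro y hy
    change ((π' y : 𝒜 m) : B) ∈ P
    rw [hπ'coe]
    exact proj_mem_adjoin 𝒜 m y hy
  have hπ'b : ∀ b : 𝒜 m, π' (b : B) = b := by
    intro b
    apply Subtype.ext
    rw [hπ'coe, GradedAlgebra.proj_apply, decompose_of_mem_same 𝒜 b.2]
  -- step 1: 1 ⊗ [b] = 0 in k ⊗ Q
  have hzero : ∀ q : 𝒜 m ⧸ N', (1 : k) ⊗ₜ[A] q = 0 := by
    intro q
    obtain ⟨b, rfl⟩ := Submodule.Quotient.mk_surjective N' q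
    -- the k-subalgebra generated by the image of P
    let Pk : Subalgebra k (k ⊗[A] B) :=
      (Algebra.TensorProduct.map (AlgHom.id k k) P.val).range
    have hle : Algebra.adjoin k
        ((Algebra.TensorProduct.includeRight : B →ₐ[A] k ⊗[A] B) '' (𝒜 1 : Set B)) ≤ Pk := by
      apply Algebra.adjoin_le
      rintro _ ⟨b₁, hb₁, rfl⟩
      refine ⟨(1 : k) ⊗ₜ[A] (⟨b₁, Algebra.subset_adjoin hb₁⟩ : P), ?_⟩
      simp
    have hmem : (1 : k) ⊗ₜ[A] (b : B) ∈ Pk := by
      apply hle
      rw [hg]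
      exact Algebra.mem_top
    obtain ⟨z, hz⟩ := hmem
    have hgenz : ∀ z : k ⊗[A] P, LinearMap.lTensor k (P.val.toLinearMap) z =
        Algebra.TensorProduct.map (AlgHom.id k k) P.val z := by
      intro z
      induction z using TensorProduct.induction_on with
      | zero => simp
      | tmul c y => simp
      | add x y hx hy => rw [map_add, map_add, hx, hy]
    have hz' : LinearMap.lTensor k (P.val.toLinearMap) z = (1 : k) ⊗ₜ[A] (b : B) := by
      rw [hgenz]
      exact hz
    have h1 : LinearMap.lTensor k (N'.mkQ ∘ₗ π') ((1 : k) ⊗ₜ[A] (b : B)) =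
        (1 : k) ⊗ₜ[A] (Submodule.Quotient.mk b : 𝒜 m ⧸ N') := by
      rw [LinearMap.lTensor_tmul, LinearMap.comp_apply, hπ'b]
      rfl
    rw [← h1, ← hz', ← LinearMap.comp_apply, ← LinearMap.lTensor_comp]
    have h0 : (N'.mkQ ∘ₗ π') ∘ₗ P.val.toLinearMap = 0 := by
      ext y
      simp only [LinearMap.comp_apply, LinearMap.zero_apply, Submodule.mkQ_apply]
      rw [Submodule.Quotient.mk_eq_zero]
      exact hπ'P y.1 y.2
    rw [h0, LinearMap.lTensor_zero, LinearMap.zero_apply]
  -- step 2: all A-linear functionals to k vanish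
  have hfun : ∀ (φ : (𝒜 m ⧸ N') →ₗ[A] k) (q : 𝒜 m ⧸ N'), φ q = 0 := by
    intro φ q
    have := congrArg ((LinearMap.mul' A k) ∘ₗ (LinearMap.lTensor k φ)) (hzero q)
    simpa using this
  -- step 3
  intro q _
  by_contra hq
  have hv : (Submodule.Quotient.mk q : (𝒜 m ⧸ N') ⧸ (𝔪 • (⊤ : Submodule A (𝒜 m ⧸ N')))) ≠ 0 := by
    rwa [Ne, Submodule.Quotient.mk_eq_zero]
  obtain ⟨f, hf⟩ := Module.Projective.exists_dual_ne_zero (A ⧸ 𝔪) hv
  let φ : (𝒜 m ⧸ N') →ₗ[A] k :=
    ((Algebra.linearMap (A ⧸ 𝔪) k).restrictScalars A) ∘ₗ (f.restrictScalars A) ∘ₗ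
      (𝔪 • (⊤ : Submodule A (𝒜 m ⧸ N'))).mkQ
  have hφ : φ q = algebraMap (A ⧸ 𝔪) k (f (Submodule.Quotient.mk q)) := rfl
  have := hfun φ q
  rw [hφ] at this
  exact hf ((map_eq_zero_iff _ (algebraMap (A ⧸ 𝔪) k).injective).1 this)

end Groth.Agent.S13623
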