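import Groth.Statements.S13624
import Groth.Agent.Lib.Helper5GorOpenB

set_option autoImplicit false
universe u
open CategoryTheory CategoryTheory.Limits AlgebraicGeometry Opposite
open Goren

namespace Groth.Agent.S13624

/-- Let f : X → Y be a proper, flat morphism of schemes which is locally of finite presentation. Then
the set of points y of Y whose scheme-theoretic fibre X_y = X ×_Y Spec κ(y) is a Gorenstein scheme
(every local ring of X_y is a Gorenstein local ring) is open in Y. -/
theorem result (X Y : Scheme.{u}) (f : X ⟶ Y)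
    [IsProper f] [Flat f] [LocallyOfFinitePresentation f] :
    IsOpen {y : Y | ∀ x : ↥(f.fiber y), LocCoh.IsGorensteinLocalRing ((f.fiber y).presheaf.stalk x)} := by
  classical
  have hopen := Groth.Agent.Lib.Helper5.GorOpen.isOpen_lgor_of_flat f
  have hclosed : IsClosed (f '' (Groth.Agent.Lib.Helper5.GorOpen.Lgor f)ᶜ) :=
    f.isClosedMap _ hopen.isClosed_compl
  have heq : {y : Y | ∀ x : ↥(f.fiber y),
      LocCoh.IsGorensteinLocalRing ((f.fiber y).presheaf.stalk x)} =
      (f '' (Groth.Agent.Lib.Helper5.GorOpen.Lgor f)ᶜ)ᶜ := by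
    ext y
    constructor
    · intro h hy
      obtain ⟨x₀, hx₀, rfl⟩ := hy
      exact hx₀ (h (f.asFiber x₀))
    · intro h x
      have hy : f (f.fiberι y x) = y := by
        have hm : f.fiberι y x ∈ Set.range (f.fiberι y) := ⟨x, rfl⟩
        rw [f.range_fiberι y] at hm
        exact hm
      have hmem : f.fiberι y x ∈ Groth.Agent.Lib.Helper5.GorOpen.Lgor f := by
        by_contra hn
        exact h ⟨f.fiberι y x, hn, hy⟩
      obtain ⟨e⟩ := Groth.Agent.Lib.Helper5.FiberBC.fiber_stalk_transport f hy
        (f.asFiber (f.fiberι y x)) x (f.fiberι_asFiber _)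
      exact Groth.Agent.Lib.Helper5.FiberMor.isoInv_gor _ _ e hmem
  rw [heq]
  exact hclosed.isOpen_compl

end Groth.Agent.S13624
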