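import Groth.Statements.S13626
import Groth.Agent.Lib.Helper17ProjFormulaD
import Groth.Agent.Lib.Helper23ModAbBridge
import Groth.Agent.Lib.Helper17BCVan
import Groth.Agent.S0462
-- import your own Groth.Agent.* helpers here

set_option autoImplicit false
universe u
open CategoryTheory CategoryTheory.Limits AlgebraicGeometry
open Coh

namespace Groth.Agent.S13626

/-- Let f : X → Y be a morphism of schemes with R^i f_* O_X = 0 for every i ≥ 1 and f_* O_X ≅ O_Y. Then
for every invertible O_Y-module L and every p ≥ 0 the groups H^p(X, f^* L) and H^p(Y, L) are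
isomorphic (existence of a group isomorphism; the higher direct images are the right derived
functors of f_* on O_X-modules, under the instance argument recording that O_X-modules have
injective resolutions). -/
theorem result
    {X Y : Scheme.{u}} (f : X ⟶ Y) [HasInjectiveResolutions X.Modules]
    (hR : ∀ i : ℕ, IsZero ((Coh.Rpush f (i + 1)).obj (Coh.structureModule X)))
    (h0 : Nonempty ((Coh.push f).obj (Coh.structureModule X) ≅ Coh.structureModule Y))
    (L : Y.Modules) (hL : PicF.IsInvertible L) (p : ℕ) :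
    Nonempty (Coh.HH X ((Scheme.Modules.pullback f).obj L) p ≃+ Coh.HH Y L p) := by
  obtain ⟨L', -, ⟨e⟩, ⟨e'⟩⟩ := Groth.Agent.Lib.Helper17.ProjFormulaD.nonempty_inverse L hL
  obtain ⟨e0⟩ := h0
  -- `N := f^* L`, and `N ≅ N ⊗ O_X`
  let N : X.Modules := (Scheme.Modules.pullback f).obj L
  let u : CohB1.tensorMod N (Coh.structureModule X) ≅ N :=
    Groth.Agent.Lib.Helper23.TensorUnit.tensorUnitIso N
  -- higher direct images of `N` vanish
  have hz : ∀ q : ℕ, IsZero ((Coh.Rpush f (q + 1)).obj N) := by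
    intro q
    have e1 := (Groth.Agent.Lib.Helper17.ProjFormulaD.derProjIso f L L' e e' (q + 1)).app
      (Coh.structureModule X)
    have h1 : IsZero ((Groth.Agent.Lib.Helper27ProjFormula.TL Y L).obj
        ((Coh.Rpush f (q + 1)).obj (Coh.structureModule X))) :=
      Functor.map_isZero _ (hR q)
    have h2 : IsZero ((Coh.Rpush f (q + 1)).obj (CohB1.tensorMod N (Coh.structureModule X))) :=
      IsZero.of_iso h1 e1.symm
    exact IsZero.of_iso h2 ((Coh.Rpush f (q + 1)).mapIso u.symm)
  -- `f_* N ≅ L`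
  have e2 : (Coh.push f).obj N ≅ L :=
    (Coh.push f).mapIso u.symm ≪≫
      (Groth.Agent.Lib.Helper27ProjFormula.projIsoLApp f L L' e e' (Coh.structureModule X)).symm ≪≫
      PicGrp.tensorModIso (Iso.refl L) e0 ≪≫
      Groth.Agent.Lib.Helper23.TensorUnit.tensorUnitIso L
  -- Leray
  have hab : ∀ q : ℕ, IsZero ((CohTop.Rpush f.base (q + 1)).obj (Coh.toAb N)) := by
    intro q
    obtain ⟨e3⟩ := Groth.Agent.Lib.Helper23.ModAbBridge.nonempty_toAb_Rpush_iso f N (q + 1)
    have h3 : IsZero (Coh.toAb ((Coh.Rpush f (q + 1)).obj N)) :=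
      Functor.map_isZero (SheafOfModules.toSheaf Y.ringCatSheaf) (hz q)
    exact IsZero.of_iso h3 e3.symm
  obtain ⟨a⟩ := Groth.Agent.S0462.result f.base (Coh.toAb N) hab p
  obtain ⟨b⟩ := Groth.Agent.Lib.Helper17.BCVan.nonempty_HH_equiv_of_iso e2 p
  exact ⟨(show Coh.HH X N p ≃+ Coh.HH Y ((Coh.push f).obj N) p from a).trans b⟩

end Groth.Agent.S13626
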