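import Groth.Statements.S13634
import Mathlib

set_option autoImplicit false
universe u
open CategoryTheory CategoryTheory.Limits MonoidalCategory CartesianMonoidalCategory MonObj AlgebraicGeometry
open MultSch

namespace Groth.Agent.S13634

open Opposite

section gen
variable {C : Type*} [Category C] (J : GrothendieckTopology C)

lemma finset_inf_mem {X : C} {α : Type*} (s : Finset α) (R : α → Sieve X)
    (h : ∀ l ∈ s, R l ∈ J X) : s.inf R ∈ J X := by
  classical
  induction s using Finset.induction_on with
  | empty =>
    rw [Finset.inf_empty]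
    exact J.top_mem X
  | insert a s ha ih =>
    rw [Finset.inf_insert]
    exact J.intersection_covering (h a (Finset.mem_insert_self a s))
      (ih fun l hl => h l (Finset.mem_insert_of_mem hl))

lemma finset_inf_apply {X Y : C} {α : Type*} (s : Finset α) (R : α → Sieve X) (g : Y ⟶ X) :
    (s.inf R) g ↔ ∀ l ∈ s, R l g := by
  classical
  induction s using Finset.induction_on with
  | empty =>
    rw [Finset.inf_empty]
    simp
  | insert a s ha ih =>
    rw [Finset.inf_insert, Sieve.inter_apply, ih]
    simp

end gen

lemma comp_tuple {C : Type*} [Category C] [CartesianMonoidalCategory C] {M T T' : C} (g : T' ⟶ T) :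
    ∀ {n : ℕ} (x : Fin n → (T ⟶ M)), g ≫ tuple x = tuple (fun l => g ≫ x l)
  | 0, _ => toUnit_unique _ _
  | n + 1, x => by
    change g ≫ lift (x 0) (tuple fun i => x i.succ) =
      lift (g ≫ x 0) (tuple fun i => g ≫ x i.succ)
    rw [comp_lift, comp_tuple g]


/-- Let π : M → M'' be a homomorphism of commutative group schemes over a scheme S which is an
epimorphism of fppf sheaves, H a commutative group scheme over S and φ : (M'')^r → H a multilinear
morphism. If the composite of φ with π^r : M^r → (M'')^r is alternating, then φ is alternating. (The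
published statement is for module schemes over a ring R and an R-multilinear φ; the ring action
plays no role, so this row states it for commutative group schemes, which contains that case.) -/
theorem result
    {S : Scheme.{u}} {M M'' H : Over S}
    [GrpObj M] [IsCommMonObj M] [GrpObj M''] [IsCommMonObj M''] [GrpObj H] [IsCommMonObj H]
    (π : M ⟶ M'') [IsMonHom π] (hπ : Epi (CGrpSh.ptsMap Scheme.fppfPrecoverage π))
    {r : ℕ} (φ : MultSch.pow M'' r ⟶ H) (hφ : MultSch.IsMultilinear φ)
    (halt : ∀ (T : Over S) (x : Fin r → (T ⟶ M)) (i j : Fin r), i ≠ j → x i = x j →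
      MultSch.tuple (fun l => x l ≫ π) ≫ φ = 1) :
    MultSch.IsAlternating φ := by
  intro T y i j hij hy
  have hLS : Sheaf.IsLocallySurjective (CGrpSh.ptsMap Scheme.fppfPrecoverage π) :=
    (Sheaf.isLocallySurjective_iff_epi' _ _).2 hπ
  have hcov : ∀ l : Fin r, Presheaf.imageSieve (CGrpSh.ptsMap Scheme.fppfPrecoverage π).hom
      (U := T) (ULift.up (Additive.ofMul (y l)) :
        (CGrpSh.pts Scheme.fppfPrecoverage M'').obj.obj (op T)) ∈
        QuotSh.J Scheme.fppfPrecoverage S T :=
    fun l => Presheaf.imageSieve_mem (QuotSh.J Scheme.fppfPrecoverage S) _ _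
  have hR := finset_inf_mem (QuotSh.J Scheme.fppfPrecoverage S) Finset.univ _ (fun l _ => hcov l)
  have hsep := (GrothendieckTopology.Subcanonical.isSheaf_of_isRepresentable
    (J := QuotSh.J Scheme.fppfPrecoverage S) (yoneda.obj H)).isSeparated
  refine (hsep _ hR).ext ?_
  intro T' g hg
  change g ≫ (tuple y ≫ φ) = g ≫ 1
  rw [finset_inf_apply] at hg
  choose x hx using fun l => hg l (Finset.mem_univ l)
  have hx' : ∀ l, (x l).down.toMul ≫ π = g ≫ y l := by
    intro l
    have := congrArg (fun z => z.down.toMul) (hx l)
    exact this
  let x'' : Fin r → (T' ⟶ M) := Function.update (fun l => (x l).down.toMul) j ((x i).down.toMul)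
  have hx'' : ∀ l, x'' l ≫ π = g ≫ y l := by
    intro l
    by_cases hl : l = j
    · subst hl
      simp only [x'', Function.update_self]
      rw [hx' i, hy]
    · simp only [x'', Function.update_of_ne hl]
      exact hx' l
  have hij' : x'' i = x'' j := by
    simp only [x'', Function.update_self, Function.update_of_ne hij]
  rw [← Category.assoc, comp_tuple, MonObj.comp_one, ← halt T' x'' i j hij hij']
  congr 2
  funext l
  exact (hx'' l).symm

end Groth.Agent.S13634
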