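import Groth.Statements.S13635
import Mathlib
import Groth.Agent.Lib.Helper11CGrpShPts
import Groth.Agent.Lib.Helper11MultSchPow
import Groth.Agent.S13634

set_option autoImplicit false
universe u w
open CategoryTheory CategoryTheory.Limits MonoidalCategory CartesianMonoidalCategory MonObj AlgebraicGeometry
open MultSch

namespace Groth.Agent.S13635


/-- Let M₁ → M₂ → M₃ → 0 be a sequence of R-module schemes over a scheme S, with R-linear homomorphisms
j : M₁ → M₂ and π : M₂ → M₃, exact as a sequence of fppf sheaves. For n ≥ 1 and an R-module scheme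
N, the sequence 0 → Alt(M₃^n, N) → Alt(M₂^n, N) → Alt(M₁ × M₂^(n-1), N) of R-multilinear alternating
morphisms is exact: an R-multilinear alternating φ : M₂^n → N which is trivial on all points with
first coordinate in the image of j is of the form φ' ∘ π^n for a unique morphism φ' : M₃^n → N
(unique among all morphisms), and this φ' is R-multilinear and alternating. -/
theorem result
    {S : Scheme.{u}} {R : Type w} [CommRing R] {M₁ M₂ M₃ N : Over S}
    [GrpObj M₁] [IsCommMonObj M₁] [GrpObj M₂] [IsCommMonObj M₂] [GrpObj M₃] [IsCommMonObj M₃]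
    [GrpObj N] [IsCommMonObj N]
    (ρ₁ : MultSch.RMod R M₁) (ρ₂ : MultSch.RMod R M₂) (ρ₃ : MultSch.RMod R M₃) (ρN : MultSch.RMod R N)
    (j : M₁ ⟶ M₂) (π : M₂ ⟶ M₃) [IsMonHom j] [IsMonHom π]
    (hj : ∀ a : R, j ≫ ρ₂.act a = ρ₁.act a ≫ j) (hπ : ∀ a : R, π ≫ ρ₃.act a = ρ₂.act a ≫ π)
    (w : j ≫ π = 1) (hex : (CGrpSh.seq Scheme.fppfPrecoverage j π w).Exact)
    (hepi : Epi (CGrpSh.ptsMap Scheme.fppfPrecoverage π))
    {n : ℕ} (hn : 1 ≤ n) (φ : MultSch.pow M₂ n ⟶ N)
    (hmult : MultSch.IsMultilinear φ) (hlin : MultSch.IsRLinear ρ₂ ρN φ) (halt : MultSch.IsAlternating φ)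
    (hvan : ∀ (T : Over S) (y : T ⟶ M₁) (x : Fin n → (T ⟶ M₂)), x ⟨0, hn⟩ = y ≫ j →
      MultSch.tuple x ≫ φ = 1) :
    ∃ φ' : MultSch.pow M₃ n ⟶ N,
      (∀ (T : Over S) (x : Fin n → (T ⟶ M₂)), MultSch.tuple x ≫ φ = MultSch.tuple (fun l => x l ≫ π) ≫ φ') ∧
      MultSch.IsMultilinear φ' ∧ MultSch.IsRLinear ρ₃ ρN φ' ∧ MultSch.IsAlternating φ' ∧
      ∀ φ'' : MultSch.pow M₃ n ⟶ N,
        (∀ (T : Over S) (x : Fin n → (T ⟶ M₂)), MultSch.tuple x ≫ φ = MultSch.tuple (fun l => x l ≫ π) ≫ φ'') →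
          φ'' = φ' := by
  obtain ⟨J, hJ⟩ : ∃ J : GrothendieckTopology (Over S), J = QuotSh.J Scheme.fppfPrecoverage S :=
    ⟨_, rfl⟩
  have hsub : J.Subcanonical := by rw [hJ]; infer_instance
  have hlift : ∀ {T : Over S} (y : T ⟶ M₃),
      Groth.Agent.Lib.Helper11.Descend.liftSieve π y ∈ J T := by
    intro T y
    rw [hJ]
    exact Groth.Agent.Lib.Helper11.CGrpShPts.liftSieve_mem_of_epi Scheme.fppfPrecoverage π hepi y
  have hker : ∀ {T : Over S} (y : T ⟶ M₂), y ≫ π = 1 →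
      Groth.Agent.Lib.Helper11.Descend.liftSieve j y ∈ J T := by
    intro T y hy
    rw [hJ]
    exact Groth.Agent.Lib.Helper11.CGrpShPts.liftSieve_mem_of_exact Scheme.fppfPrecoverage j π w
      hex y hy
  have hvan' : ∀ (T : Over S) (y : T ⟶ M₁) (x : Fin n → (T ⟶ M₂)) (i : Fin n), x i = y ≫ j →
      MultSch.tuple x ≫ φ = 1 := fun T y x i hx =>
    Groth.Agent.Lib.Helper11.MultSchPow.vanish_of_vanish j φ hmult halt ⟨0, hn⟩ hvan y x i hx
  have hsec : Groth.Agent.Lib.Helper11.Descend.secSieve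
      (Groth.Agent.Lib.Helper11.MultSchPow.powMap π n) ∈ J (MultSch.pow M₃ n) :=
    Groth.Agent.Lib.Helper11.MultSchPow.secSieve_powMap J π hlift n
  have hinv : ∀ ⦃W : Over S⦄ (a b : W ⟶ MultSch.pow M₂ n),
      a ≫ Groth.Agent.Lib.Helper11.MultSchPow.powMap π n =
        b ≫ Groth.Agent.Lib.Helper11.MultSchPow.powMap π n → a ≫ φ = b ≫ φ := by
    intro W a b hab
    rw [Groth.Agent.Lib.Helper11.MultSchPow.eq_tuple a,
      Groth.Agent.Lib.Helper11.MultSchPow.eq_tuple b] at hab ⊢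
    rw [Groth.Agent.Lib.Helper11.MultSchPow.tuple_powMap,
      Groth.Agent.Lib.Helper11.MultSchPow.tuple_powMap] at hab
    have hc : ∀ i, (a ≫ Groth.Agent.Lib.Helper11.MultSchPow.proj M₂ n i) ≫ π =
        (b ≫ Groth.Agent.Lib.Helper11.MultSchPow.proj M₂ n i) ≫ π := by
      intro i
      have := congrArg (fun m => m ≫ Groth.Agent.Lib.Helper11.MultSchPow.proj M₃ n i) hab
      simpa only [Groth.Agent.Lib.Helper11.MultSchPow.tuple_proj] using this
    exact (Groth.Agent.Lib.Helper11.MultSchPow.multi_change J j π hker φ hmult hvan' _ _ hc).symm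
  obtain ⟨φ', hφ'⟩ := Groth.Agent.Lib.Helper11.Descend.exists_desc J
    (Groth.Agent.Lib.Helper11.MultSchPow.powMap π n) hsec φ hinv
  have hpt : ∀ (T : Over S) (x : Fin n → (T ⟶ M₂)),
      MultSch.tuple x ≫ φ = MultSch.tuple (fun l => x l ≫ π) ≫ φ' := by
    intro T x
    rw [← Groth.Agent.Lib.Helper11.MultSchPow.tuple_powMap, Category.assoc, hφ']
  have e2 : ∀ {W : Over S} (x₀ : Fin n → (W ⟶ M₂)) (i : Fin n) (a : W ⟶ M₂),
      Function.update (fun l => x₀ l ≫ π) i (a ≫ π) =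
        fun l => Function.update x₀ i a l ≫ π := by
    intro W x₀ i a
    funext l
    exact (Function.apply_update (fun _ m => m ≫ π) x₀ i a l).symm
  have hmult' : MultSch.IsMultilinear φ' := by
    intro T x i y z
    refine Groth.Agent.Lib.Helper11.MultSchPow.hom_ext_of_mem J _
      (J.intersection_covering (Groth.Agent.Lib.Helper11.MultSchPow.liftAll_mem J π hlift x)
        (J.intersection_covering (hlift y) (hlift z))) _ _ ?_
    rintro W g ⟨hx, ⟨y₀, hy₀⟩, ⟨z₀, hz₀⟩⟩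
    obtain ⟨x₀, hx₀⟩ := Groth.Agent.Lib.Helper11.MultSchPow.exists_lifts π x g hx
    have e1 : (fun l => g ≫ x l) = fun l => x₀ l ≫ π := funext fun l => (hx₀ l).symm
    rw [← Category.assoc, Groth.Agent.Lib.Helper11.MultSchPow.comp_tuple_update, MonObj.comp_mul,
      MonObj.comp_mul, ← Category.assoc, ← Category.assoc,
      Groth.Agent.Lib.Helper11.MultSchPow.comp_tuple_update,
      Groth.Agent.Lib.Helper11.MultSchPow.comp_tuple_update, e1, ← hy₀, ← hz₀, ← MonObj.mul_comp,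
      e2, e2, e2, ← hpt, ← hpt, ← hpt, hmult]
  have hlin' : MultSch.IsRLinear ρ₃ ρN φ' := by
    intro T x i a
    refine Groth.Agent.Lib.Helper11.MultSchPow.hom_ext_of_mem J _
      (Groth.Agent.Lib.Helper11.MultSchPow.liftAll_mem J π hlift x) _ _ ?_
    intro W g hx
    obtain ⟨x₀, hx₀⟩ := Groth.Agent.Lib.Helper11.MultSchPow.exists_lifts π x g hx
    have e1 : (fun l => g ≫ x l) = fun l => x₀ l ≫ π := funext fun l => (hx₀ l).symm
    have hR : g ≫ (MultSch.tuple x ≫ φ') ≫ ρN.act a =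
        (MultSch.tuple (fun l => x₀ l ≫ π) ≫ φ') ≫ ρN.act a := by
      rw [← Category.assoc g, ← Category.assoc g,
        Groth.Agent.Lib.Helper11.MultSchPow.comp_tuple, e1]
    have hL : g ≫ MultSch.tuple (Function.update x i (x i ≫ ρ₃.act a)) ≫ φ' =
        MultSch.tuple (fun l => Function.update x₀ i (x₀ i ≫ ρ₂.act a) l ≫ π) ≫ φ' := by
      rw [← Category.assoc, Groth.Agent.Lib.Helper11.MultSchPow.comp_tuple_update, e1,
        ← Category.assoc g, ← hx₀ i, Category.assoc (x₀ i), hπ, ← Category.assoc (x₀ i), e2]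
    rw [hR, hL, ← hpt, ← hpt, hlin]
  have halt' : MultSch.IsAlternating φ' :=
    Groth.Agent.S13634.result π hepi φ' hmult' (fun T x i k hik hx => by
      rw [← hpt]
      exact halt T x i k hik hx)
  refine ⟨φ', hpt, hmult', hlin', halt', ?_⟩
  intro φ'' hφ''
  apply Groth.Agent.Lib.Helper11.Descend.hom_ext_of_secSieve J
    (Groth.Agent.Lib.Helper11.MultSchPow.powMap π n) hsec
  rw [hφ']
  have := hφ'' (MultSch.pow M₂ n) (fun i => Groth.Agent.Lib.Helper11.MultSchPow.proj M₂ n i)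
  rw [Groth.Agent.Lib.Helper11.MultSchPow.tuple_proj_id, Category.id_comp] at this
  exact this.symm

end Groth.Agent.S13635
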