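import Groth.Statements.S13636
import Mathlib
import Groth.Agent.Lib.Helper11CGrpShPts
import Groth.Agent.Lib.Helper11Central

set_option autoImplicit false
universe u w
open CategoryTheory CategoryTheory.Limits MonoidalCategory CartesianMonoidalCategory MonObj AlgebraicGeometry
open MultSch

namespace Groth.Agent.S13636

section Aux
open Groth.Agent.Lib.Helper11.Descend Groth.Agent.Lib.Helper11

variable {C : Type*} [Category C] (J : GrothendieckTopology C) [J.Subcanonical]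

lemma hom_ext_of_mem {T N : C} (R : Sieve T) (hR : R ∈ J T) (f g : T ⟶ N)
    (h : ∀ ⦃W : C⦄ (t : W ⟶ T), R t → t ≫ f = t ≫ g) : f = g := by
  have hsep := (GrothendieckTopology.Subcanonical.isSheaf_of_isRepresentable
    (J := J) (yoneda.obj N)).isSeparated
  refine (hsep _ hR).ext ?_
  intro W t ht
  exact h t ht

omit [J.Subcanonical] in
lemma secSieve_of_liftSieve {X Y : C} (π : X ⟶ Y) (h : liftSieve π (𝟙 Y) ∈ J Y) :
    secSieve π ∈ J Y := by
  refine J.superset_covering ?_ h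
  rintro W t ⟨p, hp⟩
  exact ⟨p, by rw [hp, Category.comp_id]⟩

end Aux


/-- Let M' → M → M'' → 0 be a sequence of R-module schemes over a scheme S, with R-linear homomorphisms
j and π, exact as fppf sheaves, and let ψ : P × M × Q → N be a morphism to an R-module scheme N
which is additive and R-linear in the coordinate M (on T-valued points) and trivial on all points
whose M-coordinate lies in the image of j. Then ψ = ψ' ∘ (id × π × id) for a unique morphism ψ' : P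
× M'' × Q → N, and ψ' is additive and R-linear in the coordinate M''. (The published statement has a
product M₁ × ⋯ × M_r of R-module schemes with the exact sequence in the i-th factor and ψ
R-multilinear; here the factors before and after the i-th are collected into single S-schemes P and
Q, and only linearity in the i-th coordinate, the one the statement is about, is carried; linearity
in the other coordinates passes between ψ and ψ' formally.) -/
theorem result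
    {S : Scheme.{u}} {R : Type w} [CommRing R] {P Q M' M M'' N : Over S}
    [GrpObj M'] [IsCommMonObj M'] [GrpObj M] [IsCommMonObj M] [GrpObj M''] [IsCommMonObj M'']
    [GrpObj N] [IsCommMonObj N]
    (ρ' : MultSch.RMod R M') (ρ : MultSch.RMod R M) (ρ'' : MultSch.RMod R M'') (ρN : MultSch.RMod R N)
    (j : M' ⟶ M) (π : M ⟶ M'') [IsMonHom j] [IsMonHom π]
    (hj : ∀ a : R, j ≫ ρ.act a = ρ'.act a ≫ j) (hπ : ∀ a : R, π ≫ ρ''.act a = ρ.act a ≫ π)
    (w : j ≫ π = 1) (hex : (CGrpSh.seq Scheme.fppfPrecoverage j π w).Exact)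
    (hepi : Epi (CGrpSh.ptsMap Scheme.fppfPrecoverage π))
    (ψ : P ⊗ (M ⊗ Q) ⟶ N)
    (hadd : ∀ (T : Over S) (p : T ⟶ P) (q : T ⟶ Q) (y z : T ⟶ M),
      lift p (lift (y * z) q) ≫ ψ = (lift p (lift y q) ≫ ψ) * (lift p (lift z q) ≫ ψ))
    (hlin : ∀ (T : Over S) (p : T ⟶ P) (q : T ⟶ Q) (y : T ⟶ M) (a : R),
      lift p (lift (y ≫ ρ.act a) q) ≫ ψ = (lift p (lift y q) ≫ ψ) ≫ ρN.act a)
    (hvan : ∀ (T : Over S) (p : T ⟶ P) (q : T ⟶ Q) (y' : T ⟶ M'), lift p (lift (y' ≫ j) q) ≫ ψ = 1) :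
    ∃ ψ' : P ⊗ (M'' ⊗ Q) ⟶ N,
      (P ◁ (π ▷ Q)) ≫ ψ' = ψ ∧
      (∀ (T : Over S) (p : T ⟶ P) (q : T ⟶ Q) (y z : T ⟶ M''),
        lift p (lift (y * z) q) ≫ ψ' = (lift p (lift y q) ≫ ψ') * (lift p (lift z q) ≫ ψ')) ∧
      (∀ (T : Over S) (p : T ⟶ P) (q : T ⟶ Q) (y : T ⟶ M'') (a : R),
        lift p (lift (y ≫ ρ''.act a) q) ≫ ψ' = (lift p (lift y q) ≫ ψ') ≫ ρN.act a) ∧
      ∀ ψ'' : P ⊗ (M'' ⊗ Q) ⟶ N, (P ◁ (π ▷ Q)) ≫ ψ'' = ψ → ψ'' = ψ' := by
  obtain ⟨J, hJ⟩ : ∃ J : GrothendieckTopology (Over S), J = QuotSh.J Scheme.fppfPrecoverage S :=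
    ⟨_, rfl⟩
  have hsub : J.Subcanonical := by rw [hJ]; infer_instance
  have hlift : ∀ {T : Over S} (y : T ⟶ M''),
      Groth.Agent.Lib.Helper11.Descend.liftSieve π y ∈ J T := by
    intro T y
    rw [hJ]
    exact Groth.Agent.Lib.Helper11.CGrpShPts.liftSieve_mem_of_epi Scheme.fppfPrecoverage π hepi y
  have hker : ∀ {T : Over S} (y : T ⟶ M), y ≫ π = 1 →
      Groth.Agent.Lib.Helper11.Descend.liftSieve j y ∈ J T := by
    intro T y hy
    rw [hJ]
    exact Groth.Agent.Lib.Helper11.CGrpShPts.liftSieve_mem_of_exact Scheme.fppfPrecoverage j π w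
      hex y hy
  have hsecπ : Groth.Agent.Lib.Helper11.Descend.secSieve π ∈ J M'' :=
    secSieve_of_liftSieve J π (hlift (𝟙 M''))
  have hsecq : Groth.Agent.Lib.Helper11.Descend.secSieve (P ◁ (π ▷ Q)) ∈ J (P ⊗ (M'' ⊗ Q)) :=
    Groth.Agent.Lib.Helper11.Central.secSieve_whiskerLeft J _
      (Groth.Agent.Lib.Helper11.Central.secSieve_whiskerRight J π hsecπ Q) P
  -- points form of `q`
  have hq : ∀ {T : Over S} (p : T ⟶ P) (y : T ⟶ M) (r : T ⟶ Q),
      lift p (lift y r) ≫ (P ◁ (π ▷ Q)) = lift p (lift (y ≫ π) r) := by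
    intro T p y r
    apply CartesianMonoidalCategory.hom_ext
    · simp
    · apply CartesianMonoidalCategory.hom_ext <;> simp
  have hpt : ∀ {T : Over S} (a : T ⟶ P ⊗ (M ⊗ Q)),
      a = lift (a ≫ fst _ _) (lift (a ≫ snd _ _ ≫ fst _ _) (a ≫ snd _ _ ≫ snd _ _)) := by
    intro T a
    apply CartesianMonoidalCategory.hom_ext
    · simp
    · apply CartesianMonoidalCategory.hom_ext <;> simp
  have hinv : ∀ ⦃W : Over S⦄ (a b : W ⟶ P ⊗ (M ⊗ Q)),
      a ≫ (P ◁ (π ▷ Q)) = b ≫ (P ◁ (π ▷ Q)) → a ≫ ψ = b ≫ ψ := by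
    intro W a b hab
    rw [hpt a, hpt b, hq, hq] at hab
    have e1 : a ≫ fst _ _ = b ≫ fst _ _ := by
      have := congrArg (fun m => m ≫ fst _ _) hab
      simpa only [lift_fst] using this
    have e2 : (a ≫ snd _ _ ≫ fst _ _) ≫ π = (b ≫ snd _ _ ≫ fst _ _) ≫ π := by
      have := congrArg (fun m => m ≫ snd _ _ ≫ fst _ _) hab
      simpa only [lift_snd_assoc, lift_fst] using this
    have e3 : a ≫ snd _ _ ≫ snd _ _ = b ≫ snd _ _ ≫ snd _ _ := by
      have := congrArg (fun m => m ≫ snd _ _ ≫ snd _ _) hab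
      simpa only [lift_snd_assoc, lift_snd] using this
    obtain ⟨p, hp⟩ : ∃ p, p = a ≫ fst P (M ⊗ Q) := ⟨_, rfl⟩
    obtain ⟨y, hy⟩ : ∃ y, y = a ≫ snd P (M ⊗ Q) ≫ fst M Q := ⟨_, rfl⟩
    obtain ⟨z, hz⟩ : ∃ z, z = b ≫ snd P (M ⊗ Q) ≫ fst M Q := ⟨_, rfl⟩
    obtain ⟨r, hr⟩ : ∃ r, r = a ≫ snd P (M ⊗ Q) ≫ snd M Q := ⟨_, rfl⟩
    rw [hpt a, hpt b, ← e1, ← e3, ← hp, ← hy, ← hz, ← hr]
    rw [← hy, ← hz] at e2
    have hd : (y * z⁻¹) ≫ π = 1 := by
      rw [MonObj.mul_comp, GrpObj.inv_comp, e2, mul_inv_cancel]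
    refine hom_ext_of_mem J _ (hker _ hd) _ _ ?_
    rintro W' g ⟨y', hy'⟩
    have h1 : g ≫ y = (y' ≫ j) * (g ≫ z) := by
      rw [hy', MonObj.comp_mul, GrpObj.comp_inv, inv_mul_cancel_right]
    rw [← Category.assoc, ← Category.assoc, comp_lift, comp_lift, comp_lift, comp_lift, h1, hadd,
      hvan, _root_.one_mul]
  obtain ⟨ψ', hψ'⟩ := Groth.Agent.Lib.Helper11.Descend.exists_desc J (P ◁ (π ▷ Q)) hsecq ψ hinv
  have hψ'pt : ∀ {T : Over S} (p : T ⟶ P) (y : T ⟶ M) (r : T ⟶ Q),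
      lift p (lift (y ≫ π) r) ≫ ψ' = lift p (lift y r) ≫ ψ := by
    intro T p y r
    rw [← hq, Category.assoc, hψ']
  refine ⟨ψ', hψ', ?_, ?_, ?_⟩
  · intro T p r y z
    refine hom_ext_of_mem J _ (J.intersection_covering (hlift y) (hlift z)) _ _ ?_
    rintro W g ⟨⟨y₀, hy₀⟩, ⟨z₀, hz₀⟩⟩
    rw [← Category.assoc, comp_lift, comp_lift, MonObj.comp_mul, MonObj.comp_mul,
      ← Category.assoc, ← Category.assoc, comp_lift, comp_lift, comp_lift, comp_lift,
      ← hy₀, ← hz₀, ← MonObj.mul_comp, hψ'pt, hψ'pt, hψ'pt, hadd]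
  · intro T p r y a
    refine hom_ext_of_mem J _ (hlift y) _ _ ?_
    rintro W g ⟨y₀, hy₀⟩
    rw [← Category.assoc, comp_lift, comp_lift, ← Category.assoc g, ← hy₀, Category.assoc y₀,
      hπ, ← Category.assoc y₀, hψ'pt, hlin, ← Category.assoc g, ← Category.assoc g, comp_lift,
      comp_lift, ← hy₀, hψ'pt]
  · intro ψ'' hψ''
    exact Groth.Agent.Lib.Helper11.Descend.hom_ext_of_secSieve J (P ◁ (π ▷ Q)) hsecq _ _
      (by rw [hψ'', hψ'])

end Groth.Agent.S13636
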