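import Groth.Statements.S13642
import Mathlib.AlgebraicGeometry.Morphisms.Finite

set_option autoImplicit false
open CategoryTheory AlgebraicGeometry
universe u
open FSch

namespace Groth.Agent.S13642

/-- Let f : 𝔛 ⟶ 𝔜 be a finite morphism of locally Noetherian formal schemes (adic, with finite morphism
of smallest levels). Then for every open U of 𝔜 the restriction f⁻¹(U) ⟶ U of f to the induced
formal schemes on U and on its inverse image is a finite morphism. -/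
theorem result (𝔛 𝔜 : FSch.Sys.{u}) (h𝔛 : 𝔛.IsLocNoethFormal) (h𝔜 : 𝔜.IsLocNoethFormal)
    (f : 𝔛 ⟶ 𝔜) (hf : FSch.IsFiniteHom f) (U : (𝔜.X 0).Opens) :
    FSch.IsFiniteHom (FSch.Hom.restrictOpen f h𝔛.1 h𝔜.1 U) := by
  obtain ⟨hadic, hfin⟩ := hf
  refine ⟨fun n => ?_, ?_⟩
  · have hUY : 𝔛.lvU h𝔛.1 n ((f : Hom 𝔛 𝔜).app 0 ⁻¹ᵁ U) =
        (𝔛.ι n) ⁻¹ᵁ (𝔛.lvU h𝔛.1 (n + 1) ((f : Hom 𝔛 𝔜).app 0 ⁻¹ᵁ U)) ⊓
          ((f : Hom 𝔛 𝔜).app n) ⁻¹ᵁ (𝔜.lvU h𝔜.1 n U) := by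
      rw [Hom.lvU_preimage f h𝔛.1 h𝔜.1 n U, 𝔛.lvU_succ h𝔛.1 n, inf_idem]
    exact Scheme.Hom.isPullback_resLE (hadic n) (𝔜.lvU_le h𝔜.1 n U)
      (Hom.lvU_preimage f h𝔛.1 h𝔜.1 (n + 1) U).ge hUY
  · change IsFinite (((f : Hom 𝔛 𝔜).app 0).resLE (𝔜.lvU h𝔜.1 0 U)
      (𝔛.lvU h𝔛.1 0 ((f : Hom 𝔛 𝔜).app 0 ⁻¹ᵁ U)) (Hom.lvU_preimage f h𝔛.1 h𝔜.1 0 U).ge)
    rw [← Scheme.Hom.resLE_congr ((f : Hom 𝔛 𝔜).app 0) le_rfl rfl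
      (Hom.lvU_preimage f h𝔛.1 h𝔜.1 0 U) @IsFinite, Scheme.Hom.resLE_eq_morphismRestrict]
    exact IsZariskiLocalAtTarget.restrict hfin _

end Groth.Agent.S13642
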