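import Groth.Statements.S13663
import Groth.Agent.Lib.Helper20Graded

set_option autoImplicit false
universe u
open GrRing

namespace Groth.Agent.S13663

/-- Let A be a commutative ring graded by the integers whose ideal generated by the homogeneous elements
of positive degree has homogeneous generators f_1, …, f_p, of positive degrees d_1, …, d_p, and let
d be a positive integer divisible by each d_i. Then A_N = A_d · A_{N-d} for every integer N > dp -
(d_1 + ⋯ + d_p). -/
theorem result {R A : Type u} [CommRing R] [CommRing A] [Algebra R A]
    (𝒜 : ℤ → Submodule R A) [GradedAlgebra 𝒜]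
    {p : ℕ} (f : Fin p → A) (deg : Fin p → ℤ) (hdeg : ∀ i, 0 < deg i) (hf : ∀ i, f i ∈ 𝒜 (deg i))
    (hgen : Ideal.span {a : A | ∃ n : ℤ, 0 < n ∧ a ∈ 𝒜 n} = Ideal.span (Set.range f))
    (d : ℤ) (hd : 0 < d) (hdvd : ∀ i, deg i ∣ d) (N : ℤ) (hN : d * p - ∑ i, deg i < N) :
    𝒜 N = 𝒜 d * 𝒜 (N - d) := by
  classical
  -- q i = d / deg i
  have hq : ∀ i, ∃ q : ℕ, deg i * q = d := by
    intro i
    obtain ⟨c, hc⟩ := hdvd i
    have hc0 : 0 ≤ c := by
      by_contra h
      push Not at h
      have := mul_neg_of_pos_of_neg (hdeg i) h
      omega
    exact ⟨c.toNat, by rw [Int.toNat_of_nonneg hc0]; exact hc.symm⟩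
  choose q hq using hq
  have hmon : ∀ e : Fin p → ℕ, ∏ j, f j ^ e j ∈ 𝒜 (∑ j, e j • deg j) :=
    fun e => SetLike.prod_pow_mem_graded 𝒜 deg f e fun j _ => hf j
  apply le_antisymm
  · -- main inclusion
    have claim : ∀ (n : ℕ) (k : ℤ), k.toNat = n → ∀ (e : Fin p → ℕ) (a : A), a ∈ 𝒜 k →
        k + ∑ j, (e j : ℤ) * deg j = N → a * ∏ j, f j ^ e j ∈ 𝒜 d * 𝒜 (N - d) := by
      intro n
      induction n using Nat.strong_induction_on with
      | _ n ih =>
        intro k hk e a ha hN'
        by_cases hcase : ∃ i, q i ≤ e i
        · obtain ⟨i, hi⟩ := hcase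
          let e' : Fin p → ℕ := fun j => e j - (Pi.single i (q i) : Fin p → ℕ) j
          have he : ∀ j, e j = e' j + (Pi.single i (q i) : Fin p → ℕ) j := by
            intro j
            by_cases hj : j = i
            · subst hj; simp [e', hi]
            · simp [e', hj]
          have hprod : ∏ j, f j ^ e j = (∏ j, f j ^ e' j) * f i ^ q i := by
            have : ∏ j, f j ^ (Pi.single i (q i) : Fin p → ℕ) j = f i ^ q i := by
              rw [Fintype.prod_eq_single i]
              · simp
              · intro j hj; simp [hj]
            rw [← this, ← Finset.prod_mul_distrib]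
            refine Finset.prod_congr rfl fun j _ => ?_
            rw [← pow_add, ← he j]
          have hsum : ∑ j, (e j : ℤ) * deg j = ∑ j, (e' j : ℤ) * deg j + d := by
            have : ∀ j, (e j : ℤ) * deg j = (e' j : ℤ) * deg j +
                ((Pi.single i (q i) : Fin p → ℕ) j : ℤ) * deg j := by
              intro j
              rw [he j]; push_cast; ring
            rw [Finset.sum_congr rfl fun j _ => this j, Finset.sum_add_distrib]
            congr 1
            rw [Fintype.sum_eq_single i]
            · simp [← hq i, mul_comm]
            · intro j hj; simp [hj]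
          have h1 : f i ^ q i ∈ 𝒜 d := by
            have := SetLike.pow_mem_graded (q i) (hf i)
            have h2 : q i • deg i = d := by rw [← hq i]; simp [mul_comm]
            rwa [h2] at this
          have h2 : a * ∏ j, f j ^ e' j ∈ 𝒜 (N - d) := by
            have := SetLike.mul_mem_graded ha (hmon e')
            have h3 : k + ∑ j, e' j • deg j = N - d := by
              have : ∑ j, e' j • deg j = ∑ j, (e' j : ℤ) * deg j := by simp
              rw [this]; omega
            rwa [h3] at this
          have h3 : a * ((∏ j, f j ^ e' j) * f i ^ q i) = f i ^ q i * (a * ∏ j, f j ^ e' j) := by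
            ring
          rw [hprod, h3]
          exact Submodule.mul_mem_mul h1 h2
        · push Not at hcase
          -- the exponent sum is small, so k > 0
          have hle : ∑ j, (e j : ℤ) * deg j ≤ d * p - ∑ j, deg j := by
            have : ∀ j, (e j : ℤ) * deg j ≤ d - deg j := by
              intro j
              have h1 : (e j : ℤ) + 1 ≤ q j := by exact_mod_cast hcase j
              have h2 := hdeg j
              calc (e j : ℤ) * deg j ≤ ((q j : ℤ) - 1) * deg j := by
                    apply mul_le_mul_of_nonneg_right _ h2.le
                    omega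
                _ = d - deg j := by rw [← hq j]; ring
            calc ∑ j, (e j : ℤ) * deg j ≤ ∑ j, (d - deg j) := Finset.sum_le_sum fun j _ => this j
              _ = d * p - ∑ j, deg j := by
                rw [Finset.sum_sub_distrib]; simp [mul_comm]
          have hkpos : 0 < k := by omega
          have hamem : a ∈ Ideal.span (Set.range f) := by
            rw [← hgen]
            exact Ideal.subset_span ⟨k, hkpos, ha⟩
          obtain ⟨c, hc, hac⟩ := Groth.Agent.Lib.Helper20.exists_homog_coeff 𝒜 f deg hf ha hamem
          rw [hac, Finset.sum_mul]
          refine Submodule.sum_mem _ fun i _ => ?_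
          have hprod : c i * f i * ∏ j, f j ^ e j =
              c i * ∏ j, f j ^ (e j + (Pi.single i 1 : Fin p → ℕ) j) := by
            have : ∏ j, f j ^ (Pi.single i 1 : Fin p → ℕ) j = f i := by
              rw [Fintype.prod_eq_single i]
              · simp
              · intro j hj; simp [hj]
            simp_rw [pow_add]
            rw [Finset.prod_mul_distrib, this]
            ring
          rw [hprod]
          have hdi := hdeg i
          refine ih (k - deg i).toNat (by omega) (k - deg i) rfl _ (c i) (hc i) ?_
          have : ∑ j, ((e j + (Pi.single i 1 : Fin p → ℕ) j : ℕ) : ℤ) * deg j =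
              ∑ j, (e j : ℤ) * deg j + deg i := by
            have h1 : ∀ j, ((e j + (Pi.single i 1 : Fin p → ℕ) j : ℕ) : ℤ) * deg j =
                (e j : ℤ) * deg j + ((Pi.single i 1 : Fin p → ℕ) j : ℤ) * deg j := by
              intro j; push_cast; ring
            rw [Finset.sum_congr rfl fun j _ => h1 j, Finset.sum_add_distrib]
            congr 1
            rw [Fintype.sum_eq_single i]
            · simp
            · intro j hj; simp [hj]
          rw [this]
          omega
    intro a ha
    have := claim N.toNat N rfl (fun _ => 0) a ha (by simp)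
    simpa using this
  · rw [Submodule.mul_le]
    intro a ha b hb
    have := SetLike.mul_mem_graded ha hb
    rwa [add_sub_cancel] at this

end Groth.Agent.S13663
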