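import Groth.Statements.S13664
import Groth.Agent.Lib.Helper20Graded
import Mathlib.RingTheory.Finiteness.Ideal
import Mathlib.Algebra.Module.Torsion.Basic

set_option autoImplicit false
universe u
open GrRing

namespace Groth.Agent.S13664

/-- Let A be a commutative ring graded by the integers whose ideal I generated by the homogeneous
elements of positive degree has homogeneous generators f_1, …, f_p, of positive degrees d_1, …, d_p,
let d be a positive integer divisible by each d_i, and let x be an element of an A-module M. The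
following are equivalent: x is annihilated by some power of I; x is annihilated by (A_d)^n for all
sufficiently large n; there is an integer s such that A_n x = 0 for all n ≥ s. (The published
statement is for a homogeneous element of a graded module; this row drops both the grading of M and
the homogeneity of x, which play no role.) -/
theorem result {R A : Type u} [CommRing R] [CommRing A] [Algebra R A]
    (𝒜 : ℤ → Submodule R A) [GradedAlgebra 𝒜]
    {p : ℕ} (f : Fin p → A) (deg : Fin p → ℤ) (hdeg : ∀ i, 0 < deg i) (hf : ∀ i, f i ∈ 𝒜 (deg i))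
    (hgen : Ideal.span {a : A | ∃ n : ℤ, 0 < n ∧ a ∈ 𝒜 n} = Ideal.span (Set.range f))
    (d : ℤ) (hd : 0 < d) (hdvd : ∀ i, deg i ∣ d)
    {M : Type u} [AddCommGroup M] [Module A M] (x : M) :
    [x ∈ GrLC.gam (Ideal.span (Set.range f)) M,
     ∃ n₀ : ℕ, ∀ n : ℕ, n₀ ≤ n → ∀ r ∈ (𝒜 d) ^ n, r • x = 0,
     ∃ s : ℤ, ∀ n : ℤ, s ≤ n → ∀ r ∈ 𝒜 n, r • x = 0].TFAE := by
  classical
  have hq : ∀ i, ∃ q : ℕ, deg i * q = d := by
    intro i
    obtain ⟨c, hc⟩ := hdvd i
    have hc0 : 0 ≤ c := by
      by_contra h
      push Not at h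
      have := mul_neg_of_pos_of_neg (hdeg i) h
      omega
    exact ⟨c.toNat, by rw [Int.toNat_of_nonneg hc0]; exact hc.symm⟩
  choose q hq using hq
  have hpowle : ∀ n : ℕ, (𝒜 d) ^ n ≤ 𝒜 (n • d) := by
    intro n
    induction n with
    | zero =>
      rw [pow_zero, zero_smul, Submodule.one_le]
      exact SetLike.GradedOne.one_mem
    | succ n ih =>
      rw [pow_succ, Submodule.mul_le]
      intro a ha b hb
      have := SetLike.mul_mem_graded (ih ha) hb
      rwa [← succ_nsmul] at this
  -- graded pieces of high degree lie in powers of the irrelevant ideal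
  have hI : ∀ m : ℕ, ∃ s : ℤ, ∀ n : ℤ, s ≤ n → ∀ a ∈ 𝒜 n, a ∈ (Ideal.span (Set.range f)) ^ m := by
    intro m
    induction m with
    | zero => exact ⟨0, fun n _ a _ => by simp⟩
    | succ m ih =>
      obtain ⟨s, hs⟩ := ih
      refine ⟨max 1 (s + ∑ j, deg j), fun n hn a ha => ?_⟩
      have hn1 : 0 < n := by
        have := le_max_left 1 (s + ∑ j, deg j); omega
      have hn2 : s + ∑ j, deg j ≤ n := (le_max_right _ _).trans hn
      have hamem : a ∈ Ideal.span (Set.range f) := by
        rw [← hgen]
        exact Ideal.subset_span ⟨n, hn1, ha⟩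
      obtain ⟨c, hc, hac⟩ := Groth.Agent.Lib.Helper20.exists_homog_coeff 𝒜 f deg hf ha hamem
      rw [hac, pow_succ]
      refine Ideal.sum_mem _ fun i _ => ?_
      refine Ideal.mul_mem_mul (hs _ ?_ _ (hc i)) (Ideal.subset_span ⟨i, rfl⟩)
      have : deg i ≤ ∑ j, deg j :=
        Finset.single_le_sum (f := deg) (fun j _ => (hdeg j).le) (Finset.mem_univ i)
      omega
  tfae_have 1 → 3 := by
    rintro ⟨m, hm⟩
    obtain ⟨s, hs⟩ := hI m
    exact ⟨s, fun n hn r hr => hm r (hs n hn r hr)⟩
  tfae_have 3 → 2 := by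
    rintro ⟨s, hs⟩
    refine ⟨s.toNat, fun n hn r hr => hs (n • d) ?_ r (hpowle n hr)⟩
    have h1 : s ≤ (n : ℤ) := by omega
    have h2 : (n : ℤ) ≤ n • d := by
      rw [nsmul_eq_mul]
      nlinarith
    exact h1.trans h2
  tfae_have 2 → 1 := by
    rintro ⟨n₀, hn₀⟩
    have hrad : Ideal.span (Set.range f) ≤ (Ideal.torsionOf A M x).radical := by
      rw [Ideal.span_le]
      rintro _ ⟨i, rfl⟩
      refine ⟨q i * n₀, ?_⟩
      rw [Ideal.mem_torsionOf_iff, pow_mul]
      apply hn₀ n₀ le_rfl
      apply Submodule.pow_mem_pow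
      have := SetLike.pow_mem_graded (q i) (hf i)
      have h2 : q i • deg i = d := by rw [← hq i]; simp [mul_comm]
      rwa [h2] at this
    have hfg : (Ideal.span (Set.range f)).FG := Submodule.fg_span (Set.finite_range f)
    obtain ⟨m, hm⟩ := Ideal.exists_pow_le_of_le_radical_of_fg hrad hfg
    exact ⟨m, fun r hr => (Ideal.mem_torsionOf_iff x r).mp (hm hr)⟩
  tfae_finish

end Groth.Agent.S13664
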