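import Groth.Statements.S13665
import Groth.Agent.Lib.Helper20Graded
import Mathlib.RingTheory.FiniteType
import Mathlib.RingTheory.Polynomial.Basic

set_option autoImplicit false
universe u
open GrRing

namespace Groth.Agent.S13665

/-- For a commutative ring A graded by the integers, with degree-zero subring A_0, the following are
equivalent: A is Noetherian; each homogeneous ideal of A has a finite generating set; A_0 is
Noetherian and the subalgebras A_{≥0}, A_{≤0} are each of finite type over A_0; A_0 is Noetherian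
and A is an A_0-algebra of finite type. -/
theorem result {R A : Type u} [CommRing R] [CommRing A] [Algebra R A]
    (𝒜 : ℤ → Submodule R A) [GradedAlgebra 𝒜] :
    [IsNoetherianRing A,
     ∀ I : Ideal A, I.IsHomogeneous 𝒜 → I.FG,
     IsNoetherianRing (𝒜 0) ∧ (Algebra.adjoin (𝒜 0) {a : A | ∃ n : ℤ, 0 ≤ n ∧ a ∈ 𝒜 n}).FG ∧
       (Algebra.adjoin (𝒜 0) {a : A | ∃ n : ℤ, n ≤ 0 ∧ a ∈ 𝒜 n}).FG,
     IsNoetherianRing (𝒜 0) ∧ Algebra.FiniteType (𝒜 0) A].TFAE := by
  classical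
  tfae_have 1 → 2 := by
    intro h I _
    exact (isNoetherianRing_iff_ideal_fg A).mp h I
  tfae_have 2 → 3 := by
    intro H
    refine ⟨Groth.Agent.Lib.Helper20.isNoetherianRing_zero 𝒜 H, ?_, ?_⟩
    · have := Groth.Agent.Lib.Helper20.adjoin_fg_of_sign 𝒜 H 1 (Or.inl rfl)
      have hset : {a : A | ∃ n : ℤ, 0 ≤ 1 * n ∧ a ∈ 𝒜 n} = {a : A | ∃ n : ℤ, 0 ≤ n ∧ a ∈ 𝒜 n} := by
        ext a
        constructor
        · rintro ⟨n, hn, ha⟩; exact ⟨n, by omega, ha⟩
        · rintro ⟨n, hn, ha⟩; exact ⟨n, by omega, ha⟩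
      rwa [hset] at this
    · have := Groth.Agent.Lib.Helper20.adjoin_fg_of_sign 𝒜 H (-1) (Or.inr rfl)
      have hset : {a : A | ∃ n : ℤ, 0 ≤ -1 * n ∧ a ∈ 𝒜 n} = {a : A | ∃ n : ℤ, n ≤ 0 ∧ a ∈ 𝒜 n} := by
        ext a
        constructor
        · rintro ⟨n, hn, ha⟩; exact ⟨n, by omega, ha⟩
        · rintro ⟨n, hn, ha⟩; exact ⟨n, by omega, ha⟩
      rwa [hset] at this
  tfae_have 3 → 4 := by
    rintro ⟨h0, hp, hn⟩
    refine ⟨h0, ⟨?_⟩⟩
    have hsup := hp.sup hn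
    have htop : Algebra.adjoin (𝒜 0) {a : A | ∃ n : ℤ, 0 ≤ n ∧ a ∈ 𝒜 n} ⊔
        Algebra.adjoin (𝒜 0) {a : A | ∃ n : ℤ, n ≤ 0 ∧ a ∈ 𝒜 n} = ⊤ := by
      rw [eq_top_iff]
      intro a _
      rw [← DirectSum.sum_support_decompose 𝒜 a]
      refine Subalgebra.sum_mem _ fun n _ => ?_
      rcases le_total 0 n with hn0 | hn0
      · exact Algebra.mem_sup_left (Algebra.subset_adjoin ⟨n, hn0, SetLike.coe_mem _⟩)
      · exact Algebra.mem_sup_right (Algebra.subset_adjoin ⟨n, hn0, SetLike.coe_mem _⟩)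
    rwa [htop] at hsup
  tfae_have 4 → 1 := by
    rintro ⟨h0, hft⟩
    exact Algebra.FiniteType.isNoetherianRing (𝒜 0) A
  tfae_finish

end Groth.Agent.S13665
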