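import Groth.Statements.S1367
import Groth.Agent.Lib.Helper2FibH1E

set_option autoImplicit false
universe u
open FlatMor

namespace Groth.Agent.S1367

open AlgebraicGeometry CategoryTheory Limits in
/-- Let f : X → Y be proper and y a point whose fibre has dimension at most 1 and satisfies H^1(X_y, O)
= 0. Then there is an open neighbourhood V of y such that R^1 f_* O_X vanishes on V, in the concrete
sense that H^1 of the structure sheaf vanishes on the preimage of every affine open of V, and the
same holds for the base change of f along any morphism to V. -/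
theorem result {X Y : Scheme.{u}} (f : X ⟶ Y) [IsProper f] (y : Y)
    (hdim : topologicalKrullDim ↑(f.fiber y) ≤ 1) (hH1 : Subsingleton (Coh.HH (f.fiber y) (Coh.structureModule (f.fiber y)) 1)) :
    ∃ V : Y.Opens, y ∈ V ∧ ∀ (Y' : Scheme.{u}) (g : Y' ⟶ (V : Scheme.{u})) (U : Y'.Opens), IsAffineOpen U →
      Subsingleton (Coh.HHon (pullback f (g ≫ V.ι)) (Coh.structureModule (pullback f (g ≫ V.ι))) (pullback.snd f (g ≫ V.ι) ⁻¹ᵁ U) 1) := by
  obtain ⟨V, hyV, hV⟩ := Groth.Agent.Lib.Helper2.FibH1E.exists_open_fibres f 1 y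
    (by exact_mod_cast hdim) hH1
  refine ⟨V, hyV, fun Y' g U hU => ?_⟩
  refine Groth.Agent.Lib.Helper2.FibH1E.subsingleton_HHon_of_fibres f (g ≫ V.ι) 1 U hU
    (fun y' _ => hV _ ?_)
  rw [Scheme.Hom.comp_apply]
  exact (g y').2

end Groth.Agent.S1367
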