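import Groth.Statements.S13682
import Mathlib.LinearAlgebra.PiTensorProduct.Basis
import Mathlib.LinearAlgebra.Multilinear.Basic
import Mathlib.LinearAlgebra.StdBasis

set_option autoImplicit false
universe u v w
open scoped BigOperators
open BTGrp

namespace Groth.Agent.S13682

section Aux

variable {A : Type*} [CommRing A] {r : ℕ} {M : Fin r → Type*} {N : Type*}
  [∀ i, AddCommGroup (M i)] [∀ i, Module A (M i)] [AddCommGroup N] [Module A N]

theorem ite_eq_update (i : Fin r) (a b c : ∀ k, M k) :
    (fun k => if k < i then a k else if k = i then c k else b k) =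
      Function.update (fun k => if k < i then a k else b k) i (c i) := by
  funext k
  by_cases h : k = i
  · subst h
    simp
  · simp [h]

/-- telescoping -/
theorem tele (φ : MultilinearMap A M N) (a b : ∀ k, M k) :
    φ a - φ b = ∑ i : Fin r, φ (fun k => if k < i then a k else if k = i then a k - b k else b k) := by
  have := φ.map_sub_map_piecewise a b Finset.univ
  rw [Finset.piecewise_univ] at this
  rw [this]
  refine Finset.sum_congr rfl fun i _ => congrArg φ (funext fun k => ?_)
  by_cases h1 : k < i
  · simp [h1]
  · by_cases h2 : k = i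
    · subst h2; simp
    · simp [h1, h2, Ne.symm h2]

/-- the torsion-free case -/
theorem tf (α : A) (hN : ∀ x : N, α • x = 0 → x = 0) (φ : MultilinearMap A M N) (n : ℕ)
    (y w : ∀ i, ℕ → M i) (hw : ∀ i, ∀ j < n, w i (j + 1) = w i j + α • y i j) :
    (∑ i : Fin r, ∑ j ∈ Finset.range n,
        φ (fun k => if k < i then w k (j + 1) else if k = i then y k j else w k j)) =
      ∑ i : Fin r, ∑ j ∈ Finset.range n,
        φ (fun k => if k < i then w k n else if k = i then y k j else w k 0) := by
  classical
  have hsub : ∀ x y : N, α • x = α • y → x = y := by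
    intro x y h
    have := hN (x - y) (by rw [smul_sub, h, sub_self])
    exact sub_eq_zero.mp this
  apply hsub
  have hL : α • (∑ i : Fin r, ∑ j ∈ Finset.range n,
        φ (fun k => if k < i then w k (j + 1) else if k = i then y k j else w k j)) =
      φ (fun k => w k n) - φ (fun k => w k 0) := by
    rw [Finset.sum_comm, Finset.smul_sum]
    rw [← Finset.sum_range_sub (fun j => φ (fun k => w k j)) n]
    refine Finset.sum_congr rfl fun j hj => ?_
    rw [tele φ (fun k => w k (j + 1)) (fun k => w k j), Finset.smul_sum]
    refine Finset.sum_congr rfl fun i _ => ?_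
    rw [ite_eq_update i (fun k => w k (j + 1)) (fun k => w k j) (fun k => y k j),
      ite_eq_update i (fun k => w k (j + 1)) (fun k => w k j) (fun k => w k (j + 1) - w k j),
      ← MultilinearMap.map_update_smul]
    congr 2
    rw [hw i j (Finset.mem_range.mp hj), add_sub_cancel_left]
  have hwn : ∀ i, w i n - w i 0 = ∑ j ∈ Finset.range n, α • y i j := by
    intro i
    rw [← Finset.sum_range_sub (fun j => w i j) n]
    refine Finset.sum_congr rfl fun j hj => ?_
    rw [hw i j (Finset.mem_range.mp hj), add_sub_cancel_left]
  have hR : α • (∑ i : Fin r, ∑ j ∈ Finset.range n,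
        φ (fun k => if k < i then w k n else if k = i then y k j else w k 0)) =
      φ (fun k => w k n) - φ (fun k => w k 0) := by
    rw [tele φ (fun k => w k n) (fun k => w k 0), Finset.smul_sum]
    refine Finset.sum_congr rfl fun i _ => ?_
    rw [ite_eq_update i (fun k => w k n) (fun k => w k 0) (fun k => w k n - w k 0), hwn i,
      MultilinearMap.map_update_sum, Finset.smul_sum]
    refine Finset.sum_congr rfl fun j _ => ?_
    rw [ite_eq_update i (fun k => w k n) (fun k => w k 0) (fun k => y k j),
      MultilinearMap.map_update_smul]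
  rw [hL, hR]

end Aux

/-- Let A be a commutative ring, α ∈ A a non-zero-divisor, M_1, …, M_r and N modules over A and φ : M_1
× ⋯ × M_r → N an A-multilinear map. Let n be a natural number and let y_{i,j} (j < n) and w_{i,j} (j
≤ n) be elements of M_i with w_{i,j+1} = w_{i,j} + α y_{i,j} for all i and all j < n. Then Σ_i
Σ_{j<n} φ(w_{1,j+1}, …, w_{i-1,j+1}, y_{i,j}, w_{i+1,j}, …, w_{r,j}) = Σ_i Σ_{j<n} φ(w_{1,n}, …,
w_{i-1,n}, y_{i,j}, w_{i+1,0}, …, w_{r,0}). (The published statement takes n ≥ 1; for n = 0 both
sides are empty sums. The families y, w are indexed by all natural numbers here and only the indices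
named above enter.) -/
theorem result {A : Type u} [CommRing A] (α : A) (hα : α ∈ nonZeroDivisors A)
    {r : ℕ} (M : Fin r → Type v) (N : Type w) [∀ i, AddCommGroup (M i)] [∀ i, Module A (M i)]
    [AddCommGroup N] [Module A N] (φ : MultilinearMap A M N) (n : ℕ)
    (y w : ∀ i, ℕ → M i) (hw : ∀ i, ∀ j < n, w i (j + 1) = w i j + α • y i j) :
    (∑ i : Fin r, ∑ j ∈ Finset.range n,
        φ (fun k => if k < i then w k (j + 1) else if k = i then y k j else w k j)) =
      ∑ i : Fin r, ∑ j ∈ Finset.range n,
        φ (fun k => if k < i then w k n else if k = i then y k j else w k 0) := by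
  classical
  let M' : Fin r → Type u := fun _ => Fin (n + 1) → A
  let v : ∀ i, Fin (n + 1) → M i := fun i => Fin.cons (w i 0) (fun l : Fin n => y i l)
  let g : ∀ i, M' i →ₗ[A] M i := fun i => Fintype.linearCombination A (v i)
  let y' : ℕ → (Fin (n + 1) → A) :=
    fun j => if h : j < n then Pi.single (Fin.succ ⟨j, h⟩) 1 else 0
  let w' : ℕ → (Fin (n + 1) → A) :=
    fun j => Nat.rec (Pi.single 0 1) (fun j wj => wj + α • y' j) j
  have hw' : ∀ j, w' (j + 1) = w' j + α • y' j := fun j => rfl
  have hgy : ∀ i j, j < n → g i (y' j) = y i j := by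
    intro i j hj
    have h1 : y' j = Pi.single (Fin.succ ⟨j, hj⟩) 1 := dif_pos hj
    rw [h1]
    change Fintype.linearCombination A (v i) (Pi.single (Fin.succ ⟨j, hj⟩) 1) = y i j
    rw [Fintype.linearCombination_apply_single, one_smul]
    rfl
  have hgw : ∀ i j, j ≤ n → g i (w' j) = w i j := by
    intro i j
    induction j with
    | zero =>
      intro _
      change Fintype.linearCombination A (v i) (Pi.single 0 1) = w i 0
      rw [Fintype.linearCombination_apply_single, one_smul]
      rfl
    | succ j ih =>
      intro hj
      rw [hw', map_add, map_smul, ih (by omega), hgy i j (by omega), hw i j (by omega)]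
  let B := Basis.piTensorProduct (R := A) (fun _ : Fin r => Pi.basisFun A (Fin (n + 1)))
  have htf : ∀ x : (PiTensorProduct A M'), α • x = 0 → x = 0 := by
    intro x hx
    apply B.repr.injective
    rw [map_zero]
    ext q
    have := congrArg (fun z => B.repr z q) hx
    simp only [map_smul, Finsupp.smul_apply, smul_eq_mul, map_zero, Finsupp.zero_apply] at this
    rw [mul_comm] at this
    exact (mem_nonZeroDivisors_iff_right.mp hα) _ this
  have key := tf α htf (PiTensorProduct.tprod A : MultilinearMap A M' _) n
    (fun _ => y') (fun _ => w') (fun _ j _ => hw' j)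
  have key2 := congrArg (PiTensorProduct.lift (φ.compLinearMap g)) key
  simp only [map_sum, PiTensorProduct.lift.tprod, MultilinearMap.compLinearMap_apply] at key2
  have e1 : ∀ i : Fin r, ∀ j ∈ Finset.range n,
      φ (fun k => if k < i then w k (j + 1) else if k = i then y k j else w k j) =
      φ (fun k => g k (if k < i then w' (j + 1) else if k = i then y' j else w' j)) := by
    intro i j hj
    have hj' := Finset.mem_range.mp hj
    congr 1
    funext k
    rw [apply_ite (g k), apply_ite (g k), hgw k (j + 1) (by omega), hgw k j (by omega),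
      hgy k j hj']
  have e2 : ∀ i : Fin r, ∀ j ∈ Finset.range n,
      φ (fun k => if k < i then w k n else if k = i then y k j else w k 0) =
      φ (fun k => g k (if k < i then w' n else if k = i then y' j else w' 0)) := by
    intro i j hj
    have hj' := Finset.mem_range.mp hj
    congr 1
    funext k
    rw [apply_ite (g k), apply_ite (g k), hgw k n le_rfl, hgw k 0 (by omega), hgy k j hj']
  rw [Finset.sum_congr rfl fun i _ => Finset.sum_congr rfl (e1 i),
    Finset.sum_congr rfl fun i _ => Finset.sum_congr rfl (e2 i)]
  exact key2

end Groth.Agent.S13682
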