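import Groth.Statements.S13685
-- import your own Groth.Agent.* helpers here

set_option autoImplicit false
universe u v w
open Disp

namespace Groth.Agent.S13685

open W4c1extbt610 in
theorem F_eq {p : ℕ} [Fact p.Prime] {R : Type u} [CommRing R] {P : Type v} [AddCommGroup P]
    [Module (WittVector p R) P] (D : W4c1extbt610.Display3n p R P) (x : P) :
    D.F x = D.Vinv ⟨WittVector.verschiebung (1 : WittVector p R) • x,
      D.IV_smul_le (Submodule.smul_mem_smul (verschiebung_mem_IV p R 1) Submodule.mem_top)⟩ := by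
  rw [D.Vinv_verschiebung_smul, one_smul]

/-- Let p be a prime, R a commutative ring, W its ring of p-typical Witt vectors, D = (P, Q, F, V⁻¹) a
3n-display over R with a normal decomposition P = L ⊕ T, Q = L + I_R T in which T is free of rank
one over W, and E the 3n-display structure on ⋀^r P whose distinguished submodule is spanned by the
wedges of elements of Q and whose V⁻¹ sends q_1 ∧ ⋯ ∧ q_r to V⁻¹q_1 ∧ ⋯ ∧ V⁻¹q_r. Then the wedge map
λ : P^r → ⋀^r P is an alternating multilinear morphism of 3n-displays from D to E, and for every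
3n-display D' = (P', Q', F', V'⁻¹) and every alternating multilinear morphism of 3n-displays φ : P^r
→ P' (W-multilinear alternating, φ(Q^r) ⊆ Q', V'⁻¹(φ(q)) = φ(V⁻¹q_1, …, V⁻¹q_r), F'(φ(q_1, …, x_i,
…, q_r)) = φ(V⁻¹q_1, …, F x_i, …, V⁻¹q_r)) there is a unique W-linear ψ : ⋀^r P → P' that is a
morphism of 3n-displays from E to D' (ψ maps E's submodule into Q' and commutes with F and V⁻¹) with
ψ ∘ λ = φ. (The published statement has T projective of rank one; this row takes T free of rank
one.) -/
theorem result (p : ℕ) [Fact p.Prime] (R : Type u) [CommRing R]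
    (P : Type v) [AddCommGroup P] [Module (WittVector p R) P] (D : W4c1extbt610.Display3n p R P)
    (hT : ∃ L T : Submodule (WittVector p R) P, IsCompl L T ∧ D.Q = L ⊔ W4c1extbt610.IV p R • T ∧
      Nonempty (T ≃ₗ[WittVector p R] WittVector p R))
    (r : ℕ) (E : W4c1extbt610.Display3n p R (⋀[WittVector p R]^r P)) (hE : W4c1extbt610.IsExtPow D r E) :
    W4c1extbt610.IsAltMult D E (exteriorPower.ιMulti (WittVector p R) r) ∧
      ∀ (P' : Type w) [AddCommGroup P'] [Module (WittVector p R) P'] (D' : W4c1extbt610.Display3n p R P')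
        (φ : P [⋀^Fin r]→ₗ[WittVector p R] P'), W4c1extbt610.IsAltMult D D' φ →
        ∃! ψ : ⋀[WittVector p R]^r P →ₗ[WittVector p R] P',
          W4c1extbt610.IsHom E D' ψ ∧ ψ.compAlternatingMap (exteriorPower.ιMulti (WittVector p R) r) = φ := by
  classical
  obtain ⟨hQ, hV⟩ := hE
  have key : ∀ (y : ⋀[WittVector p R]^r P) (hy : y ∈ E.Q) (q' : Fin r → D.Q),
      y = exteriorPower.ιMulti (WittVector p R) r (fun j => (q' j : P)) →
      E.Vinv ⟨y, hy⟩ = exteriorPower.ιMulti (WittVector p R) r (fun j => D.Vinv (q' j)) := by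
    rintro y hy q' rfl
    exact hV q' hy
  have hmaps : ∀ q : Fin r → D.Q,
      exteriorPower.ιMulti (WittVector p R) r (fun i => (q i : P)) ∈ E.Q := by
    intro q
    rw [hQ]
    exact Submodule.subset_span ⟨q, rfl⟩
  refine ⟨⟨hmaps, fun q => hV q _, ?_⟩, ?_⟩
  · intro i x q
    rw [F_eq E]
    have hmem : WittVector.verschiebung (1 : WittVector p R) • x ∈ D.Q :=
      D.IV_smul_le (Submodule.smul_mem_smul (W4c1extbt610.verschiebung_mem_IV p R 1)
        Submodule.mem_top)
    let q' : Fin r → D.Q := Function.update q i ⟨_, hmem⟩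
    have hq' : (fun j => (q' j : P)) =
        Function.update (fun j => (q j : P)) i (WittVector.verschiebung (1 : WittVector p R) • x) := by
      funext j
      by_cases hj : j = i
      · subst hj; simp [q']
      · simp [q', hj]
    have hq'' : (fun j => D.Vinv (q' j)) =
        Function.update (fun j => D.Vinv (q j)) i (D.F x) := by
      funext j
      by_cases hj : j = i
      · subst hj
        simp only [q', Function.update_self]
        exact (F_eq D x).symm
      · simp [q', hj]
    rw [key _ _ q', hq'']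
    rw [hq', AlternatingMap.map_update_smul]
  · intro P' _ _ D' φ hφ
    let ψ : ⋀[WittVector p R]^r P →ₗ[WittVector p R] P' := exteriorPower.alternatingMapLinearEquiv φ
    have hψι : ∀ a : Fin r → P, ψ (exteriorPower.ιMulti (WittVector p R) r a) = φ a :=
      fun a => exteriorPower.alternatingMapLinearEquiv_apply_ιMulti φ a
    have hmapsTo : ∀ y : ⋀[WittVector p R]^r P, y ∈ E.Q → ψ y ∈ D'.Q := by
      intro y hy
      rw [hQ] at hy
      induction hy using Submodule.span_induction with
      | mem y hy =>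
        obtain ⟨q, rfl⟩ := hy
        rw [hψι]
        exact hφ.mapsTo q
      | zero => rw [map_zero]; exact zero_mem _
      | add x y _ _ hx hy => rw [map_add]; exact add_mem hx hy
      | smul a x _ hx => rw [map_smul]; exact Submodule.smul_mem _ _ hx
    have hVinv : ∀ (y : ⋀[WittVector p R]^r P)
        (hy : y ∈ Submodule.span (WittVector p R) (Set.range fun q : Fin r → D.Q =>
          exteriorPower.ιMulti (WittVector p R) r (fun i => (q i : P)))) (hy' : y ∈ E.Q),
        ψ (E.Vinv ⟨y, hy'⟩) = D'.Vinv ⟨ψ y, hmapsTo y hy'⟩ := by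
      intro y hy
      induction hy using Submodule.span_induction with
      | mem y hy =>
        obtain ⟨q, rfl⟩ := hy
        intro hy'
        rw [hV q hy', hψι, ← hφ.vCond q]
        congr 1
        exact Subtype.ext (hψι _).symm
      | zero =>
        intro hy'
        have h1 : (⟨0, hy'⟩ : E.Q) = 0 := rfl
        have h2 : (⟨ψ 0, hmapsTo 0 hy'⟩ : D'.Q) = 0 := Subtype.ext (map_zero ψ)
        rw [h1, h2, map_zero, map_zero, map_zero]
      | add x y hx hy ihx ihy =>
        intro hy'
        have hx' : x ∈ E.Q := by rw [hQ]; exact hx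
        have hy'' : y ∈ E.Q := by rw [hQ]; exact hy
        have h1 : (⟨x + y, hy'⟩ : E.Q) = ⟨x, hx'⟩ + ⟨y, hy''⟩ := rfl
        have h2 : (⟨ψ (x + y), hmapsTo _ hy'⟩ : D'.Q) =
            ⟨ψ x, hmapsTo x hx'⟩ + ⟨ψ y, hmapsTo y hy''⟩ := Subtype.ext (map_add ψ x y)
        rw [h1, h2, map_add, map_add, map_add, ihx hx', ihy hy'']
      | smul a x hx ihx =>
        intro hy'
        have hx' : x ∈ E.Q := by rw [hQ]; exact hx
        have h1 : (⟨a • x, hy'⟩ : E.Q) = a • ⟨x, hx'⟩ := rfl
        have h2 : (⟨ψ (a • x), hmapsTo _ hy'⟩ : D'.Q) = a • ⟨ψ x, hmapsTo x hx'⟩ :=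
          Subtype.ext (map_smul ψ a x)
        rw [h1, h2, E.Vinv.map_smulₛₗ, D'.Vinv.map_smulₛₗ, map_smul, ihx hx']
    have hVinv' : ∀ y : E.Q, ψ (E.Vinv y) = D'.Vinv ⟨ψ y, hmapsTo y y.2⟩ := by
      rintro ⟨y, hy⟩
      exact hVinv y (by rw [← hQ]; exact hy) hy
    refine ⟨ψ, ⟨⟨hmapsTo, ?_, hVinv'⟩, exteriorPower.alternatingMapLinearEquiv_comp_ιMulti φ⟩, ?_⟩
    · intro y
      rw [F_eq E, hVinv', F_eq D']
      congr 1
      exact Subtype.ext (map_smul ψ _ _)
    · rintro ψ' ⟨-, hψ'⟩
      apply exteriorPower.linearMap_ext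
      rw [hψ', exteriorPower.alternatingMapLinearEquiv_comp_ιMulti]

end Groth.Agent.S13685
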