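import Groth.Statements.S13702
import Mathlib

set_option autoImplicit false
universe u
open ZeroCyc

namespace Groth.Agent.S13702

open Polynomial

lemma F1 (K : Type u) [Field K] (p : ℕ) [Fact p.Prime] [CharP K p] [PerfectRing K p]
    (f : K[X]) (hf : f.Monic) (hsep : f.Separable) (s : ℕ) :
    LinearIndependent K (fun i : Fin f.natDegree => (AdjoinRoot.root f) ^ (p ^ s * (i : ℕ))) := by
  by_cases hn : f.natDegree = 0
  · have : IsEmpty (Fin f.natDegree) := by rw [hn]; infer_instance
    exact linearIndependent_empty_type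
  have hdeg : f.degree ≠ 0 := by
    rw [Polynomial.degree_eq_natDegree hf.ne_zero]
    exact_mod_cast hn
  have : Nontrivial (AdjoinRoot f) := AdjoinRoot.nontrivial f hdeg
  have : CharP (AdjoinRoot f) p :=
    charP_of_injective_algebraMap (algebraMap K (AdjoinRoot f)).injective p
  have : ExpChar (AdjoinRoot f) p := ExpChar.prime Fact.out
  have : IsReduced (AdjoinRoot f) :=
    (Ideal.isRadical_iff_quotient_reduced _).mp
      (isRadical_iff_span_singleton.mp hsep.squarefree.isRadical)
  rw [Fintype.linearIndependent_iff]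
  intro c hc i
  set d : Fin f.natDegree → K := fun j => (iterateFrobeniusEquiv K p s).symm (c j) with hd
  have hdc : ∀ j, d j ^ p ^ s = c j := fun j => by
    have := (iterateFrobeniusEquiv K p s).apply_symm_apply (c j)
    rwa [iterateFrobeniusEquiv_def] at this
  have h1 : (∑ j, d j • (AdjoinRoot.root f) ^ (j : ℕ)) ^ p ^ s = 0 := by
    rw [sum_pow_char_pow, ← hc]
    refine Finset.sum_congr rfl fun j _ => ?_
    rw [_root_.smul_pow, hdc, ← pow_mul, mul_comm]
  have h2 : ∑ j, d j • (AdjoinRoot.root f) ^ (j : ℕ) = 0 := IsNilpotent.eq_zero ⟨_, h1⟩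
  have hli := (AdjoinRoot.powerBasis' hf).basis.linearIndependent
  have h3 : ∑ j, d j • (AdjoinRoot.powerBasis' hf).basis j = 0 := by
    rw [← h2]
    refine Finset.sum_congr rfl fun j _ => ?_
    have := (AdjoinRoot.powerBasis' hf).basis_eq_pow j
    rw [this]; rfl
  have h4 := Fintype.linearIndependent_iff.mp hli d h3 i
  rw [← hdc i, h4, zero_pow (pow_pos (Fact.out : p.Prime).pos s).ne']

lemma pbAux_apply {R : Type u} [CommRing R] (h : R[X]) (hh : h.Monic) (j : Fin h.natDegree) :
    AdjoinRoot.powerBasisAux' hh j = AdjoinRoot.root h ^ (j : ℕ) :=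
  (AdjoinRoot.powerBasis' hh).basis_eq_pow j

/-- Let A be a local ring with residue field of characteristic p > 0, let g ∈ A[X] be monic and
separable of degree n, so that A' = A[X]/(g) is an étale A-algebra, and let q = p^s with s ≥ 0. Then
the powers 1, t^q, t^{2q}, …, t^{(n-1)q} of the class t of X form a basis of A' as an A-module. -/
theorem result {A : Type u} [CommRing A] [IsLocalRing A] (p : ℕ) [Fact p.Prime]
    [CharP (IsLocalRing.ResidueField A) p] (g : Polynomial A) (hg : g.Monic) (hsep : g.Separable) (s : ℕ) :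
    ∃ b : Module.Basis (Fin g.natDegree) A (AdjoinRoot g),
      ∀ i : Fin g.natDegree, b i = AdjoinRoot.root g ^ (p ^ s * (i : ℕ)) := by
  classical
  let k := IsLocalRing.ResidueField A
  let Kb := AlgebraicClosure k
  let ρ : A →+* Kb := (algebraMap k Kb).comp (IsLocalRing.residue A)
  have : CharP Kb p := charP_of_injective_algebraMap (algebraMap k Kb).injective p
  have : ExpChar Kb p := ExpChar.prime Fact.out
  have : PerfectRing Kb p := PerfectField.toPerfectRing p
  set f : Kb[X] := g.map ρ with hfdef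
  have hf : f.Monic := hg.map ρ
  have hfsep : f.Separable := hsep.map
  have hnf : f.natDegree = g.natDegree := hg.natDegree_map ρ
  have hev : Polynomial.eval₂ ((AdjoinRoot.of f).comp ρ) (AdjoinRoot.root f) g = 0 := by
    rw [← Polynomial.eval₂_map]; exact AdjoinRoot.eval₂_root f
  let ψ : AdjoinRoot g →+* AdjoinRoot f :=
    AdjoinRoot.lift ((AdjoinRoot.of f).comp ρ) (AdjoinRoot.root f) hev
  have hψof : ∀ a : A, ψ (AdjoinRoot.of g a) = AdjoinRoot.of f (ρ a) := fun a => by
    simp [ψ]
  have hψroot : ψ (AdjoinRoot.root g) = AdjoinRoot.root f := by simp [ψ]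
  have hψsmul : ∀ (a : A) (y : AdjoinRoot g), ψ (a • y) = ρ a • ψ y := fun a y => by
    rw [Algebra.smul_def, Algebra.smul_def, map_mul]
    congr 1
    exact hψof a
  let e : Module.Basis (Fin g.natDegree) A (AdjoinRoot g) := AdjoinRoot.powerBasisAux' hg
  let eb : Module.Basis (Fin g.natDegree) Kb (AdjoinRoot f) :=
    (AdjoinRoot.powerBasisAux' hf).reindex (finCongr hnf)
  have he : ∀ j, e j = AdjoinRoot.root g ^ (j : ℕ) := fun j => pbAux_apply g hg j
  have heb : ∀ j, eb j = AdjoinRoot.root f ^ (j : ℕ) := fun j => by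
    simp only [eb, Module.Basis.reindex_apply]
    rw [pbAux_apply f hf]; rfl
  have hψe : ∀ j, ψ (e j) = eb j := fun j => by rw [he, heb, map_pow, hψroot]
  have hrepr : ∀ (y : AdjoinRoot g) (j : Fin g.natDegree), eb.repr (ψ y) j = ρ (e.repr y j) := by
    intro y j
    have hy : ψ y = ∑ l, ρ (e.repr y l) • eb l := by
      conv_lhs => rw [← e.sum_repr y]
      rw [map_sum]
      refine Finset.sum_congr rfl fun l _ => ?_
      rw [hψsmul, hψe]
    rw [hy, Module.Basis.repr_sum_self]
  let w : Fin g.natDegree → AdjoinRoot g := fun i => AdjoinRoot.root g ^ (p ^ s * (i : ℕ))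
  let wb : Fin g.natDegree → AdjoinRoot f := fun i => AdjoinRoot.root f ^ (p ^ s * (i : ℕ))
  have hψw : ∀ i, ψ (w i) = wb i := fun i => by simp only [w, wb, map_pow, hψroot]
  have hmat : (ρ.mapMatrix (e.toMatrix w)) = eb.toMatrix wb := by
    ext i j
    simp only [RingHom.mapMatrix_apply, Matrix.map_apply, Module.Basis.toMatrix_apply]
    rw [← hψw, hrepr]
  -- wb is a basis
  have hwbli : LinearIndependent Kb wb := by
    have h := (F1 Kb p f hf hfsep s).comp (finCongr hnf.symm) (Equiv.injective _)
    exact h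
  have hwbspan : Submodule.span Kb (Set.range wb) = ⊤ := by
    have : FiniteDimensional Kb (AdjoinRoot f) := Module.Finite.of_basis eb
    apply hwbli.span_eq_top_of_card_eq_finrank'
    rw [Module.finrank_eq_card_basis eb]
  have hunitb : IsUnit (eb.det wb) := (Module.Basis.is_basis_iff_det eb).mp ⟨hwbli, hwbspan⟩
  have hdet : ρ (e.det w) = eb.det wb := by
    rw [Module.Basis.det_apply, Module.Basis.det_apply, RingHom.map_det, hmat]
  have hunit : IsUnit (e.det w) := by
    by_contra hnu
    have hmem : e.det w ∈ IsLocalRing.maximalIdeal A := by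
      rwa [IsLocalRing.mem_maximalIdeal, mem_nonunits_iff]
    have : IsLocalRing.residue A (e.det w) = 0 := (IsLocalRing.residue_eq_zero_iff _).mpr hmem
    have h0 : ρ (e.det w) = 0 := by
      show (algebraMap k Kb) (IsLocalRing.residue A (e.det w)) = 0
      rw [this, map_zero]
    rw [hdet] at h0
    exact hunitb.ne_zero h0
  obtain ⟨hli, hspan⟩ := (Module.Basis.is_basis_iff_det e).mpr hunit
  refine ⟨Module.Basis.mk hli hspan.ge, fun i => ?_⟩
  rw [Module.Basis.mk_apply]

end Groth.Agent.S13702
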