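import Groth.Statements.S13708
import Mathlib.AlgebraicGeometry.Morphisms.Separated
import Mathlib.AlgebraicGeometry.Morphisms.Affine

set_option autoImplicit false
universe u
open CategoryTheory CategoryTheory.Limits AlgebraicGeometry
open ZeroCyc

namespace Groth.Agent.S13708

/-- Let X be a scheme over S such that every finite set of points of X over a common point of S lies in
some affine open subscheme of X (the condition (AF)). Then X is separated over S. (The published
condition (AF) asks for an open U with U → S quasi-affine rather than U affine; with U affine, as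
here, the same argument applies verbatim, and the two conditions agree over a quasi-separated base.) -/
theorem result {X S : Scheme.{u}} (f : X ⟶ S) (hX : SymProd.IsAF f) :
    IsSeparated f := by
  classical
  refine ⟨?_⟩
  -- the cover of the fibre product by the `U ×_S U`, `U` affine open
  let W : X.affineOpens → (pullback f f).Opens := fun U =>
    (pullback.fst f f) ⁻¹ᵁ (U : X.Opens) ⊓ (pullback.snd f f) ⁻¹ᵁ (U : X.Opens)
  have hW : iSup W = ⊤ := by
    rw [eq_top_iff]
    rintro z -
    have hz : f.base ((pullback.fst f f).base z) = f.base ((pullback.snd f f).base z) := by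
      have := congrArg (fun g => g.base z) (pullback.condition (f := f) (g := f))
      simpa using this
    obtain ⟨U, hU, hTU⟩ := hX (f.base ((pullback.fst f f).base z))
      {(pullback.fst f f).base z, (pullback.snd f f).base z} (by
        intro x hx
        rw [Finset.mem_insert, Finset.mem_singleton] at hx
        rcases hx with rfl | rfl
        · rfl
        · exact hz.symm)
    rw [TopologicalSpace.Opens.mem_iSup]
    refine ⟨⟨U, hU⟩, ?_, ?_⟩
    · exact hTU _ (by simp)
    · exact hTU _ (by simp)
  apply IsZariskiLocalAtTarget.of_iSup_eq_top W hW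
  intro U
  have hUaff : IsAffine (U : X.Opens).toScheme := U.2
  -- `U = Δ⁻¹ (W U)`
  have hpre : (pullback.diagonal f) ⁻¹ᵁ (W U) = (U : X.Opens) := by
    change (pullback.diagonal f) ⁻¹ᵁ ((pullback.fst f f) ⁻¹ᵁ (U : X.Opens) ⊓
      (pullback.snd f f) ⁻¹ᵁ (U : X.Opens)) = (U : X.Opens)
    rw [Scheme.Hom.preimage_inf, ← Scheme.Hom.comp_preimage, ← Scheme.Hom.comp_preimage,
      pullback.diagonal_fst, pullback.diagonal_snd, Scheme.Hom.id_preimage, inf_idem]
  rw [← Scheme.Hom.resLE_eq_morphismRestrict,
    Scheme.Hom.resLE_congr (pullback.diagonal f) le_rfl rfl hpre @IsClosedImmersion]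
  -- the restricted first projection `W U ⟶ U` is separated
  have hk : (W U) ≤ (pullback.fst f f) ⁻¹ᵁ (U : X.Opens) := inf_le_left
  have hpb := Scheme.Hom.isPullback_resLE (IsPullback.of_hasPullback f f)
    (US := ⊤) (UT := (U : X.Opens)) (UX := (U : X.Opens)) (UY := W U) le_top le_top rfl
  have hsepU : IsSeparated (f.resLE ⊤ (U : X.Opens) le_top) := by
    have : IsSeparated (f.resLE ⊤ (U : X.Opens) le_top ≫ terminal.from _) := by
      rw [terminal.comp_from]
      infer_instance
    exact IsSeparated.of_comp _ (terminal.from _)
  have hsepk : IsSeparated ((pullback.fst f f).resLE (U : X.Opens) (W U) hk) :=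
    MorphismProperty.of_isPullback hpb.flip hsepU
  have hcomp : (pullback.diagonal f).resLE (W U) (U : X.Opens) hpre.ge ≫
      (pullback.fst f f).resLE (U : X.Opens) (W U) hk = 𝟙 _ := by
    rw [Scheme.Hom.resLE_comp_resLE]
    simp only [pullback.diagonal_fst]
    rw [Scheme.Hom.resLE_id]
    exact Scheme.homOfLE_rfl _ _
  have : IsClosedImmersion ((pullback.diagonal f).resLE (W U) (U : X.Opens) hpre.ge ≫
      (pullback.fst f f).resLE (U : X.Opens) (W U) hk) := by
    rw [hcomp]; infer_instance
  exact IsClosedImmersion.of_comp _ ((pullback.fst f f).resLE (U : X.Opens) (W U) hk)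

end Groth.Agent.S13708
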