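import Groth.Statements.S13709
import Groth.Agent.Lib.Helper12PullbackPts
import Mathlib.AlgebraicGeometry.Morphisms.UniversallyOpen
import Mathlib.AlgebraicGeometry.Morphisms.QuasiCompact

set_option autoImplicit false
universe u
open CategoryTheory CategoryTheory.Limits AlgebraicGeometry
open ZeroCyc

namespace Groth.Agent.S13709

/-- Let f : X → Y be a quasi-compact morphism of schemes and g : Y' → Y a faithfully flat morphism, i.e.
flat and surjective, with no quasi-compactness assumption on g. If the base change X ×_Y Y' → Y' of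
f along g is a homeomorphism on underlying spaces, then so is f. -/
theorem result {X Y Y' : Scheme.{u}} (f : X ⟶ Y) (g : Y' ⟶ Y)
    [Flat g] [Surjective g] [QuasiCompact f] (h : IsHomeomorph (pullback.snd f g).base) :
    IsHomeomorph f.base := by
  have hpb := IsPullback.of_hasPullback f g
  have hex := fun x y hxy => Groth.Agent.Lib.Helper12.exists_preimage_of_isPullback hpb x y hxy
  rw [isHomeomorph_iff_continuous_isClosedMap_bijective] at h ⊢
  obtain ⟨-, hcl, hinj, hsurj⟩ := h
  refine ⟨f.continuous, ?_, ?_, ?_⟩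
  · rw [isClosedMap_iff_specializingMap]
    -- specializations lift along `f`
    rw [SpecializingMap]
    intro x y₁ hy
    -- `f x ⤳ y₁`
    obtain ⟨y₁', hy₁'⟩ := g.surjective y₁
    have hgen : GeneralizingMap g := Flat.generalizingMap g
    obtain ⟨y', hy'1, hy'2⟩ := hgen (show f x ⤳ g y₁' from hy₁' ▸ hy)
    obtain ⟨x', hx'1, hx'2⟩ := hex x y' hy'2.symm
    have hspec : SpecializingMap (pullback.snd f g) := hcl.specializingMap
    obtain ⟨x₁', hx₁'1, hx₁'2⟩ := hspec (show pullback.snd f g x' ⤳ y₁' from hx'2 ▸ hy'1)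
    refine ⟨pullback.fst f g x₁', ?_, ?_⟩
    · rw [← hx'1]
      exact hx₁'1.map (pullback.fst f g).continuous
    · rw [← Scheme.Hom.comp_apply, pullback.condition, Scheme.Hom.comp_apply, hx₁'2, hy₁']
  · intro x₁ x₂ hx
    obtain ⟨y', hy'⟩ := g.surjective (f x₁)
    obtain ⟨a₁, h11, h12⟩ := hex x₁ y' hy'.symm
    obtain ⟨a₂, h21, h22⟩ := hex x₂ y' (hx ▸ hy'.symm)
    have : a₁ = a₂ := hinj (h12.trans h22.symm)
    rw [← h11, ← h21, this]
  · intro y
    obtain ⟨y', rfl⟩ := g.surjective y
    obtain ⟨a, ha⟩ := hsurj y'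
    refine ⟨pullback.fst f g a, ?_⟩
    rw [← Scheme.Hom.comp_apply, pullback.condition, Scheme.Hom.comp_apply, ha]

end Groth.Agent.S13709
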