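import Groth.Statements.S13711
import Groth.Agent.Lib.Helper12FlatDescentNonQC

set_option autoImplicit false
universe u
open CategoryTheory CategoryTheory.Limits AlgebraicGeometry
open ZeroCyc

namespace Groth.Agent.S13711

/-- Let f : X → Y be a morphism of schemes and g : Y' → Y a faithfully flat morphism (flat and
surjective, not assumed quasi-compact). Then f is affine exactly when it is quasi-compact,
quasi-separated, and its base change X ×_Y Y' → Y' along g is affine. -/
theorem result {X Y Y' : Scheme.{u}} (f : X ⟶ Y) (g : Y' ⟶ Y)
    [Flat g] [Surjective g] :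
    IsAffineHom f ↔ QuasiCompact f ∧ QuasiSeparated f ∧ IsAffineHom (pullback.snd f g) := by
  constructor
  · intro h
    exact ⟨inferInstance, inferInstance, MorphismProperty.pullback_snd (P := @IsAffineHom) f g h⟩
  · rintro ⟨h1, h2, h3⟩
    rw [IsZariskiLocalAtTarget.iff_of_openCover (P := @IsAffineHom) Y.affineCover]
    intro i
    change IsAffineHom (pullback.snd f (Y.affineCover.f i))
    have haff : IsAffineHom (pullback.snd (pullback.snd f (Y.affineCover.f i))
        (pullback.snd g (Y.affineCover.f i))) := by
      apply Groth.Agent.Lib.Helper12.pullback_snd_pullback_snd (P := @IsAffineHom)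
      have e : pullback.snd g (Y.affineCover.f i) ≫ Y.affineCover.f i =
          pullback.fst g (Y.affineCover.f i) ≫ g := pullback.condition.symm
      apply Groth.Agent.Lib.Helper12.pullback_snd_congr (P := @IsAffineHom) _ e.symm
      exact Groth.Agent.Lib.Helper12.pullback_snd_comp_of_isStableUnderBaseChange
        (P := @IsAffineHom) f g _ h3
    have : IsAffine (pullback f (Y.affineCover.f i)) :=
      Groth.Agent.Lib.Helper12.isAffine_of_isAffineHom_pullback_snd
        (pullback.snd f (Y.affineCover.f i)) (pullback.snd g (Y.affineCover.f i)) haff
    infer_instance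

end Groth.Agent.S13711
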