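import Groth.Statements.S13712
import Groth.Agent.S0593

set_option autoImplicit false
universe u
open CategoryTheory CategoryTheory.Limits AlgebraicGeometry
open ZeroCyc

namespace Groth.Agent.S13712

/-- Let f : X → Y and g : Y → S be morphisms of schemes with g separated, such that the composite X → S
is integral with topologically finite fibres (every fibre is a finite set). Then the
scheme-theoretic image Y' of f, with its closed immersion Y' → Y, is integral over S, and Y' → S
again has topologically finite fibres. (The published statement is for algebraic spaces; this row is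
the case of schemes.) -/
theorem result {X Y S : Scheme.{u}} (f : X ⟶ Y) (g : Y ⟶ S)
    [IsSeparated g] [IsIntegralHom (f ≫ g)] (hfin : ∀ s : S, Set.Finite ((f ≫ g).base ⁻¹' {s})) :
    IsIntegralHom (f.imageι ≫ g) ∧ ∀ s : S, Set.Finite ((f.imageι ≫ g).base ⁻¹' {s}) := by
  haveI hci : IsIntegralHom (f ≫ g) := inferInstance
  haveI : UniversallyClosed (f ≫ g) :=
    (IsIntegralHom.iff_universallyClosed_and_isAffineHom.mp hci).1
  haveI : IsAffineHom (f ≫ g) :=
    (IsIntegralHom.iff_universallyClosed_and_isAffineHom.mp hci).2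
  haveI : UniversallyClosed f := UniversallyClosed.of_comp_of_isSeparated f g
  haveI : QuasiCompact f := inferInstance
  haveI : UniversallyClosed f.toImage := inferInstance
  haveI : IsDominant f.toImage := inferInstance
  have e : f.toImage ≫ (f.imageι ≫ g) = f ≫ g := by
    rw [← Category.assoc, f.toImage_imageι]
  have hsurj : Function.Surjective f.toImage.base := by
    rw [← Set.range_eq_univ]
    have h1 : IsClosed (Set.range f.toImage.base) := f.toImage.isClosedMap.isClosed_range
    have h2 : DenseRange f.toImage.base := f.toImage.denseRange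
    exact h1.closure_eq ▸ h2.closure_range
  haveI : Surjective f.toImage := ⟨hsurj⟩
  haveI : UniversallyClosed (f.toImage ≫ (f.imageι ≫ g)) := by rw [e]; infer_instance
  haveI : IsAffineHom (f.toImage ≫ (f.imageι ≫ g)) := by rw [e]; infer_instance
  haveI huc : UniversallyClosed (f.imageι ≫ g) :=
    UniversallyClosed.of_comp_surjective f.toImage (f.imageι ≫ g)
  have haff : IsAffineHom (f.imageι ≫ g) := by
    refine ⟨fun V hV => ?_⟩
    have h1 : IsAffineOpen ((f.toImage ≫ (f.imageι ≫ g)) ⁻¹ᵁ V) := hV.preimage _
    rw [Scheme.Hom.comp_preimage] at h1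
    haveI : IsAffine (f.toImage ⁻¹ᵁ ((f.imageι ≫ g) ⁻¹ᵁ V)).toScheme := h1
    haveI : Surjective (f.toImage ∣_ ((f.imageι ≫ g) ⁻¹ᵁ V)) :=
      IsZariskiLocalAtTarget.restrict (P := @Surjective) ‹Surjective f.toImage› _
    exact Groth.Agent.S0593.result _ _ (f.toImage ∣_ ((f.imageι ≫ g) ⁻¹ᵁ V))
  refine ⟨IsIntegralHom.iff_universallyClosed_and_isAffineHom.mpr ⟨huc, haff⟩, ?_⟩
  intro s
  refine ((hfin s).image f.toImage.base).subset ?_
  intro y hy
  obtain ⟨x, rfl⟩ := hsurj y
  refine ⟨x, ?_, rfl⟩
  have hy' : (f.imageι ≫ g).base (f.toImage.base x) = s := hy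
  show (f ≫ g).base x = s
  rw [← e]
  exact hy'

end Groth.Agent.S13712
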