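import Groth.Statements.S13714
import Groth.Agent.Lib.Helper14LawBC3
import Groth.Agent.Lib.Helper14GammaQuot
import Groth.Agent.Lib.Helper14TSGamma5
import Groth.Agent.Lib.Helper14TSFinType2

set_option autoImplicit false
universe u
open scoped TensorProduct
open ZeroCyc

namespace Groth.Agent.S13714

/-- Let (C, γ) be the algebra of divided powers Γ^d_A(B) of a commutative A-algebra B with its universal
multiplicative law γ : B → C homogeneous of degree d (every multiplicative law B → C' homogeneous of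
degree d factors uniquely through γ by an algebra map C → C'). If B is of finite presentation over A
then so is C = Γ^d_A(B). -/
theorem result {A : Type u} [CommRing A] {B : Type u} [CommRing B] [Algebra A B] {C : Type u} [CommRing C] [Algebra A C]
    {d : ℕ} (γ : PolLaw.MulLaw A B C d) (hγ : PolLaw.IsGammaD γ) [Algebra.FinitePresentation A B] :
    Algebra.FinitePresentation A C := by
  classical
  let Pr := Algebra.Presentation.ofFinitePresentation A B
  let n := Algebra.Presentation.ofFinitePresentationVars A B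
  haveI : IsNoetherianRing Pr.Core := Algebra.FiniteType.isNoetherianRing ℤ Pr.Core
  let q : MvPolynomial (Fin n) Pr.Core →ₐ[Pr.Core] Pr.ModelOfHasCoeffs Pr.Core :=
    Ideal.Quotient.mkₐ Pr.Core _
  have hq : Function.Surjective q.toLinearMap := Ideal.Quotient.mkₐ_surjective Pr.Core _
  let τ := Groth.Agent.Lib.Helper14.TSGamma.tau (A := Pr.Core)
    (B := MvPolynomial (Fin n) Pr.Core) d
  have hτ : PolLaw.IsGammaD τ := Groth.Agent.Lib.Helper14.TSGamma.isGammaD_tau_flat d
  let γ₀ := Groth.Agent.Lib.Helper14.GammaQuot.gammaB τ q hq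
  have hγ₀ : PolLaw.IsGammaD γ₀ := Groth.Agent.Lib.Helper14.GammaQuot.isGammaD_gammaB τ q hτ hq
  haveI hft : Algebra.FiniteType Pr.Core (SymTen.TS Pr.Core (MvPolynomial (Fin n) Pr.Core) d) :=
    Groth.Agent.Lib.Helper14.TSFinType.finiteType_TS_mvPolynomial Pr.Core n d
  haveI hft' : Algebra.FiniteType Pr.Core
      (SymTen.TS Pr.Core (MvPolynomial (Fin n) Pr.Core) d ⧸
        Groth.Agent.Lib.Helper14.GammaQuot.J τ q) :=
    Algebra.FiniteType.of_surjective (Groth.Agent.Lib.Helper14.GammaQuot.piJ τ q)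
      (Groth.Agent.Lib.Helper14.GammaQuot.piJ_surjective τ q)
  haveI hfp : Algebra.FinitePresentation Pr.Core
      (SymTen.TS Pr.Core (MvPolynomial (Fin n) Pr.Core) d ⧸
        Groth.Agent.Lib.Helper14.GammaQuot.J τ q) :=
    Algebra.FinitePresentation.of_finiteType.mp hft'
  let γ₁ := Groth.Agent.Lib.Helper14.LawBC.bcMul (Q := A) γ₀
  have hγ₁ : PolLaw.IsGammaD γ₁ := Groth.Agent.Lib.Helper14.LawBC.isGammaD_baseChange γ₀ hγ₀
  let e : A ⊗[Pr.Core] Pr.ModelOfHasCoeffs Pr.Core ≃ₐ[A] B := Pr.tensorModelOfHasCoeffsEquiv Pr.Core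
  have hγ₂ := Groth.Agent.Lib.Helper14.LawBC.isGammaD_precomp_equiv γ₁ hγ₁ e
  obtain ⟨ε⟩ := Groth.Agent.Lib.Helper14.LawBC.algEquiv_of_isGammaD γ
    (γ₁.precomp e.symm.toAlgHom) hγ hγ₂
  haveI : Algebra.FinitePresentation A (A ⊗[Pr.Core]
      (SymTen.TS Pr.Core (MvPolynomial (Fin n) Pr.Core) d ⧸
        Groth.Agent.Lib.Helper14.GammaQuot.J τ q)) :=
    Algebra.FinitePresentation.baseChange A
  exact Algebra.FinitePresentation.equiv ε.symm

end Groth.Agent.S13714
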