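import Groth.Statements.S1372
import Mathlib
import Groth.Agent.Lib.Helper2UnivOpen

set_option autoImplicit false
universe u
open FlatMor

namespace Groth.Agent.S1372

section Dev
open CategoryTheory TensorProduct MvPolynomial AlgebraicGeometry
open Groth.Agent.Lib.Helper2.UnivOpen
variable {A B : Type u} [CommRing A] [CommRing B] [Algebra A B]
theorem S1372_main {d : ℕ} (b : Fin d → B)
    (hb : Submodule.span A (Set.range b) = ⊤) :
    UniversallyOpen (Spec.map (CommRingCat.ofHom (algebraMap A B))) ↔
      IsOpen (PrimeSpectrum.comap (MvPolynomial.map (σ := Fin d) (algebraMap A B)) ''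
        (PrimeSpectrum.basicOpen (∑ i : Fin d, MvPolynomial.X i * MvPolynomial.C (b i)) :
          Set (PrimeSpectrum (MvPolynomial (Fin d) B)))) := by
  constructor
  · intro h
    have h1 := isOpenMap_of_universallyOpen h (MvPolynomial (Fin d) A)
    have h2 := image_basicOpen_eq (A := A) (B := B) (A' := MvPolynomial (Fin d) A)
      (fun k => X k) b
    have h3 : (MvPolynomial.aeval (fun k => (X k : MvPolynomial (Fin d) A)) :
        MvPolynomial (Fin d) A →ₐ[A] _).toRingHom = RingHom.id _ := by
      apply MvPolynomial.ringHom_ext <;> simp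
    rw [h3, PrimeSpectrum.comap_id, Set.preimage_id'] at h2
    rw [← h2]
    exact h1 _ (PrimeSpectrum.basicOpen _).isOpen
  · intro h
    apply universallyOpen_of_ring_crit
    intro A' _ _
    apply isOpenMap_of_basicOpen
    intro s
    obtain ⟨a', rfl⟩ := exists_repr (A' := A') b hb s
    rw [image_basicOpen_eq]
    exact h.preimage (PrimeSpectrum.continuous_comap _)
end Dev

open AlgebraicGeometry CategoryTheory Limits in
/-- Let A → B be a ring map and b_1, ..., b_d elements generating B as an A-module. Let h = Σ x_i b_i in
the polynomial ring B[x_1, ..., x_d]. Then universal openness of Spec B → Spec A is equivalent to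
openness of the image in Spec A[x_1, ..., x_d] of the basic open D(h). -/
theorem result {A B : Type u} [CommRing A] [CommRing B] [Algebra A B] {d : ℕ} (b : Fin d → B)
    (hb : Submodule.span A (Set.range b) = ⊤) :
    UniversallyOpen (Spec.map (CommRingCat.ofHom (algebraMap A B))) ↔
      IsOpen (PrimeSpectrum.comap (MvPolynomial.map (σ := Fin d) (algebraMap A B)) ''
        (PrimeSpectrum.basicOpen (∑ i : Fin d, MvPolynomial.X i * MvPolynomial.C (b i)) : Set (PrimeSpectrum (MvPolynomial (Fin d) B)))) := by
  exact S1372_main b hb

end Groth.Agent.S1372
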