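import Groth.Statements.S13720
-- import your own Groth.Agent.* helpers here

set_option autoImplicit false
universe u
open scoped TensorProduct
open ZeroCyc

namespace Groth.Agent.S13720

/-- Let B be the filtered direct limit of a directed system (B_i, t_ij : B_i → B_j) of commutative
algebras over the commutative ring A, with structure maps φ_i : B_i → B (jointly surjective, and an
element of B_i vanishing in B already vanishes in some B_j), and let F : B → C be a multiplicative
polynomial law homogeneous of degree d, with restrictions F_i = F ∘ φ_i. Then an element b of B lies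
in the kernel of F if and only if it is the image of some x ∈ B_i whose images in B_j lie in the
kernel of F_j for every j ≥ i; that is, the kernel of F is the direct limit of the kernels of the
F_i. -/
theorem result {A : Type u} [CommRing A] {B : Type u} [CommRing B] [Algebra A B]
    {C : Type u} [CommRing C] [Algebra A C] {ι : Type u} [Preorder ι] [IsDirected ι (fun i j => i ≤ j)] [Nonempty ι]
    (Bi : ι → Type u) [∀ i, CommRing (Bi i)] [∀ i, Algebra A (Bi i)]
    (t : ∀ i j : ι, i ≤ j → (Bi i →ₐ[A] Bi j)) (φ : ∀ i : ι, Bi i →ₐ[A] B)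
    (hcomp : ∀ (i j : ι) (h : i ≤ j), (φ j).comp (t i j h) = φ i)
    (hsurj : ∀ b : B, ∃ (i : ι) (x : Bi i), φ i x = b)
    (hzero : ∀ (i : ι) (x : Bi i), φ i x = 0 → ∃ (j : ι) (h : i ≤ j), t i j h x = 0)
    {d : ℕ} (F : PolLaw.MulLaw A B C d) (b : B) :
    b ∈ PolLaw.ker F.law ↔ ∃ (i : ι) (x : Bi i), φ i x = b ∧
      ∀ (j : ι) (h : i ≤ j), t i j h x ∈ PolLaw.ker (F.precomp (φ j)).law := by
  classical
  -- `1 ⊗ φ` as an algebra map
  have hlt : ∀ (S : Type u) [CommSemiring S] [Algebra A S] (j : ι) (y : S ⊗[A] Bi j),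
      (φ j).toLinearMap.lTensor S y = Algebra.TensorProduct.map (AlgHom.id S S) (φ j) y :=
    fun S _ _ j y => PolLaw.lTensor_algHom_apply (φ j) S y
  -- transition compatibility after tensoring
  have htr : ∀ (S : Type u) [CommSemiring S] [Algebra A S] (j₁ j₂ : ι) (h : j₁ ≤ j₂)
      (y : S ⊗[A] Bi j₁),
      (φ j₂).toLinearMap.lTensor S ((t j₁ j₂ h).toLinearMap.lTensor S y) =
        (φ j₁).toLinearMap.lTensor S y := by
    intro S _ _ j₁ j₂ h y
    rw [← LinearMap.comp_apply, ← LinearMap.lTensor_comp]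
    congr 2
    ext z
    simp [← hcomp j₁ j₂ h]
  -- lifting elements of `S ⊗ B` to a finite stage
  have lift : ∀ (S : Type u) [CommSemiring S] [Algebra A S] (z : S ⊗[A] B) (i₀ : ι),
      ∃ (j : ι) (_ : i₀ ≤ j) (z' : S ⊗[A] Bi j), (φ j).toLinearMap.lTensor S z' = z := by
    intro S _ _ z
    induction z using TensorProduct.induction_on with
    | zero => intro i₀; exact ⟨i₀, le_rfl, 0, map_zero _⟩
    | tmul s b =>
      intro i₀
      obtain ⟨k, y, hy⟩ := hsurj b
      obtain ⟨j, hij, hkj⟩ := exists_ge_ge i₀ k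
      refine ⟨j, hij, s ⊗ₜ[A] (t k j hkj y), ?_⟩
      rw [LinearMap.lTensor_tmul]
      congr 1
      show φ j (t k j hkj y) = b
      rw [← AlgHom.comp_apply, hcomp, hy]
    | add z₁ z₂ h₁ h₂ =>
      intro i₀
      obtain ⟨j₁, h1, z₁', e₁⟩ := h₁ i₀
      obtain ⟨j₂, h2, z₂', e₂⟩ := h₂ j₁
      refine ⟨j₂, h1.trans h2, (t j₁ j₂ h2).toLinearMap.lTensor S z₁' + z₂', ?_⟩
      rw [map_add, e₂, htr, e₁]
  constructor
  · intro hb
    obtain ⟨i, x, hx⟩ := hsurj b
    refine ⟨i, x, hx, ?_⟩
    intro j h S _ _ x' w'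
    show F.law.toFun' S ((φ j).toLinearMap.lTensor S (x' + w' * (1 ⊗ₜ[A] t i j h x))) =
      F.law.toFun' S ((φ j).toLinearMap.lTensor S x')
    have e : φ j (t i j h x) = b := by rw [← AlgHom.comp_apply, hcomp, hx]
    rw [hlt, hlt, map_add, map_mul, Algebra.TensorProduct.map_tmul, map_one, e]
    exact hb S _ _
  · rintro ⟨i, x, hx, hker⟩
    intro S _ _ xS w
    obtain ⟨j₁, h1, x', ex⟩ := lift S xS i
    obtain ⟨j₂, h2, w', ew⟩ := lift S w j₁
    have h3 := hker j₂ (h1.trans h2) S ((t j₁ j₂ h2).toLinearMap.lTensor S x') w'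
    have h4 : F.law.toFun' S ((φ j₂).toLinearMap.lTensor S
        ((t j₁ j₂ h2).toLinearMap.lTensor S x' + w' * (1 ⊗ₜ[A] t i j₂ (h1.trans h2) x))) =
      F.law.toFun' S ((φ j₂).toLinearMap.lTensor S ((t j₁ j₂ h2).toLinearMap.lTensor S x')) := h3
    have e : φ j₂ (t i j₂ (h1.trans h2) x) = b := by rw [← AlgHom.comp_apply, hcomp, hx]
    rw [map_add, htr, ex, hlt S j₂ (w' * _), map_mul, ← hlt, ew, Algebra.TensorProduct.map_tmul,
      map_one, e] at h4
    exact h4

end Groth.Agent.S13720
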