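import Groth.Statements.S13726
import Mathlib
import Mathlib.Tactic

set_option autoImplicit false
universe u
open scoped TensorProduct
open ZeroCyc

namespace Groth.Agent.S13726

/-- Let k be a field of characteristic p > 0 and A = k[t_i : i ∈ ℕ]/(t_i^p : i ∈ ℕ). The law x ↦ x^p
from A to A is multiplicative and homogeneous of degree p over A; its kernel is the ideal generated
by the classes of the variables t_i, and this ideal is not finitely generated. Hence the image of a
family of zero-cycles need not be of finite presentation over the base even when X → S is. -/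
theorem result {k : Type u} [Field k] (p : ℕ) [Fact p.Prime] [CharP k p] :
    PolLaw.ker (PolLaw.MulLaw.pow
        (MvPolynomial ℕ k ⧸ Ideal.span (Set.range fun i : ℕ => (MvPolynomial.X i : MvPolynomial ℕ k) ^ p))
        (MvPolynomial ℕ k ⧸ Ideal.span (Set.range fun i : ℕ => (MvPolynomial.X i : MvPolynomial ℕ k) ^ p)) p).law =
      (Ideal.span (Set.range fun i : ℕ => (MvPolynomial.X i : MvPolynomial ℕ k))).map
        (Ideal.Quotient.mk (Ideal.span (Set.range fun i : ℕ => (MvPolynomial.X i : MvPolynomial ℕ k) ^ p))) ∧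
    ¬ (PolLaw.ker (PolLaw.MulLaw.pow
        (MvPolynomial ℕ k ⧸ Ideal.span (Set.range fun i : ℕ => (MvPolynomial.X i : MvPolynomial ℕ k) ^ p))
        (MvPolynomial ℕ k ⧸ Ideal.span (Set.range fun i : ℕ => (MvPolynomial.X i : MvPolynomial ℕ k) ^ p)) p).law).FG := by
  classical
  have hp : p.Prime := Fact.out
  set I0 : Ideal (MvPolynomial ℕ k) :=
    Ideal.span (Set.range fun i : ℕ => (MvPolynomial.X i : MvPolynomial ℕ k) ^ p) with hI0
  set J : Ideal (MvPolynomial ℕ k ⧸ I0) :=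
    (Ideal.span (Set.range fun i : ℕ => (MvPolynomial.X i : MvPolynomial ℕ k))).map
      (Ideal.Quotient.mk I0) with hJ
  have hpQ : ((p : ℕ) : MvPolynomial ℕ k ⧸ I0) = 0 := by
    have h1 : ((p : ℕ) : k) = 0 := CharP.cast_eq_zero k p
    have h2 : ((p : ℕ) : MvPolynomial ℕ k ⧸ I0) =
        algebraMap k (MvPolynomial ℕ k ⧸ I0) ((p : ℕ) : k) := by
      rw [map_natCast]
    rw [h2, h1, map_zero]
  have hfrob : ∀ (T : Type u) [CommSemiring T], ((p : ℕ) : T) = 0 →
      ∀ x y : T, (x + y) ^ p = x ^ p + y ^ p := by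
    intro T _ hpT x y
    obtain ⟨r, hr⟩ := exists_add_pow_prime_eq hp x y
    rw [hr, hpT, zero_mul, zero_mul, zero_mul, add_zero]
  have hJpow : ∀ b ∈ J, b ^ p = 0 := by
    intro b hb
    rw [hJ, Ideal.map_span] at hb
    induction hb using Submodule.span_induction with
    | mem x hx =>
      obtain ⟨_, ⟨i, rfl⟩, rfl⟩ := hx
      rw [← map_pow]
      exact Ideal.Quotient.eq_zero_iff_mem.mpr (Ideal.subset_span ⟨i, rfl⟩)
    | zero => exact zero_pow hp.ne_zero
    | add x y _ _ hx hy => rw [hfrob _ hpQ, hx, hy, add_zero]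
    | smul c x _ hx => rw [smul_eq_mul, mul_pow, hx, mul_zero]
  have hkill0 : ∀ a ∈ I0, (MvPolynomial.constantCoeff : MvPolynomial ℕ k →+* k) a = 0 := by
    have hle : I0 ≤ RingHom.ker (MvPolynomial.constantCoeff : MvPolynomial ℕ k →+* k) := by
      rw [hI0, Ideal.span_le]
      rintro _ ⟨i, rfl⟩
      rw [SetLike.mem_coe, RingHom.mem_ker, map_pow, MvPolynomial.constantCoeff_X,
        zero_pow hp.ne_zero]
    intro a ha
    exact hle ha
  let ε₀ : (MvPolynomial ℕ k ⧸ I0) →+* k := Ideal.Quotient.lift I0 MvPolynomial.constantCoeff hkill0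
  have hpowJ : ∀ b : MvPolynomial ℕ k ⧸ I0, b ^ p = 0 → b ∈ J := by
    intro b hb
    obtain ⟨P, rfl⟩ := Ideal.Quotient.mk_surjective b
    have h1 : ε₀ (Ideal.Quotient.mk I0 P) ^ p = 0 := by rw [← map_pow, hb, map_zero]
    have h2 : MvPolynomial.constantCoeff P = 0 := by
      have h3 := (pow_eq_zero_iff hp.ne_zero).mp h1
      rwa [Ideal.Quotient.lift_mk] at h3
    apply Ideal.mem_map_of_mem
    rw [← Set.image_univ, MvPolynomial.mem_ideal_span_X_image]
    intro m hm
    by_contra hcon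
    push Not at hcon
    have hm0 : m = 0 := by
      ext i
      exact hcon i (Set.mem_univ i)
    rw [hm0] at hm
    rw [MvPolynomial.constantCoeff_eq] at h2
    exact (MvPolynomial.mem_support_iff.mp hm) h2
  have hker : PolLaw.ker (PolLaw.MulLaw.pow (MvPolynomial ℕ k ⧸ I0) (MvPolynomial ℕ k ⧸ I0) p).law = J := by
    apply le_antisymm
    · intro b hb
      have h := hb (MvPolynomial ℕ k ⧸ I0) 0 1
      have hgen : ∀ (T : Type u) [CommSemiring T] (t : T), (0 + 1 * t) ^ p = 0 ^ p → t ^ p = 0 := by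
        intro T _ t ht
        rwa [zero_add, one_mul, zero_pow hp.ne_zero] at ht
      have h' : ((1 : MvPolynomial ℕ k ⧸ I0) ⊗ₜ[MvPolynomial ℕ k ⧸ I0] b) ^ p = 0 := hgen _ _ h
      have h2 := congrArg (Algebra.TensorProduct.lid (MvPolynomial ℕ k ⧸ I0) (MvPolynomial ℕ k ⧸ I0)) h'
      rw [map_pow, Algebra.TensorProduct.lid_tmul, one_smul, map_zero] at h2
      exact hpowJ b h2
    · intro b hb S _ _ x w
      change (x + w * ((1 : S) ⊗ₜ[MvPolynomial ℕ k ⧸ I0] b)) ^ p = x ^ p
      have hpT : ((p : ℕ) : S ⊗[MvPolynomial ℕ k ⧸ I0] (MvPolynomial ℕ k ⧸ I0)) = 0 := by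
        have h2 := map_natCast (Algebra.TensorProduct.includeRight :
          (MvPolynomial ℕ k ⧸ I0) →ₐ[MvPolynomial ℕ k ⧸ I0]
            S ⊗[MvPolynomial ℕ k ⧸ I0] (MvPolynomial ℕ k ⧸ I0)) p
        rw [← h2, hpQ, map_zero]
      rw [hfrob _ hpT, mul_pow, Algebra.TensorProduct.tmul_pow, hJpow b hb, TensorProduct.tmul_zero,
        mul_zero, add_zero]
  refine ⟨hker, ?_⟩
  rw [hker]
  intro hfg
  have hJsup : J ≤ ⨆ i : ℕ, Ideal.span {Ideal.Quotient.mk I0 (MvPolynomial.X i)} := by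
    rw [hJ, Ideal.map_span, Ideal.span_le]
    rintro _ ⟨_, ⟨i, rfl⟩, rfl⟩
    exact (le_iSup (fun i : ℕ => Ideal.span {Ideal.Quotient.mk I0 (MvPolynomial.X i)}) i)
      (Ideal.subset_span rfl)
  obtain ⟨s, hs⟩ := CompleteLattice.IsCompactElement.exists_finset_of_le_iSup _
    ((Submodule.fg_iff_compact J).mp hfg) _ hJsup
  obtain ⟨N, hN⟩ := Infinite.exists_notMem_finset s
  let f : ℕ → DualNumber k := fun i => if i = N then DualNumber.eps else 0
  let ψ' : MvPolynomial ℕ k →ₐ[k] DualNumber k := MvPolynomial.aeval f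
  have hψ'X : ∀ i, ψ' (MvPolynomial.X i) = f i := fun i => MvPolynomial.aeval_X f i
  have hfpow : ∀ i, f i ^ p = 0 := by
    intro i
    have h2 : 2 ≤ p := hp.two_le
    obtain ⟨q, rfl⟩ := Nat.exists_eq_add_of_le h2
    by_cases hi : i = N
    · show (if i = N then DualNumber.eps else 0) ^ (2 + q) = 0
      rw [if_pos hi, pow_add, DualNumber.eps_pow_two, zero_mul]
    · show (if i = N then DualNumber.eps else (0 : DualNumber k)) ^ (2 + q) = 0
      rw [if_neg hi, zero_pow (by omega)]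
  have hψ'kill : ∀ a ∈ I0, ψ'.toRingHom a = 0 := by
    have hle : I0 ≤ RingHom.ker ψ'.toRingHom := by
      rw [hI0, Ideal.span_le]
      rintro _ ⟨i, rfl⟩
      rw [SetLike.mem_coe, RingHom.mem_ker]
      show ψ' (MvPolynomial.X i ^ p) = 0
      rw [map_pow, hψ'X, hfpow]
    intro a ha
    exact hle ha
  let ψ : (MvPolynomial ℕ k ⧸ I0) →+* DualNumber k := Ideal.Quotient.lift I0 ψ'.toRingHom hψ'kill
  have hψX : ∀ i, ψ (Ideal.Quotient.mk I0 (MvPolynomial.X i)) = f i := by
    intro i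
    show Ideal.Quotient.lift I0 ψ'.toRingHom hψ'kill (Ideal.Quotient.mk I0 (MvPolynomial.X i)) = f i
    rw [Ideal.Quotient.lift_mk]
    exact hψ'X i
  have h1 : Ideal.Quotient.mk I0 (MvPolynomial.X N) ∈ J :=
    Ideal.mem_map_of_mem _ (Ideal.subset_span ⟨N, rfl⟩)
  have h2 : (⨆ i ∈ s, Ideal.span {Ideal.Quotient.mk I0 (MvPolynomial.X i)}) ≤ RingHom.ker ψ := by
    apply iSup₂_le
    intro i hi
    rw [Ideal.span_le, Set.singleton_subset_iff, SetLike.mem_coe, RingHom.mem_ker, hψX]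
    exact if_neg (ne_of_mem_of_not_mem hi hN)
  have h3 := h2 (hs h1)
  rw [RingHom.mem_ker, hψX] at h3
  have h4 : (DualNumber.eps : DualNumber k) = 0 := by
    rw [← h3]
    exact (if_pos rfl).symm
  have h5 := congrArg TrivSqZeroExt.snd h4
  rw [DualNumber.snd_eps, TrivSqZeroExt.snd_zero] at h5
  exact one_ne_zero h5

end Groth.Agent.S13726
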