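import Groth.Statements.S14671
import Groth.Agent.Lib.Helper14FlatStage2
import Groth.Agent.Lib.Helper14TSFree

set_option autoImplicit false
universe u
open scoped TensorProduct
open SymTen

namespace Groth.Agent.S14671
open Groth.Agent.Lib.Helper14.FlatStage Groth.Agent.Lib.Helper14.TSFree

/-- Let R be a commutative ring, M a flat R-module and n ≥ 0. Then the module of symmetric tensors of
degree n — the R-submodule of the n-fold tensor power of M over R consisting of the tensors fixed by
every permutation of the factors — is a flat R-module. (The published corollary also asserts that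
forming symmetric tensors of a flat module commutes with every base change; only the flatness
assertion is stated here.) -/
theorem result (R : Type u) [CommRing R] (M : Type u) [AddCommGroup M] [Module R M]
    [Module.Flat R M] (n : ℕ) :
    Module.Flat R ↥(⨅ σ : Equiv.Perm (Fin n),
      LinearMap.eqLocus (PiTensorProduct.reindex R (fun _ : Fin n => M) σ).toLinearMap LinearMap.id) := by
  classical
  have hmem : ∀ t : ⨂[R] _ : Fin n, M,
      t ∈ (⨅ σ : Equiv.Perm (Fin n),
        LinearMap.eqLocus (PiTensorProduct.reindex R (fun _ : Fin n => M) σ).toLinearMap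
          LinearMap.id) ↔
      ∀ σ : Equiv.Perm (Fin n), PiTensorProduct.reindex R (fun _ : Fin n => M) σ t = t := by
    intro t
    simp [Submodule.mem_iInf, LinearMap.mem_eqLocus]
  rw [Module.Flat.iff_forall_isTrivialRelation]
  intro l f x hfx
  obtain ⟨m, u, z, hz⟩ := exists_symm_rep_family_fin n (Finset.univ : Finset (Fin l))
    (fun i => (x i).1) (fun i _ => (hmem _).mp (x i).2)
  have hw : Tmap n u (∑ i, f i • z i) = 0 := by
    rw [map_sum]
    simp_rw [map_smul, (hz _ (Finset.mem_univ _)).2]
    have := congrArg Subtype.val hfx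
    simpa using this
  obtain ⟨m', a, y, hya, haw⟩ := exists_factor_fin n ({()} : Finset Unit) u
    (fun _ => ∑ i, f i • z i) (fun _ _ => hw)
  have haw' := haw () (Finset.mem_singleton_self _)
  rw [map_sum] at haw'
  simp_rw [map_smul] at haw'
  have hz'sym : ∀ i (σ : Equiv.Perm (Fin n)),
      PiTensorProduct.reindex R (fun _ : Fin n => (Fin m' → R)) σ (Tmap n a (z i)) =
        Tmap n a (z i) := by
    intro i σ
    rw [← Tmap_reindex, (hz i (Finset.mem_univ _)).1 σ]
  have hz'map : ∀ i, Tmap n y (Tmap n a (z i)) = (x i).1 := by
    intro i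
    rw [← Tmap_comp, hya, (hz i (Finset.mem_univ _)).2]
  have hcoef : ∀ c : Fin n → Fin m', ∑ i, f i * (bTb R n m').repr (Tmap n a (z i)) c = 0 := by
    intro c
    have := congrArg (fun w => (bTb R n m').repr w c) haw'
    simpa [map_sum, Finsupp.finsetSum_apply] using this
  let e : (Fin n → Fin m') ≃ Fin (Fintype.card (Fin n → Fin m')) := Fintype.equivFin _
  refine ⟨Fintype.card (Fin n → Fin m'),
    fun i j => if e.symm j = rep n m' (e.symm j) then
      (bTb R n m').repr (Tmap n a (z i)) (e.symm j) else 0,
    fun j => ⟨Tmap n y (symT R n m' (type (e.symm j))), (hmem _).mpr (fun σ => by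
      rw [← Tmap_reindex, reindex_symT])⟩, ?_, ?_⟩
  · intro i
    apply Subtype.ext
    rw [← hz'map i]
    conv_lhs => rw [symm_decomp R n m' (hz'sym i)]
    rw [map_sum, ← Equiv.sum_comp e.symm]
    simp only [map_smul, Submodule.coe_sum, Submodule.coe_smul]
  · intro j
    by_cases h : e.symm j = rep n m' (e.symm j)
    · simp only [if_pos h]
      exact hcoef _
    · simp only [if_neg h, mul_zero, Finset.sum_const_zero]

end Groth.Agent.S14671
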