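import Groth.Statements.S13729
import Groth.Agent.Lib.Helper14TSGamma5
import Groth.Agent.S14671

set_option autoImplicit false
universe u
open scoped TensorProduct
open ZeroCyc

namespace Groth.Agent.S13729

/-- Let (C, γ) be the algebra of divided powers Γ^d_A(B) of a commutative A-algebra B with its universal
multiplicative law γ : B → C homogeneous of degree d (every multiplicative law B → C' homogeneous of
degree d factors uniquely through γ by an algebra map C → C'). If B is flat over A then C = Γ^d_A(B)
is flat over A. (The published statement is that Γ^d(X/S) → S inherits flatness from X → S for any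
separated algebraic space X over S; this row is the case X and S affine, where Γ^d(X/S) = Spec
Γ^d_A(B).) -/
theorem result {A : Type u} [CommRing A] {B : Type u} [CommRing B] [Algebra A B] {C : Type u} [CommRing C] [Algebra A C]
    {d : ℕ} (γ : PolLaw.MulLaw A B C d) (hγ : PolLaw.IsGammaD γ) [Module.Flat A B] :
    Module.Flat A C := by
  classical
  -- `TS^d_A(B)` is flat (S14671), transported to the subalgebra
  have hTS : Module.Flat A (SymTen.TS A B d) := by
    have h0 := Groth.Agent.S14671.result A B d
    have hmem : ∀ t : ⨂[A] _ : Fin d, B,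
        t ∈ (⨅ σ : Equiv.Perm (Fin d),
          LinearMap.eqLocus (PiTensorProduct.reindex A (fun _ : Fin d => B) σ).toLinearMap
            LinearMap.id) ↔ t ∈ SymTen.TS A B d := by
      intro t
      simp [Submodule.mem_iInf, LinearMap.mem_eqLocus, SymTen.mem_TS_iff]
    let e : ↥(SymTen.TS A B d) ≃ₗ[A] ↥(⨅ σ : Equiv.Perm (Fin d),
          LinearMap.eqLocus (PiTensorProduct.reindex A (fun _ : Fin d => B) σ).toLinearMap
            LinearMap.id) :=
      { toFun := fun x => ⟨x.1, (hmem _).mpr x.2⟩
        invFun := fun x => ⟨x.1, (hmem _).mp x.2⟩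
        map_add' := fun _ _ => rfl
        map_smul' := fun _ _ => rfl
        left_inv := fun _ => rfl
        right_inv := fun _ => rfl }
    exact Module.Flat.of_linearEquiv e
  have hτ := Groth.Agent.Lib.Helper14.TSGamma.isGammaD_tau_flat (A := A) (B := B) d
  obtain ⟨f, hf, -⟩ := hγ _ (Groth.Agent.Lib.Helper14.TSGamma.tau (A := A) (B := B) d)
  obtain ⟨g, hg, -⟩ := hτ C γ
  have h1 : PolLaw.postcomp (g.comp f).toLinearMap γ.law = γ.law := by
    ext S _ _ t
    show (g.comp f).toLinearMap.lTensor S (γ.law.toFun' S t) = _
    rw [AlgHom.comp_toLinearMap, LinearMap.lTensor_comp, LinearMap.comp_apply]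
    have h2 : f.toLinearMap.lTensor S (γ.law.toFun' S t) =
        (Groth.Agent.Lib.Helper14.TSGamma.tau (A := A) (B := B) d).law.toFun' S t := by
      rw [← hf]
      rfl
    rw [h2, ← hg]
    rfl
  have h3 : PolLaw.postcomp (AlgHom.id A C).toLinearMap γ.law = γ.law := by
    ext S _ _ t
    show (AlgHom.id A C).toLinearMap.lTensor S (γ.law.toFun' S t) = _
    simp
  have h4 : g.comp f = AlgHom.id A C := (hγ C γ).unique h1 h3
  refine Module.Flat.of_retract f.toLinearMap g.toLinearMap ?_
  ext c
  exact congrArg (fun k : C →ₐ[A] C => k c) h4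

end Groth.Agent.S13729
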