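import Groth.Statements.S1373
import Mathlib
import Groth.Agent.Lib.Helper2UnivOpen

set_option autoImplicit false
universe u
open FlatMor

namespace Groth.Agent.S1373

section Dev
open CategoryTheory CategoryTheory.Limits AlgebraicGeometry TensorProduct MvPolynomial MorphismProperty
open Groth.Agent.Lib.Helper2.UnivOpen
/-- the hypothesis of (3) -/
def Q {X S : Scheme.{u}} (f : X ⟶ S) : Prop :=
  ∀ n : ℕ, IsOpenMap ⇑(AffineSpace.map (ULift.{u} (Fin n)) f)

theorem isOpenImmersion_map (n : Type u) {X Y : Scheme.{u}} (j : X ⟶ Y) [IsOpenImmersion j] :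
    IsOpenImmersion (AffineSpace.map n j) :=
  MorphismProperty.of_isPullback (P := @IsOpenImmersion) (AffineSpace.isPullback_map j).flip
    inferInstance

theorem Q_comp_openImm {U X S : Scheme.{u}} (j : U ⟶ X) [IsOpenImmersion j] (f : X ⟶ S)
    (h : Q f) : Q (j ≫ f) := by
  intro n
  rw [AffineSpace.map_comp]
  have := isOpenImmersion_map (ULift.{u} (Fin n)) j
  exact (h n).comp (AffineSpace.map _ j).isOpenEmbedding.isOpenMap

theorem Q_of_isPullback {X' X V S : Scheme.{u}} (j' : X' ⟶ X) (f' : X' ⟶ V) (f : X ⟶ S)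
    (j : V ⟶ S) [IsOpenImmersion j] (sq : IsPullback j' f' f j) (h : Q f) : Q f' := by
  intro n W hW
  have : IsOpenImmersion j' :=
    MorphismProperty.of_isPullback (P := @IsOpenImmersion) sq.flip inferInstance
  have := isOpenImmersion_map (ULift.{u} (Fin n)) j
  have := isOpenImmersion_map (ULift.{u} (Fin n)) j'
  have hcomm : AffineSpace.map (ULift.{u} (Fin n)) f' ≫ AffineSpace.map _ j =
      AffineSpace.map _ j' ≫ AffineSpace.map _ f := by
    rw [← AffineSpace.map_comp, ← AffineSpace.map_comp, sq.w]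
  have h1 : IsOpen ((AffineSpace.map (ULift.{u} (Fin n)) j) ''
      ((AffineSpace.map (ULift.{u} (Fin n)) f') '' W)) := by
    rw [← Set.image_comp]
    have e : ⇑(AffineSpace.map (ULift.{u} (Fin n)) j) ∘ ⇑(AffineSpace.map (ULift.{u} (Fin n)) f') =
        ⇑(AffineSpace.map (ULift.{u} (Fin n)) f) ∘ ⇑(AffineSpace.map (ULift.{u} (Fin n)) j') := by
      ext x
      have := congrArg (fun φ : AffineSpace (ULift.{u} (Fin n)) X' ⟶ AffineSpace (ULift.{u} (Fin n)) S => φ x) hcomm
      simpa using this
    rw [e, Set.image_comp]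
    exact h n _ ((AffineSpace.map _ j').isOpenEmbedding.isOpenMap _ hW)
  have h2 := h1.preimage (AffineSpace.map (ULift.{u} (Fin n)) j).continuous
  rwa [Set.preimage_image_eq _ (AffineSpace.map _ j).isOpenEmbedding.injective] at h2


theorem uo_of_Q {X S : Scheme.{u}} (f : X ⟶ S) (h : Q f) : UniversallyOpen f := by
  wlog hS : ∃ R, S = Spec R generalizing X S
  · rw [IsZariskiLocalAtTarget.iff_of_openCover (P := @UniversallyOpen) S.affineCover]
    intro i
    exact this _ (Q_of_isPullback _ _ f (S.affineCover.f i) (IsPullback.of_hasPullback _ _) h)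
      ⟨_, rfl⟩
  obtain ⟨R, rfl⟩ := hS
  wlog hX : ∃ T, X = Spec T generalizing X
  · rw [IsZariskiLocalAtSource.iff_of_openCover (P := @UniversallyOpen) X.affineCover]
    intro i
    exact this _ (Q_comp_openImm _ f h) ⟨_, rfl⟩
  obtain ⟨T, rfl⟩ := hX
  obtain ⟨φ, rfl⟩ := Spec.map_surjective f
  algebraize [φ.hom]
  have key : UniversallyOpen (Spec.map (CommRingCat.ofHom (algebraMap R T))) := by
    apply universallyOpen_of_ring_crit
    intro A' _ _
    apply isOpenMap_of_basicOpen
    intro s
    obtain ⟨Sf, rfl⟩ := TensorProduct.exists_finset s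
    let n := Sf.card
    let e : ULift.{u} (Fin n) ≃ ↥Sf := Equiv.ulift.trans Sf.equivFin.symm
    have hsum : (Sf.sum fun i => i.1 ⊗ₜ[R] i.2) =
        ∑ k : ULift.{u} (Fin n), (e k).1.1 ⊗ₜ[R] (e k).1.2 := by
      rw [← Finset.sum_coe_sort Sf (fun i => i.1 ⊗ₜ[R] i.2)]
      exact (Equiv.sum_comp e (fun i : ↥Sf => i.1.1 ⊗ₜ[R] i.1.2)).symm
    rw [hsum, image_basicOpen_eq]
    refine IsOpen.preimage (PrimeSpectrum.continuous_comap _) ?_
    have h1 := (MorphismProperty.arrow_mk_iso_iff (topologically @IsOpenMap)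
      (AffineSpace.mapSpecMap (n := ULift.{u} (Fin n)) φ)).mp (h n)
    exact h1 _ (PrimeSpectrum.basicOpen _).isOpen
  exact key

theorem main {X S : Scheme.{u}} (f : X ⟶ S) :
    UniversallyOpen f ↔ ∀ n : ℕ, IsOpenMap ⇑(AffineSpace.map (ULift.{u} (Fin n)) f) := by
  constructor
  · intro h n
    have : UniversallyOpen (AffineSpace.map (ULift.{u} (Fin n)) f) :=
      MorphismProperty.of_isPullback (P := @UniversallyOpen) (AffineSpace.isPullback_map f).flip h
    exact (AffineSpace.map (ULift.{u} (Fin n)) f).isOpenMap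
  · exact uo_of_Q f
end Dev

open AlgebraicGeometry CategoryTheory Limits in
/-- (1) ⇔ (3): a morphism f : X → S is universally open if and only if for every n the induced morphism
from affine n-space over X to affine n-space over S is open. -/
theorem result {X S : Scheme.{u}} (f : X ⟶ S) :
    UniversallyOpen f ↔ ∀ n : ℕ, IsOpenMap ⇑(AffineSpace.map (ULift.{u} (Fin n)) f) := by
  exact main f

end Groth.Agent.S1373
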