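import Groth.Statements.S13730
import Groth.Agent.Lib.Helper14LawBC3
import Groth.Agent.Lib.Helper14GeomRed2
import Groth.Agent.Lib.Helper14TSGamma5

set_option autoImplicit false
universe u
open scoped TensorProduct
open ZeroCyc

namespace Groth.Agent.S13730

/-- Let (C, γ) be the algebra of divided powers Γ^d_A(B) of a commutative A-algebra B with its universal
multiplicative law γ : B → C homogeneous of degree d (every multiplicative law B → C' homogeneous of
degree d factors uniquely through γ by an algebra map C → C'). If B is flat over A and K ⊗_A B is
reduced for every field K receiving a ring map from A (X = Spec B → S = Spec A is flat with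
geometrically reduced fibres), then K ⊗_A C is reduced for every such K: Γ^d_A(B) again has
geometrically reduced fibres over A. (The published statement is for a flat morphism of algebraic
spaces X → S with geometrically reduced fibres and also records that Γ^d(X/S) → S is flat; this row
is the affine case and states only the reducedness of the fibres, flatness of Γ^d_A(B) for flat B
being a separate statement.) -/
theorem result {A : Type u} [CommRing A] {B : Type u} [CommRing B] [Algebra A B] {C : Type u} [CommRing C] [Algebra A C]
    {d : ℕ} (γ : PolLaw.MulLaw A B C d) (hγ : PolLaw.IsGammaD γ) [Module.Flat A B]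
    (hred : ∀ (K : Type u) [Field K] [Algebra A K], IsReduced (K ⊗[A] B)) :
    ∀ (K : Type u) [Field K] [Algebra A K], IsReduced (K ⊗[A] C) := by
  intro K _ _
  haveI hgr : Algebra.IsGeometricallyReduced K (K ⊗[A] B) := by
    rw [Algebra.isGeometricallyReduced_field_iff]
    haveI := hred (AlgebraicClosure K)
    let e := Algebra.TensorProduct.cancelBaseChange A K (AlgebraicClosure K) (AlgebraicClosure K) B
    exact isReduced_of_injective e e.injective
  haveI := Groth.Agent.Lib.Helper14.GeomRed2.isGeometricallyReduced_tpow (k := K) (K ⊗[A] B) d
  haveI hr : IsReduced (⨂[K] _ : Fin d, K ⊗[A] B) :=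
    Algebra.isReduced_of_isGeometricallyReduced K
  haveI : IsReduced (SymTen.TS K (K ⊗[A] B) d) :=
    isReduced_of_injective (SymTen.TS K (K ⊗[A] B) d).val Subtype.val_injective
  obtain ⟨e⟩ := Groth.Agent.Lib.Helper14.LawBC.algEquiv_of_isGammaD
    (Groth.Agent.Lib.Helper14.LawBC.bcMul (Q := K) γ)
    (Groth.Agent.Lib.Helper14.TSGamma.tau (A := K) (B := K ⊗[A] B) d)
    (Groth.Agent.Lib.Helper14.LawBC.isGammaD_baseChange γ hγ)
    (Groth.Agent.Lib.Helper14.TSGamma.isGammaD_tau_flat d)
  exact isReduced_of_injective e e.injective

end Groth.Agent.S13730
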