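import Groth.Statements.S13731
import Groth.Agent.Lib.Helper2SubtrSigma

set_option autoImplicit false
universe u
open HTop

namespace Groth.Agent.S13731

open CategoryTheory CategoryTheory.Limits AlgebraicGeometry in
/-- Let X be a separated Noetherian scheme and {p_i : U_i → X} a finite family of separated morphisms of
finite type whose induced morphism from the disjoint union of the U_i to X is universally submersive
(an h-covering). Then every point x of X is p_i(u) for some i and some point u of U_i admitting a
generization ξ in U_i whose image p_i(ξ) is a generic point of an irreducible component of X.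
Equivalently, the irreducible components of the U_i dominating an irreducible component of X jointly
cover X. -/
theorem result {X : Scheme.{u}} [IsNoetherian X] [X.IsSeparated] (E : PreZeroHypercover.{u} X) [Finite E.I₀] [∀ i, LocallyOfFiniteType (E.f i)] [∀ i, QuasiCompact (E.f i)] [∀ i, IsSeparated (E.f i)] (hE : SGA1.UnivSubmersive (Sigma.desc E.f)) (x : X) : ∃ (i : E.I₀) (ξ u : E.X i), ξ ⤳ u ∧ E.f i u = x ∧ closure {E.f i ξ} ∈ irreducibleComponents ↥X := by
  haveI : QuasiCompact (Sigma.desc E.f) :=
    Groth.Agent.Lib.Helper2.SubtrSigma.quasiCompact_sigmaDesc E.X E.f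
  have h1 : Subtr.UnivSSubtrusive (Sigma.desc E.f) :=
    (Groth.Agent.Lib.Helper2.SubtrNoeth.univSubmersive_iff_univSSubtrusive _).mp hE
  have hsub : Subtr.IsSSubtrusive (Sigma.desc E.f) :=
    h1 (𝟙 _) (𝟙 _) (Sigma.desc E.f) IsPullback.of_id_snd
  obtain ⟨η, hη⟩ := QuasiSober.sober (isIrreducible_irreducibleComponent (x := x))
    (isClosed_irreducibleComponent (x := x))
  have hηx : η ⤳ x := by
    rw [specializes_iff_mem_closure, hη.def]
    exact mem_irreducibleComponent
  obtain ⟨w, w', hww, hw, hw'⟩ := hsub hηx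
  obtain ⟨i, u, rfl⟩ := (sigmaOpenCover E.X).exists_eq w
  have hopen : IsOpen (Set.range (Sigma.ι E.X i)) := (Sigma.ι E.X i).isOpenEmbedding.isOpen_range
  obtain ⟨ξ, rfl⟩ : w' ∈ Set.range (Sigma.ι E.X i) := hww.mem_open hopen ⟨u, rfl⟩
  have hdesc : ∀ y : E.X i, (Sigma.desc E.f) (Sigma.ι E.X i y) = E.f i y := by
    intro y
    rw [← Scheme.Hom.comp_apply, Sigma.ι_desc]
  refine ⟨i, ξ, u, ?_, ?_, ?_⟩
  · exact ((Sigma.ι E.X i).isOpenEmbedding.isInducing.specializes_iff).mp hww
  · rw [← hdesc]; exact hw
  · rw [← hdesc]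
    have : (Sigma.desc E.f) ((sigmaOpenCover E.X).f i ξ) = η := hw'
    change closure {(Sigma.desc E.f) ((sigmaOpenCover E.X).f i ξ)} ∈ _
    rw [this, hη.def]
    exact irreducibleComponent_mem_irreducibleComponents x

end Groth.Agent.S13731
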