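import Groth.Statements.S13735
import Groth.Agent.Lib.Helper3HTopA
import Mathlib

set_option autoImplicit false
set_option linter.style.haveILetI false
universe u
open HTop

namespace Groth.Agent.S13735

open CategoryTheory CategoryTheory.Limits AlgebraicGeometry in

open CategoryTheory CategoryTheory.Limits AlgebraicGeometry in
/-- Let S be a separated reduced Noetherian scheme, f : X → S a separated morphism locally of finite
type and g : S' → S a separated morphism of finite type which is universally submersive (an
h-covering). If the base change of f along g is flat, then f is flat. -/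
theorem result {X S S' : Scheme.{u}} [IsNoetherian S] [IsReduced S] [S.IsSeparated] (f : X ⟶ S) [LocallyOfFiniteType f] [IsSeparated f] (g : S' ⟶ S) [LocallyOfFiniteType g] [QuasiCompact g] [IsSeparated g] (hg : SGA1.UnivSubmersive g) (hflat : Flat (pullback.snd f g)) : Flat f := by
  rw [Flat.iff_flat_stalkMap]
  intro x
  apply Groth.Agent.Lib.Helper22.VC.flat_stalkMap_of_forall_dvr f x
  intro A' _ _ _ φ _ x' _ _
  haveI := Groth.Agent.Lib.Helper3.HTopA.flat_snd_of_dvr f g hg hflat A'
    (Spec.map (CommRingCat.ofHom φ) ≫ S.fromSpecStalk (f.base x))
  exact Flat.stalkMap _ x'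

end Groth.Agent.S13735
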