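import Groth.Statements.S13740
import Mathlib
import Groth.Agent.S13739

set_option autoImplicit false
universe w u
open SGA1

namespace Groth.Agent.S13740
open TopologicalSpace Opposite CategoryTheory CategoryTheory.Limits AlgebraicGeometry

/-- a finite surjective morphism is universally submersive -/
theorem univSubmersive_of_finite_surjective {X S : Scheme.{u}} (f : X ⟶ S) [IsFinite f] [Surjective f] :
    SGA1.UnivSubmersive f := by
  intro X' S' g f' g' hpb
  haveI : IsFinite g' := MorphismProperty.of_isPullback (P := @IsFinite) hpb.flip inferInstance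
  haveI : Surjective g' := MorphismProperty.of_isPullback (P := @Surjective) hpb.flip inferInstance
  exact (g'.isClosedMap).isQuotientMap g'.continuous g'.surjective

theorem univSubmersive_of_comp {A B C : Scheme.{u}} (a : A ⟶ B) (d : B ⟶ C)
    (h : SGA1.UnivSubmersive (a ≫ d)) : SGA1.UnivSubmersive d := by
  intro B' C' i₁ i₂ d' hpb
  have hpb' : IsPullback (pullback.snd a i₁ ≫ d') (pullback.fst a i₁) i₂ (a ≫ d) :=
    (IsPullback.of_hasPullback a i₁).flip.paste_horiz hpb
  have h1 : Topology.IsQuotientMap (pullback.snd a i₁ ≫ d') := h _ _ _ hpb'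
  have h2 : (⇑(pullback.snd a i₁ ≫ d') : _ → _) = ⇑d' ∘ ⇑(pullback.snd a i₁) := by
    ext x; simp
  rw [h2] at h1
  exact Topology.IsQuotientMap.of_comp (pullback.snd a i₁).continuous d'.continuous h1


open CategoryTheory CategoryTheory.Limits AlgebraicGeometry in
/-- Let S be a separated Noetherian scheme, π : X → S finite and surjective with X separated, G a finite
group acting on X by S-automorphisms and transitively on the geometric points of X over every
geometric point of S, and F a presheaf of sets on schemes satisfying the sheaf condition for every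
finite family of quasi-finite morphisms of finite type whose induced morphism from the disjoint
union is universally submersive (a qfh-sheaf). Then pulling back along π identifies F(S) with the
G-invariant elements of F(X): F(π) is injective with image the invariants. (The published statement
takes F a qfh-sheaf on Noetherian schemes over S; this row takes a presheaf on all schemes with the
sheaf property for every such family, a stronger hypothesis.) -/
theorem result {X S : Scheme.{u}} [IsNoetherian S] [S.IsSeparated] [X.IsSeparated] (q : X ⟶ S) [IsFinite q] [Surjective q] {G : Type u} [Group G] [Finite G] (ρ : G →* Aut X) (hρ : ∀ g : G, (ρ g).hom ≫ q = q) (htrans : ∀ (Ω : Type u) [Field Ω] [IsAlgClosed Ω] (τ₁ τ₂ : Spec (CommRingCat.of Ω) ⟶ X), τ₁ ≫ q = τ₂ ≫ q → ∃ g : G, τ₁ ≫ (ρ g).hom = τ₂) (F : Scheme.{u}ᵒᵖ ⥤ Type w) (hF : ∀ ⦃T : Scheme.{u}⦄ (E : PreZeroHypercover.{u} T), Finite E.I₀ → (∀ i, LocallyOfFiniteType (E.f i)) → (∀ i, QuasiCompact (E.f i)) → (∀ i, LocallyQuasiFinite (E.f i)) → SGA1.UnivSubmersive (Sigma.desc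 E.f) → Presieve.IsSheafFor F E.presieve₀) : Function.Injective (F.map q.op) ∧ Set.range (F.map q.op) = {f : F.obj (Opposite.op X) | ∀ g : G, F.map (ρ g).hom.op f = f} := by
  -- the fibre product and the graph maps
  have hπ : pullback.fst (𝟙 X ≫ q) q ≫ q = pullback.snd (𝟙 X ≫ q) q ≫ q := by
    have := pullback.condition (f := 𝟙 X ≫ q) (g := q)
    simpa using this
  let γ : G → (X ⟶ pullback (𝟙 X ≫ q) q) := fun g =>
    pullback.lift (𝟙 X) (ρ g).hom (by simp [hρ g])
  have hγ₁ : ∀ g, γ g ≫ pullback.fst (𝟙 X ≫ q) q = 𝟙 X := fun g => pullback.lift_fst _ _ _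
  have hγ₂ : ∀ g, γ g ≫ pullback.snd (𝟙 X ≫ q) q = (ρ g).hom := fun g => pullback.lift_snd _ _ _
  let υ : (∐ fun _ : G => X) ⟶ pullback (𝟙 X ≫ q) q := Sigma.desc γ
  obtain ⟨hυfin, hυsurj⟩ := Groth.Agent.S13739.result q ρ hρ htrans (𝟙 X) υ
    (fun σ => by rw [← Category.assoc, Sigma.ι_desc]; exact hγ₁ σ)
    (fun σ => by rw [← Category.assoc, Sigma.ι_desc, hγ₂, Category.id_comp])
  -- the two covers
  let E₁ : PreZeroHypercover.{u} S := { I₀ := PUnit.{u+1}, X := fun _ => X, f := fun _ => q }
  have hE₁ : Presieve.IsSheafFor F E₁.presieve₀ := by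
    refine hF E₁ (inferInstanceAs (Finite PUnit)) (fun _ => inferInstanceAs (LocallyOfFiniteType q))
      (fun _ => inferInstanceAs (QuasiCompact q)) (fun _ => inferInstanceAs (LocallyQuasiFinite q)) ?_
    refine univSubmersive_of_comp (Sigma.ι (fun _ : PUnit.{u+1} => X) PUnit.unit) _ ?_
    rw [Sigma.ι_desc]
    exact univSubmersive_of_finite_surjective q
  let E₂ : PreZeroHypercover.{u} (pullback (𝟙 X ≫ q) q) := { I₀ := G, X := fun _ => X, f := γ }
  have hγfin : ∀ g, IsFinite (γ g) := by
    intro g
    haveI : IsFinite (γ g ≫ pullback.fst (𝟙 X ≫ q) q) := by rw [hγ₁]; infer_instance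
    exact IsFinite.of_comp (γ g) (pullback.fst (𝟙 X ≫ q) q)
  have hE₂ : Presieve.IsSheafFor F E₂.presieve₀ := by
    refine hF E₂ (inferInstanceAs (Finite G)) (fun g => ?_) (fun g => ?_) (fun g => ?_) ?_
    · haveI := hγfin g; exact inferInstanceAs (LocallyOfFiniteType (γ g))
    · haveI := hγfin g; exact inferInstanceAs (QuasiCompact (γ g))
    · haveI := hγfin g; exact inferInstanceAs (LocallyQuasiFinite (γ g))
    · exact univSubmersive_of_finite_surjective υ
  have h₁ := (Presieve.isSheafFor_arrows_iff (P := F) (X := E₁.X) (π := E₁.f)).mp hE₁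
  have h₂ := (Presieve.isSheafFor_arrows_iff (P := F) (X := E₂.X) (π := E₂.f)).mp hE₂
  -- pullbacks of sections along composites
  have hmap : ∀ {A B C : Scheme.{u}} (a : A ⟶ B) (b : B ⟶ C) (t : F.obj (op C)),
      F.map a.op (F.map b.op t) = F.map (a ≫ b).op t := by
    intro A B C a b t
    rw [op_comp, F.map_comp]
    rfl
  -- elements pulled back from S are compatible
  have hcompat₁ : ∀ t : F.obj (op S), Presieve.Arrows.Compatible F E₁.f (fun _ => F.map q.op t) := by
    intro t i j Z gi gj hg
    change F.map gi.op (F.map q.op t) = F.map gj.op (F.map q.op t)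
    rw [hmap, hmap]
    have : gi ≫ q = gj ≫ q := hg
    rw [this]
  refine ⟨?_, ?_⟩
  · intro t t' htt'
    obtain ⟨t₀, -, huniq⟩ := h₁ (fun _ => F.map q.op t) (hcompat₁ t)
    rw [huniq t (fun _ => rfl), huniq t' (fun _ => htt'.symm)]
  · ext a
    simp only [Set.mem_range, Set.mem_ofPred_eq]
    constructor
    · rintro ⟨t, rfl⟩ g
      rw [hmap, hρ g]
    · intro ha
      -- the two pullbacks of `a` to the fibre product agree
      have hb : F.map (pullback.fst (𝟙 X ≫ q) q).op a = F.map (pullback.snd (𝟙 X ≫ q) q).op a := by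
        have hc : Presieve.Arrows.Compatible F E₂.f
            (fun g => F.map (γ g).op (F.map (pullback.fst (𝟙 X ≫ q) q).op a)) := by
          intro i j Z gi gj hg
          change F.map gi.op (F.map (γ i).op _) = F.map gj.op (F.map (γ j).op _)
          have : gi ≫ γ i = gj ≫ γ j := hg
          rw [hmap gi (γ i), hmap gj (γ j), this]
        obtain ⟨t₀, -, huniq⟩ := h₂ _ hc
        rw [huniq _ (fun g => rfl), huniq (F.map (pullback.snd (𝟙 X ≫ q) q).op a) (fun g => ?_)]
        change F.map (γ g).op (F.map (pullback.snd (𝟙 X ≫ q) q).op a) =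
          F.map (γ g).op (F.map (pullback.fst (𝟙 X ≫ q) q).op a)
        rw [hmap, hmap, hγ₁, hγ₂, ha g]
        simp
      have hc₁ : Presieve.Arrows.Compatible F E₁.f (fun _ => a) := by
        intro i j Z gi gj hg
        change F.map gi.op a = F.map gj.op a
        have hg' : gi ≫ 𝟙 X ≫ q = gj ≫ q := by rw [Category.id_comp]; exact hg
        have h3 := congrArg (F.map (pullback.lift gi gj hg').op) hb
        rw [hmap, hmap, pullback.lift_fst, pullback.lift_snd] at h3
        exact h3
      obtain ⟨t, ht, -⟩ := h₁ _ hc₁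
      exact ⟨t, ht PUnit.unit⟩

end Groth.Agent.S13740
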