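import Groth.Statements.S13742
import Mathlib
import Groth.Agent.Lib.Helper5FiberStalk
-- import your own Groth.Agent.* helpers here

set_option autoImplicit false
set_option linter.style.haveILetI false
set_option linter.unusedSectionVars false
universe u
open Cyc

namespace Groth.Agent.S13742

open CategoryTheory CategoryTheory.Limits AlgebraicGeometry
open Groth.Agent.Lib.Helper5.FiberStalk

/-- at a maximal point, every element of the maximal ideal of the local ring is nilpotent -/
theorem isNilpotent_of_mem_maximalIdeal {S : Scheme.{u}} (s : S)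
    (hs : closure {s} ∈ irreducibleComponents ↥S) (a : S.presheaf.stalk s)
    (ha : a ∈ IsLocalRing.maximalIdeal (S.presheaf.stalk s)) : IsNilpotent a := by
  have hmax : IsMax s := by
    intro s' hss'
    have h1 : s' ⤳ s := Scheme.le_iff_specializes.1 hss'
    have h2 : closure {s} ⊆ closure {s'} := specializes_iff_closure_subset.1 h1
    have h3 : closure {s'} ⊆ closure {s} := hs.2 isIrreducible_singleton.closure h2
    have h4 : s ⤳ s' := specializes_iff_mem_closure.2 (h3 (subset_closure rfl))
    exact Scheme.le_iff_specializes.2 h4
  have hdim : ringKrullDim (S.presheaf.stalk s) = 0 := by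
    rw [ringKrullDim_stalk_eq_coheight, Order.coheight_eq_zero.2 hmax]; rfl
  haveI : Ring.KrullDimLE 0 (S.presheaf.stalk s) := Ring.krullDimLE_iff.mpr (le_of_eq hdim)
  exact Ring.KrullDimLE.isNilpotent_iff_mem_maximalIdeal.2 ha

/-- the local rings of the fibre of an integral scheme over a maximal point are domains -/
theorem isDomain_stalk_fiber {Z S : Scheme.{u}} [IsIntegral Z] (g : Z ⟶ S) :
    ∀ (s : S) (p : g.fiber s) (q : Z), g.fiberι s p = q → g q = s →
      closure {s} ∈ irreducibleComponents ↥S → IsDomain ((g.fiber s).presheaf.stalk p) := by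
  intro s p q hq hs hmax
  subst hs
  obtain ⟨e⟩ := nonempty_stalk_fiber_equiv g q p hq
  have hbot : fibIdeal g q = ⊥ := by
    unfold fibIdeal
    rw [Ideal.map_eq_bot_iff_le_ker]
    intro a ha
    have hn := (isNilpotent_of_mem_maximalIdeal (g q) hmax a ha).map (g.stalkMap q).hom
    exact RingHom.mem_ker.2 (IsNilpotent.eq_zero hn)
  have e2 : (Z.presheaf.stalk q ⧸ fibIdeal g q) ≃+* Z.presheaf.stalk q := by
    rw [hbot]; exact RingEquiv.quotientBot _
  exact (e.trans e2).toMulEquiv.isDomain _

theorem irreducibleSpace_of_homeomorph {A B : Type*} [TopologicalSpace A] [TopologicalSpace B]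
    (h : A ≃ₜ B) [IrreducibleSpace B] : IrreducibleSpace A := by
  rw [irreducibleSpace_def]
  have := (IrreducibleSpace.isIrreducible_univ B).image h.symm h.symm.continuous.continuousOn
  rwa [Set.image_univ, h.symm.surjective.range_eq] at this


open CategoryTheory CategoryTheory.Limits AlgebraicGeometry in
/-- Let S be a separated Noetherian scheme, f : X → S separated of finite type, z a point of X mapping
to a generic point of an irreducible component of S, and ι : Z → X a closed immersion from a reduced
scheme with image the closure of z (the closure of z with its reduced structure). Then Z ×_S Spec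
k(f z) is an integral scheme, and its image in the fibre X ×_S Spec k(f z) is the closure of the
unique point w of that fibre lying over z: Z ×_S Spec k(f z) is the closure of z in its fibre, with
reduced structure. -/
theorem result {X S Z : Scheme.{u}} [IsNoetherian S] [S.IsSeparated] [X.IsSeparated] (f : X ⟶ S) [LocallyOfFiniteType f] [QuasiCompact f] (z : X) (hz : closure {f z} ∈ irreducibleComponents ↥S) (ι : Z ⟶ X) [IsClosedImmersion ι] [IsReduced Z] (hZ : Set.range ι = closure {z}) : IsIntegral (pullback (ι ≫ f) (S.fromSpecResidueField (f z))) ∧ ∃ w : ↥(pullback f (S.fromSpecResidueField (f z))), pullback.fst f (S.fromSpecResidueField (f z)) w = z ∧ Set.range (pullback.map (ι ≫ f) (S.fromSpecResidueField (f z)) f (S.fromSpecResidueField (f z)) ι (𝟙 _) (𝟙 S) (Category.comp_id _) ((Category.comp_id _).trans (Category.id_comp _).symm)) = closure {w} := by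
  -- Z is integral with generic point over z
  haveI hirrZ : IrreducibleSpace Z := by
    let e : Z ≃ₜ (closure ({z} : Set X)) :=
      (ι.isClosedEmbedding.isEmbedding.toHomeomorph).trans (Homeomorph.setCongr hZ)
    haveI : IrreducibleSpace (closure ({z} : Set X)) :=
      Subtype.irreducibleSpace isIrreducible_singleton.closure
    exact irreducibleSpace_of_homeomorph e
  haveI : IsIntegral Z := isIntegral_of_irreducibleSpace_of_isReduced Z
  have hζ : ι (genericPoint Z) = z := by
    have h1 : IsGenericPoint (ι (genericPoint Z)) (closure ({z} : Set X)) := by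
      change closure {ι (genericPoint Z)} = closure {z}
      rw [← Set.image_singleton, ← closure_image_closure ι.continuous,
        (genericPoint_spec Z).def, Set.image_univ, hZ, closure_closure]
    have h2 : IsGenericPoint z (closure ({z} : Set X)) := rfl
    exact h1.eq h2
  have hgζ : (ι ≫ f) (genericPoint Z) = f z := by
    rw [Scheme.Hom.comp_apply, hζ]
  constructor
  · change IsIntegral ((ι ≫ f).fiber (f z))
    -- irreducible
    obtain ⟨ζ', hζ'⟩ : genericPoint Z ∈ Set.range ((ι ≫ f).fiberι (f z)) := by
      rw [Scheme.Hom.range_fiberι]; exact hgζ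
    have hcl : closure ({ζ'} : Set ((ι ≫ f).fiber (f z))) = Set.univ := by
      rw [((ι ≫ f).fiberι (f z)).isEmbedding.isInducing.closure_eq_preimage_closure_image,
        Set.image_singleton, hζ', (genericPoint_spec Z).def, Set.preimage_univ]
    haveI : IrreducibleSpace ((ι ≫ f).fiber (f z)) := by
      rw [irreducibleSpace_def]
      change IsIrreducible (Set.univ : Set ((ι ≫ f).fiber (f z)))
      rw [← hcl]
      exact isIrreducible_singleton.closure
    -- reduced
    haveI : ∀ p : (ι ≫ f).fiber (f z),
        _root_.IsReduced (((ι ≫ f).fiber (f z)).presheaf.stalk p) := by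
      intro p
      have hq : (ι ≫ f) ((ι ≫ f).fiberι (f z) p) = f z := by
        have : (ι ≫ f).fiberι (f z) p ∈ (ι ≫ f) ⁻¹' {f z} := by
          rw [← Scheme.Hom.range_fiberι]; exact ⟨p, rfl⟩
        exact this
      haveI := isDomain_stalk_fiber (ι ≫ f) (f z) p _ rfl hq hz
      infer_instance
    haveI : IsReduced ((ι ≫ f).fiber (f z)) := isReduced_of_isReduced_stalk _
    exact isIntegral_of_irreducibleSpace_of_isReduced _
  · refine ⟨f.asFiber z, f.fiberι_asFiber z, ?_⟩
    set m := pullback.map (ι ≫ f) (S.fromSpecResidueField (f z)) f (S.fromSpecResidueField (f z))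
      ι (𝟙 _) (𝟙 S) (Category.comp_id _) ((Category.comp_id _).trans (Category.id_comp _).symm)
      with hm
    have hm1 : m ≫ pullback.fst f (S.fromSpecResidueField (f z)) =
        pullback.fst (ι ≫ f) (S.fromSpecResidueField (f z)) ≫ ι := by
      rw [hm]; exact pullback.lift_fst _ _ _
    have hemb : Function.Injective (pullback.fst f (S.fromSpecResidueField (f z))) :=
      (f.fiberι (f z)).isEmbedding.injective
    have hcl : closure ({f.asFiber z} : Set ↥(pullback f (S.fromSpecResidueField (f z)))) =
        (pullback.fst f (S.fromSpecResidueField (f z))) ⁻¹' closure {z} := by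
      have := (f.fiberι (f z)).isEmbedding.isInducing.closure_eq_preimage_closure_image
        {f.asFiber z}
      rw [Set.image_singleton, f.fiberι_asFiber z] at this
      exact this
    suffices h : Set.range m =
        (pullback.fst f (S.fromSpecResidueField (f z))) ⁻¹' closure {z} from h.trans hcl.symm
    ext p
    constructor
    · rintro ⟨p', rfl⟩
      change pullback.fst f (S.fromSpecResidueField (f z)) (m p') ∈ closure {z}
      rw [← Scheme.Hom.comp_apply, hm1, Scheme.Hom.comp_apply, ← hZ]
      exact ⟨_, rfl⟩
    · intro hp
      have hp' : pullback.fst f (S.fromSpecResidueField (f z)) p ∈ Set.range ι := by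
        rw [hZ]; exact hp
      obtain ⟨q, hq⟩ := hp'
      have hcond : (ι ≫ f) q = (S.fromSpecResidueField (f z))
          (pullback.snd f (S.fromSpecResidueField (f z)) p) := by
        rw [Scheme.Hom.comp_apply, hq, ← Scheme.Hom.comp_apply, ← Scheme.Hom.comp_apply,
          pullback.condition]
      obtain ⟨p', hp'1, -⟩ := Scheme.Pullback.exists_preimage_pullback q _ hcond
      refine ⟨p', hemb ?_⟩
      rw [← Scheme.Hom.comp_apply, hm1, Scheme.Hom.comp_apply, hp'1, hq]

end Groth.Agent.S13742
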