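import Groth.Statements.S13746
import Mathlib

set_option autoImplicit false
universe u
open CategoryTheory AlgebraicGeometry
open SemiFact

namespace Groth.Agent.S13746
open CategoryTheory AlgebraicGeometry
open SemiFact
open CategoryTheory.Limits TopologicalSpace

/-- Ring-level core. -/
lemma core {B B' : Type*} [CommRing B] [CommRing B'] (φ : B →+* B') (ϖ : B)
    (h1 : ∀ b, ϖ * b = 0 → b = 0) (h1' : ∀ b', φ ϖ * b' = 0 → b' = 0)
    (h2 : ∀ b', ∃ (n : ℕ) (b : B), φ ϖ ^ n * b' = φ b)
    (h2' : ∀ b, φ b = 0 → ∃ m : ℕ, ϖ ^ m * b = 0)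
    (h3 : ∀ b c', φ b = φ ϖ * c' → ∃ b₁, b = ϖ * b₁) :
    Function.Bijective φ := by
  have hpow : ∀ (m : ℕ) b, ϖ ^ m * b = 0 → b = 0 := by
    intro m
    induction m with
    | zero => intro b hb; simpa using hb
    | succ m ih =>
      intro b hb
      apply ih
      apply h1
      rw [← mul_assoc, ← pow_succ']
      exact hb
  refine ⟨?_, ?_⟩
  · rw [injective_iff_map_eq_zero]
    intro b hb
    obtain ⟨m, hm⟩ := h2' b hb
    exact hpow m b hm
  · have key : ∀ (n : ℕ) b' b, φ ϖ ^ n * b' = φ b → ∃ a, φ a = b' := by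
      intro n
      induction n with
      | zero => intro b' b h; exact ⟨b, by simpa using h.symm⟩
      | succ n ih =>
        intro b' b h
        obtain ⟨b₁, rfl⟩ := h3 b (φ ϖ ^ n * b') (by rw [← h, pow_succ']; ring)
        apply ih b' b₁
        have h0 : φ ϖ * (φ ϖ ^ n * b' - φ b₁) = 0 := by
          rw [mul_sub, sub_eq_zero, ← mul_assoc, ← pow_succ', h, map_mul]
        exact sub_eq_zero.mp (h1' _ h0)
    intro b'
    obtain ⟨n, b, h⟩ := h2 b'
    exact key n b' b h

/-- If the base change of `p` along an open immersion `j` is an isomorphism, then the restriction of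
`p` over the range of `j` is an isomorphism. -/
lemma isIso_morphismRestrict_of_isPullback {X Y X' Y' : Scheme.{u}} (p : Y ⟶ X) (j : X' ⟶ X)
    [IsOpenImmersion j] (q : Y' ⟶ X') (j' : Y' ⟶ Y) (h : IsPullback q j' j p) [IsIso q] :
    IsIso (p ∣_ j.opensRange) := by
  have h1 : IsPullback (q ≫ j.isoOpensRange.hom) j' j.opensRange.ι p := by
    refine h.of_iso (Iso.refl _) j.isoOpensRange (Iso.refl _) (Iso.refl _) ?_ ?_ ?_ ?_ <;> simp
  have h2 := isPullback_morphismRestrict p j.opensRange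
  have e := IsPullback.isoIsPullback_hom_fst _ _ h1 h2
  have : p ∣_ j.opensRange = (IsPullback.isoIsPullback _ _ h1 h2).inv ≫ q ≫ j.isoOpensRange.hom :=
    (Iso.eq_inv_comp _).mpr e
  rw [this]
  infer_instance

set_option backward.isDefEq.respectTransparency false in
/-- If `p ∣_ U` is an isomorphism then `p.app V` is an isomorphism for all `V ≤ U`. -/
lemma isIso_app_of_isIso_morphismRestrict {X Y : Scheme.{u}} (p : Y ⟶ X) (U : X.Opens)
    [IsIso (p ∣_ U)] (V : X.Opens) (hV : V ≤ U) : IsIso (p.app V) := by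
  have hV' : V = U.ι ''ᵁ (U.ι ⁻¹ᵁ V) := by
    rw [Scheme.Hom.image_preimage_eq_opensRange_inf]
    simpa using hV
  have h := morphismRestrict_app p U (U.ι ⁻¹ᵁ V)
  have h3 : IsIso (p.app (U.ι ''ᵁ (U.ι ⁻¹ᵁ V)) ≫
      Y.presheaf.map (eqToHom (image_morphismRestrict_preimage p U (U.ι ⁻¹ᵁ V))).op) := by
    rw [← h]; infer_instance
  have h4 : IsIso (p.app (U.ι ''ᵁ (U.ι ⁻¹ᵁ V))) := by
    exact IsIso.of_isIso_comp_right _ (Y.presheaf.map (eqToHom (image_morphismRestrict_preimage p U (U.ι ⁻¹ᵁ V))).op)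
  rw [hV']
  exact h4

open TensorProduct in
/-- If the fibre ring `κ(𝔪) ⊗ B` is reduced (`𝔪` maximal), then `𝔪 B` is a radical ideal. -/
lemma mem_map_of_pow_mem {R B : Type u} [CommRing R] [CommRing B] [Algebra R B] (𝔪 : Ideal R)
    [𝔪.IsMaximal] [_root_.IsReduced (𝔪.Fiber B)] (b : B) (n : ℕ)
    (h : b ^ n ∈ 𝔪.map (algebraMap R B)) : b ∈ 𝔪.map (algebraMap R B) := by
  let t : B →ₐ[R] 𝔪.Fiber B := Algebra.TensorProduct.includeRight
  have ht0 : ∀ c ∈ 𝔪.map (algebraMap R B), t c = 0 := by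
    intro c hc
    refine Submodule.span_induction (p := fun c _ => t c = 0) ?_ ?_ ?_ ?_ hc
    · rintro _ ⟨r, hr, rfl⟩
      rw [AlgHom.commutes]
      have : algebraMap R 𝔪.ResidueField r = 0 := by
        rw [Ideal.algebraMap_residueField_eq_zero]; exact hr
      rw [Algebra.TensorProduct.algebraMap_apply, this]
      simp
    · exact map_zero t
    · intro x y _ _ hx hy; rw [map_add, hx, hy, add_zero]
    · intro a x _ hx; rw [smul_eq_mul, map_mul, hx, mul_zero]
  have htb : t b = 0 := by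
    have : t b ^ n = 0 := by rw [← map_pow]; exact ht0 _ h
    exact IsNilpotent.eq_zero ⟨n, this⟩
  let e0 : (R ⧸ 𝔪) ≃ₗ[R] 𝔪.ResidueField :=
    LinearEquiv.ofBijective ((Algebra.linearMap (R ⧸ 𝔪) 𝔪.ResidueField).restrictScalars R)
      (Ideal.bijective_algebraMap_quotient_residueField 𝔪)
  let e : 𝔪.Fiber B ≃ₗ[R] B ⧸ (𝔪 • (⊤ : Submodule R B)) :=
    (LinearEquiv.rTensor B e0).symm ≪≫ₗ TensorProduct.quotTensorEquivQuotSMul B 𝔪
  have he0 : e0.symm 1 = 1 := by
    rw [LinearEquiv.symm_apply_eq]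
    simp [e0]
  have he : e (t b) = Submodule.Quotient.mk b := by
    show TensorProduct.quotTensorEquivQuotSMul B 𝔪 ((LinearEquiv.rTensor B e0).symm (1 ⊗ₜ[R] b)) = _
    rw [LinearEquiv.rTensor_symm_tmul, he0, TensorProduct.quotTensorEquivQuotSMul_mk_one_tmul]
  rw [htb, map_zero] at he
  have hb : b ∈ 𝔪 • (⊤ : Submodule R B) := (Submodule.Quotient.mk_eq_zero _).mp he.symm
  rw [Ideal.smul_top_eq_map] at hb
  exact hb

lemma pow_regular {B : Type*} [CommRing B] (a : B) (h : ∀ b, a * b = 0 → b = 0) :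
    ∀ (m : ℕ) (b : B), a ^ m * b = 0 → b = 0 := by
  intro m
  induction m with
  | zero => intro b hb; simpa using hb
  | succ m ih =>
    intro b hb
    apply ih
    apply h
    rw [← mul_assoc, ← pow_succ']
    exact hb

lemma app_res {X Y : Scheme.{u}} (p : Y ⟶ X) {D V : X.Opens} (h : D ≤ V) (b : Γ(X, V)) :
    (p.app D).hom (X.presheaf.map (homOfLE h).op b) =
      Y.presheaf.map (homOfLE (p.preimage_mono h)).op ((p.app V).hom b) := by
  have := p.naturality (homOfLE h).op
  exact congr($this b)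

lemma res_eq_zero_of_eq {Y : Scheme.{u}} {U W W' : Y.Opens} (e : W = W') (hW : W ≤ U)
    (hW' : W' ≤ U) (x : Γ(Y, U)) (h : Y.presheaf.map (homOfLE hW).op x = 0) :
    Y.presheaf.map (homOfLE hW').op x = 0 := by
  subst e; exact h

lemma res_res' {X : Scheme.{u}} {U V W : X.Opens} (h1 : V ≤ U) (h2 : W ≤ V) (z : Γ(X, U)) :
    X.presheaf.map (homOfLE h2).op (X.presheaf.map (homOfLE h1).op z) =
      X.presheaf.map (homOfLE (h2.trans h1)).op z := by
  rw [← CommRingCat.comp_apply, ← Functor.map_comp]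
  rfl

section DVR

variable (R : Type u) [CommRing R] [IsDomain R]

/-- The element of `Γ(Spec R, ⊤)` corresponding to `r`. -/
noncomputable abbrev el (r : R) : Γ(Spec (CommRingCat.of R), ⊤) :=
  (Scheme.ΓSpecIso (CommRingCat.of R)).inv.hom r

/-- The image of `r : R` in the sections of an `R`-scheme over an open. -/
noncomputable abbrev elOn {X : Scheme.{u}} (f : X ⟶ Spec (CommRingCat.of R)) (V : X.Opens) (r : R) :
    Γ(X, V) :=
  (f.appLE ⊤ V le_top).hom (el R r)

lemma el_mem_nonZeroDivisors (r : R) (hr : r ≠ 0) :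
    el R r ∈ nonZeroDivisors Γ(Spec (CommRingCat.of R), ⊤) := by
  have e : R ≃+* Γ(Spec (CommRingCat.of R), ⊤) :=
    (Scheme.ΓSpecIso (CommRingCat.of R)).symm.commRingCatIsoToRingEquiv
  have : IsDomain Γ(Spec (CommRingCat.of R), ⊤) := MulEquiv.isDomain R e.symm.toMulEquiv
  have hinj : Function.Injective (el R) :=
    (Scheme.ΓSpecIso (CommRingCat.of R)).symm.commRingCatIsoToRingEquiv.injective
  exact mem_nonZeroDivisors_of_ne_zero (fun h => hr (hinj (h.trans (map_zero _).symm)))

/-- `r ≠ 0` is regular on sections of a flat `R`-scheme over an affine open. -/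
lemma regular_affine {X : Scheme.{u}} (f : X ⟶ Spec (CommRingCat.of R)) [Flat f]
    (V : X.Opens) (hV : IsAffineOpen V) (r : R) (hr : r ≠ 0) (b : Γ(X, V))
    (hb : elOn R f V r * b = 0) : b = 0 := by
  have hfl : (f.appLE ⊤ V le_top).hom.Flat :=
    HasRingHomProperty.appLE (P := @Flat) f inferInstance ⟨⊤, isAffineOpen_top _⟩ ⟨V, hV⟩ le_top
  letI := (f.appLE ⊤ V le_top).hom.toAlgebra
  have : Module.Flat Γ(Spec (CommRingCat.of R), ⊤) Γ(X, V) := hfl
  have h := Module.Flat.isSMulRegular_of_nonZeroDivisors (M := Γ(X, V))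
    (el_mem_nonZeroDivisors R r hr)
  apply h
  show el R r • b = el R r • 0
  rw [smul_zero, Algebra.smul_def, RingHom.algebraMap_toAlgebra]
  exact hb

lemma elOn_res {X : Scheme.{u}} (f : X ⟶ Spec (CommRingCat.of R)) (V V' : X.Opens) (h : V' ≤ V)
    (r : R) : X.presheaf.map (homOfLE h).op (elOn R f V r) = elOn R f V' r := by
  have := Scheme.Hom.appLE_map f (U := ⊤) (V := V) (V' := V') le_top (homOfLE h).op
  exact congr($this (el R r))

lemma elOn_comp {X Y : Scheme.{u}} (f : X ⟶ Spec (CommRingCat.of R)) (p : Y ⟶ X) (V : X.Opens)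
    (r : R) : (p.app V).hom (elOn R f V r) = elOn R (p ≫ f) (p ⁻¹ᵁ V) r := by
  have : f.appLE ⊤ V le_top ≫ p.app V = (p ≫ f).appLE ⊤ (p ⁻¹ᵁ V) le_top := by
    rw [Scheme.Hom.app_eq_appLE, Scheme.Hom.appLE_comp_appLE]
  exact congr($this (el R r))

/-- `r ≠ 0` is regular on sections of a flat `R`-scheme over any open. -/
lemma regular_open {Y : Scheme.{u}} (g : Y ⟶ Spec (CommRingCat.of R)) [Flat g]
    (W : Y.Opens) (r : R) (hr : r ≠ 0) (b : Γ(Y, W)) (hb : elOn R g W r * b = 0) : b = 0 := by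
  have hcov : W ≤ ⨆ (i : {V : Y.affineOpens // V.1 ≤ W}), i.1.1 := by
    intro x hx
    obtain ⟨V, hV, hxV, hVW⟩ := Opens.isBasis_iff_nbhd.mp Y.isBasis_affineOpens hx
    exact Opens.mem_iSup.mpr ⟨⟨⟨V, hV⟩, hVW⟩, hxV⟩
  refine Y.sheaf.eq_of_locally_eq' (fun i : {V : Y.affineOpens // V.1 ≤ W} => i.1.1) W
    (fun i => homOfLE i.2) hcov b 0 (fun i => ?_)
  rw [map_zero]
  apply regular_affine R g i.1.1 i.1.2 r hr
  have h1 := elOn_res R g W i.1.1 i.2 r
  rw [← h1]
  have h2 := congrArg (Y.presheaf.map (homOfLE i.2).op).hom hb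
  rw [map_mul, map_zero] at h2
  exact h2

lemma dense_generic {X : Scheme.{u}} (f : X ⟶ Spec (CommRingCat.of R)) [Flat f] (r : R)
    (hr : r ≠ 0) :
    Dense ((f ⁻¹ᵁ (Spec (CommRingCat.of R)).basicOpen (el R r) : X.Opens) : Set X) := by
  rw [dense_iff_inter_open]
  rintro W hW ⟨x, hx⟩
  obtain ⟨V, hV, hxV, hVW⟩ :=
    Opens.isBasis_iff_nbhd.mp X.isBasis_affineOpens (U := ⟨W, hW⟩) hx
  by_contra hne
  have hbot : X.basicOpen (elOn R f V r) = ⊥ := by
    rw [Scheme.basicOpen_appLE]
    ext y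
    simp only [Opens.coe_inf, Set.mem_inter_iff, SetLike.mem_coe, Opens.coe_bot,
      Set.mem_empty_iff_false, iff_false, not_and]
    intro hyV hy
    exact hne ⟨y, hVW hyV, hy⟩
  have hnil : IsNilpotent (elOn R f V r) :=
    (Scheme.isNilpotent_iff_basicOpen_eq_bot_of_isCompact hV.isCompact _).mpr hbot
  obtain ⟨n, hn⟩ := hnil
  have h1 : ∀ n : ℕ, (elOn R f V r) ^ n = 0 → (1 : Γ(X, V)) = 0 := by
    intro n
    induction n with
    | zero => intro h; simpa using h
    | succ n ih =>
      intro h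
      apply ih
      apply regular_affine R f V hV r hr
      rw [← pow_succ']
      exact h
  have h10 := h1 n hn
  have h2 : X.basicOpen (1 : Γ(X, V)) = ⊥ := by
    rw [h10]; exact Scheme.basicOpen_zero _ _
  rw [Scheme.basicOpen_of_isUnit _ isUnit_one] at h2
  rw [h2] at hxV
  exact hxV

omit [IsDomain R] in
lemma surjective_of_dense {X Y : Scheme.{u}} (p : Y ⟶ X) [IsProper p] (U : X.Opens)
    [IsIso (p ∣_ U)] (hU : Dense (U : Set X)) : Function.Surjective p := by
  have hcl : IsClosed (Set.range p) := p.isClosedMap.isClosed_range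
  have hsub : (U : Set X) ⊆ Set.range p := by
    intro x hx
    obtain ⟨y, hy⟩ := (p ∣_ U).surjective ⟨x, hx⟩
    refine ⟨y.1, ?_⟩
    rw [← morphismRestrict_base_coe, hy]
  have : Set.range p = Set.univ := by
    apply Set.eq_univ_of_univ_subset
    rw [← hU.closure_eq]
    exact hcl.closure_subset_iff.mpr hsub
  exact Set.range_eq_univ.mp this

omit [IsDomain R] in
lemma spec_fac {X : Scheme.{u}} (f : X ⟶ Spec (CommRingCat.of R)) (V : X.Opens)
    (hV : IsAffineOpen V) :
    V.ι ≫ f = hV.isoSpec.hom ≫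
      Spec.map ((Scheme.ΓSpecIso (CommRingCat.of R)).inv ≫ f.appLE ⊤ V le_top) := by
  rw [Spec.map_comp, ← Scheme.isoSpec_Spec_inv, ← IsAffineOpen.fromSpec_top,
    IsAffineOpen.SpecMap_appLE_fromSpec f (isAffineOpen_top _) hV le_top,
    IsAffineOpen.isoSpec_hom_fromSpec_assoc]

omit [IsDomain R] in
lemma isReduced_fiber_affine {X : Scheme.{u}} (f : X ⟶ Spec (CommRingCat.of R))
    (s : Spec (CommRingCat.of R)) [IsReduced (f.fiber s)] (V : X.Opens) (hV : IsAffineOpen V) :
    letI := ((Scheme.ΓSpecIso (CommRingCat.of R)).inv ≫ f.appLE ⊤ V le_top).hom.toAlgebra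
    _root_.IsReduced (s.asIdeal.Fiber Γ(X, V)) := by
  letI := ((Scheme.ΓSpecIso (CommRingCat.of R)).inv ≫ f.appLE ⊤ V le_top).hom.toAlgebra
  have h0 : IsReduced (pullback f ((Spec (CommRingCat.of R)).fromSpecResidueField s)) :=
    ‹IsReduced (f.fiber s)›
  have h1 : IsReduced (pullback V.ι
      (pullback.fst f ((Spec (CommRingCat.of R)).fromSpecResidueField s))) :=
    isReduced_of_isOpenImmersion (pullback.snd V.ι
      (pullback.fst f ((Spec (CommRingCat.of R)).fromSpecResidueField s)))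
  have h2 : IsReduced (pullback (V.ι ≫ f) ((Spec (CommRingCat.of R)).fromSpecResidueField s)) :=
    isReduced_of_isOpenImmersion (pullbackRightPullbackFstIso f _ V.ι).inv
  have hfac := spec_fac R f V hV
  have halg : CommRingCat.ofHom (algebraMap R Γ(X, V)) =
      (Scheme.ΓSpecIso (CommRingCat.of R)).inv ≫ f.appLE ⊤ V le_top := rfl
  have h3 : IsReduced (pullback (Spec.map (CommRingCat.ofHom (algebraMap R Γ(X, V))))
      ((Spec (CommRingCat.of R)).fromSpecResidueField s)) := by
    have : IsIso (pullback.map (Spec.map (CommRingCat.ofHom (algebraMap R Γ(X, V))))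
        ((Spec (CommRingCat.of R)).fromSpecResidueField s) (V.ι ≫ f)
        ((Spec (CommRingCat.of R)).fromSpecResidueField s) hV.isoSpec.inv (𝟙 _) (𝟙 _)
        (by rw [hfac, halg]; simp) (by simp)) := inferInstance
    exact isReduced_of_isOpenImmersion (pullback.map (Spec.map (CommRingCat.ofHom (algebraMap R Γ(X, V))))
        ((Spec (CommRingCat.of R)).fromSpecResidueField s) (V.ι ≫ f)
        ((Spec (CommRingCat.of R)).fromSpecResidueField s) hV.isoSpec.inv (𝟙 _) (𝟙 _)
        (by rw [hfac, halg]; simp) (by simp))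
  have e4 := Arrow.leftFunc.mapIso (Spec.fiberToSpecResidueFieldIso R Γ(X, V) s)
  have h4 : IsReduced (Spec (CommRingCat.of (s.asIdeal.Fiber Γ(X, V)))) :=
    @isReduced_of_isOpenImmersion _ _ e4.inv inferInstance h3
  exact (affine_isReduced_iff _).mp h4

set_option backward.isDefEq.respectTransparency false in
theorem main_affine [IsDiscreteValuationRing R]
    {X Y : Scheme.{u}} (f : X ⟶ Spec (CommRingCat.of R)) (p : Y ⟶ X) [Flat f] [Flat (p ≫ f)]
    [IsProper p] (ϖ : R) (hϖ : Irreducible ϖ)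
    [IsIso (p ∣_ (f ⁻¹ᵁ (Spec (CommRingCat.of R)).basicOpen (el R ϖ)))]
    [IsReduced (f.fiber (IsLocalRing.closedPoint R))] (V : X.Opens) (hV : IsAffineOpen V) :
    Function.Bijective (p.app V).hom := by
  have hsurj : Function.Surjective p :=
    surjective_of_dense p _ (dense_generic R f ϖ hϖ.ne_zero)
  have hregY : ∀ b', (p.app V).hom (elOn R f V ϖ) * b' = 0 → b' = 0 := by
    intro b' hb'
    rw [elOn_comp] at hb'
    exact regular_open R (p ≫ f) (p ⁻¹ᵁ V) ϖ hϖ.ne_zero b' hb'
  have hDV : X.basicOpen (elOn R f V ϖ) ≤ V := X.basicOpen_le _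
  have hDU : X.basicOpen (elOn R f V ϖ) ≤
      f ⁻¹ᵁ (Spec (CommRingCat.of R)).basicOpen (el R ϖ) := by
    rw [Scheme.basicOpen_appLE]; exact inf_le_right
  haveI : IsIso (p.app (X.basicOpen (elOn R f V ϖ))) :=
    isIso_app_of_isIso_morphismRestrict p _ _ hDU
  have hbij := ConcreteCategory.bijective_of_isIso (p.app (X.basicOpen (elOn R f V ϖ)))
  have hpre : p ⁻¹ᵁ X.basicOpen (elOn R f V ϖ) = Y.basicOpen ((p.app V).hom (elOn R f V ϖ)) :=
    Scheme.preimage_basicOpen p (elOn R f V ϖ)
  have hcomp : IsCompact ((p ⁻¹ᵁ V : Y.Opens) : Set Y) :=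
    QuasiCompact.isCompact_preimage (f := p) _ V.2 hV.isCompact
  apply core (p.app V).hom (elOn R f V ϖ)
  · exact fun b hb => regular_affine R f V hV ϖ hϖ.ne_zero b hb
  · exact hregY
  · intro b'
    obtain ⟨c, hc⟩ := hbij.2 (Y.presheaf.map (homOfLE (p.preimage_mono hDV)).op b')
    haveI := hV.isLocalization_basicOpen (elOn R f V ϖ)
    obtain ⟨n, b, hnb⟩ := IsLocalization.Away.surj (elOn R f V ϖ) c
    refine ⟨n, b, ?_⟩
    have halg : ∀ z : Γ(X, V), algebraMap Γ(X, V) Γ(X, X.basicOpen (elOn R f V ϖ)) z =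
        X.presheaf.map (homOfLE hDV).op z := fun z => rfl
    rw [halg, halg] at hnb
    have hres : Y.presheaf.map (homOfLE (p.preimage_mono hDV)).op
        ((p.app V).hom (elOn R f V ϖ) ^ n * b' - (p.app V).hom b) = 0 := by
      have e1 := (app_res p hDV (elOn R f V ϖ)).symm
      have e2 := (app_res p hDV b).symm
      rw [map_sub, map_mul, map_pow, e1, e2, ← hc, ← map_pow, ← map_mul, ← map_sub,
        mul_comm, hnb, sub_self, map_zero]
    have hres' := res_eq_zero_of_eq hpre (p.preimage_mono hDV) (Y.basicOpen_le _) _ hres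
    obtain ⟨m, hm⟩ := exists_pow_mul_eq_zero_of_res_basicOpen_eq_zero_of_isCompact Y
      hcomp _ ((p.app V).hom (elOn R f V ϖ)) hres'
    exact sub_eq_zero.mp (pow_regular _ hregY m _ hm)
  · intro b hb
    have h0 : X.presheaf.map (homOfLE hDV).op b = 0 := by
      apply hbij.1
      rw [app_res, hb, map_zero, map_zero]
    obtain ⟨m, hm⟩ := exists_pow_mul_eq_zero_of_res_basicOpen_eq_zero_of_isCompact X
      hV.isCompact b (elOn R f V ϖ) h0
    exact ⟨m, hm⟩
  · intro b c' hbc
    have hle : X.basicOpen b ≤ X.basicOpen (elOn R f V ϖ) := by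
      intro x hx
      obtain ⟨y, rfl⟩ := hsurj x
      have hy : y ∈ p ⁻¹ᵁ X.basicOpen b := hx
      have hpb : p ⁻¹ᵁ X.basicOpen b = Y.basicOpen ((p.app V).hom b) :=
        Scheme.preimage_basicOpen p b
      rw [hpb, hbc, Scheme.basicOpen_mul] at hy
      have hy1 : y ∈ Y.basicOpen ((p.app V).hom (elOn R f V ϖ)) := hy.1
      rw [← hpre] at hy1
      exact hy1
    haveI := hV.isLocalization_basicOpen b
    have hunit : IsUnit (algebraMap Γ(X, V) Γ(X, X.basicOpen b) (elOn R f V ϖ)) := by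
      have h1 : IsUnit (X.presheaf.map (homOfLE hDV).op (elOn R f V ϖ)) :=
        RingedSpace.isUnit_res_basicOpen X.toRingedSpace (elOn R f V ϖ)
      have h2 := h1.map (X.presheaf.map (homOfLE hle).op).hom
      have h3 : IsUnit (X.presheaf.map (homOfLE (hle.trans hDV)).op (elOn R f V ϖ)) := by
        rw [← res_res' hDV hle]; exact h2
      exact h3
    obtain ⟨n, hn⟩ := (IsLocalization.Away.algebraMap_isUnit_iff b).mp hunit
    letI := ((Scheme.ΓSpecIso (CommRingCat.of R)).inv ≫ f.appLE ⊤ V le_top).hom.toAlgebra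
    haveI : _root_.IsReduced ((IsLocalRing.maximalIdeal R).Fiber Γ(X, V)) :=
      isReduced_fiber_affine R f (IsLocalRing.closedPoint R) V hV
    have hmap : (IsLocalRing.maximalIdeal R).map (algebraMap R Γ(X, V)) =
        Ideal.span {elOn R f V ϖ} := by
      rw [hϖ.maximalIdeal_eq, Ideal.map_span, Set.image_singleton]
      rfl
    have hmem := mem_map_of_pow_mem (IsLocalRing.maximalIdeal R) b n
      (by rw [hmap]; exact Ideal.mem_span_singleton.mpr hn)
    rw [hmap, Ideal.mem_span_singleton'] at hmem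
    obtain ⟨a, ha⟩ := hmem
    exact ⟨a, by rw [← ha, mul_comm]⟩

set_option backward.isDefEq.respectTransparency false in
theorem main [IsDiscreteValuationRing R]
    {X Y : Scheme.{u}} (f : X ⟶ Spec (CommRingCat.of R)) (p : Y ⟶ X) [Flat f] [Flat (p ≫ f)]
    [IsProper p] (ϖ : R) (hϖ : Irreducible ϖ)
    [IsIso (p ∣_ (f ⁻¹ᵁ (Spec (CommRingCat.of R)).basicOpen (el R ϖ)))]
    [IsReduced (f.fiber (IsLocalRing.closedPoint R))] (V : X.Opens) :
    IsIso (p.app V) := by
  let G : TopCat.Sheaf CommRingCat X :=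
    ⟨p.base _* Y.presheaf, TopCat.Sheaf.pushforward_sheaf_of_sheaf _ Y.sheaf.property⟩
  let φ : X.sheaf ⟶ G := ⟨p.c⟩
  have h1 : IsIso φ := TopCat.Sheaf.isIso_iff_isIso_basis (B := fun U : X.affineOpens => U.1)
    (by rw [Subtype.range_coe]; exact X.isBasis_affineOpens)
    (fun U => (ConcreteCategory.isIso_iff_bijective _).mpr (main_affine R f p ϖ hϖ U.1 U.2))
  have h2 : IsIso φ.hom := (sheafToPresheaf _ _).map_isIso φ
  exact NatIso.isIso_app_of_isIso φ.hom (Opposite.op V)

omit [IsDomain R] in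
lemma range_genPt (ϖ : R) [IsLocalization.Away ϖ (FractionRing R)] :
    Set.range (Spec.map (CommRingCat.ofHom (algebraMap R (FractionRing R)))) =
      ((Spec (CommRingCat.of R)).basicOpen (el R ϖ) : Set (Spec (CommRingCat.of R))) := by
  rw [basicOpen_eq_of_affine]
  exact PrimeSpectrum.localization_away_comap_range (FractionRing R) ϖ

end DVR

theorem isLocalization_away_fractionRing (R : Type u) [CommRing R] [IsDomain R]
    [IsDiscreteValuationRing R] (ϖ : R) (hϖ : Irreducible ϖ) :
    IsLocalization.Away ϖ (FractionRing R) := by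
  have hinj : Function.Injective (algebraMap R (FractionRing R)) := IsFractionRing.injective R _
  change IsLocalization (Submonoid.powers ϖ) (FractionRing R)
  rw [isLocalization_iff]
  refine ⟨?_, ?_, ?_⟩
  · rintro ⟨_, n, rfl⟩
    apply IsUnit.mk0
    rw [map_pow]
    exact pow_ne_zero _ (fun h => hϖ.ne_zero (hinj (h.trans (map_zero _).symm)))
  · intro z
    obtain ⟨a, b, hb, rfl⟩ := IsFractionRing.div_surjective (A := R) z
    have hb0 : b ≠ 0 := nonZeroDivisors.ne_zero hb
    obtain ⟨n, u, hu⟩ := IsDiscreteValuationRing.eq_unit_mul_pow_irreducible hb0 hϖ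
    refine ⟨(a * ((u⁻¹ : Rˣ) : R), ⟨ϖ ^ n, n, rfl⟩), ?_⟩
    have hb' : algebraMap R (FractionRing R) b ≠ 0 :=
      fun h => hb0 (hinj (h.trans (map_zero _).symm))
    change algebraMap R (FractionRing R) a / algebraMap R (FractionRing R) b *
      algebraMap R (FractionRing R) (ϖ ^ n) = algebraMap R (FractionRing R) (a * ((u⁻¹ : Rˣ) : R))
    rw [div_mul_eq_mul_div, div_eq_iff hb', ← map_mul, ← map_mul]
    congr 1
    rw [hu]
    have : ((u⁻¹ : Rˣ) : R) * (u : R) = 1 := Units.inv_mul u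
    calc a * ϖ ^ n = a * (((u⁻¹ : Rˣ) : R) * (u : R)) * ϖ ^ n := by rw [this, mul_one]
      _ = a * ((u⁻¹ : Rˣ) : R) * ((u : R) * ϖ ^ n) := by ring
  · intro x y h
    exact ⟨1, by rw [hinj h]⟩


/-- Let R be a discrete valuation ring with fraction field K, let X and Y be schemes flat over Spec R
and let π : Y → X be a proper morphism over Spec R whose base change along Spec K → Spec R is an
isomorphism. If the fibre of X over the closed point of Spec R is reduced, then the canonical map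
O_X → π_* O_Y is an isomorphism: for every open V ⊆ X the ring map O_X(V) → O_Y(π⁻¹ V) is bijective. -/
theorem result
    (R : Type u) [CommRing R] [IsDomain R] [IsDiscreteValuationRing R]
    (X Y : Over (Spec (CommRingCat.of R))) [Flat X.hom] [Flat Y.hom]
    (π : Y ⟶ X) [IsProper π.left]
    (hgen : IsIso ((Neron.genericFibre R).map π))
    [IsReduced (X.hom.fiber (IsLocalRing.closedPoint R))] :
    ∀ V : X.left.Opens, IsIso (π.left.app V) := by
  obtain ⟨ϖ, hϖ⟩ := IsDiscreteValuationRing.exists_irreducible R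
  haveI := isLocalization_away_fractionRing R ϖ hϖ
  haveI hs : IsOpenImmersion (Spec.map (CommRingCat.ofHom (algebraMap R (FractionRing R)))) :=
    IsOpenImmersion.of_isLocalization ϖ
  haveI : Flat (π.left ≫ X.hom) := by rw [Over.w]; infer_instance
  have hq : IsIso ((Neron.genericFibre R).map π).left := by
    exact (Over.forget _).map_isIso ((Neron.genericFibre R).map π)
  have hpb : IsPullback ((Neron.genericFibre R).map π).left
      (pullback.fst Y.hom (Spec.map (CommRingCat.ofHom (algebraMap R (FractionRing R)))))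
      (pullback.fst X.hom (Spec.map (CommRingCat.ofHom (algebraMap R (FractionRing R)))))
      π.left := by
    refine IsPullback.of_right ?_ ?_ (IsPullback.of_hasPullback X.hom
      (Spec.map (CommRingCat.ofHom (algebraMap R (FractionRing R))))).flip
    · have : ((Neron.genericFibre R).map π).left ≫ pullback.snd X.hom
          (Spec.map (CommRingCat.ofHom (algebraMap R (FractionRing R)))) =
          pullback.snd Y.hom (Spec.map (CommRingCat.ofHom (algebraMap R (FractionRing R)))) := by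
        simp [Neron.genericFibre, Neron.genPt]
        exact pullback.lift_snd _ _ _
      rw [this, Over.w]
      exact (IsPullback.of_hasPullback Y.hom
        (Spec.map (CommRingCat.ofHom (algebraMap R (FractionRing R))))).flip
    · simp [Neron.genericFibre, Neron.genPt]
      exact pullback.lift_fst _ _ _
  have hiso := isIso_morphismRestrict_of_isPullback π.left
    (pullback.fst X.hom (Spec.map (CommRingCat.ofHom (algebraMap R (FractionRing R))))) _ _ hpb
  have hrange : (pullback.fst X.hom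
      (Spec.map (CommRingCat.ofHom (algebraMap R (FractionRing R))))).opensRange =
      X.hom ⁻¹ᵁ (Spec (CommRingCat.of R)).basicOpen (el R ϖ) := by
    ext x
    show x ∈ Set.range (pullback.fst X.hom
      (Spec.map (CommRingCat.ofHom (algebraMap R (FractionRing R))))) ↔ _
    rw [Scheme.Pullback.range_fst, range_genPt R ϖ]
    rfl
  rw [hrange] at hiso
  haveI := hiso
  exact fun V => main R X.hom π.left ϖ hϖ V

end Groth.Agent.S13746
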