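import Groth.Statements.S13749
import Mathlib
import Groth.Agent.Lib.Helper20NeronDesc
import Groth.Agent.S15993

set_option autoImplicit false
universe u
open CategoryTheory AlgebraicGeometry
open Neron

namespace Groth.Agent.S13749
open CategoryTheory AlgebraicGeometry CategoryTheory.Limits
open Groth.Agent.Lib.Helper20.NeronCat Groth.Agent.Lib.Helper20NeronLft
open Groth.Agent.Lib.Helper20NeronDesc


/-- Let S be a locally Noetherian scheme, U ⊆ S a schematically dense open subscheme, N → S a smooth
separated morphism of finite type and g : S' → S a flat surjective morphism, and put U' = g⁻¹(U).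
Suppose the base change N ×_S S' → S' has the Néron mapping property with respect to U': for every
smooth S'-scheme Y', sending an S'-morphism Y' → N ×_S S' to its restriction over U' is a bijection
onto the U'-morphisms Y' ×_{S'} U' → (N ×_S S') ×_{S'} U'. Then N → S has the Néron mapping property
with respect to U: for every smooth S-scheme Y, restriction to U is a bijection from S-morphisms Y →
N onto U-morphisms Y ×_S U → N ×_S U. (The published statement is for an arbitrary base S and open
U, with N an algebraic space which is a model of an abelian scheme over U, tested against smooth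
schemes; this row takes N a scheme, drops the abelian-scheme hypothesis, and assumes S locally
Noetherian with U schematically dense, the setting in which schematic closures of U-sections commute
with flat base change and fill S'.) -/
theorem result
    {S S' : Scheme.{u}} [IsLocallyNoetherian S] (g : S' ⟶ S) [Flat g] [Surjective g]
    (U : S.Opens) (hU : CInt.IsSchematicallyDense U)
    (N : Over S) [Smooth N.hom] [IsSeparated N.hom] [QuasiCompact N.hom]
    (hN' : ∀ Y' : Over S', Smooth Y'.hom →
      Function.Bijective (fun f : Y' ⟶ (Over.pullback g).obj N => (Over.pullback (g ⁻¹ᵁ U).ι).map f))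
    (Y : Over S) [Smooth Y.hom] :
    Function.Bijective (fun f : Y ⟶ N => (Over.pullback U.ι).map f) := by
  rw [bijective_map_iff]
  have hqc : QuasiCompact U.ι := inferInstance
  have hstd : IsSchemeTheoreticallyDominant U.ι :=
    Groth.Agent.S15993.isSchemeTheoreticallyDominant_ι U hU
  have hYn : IsLocallyNoetherian Y.left := LocallyOfFiniteType.isLocallyNoetherian Y.hom
  change Ext U.ι (Over.mk Y.hom) (Over.mk N.hom)
  apply ext_of_forall_exists_local
  intro u hu y
  have hsm : Smooth ((Over.pullback g).obj Y).hom := by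
    dsimp [Over.pullback]
    infer_instance
  have hE := (bijective_map_iff _ _ _).mp (hN' ((Over.pullback g).obj Y) hsm)
  -- the comparison map of the restricted fibres
  have hρc : (pullback.fst (pullback.snd Y.hom g) (g ⁻¹ᵁ U).ι ≫ pullback.fst Y.hom g) ≫ Y.hom =
      (pullback.snd (pullback.snd Y.hom g) (g ⁻¹ᵁ U).ι ≫ (g ∣_ U)) ≫ U.ι := by
    rw [Category.assoc, Category.assoc, morphismRestrict_ι, pullback.condition,
      ← pullback.condition_assoc]
  let ρ : pullback (pullback.snd Y.hom g) (g ⁻¹ᵁ U).ι ⟶ pullback Y.hom U.ι :=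
    pullback.lift _ _ hρc
  have hρ1 : ρ ≫ pullback.fst Y.hom U.ι =
      pullback.fst (pullback.snd Y.hom g) (g ⁻¹ᵁ U).ι ≫ pullback.fst Y.hom g :=
    pullback.lift_fst _ _ _
  have hu'c : (ρ ≫ u) ≫ N.hom =
      (pullback.fst (pullback.snd Y.hom g) (g ⁻¹ᵁ U).ι ≫ pullback.snd Y.hom g) ≫ g := by
    rw [Category.assoc, hu, ← Category.assoc, hρ1, Category.assoc, Category.assoc,
      pullback.condition]
  let u' : pullback (pullback.snd Y.hom g) (g ⁻¹ᵁ U).ι ⟶ pullback N.hom g :=
    pullback.lift _ _ hu'c
  have hu'1 : u' ≫ pullback.fst N.hom g = ρ ≫ u := pullback.lift_fst _ _ _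
  have hu'2 : u' ≫ pullback.snd N.hom g =
      pullback.fst (pullback.snd Y.hom g) (g ⁻¹ᵁ U).ι ≫ pullback.snd Y.hom g :=
    pullback.lift_snd _ _ _
  obtain ⟨f', hf', -⟩ := hE u' hu'2
  have hf'1 : pullback.fst (pullback.snd Y.hom g) (g ⁻¹ᵁ U).ι ≫ f'.left = u' := hf'
  have hf'w : f'.left ≫ pullback.snd N.hom g = pullback.snd Y.hom g := Over.w f'
  let φ : pullback Y.hom g ⟶ N.left := f'.left ≫ pullback.fst N.hom g
  have hφq : φ ≫ N.hom = pullback.fst Y.hom g ≫ Y.hom := by
    rw [Category.assoc, pullback.condition, ← Category.assoc, hf'w, pullback.condition]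
  have hφ : ∀ (R : Scheme.{u}) (r : R ⟶ pullback Y.hom U.ι) (a : R ⟶ pullback Y.hom g),
      a ≫ pullback.fst Y.hom g = r ≫ pullback.fst Y.hom U.ι → a ≫ φ = r ≫ u := by
    intro R r a har
    have hsub : Set.range (a ≫ pullback.snd Y.hom g).base ⊆ Set.range (g ⁻¹ᵁ U).ι.base := by
      rintro _ ⟨x, rfl⟩
      rw [Scheme.Opens.range_ι]
      change g.base ((a ≫ pullback.snd Y.hom g).base x) ∈ U
      rw [← Scheme.Hom.comp_apply, Category.assoc, ← pullback.condition, ← Category.assoc, har,
        Category.assoc, pullback.condition, ← Category.assoc, Scheme.Hom.comp_apply]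
      exact ((r ≫ pullback.snd Y.hom U.ι).base x).2
    let b := IsOpenImmersion.lift (g ⁻¹ᵁ U).ι (a ≫ pullback.snd Y.hom g) hsub
    have hb : b ≫ (g ⁻¹ᵁ U).ι = a ≫ pullback.snd Y.hom g := IsOpenImmersion.lift_fac _ _ _
    let σ : R ⟶ pullback (pullback.snd Y.hom g) (g ⁻¹ᵁ U).ι := pullback.lift a b hb.symm
    have hσ1 : σ ≫ pullback.fst (pullback.snd Y.hom g) (g ⁻¹ᵁ U).ι = a := pullback.lift_fst _ _ _
    have hσ2 : σ ≫ pullback.snd (pullback.snd Y.hom g) (g ⁻¹ᵁ U).ι = b := pullback.lift_snd _ _ _
    have hσρ : σ ≫ ρ = r := by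
      apply pullback.hom_ext
      · rw [Category.assoc, hρ1, ← Category.assoc, hσ1, har]
      · rw [← cancel_mono U.ι, Category.assoc, Category.assoc]
        have : ρ ≫ pullback.snd Y.hom U.ι =
            pullback.snd (pullback.snd Y.hom g) (g ⁻¹ᵁ U).ι ≫ (g ∣_ U) := pullback.lift_snd _ _ _
        rw [reassoc_of% this, morphismRestrict_ι, ← Category.assoc, hσ2, reassoc_of% hb,
          ← pullback.condition, ← Category.assoc, har, Category.assoc, pullback.condition,
          Category.assoc]
    rw [← hσ1, Category.assoc, ← Category.assoc _ f'.left, hf'1, hu'1, ← Category.assoc, hσρ]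
  obtain ⟨y', rfl⟩ := (pullback.fst Y.hom g).surjective y
  exact exists_local_of_descent U.ι g Y.hom N.hom u hu φ hφq hφ y'

end Groth.Agent.S13749
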