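import Groth.Statements.S13750
-- import your own Groth.Agent.* helpers here
import Mathlib
import Groth.Agent.Lib.Helper26NeronStalk
import Groth.Agent.S17731

set_option autoImplicit false
universe u
open CategoryTheory AlgebraicGeometry
open Neron

namespace Groth.Agent.S13750

open Limits Groth.Agent.Lib.Helper20.NeronCat Groth.Agent.S17731

/-- Let S be a locally Noetherian scheme, U ⊆ S an open subscheme and N → S a smooth separated morphism
of finite type having the Néron mapping property with respect to U: for every smooth S-scheme Y,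
restriction to U is a bijection from S-morphisms Y → N onto U-morphisms Y ×_S U → N ×_S U. Let s be
a point of S and S̃ = Spec O_{S,s} → S the canonical morphism. Then N ×_S S̃ → S̃ has the Néron
mapping property with respect to the preimage Ũ of U: for every smooth S̃-scheme Ỹ, restriction to Ũ
is a bijection from S̃-morphisms Ỹ → N ×_S S̃ onto Ũ-morphisms. (The published statement is for N an
algebraic space which is a Néron model of an abelian scheme over U and also covers the strict
henselisation at a geometric point; this row is the localisation case for a scheme N, with no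
abelian-scheme hypothesis.) -/
theorem result
    {S : Scheme.{u}} [IsLocallyNoetherian S] (U : S.Opens)
    (N : Over S) [Smooth N.hom] [IsSeparated N.hom] [QuasiCompact N.hom]
    (hN : ∀ Y : Over S, Smooth Y.hom →
      Function.Bijective (fun f : Y ⟶ N => (Over.pullback U.ι).map f))
    (s : S) (Y' : Over (Spec (S.presheaf.stalk s))) [Smooth Y'.hom] :
    Function.Bijective (fun f : Y' ⟶ (Over.pullback (S.fromSpecStalk s)).obj N =>
      (Over.pullback ((S.fromSpecStalk s) ⁻¹ᵁ U).ι).map f) := by
  have hN' := Groth.Agent.Lib.Helper26.NeronStalk.ext_stalk U N hN s Y'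
  rw [bijective_map_iff]
  obtain ⟨e, he⟩ := exists_iso_restrict (S.fromSpecStalk s) U Y'
  intro u' hu'
  have hu'' : u' ≫ pullback.snd N.hom (S.fromSpecStalk s) =
      pullback.fst Y'.hom ((S.fromSpecStalk s) ⁻¹ᵁ U).ι ≫ Y'.hom := hu'
  have hu : (e.inv ≫ u' ≫ pullback.fst N.hom (S.fromSpecStalk s)) ≫ N.hom =
      pullback.fst (Y'.hom ≫ S.fromSpecStalk s) U.ι ≫ (Y'.hom ≫ S.fromSpecStalk s) := by
    rw [Category.assoc, Category.assoc, pullback.condition, reassoc_of% hu'', ← reassoc_of% he,
      Iso.inv_hom_id_assoc]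
  obtain ⟨f, hf, hfu⟩ := hN' _ hu
  have hf : pullback.fst (Y'.hom ≫ S.fromSpecStalk s) U.ι ≫ f.left =
      e.inv ≫ u' ≫ pullback.fst N.hom (S.fromSpecStalk s) := hf
  have hw : f.left ≫ N.hom = Y'.hom ≫ S.fromSpecStalk s := Over.w f
  let f' : Y' ⟶ (Over.pullback (S.fromSpecStalk s)).obj N :=
    Over.homMk (pullback.lift f.left Y'.hom hw) (by
      change pullback.lift f.left Y'.hom hw ≫ pullback.snd N.hom (S.fromSpecStalk s) = Y'.hom
      exact pullback.lift_snd _ _ _)
  have hf'1 : f'.left ≫ pullback.fst N.hom (S.fromSpecStalk s) = f.left := pullback.lift_fst _ _ _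
  have hf'2 : f'.left ≫ pullback.snd N.hom (S.fromSpecStalk s) = Y'.hom := pullback.lift_snd _ _ _
  refine ⟨f', ?_, ?_⟩
  · change pullback.fst Y'.hom ((S.fromSpecStalk s) ⁻¹ᵁ U).ι ≫ f'.left = u'
    apply pullback.hom_ext
    · rw [Category.assoc, hf'1, ← he, Category.assoc, hf, Iso.hom_inv_id_assoc]
    · rw [Category.assoc, hf'2, hu'']
  · intro f'' hf''
    have hf'' : pullback.fst Y'.hom ((S.fromSpecStalk s) ⁻¹ᵁ U).ι ≫ f''.left = u' := hf''
    apply over_pullback_hom_ext
    rw [hf'1]
    have := hfu (toBase (S.fromSpecStalk s) N f'') (by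
      change pullback.fst (Y'.hom ≫ S.fromSpecStalk s) U.ι ≫ f''.left ≫
          pullback.fst N.hom (S.fromSpecStalk s) =
        e.inv ≫ u' ≫ pullback.fst N.hom (S.fromSpecStalk s)
      rw [← cancel_epi e.hom, reassoc_of% he, reassoc_of% hf'', Iso.hom_inv_id_assoc])
    rw [← this]
    rfl

end Groth.Agent.S13750
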