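import Groth.Statements.S13757
import Mathlib.Algebra.Order.BigOperators.Group.Finset
import Mathlib.Tactic

set_option autoImplicit false
universe u
open LabGraph

namespace Groth.Agent.S13757

/-- Let G be a finite connected multigraph (loops and multiple edges allowed) with vertex set V, edge
set E, endpoint map E → V × V and a labelling of the edges by positive integers l. A vertex
labelling φ : V → ℤ is Cartier when l(e) divides the difference of the values of φ at the two
endpoints of every edge e; its multidegree is the vertex labelling whose value at v is the sum, over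
the edge-ends at v, of (value of φ at the other endpoint − φ(v)) / l(e). Then the Cartier vertex
labellings of multidegree zero are exactly the constant ones: the kernel of the multidegree operator
on Cartier labellings is ℤ, embedded as the constants. -/
theorem result
    {V E : Type u} [Fintype V] [Fintype E] [DecidableEq V] [DecidableEq E]
    (ends : E → V × V) (l : E → ℕ) (hl : ∀ e, 0 < l e) (hconn : LabGraph.Connected ends)
    (φ : V → ℤ) (hφ : LabGraph.IsCartier ends l φ) :
    (∀ v : V, LabGraph.mdeg ends l φ v = 0) ↔ ∀ v w : V, φ v = φ w := by
  classical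
  constructor
  · intro hm
    -- the edge differences
    let δ : E → ℤ := fun e => (φ (ends e).2 - φ (ends e).1) / (l e : ℤ)
    have hl' : ∀ e, (l e : ℤ) ≠ 0 := fun e => by
      have := hl e
      exact_mod_cast this.ne'
    have hδ : ∀ e, φ (ends e).2 - φ (ends e).1 = (l e : ℤ) * δ e := by
      intro e
      have hd : (l e : ℤ) ∣ φ (ends e).2 - φ (ends e).1 := (dvd_sub_comm).mp (hφ e)
      exact (Int.mul_ediv_cancel' hd).symm
    have hδ' : ∀ e, (φ (ends e).1 - φ (ends e).2) / (l e : ℤ) = - δ e := by
      intro e
      apply Int.ediv_eq_of_eq_mul_right (hl' e)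
      have := hδ e
      linarith
    have hmdeg : ∀ v, LabGraph.mdeg ends l φ v =
        ∑ e : E, ((if (ends e).1 = v then δ e else 0) + (if (ends e).2 = v then - δ e else 0)) := by
      intro v
      unfold LabGraph.mdeg
      refine Finset.sum_congr rfl fun e _ => ?_
      rw [hδ' e]
    have hsum : ∑ v : V, φ v * LabGraph.mdeg ends l φ v = - ∑ e : E, (l e : ℤ) * δ e ^ 2 := by
      simp_rw [hmdeg, Finset.mul_sum]
      rw [Finset.sum_comm, ← Finset.sum_neg_distrib]
      refine Finset.sum_congr rfl fun e _ => ?_
      simp_rw [mul_add, mul_ite, mul_zero]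
      rw [Finset.sum_add_distrib, Finset.sum_ite_eq, Finset.sum_ite_eq]
      simp only [Finset.mem_univ, if_true]
      have := hδ e
      have h2 : φ (ends e).2 = φ (ends e).1 + (l e : ℤ) * δ e := by linarith
      rw [h2]; ring
    have hzero : ∑ e : E, (l e : ℤ) * δ e ^ 2 = 0 := by
      have : ∑ v : V, φ v * LabGraph.mdeg ends l φ v = 0 := by
        apply Finset.sum_eq_zero
        intro v _
        rw [hm v, mul_zero]
      rw [hsum] at this
      linarith
    have hnonneg : ∀ e ∈ (Finset.univ : Finset E), 0 ≤ (l e : ℤ) * δ e ^ 2 := by
      intro e _
      have : (0 : ℤ) ≤ l e := by exact_mod_cast (hl e).le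
      positivity
    have hδ0 : ∀ e, δ e = 0 := by
      intro e
      have := (Finset.sum_eq_zero_iff_of_nonneg hnonneg).mp hzero e (Finset.mem_univ e)
      rcases mul_eq_zero.mp this with h | h
      · exact absurd h (hl' e)
      · exact pow_eq_zero_iff (two_ne_zero) |>.mp h
    have hedge : ∀ e, φ (ends e).1 = φ (ends e).2 := by
      intro e
      have := hδ e
      rw [hδ0 e, mul_zero] at this
      linarith
    have hadj : ∀ v w, LabGraph.Adj ends v w → φ v = φ w := by
      rintro v w ⟨e, he | he⟩
      · have := hedge e
        rw [he] at this
        exact this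
      · have := hedge e
        rw [he] at this
        exact this.symm
    intro v w
    have := hconn.2 v w
    induction this with
    | refl => rfl
    | tail _ hbc ih => exact ih.trans (hadj _ _ hbc)
  · intro hc v
    unfold LabGraph.mdeg
    apply Finset.sum_eq_zero
    intro e _
    rw [hc (ends e).2 (ends e).1, sub_self, Int.zero_ediv]
    simp

end Groth.Agent.S13757
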