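import Groth.Statements.S1376
-- import your own Groth.Agent.* helpers here
import Mathlib
import Groth.Agent.S0385

set_option autoImplicit false
universe u
open FlatMor

namespace Groth.Agent.S1376

open AlgebraicGeometry CategoryTheory Limits

/-- categorical: if `b` is mono then `a` is the pullback of `a ≫ b` along `b`. -/
lemma isPullback_of_mono {C : Type*} [Category C] {V Z T : C} (a : V ⟶ Z) (b : Z ⟶ T) [Mono b] :
    IsPullback a (𝟙 V) b (a ≫ b) := by
  refine ⟨⟨by simp⟩, ⟨PullbackCone.IsLimit.mk _ (fun s => s.snd) (fun s => ?_) (fun s => by simp)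
    (fun s m h1 h2 => by simpa using h2)⟩⟩
  rw [← cancel_mono b, Category.assoc]
  exact s.condition.symm

open AlgebraicGeometry CategoryTheory Limits in
/-- Let S be quasi-compact and quasi-separated, U a quasi-compact open of S and V → U a surjective
finite morphism. Then there is a surjective finite morphism V' → S whose base change to U is V (V is
the fibre product of V' and U over S). -/
theorem result {S V : Scheme.{u}} [CompactSpace ↑S] [QuasiSeparatedSpace ↑S] (U : S.Opens) (hU : IsCompact (U : Set ↑S))
    (v : V ⟶ (U : Scheme.{u})) [IsFinite v] [Surjective v] :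
    ∃ (V' : Scheme.{u}) (π : V' ⟶ S) (i : V ⟶ V'), Surjective π ∧ IsFinite π ∧ IsPullback i v π U.ι := by
  classical
  haveI : CompactSpace ↥(U : Scheme.{u}) := isCompact_iff_compactSpace.mp hU
  haveI : QuasiCompact U.ι := (quasiCompact_iff_compactSpace U.ι).mpr inferInstance
  obtain ⟨T, j, π, hj, hjqc, hπ, hjπ⟩ := Groth.Agent.S0385.result (v ≫ U.ι)
  haveI := hj; haveI := hjqc; haveI := hπ
  -- the scheme-theoretic image of `j`
  let a : V ⟶ j.image := j.toImage
  let b : j.image ⟶ T := j.imageι
  have hab : a ≫ b = j := j.toImage_imageι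
  haveI : IsOpenImmersion a := by
    have sq := (isPullback_of_mono a b).flip
    rw [hab] at sq
    exact MorphismProperty.of_isPullback (P := @IsOpenImmersion) sq hj
  haveI : IsDominant a := inferInstanceAs (IsDominant j.toImage)
  let πZ : j.image ⟶ S := b ≫ π
  haveI : IsFinite πZ := inferInstance
  have haπ : a ≫ πZ = v ≫ U.ι := by
    simp only [πZ]; rw [← Category.assoc, hab, hjπ]
  -- points of the image lying over `U` come from `V`
  have key : ∀ z : j.image, πZ z ∈ U → z ∈ Set.range a := by
    intro z hz
    let l : V ⟶ pullback πZ U.ι := pullback.lift a v haπ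
    have hl1 : l ≫ pullback.fst πZ U.ι = a := pullback.lift_fst _ _ _
    have hl2 : l ≫ pullback.snd πZ U.ι = v := pullback.lift_snd _ _ _
    haveI : IsProper (l ≫ pullback.snd πZ U.ι) := by rw [hl2]; infer_instance
    haveI : IsProper l := IsProper.of_comp l (pullback.snd πZ U.ι)
    have hl_closed : IsClosed (Set.range l) := l.isClosedMap.isClosed_range
    have hinj : Function.Injective (pullback.fst πZ U.ι) :=
      (pullback.fst πZ U.ι).isOpenEmbedding.injective
    have hl_dense : Dense (Set.range l) := by
      rw [dense_iff_inter_open]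
      intro W hW hWne
      have hopen : IsOpen ((pullback.fst πZ U.ι) '' W) :=
        (pullback.fst πZ U.ι).isOpenEmbedding.isOpenMap W hW
      have hne : ((pullback.fst πZ U.ι) '' W).Nonempty := hWne.image _
      obtain ⟨_, ⟨p, hpW, rfl⟩, ⟨w, hw⟩⟩ := (dense_iff_inter_open.mp a.denseRange) _ hopen hne
      refine ⟨p, hpW, w, ?_⟩
      apply hinj
      rw [← hw, ← hl1]; rfl
    have hl_surj : Set.range l = Set.univ := by
      rw [← hl_closed.closure_eq]; exact hl_dense.closure_eq
    obtain ⟨p, hp1, hp2⟩ := Scheme.Pullback.exists_preimage_pullback (f := πZ) (g := U.ι) z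
      (⟨πZ z, hz⟩ : U) rfl
    obtain ⟨w, hw⟩ : p ∈ Set.range l := hl_surj ▸ Set.mem_univ p
    refine ⟨w, ?_⟩
    rw [← hp1, ← hw, ← hl1]; rfl
  -- the reduced closed complement of `U`
  let C : S.IdealSheafData :=
    Scheme.IdealSheafData.vanishingIdeal ⟨(U : Set S)ᶜ, U.isOpen.isClosed_compl⟩
  have hC : Set.range C.subschemeι = (U : Set S)ᶜ := by
    rw [Scheme.IdealSheafData.range_subschemeι, Scheme.IdealSheafData.coe_support_vanishingIdeal]
    rfl
  let π' : j.image ⨿ C.subscheme ⟶ S := coprod.desc πZ C.subschemeι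
  let i : V ⟶ j.image ⨿ C.subscheme := a ≫ coprod.inl
  have hi : i ≫ π' = v ≫ U.ι := by
    simp only [i, π', Category.assoc, coprod.inl_desc]; exact haπ
  refine ⟨_, π', i, ⟨fun s => ?_⟩, inferInstance, ?_⟩
  · by_cases hs : s ∈ U
    · obtain ⟨w, hw⟩ := v.surjective ⟨s, hs⟩
      refine ⟨i w, ?_⟩
      have : (i ≫ π') w = (v ≫ U.ι) w := by rw [hi]
      simp only [Scheme.Hom.comp_apply] at this
      rw [this, hw]
      rfl
    · obtain ⟨c, hc⟩ : s ∈ Set.range C.subschemeι := by rw [hC]; exact hs
      refine ⟨(coprod.inr : C.subscheme ⟶ j.image ⨿ C.subscheme) c, ?_⟩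
      have : ((coprod.inr : C.subscheme ⟶ j.image ⨿ C.subscheme) ≫ π') c = C.subschemeι c := by
        simp only [π', coprod.inr_desc]
      simpa [Scheme.Hom.comp_apply] using this.trans hc
  · let l' : V ⟶ pullback π' U.ι := pullback.lift i v hi
    have hl1 : l' ≫ pullback.fst π' U.ι = i := pullback.lift_fst _ _ _
    have hl2 : l' ≫ pullback.snd π' U.ι = v := pullback.lift_snd _ _ _
    haveI : IsOpenImmersion (l' ≫ pullback.fst π' U.ι) := by rw [hl1]; infer_instance
    haveI : IsOpenImmersion l' := IsOpenImmersion.of_comp l' (pullback.fst π' U.ι)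
    have hinj : Function.Injective (pullback.fst π' U.ι) :=
      (pullback.fst π' U.ι).isOpenEmbedding.injective
    have hsurj : Function.Surjective l' := by
      intro q
      have hq : π' (pullback.fst π' U.ι q) = U.ι (pullback.snd π' U.ι q) := by
        have := congr($(pullback.condition (f := π') (g := U.ι)) q)
        simpa [Scheme.Hom.comp_apply] using this
      have hqU : π' (pullback.fst π' U.ι q) ∈ U := by
        rw [hq]; exact (pullback.snd π' U.ι q).2
      have hcases := (isCompl_range_inl_inr j.image C.subscheme).codisjoint.top_le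
        (Set.mem_univ (pullback.fst π' U.ι q))
      rcases hcases with ⟨z, hz⟩ | ⟨c, hc⟩
      · have hzU : πZ z ∈ U := by
          have : ((coprod.inl : j.image ⟶ j.image ⨿ C.subscheme) ≫ π') z = πZ z := by
            simp only [π', coprod.inl_desc]
          rw [← this, Scheme.Hom.comp_apply, hz]; exact hqU
        obtain ⟨w, hw⟩ := key z hzU
        refine ⟨w, hinj ?_⟩
        have : (l' ≫ pullback.fst π' U.ι) w = i w := by rw [hl1]
        rw [Scheme.Hom.comp_apply] at this
        rw [this, ← hz, ← hw]; rfl
      · exfalso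
        have h1 : C.subschemeι c ∈ (U : Set S)ᶜ := by rw [← hC]; exact ⟨c, rfl⟩
        apply h1
        have : ((coprod.inr : C.subscheme ⟶ j.image ⨿ C.subscheme) ≫ π') c = C.subschemeι c := by
          simp only [π', coprod.inr_desc]
        rw [← this, Scheme.Hom.comp_apply, hc]; exact hqU
    haveI : IsIso l' := by
      apply isIso_of_isOpenImmersion_of_opensRange_eq_top
      apply TopologicalSpace.Opens.ext
      simpa using hsurj.range_eq
    exact IsPullback.of_iso_pullback ⟨hi⟩ (asIso l') hl1 hl2

end Groth.Agent.S1376
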