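import Groth.Statements.S1377
import Mathlib.AlgebraicGeometry.Normalization
import Mathlib.AlgebraicGeometry.IdealSheaf.Subscheme

set_option autoImplicit false
universe u
open FlatMor

namespace Groth.Agent.S1377

open AlgebraicGeometry CategoryTheory Limits in
/-- Claim A: the normalization of `S` in `V` restricts to `V` over `U`. -/
lemma isPullback_toNormalization {S V : Scheme.{u}} (U : S.Opens) [QuasiCompact U.ι]
    (v : V ⟶ (U : Scheme.{u})) [IsIntegralHom v] :
    IsPullback (v ≫ U.ι).toNormalization v (v ≫ U.ι).fromNormalization U.ι := by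
  have hpb0 : IsPullback (𝟙 V) v (v ≫ U.ι) U.ι := by
    convert! (IsPullback.of_id_fst (f := v)).paste_vert (IsKernelPair.id_of_mono U.ι) using 1
  let e₁ : V ≅ pullback (v ≫ U.ι) U.ι := hpb0.isoPullback
  have he₁fst : e₁.hom ≫ pullback.fst _ _ = 𝟙 V := hpb0.isoPullback_hom_fst
  have he₁snd : e₁.hom ≫ pullback.snd _ _ = v := hpb0.isoPullback_hom_snd
  have hsnd : pullback.snd (v ≫ U.ι) U.ι = e₁.inv ≫ v := by
    rw [Iso.eq_inv_comp, he₁snd]
  have : IsIntegralHom (pullback.snd (v ≫ U.ι) U.ι) := by
    rw [hsnd]; infer_instance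
  let e : V ⟶ pullback (v ≫ U.ι).fromNormalization U.ι :=
    e₁.hom ≫ (pullback.snd (v ≫ U.ι) U.ι).toNormalization ≫ (v ≫ U.ι).normalizationPullback U.ι
  have : IsIso e := by dsimp only [e]; infer_instance
  refine IsPullback.of_iso_pullback ⟨by simp⟩ (asIso e) ?_ ?_
  · simp [e, reassoc_of% he₁fst]
  · simp [e, he₁snd]

open AlgebraicGeometry CategoryTheory Limits in
/-- Let S be a scheme, U ⊆ S an open subscheme whose inclusion U → S is quasi-compact (U retrocompact in
S), and V → U a surjective integral morphism. Then there are a scheme V' and a surjective integral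
morphism V' → S whose base change to U is V → U. (The published statement puts no condition on U,
and in that generality it is false: e.g. S = Spec ∏_i ℤ/4^i with U = D(2) ∪ ⋃_i D(e_i), e_i the
idempotents, and V equal to U except that over D(2) it is cut out by x = (2^i)_i. Stated here with U
→ S quasi-compact, under which hypothesis the published argument applies.) -/
theorem result {S V : Scheme.{u}} (U : S.Opens) [QuasiCompact U.ι]
    (v : V ⟶ (U : Scheme.{u})) [IsIntegralHom v] [Surjective v] :
    ∃ (V' : Scheme.{u}) (π : V' ⟶ S) (i : V ⟶ V'), Surjective π ∧ IsIntegralHom π ∧ IsPullback i v π U.ι := by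
  have hA := isPullback_toNormalization U v
  -- the closed complement with its reduced structure
  let Zc : TopologicalSpace.Closeds S := ⟨(U : Set S)ᶜ, U.2.isClosed_compl⟩
  let I : S.IdealSheafData := Scheme.IdealSheafData.vanishingIdeal Zc
  have hIrange : Set.range I.subschemeι = (U : Set S)ᶜ := by
    rw [Scheme.IdealSheafData.range_subschemeι, Scheme.IdealSheafData.coe_support_vanishingIdeal]
    rfl
  have hopen : IsOpenImmersion (v ≫ U.ι).toNormalization :=
    MorphismProperty.of_isPullback (P := @IsOpenImmersion) hA.flip inferInstance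
  have hrange : Set.range (v ≫ U.ι).toNormalization =
      (v ≫ U.ι).fromNormalization ⁻¹' (U : Set S) := by
    have h1 : (v ≫ U.ι).toNormalization = hA.isoPullback.hom ≫ pullback.fst _ _ :=
      hA.isoPullback_hom_fst.symm
    have h2 : Set.range hA.isoPullback.hom = Set.univ :=
      Set.range_eq_univ.mpr hA.isoPullback.hom.surjective
    rw [h1, Scheme.Hom.comp_base, TopCat.coe_comp, Set.range_comp, h2, Set.image_univ,
      Scheme.Pullback.range_fst]
    simp
  have hcomm : ((v ≫ U.ι).toNormalization ≫ coprod.inl) ≫
      coprod.desc (v ≫ U.ι).fromNormalization I.subschemeι = v ≫ U.ι := by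
    rw [Category.assoc, coprod.inl_desc, Scheme.Hom.toNormalization_fromNormalization]
  refine ⟨(v ≫ U.ι).normalization ⨿ I.subscheme,
    coprod.desc (v ≫ U.ι).fromNormalization I.subschemeι,
    (v ≫ U.ι).toNormalization ≫ coprod.inl, ?_, inferInstance, ?_⟩
  · constructor
    intro s
    by_cases hs : s ∈ U
    · obtain ⟨x, hx⟩ := v.surjective ⟨s, hs⟩
      refine ⟨((v ≫ U.ι).toNormalization ≫ coprod.inl) x, ?_⟩
      rw [← Scheme.Hom.comp_apply, hcomm, Scheme.Hom.comp_apply, hx]
      rfl
    · obtain ⟨z, hz⟩ : s ∈ Set.range I.subschemeι := hIrange ▸ hs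
      exact ⟨(coprod.inr : I.subscheme ⟶ _) z, by
        rw [← Scheme.Hom.comp_apply, coprod.inr_desc, hz]⟩
  · refine (IsOpenImmersion.isPullback v ((v ≫ U.ι).toNormalization ≫ coprod.inl) U.ι
      (coprod.desc (v ≫ U.ι).fromNormalization I.subschemeι) hcomm ?_).flip
    ext x
    obtain ⟨x | x, rfl⟩ := (coprodMk _ _).surjective x
    · rw [coprodMk_inl]
      have e1 : (coprod.desc (v ≫ U.ι).fromNormalization I.subschemeι)
          ((coprod.inl : (v ≫ U.ι).normalization ⟶ _) x) = (v ≫ U.ι).fromNormalization x := by
        rw [← Scheme.Hom.comp_apply, coprod.inl_desc]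
      constructor
      · intro hx
        have hx' : (v ≫ U.ι).fromNormalization x ∈ (U : Set S) := by
          have : (coprod.desc (v ≫ U.ι).fromNormalization I.subschemeι)
              ((coprod.inl : (v ≫ U.ι).normalization ⟶ _) x) ∈ Set.range U.ι := hx
          rw [e1] at this
          simpa using this
        obtain ⟨y, hy⟩ : x ∈ Set.range (v ≫ U.ι).toNormalization := by rw [hrange]; exact hx'
        exact ⟨y, by rw [Scheme.Hom.comp_apply, hy]⟩
      · rintro ⟨y, hy⟩
        have hinj : Function.Injective (coprod.inl : (v ≫ U.ι).normalization ⟶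
            (v ≫ U.ι).normalization ⨿ I.subscheme) :=
          (Scheme.Hom.isOpenEmbedding _).injective
        have hyx : (v ≫ U.ι).toNormalization y = x := hinj (by rw [← hy, Scheme.Hom.comp_apply])
        have hx' : (v ≫ U.ι).fromNormalization x ∈ (U : Set S) := by
          have : x ∈ Set.range (v ≫ U.ι).toNormalization := ⟨y, hyx⟩
          rw [hrange] at this; exact this
        show (coprod.desc (v ≫ U.ι).fromNormalization I.subschemeι)
              ((coprod.inl : (v ≫ U.ι).normalization ⟶ _) x) ∈ Set.range U.ι
        rw [e1]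
        simpa using hx'
    · rw [coprodMk_inr]
      have e1 : (coprod.desc (v ≫ U.ι).fromNormalization I.subschemeι)
          ((coprod.inr : I.subscheme ⟶ _) x) = I.subschemeι x := by
        rw [← Scheme.Hom.comp_apply, coprod.inr_desc]
      constructor
      · intro hx
        exfalso
        have : (coprod.desc (v ≫ U.ι).fromNormalization I.subschemeι)
              ((coprod.inr : I.subscheme ⟶ _) x) ∈ Set.range U.ι := hx
        rw [e1] at this
        have h2 : I.subschemeι x ∈ (U : Set S)ᶜ := hIrange ▸ ⟨x, rfl⟩
        exact h2 (by simpa using this)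
      · rintro ⟨y, hy⟩
        exfalso
        rw [Scheme.Hom.comp_apply] at hy
        exact Set.disjoint_iff_forall_ne.mp (isCompl_range_inl_inr _ _).disjoint ⟨_, rfl⟩ ⟨x, rfl⟩ hy

end Groth.Agent.S1377
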