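import Groth.Statements.S13771
import Groth.Agent.Lib.Helper22PLieQuot

set_option autoImplicit false
universe u v w
open PLie

namespace Groth.Agent.S13771

/-- Let R be a commutative ring of prime characteristic p, L₁ and L₂ Lie algebras over R, φ a p-mapping
on L₁ and f : L₁ → L₂ a morphism of Lie algebras whose kernel is stable under φ (a p-ideal). Then
the image f(L₁), a Lie subalgebra of L₂, carries exactly one p-mapping ψ for which the corestriction
of f to its image is a morphism of p-Lie algebras, i.e. ψ (f x) = f (φ x) for all x. -/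
theorem result (R : Type u) [CommRing R] (p : ℕ) [Fact p.Prime] [CharP R p]
    (L₁ : Type v) [LieRing L₁] [LieAlgebra R L₁] (L₂ : Type w) [LieRing L₂] [LieAlgebra R L₂]
    (φ : PLie.PMap R p L₁) (f : L₁ →ₗ⁅R⁆ L₂) (hker : ∀ x : L₁, f x = 0 → f (φ x) = 0) :
    ∃! ψ : PLie.PMap R p f.range, PLie.IsPHom φ ψ f.rangeRestrict := by
  apply Groth.Agent.Lib.Helper22.exists_unique_pmap_of_surjective φ f.rangeRestrict
    f.surjective_rangeRestrict
  intro x hx
  have h0 : f x = 0 := by
    have := congrArg Subtype.val hx
    simpa [LieHom.rangeRestrict_apply] using this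
  apply Subtype.ext
  rw [LieHom.rangeRestrict_apply]
  exact hker x h0

end Groth.Agent.S13771
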