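import Groth.Statements.S13775
import Mathlib.Algebra.Lie.Abelian
import Mathlib.Tactic.Abel
import Mathlib.Algebra.CharP.Lemmas

set_option autoImplicit false
universe u v
open PLie

namespace Groth.Agent.S13775

/-- Let R be a commutative ring of prime characteristic p and L a Lie algebra over R, free as a module
with basis x = bs 0, y = bs 1, z = bs 2 and brackets [x,y] = y, [x,z] = y + z, [y,z] = 0. Then L
carries no p-mapping. (The published statement is the corresponding entry of the classification
table of three-dimensional Lie algebras over an algebraically closed field of characteristic p; this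
row states it over every commutative ring of characteristic p.) -/
theorem result (R : Type u) [CommRing R] (p : ℕ) [Fact p.Prime] [CharP R p]
    (L : Type v) [LieRing L] [LieAlgebra R L] (bs : Module.Basis (Fin 3) R L)
    (hxy : ⁅bs 0, bs 1⁆ = bs 1) (hxz : ⁅bs 0, bs 2⁆ = bs 1 + bs 2) (hyz : ⁅bs 1, bs 2⁆ = 0) :
    IsEmpty (PLie.PMap R p L) := by
  constructor
  intro φ
  have hnt : Nontrivial R := CharP.nontrivial_of_char_ne_one (R := R) (v := p)
    (Fact.out : p.Prime).ne_one
  set w := φ (bs 0) with hw
  have had : ∀ v : L, ⁅w, v⁆ = (LieAlgebra.ad R L (bs 0) ^ p) v := by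
    intro v; rw [hw, ← φ.ad_map (bs 0)]; rfl
  have hA : ∀ n : ℕ, (LieAlgebra.ad R L (bs 0) ^ n) (bs 1) = bs 1 := by
    intro n
    induction n with
    | zero => simp
    | succ n ih => rw [pow_succ', Module.End.mul_apply, ih, LieAlgebra.ad_apply, hxy]
  have hB : ∀ n : ℕ, (LieAlgebra.ad R L (bs 0) ^ n) (bs 2) = (n : R) • bs 1 + bs 2 := by
    intro n
    induction n with
    | zero => simp
    | succ n ih =>
      rw [pow_succ', Module.End.mul_apply, ih, LieAlgebra.ad_apply, lie_add, lie_smul, hxy, hxz,
        Nat.cast_succ, add_smul, one_smul]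
      abel
  have h21 : ⁅bs 2, bs 1⁆ = 0 := by rw [← lie_skew, hyz, neg_zero]
  have hwrepr : w = bs.repr w 0 • bs 0 + bs.repr w 1 • bs 1 + bs.repr w 2 • bs 2 := by
    conv_lhs => rw [← bs.sum_repr w, Fin.sum_univ_three]
  have e1 : ⁅w, bs 1⁆ = bs.repr w 0 • bs 1 := by
    conv_lhs => rw [hwrepr]
    simp only [add_lie, smul_lie, hxy, lie_self, h21, smul_zero, add_zero]
  have e2 : ⁅w, bs 2⁆ = bs.repr w 0 • (bs 1 + bs 2) := by
    conv_lhs => rw [hwrepr]
    simp only [add_lie, smul_lie, hxz, hyz, lie_self, smul_zero, add_zero]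
  rw [had, hA] at e1
  rw [had, hB, CharP.cast_eq_zero, zero_smul, zero_add] at e2
  have c1 := congrArg (fun v => bs.repr v 1) e1
  have c2 := congrArg (fun v => bs.repr v 1) e2
  simp at c1 c2
  rw [← c2] at c1
  exact one_ne_zero c1

end Groth.Agent.S13775
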