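import Groth.Statements.S13776
import Mathlib
import Groth.Agent.Lib.Helper22PLieSemi

set_option autoImplicit false
universe u v
open PLie

namespace Groth.Agent.S13776

/-- Let R be a commutative ring of prime characteristic p, t ∈ R, and L a Lie algebra over R, free as a
module with basis x = bs 0, y = bs 1, z = bs 2 and brackets [x,y] = y, [x,z] = t • z, [y,z] = 0.
Then L carries a p-mapping if and only if t ^ p = t. (The published statement is the corresponding
entry of the classification table over an algebraically closed field of characteristic p, where the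
condition reads: t lies in the prime field; this row states it over every commutative ring of
characteristic p.) -/
theorem result (R : Type u) [CommRing R] (p : ℕ) [Fact p.Prime] [CharP R p] (t : R)
    (L : Type v) [LieRing L] [LieAlgebra R L] (bs : Module.Basis (Fin 3) R L)
    (hxy : ⁅bs 0, bs 1⁆ = bs 1) (hxz : ⁅bs 0, bs 2⁆ = t • bs 2) (hyz : ⁅bs 1, bs 2⁆ = 0) :
    Nonempty (PLie.PMap R p L) ↔ t ^ p = t := by
  have hprime := (Fact.out : p.Prime)
  have hp2 : 2 ≤ p := hprime.two_le
  have hDx : LieAlgebra.ad R L (bs 0) (bs 0) = 0 := by simp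
  have hDy : LieAlgebra.ad R L (bs 0) (bs 1) = bs 1 := by simp [hxy]
  have hDz : LieAlgebra.ad R L (bs 0) (bs 2) = t • bs 2 := by simp [hxz]
  have hpow0 : ∀ k : ℕ, (LieAlgebra.ad R L (bs 0) ^ (k + 1)) (bs 0) = 0 := by
    intro k
    rw [pow_succ, Module.End.mul_apply, hDx, map_zero]
  have hpow1 : ∀ k : ℕ, (LieAlgebra.ad R L (bs 0) ^ k) (bs 1) = bs 1 := by
    intro k
    induction k with
    | zero => simp
    | succ k ih => rw [pow_succ, Module.End.mul_apply, hDy, ih]
  have hpow2 : ∀ k : ℕ, (LieAlgebra.ad R L (bs 0) ^ k) (bs 2) = t ^ k • bs 2 := by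
    intro k
    induction k with
    | zero => simp
    | succ k ih => rw [pow_succ, Module.End.mul_apply, hDz, map_smul, ih, smul_smul, ← pow_succ']
  have h1 := Groth.Agent.Lib.Helper22.PLieSemi.coord_zero_self bs
  have h2 := Groth.Agent.Lib.Helper22.PLieSemi.h2_of_basis bs hyz
  have c1 : bs.coord 1 (bs 1) = 1 := by simp [Module.Basis.coord_apply]
  have c2 : bs.coord 2 (bs 2) = 1 := by simp [Module.Basis.coord_apply]
  constructor
  · rintro ⟨φ⟩
    have had := φ.ad_map (bs 0)
    have e1 := LinearMap.congr_fun had (bs 1)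
    have e2 := LinearMap.congr_fun had (bs 2)
    rw [LieAlgebra.ad_apply, hpow1, h2, Groth.Agent.Lib.Helper22.PLieSemi.coord_zero_one, zero_smul, sub_zero,
      hxy] at e1
    rw [LieAlgebra.ad_apply, hpow2, h2, Groth.Agent.Lib.Helper22.PLieSemi.coord_zero_two, zero_smul, sub_zero,
      hxz] at e2
    have f1 := congrArg (bs.coord 1) e1
    rw [map_smul, c1, smul_eq_mul, mul_one] at f1
    rw [f1, one_smul] at e2
    have f2 := congrArg (bs.coord 2) e2
    rw [map_smul, map_smul, c2, smul_eq_mul, smul_eq_mul, mul_one, mul_one] at f2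
    exact f2.symm
  · intro ht
    have h3 := Groth.Agent.Lib.Helper22.PLieSemi.h3_of_basis bs
      (by rw [hxy]; exact Groth.Agent.Lib.Helper22.PLieSemi.coord_zero_one bs)
      (by rw [hxz, map_smul, Groth.Agent.Lib.Helper22.PLieSemi.coord_zero_two]; simp)
    have hDp : LieAlgebra.ad R L (bs 0) ^ p = LieAlgebra.ad R L (bs 0) := by
      apply bs.ext
      intro i
      fin_cases i
      · have e : p = (p - 1) + 1 := by omega
        show (LieAlgebra.ad R L (bs 0) ^ p) (bs 0) = LieAlgebra.ad R L (bs 0) (bs 0)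
        rw [e, hpow0, hDx]
      · show (LieAlgebra.ad R L (bs 0) ^ p) (bs 1) = LieAlgebra.ad R L (bs 0) (bs 1)
        rw [hpow1, hDy]
      · show (LieAlgebra.ad R L (bs 0) ^ p) (bs 2) = LieAlgebra.ad R L (bs 0) (bs 2)
        rw [hpow2, hDz, ht]
    have h4 : ∀ v : L, (LieAlgebra.ad R L (bs 0) ^ p) v = (1 : R) • ⁅bs 0, v⁆ := by
      intro v
      rw [hDp, one_smul]
      rfl
    obtain ⟨φ, -⟩ := Groth.Agent.Lib.Helper22.PLieSemi.exists_pmap p (bs 0) (bs.coord 0) 1 h1 h2 h3 h4
    exact ⟨φ⟩

end Groth.Agent.S13776
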