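import Groth.Statements.S13778
import Mathlib
import Groth.Agent.Lib.Helper11Dual3
import Groth.Agent.Lib.Helper11JacobsonF

set_option autoImplicit false
universe u v
open PLie

namespace Groth.Agent.S13778

open DualNumber Groth.Agent.Lib.Helper11Dual3 Groth.Agent.Lib.Helper11Jacobson

/-- geometric sum -/
noncomputable def gs {K : Type u} [Field K] (t : K) (n : ℕ) : K := ∑ k ∈ Finset.range n, t ^ k

theorem gs_one {K : Type u} [Field K] (t : K) : gs t 1 = 1 := by simp [gs]

theorem gs_succ {K : Type u} [Field K] (t : K) (n : ℕ) : gs t (n + 1) = gs t n + t ^ n := by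
  simp [gs, Finset.sum_range_succ]

theorem gs_succ' {K : Type u} [Field K] (t : K) (n : ℕ) : gs t (n + 1) = 1 + t * gs t n := by
  simp only [gs]
  rw [geom_sum_succ, add_comm]

theorem gs_mul {K : Type u} [Field K] (t : K) (n : ℕ) : gs t n * (t - 1) = t ^ n - 1 := by
  simp only [gs]
  exact geom_sum_mul t n

theorem gs_one_left {K : Type u} [Field K] (n : ℕ) : gs (1 : K) n = n := by
  simp [gs]

theorem fstT {K : Type u} [Field K] (t : K) :
    TrivSqZeroExt.fst (algebraMap K (DualNumber K) t) = t := by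
  simp [TrivSqZeroExt.algebraMap_eq_inl]

theorem sndT {K : Type u} [Field K] (t : K) :
    TrivSqZeroExt.snd (algebraMap K (DualNumber K) t) = 0 := by
  simp [TrivSqZeroExt.algebraMap_eq_inl]

section Facts

variable {K : Type u} [Field K] {t a b c d e f g h i : K}
  {L : Type v} [LieRing L] [LieAlgebra (DualNumber K) L]
  {bs : Module.Basis (Fin 3) (DualNumber K) L}
  (hxy : ⁅bs 0, bs 1⁆ = V bs (a • ε : DualNumber K) (1 + b • ε) (c • ε))
  (hxz : ⁅bs 0, bs 2⁆ = V bs (d • ε : DualNumber K) (e • ε) (algebraMap K (DualNumber K) t + f • ε))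
  (hyz : ⁅bs 1, bs 2⁆ = V bs (g • ε : DualNumber K) (h • ε) (i • ε))

include hxy hxz hyz

/-- bracket of a general vector with a general vector, in coordinates -/
theorem brV (α β γ α' β' γ' : DualNumber K) :
    ⁅V bs α β γ, V bs α' β' γ'⁆ =
      V bs ((α * β' - β * α') * a • ε + (α * γ' - γ * α') * d • ε + (β * γ' - γ * β') * g • ε)
        ((α * β' - β * α') * (1 + b • ε) + (α * γ' - γ * α') * e • ε + (β * γ' - γ * β') * h • ε)
        ((α * β' - β * α') * c • ε + (α * γ' - γ * α') * (algebraMap K (DualNumber K) t + f • ε)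
          + (β * γ' - γ * β') * i • ε) :=
  bracket_V bs hxy hxz hyz α β γ α' β' γ'

theorem jac : d = t * h := by
  have br := brV hxy hxz hyz
  have h1 := leibniz_lie (bs 0) (bs 1) (bs 2)
  rw [hxy, hxz, hyz] at h1
  rw [b0 bs, b1 bs, b2 bs] at h1
  simp only [br, V_add] at h1
  obtain ⟨-, h0, -⟩ := V_inj bs h1
  have h2 := congrArg TrivSqZeroExt.snd h0
  simp [fstT, sndT] at h2
  linear_combination -h2

/-- `ad x` on a general vector -/
theorem adx (α β γ : DualNumber K) :
    ⁅bs 0, V bs α β γ⁆ = V bs (β * a • ε + γ * d • ε) (β * (1 + b • ε) + γ * e • ε)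
      (β * c • ε + γ * (algebraMap K (DualNumber K) t + f • ε)) := by
  nth_rewrite 1 [b0 bs]
  rw [brV hxy hxz hyz]
  apply V_congr <;> ring

theorem ady (α β γ : DualNumber K) :
    ⁅bs 1, V bs α β γ⁆ = V bs (-α * a • ε + γ * g • ε) (-α * (1 + b • ε) + γ * h • ε)
      (-α * c • ε + γ * i • ε) := by
  nth_rewrite 1 [b1 bs]
  rw [brV hxy hxz hyz]
  apply V_congr <;> ring

theorem adz (α β γ : DualNumber K) :
    ⁅bs 2, V bs α β γ⁆ = V bs (-α * d • ε - β * g • ε) (-α * e • ε - β * h • ε)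
      (-α * (algebraMap K (DualNumber K) t + f • ε) - β * i • ε) := by
  nth_rewrite 1 [b2 bs]
  rw [brV hxy hxz hyz]
  apply V_congr <;> ring

theorem ady2 (α β γ : DualNumber K) : ⁅bs 1, ⁅bs 1, V bs α β γ⁆⁆ =
    V bs 0 (α * a • ε - γ * g • ε) 0 := by
  rw [ady hxy hxz hyz, ady hxy hxz hyz]
  apply V_congr <;> ext <;> simp [fstT, sndT] <;> ring

theorem ady3 (α β γ : DualNumber K) : ⁅bs 1, ⁅bs 1, ⁅bs 1, V bs α β γ⁆⁆⁆ = 0 := by
  rw [ady2 hxy hxz hyz, ady hxy hxz hyz, ← V_zero bs]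
  apply V_congr <;> ext <;> simp [fstT, sndT]

theorem adz2 (α β γ : DualNumber K) : ⁅bs 2, ⁅bs 2, V bs α β γ⁆⁆ =
    V bs 0 0 ((α * (d * t) • ε + β * (g * t) • ε)) := by
  rw [adz hxy hxz hyz, adz hxy hxz hyz]
  apply V_congr <;> ext <;> simp [fstT, sndT] <;> ring

theorem adz3 (α β γ : DualNumber K) : ⁅bs 2, ⁅bs 2, ⁅bs 2, V bs α β γ⁆⁆⁆ = 0 := by
  rw [adz2 hxy hxz hyz, adz hxy hxz hyz, ← V_zero bs]
  apply V_congr <;> ext <;> simp [fstT, sndT]

/-- closed form for the powers of `ad x` -/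
theorem adx_pow (n : ℕ) (α β γ : DualNumber K) :
    (LieAlgebra.ad (DualNumber K) L (bs 0) ^ (n + 1)) (V bs α β γ) =
      V bs (β * a • ε + γ * (t ^ n * d) • ε)
        (β * (1 + (((n + 1 : ℕ) : K) * b) • ε) + γ * (e * gs t (n + 1)) • ε)
        (β * (c * gs t (n + 1)) • ε + γ * (algebraMap K (DualNumber K) (t ^ (n + 1))
          + (((n + 1 : ℕ) : K) * t ^ n * f) • ε)) := by
  induction n with
  | zero =>
    rw [zero_add, pow_one, LieAlgebra.ad_apply, adx hxy hxz hyz]
    apply V_congr <;> ext <;> simp [gs_one, fstT, sndT]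
  | succ n ih =>
    rw [ad_pow_succ_apply, ih, adx hxy hxz hyz]
    apply V_congr
    · ext <;> simp [fstT, sndT] <;> ring
    · rw [gs_succ t (n + 1)]
      ext <;> simp [fstT, sndT] <;> ring
    · rw [gs_succ' t (n + 1)]
      ext <;> simp [fstT, sndT] <;> ring

end Facts

theorem gs_p_of_ne {K : Type u} [Field K] {t : K} (p : ℕ) (ht : t ^ p = t) (h1 : t ≠ 1) :
    gs t p = 1 := by
  have h2 := gs_mul t p
  rw [ht] at h2
  exact mul_right_cancel₀ (sub_ne_zero.mpr h1) (by rw [h2, one_mul])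

theorem gs_p_of_eq {K : Type u} [Field K] (p : ℕ) [CharP K p] : gs (1 : K) p = 0 := by
  rw [gs_one_left]
  exact CharP.cast_eq_zero K p

section Facts2

variable {K : Type u} [Field K] {t a b c d e f g h i : K}
  {L : Type v} [LieRing L] [LieAlgebra (DualNumber K) L]
  {bs : Module.Basis (Fin 3) (DualNumber K) L}
  (hxy : ⁅bs 0, bs 1⁆ = V bs (a • ε : DualNumber K) (1 + b • ε) (c • ε))
  (hxz : ⁅bs 0, bs 2⁆ = V bs (d • ε : DualNumber K) (e • ε) (algebraMap K (DualNumber K) t + f • ε))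
  (hyz : ⁅bs 1, bs 2⁆ = V bs (g • ε : DualNumber K) (h • ε) (i • ε))

include hxy hxz hyz

/-- `(ad x)^p` in closed form -/
theorem adx_pow_p (p : ℕ) [Fact p.Prime] [CharP K p] (ht : t ^ p = t) (α β γ : DualNumber K) :
    (LieAlgebra.ad (DualNumber K) L (bs 0) ^ p) (V bs α β γ) =
      V bs (β * a • ε + γ * (t ^ (p - 1) * d) • ε)
        (β + γ * (e * gs t p) • ε)
        (β * (c * gs t p) • ε + γ * algebraMap K (DualNumber K) t) := by
  have hp : p.Prime := Fact.out
  obtain ⟨n, rfl⟩ : ∃ n, p = n + 1 := ⟨p - 1, by have := hp.pos; omega⟩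
  rw [adx_pow hxy hxz hyz, ht, CharP.cast_eq_zero K (n + 1)]
  simp only [Nat.add_sub_cancel]
  apply V_congr <;> ext <;> simp [fstT, sndT]

theorem inner_x (p : ℕ) [Fact p.Prime] [CharP K p] (ht : t ^ p = t)
    (hf : b * t = f) (hce : t = 1 → c = 0 ∧ e = 0) :
    ∃ w : L, LieAlgebra.ad (DualNumber K) L (bs 0) ^ p = LieAlgebra.ad (DualNumber K) L w := by
  have hp : p.Prime := Fact.out
  have hd : t ^ (p - 1) * d = d := by
    rw [jac hxy hxz hyz, ← mul_assoc, pow_sub_one_mul hp.ne_zero, ht]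
  have hc : c * gs t p = c := by
    by_cases h1 : t = 1
    · rw [(hce h1).1, zero_mul]
    · rw [gs_p_of_ne p ht h1, mul_one]
  have he : e * gs t p = e := by
    by_cases h1 : t = 1
    · rw [(hce h1).2, zero_mul]
    · rw [gs_p_of_ne p ht h1, mul_one]
  refine ⟨V bs (1 - b • ε) 0 0, ?_⟩
  ext v
  rw [eq_V bs v, adx_pow_p hxy hxz hyz p ht, LieAlgebra.ad_apply, brV hxy hxz hyz, hd, hc, he]
  subst hf
  apply V_congr <;> ext <;> simp [fstT, sndT] <;> ring

theorem nec_x (p : ℕ) [Fact p.Prime] [CharP K p] (ht : t ^ p = t) (w : L)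
    (hw : LieAlgebra.ad (DualNumber K) L (bs 0) ^ p = LieAlgebra.ad (DualNumber K) L w) :
    b * t = f ∧ (t = 1 → c = 0 ∧ e = 0) := by
  have key : ∀ α β γ, (LieAlgebra.ad (DualNumber K) L (bs 0) ^ p) (V bs α β γ) = ⁅w, V bs α β γ⁆ := by
    intro α β γ
    have := LinearMap.congr_fun hw (V bs α β γ)
    simpa only [LieAlgebra.ad_apply] using this
  rw [eq_V bs w] at key
  set α := bs.repr w 0
  set β := bs.repr w 1
  set γ := bs.repr w 2
  have k0 := key 1 0 0
  have k1 := key 0 1 0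
  have k2 := key 0 0 1
  rw [adx_pow_p hxy hxz hyz p ht, brV hxy hxz hyz] at k0 k1 k2
  obtain ⟨k00, k01, k02⟩ := V_inj bs k0
  obtain ⟨k10, k11, k12⟩ := V_inj bs k1
  obtain ⟨k20, k21, k22⟩ := V_inj bs k2
  have e1 := congrArg TrivSqZeroExt.fst k01
  have e2 := congrArg TrivSqZeroExt.fst k02
  have e3 := congrArg TrivSqZeroExt.fst k11
  have e4 := congrArg TrivSqZeroExt.snd k11
  have e5 := congrArg TrivSqZeroExt.snd k12
  have e6 := congrArg TrivSqZeroExt.snd k22
  have e7 := congrArg TrivSqZeroExt.snd k21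
  simp [fstT, sndT] at e1 e2 e3 e4 e5 e6 e7
  have e2' : TrivSqZeroExt.fst γ * t = 0 := by rcases e2 with h' | h' <;> simp [h']
  refine ⟨?_, ?_⟩
  · linear_combination e6 - t * e4 + (b * t - f) * e3 + i * e1 + h * e2'
  · intro h1
    have hg : gs t p = 0 := by rw [h1]; exact gs_p_of_eq p
    refine ⟨?_, ?_⟩
    · linear_combination -e5 + c * hg + c * e3 + i * e2' - (i * TrivSqZeroExt.fst γ) * h1
    · linear_combination -e7 + e * hg + e * e3 - h * e1

theorem ady_pow3 : LieAlgebra.ad (DualNumber K) L (bs 1) ^ 3 = 0 := by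
  ext v
  rw [eq_V bs v]
  simp only [ad_pow_succ_apply, ad_pow_zero_apply]
  rw [ady3 hxy hxz hyz]
  rfl

theorem adz_pow3 : LieAlgebra.ad (DualNumber K) L (bs 2) ^ 3 = 0 := by
  ext v
  rw [eq_V bs v]
  simp only [ad_pow_succ_apply, ad_pow_zero_apply]
  rw [adz3 hxy hxz hyz]
  rfl

theorem inner_y (p : ℕ) (hp : p.Prime) (hg : p = 2 → g = 0) :
    ∃ w : L, LieAlgebra.ad (DualNumber K) L (bs 1) ^ p = LieAlgebra.ad (DualNumber K) L w := by
  by_cases h2 : p = 2
  · have hg' := hg h2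
    subst h2
    refine ⟨V bs 0 (-a • ε) 0, ?_⟩
    ext v
    rw [eq_V bs v]
    simp only [ad_pow_succ_apply, ad_pow_zero_apply]
    rw [ady2 hxy hxz hyz, LieAlgebra.ad_apply, brV hxy hxz hyz]
    subst hg'
    apply V_congr <;> ext <;> simp [fstT, sndT]
  · refine ⟨0, ?_⟩
    have h3 : 3 ≤ p := by
      have := hp.two_le
      omega
    rw [ad_pow_eq_zero_of_le (bs 1) h3 (ady_pow3 hxy hxz hyz), map_zero]

theorem inner_z (p : ℕ) (hp : p.Prime) (hg : p = 2 → g = 0) :
    ∃ w : L, LieAlgebra.ad (DualNumber K) L (bs 2) ^ p = LieAlgebra.ad (DualNumber K) L w := by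
  by_cases h2 : p = 2
  · have hg' := hg h2
    subst h2
    refine ⟨V bs 0 0 (-d • ε), ?_⟩
    ext v
    rw [eq_V bs v]
    simp only [ad_pow_succ_apply, ad_pow_zero_apply]
    rw [adz2 hxy hxz hyz, LieAlgebra.ad_apply, brV hxy hxz hyz]
    subst hg'
    apply V_congr <;> ext <;> simp [fstT, sndT] <;> ring
  · refine ⟨0, ?_⟩
    have h3 : 3 ≤ p := by
      have := hp.two_le
      omega
    rw [ad_pow_eq_zero_of_le (bs 2) h3 (adz_pow3 hxy hxz hyz), map_zero]

/-- necessity for `p = 2`, from `ad y` -/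
theorem nec_y (w : L)
    (hw : LieAlgebra.ad (DualNumber K) L (bs 1) ^ 2 = LieAlgebra.ad (DualNumber K) L w) :
    g = 0 := by
  have key : ∀ v : L, ⁅bs 1, ⁅bs 1, v⁆⁆ = ⁅w, v⁆ := by
    intro v
    have := LinearMap.congr_fun hw v
    simpa only [ad_pow_succ_apply, ad_pow_zero_apply, LieAlgebra.ad_apply] using this
  rw [eq_V bs w] at key
  set α := bs.repr w 0
  set β := bs.repr w 1
  set γ := bs.repr w 2
  have k0 := key (V bs 1 0 0)
  have k1 := key (V bs 0 1 0)
  have k2 := key (V bs 0 0 1)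
  rw [ady2 hxy hxz hyz, brV hxy hxz hyz] at k0 k1 k2
  obtain ⟨k00, k01, k02⟩ := V_inj bs k0
  obtain ⟨k10, k11, k12⟩ := V_inj bs k1
  obtain ⟨k20, k21, k22⟩ := V_inj bs k2
  have e1 := congrArg TrivSqZeroExt.fst k01
  have e2 := congrArg TrivSqZeroExt.fst k11
  have e3 := congrArg TrivSqZeroExt.snd k21
  simp [fstT, sndT] at e1 e2 e3
  linear_combination -e3 + e * e2 - h * e1

end Facts2

open DualNumber in

open DualNumber in
/-- Let K be a field of prime characteristic p, K[ε] the ring of dual numbers (taken with its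
characteristic-p structure), t ∈ K with t ^ p = t (an element of the prime field), and a, …, i ∈ K.
Let L be a Lie algebra over K[ε], free as a module with basis x = bs 0, y = bs 1, z = bs 2 and
brackets [x,y] = aε x + (1 + bε) y + cε z, [x,z] = dε x + eε y + (t + fε) z, [y,z] = gε x + hε y +
iε z. Then L carries a p-mapping over K[ε] if and only if b t = f, c = e = 0 when t = 1, and g = 0
when p = 2. (The published statement determines the singular locus of the restrictable locus in the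
centreless stratum of the moduli scheme of based three-dimensional Lie algebras, for t non-zero, and
the rank-one-centre stratum treats t = 0; this row states the restrictability criterion for the
first-order deformations of l_t that the proofs compute, over any field of characteristic p in place
of the prime field and for every t in the prime field.) -/
theorem result (K : Type u) [Field K] (p : ℕ) [Fact p.Prime] [CharP K p]
    [CharP (DualNumber K) p] (t a b c d e f g h i : K) (ht : t ^ p = t)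
    (L : Type v) [LieRing L] [LieAlgebra (DualNumber K) L] (bs : Module.Basis (Fin 3) (DualNumber K) L)
    (hxy : ⁅bs 0, bs 1⁆ = (a • ε : DualNumber K) • bs 0 + (1 + b • ε : DualNumber K) • bs 1 + (c • ε : DualNumber K) • bs 2)
    (hxz : ⁅bs 0, bs 2⁆ = (d • ε : DualNumber K) • bs 0 + (e • ε : DualNumber K) • bs 1 +
      (algebraMap K (DualNumber K) t + f • ε) • bs 2)
    (hyz : ⁅bs 1, bs 2⁆ = (g • ε : DualNumber K) • bs 0 + (h • ε : DualNumber K) • bs 1 + (i • ε : DualNumber K) • bs 2) :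
    Nonempty (PLie.PMap (DualNumber K) p L) ↔ (b * t = f ∧ (t = 1 → c = 0 ∧ e = 0) ∧ (p = 2 → g = 0)) := by
  have hp : p.Prime := Fact.out
  have hxy' : ⁅bs 0, bs 1⁆ = V bs (a • ε : DualNumber K) (1 + b • ε) (c • ε) := hxy
  have hxz' : ⁅bs 0, bs 2⁆ = V bs (d • ε : DualNumber K) (e • ε)
      (algebraMap K (DualNumber K) t + f • ε) := hxz
  have hyz' : ⁅bs 1, bs 2⁆ = V bs (g • ε : DualNumber K) (h • ε) (i • ε) := hyz
  constructor
  · rintro ⟨φ⟩
    obtain ⟨h1, h2⟩ := nec_x hxy' hxz' hyz' p ht (φ (bs 0)) (φ.ad_map (bs 0)).symm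
    refine ⟨h1, h2, ?_⟩
    intro hp2
    subst hp2
    exact nec_y hxy' hxz' hyz' (φ (bs 1)) (φ.ad_map (bs 1)).symm
  · rintro ⟨h1, h2, h3⟩
    obtain ⟨w0, hw0⟩ := inner_x hxy' hxz' hyz' p ht h1 h2
    obtain ⟨w1, hw1⟩ := inner_y hxy' hxz' hyz' p hp h3
    obtain ⟨w2, hw2⟩ := inner_z hxy' hxz' hyz' p hp h3
    obtain ⟨φ, -⟩ := exists_pmap (DualNumber K) p L bs ![w0, w1, w2] (by
      intro j
      fin_cases j
      · exact hw0
      · exact hw1
      · exact hw2)
    exact ⟨φ⟩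

end Groth.Agent.S13778
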