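import Groth.Statements.S13779
import Mathlib
import Groth.Agent.Lib.Helper22PLieSemi

set_option autoImplicit false
universe u v
open PLie

namespace Groth.Agent.S13779

/-- Let p be an odd prime, R a commutative ring of characteristic p, t ∈ R, and L a Lie algebra over R,
free as a module with basis x = bs 0, y = bs 1, z = bs 2 and brackets [x,y] = z, [x,z] = t • y,
[y,z] = 0. Then L carries a p-mapping φ with φ x = t ^ ((p - 1) / 2) • x, φ y = 0 and φ z = 0. (The
published statement concerns the Lie algebra with these brackets over a field of Laurent series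
k((t)), k algebraically closed of odd characteristic, t the variable; this row states its
restrictability over every commutative ring of odd prime characteristic and every t.) -/
theorem result (R : Type u) [CommRing R] (p : ℕ) [Fact p.Prime] [CharP R p] (hp : p ≠ 2)
    (t : R) (L : Type v) [LieRing L] [LieAlgebra R L] (bs : Module.Basis (Fin 3) R L)
    (hxy : ⁅bs 0, bs 1⁆ = bs 2) (hxz : ⁅bs 0, bs 2⁆ = t • bs 1) (hyz : ⁅bs 1, bs 2⁆ = 0) :
    ∃ φ : PLie.PMap R p L, φ (bs 0) = t ^ ((p - 1) / 2) • bs 0 ∧ φ (bs 1) = 0 ∧ φ (bs 2) = 0 := by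
  have hprime := (Fact.out : p.Prime)
  have hodd : p % 2 = 1 := hprime.eq_two_or_odd.resolve_left hp
  obtain ⟨m, hm⟩ : ∃ m, p = 2 * m + 1 := ⟨p / 2, by omega⟩
  have hm' : (p - 1) / 2 = m := by omega
  have hp3 : 3 ≤ p := by
    have := hprime.two_le
    omega
  have hDx : LieAlgebra.ad R L (bs 0) (bs 0) = 0 := by simp
  have hDy : LieAlgebra.ad R L (bs 0) (bs 1) = bs 2 := by simp [hxy]
  have hDz : LieAlgebra.ad R L (bs 0) (bs 2) = t • bs 1 := by simp [hxz]
  have hD3 : LieAlgebra.ad R L (bs 0) * LieAlgebra.ad R L (bs 0) * LieAlgebra.ad R L (bs 0) =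
      t • LieAlgebra.ad R L (bs 0) := by
    apply bs.ext
    intro i
    fin_cases i
    · simp [Module.End.mul_apply]
    · simp only [Module.End.mul_apply, LinearMap.smul_apply]
      show LieAlgebra.ad R L (bs 0) (LieAlgebra.ad R L (bs 0) (LieAlgebra.ad R L (bs 0) (bs 1))) =
        t • LieAlgebra.ad R L (bs 0) (bs 1)
      rw [hDy, hDz, map_smul, hDy]
    · simp only [Module.End.mul_apply, LinearMap.smul_apply]
      show LieAlgebra.ad R L (bs 0) (LieAlgebra.ad R L (bs 0) (LieAlgebra.ad R L (bs 0) (bs 2))) =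
        t • LieAlgebra.ad R L (bs 0) (bs 2)
      rw [hDz, map_smul, hDy, map_smul, hDz]
  have hDodd : ∀ k : ℕ, LieAlgebra.ad R L (bs 0) ^ (2 * k + 1) = t ^ k • LieAlgebra.ad R L (bs 0) := by
    intro k
    induction k with
    | zero => simp
    | succ k ih =>
      have e : 2 * (k + 1) + 1 = (2 * k + 1) + 2 := by ring
      rw [e, pow_add, ih, pow_two, smul_mul_assoc, ← mul_assoc, hD3, smul_smul, pow_succ]
  have h1 := Groth.Agent.Lib.Helper22.PLieSemi.coord_zero_self bs
  have h2 := Groth.Agent.Lib.Helper22.PLieSemi.h2_of_basis bs hyz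
  have h3 := Groth.Agent.Lib.Helper22.PLieSemi.h3_of_basis bs
    (by rw [hxy]; exact Groth.Agent.Lib.Helper22.PLieSemi.coord_zero_two bs)
    (by rw [hxz, map_smul, Groth.Agent.Lib.Helper22.PLieSemi.coord_zero_one]; simp)
  have h4 : ∀ v : L, (LieAlgebra.ad R L (bs 0) ^ p) v = t ^ m • ⁅bs 0, v⁆ := by
    intro v
    rw [hm, hDodd]
    rfl
  obtain ⟨φ, hφ⟩ := Groth.Agent.Lib.Helper22.PLieSemi.exists_pmap p (bs 0) (bs.coord 0) (t ^ m) h1 h2 h3 h4
  refine ⟨φ, ?_, ?_, ?_⟩
  · rw [hφ, h1, one_pow, one_mul, one_pow, one_smul, hm']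
    have : (LieAlgebra.ad R L (bs 0) ^ (p - 1)) (bs 0) = 0 := by
      have e : p - 1 = (p - 2) + 1 := by omega
      rw [e, pow_succ, Module.End.mul_apply, hDx, map_zero]
    rw [this, add_zero]
  · rw [hφ, Groth.Agent.Lib.Helper22.PLieSemi.coord_zero_one, zero_pow (by omega), zero_pow (by omega),
      zero_mul, zero_smul, zero_smul, add_zero]
  · rw [hφ, Groth.Agent.Lib.Helper22.PLieSemi.coord_zero_two, zero_pow (by omega), zero_pow (by omega),
      zero_mul, zero_smul, zero_smul, add_zero]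

end Groth.Agent.S13779
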