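import Groth.Statements.S13781
import Groth.Agent.Lib.Helper28RegEtale
-- import your own Groth.Agent.* helpers here

set_option autoImplicit false
universe u
open CAlg

namespace Groth.Agent.S13781
open Groth.Agent.Lib.Helper28 Polynomial

/-- Let A be a regular local ring, s a non-zero element of A such that A/(s) is regular, and e a
positive integer invertible in A. Then A[t]/(t^e - s) is regular. (Regularity of a ring is taken
throughout as: Noetherian, with every localization at a prime ideal a regular local ring; the
hypotheses on A and on A/(s) and the conclusion on A[t]/(t^e - s) are all read this way, which for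
the local rings A and A/(s) is the usual notion once localizations of regular local rings are known
to be regular.) -/
theorem result (A : Type u) [CommRing A] [IsLocalRing A]
    [IsRegularRing A] (s : A) (hs : s ≠ 0) (hreg : IsRegularRing (A ⧸ Ideal.span {s}))
    (e : ℕ) (he : 0 < e) (heu : IsUnit (e : A)) :
    IsRegularRing (AdjoinRoot (Polynomial.X ^ e - Polynomial.C s)) := by
  have hA : IsRegularLocalRing A := IsRegularLocalRing.of_isRegularRing_of_isLocalRing A
  have hdom : IsDomain A := Groth.Agent.Lib.Helper5.isDomain_of_isRegularLocalRing A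
  have hmonic : (X ^ e - C s : A[X]).Monic := monic_X_pow_sub_C s he.ne'
  have hfin : Module.Finite A (AdjoinRoot (X ^ e - C s : A[X])) := hmonic.finite_adjoinRoot
  have hfree : Module.Free A (AdjoinRoot (X ^ e - C s : A[X])) := hmonic.free_adjoinRoot
  have hNB : IsNoetherianRing (AdjoinRoot (X ^ e - C s : A[X])) :=
    IsNoetherianRing.of_finite A _
  have hrel := adjoinRoot_root_pow_eq s e
  refine { isRegularLocalRing_localization := fun Q hQ => ?_ }
  by_cases hsQ : AdjoinRoot.of (X ^ e - C s : A[X]) s ∈ Q
  · have hrootQ : AdjoinRoot.root (X ^ e - C s : A[X]) ∈ Q := by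
      rw [← hrel] at hsQ
      exact hQ.mem_of_pow_mem e hsQ
    have hsnzd : AdjoinRoot.of (X ^ e - C s : A[X]) s ∈
        nonZeroDivisors (AdjoinRoot (X ^ e - C s : A[X])) := by
      rw [mem_nonZeroDivisors_iff_right]
      intro b hb
      rw [mul_comm, ← AdjoinRoot.algebraMap_eq, ← Algebra.smul_def] at hb
      exact (smul_eq_zero.mp hb).resolve_left hs
    have hrnzd : AdjoinRoot.root (X ^ e - C s : A[X]) ∈
        nonZeroDivisors (AdjoinRoot (X ^ e - C s : A[X])) := by
      rw [mem_nonZeroDivisors_iff_right]
      intro b hb
      apply (mem_nonZeroDivisors_iff_right.mp hsnzd) b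
      rw [← hrel]
      have hpow : AdjoinRoot.root (X ^ e - C s : A[X]) ^ e =
          AdjoinRoot.root (X ^ e - C s : A[X]) * AdjoinRoot.root (X ^ e - C s : A[X]) ^ (e - 1) := by
        exact (mul_pow_sub_one he.ne' _).symm
      rw [hpow, ← mul_assoc, hb, zero_mul]
    have hreg' : IsRegularRing (AdjoinRoot (X ^ e - C s : A[X]) ⧸
        Ideal.span {AdjoinRoot.root (X ^ e - C s : A[X])}) :=
      IsRegularRing.of_ringEquiv (adjoinRootQuotRootEquiv s e he).symm
    exact isRegularLocalRing_localization_of_quotient_span_singleton _ hrnzd hreg' Q hrootQ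
  · -- unramified case
    have hunr := formallyUnramified_away_adjoinRoot_X_pow_sub_C s e he heu
    rw [← Algebra.basicOpen_subset_unramifiedLocus_iff] at hunr
    have hmem : (⟨Q, hQ⟩ : PrimeSpectrum _) ∈
        (PrimeSpectrum.basicOpen (AdjoinRoot.mk (X ^ e - C s : A[X]) (C s)) : Set _) := by
      rw [AdjoinRoot.mk_C]
      exact hsQ
    exact isRegularLocalRing_localization_of_isUnramifiedAt Q (hunr hmem)

end Groth.Agent.S13781
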