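import Groth.Statements.S13784
import Mathlib.RingTheory.IntegralDomain
import Mathlib.RingTheory.LocalRing.ResidueField.Basic
import Mathlib.Algebra.Ring.GeomSum

set_option autoImplicit false
universe u
open CAlg

namespace Groth.Agent.S13784

/-- Let A be a commutative local ring and G a finite subgroup of Aˣ. If the order of G is invertible in
A, then G is cyclic. -/
theorem result {A : Type u} [CommRing A] [IsLocalRing A]
    (G : Subgroup Aˣ) [Finite G] (hG : IsUnit ((Nat.card G : ℕ) : A)) : IsCyclic G := by
  classical
  let f : G →* IsLocalRing.ResidueField A :=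
    (Units.coeHom _).comp ((Units.map (IsLocalRing.residue A).toMonoidHom).comp G.subtype)
  have hf : ∀ g : G, f g = IsLocalRing.residue A ((g : Aˣ) : A) := fun g => rfl
  refine isCyclic_of_injective_ringHom f ((injective_iff_map_eq_one f).mpr fun g hg => ?_)
  rw [hf] at hg
  set u : A := ((g : Aˣ) : A) with hu
  set n := Nat.card G with hn
  have hpow : u ^ n = 1 := by
    have h1 : g ^ n = 1 := pow_card_eq_one'
    have h2 := congrArg (fun x : G => (((x : Aˣ) : A))) h1
    simpa using h2
  have hS : IsUnit (∑ i ∈ Finset.range n, u ^ i) := by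
    rw [← IsLocalRing.residue_ne_zero_iff_isUnit, map_sum]
    simp only [map_pow, hg, one_pow, Finset.sum_const, Finset.card_range, nsmul_eq_mul, mul_one]
    have h3 : IsUnit (IsLocalRing.residue A ((n : ℕ) : A)) := hG.map _
    rw [map_natCast] at h3
    exact h3.ne_zero
  have hmul : (∑ i ∈ Finset.range n, u ^ i) * (u - 1) = 0 := by
    rw [geom_sum_mul, hpow, sub_self]
  have hu1 : u - 1 = 0 := (hS.mul_right_eq_zero).mp hmul
  have hu1' : u = 1 := sub_eq_zero.mp hu1
  apply Subtype.ext
  apply Units.ext
  exact hu1'

end Groth.Agent.S13784
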