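import Groth.Statements.S13785
import Mathlib.LinearAlgebra.Matrix.Charpoly.Coeff
import Mathlib.LinearAlgebra.Matrix.Charpoly.Basic
import Mathlib.RingTheory.Polynomial.Basic

set_option autoImplicit false
universe u
open CAlg

namespace Groth.Agent.S13785

/-- For any commutative ring A, the determinant of the generic n × n matrix is a nonzerodivisor of the
polynomial ring over A in the n² matrix entries. -/
theorem result (A : Type u) [CommRing A] (n : ℕ) :
    (Matrix.mvPolynomialX (Fin n) (Fin n) A).det ∈ nonZeroDivisors (MvPolynomial (Fin n × Fin n) A) := by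
  classical
  set B := MvPolynomial (Fin n × Fin n) A with hB
  let θ : B →ₐ[A] Polynomial B :=
    MvPolynomial.aeval (fun ij : Fin n × Fin n =>
      Polynomial.C (MvPolynomial.X ij : B) + if ij.1 = ij.2 then Polynomial.X else 0)
  have hθX : ∀ ij : Fin n × Fin n, θ (MvPolynomial.X ij) =
      Polynomial.C (MvPolynomial.X ij : B) + if ij.1 = ij.2 then Polynomial.X else 0 :=
    fun ij => MvPolynomial.aeval_X _ _
  -- θ has a retraction
  have hret : ∀ g : B, Polynomial.eval 0 (θ g) = g := by
    intro g
    have : ((Polynomial.aeval (0 : B) : Polynomial B →ₐ[B] B).restrictScalars A).comp θ =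
        AlgHom.id A B := by
      apply MvPolynomial.algHom_ext
      intro ij
      rw [AlgHom.comp_apply, AlgHom.restrictScalars_apply, hθX, AlgHom.id_apply]
      split_ifs <;> simp
    have h2 := congrArg (fun f => f g) this
    simpa [Polynomial.coe_aeval_eq_eval] using h2
  have hinj : Function.Injective θ := by
    intro g g' h
    rw [← hret g, ← hret g', h]
  have hdet : θ (Matrix.mvPolynomialX (Fin n) (Fin n) A).det =
      (-(Matrix.mvPolynomialX (Fin n) (Fin n) A)).charpoly := by
    rw [← AlgHom.coe_toRingHom, RingHom.map_det, Matrix.charpoly]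
    congr 1
    refine Matrix.ext fun i j => ?_
    rw [RingHom.mapMatrix_apply, Matrix.map_apply, AlgHom.coe_toRingHom,
      Matrix.mvPolynomialX_apply, hθX, Matrix.charmatrix_apply, Matrix.neg_apply, map_neg,
      sub_neg_eq_add, Matrix.diagonal_apply, add_comm]
    rfl
  rw [mem_nonZeroDivisors_iff_right]
  intro g hg
  have h1 : θ g * (-(Matrix.mvPolynomialX (Fin n) (Fin n) A)).charpoly = 0 := by
    rw [← hdet, ← map_mul, hg, map_zero]
  have hmon : (-(Matrix.mvPolynomialX (Fin n) (Fin n) A)).charpoly.Monic :=
    Matrix.charpoly_monic _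
  have h2 : θ g = 0 := (mem_nonZeroDivisors_iff_right.mp hmon.mem_nonZeroDivisors) _ h1
  exact hinj (by rw [h2, map_zero])

end Groth.Agent.S13785
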