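import Groth.Statements.S13787
import Groth.Agent.S13785

set_option autoImplicit false
universe u
open CAlg

namespace Groth.Agent.S13787

/-- Let A be a nonzero commutative ring and n ≥ 1, let det be the determinant of the generic n × n
matrix in the polynomial ring A[X] in its n² entries, and let A[X, 1/det] be the localization at det
(the coordinate ring of GL_n over A). The homomorphism Aˣ × ℤ → (A[X, 1/det])ˣ sending (a, e) to a ·
det^e is injective. (The published statement takes the exponent in the group of locally constant
ℤ-valued functions on Spec A, which also covers A = 0; with integer exponents as here, A must be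
nonzero and n ≥ 1.) -/
theorem result (A : Type u) [CommRing A] [Nontrivial A] (n : ℕ) (hn : 0 < n) :
    Function.Injective (fun p : Aˣ × ℤ =>
        Units.map (algebraMap A (Localization.Away (Matrix.mvPolynomialX (Fin n) (Fin n) A).det)).toMonoidHom p.1 *
          (IsLocalization.Away.algebraMap_isUnit (S := Localization.Away (Matrix.mvPolynomialX (Fin n) (Fin n) A).det)
            (Matrix.mvPolynomialX (Fin n) (Fin n) A).det).unit ^ p.2) := by
  classical
  set P := MvPolynomial (Fin n × Fin n) A with hP
  set D : P := (Matrix.mvPolynomialX (Fin n) (Fin n) A).det with hD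
  set L := Localization.Away D with hL
  have hDnzd : D ∈ nonZeroDivisors P := Groth.Agent.S13785.result A n
  have hinjL : Function.Injective (algebraMap P L) :=
    IsLocalization.injective L (Submonoid.powers_le.mpr hDnzd)
  have hne : Nonempty (Fin n) := ⟨⟨0, hn⟩⟩
  have hcc : MvPolynomial.constantCoeff D = 0 := by
    rw [hD, RingHom.map_det]
    have : (MvPolynomial.constantCoeff (R := A) (σ := Fin n × Fin n)).mapMatrix
        (Matrix.mvPolynomialX (Fin n) (Fin n) A) = 0 := by
      ext i j
      simp [Matrix.mvPolynomialX_apply]
    rw [this, Matrix.det_zero]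
  set u : Lˣ := (IsLocalization.Away.algebraMap_isUnit (S := L) D).unit with hu
  have hu' : (u : L) = algebraMap P L D := IsUnit.unit_spec _
  have key : ∀ (b : Aˣ) (m : ℕ), Units.map (algebraMap A L).toMonoidHom b = u ^ m → m = 0 ∧ b = 1 := by
    intro b m h
    have h1 : algebraMap A L (b : A) = algebraMap P L (D ^ m) := by
      have := congrArg (fun x : Lˣ => (x : L)) h
      simp only [Units.coe_map, MonoidHom.coe_coe, RingHom.toMonoidHom_eq_coe, Units.val_pow_eq_pow_val,
        hu'] at this
      rw [map_pow]
      exact this
    rw [IsScalarTower.algebraMap_apply A P L] at h1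
    have h2 : algebraMap A P (b : A) = D ^ m := hinjL h1
    have h3 := congrArg MvPolynomial.constantCoeff h2
    rw [MvPolynomial.algebraMap_eq, MvPolynomial.constantCoeff_C, map_pow, hcc] at h3
    have hm : m = 0 := by
      by_contra hm
      rw [zero_pow hm] at h3
      exact b.ne_zero h3
    refine ⟨hm, ?_⟩
    rw [hm, pow_zero] at h3
    exact Units.ext h3
  rintro ⟨a, e⟩ ⟨a', e'⟩ h
  simp only at h
  have hb : Units.map (algebraMap A L).toMonoidHom (a'⁻¹ * a) = u ^ (e' - e) := by
    rw [map_mul, map_inv, zpow_sub, inv_mul_eq_iff_eq_mul, ← mul_assoc, ← h, mul_assoc,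
      mul_inv_cancel, mul_one]
  obtain ⟨m, hm | hm⟩ := Int.eq_nat_or_neg (e' - e)
  · rw [hm, zpow_natCast] at hb
    obtain ⟨hm0, hb1⟩ := key _ m hb
    have he : e' = e := by rw [hm0] at hm; simp at hm; omega
    have ha : a = a' := by
      have := inv_mul_eq_one.mp hb1
      exact this.symm
    rw [ha, he]
  · rw [hm, zpow_neg, zpow_natCast] at hb
    have hb' : Units.map (algebraMap A L).toMonoidHom (a'⁻¹ * a)⁻¹ = u ^ m := by
      rw [map_inv, hb, inv_inv]
    obtain ⟨hm0, hb1⟩ := key _ m hb'
    have he : e' = e := by rw [hm0] at hm; simp at hm; omega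
    have ha : a = a' := by
      have h2 : a'⁻¹ * a = 1 := inv_eq_one.mp hb1
      exact (inv_mul_eq_one.mp h2).symm
    rw [ha, he]

end Groth.Agent.S13787
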