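import Groth.Statements.S1379
import Mathlib
import Groth.Agent.Lib.Helper22QFSlice2

set_option autoImplicit false
universe u
open FlatMor

namespace Groth.Agent.S1379

open CategoryTheory AlgebraicGeometry
open Limits
open Groth.Agent.Lib.Helper22.QFSlice

set_option maxHeartbeats 1600000 in
/-- local algebraic input: an affine, flat, quasi-finite, finitely presented refinement through a
point -/
theorem exists_qf_refinement {S₁ S : Scheme.{u}} (g : S₁ ⟶ S) [Flat g]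
    [LocallyOfFinitePresentation g] (x : S₁) :
    ∃ (X : Scheme.{u}) (f : X ⟶ S) (r : X ⟶ S₁) (y : X), r ≫ g = f ∧ f y = g x ∧
      IsSeparated f ∧ Flat f ∧ LocallyOfFinitePresentation f ∧ LocallyQuasiFinite f := by
  obtain ⟨_, ⟨U, hU, rfl⟩, hxU, -⟩ := S.isBasis_affineOpens.exists_subset_of_mem_open
    (Set.mem_univ (g x)) isOpen_univ
  obtain ⟨_, ⟨V, hV, rfl⟩, hxV, hUV : V ≤ g ⁻¹ᵁ U⟩ :=
    S₁.isBasis_affineOpens.exists_subset_of_mem_open hxU (g ⁻¹ᵁ U).2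
  have hfl : (g.appLE U V hUV).hom.Flat :=
    HasRingHomProperty.appLE @Flat g inferInstance ⟨U, hU⟩ ⟨V, hV⟩ hUV
  have hfp : (g.appLE U V hUV).hom.FinitePresentation :=
    HasRingHomProperty.appLE @LocallyOfFinitePresentation g inferInstance ⟨U, hU⟩ ⟨V, hV⟩ hUV
  algebraize [(g.appLE U V hUV).hom]
  let q : Ideal Γ(S₁, V) := (hV.primeIdealOf ⟨x, hxV⟩).asIdeal
  let p : Ideal Γ(S, U) := q.under Γ(S, U)
  haveI : q.LiesOver p := ⟨rfl⟩
  haveI : Nontrivial (p.Fiber Γ(S₁, V)) := by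
    have : Nonempty (PrimeSpectrum (p.Fiber Γ(S₁, V))) :=
      ⟨PrimeSpectrum.primesOverOrderIsoFiber Γ(S, U) Γ(S₁, V) p ⟨q, inferInstance, inferInstance⟩⟩
    exact (PrimeSpectrum.nonempty_iff_nontrivial.mp this)
  obtain ⟨T, i1, i2, ψ, hqf, hfpT, hflT, Q, hQ, hQp⟩ := exists_qf_flat_nbhd p Γ(S₁, V)
  let φ : Γ(S, U) ⟶ CommRingCat.of T := CommRingCat.ofHom (algebraMap Γ(S, U) T)
  let ψ' : Γ(S₁, V) ⟶ CommRingCat.of T := CommRingCat.ofHom ψ.toRingHom
  have hcomp : g.appLE U V hUV ≫ ψ' = φ := by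
    ext a
    exact ψ.commutes a
  have h0 : IsOpenImmersion hU.fromSpec := hU.isOpenImmersion_fromSpec
  refine ⟨Spec (CommRingCat.of T), Spec.map φ ≫ hU.fromSpec, Spec.map ψ' ≫ hV.fromSpec,
    ⟨Q, hQ⟩, ?_, ?_, ?_, ?_, ?_, ?_⟩
  · rw [Category.assoc, ← IsAffineOpen.SpecMap_appLE_fromSpec g hU hV hUV, ← Category.assoc,
      ← Spec.map_comp, hcomp]
  · have h1 : Spec.map φ ⟨Q, hQ⟩ =
        Spec.map (g.appLE U V hUV) (hV.primeIdealOf ⟨x, hxV⟩) := by
      apply PrimeSpectrum.ext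
      exact hQp
    have h2 : (Spec.map φ ≫ hU.fromSpec) ⟨Q, hQ⟩ = hU.fromSpec (Spec.map φ ⟨Q, hQ⟩) :=
      Scheme.Hom.comp_apply _ _ _
    have h3 : hU.fromSpec (Spec.map (g.appLE U V hUV) (hV.primeIdealOf ⟨x, hxV⟩)) =
        (Spec.map (g.appLE U V hUV) ≫ hU.fromSpec) (hV.primeIdealOf ⟨x, hxV⟩) :=
      (Scheme.Hom.comp_apply _ _ _).symm
    have h4 : (hV.fromSpec ≫ g) (hV.primeIdealOf ⟨x, hxV⟩) =
        g (hV.fromSpec (hV.primeIdealOf ⟨x, hxV⟩)) := Scheme.Hom.comp_apply _ _ _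
    rw [h2, h1, h3, IsAffineOpen.SpecMap_appLE_fromSpec g hU hV hUV, h4,
      hV.fromSpec_primeIdealOf]
  · infer_instance
  · have : Flat (Spec.map φ) := HasRingHomProperty.Spec_iff.mpr
      (RingHom.flat_algebraMap_iff.mpr hflT)
    infer_instance
  · have : LocallyOfFinitePresentation (Spec.map φ) := HasRingHomProperty.Spec_iff.mpr
      (RingHom.finitePresentation_algebraMap.mpr hfpT)
    infer_instance
  · have : LocallyQuasiFinite (Spec.map φ) := HasRingHomProperty.Spec_iff.mpr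
      (RingHom.quasiFinite_algebraMap.mpr hqf)
    infer_instance

open AlgebraicGeometry CategoryTheory Limits in
/-- Let S₁ → S be flat, locally of finite presentation and surjective (an fppf cover by one morphism).
Then for every point s of S there are an étale morphism S' → S whose image contains s and a
surjective, finite, flat morphism of finite presentation V → S' such that V → S factors through S₁
Zariski locally on V. -/
theorem result {S₁ S : Scheme.{u}} (g : S₁ ⟶ S) [Flat g] [LocallyOfFinitePresentation g] [Surjective g] (s : S) :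
    ∃ (S' V : Scheme.{u}) (e : S' ⟶ S) (π : V ⟶ S'), Etale e ∧ s ∈ Set.range ⇑e ∧ Surjective π ∧ IsFinite π ∧ Flat π ∧ LocallyOfFinitePresentation π ∧
      ∀ v : ↑V, ∃ (W : V.Opens) (r : ↑W ⟶ S₁), v ∈ W ∧ r ≫ g = W.ι ≫ π ≫ e := by
  obtain ⟨x, hx⟩ := g.surjective s
  obtain ⟨X, f, r, y, hrf, hfy, hsep, hfl, hfp, hqf⟩ := exists_qf_refinement g x
  have hfy' : f y = s := hfy.trans hx
  obtain ⟨S₀, e₀, hE, hs, V₀, W₀, v, hVW, hfin, hv⟩ :=
    exists_etale_isCompl_of_quasiFiniteAt f hfy' (f.quasiFiniteAt y)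
  let π₀ : V₀.toScheme ⟶ S₀ := V₀.ι ≫ pullback.snd f e₀
  have hπfl : Flat π₀ := inferInstance
  have hπfp : LocallyOfFinitePresentation π₀ := inferInstance
  have hopen : IsOpenMap π₀ := π₀.isOpenMap
  let S'o : S₀.Opens := ⟨Set.range π₀, hopen.isOpen_range⟩
  have hcond : π₀ ≫ e₀ = V₀.ι ≫ pullback.fst f e₀ ≫ f := by
    simp only [π₀, Category.assoc, pullback.condition]
  refine ⟨S'o, π₀ ⁻¹ᵁ S'o, S'o.ι ≫ e₀, π₀ ∣_ S'o, inferInstance, ?_, ?_, ?_, ?_, ?_, ?_⟩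
  · refine ⟨⟨π₀ v, ⟨v, rfl⟩⟩, ?_⟩
    have h1 : (S'o.ι ≫ e₀) ⟨π₀ v, ⟨v, rfl⟩⟩ = e₀ (π₀ v) := Scheme.Hom.comp_apply _ _ _
    have h2 : e₀ (π₀ v) = (π₀ ≫ e₀) v := (Scheme.Hom.comp_apply _ _ _).symm
    have h3 : (V₀.ι ≫ pullback.fst f e₀ ≫ f) v = f (pullback.fst f e₀ v.1) := by
      first
        | rfl
        | (simp; done)
        | (simp; rfl)
    rw [h1, h2, hcond, h3, hv, hfy']
  · refine ⟨fun z => ?_⟩
    obtain ⟨w, hw⟩ := z.2
    refine ⟨⟨w, ?_⟩, ?_⟩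
    · show π₀ w ∈ S'o
      exact ⟨w, rfl⟩
    · apply Subtype.ext
      exact (morphismRestrict_base_coe π₀ S'o _).trans hw
  · infer_instance
  · infer_instance
  · infer_instance
  · intro v'
    refine ⟨⊤, (⊤ : (π₀ ⁻¹ᵁ S'o).toScheme.Opens).ι ≫ (π₀ ⁻¹ᵁ S'o).ι ≫ V₀.ι ≫
      pullback.fst f e₀ ≫ r, trivial, ?_⟩
    simp only [Category.assoc, hrf]
    rw [morphismRestrict_ι_assoc, hcond]

end Groth.Agent.S1379
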