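import Groth.Statements.S9097
import Mathlib
-- import your own Groth.Agent.* helpers here

set_option autoImplicit false
set_option linter.style.haveILetI false
set_option linter.unusedSectionVars false
universe u
open CategoryTheory Opposite
open CohSite

namespace Groth.Agent.S9097

section
open CategoryTheory.Limits

variable {C : Type u} [SmallCategory C] (J : GrothendieckTopology C)

instance : PreservesFiniteLimits (constantSheaf J AddCommGrpCat.{u}) :=
  inferInstanceAs (PreservesFiniteLimits (Functor.const Cᵒᵖ ⋙ presheafToSheaf J AddCommGrpCat.{u}))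

/-- the map of sheaves of sets induced by a map of sets -/
noncomputable def setMap {B' C' : AddCommGrpCat.{u}} (σ : C' → B') :
    (sheafCompose J (forget AddCommGrpCat.{u})).obj ((constantSheaf J AddCommGrpCat.{u}).obj C') ⟶
      (sheafCompose J (forget AddCommGrpCat.{u})).obj ((constantSheaf J AddCommGrpCat.{u}).obj B') :=
  (constantCommuteCompose J (forget AddCommGrpCat.{u})).hom.app C' ≫
    (constantSheaf J (Type u)).map (TypeCat.ofHom σ) ≫
      (constantCommuteCompose J (forget AddCommGrpCat.{u})).inv.app B'

lemma setMap_comp {B' C' : AddCommGrpCat.{u}} (g : B' ⟶ C') (σ : C' → B') (hσ : ∀ c, g.hom (σ c) = c) :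
    setMap J σ ≫ (sheafCompose J (forget AddCommGrpCat.{u})).map ((constantSheaf J AddCommGrpCat.{u}).map g) =
      𝟙 _ := by
  have hnat := (constantCommuteCompose J (forget AddCommGrpCat.{u})).inv.naturality g
  change (constantSheaf J (Type u)).map ((forget AddCommGrpCat.{u}).map g) ≫ _ =
    _ ≫ (sheafCompose J (forget AddCommGrpCat.{u})).map ((constantSheaf J AddCommGrpCat.{u}).map g) at hnat
  rw [setMap, Category.assoc, Category.assoc, ← hnat, ← Category.assoc ((constantSheaf J (Type u)).map _),
    ← Functor.map_comp]
  have h1 : TypeCat.ofHom σ ≫ (forget AddCommGrpCat.{u}).map g = 𝟙 _ := by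
    ext c
    exact hσ c
  rw [h1]
  have h2 : (constantSheaf J (Type u)).map (𝟙 ((forget AddCommGrpCat.{u}).obj C')) = 𝟙 _ :=
    CategoryTheory.Functor.map_id _ _
  erw [h2, Category.id_comp]
  exact (constantCommuteCompose J (forget AddCommGrpCat.{u})).hom_inv_id_app C'

/-- sections of constant sheaves are surjective along surjections -/
lemma surjective_sections {B' C' : AddCommGrpCat.{u}} (g : B' ⟶ C') (hg : Function.Surjective g.hom) (U : C) :
    Function.Surjective (((constantSheaf J AddCommGrpCat.{u}).map g).hom.app (op U)).hom := by
  intro t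
  have hσ : ∀ c, g.hom (Function.surjInv hg c) = c := Function.surjInv_eq hg
  refine ⟨(setMap J (Function.surjInv hg)).hom.app (op U) t, ?_⟩
  have := congrArg (fun m => m.hom.app (op U) t) (setMap_comp J g _ hσ)
  exact this

theorem result' (S : ShortComplex AddCommGrpCat.{u}) (hS : S.ShortExact) (U : C)
    [(constantSheaf J AddCommGrpCat.{u} ⋙ (sheafSections J AddCommGrpCat.{u}).obj (op U)).PreservesZeroMorphisms] :
    (S.map (constantSheaf J AddCommGrpCat.{u} ⋙ (sheafSections J AddCommGrpCat.{u}).obj (op U))).ShortExact := by
  haveI := hS.mono_f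
  haveI := hS.epi_g
  haveI : PreservesFiniteLimits ((sheafSections J AddCommGrpCat.{u}).obj (op U)) :=
    inferInstanceAs (PreservesFiniteLimits (sheafToPresheaf J AddCommGrpCat.{u} ⋙ (evaluation _ _).obj (op U)))
  haveI : PreservesFiniteLimits (constantSheaf J AddCommGrpCat.{u} ⋙ (sheafSections J AddCommGrpCat.{u}).obj (op U)) :=
    comp_preservesFiniteLimits _ _
  refine ShortComplex.ShortExact.mk' ?_ ?_ ?_
  · exact hS.exact.map_of_mono_of_preservesKernel _ hS.mono_f inferInstance
  · exact inferInstanceAs (Mono ((constantSheaf J AddCommGrpCat.{u} ⋙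
      (sheafSections J AddCommGrpCat.{u}).obj (op U)).map S.f))
  · rw [AddCommGrpCat.epi_iff_surjective]
    exact surjective_sections J S.g ((AddCommGrpCat.epi_iff_surjective _).1 hS.epi_g) U


end


/-- If 0 → A → B → C → 0 is short exact in the category of abelian groups then, for every object U, the
sequence 0 → A̲(U) → B̲(U) → C̲(U) → 0 of sections of the constant abelian sheaves is short exact;
in other words the sequence of constant sheaves is exact even as a sequence of abelian presheaves.
The instance binder on the sections-of-constant-sheaf functor (it preserves zero morphisms) always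
holds and is only needed to form the complex. -/
theorem result {C : Type u} [SmallCategory C] (J : GrothendieckTopology C)
    (S : ShortComplex AddCommGrpCat.{u}) (hS : S.ShortExact) (U : C)
    [(constantSheaf J AddCommGrpCat.{u} ⋙ (sheafSections J AddCommGrpCat.{u}).obj (op U)).PreservesZeroMorphisms] :
    (S.map (constantSheaf J AddCommGrpCat.{u} ⋙ (sheafSections J AddCommGrpCat.{u}).obj (op U))).ShortExact := by
  exact result' J S hS U

end Groth.Agent.S9097
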