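import Groth.Statements.S13791
import Mathlib
import Groth.Agent.S9097
-- import your own Groth.Agent.* helpers here

set_option autoImplicit false
set_option linter.style.haveILetI false
set_option linter.unusedSectionVars false
universe u
open CategoryTheory
open CohSite

namespace Groth.Agent.S13791

section
open Opposite
open CategoryTheory.Limits Abelian Groth.Agent.S9097

variable {C : Type u} [SmallCategory C] (J : GrothendieckTopology C)

instance : PreservesFiniteColimits (constantSheaf J AddCommGrpCat.{u}) :=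
  inferInstanceAs (PreservesFiniteColimits (Functor.const Cᵒᵖ ⋙ presheafToSheaf J AddCommGrpCat.{u}))

/-- lifting maps out of the constant sheaf `ℤ` along surjections of constant sheaves -/
lemma exists_lift {B' Q : AddCommGrpCat.{u}} (g : B' ⟶ Q) (hg : Function.Surjective g.hom)
    (ψ : (constantSheaf J AddCommGrpCat.{u}).obj (AddCommGrpCat.of (ULift ℤ)) ⟶
      (constantSheaf J AddCommGrpCat.{u}).obj Q) :
    ∃ z : (constantSheaf J AddCommGrpCat.{u}).obj (AddCommGrpCat.of (ULift ℤ)) ⟶
      (constantSheaf J AddCommGrpCat.{u}).obj B', z ≫ (constantSheaf J AddCommGrpCat.{u}).map g = ψ := by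
  let adj := sheafificationAdjunction J AddCommGrpCat.{u}
  let P : Cᵒᵖ ⥤ AddCommGrpCat.{u} := (Functor.const Cᵒᵖ).obj (AddCommGrpCat.of (ULift ℤ))
  let cB := (constantSheaf J AddCommGrpCat.{u}).obj B'
  let cQ := (constantSheaf J AddCommGrpCat.{u}).obj Q
  let ψ' : P ⟶ cQ.obj := adj.homEquiv P cQ ψ
  have hσ : ∀ c, g.hom (Function.surjInv hg c) = c := Function.surjInv_eq hg
  let sm := setMap J (Function.surjInv hg)
  have hsm := setMap_comp J g _ hσ
  let t : ∀ U : Cᵒᵖ, cQ.obj.obj U := fun U => (ψ'.app U).hom ⟨1⟩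
  let β : ∀ U : Cᵒᵖ, cB.obj.obj U := fun U => sm.hom.app U (t U)
  have ht : ∀ {U V : Cᵒᵖ} (h : U ⟶ V), (cQ.obj.map h).hom (t U) = t V := by
    intro U V h
    exact (ConcreteCategory.congr_hom (ψ'.naturality h) (⟨1⟩ : ULift ℤ)).symm
  have hβ : ∀ {U V : Cᵒᵖ} (h : U ⟶ V), (cB.obj.map h).hom (β U) = β V := by
    intro U V h
    have h1 := ConcreteCategory.congr_hom (sm.hom.naturality h) (t U)
    change sm.hom.app V ((cQ.obj.map h).hom (t U)) = (cB.obj.map h).hom (sm.hom.app U (t U)) at h1
    rw [ht] at h1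
    exact h1.symm
  have hgβ : ∀ U : Cᵒᵖ, (((constantSheaf J AddCommGrpCat.{u}).map g).hom.app U).hom (β U) = t U := by
    intro U
    exact congrArg (fun m => m.hom.app U (t U)) hsm
  let z' : P ⟶ cB.obj :=
    { app := fun U => AddCommGrpCat.ofHom (uliftZMultiplesHom _ (β U))
      naturality := by
        intro U V h
        ext n
        change (uliftZMultiplesHom _ (β V)) n = (cB.obj.map h).hom ((uliftZMultiplesHom _ (β U)) n)
        rw [uliftZMultiplesHom_apply_apply, uliftZMultiplesHom_apply_apply, map_zsmul, hβ] }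
  obtain ⟨z, hz⟩ : ∃ z : (presheafToSheaf J AddCommGrpCat.{u}).obj P ⟶ cB, adj.homEquiv P cB z = z' :=
    ⟨(adj.homEquiv P cB).symm z', Equiv.apply_symm_apply _ _⟩
  refine ⟨z, ?_⟩
  apply (adj.homEquiv P cQ).injective
  refine (adj.homEquiv_naturality_right z ((constantSheaf J AddCommGrpCat.{u}).map g)).trans ?_
  rw [hz]
  ext U n
  change (((constantSheaf J AddCommGrpCat.{u}).map g).hom.app U).hom ((uliftZMultiplesHom _ (β U)) n) =
    (ψ'.app U).hom n
  rw [uliftZMultiplesHom_apply_apply, map_zsmul, hgβ]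
  have : n = n.down • (⟨1⟩ : ULift ℤ) := by
    apply ULift.ext
    simp
  conv_rhs => rw [this, map_zsmul]
  rfl

theorem result' {A B : Type u} [AddCommGroup A] [AddCommGroup B] (f : A →+ B) (hf : Function.Injective f) :
    Function.Injective
      (Sheaf.H.map ((constantSheaf J AddCommGrpCat.{u}).map (AddCommGrpCat.ofHom f)) 1) := by
  let S : ShortComplex AddCommGrpCat.{u} :=
    ShortComplex.mk (AddCommGrpCat.ofHom f) (cokernel.π (AddCommGrpCat.ofHom f)) (cokernel.condition _)
  haveI hmono : Mono (AddCommGrpCat.ofHom f) := (AddCommGrpCat.mono_iff_injective _).2 hf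
  have hS : S.ShortExact :=
    ShortComplex.ShortExact.mk' (ShortComplex.exact_cokernel _) hmono
      (inferInstanceAs (Epi (cokernel.π (AddCommGrpCat.ofHom f))))
  have hS' : (ShortComplex.mk ((constantSheaf J AddCommGrpCat.{u}).map (AddCommGrpCat.ofHom f))
      ((constantSheaf J AddCommGrpCat.{u}).map (cokernel.π (AddCommGrpCat.ofHom f)))
      (by rw [← Functor.map_comp, cokernel.condition]; exact Functor.map_zero _ _ _)).ShortExact :=
    hS.map_of_exact (constantSheaf J AddCommGrpCat.{u})
  have hsurj : Function.Surjective (cokernel.π (AddCommGrpCat.ofHom f)).hom :=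
    (AddCommGrpCat.epi_iff_surjective _).1 hS.epi_g
  rw [injective_iff_map_eq_zero]
  intro x hx
  obtain ⟨y, hy⟩ : ∃ y : Ext.{u} ((constantSheaf J AddCommGrpCat.{u}).obj (AddCommGrpCat.of (ULift ℤ)))
      ((constantSheaf J AddCommGrpCat.{u}).obj (cokernel (AddCommGrpCat.ofHom f))) 0,
      y.comp hS'.extClass (zero_add 1) = x := Ext.covariant_sequence_exact₁ _ hS' x hx (zero_add 1)
  obtain ⟨ψ, rfl⟩ := (Ext.mk₀_bijective _ _).2 y
  obtain ⟨z, hz⟩ := exists_lift J _ hsurj ψ
  rw [← hy, ← hz, ← Ext.mk₀_comp_mk₀, Ext.comp_assoc _ _ _ (zero_add 0) (zero_add 1) (by omega)]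
  have h0 : (Ext.mk₀ ((constantSheaf J AddCommGrpCat.{u}).map (cokernel.π (AddCommGrpCat.ofHom f)))).comp
      hS'.extClass (zero_add 1) = 0 := hS'.comp_extClass
  rw [h0, Ext.comp_zero]


end


/-- On a site, for a short exact sequence 0 → A → B → C → 0 of abelian groups the map H¹(A) → H¹(B) on
the first cohomology of the associated constant sheaves is injective. Stated for an injective
homomorphism f : A → B (C being its cokernel), with H¹ the Ext-based sheaf cohomology of the site. -/
theorem result {C : Type u} [SmallCategory C] (J : GrothendieckTopology C)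
    {A B : Type u} [AddCommGroup A] [AddCommGroup B] (f : A →+ B) (hf : Function.Injective f) :
    Function.Injective
      (Sheaf.H.map ((constantSheaf J AddCommGrpCat.{u}).map (AddCommGrpCat.ofHom f)) 1) := by
  exact result' J f hf

end Groth.Agent.S13791
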