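import Groth.Statements.S13792
import Mathlib

set_option autoImplicit false
universe u
open CategoryTheory AlgebraicGeometry
open Curves

namespace Groth.Agent.S13792

open TopologicalSpace Topology

/-- a closed embedding with non-dense... into an irreducible space of dimension `1` whose range is
not everything has source of dimension `≤ 0`. -/
lemma dim_le_zero {G E : Type*} [TopologicalSpace G] [TopologicalSpace E] [IrreducibleSpace E]
    (hdim : topologicalKrullDim E = 1) (i : G → E) (hi : IsClosedEmbedding i)
    (hns : ¬ Function.Surjective i) : topologicalKrullDim G ≤ 0 := by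
  rw [topologicalKrullDim]
  refine Order.krullDim_nonpos_iff_forall_isMax.mpr fun Z Y h => ?_
  by_contra hYZ
  have hlt : Z < Y := lt_of_le_not_ge h hYZ
  have hlt' := IrreducibleCloseds.map_strictMono_of_isInducing hi.isInducing hlt
  let T : IrreducibleCloseds E := ⟨Set.univ, IrreducibleSpace.isIrreducible_univ E, isClosed_univ⟩
  have hYT : IrreducibleCloseds.map i hi.continuous Y < T := by
    refine lt_of_le_of_ne (fun x _ => Set.mem_univ x) ?_
    intro heq
    apply hns
    intro e
    have he : e ∈ (IrreducibleCloseds.map i hi.continuous Y : Set E) := by
      rw [heq]; exact Set.mem_univ e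
    rw [IrreducibleCloseds.coe_map] at he
    have hsub : closure (i '' (Y : Set G)) ⊆ Set.range i :=
      closure_minimal (Set.image_subset_range _ _) hi.isClosed_range
    exact hsub he
  let p : LTSeries (IrreducibleCloseds E) :=
    ((RelSeries.singleton _ (IrreducibleCloseds.map i hi.continuous Z)).snoc
      (IrreducibleCloseds.map i hi.continuous Y) hlt').snoc T
      (by rw [RelSeries.last_snoc]; exact hYT)
  have hp : (p.length : WithBot ℕ∞) ≤ topologicalKrullDim E := Order.LTSeries.length_le_krullDim p
  rw [hdim] at hp
  have : p.length = 2 := rfl
  rw [this] at hp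
  norm_cast at hp


/-- Let k be a field and E an integral k-scheme of finite type whose underlying space has dimension 1,
and let ι : G → E be a closed immersion. Then either ι is an isomorphism or G is finite over k. (The
published statement is about a closed subgroup scheme of an elliptic curve and its proof states this
fact for E geometrically integral; this row assumes only that E is integral.) -/
theorem result {k : Type u} [Field k]
    {E G : Scheme.{u}} (f : E ⟶ Spec (CommRingCat.of k)) [LocallyOfFiniteType f] [QuasiCompact f]
    [IsIntegral E] (hdim : topologicalKrullDim ↥E = 1) (ι : G ⟶ E) [IsClosedImmersion ι] :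
    IsIso ι ∨ IsFinite (ι ≫ f) := by
  by_cases hs : Function.Surjective ι.base
  · left
    have : Surjective ι := ⟨hs⟩
    exact isIso_of_isClosedImmersion_of_surjective ι
  · right
    have hdimG : topologicalKrullDim ↥G ≤ 0 :=
      dim_le_zero hdim ι.base ι.isClosedEmbedding hs
    have hart : IsArtinianRing k := inferInstance
    have hArtk : IsLocallyArtinian (Spec (CommRingCat.of k)) :=
      Scheme.isLocallyArtinianScheme_Spec.mpr hart
    have hlft : LocallyOfFiniteType (ι ≫ f) := inferInstance
    have hqc : QuasiCompact (ι ≫ f) := inferInstance
    have hlnG : IsLocallyNoetherian G := LocallyOfFiniteType.isLocallyNoetherian (ι ≫ f)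
    have hlaG : IsLocallyArtinian G := IsLocallyArtinian.of_topologicalKrullDim_le_zero hdimG
    have hcG : CompactSpace G := QuasiCompact.compactSpace_of_compactSpace (ι ≫ f)
    have hdG : DiscreteTopology G := inferInstance
    have hfinG : Finite G := finite_of_compact_of_discrete
    have hqf : LocallyQuasiFinite (ι ≫ f) :=
      LocallyQuasiFinite.of_finite_preimage_singleton _ fun x => Set.toFinite _
    exact IsFinite.of_locallyQuasiFinite (ι ≫ f)

end Groth.Agent.S13792
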