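import Groth.Statements.S13793
import Groth.Agent.Lib.Helper14LaurentUnitsC

set_option autoImplicit false
universe u
open CAlg

namespace Groth.Agent.S13793

/-- For any commutative ring A, the second cohomology of the complex of unit groups A[t₁^±]ˣ → A[t₁^±,
t₂^±]ˣ → A[t₁^±, t₂^±, t₃^±]ˣ → ⋯ attached to the cosimplicial ring of Laurent polynomial rings
(coface maps (t₁, t₂) ↦ (t₂, t₃), (t₁t₂, t₃), (t₁, t₂t₃), (t₁, t₂) and t₁ ↦ t₂, t₁t₂, t₁) vanishes:
every unit ξ of A[t₁^±, t₂^±] with ξ(t₂,t₃) ξ(t₁t₂,t₃)⁻¹ ξ(t₁,t₂t₃) ξ(t₁,t₂)⁻¹ = 1 is of the form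
η(t₂) η(t₁t₂)⁻¹ η(t₁) for a unit η of A[t^±]. Laurent polynomial rings are written as group algebras
of ℤ^p and the coface maps as the maps induced by the corresponding additive maps ℤ^p → ℤ^(p+1). -/
theorem result (A : Type u) [CommRing A] (ξ : (AddMonoidAlgebra A (Fin 2 → ℤ))ˣ)
    (hξ : Units.map (AddMonoidAlgebra.mapDomainRingHom A
          (Matrix.mulVecLin (!![0, 0; 1, 0; 0, 1] : Matrix (Fin 3) (Fin 2) ℤ)).toAddMonoidHom).toMonoidHom ξ *
        (Units.map (AddMonoidAlgebra.mapDomainRingHom A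
          (Matrix.mulVecLin (!![1, 0; 1, 0; 0, 1] : Matrix (Fin 3) (Fin 2) ℤ)).toAddMonoidHom).toMonoidHom ξ)⁻¹ *
        Units.map (AddMonoidAlgebra.mapDomainRingHom A
          (Matrix.mulVecLin (!![1, 0; 0, 1; 0, 1] : Matrix (Fin 3) (Fin 2) ℤ)).toAddMonoidHom).toMonoidHom ξ *
        (Units.map (AddMonoidAlgebra.mapDomainRingHom A
          (Matrix.mulVecLin (!![1, 0; 0, 1; 0, 0] : Matrix (Fin 3) (Fin 2) ℤ)).toAddMonoidHom).toMonoidHom ξ)⁻¹ = 1) :
    ∃ η : (AddMonoidAlgebra A (Fin 1 → ℤ))ˣ,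
      ξ = Units.map (AddMonoidAlgebra.mapDomainRingHom A
          (Matrix.mulVecLin (!![0; 1] : Matrix (Fin 2) (Fin 1) ℤ)).toAddMonoidHom).toMonoidHom η *
        (Units.map (AddMonoidAlgebra.mapDomainRingHom A
          (Matrix.mulVecLin (!![1; 1] : Matrix (Fin 2) (Fin 1) ℤ)).toAddMonoidHom).toMonoidHom η)⁻¹ *
        Units.map (AddMonoidAlgebra.mapDomainRingHom A
          (Matrix.mulVecLin (!![1; 0] : Matrix (Fin 2) (Fin 1) ℤ)).toAddMonoidHom).toMonoidHom η := by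
  classical
  have hcoc : Groth.Agent.Lib.Helper14.LaurentUnits.IsCocycle (ξ : AddMonoidAlgebra A (Fin 2 → ℤ)) := by
    unfold Groth.Agent.Lib.Helper14.LaurentUnits.IsCocycle
    have h1 := hξ
    rw [mul_inv_eq_one] at h1
    have h2 := congrArg Units.val h1
    have h3 : ∀ a b c d : (AddMonoidAlgebra A (Fin 3 → ℤ))ˣ, a * b⁻¹ * c = d → a * c = b * d := by
      intro a b c d h
      rw [← h]
      simp [mul_comm, mul_left_comm]
    have h4 := congrArg Units.val (h3 _ _ _ _ h1)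
    simp only [Units.val_mul, Units.coe_map, RingHom.toMonoidHom_eq_coe,
      MonoidHom.coe_coe] at h4
    exact h4
  obtain ⟨e, he, hcob⟩ := Groth.Agent.Lib.Helper14.LaurentUnits.exists_isCobdry
    (ξ : AddMonoidAlgebra A (Fin 2 → ℤ)) ((ξ⁻¹ : (AddMonoidAlgebra A (Fin 2 → ℤ))ˣ) : _)
    (by rw [← Units.val_mul, mul_inv_cancel, Units.val_one]) hcoc
  refine ⟨he.unit, ?_⟩
  unfold Groth.Agent.Lib.Helper14.LaurentUnits.IsCobdry at hcob
  have h5 : ξ * Units.map (AddMonoidAlgebra.mapDomainRingHom A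
      (Matrix.mulVecLin (!![1; 1] : Matrix (Fin 2) (Fin 1) ℤ)).toAddMonoidHom).toMonoidHom he.unit =
      Units.map (AddMonoidAlgebra.mapDomainRingHom A
          (Matrix.mulVecLin (!![0; 1] : Matrix (Fin 2) (Fin 1) ℤ)).toAddMonoidHom).toMonoidHom he.unit *
      Units.map (AddMonoidAlgebra.mapDomainRingHom A
          (Matrix.mulVecLin (!![1; 0] : Matrix (Fin 2) (Fin 1) ℤ)).toAddMonoidHom).toMonoidHom he.unit := by
    apply Units.ext
    simp only [Units.val_mul, Units.coe_map, IsUnit.unit_spec, RingHom.toMonoidHom_eq_coe,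
      MonoidHom.coe_coe]
    exact hcob
  rw [mul_right_comm, ← h5, mul_inv_cancel_right]

end Groth.Agent.S13793
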