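import Groth.Statements.S13794
import Mathlib.Tactic
import Mathlib.Algebra.Polynomial.Coeff

set_option autoImplicit false
universe u
open Polynomial
open Curves

namespace Groth.Agent.S13794

/-- Let k be a field of characteristic not 3 and β ∈ k. If a line ax + by + c = 0 with a³ ≠ b³ is the
tangent line at a flex point of the affine cubic x³ + y³ + β = 3xy, then β is a cube in k. Here the
line is normalised to b ≠ 0 (the roles of x and y are symmetric) and the flex-tangency is expressed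
by the restriction of the cubic to the line being λ (x − x₀)³. -/
theorem result {k : Type u} [Field k] (h3 : (3 : k) ≠ 0)
    (β a b c : k) (hb : b ≠ 0) (hab : a ^ 3 ≠ b ^ 3) (lam x₀ : k)
    (hflex : (X : k[X]) ^ 3 + (C (-a / b) * X + C (-c / b)) ^ 3 + C β - 3 * X * (C (-a / b) * X + C (-c / b)) =
      C lam * (X - C x₀) ^ 3) :
    ∃ γ : k, β = γ ^ 3 := by
  have hcoef : ∀ (a3 a2 a1 a0 : k),
      (C a3 * (X : k[X]) ^ 3 + C a2 * X ^ 2 + C a1 * X + C a0).coeff 3 = a3 ∧
      (C a3 * (X : k[X]) ^ 3 + C a2 * X ^ 2 + C a1 * X + C a0).coeff 2 = a2 ∧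
      (C a3 * (X : k[X]) ^ 3 + C a2 * X ^ 2 + C a1 * X + C a0).coeff 1 = a1 ∧
      (C a3 * (X : k[X]) ^ 3 + C a2 * X ^ 2 + C a1 * X + C a0).coeff 0 = a0 := by
    intro a3 a2 a1 a0
    refine ⟨?_, ?_, ?_, ?_⟩ <;>
    · simp only [Polynomial.coeff_add, Polynomial.coeff_C_mul, Polynomial.coeff_X_pow,
        Polynomial.coeff_X, Polynomial.coeff_C]
      norm_num
  obtain ⟨m, hm⟩ : ∃ m : k, m = -a / b := ⟨_, rfl⟩
  obtain ⟨q, hq⟩ : ∃ q : k, q = -c / b := ⟨_, rfl⟩
  rw [← hm, ← hq] at hflex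
  have hm3 : 1 + m ^ 3 ≠ 0 := by
    rw [hm]
    intro h
    apply hab
    have hb3 : b ^ 3 ≠ 0 := pow_ne_zero 3 hb
    field_simp at h
    linear_combination -h
  clear hm hq hab
  have hL : (X : k[X]) ^ 3 + (C m * X + C q) ^ 3 + C β - 3 * X * (C m * X + C q) =
      C (1 + m ^ 3) * X ^ 3 + C (3 * m ^ 2 * q - 3 * m) * X ^ 2 + C (3 * m * q ^ 2 - 3 * q) * X +
        C (q ^ 3 + β) := by
    simp only [map_add, map_sub, map_mul, map_pow, map_one, map_ofNat]
    ring
  have hR : C lam * ((X : k[X]) - C x₀) ^ 3 =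
      C lam * X ^ 3 + C (-(3 * lam * x₀)) * X ^ 2 + C (3 * lam * x₀ ^ 2) * X +
        C (-(lam * x₀ ^ 3)) := by
    simp only [map_add, map_sub, map_mul, map_pow, map_one, map_ofNat, map_neg]
    ring
  rw [hL, hR] at hflex
  obtain ⟨l3, l2, l1, l0⟩ := hcoef (1 + m ^ 3) (3 * m ^ 2 * q - 3 * m) (3 * m * q ^ 2 - 3 * q)
    (q ^ 3 + β)
  obtain ⟨r3, r2, r1, r0⟩ := hcoef lam (-(3 * lam * x₀)) (3 * lam * x₀ ^ 2) (-(lam * x₀ ^ 3))
  have e3 : 1 + m ^ 3 = lam := by rw [← l3, ← r3, hflex]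
  have e2 : 3 * m ^ 2 * q - 3 * m = -(3 * lam * x₀) := by rw [← l2, ← r2, hflex]
  have e1 : 3 * m * q ^ 2 - 3 * q = 3 * lam * x₀ ^ 2 := by rw [← l1, ← r1, hflex]
  have e0 : q ^ 3 + β = -(lam * x₀ ^ 3) := by rw [← l0, ← r0, hflex]
  have hlam : lam ≠ 0 := by rw [← e3]; exact hm3
  have A : m ^ 2 * q - m = -(lam * x₀) := by
    apply mul_left_cancel₀ h3
    linear_combination e2
  have B : m * q ^ 2 - q = lam * x₀ ^ 2 := by
    apply mul_left_cancel₀ h3
    linear_combination e1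
  have key : (1 - m * q) * (m ^ 2 + q) = 0 := by
    have h1 : lam * (m * q ^ 2 - q) = (lam * x₀) ^ 2 := by rw [B]; ring
    have h2 : lam * x₀ = m - m ^ 2 * q := by linear_combination A
    rw [h2, ← e3] at h1
    linear_combination -h1
  rcases mul_eq_zero.mp key with h | h
  · have hx : lam * x₀ = 0 := by
      have h2 : lam * x₀ = m * (1 - m * q) := by linear_combination A
      rw [h2, h, mul_zero]
    have hx0 : x₀ = 0 := by
      rcases mul_eq_zero.mp hx with h' | h'
      · exact absurd h' hlam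
      · exact h'
    refine ⟨-q, ?_⟩
    rw [hx0] at e0
    linear_combination e0
  · have hqm : q = -m ^ 2 := by linear_combination h
    have hx : lam * x₀ = lam * m := by
      have h2 : lam * x₀ = m - m ^ 2 * q := by linear_combination A
      rw [h2, hqm, ← e3]; ring
    have hx0 : x₀ = m := mul_left_cancel₀ hlam hx
    refine ⟨-m, ?_⟩
    rw [hx0, hqm, ← e3] at e0
    linear_combination e0

end Groth.Agent.S13794
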