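import Groth.Statements.S1380
import Groth.Agent.Lib.Helper13SplitIntG
import Groth.Agent.Lib.Helper13SplitIntI
import Groth.Agent.Lib.Helper13SplitIntJ
import Groth.Agent.Lib.Helper13SplitIntK
import Groth.Agent.Lib.Helper13SplitIntL
-- import your own Groth.Agent.* helpers here

set_option autoImplicit false
universe u
open FlatMor

namespace Groth.Agent.S1380

open TensorProduct in
/-- Let R → S be integral and p a prime of R with only finitely many primes of S above it, such that for
each of them the separable closure of κ(p) in its residue field is finite over κ(p). Then there are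
an étale R-algebra R' and a prime p' of R' over p such that R' ⊗ S is a finite product of
R'-algebras, each integral over R' with exactly one prime over p', whose residue field is purely
inseparable over κ(p'). -/
theorem result {R S : Type u} [CommRing R] [CommRing S] [Algebra R S] [Algebra.IsIntegral R S]
    (p : Ideal R) [p.IsPrime] (hfin : {q : PrimeSpectrum S | q.asIdeal.comap (algebraMap R S) = p}.Finite)
    (hsep : ∀ (q : PrimeSpectrum S) (hq : q.asIdeal.comap (algebraMap R S) = p),
      letI := (Ideal.ResidueField.map p q.asIdeal (algebraMap R S) hq.symm).toAlgebra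
      Module.Finite p.ResidueField (separableClosure p.ResidueField q.asIdeal.ResidueField)) :
    ∃ (R' : Type u) (_ : CommRing R') (_ : Algebra R R') (p' : PrimeSpectrum R'), Algebra.Etale R R' ∧ p'.asIdeal.comap (algebraMap R R') = p ∧
      ∃ (m : ℕ) (A : Fin m → Type u) (_ : ∀ j, CommRing (A j)) (_ : ∀ j, Algebra R' (A j)) (e : R' ⊗[R] S ≃ₐ[R'] (Π j, A j)),
        ∀ j, Algebra.IsIntegral R' (A j) ∧ ∃ (r : PrimeSpectrum (A j)) (hr : r.asIdeal.comap (algebraMap R' (A j)) = p'.asIdeal),
          (∀ r' : PrimeSpectrum (A j), r'.asIdeal.comap (algebraMap R' (A j)) = p'.asIdeal → r' = r) ∧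
          letI := (Ideal.ResidueField.map p'.asIdeal r.asIdeal (algebraMap R' (A j)) hr.symm).toAlgebra
          IsPurelyInseparable p'.asIdeal.ResidueField r.asIdeal.ResidueField := by
  classical
  obtain ⟨R₁, _, _, _, p₁, _, hp₁, hPI⟩ :=
    Groth.Agent.Helper13SplitInt.exists_etale_purelyInsep p hfin hsep
  have hfin₁ := Groth.Agent.Helper13SplitInt.finite_fibre_tensor (R := R) (R₁ := R₁) (S := S)
    p p₁ hp₁ hfin
  obtain ⟨R₃, _, _, _, p₃, _, hp₃, -, n, ε, hε, H⟩ :=
    Groth.Agent.Helper13SplitInt.exists_etale_split_integral (R₁ := R₁) (B₁ := R₁ ⊗[R] S) p₁ hfin₁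
  letI : Algebra R R₃ := ((algebraMap R₁ R₃).comp (algebraMap R R₁)).toAlgebra
  haveI : IsScalarTower R R₁ R₃ := .of_algebraMap_eq' rfl
  haveI : Algebra.Etale R R₃ := Algebra.Etale.comp R R₁ R₃
  let c : R₃ ⊗[R] S ≃ₐ[R₃] R₃ ⊗[R₁] (R₁ ⊗[R] S) :=
    (Algebra.TensorProduct.cancelBaseChange R R₁ R₃ R₃ S).symm
  obtain ⟨e, he, hA⟩ := Groth.Agent.Helper13SplitInt.exists_split_of_idempotents p₃ ε hε H
  refine ⟨R₃, inferInstance, inferInstance, ⟨p₃, inferInstance⟩, inferInstance, ?_, n,
    fun i => (R₃ ⊗[R₁] (R₁ ⊗[R] S)) ⧸ Ideal.span {1 - ε i}, inferInstance, inferInstance,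
    c.trans e, ?_⟩
  · change p₃.comap (algebraMap R R₃) = p
    rw [IsScalarTower.algebraMap_eq R R₁ R₃, ← Ideal.comap_comap, hp₃, hp₁]
  intro i
  obtain ⟨hint, r, hr, huniq⟩ := hA i
  refine ⟨hint, r, hr, huniq, ?_⟩
  haveI : r.asIdeal.IsPrime := r.2
  refine Groth.Agent.Helper13SplitInt.isPurelyInseparable_of_pi (R := R) (S := S) (R₁ := R₁)
    (R₃ := R₃) ((Ideal.Quotient.mkₐ R₃ (Ideal.span {1 - ε i})).comp c.toAlgHom) ?_ p p₁ hp₁ hPI
    p₃ hp₃ r.asIdeal hr
  exact (Ideal.Quotient.mkₐ_surjective R₃ _).comp c.surjective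

end Groth.Agent.S1380
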