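import Groth.Statements.S13801
import Mathlib.NumberTheory.Padics.PadicVal.Basic
import Mathlib.Tactic

set_option autoImplicit false
open ChowMon

namespace Groth.Agent.S13801

/-- For a prime p and positive natural numbers a_1, ..., a_k with sum n one has v_p(a_1!) + ... +
v_p(a_k!) ≤ v_p(n!), and the inequality is strict whenever some a_i is not divisible by p^(v_p(n)). -/
theorem result {k : ℕ} (p : ℕ) [Fact p.Prime]
    (a : Fin k → ℕ) (ha : ∀ i, 0 < a i) :
    (∑ i, padicValNat p (a i).factorial ≤ padicValNat p (∑ i, a i).factorial) ∧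
      ((∃ i, ¬ p ^ padicValNat p (∑ j, a j) ∣ a i) →
        ∑ i, padicValNat p (a i).factorial < padicValNat p (∑ i, a i).factorial) := by
  classical
  have hp : p.Prime := Fact.out
  set n := ∑ i, a i with hn
  have hle : ∀ i, a i ≤ n := fun i =>
    Finset.single_le_sum (f := a) (fun j _ => Nat.zero_le _) (Finset.mem_univ i)
  set b := Nat.log p n + 1 with hb
  have hlog : ∀ i, Nat.log p (a i) < b := fun i =>
    Nat.lt_succ_of_le (Nat.log_mono_right (hle i))
  have hval : ∀ i, padicValNat p (a i).factorial = ∑ j ∈ Finset.Ico 1 b, a i / p ^ j :=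
    fun i => padicValNat_factorial (hlog i)
  have hvaln : padicValNat p n.factorial = ∑ j ∈ Finset.Ico 1 b, n / p ^ j :=
    padicValNat_factorial (Nat.lt_succ_self _)
  have hdiv : ∀ d : ℕ, ∑ i, a i / d ≤ n / d := by
    intro d
    rcases Nat.eq_zero_or_pos d with rfl | hd
    · simp
    · rw [Nat.le_div_iff_mul_le hd, Finset.sum_mul]
      exact Finset.sum_le_sum fun i _ => Nat.div_mul_le_self _ _
  have hsum : ∑ i, padicValNat p (a i).factorial = ∑ j ∈ Finset.Ico 1 b, ∑ i, a i / p ^ j := by
    rw [Finset.sum_congr rfl fun i _ => hval i, Finset.sum_comm]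
  constructor
  · rw [hsum, hvaln]
    exact Finset.sum_le_sum fun j _ => hdiv _
  · rintro ⟨i₀, hi₀⟩
    rw [hsum, hvaln]
    set t := padicValNat p n with ht
    have hnpos : 0 < n := lt_of_lt_of_le (ha i₀) (hle i₀)
    have hdvd : p ^ t ∣ n := pow_padicValNat_dvd
    have ht1 : 1 ≤ t := by
      by_contra h
      have : t = 0 := by omega
      rw [this, pow_zero] at hi₀
      exact hi₀ (one_dvd _)
    have htb : t < b := by
      apply Nat.lt_succ_of_le
      exact Nat.le_log_of_pow_le hp.one_lt (Nat.le_of_dvd hnpos hdvd)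
    apply Finset.sum_lt_sum (fun j _ => hdiv _)
    refine ⟨t, Finset.mem_Ico.mpr ⟨ht1, htb⟩, ?_⟩
    rw [Nat.lt_div_iff_mul_lt_of_dvd (pow_pos hp.pos t).ne' hdvd, Finset.sum_mul]
    apply Finset.sum_lt_sum (fun i _ => Nat.div_mul_le_self _ _)
    refine ⟨i₀, Finset.mem_univ _, ?_⟩
    apply lt_of_le_of_ne (Nat.div_mul_le_self _ _)
    intro h
    exact hi₀ ⟨a i₀ / p ^ t, by rw [mul_comm]; exact h.symm⟩

end Groth.Agent.S13801
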