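import Groth.Statements.S13807
import Groth.Agent.Lib.Helper20EtaPt

set_option autoImplicit false
universe u
open EtaPt

namespace Groth.Agent.S13807

/-- For a field K the pointwise ring M_η(K) is all of N_η(K) = F(k((0))). Here η is a natural
transformation from the identity of the category of fields to an endofunctor F with F(η_K) bijective
and η_K purely inseparable for every field K, N_η(A) is the product of the F(k(p)) over the primes p
of A with diagonal map t_A, and M_η(A) ⊆ N_η(A) is the subring of elements sent into the range of
t_R by every ring map from A to a valuation ring R at whose fraction field η is bijective; q_A : A →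
M_η(A) is the corestriction of t_A. -/
theorem result (η : EtaPt.FieldEndo.{u}) (K : Type u) [Field K] : η.M K = ⊤ := by
  rw [eq_top_iff]
  intro x _ R _ _ _ hR g
  have hexp : ExpChar R (ringExpChar K) := expChar_of_injective_ringHom g.injective _
  -- the unique prime of `K`
  let p0 : PrimeSpectrum K := ⟨⊥, Ideal.isPrime_bot⟩
  have hp0 : ∀ p : PrimeSpectrum K, p = p0 := fun p =>
    PrimeSpectrum.ext (Ideal.eq_bot_of_prime p.asIdeal)
  have hmax : p0.asIdeal.IsMaximal := Ideal.bot_isMaximal
  have he : ringExpChar p0.asIdeal.ResidueField = ringExpChar K := by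
    have : ExpChar p0.asIdeal.ResidueField (ringExpChar K) :=
      expChar_of_injective_ringHom (algebraMap K p0.asIdeal.ResidueField).injective _
    exact ringExpChar.eq _ _
  obtain ⟨n, a', ha'⟩ := η.exists_pow_mem_range_eta p0.asIdeal.ResidueField (x p0)
  obtain ⟨a, rfl⟩ := Ideal.algebraMap_residueField_surjective p0.asIdeal a'
  rw [he] at ha'
  have hx : x ^ ringExpChar K ^ n = η.t K a := by
    funext p
    obtain rfl := hp0 p
    rw [Pi.pow_apply, Groth.Agent.Lib.Helper20.EtaPt.t_apply]
    exact ha'.symm
  refine Groth.Agent.Lib.Helper20.EtaPt.mem_range_t_of_pow η hR (ringExpChar K) n _ (g a) ?_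
  rw [← map_pow, hx, η.Nmap_t_apply]

end Groth.Agent.S13807
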