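import Groth.Statements.S13814
import Groth.Agent.Lib.Helper20EtaPtVal

set_option autoImplicit false
universe u
open EtaPt

namespace Groth.Agent.S13814

/-- Let R be a valuation ring with fraction field K = k((0)) such that η is bijective at K, or such that
every field of the same characteristic as R at which η is bijective is perfect. Then the ring M_η(R)
is again a valuation ring, every element of F(K) is a quotient of generic components of elements of
M_η(R), and an element of F(K) that is both the generic component of an element of M_η(R) and in the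
image of K comes from R. (The published statement assumes nothing about η beyond the standing
conditions, and then fails: for the endofunctor equal to the perfect closure on the fields of
characteristic 2 and transcendence degree at least 2 over the prime field and to the identity on
every other field, and R = F_2(s)[t] localised at (t), neither of the elements (s^(1/2) t, 0) and
(t, 0) of M_η(R) ⊆ F(K) × F_2(s) divides the other, so M_η(R) is not a valuation ring. This row
assumes that η is bijective at Frac R, or that every field of the same characteristic as R at which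
η is bijective is perfect; both the identity and the perfect closure satisfy this.) Here η is a
natural transformation from the identity of the category of fields to an endofunctor F with F(η_K)
bijective and η_K purely inseparable for every field K, N_η(A) is the product of the F(k(p)) over
the primes p of A with diagonal map t_A, and M_η(A) ⊆ N_η(A) is the subring of elements sent into
the range of t_R by every ring map from A to a valuation ring R at whose fraction field η is
bijective; q_A : A → M_η(A) is the corestriction of t_A. -/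
theorem result (η : EtaPt.FieldEndo.{u}) (R : Type u) [CommRing R] [IsDomain R] [ValuationRing R]
    (hη : η.InV R ∨ ∀ (k : Type u) [Field k], ringChar k = ringChar R →
      Function.Bijective (η.eta k) → PerfectField k) :
    IsDomain (η.M R) ∧ PreValuationRing (η.M R) ∧
      (∀ y : η.obj (⊥ : Ideal R).ResidueField, ∃ a b : η.M R,
        (b : η.N R) ⟨⊥, Ideal.isPrime_bot⟩ ≠ 0 ∧
          y * (b : η.N R) ⟨⊥, Ideal.isPrime_bot⟩ = (a : η.N R) ⟨⊥, Ideal.isPrime_bot⟩) ∧
      (fun x : η.N R => x ⟨⊥, Ideal.isPrime_bot⟩) '' (η.M R : Set (η.N R)) ∩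
          Set.range (η.eta (⊥ : Ideal R).ResidueField) =
        Set.range ((η.eta (⊥ : Ideal R).ResidueField).comp (algebraMap R (⊥ : Ideal R).ResidueField)) := by
  have hev : Function.Injective ((Pi.evalRingHom (fun p : PrimeSpectrum R => η.obj p.asIdeal.ResidueField)
      ⟨⊥, Ideal.isPrime_bot⟩).comp (η.M R).subtype) := by
    intro a b hab
    exact Subtype.ext (Groth.Agent.Lib.Helper20.EtaPt.injOn_generic_valuationRing η R a.2 b.2 hab)
  have hK := Groth.Agent.Lib.Helper20.EtaPt.expChar_obj η (⊥ : Ideal R).ResidueField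
  rw [Groth.Agent.Lib.Helper20.EtaPt.ringExpChar_residueField_bot] at hK
  refine ⟨hev.isDomain _, ⟨fun a b => ?_⟩, fun y => ?_, ?_⟩
  · -- divisibility
    rcases hη with hR | hperf
    · obtain ⟨r, rfl⟩ := (Groth.Agent.Lib.Helper20.EtaPt.q_bijective_of_isIntegrallyClosed η R hR).2 a
      obtain ⟨r', rfl⟩ := (Groth.Agent.Lib.Helper20.EtaPt.q_bijective_of_isIntegrallyClosed η R hR).2 b
      obtain ⟨c, hc | hc⟩ := ValuationRing.cond r r'
      · exact ⟨η.q R c, Or.inl (by rw [← map_mul, hc])⟩
      · exact ⟨η.q R c, Or.inr (by rw [← map_mul, hc])⟩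
    · obtain ⟨n, a₀, ha⟩ := Groth.Agent.Lib.Helper20.EtaPt.exists_pow_eq_t_of_mem_M η a.2
      obtain ⟨m, b₀, hb⟩ := Groth.Agent.Lib.Helper20.EtaPt.exists_pow_eq_t_of_mem_M η b.2
      have ha' : (a : η.N R) ^ ringExpChar R ^ (n + m) = η.t R (a₀ ^ ringExpChar R ^ m) := by
        rw [pow_add, pow_mul, ha, map_pow]
      have hb' : (b : η.N R) ^ ringExpChar R ^ (n + m) = η.t R (b₀ ^ ringExpChar R ^ n) := by
        rw [add_comm, pow_add, pow_mul, hb, map_pow]
      obtain ⟨c₀, hc | hc⟩ := ValuationRing.cond (a₀ ^ ringExpChar R ^ m) (b₀ ^ ringExpChar R ^ n)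
      · obtain ⟨c, hc'⟩ := Groth.Agent.Lib.Helper20.EtaPt.exists_root η (ringExpChar R) hperf (n + m) (η.t R c₀)
        refine ⟨⟨c, Groth.Agent.Lib.Helper20.EtaPt.mem_M_of_pow_eq_t η (ringExpChar R) (n + m) c₀ hc'⟩, Or.inl (Subtype.ext ?_)⟩
        apply Groth.Agent.Lib.Helper20.EtaPt.pow_inj_N η (ringExpChar R) (n + m)
        change ((a : η.N R) * c) ^ _ = _
        rw [mul_pow, ha', hc', hb', ← map_mul, hc]
      · obtain ⟨c, hc'⟩ := Groth.Agent.Lib.Helper20.EtaPt.exists_root η (ringExpChar R) hperf (n + m) (η.t R c₀)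
        refine ⟨⟨c, Groth.Agent.Lib.Helper20.EtaPt.mem_M_of_pow_eq_t η (ringExpChar R) (n + m) c₀ hc'⟩, Or.inr (Subtype.ext ?_)⟩
        apply Groth.Agent.Lib.Helper20.EtaPt.pow_inj_N η (ringExpChar R) (n + m)
        change ((b : η.N R) * c) ^ _ = _
        rw [mul_pow, ha', hc', hb', ← map_mul, hc]
  · -- fractions
    rcases hη with hR | hperf
    · obtain ⟨β, rfl⟩ := (Groth.Agent.Lib.Helper20.EtaPt.bijective_eta_bot_of_InV η R hR).2 y
      obtain ⟨a₁, s, hs, rfl⟩ := IsFractionRing.div_surjective (A := R) β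
      have hs0 : algebraMap R (⊥ : Ideal R).ResidueField s ≠ 0 :=
        IsFractionRing.to_map_ne_zero_of_mem_nonZeroDivisors hs
      refine ⟨η.q R a₁, η.q R s, ?_, ?_⟩
      · rw [Groth.Agent.Lib.Helper20.EtaPt.q_coe, Groth.Agent.Lib.Helper20.EtaPt.t_apply]
        exact (map_ne_zero _).mpr hs0
      · rw [Groth.Agent.Lib.Helper20.EtaPt.q_coe, Groth.Agent.Lib.Helper20.EtaPt.q_coe,
          Groth.Agent.Lib.Helper20.EtaPt.t_apply, Groth.Agent.Lib.Helper20.EtaPt.t_apply, ← map_mul,
          div_mul_cancel₀ _ hs0]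
    · obtain ⟨n, α, hα⟩ := η.exists_pow_mem_range_eta (⊥ : Ideal R).ResidueField y
      rw [Groth.Agent.Lib.Helper20.EtaPt.ringExpChar_residueField_bot] at hα
      obtain ⟨a₁, s, hs, rfl⟩ := IsFractionRing.div_surjective (A := R) α
      have hs0 : algebraMap R (⊥ : Ideal R).ResidueField s ≠ 0 :=
        IsFractionRing.to_map_ne_zero_of_mem_nonZeroDivisors hs
      obtain ⟨a, ha⟩ := Groth.Agent.Lib.Helper20.EtaPt.exists_root η (ringExpChar R) hperf n (η.t R a₁)
      obtain ⟨b, hb⟩ := Groth.Agent.Lib.Helper20.EtaPt.exists_root η (ringExpChar R) hperf n (η.t R s)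
      have ha0 := congrFun ha ⟨⊥, Ideal.isPrime_bot⟩
      have hb0 := congrFun hb ⟨⊥, Ideal.isPrime_bot⟩
      rw [Pi.pow_apply, Groth.Agent.Lib.Helper20.EtaPt.t_apply] at ha0 hb0
      refine ⟨⟨a, Groth.Agent.Lib.Helper20.EtaPt.mem_M_of_pow_eq_t η (ringExpChar R) n a₁ ha⟩,
        ⟨b, Groth.Agent.Lib.Helper20.EtaPt.mem_M_of_pow_eq_t η (ringExpChar R) n s hb⟩, ?_, ?_⟩
      · change b ⟨⊥, Ideal.isPrime_bot⟩ ≠ 0
        intro hb00
        rw [hb00, zero_pow (pow_ne_zero _ (expChar_pos R (ringExpChar R)).ne')] at hb0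
        exact (map_ne_zero _).mpr hs0 hb0.symm
      · change y * b ⟨⊥, Ideal.isPrime_bot⟩ = a ⟨⊥, Ideal.isPrime_bot⟩
        apply Groth.Agent.Lib.Helper20.EtaPt.pow_expChar_pow_inj (ringExpChar R) n
        rw [mul_pow, ha0, hb0, ← hα, ← map_mul, div_mul_cancel₀ _ hs0]
  · -- intersection with the image of `K`
    ext y
    constructor
    · rintro ⟨⟨x, hx, rfl⟩, ⟨β, hβ⟩⟩
      have hint := Groth.Agent.Lib.Helper20.EtaPt.isIntegralElem_generic_of_mem_M η hx
      simp only at hβ
      rw [← hβ] at hint
      obtain ⟨b₀, rfl⟩ := Groth.Agent.Lib.Helper20.EtaPt.mem_range_of_isIntegralElem_eta η hint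
      exact ⟨b₀, hβ⟩
    · rintro ⟨r, rfl⟩
      exact ⟨⟨η.t R r, η.t_mem_M R r, rfl⟩, ⟨algebraMap R _ r, rfl⟩⟩

end Groth.Agent.S13814
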