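import Groth.Statements.S13821
import Groth.Agent.Lib.Helper20EtaPt

set_option autoImplicit false
universe u
open EtaPt

namespace Groth.Agent.S13821

/-- Let A and B have finitely many minimal prime ideals and let f : A → B, g : B → C be ring maps with
Spec(f) and Spec(g) surjective. If q_{B/A} and q_{C/B} are bijective then so is q_{C/A}; and if g is
injective and q_{C/A} is bijective then q_{B/A} is bijective. Here η is a natural transformation
from the identity of the category of fields to an endofunctor F with F(η_K) bijective and η_K purely
inseparable for every field K, N_η(A) is the product of the F(k(p)) over the primes p of A with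
diagonal map t_A, and M_η(A) ⊆ N_η(A) is the subring of elements sent into the range of t_R by every
ring map from A to a valuation ring R at whose fraction field η is bijective; q_A : A → M_η(A) is
the corestriction of t_A. For a ring map f : A → B, (B/A)_η ⊆ B denotes the subring of elements b
with t_B(b) in N_η(f)(M_η(A)) (the image in B of the fibre product of M_η(A) and B over M_η(B)), and
q_{B/A} : A → (B/A)_η the corestriction of f. (The published statement assumes finitely many minimal
primes only for A; this row also assumes it for B, under which the relative ring of g is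
introduced.) -/
theorem result (η : EtaPt.FieldEndo.{u}) {A B C : Type u} [CommRing A] [CommRing B] [CommRing C]
    (hA : (minimalPrimes A).Finite) (hB : (minimalPrimes B).Finite) (f : A →+* B) (g : B →+* C)
    (hf : Function.Surjective (PrimeSpectrum.comap f)) (hg : Function.Surjective (PrimeSpectrum.comap g)) :
    (Function.Bijective (η.qRel f) → Function.Bijective (η.qRel g) → Function.Bijective (η.qRel (g.comp f))) ∧
      (Function.Injective g → Function.Bijective (η.qRel (g.comp f)) → Function.Bijective (η.qRel f)) := by
  have hginj := Groth.Agent.Lib.Helper20.EtaPt.Nmap_injective_of_surjective η g hg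
  constructor
  · intro h1 h2
    constructor
    · intro a a' haa'
      have h3 : g (f a) = g (f a') := congrArg Subtype.val haa'
      have h4 : η.qRel g (f a) = η.qRel g (f a') := Subtype.ext h3
      have h5 : η.qRel f a = η.qRel f a' := Subtype.ext (h2.1 h4)
      exact h1.1 h5
    · rintro ⟨c, x, hx, hxc⟩
      rw [Groth.Agent.Lib.Helper20.EtaPt.Nmap_comp_apply] at hxc
      have hc : c ∈ η.rel g := ⟨η.Nmap f x, Groth.Agent.Lib.Helper20.EtaPt.Nmap_mem_M η f hx, hxc⟩
      obtain ⟨b, hb⟩ := h2.2 ⟨c, hc⟩
      have hb' : g b = c := congrArg Subtype.val hb
      have hbrel : b ∈ η.rel f := by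
        refine ⟨x, hx, hginj ?_⟩
        rw [hxc, η.Nmap_t_apply, hb']
      obtain ⟨a, ha⟩ := h1.2 ⟨b, hbrel⟩
      have ha' : f a = b := congrArg Subtype.val ha
      exact ⟨a, Subtype.ext (by change g (f a) = c; rw [ha', hb'])⟩
  · intro hinj h
    constructor
    · intro a a' haa'
      have h3 : f a = f a' := congrArg Subtype.val haa'
      exact h.1 (Subtype.ext (by change g (f a) = g (f a'); rw [h3]))
    · rintro ⟨b, x, hx, hxb⟩
      have hgb : g b ∈ η.rel (g.comp f) := by
        refine ⟨x, hx, ?_⟩
        rw [Groth.Agent.Lib.Helper20.EtaPt.Nmap_comp_apply, hxb, η.Nmap_t_apply]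
      obtain ⟨a, ha⟩ := h.2 ⟨g b, hgb⟩
      have ha' : g (f a) = g b := congrArg Subtype.val ha
      exact ⟨a, Subtype.ext (hinj ha')⟩

end Groth.Agent.S13821
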