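import Groth.Statements.S13822
import Groth.Agent.Lib.Helper20EtaPtRel

set_option autoImplicit false
universe u
open scoped TensorProduct
open EtaPt

namespace Groth.Agent.S13822

/-- Let A → A' be faithfully flat with A and A' having finitely many minimal prime ideals, and B an
A-algebra with Spec B → Spec A surjective; if q_{(A' ⊗ B)/A'} is bijective then q_{B/A} is
bijective. Here η is a natural transformation from the identity of the category of fields to an
endofunctor F with F(η_K) bijective and η_K purely inseparable for every field K, N_η(A) is the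
product of the F(k(p)) over the primes p of A with diagonal map t_A, and M_η(A) ⊆ N_η(A) is the
subring of elements sent into the range of t_R by every ring map from A to a valuation ring R at
whose fraction field η is bijective; q_A : A → M_η(A) is the corestriction of t_A. For a ring map f
: A → B, (B/A)_η ⊆ B denotes the subring of elements b with t_B(b) in N_η(f)(M_η(A)) (the image in B
of the fibre product of M_η(A) and B over M_η(B)), and q_{B/A} : A → (B/A)_η the corestriction of f. -/
theorem result (η : EtaPt.FieldEndo.{u}) (A A' B : Type u) [CommRing A] [CommRing A'] [CommRing B]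
    [Algebra A A'] [Algebra A B] [Module.FaithfullyFlat A A']
    (hA : (minimalPrimes A).Finite) (hA' : (minimalPrimes A').Finite)
    (hs : Function.Surjective (PrimeSpectrum.comap (algebraMap A B)))
    (h : Function.Bijective (η.qRel (Algebra.TensorProduct.includeLeftRingHom : A' →+* A' ⊗[A] B))) :
    Function.Bijective (η.qRel (algebraMap A B)) := by
  constructor
  · -- injective
    have h1 : Function.Injective (algebraMap A' (A' ⊗[A] B)) := by
      intro x y hxy
      apply h.1
      apply Subtype.ext
      exact hxy
    have h2 := Module.FaithfullyFlat.injective_of_tensorProduct (R := A) (S := A') (T := B) h1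
    intro a a' haa'
    apply h2
    exact congrArg Subtype.val haa'
  · rintro ⟨b, hb⟩
    obtain ⟨m, hm, hmb⟩ := hb
    let g : A →+* A' := algebraMap A A'
    let g' : B →+* A' ⊗[A] B := (Algebra.TensorProduct.includeRight : B →ₐ[A] A' ⊗[A] B).toRingHom
    let f' : A' →+* A' ⊗[A] B := Algebra.TensorProduct.includeLeftRingHom
    have hcomm : g'.comp (algebraMap A B) = f'.comp g := by
      refine RingHom.ext fun a => ?_
      show (Algebra.TensorProduct.includeRight : B →ₐ[A] A' ⊗[A] B) (algebraMap A B a) =
        (Algebra.TensorProduct.includeLeft : A' →ₐ[A] A' ⊗[A] B) (algebraMap A A' a)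
      rw [AlgHom.commutes, AlgHom.commutes]
    have hmem : g' b ∈ η.rel f' := by
      refine ⟨η.Nmap g m, Groth.Agent.Lib.Helper20.EtaPt.Nmap_mem_M η g hm, ?_⟩
      rw [← Groth.Agent.Lib.Helper20.EtaPt.Nmap_comp_apply, ← hcomm,
        Groth.Agent.Lib.Helper20.EtaPt.Nmap_comp_apply, hmb, η.Nmap_t_apply]
    obtain ⟨a', ha'⟩ := h.2 ⟨g' b, hmem⟩
    have ha'' : a' ⊗ₜ[A] (1 : B) = (1 : A') ⊗ₜ[A] b := congrArg Subtype.val ha'
    let π : B →ₗ[A] (B ⧸ LinearMap.range (Algebra.linearMap A B)) :=
      (LinearMap.range (Algebra.linearMap A B)).mkQ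
    have hπ1 : π 1 = 0 := by
      rw [Submodule.mkQ_apply, Submodule.Quotient.mk_eq_zero]
      exact ⟨1, by simp⟩
    have h3 : (π.lTensor A') (a' ⊗ₜ[A] (1 : B)) = 0 := by
      rw [LinearMap.lTensor_tmul, hπ1, TensorProduct.tmul_zero]
    have h5 : (1 : A') ⊗ₜ[A] π b = 0 := by
      rw [← LinearMap.lTensor_tmul, ← ha'', h3]
    have h6 : π b = 0 := by
      apply Module.FaithfullyFlat.tensorProduct_mk_injective (A := A) (B := A')
        (B ⧸ LinearMap.range (Algebra.linearMap A B))
      rw [TensorProduct.mk_apply, h5, map_zero]
    obtain ⟨a, ha⟩ := (Submodule.Quotient.mk_eq_zero _).mp h6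
    exact ⟨a, Subtype.ext ha⟩

end Groth.Agent.S13822
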