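import Groth.Statements.S13823
import Groth.Agent.Lib.Helper20EtaPtRel

set_option autoImplicit false
universe u
open EtaPt

namespace Groth.Agent.S13823

/-- Let A → A' be faithfully flat with A and A' having finitely many minimal prime ideals, and let Ā, Ā'
be the integral closures of A, A' in their total rings of fractions; if q_{Ā'/A'} is bijective then
q_{Ā/A} is bijective. Here η is a natural transformation from the identity of the category of fields
to an endofunctor F with F(η_K) bijective and η_K purely inseparable for every field K, N_η(A) is
the product of the F(k(p)) over the primes p of A with diagonal map t_A, and M_η(A) ⊆ N_η(A) is the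
subring of elements sent into the range of t_R by every ring map from A to a valuation ring R at
whose fraction field η is bijective; q_A : A → M_η(A) is the corestriction of t_A. For a ring map f
: A → B, (B/A)_η ⊆ B denotes the subring of elements b with t_B(b) in N_η(f)(M_η(A)) (the image in B
of the fibre product of M_η(A) and B over M_η(B)), and q_{B/A} : A → (B/A)_η the corestriction of f. -/
theorem result (η : EtaPt.FieldEndo.{u}) (A A' : Type u) [CommRing A] [CommRing A'] [Algebra A A'] [Module.FaithfullyFlat A A']
    (hA : (minimalPrimes A).Finite) (hA' : (minimalPrimes A').Finite)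
    (h : Function.Bijective (η.qRel (algebraMap A' (integralClosure A' (FractionRing A'))))) :
    Function.Bijective (η.qRel (algebraMap A (integralClosure A (FractionRing A)))) := by
  classical
  let K := FractionRing A
  let K' := FractionRing A'
  let g : A →+* A' := algebraMap A A'
  have hy : nonZeroDivisors A ≤ Submonoid.comap g (nonZeroDivisors A') := by
    intro r hr
    have hreg : IsSMulRegular A' r := Module.Flat.isSMulRegular_of_nonZeroDivisors hr
    rw [Submonoid.mem_comap, mem_nonZeroDivisors_iff_right]
    intro x hx
    apply hreg
    show r • x = r • 0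
    rw [smul_zero, Algebra.smul_def, mul_comm]
    exact hx
  let Φ : K →+* K' := IsLocalization.map K' g hy
  have hΦ : ∀ a : A, Φ (algebraMap A K a) = algebraMap A' K' (g a) := fun a =>
    IsLocalization.map_eq hy a
  have hint : ∀ b : integralClosure A K, Φ (b : K) ∈ integralClosure A' K' := by
    intro b
    have hb : IsIntegral A (b : K) := b.2
    exact hb.map_of_comp_eq g Φ (RingHom.ext fun a => (hΦ a).symm)
  let φ : integralClosure A K →+* integralClosure A' K' :=
    (Φ.comp (integralClosure A K).val.toRingHom).codRestrict (integralClosure A' K') hint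
  have hcomm : φ.comp (algebraMap A (integralClosure A K)) =
      (algebraMap A' (integralClosure A' K')).comp g := by
    refine RingHom.ext fun a => Subtype.ext ?_
    exact hΦ a
  constructor
  · intro a a' haa'
    have h1 : algebraMap A K a = algebraMap A K a' :=
      congrArg Subtype.val (congrArg Subtype.val haa')
    exact IsFractionRing.injective A K h1
  · rintro ⟨b, hb⟩
    obtain ⟨m, hm, hmb⟩ := hb
    have hmem : φ b ∈ η.rel (algebraMap A' (integralClosure A' K')) := by
      refine ⟨η.Nmap g m, Groth.Agent.Lib.Helper20.EtaPt.Nmap_mem_M η g hm, ?_⟩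
      rw [← Groth.Agent.Lib.Helper20.EtaPt.Nmap_comp_apply, ← hcomm,
        Groth.Agent.Lib.Helper20.EtaPt.Nmap_comp_apply, hmb, η.Nmap_t_apply]
    obtain ⟨a', ha'⟩ := h.2 ⟨φ b, hmem⟩
    have ha'' : algebraMap A' K' a' = Φ (b : K) :=
      congrArg (fun z => ((z : integralClosure A' K') : K')) (congrArg Subtype.val ha')
    obtain ⟨⟨x, s⟩, hxs⟩ := IsLocalization.surj (nonZeroDivisors A) (b : K)
    have hxs' : (b : K) * algebraMap A K (s : A) = algebraMap A K x := hxs
    have h2 : a' * g s = g x := by
      apply IsFractionRing.injective A' K'
      rw [map_mul, ha'', ← hΦ, ← hΦ, ← map_mul, hxs']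
    let π : A →ₗ[A] (A ⧸ Ideal.span {(s : A)}) := (Ideal.span {(s : A)}).mkQ
    have hπs : π (s : A) = 0 := by
      rw [Submodule.mkQ_apply, Submodule.Quotient.mk_eq_zero]
      exact Ideal.mem_span_singleton_self _
    have h3 : (1 : A') ⊗ₜ[A] π x = 0 := by
      have e1 : π x = x • π 1 := by rw [← map_smul, smul_eq_mul, mul_one]
      have e2 : π (s : A) = (s : A) • π 1 := by rw [← map_smul, smul_eq_mul, mul_one]
      rw [e1, ← TensorProduct.smul_tmul, Algebra.smul_def, mul_one]
      show g x ⊗ₜ[A] π 1 = 0
      rw [← h2, mul_comm, ← Algebra.smul_def, TensorProduct.smul_tmul, ← e2, hπs,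
        TensorProduct.tmul_zero]
    have h4 : π x = 0 := by
      apply Module.FaithfullyFlat.tensorProduct_mk_injective (A := A) (B := A')
        (A ⧸ Ideal.span {(s : A)})
      rw [TensorProduct.mk_apply, h3, map_zero]
    have h5 : x ∈ Ideal.span {(s : A)} := (Submodule.Quotient.mk_eq_zero _).mp h4
    obtain ⟨a, ha⟩ := Ideal.mem_span_singleton'.mp h5
    refine ⟨a, Subtype.ext (Subtype.ext ?_)⟩
    show algebraMap A K a = (b : K)
    have hunit : IsUnit (algebraMap A K (s : A)) := IsLocalization.map_units K s
    apply hunit.mul_right_cancel
    rw [hxs', ← ha, map_mul]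

end Groth.Agent.S13823
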