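import Groth.Statements.S13826
import Groth.Agent.Lib.Helper20EtaPtSN

set_option autoImplicit false
universe u
open EtaPt

namespace Groth.Agent.S13826

/-- For the identity endofunctor and a commutative ring A with finitely many minimal prime ideals, q_A :
A → M(A) is a seminormalization of A: Spec(q_A) is a universal homeomorphism with trivial residue
field extensions, final among ring maps out of A with these properties. Here M(A) ⊆ ∏_p k(p) is the
subring of families whose image in ∏_q k(q), for every ring map from A to a valuation ring R, is the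
diagonal image of an element of R. -/
theorem result (A : Type u) [CommRing A] (hA : (minimalPrimes A).Finite) :
    HTop.IsRingSN (EtaPt.FieldEndo.ident.{u}.q A) := by
  have hq := Groth.Agent.Lib.Helper20.EtaPt.q_isIntegral EtaPt.FieldEndo.ident.{u} hA
  have hb := Groth.Agent.Lib.Helper20.EtaPt.comap_q_bijective EtaPt.FieldEndo.ident.{u} hA
  have hN := Groth.Agent.Lib.Helper20.EtaPt.Nmap_q_bijective EtaPt.FieldEndo.ident.{u} hA
  have hres : ∀ Q : PrimeSpectrum (EtaPt.FieldEndo.ident.{u}.M A), Function.Bijective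
      (Ideal.ResidueField.map (PrimeSpectrum.comap (EtaPt.FieldEndo.ident.{u}.q A) Q).asIdeal
        Q.asIdeal (EtaPt.FieldEndo.ident.{u}.q A) rfl) := fun Q =>
    ⟨RingHom.injective _,
      Groth.Agent.Lib.Helper20.EtaPt.map_surjective_of_Nmap_surjective EtaPt.FieldEndo.ident.{u}
        (EtaPt.FieldEndo.ident.{u}.q A) hN.2 Q⟩
  refine ⟨Groth.Agent.Lib.Helper20.EtaPt.isUnivHomeo_and_residueFieldsIso _ hq hb hres, ?_⟩
  intro C _ ψ h1 h2
  obtain ⟨hψ, hNψ⟩ := Groth.Agent.Lib.Helper20.EtaPt.isIntegral_and_Nmap_bijective_of ψ h1 h2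
  obtain ⟨g', hg'⟩ := Groth.Agent.Lib.Helper20.EtaPt.exists_hom_M EtaPt.FieldEndo.ident.{u} ψ hψ hNψ
  exact ⟨g', hg', fun h hh =>
    Groth.Agent.Lib.Helper20.EtaPt.hom_M_ext EtaPt.FieldEndo.ident.{u} ψ hNψ h g' (hh.trans hg'.symm)⟩

end Groth.Agent.S13826
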