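import Groth.Statements.S13827
import Groth.Agent.Lib.Helper20EtaPtLoc

set_option autoImplicit false
universe u
open EtaPt

namespace Groth.Agent.S13827


open Groth.Agent.Lib.Helper20.EtaPt in
theorem local_step (η : EtaPt.FieldEndo.{u}) (A : Type u) [CommRing A] (hn : EGA4.IsNormalRing A)
    (hA : (minimalPrimes A).Finite)
    (hη : ∀ p : PrimeSpectrum A, p.asIdeal ∈ minimalPrimes A →
      Function.Bijective (η.eta p.asIdeal.ResidueField))
    (x : η.N A) (hx : x ∈ η.M A) (P : Ideal A) [hP : P.IsPrime] :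
    ∃ s : A, s ∉ P ∧ ∃ a : A, η.t A s * x = η.t A a := by
  classical
  obtain ⟨hdom, hic⟩ := hn P
  let R := Localization.AtPrime P
  let ℓ : A →+* R := algebraMap A R
  have hloc : ℓ.SurjectiveOnStalks := RingHom.surjectiveOnStalks_of_isLocalization P.primeCompl _
  let 𝔟 : PrimeSpectrum R := ⟨⊥, Ideal.isPrime_bot⟩
  let p₀ : PrimeSpectrum A := PrimeSpectrum.comap ℓ 𝔟
  have hp₀le : ∀ q : Ideal A, q.IsPrime → q ≤ P → p₀.asIdeal ≤ q := by
    intro q hq hqP
    have hdisj : Disjoint (P.primeCompl : Set A) q := by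
      rw [Set.disjoint_left]
      intro a ha haq
      exact ha (hqP haq)
    have h1 : Ideal.comap ℓ (Ideal.map ℓ q) = q :=
      IsLocalization.comap_map_of_isPrime_disjoint P.primeCompl R hq hdisj
    rw [← h1]
    exact Ideal.comap_mono bot_le
  have hp₀P : p₀.asIdeal ≤ P := hp₀le P hP le_rfl
  have hp₀min : p₀.asIdeal ∈ minimalPrimes A :=
    ⟨⟨p₀.isPrime, bot_le⟩, fun q hq hqp => hp₀le q hq.1 (hqp.trans hp₀P)⟩
  have hρ := hloc.residueFieldMap_bijective p₀.asIdeal 𝔟.asIdeal rfl
  have hInV : η.InV R := by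
    have h1 := bijective_eta_of_ringEquiv η (RingEquiv.ofBijective _ hρ) (hη p₀ hp₀min)
    exact bijective_eta_of_ringEquiv η
      (FractionRing.algEquiv R (⊥ : Ideal R).ResidueField).symm.toRingEquiv h1
  have hq := q_bijective_of_isIntegrallyClosed η R hInV
  obtain ⟨r, hr⟩ := hq.2 ⟨η.Nmap ℓ x, Nmap_mem_M η ℓ hx⟩
  have hr' : η.t R r = η.Nmap ℓ x := congrArg Subtype.val hr
  obtain ⟨⟨a, s₁⟩, has⟩ := IsLocalization.surj P.primeCompl r
  have has' : r * ℓ (s₁ : A) = ℓ a := has
  let y : η.N A := η.t A (s₁ : A) * x - η.t A a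
  have hyM : y ∈ η.M A :=
    Subring.sub_mem _ (Subring.mul_mem _ (η.t_mem_M A _) hx) (η.t_mem_M A a)
  have hy0 : η.Nmap ℓ y = 0 := by
    show η.Nmap ℓ (η.t A (s₁ : A) * x - η.t A a) = 0
    rw [map_sub, map_mul, η.Nmap_t_apply, η.Nmap_t_apply, ← hr', ← map_mul, mul_comm, has',
      sub_self]
  have hyp₀ : y p₀ = 0 := apply_comap_eq_zero_of_Nmap_eq_zero η ℓ y hy0 𝔟
  -- choose s'
  let F : Finset (Ideal A) := hA.toFinset.erase p₀.asIdeal
  have hJ : ¬ (F.inf id ≤ P) := by
    intro hle
    obtain ⟨p, hpF, hpP⟩ := (Ideal.IsPrime.inf_le' hP).mp hle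
    rw [Finset.mem_erase, Set.Finite.mem_toFinset] at hpF
    have h1 : p₀.asIdeal ≤ p := hp₀le p hpF.2.1.1 hpP
    have h2 : p ≤ p₀.asIdeal := hpF.2.2 ⟨p₀.isPrime, bot_le⟩ h1
    exact hpF.1 (le_antisymm h2 h1)
  obtain ⟨s', hs'J, hs'P⟩ := SetLike.not_le_iff_exists.mp hJ
  have hz : η.t A s' * y = 0 := by
    apply eq_zero_of_forall_minimalPrimes η (Subring.mul_mem _ (η.t_mem_M A _) hyM)
    intro Q₀ hQ₀
    show η.t A s' Q₀ * y Q₀ = 0
    by_cases hQ : Q₀.asIdeal = p₀.asIdeal
    · have : Q₀ = p₀ := PrimeSpectrum.ext hQ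
      rw [this, hyp₀, mul_zero]
    · have hmem : Q₀.asIdeal ∈ F := by
        rw [Finset.mem_erase, Set.Finite.mem_toFinset]
        exact ⟨hQ, hQ₀⟩
      have hs'Q : s' ∈ Q₀.asIdeal := (Finset.inf_le hmem : F.inf id ≤ id Q₀.asIdeal) hs'J
      rw [t_apply_eq_zero_of_mem η s' Q₀ hs'Q, zero_mul]
  refine ⟨s' * (s₁ : A), ?_, s' * a, ?_⟩
  · intro hmem
    rcases hP.mem_or_mem hmem with h | h
    · exact hs'P h
    · exact s₁.2 h
  · have : η.t A s' * (η.t A (s₁ : A) * x - η.t A a) = 0 := hz
    rw [mul_sub, sub_eq_zero] at this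
    rw [map_mul, map_mul, mul_assoc]
    exact this

/-- For a normal ring A (every localization at a prime is an integrally closed domain) with finitely
many minimal prime ideals such that η is bijective at the residue field of every minimal prime, q_A
: A → M_η(A) is bijective. Here η is a natural transformation from the identity of the category of
fields to an endofunctor F with F(η_K) bijective and η_K purely inseparable for every field K,
N_η(A) is the product of the F(k(p)) over the primes p of A with diagonal map t_A, and M_η(A) ⊆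
N_η(A) is the subring of elements sent into the range of t_R by every ring map from A to a valuation
ring R at whose fraction field η is bijective; q_A : A → M_η(A) is the corestriction of t_A. -/
theorem result (η : EtaPt.FieldEndo.{u}) (A : Type u) [CommRing A] (hn : EGA4.IsNormalRing A)
    (hA : (minimalPrimes A).Finite)
    (hη : ∀ p : PrimeSpectrum A, p.asIdeal ∈ minimalPrimes A → Function.Bijective (η.eta p.asIdeal.ResidueField)) :
    Function.Bijective (η.q A) := by
  classical
  have hred : IsReduced A := isReduced_ofLocalizationMaximal A (fun J hJ => by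
    obtain ⟨hdom, _⟩ := hn J
    infer_instance)
  constructor
  · intro a a' haa'
    exact Groth.Agent.Lib.Helper20.EtaPt.t_injective_of_isReduced η A (congrArg Subtype.val haa')
  · rintro ⟨x, hx⟩
    let I : Ideal A :=
      { carrier := {s | ∃ a : A, η.t A s * x = η.t A a}
        add_mem' := by
          rintro s s' ⟨a, ha⟩ ⟨a', ha'⟩
          exact ⟨a + a', by rw [map_add, add_mul, ha, ha', map_add]⟩
        zero_mem' := ⟨0, by rw [map_zero, zero_mul]⟩
        smul_mem' := by
          rintro c s ⟨a, ha⟩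
          exact ⟨c * a, by rw [smul_eq_mul, map_mul, mul_assoc, ha, map_mul]⟩ }
    have hI : I = ⊤ := by
      by_contra hne
      obtain ⟨P, hPmax, hIP⟩ := Ideal.exists_le_maximal I hne
      haveI : P.IsPrime := hPmax.isPrime
      obtain ⟨s, hsP, a, ha⟩ := local_step η A hn hA hη x hx P
      exact hsP (hIP ⟨a, ha⟩)
    have h1 : (1 : A) ∈ I := hI ▸ Submodule.mem_top
    obtain ⟨a, ha⟩ := h1
    refine ⟨a, Subtype.ext ?_⟩
    rw [map_one, one_mul] at ha
    exact ha.symm

end Groth.Agent.S13827
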