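import Groth.Statements.S13834
import Mathlib
import Groth.Agent.S4650
import Groth.Agent.S10832
import Groth.Agent.Lib.Helper14IrrComp

set_option autoImplicit false
universe u
open AlgebraicGeometry
open EtaPt

namespace Groth.Agent.S13834


open CategoryTheory Limits

lemma quasiCompact_fromSpecResidueField {U : Scheme.{u}} (x : U) :
    QuasiCompact (U.fromSpecResidueField x) := by
  constructor
  intro W hW hWc
  have : Finite (Spec (U.residueField x)) :=
    inferInstanceAs (Finite (PrimeSpectrum (U.residueField x)))
  exact (Set.toFinite _).isCompact

lemma finite_of_flat_lft {V U : Scheme.{u}} (g : V ⟶ U) [Flat g] [LocallyOfFiniteType g]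
    [CompactSpace V]
    (hU : (irreducibleComponents U).Finite) : (irreducibleComponents V).Finite := by
  classical
  -- generic points of components of U
  let G : Set U := ⋃ Z ∈ irreducibleComponents U, {η | IsGenericPoint η Z}
  have hG : G.Finite := by
    refine hU.biUnion (fun Z _ => Set.Subsingleton.finite ?_)
    intro a ha b hb
    exact IsGenericPoint.eq ha hb
  have hgp : ∀ T : ↥(irreducibleComponents ↥V), ∃ ξ : V, IsGenericPoint ξ (T : Set V) := fun T =>
    QuasiSober.sober T.2.1 (isClosed_of_mem_irreducibleComponents _ T.2)
  choose gp hgp using hgp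
  have hmem : ∀ T : ↥(irreducibleComponents ↥V), g (gp T) ∈ G := by
    intro T
    have hZ := Groth.Agent.S4650.result g (Flat.generalizingMap g) T T.2
    exact Set.mem_biUnion (x := closure (g '' (T : Set V))) hZ ((hgp T).image g.continuous)
  -- finiteness over each η
  have hfib : ∀ η : U, {T : ↥(irreducibleComponents ↥V) | g (gp T) = η}.Finite := by
    intro η
    have : QuasiCompact (U.fromSpecResidueField η) := quasiCompact_fromSpecResidueField η
    have : QuasiCompact (g.fiberι η) := by
      unfold Scheme.Hom.fiberι
      exact MorphismProperty.of_isPullback (P := @QuasiCompact)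
        (IsPullback.of_hasPullback g (U.fromSpecResidueField η)).flip inferInstance
    have hC : CompactSpace (g.fiber η) := QuasiCompact.compactSpace_of_compactSpace (g.fiberι η)
    have : LocallyOfFiniteType (g.fiberToSpecResidueField η) := by
      unfold Scheme.Hom.fiberToSpecResidueField
      exact MorphismProperty.of_isPullback (P := @LocallyOfFiniteType)
        (IsPullback.of_hasPullback g (U.fromSpecResidueField η)) inferInstance
    have hLN : IsLocallyNoetherian (g.fiber η) :=
      Groth.Agent.S10832.isLocallyNoetherian_of_lft (U.residueField η)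
        (g.fiberToSpecResidueField η)
    have hN : IsNoetherian (g.fiber η) := {}
    have hfin : (irreducibleComponents (g.fiber η)).Finite :=
      TopologicalSpace.NoetherianSpace.finite_irreducibleComponents
    let φ : {T : ↥(irreducibleComponents ↥V) | g (gp T) = η} → g.fiber η := fun T =>
      (g.fiberHomeo η).symm ⟨gp T.1, T.2⟩
    have hφ : ∀ T, g.fiberι η (φ T) = gp T.1 := fun T => g.fiberι_fiberHomeo_symm η _
    have hφmem : ∀ T, closure {φ T} ∈ irreducibleComponents (g.fiber η) := by
      intro T
      rw [Groth.Agent.Lib.Helper14.closure_mem_irreducibleComponents_iff]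
      intro s hs
      have h1 : g.fiberι η s ⤳ gp T.1 := by
        rw [← hφ T]
        exact hs.map (g.fiberι η).continuous
      have h2 : closure {gp T.1} ∈ irreducibleComponents V := by
        rw [(hgp T.1).def]; exact T.1.2
      rw [Groth.Agent.Lib.Helper14.closure_mem_irreducibleComponents_iff] at h2
      have h3 := h2 _ h1
      apply (g.fiberι η).isEmbedding.injective
      rw [h3, hφ T]
    rw [← Set.finite_coe_iff]
    have := hfin.to_subtype
    refine Finite.of_injective (β := ↥(irreducibleComponents (g.fiber η)))
      (fun T => ⟨closure {φ T}, hφmem T⟩) ?_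
    · intro T T' h
      have h1 : closure {φ T} = closure {φ T'} := congrArg Subtype.val h
      have h2 : φ T = φ T' := by
        have a : IsGenericPoint (φ T) (closure {φ T}) := rfl
        have b : IsGenericPoint (φ T') (closure {φ T}) := h1 ▸ rfl
        exact a.eq b
      have h3 : gp T.1 = gp T'.1 := by rw [← hφ T, ← hφ T', h2]
      apply Subtype.ext
      apply Subtype.ext
      rw [← (hgp T.1).def, ← (hgp T'.1).def, h3]
  have : (Set.univ : Set ↥(irreducibleComponents ↥V)) =
      ⋃ η ∈ G, {T : ↥(irreducibleComponents ↥V) | g (gp T) = η} := by
    ext T; simp [hmem T]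
  rw [← Set.finite_coe_iff, ← Set.finite_univ_iff, this]
  exact hG.biUnion (fun η _ => hfib η)



/-- If f : Y → X is faithfully flat and locally of finite presentation and each quasi-compact open
subset of X has only finitely many irreducible components, the same is true of each quasi-compact
open subset of Y. -/
theorem result {Y X : Scheme.{u}} (f : Y ⟶ X) [Flat f] [LocallyOfFinitePresentation f] [Surjective f]
    (hX : ∀ U : X.Opens, IsCompact (U : Set X) → (irreducibleComponents (U : Type u)).Finite)
    (V : Y.Opens) (hV : IsCompact (V : Set Y)) : (irreducibleComponents (V : Type u)).Finite := by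
  let U : X.Opens := ⟨f '' (V : Set Y), f.isOpenMap _ V.isOpen⟩
  have hUc : IsCompact (U : Set X) := hV.image f.continuous
  have hVU : V ≤ f ⁻¹ᵁ U := fun y hy => ⟨y, hy, rfl⟩
  have : CompactSpace (V : Scheme.{u}) := isCompact_iff_compactSpace.mp hV
  exact finite_of_flat_lft (f.resLE U V hVU) (hX U hUc)

end Groth.Agent.S13834
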