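import Groth.Statements.S13835
-- import your own Groth.Agent.* helpers here

set_option autoImplicit false
universe u
open AlgebraicGeometry CategoryTheory
open ChowMon

namespace Groth.Agent.S13835

/-- Let p : T' → T be a universal homeomorphism of separated schemes with T reduced and f' : T' → Y a
morphism (Y separated); if T has an open cover by affine opens U_i such that each restriction of f'
to p⁻¹(U_i) factors through p⁻¹(U_i) → U_i, then f' factors through p. -/
theorem result {T' T Y : Scheme.{u}} (p : T' ⟶ T) (hp : FlatMor.IsUnivHomeo p) [IsReduced T]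
    [T.IsSeparated] [T'.IsSeparated] [Y.IsSeparated] (f' : T' ⟶ Y)
    {ι : Type u} (U : ι → T.affineOpens) (hU : ⨆ i, (U i : T.Opens) = ⊤)
    (hloc : ∀ i, ∃ fi : ((U i : T.Opens) : Scheme.{u}) ⟶ Y, (p ⁻¹ᵁ (U i : T.Opens)).ι ≫ f' = (p ∣_ (U i : T.Opens)) ≫ fi) :
    ∃ f : T ⟶ Y, p ≫ f = f' := by
  choose fi hfi using hloc
  have hcompat : ∀ i j : ι, Limits.pullback.fst (U i : T.Opens).ι (U j : T.Opens).ι ≫ fi i =
      Limits.pullback.snd (U i : T.Opens).ι (U j : T.Opens).ι ≫ fi j := by
    intro i j
    let g : Limits.pullback (U i : T.Opens).ι (U j : T.Opens).ι ⟶ T :=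
      Limits.pullback.fst (U i : T.Opens).ι (U j : T.Opens).ι ≫ (U i : T.Opens).ι
    have hg : g = Limits.pullback.snd (U i : T.Opens).ι (U j : T.Opens).ι ≫ (U j : T.Opens).ι :=
      Limits.pullback.condition
    have : IsReduced (Limits.pullback (U i : T.Opens).ι (U j : T.Opens).ι) :=
      isReduced_of_isOpenImmersion g
    have hhomeo : IsHomeomorph (Limits.pullback.snd p g) :=
      hp (Limits.pullback.fst p g) g (Limits.pullback.snd p g) (IsPullback.of_hasPullback p g).flip
    have : IsDominant (Limits.pullback.snd p g) := ⟨hhomeo.surjective.denseRange⟩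
    refine ext_of_isDominant (Limits.pullback.snd p g) ?_
    have wi : (Limits.pullback.snd p g ≫ Limits.pullback.fst (U i : T.Opens).ι (U j : T.Opens).ι) ≫
        (U i : T.Opens).ι = Limits.pullback.fst p g ≫ p := by
      rw [Category.assoc]
      exact Limits.pullback.condition.symm
    have wj : (Limits.pullback.snd p g ≫ Limits.pullback.snd (U i : T.Opens).ι (U j : T.Opens).ι) ≫
        (U j : T.Opens).ι = Limits.pullback.fst p g ≫ p := by
      rw [Category.assoc, ← hg]
      exact Limits.pullback.condition.symm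
    have e1 := (isPullback_morphismRestrict p (U i : T.Opens)).lift_fst _ _ wi
    have e2 := (isPullback_morphismRestrict p (U i : T.Opens)).lift_snd _ _ wi
    have e3 := (isPullback_morphismRestrict p (U j : T.Opens)).lift_fst _ _ wj
    have e4 := (isPullback_morphismRestrict p (U j : T.Opens)).lift_snd _ _ wj
    calc Limits.pullback.snd p g ≫ Limits.pullback.fst (U i : T.Opens).ι (U j : T.Opens).ι ≫ fi i
        = (Limits.pullback.snd p g ≫ Limits.pullback.fst (U i : T.Opens).ι (U j : T.Opens).ι) ≫ fi i := by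
          rw [Category.assoc]
      _ = Limits.pullback.fst p g ≫ f' := by
          rw [← e1, Category.assoc, ← hfi i, ← Category.assoc, e2]
      _ = (Limits.pullback.snd p g ≫ Limits.pullback.snd (U i : T.Opens).ι (U j : T.Opens).ι) ≫ fi j := by
          rw [← e3, Category.assoc, ← hfi j, ← Category.assoc, e4]
      _ = Limits.pullback.snd p g ≫ Limits.pullback.snd (U i : T.Opens).ι (U j : T.Opens).ι ≫ fi j := by
          rw [Category.assoc]
  let 𝒰 : T.OpenCover := T.openCoverOfIsOpenCover (fun i => (U i : T.Opens)) hU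
  refine ⟨𝒰.glueMorphisms fi hcompat, ?_⟩
  have hU' : TopologicalSpace.IsOpenCover (fun i => p ⁻¹ᵁ (U i : T.Opens)) := by
    show ⨆ i, p ⁻¹ᵁ (U i : T.Opens) = ⊤
    rw [← Scheme.Hom.preimage_iSup, hU]
    rfl
  refine Scheme.Cover.hom_ext (T'.openCoverOfIsOpenCover (fun i => p ⁻¹ᵁ (U i : T.Opens)) hU')
    _ _ fun i => ?_
  show (p ⁻¹ᵁ (U i : T.Opens)).ι ≫ p ≫ 𝒰.glueMorphisms fi hcompat = (p ⁻¹ᵁ (U i : T.Opens)).ι ≫ f'
  rw [← Category.assoc, ← morphismRestrict_ι, Category.assoc, hfi i]
  congr 1
  exact 𝒰.ι_glueMorphisms fi hcompat i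

end Groth.Agent.S13835
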