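import Groth.Statements.S13848
import Mathlib
-- import your own Groth.Agent.* helpers here

set_option autoImplicit false
set_option linter.style.haveILetI false
set_option linter.unusedSectionVars false
universe u v
open TwSh

namespace Groth.Agent.S13848

section
variable {A : Type u} [Ring A] {P : Type v} [AddCommGroup P] [Module A P]

/-- the trace ideal of `P` (as a left ideal). -/
def trI (A : Type u) [Ring A] (P : Type v) [AddCommGroup P] [Module A P] : Ideal A :=
  Submodule.span A {a | ∃ (f : P →ₗ[A] A) (p : P), f p = a}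

lemma trI_mul_right (b : A) {t : A} (ht : t ∈ trI A P) : t * b ∈ trI A P := by
  unfold trI at ht ⊢
  induction ht using Submodule.span_induction with
  | mem s hs =>
    obtain ⟨f, p, rfl⟩ := hs
    apply Submodule.subset_span
    exact ⟨(LinearMap.toSpanSingleton A A b) ∘ₗ f, p, by simp [LinearMap.toSpanSingleton_apply]⟩
  | zero => rw [zero_mul]; exact Submodule.zero_mem _
  | add x y _ _ hx hy => rw [add_mul]; exact Submodule.add_mem _ hx hy
  | smul a x _ hx => rw [smul_eq_mul, mul_assoc]; exact Submodule.smul_mem _ a hx

instance : (trI A P ⊔ Ring.jacobson A).IsTwoSided := by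
  constructor
  intro a b ha
  obtain ⟨t, ht, j, hj, rfl⟩ := Submodule.mem_sup.1 ha
  rw [add_mul]
  exact Submodule.add_mem _ (Submodule.mem_sup_left (trI_mul_right b ht))
    (Submodule.mem_sup_right (Ideal.mul_mem_right b _ hj))

lemma top_le_trI_smul [Module.Projective A P] : (⊤ : Submodule A P) ≤ trI A P • ⊤ := by
  intro x _
  obtain ⟨s, hs⟩ := (Module.projective_def (R := A) (P := P)).1 inferInstance
  have hx := hs x
  rw [Finsupp.linearCombination_apply, Finsupp.sum] at hx
  rw [← hx]
  apply Submodule.sum_mem
  intro p _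
  apply Submodule.smul_mem_smul _ Submodule.mem_top
  apply Submodule.subset_span
  exact ⟨(Finsupp.lapply p) ∘ₗ s, x, rfl⟩

lemma trI_eq_top [IsSimpleRing (A ⧸ Ring.jacobson A)] [Module.Finite A P] [Module.Projective A P]
    [Nontrivial P] : trI A P = ⊤ := by
  have hle : Ring.jacobson A ≤ trI A P ⊔ Ring.jacobson A := le_sup_right
  rcases IsSimpleRing.injective_ringHom_or_subsingleton_codomain (Ideal.Quotient.factor hle)
    with hinj | hsub
  · exfalso
    have hTJ : trI A P ≤ Ring.jacobson A := by
      intro t ht
      have h1 : Ideal.Quotient.factor hle (Ideal.Quotient.mk _ t) = 0 := by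
        rw [Ideal.Quotient.factor_mk, Ideal.Quotient.eq_zero_iff_mem]
        exact Submodule.mem_sup_left ht
      have h2 := hinj (h1.trans (map_zero _).symm)
      exact Ideal.Quotient.eq_zero_iff_mem.1 h2
    have h3 : (⊤ : Submodule A P) ≤ Ring.jacobson A • ⊤ :=
      (top_le_trI_smul).trans (Submodule.smul_mono_left hTJ)
    have h4 := Submodule.FG.eq_bot_of_le_jacobson_smul (Module.Finite.fg_top (R := A) (M := P)) h3
    exact top_ne_bot h4
  · by_contra hne
    obtain ⟨m, hm, hTm⟩ := Ideal.exists_le_maximal _ hne
    have hJm : Ring.jacobson A ≤ m := Ring.jacobson_le_of_isMaximal m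
    have h5 : trI A P ⊔ Ring.jacobson A = ⊤ := Ideal.Quotient.subsingleton_iff.1 hsub
    have h6 : (⊤ : Ideal A) ≤ m := h5 ▸ sup_le hTm hJm
    exact hm.ne_top (top_le_iff.1 h6)

end


/-- Let A be a ring with A/J a simple left-Artinian ring, J the Jacobson radical, and let P be a
non-zero finitely generated projective left A-module. An A-linear automorphism u of P which commutes
with every A-linear endomorphism of P (equivalently, induces the identity on End_A(P) by
conjugation) is scalar multiplication by a unique central element a of A: u(x) = a·x for all x ∈ P,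
and a is determined by u. (So the automorphisms of P acting trivially on End_A(P) are exactly the
central units of A acting by scalars; the published assertion does not exclude P = 0, where
uniqueness fails.) -/
theorem result (A : Type u) [Ring A] [IsSimpleRing (A ⧸ Ring.jacobson A)] [IsArtinianRing (A ⧸ Ring.jacobson A)] (P : Type v) [AddCommGroup P] [Module A P] [Module.Finite A P] [Module.Projective A P] [Nontrivial P] (u : P ≃ₗ[A] P) (hu : ∀ f : Module.End A P, (u : P →ₗ[A] P) ∘ₗ f = f ∘ₗ (u : P →ₗ[A] P)) : ∃! a : A, (∀ b : A, a * b = b * a) ∧ ∀ x : P, u x = a • x := by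
  have h1 : (1 : A) ∈ trI A P := by rw [trI_eq_top]; exact Submodule.mem_top
  -- key relation
  have key : ∀ s ∈ trI A P, ∃ s' : A, ∀ x : P, s • u x = s' • x := by
    intro s hs
    unfold trI at hs
    induction hs using Submodule.span_induction with
    | mem s hs =>
      obtain ⟨f, p, rfl⟩ := hs
      refine ⟨f (u p), fun x => ?_⟩
      have := congrArg (fun g : P →ₗ[A] P => g p) (hu ((LinearMap.toSpanSingleton A P x) ∘ₗ f))
      simpa [LinearMap.toSpanSingleton_apply] using this
    | zero => exact ⟨0, fun x => by rw [zero_smul, zero_smul]⟩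
    | add a b _ _ ha hb =>
      obtain ⟨a', ha'⟩ := ha
      obtain ⟨b', hb'⟩ := hb
      exact ⟨a' + b', fun x => by rw [add_smul, add_smul, ha', hb']⟩
    | smul c a _ ha =>
      obtain ⟨a', ha'⟩ := ha
      exact ⟨c * a', fun x => by rw [smul_eq_mul, mul_smul, mul_smul, ha']⟩
  -- faithfulness
  have faith : ∀ s ∈ trI A P, ∀ c : A, (∀ x : P, c • x = 0) → c * s = 0 := by
    intro s hs
    unfold trI at hs
    induction hs using Submodule.span_induction with
    | mem s hs =>
      obtain ⟨f, p, rfl⟩ := hs
      intro c hc
      rw [← smul_eq_mul, ← map_smul, hc, map_zero]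
    | zero => intro c _; rw [mul_zero]
    | add a b _ _ ha hb => intro c hc; rw [mul_add, ha c hc, hb c hc, add_zero]
    | smul d a _ ha =>
      intro c hc
      rw [smul_eq_mul, ← mul_assoc]
      exact ha (c * d) (fun x => by rw [mul_smul, hc])
  have faith1 : ∀ c : A, (∀ x : P, c • x = 0) → c = 0 := by
    intro c hc
    have := faith 1 h1 c hc
    rwa [mul_one] at this
  obtain ⟨a, ha⟩ := key 1 h1
  have ha' : ∀ x : P, u x = a • x := fun x => by rw [← ha x, one_smul]
  refine ⟨a, ⟨?_, ha'⟩, ?_⟩
  · intro b
    have : a * b - b * a = 0 := by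
      apply faith1
      intro x
      rw [sub_smul, mul_smul, mul_smul, ← ha' (b • x), ← ha' x, map_smul, sub_self]
    exact sub_eq_zero.1 this
  · rintro a₂ ⟨_, ha₂⟩
    have : a₂ - a = 0 := by
      apply faith1
      intro x
      rw [sub_smul, ← ha₂ x, ← ha' x, sub_self]
    exact sub_eq_zero.1 this

end Groth.Agent.S13848
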