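import Groth.Statements.S13860
import Mathlib

set_option autoImplicit false
universe u v w
open ModRep

namespace Groth.Agent.S13860

/-- For k a field of characteristic p > 0, G a finite group and P a Sylow p-subgroup of G, a short exact
sequence of k[G]-modules has a k[G]-linear splitting exactly when it has a k[P]-linear one. Stated
here for the surjection of the sequence: a G-equivariant k-linear map g : B → C between k-linear
representations of G admits a G-equivariant k-linear section if and only if it admits a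
P-equivariant k-linear section. -/
theorem result {k : Type u} [Field k] (p : ℕ) [Fact p.Prime]
    [CharP k p] {G : Type v} [Group G] [Finite G] (P : Sylow p G)
    {B C : Type w} [AddCommGroup B] [Module k B] [AddCommGroup C] [Module k C]
    (ρB : Representation k G B) (ρC : Representation k G C)
    (g : B →ₗ[k] C) (hg : ∀ x : G, g ∘ₗ ρB x = ρC x ∘ₗ g) :
    (∃ s : C →ₗ[k] B, g ∘ₗ s = LinearMap.id ∧ ∀ x : G, s ∘ₗ ρC x = ρB x ∘ₗ s) ↔
      (∃ s : C →ₗ[k] B, g ∘ₗ s = LinearMap.id ∧ ∀ x : G, x ∈ P → s ∘ₗ ρC x = ρB x ∘ₗ s) := by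
  classical
  constructor
  · rintro ⟨s, hs, hsx⟩
    exact ⟨s, hs, fun x _ => hsx x⟩
  · rintro ⟨s, hs, hsP⟩
    let Q := G ⧸ (P : Subgroup G)
    haveI : Fintype Q := Fintype.ofFinite Q
    set n : ℕ := Fintype.card Q with hn
    have hn0 : (n : k) ≠ 0 := by
      intro h
      rw [CharP.cast_eq_zero_iff k p] at h
      have hidx : (P : Subgroup G).index = n := by
        rw [hn, Subgroup.index, Nat.card_eq_fintype_card]
      rw [← hidx] at h
      exact P.not_dvd_index h
    -- the conjugated sections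
    let T : G → (C →ₗ[k] B) := fun x => ρB x ∘ₗ s ∘ₗ ρC x⁻¹
    have hρB : ∀ x y : G, ρB (x * y) = ρB x ∘ₗ ρB y := fun x y => by
      rw [map_mul]; rfl
    have hρC : ∀ x y : G, ρC (x * y) = ρC x ∘ₗ ρC y := fun x y => by
      rw [map_mul]; rfl
    have hρC1 : ∀ x : G, ρC x ∘ₗ ρC x⁻¹ = LinearMap.id := fun x => by
      rw [← hρC, mul_inv_cancel, map_one]; rfl
    have hρC1' : ∀ x : G, ρC x⁻¹ ∘ₗ ρC x = LinearMap.id := fun x => by
      rw [← hρC, inv_mul_cancel, map_one]; rfl
    have T1 : ∀ (x : G) (h : G), h ∈ P → T (x * h) = T x := by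
      intro x h hh
      show ρB (x * h) ∘ₗ s ∘ₗ ρC (x * h)⁻¹ = ρB x ∘ₗ s ∘ₗ ρC x⁻¹
      rw [hρB, mul_inv_rev, hρC]
      have : ρB h ∘ₗ s ∘ₗ ρC h⁻¹ = s := by
        rw [← LinearMap.comp_assoc, ← hsP h hh, LinearMap.comp_assoc, hρC1, LinearMap.comp_id]
      calc (ρB x ∘ₗ ρB h) ∘ₗ s ∘ₗ ρC h⁻¹ ∘ₗ ρC x⁻¹
          = ρB x ∘ₗ (ρB h ∘ₗ s ∘ₗ ρC h⁻¹) ∘ₗ ρC x⁻¹ := by
            simp only [LinearMap.comp_assoc]
        _ = ρB x ∘ₗ s ∘ₗ ρC x⁻¹ := by rw [this]
    have T2 : ∀ x y : G, ρB y ∘ₗ T x = T (y * x) ∘ₗ ρC y := by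
      intro x y
      show ρB y ∘ₗ ρB x ∘ₗ s ∘ₗ ρC x⁻¹ = (ρB (y * x) ∘ₗ s ∘ₗ ρC (y * x)⁻¹) ∘ₗ ρC y
      rw [hρB, mul_inv_rev, hρC]
      simp only [LinearMap.comp_assoc]
      rw [hρC1', LinearMap.comp_id]
    have T3 : ∀ x : G, g ∘ₗ T x = LinearMap.id := by
      intro x
      show g ∘ₗ ρB x ∘ₗ s ∘ₗ ρC x⁻¹ = LinearMap.id
      rw [← LinearMap.comp_assoc, hg x, LinearMap.comp_assoc, ← LinearMap.comp_assoc (ρC x⁻¹) s g,
        hs, LinearMap.id_comp, hρC1]
    have T3' : ∀ (x : G) (c : C), g (T x c) = c := fun x c => LinearMap.congr_fun (T3 x) c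
    refine ⟨(n : k)⁻¹ • ∑ q : Q, T q.out, ?_, ?_⟩
    · ext c
      simp only [LinearMap.comp_apply, LinearMap.smul_apply, LinearMap.sum_apply, map_smul,
        map_sum, LinearMap.id_apply, T3']
      rw [Finset.sum_const, Finset.card_univ, ← hn, ← Nat.cast_smul_eq_nsmul k, smul_smul,
        inv_mul_cancel₀ hn0, one_smul]
    · intro y
      have h1 : ∀ (q : Q) (c : C), ρB y (T q.out c) = T ((y • q : Q)).out (ρC y c) := by
        intro q c
        have h2 := LinearMap.congr_fun (T2 q.out y) c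
        simp only [LinearMap.comp_apply] at h2
        rw [h2]
        have hT : T (y * q.out) = T ((y • q : Q)).out := by
          have hq : (y • q : Q) = ((y * q.out : G) : Q) := by
            conv_lhs => rw [← QuotientGroup.out_eq' q]
            rfl
          obtain ⟨h, hh⟩ := QuotientGroup.mk_out_eq_mul (P : Subgroup G) (y * q.out)
          rw [hq, hh]
          exact (T1 _ _ h.2).symm
        rw [hT]
      ext c
      simp only [LinearMap.comp_apply, LinearMap.smul_apply, LinearMap.sum_apply, map_smul,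
        map_sum, h1]
      congr 1
      exact (Equiv.sum_comp (MulAction.toPerm y : Equiv.Perm Q) (fun q => T q.out (ρC y c))).symm

end Groth.Agent.S13860
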