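import Groth.Statements.S13861
import Mathlib
import Groth.Agent.Lib.Helper16AS
-- import your own Groth.Agent.* helpers here

set_option autoImplicit false
set_option linter.style.haveILetI false
set_option linter.unusedSectionVars false
universe u
open ASCover

namespace Groth.Agent.S13861

open Groth.Agent.Lib.Helper16AS in

/-- Let k be an algebraically closed field of characteristic p > 0 and n ≥ 1 an integer prime to p; let
u ∈ k[[t]] be the power series with constant term 1 and u^n · (1 + t^n) = 1, so that t ↦ t·u = t(1 +
t^n)^(-1/n) defines a k-automorphism σ of k((t)) of order p (the action at a totally ramified point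
of a ℤ/p-cover of curves with break n). For an integer a, the fractional ideal t^a·k[[t]] is stable
under σ; transported to B = k[[t]] along h ↦ t^a·h the action of σ reads h ↦ u^a · h(t·u). For a
group G of order p generated by g acting on B through this map, the first group cohomology H^1(G, B)
is finite-dimensional over k, of dimension n − ⌊(a−1)/p⌋ + ⌊(a−1−n)/p⌋. (The published lemma also
identifies this H^1 with the cokernel of k((t))^G → (k((t))/t^a k[[t]])^G and names explicit
representatives t^i, a − n ≤ i ≤ a − 1 with p ∤ i, of a basis; those parts are not restated here.) -/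
theorem result {k : Type u} [Field k] [IsAlgClosed k] (p : ℕ)
    [Fact p.Prime] [CharP k p] (n : ℕ) (hn : 0 < n) (hpn : ¬ p ∣ n)
    (u : PowerSeries k) (hu1 : PowerSeries.constantCoeff u = 1)
    (hun : u ^ n * (1 + PowerSeries.X ^ n) = 1) (hu : IsUnit u) (a : ℤ)
    {G : Type u} [Group G] [Finite G] (g : G) (hG : Nat.card G = p)
    (hg : ∀ x : G, x ∈ Subgroup.zpowers g)
    (ρ : Representation k G (PowerSeries k))
    (hρ : ∀ h : PowerSeries k, ρ g h =
      ((hu.unit ^ a : (PowerSeries k)ˣ) : PowerSeries k) * PowerSeries.subst (PowerSeries.X * u) h) :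
    Module.Finite k (groupCohomology.H1 (Rep.of ρ)) ∧
      (Module.finrank k (groupCohomology.H1 (Rep.of ρ)) : ℤ) =
        n - (a - 1) / (p : ℤ) + (a - 1 - n) / (p : ℤ) := by
  classical
  have hp : p.Prime := Fact.out
  -- ρ g = sig
  have hρg : ρ g = sig u hu a := by
    apply LinearMap.ext
    intro h
    rw [hρ, sig_apply, sig0_apply]
  -- order of g
  have hord : orderOf g = p := by
    rw [orderOf_eq_card_of_forall_mem_zpowers hg, hG]
  have hgp : g ^ p = 1 := by rw [← hord]; exact pow_orderOf_eq_one g
  have hσp : ∀ h, (sig u hu a)^[p] h = h := by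
    intro h
    rw [← hρg, ← Module.End.pow_apply, ← map_pow, hgp, map_one, Module.End.one_apply]
  obtain ⟨N, hN, ⟨e⟩⟩ := h1_equiv g hg ρ
  -- the norm
  have hNT : N = (sig u hu a - 1) ^ (p - 1) := by
    rw [← sum_pow_eq_sub_one_pow (k := k) p (sig u hu a)]
    apply LinearMap.ext
    intro v
    rw [hN, LinearMap.sum_apply]
    letI : Fintype G := Fintype.ofFinite G
    rw [finsum_eq_sum_of_fintype]
    have hcard : Fintype.card G = p := by rw [← Nat.card_eq_fintype_card, hG]
    let f : Fin p → G := fun i => g ^ i.1
    have hf : Function.Bijective f := by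
      rw [Fintype.bijective_iff_injective_and_card]
      refine ⟨?_, by rw [Fintype.card_fin, hcard]⟩
      intro i j hij
      apply Fin.ext
      have := pow_injOn_Iio_orderOf (x := g) (by rw [hord]; exact i.2) (by rw [hord]; exact j.2) hij
      exact this
    rw [← hf.sum_comp (fun x => ρ x v), ← Fin.sum_univ_eq_sum_range (fun i => (sig u hu a ^ i) v) p]
    refine Finset.sum_congr rfl fun i _ => ?_
    change ρ (g ^ i.1) v = _
    rw [map_pow, hρg]
  subst hNT
  rw [hρg] at e
  obtain ⟨hfin, hrank⟩ := finrank_main p n hn hpn u hu1 hun hu a hσp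
  refine ⟨Module.Finite.equiv e.symm, ?_⟩
  rw [LinearEquiv.finrank_eq e]
  exact hrank

end Groth.Agent.S13861
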