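import Groth.Statements.S13862
import Mathlib
import Groth.Agent.Lib.Helper16AS
import Groth.Agent.Lib.Helper16AS2
-- import your own Groth.Agent.* helpers here

set_option autoImplicit false
set_option linter.style.haveILetI false
set_option linter.unusedSectionVars false
universe u
open ASCover

namespace Groth.Agent.S13862

open Groth.Agent.Lib.Helper16AS Groth.Agent.Lib.Helper16AS2 in


/-- For k an algebraically closed field of characteristic p > 0, n ≥ 1 an integer prime to p, u ∈ k[[t]]
the power series with constant term 1 and u^n · (1 + t^n) = 1, and G a group of order p generated by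
g, consider two k-linear actions of G on B = k[[t]]: ρ₀(g) h = h(t·u), i.e. B with its order-p
automorphism σ(t) = t·u, and ρ₁(g) h = u^(n+1) · h(t·u), which is the σ-module B·dt identified with
B through h·dt ↦ h (because d(σ t) = u^(n+1) dt). The derivative d/dt : (B, ρ₀) → (B, ρ₁) is
G-equivariant, and the image of the map it induces on first group cohomology, H^1(G, (B, ρ₀)) →
H^1(G, (B, ρ₁)), is finite-dimensional over k of dimension ⌊(n+1)(p−1)/p⌋ − 1 − ⌊(n−1)/p⌋. This is
the dimension of the image of H^1(G, O) → H^1(G, Ω) at a ramified point with break n of a ℤ/p-cover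
of smooth curves, computed in the completed local ring; the published statement is phrased for the
stalks, at a point of the quotient curve, of the direct images of the structure sheaf and of the
sheaf of differentials, and its proof passes to this completed form. -/
theorem result {k : Type u} [Field k] [IsAlgClosed k] (p : ℕ)
    [Fact p.Prime] [CharP k p] (n : ℕ) (hn : 0 < n) (hpn : ¬ p ∣ n)
    (u : PowerSeries k) (hu1 : PowerSeries.constantCoeff u = 1)
    (hun : u ^ n * (1 + PowerSeries.X ^ n) = 1)
    {G : Type u} [Group G] [Finite G] (g : G) (hG : Nat.card G = p)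
    (hg : ∀ x : G, x ∈ Subgroup.zpowers g)
    (ρ₀ ρ₁ : Representation k G (PowerSeries k))
    (hρ₀ : ∀ h : PowerSeries k, ρ₀ g h = PowerSeries.subst (PowerSeries.X * u) h)
    (hρ₁ : ∀ h : PowerSeries k, ρ₁ g h = u ^ (n + 1) * PowerSeries.subst (PowerSeries.X * u) h)
    (φ : Rep.of ρ₀ ⟶ Rep.of ρ₁) (hφ : ∀ h : PowerSeries k, φ.hom h = PowerSeries.derivative k h) :
    Module.Finite k (LinearMap.range ((groupCohomology.functor k G 1).map φ).hom) ∧
      (Module.finrank k (LinearMap.range ((groupCohomology.functor k G 1).map φ).hom) : ℤ) =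
        ((n + 1) * (p - 1) : ℤ) / p - 1 - (n - 1 : ℤ) / p := by
  classical
  have hu : IsUnit u :=
    PowerSeries.isUnit_iff_constantCoeff.mpr (by rw [hu1]; exact isUnit_one)
  have hρ₀g : ρ₀ g = sig u hu 0 := by
    apply LinearMap.ext
    intro h
    rw [hρ₀, sig_apply, sig0_apply, zpow_zero, Units.val_one, one_mul]
  have hρ₁g : ρ₁ g = sig u hu ((n + 1 : ℕ) : ℤ) := by
    apply LinearMap.ext
    intro h
    rw [hρ₁, sig_apply, sig0_apply, zpow_natCast, Units.val_pow_eq_pow_val, IsUnit.unit_spec]
  have hord : orderOf g = p := by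
    rw [orderOf_eq_card_of_forall_mem_zpowers hg, hG]
  have hgp : g ^ p = 1 := by rw [← hord]; exact pow_orderOf_eq_one g
  have hσ0 : ∀ h, (sig u hu 0)^[p] h = h := by
    intro h
    rw [← hρ₀g, ← Module.End.pow_apply, ← map_pow, hgp, map_one, Module.End.one_apply]
  have hσ1 : ∀ h, (sig u hu ((n + 1 : ℕ) : ℤ))^[p] h = h := by
    intro h
    rw [← hρ₁g, ← Module.End.pow_apply, ← map_pow, hgp, map_one, Module.End.one_apply]
  obtain ⟨e⟩ := range_H1_map_equiv g hg ρ₀ ρ₁ φ
  rw [hord, hρ₀g, hρ₁g, sum_pow_eq_sub_one_pow (k := k) p (sig u hu 0)] at e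
  have hDσ : ∀ h, φ.hom.toLinearMap (sig u hu 0 h) =
      sig u hu ((n + 1 : ℕ) : ℤ) (φ.hom.toLinearMap h) := by
    intro h
    have := Rep.hom_comm_apply φ g h
    rw [← hρ₀g, ← hρ₁g]
    exact this
  obtain ⟨hfin, hrank⟩ := finrank_range_main p n hpn hn u hu1 hun hu hσ0 hσ1
    φ.hom.toLinearMap hφ hDσ
  refine ⟨Module.Finite.equiv e.symm, ?_⟩
  rw [LinearEquiv.finrank_eq e, hrank]
  exact card_SI p n hpn hn

end Groth.Agent.S13862
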