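import Groth.Statements.S13863
import Mathlib
import Groth.Agent.Lib.Helper11ASCoverB

set_option autoImplicit false
universe u
open ASCover

namespace Groth.Agent.S13863

open Groth.Agent.Lib.Helper11ASCover PowerSeries


/-- For k an algebraically closed field of characteristic p > 0, n ≥ 1 an integer prime to p, and u ∈
k[[t]] the power series with constant term 1 and u^n · (1 + t^n) = 1, the substitution σ(t) = t·u is
a k-automorphism of k((t)) of order p and, for an integer a, σ acts on the fractional ideal I =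
t^a·k[[t]]; transported to B = k[[t]] along h ↦ t^a·h this action is h ↦ u^a · h(t·u). For an
integer i with a − n ≤ i ≤ a − 1 the element σ(t^i) − t^i lies in I, so t^i defines a class in
H^1(⟨σ⟩, I); the classes with p ∤ i form a basis of this H^1, and when p divides i the class
vanishes, i.e. σ(t^i) − t^i = σ(w) − w for some w ∈ I. (The published statement of this vanishing is
printed with the condition p ∤ i, which contradicts the basis assertion of the same lemma; its proof
treats p | i, and this row states that case.) In transported form, with m = a − i ∈ [1, n] and c ∈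
k[[t]] defined by t^m · c = u^i − 1: there is h ∈ k[[t]] with u^a · h(t·u) − h = c. -/
theorem result {k : Type u} [Field k] [IsAlgClosed k] (p : ℕ)
    [Fact p.Prime] [CharP k p] (n : ℕ) (hn : 0 < n) (hpn : ¬ p ∣ n)
    (u : PowerSeries k) (hu1 : PowerSeries.constantCoeff u = 1)
    (hun : u ^ n * (1 + PowerSeries.X ^ n) = 1) (hu : IsUnit u) (a : ℤ) (m : ℕ)
    (hm1 : 1 ≤ m) (hmn : m ≤ n) (hdvd : (p : ℤ) ∣ a - m) (c : PowerSeries k)
    (hc : PowerSeries.X ^ m * c = ((hu.unit ^ (a - m) : (PowerSeries k)ˣ) : PowerSeries k) - 1) :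
    ∃ h : PowerSeries k,
      ((hu.unit ^ a : (PowerSeries k)ˣ) : PowerSeries k) * PowerSeries.subst (PowerSeries.X * u) h - h = c := by
  have hp2 : 2 ≤ p := (Fact.out : p.Prime).two_le
  have hnk : (n : k) ≠ 0 := fun h0 => hpn ((CharP.cast_eq_zero_iff k p n).mp h0)
  obtain ⟨i', hi'⟩ := hdvd
  obtain ⟨W, ⟨s, hWs⟩, hWfix⟩ := exists_W p hn hnk hu1 hun
  have ha := hasSubst_Xu u
  set N := (p - 1) * n with hNdef
  have hN : 0 < N := Nat.mul_pos (by omega) hn
  have hmN : m ≤ N := le_trans hmn (Nat.le_mul_of_pos_left n (by omega))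
  have hW0 : constantCoeff W = 1 := by
    rw [hWs, map_add, map_one, map_mul, map_pow, constantCoeff_X, zero_pow hN.ne', zero_mul, add_zero]
  have hWunit : IsUnit W := by
    rw [PowerSeries.isUnit_iff_constantCoeff, hW0]
    exact isUnit_one
  set Wu : (PowerSeries k)ˣ := hWunit.unit with hWu
  set σ : PowerSeries k →ₐ[k] PowerSeries k := substAlgHom ha with hσ
  have hσapp : ∀ f, σ f = subst (X * u) f := fun f => by rw [hσ, coe_substAlgHom]
  set σu : (PowerSeries k)ˣ →* (PowerSeries k)ˣ := Units.map (σ : PowerSeries k →* PowerSeries k)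
    with hσu
  have hfixu : hu.unit ^ p * σu Wu = Wu := by
    apply Units.ext
    rw [Units.val_mul, Units.val_pow_eq_pow_val, IsUnit.unit_spec, hσu, Units.coe_map,
      IsUnit.unit_spec]
    change u ^ p * σ W = W
    rw [hσapp]
    exact hWfix
  have hfixV : hu.unit ^ ((p : ℤ) * i') * σu (Wu ^ i') = Wu ^ i' := by
    have := congrArg (fun x => x ^ i') hfixu
    simp only [mul_zpow] at this
    rw [← zpow_natCast, ← zpow_mul, ← map_zpow] at this
    exact this
  set V : PowerSeries k := ((Wu ^ i' : (PowerSeries k)ˣ) : PowerSeries k) with hV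
  have hσV : ((hu.unit ^ ((p : ℤ) * i') : (PowerSeries k)ˣ) : PowerSeries k) * subst (X * u) V = V := by
    have := congrArg Units.val hfixV
    rw [Units.val_mul, hσu, Units.coe_map] at this
    rw [← hσapp]
    exact this
  obtain ⟨t, hVt, -⟩ := IsOne.zpow hN (w := Wu) (c := constantCoeff s) ⟨s, hWs, rfl⟩ i'
  rw [← hV] at hVt
  have hXN : (X : PowerSeries k) ^ N = X ^ m * X ^ (N - m) := by
    rw [← pow_add, Nat.add_sub_cancel' hmN]
  set h : PowerSeries k := -(X ^ (N - m) * t) with hh
  have hXh : X ^ m * h = 1 - V := by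
    rw [hh, hVt, hXN]; ring
  refine ⟨h, ?_⟩
  have hXm : (X : PowerSeries k) ^ m ≠ 0 := pow_ne_zero _ X_ne_zero
  apply mul_left_cancel₀ hXm
  rw [hc]
  have hσXh : (X * u) ^ m * subst (X * u) h = 1 - subst (X * u) V := by
    have := congrArg σ hXh
    simp only [map_mul, map_pow, map_sub, map_one, hσ, substAlgHom_X, coe_substAlgHom] at this
    exact this
  have hUam : ((hu.unit ^ a : (PowerSeries k)ˣ) : PowerSeries k) =
      ((hu.unit ^ (a - m) : (PowerSeries k)ˣ) : PowerSeries k) * u ^ m := by
    have : a = (a - m) + m := by ring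
    conv_lhs => rw [this]
    rw [zpow_add, zpow_natCast, Units.val_mul, Units.val_pow_eq_pow_val, IsUnit.unit_spec]
  have e1 : X ^ m * (((hu.unit ^ a : (PowerSeries k)ˣ) : PowerSeries k) * subst (X * u) h) =
      ((hu.unit ^ (a - m) : (PowerSeries k)ˣ) : PowerSeries k) * (1 - subst (X * u) V) := by
    rw [← hσXh, hUam, mul_pow]; ring
  rw [mul_sub, e1, hXh, mul_sub, mul_one]
  have e2 : ((hu.unit ^ (a - m) : (PowerSeries k)ˣ) : PowerSeries k) * subst (X * u) V = V := by
    rw [hi']; exact hσV
  rw [e2]
  ring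

end Groth.Agent.S13863
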