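import Groth.Statements.S13864
import Mathlib
import Groth.Agent.Lib.Helper11ASCover

set_option autoImplicit false
universe u
open ASCover

namespace Groth.Agent.S13864

open Groth.Agent.Lib.Helper11ASCover PowerSeries


/-- Let k be an algebraically closed field of characteristic p > 0, n ≥ 1 an integer prime to p, u ∈
k[[t]] the power series with constant term 1 and u^n · (1 + t^n) = 1 (so σ(t) = t·u is a
k-automorphism of k((t)) of order p), and a an integer; σ acts on I = t^a·k[[t]], and transported to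
B = k[[t]] along h ↦ t^a·h the action is h ↦ u^a · h(t·u). For 1 ≤ m ≤ n let c_m ∈ B be determined
by t^m · c_m = u^(a−m) − 1; this is the cocycle value σ(t^i) − t^i ∈ I of the element t^i, i = a −
m, divided by t^a. The published lemma says that the classes of the t^i with a − n ≤ i ≤ a − 1 and p
∤ i form a basis of H^1(⟨σ⟩, I); this row states their linear independence: if Σ λ_m c_m, summed
over 1 ≤ m ≤ n with p ∤ a − m, equals u^a · h(t·u) − h for some h ∈ B, then every such λ_m is 0.
(Together with the dimension of this H^1, namely n − ⌊(a−1)/p⌋ + ⌊(a−1−n)/p⌋, this gives the basis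
statement.) -/
theorem result {k : Type u} [Field k] [IsAlgClosed k] (p : ℕ)
    [Fact p.Prime] [CharP k p] (n : ℕ) (hn : 0 < n) (hpn : ¬ p ∣ n)
    (u : PowerSeries k) (hu1 : PowerSeries.constantCoeff u = 1)
    (hun : u ^ n * (1 + PowerSeries.X ^ n) = 1) (hu : IsUnit u) (a : ℤ)
    (c : ℕ → PowerSeries k)
    (hc : ∀ m : ℕ, 1 ≤ m → m ≤ n →
      PowerSeries.X ^ m * c m = ((hu.unit ^ (a - m) : (PowerSeries k)ˣ) : PowerSeries k) - 1)
    (coef : ℕ → k) (h : PowerSeries k)
    (hh : ((hu.unit ^ a : (PowerSeries k)ˣ) : PowerSeries k) * PowerSeries.subst (PowerSeries.X * u) h - h =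
      ∑ m ∈ (Finset.Icc 1 n).filter (fun m : ℕ => ¬ (p : ℤ) ∣ a - (m : ℤ)), coef m • c m) :
    ∀ m ∈ (Finset.Icc 1 n).filter (fun m : ℕ => ¬ (p : ℤ) ∣ a - (m : ℤ)), coef m = 0 := by
  classical
  set S := (Finset.Icc 1 n).filter (fun m : ℕ => ¬ (p : ℤ) ∣ a - (m : ℤ)) with hS
  have hnk : (n : k) ≠ 0 := fun h0 => hpn ((CharP.cast_eq_zero_iff k p n).mp h0)
  by_contra hne
  push Not at hne
  obtain ⟨m1, hm1, hcm1⟩ := hne
  set S' := S.filter (fun m => coef m ≠ 0) with hS'
  have hS'ne : S'.Nonempty := ⟨m1, Finset.mem_filter.mpr ⟨hm1, hcm1⟩⟩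
  set m₀ := S'.max' hS'ne with hm₀
  have hm₀S' : m₀ ∈ S' := Finset.max'_mem S' hS'ne
  have hm₀S : m₀ ∈ S := (Finset.mem_filter.mp hm₀S').1
  have hcm₀ : coef m₀ ≠ 0 := (Finset.mem_filter.mp hm₀S').2
  have hmax : ∀ m ∈ S, coef m ≠ 0 → m ≤ m₀ := fun m hm hcm =>
    Finset.le_max' S' m (Finset.mem_filter.mpr ⟨hm, hcm⟩)
  have hm₀1 : 1 ≤ m₀ := (Finset.mem_Icc.mp (Finset.mem_filter.mp hm₀S).1).1
  have hm₀p : ¬ (p : ℤ) ∣ a - (m₀ : ℤ) := (Finset.mem_filter.mp hm₀S).2
  have ha := hasSubst_Xu u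
  -- notation
  set U : ℤ → PowerSeries k := fun e => ((hu.unit ^ e : (PowerSeries k)ˣ) : PowerSeries k) with hU
  have hUadd : ∀ (e : ℤ) (j : ℕ), U e * u ^ j = U (e + j) := by
    intro e j
    simp only [hU]
    rw [zpow_add, zpow_natCast, Units.val_mul, Units.val_pow_eq_pow_val, IsUnit.unit_spec]
  set G : PowerSeries k := ∑ m ∈ S, coef m • X ^ (m₀ - m) - X ^ m₀ * h with hG
  have hσG : subst (X * u) G =
      ∑ m ∈ S, coef m • (X * u) ^ (m₀ - m) - (X * u) ^ m₀ * subst (X * u) h := by
    rw [hG, ← coe_substAlgHom ha]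
    simp only [map_sub, map_sum, map_smul, map_pow, map_mul, substAlgHom_X]
  have hterm : ∀ m ∈ S, coef m • (U (a - m₀) * (X * u) ^ (m₀ - m)) - coef m • X ^ (m₀ - m) =
      X ^ m₀ * (coef m • c m) := by
    intro m hm
    by_cases hcm : coef m = 0
    · rw [hcm, zero_smul, zero_smul, zero_smul, sub_zero, mul_zero]
    · have hle : m ≤ m₀ := hmax m hm hcm
      have hmI := Finset.mem_Icc.mp (Finset.mem_filter.mp hm).1
      have hU' : U (a - m₀) * u ^ (m₀ - m) = U (a - m) := by
        rw [hUadd]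
        congr 1
        rw [Nat.cast_sub hle]; ring
      have h1 : U (a - m₀) * (X * u) ^ (m₀ - m) = X ^ (m₀ - m) * U (a - m) := by
        rw [← hU', mul_pow]; ring
      have h2 : (X : PowerSeries k) ^ m₀ = X ^ (m₀ - m) * X ^ m := by rw [← pow_add, Nat.sub_add_cancel hle]
      have h3 := hc m hmI.1 hmI.2
      have h4 : X ^ (m₀ - m) * U (a - m) - X ^ (m₀ - m) = X ^ (m₀ - m) * (U (a - m) - 1) := by ring
      rw [h1, ← smul_sub, h4, mul_smul_comm, h2, mul_assoc, h3]
  have hfix : U (a - m₀) * subst (X * u) G = G := by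
    have h1 : U (a - m₀) * subst (X * u) G - G =
        X ^ m₀ * (∑ m ∈ S, coef m • c m - (U a * subst (X * u) h - h)) := by
      rw [hσG, hG, mul_sub, Finset.mul_sum]
      have hU' : U (a - m₀) * u ^ m₀ = U a := by
        rw [hUadd]
        congr 1
        ring
      have h4 : U (a - m₀) * ((X * u) ^ m₀ * subst (X * u) h) = X ^ m₀ * (U a * subst (X * u) h) := by
        rw [← hU', mul_pow]; ring
      rw [h4, mul_sub, Finset.mul_sum]
      have h5 : ∑ m ∈ S, U (a - m₀) * coef m • (X * u) ^ (m₀ - m) - ∑ m ∈ S, coef m • X ^ (m₀ - m) =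
          ∑ m ∈ S, X ^ m₀ * (coef m • c m) := by
        rw [← Finset.sum_sub_distrib]
        apply Finset.sum_congr rfl
        intro m hm
        rw [mul_smul_comm]
        exact hterm m hm
      rw [← h5]
      ring
    rw [hh, sub_self, mul_zero] at h1
    exact sub_eq_zero.mp h1
  have hG0 : constantCoeff G ≠ 0 := by
    have : constantCoeff G = coef m₀ := by
      rw [hG, map_sub, map_sum, map_mul, map_pow, constantCoeff_X, zero_pow (by omega), zero_mul,
        sub_zero, Finset.sum_eq_single m₀]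
      · simp
      · intro m hm hmne
        by_cases hcm : coef m = 0
        · simp [hcm]
        · have hle : m ≤ m₀ := hmax m hm hcm
          have hlt : 0 < m₀ - m := by omega
          simp [zero_pow hlt.ne']
      · intro hnot
        exact absurd hm₀S hnot
    rw [this]
    exact hcm₀
  have hzero := fixed_exponent hn hnk hu1 hun hu (a - m₀) G hG0 hfix
  exact hm₀p ((CharP.intCast_eq_zero_iff k p _).mp hzero)

end Groth.Agent.S13864
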