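import Groth.Statements.S13872
import Groth.Agent.Lib.Helper14Polar
import Groth.Agent.Lib.Helper14GammaModGen

set_option autoImplicit false
universe u
open scoped TensorProduct
open ZeroCyc

namespace Groth.Agent.S13872

open Groth.Agent.Lib.Helper14

/-- Let A be a commutative ring, B an A-algebra and d ≥ 1; let (C, γ) be the degree-d divided power
algebra Γ^d_A(B) with its universal multiplicative law γ : B → C of degree d (every multiplicative
law of degree d out of B factors uniquely through γ), and let φ : Γ^d_A(B) → TS^d_A(B) be the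
canonical homomorphism to the symmetric tensors, taken as data characterised by: after any base
change S, φ ∘ γ sends Σ_j s_j ⊗ b_j to Σ_{c : [d] → [n]} (∏_i s_{c(i)}) ⊗ (b_{c(1)} ⊗ ⋯ ⊗ b_{c(d)}),
i.e. φ corresponds to the law x ↦ x ⊗ ⋯ ⊗ x. Then d!·x = 0 for every x in the kernel of φ, and d!·y
lies in the image of φ for every symmetric tensor y ∈ TS^d_A(B). (The published statement also
asserts x^{d!} = 0 and y^{d!} in the image of φ; those two halves are a separate result and are not
restated here.) -/
theorem result {A B C : Type u} [CommRing A] [CommRing B] [Algebra A B] [CommRing C] [Algebra A C] (d : ℕ) (hd : 0 < d)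
    (γ : PolLaw.MulLaw A B C d) (hγ : PolLaw.IsGammaD γ) (φ : C →ₐ[A] SymTen.TS A B d)
    (hφ : ∀ (S : Type u) [CommSemiring S] [Algebra A S] (n : ℕ) (s : Fin n → S) (b : Fin n → B),
      ((SymTen.TS A B d).val.comp φ).toLinearMap.lTensor S (γ.law.toFun' S (∑ j, s j ⊗ₜ[A] b j)) =
        ∑ c : Fin d → Fin n, (∏ i, s (c i)) ⊗ₜ[A] PiTensorProduct.tprod A (fun i => b (c i))) :
    (∀ x : C, φ x = 0 → d.factorial • x = 0) ∧
      (∀ y : SymTen.TS A B d, d.factorial • y ∈ φ.range) := by
  classical
  set ιL : C →ₗ[A] (⨂[A] _ : Fin d, B) := ((SymTen.TS A B d).val.comp φ).toLinearMap with hιL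
  set ψ : (⨂[A] _ : Fin d, B) →ₗ[A] C := PiTensorProduct.lift (Polar.pol γ.law d) with hψ
  -- Part I : ψ ∘ ιL = d!
  have hE : ψ ∘ₗ ιL = (d.factorial : A) • (LinearMap.id : C →ₗ[A] C) := by
    apply GammaModGen.linearMap_ext γ hγ
    intro m b
    rw [LinearMap.lTensor_comp, LinearMap.comp_apply, GammaFin.gen, hιL, hφ, map_sum]
    simp only [LinearMap.lTensor_tmul, hψ, PiTensorProduct.lift.tprod]
    rw [Polar.sum_pol_eq γ.law γ.homog, LinearMap.lTensor_smul, LinearMap.smul_apply,
      LinearMap.lTensor_id, LinearMap.id_apply, Nat.cast_smul_eq_nsmul, Nat.cast_smul_eq_nsmul]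
  -- Part II : ιL ∘ ψ = ∑ σ
  have hpol : ∀ f : Fin d → B, ιL (Polar.pol γ.law d f) =
      ∑ σ : Equiv.Perm (Fin d), PiTensorProduct.tprod A (fun i => f (σ i)) := by
    intro f
    have h := hφ (MvPolynomial (Fin d) A) d MvPolynomial.X f
    have h1 : Polar.lin A (fun i => (1 : A) ⊗ₜ[A] f i)
        (MvPolynomial.X : Fin d → MvPolynomial (Fin d) A) = ∑ j, MvPolynomial.X j ⊗ₜ[A] f j := by
      rw [Polar.lin]
      refine Finset.sum_congr rfl (fun i _ => ?_)
      rw [Polar.up_tmul, TensorProduct.smul_tmul', smul_eq_mul, MvPolynomial.C_1, mul_one]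
    have h2 : ∀ w : MvPolynomial (Fin d) A ⊗[A] C,
        TensorProduct.lid A _ (Polar.coefS A (⨂[A] _ : Fin d, B) (Polar.one1 d)
          (ιL.lTensor (MvPolynomial (Fin d) A) w)) =
        ιL (TensorProduct.lid A C (Polar.coefS A C (Polar.one1 d) w)) := by
      intro w
      induction w using TensorProduct.induction_on with
      | zero => simp
      | add x y hx hy => simp only [map_add, hx, hy]
      | tmul p c =>
        rw [LinearMap.lTensor_tmul, Polar.coefS_tmul, Polar.coefS_tmul, TensorProduct.lid_tmul,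
          TensorProduct.lid_tmul, map_smul]
    rw [Polar.pol_apply, Polar.polS, h1, ← h2, hιL, h, map_sum, map_sum]
    simp only [Polar.coefS_tmul, TensorProduct.lid_tmul]
    exact Polar.sum_coeff_smul (R := A) (fun c => PiTensorProduct.tprod A (fun i => f (c i)))
  refine ⟨?_, ?_⟩
  · intro x hx
    have h1 : ιL x = 0 := by
      rw [hιL, AlgHom.toLinearMap_apply, AlgHom.comp_apply, hx, map_zero]
    have h2 := LinearMap.congr_fun hE x
    rw [LinearMap.comp_apply, h1, map_zero, LinearMap.smul_apply, LinearMap.id_apply,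
      Nat.cast_smul_eq_nsmul] at h2
    exact h2.symm
  · intro y
    have hsym : ∀ t : ⨂[A] _ : Fin d, B,
        ∑ σ : Equiv.Perm (Fin d), SymTen.perm A B d σ t = ιL (ψ t) := by
      intro t
      induction t using PiTensorProduct.induction_on with
      | add x y hx hy => simp only [map_add, Finset.sum_add_distrib, hx, hy]
      | smul_tprod r f =>
        simp only [map_smul, SymTen.perm_tprod, hψ, PiTensorProduct.lift.tprod, hpol]
        rw [← Finset.smul_sum]
        congr 1
        exact Fintype.sum_equiv (Equiv.inv (Equiv.Perm (Fin d))) _ _ (fun σ => rfl)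
    have h1 : ∑ σ : Equiv.Perm (Fin d), SymTen.perm A B d σ (y : ⨂[A] _ : Fin d, B) =
        d.factorial • (y : ⨂[A] _ : Fin d, B) := by
      have h2 : ∀ σ : Equiv.Perm (Fin d),
          SymTen.perm A B d σ (y : ⨂[A] _ : Fin d, B) = (y : ⨂[A] _ : Fin d, B) := by
        intro σ
        rw [SymTen.perm_apply]
        exact y.2 σ
      simp only [h2, Finset.sum_const, Finset.card_univ, Fintype.card_perm, Fintype.card_fin]
    refine ⟨ψ (y : ⨂[A] _ : Fin d, B), ?_⟩
    apply Subtype.ext
    change ιL (ψ (y : ⨂[A] _ : Fin d, B)) =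
      ((d.factorial • y : SymTen.TS A B d) : ⨂[A] _ : Fin d, B)
    rw [← hsym, h1]
    rfl

end Groth.Agent.S13872
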