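import Groth.Statements.S13874
import Groth.Agent.S13398
import Groth.Agent.Lib.Helper14TSResidue2
import Groth.Agent.Lib.Helper20EtaPtSN

set_option autoImplicit false
universe u
open scoped TensorProduct
open AlgebraicGeometry
open ZeroCyc

namespace Groth.Agent.S13874

/-- Affine form. Let A be a commutative ring, B an A-algebra and d ≥ 1; let (C, γ) be the degree-d
divided power algebra Γ^d_A(B) with its universal multiplicative law γ : B → C of degree d (every
multiplicative law of degree d out of B factors uniquely through γ), and let φ : Γ^d_A(B) →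
TS^d_A(B) be the canonical homomorphism to the symmetric tensors, taken as data characterised by:
after any base change S, φ ∘ γ sends Σ_j s_j ⊗ b_j to Σ_{c : [d] → [n]} (∏_i s_{c(i)}) ⊗ (b_{c(1)} ⊗
⋯ ⊗ b_{c(d)}), i.e. φ corresponds to the law x ↦ x ⊗ ⋯ ⊗ x. Then the morphism Spec TS^d_A(B) → Spec
Γ^d_A(B) induced by φ (the comparison map from the d-th symmetric product of Spec B over Spec A to
the scheme of degree-d divided powers) is a universal homeomorphism inducing an isomorphism on every
residue field. (The published statement is for a separated algebraic space X over an algebraic space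
S; this row is its content for X = Spec B over S = Spec A. The second assertion of the published
statement, that the map is an isomorphism when B is flat over A or A contains the rationals, is not
part of this row.) -/
theorem result {A B C : Type u} [CommRing A] [CommRing B] [Algebra A B] [CommRing C] [Algebra A C] (d : ℕ) (hd : 0 < d)
    (γ : PolLaw.MulLaw A B C d) (hγ : PolLaw.IsGammaD γ) (φ : C →ₐ[A] SymTen.TS A B d)
    (hφ : ∀ (S : Type u) [CommSemiring S] [Algebra A S] (n : ℕ) (s : Fin n → S) (b : Fin n → B),
      ((SymTen.TS A B d).val.comp φ).toLinearMap.lTensor S (γ.law.toFun' S (∑ j, s j ⊗ₜ[A] b j)) =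
        ∑ c : Fin d → Fin n, (∏ i, s (c i)) ⊗ₜ[A] PiTensorProduct.tprod A (fun i => b (c i))) :
    FlatMor.IsUnivHomeo (Spec.map (CommRingCat.ofHom φ.toRingHom)) ∧
      ∀ x : ↥(Spec (CommRingCat.of (SymTen.TS A B d))),
        Function.Surjective ((Spec.map (CommRingCat.ofHom φ.toRingHom)).residueFieldMap x).hom := by
  have hn : d.factorial ≠ 0 := Nat.factorial_ne_zero d
  obtain ⟨hker, hrange⟩ := Groth.Agent.S13398.result d γ hγ φ hφ
  have hrange' : ∀ y : SymTen.TS A B d, y ^ d.factorial ∈ φ.toRingHom.range := by
    intro y
    obtain ⟨x, hx⟩ := hrange y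
    exact ⟨x, hx⟩
  have hint := Groth.Agent.Lib.Helper14.TSResidue.isIntegral_of_pow_mem_range
    φ.toRingHom d.factorial hn hrange'
  have hinj := Groth.Agent.Lib.Helper14.TSResidue.comap_injective_of_pow_mem_range
    φ.toRingHom d.factorial hn hrange'
  have hsurj := Groth.Agent.Lib.Helper14.TSResidue.comap_surjective_of_pow
    φ.toRingHom d.factorial hn hker hrange'
  have hres : ∀ Q : PrimeSpectrum (SymTen.TS A B d), Function.Bijective
      (Ideal.ResidueField.map (PrimeSpectrum.comap φ.toRingHom Q).asIdeal Q.asIdeal
        φ.toRingHom rfl) := by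
    intro Q
    haveI := Q.isPrime
    exact ⟨RingHom.injective _,
      Groth.Agent.Lib.Helper14.TSResidue.residue_surjective hφ Q.asIdeal⟩
  obtain ⟨h1, h2⟩ := Groth.Agent.Lib.Helper20.EtaPt.isUnivHomeo_and_residueFieldsIso
    φ.toRingHom hint ⟨hinj, hsurj⟩ hres
  refine ⟨h1, fun x => ?_⟩
  haveI := h2 x
  exact (CategoryTheory.ConcreteCategory.bijective_of_isIso _).2

end Groth.Agent.S13874
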