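import Groth.Statements.S13876
import Groth.Agent.Lib.Helper14DetProj

set_option autoImplicit false
universe u
open scoped TensorProduct
open ZeroCyc

namespace Groth.Agent.S13876

/-- Affine form of the determinant law of a locally free module. Let A be a commutative ring, B a
commutative A-algebra, d ≥ 0, and M a B-module which as an A-module is finitely generated projective
of constant rank d (its localisation at every prime of A has rank d). Then there is exactly one
multiplicative polynomial law N : B → A over A, homogeneous of degree d, such that for every local
A-algebra S and every x ∈ S ⊗_A B the value N(x) ∈ S is the determinant of x acting on the free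
S-module S ⊗_A M. (For M free of rank d over A it is the determinant law of M; the members over
arbitrary test algebras are determined by those over local ones.) -/
theorem result {A B M : Type u} [CommRing A] [CommRing B] [Algebra A B]
    [AddCommGroup M] [Module A M] [Module B M] [IsScalarTower A B M] [Module.Finite A M] [Module.Projective A M]
    (d : ℕ) (hd : ∀ p : PrimeSpectrum A, Module.rankAtStalk M p = d) :
    ∃! N : PolLaw.MulLaw A B A d, ∀ (S : Type u) [CommRing S] [IsLocalRing S] [Algebra A S] (x : S ⊗[A] B),
      N.law.toFun' S x = PolLaw.detAct M S x ⊗ₜ[A] (1 : A) := by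
  obtain ⟨D⟩ := Groth.Agent.Lib.Helper14.DetProj.exists_summand (A := A) (M := M)
  refine ⟨⟨Groth.Agent.Lib.Helper14.DetProj.N (B := B) D,
      Groth.Agent.Lib.Helper14.DetProj.N_homog D d hd,
      Groth.Agent.Lib.Helper14.DetProj.N_mult D⟩,
    fun S _ _ _ x => Groth.Agent.Lib.Helper14.DetProj.N_apply_local D S x, ?_⟩
  intro N' hN'
  apply PolLaw.MulLaw.ext
  apply Groth.Agent.Lib.Helper14.DetProj.ext_of_local
  intro S _ _ _ x
  rw [hN' S x]
  exact (Groth.Agent.Lib.Helper14.DetProj.N_apply_local D S x).symm

end Groth.Agent.S13876
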