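import Groth.Statements.S13879
import Mathlib
import Groth.Agent.Lib.Helper22Crimp

set_option autoImplicit false
universe u
open Crimp

namespace Groth.Agent.S13879

/-- Over R = k⟦t⟧ with k an algebraically closed field of characteristic zero, let S' = R × R × R and
let S be the R-submodule R·1 + R·(t ^ m f) + t ^ n S' of S' for some f in S' and natural numbers m,
n. Then S is closed under multiplication (equivalently, is an R-subalgebra of S') if and only if t ^
(2m) f ^ 2 lies in S. (The published statement has m ≤ n and S' / S isomorphic to R / (t ^ m) ⊕ R /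
(t ^ n), under which S has this shape; this row states the criterion for every submodule of this
shape.) -/
theorem result {k : Type u} [Field k] [IsAlgClosed k] [CharZero k] (m n : ℕ) (f : (Fin 3 → PowerSeries k))
    (S : Submodule (PowerSeries k) (Fin 3 → PowerSeries k))
    (hS : S = Submodule.span (PowerSeries k) {(1 : (Fin 3 → PowerSeries k)), ((PowerSeries.X : PowerSeries k) ^ m) • f} ⊔
        Ideal.span {(PowerSeries.X : PowerSeries k) ^ n} • (⊤ : Submodule (PowerSeries k) (Fin 3 → PowerSeries k))) :
    (∀ x ∈ S, ∀ y ∈ S, x * y ∈ S) ↔ ((PowerSeries.X : PowerSeries k) ^ (2 * m)) • (f * f) ∈ S := by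
  subst hS
  have hJ : ∀ s : (Fin 3 → PowerSeries k), ∀ j ∈
      Ideal.span {(PowerSeries.X : PowerSeries k) ^ n} •
        (⊤ : Submodule (PowerSeries k) (Fin 3 → PowerSeries k)),
      s * j ∈ Ideal.span {(PowerSeries.X : PowerSeries k) ^ n} •
        (⊤ : Submodule (PowerSeries k) (Fin 3 → PowerSeries k)) := by
    intro s j hj
    refine Submodule.smul_induction_on hj ?_ ?_
    · intro r hr v hv
      rw [mul_smul_comm]
      exact Submodule.smul_mem_smul hr Submodule.mem_top
    · intro a b iha ihb
      rw [mul_add]
      exact Submodule.add_mem _ iha ihb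
  rw [Groth.Agent.Lib.Helper22.crimp_mul_closed_iff _ _ hJ]
  have e : ((PowerSeries.X : PowerSeries k) ^ m • f) * ((PowerSeries.X : PowerSeries k) ^ m • f) =
      ((PowerSeries.X : PowerSeries k) ^ (2 * m)) • (f * f) := by
    rw [smul_mul_smul_comm, ← pow_add, two_mul]
  rw [e]

end Groth.Agent.S13879
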