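import Groth.Statements.S13880
import Mathlib
import Groth.Agent.Lib.Helper16Crimp2
-- import your own Groth.Agent.* helpers here

set_option autoImplicit false
set_option linter.style.haveILetI false
set_option linter.unusedSectionVars false
universe u
open Crimp

namespace Groth.Agent.S13880
open Groth.Agent.Lib.Helper16Crimp2 Module


/-- Over R = k⟦t⟧ with k an algebraically closed field of characteristic zero, let S' = R × R, the
trivial double cover of the formal disk (branch divisor (t ^ 0)). An R-subalgebra S of S' admits an
R-basis of size 2 whose discriminant generates (t ^ b), that is, S is a crimp with branch divisor (t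
^ b), if and only if b = 2n for some n and S = R·1 + t ^ n S'. So there is exactly one such crimp
when b is even and none when b is odd; moreover the subalgebra R·1 + t ^ n S' is isomorphic as an
R-algebra to R[y] / (y ^ 2 - t ^ (2n)) (existence of an isomorphism; y ↦ (t ^ n, -t ^ n)). (The
published statement also gives the space of crimps its reduced one-point scheme structure; this row
classifies its k-points.) -/
theorem result {k : Type u} [Field k] [IsAlgClosed k] [CharZero k] (b : ℕ) (S : Subalgebra (PowerSeries k) (Fin 2 → PowerSeries k)) :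
    ((∃ bS : Module.Basis (Fin 2) (PowerSeries k) S,
      Ideal.span {Algebra.discr (PowerSeries k) ⇑bS} = Ideal.span {(PowerSeries.X : PowerSeries k) ^ b}) ↔
    ∃ n : ℕ, b = 2 * n ∧
      Subalgebra.toSubmodule S = Submodule.span (PowerSeries k) {(1 : (Fin 2 → PowerSeries k))} ⊔
        Ideal.span {(PowerSeries.X : PowerSeries k) ^ n} • (⊤ : Submodule (PowerSeries k) (Fin 2 → PowerSeries k))) ∧
    (∀ n : ℕ, Subalgebra.toSubmodule S = Submodule.span (PowerSeries k) {(1 : (Fin 2 → PowerSeries k))} ⊔
        Ideal.span {(PowerSeries.X : PowerSeries k) ^ n} • (⊤ : Submodule (PowerSeries k) (Fin 2 → PowerSeries k)) →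
      Nonempty (S ≃ₐ[PowerSeries k] AdjoinRoot (Polynomial.X ^ 2 - Polynomial.C ((PowerSeries.X : PowerSeries k) ^ (2 * n))))) := by
  have h2 : (PowerSeries.C (2⁻¹ : k) : PowerSeries k) * 2 = 1 := by
    have : (2 : PowerSeries k) = PowerSeries.C (2 : k) := (map_ofNat PowerSeries.C 2).symm
    rw [this, ← map_mul, inv_mul_cancel₀ (two_ne_zero), map_one]
  have h2ne : (2 : PowerSeries k) ≠ 0 := by
    intro h; rw [h, mul_zero] at h2; exact zero_ne_one h2
  let v : Fin 2 → (Fin 2 → PowerSeries k) := ![1, ![1, -1]]
  have hli : LinearIndependent (PowerSeries k) v := by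
    rw [Fintype.linearIndependent_iff]
    intro c hc
    rw [Fin.sum_univ_two] at hc
    have e0 := congrFun hc 0
    have e1 := congrFun hc 1
    simp [v] at e0 e1
    have hc0 : c 0 = 0 := by
      have : 2 * c 0 = 0 := by linear_combination e0 + e1
      exact (mul_eq_zero.mp this).resolve_left h2ne
    have hc1 : c 1 = 0 := by
      have : 2 * c 1 = 0 := by linear_combination e0 - e1
      exact (mul_eq_zero.mp this).resolve_left h2ne
    intro i; fin_cases i
    · exact hc0
    · exact hc1
  have hsp : ⊤ ≤ Submodule.span (PowerSeries k) (Set.range v) := by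
    intro y _
    have : y = ((y 0 + y 1) * PowerSeries.C (2⁻¹ : k)) • v 0 +
        ((y 0 - y 1) * PowerSeries.C (2⁻¹ : k)) • v 1 := by
      funext i
      fin_cases i
      · simp [v]; linear_combination (-(y 0)) * h2
      · simp [v]; linear_combination (-(y 1)) * h2
    rw [this]
    exact Submodule.add_mem _ (Submodule.smul_mem _ _ (Submodule.subset_span ⟨0, rfl⟩))
      (Submodule.smul_mem _ _ (Submodule.subset_span ⟨1, rfl⟩))
  let bt : Basis (Fin 2) (PowerSeries k) (Fin 2 → PowerSeries k) := Basis.mk hli hsp
  have h0 : bt 0 = 1 := by rw [Basis.mk_apply]; rfl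
  have h1 : bt 1 = ![1, -1] := by rw [Basis.mk_apply]; rfl
  have hε : bt 1 * bt 1 = algebraMap (PowerSeries k) (Fin 2 → PowerSeries k) 1 := by
    rw [h1, map_one]
    funext i
    fin_cases i <;> simp
  have := final bt h0 1 hε 0 (pow_zero _).symm b S
  simpa using this

end Groth.Agent.S13880
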