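import Groth.Statements.S13881
import Mathlib
import Groth.Agent.Lib.Helper16Crimp2
-- import your own Groth.Agent.* helpers here

set_option autoImplicit false
set_option linter.style.haveILetI false
set_option linter.unusedSectionVars false
universe u
open Crimp

namespace Groth.Agent.S13881
open Groth.Agent.Lib.Helper16Crimp2 Module


lemma aux {k : Type u} [Field k] [CharZero k] (b : ℕ) (g : Polynomial (PowerSeries k))
    (hg : g = Polynomial.X ^ 2 - Polynomial.C (PowerSeries.X : PowerSeries k))
    (S : Subalgebra (PowerSeries k) (AdjoinRoot g)) :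
    ((∃ bS : Module.Basis (Fin 2) (PowerSeries k) S,
      Ideal.span {Algebra.discr (PowerSeries k) ⇑bS} = Ideal.span {(PowerSeries.X : PowerSeries k) ^ b}) ↔
    ∃ n : ℕ, b = 2 * n + 1 ∧
      Subalgebra.toSubmodule S = Submodule.span (PowerSeries k) {(1 : (AdjoinRoot g))} ⊔
        Ideal.span {(PowerSeries.X : PowerSeries k) ^ n} • (⊤ : Submodule (PowerSeries k) (AdjoinRoot g))) ∧
    (∀ n : ℕ, Subalgebra.toSubmodule S = Submodule.span (PowerSeries k) {(1 : (AdjoinRoot g))} ⊔
        Ideal.span {(PowerSeries.X : PowerSeries k) ^ n} • (⊤ : Submodule (PowerSeries k) (AdjoinRoot g)) →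
      Nonempty (S ≃ₐ[PowerSeries k] AdjoinRoot (Polynomial.X ^ 2 - Polynomial.C ((PowerSeries.X : PowerSeries k) ^ (2 * n + 1))))) := by
  have hmonic : g.Monic := by rw [hg]; exact Polynomial.monic_X_pow_sub_C _ (by norm_num)
  have hdeg : g.natDegree = 2 := by rw [hg]; exact Polynomial.natDegree_X_pow_sub_C
  let pb := AdjoinRoot.powerBasis' hmonic
  have hdim : pb.dim = 2 := by rw [AdjoinRoot.powerBasis'_dim, hdeg]
  let bt : Basis (Fin 2) (PowerSeries k) (AdjoinRoot g) := pb.basis.reindex (finCongr hdim)
  have hbt : ∀ i : Fin 2, bt i = AdjoinRoot.root g ^ (i : ℕ) := by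
    intro i
    simp only [bt, Basis.reindex_apply, PowerBasis.coe_basis, pb, AdjoinRoot.powerBasis'_gen]
    rfl
  have h0 : bt 0 = 1 := by rw [hbt]; simp
  have h1 : bt 1 = AdjoinRoot.root g := by rw [hbt]; simp
  have hε : bt 1 * bt 1 = algebraMap (PowerSeries k) (AdjoinRoot g) PowerSeries.X := by
    rw [h1, ← pow_two]
    have : AdjoinRoot.mk g (Polynomial.X ^ 2 - Polynomial.C (PowerSeries.X : PowerSeries k)) = 0 := by
      rw [← hg]; exact AdjoinRoot.mk_self
    rw [map_sub, map_pow, AdjoinRoot.mk_X, AdjoinRoot.mk_C, sub_eq_zero] at this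
    rw [this, AdjoinRoot.algebraMap_eq]
  exact final bt h0 PowerSeries.X hε 1 (pow_one _).symm b S


/-- Over R = k⟦t⟧ with k an algebraically closed field of characteristic zero, let S' = R[x] / (x ^ 2 -
t), the ramified smooth double cover of the formal disk (branch divisor (t)). An R-subalgebra S of
S' admits an R-basis of size 2 whose discriminant generates (t ^ b), that is, S is a crimp with
branch divisor (t ^ b), if and only if b = 2n + 1 for some n and S = R·1 + t ^ n S'. So there is
exactly one such crimp when b is odd and none when b is even; moreover the subalgebra R·1 + t ^ n S'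
is isomorphic as an R-algebra to R[y] / (y ^ 2 - t ^ (2n+1)) (existence of an isomorphism; y ↦ t ^ n
x). (The published statement describes this algebra as R[y] / (y ^ 2 - t ^ (b - a)) with a = 1, that
is R[y] / (y ^ 2 - t ^ (2n)); that algebra has discriminant ideal (t ^ (b - 1)), not (t ^ b), so
this row uses R[y] / (y ^ 2 - t ^ b) = R[y] / (y ^ 2 - t ^ (2n+1)), which is the algebra R·1 + t ^ n
S'. The published statement also gives the space of crimps its reduced one-point scheme structure;
this row classifies its k-points.) -/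
theorem result {k : Type u} [Field k] [IsAlgClosed k] [CharZero k] (b : ℕ)
    (S : Subalgebra (PowerSeries k) (AdjoinRoot (Polynomial.X ^ 2 - Polynomial.C (PowerSeries.X : PowerSeries k)))) :
    ((∃ bS : Module.Basis (Fin 2) (PowerSeries k) S,
      Ideal.span {Algebra.discr (PowerSeries k) ⇑bS} = Ideal.span {(PowerSeries.X : PowerSeries k) ^ b}) ↔
    ∃ n : ℕ, b = 2 * n + 1 ∧
      Subalgebra.toSubmodule S = Submodule.span (PowerSeries k) {(1 : (AdjoinRoot (Polynomial.X ^ 2 - Polynomial.C (PowerSeries.X : PowerSeries k))))} ⊔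
        Ideal.span {(PowerSeries.X : PowerSeries k) ^ n} • (⊤ : Submodule (PowerSeries k) (AdjoinRoot (Polynomial.X ^ 2 - Polynomial.C (PowerSeries.X : PowerSeries k))))) ∧
    (∀ n : ℕ, Subalgebra.toSubmodule S = Submodule.span (PowerSeries k) {(1 : (AdjoinRoot (Polynomial.X ^ 2 - Polynomial.C (PowerSeries.X : PowerSeries k))))} ⊔
        Ideal.span {(PowerSeries.X : PowerSeries k) ^ n} • (⊤ : Submodule (PowerSeries k) (AdjoinRoot (Polynomial.X ^ 2 - Polynomial.C (PowerSeries.X : PowerSeries k)))) →
      Nonempty (S ≃ₐ[PowerSeries k] AdjoinRoot (Polynomial.X ^ 2 - Polynomial.C ((PowerSeries.X : PowerSeries k) ^ (2 * n + 1))))) := by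
  exact aux b _ rfl S

end Groth.Agent.S13881
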