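import Groth.Statements.S13882
-- import your own Groth.Agent.* helpers here

set_option autoImplicit false
universe u
open FinCov

namespace Groth.Agent.S13882

open W4c1hurwitzcpt MvPolynomial

section helpers

/-- variables: structure constants and unit coordinates -/
abbrev Var (d : ℕ) := (Fin d × Fin d × Fin d) ⊕ Fin d

noncomputable def cX (K : Type u) [CommRing K] {d : ℕ} (i j k : Fin d) : MvPolynomial (Var d) K :=
  X (Sum.inl (i, j, k))
noncomputable def uX (K : Type u) [CommRing K] {d : ℕ} (i : Fin d) : MvPolynomial (Var d) K :=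
  X (Sum.inr i)

/-- the defining relations -/
def rels (K : Type u) [CommRing K] (d : ℕ) : Set (MvPolynomial (Var d) K) :=
  {p | (∃ i j k, p = cX K i j k - cX K j i k) ∨
    (∃ i j l m, p = (∑ k, cX K i j k * cX K k l m) - ∑ k, cX K j l k * cX K i k m) ∨
    (∃ j m, p = (∑ i, uX K i * cX K i j m) - if j = m then 1 else 0)}

/-- the classifying algebra -/
abbrev BB (K : Type u) [CommRing K] (d : ℕ) := MvPolynomial (Var d) K ⧸ Ideal.span (rels K d)

variable {K : Type u} [Field K] {d : ℕ} {A : Type u} [CommRing A] [Algebra K A]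

/-- the point of affine space given by a based algebra -/
def vals (s : BasedAlg d A) : Var d → A :=
  Sum.elim (fun ijk => s.c ijk.1 ijk.2.1 ijk.2.2) s.u

lemma aeval_cX (v : Var d → A) (i j k : Fin d) : aeval v (cX K i j k) = v (Sum.inl (i, j, k)) := by
  rw [cX, aeval_X]
lemma aeval_uX (v : Var d → A) (i : Fin d) : aeval v (uX K i) = v (Sum.inr i) := by
  rw [uX, aeval_X]

lemma rels_le_ker (s : BasedAlg d A) :
    Ideal.span (rels K d) ≤ RingHom.ker (aeval (R := K) (vals s)).toRingHom := by
  rw [Ideal.span_le]
  rintro p (⟨i, j, k, rfl⟩ | ⟨i, j, l, m, rfl⟩ | ⟨j, m, rfl⟩)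
  · change aeval (vals s) _ = 0
    rw [map_sub, aeval_cX, aeval_cX]
    exact sub_eq_zero.mpr (s.comm i j k)
  · change aeval (vals s) _ = 0
    simp only [map_sub, map_sum, map_mul, aeval_cX]
    exact sub_eq_zero.mpr (s.assoc i j l m)
  · change aeval (vals s) _ = 0
    simp only [map_sub, map_sum, map_mul, aeval_cX, aeval_uX]
    rw [sub_eq_zero]
    refine (s.unit j m).trans ?_
    split <;> simp

/-- algebra map from a based algebra -/
noncomputable def ofBased (s : BasedAlg d A) : BB K d →ₐ[K] A :=
  Ideal.Quotient.liftₐ (Ideal.span (rels K d)) (aeval (vals s)) (fun _ ha => rels_le_ker s ha)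

lemma mk_rel {p : MvPolynomial (Var d) K} (hp : p ∈ rels K d) :
    (Ideal.Quotient.mk (Ideal.span (rels K d)) p) = 0 :=
  Ideal.Quotient.eq_zero_iff_mem.mpr (Ideal.subset_span hp)

/-- based algebra from an algebra map -/
noncomputable def toBased (g : BB K d →ₐ[K] A) : BasedAlg d A where
  c i j k := g (Ideal.Quotient.mk _ (cX K i j k))
  u i := g (Ideal.Quotient.mk _ (uX K i))
  comm i j k := by
    have h := mk_rel (K := K) (d := d) (p := cX K i j k - cX K j i k) (Or.inl ⟨i, j, k, rfl⟩)
    rw [map_sub, sub_eq_zero] at h
    rw [h]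
  assoc i j l m := by
    have h := mk_rel (K := K) (d := d)
      (p := (∑ k, cX K i j k * cX K k l m) - ∑ k, cX K j l k * cX K i k m)
      (Or.inr (Or.inl ⟨i, j, l, m, rfl⟩))
    rw [map_sub, sub_eq_zero] at h
    have h2 := congrArg g h
    simpa only [map_sum, map_mul] using h2
  unit j m := by
    have h := mk_rel (K := K) (d := d)
      (p := (∑ i, uX K i * cX K i j m) - if j = m then 1 else 0)
      (Or.inr (Or.inr ⟨j, m, rfl⟩))
    rw [map_sub, sub_eq_zero] at h
    have h2 := congrArg g h
    simp only [map_sum, map_mul] at h2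
    rw [h2]
    split <;> simp

lemma ofBased_mk (s : BasedAlg d A) (p : MvPolynomial (Var d) K) :
    ofBased s (Ideal.Quotient.mk _ p) = aeval (vals s) p := by
  rw [ofBased, Ideal.Quotient.liftₐ_apply, Ideal.Quotient.lift_mk]
  rfl

lemma toBased_ofBased (s : BasedAlg d A) : toBased (K := K) (ofBased s) = s := by
  ext i j k
  · change ofBased s (Ideal.Quotient.mk _ (cX K i j k)) = _
    rw [ofBased_mk, aeval_cX]
    rfl
  · rename_i i
    change ofBased s (Ideal.Quotient.mk _ (uX K i)) = _
    rw [ofBased_mk, aeval_uX]
    rfl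

lemma ofBased_toBased (g : BB K d →ₐ[K] A) : ofBased (toBased g) = g := by
  apply Ideal.Quotient.algHom_ext
  apply MvPolynomial.algHom_ext
  rintro (⟨i, j, k⟩ | i)
  · change ofBased (toBased g) (Ideal.Quotient.mk _ (X _)) = g (Ideal.Quotient.mk _ (X _))
    rw [ofBased_mk, aeval_X]
    rfl
  · change ofBased (toBased g) (Ideal.Quotient.mk _ (X _)) = g (Ideal.Quotient.mk _ (X _))
    rw [ofBased_mk, aeval_X]
    rfl

end helpers

/-- Over a field K of characteristic zero, the functor that sends a K-scheme S to the set of isomorphism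
classes of pairs (A, τ) of an O_S-algebra A and an O_S-module isomorphism τ from A to the free
module of rank d, equivalently to the set of commutative unital algebra structures on the rank-d
free module with its standard basis, is represented by an affine K-scheme of finite type. Stated on
affine K-schemes in one universe: there is a finitely generated commutative K-algebra B with
bijections between K-algebra maps B → A and based algebra structures of rank d over A, natural in
the commutative K-algebra A. -/
theorem result (K : Type u) [Field K] [CharZero K] (d : ℕ) :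
    ∃ (B : Type u) (_ : CommRing B) (_ : Algebra K B) (_ : Algebra.FiniteType K B)
      (η : ∀ (A : Type u) [CommRing A] [Algebra K A], (B →ₐ[K] A) ≃ W4c1hurwitzcpt.BasedAlg d A),
      ∀ (A A' : Type u) [CommRing A] [Algebra K A] [CommRing A'] [Algebra K A']
        (f : A →ₐ[K] A') (g : B →ₐ[K] A),
        η A' (f.comp g) = (η A g).map f.toRingHom := by
  refine ⟨BB K d, inferInstance, inferInstance,
    Algebra.FiniteType.of_surjective (Ideal.Quotient.mkₐ K (Ideal.span (rels K d)))
      (Ideal.Quotient.mkₐ_surjective K _),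
    fun A _ _ => ⟨toBased, ofBased, ofBased_toBased, toBased_ofBased⟩, ?_⟩
  intro A A' _ _ _ _ f g
  rfl

end Groth.Agent.S13882
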