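import Groth.Statements.S13884
import Mathlib
import Groth.Agent.Lib.Helper16RootDisk
-- import your own Groth.Agent.* helpers here

set_option autoImplicit false
set_option linter.style.haveILetI false
set_option linter.unusedSectionVars false
universe u
open Crimp

namespace Groth.Agent.S13884
open Groth.Agent.Lib.Helper16RootDisk W4c1hurwitzcpt


/-- Over R = k⟦t⟧ with k an algebraically closed field of characteristic zero, let S' = k⟦x⟧ regarded as
an R-algebra through t ↦ x ^ 3, that is S' = R[x] / (x ^ 3 - t), the smooth totally ramified triple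
cover of the formal disk. If M is an R-submodule of S' which is free of rank 3, then M has an
R-basis consisting of three power series whose x-adic valuations are pairwise distinct modulo 3.
(Items (2) and (3) of the published proposition, on the base change of M to R[s] / (s ^ 3 - t), are
not restated.) -/
theorem result {k : Type u} [Field k] [IsAlgClosed k] [CharZero k]
    (M : Submodule (PowerSeries k) (W4c1hurwitzcpt.RootDisk 3 k))
    (bM : Module.Basis (Fin 3) (PowerSeries k) M) :
    ∃ g : Module.Basis (Fin 3) (PowerSeries k) M, ∀ i j : Fin 3, i ≠ j →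
      ¬ Nat.ModEq 3 (PowerSeries.order (W4c1hurwitzcpt.RootDisk.val (((g i : M) : (W4c1hurwitzcpt.RootDisk 3 k)) : W4c1hurwitzcpt.RootDisk 3 k))).toNat
        (PowerSeries.order (W4c1hurwitzcpt.RootDisk.val (((g j : M) : (W4c1hurwitzcpt.RootDisk 3 k)) : W4c1hurwitzcpt.RootDisk 3 k))).toNat := by
  have hfin : Module.Finite (PowerSeries k) M := Module.Finite.of_basis bM
  have hfg : M.FG := Module.Finite.iff_fg.mp hfin
  have ha := exists_smul_mem (fun j : Fin 3 => (xT : RootDisk 3 k) ^ (j : ℕ)) span_pow_top M bM
  obtain ⟨g, hg, hspan⟩ := main M hfg ha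
  let g' : Fin 3 → M := fun r => ⟨g r, (hg r).1⟩
  have hsp : ⊤ ≤ Submodule.span (PowerSeries k) (Set.range g') := by
    intro x _
    have hx : (x : RootDisk 3 k) ∈ Submodule.span (PowerSeries k) (Set.range g) := by
      rw [hspan]; exact x.2
    obtain ⟨c, hc⟩ := (Submodule.mem_span_range_iff_exists_fun _).mp hx
    rw [Submodule.mem_span_range_iff_exists_fun]
    refine ⟨c, Subtype.ext ?_⟩
    rw [Submodule.coe_sum]
    simpa [g'] using hc
  have hcard : Fintype.card (Fin 3) = Module.finrank (PowerSeries k) M := by
    rw [Module.finrank_eq_card_basis bM]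
  refine ⟨basisOfTopLeSpanOfCardEqFinrank g' hsp hcard, ?_⟩
  intro i j hij h
  rw [coe_basisOfTopLeSpanOfCardEqFinrank] at h
  apply hij
  have hi := (hg i).2.2
  have hj := (hg j).2.2
  have h' : ord (g i) % 3 = ord (g j) % 3 := h
  rw [hi, hj] at h'
  exact Fin.ext h'

end Groth.Agent.S13884
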