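import Groth.Statements.S13885
import Mathlib
import Groth.Agent.Lib.Helper16RootDisk
-- import your own Groth.Agent.* helpers here

set_option autoImplicit false
set_option linter.style.haveILetI false
set_option linter.unusedSectionVars false
universe u
open Crimp

namespace Groth.Agent.S13885
open Groth.Agent.Lib.Helper16RootDisk W4c1hurwitzcpt


/-- Over R = k⟦t⟧ with k an algebraically closed field of characteristic zero, let S' = k⟦x⟧ × R, where
k⟦x⟧ is regarded as an R-algebra through t ↦ x ^ 2, that is S' = R[x] / (x ^ 2 - t) ⊕ R, the smooth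
simply ramified triple cover of the formal disk, with R embedded diagonally. If M is an R-submodule
of S' containing 1 which is free of rank 3, then M is spanned by 1, (f₁, 0) and (f₂, 0) for some
power series f₁, f₂ whose x-adic valuations are distinct modulo 2. (Items (2) and (3) of the
published proposition, on the base change of M to R[s] / (s ^ 2 - t), are not restated.) -/
theorem result {k : Type u} [Field k] [IsAlgClosed k] [CharZero k]
    (M : Submodule (PowerSeries k) (W4c1hurwitzcpt.RootDisk 2 k × PowerSeries k))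
    (h1 : (1 : (W4c1hurwitzcpt.RootDisk 2 k × PowerSeries k)) ∈ M)
    (bM : Module.Basis (Fin 3) (PowerSeries k) M) :
    ∃ f₁ f₂ : W4c1hurwitzcpt.RootDisk 2 k,
      ¬ Nat.ModEq 2 (PowerSeries.order (W4c1hurwitzcpt.RootDisk.val (f₁ : W4c1hurwitzcpt.RootDisk 2 k))).toNat (PowerSeries.order (W4c1hurwitzcpt.RootDisk.val (f₂ : W4c1hurwitzcpt.RootDisk 2 k))).toNat ∧
      M = Submodule.span (PowerSeries k) {(1 : (W4c1hurwitzcpt.RootDisk 2 k × PowerSeries k)), (f₁, 0), (f₂, 0)} := by
  -- spanning family of the ambient module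
  let e : Fin 3 → RootDisk 2 k × PowerSeries k := ![(1, 0), (xT, 0), (0, 1)]
  have he : ⊤ ≤ Submodule.span (PowerSeries k) (Set.range e) := by
    rintro ⟨f, r⟩ -
    have hf := decomp f
    rw [Finset.sum_range_succ, Finset.sum_range_one, pow_zero, pow_one] at hf
    have : ((f, r) : RootDisk 2 k × PowerSeries k) =
        comp 0 f • e 0 + comp 1 f • e 1 + r • e 2 := by
      ext
      · simp only [e, Prod.fst_add, Prod.smul_fst, Matrix.cons_val_zero, Matrix.cons_val_one,
          Matrix.cons_val_two, Matrix.tail_cons, Matrix.head_cons, smul_zero, add_zero]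
        exact hf
      · simp [e]
    rw [this]
    refine Submodule.add_mem _ (Submodule.add_mem _ ?_ ?_) ?_ <;>
      exact Submodule.smul_mem _ _ (Submodule.subset_span ⟨_, rfl⟩)
  obtain ⟨a, ha0, ha⟩ := exists_smul_mem e he M bM
  -- the part of M inside the first factor
  set M' : Submodule (PowerSeries k) (RootDisk 2 k) :=
    M.comap (LinearMap.inl (PowerSeries k) (RootDisk 2 k) (PowerSeries k)) with hM'
  have hmem' : ∀ f : RootDisk 2 k, f ∈ M' ↔ ((f, 0) : RootDisk 2 k × PowerSeries k) ∈ M := by
    intro f; rfl
  haveI : Module.Finite (PowerSeries k) (RootDisk 2 k) := by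
    classical
    refine Module.finite_def.mpr ⟨(Finset.univ.image fun j : Fin 2 => (xT : RootDisk 2 k) ^ (j : ℕ)), ?_⟩
    rw [Finset.coe_image, Finset.coe_univ, Set.image_univ]
    exact top_le_iff.mp span_pow_top
  haveI : IsNoetherian (PowerSeries k) (RootDisk 2 k) := isNoetherian_of_isNoetherianRing_of_finite _ _
  have hfg' : M'.FG := IsNoetherian.noetherian M'
  have ha' : ∃ a : PowerSeries k, a ≠ 0 ∧ ∀ f : RootDisk 2 k, a • f ∈ M' := by
    refine ⟨a, ha0, fun f => ?_⟩
    rw [hmem']
    have := ha (f, 0)
    simpa using this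
  obtain ⟨g, hg, hspan⟩ := main M' hfg' ha'
  refine ⟨g 0, g 1, ?_, ?_⟩
  · intro h
    have h' : ord (g 0) % 2 = ord (g 1) % 2 := h
    rw [(hg 0).2.2, (hg 1).2.2] at h'
    simp at h'
  · apply le_antisymm
    · rintro ⟨f, r⟩ hz
      have h2 : ((f, r) : RootDisk 2 k × PowerSeries k) - r • 1 ∈ M := M.sub_mem hz (M.smul_mem _ h1)
      have h3 : f - r • (1 : RootDisk 2 k) ∈ M' := by
        rw [hmem']
        have : ((f, r) : RootDisk 2 k × PowerSeries k) - r • 1 = (f - r • (1 : RootDisk 2 k), 0) := by
          ext <;> simp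
        rw [← this]; exact h2
      rw [← hspan] at h3
      obtain ⟨c, hc⟩ := (Submodule.mem_span_range_iff_exists_fun _).mp h3
      rw [Fin.sum_univ_two] at hc
      have : ((f, r) : RootDisk 2 k × PowerSeries k) =
          r • 1 + c 0 • (g 0, 0) + c 1 • (g 1, 0) := by
        ext
        · simp only [Prod.fst_add, Prod.smul_fst, Prod.fst_one]
          rw [add_assoc, hc]; abel
        · simp
      rw [this]
      refine Submodule.add_mem _ (Submodule.add_mem _ ?_ ?_) ?_ <;>
        exact Submodule.smul_mem _ _ (Submodule.subset_span (by simp))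
    · rw [Submodule.span_le]
      intro z hz
      simp only [Set.mem_insert_iff, Set.mem_singleton_iff] at hz
      rcases hz with rfl | rfl | rfl
      · exact h1
      · exact (hmem' _).mp (hg 0).1
      · exact (hmem' _).mp (hg 1).1

end Groth.Agent.S13885
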