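import Groth.Statements.S13888
import Mathlib
-- import your own Groth.Agent.* helpers here

set_option autoImplicit false
universe u
open CategoryTheory CategoryTheory.Limits MonoidalCategory
attribute [local instance] HasDerivedCategory.standard
open DTen

namespace Groth.Agent.S13888

/-- For a commutative ring `A` (assuming the derived tensor product on `D(A)` with its triple version
exists, that its symmetry, unit and associativity maps are isomorphisms, and that every `- ⊗^L L`
has a right adjoint `RHom(L, -)`) and objects `K`, `L`, `M` of `D(A)`, the canonical morphism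
`RHom(K ⊗^L L, M) ⟶ RHom(K, RHom(L, M))`, namely the double adjunct of the associativity isomorphism
followed by evaluation at `K ⊗^L L`, is an isomorphism. (Functoriality in the three objects is built
into the construction; the identification on `H^0` with the hom bijection of the adjunction is not
part of this row.) -/
theorem result (A : Type u) [CommRing A] [DTen.HasLTen A] [DTen.HasLTen₃ A]
    [DTen.IsSymMonoidal A] [DTen.HasRHom A] (K L M : Dual.D A) :
    IsIso (DTen.curryHom K L M) := by
  -- naturality of the associator in the first variable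
  have assoc_nat : ∀ {T X : Dual.D A} (g : T ⟶ X),
      (LTen₂ A).map (Prod.mkHom ((LTen₂ A).map (Prod.mkHom g (𝟙 K))) (𝟙 L)) ≫
          (DTen.associator X K L).hom =
        (DTen.associator T K L).hom ≫
          (LTen₂ A).map (Prod.mkHom g (𝟙 ((LTen₂ A).obj (K, L)))) := by
    intro T X g
    have h := (assocL A ≫ (asIso (assocR A)).inv).naturality
      (X := (T, (K, L))) (Y := (X, (K, L))) (Prod.mkHom g (Prod.mkHom (𝟙 K) (𝟙 L)))
    simp only [NatTrans.comp_app, Category.assoc] at h
    simp only [DTen.associator, Iso.trans_hom, Iso.symm_hom, Iso.app_hom, Iso.app_inv, asIso_hom,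
      asIso_inv, Category.assoc]
    have hid : (LTen₂ A).map (Prod.mkHom (𝟙 K) (𝟙 L)) = 𝟙 _ := by
      rw [← prod_id, CategoryTheory.Functor.map_id]
    simp only [asIso_inv] at h
    dsimp [LTenL, LTenR] at h
    rw [hid] at h
    exact h
  apply isIso_of_yoneda_map_bijective
  intro T
  -- the three bijections
  let ΦX : (T ⟶ (RHomR A ((LTen₂ A).obj (K, L))).obj M) ≃ ((LTen₂ A).obj (T, (LTen₂ A).obj (K, L)) ⟶ M) :=
    (rhomHomEquiv T ((LTen₂ A).obj (K, L)) M).symm
  let ΦY : (T ⟶ (RHomR A K).obj ((RHomR A L).obj M)) ≃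
      ((LTen₂ A).obj ((LTen₂ A).obj (T, K), L) ⟶ M) :=
    (rhomHomEquiv T K ((RHomR A L).obj M)).symm.trans (rhomHomEquiv ((LTen₂ A).obj (T, K)) L M).symm
  let α : ((LTen₂ A).obj (T, (LTen₂ A).obj (K, L)) ⟶ M) ≃ ((LTen₂ A).obj ((LTen₂ A).obj (T, K), L) ⟶ M) :=
    (DTen.associator T K L).homFromEquiv.symm
  have key : ∀ g : T ⟶ (RHomR A ((LTen₂ A).obj (K, L))).obj M,
      ΦY (g ≫ curryHom K L M) = α (ΦX g) := by
    intro g
    have hsymm : ∀ (T' L' M' : Dual.D A) (h : T' ⟶ (RHomR A L').obj M'),
        (rhomHomEquiv T' L' M').symm h = (LTen₂ A).map (Prod.mkHom h (𝟙 L')) ≫ ev L' M' := by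
      intro T' L' M' h
      rw [Adjunction.homEquiv_counit]
      rfl
    have e1 : ∀ {X₁ X₂ X₃ : Dual.D A} (Z : Dual.D A) (a : X₁ ⟶ X₂) (b : X₂ ⟶ X₃),
        (LTen₂ A).map (Prod.mkHom (a ≫ b) (𝟙 Z)) =
          (LTen₂ A).map (Prod.mkHom a (𝟙 Z)) ≫ (LTen₂ A).map (Prod.mkHom b (𝟙 Z)) := by
      intro X₁ X₂ X₃ Z a b
      rw [← Functor.map_comp]
      congr 1
    simp only [ΦY, ΦX, α, Equiv.trans_apply, hsymm, Iso.homFromEquiv_symm_apply]
    have hfac := curryHom_fac K L M
    simp only [e1, Category.assoc] at hfac ⊢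
    rw [hfac, curryHomAux, ← Category.assoc, assoc_nat, Category.assoc]
  have : (fun g : T ⟶ (RHomR A ((LTen₂ A).obj (K, L))).obj M => g ≫ curryHom K L M) =
      ΦY.symm ∘ α ∘ ΦX := by
    funext g
    rw [Function.comp_apply, Function.comp_apply, ← key, Equiv.symm_apply_apply]
  rw [this]
  exact ΦY.symm.bijective.comp (α.bijective.comp ΦX.bijective)

end Groth.Agent.S13888
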