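import Groth.Statements.S1389
import Mathlib

set_option autoImplicit false
universe u
open FlatMor

namespace Groth.Agent.S1389

section Dev
open AlgebraicGeometry CategoryTheory Limits
set_option linter.unusedVariables false
theorem main {S U U' : Scheme.{u}} (s : S) (g : U ⟶ S) (g' : U' ⟶ S) [Etale g] [Etale g'] (u : U) (u' : U')
    (hu : g u = s) (hu' : g' u' = s) (h₁ h₂ : U ⟶ U') (w₁ : h₁ ≫ g' = g) (w₂ : h₂ ≫ g' = g) (e₁ : h₁ u = u') (e₂ : h₂ u = u')
    (hres : (U'.residueFieldCongr e₁).inv ≫ h₁.residueFieldMap u = (U'.residueFieldCongr e₂).inv ≫ h₂.residueFieldMap u) :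
    ∃ (U'' : Scheme.{u}) (g'' : U'' ⟶ S) (u'' : U'') (h : U'' ⟶ U), Etale g'' ∧ g'' u'' = s ∧ h ≫ g = g'' ∧ h u'' = u ∧ h ≫ h₁ = h ≫ h₂ := by
  -- the two field-valued points agree
  have hpt : U.fromSpecResidueField u ≫ h₁ = U.fromSpecResidueField u ≫ h₂ := by
    rw [← Scheme.Hom.SpecMap_residueFieldMap_fromSpecResidueField,
      ← Scheme.Hom.SpecMap_residueFieldMap_fromSpecResidueField,
      ← Scheme.residueFieldCongr_fromSpecResidueField e₁.symm,
      ← Scheme.residueFieldCongr_fromSpecResidueField e₂.symm]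
    rw [← Spec.map_comp_assoc, ← Spec.map_comp_assoc]
    have h1 : (U'.residueFieldCongr e₁.symm).hom = (U'.residueFieldCongr e₁).inv := rfl
    have h2 : (U'.residueFieldCongr e₂.symm).hom = (U'.residueFieldCongr e₂).inv := rfl
    rw [h1, h2, hres]
  let d := pullback.diagonal g'
  let l : U ⟶ pullback g' g' := pullback.lift h₁ h₂ (by rw [w₁, w₂])
  have hd : IsOpenImmersion d := inferInstance
  let W : U.Opens := l ⁻¹ᵁ d.opensRange
  have hl_pt : U.fromSpecResidueField u ≫ l = (U.fromSpecResidueField u ≫ h₁) ≫ d := by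
    apply pullback.hom_ext
    · rw [Category.assoc, Category.assoc, pullback.lift_fst, pullback.diagonal_fst, Category.comp_id]
    · rw [Category.assoc, Category.assoc, pullback.lift_snd, pullback.diagonal_snd, Category.comp_id, hpt]
  have huW : u ∈ W := by
    show l u ∈ Set.range d
    have hne : Nonempty (Spec (U.residueField u)) := inferInstance
    obtain ⟨p⟩ := hne
    have : l u = l (U.fromSpecResidueField u p) := by rw [Scheme.fromSpecResidueField_apply]
    rw [this, ← Scheme.Hom.comp_apply, hl_pt, Scheme.Hom.comp_apply]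
    exact ⟨_, rfl⟩
  have hrange : Set.range (W.ι ≫ l) ⊆ Set.range d := by
    rintro _ ⟨x, rfl⟩
    exact x.2
  let k : W.toScheme ⟶ U' := IsOpenImmersion.lift d (W.ι ≫ l) hrange
  have hk : k ≫ d = W.ι ≫ l := IsOpenImmersion.lift_fac d (W.ι ≫ l) hrange
  refine ⟨W.toScheme, W.ι ≫ g, ⟨u, huW⟩, W.ι, inferInstance, ?_, rfl, rfl, ?_⟩
  · rw [Scheme.Hom.comp_apply]; exact hu
  · have e1 : W.ι ≫ h₁ = k := by
      have : (W.ι ≫ l) ≫ pullback.fst g' g' = W.ι ≫ h₁ := by
        rw [Category.assoc, pullback.lift_fst]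
      rw [← this, ← hk, Category.assoc, pullback.diagonal_fst, Category.comp_id]
    have e2 : W.ι ≫ h₂ = k := by
      have : (W.ι ≫ l) ≫ pullback.snd g' g' = W.ι ≫ h₂ := by
        rw [Category.assoc, pullback.lift_snd]
      rw [← this, ← hk, Category.assoc, pullback.diagonal_snd, Category.comp_id]
    rw [e1, e2]
end Dev

open AlgebraicGeometry CategoryTheory Limits in
/-- Let (U, u) and (U', u') be étale neighbourhoods of a point s of S and h₁, h₂ two S-morphisms U → U'
sending u to u' which induce the same map of residue fields κ(u') → κ(u). Then there is an étale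
neighbourhood (U'', u'') of s with an S-morphism h : U'' → U sending u'' to u and with h followed by
h₁ equal to h followed by h₂. -/
theorem result {S U U' : Scheme.{u}} (s : S) (g : U ⟶ S) (g' : U' ⟶ S) [Etale g] [Etale g'] (u : U) (u' : U')
    (hu : g u = s) (hu' : g' u' = s) (h₁ h₂ : U ⟶ U') (w₁ : h₁ ≫ g' = g) (w₂ : h₂ ≫ g' = g) (e₁ : h₁ u = u') (e₂ : h₂ u = u')
    (hres : (U'.residueFieldCongr e₁).inv ≫ h₁.residueFieldMap u = (U'.residueFieldCongr e₂).inv ≫ h₂.residueFieldMap u) :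
    ∃ (U'' : Scheme.{u}) (g'' : U'' ⟶ S) (u'' : U'') (h : U'' ⟶ U), Etale g'' ∧ g'' u'' = s ∧ h ≫ g = g'' ∧ h u'' = u ∧ h ≫ h₁ = h ≫ h₂ := by
  exact main s g g' u u' hu hu' h₁ h₂ w₁ w₂ e₁ e₂ hres

end Groth.Agent.S1389
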