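import Groth.Statements.S1390
import Mathlib
import Groth.Agent.Lib.Helper18StdEtaleCover

set_option autoImplicit false
universe u
open FlatMor

namespace Groth.Agent.S1390

open CategoryTheory AlgebraicGeometry
open Limits

open AlgebraicGeometry CategoryTheory Limits in
/-- Let (U, u) be an étale neighbourhood of (S, s), i.e. U → S étale with u over s. Then there are an
affine open neighbourhood V of s and a surjective, finite, flat morphism of finite presentation π :
T → V such that every point t of T over s has an open neighbourhood W_t with an S-morphism W_t → U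
sending t to u. -/
theorem result {U S : Scheme.{u}} (e : U ⟶ S) [Etale e] (u : U) (s : S) (hu : e u = s) :
    ∃ (V : S.Opens) (T : Scheme.{u}) (π : T ⟶ (V : Scheme.{u})), s ∈ V ∧ IsAffineOpen V ∧ Surjective π ∧ IsFinite π ∧ Flat π ∧ LocallyOfFinitePresentation π ∧
      ∀ t : T, V.ι (π t) = s → ∃ (W : T.Opens) (h : (W : Scheme.{u}) ⟶ U), t ∈ W ∧ h ≫ e = W.ι ≫ π ≫ V.ι ∧ ∀ ht : t ∈ W, h ⟨t, ht⟩ = u := by
  subst hu
  obtain ⟨_, ⟨V, hV, rfl⟩, hxV, -⟩ := S.isBasis_affineOpens.exists_subset_of_mem_open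
    (Set.mem_univ (e u)) isOpen_univ
  obtain ⟨_, ⟨U₁, hU₁, rfl⟩, hxU, hUV : U₁ ≤ e ⁻¹ᵁ V⟩ :=
    U.isBasis_affineOpens.exists_subset_of_mem_open hxV (e ⁻¹ᵁ V).2
  have het : (e.appLE V U₁ hUV).hom.Etale :=
    HasRingHomProperty.appLE @Etale e inferInstance ⟨V, hV⟩ ⟨U₁, hU₁⟩ hUV
  algebraize [(e.appLE V U₁ hUV).hom]
  let Q : Ideal Γ(U, U₁) := (hU₁.primeIdealOf ⟨u, hxU⟩).asIdeal
  have hQat : Algebra.IsEtaleAt Γ(S, V) Q := by
    have : Algebra.FormallyEtale Γ(U, U₁) (Localization.AtPrime Q) :=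
      Algebra.FormallyEtale.of_isLocalization Q.primeCompl
    exact Algebra.FormallyEtale.comp Γ(S, V) Γ(U, U₁) (Localization.AtPrime Q)
  obtain ⟨f, hfQ, hstd⟩ := Algebra.IsEtaleAt.exists_isStandardEtale (R := Γ(S, V)) Q
  obtain ⟨S', i1, i2, hfin, hfp, hfl, hsurj, hkey⟩ :=
    Groth.Agent.Lib.Helper18StdEtaleCover.main Γ(S, V) (Localization.Away f)
  let φ : Γ(S, V) ⟶ CommRingCat.of S' := CommRingCat.ofHom (algebraMap Γ(S, V) S')
  let π : Spec (CommRingCat.of S') ⟶ (V : Scheme.{u}) := Spec.map φ ≫ hV.isoSpec.inv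
  have hπι : π ≫ Scheme.Opens.ι V = Spec.map φ ≫ hV.fromSpec := by
    simp only [π, Category.assoc]
    rfl
  have hφfin : IsFinite (Spec.map φ) := by
    rw [IsFinite.SpecMap_iff]
    exact RingHom.finite_algebraMap.mpr hfin
  have hφfl : Flat (Spec.map φ) := HasRingHomProperty.Spec_iff.mpr
    (RingHom.flat_algebraMap_iff.mpr hfl)
  have hφfp : LocallyOfFinitePresentation (Spec.map φ) := HasRingHomProperty.Spec_iff.mpr
    (RingHom.finitePresentation_algebraMap.mpr hfp)
  have hφsurj : Surjective (Spec.map φ) := ⟨hsurj⟩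
  have h0 : IsOpenImmersion hV.fromSpec := hV.isOpenImmersion_fromSpec
  have h0' : IsOpenImmersion hU₁.fromSpec := hU₁.isOpenImmersion_fromSpec
  refine ⟨V, Spec (CommRingCat.of S'), π, hxV, hV, inferInstance, inferInstance, inferInstance,
    inferInstance, ?_⟩
  intro t ht
  haveI htp : t.asIdeal.IsPrime := t.isPrime
  have hdisj : Disjoint (Submonoid.powers f : Set Γ(U, U₁)) (Q : Set Γ(U, U₁)) :=
    (Ideal.disjoint_powers_iff_notMem_of_isPrime _).mpr hfQ
  let q : Ideal (Localization.Away f) := Q.map (algebraMap Γ(U, U₁) (Localization.Away f))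
  have hqprime : q.IsPrime :=
    IsLocalization.isPrime_of_isPrime_disjoint (.powers f) _ _ inferInstance hdisj
  have hqQ : q.comap (algebraMap Γ(U, U₁) (Localization.Away f)) = Q :=
    IsLocalization.under_map_of_isPrime_disjoint (.powers f) _ inferInstance hdisj
  have hcond : t.asIdeal.under Γ(S, V) = q.under Γ(S, V) := by
    have h1 : hV.fromSpec (Spec.map φ t) = e u := by
      have : (Spec.map φ ≫ hV.fromSpec) t = hV.fromSpec (Spec.map φ t) :=
        Scheme.Hom.comp_apply _ _ _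
      rw [← this, ← hπι]
      exact ht
    have h2 : Spec.map φ t = hV.primeIdealOf ⟨e u, hxV⟩ := by
      apply hV.fromSpec.isOpenEmbedding.injective
      rw [h1]
      exact (hV.fromSpec_primeIdealOf ⟨e u, hxV⟩).symm
    have h3 := IsAffineOpen.comap_primeIdealOf_appLE (f := e) V hV U₁ hU₁ hUV hxU
    have h4 : t.asIdeal.under Γ(S, V) = (hV.primeIdealOf ⟨e u, hxV⟩).asIdeal :=
      congrArg PrimeSpectrum.asIdeal h2
    have h5 : q.under Γ(S, V) = Q.under Γ(S, V) := by
      rw [← hqQ]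
      exact (Ideal.under_under (B := Γ(U, U₁)) q).symm
    rw [h4, h5, ← h3]
    rfl
  obtain ⟨g', hg', φ', hφ'⟩ := @hkey q hqprime t.asIdeal t.isPrime hcond
  let ψ : CommRingCat.of S' ⟶ CommRingCat.of (Localization.Away g') :=
    CommRingCat.ofHom (algebraMap S' (Localization.Away g'))
  have hψ : IsOpenImmersion (Spec.map ψ) := IsOpenImmersion.of_isLocalization g'
  have hdisj' : Disjoint (Submonoid.powers g' : Set S') (t.asIdeal : Set S') :=
    (Ideal.disjoint_powers_iff_notMem_of_isPrime _).mpr hg'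
  let q' : Ideal (Localization.Away g') := t.asIdeal.map (algebraMap S' (Localization.Away g'))
  have hq'prime : q'.IsPrime :=
    IsLocalization.isPrime_of_isPrime_disjoint (.powers g') _ _ t.isPrime hdisj'
  have hq't : q'.comap (algebraMap S' (Localization.Away g')) = t.asIdeal :=
    IsLocalization.under_map_of_isPrime_disjoint (.powers g') _ t.isPrime hdisj'
  let t' : Spec (CommRingCat.of (Localization.Away g')) := ⟨q', hq'prime⟩
  have ht' : Spec.map ψ t' = t := PrimeSpectrum.ext hq't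
  let φc : CommRingCat.of (Localization.Away f) ⟶ CommRingCat.of (Localization.Away g') :=
    CommRingCat.ofHom φ'.toRingHom
  let loc : Γ(U, U₁) ⟶ CommRingCat.of (Localization.Away f) :=
    CommRingCat.ofHom (algebraMap Γ(U, U₁) (Localization.Away f))
  have hring : e.appLE V U₁ hUV ≫ loc ≫ φc = φ ≫ ψ := by
    ext r
    show φ' (algebraMap Γ(U, U₁) (Localization.Away f) (algebraMap Γ(S, V) Γ(U, U₁) r)) =
      algebraMap S' (Localization.Away g') (algebraMap Γ(S, V) S' r)
    rw [← IsScalarTower.algebraMap_apply, ← IsScalarTower.algebraMap_apply, φ'.commutes]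
  refine ⟨(Spec.map ψ).opensRange, (Spec.map ψ).isoOpensRange.inv ≫ Spec.map φc ≫ Spec.map loc ≫
    hU₁.fromSpec, ⟨t', ht'⟩, ?_, ?_⟩
  · have hS : Spec.map φc ≫ Spec.map loc ≫ Spec.map (e.appLE V U₁ hUV) =
        Spec.map ψ ≫ Spec.map φ := by
      rw [← Spec.map_comp, ← Spec.map_comp, ← Spec.map_comp, Category.assoc, hring]
    rw [hπι, ← Scheme.Hom.isoOpensRange_inv_comp (Spec.map ψ)]
    simp only [Category.assoc]
    rw [← IsAffineOpen.SpecMap_appLE_fromSpec e hV hU₁ hUV, reassoc_of% hS]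
  · intro htW
    have h1 : (Spec.map ψ).isoOpensRange.inv ⟨t, htW⟩ = t' := by
      apply (Spec.map ψ).isOpenEmbedding.injective
      rw [ht']
      have : ((Spec.map ψ).isoOpensRange.inv ≫ Spec.map ψ) ⟨t, htW⟩ =
          Spec.map ψ ((Spec.map ψ).isoOpensRange.inv ⟨t, htW⟩) := Scheme.Hom.comp_apply _ _ _
      rw [← this, Scheme.Hom.isoOpensRange_inv_comp]
      rfl
    have h2 : Spec.map φc t' = ⟨q, hqprime⟩ := PrimeSpectrum.ext hφ'
    have h3 : Spec.map loc ⟨q, hqprime⟩ = hU₁.primeIdealOf ⟨u, hxU⟩ := PrimeSpectrum.ext hqQ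
    have h4 : ((Spec.map ψ).isoOpensRange.inv ≫ Spec.map φc ≫ Spec.map loc ≫
        hU₁.fromSpec) ⟨t, htW⟩ = hU₁.fromSpec (Spec.map loc (Spec.map φc
          ((Spec.map ψ).isoOpensRange.inv ⟨t, htW⟩))) := by
      first
        | rfl
        | (simp; done)
        | (simp; rfl)
    rw [h4, h1, h2, h3]
    exact hU₁.fromSpec_primeIdealOf ⟨u, hxU⟩

end Groth.Agent.S1390
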