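import Groth.Statements.S13902
import Mathlib
import Groth.Agent.Lib.Helper27P1Cover

set_option autoImplicit false
universe u
open P1Fin

namespace Groth.Agent.S13902

open AlgebraicGeometry CategoryTheory in
/-- Let S be a scheme, g : X → P^1_S and f : T → X finite, flat, locally finitely presented morphisms.
If the rank of f is r at every point of X lying over the zero section S → P^1_S (equivalently the
base change T_0 → X_0 over that section has constant rank r), then the rank of f is r at every point
of X. -/
theorem result (S X T : Scheme.{u})
    (g : X ⟶ CohB1.ProjSpaceOver 1 S) (f : T ⟶ X)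
    [IsFinite g] [Flat g] [LocallyOfFinitePresentation g]
    [IsFinite f] [Flat f] [LocallyOfFinitePresentation f] (r : ℕ)
    (h : ∀ x : X, g x ∈ Set.range (P1.sect S 0) → f.finrank x = r) (x : X) :
    f.finrank x = r := by
  have hlc : IsLocallyConstant f.finrank := Scheme.Hom.isLocallyConstant_finrank f
  have hW : IsClopen (f.finrank ⁻¹' {r}) := hlc.isClopen_fiber r
  have := Groth.Agent.Lib.Helper27P1Cover.eq_univ_of_isClopen S X g 0 (f.finrank ⁻¹' {r}) hW
    (fun x hx => h x hx)
  have hx : x ∈ f.finrank ⁻¹' {r} := by rw [this]; trivial
  exact hx

end Groth.Agent.S13902
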