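import Groth.Statements.S13904
import Mathlib
import Groth.Agent.Lib.Helper5IntDim
-- import your own Groth.Agent.* helpers here

set_option autoImplicit false
universe u
open CAlg

namespace Groth.Agent.S13904

/-- Let k be a field, A a commutative k-algebra and φ : k[x_1, …, x_r] → A a finite k-algebra map such
that A/p has Krull dimension r for every minimal prime p of A (an equidimensional affine scheme of
dimension r, finite over affine r-space). Then for every minimal prime p of A and every prime q of
k[x_1, …, x_r] there is a prime P ⊇ p of A with φ⁻¹(P) = q: the finite map restricted to each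
irreducible component of Spec A is surjective onto affine r-space. (The published statement is over
an algebraically closed field with φ a Noether normalisation; this row allows any field and any
finite k-algebra map φ.) -/
theorem result (k : Type u) [Field k] (r : ℕ)
    (A : Type u) [CommRing A] [Algebra k A] (φ : MvPolynomial (Fin r) k →ₐ[k] A)
    (hφ : φ.toRingHom.Finite)
    (hdim : ∀ p ∈ minimalPrimes A, ringKrullDim (A ⧸ p) = r)
    (p : Ideal A) (hp : p ∈ minimalPrimes A)
    (q : Ideal (MvPolynomial (Fin r) k)) [q.IsPrime] :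
    ∃ P : Ideal A, P.IsPrime ∧ p ≤ P ∧ P.comap φ.toRingHom = q := by
  haveI hpp : p.IsPrime := Ideal.minimalPrimes_isPrime hp
  set ψ : MvPolynomial (Fin r) k →+* A ⧸ p := (Ideal.Quotient.mk p).comp φ.toRingHom with hψ
  have hfin : ψ.Finite :=
    RingHom.Finite.comp (RingHom.Finite.of_surjective _ Ideal.Quotient.mk_surjective) hφ
  have hint : ψ.IsIntegral := RingHom.IsIntegral.of_finite hfin
  have hdim1 : ringKrullDim (MvPolynomial (Fin r) k ⧸ RingHom.ker ψ) = r := by
    rw [← Groth.Agent.Lib.Helper5.ringKrullDim_eq_ringKrullDim_quotient_ker_of_isIntegral ψ hint]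
    exact hdim p hp
  have hdim2 : ringKrullDim (MvPolynomial (Fin r) k) = r := by
    rw [MvPolynomial.ringKrullDim_of_isNoetherianRing, ringKrullDim_eq_zero_of_field, Nat.card_fin,
      zero_add]
  have hker : RingHom.ker ψ = ⊥ := by
    by_contra hne
    obtain ⟨x, hx, hx0⟩ := Submodule.exists_mem_ne_zero_of_ne_bot hne
    have h := ringKrullDim_succ_le_of_surjective (Ideal.Quotient.mk (RingHom.ker ψ))
      Ideal.Quotient.mk_surjective (mem_nonZeroDivisors_of_ne_zero hx0)
      (Ideal.Quotient.eq_zero_iff_mem.2 hx)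
    rw [hdim1, hdim2] at h
    have h' : ((r + 1 : ℕ) : WithBot ℕ∞) ≤ (r : ℕ) := by exact_mod_cast h
    have h'' : r + 1 ≤ r := by exact_mod_cast h'
    omega
  letI : Algebra (MvPolynomial (Fin r) k) (A ⧸ p) := ψ.toAlgebra
  haveI : Algebra.IsIntegral (MvPolynomial (Fin r) k) (A ⧸ p) := ⟨hint⟩
  have hle : (⊥ : Ideal (A ⧸ p)).comap (algebraMap (MvPolynomial (Fin r) k) (A ⧸ p)) ≤ q := by
    rw [← RingHom.ker_eq_comap_bot]
    show RingHom.ker ψ ≤ q
    rw [hker]
    exact bot_le
  obtain ⟨Q, -, hQ, hQq⟩ := Ideal.exists_ideal_over_prime_of_isIntegral q ⊥ hle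
  refine ⟨Q.comap (Ideal.Quotient.mk p), Ideal.comap_isPrime _ _, ?_, ?_⟩
  · intro x hx
    rw [Ideal.mem_comap, Ideal.Quotient.eq_zero_iff_mem.2 hx]
    exact Q.zero_mem
  · rw [Ideal.comap_comap]
    exact hQq

end Groth.Agent.S13904
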