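import Groth.Statements.S13905
import Mathlib
-- import your own Groth.Agent.* helpers here

set_option autoImplicit false
universe u
open ProjGeom

namespace Groth.Agent.S13905


/-- Intersecting with a hyperplane not containing `W` drops the dimension by one. -/
theorem finrank_inf_hyperplane {k V : Type u} [Field k] [AddCommGroup V] [Module k V]
    [FiniteDimensional k V] (n : ℕ) (hV : Module.finrank k V = n + 1) (H W : Submodule k V)
    (hH : Module.finrank k H = n) (hW : ¬ W ≤ H) :
    Module.finrank k ↥(H ⊓ W) + 1 = Module.finrank k W := by
  have h1 := Submodule.finrank_sup_add_finrank_inf_eq H W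
  have h2 : H < H ⊔ W := by
    refine lt_of_le_of_ne le_sup_left ?_
    intro h
    apply hW
    rw [h]
    exact le_sup_right
  have h3 := Submodule.finrank_lt_finrank_of_lt h2
  have h4 : Module.finrank k ↥(H ⊔ W) ≤ Module.finrank k V := Submodule.finrank_le _
  omega

open W4c1etcurveeff3b in
/-- Hyperplanes of projective n-space in general position, in linear-algebra form (V of dimension n + 1
over a field k, hyperplanes as n-dimensional subspaces, points as nonzero vectors): if S is a finite
set of hyperplanes in general position with at least n members and H is a hyperplane containing none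
of the lines cut out by n members of S, then S with H added is again in general position. (The
published statement is for hyperplanes of P^n_k and closed points; a closed point lying on n + 1
members is automatically one of the rational points cut out by n of them, so the condition on
nonzero vectors of V is the same condition.) -/
theorem result (k V : Type u) [Field k]
    [AddCommGroup V] [Module k V] [DecidableEq (Submodule k V)] (n : ℕ) (S : Finset (Submodule k V))
    (hS : InGeneralPosition k V n S) (hn : n ≤ S.card) (H : Submodule k V)
    (hH : Module.finrank k H = n)
    (havoid : ∀ T ⊆ S, T.card = n → ¬ (T.inf id ≤ H)) :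
    InGeneralPosition k V n (insert H S) := by
  obtain ⟨hV, hS2, hS3, hS4⟩ := hS
  haveI : FiniteDimensional k V := Module.finite_of_finrank_pos (by omega)
  by_cases hHS : H ∈ S
  · rw [Finset.insert_eq_of_mem hHS]
    exact ⟨hV, hS2, hS3, hS4⟩
  -- extension of a small subset of S to one of cardinality n whose intersection is not in H
  have hnot : ∀ T' ⊆ S, T'.card ≤ n → ¬ (T'.inf id ≤ H) := by
    intro T' hT' hc hle
    obtain ⟨T'', h1, h2, h3⟩ := Finset.exists_subsuperset_card_eq hT' hc hn
    exact havoid T'' h2 h3 (le_trans (Finset.inf_mono h1) hle)
  refine ⟨hV, ?_, ?_, ?_⟩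
  · intro H' hH'
    rcases Finset.mem_insert.1 hH' with rfl | h
    · exact hH
    · exact hS2 H' h
  · intro T hT hc
    by_cases hHT : H ∈ T
    · have hT' : T.erase H ⊆ S := Finset.subset_insert_iff.1 hT
      have hc' : (T.erase H).card = T.card - 1 := Finset.card_erase_of_mem hHT
      have hpos : 0 < T.card := Finset.card_pos.2 ⟨H, hHT⟩
      have h1 := hS3 (T.erase H) hT' (by omega)
      have h2 := hnot (T.erase H) hT' (by omega)
      have h3 := finrank_inf_hyperplane n hV H ((T.erase H).inf id) hH h2
      have h4 : T.inf id = H ⊓ (T.erase H).inf id := by
        conv_lhs => rw [← Finset.insert_erase hHT]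
        rw [Finset.inf_insert]
        rfl
      rw [h4]
      omega
    · have hT' : T ⊆ S := by
        intro x hx
        rcases Finset.mem_insert.1 (hT hx) with rfl | h
        · exact absurd hx hHT
        · exact h
      exact hS3 T hT' hc
  · intro v hv T hT hvT
    by_cases hHT : H ∈ T
    · have hT' : T.erase H ⊆ S := Finset.subset_insert_iff.1 hT
      have hc' : (T.erase H).card = T.card - 1 := Finset.card_erase_of_mem hHT
      have hpos : 0 < T.card := Finset.card_pos.2 ⟨H, hHT⟩
      have h1 : (T.erase H).card ≤ n :=
        hS4 v hv (T.erase H) hT' (fun H' hH' => hvT H' (Finset.mem_of_mem_erase hH'))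
      by_contra hcon
      have h2 : (T.erase H).card = n := by omega
      have h3 := hS3 (T.erase H) hT' h1
      rw [h2] at h3
      have h3' : Module.finrank k ↥((T.erase H).inf id) = 1 := by omega
      -- the intersection is spanned by v, hence inside H
      have hvmem : v ∈ (T.erase H).inf id := by
        rw [Submodule.mem_finsetInf]
        intro H' hH'
        exact hvT H' (Finset.mem_of_mem_erase hH')
      apply havoid (T.erase H) hT' h2
      intro w hw
      obtain ⟨c, hc⟩ := (finrank_eq_one_iff_of_nonzero' (⟨v, hvmem⟩ : ↥((T.erase H).inf id))
        (by simpa using hv)).1 h3' ⟨w, hw⟩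
      have : w = c • v := by
        have := congrArg Subtype.val hc
        simpa using this.symm
      rw [this]
      exact H.smul_mem c (hvT H hHT)
    · have hT' : T ⊆ S := by
        intro x hx
        rcases Finset.mem_insert.1 (hT hx) with rfl | h
        · exact absurd hx hHT
        · exact h
      exact hS4 v hv T hT' hvT

end Groth.Agent.S13905
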