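import Groth.Statements.S13907
import Groth.Agent.Lib.Helper4ProjCone4

set_option autoImplicit false
universe u
open ProjGeom

namespace Groth.Agent.S13907

/-- Over an algebraically closed field k, let C be a nonempty irreducible closed subset of the
underlying space of projective n-space with homogeneous coordinates x_0, …, x_n, and for i ≤ n let
L_i be the linear subspace where x_1, …, x_i vanish. Then there is an index i ≤ n with C ∩ L_i
nonempty and of topological Krull dimension zero. -/
theorem result (k : Type u) [Field k]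
    [IsAlgClosed k] (n : ℕ) (C : Set (ProjectiveSpectrum (CohB1.polyGrading n k)))
    (hC : IsClosed C) (hirr : IsIrreducible C) :
    ∃ i : ℕ, i ≤ n ∧
      (C ∩ ProjectiveSpectrum.zeroLocus (CohB1.polyGrading n k)
          ((fun j : Fin (n + 1) => (MvPolynomial.X j : MvPolynomial (Fin (n + 1)) k)) ''
            {j : Fin (n + 1) | 1 ≤ j.val ∧ j.val ≤ i})).Nonempty ∧
      topologicalKrullDim ↥(C ∩ ProjectiveSpectrum.zeroLocus (CohB1.polyGrading n k)
          ((fun j : Fin (n + 1) => (MvPolynomial.X j : MvPolynomial (Fin (n + 1)) k)) ''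
            {j : Fin (n + 1) | 1 ≤ j.val ∧ j.val ≤ i})) = 0 := by
  classical
  have hPn : ∀ y ∈ C ∩ ProjectiveSpectrum.zeroLocus (CohB1.polyGrading n k)
      (Groth.Agent.Lib.Helper4.ProjCone.Lset k n n), Order.coheight y = 0 :=
    fun y hy => Groth.Agent.Lib.Helper4.ProjCone.coheight_eq_zero_of_mem_Lset_top k n y hy.2
  have hex : ∃ i, ∀ y ∈ C ∩ ProjectiveSpectrum.zeroLocus (CohB1.polyGrading n k)
      (Groth.Agent.Lib.Helper4.ProjCone.Lset k n i), Order.coheight y = 0 := ⟨n, hPn⟩
  have hi0n : Nat.find hex ≤ n := Nat.find_min' hex hPn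
  have hPi0 := Nat.find_spec hex
  have hne : (C ∩ ProjectiveSpectrum.zeroLocus (CohB1.polyGrading n k)
      (Groth.Agent.Lib.Helper4.ProjCone.Lset k n (Nat.find hex))).Nonempty := by
    rcases Nat.eq_zero_or_eq_succ_pred (Nat.find hex) with h0 | hsucc
    · obtain ⟨c, hc⟩ := hirr.nonempty
      refine ⟨c, hc, ?_⟩
      rw [h0, Groth.Agent.Lib.Helper4.ProjCone.mem_zeroLocus_Lset_iff]
      intro j h1 h2
      omega
    · have hlt : Nat.find hex - 1 < Nat.find hex := by omega
      have hnot := Nat.find_min hex hlt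
      push Not at hnot
      obtain ⟨y, hy, hy0⟩ := hnot
      have hco : 1 ≤ Order.coheight y := Order.one_le_iff_ne_zero.mpr hy0
      have := Groth.Agent.Lib.Helper4.ProjCone.exists_mem_succ_of_one_le_coheight k n C hC
        (Nat.find hex - 1) (by omega) y hy hco
      have heq : Nat.find hex - 1 + 1 = Nat.find hex := by omega
      rw [heq] at this
      exact this
  refine ⟨Nat.find hex, hi0n, hne, ?_⟩
  change topologicalKrullDim ↥(C ∩ ProjectiveSpectrum.zeroLocus (CohB1.polyGrading n k)
      (Groth.Agent.Lib.Helper4.ProjCone.Lset k n (Nat.find hex))) = 0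
  have hcl : IsClosed (C ∩ ProjectiveSpectrum.zeroLocus (CohB1.polyGrading n k)
      (Groth.Agent.Lib.Helper4.ProjCone.Lset k n (Nat.find hex))) :=
    hC.inter (ProjectiveSpectrum.isClosed_zeroLocus _ _)
  apply le_antisymm
  · have := Groth.Agent.Lib.Helper4.ProjCone.topologicalKrullDim_le_of_forall_coheight_le
      (CohB1.polyGrading n k) _ hcl 0 (fun z hz => (hPi0 z hz).le)
    exact this
  · obtain ⟨z, hz⟩ := hne
    have := Groth.Agent.Lib.Helper4.ProjCone.coheight_le_topologicalKrullDim
      (CohB1.polyGrading n k) _ hcl z hz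
    rw [hPi0 z hz] at this
    exact this

end Groth.Agent.S13907
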