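import Groth.Statements.S13911
import Mathlib
-- import your own Groth.Agent.* helpers here

set_option autoImplicit false
set_option linter.style.haveILetI false
set_option linter.unusedSectionVars false
universe u
open PlaneConic

namespace Groth.Agent.S13911

open MvPolynomial Matrix

section Basic

variable {k : Type u} [Field k]

/-- linear form -/
noncomputable def L (a : Fin 3 → k) : MvPolynomial (Fin 3) k := ∑ i : Fin 3, a i • X i

/-- quadratic form -/
noncomputable def F (Q : Matrix (Fin 3) (Fin 3) k) : MvPolynomial (Fin 3) k :=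
  ∑ i : Fin 3, ∑ j : Fin 3, Q i j • (X i * X j)

theorem eval_L (a x : Fin 3 → k) : eval x (L a) = a ⬝ᵥ x := by
  simp [L, dotProduct, smul_eval]

theorem eval_F (Q : Matrix (Fin 3) (Fin 3) k) (x : Fin 3 → k) :
    eval x (F Q) = x ⬝ᵥ Q *ᵥ x := by
  simp only [F, dotProduct, mulVec, map_sum, smul_eval, eval_X, map_mul, Finset.mul_sum]
  refine Finset.sum_congr rfl (fun i _ => Finset.sum_congr rfl (fun j _ => ?_))
  ring

theorem symm_bil (Q : Matrix (Fin 3) (Fin 3) k) (hQ : Q.IsSymm) (x y : Fin 3 → k) :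
    y ⬝ᵥ Q *ᵥ x = x ⬝ᵥ Q *ᵥ y := by
  rw [Matrix.dotProduct_mulVec, ← Matrix.mulVec_transpose, hQ.eq, dotProduct_comm]

theorem bil_of_quad (Q : Matrix (Fin 3) (Fin 3) k) (hQ : Q.IsSymm) (a b : Fin 3 → k)
    (h : ∀ x, x ⬝ᵥ Q *ᵥ x = (a ⬝ᵥ x) * (b ⬝ᵥ x)) (x y : Fin 3 → k) :
    2 * (x ⬝ᵥ Q *ᵥ y) = (a ⬝ᵥ x) * (b ⬝ᵥ y) + (a ⬝ᵥ y) * (b ⬝ᵥ x) := by
  have h1 := h (x + y)
  rw [Matrix.mulVec_add, add_dotProduct, dotProduct_add, dotProduct_add, dotProduct_add,
    dotProduct_add, symm_bil Q hQ x y, h x, h y] at h1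
  linear_combination h1

theorem entries_of_quad (Q : Matrix (Fin 3) (Fin 3) k) (hQ : Q.IsSymm) (a b : Fin 3 → k)
    (h : ∀ x, x ⬝ᵥ Q *ᵥ x = (a ⬝ᵥ x) * (b ⬝ᵥ x)) (i j : Fin 3) :
    2 * Q i j = a i * b j + a j * b i := by
  have := bil_of_quad Q hQ a b h (Pi.single i 1) (Pi.single j 1)
  simpa using this

end Basic

section Diag

variable {k : Type u} [Field k] [IsAlgClosed k] [CharZero k]

theorem diag_form (Q : Matrix (Fin 3) (Fin 3) k) :
    ∃ (w : Fin 3 → k) (e : (Fin 3 → k) ≃ₗ[k] (Fin 3 → k)),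
      ∀ x, x ⬝ᵥ Q *ᵥ x = ∑ i, w i * (e x i * e x i) := by
  haveI : Invertible (2 : k) := invertibleOfNonzero two_ne_zero
  have h3 : Module.finrank k (Fin 3 → k) = 3 := by simp
  have H := QuadraticForm.equivalent_weightedSumSquares (Matrix.toQuadraticForm' Q)
  rw [h3] at H
  obtain ⟨w, ⟨e⟩⟩ := H
  refine ⟨w, e.toLinearEquiv, fun x => ?_⟩
  have := e.map_app x
  rw [QuadraticMap.weightedSumSquares_apply] at this
  simp only [smul_eq_mul] at this
  rw [show (e.toLinearEquiv x) = e x from rfl, this]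
  simp [Matrix.toQuadraticForm', Matrix.toLinearMap₂'_apply']

theorem sum_three_of_zero {R : Type*} [CommRing R] (t : Fin 3 → R) (p : Fin 3) (hp : t p = 0) :
    ∑ i, t i * t i = t (p + 1) * t (p + 1) + t (p + 2) * t (p + 2) := by
  fin_cases p
  · have hp' : t 0 = 0 := hp
    have h1 : ((0 : Fin 3) + 1) = 1 := rfl
    have h2 : ((0 : Fin 3) + 2) = 2 := rfl
    simp only [Fin.zero_eta]
    rw [Fin.sum_univ_three, h1, h2, hp']
    ring
  · have hp' : t 1 = 0 := hp
    have h1 : ((1 : Fin 3) + 1) = 2 := rfl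
    have h2 : ((1 : Fin 3) + 2) = 0 := rfl
    simp only [Fin.mk_one]
    rw [Fin.sum_univ_three, h1, h2, hp']
    ring
  · have hp' : t 2 = 0 := hp
    have h1 : ((2 : Fin 3) + 1) = 0 := rfl
    have h2 : ((2 : Fin 3) + 2) = 1 := rfl
    show ∑ i, t i * t i = t (2 + 1) * t (2 + 1) + t (2 + 2) * t (2 + 2)
    rw [Fin.sum_univ_three, h1, h2, hp']
    ring

theorem factor_of_det_zero (Q : Matrix (Fin 3) (Fin 3) k) (hQ : Q.IsSymm) (hdet : Q.det = 0) :
    ∃ a b : Fin 3 → k, ∀ x, x ⬝ᵥ Q *ᵥ x = (a ⬝ᵥ x) * (b ⬝ᵥ x) := by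
  obtain ⟨w, e, he⟩ := diag_form Q
  have hbil : ∀ x y, x ⬝ᵥ Q *ᵥ y = ∑ i, w i * (e x i * e y i) := by
    intro x y
    have h1 := he (x + y)
    rw [Matrix.mulVec_add, add_dotProduct, dotProduct_add, dotProduct_add, symm_bil Q hQ x y,
      he x, he y, map_add] at h1
    have h2 : ∑ i, w i * ((e x + e y) i * (e x + e y) i) =
        ∑ i, w i * (e x i * e x i) + 2 * ∑ i, w i * (e x i * e y i) +
          ∑ i, w i * (e y i * e y i) := by
      rw [Finset.mul_sum, ← Finset.sum_add_distrib, ← Finset.sum_add_distrib]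
      refine Finset.sum_congr rfl (fun i _ => ?_)
      simp only [Pi.add_apply]
      ring
    rw [h2] at h1
    have h2' : (2 : k) ≠ 0 := two_ne_zero
    apply mul_left_cancel₀ h2'
    linear_combination h1
  obtain ⟨u, hu0, hu⟩ := (Matrix.exists_mulVec_eq_zero_iff).mpr hdet
  have hp : ∃ p, w p = 0 := by
    have heu : e u ≠ 0 := by
      intro h
      exact hu0 (e.map_eq_zero_iff.mp h)
    obtain ⟨p, hp⟩ : ∃ p, e u p ≠ 0 := by
      by_contra hcon
      push Not at hcon
      exact heu (funext hcon)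
    refine ⟨p, ?_⟩
    have := hbil (e.symm (Pi.single p 1)) u
    rw [hu, dotProduct_zero] at this
    simp only [LinearEquiv.apply_symm_apply, Pi.single_apply] at this
    simp only [ite_mul, one_mul, zero_mul, mul_ite, mul_zero, Finset.sum_ite_eq',
      Finset.mem_univ, if_true] at this
    rcases mul_eq_zero.mp this.symm with h | h
    · exact h
    · exact absurd h hp
  obtain ⟨p, hp⟩ := hp
  choose c hc using fun i => IsAlgClosed.exists_eq_mul_self (w i)
  obtain ⟨ι, hι⟩ := IsAlgClosed.exists_eq_mul_self (-1 : k)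
  have hcp : c p = 0 := by
    have := hc p
    rw [hp] at this
    exact mul_self_eq_zero.mp this.symm
  let r : Fin 3 → Fin 3 → k := fun i j => c i * e (fun l => if j = l then 1 else 0) i
  have hr : ∀ i x, r i ⬝ᵥ x = c i * e x i := by
    intro i x
    have := LinearMap.pi_apply_eq_sum_univ ((LinearMap.proj i) ∘ₗ e.toLinearMap) x
    simp only [LinearMap.comp_apply, LinearMap.proj_apply, LinearEquiv.coe_coe, smul_eq_mul] at this
    rw [this, Finset.mul_sum]
    simp only [dotProduct, r]
    refine Finset.sum_congr rfl (fun j _ => ?_)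
    ring
  refine ⟨r (p + 1) + ι • r (p + 2), r (p + 1) - ι • r (p + 2), fun x => ?_⟩
  rw [he x]
  have h1 : ∑ i, w i * (e x i * e x i) = ∑ i, (c i * e x i) * (c i * e x i) := by
    refine Finset.sum_congr rfl (fun i _ => ?_)
    rw [hc i]
    ring
  rw [h1, sum_three_of_zero (fun i => c i * e x i) p (by simp [hcp])]
  simp only [add_dotProduct, sub_dotProduct, smul_dotProduct, hr, smul_eq_mul]
  linear_combination (-(c (p + 2) * e x (p + 2)) * (c (p + 2) * e x (p + 2))) * hι

end Diag

section Rank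

variable {k : Type u} [Field k] [CharZero k]

theorem det_zero_of_entries (Q : Matrix (Fin 3) (Fin 3) k) (a b : Fin 3 → k)
    (h : ∀ i j, 2 * Q i j = a i * b j + a j * b i) : Q.det = 0 := by
  have h2 : (2 : k) ≠ 0 := two_ne_zero
  have hQ' : ∀ i j, Q i j = 2⁻¹ * (a i * b j + a j * b i) := by
    intro i j
    rw [← h i j, ← mul_assoc, inv_mul_cancel₀ h2, one_mul]
  rw [Matrix.det_fin_three]
  simp only [hQ']
  ring

/-- the factorisation `2 • Q = U * W` -/
theorem two_smul_eq_mul (Q : Matrix (Fin 3) (Fin 3) k) (a b : Fin 3 → k)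
    (h : ∀ i j, 2 * Q i j = a i * b j + a j * b i) :
    (2 : k) • Q = (Matrix.of ![a, b])ᵀ * Matrix.of ![b, a] := by
  refine Matrix.ext (fun i j => ?_)
  rw [Matrix.smul_apply, smul_eq_mul, h i j, Matrix.mul_apply, Fin.sum_univ_two]
  simp
  ring

theorem rank_two_smul (Q : Matrix (Fin 3) (Fin 3) k) : ((2 : k) • Q).rank = Q.rank := by
  apply Matrix.rank_smul_of_mem_nonZeroDivisors
  exact mem_nonZeroDivisors_of_ne_zero two_ne_zero

theorem rank_eq_two_of_entries (Q : Matrix (Fin 3) (Fin 3) k) (a b : Fin 3 → k)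
    (h : ∀ i j, 2 * Q i j = a i * b j + a j * b i) (hab : LinearIndependent k ![a, b]) :
    Q.rank = 2 := by
  rw [← rank_two_smul Q, two_smul_eq_mul Q a b h]
  have hba : LinearIndependent k ![b, a] := by
    rw [LinearIndependent.pair_iff] at hab ⊢
    intro s t hst
    have := hab t s (by rw [add_comm]; exact hst)
    exact ⟨this.2, this.1⟩
  -- W surjective
  have hW : (Matrix.of ![b, a] : Matrix (Fin 2) (Fin 3) k).rank = 2 := by
    have := LinearIndependent.rank_matrix (M := (Matrix.of ![b, a] : Matrix (Fin 2) (Fin 3) k))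
      (by exact hba)
    simpa using this
  have hWtop : LinearMap.range (Matrix.of ![b, a] : Matrix (Fin 2) (Fin 3) k).mulVecLin = ⊤ := by
    apply Submodule.eq_top_of_finrank_eq
    rw [Matrix.rank] at hW
    rw [hW]
    simp
  have hU : Function.Injective ((Matrix.of ![a, b])ᵀ : Matrix (Fin 3) (Fin 2) k).mulVecLin := by
    have : Function.Injective ((Matrix.of ![a, b])ᵀ : Matrix (Fin 3) (Fin 2) k).mulVec := by
      rw [Matrix.mulVec_injective_iff]
      exact hab
    exact this
  rw [Matrix.rank, Matrix.mulVecLin_mul, LinearMap.range_comp_of_range_eq_top _ hWtop,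
    LinearMap.finrank_range_of_inj hU]
  simp

theorem rank_le_one_of_entries (Q : Matrix (Fin 3) (Fin 3) k) (c : k) (v : Fin 3 → k)
    (h : ∀ i j, Q i j = c * v i * v j) : Q.rank ≤ 1 := by
  have : Q = Matrix.vecMulVec (c • v) v := by
    refine Matrix.ext (fun i j => ?_)
    rw [h i j, Matrix.vecMulVec_apply, Pi.smul_apply, smul_eq_mul]
  rw [this]
  exact Matrix.rank_vecMulVec_le _ _

theorem rank_ne_zero (Q : Matrix (Fin 3) (Fin 3) k) (hQ0 : Q ≠ 0) : Q.rank ≠ 0 := by
  intro h
  apply hQ0
  rw [Matrix.rank, Submodule.finrank_eq_zero, LinearMap.range_eq_bot] at h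
  refine Matrix.ext (fun i j => ?_)
  have := congrFun (LinearMap.congr_fun h (Pi.single j 1)) i
  simpa using this

theorem det_zero_of_rank_lt (Q : Matrix (Fin 3) (Fin 3) k) (h : Q.rank < 3) : Q.det = 0 := by
  by_contra hdet
  have : IsUnit Q := (Matrix.isUnit_iff_isUnit_det Q).mpr (Ne.isUnit hdet)
  have := Matrix.rank_of_isUnit Q this
  simp at this
  omega

/-- dependent case -/
theorem entries_of_dependent (Q : Matrix (Fin 3) (Fin 3) k) (a b : Fin 3 → k)
    (h : ∀ i j, 2 * Q i j = a i * b j + a j * b i) (hab : ¬ LinearIndependent k ![a, b]) :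
    ∃ (c : k) (v : Fin 3 → k), ∀ i j, Q i j = c * v i * v j := by
  have h2 : (2 : k) ≠ 0 := two_ne_zero
  rw [LinearIndependent.pair_iff] at hab
  push Not at hab
  obtain ⟨s, t, hst, hne⟩ := hab
  by_cases ht : t = 0
  · have hs : s ≠ 0 := fun hs => by
      exact absurd ht (hne hs)
    rw [ht, zero_smul, add_zero] at hst
    have ha : a = 0 := by
      rcases smul_eq_zero.mp hst with h' | h'
      · exact absurd h' hs
      · exact h'
    refine ⟨0, 0, fun i j => ?_⟩
    have := h i j
    rw [ha] at this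
    simp only [Pi.zero_apply, zero_mul, add_zero] at this
    rcases mul_eq_zero.mp this with h' | h'
    · exact absurd h' h2
    · rw [h']; simp
  · have hb : b = (-(s / t)) • a := by
      have : t • b = -(s • a) := by
        rw [eq_neg_iff_add_eq_zero, add_comm]; exact hst
      have h3 : b = t⁻¹ • (t • b) := by rw [smul_smul, inv_mul_cancel₀ ht, one_smul]
      rw [h3, this, smul_neg, smul_smul, neg_smul]
      congr 2
      field_simp
    refine ⟨-(s / t), a, fun i j => ?_⟩
    have := h i j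
    rw [hb] at this
    simp only [Pi.smul_apply, smul_eq_mul] at this
    apply mul_left_cancel₀ h2
    linear_combination this

end Rank

section Affine

variable {k : Type u} [Field k]

theorem finsupp_cases (m : Fin 3 →₀ ℕ) (h : (m.sum fun _ e => e) ≤ 1) :
    m = 0 ∨ ∃ j, m = Finsupp.single j 1 := by
  rw [Finsupp.sum_fintype _ _ (fun _ => rfl), Fin.sum_univ_three] at h
  have hcases : (m 0 = 0 ∧ m 1 = 0 ∧ m 2 = 0) ∨ (m 0 = 1 ∧ m 1 = 0 ∧ m 2 = 0) ∨
      (m 0 = 0 ∧ m 1 = 1 ∧ m 2 = 0) ∨ (m 0 = 0 ∧ m 1 = 0 ∧ m 2 = 1) := by omega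
  rcases hcases with ⟨h0, h1, h2⟩ | ⟨h0, h1, h2⟩ | ⟨h0, h1, h2⟩ | ⟨h0, h1, h2⟩
  · left
    ext i
    fin_cases i <;> simp [h0, h1, h2]
  · right
    refine ⟨0, ?_⟩
    ext i
    fin_cases i <;> simp [h0, h1, h2]
  · right
    refine ⟨1, ?_⟩
    ext i
    fin_cases i <;> simp [h0, h1, h2]
  · right
    refine ⟨2, ?_⟩
    ext i
    fin_cases i <;> simp [h0, h1, h2]

theorem eval_affine_of_totalDegree_le_one (g : MvPolynomial (Fin 3) k) (hg : g.totalDegree ≤ 1) :
    ∃ (g0 : k) (a : Fin 3 → k), ∀ x, eval x g = g0 + a ⬝ᵥ x := by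
  classical
  refine ⟨∑ m ∈ g.support, if m = 0 then g.coeff m else 0,
    fun j => ∑ m ∈ g.support, if m = Finsupp.single j 1 then g.coeff m else 0, fun x => ?_⟩
  rw [eval_eq']
  have key : ∀ m ∈ g.support, g.coeff m * ∏ i, x i ^ m i =
      (if m = 0 then g.coeff m else 0) +
        ∑ j, (if m = Finsupp.single j 1 then g.coeff m else 0) * x j := by
    intro m hm
    have hdeg := (MvPolynomial.le_totalDegree hm).trans hg
    rcases finsupp_cases m hdeg with rfl | ⟨j0, rfl⟩
    · have h0 : ∀ j : Fin 3, ¬ ((0 : Fin 3 →₀ ℕ) = Finsupp.single j 1) := by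
        intro j h
        have := congrArg (fun f => f j) h
        simp at this
      simp [h0]
    · have hne : (Finsupp.single j0 1 : Fin 3 →₀ ℕ) ≠ 0 := by simp
      rw [if_neg hne, zero_add]
      have h1 : ∀ j, ((Finsupp.single j0 1 : Fin 3 →₀ ℕ) = Finsupp.single j 1) ↔ j0 = j := by
        intro j
        exact Finsupp.single_left_inj one_ne_zero
      simp only [h1, ite_mul, zero_mul, Finset.sum_ite_eq, Finset.mem_univ, if_true]
      congr 1
      rw [Finset.prod_eq_single j0]
      · simp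
      · intro b _ hb
        rw [Finsupp.single_eq_of_ne hb, pow_zero]
      · intro h; exact absurd (Finset.mem_univ _) h
  rw [Finset.sum_congr rfl key, Finset.sum_add_distrib]
  congr 1
  simp only [dotProduct, Finset.sum_mul]
  rw [Finset.sum_comm]

theorem not_isUnit_of_eval_zero (p : MvPolynomial (Fin 3) k) (h : eval 0 p = 0) : ¬ IsUnit p := by
  intro hu
  have := hu.map (eval (0 : Fin 3 → k))
  rw [h] at this
  exact not_isUnit_zero this

theorem not_isUnit_L (a : Fin 3 → k) : ¬ IsUnit (L a) :=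
  not_isUnit_of_eval_zero _ (by rw [eval_L, dotProduct_zero])

theorem not_isUnit_F (Q : Matrix (Fin 3) (Fin 3) k) : ¬ IsUnit (F Q) :=
  not_isUnit_of_eval_zero _ (by rw [eval_F, Matrix.mulVec_zero, dotProduct_zero])

theorem totalDegree_F_le (Q : Matrix (Fin 3) (Fin 3) k) : (F Q).totalDegree ≤ 2 := by
  unfold F
  refine (totalDegree_finsetSum _ _).trans (Finset.sup_le (fun i _ => ?_))
  refine (totalDegree_finsetSum _ _).trans (Finset.sup_le (fun j _ => ?_))
  refine (totalDegree_smul_le _ _).trans ?_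
  refine (totalDegree_mul _ _).trans ?_
  rw [totalDegree_X, totalDegree_X]

end Affine


/-- For an algebraically closed field k of characteristic zero, a nonzero symmetric 3 × 3 matrix Q over
k and the ternary quadratic form f = Σ Q_ij X_i X_j in k[X_0, X_1, X_2] (the equation of a plane
conic): (1) f is irreducible iff det Q ≠ 0; (2) the conic has a singular point, that is a nonzero
vector at which all partial derivatives of f vanish, iff det Q = 0 (so smooth conics are exactly the
irreducible ones); (3) f is the product of two linearly independent linear forms (two distinct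
lines) iff rank Q = 2; (4) f is the square of a linear form (a double line) iff rank Q = 1. -/
theorem result (k : Type u) [Field k] [IsAlgClosed k] [CharZero k]
    (Q : Matrix (Fin 3) (Fin 3) k) (hQ : Q.IsSymm) (hQ0 : Q ≠ 0) (f : MvPolynomial (Fin 3) k)
    (hf : f = ∑ i : Fin 3, ∑ j : Fin 3, Q i j • (MvPolynomial.X i * MvPolynomial.X j)) :
    (Irreducible f ↔ Q.det ≠ 0) ∧
    ((∃ u : Fin 3 → k, u ≠ 0 ∧ ∀ i : Fin 3, MvPolynomial.eval u (MvPolynomial.pderiv i f) = 0) ↔ Q.det = 0) ∧
    ((∃ a b : Fin 3 → k, LinearIndependent k ![a, b] ∧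
        f = (∑ i : Fin 3, a i • MvPolynomial.X i) * (∑ i : Fin 3, b i • MvPolynomial.X i)) ↔ Q.rank = 2) ∧
    ((∃ a : Fin 3 → k, f = (∑ i : Fin 3, a i • MvPolynomial.X i) ^ 2) ↔ Q.rank = 1) := by
  have hfF : f = F Q := hf
  have hLsum : ∀ a : Fin 3 → k, (∑ i : Fin 3, a i • (MvPolynomial.X i : MvPolynomial (Fin 3) k)) = L a :=
    fun a => rfl
  have h2 : (2 : k) ≠ 0 := two_ne_zero
  have hfun : ∀ a b : Fin 3 → k,
      f = L a * L b ↔ ∀ x, x ⬝ᵥ Q *ᵥ x = (a ⬝ᵥ x) * (b ⬝ᵥ x) := by
    intro a b
    constructor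
    · intro h x
      rw [← eval_F, ← hfF, h, map_mul, eval_L, eval_L]
    · intro h
      apply MvPolynomial.funext
      intro x
      rw [hfF, eval_F, map_mul, eval_L, eval_L, h x]
  have hF0 : f ≠ 0 := by
    intro h0
    apply hQ0
    have hz : ∀ x, x ⬝ᵥ Q *ᵥ x = ((0 : Fin 3 → k) ⬝ᵥ x) * ((0 : Fin 3 → k) ⬝ᵥ x) := by
      intro x
      rw [← eval_F, ← hfF, h0]
      simp
    refine Matrix.ext (fun i j => ?_)
    have := entries_of_quad Q hQ 0 0 hz i j
    simp only [Pi.zero_apply, mul_zero, add_zero] at this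
    rcases mul_eq_zero.mp this with h' | h'
    · exact absurd h' h2
    · exact h'
  have hG : Q.det = 0 → ∃ a b, f = L a * L b := by
    intro hdet
    obtain ⟨a, b, hab⟩ := factor_of_det_zero Q hQ hdet
    exact ⟨a, b, (hfun a b).mpr hab⟩
  refine ⟨?_, ?_, ?_, ?_⟩
  · -- (1)
    constructor
    · intro hirr hdet
      obtain ⟨a, b, hab⟩ := hG hdet
      rcases hirr.isUnit_or_isUnit hab with h | h
      · exact not_isUnit_L a h
      · exact not_isUnit_L b h
    · intro hdet
      rw [irreducible_iff]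
      refine ⟨by rw [hfF]; exact not_isUnit_F Q, ?_⟩
      intro g h hgh
      by_contra hcon
      push Not at hcon
      obtain ⟨hgu, hhu⟩ := hcon
      have hg0 : g ≠ 0 := by
        rintro rfl
        rw [zero_mul] at hgh
        exact hF0 hgh
      have hh0 : h ≠ 0 := by
        rintro rfl
        rw [mul_zero] at hgh
        exact hF0 hgh
      have hdeg : g.totalDegree + h.totalDegree ≤ 2 := by
        rw [← totalDegree_mul_of_isDomain hg0 hh0, ← hgh, hfF]
        exact totalDegree_F_le Q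
      have hpos : ∀ p : MvPolynomial (Fin 3) k, p ≠ 0 → ¬ IsUnit p → p.totalDegree ≠ 0 := by
        intro p hp0 hpu h0
        rw [totalDegree_eq_zero_iff_eq_C] at h0
        apply hpu
        rw [h0]
        apply IsUnit.map
        rw [isUnit_iff_ne_zero]
        intro hc
        rw [hc, C_0] at h0
        exact hp0 h0
      have hgpos := hpos g hg0 hgu
      have hhpos := hpos h hh0 hhu
      obtain ⟨g0, a, hga⟩ := eval_affine_of_totalDegree_le_one g (by omega)
      obtain ⟨h0', b, hhb⟩ := eval_affine_of_totalDegree_le_one h (by omega)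
      have hq : ∀ x, x ⬝ᵥ Q *ᵥ x = (g0 + a ⬝ᵥ x) * (h0' + b ⬝ᵥ x) := by
        intro x
        rw [← eval_F, ← hfF, hgh, map_mul, hga, hhb]
      have hq' : ∀ x, x ⬝ᵥ Q *ᵥ x = (a ⬝ᵥ x) * (b ⬝ᵥ x) := by
        intro x
        have e1 := hq x
        have e2 := hq (-x)
        have e3 := hq 0
        simp only [Matrix.mulVec_neg, neg_dotProduct, dotProduct_neg, neg_neg, Matrix.mulVec_zero,
          dotProduct_zero, add_zero] at e2 e3
        apply mul_left_cancel₀ h2
        linear_combination e1 + e2 - 2 * e3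
      exact hdet (det_zero_of_entries Q a b (entries_of_quad Q hQ a b hq'))
  · -- (2)
    rw [← Matrix.exists_mulVec_eq_zero_iff]
    have hpd : ∀ (u : Fin 3 → k) (i : Fin 3), eval u (pderiv i f) = 2 * (Q *ᵥ u) i := by
      intro u i
      rw [hf]
      simp only [map_sum, Derivation.map_smul, Derivation.leibniz, pderiv_X, smul_eval,
        smul_eq_mul, map_add, map_mul, eval_X, Pi.single_apply]
      have e : ∀ (c : Prop) [Decidable c],
          eval u (if c then (1 : MvPolynomial (Fin 3) k) else 0) = if c then 1 else 0 := by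
        intro c _
        split_ifs <;> simp
      have hsym : ∀ x, Q x i = Q i x := fun x => by
        have := congrFun (congrFun hQ.eq i) x
        rw [Matrix.transpose_apply] at this
        exact this
      simp only [e, mul_add, Finset.sum_add_distrib, mul_ite, mul_one, mul_zero,
        Finset.sum_ite_eq', Finset.mem_univ, if_true]
      rw [Finset.sum_comm]
      simp only [Finset.sum_ite_eq', Finset.mem_univ, if_true, hsym]
      simp only [mulVec, dotProduct]
      ring
    constructor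
    · rintro ⟨u, hu0, hu⟩
      refine ⟨u, hu0, funext (fun i => ?_)⟩
      have := hu i
      rw [hpd] at this
      rcases mul_eq_zero.mp this with h' | h'
      · exact absurd h' h2
      · exact h'
    · rintro ⟨u, hu0, hu⟩
      refine ⟨u, hu0, fun i => ?_⟩
      rw [hpd, hu]
      simp
  · -- (3)
    constructor
    · rintro ⟨a, b, hab, h⟩
      rw [hLsum, hLsum] at h
      exact rank_eq_two_of_entries Q a b (entries_of_quad Q hQ a b ((hfun a b).mp h)) hab
    · intro hr
      have hdet : Q.det = 0 := det_zero_of_rank_lt Q (by omega)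
      obtain ⟨a, b, h⟩ := hG hdet
      refine ⟨a, b, ?_, h⟩
      by_contra hdep
      obtain ⟨c, v, hcv⟩ := entries_of_dependent Q a b
        (entries_of_quad Q hQ a b ((hfun a b).mp h)) hdep
      have := rank_le_one_of_entries Q c v hcv
      omega
  · -- (4)
    constructor
    · rintro ⟨a, h⟩
      rw [hLsum, pow_two] at h
      have hent := entries_of_quad Q hQ a a ((hfun a a).mp h)
      have h1 : Q.rank ≤ 1 := rank_le_one_of_entries Q 1 a (fun i j => by
        apply mul_left_cancel₀ h2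
        linear_combination hent i j)
      have h0 := rank_ne_zero Q hQ0
      omega
    · intro hr
      have hdet := det_zero_of_rank_lt Q (by omega)
      obtain ⟨a, b, h⟩ := hG hdet
      have hent := entries_of_quad Q hQ a b ((hfun a b).mp h)
      have hdep : ¬ LinearIndependent k ![a, b] := by
        intro hli
        have := rank_eq_two_of_entries Q a b hent hli
        omega
      obtain ⟨c, v, hcv⟩ := entries_of_dependent Q a b hent hdep
      obtain ⟨d, hd⟩ := IsAlgClosed.exists_eq_mul_self c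
      refine ⟨d • v, ?_⟩
      rw [hLsum, pow_two, hfun]
      intro x
      have hQx : Q *ᵥ x = (c * (v ⬝ᵥ x)) • v := by
        ext i
        simp only [mulVec, dotProduct, hcv, Pi.smul_apply, smul_eq_mul, Finset.mul_sum,
          Finset.sum_mul]
        refine Finset.sum_congr rfl (fun j _ => ?_)
        ring
      rw [hQx, dotProduct_smul, smul_dotProduct, smul_eq_mul, smul_eq_mul, dotProduct_comm x v, hd]
      ring

end Groth.Agent.S13911
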