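import Groth.Statements.S13912
import Mathlib
import Groth.Agent.S13911
-- import your own Groth.Agent.* helpers here

set_option autoImplicit false
set_option linter.style.haveILetI false
set_option linter.unusedSectionVars false
universe u
open PlaneConic

namespace Groth.Agent.S13912

open MvPolynomial Matrix Groth.Agent.S13911

section Basic

variable {k : Type u} [Field k] [IsAlgClosed k] [CharZero k]

theorem eq_L_of_isHomogeneous (p : MvPolynomial (Fin 3) k) (hp : p.IsHomogeneous 1) :
    ∃ a : Fin 3 → k, p = L a := by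
  obtain ⟨g0, a, hga⟩ := eval_affine_of_totalDegree_le_one p hp.totalDegree_le
  have h0 : g0 = 0 := by
    have h1 := hga 0
    rw [dotProduct_zero, add_zero] at h1
    rw [← h1]
    have : eval (0 : Fin 3 → k) p = coeff 0 p := by
      rw [MvPolynomial.eval_zero, MvPolynomial.constantCoeff_eq]
    rw [this]
    apply hp.coeff_eq_zero
    simp
  refine ⟨a, ?_⟩
  apply MvPolynomial.funext
  intro x
  rw [hga x, h0, zero_add, eval_L]

theorem L_isHomogeneous (a : Fin 3 → k) : (L a).IsHomogeneous 1 := by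
  unfold L
  apply IsHomogeneous.sum
  intro i _
  rw [MvPolynomial.smul_eq_C_mul]
  have := (isHomogeneous_C (Fin 3) (a i)).mul (isHomogeneous_X k i)
  simpa using this

theorem L_add (a b : Fin 3 → k) : L (a + b) = L a + L b := by
  simp [L, add_smul, Finset.sum_add_distrib]

theorem L_smul (c : k) (a : Fin 3 → k) : L (c • a) = C c * L a := by
  simp [L, Finset.mul_sum, mul_smul, MvPolynomial.smul_eq_C_mul]

theorem L_zero : L (0 : Fin 3 → k) = 0 := by
  simp [L]

theorem not_isUnit_of_isHomogeneous_one (p : MvPolynomial (Fin 3) k) (hp : p.IsHomogeneous 1) :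
    ¬ IsUnit p := by
  obtain ⟨a, rfl⟩ := eq_L_of_isHomogeneous p hp
  exact not_isUnit_L a

/-- a nonzero 2x2 matrix of determinant zero is an outer product -/
theorem rank_one_factor (T : Fin 2 → Fin 2 → k) (hT : T ≠ 0)
    (hdet : T 0 0 * T 1 1 - T 0 1 * T 1 0 = 0) :
    ∃ r s : Fin 2 → k, r ≠ 0 ∧ s ≠ 0 ∧ ∀ i j, T i j = r i * s j := by
  have hne : T 0 0 ≠ 0 ∨ T 0 1 ≠ 0 ∨ T 1 0 ≠ 0 ∨ T 1 1 ≠ 0 := by
    by_contra hcon
    push Not at hcon
    apply hT
    ext i j
    fin_cases i <;> fin_cases j <;> simp [hcon.1, hcon.2.1, hcon.2.2.1, hcon.2.2.2]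
  have hne' : ∀ (v : Fin 2 → k) (i : Fin 2), v i ≠ 0 → v ≠ 0 := by
    intro v i hv h
    rw [h] at hv
    exact hv rfl
  rcases hne with h | h | h | h
  · refine ⟨![T 0 0, T 1 0], ![1, T 0 1 / T 0 0], hne' _ 0 (by simpa using h),
      hne' _ 0 (by simp), ?_⟩
    intro i j
    fin_cases i <;> fin_cases j <;> simp <;> field_simp <;> linear_combination hdet
  · refine ⟨![T 0 1, T 1 1], ![T 0 0 / T 0 1, 1], hne' _ 0 (by simpa using h),
      hne' _ 1 (by simp), ?_⟩
    intro i j
    fin_cases i <;> fin_cases j <;> simp <;> field_simp <;> linear_combination -hdet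
  · refine ⟨![T 0 0 / T 1 0, 1], ![T 1 0, T 1 1], hne' _ 1 (by simp),
      hne' _ 0 (by simpa using h), ?_⟩
    intro i j
    fin_cases i <;> fin_cases j <;> simp <;> field_simp <;> linear_combination -hdet
  · refine ⟨![T 0 1 / T 1 1, 1], ![T 1 0, T 1 1], hne' _ 1 (by simp),
      hne' _ 1 (by simpa using h), ?_⟩
    intro i j
    fin_cases i <;> fin_cases j <;> simp <;> field_simp <;> linear_combination hdet

end Basic

section Main

variable {k : Type u} [Field k] [IsAlgClosed k] [CharZero k]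

theorem backward (M : Matrix (Fin 2) (Fin 2) (MvPolynomial (Fin 3) k))
    (hM : ∀ a b : Fin 2, (M a b).IsHomogeneous 1) (g h : GL (Fin 2) k)
    (h01 : ((MvPolynomial.C : k →+* MvPolynomial (Fin 3) k).mapMatrix g.val * M *
        (MvPolynomial.C : k →+* MvPolynomial (Fin 3) k).mapMatrix h.val) 0 1 = 0) :
    ∃ l₁ l₂ : MvPolynomial (Fin 3) k, l₁.IsHomogeneous 1 ∧ l₂.IsHomogeneous 1 ∧ M.det = l₁ * l₂ := by
  obtain ⟨P, hP⟩ : ∃ P, P = (MvPolynomial.C : k →+* MvPolynomial (Fin 3) k).mapMatrix g.val * M *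
        (MvPolynomial.C : k →+* MvPolynomial (Fin 3) k).mapMatrix h.val := ⟨_, rfl⟩
  rw [← hP] at h01
  have hPhom : ∀ i j, (P i j).IsHomogeneous 1 := by
    intro i j
    rw [hP, Matrix.mul_apply]
    apply IsHomogeneous.sum
    intro a _
    rw [Matrix.mul_apply]
    have h1 : (∑ b, (MvPolynomial.C : k →+* MvPolynomial (Fin 3) k).mapMatrix g.val i b * M b a).IsHomogeneous 1 := by
      apply IsHomogeneous.sum
      intro b _
      have := (isHomogeneous_C (Fin 3) (g.val i b)).mul (hM b a)
      simpa using this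
    have := h1.mul (isHomogeneous_C (Fin 3) (h.val a j))
    simpa using this
  have hdetP : P.det = C (g.val.det) * M.det * C (h.val.det) := by
    rw [hP, Matrix.det_mul, Matrix.det_mul, ← RingHom.map_det, ← RingHom.map_det]
  rw [Matrix.det_fin_two, h01, zero_mul, sub_zero] at hdetP
  have hg : g.val.det ≠ 0 := by
    have := (Matrix.isUnit_iff_isUnit_det _).mp (Units.isUnit g)
    exact this.ne_zero
  have hh : h.val.det ≠ 0 := by
    have := (Matrix.isUnit_iff_isUnit_det _).mp (Units.isUnit h)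
    exact this.ne_zero
  refine ⟨C ((g.val.det)⁻¹ * (h.val.det)⁻¹) * P 0 0, P 1 1, ?_, hPhom 1 1, ?_⟩
  · have := (isHomogeneous_C (Fin 3) ((g.val.det)⁻¹ * (h.val.det)⁻¹)).mul (hPhom 0 0)
    simpa using this
  · rw [mul_assoc, hdetP]
    have h1 : (C ((g.val.det)⁻¹ * (h.val.det)⁻¹) : MvPolynomial (Fin 3) k) * (C (g.val.det) * M.det * C (h.val.det))
        = C ((g.val.det)⁻¹ * (h.val.det)⁻¹ * g.val.det * h.val.det) * M.det := by
      simp only [map_mul]
      ring
    rw [h1]
    have h2 : (g.val.det)⁻¹ * (h.val.det)⁻¹ * g.val.det * h.val.det = 1 := by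
      field_simp
    rw [h2, map_one, one_mul]

/-- the relation map -/
noncomputable def psi (v : Fin 2 → Fin 2 → Fin 3 → k) : (Fin 2 → Fin 2 → k) →ₗ[k] (Fin 3 → k) where
  toFun T := fun l => ∑ i, ∑ j, T i j * v i j l
  map_add' T T' := by
    ext l
    simp only [Pi.add_apply, add_mul, Finset.sum_add_distrib]
  map_smul' c T := by
    ext l
    simp only [Pi.smul_apply, smul_eq_mul, RingHom.id_apply, Finset.mul_sum, mul_assoc]

theorem psi_apply (v : Fin 2 → Fin 2 → Fin 3 → k) (T : Fin 2 → Fin 2 → k) (l : Fin 3) :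
    psi v T l = ∑ i, ∑ j, T i j * v i j l := rfl

theorem L_psi (v : Fin 2 → Fin 2 → Fin 3 → k) (T : Fin 2 → Fin 2 → k) :
    L (psi v T) = ∑ i, ∑ j, C (T i j) * L (v i j) := by
  simp only [L, psi_apply, Fin.sum_univ_two, Fin.sum_univ_three, MvPolynomial.smul_eq_C_mul,
    map_add, map_mul]
  ring

theorem psi_dot (v : Fin 2 → Fin 2 → Fin 3 → k) (T : Fin 2 → Fin 2 → k) (u : Fin 3 → k) :
    psi v T ⬝ᵥ u = ∑ i, ∑ j, T i j * (v i j ⬝ᵥ u) := by
  simp only [dotProduct, psi_apply, Fin.sum_univ_two, Fin.sum_univ_three]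
  ring

/-- complete a nonzero row to an invertible matrix -/
theorem complete_row (r : Fin 2 → k) (hr : r ≠ 0) : ∃ g : GL (Fin 2) k, ∀ j, g.val 0 j = r j := by
  by_cases h0 : r 0 = 0
  · have h1 : r 1 ≠ 0 := by
      intro h1
      apply hr
      ext i
      fin_cases i
      · exact h0
      · exact h1
    refine ⟨Matrix.GeneralLinearGroup.mkOfDetNeZero !![r 0, r 1; 1, 0] ?_, ?_⟩
    · rw [Matrix.det_fin_two]
      simp [h1]
    · intro j
      fin_cases j <;> rfl
  · refine ⟨Matrix.GeneralLinearGroup.mkOfDetNeZero !![r 0, r 1; 0, 1] ?_, ?_⟩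
    · rw [Matrix.det_fin_two]
      simp [h0]
    · intro j
      fin_cases j <;> rfl

theorem complete_col (s : Fin 2 → k) (hs : s ≠ 0) : ∃ h : GL (Fin 2) k, ∀ i, h.val i 1 = s i := by
  by_cases h0 : s 0 = 0
  · have h1 : s 1 ≠ 0 := by
      intro h1
      apply hs
      ext i
      fin_cases i
      · exact h0
      · exact h1
    refine ⟨Matrix.GeneralLinearGroup.mkOfDetNeZero !![1, s 0; 0, s 1] ?_, ?_⟩
    · rw [Matrix.det_fin_two]
      simp [h1]
    · intro j
      fin_cases j <;> rfl
  · refine ⟨Matrix.GeneralLinearGroup.mkOfDetNeZero !![0, s 0; 1, s 1] ?_, ?_⟩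
    · rw [Matrix.det_fin_two]
      simp [h0]
    · intro j
      fin_cases j <;> rfl

/-- determinant of a 2x2 array -/
def det2 (T : Fin 2 → Fin 2 → k) : k := T 0 0 * T 1 1 - T 0 1 * T 1 0

theorem quad_root (T1 T0 : Fin 2 → Fin 2 → k) (h0 : det2 T0 ≠ 0) :
    ∃ s : k, det2 (T1 + s • T0) = 0 := by
  have hdeg : (Polynomial.C (det2 T0) * Polynomial.X ^ 2 +
      Polynomial.C (T1 0 0 * T0 1 1 + T0 0 0 * T1 1 1 - T1 0 1 * T0 1 0 - T0 0 1 * T1 1 0) *
        Polynomial.X + Polynomial.C (det2 T1)).degree ≠ 0 := by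
    rw [Polynomial.degree_quadratic h0]
    decide
  obtain ⟨s, hs⟩ := IsAlgClosed.exists_root _ hdeg
  refine ⟨s, ?_⟩
  simp only [Polynomial.IsRoot, Polynomial.eval_add, Polynomial.eval_mul, Polynomial.eval_C,
    Polynomial.eval_pow, Polynomial.eval_X] at hs
  simp only [det2, Pi.add_apply, Pi.smul_apply, smul_eq_mul] at hs ⊢
  linear_combination hs

/-- the symmetric matrix of the determinant form -/
noncomputable def QM (v : Fin 2 → Fin 2 → Fin 3 → k) : Matrix (Fin 3) (Fin 3) k :=
  Matrix.of fun i j => 2⁻¹ * (v 0 0 i * v 1 1 j + v 0 0 j * v 1 1 i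
    - v 0 1 i * v 1 0 j - v 0 1 j * v 1 0 i)

theorem QM_symm (v : Fin 2 → Fin 2 → Fin 3 → k) : (QM v).IsSymm := by
  refine Matrix.IsSymm.ext (fun i j => ?_)
  simp only [QM, Matrix.of_apply]
  ring

theorem QM_bil (v : Fin 2 → Fin 2 → Fin 3 → k) (x y : Fin 3 → k) :
    2 * (x ⬝ᵥ QM v *ᵥ y) = (v 0 0 ⬝ᵥ x) * (v 1 1 ⬝ᵥ y) + (v 0 0 ⬝ᵥ y) * (v 1 1 ⬝ᵥ x)
      - (v 0 1 ⬝ᵥ x) * (v 1 0 ⬝ᵥ y) - (v 0 1 ⬝ᵥ y) * (v 1 0 ⬝ᵥ x) := by
  have h2 : (2 : k) ≠ 0 := two_ne_zero
  simp only [dotProduct, mulVec, QM, Matrix.of_apply, Fin.sum_univ_three]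
  field_simp
  ring

theorem det_eq_F (M : Matrix (Fin 2) (Fin 2) (MvPolynomial (Fin 3) k))
    (v : Fin 2 → Fin 2 → Fin 3 → k) (hv : ∀ i j, M i j = L (v i j)) :
    M.det = F (QM v) := by
  have h2 : (2 : k) ≠ 0 := two_ne_zero
  apply MvPolynomial.funext
  intro x
  rw [eval_F, Matrix.det_fin_two, hv, hv, hv, hv]
  simp only [map_sub, map_mul, eval_L]
  apply mul_left_cancel₀ h2
  rw [QM_bil]
  ring

theorem key (v : Fin 2 → Fin 2 → Fin 3 → k)
    (hred : ¬ Irreducible (F (QM v))) :
    ∃ T : Fin 2 → Fin 2 → k, T ≠ 0 ∧ psi v T = 0 ∧ det2 T = 0 := by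
  have h2 : (2 : k) ≠ 0 := two_ne_zero
  have hdim : Module.finrank k (Fin 2 → Fin 2 → k) = 4 := by
    rw [Module.finrank_pi_fintype]
    simp
  have hrn := LinearMap.finrank_range_add_finrank_ker (psi v)
  have hrange : Module.finrank k (LinearMap.range (psi v)) ≤ 3 := by
    have := Submodule.finrank_le (LinearMap.range (psi v))
    simpa using this
  have hker : 0 < Module.finrank k (LinearMap.ker (psi v)) := by omega
  obtain ⟨T0, hT0⟩ : ∃ T0 : LinearMap.ker (psi v), T0 ≠ 0 :=
    Module.finrank_pos_iff_exists_ne_zero.mp hker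
  have hT0ker : psi v T0.1 = 0 := LinearMap.mem_ker.mp T0.2
  by_cases hd0 : det2 T0.1 = 0
  · exact ⟨T0.1, fun h => hT0 (Subtype.ext h), hT0ker, hd0⟩
  by_cases hk2 : 1 < Module.finrank k (LinearMap.ker (psi v))
  · obtain ⟨T1, hli⟩ := exists_linearIndependent_pair_of_one_lt_finrank hk2 hT0
    have hT1ker : psi v T1.1 = 0 := LinearMap.mem_ker.mp T1.2
    obtain ⟨s, hs⟩ := quad_root T1.1 T0.1 hd0
    refine ⟨T1.1 + s • T0.1, ?_, ?_, hs⟩
    · intro h
      rw [LinearIndependent.pair_iff] at hli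
      have := hli s 1 (by
        apply Subtype.ext
        simp only [Submodule.coe_add, Submodule.coe_smul, one_smul, Submodule.coe_zero]
        rw [add_comm]
        exact h)
      exact one_ne_zero this.2
    · rw [map_add, map_smul, hT1ker, hT0ker, smul_zero, add_zero]
  · exfalso
    apply hred
    have hk1 : Module.finrank k (LinearMap.ker (psi v)) = 1 := by omega
    have hsurj : LinearMap.range (psi v) = ⊤ := by
      apply Submodule.eq_top_of_finrank_eq
      simp only [Module.finrank_fintype_fun_eq_card, Fintype.card_fin]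
      omega
    obtain ⟨T0', hT0', hspan⟩ := finrank_eq_one_iff'.mp hk1
    -- det QM ≠ 0
    have hdet : (QM v).det ≠ 0 := by
      intro hdet
      obtain ⟨u, hu0, hu⟩ := (Matrix.exists_mulVec_eq_zero_iff).mpr hdet
      -- T'
      let T' : Fin 2 → Fin 2 → k := ![![v 1 1 ⬝ᵥ u, -(v 1 0 ⬝ᵥ u)], ![-(v 0 1 ⬝ᵥ u), v 0 0 ⬝ᵥ u]]
      have hT'ker : psi v T' = 0 := by
        ext l
        have := QM_bil v (Pi.single l 1) u
        rw [hu, dotProduct_zero, mul_zero] at this
        simp only [dotProduct_single_one] at this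
        rw [psi_apply, Fin.sum_univ_two, Fin.sum_univ_two, Fin.sum_univ_two]
        simp only [T', Matrix.cons_val_zero, Matrix.cons_val_one, Pi.zero_apply]
        linear_combination -this
      have hT'det : det2 T' = 0 := by
        have := QM_bil v u u
        rw [hu, dotProduct_zero, mul_zero] at this
        simp only [det2, T', Matrix.cons_val_zero, Matrix.cons_val_one]
        apply mul_left_cancel₀ h2
        linear_combination -this
      obtain ⟨c0, hc0⟩ := hspan T0
      obtain ⟨c', hc'⟩ := hspan ⟨T', LinearMap.mem_ker.mpr hT'ker⟩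
      have hc0' : T0.1 = c0 • T0'.1 := by rw [← hc0]; rfl
      have hc'' : T' = c' • T0'.1 := by
        have := congrArg Subtype.val hc'
        exact this.symm
      have hd0' : det2 T0'.1 ≠ 0 := by
        intro h
        apply hd0
        rw [hc0']
        simp only [det2, Pi.smul_apply, smul_eq_mul] at h ⊢
        linear_combination c0 ^ 2 * h
      have hc'0 : c' = 0 := by
        rw [hc''] at hT'det
        simp only [det2, Pi.smul_apply, smul_eq_mul] at hT'det hd0'
        have : c' ^ 2 * (T0'.1 0 0 * T0'.1 1 1 - T0'.1 0 1 * T0'.1 1 0) = 0 := by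
          linear_combination hT'det
        rcases mul_eq_zero.mp this with h | h
        · exact pow_eq_zero_iff (two_ne_zero) |>.mp h
        · exact absurd h hd0'
      have hT'0 : T' = 0 := by rw [hc'', hc'0, zero_smul]
      have h11 : v 1 1 ⬝ᵥ u = 0 := by
        have := congrFun (congrFun hT'0 0) 0
        simpa [T'] using this
      have h10 : v 1 0 ⬝ᵥ u = 0 := by
        have := congrFun (congrFun hT'0 0) 1
        simpa [T'] using this
      have h01 : v 0 1 ⬝ᵥ u = 0 := by
        have := congrFun (congrFun hT'0 1) 0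
        simpa [T'] using this
      have h00 : v 0 0 ⬝ᵥ u = 0 := by
        have := congrFun (congrFun hT'0 1) 1
        simpa [T'] using this
      apply hu0
      ext l
      have hl : (Pi.single l 1 : Fin 3 → k) ∈ LinearMap.range (psi v) := by
        rw [hsurj]; exact Submodule.mem_top
      obtain ⟨T, hT⟩ := hl
      have := psi_dot v T u
      rw [hT, single_one_dotProduct, Fin.sum_univ_two, Fin.sum_univ_two, Fin.sum_univ_two, h00, h01,
        h10, h11] at this
      rw [this]
      simp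
    have hQ0 : QM v ≠ 0 := by
      intro h
      apply hdet
      rw [h, Matrix.det_zero]
    exact ((Groth.Agent.S13911.result k (QM v) (QM_symm v) hQ0 (F (QM v)) rfl).1).mpr hdet


/-- Over an algebraically closed field k of characteristic zero, for a 2 × 2 matrix M of linear forms in
k[X_0, X_1, X_2] (entries homogeneous of degree 1, zero allowed), det M is a product of two linear
forms if and only if M can be brought by invertible scalar row and column operations g M h, with g,
h in GL_2(k), to a matrix with zero upper-right entry. (The published statement concerns matrices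
with nonzero determinant; this row also allows determinant zero, where both sides hold.) -/
theorem result (k : Type u) [Field k] [IsAlgClosed k] [CharZero k]
    (M : Matrix (Fin 2) (Fin 2) (MvPolynomial (Fin 3) k)) (hM : ∀ a b : Fin 2, (M a b).IsHomogeneous 1) :
    (∃ l₁ l₂ : MvPolynomial (Fin 3) k, l₁.IsHomogeneous 1 ∧ l₂.IsHomogeneous 1 ∧ M.det = l₁ * l₂) ↔
    ∃ g h : GL (Fin 2) k,
      ((MvPolynomial.C : k →+* MvPolynomial (Fin 3) k).mapMatrix g.val * M *
        (MvPolynomial.C : k →+* MvPolynomial (Fin 3) k).mapMatrix h.val) 0 1 = 0 := by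
  constructor
  · rintro ⟨l₁, l₂, h1, h2, hdet⟩
    choose v hv using fun i j => eq_L_of_isHomogeneous (M i j) (hM i j)
    have hred : ¬ Irreducible (F (QM v)) := by
      rw [← det_eq_F M v hv, hdet]
      intro hirr
      rcases hirr.isUnit_or_isUnit rfl with h | h
      · exact not_isUnit_of_isHomogeneous_one l₁ h1 h
      · exact not_isUnit_of_isHomogeneous_one l₂ h2 h
    obtain ⟨T, hT0, hTψ, hTdet⟩ := key v hred
    obtain ⟨r, s, hr, hs, hrs⟩ := rank_one_factor T hT0 hTdet
    obtain ⟨g, hg⟩ := complete_row r hr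
    obtain ⟨h, hh⟩ := complete_col s hs
    refine ⟨g, h, ?_⟩
    have hL := L_psi v T
    rw [hTψ, L_zero] at hL
    simp only [Matrix.mul_apply, RingHom.mapMatrix_apply, Matrix.map_apply, hg, hh,
      Fin.sum_univ_two, hv]
    simp only [Fin.sum_univ_two, hrs, map_mul] at hL
    linear_combination -hL
  · rintro ⟨g, h, h01⟩
    exact backward M hM g h h01

end Main

end Groth.Agent.S13912
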