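import Groth.Statements.S13913
import Mathlib
-- import your own Groth.Agent.* helpers here

set_option autoImplicit false
universe u
open PlaneCubic

namespace Groth.Agent.S13913


/-- A linear form is `∑ X i * C (a i)` where `a i` is the value of its `i`-th partial derivative. -/
theorem linear_form_eq {k : Type u} [Field k] (z : MvPolynomial (Fin 3) k) (hz : z.IsHomogeneous 1)
    (p : Fin 3 → k) :
    (∀ i, MvPolynomial.pderiv i z = MvPolynomial.C (MvPolynomial.eval p (MvPolynomial.pderiv i z))) ∧
      z = ∑ i : Fin 3, MvPolynomial.X i *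
        MvPolynomial.C (MvPolynomial.eval p (MvPolynomial.pderiv i z)) := by
  have h1 : ∀ i, MvPolynomial.pderiv i z =
      MvPolynomial.C (MvPolynomial.eval p (MvPolynomial.pderiv i z)) := by
    intro i
    have h0 : (MvPolynomial.pderiv i z).IsHomogeneous 0 := hz.pderiv
    have h2 : (MvPolynomial.pderiv i z).totalDegree = 0 := Nat.le_zero.1 h0.totalDegree_le
    rw [MvPolynomial.totalDegree_eq_zero_iff_eq_C] at h2
    conv_rhs => rw [h2]
    rw [MvPolynomial.eval_C]
    exact h2
  refine ⟨h1, ?_⟩
  have h3 := hz.sum_X_mul_pderiv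
  rw [one_smul] at h3
  conv_lhs => rw [← h3]
  apply Finset.sum_congr rfl
  intro i _
  rw [← h1 i]

/-- Over an algebraically closed field of characteristic zero, for linearly independent linear forms z₁,
z₂ and quadratic forms q₁, q₂ in three variables and a nonzero common zero p of z₁ and z₂, the point
p is a singular point of the plane cubic z₁q₂ − z₂q₁ = 0 (all three partial derivatives vanish at p)
if and only if q₁ and q₂ both vanish at p. -/
theorem result (k : Type u) [Field k] [IsAlgClosed k] [CharZero k]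
    (z₁ z₂ q₁ q₂ : MvPolynomial (Fin 3) k) (hz₁ : z₁.IsHomogeneous 1) (hz₂ : z₂.IsHomogeneous 1)
    (hq₁ : q₁.IsHomogeneous 2) (hq₂ : q₂.IsHomogeneous 2) (hind : LinearIndependent k ![z₁, z₂])
    (p : Fin 3 → k) (hp : p ≠ 0) (hp₁ : MvPolynomial.eval p z₁ = 0) (hp₂ : MvPolynomial.eval p z₂ = 0) :
    (∀ i : Fin 3, MvPolynomial.eval p (MvPolynomial.pderiv i (z₁ * q₂ - z₂ * q₁)) = 0) ↔
      (MvPolynomial.eval p q₁ = 0 ∧ MvPolynomial.eval p q₂ = 0) := by
  obtain ⟨ha, hz₁'⟩ := linear_form_eq z₁ hz₁ p
  obtain ⟨hb, hz₂'⟩ := linear_form_eq z₂ hz₂ p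
  have key : ∀ i : Fin 3, MvPolynomial.eval p (MvPolynomial.pderiv i (z₁ * q₂ - z₂ * q₁)) =
      MvPolynomial.eval p (MvPolynomial.pderiv i z₁) * MvPolynomial.eval p q₂ -
        MvPolynomial.eval p (MvPolynomial.pderiv i z₂) * MvPolynomial.eval p q₁ := by
    intro i
    rw [map_sub, Derivation.leibniz, Derivation.leibniz]
    simp only [smul_eq_mul, map_sub, map_add, map_mul, hp₁, hp₂, zero_mul, zero_add]
    ring
  constructor
  · intro h
    have h0 : MvPolynomial.eval p q₂ • z₁ + (-MvPolynomial.eval p q₁) • z₂ = 0 := by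
      conv_lhs => rw [hz₁', hz₂']
      rw [Finset.smul_sum, Finset.smul_sum, ← Finset.sum_add_distrib]
      apply Finset.sum_eq_zero
      intro i _
      have hi := h i
      rw [key i] at hi
      rw [MvPolynomial.smul_eq_C_mul, MvPolynomial.smul_eq_C_mul]
      have : MvPolynomial.C (MvPolynomial.eval p q₂) *
            (MvPolynomial.X i * MvPolynomial.C (MvPolynomial.eval p (MvPolynomial.pderiv i z₁))) +
          MvPolynomial.C (-MvPolynomial.eval p q₁) *
            (MvPolynomial.X i * MvPolynomial.C (MvPolynomial.eval p (MvPolynomial.pderiv i z₂))) =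
          MvPolynomial.X i * MvPolynomial.C
            (MvPolynomial.eval p (MvPolynomial.pderiv i z₁) * MvPolynomial.eval p q₂ -
              MvPolynomial.eval p (MvPolynomial.pderiv i z₂) * MvPolynomial.eval p q₁) := by
        simp only [map_sub, map_mul, map_neg]
        ring
      rw [this, hi, map_zero, mul_zero]
    have h1 := (LinearIndependent.pair_iff.1 hind) _ _ h0
    exact ⟨neg_eq_zero.1 h1.2, h1.1⟩
  · rintro ⟨h1, h2⟩ i
    rw [key, h1, h2, mul_zero, mul_zero, sub_zero]

end Groth.Agent.S13913
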