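import Groth.Statements.S13916
import Mathlib
-- import your own Groth.Agent.* helpers here

set_option autoImplicit false
universe u
open PlaneConic

namespace Groth.Agent.S13916

/-- Over an algebraically closed field k of characteristic zero, with u_0, u_1, u_2 the coordinate
linear forms of k[X_0, X_1, X_2] and 2 × 2 matrices of linear forms compared up to M ↦ g M h with g,
h invertible scalar matrices: (1) the matrices with rows (u_1, 0), (u_0, u_2) and (u_2, 0), (u_0,
u_1) are not equivalent; (2) for α ≠ 0 the matrix with rows (u_1, 0), (αu_0 + βu_1 + γu_2, u_2) is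
equivalent to the one with rows (u_1, 0), (u_0, u_2). -/
theorem result (k : Type u) [Field k] [IsAlgClosed k] [CharZero k] :
    (¬ ∃ g h : GL (Fin 2) k,
      (MvPolynomial.C : k →+* MvPolynomial (Fin 3) k).mapMatrix g.val *
          !![MvPolynomial.X 1, 0; MvPolynomial.X 0, MvPolynomial.X 2] *
        (MvPolynomial.C : k →+* MvPolynomial (Fin 3) k).mapMatrix h.val =
      !![MvPolynomial.X 2, 0; MvPolynomial.X 0, MvPolynomial.X 1]) ∧
    (∀ α β γ : k, α ≠ 0 → ∃ g h : GL (Fin 2) k,
      (MvPolynomial.C : k →+* MvPolynomial (Fin 3) k).mapMatrix g.val *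
          !![MvPolynomial.X 1, 0;
             MvPolynomial.C α * MvPolynomial.X 0 + MvPolynomial.C β * MvPolynomial.X 1 + MvPolynomial.C γ * MvPolynomial.X 2,
             MvPolynomial.X 2] *
        (MvPolynomial.C : k →+* MvPolynomial (Fin 3) k).mapMatrix h.val =
      !![MvPolynomial.X 1, 0; MvPolynomial.X 0, MvPolynomial.X 2]) := by
  constructor
  · rintro ⟨g, h, hgh⟩
    have e11 := congrFun (congrFun hgh 1) 1
    have e10 := congrFun (congrFun hgh 1) 0
    simp only [Matrix.mul_apply, Fin.sum_univ_two, RingHom.mapMatrix_apply, Matrix.map_apply,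
      Matrix.of_apply, Matrix.cons_val', Matrix.cons_val_zero, Matrix.cons_val_one,
      Matrix.cons_val_fin_one] at e11 e10
    -- evaluate at e0 = (1,0,0) and e1 = (0,1,0)
    have a1 := congrArg (MvPolynomial.eval (![1, 0, 0] : Fin 3 → k)) e11
    have a2 := congrArg (MvPolynomial.eval (![1, 0, 0] : Fin 3 → k)) e10
    have a3 := congrArg (MvPolynomial.eval (![0, 1, 0] : Fin 3 → k)) e11
    simp at a1 a2 a3
    -- a2 : g 1 1 * h 0 0 = 1, a1 : g 1 1 * h 0 1 = 0, a3 : g 1 0 * h 0 1 = 1
    rcases a1 with a1 | a1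
    · rw [a1] at a2
      simp at a2
    · rw [a1] at a3
      simp at a3
  · intro α β γ hα
    have hg : (!![1, 0; -β / α, 1 / α] : Matrix (Fin 2) (Fin 2) k).det ≠ 0 := by
      rw [Matrix.det_fin_two_of]
      simp [hα]
    have hh : (!![1, 0; -γ, α] : Matrix (Fin 2) (Fin 2) k).det ≠ 0 := by
      rw [Matrix.det_fin_two_of]
      simp [hα]
    refine ⟨Matrix.GeneralLinearGroup.mkOfDetNeZero _ hg,
      Matrix.GeneralLinearGroup.mkOfDetNeZero _ hh, ?_⟩
    have hC : (MvPolynomial.C α⁻¹ : MvPolynomial (Fin 3) k) * MvPolynomial.C α = 1 := by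
      rw [← map_mul, inv_mul_cancel₀ hα, map_one]
    have hC2 : (MvPolynomial.C (-β / α) : MvPolynomial (Fin 3) k) =
        - (MvPolynomial.C β * MvPolynomial.C α⁻¹) := by
      rw [← map_mul, ← map_neg]
      congr 1
      ring
    apply Matrix.ext
    intro i j
    fin_cases i <;> fin_cases j
    · simp [Matrix.mul_apply, Fin.sum_univ_two, RingHom.mapMatrix_apply,
        Matrix.GeneralLinearGroup.mkOfDetNeZero]
    · simp [Matrix.mul_apply, Fin.sum_univ_two, RingHom.mapMatrix_apply,
        Matrix.GeneralLinearGroup.mkOfDetNeZero]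
    · simp [Matrix.mul_apply, Fin.sum_univ_two, RingHom.mapMatrix_apply,
        Matrix.GeneralLinearGroup.mkOfDetNeZero]
      rw [hC2]
      linear_combination (MvPolynomial.X 0 : MvPolynomial (Fin 3) k) * hC
    · simp [Matrix.mul_apply, Fin.sum_univ_two, RingHom.mapMatrix_apply,
        Matrix.GeneralLinearGroup.mkOfDetNeZero]
      linear_combination (MvPolynomial.X 2 : MvPolynomial (Fin 3) k) * hC

end Groth.Agent.S13916
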