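import Groth.Statements.S13926
import Mathlib
-- import your own Groth.Agent.* helpers here

set_option autoImplicit false
universe u v w
open W4c1limliniiii

namespace Groth.Agent.S13926


theorem exists_between {k : Type u} [Field k] {E : Type w} [AddCommGroup E] [Module k E]
    [FiniteDimensional k E] (B : Submodule k E) :
    ∀ (d : ℕ) (A : Submodule k E), A ≤ B → Module.finrank k A + d ≤ Module.finrank k B →
      ∃ V : Submodule k E, A ≤ V ∧ V ≤ B ∧ Module.finrank k V = Module.finrank k A + d := by
  intro d
  induction d with
  | zero => intro A hAB _; exact ⟨A, le_rfl, hAB, rfl⟩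
  | succ d ih =>
    intro A hAB hd
    have hne : A ≠ B := by
      rintro rfl
      omega
    obtain ⟨x, hxB, hxA⟩ := SetLike.exists_of_lt (lt_of_le_of_ne hAB hne)
    have hx0 : x ≠ 0 := by
      rintro rfl
      exact hxA (zero_mem _)
    have hdisj : Disjoint A (Submodule.span k {x}) := (Submodule.disjoint_span_singleton' hx0).2 hxA
    have hfin : Module.finrank k (A ⊔ Submodule.span k {x} : Submodule k E) =
        Module.finrank k A + 1 := by
      have h := Submodule.finrank_sup_add_finrank_inf_eq A (Submodule.span k {x})
      rw [hdisj.eq_bot, finrank_bot, add_zero, finrank_span_singleton hx0] at h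
      exact h
    have hle : A ⊔ Submodule.span k {x} ≤ B :=
      sup_le hAB ((Submodule.span_singleton_le_iff_mem x B).2 hxB)
    obtain ⟨V, hV1, hV2, hV3⟩ := ih (A ⊔ Submodule.span k {x}) hle (by omega)
    exact ⟨V, le_trans le_sup_left hV1, hV2, by omega⟩

/-- Let k be a field, E₁ and E₂ finite-dimensional vector spaces over k of the same dimension, f : E₁ →
E₂ and g : E₂ → E₁ linear maps whose composite g ∘ f is multiplication by a scalar s, and V₁ a
subspace of E₁. Then there is a subspace V₂ of E₂ of the same dimension as V₁ with f(V₁) ≤ V₂ and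
g(V₂) ≤ V₁. (The published statement is the surjectivity of the truncation morphisms of a linked
Grassmannian, with a further assertion on lifting families; this row is the lifting step over a
field — over a point the chain of linked subspaces V_1, …, V_{n'} extends one index at a time — and
assumes only g ∘ f = s.) -/
theorem result (k : Type u) [Field k]
    (E₁ : Type v) (E₂ : Type w) [AddCommGroup E₁] [Module k E₁] [FiniteDimensional k E₁]
    [AddCommGroup E₂] [Module k E₂] [FiniteDimensional k E₂]
    (hdim : Module.finrank k E₁ = Module.finrank k E₂)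
    (f : E₁ →ₗ[k] E₂) (g : E₂ →ₗ[k] E₁) (s : k) (hgf : g.comp f = s • LinearMap.id)
    (V₁ : Submodule k E₁) :
    ∃ V₂ : Submodule k E₂, Module.finrank k V₂ = Module.finrank k V₁ ∧
      Submodule.map f V₁ ≤ V₂ ∧ Submodule.map g V₂ ≤ V₁ := by
  have hAB : Submodule.map f V₁ ≤ Submodule.comap g V₁ := by
    rintro x ⟨v, hv, rfl⟩
    show g (f v) ∈ V₁
    have : g (f v) = s • v := LinearMap.congr_fun hgf v
    rw [this]
    exact V₁.smul_mem s hv
  have hA : Module.finrank k (Submodule.map f V₁) ≤ Module.finrank k V₁ :=
    Submodule.finrank_map_le f V₁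
  have hB : Module.finrank k V₁ ≤ Module.finrank k (Submodule.comap g V₁) := by
    let φ : (E₂ ⧸ Submodule.comap g V₁) →ₗ[k] (E₁ ⧸ V₁) :=
      Submodule.mapQ (Submodule.comap g V₁) V₁ g le_rfl
    have hφ : Function.Injective φ := by
      rw [injective_iff_map_eq_zero]
      intro y hy
      induction y using Submodule.Quotient.induction_on with
      | H x =>
        rw [Submodule.mapQ_apply, Submodule.Quotient.mk_eq_zero] at hy
        rw [Submodule.Quotient.mk_eq_zero]
        exact hy
    have h1 := LinearMap.finrank_le_finrank_of_injective hφ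
    have h2 := Submodule.finrank_quotient_add_finrank (Submodule.comap g V₁)
    have h3 := Submodule.finrank_quotient_add_finrank V₁
    omega
  obtain ⟨V, hV1, hV2, hV3⟩ := exists_between (Submodule.comap g V₁)
    (Module.finrank k V₁ - Module.finrank k (Submodule.map f V₁)) (Submodule.map f V₁) hAB (by omega)
  refine ⟨V, by omega, hV1, ?_⟩
  rintro x ⟨y, hy, rfl⟩
  exact hV2 hy

end Groth.Agent.S13926
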