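import Groth.Statements.S1393
import Groth.Agent.Lib.Helper3FibreFree
import Groth.Agent.Lib.Helper2LocFree
import Mathlib

set_option autoImplicit false
universe u
open FlatMor

namespace Groth.Agent.S1393

open AlgebraicGeometry CategoryTheory Limits Groth.Agent.Lib.Helper2.FlatOver

/-- The stalk of a finitely presented quasi-coherent module is finitely presented over the local
ring. -/
theorem finitePresentation_stalk {X : Scheme.{u}} (F : X.Modules) [F.IsQuasicoherent]
    [SheafOfModules.IsFinitePresentation (R := X.ringCatSheaf) F] (x : X) :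
    Module.FinitePresentation (X.presheaf.stalk x) (F.presheaf.stalk x) := by
  obtain ⟨U, hU, hxU, -, hfp⟩ :=
    Groth.Agent.Lib.Helper2.FinPres.exists_affine_nhds_finitePresentation F x ⊤ trivial
  letI := moduleStalkSections F U x hxU
  letI : Algebra Γ(X, U) (X.presheaf.stalk x) := X.presheaf.algebra_section_stalk ⟨x, hxU⟩
  haveI : IsScalarTower Γ(X, U) (X.presheaf.stalk x) (F.presheaf.stalk x) :=
    ⟨fun r s y => by
      change (X.presheaf.germ U x hxU r * s) • y = X.presheaf.germ U x hxU r • (s • y)
      rw [mul_smul]⟩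
  haveI := hU.isLocalization_stalk ⟨x, hxU⟩
  haveI := isLocalizedModule_germ hU F x hxU
  exact FinitePresentation.of_isBaseChange (germₗ F U x hxU)
    (IsLocalizedModule.isBaseChange (hU.primeIdealOf ⟨x, hxU⟩).asIdeal.primeCompl
      (X.presheaf.stalk x) (germₗ F U x hxU))

open AlgebraicGeometry CategoryTheory Limits in

open AlgebraicGeometry CategoryTheory Limits in
/-- Let f : X → S be of finite presentation, F a finitely presented quasi-coherent O_X-module and x a
point with image s. If F is flat over S at x and the stalk at x of the restriction of F to the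
fibre, namely F_x / m_s F_x, is flat over the local ring of the fibre at x, namely O_{X,x} / m_s
O_{X,x}, then F is free of finite rank on some open neighbourhood of x. -/
theorem result {X S : Scheme.{u}} (f : X ⟶ S) [LocallyOfFinitePresentation f] [QuasiCompact f] [QuasiSeparated f]
    (F : X.Modules) (hFq : Coh.IsQCoh F) (hFp : CohB1.IsFP F) (x : X) (h1 : FlatMod.IsFlatOverAt f F x)
    (h2 : Module.Flat (↑(X.presheaf.stalk x) ⧸ Ideal.map (f.stalkMap x).hom (IsLocalRing.maximalIdeal ↑(S.presheaf.stalk (f x))))
      (↑(F.presheaf.stalk x) ⧸ (Ideal.map (f.stalkMap x).hom (IsLocalRing.maximalIdeal ↑(S.presheaf.stalk (f x))) • (⊤ : Submodule ↑(X.presheaf.stalk x) ↑(F.presheaf.stalk x))))) :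
    ∃ (U : X.Opens) (n : ℕ), x ∈ U ∧ Nonempty (F.restrict U.ι ≅ FlatMod.freeMod (↑U) n) := by
  haveI : F.IsQuasicoherent := hFq
  haveI : SheafOfModules.IsFinitePresentation (R := X.ringCatSheaf) F := hFp
  haveI := finitePresentation_stalk F x
  letI algAB : Algebra (S.presheaf.stalk (f x)) (X.presheaf.stalk x) := (f.stalkMap x).hom.toAlgebra
  letI modA := FlatMod.moduleStalkOver f F x
  haveI : IsScalarTower (S.presheaf.stalk (f x)) (X.presheaf.stalk x) (F.presheaf.stalk x) :=
    ⟨fun r s y => by
      change ((f.stalkMap x).hom r * s) • y = (f.stalkMap x).hom r • (s • y)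
      rw [mul_smul]⟩
  haveI : Module.Flat (S.presheaf.stalk (f x)) (F.presheaf.stalk x) := h1
  have hI : (IsLocalRing.maximalIdeal (S.presheaf.stalk (f x))).map
      (algebraMap (S.presheaf.stalk (f x)) (X.presheaf.stalk x)) ≤
      IsLocalRing.maximalIdeal (X.presheaf.stalk x) := by
    rw [Ideal.map_le_iff_le_comap]
    intro a ha
    rw [Ideal.mem_comap]
    exact (IsLocalRing.mem_maximalIdeal _).mpr fun hu =>
      (IsLocalRing.mem_maximalIdeal a).mp ha (isUnit_of_map_unit (f.stalkMap x).hom a hu)
  have hfree : Module.Free (X.presheaf.stalk x) (F.presheaf.stalk x) :=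
    Groth.Agent.Lib.Helper3.FibreFree.free_of_flat_of_flat_quotient
      (IsLocalRing.maximalIdeal (S.presheaf.stalk (f x))) hI h2
  have hflat : FlatMod.IsFlatAt F x := Module.Flat.of_free
  obtain ⟨D, m, hxD, hD⟩ :=
    Groth.Agent.Lib.Helper2.LocFree.exists_restrict_iso_freeMod_of_isFlatAt F x hflat
  exact ⟨D, m, hxD, hD⟩

end Groth.Agent.S1393
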