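import Groth.Statements.S13936
import Groth.Agent.Lib.Helper4PPSection

set_option autoImplicit false
universe u
open W4c1limliniiii

namespace Groth.Agent.S13936

/-- Let R be a commutative ring, S_Y → S_X a homomorphism of R-algebras (an affine piece of a morphism f
: X → Y of schemes over Spec R) and σ : S_X → R an R-algebra retraction (a section of X over the
base) with kernel I. For e ≥ 1 write T^{e−1} for the augmentation ideal of the ring of principal
parts of order e − 1 (the kernel of P^{e−1} → the algebra; for e = 2 this is the module of
differentials). Then the natural map T^{e−1}(S_Y/R) → T^{e−1}(S_X/R) takes values in I ·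
T^{e−1}(S_X/R) — that is, the induced map f^*T^{e−1}_Y → T^{e−1}_X vanishes at the section σ — if
and only if every element of S_Y whose image in S_X lies in I has image in I^e, which says that the
fibre of f through σ contains the e-th order thickening of σ. (The published statement is for a
morphism of separated schemes over a base and sections over an arbitrary base change; this row is
the affine computation it reduces to.) -/
theorem result (R SY SX : Type u)
    [CommRing R] [CommRing SY] [CommRing SX] [Algebra R SY] [Algebra R SX] [Algebra SY SX]
    [IsScalarTower R SY SX] (σ : SX →ₐ[R] R) (e : ℕ) (he : 1 ≤ e) :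
    (∀ y ∈ PP16.augIdeal (e - 1) R SY,
        PP16.map (e - 1) R SY R SX y ∈
          RingHom.ker σ.toRingHom • (PP16.augIdeal (e - 1) R SX).restrictScalars SX) ↔
      (∀ b : SY, algebraMap SY SX b ∈ RingHom.ker σ.toRingHom →
        algebraMap SY SX b ∈ RingHom.ker σ.toRingHom ^ e) := by
  have he' : e = (e - 1) + 1 := by omega
  rw [he']
  generalize e - 1 = n
  simp only [Nat.add_one_sub_one]
  have hmap : ∀ b : SY, PP16.map n R SY R SX (Groth.Agent.Lib.Helper4.zetaP n R SY b) =
      Groth.Agent.Lib.Helper4.zetaP n R SX (algebraMap SY SX b) := by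
    intro b
    unfold Groth.Agent.Lib.Helper4.zetaP
    rw [PP16.map_mk, map_sub (PP16.tensorMap R SY R SX), PP16.tensorMap_tmul, PP16.tensorMap_tmul,
      map_one]
  constructor
  · intro h b hb
    have h1 := h (Groth.Agent.Lib.Helper4.zetaP n R SY b)
      (Groth.Agent.Lib.Helper4.zetaP_mem_augIdeal n R SY b)
    rw [hmap] at h1
    have h3 := (Groth.Agent.Lib.Helper4.zetaP_mem_smulAug_iff n R SX σ _).mp h1
    have h4 : σ (algebraMap SY SX b) = 0 := hb
    rw [h4, map_zero, sub_zero] at h3
    exact h3
  · intro h y hy
    have haug : PP16.augIdeal n R SY =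
        Ideal.span (Set.range (Groth.Agent.Lib.Helper4.zetaP n R SY)) := by
      have h1 : PP16.augIdeal n R SY =
          (Ideal.span (Set.range fun b : SY => (1 : SY) ⊗ₜ[R] b - b ⊗ₜ[R] (1 : SY))).map
            (Ideal.Quotient.mk ((KaehlerDifferential.ideal R SY) ^ (n + 1))) := by
        rw [KaehlerDifferential.span_range_eq_ideal]
        rfl
      rw [h1, Ideal.map_span, ← Set.range_comp]
      rfl
    rw [haug] at hy
    induction hy using Submodule.span_induction with
    | mem y hy =>
      obtain ⟨b, rfl⟩ := hy
      rw [hmap]
      refine (Groth.Agent.Lib.Helper4.zetaP_mem_smulAug_iff n R SX σ _).mpr ?_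
      have h1 : algebraMap SY SX (b - algebraMap R SY (σ (algebraMap SY SX b))) =
          algebraMap SY SX b - algebraMap R SX (σ (algebraMap SY SX b)) := by
        rw [map_sub, ← IsScalarTower.algebraMap_apply]
      have h2 := h (b - algebraMap R SY (σ (algebraMap SY SX b)))
      rw [h1] at h2
      exact h2 (Groth.Agent.Lib.Helper4.sub_algebraMap_mem_ker R SX σ _)
    | zero =>
      rw [map_zero]
      exact Submodule.zero_mem _
    | add x y _ _ hx hy =>
      rw [map_add]
      exact Submodule.add_mem _ hx hy
    | smul p y _ hy =>
      rw [smul_eq_mul, map_mul]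
      exact Groth.Agent.Lib.Helper4.mul_mem_smulAug n R SX _ _ _ hy

end Groth.Agent.S13936
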