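import Groth.Statements.S13958
import Mathlib
import Groth.Agent.Lib.Helper6VanDantzig

set_option autoImplicit false
universe u
open TateLoc

namespace Groth.Agent.S13958

open CategoryTheory in
/-- Let A' be a finitely generated abelian group (written multiplicatively, discrete) and A a subgroup.
If the image of x ∈ A' in the profinite completion of A' lies in the image of the profinite
completion of A under the map induced by the inclusion, then x ∈ A. (The published statement says
that the square formed by the two completion maps and the two inclusions is Cartesian; given the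
injectivity of the induced map on completions, which holds here, that amounts to this membership
criterion.) -/
theorem result (A' : Type u) [CommGroup A'] [Group.FG A']
    (A : Subgroup A') (x : A')
    (hx : ProfiniteGrp.ProfiniteCompletion.etaFn (GrpCat.of A') x ∈
      Set.range ⇑(ProfiniteGrp.profiniteCompletion.map (GrpCat.ofHom A.subtype)).hom) :
    x ∈ A := by
  classical
  open ProfiniteGrp ProfiniteCompletion in
  by_contra hxA
  -- a finite quotient of `A' ⧸ A` in which `x` survives
  have hq : (Additive.ofMul (QuotientGroup.mk x : A' ⧸ A) : Additive (A' ⧸ A)) ≠ 0 := by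
    intro h
    apply hxA
    have : (QuotientGroup.mk x : A' ⧸ A) = 1 := h
    exact (QuotientGroup.eq_one_iff x).mp this
  obtain ⟨N, hN, φ, hφ⟩ := Groth.Agent.Lib.Helper6.VanDantzig.exists_hom_zmod_ne_zero _ hq
  let ψ : A' →* Multiplicative (ZMod N) :=
    (AddMonoidHom.toMultiplicative φ).comp
      ((MulEquiv.refl _ : A' ⧸ A ≃* Multiplicative (Additive (A' ⧸ A))).toMonoidHom.comp
        (QuotientGroup.mk' A))
  have hψx : ψ x ≠ 1 := fun h => hφ h
  have hψA : ∀ a ∈ A, ψ a = 1 := by
    intro a ha
    have h1 : (QuotientGroup.mk a : A' ⧸ A) = 1 := (QuotientGroup.eq_one_iff a).mpr ha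
    change Multiplicative.ofAdd (φ (Additive.ofMul (QuotientGroup.mk a : A' ⧸ A))) = 1
    rw [h1]
    change Multiplicative.ofAdd (φ 0) = 1
    rw [map_zero]
    rfl
  let N' : FiniteIndexNormalSubgroup (GrpCat.of A') := { toSubgroup := ψ.ker }
  obtain ⟨z, hz⟩ := hx
  let f : completion (GrpCat.of A) → completion (GrpCat.of A') :=
    ⇑(ProfiniteGrp.profiniteCompletion.map (GrpCat.ofHom A.subtype)).hom
  have hf : Continuous f :=
    (ProfiniteGrp.profiniteCompletion.map (GrpCat.ofHom A.subtype)).hom.continuous_toFun
  have hfη : ∀ a : A, f (etaFn (GrpCat.of A) a) = etaFn (GrpCat.of A') (a : A') := by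
    intro a
    have h := lift_eta (G := GrpCat.of A) (P := completion (GrpCat.of A'))
      (GrpCat.ofHom A.subtype ≫ eta (GrpCat.of A'))
    exact ConcreteCategory.congr_hom h a
  have hclosed : IsClosed {w : completion (GrpCat.of A') | w.val N' = 1} := by
    have h1 : Continuous (fun w : completion (GrpCat.of A') => w.val N') :=
      (continuous_apply N').comp continuous_subtype_val
    exact isClosed_singleton.preimage h1
  have hS : IsClosed (f ⁻¹' {w : completion (GrpCat.of A') | w.val N' = 1}) := hclosed.preimage hf
  have hsub : Set.range (etaFn (GrpCat.of A)) ⊆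
      f ⁻¹' {w : completion (GrpCat.of A') | w.val N' = 1} := by
    rintro _ ⟨a, rfl⟩
    change (f (etaFn (GrpCat.of A) a)).val N' = 1
    rw [hfη a]
    change (QuotientGroup.mk (a : A') : A' ⧸ ψ.ker) = 1
    rw [QuotientGroup.eq_one_iff]
    exact hψA a a.2
  have huniv : f ⁻¹' {w : completion (GrpCat.of A') | w.val N' = 1} = Set.univ := by
    apply Set.eq_univ_of_univ_subset
    rw [← (denseRange (GrpCat.of A)).closure_range]
    exact hS.closure_subset_iff.mpr hsub
  have hzmem : z ∈ f ⁻¹' {w : completion (GrpCat.of A') | w.val N' = 1} := by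
    rw [huniv]; trivial
  have h1 : (f z).val N' = 1 := hzmem
  have hz' : f z = etaFn (GrpCat.of A') x := hz
  rw [hz'] at h1
  have h2 : (QuotientGroup.mk x : A' ⧸ ψ.ker) = 1 := h1
  rw [QuotientGroup.eq_one_iff] at h2
  exact hψx h2

end Groth.Agent.S13958
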