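import Groth.Statements.S13959
import Mathlib
import Groth.Agent.Lib.Helper12InfTorsor

set_option autoImplicit false
universe u
open TateLoc

namespace Groth.Agent.S13959


open CategoryTheory AlgebraicGeometry Limits in
/-- the morphism `Spec L ⟶ Spec k` of a field extension is an fpqc cover with reduced
self-product when `L ⊗_k L` is reduced. -/
lemma field_ext_props (k : Type u) [Field k] (L : Type u) [Field L] [Algebra k L] :
    Flat (Spec.map (CommRingCat.ofHom (algebraMap k L))) ∧
    Surjective (Spec.map (CommRingCat.ofHom (algebraMap k L))) ∧
    QuasiCompact (Spec.map (CommRingCat.ofHom (algebraMap k L))) := by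
  refine ⟨?_, ?_, inferInstance⟩
  · rw [HasRingHomProperty.Spec_iff (P := @Flat)]
    rw [CommRingCat.hom_ofHom, RingHom.flat_algebraMap_iff]
    infer_instance
  · constructor
    intro y
    haveI : Nonempty (Spec (CommRingCat.of L)) :=
      inferInstanceAs (Nonempty (PrimeSpectrum L))
    obtain ⟨x⟩ := ‹Nonempty (Spec (CommRingCat.of L))›
    haveI : Subsingleton (Spec (CommRingCat.of k)) :=
      inferInstanceAs (Subsingleton (PrimeSpectrum k))
    exact ⟨x, Subsingleton.elim _ _⟩

open CategoryTheory AlgebraicGeometry in


open CategoryTheory AlgebraicGeometry in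
/-- Let k be a field, L an extension field of k which is separable over k in the sense that L ⊗_k L is
reduced (not necessarily algebraic), and I an infinitesimal k-group scheme (finite over k with
one-point underlying space). If a k-scheme E with an action of I is an fppf torsor under I and
acquires a point over L, then E already has a k-point. (The published statement is the injectivity
of H^1(k, I) → H^1(L, I); this row is its torsor form.) -/
theorem result (k : Type u) [Field k] (L : Type u) [Field L] [Algebra k L]
    [IsReduced (TensorProduct k L L)]
    (I E : Over (Spec (CommRingCat.of k))) [GrpObj I] [IsFinite I.hom] [Subsingleton ↥(I.left)]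
    (a : AlgGrp.Action I E) (hE : NonAbH1.IsTorsorFor Scheme.fppfPrecoverage a)
    (hL : NonAbH1.HasSectionOver E (Spec.map (CommRingCat.ofHom (algebraMap k L)))) :
    NonAbH1.HasSectionOver E (𝟙 (Spec (CommRingCat.of k))) := by
  obtain ⟨h1, h2, h3⟩ := field_ext_props k L
  haveI : IsReduced (Limits.pullback (Spec.map (CommRingCat.ofHom (algebraMap k L)))
      (Spec.map (CommRingCat.ofHom (algebraMap k L)))) := by
    haveI : IsReduced (Spec (CommRingCat.of (TensorProduct k L L))) := inferInstance
    exact isReduced_of_isOpenImmersion (pullbackSpecIso k L L).hom
  exact Groth.Agent.Lib.Helper12.InfTorsor.hasSectionOver_id_of_isReduced_pullback a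
    Groth.Agent.Lib.Helper12.InfTorsor.surjective_unit_of_subsingleton hE.1 _ hL

end Groth.Agent.S13959
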