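import Groth.Statements.S1396
import Groth.Agent.Lib.Helper2IndQA

set_option autoImplicit false
universe u
open FlatMor

namespace Groth.Agent.S1396

open AlgebraicGeometry CategoryTheory Limits in
/-- (1) ⇔ (4): a morphism f : X → Y is ind-quasi-affine (the preimage of every affine open is a scheme
all of whose quasi-compact opens are quasi-affine) if and only if for every quasi-compact
quasi-separated open V of Y and every quasi-compact open U of the preimage of V, the induced
morphism U → V is quasi-affine (quasi-compact with quasi-affine preimages of affine opens). -/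
theorem result {X Y : Scheme.{u}} (f : X ⟶ Y) :
    MoreMor.IsIndQuasiAffineHom f ↔ ∀ (V : Y.Opens), IsCompact (V : Set ↑Y) → IsQuasiSeparated (V : Set ↑Y) →
      ∀ (U : X.Opens) (hUV : U ≤ f ⁻¹ᵁ V), IsCompact (U : Set ↑X) → MoreMor.IsQuasiAffineHom (f.resLE V U hUV) := by
  rw [Groth.Agent.Lib.Helper2.isIndQuasiAffineHom_iff]
  constructor
  · intro H V hVc hVqs U hUV hU
    have : CompactSpace U.toScheme := isCompact_iff_compactSpace.mp hU
    have : QuasiSeparatedSpace V.toScheme := (isQuasiSeparated_iff_quasiSeparatedSpace _ V.2).mp hVqs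
    have hqc : QuasiCompact (f.resLE V U hUV) := by
      have h1 : QuasiCompact (f.resLE V U hUV ≫ terminal.from V.toScheme) := by
        rw [terminal.comp_from]
        exact (compactSpace_iff_quasiCompact _).mp inferInstance
      have h2 : QuasiSeparated (terminal.from V.toScheme) :=
        (quasiSeparatedSpace_iff_quasiSeparated _).mp inferInstance
      exact QuasiCompact.of_comp _ (terminal.from V.toScheme)
    refine ⟨hqc, fun W hW => ?_⟩
    have h3 : Scheme.IsQuasiAffine (U.ι ''ᵁ (f.resLE V U hUV ⁻¹ᵁ W)).toScheme := by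
      apply H (V.ι ''ᵁ W) (hW.image_of_isOpenImmersion V.ι)
      · rintro _ ⟨y, hy, rfl⟩
        exact ⟨f.resLE V U hUV y, hy, congr($(Scheme.Hom.resLE_comp_ι f hUV) y)⟩
      · have h4 : IsCompact ((f.resLE V U hUV ⁻¹ᵁ W : U.toScheme.Opens) : Set U.toScheme) :=
          (f.resLE V U hUV).isCompact_preimage hW.isCompact
        simpa using h4.image U.ι.continuous
    exact Groth.Agent.Lib.Helper2.isQuasiAffine_of_iso (U.ι.isoImage _)
  · intro H V hV U hUV hU
    have : IsAffine V.toScheme := hV
    have h1 := (H V hV.isCompact hV.isQuasiSeparated U hUV hU).2 ⊤ (isAffineOpen_top _)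
    have : Scheme.IsQuasiAffine (⊤ : U.toScheme.Opens).toScheme := h1
    exact Groth.Agent.Lib.Helper2.isQuasiAffine_of_iso (Scheme.topIso _).symm

end Groth.Agent.S1396
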