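import Groth.Statements.S1397
import Groth.Agent.Lib.Helper2IndQA

set_option autoImplicit false
universe u
open FlatMor

namespace Groth.Agent.S1397

open AlgebraicGeometry CategoryTheory Limits in
/-- Ind-quasi-affine morphisms are stable under composition. -/
theorem result {X Y Z : Scheme.{u}} (f : X ⟶ Y) (g : Y ⟶ Z) (hf : MoreMor.IsIndQuasiAffineHom f) (hg : MoreMor.IsIndQuasiAffineHom g) :
    MoreMor.IsIndQuasiAffineHom (f ≫ g) := by
  rw [Groth.Agent.Lib.Helper2.isIndQuasiAffineHom_iff]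
  intro W hW U hUW hU
  obtain ⟨Q, hQc, hQW, hUQ⟩ :=
    Groth.Agent.Lib.Helper2.exists_isCompact_le_preimage f U hU (g ⁻¹ᵁ W) hUW
  have : Scheme.IsQuasiAffine Q.toScheme :=
    (Groth.Agent.Lib.Helper2.isIndQuasiAffineHom_iff g).mp hg W hW Q hQW hQc
  exact Groth.Agent.Lib.Helper2.isQuasiAffine_of_le_preimage f hf Q U hUQ hU

end Groth.Agent.S1397
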