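import Groth.Statements.S17647
import Mathlib
import Groth.Agent.Lib.Helper23Support
-- import your own Groth.Agent.* helpers here

set_option autoImplicit false
universe u
open CategoryTheory CategoryTheory.Limits AlgebraicGeometry
open QCohCat

namespace Groth.Agent.S17647


open TopologicalSpace Opposite
open Groth.Agent.Lib.Helper23.QCohLocal Groth.Agent.Lib.Helper2.Push Groth.Agent.Lib.Helper2.QCoh
  Groth.Agent.Lib.Helper23.FinType Groth.Agent.Lib.Helper23.ModLocal Groth.Agent.Lib.Helper23.Extend
  Groth.Agent.Lib.Helper23.Support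

attribute [local instance] restrictFunctor_isRightAdjoint

/-- the restriction of a module to an open `U` vanishes iff its support is contained in the complement of `U` -/
theorem isZero_restrict_iff {X : Scheme.{u}} (U : X.Opens) (K : X.Modules) :
    IsZero (K.restrict U.ι) ↔ CohB1.support K ⊆ (↑U : Set X)ᶜ := by
  constructor
  · intro hK x hx hxU
    apply hx
    refine subsingleton_stalk_of_forall_res_eq_zero K x (fun W hxW s => ?_)
    refine ⟨W ⊓ U, inf_le_left, ⟨hxW, hxU⟩, ?_⟩
    have himg : U.ι ''ᵁ (U.ι ⁻¹ᵁ (W ⊓ U)) = W ⊓ U := by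
      rw [Scheme.Hom.image_preimage_eq_opensRange_inf, Scheme.Opens.opensRange_ι]
      exact inf_eq_right.2 inf_le_right
    have h1 : ∀ t : Γ(K, U.ι ''ᵁ (U.ι ⁻¹ᵁ (W ⊓ U))), t = 0 := fun t =>
      eq_zero_of_isZero hK (U.ι ⁻¹ᵁ (W ⊓ U)) t
    rw [himg] at h1
    exact h1 _
  · intro hK
    refine isZero_of_forall_eq_zero (fun V s => ?_)
    exact eq_zero_of_disjoint_support K (U.ι ''ᵁ V) (fun y hy hy' => by
      have : y ∈ U := by
        have := Scheme.Hom.image_le_opensRange U.ι V hy
        rw [Scheme.Opens.opensRange_ι] at this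
        exact this
      exact hK hy' this) s

/-- for an exact functor `F` between abelian categories, `F.map f` is an isomorphism iff `F` kills the kernel and the
cokernel of `f` -/
theorem isIso_map_iff_isZero {C D : Type*} [Category C] [Category D] [Abelian C] [Abelian D] (F : C ⥤ D)
    [F.PreservesZeroMorphisms] {A B : C} (f : A ⟶ B) [PreservesLimit (parallelPair f 0) F]
    [PreservesColimit (parallelPair f 0) F] :
    IsIso (F.map f) ↔ IsZero (F.obj (kernel f)) ∧ IsZero (F.obj (cokernel f)) := by
  have e1 : F.obj (kernel f) ≅ kernel (F.map f) := PreservesKernel.iso F f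
  have e2 : F.obj (cokernel f) ≅ cokernel (F.map f) := PreservesCokernel.iso F f
  constructor
  · intro h
    exact ⟨(isZero_kernel_of_mono (F.map f)).of_iso e1, (isZero_cokernel_of_epi (F.map f)).of_iso e2⟩
  · rintro ⟨h1, h2⟩
    have : Mono (F.map f) := Preadditive.mono_of_isZero_kernel _ (h1.of_iso e1.symm)
    have : Epi (F.map f) := Preadditive.epi_of_isZero_cokernel _ (h2.of_iso e2.symm)
    exact isIso_of_mono_of_epi _

theorem isIso_restrict_map_iff {X : Scheme.{u}} (U : X.Opens) {A B : X.Modules} (f : A ⟶ B) :
    IsIso ((Scheme.Modules.restrictFunctor U.ι).map f) ↔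
      CohB1.support (kernel f) ⊆ (↑U : Set X)ᶜ ∧ CohB1.support (cokernel f) ⊆ (↑U : Set X)ᶜ := by
  rw [isIso_map_iff_isZero (Scheme.Modules.restrictFunctor U.ι) f, ← isZero_restrict_iff, ← isZero_restrict_iff]

/-- Let X be a scheme and U ⊆ X an open subset whose inclusion U ⟶ X is quasi-compact, Z = X ∖ U. Then
the restriction functor QCoh(X) ⥤ QCoh(U) between the categories of quasi-coherent modules is a
localization functor for the class of morphisms of quasi-coherent O_X-modules whose kernel and
cokernel (computed in O_X-modules) have support contained in Z: the category QCoh(U) is the quotient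
of QCoh(X) by the localizing subcategory of quasi-coherent modules supported in Z, the direct image
along U ⟶ X being the fully faithful right adjoint. No hypothesis is made on X beyond the
quasi-compactness of U ⟶ X. -/
theorem result (X : Scheme.{u})
    (U : X.Opens) [QuasiCompact U.ι] :
    (ObjectProperty.lift (QCohCat.isQCoh (↑U : Scheme.{u}))
        (ObjectProperty.ι (QCohCat.isQCoh X) ⋙ Scheme.Modules.restrictFunctor U.ι)
        (fun M => @Scheme.Modules.isQuasicoherent_restrictFunctor (↑U : Scheme.{u}) X U.ι
          inferInstance M.obj M.property)).IsLocalization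
      (fun (A B : QCohCat.QCoh X) (f : A ⟶ B) =>
        CohB1.support (kernel f.hom) ⊆ (↑U : Set X)ᶜ ∧
          CohB1.support (cokernel f.hom) ⊆ (↑U : Set X)ᶜ) := by
  let PX := QCohCat.isQCoh X
  let PU := QCohCat.isQCoh (↑U : Scheme.{u})
  let L' := Scheme.Modules.restrictFunctor U.ι
  let R' := Scheme.Modules.pushforward U.ι
  let Lq : PX.FullSubcategory ⥤ PU.FullSubcategory := ObjectProperty.lift PU (PX.ι ⋙ L')
    (fun M => @Scheme.Modules.isQuasicoherent_restrictFunctor (↑U : Scheme.{u}) X U.ι
          inferInstance M.obj M.property)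
  let Rq : PU.FullSubcategory ⥤ PX.FullSubcategory := ObjectProperty.lift PX (PU.ι ⋙ R')
    (fun M => by
      have : M.obj.IsQuasicoherent := M.property
      exact isQuasicoherent_pushforward U.ι M.obj)
  let adj : Lq ⊣ Rq := (Scheme.Modules.restrictAdjunction U.ι).restrictFullyFaithful
    PX.fullyFaithfulι PU.fullyFaithfulι (Iso.refl _) (Iso.refl _)
  have : (PU.ι ⋙ R').Full := inferInstance
  have : (PU.ι ⋙ R').Faithful := inferInstance
  have : Rq.Full := Functor.Full.of_comp_faithful_iso (PX.liftCompιIso (PU.ι ⋙ R') _)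
  have : Rq.Faithful := Functor.Faithful.of_comp_iso (PX.liftCompιIso (PU.ι ⋙ R') _)
  have hloc := adj.isLocalization
  have hW : (fun (A B : QCohCat.QCoh X) (f : A ⟶ B) =>
        CohB1.support (kernel f.hom) ⊆ (↑U : Set X)ᶜ ∧
          CohB1.support (cokernel f.hom) ⊆ (↑U : Set X)ᶜ) =
      (MorphismProperty.isomorphisms _).inverseImage Lq := by
    ext A B f
    rw [MorphismProperty.inverseImage_iff, MorphismProperty.isomorphisms.iff,
      ← isIso_iff_of_reflects_iso (Lq.map f) PU.ι]
    exact (isIso_restrict_map_iff U f.hom).symm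
  rw [hW]
  exact hloc

end Groth.Agent.S17647
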