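import Groth.Statements.S13987
import Mathlib
import Groth.Agent.Lib.Helper20CohGab
import Groth.Agent.Lib.Helper20LocFrac
import Groth.Agent.Lib.Helper4CohThick
import Groth.Agent.S17647
import Groth.Agent.S2252

set_option autoImplicit false
universe u
open CategoryTheory CategoryTheory.Limits AlgebraicGeometry
open CohGab

namespace Groth.Agent.S13987

open Groth.Agent.Lib.Helper20.CohGab Groth.Agent.Lib.Helper4.Dev Opposite
  Groth.Agent.Lib.Helper23.FinType Groth.Agent.Lib.Helper23.QCohLocal
  Groth.Agent.Lib.Helper4.KFilt Groth.Agent.Lib.Helper4.CohThick Groth.Agent.Lib.Helper20.LocFrac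

abbrev PC (X : Scheme.{u}) : ObjectProperty X.Modules := fun M => Coh.IsCoh M
abbrev CohCat (X : Scheme.{u}) := (PC X).FullSubcategory

section Inst
variable (X : Scheme.{u}) [IsLocallyNoetherian X]

theorem isCoh_limit_pair (F : Discrete WalkingPair ⥤ X.Modules) [HasLimit F]
    (hF : ∀ j, Coh.IsCoh (F.obj j)) : Coh.IsCoh (limit F) := by
  have h1 : Coh.IsCoh (F.obj ⟨WalkingPair.left⟩ ⊞ F.obj ⟨WalkingPair.right⟩ : X.Modules) :=
    (cohP X).prop_biprod (hF _) (hF _)
  let e : (F.obj ⟨WalkingPair.left⟩ ⊞ F.obj ⟨WalkingPair.right⟩ : X.Modules) ≅ limit F :=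
    biprod.isoProd _ _ ≪≫ (HasLimit.isoOfNatIso (diagramIsoPair F)).symm
  exact isCoh_of_iso e h1

instance : (PC X).IsClosedUnderBinaryProducts :=
  ObjectProperty.IsClosedUnderLimitsOfShape.mk' (by
    rintro _ @⟨F, hlim, hF⟩
    exact isCoh_limit_pair X F hF)

instance : (PC X).IsClosedUnderFiniteProducts := ObjectProperty.IsClosedUnderFiniteProducts.mk'

noncomputable instance : Abelian (CohCat X) := inferInstance

instance : PreservesFiniteColimits (PC X).ι := by
  haveI : ∀ {A B : CohCat X} (f : A ⟶ B), PreservesColimit (parallelPair f 0) (PC X).ι :=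
    fun f => (PC X).preservesCokernels_ι f
  exact Functor.preservesFiniteColimits_of_preservesCokernels _

end Inst

variable {X : Scheme.{u}} (U : X.Opens)
  (hres : ∀ M : X.Modules, Coh.IsCoh M → Coh.IsCoh ((Scheme.Modules.restrictFunctor U.ι).obj M))

/-- the restriction functor on coherent modules -/
noncomputable abbrev Lc : CohCat X ⥤ CohCat (↑U : Scheme.{u}) :=
  ObjectProperty.lift (PC (↑U : Scheme.{u})) ((PC X).ι ⋙ Scheme.Modules.restrictFunctor U.ι)
    (fun M => hres M.obj M.property)

/-- the class of morphisms inverted by restriction -/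
abbrev Wc : MorphismProperty (CohCat X) := WR (Lc U hres)

theorem Wc_iff {A B : CohCat X} (f : A ⟶ B) :
    Wc U hres f ↔ IsIso ((Scheme.Modules.restrictFunctor U.ι).map f.hom) := by
  change IsIso ((Lc U hres).map f) ↔ _
  rw [← isIso_iff_of_reflects_iso ((Lc U hres).map f) (PC (↑U : Scheme.{u})).ι]
  rfl

theorem W_eq : (fun (A B : CohCat X) (f : A ⟶ B) =>
      CohB1.support (kernel f.hom) ⊆ (↑U : Set X)ᶜ ∧ CohB1.support (cokernel f.hom) ⊆ (↑U : Set X)ᶜ) =
    Wc U hres := by
  ext A B f
  rw [Wc_iff]
  exact (Groth.Agent.S17647.isIso_restrict_map_iff U f.hom).symm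

instance [IsLocallyNoetherian X] : PreservesFiniteColimits (Lc U hres) := by
  haveI : PreservesFiniteColimits (Lc U hres ⋙ (PC (↑U : Scheme.{u})).ι) :=
    (inferInstance : PreservesFiniteColimits ((PC X).ι ⋙ Scheme.Modules.restrictFunctor U.ι))
  exact ⟨fun J _ _ => preservesColimitsOfShape_of_reflects_of_preserves (Lc U hres)
    (PC (↑U : Scheme.{u})).ι⟩

theorem essSurj_Lc [IsNoetherian X] : (Lc U hres).EssSurj := by
  refine ⟨fun G => ?_⟩
  have hX : ∀ x : X, ∃ V : X.Opens, x ∈ V ∧ TopologicalSpace.NoetherianSpace (V : Set X) :=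
    fun x => ⟨⊤, trivial, inferInstance⟩
  haveI : Coh.IsQCoh G.obj := G.property.1
  obtain ⟨G', hq, hft, ⟨e⟩⟩ := Groth.Agent.S2252.result hX U G.obj G.property.2
  exact ⟨⟨G', ⟨hq, hft⟩⟩, ⟨(PC (↑U : Scheme.{u})).isoMk e⟩⟩

theorem hfull_Lc [IsNoetherian X] (A B : CohCat X) (β : (Lc U hres).obj A ⟶ (Lc U hres).obj B) :
    ∃ (H : CohCat X) (p₁ : H ⟶ A) (p₂ : H ⟶ B),
      IsIso ((Lc U hres).map p₁) ∧ (Lc U hres).map p₂ = (Lc U hres).map p₁ ≫ β := by
  haveI : A.obj.IsQuasicoherent := A.property.1
  haveI : B.obj.IsQuasicoherent := B.property.1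
  obtain ⟨H, p₁, p₂, hq, h1, h2, hm⟩ := exists_graph U.ι A.obj B.obj β.hom
  have hAB : Coh.IsCoh (A.obj ⊞ B.obj : X.Modules) := (cohP X).prop_biprod A.property B.property
  haveI : (A.obj ⊞ B.obj : X.Modules).IsQuasicoherent := hAB.1
  haveI : SheafOfModules.IsFiniteType (R := X.ringCatSheaf) (A.obj ⊞ B.obj : X.Modules) := hAB.2
  have hH : Coh.IsCoh H := ⟨hq, isFiniteType_of_mono (biprod.lift p₁ p₂)⟩
  refine ⟨⟨H, hH⟩, ObjectProperty.homMk p₁, ObjectProperty.homMk p₂, ?_, ?_⟩
  · rw [← isIso_iff_of_reflects_iso _ (PC (↑U : Scheme.{u})).ι]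
    exact h1
  · apply (PC (↑U : Scheme.{u})).ι.map_injective
    rw [Functor.map_comp]
    exact h2

/-- the main result in terms of `Wc` -/
theorem main [IsNoetherian X] : (Lc U hres).IsLocalization (Wc U hres) := by
  haveI := essSurj_Lc U hres
  exact isLocalization_of_graph (Lc U hres) (hfull_Lc U hres)


/-- Let X be a Noetherian scheme, Z ⊆ X a closed subset and U = X ∖ Z. Then restriction to U induces an
equivalence between the quotient abelian category Coh(X)/Coh_Z(X) (coherent modules modulo those
supported in Z) and Coh(U): the restriction functor Coh(X) ⥤ Coh(U) is a localization functor for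
the class of morphisms of coherent O_X-modules whose kernel and cokernel (taken in O_X-modules) have
support contained in Z. The hypothesis that restriction to U preserves coherence always holds and is
carried only to form the functor between the full subcategories. (The published statement is about
coherent sheaves twisted by a class in the second etale cohomology group of the units of the
structure sheaf; this row is its case of the trivial class, ordinary coherent sheaves.) -/
theorem result (X : Scheme.{u}) [IsNoetherian X]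
    (U : X.Opens)
    (hres : ∀ M : X.Modules, Coh.IsCoh M → Coh.IsCoh ((Scheme.Modules.restrictFunctor U.ι).obj M)) :
    (ObjectProperty.lift (fun N : (↑U : Scheme.{u}).Modules => Coh.IsCoh N)
        (ObjectProperty.ι (fun M : X.Modules => Coh.IsCoh M) ⋙ Scheme.Modules.restrictFunctor U.ι)
        (fun M => hres M.obj M.property)).IsLocalization
      (fun (A B : ObjectProperty.FullSubcategory (fun M : X.Modules => Coh.IsCoh M)) (f : A ⟶ B) =>
        CohB1.support (kernel f.hom) ⊆ (↑U : Set X)ᶜ ∧
          CohB1.support (cokernel f.hom) ⊆ (↑U : Set X)ᶜ) := by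
  rw [W_eq U hres]
  exact main U hres

end Groth.Agent.S13987
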