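import Groth.Statements.S13988
import Mathlib
import Groth.Agent.Lib.Helper20CohGab
import Groth.Agent.Lib.Helper13ModAffine

set_option autoImplicit false
universe u
open CategoryTheory AlgebraicGeometry
open CohGab

namespace Groth.Agent.S13988

open Groth.Agent.Lib.Helper20.CohGab Groth.Agent.Lib.Helper4.Dev Opposite CategoryTheory.Limits
  Groth.Agent.Lib.Helper23.FinType Groth.Agent.Lib.Helper23.QCohLocal

abbrev CohCat (X : Scheme.{u}) := ObjectProperty.FullSubcategory (fun M : X.Modules => Coh.IsCoh M)

variable {X : Scheme.{u}}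

/-- naturality on sections -/
theorem nat_app (φ : 𝟭 (CohCat X) ⟶ 𝟭 (CohCat X)) {M N : CohCat X} (f : M ⟶ N) (U : X.Opens) (m : Γ(M.obj, U)) :
    (φ.app N).hom.app U (f.hom.app U m) = f.hom.app U ((φ.app M).hom.app U m) := by
  have h := φ.naturality f
  have h2 : f.hom ≫ (φ.app N).hom = (φ.app M).hom ≫ f.hom := congrArg (fun g => g.hom) h
  exact congrArg (fun g : M.obj ⟶ N.obj => g.app U m) h2

/-- the structure sheaf as an object of Coh -/
noncomputable def Oobj (X : Scheme.{u}) : CohCat X := ⟨Coh.structureModule X, isCoh_structureModule X⟩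

noncomputable def rOf (φ : 𝟭 (CohCat X) ⟶ 𝟭 (CohCat X)) : Γ(X, ⊤) :=
  (φ.app (Oobj X)).hom.app ⊤ (show Γ(Coh.structureModule X, ⊤) from (1 : Γ(X, ⊤)))

theorem app_O (φ : 𝟭 (CohCat X) ⟶ 𝟭 (CohCat X)) (U : X.Opens) (a : Γ(X, U)) :
    (φ.app (Oobj X)).hom.app U (show Γ(Coh.structureModule X, U) from a) =
      (show Γ(Coh.structureModule X, U) from a * X.presheaf.map (homOfLE (le_top : U ≤ ⊤)).op (rOf φ)) := by
  let one : Γ(Coh.structureModule X, ⊤) := (1 : Γ(X, ⊤))
  let oneU : Γ(Coh.structureModule X, U) :=
    (Coh.structureModule X).presheaf.map (homOfLE (le_top : U ≤ ⊤)).op one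
  have h0 : oneU = (show Γ(Coh.structureModule X, U) from (1 : Γ(X, U))) := by
    change (show Γ(Coh.structureModule X, U) from X.presheaf.map (homOfLE (le_top : U ≤ ⊤)).op (1 : Γ(X, ⊤))) = _
    rw [map_one]
  have h1 : (show Γ(Coh.structureModule X, U) from a) = a • oneU := by
    rw [h0]
    exact (mul_one a).symm
  have h2 : (φ.app (Oobj X)).hom.app U (a • oneU) = a • (φ.app (Oobj X)).hom.app U oneU :=
    Scheme.Modules.Hom.app_smul _ a oneU
  have h3 : (φ.app (Oobj X)).hom.app U oneU =
      (Coh.structureModule X).presheaf.map (homOfLE (le_top : U ≤ ⊤)).op ((φ.app (Oobj X)).hom.app ⊤ one) :=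
    hom_app_map _ _ one
  exact (congrArg (fun z => (φ.app (Oobj X)).hom.app U z) h1).trans
    (h2.trans (congrArg (fun z => a • z) h3))

theorem app_affine [IsNoetherian X] (φ : 𝟭 (CohCat X) ⟶ 𝟭 (CohCat X)) (M : CohCat X) (U : X.Opens)
    (hU : IsAffineOpen U) (m : Γ(M.obj, U)) :
    (φ.app M).hom.app U m = X.presheaf.map (homOfLE (le_top : U ≤ ⊤)).op (rOf φ) • m := by
  haveI : IsLocallyNoetherian X := inferInstance
  set ρ := X.presheaf.map (homOfLE (le_top : U ≤ ⊤)).op (rOf φ) with hρ
  haveI : M.obj.IsQuasicoherent := M.property.1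
  haveI : SheafOfModules.IsFiniteType (R := X.ringCatSheaf) M.obj := M.property.2
  haveI : (Coh.structureModule X).IsQuasicoherent := isQuasicoherent_structureModule X
  haveI : SheafOfModules.IsFiniteType (R := X.ringCatSheaf) (Coh.structureModule X) :=
    (isCoh_structureModule X).2
  let h : Γ(Coh.structureModule X, U) →ₗ[Γ(X, U)] Γ(M.obj, U) :=
    { toFun := fun a => (show Γ(X, U) from a) • m
      map_add' := fun a b => add_smul _ _ _
      map_smul' := fun r a => mul_smul _ _ _ }
  obtain ⟨H, p₁, p₂, hH, hbij, hcomp, hmono⟩ := exists_graph_of_linear hU (Coh.structureModule X) M.obj h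
  haveI := hmono
  haveI : (Coh.structureModule X ⊞ M.obj : X.Modules).IsQuasicoherent := isQuasicoherent_biprod _ _
  haveI : SheafOfModules.IsFiniteType (R := X.ringCatSheaf) (Coh.structureModule X ⊞ M.obj : X.Modules) :=
    isFiniteType_biprod' _ _
  have hHc : Coh.IsCoh H := ⟨hH, isFiniteType_of_mono (biprod.lift p₁ p₂)⟩
  let Hobj : CohCat X := ⟨H, hHc⟩
  let P₁ : Hobj ⟶ Oobj X := ObjectProperty.homMk p₁
  let P₂ : Hobj ⟶ M := ObjectProperty.homMk p₂
  have hφH : ∀ y : Γ(H, U), (φ.app Hobj).hom.app U y = ρ • y := by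
    intro y
    apply hbij.1
    have e1 := nat_app φ P₁ U y
    change (φ.app (Oobj X)).hom.app U (p₁.app U y) = p₁.app U ((φ.app Hobj).hom.app U y) at e1
    rw [← e1, Scheme.Modules.Hom.app_smul]
    have e2 := app_O φ U (show Γ(X, U) from p₁.app U y)
    refine e2.trans ?_
    exact mul_comm (show Γ(X, U) from p₁.app U y) ρ
  obtain ⟨x, hx⟩ := hbij.2 (show Γ(Coh.structureModule X, U) from (1 : Γ(X, U)))
  have hp₂x : p₂.app U x = m := by
    rw [hcomp, hx]
    exact one_smul _ m
  have e3 := nat_app φ P₂ U x
  change (φ.app M).hom.app U (p₂.app U x) = p₂.app U ((φ.app Hobj).hom.app U x) at e3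
  rw [hp₂x, hφH, Scheme.Modules.Hom.app_smul, hp₂x] at e3
  exact e3

theorem app_all [IsNoetherian X] (φ : 𝟭 (CohCat X) ⟶ 𝟭 (CohCat X)) (M : CohCat X) (U : X.Opens)
    (m : Γ(M.obj, U)) :
    (φ.app M).hom.app U m = X.presheaf.map (homOfLE (le_top : U ≤ ⊤)).op (rOf φ) • m := by
  apply Groth.Agent.Helper13ModAffine.section_ext_affine M.obj
  intro W hW hle
  rw [← hom_app_map, app_affine φ M W hW]
  have h1 := M.obj.val.map_smul (homOfLE hle).op (X.presheaf.map (homOfLE (le_top : U ≤ ⊤)).op (rOf φ)) m
  refine Eq.trans ?_ h1.symm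
  congr 1
  change X.presheaf.map (homOfLE (le_top : W ≤ ⊤)).op (rOf φ) =
    X.presheaf.map (homOfLE hle).op (X.presheaf.map (homOfLE (le_top : U ≤ ⊤)).op (rOf φ))
  rw [← ConcreteCategory.comp_apply, ← Functor.map_comp]
  rfl


/-- Let X be a Noetherian scheme. The canonical ring map from the global functions Γ(X, O_X) to the
centre of the category of coherent O_X-modules (the endomorphisms of its identity functor), sending
r to multiplication by r, is bijective: for every natural endomorphism φ of the identity functor of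
Coh(X) there is a unique global function r such that, for every coherent module M, φ_M is
multiplication by r (compared as maps of the underlying abelian sheaves). (The published result
builds a ringed space from Coh(X) — irreducible Serre subcategories of finite type, with the centres
of the categories Coh(U) as structure sheaf — and proves it isomorphic to X, for coherent sheaves
twisted by a class in the cohomological Brauer group and with X over a field, a hypothesis its proof
does not use; this row is the ring-theoretic content of that isomorphism on global sections, for the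
trivial class; applied to the open subschemes of X it gives the statement on every open.) -/
theorem result (X : Scheme.{u}) [IsNoetherian X]
    (φ : 𝟭 (ObjectProperty.FullSubcategory (fun M : X.Modules => Coh.IsCoh M)) ⟶ 𝟭 (ObjectProperty.FullSubcategory (fun M : X.Modules => Coh.IsCoh M))) :
    ∃! r : Coh.Γtop X, ∀ M : ObjectProperty.FullSubcategory (fun M : X.Modules => Coh.IsCoh M),
      (SheafOfModules.toSheaf X.ringCatSheaf).map (φ.app M).hom = Coh.smulAb M.obj r := by
  haveI : IsLocallyNoetherian X := inferInstance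
  refine ⟨rOf φ, ?_, ?_⟩
  · intro M
    ext U m
    rw [Coh.smulAb_app]
    exact app_all φ M U.unop m
  · intro r' hr'
    have h := hr' (Oobj X)
    have h2 := congrArg (fun f => f.hom.app (op ⊤) (show Γ(Coh.structureModule X, ⊤) from (1 : Γ(X, ⊤)))) h
    have h3 : (Coh.smulAb (Oobj X).obj r').hom.app (op ⊤) (show Γ(Coh.structureModule X, ⊤) from (1 : Γ(X, ⊤))) =
        (show Γ(Coh.structureModule X, ⊤) from r') := by
      rw [Coh.smulAb_app]
      have : Coh.resTop X (op ⊤) r' = r' := by
        change (X.presheaf.map (𝟙 _)) r' = r'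
        rw [X.presheaf.map_id]
        rfl
      rw [this]
      exact mul_one r'
    exact (h3.symm.trans h2.symm)

end Groth.Agent.S13988
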