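import Groth.Statements.S1399
import Groth.Agent.Lib.Helper2IndQA

set_option autoImplicit false
universe u
open FlatMor

namespace Groth.Agent.S1399

open AlgebraicGeometry CategoryTheory Limits in
/-- If g ∘ f is ind-quasi-affine then so is f. -/
theorem result {X Y Z : Scheme.{u}} (f : X ⟶ Y) (g : Y ⟶ Z) (h : MoreMor.IsIndQuasiAffineHom (f ≫ g)) :
    MoreMor.IsIndQuasiAffineHom f := by
  rw [Groth.Agent.Lib.Helper2.isIndQuasiAffineHom_iff] at h ⊢
  intro V hV U hUV hU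
  have : CompactSpace U.toScheme := isCompact_iff_compactSpace.mp hU
  refine Groth.Agent.Lib.Helper2.isQuasiAffine_opens_of_cover U hU fun x hx ↦ ?_
  obtain ⟨_, ⟨W, hW, rfl⟩, hxW, -⟩ := Z.isBasis_affineOpens.exists_subset_of_mem_open
    (Set.mem_univ (g (f x))) isOpen_univ
  obtain ⟨r, hr1, hr2⟩ := hV.exists_basicOpen_le (V := g ⁻¹ᵁ W) ⟨f x, hxW⟩ (hUV hx)
  let k : U.toScheme ⟶ V.toScheme := f.resLE V U hUV
  let r' : Γ(V.toScheme, ⊤) := V.topIso.inv r
  have hpre : k ⁻¹ᵁ (V.toScheme.basicOpen r') = U.toScheme.basicOpen (k.appTop r') :=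
    Scheme.preimage_basicOpen_top k r'
  have himg : V.ι ''ᵁ V.toScheme.basicOpen r' = Y.basicOpen r :=
    V.ι_image_basicOpen_topIso_inv r
  refine ⟨k.appTop r', ⟨⟨x, hx⟩, ?_, rfl⟩, ?_⟩
  · rw [← hpre]
    have h1 : V.ι (k ⟨x, hx⟩) = f x := congr($(Scheme.Hom.resLE_comp_ι f hUV) ⟨x, hx⟩)
    have h2 : V.ι (k ⟨x, hx⟩) ∈ V.ι ''ᵁ V.toScheme.basicOpen r' := by
      rw [himg, h1]; exact hr2
    obtain ⟨y, hy, hyx⟩ := h2
    have hyk : y = k ⟨x, hx⟩ := V.ι.isOpenEmbedding.injective hyx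
    show k ⟨x, hx⟩ ∈ V.toScheme.basicOpen r'
    exact hyk ▸ hy
  · apply h W hW
    · rintro _ ⟨y, hy, rfl⟩
      rw [← hpre] at hy
      have h1 : V.ι (k y) = f (U.ι y) := congr($(Scheme.Hom.resLE_comp_ι f hUV) y)
      have h2 : f (U.ι y) ∈ Y.basicOpen r := by
        rw [← himg, ← h1]; exact ⟨k y, hy, rfl⟩
      exact hr1 h2
    · have h1 : IsCompact (U.toScheme.basicOpen (k.appTop r') : Set U.toScheme) := by
        simpa using (isRetrocompact_basicOpen (k.appTop r')) isCompact_univ isOpen_univ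
      simpa using h1.image U.ι.continuous

end Groth.Agent.S1399
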