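import Groth.Statements.S13990
import Mathlib
import Groth.Agent.Lib.Helper20CohGab

set_option autoImplicit false
universe u
open CategoryTheory AlgebraicGeometry
open CohGab

namespace Groth.Agent.S13990

open Groth.Agent.Lib.Helper20.CohGab Groth.Agent.Lib.Helper4.Dev


/-- Let X be a Noetherian scheme. Then Z ↦ Coh_Z(X), the coherent O_X-modules with support contained in
Z, is a bijection from the closed subsets of X onto the Serre subcategories of finite type of Coh(X)
(those generated, as Serre subcategories, by one object). Spelled out with Serre subcategories of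
Coh(X) as properties P of O_X-modules such that in a short exact sequence of coherent modules the
middle term has P iff both outer terms do: (a) for every closed Z, 'support ⊆ Z' is such a property
and there is a coherent F supported in Z such that every such property containing F contains all
coherent modules supported in Z; (b) for every such property P generated on coherent modules by one
coherent module F, there is exactly one closed Z with P(M) ⟺ Supp(M) ⊆ Z for all coherent M. (The
published statement is about coherent sheaves twisted by a class in the second etale cohomology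
group of the units of the structure sheaf; this row is its case of the trivial class.) -/
theorem result (X : Scheme.{u}) [IsNoetherian X] :
    (∀ Z : TopologicalSpace.Closeds X,
      (∀ S : ShortComplex X.Modules, S.ShortExact → Coh.IsCoh S.X₁ → Coh.IsCoh S.X₂ →
          Coh.IsCoh S.X₃ → (CohB1.support S.X₂ ⊆ (↑Z : Set X) ↔
            CohB1.support S.X₁ ⊆ (↑Z : Set X) ∧ CohB1.support S.X₃ ⊆ (↑Z : Set X))) ∧
      ∃ F : X.Modules, Coh.IsCoh F ∧ CohB1.support F ⊆ (↑Z : Set X) ∧
        ∀ Q : ObjectProperty X.Modules, (∀ S : ShortComplex X.Modules, S.ShortExact → Coh.IsCoh S.X₁ → Coh.IsCoh S.X₂ →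
          Coh.IsCoh S.X₃ → (Q S.X₂ ↔ Q S.X₁ ∧ Q S.X₃)) → Q F →
          ∀ M : X.Modules, Coh.IsCoh M → CohB1.support M ⊆ (↑Z : Set X) → Q M) ∧
    (∀ P : ObjectProperty X.Modules, (∀ S : ShortComplex X.Modules, S.ShortExact → Coh.IsCoh S.X₁ → Coh.IsCoh S.X₂ →
          Coh.IsCoh S.X₃ → (P S.X₂ ↔ P S.X₁ ∧ P S.X₃)) →
      (∃ F : X.Modules, Coh.IsCoh F ∧ P F ∧
        ∀ Q : ObjectProperty X.Modules, (∀ S : ShortComplex X.Modules, S.ShortExact → Coh.IsCoh S.X₁ → Coh.IsCoh S.X₂ →
          Coh.IsCoh S.X₃ → (Q S.X₂ ↔ Q S.X₁ ∧ Q S.X₃)) → Q F →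
          ∀ M : X.Modules, Coh.IsCoh M → P M → Q M) →
      ∃! Z : TopologicalSpace.Closeds X, ∀ M : X.Modules, Coh.IsCoh M →
        (P M ↔ CohB1.support M ⊆ (↑Z : Set X))) := by
  haveI : IsLocallyNoetherian X := inferInstance
  refine ⟨fun Z => ⟨isSerre_support (Z : Set X), ?_⟩, ?_⟩
  · obtain ⟨F, hF, hsF⟩ := exists_isCoh_support_eq Z
    refine ⟨F, hF, hsF.le, fun Q hQ hQF M hM hsM => ?_⟩
    exact mem_of_support_subset hQ hF hQF hM (hsM.trans hsF.ge)
  · rintro P hP ⟨F, hF, hPF, hgen⟩
    refine ⟨⟨CohB1.support F, isClosed_support F hF⟩, ?_, ?_⟩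
    · intro M hM
      constructor
      · intro hPM
        exact hgen (fun N : X.Modules => CohB1.support N ⊆ CohB1.support F)
          (isSerre_support (CohB1.support F)) le_rfl M hM hPM
      · intro hsM
        exact mem_of_support_subset hP hF hPF hM hsM
    · intro Z' hZ'
      apply TopologicalSpace.Closeds.ext
      apply Set.Subset.antisymm
      · obtain ⟨M', hM', hsM'⟩ := exists_isCoh_support_eq Z'
        have hPM' : P M' := (hZ' M' hM').2 hsM'.le
        have := hgen (fun N : X.Modules => CohB1.support N ⊆ CohB1.support F)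
          (isSerre_support (CohB1.support F)) le_rfl M' hM' hPM'
        rw [← hsM']
        exact this
      · exact (hZ' F hF).1 hPF

end Groth.Agent.S13990
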