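import Groth.Statements.S13991
import Mathlib
import Groth.Agent.Lib.Helper20CohGab

set_option autoImplicit false
universe u
open CategoryTheory AlgebraicGeometry
open CohGab

namespace Groth.Agent.S13991

open Groth.Agent.Lib.Helper20.CohGab Groth.Agent.Lib.Helper4.Dev


/-- Let X be a Noetherian scheme and Z ⊆ X a closed subset. Then Z is irreducible (or empty) if and only
if Coh_Z(X), the coherent O_X-modules supported in Z, is an irreducible Serre subcategory of Coh(X),
i.e. it is not generated as a Serre subcategory by two Serre subcategories properly contained in it: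
whenever J₁, J₂ are Serre classes on coherent modules (middle term of a short exact sequence of
coherent modules belongs iff both outer terms do), both contained in Coh_Z, such that every Serre
class on coherent modules containing J₁ and J₂ contains Coh_Z, then J₁ or J₂ contains Coh_Z.
Consequently the points of X correspond to the irreducible Serre subcategories of finite type other
than the zero subcategory. (The published statement says 'Z is irreducible iff Coh_Z is irreducible'
and deduces a bijection between the points of X and all irreducible Serre subcategories of finite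
type; the zero subcategory Coh_∅ is irreducible in this sense while ∅ is not an irreducible space,
so irreducibility of Z is read here as 'irreducible or empty'. The published statement is also about
coherent sheaves twisted by a class in the second etale cohomology group of the units of the
structure sheaf; this row is its case of the trivial class.) -/
theorem result (X : Scheme.{u}) [IsNoetherian X]
    (Z : TopologicalSpace.Closeds X) :
    IsPreirreducible (↑Z : Set X) ↔
    ∀ J₁ J₂ : ObjectProperty X.Modules, (∀ S : ShortComplex X.Modules, S.ShortExact → Coh.IsCoh S.X₁ → Coh.IsCoh S.X₂ →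
        Coh.IsCoh S.X₃ → (J₁ S.X₂ ↔ J₁ S.X₁ ∧ J₁ S.X₃)) → (∀ S : ShortComplex X.Modules, S.ShortExact → Coh.IsCoh S.X₁ → Coh.IsCoh S.X₂ →
        Coh.IsCoh S.X₃ → (J₂ S.X₂ ↔ J₂ S.X₁ ∧ J₂ S.X₃)) →
      (∀ M : X.Modules, Coh.IsCoh M → J₁ M → CohB1.support M ⊆ (↑Z : Set X)) →
      (∀ M : X.Modules, Coh.IsCoh M → J₂ M → CohB1.support M ⊆ (↑Z : Set X)) →
      (∀ Q : ObjectProperty X.Modules, (∀ S : ShortComplex X.Modules, S.ShortExact → Coh.IsCoh S.X₁ → Coh.IsCoh S.X₂ →
        Coh.IsCoh S.X₃ → (Q S.X₂ ↔ Q S.X₁ ∧ Q S.X₃)) →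
        (∀ M : X.Modules, Coh.IsCoh M → J₁ M → Q M) → (∀ M : X.Modules, Coh.IsCoh M → J₂ M → Q M) →
        ∀ M : X.Modules, Coh.IsCoh M → CohB1.support M ⊆ (↑Z : Set X) → Q M) →
      (∀ M : X.Modules, Coh.IsCoh M → CohB1.support M ⊆ (↑Z : Set X) → J₁ M) ∨
        (∀ M : X.Modules, Coh.IsCoh M → CohB1.support M ⊆ (↑Z : Set X) → J₂ M) := by
  haveI : IsLocallyNoetherian X := inferInstance
  constructor
  · intro hpre J₁ J₂ hJ₁ hJ₂ hs₁ hs₂ hgen
    obtain ⟨FZ, hFZ, hsFZ⟩ := exists_isCoh_support_eq Z
    by_cases hne : (Z : Set X).Nonempty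
    · -- irreducible case: generic point
      have hirr : IsIrreducible (Z : Set X) := ⟨hne, hpre⟩
      obtain ⟨ξ, hξ⟩ := QuasiSober.sober hirr Z.2
      have hcl : closure {ξ} = (Z : Set X) := hξ.def
      have hξZ : ξ ∈ (Z : Set X) := by rw [← hcl]; exact subset_closure rfl
      -- some coherent module in `J₁` or `J₂` has `ξ` in its support
      have hex : (∃ M₀ : X.Modules, Coh.IsCoh M₀ ∧ J₁ M₀ ∧ ξ ∈ CohB1.support M₀) ∨
          (∃ M₀ : X.Modules, Coh.IsCoh M₀ ∧ J₂ M₀ ∧ ξ ∈ CohB1.support M₀) := by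
        by_contra hcon
        push Not at hcon
        have hQ := hgen (fun N : X.Modules => CohB1.support N ⊆ ({ξ}ᶜ : Set X))
          (isSerre_support _) (fun M hM hJM x hx hxξ => hcon.1 M hM hJM (by rw [← Set.mem_singleton_iff.1 hxξ]; exact hx))
          (fun M hM hJM x hx hxξ => hcon.2 M hM hJM (by rw [← Set.mem_singleton_iff.1 hxξ]; exact hx))
          FZ hFZ hsFZ.le
        exact hQ (hsFZ.ge hξZ) rfl
      rcases hex with ⟨M₀, hM₀, hJM₀, hξM₀⟩ | ⟨M₀, hM₀, hJM₀, hξM₀⟩
      · left
        intro M hM hsM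
        refine mem_of_support_subset hJ₁ hM₀ hJM₀ hM (hsM.trans ?_)
        rw [← hcl]
        exact (isClosed_support M₀ hM₀).closure_subset_iff.2 (Set.singleton_subset_iff.2 hξM₀)
      · right
        intro M hM hsM
        refine mem_of_support_subset hJ₂ hM₀ hJM₀ hM (hsM.trans ?_)
        rw [← hcl]
        exact (isClosed_support M₀ hM₀).closure_subset_iff.2 (Set.singleton_subset_iff.2 hξM₀)
    · -- empty case
      have hemp : (Z : Set X) = ∅ := Set.not_nonempty_iff_eq_empty.1 hne
      have hex : (∃ M₀ : X.Modules, Coh.IsCoh M₀ ∧ J₁ M₀) ∨ (∃ M₀ : X.Modules, Coh.IsCoh M₀ ∧ J₂ M₀) := by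
        by_contra hcon
        push Not at hcon
        exact hgen (fun _ : X.Modules => False) (fun S _ _ _ _ => by simp)
          (fun M hM hJM => hcon.1 M hM hJM) (fun M hM hJM => hcon.2 M hM hJM) FZ hFZ hsFZ.le
      rcases hex with ⟨M₀, hM₀, hJM₀⟩ | ⟨M₀, hM₀, hJM₀⟩
      · left
        intro M hM hsM
        exact IsSerre.zero hJ₁ hM₀ hJM₀ (isZero_of_support_eq_empty M (Set.subset_empty_iff.1 (hemp ▸ hsM)))
      · right
        intro M hM hsM
        exact IsSerre.zero hJ₂ hM₀ hJM₀ (isZero_of_support_eq_empty M (Set.subset_empty_iff.1 (hemp ▸ hsM)))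
  · intro h
    by_contra hpre
    rw [isPreirreducible_iff_isClosed_union_isClosed] at hpre
    push Not at hpre
    obtain ⟨z₁, z₂, hz₁, hz₂, hsub, hn₁, hn₂⟩ := hpre
    obtain ⟨FZ, hFZ, hsFZ⟩ := exists_isCoh_support_eq Z
    have key := h (fun M : X.Modules => CohB1.support M ⊆ (Z : Set X) ∩ z₁)
      (fun M : X.Modules => CohB1.support M ⊆ (Z : Set X) ∩ z₂)
      (isSerre_support _) (isSerre_support _)
      (fun M _ hM => hM.trans Set.inter_subset_left) (fun M _ hM => hM.trans Set.inter_subset_left) ?_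
    · rcases key with k | k
      · exact hn₁ ((hsFZ.ge.trans (k FZ hFZ hsFZ.le)).trans Set.inter_subset_right)
      · exact hn₂ ((hsFZ.ge.trans (k FZ hFZ hsFZ.le)).trans Set.inter_subset_right)
    · intro Q hQ hQ₁ hQ₂ M hM hsM
      have hsuppc := isClosed_support M hM
      obtain ⟨S, hS, ⟨e⟩, hS₁, hS₃, hs₁, hs₃⟩ := Groth.Agent.S0049.result X M hM
        (CohB1.support M ∩ z₁) (CohB1.support M ∩ z₂) (hsuppc.inter hz₁) (hsuppc.inter hz₂) (by
          rw [← Set.inter_union_distrib_left]
          exact (Set.inter_eq_left.2 (hsM.trans hsub)).symm)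
      have hS₂ : Coh.IsCoh S.X₂ := isCoh_of_iso e.symm hM
      have hQ1 : Q S.X₁ := hQ₂ S.X₁ hS₁ (hs₁.trans (Set.inter_subset_inter_left _ hsM))
      have hQ3 : Q S.X₃ := hQ₁ S.X₃ hS₃ (hs₃.trans (Set.inter_subset_inter_left _ hsM))
      have hQ2 : Q S.X₂ := (hQ S hS hS₁ hS₂ hS₃).2 ⟨hQ1, hQ3⟩
      exact IsSerre.of_iso hQ e hS₂ hQ2

end Groth.Agent.S13991
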