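import Groth.Statements.S13992
import Groth.Agent.Lib.Helper8Planar

set_option autoImplicit false
universe u
open CategoryTheory
open CAlg

namespace Groth.Agent.S13992

/-- Let S be a regular local ring of Krull dimension two, f a non-zero element of S and R the quotient
of S by f, assumed reduced (the local ring of a reduced planar curve singularity). Let M and N be
finitely generated R-modules, each admitting a non-zero-divisor in the maximal ideal of R,
annihilated by ideals I and J respectively, where I + J contains a power of the maximal ideal. Then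
Ext²_R(M, N) = 0. (The published statement is global: Ext²(F, F') = 0 for torsion-free coherent
sheaves F and F' on a reduced projective curve over a characteristic-zero algebraically closed
field, supported on subcurves with no common irreducible component that meet only at points with
planar singularities; this row is the vanishing on stalks to which it reduces, stated over an
arbitrary two-dimensional regular local ring.) -/
theorem result (S : Type u) [CommRing S] [IsRegularLocalRing S] (hS : ringKrullDim S = 2) (f : S) (hf : f ≠ 0) (R : Type u) [CommRing R] [IsLocalRing R] [IsReduced R] (π : S →+* R) (hπ : Function.Surjective π) (hker : RingHom.ker π = Ideal.span {f}) (I J : Ideal R) (n : ℕ) (hIJ : IsLocalRing.maximalIdeal R ^ n ≤ I ⊔ J) (M N : Type u) [AddCommGroup M] [Module R M] [Module.Finite R M] [AddCommGroup N] [Module R N] [Module.Finite R N] (hI : I ≤ Module.annihilator R M) (hJ : J ≤ Module.annihilator R N) (x : R) (hx : x ∈ IsLocalRing.maximalIdeal R) (hxM : IsSMulRegular M x) (y : R) (hy : y ∈ IsLocalRing.maximalIdeal R) (hyN : IsSMulRegular N y) :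 Subsingleton (Abelian.Ext (ModuleCat.of R M) (ModuleCat.of R N) 2) := by
  obtain ⟨a, b, φ, p, hp, hrange, ⟨e⟩⟩ :=
    Groth.Agent.Lib.Helper8.Planar.exists_periodic S hS f hf R π hπ hker M x hx hxM
  let S1 : ShortComplex (ModuleCat.{u} R) :=
    ShortComplex.mk (ModuleCat.ofHom (LinearMap.ker p).subtype) (ModuleCat.ofHom p) (by
      ext k
      exact k.2)
  have hS1 : S1.ShortExact := by
    refine ShortComplex.ShortExact.mk' ?_ ?_ ?_
    · rw [ShortComplex.moduleCat_exact_iff_range_eq_ker]
      exact Submodule.range_subtype _
    · exact (ModuleCat.mono_iff_injective _).mpr (LinearMap.ker p).injective_subtype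
    · exact (ModuleCat.epi_iff_surjective _).mpr hp
  let φ' : (Fin a → R) →ₗ[R] LinearMap.ker p :=
    LinearMap.codRestrict (LinearMap.ker p) φ (fun t => by rw [← hrange]; exact ⟨t, rfl⟩)
  have hφ'surj : Function.Surjective φ' := by
    rintro ⟨k, hk⟩
    rw [← hrange] at hk
    obtain ⟨t, rfl⟩ := hk
    exact ⟨t, rfl⟩
  have hkerφ' : LinearMap.ker φ' = LinearMap.ker φ := LinearMap.ker_codRestrict _ _ _
  let S2 : ShortComplex (ModuleCat.{u} R) :=
    ShortComplex.mk (ModuleCat.ofHom (LinearMap.ker φ).subtype) (ModuleCat.ofHom φ') (by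
      apply ModuleCat.hom_ext
      apply LinearMap.ext
      intro k
      exact Subtype.ext (LinearMap.mem_ker.mp k.2))
  have hS2 : S2.ShortExact := by
    refine ShortComplex.ShortExact.mk' ?_ ?_ ?_
    · rw [ShortComplex.moduleCat_exact_iff_range_eq_ker]
      exact (Submodule.range_subtype _).trans hkerφ'.symm
    · exact (ModuleCat.mono_iff_injective _).mpr (LinearMap.ker φ).injective_subtype
    · exact (ModuleCat.epi_iff_surjective _).mpr hφ'surj
  have hP1 : Projective S1.X₂ :=
    (IsProjective.iff_projective (R := R) (Fin b → R)).mp inferInstance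
  have hP2 : Projective S2.X₂ :=
    (IsProjective.iff_projective (R := R) (Fin a → R)).mp inferInstance
  refine subsingleton_of_forall_eq 0 fun x₃ => ?_
  obtain ⟨x₁, rfl⟩ := Abelian.Ext.contravariant_sequence_exact₃ hS1 (ModuleCat.of R N) x₃
    (Abelian.Ext.eq_zero_of_projective _) (show 1 + 1 = 2 by rfl)
  obtain ⟨x₀, rfl⟩ := Abelian.Ext.contravariant_sequence_exact₃ hS2 (ModuleCat.of R N) x₁
    (Abelian.Ext.eq_zero_of_projective _) (show 1 + 0 = 1 by rfl)
  have hx₀ : x₀ = 0 := by
    obtain ⟨g, rfl⟩ := (Abelian.Ext.mk₀_bijective _ _).2 x₀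
    have hg : g.hom ∘ₗ (e : M →ₗ[R] LinearMap.ker φ) = 0 :=
      Groth.Agent.Lib.Helper8.Planar.hom_eq_zero hIJ hI hJ hy hyN _
    have hg0 : g = 0 := by
      ext k
      obtain ⟨z, rfl⟩ := e.surjective k
      exact LinearMap.congr_fun hg z
    rw [hg0, Abelian.Ext.mk₀_zero]
  rw [hx₀, Abelian.Ext.comp_zero, Abelian.Ext.comp_zero]

end Groth.Agent.S13992
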