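import Groth.Statements.S13993
import Mathlib

set_option autoImplicit false
universe u
open CategoryTheory
open CAlg

namespace Groth.Agent.S13993

open CategoryTheory.Abelian

section Abstract

variable {k : Type u} [Field k] {A : Type u} [CommRing A] [Algebra k A] (a b : A)

/-- the submodule `(b)` of `A`. -/
abbrev Kb : Submodule A A := Ideal.span {b}

/-- the sequence `0 → (b) → A → A/(b) → 0`. -/
noncomputable abbrev SS : ShortComplex (ModuleCat.{u} A) :=
  ModuleCat.shortComplexOfCompEqZero (Kb b).subtype (Kb b).mkQ (by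
    ext z
    exact (Submodule.Quotient.mk_eq_zero _).mpr z.2)

theorem SS_shortExact : (SS b).ShortExact :=
  ModuleCat.shortComplex_shortExact _ (LinearMap.exact_subtype_mkQ (Kb b))
    (Submodule.injective_subtype _) (Submodule.mkQ_surjective _)

/-- the generator of `(b)`. -/
def gen : Kb b := ⟨b, Ideal.subset_span rfl⟩

theorem hom_ext_Kb {N : ModuleCat.{u} A} (φ ψ : ModuleCat.of A (Kb b) ⟶ N)
    (h : φ.hom (gen b) = ψ.hom (gen b)) : φ = ψ := by
  ext ⟨z, hz⟩
  obtain ⟨t, rfl⟩ := Ideal.mem_span_singleton'.mp hz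
  have : (⟨t * b, hz⟩ : Kb b) = t • gen b := Subtype.ext rfl
  rw [this, map_smul, map_smul, h]

theorem smul_hom_apply {X Y : ModuleCat.{u} A} (c : k) (f : X ⟶ Y) (x : X) :
    (c • f).hom x = algebraMap k A c • f.hom x := rfl

variable (Y : ModuleCat.{u} A) (y₀ : Y) (hcyc : ∀ n : Y, ∃ r : A, r • y₀ = n)
  (hker : ∀ r : A, r • y₀ = 0 ↔ r ∈ Ideal.span {a})
  (hann : ∀ c : A, c * b = 0 → c ∈ Ideal.span {a})

include hker hann in
/-- the map `(b) → Y` sending `b` to `y₀`. -/
theorem exists_φ₁ : ∃ φ : ModuleCat.of A (Kb b) ⟶ Y, φ.hom (gen b) = y₀ := by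
  let π : A →ₗ[A] Kb b := (LinearMap.toSpanSingleton A A b).codRestrict (Kb b) (fun c => by
    show c • b ∈ Ideal.span {b}
    exact Ideal.mem_span_singleton'.mpr ⟨c, rfl⟩)
  have hπ : Function.Surjective π := by
    rintro ⟨z, hz⟩
    obtain ⟨t, rfl⟩ := Ideal.mem_span_singleton'.mp hz
    exact ⟨t, Subtype.ext rfl⟩
  let ψ : A →ₗ[A] Y := LinearMap.toSpanSingleton A Y y₀
  have hk : LinearMap.ker π ≤ LinearMap.ker ψ := by
    intro c hc
    have hc' : c * b = 0 := congrArg Subtype.val hc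
    rw [LinearMap.mem_ker]
    exact (hker c).mpr (hann c hc')
  let e := LinearMap.quotKerEquivOfSurjective π hπ
  refine ⟨ModuleCat.ofHom (((LinearMap.ker π).liftQ ψ hk).comp e.symm.toLinearMap), ?_⟩
  have h1 : e.symm (gen b) = Submodule.Quotient.mk 1 := by
    rw [LinearEquiv.symm_apply_eq]
    show gen b = π 1
    apply Subtype.ext
    show b = (1 : A) • b
    rw [one_smul]
  show ((LinearMap.ker π).liftQ ψ hk) (e.symm (gen b)) = _
  rw [h1]
  show (1 : A) • y₀ = y₀
  rw [one_smul]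

variable (hdec : ∀ r : A, ∃ c : k, r - algebraMap k A c ∈ Ideal.span {a, b})
  (h1 : (1 : A) ∉ Ideal.span {a, b})

include hcyc hker hann hdec h1 in
theorem finrank_ext_one :
    Module.finrank k (Ext.{u} (ModuleCat.of A (A ⧸ Ideal.span {b})) Y 1) = 1 := by
  obtain ⟨φ₁, hφ₁⟩ := exists_φ₁ a b Y y₀ hker hann
  have hS := SS_shortExact b
  -- the generator
  let v : Ext.{u} (SS b).X₃ Y 1 := hS.extClass.comp (Ext.mk₀ φ₁) (add_zero 1)
  rw [finrank_eq_one_iff']
  refine ⟨v, ?_, ?_⟩
  · -- `v ≠ 0`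
    intro hv
    obtain ⟨x₂, hx₂⟩ := Ext.contravariant_sequence_exact₁ hS Y (Ext.mk₀ φ₁) (by omega) hv
    obtain ⟨ψ, rfl⟩ := (Ext.mk₀_bijective _ _).2 x₂
    rw [Ext.mk₀_comp_mk₀] at hx₂
    have h2 := (Ext.mk₀_bijective _ _).1 hx₂
    let ψ' : A →ₗ[A] Y := ψ.hom
    have h3 : ψ' b = y₀ := by
      rw [← hφ₁, ← h2]
      rfl
    obtain ⟨r, hr⟩ := hcyc (ψ' 1)
    have h4 : ψ' b = (b * r) • y₀ := by
      have : (b : A) = b • (1 : A) := by rw [smul_eq_mul, mul_one]
      conv_lhs => rw [this]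
      rw [map_smul, ← hr, smul_smul]
    have h5 : (b * r - 1) • y₀ = 0 := by
      rw [sub_smul, one_smul, ← h4, h3, sub_self]
    rw [hker, Ideal.mem_span_singleton'] at h5
    obtain ⟨t, ht⟩ := h5
    apply h1
    have : (1 : A) = b * r - t * a := by rw [ht]; ring
    rw [this]
    refine Ideal.sub_mem _ (Ideal.mul_mem_right _ _ (Ideal.subset_span (by simp)))
      (Ideal.mul_mem_left _ _ (Ideal.subset_span (by simp)))
  · -- spanning
    intro w
    have hw0 : (Ext.mk₀ (SS b).g).comp w (zero_add 1) = 0 := by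
      have : Projective (SS b).X₂ := by
        show Projective (ModuleCat.of A A)
        exact (IsProjective.iff_projective A).mp inferInstance
      exact Ext.eq_zero_of_projective _
    obtain ⟨x₁, hx₁⟩ := Ext.contravariant_sequence_exact₃ hS Y w hw0 (by omega : 1 + 0 = 1)
    obtain ⟨φ, rfl⟩ := (Ext.mk₀_bijective _ _).2 x₁
    obtain ⟨r, hr⟩ := hcyc (φ.hom (gen b))
    obtain ⟨c, hc⟩ := hdec r
    rw [Ideal.mem_span_pair] at hc
    obtain ⟨s, t, hst⟩ := hc
    refine ⟨c, ?_⟩
    -- `φ = c • φ₁ + f ≫ ψ`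
    let ψ : (SS b).X₂ ⟶ Y := ModuleCat.ofHom (LinearMap.toSpanSingleton A Y (t • y₀))
    have hφ : φ = c • φ₁ + (SS b).f ≫ ψ := by
      apply hom_ext_Kb
      rw [ModuleCat.hom_add, LinearMap.add_apply, smul_hom_apply, hφ₁]
      have e2 : ((SS b).f ≫ ψ).hom (gen b) = b • (t • y₀) := rfl
      rw [e2, ← hr, smul_smul, ← add_smul, ← sub_eq_zero, ← sub_smul, hker,
        Ideal.mem_span_singleton']
      refine ⟨s, ?_⟩
      have : r = algebraMap k A c + (s * a + t * b) := by rw [hst]; ring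
      rw [this]
      ring
    rw [← hx₁, hφ, Ext.mk₀_add, Ext.comp_add, Ext.mk₀_smul, Ext.comp_smul,
      ← Ext.mk₀_comp_mk₀, ← Ext.comp_assoc_of_second_deg_zero, hS.extClass_comp, Ext.zero_comp,
      add_zero]

end Abstract

section Concrete

variable (k : Type u) [Field k]

open MvPowerSeries

theorem X_one_ne_zero : (X (1 : Fin 2) : MvPowerSeries (Fin 2) k) ≠ 0 := by
  intro h
  have h1 : coeff (Finsupp.single (1 : Fin 2) 1) (X (1 : Fin 2) : MvPowerSeries (Fin 2) k) = 1 :=
    coeff_index_single_self_X _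
  rw [h, map_zero] at h1
  exact zero_ne_one h1

theorem exists_decomp (q : MvPowerSeries (Fin 2) k) (hq : constantCoeff q = 0) :
    ∃ u w : MvPowerSeries (Fin 2) k, q = X 0 * u + X 1 * w := by
  classical
  let r : MvPowerSeries (Fin 2) k := fun m => if m 0 = 0 then coeff m q else 0
  have hr : ∀ m, coeff m r = if m 0 = 0 then coeff m q else 0 := fun m => rfl
  have h0 : (X (0 : Fin 2) : MvPowerSeries (Fin 2) k) ∣ q - r := by
    rw [X_dvd_iff]
    intro m hm
    rw [map_sub, hr, if_pos hm, sub_self]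
  have h1 : (X (1 : Fin 2) : MvPowerSeries (Fin 2) k) ∣ r := by
    rw [X_dvd_iff]
    intro m hm
    rw [hr]
    split_ifs with h
    · have : m = 0 := by
        ext i
        fin_cases i
        · exact h
        · exact hm
      rw [this]
      exact hq
    · rfl
  obtain ⟨u, hu⟩ := h0
  obtain ⟨w, hw⟩ := h1
  exact ⟨u, w, by rw [← hu, ← hw]; ring⟩

end Concrete

/-- Let k be a field and A = k[[x,y]]/(xy) the complete local ring of a node, with branch rings A/(y)
and A/(x) viewed as A-modules. Then the first Ext group Ext¹_A(A/(y), A/(x)) has dimension one over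
k. (The published statement is for the local ring at a node of a reduced curve over an algebraically
closed field of characteristic zero, a node being a point whose complete local ring is A; this row
states the case of the complete local ring A itself, over an arbitrary field.) -/
theorem result (k : Type u) [Field k] : Module.finrank k (Abelian.Ext (ModuleCat.of (MvPowerSeries (Fin 2) k ⧸ Ideal.span {(MvPowerSeries.X (0 : Fin 2) : MvPowerSeries (Fin 2) k) * MvPowerSeries.X (1 : Fin 2)}) ((MvPowerSeries (Fin 2) k ⧸ Ideal.span {(MvPowerSeries.X (0 : Fin 2) : MvPowerSeries (Fin 2) k) * MvPowerSeries.X (1 : Fin 2)}) ⧸ Ideal.span {Ideal.Quotient.mk (Ideal.span {(MvPowerSeries.X (0 : Fin 2) : MvPowerSeries (Fin 2) k) * MvPowerSeries.X (1 : Fin 2)}) (MvPowerSeries.X (1 : Fin 2))})) (ModuleCat.of (MvPowerSeries (Fin 2) k ⧸ Ideal.span {(MvPowerSeries.X (0 : Fin 2) : MvPowerSeries (Fin 2) k) * MvPowerSeries.X (1 : Fin 2)}) ((MvPowerSeries (Fin 2) k ⧸ Ideal.span {(MvPowerSeries.X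 (0 : Fin 2) : MvPowerSeries (Fin 2) k) * MvPowerSeries.X (1 : Fin 2)}) ⧸ Ideal.span {Ideal.Quotient.mk (Ideal.span {(MvPowerSeries.X (0 : Fin 2) : MvPowerSeries (Fin 2) k) * MvPowerSeries.X (1 : Fin 2)}) (MvPowerSeries.X (0 : Fin 2))})) 1) = 1 := by
  set I0 : Ideal (MvPowerSeries (Fin 2) k) :=
    Ideal.span {(MvPowerSeries.X (0 : Fin 2) : MvPowerSeries (Fin 2) k) * MvPowerSeries.X (1 : Fin 2)}
    with hI0
  set a : MvPowerSeries (Fin 2) k ⧸ I0 := Ideal.Quotient.mk I0 (MvPowerSeries.X (0 : Fin 2)) with ha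
  set b : MvPowerSeries (Fin 2) k ⧸ I0 := Ideal.Quotient.mk I0 (MvPowerSeries.X (1 : Fin 2)) with hb
  -- the augmentation
  let ε : (MvPowerSeries (Fin 2) k ⧸ I0) →+* k :=
    Ideal.Quotient.lift I0 MvPowerSeries.constantCoeff (by
      intro z hz
      obtain ⟨t, rfl⟩ := Ideal.mem_span_singleton'.mp hz
      rw [map_mul, map_mul, MvPowerSeries.constantCoeff_X, zero_mul, mul_zero])
  have hεa : ε a = 0 := by
    show MvPowerSeries.constantCoeff (MvPowerSeries.X (0 : Fin 2)) = 0
    exact MvPowerSeries.constantCoeff_X _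
  have hεb : ε b = 0 := by
    show MvPowerSeries.constantCoeff (MvPowerSeries.X (1 : Fin 2)) = 0
    exact MvPowerSeries.constantCoeff_X _
  refine finrank_ext_one (k := k) a b
    (ModuleCat.of _ ((MvPowerSeries (Fin 2) k ⧸ I0) ⧸ Ideal.span {a}))
    (Ideal.Quotient.mk _ 1) ?_ ?_ ?_ ?_ ?_
  · intro n
    obtain ⟨r, rfl⟩ := Ideal.Quotient.mk_surjective n
    refine ⟨r, ?_⟩
    show Ideal.Quotient.mk _ (r • 1) = _
    rw [smul_eq_mul, mul_one]
  · intro r
    have : r • (Ideal.Quotient.mk (Ideal.span {a}) 1) = Ideal.Quotient.mk _ r := by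
      show Ideal.Quotient.mk _ (r • 1) = _
      rw [smul_eq_mul, mul_one]
    rw [this, Ideal.Quotient.eq_zero_iff_mem]
  · intro c hc
    obtain ⟨p, rfl⟩ := Ideal.Quotient.mk_surjective c
    rw [hb, ← map_mul, Ideal.Quotient.eq_zero_iff_mem, hI0, Ideal.mem_span_singleton'] at hc
    obtain ⟨q, hq⟩ := hc
    have h2 : q * MvPowerSeries.X (0 : Fin 2) = p := by
      apply mul_right_cancel₀ (X_one_ne_zero k)
      rw [← hq]
      ring
    rw [← h2, map_mul]
    exact Ideal.mul_mem_left _ _ (Ideal.subset_span rfl)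
  · intro r
    obtain ⟨p, rfl⟩ := Ideal.Quotient.mk_surjective r
    refine ⟨MvPowerSeries.constantCoeff p, ?_⟩
    obtain ⟨u, w, huw⟩ := exists_decomp k (p - MvPowerSeries.C (MvPowerSeries.constantCoeff p))
      (by rw [map_sub, MvPowerSeries.constantCoeff_C, sub_self])
    have h3 : algebraMap k (MvPowerSeries (Fin 2) k ⧸ I0) (MvPowerSeries.constantCoeff p) =
        Ideal.Quotient.mk I0 (MvPowerSeries.C (MvPowerSeries.constantCoeff p)) := by
      rw [← Ideal.Quotient.mk_algebraMap, MvPowerSeries.algebraMap_apply]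
      rfl
    rw [h3, ← map_sub, huw, map_add, map_mul, map_mul, Ideal.mem_span_pair]
    exact ⟨Ideal.Quotient.mk I0 u, Ideal.Quotient.mk I0 w, by rw [ha, hb]; ring⟩
  · intro h
    have hle : Ideal.span {a, b} ≤ RingHom.ker ε := by
      rw [Ideal.span_le]
      rintro z (rfl | rfl)
      · exact hεa
      · exact hεb
    have := hle h
    rw [RingHom.mem_ker, map_one] at this
    exact one_ne_zero this

end Groth.Agent.S13993
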