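import Groth.Statements.S13994
import Groth.Agent.Lib.Helper8Planar2

set_option autoImplicit false
universe u
open CategoryTheory
open CAlg

namespace Groth.Agent.S13994

/-- Let S be a regular local ring of Krull dimension two, f a non-zero element of S and R the quotient
of S by f, assumed reduced. Let M and N be finitely generated R-modules, each admitting a
non-zero-divisor in the maximal ideal of R, annihilated by ideals I and J respectively, where I + J
contains a power of the maximal ideal. Then Tor₁^R(M, Hom_R(N, R)) = 0. (The published claim is made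
for the stalks at a common point of two subcurves without common component of a reduced projective
curve over a characteristic-zero algebraically closed field, the point being a planar singularity,
and the stalks of torsion-free sheaves supported on them; this row states it over an arbitrary
two-dimensional regular local ring. Tor is computed by resolving the second argument.) -/
theorem result (S : Type u) [CommRing S] [IsRegularLocalRing S] (hS : ringKrullDim S = 2) (f : S) (hf : f ≠ 0) (R : Type u) [CommRing R] [IsLocalRing R] [IsReduced R] (π : S →+* R) (hπ : Function.Surjective π) (hker : RingHom.ker π = Ideal.span {f}) (I J : Ideal R) (n : ℕ) (hIJ : IsLocalRing.maximalIdeal R ^ n ≤ I ⊔ J) (M N : Type u) [AddCommGroup M] [Module R M] [Module.Finite R M] [AddCommGroup N] [Module R N] [Module.Finite R N] (hI : I ≤ Module.annihilator R M) (hJ : J ≤ Module.annihilator R N) (x : R) (hx : x ∈ IsLocalRing.maximalIdeal R) (hxM : IsSMulRegular M x) (y : R) (hy : y ∈ IsLocalRing.maximalIdeal R) (hyN : IsSMulRegular N y) : Limits.IsZero (((Tor (ModuleCat.{u} R) 1).obj (ModuleCat.of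 R M)).obj (ModuleCat.of R (Module.Dual R N))) := by
  obtain ⟨a, b, φ, p, hp, hrange, ⟨e⟩⟩ :=
    Groth.Agent.Lib.Helper8.Planar.exists_periodic S hS f hf R π hπ hker M x hx hxM
  let S1 : ShortComplex (ModuleCat.{u} R) :=
    ShortComplex.mk (ModuleCat.ofHom (LinearMap.ker p).subtype) (ModuleCat.ofHom p) (by
      ext k
      exact k.2)
  have hS1 : S1.ShortExact := by
    refine ShortComplex.ShortExact.mk' ?_ ?_ ?_
    · rw [ShortComplex.moduleCat_exact_iff_range_eq_ker]
      exact Submodule.range_subtype _
    · exact (ModuleCat.mono_iff_injective _).mpr (LinearMap.ker p).injective_subtype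
    · exact (ModuleCat.epi_iff_surjective _).mpr hp
  have hHom : ∀ g : N →ₗ[R] LinearMap.ker φ, g = 0 := by
    intro g
    have h1 : (e.symm : LinearMap.ker φ →ₗ[R] M) ∘ₗ g = 0 :=
      Groth.Agent.Lib.Helper8.Planar.hom_eq_zero (I := J) (J := I) (by rwa [sup_comm]) hJ hI hx hxM _
    ext ν : 1
    have := LinearMap.congr_fun h1 ν
    simpa using this
  have hinjL := Groth.Agent.Lib.Helper8.Planar.lTensor_dual_injective φ N (LinearMap.ker p) hrange hHom
  have hinjR : Function.Injective (LinearMap.rTensor (Module.Dual R N) (LinearMap.ker p).subtype) :=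
    (LinearMap.lTensor_inj_iff_rTensor_inj _ _).mp hinjL
  obtain ⟨δ, w₁, w₂, h₁, h₂⟩ :=
    Groth.Agent.Helper13Tor.exists_δ S1 hS1 (ModuleCat.of R (Module.Dual R N)) 0
  have hflat : Module.Flat R S1.X₂ := inferInstanceAs (Module.Flat R (Fin b → R))
  have hzero := Groth.Agent.Helper13Tor.isZero_tor_of_flat (ModuleCat.of R (Module.Dual R N))
    S1.X₂ 1 (by omega)
  have hmonoδ : Mono δ := h₁.mono_g (hzero.eq_of_src _ _)
  have hmonof : Mono (((Tor (ModuleCat.{u} R) 0).map S1.f).app (ModuleCat.of R (Module.Dual R N))) :=
    (Groth.Agent.Helper13Tor.mono_tor_zero_map₁_iff S1.f _).mpr hinjR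
  have hδ0 : δ = 0 := by
    rw [← cancel_mono (((Tor (ModuleCat.{u} R) 0).map S1.f).app (ModuleCat.of R (Module.Dual R N))),
      w₂, Limits.zero_comp]
  exact Limits.IsZero.of_mono_eq_zero δ hδ0

end Groth.Agent.S13994
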