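import Groth.Statements.S13995
import Mathlib
-- import your own Groth.Agent.* helpers here

set_option autoImplicit false
universe u
open CAlg

namespace Groth.Agent.S13995

/-- Let R be a reduced Noetherian ring, M a finitely generated R-module all of whose associated primes
are minimal primes of R and whose localization at each minimal prime p is one-dimensional over the
field R_p, and let g : M → Q be a surjection onto a finitely generated R-module Q all of whose
associated primes are minimal primes of R. Then the kernel of g is the intersection, over the
minimal primes p of R lying in the support of Q, of the kernels of the localization maps M → M_p.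
(The published statement is for a torsion-free coherent sheaf F of uniform rank one on a reduced
connected projective curve over a characteristic-zero algebraically closed field: its non-zero
torsion-free quotients are exactly the maximal torsion-free quotients F_D of the restrictions of F
to subcurves D; this row is the corresponding statement for modules over a reduced Noetherian ring,
a subcurve being a set of minimal primes, and identifies each torsion-free quotient with F_D for D
the set of generic points of its support.) -/
theorem result (R : Type u) [CommRing R] [IsNoetherianRing R] [IsReduced R] (M : Type u) [AddCommGroup M] [Module R M] [Module.Finite R M] (hM : associatedPrimes R M ⊆ minimalPrimes R) (hrk : ∀ p : PrimeSpectrum R, p.asIdeal ∈ minimalPrimes R → Module.finrank (Localization.AtPrime p.asIdeal) (LocalizedModule p.asIdeal.primeCompl M) = 1) (Q : Type u) [AddCommGroup Q] [Module R Q] [Module.Finite R Q] (hQ : associatedPrimes R Q ⊆ minimalPrimes R) (g : M →ₗ[R] Q) (hg : Function.Surjective g) : LinearMap.ker g = ⨅ p ∈ {p : PrimeSpectrum R | p.asIdeal ∈ minimalPrimes R ∧ p ∈ Module.support R Q}, LinearMap.ker (LocalizedModule.mkLinearMap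 p.asIdeal.primeCompl M) := by
  apply le_antisymm
  · refine le_iInf₂ fun p hp => ?_
    obtain ⟨hpmin, hpsupp⟩ := hp
    intro x hx
    rw [LinearMap.mem_ker] at hx ⊢
    have hpp : p.asIdeal.IsPrime := p.2
    have hdim : Ring.KrullDimLE 0 (Localization.AtPrime p.asIdeal) :=
      .of_isLocalization _ hpmin _
    let _ : Field (Localization.AtPrime p.asIdeal) :=
      Ring.KrullDimLE.isField_of_isReduced.toField
    set gp := LocalizedModule.map p.asIdeal.primeCompl g with hgp
    have hgps : Function.Surjective gp := LocalizedModule.map_surjective _ g hg
    have hQnt : Nontrivial (LocalizedModule p.asIdeal.primeCompl Q) :=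
      (Module.mem_support_iff).mp hpsupp
    have h1 := hrk p hpmin
    have hfinM : Module.Finite (Localization.AtPrime p.asIdeal)
        (LocalizedModule p.asIdeal.primeCompl M) :=
      Module.finite_of_finrank_pos (by rw [h1]; exact Nat.one_pos)
    have hfinQ : Module.Finite (Localization.AtPrime p.asIdeal)
        (LocalizedModule p.asIdeal.primeCompl Q) := Module.Finite.of_surjective gp hgps
    have hQpos : 0 < Module.finrank (Localization.AtPrime p.asIdeal)
        (LocalizedModule p.asIdeal.primeCompl Q) := Module.finrank_pos
    have hrn := LinearMap.finrank_range_add_finrank_ker gp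
    rw [LinearMap.range_eq_top.mpr hgps, finrank_top, h1] at hrn
    change Module.finrank (Localization.AtPrime p.asIdeal)
      (LocalizedModule p.asIdeal.primeCompl Q) +
      Module.finrank (Localization.AtPrime p.asIdeal) (LinearMap.ker gp) = 1 at hrn
    have hker0 : Module.finrank (Localization.AtPrime p.asIdeal) (LinearMap.ker gp) = 0 := by omega
    have hkerbot : LinearMap.ker gp = ⊥ := Submodule.finrank_eq_zero.mp hker0
    have h2 : gp (LocalizedModule.mkLinearMap p.asIdeal.primeCompl M x) = 0 := by
      rw [hgp, LocalizedModule.mkLinearMap_apply, LocalizedModule.map_mk, hx,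
        LocalizedModule.zero_mk]
    have h3 : LocalizedModule.mkLinearMap p.asIdeal.primeCompl M x ∈ LinearMap.ker gp := h2
    rw [hkerbot, Submodule.mem_bot] at h3
    exact h3
  · intro x hx
    rw [LinearMap.mem_ker]
    by_contra hgx
    obtain ⟨P, hP, hle⟩ := exists_le_isAssociatedPrime_of_isNoetherianRing R (g x) hgx
    have hPmin : P ∈ minimalPrimes R := hQ hP
    have hPp : P.IsPrime := hP.isPrime
    have hPsupp : (⟨P, hPp⟩ : PrimeSpectrum R) ∈ Module.support R Q := by
      obtain ⟨-, y, hy⟩ := (isAssociatedPrime_iff).mp hP
      rw [Module.mem_support_iff_exists_annihilator]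
      refine ⟨y, ?_⟩
      intro r hr
      change r ∈ P
      rw [hy, Submodule.mem_colon_singleton, Submodule.mem_bot]
      exact (Submodule.mem_annihilator_span_singleton y r).mp hr
    have hx' : x ∈ LinearMap.ker (LocalizedModule.mkLinearMap P.primeCompl M) := by
      have := (Submodule.mem_iInf _).mp hx ⟨P, hPp⟩
      exact (Submodule.mem_iInf _).mp this ⟨hPmin, hPsupp⟩
    rw [LinearMap.mem_ker, IsLocalizedModule.eq_zero_iff P.primeCompl] at hx'
    obtain ⟨s, hs⟩ := hx'
    have hsP : (s : R) ∈ P := by
      apply hle
      rw [Submodule.mem_colon_singleton, Submodule.mem_bot, ← map_smul]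
      have : (s : R) • x = 0 := hs
      rw [this, map_zero]
    exact s.2 hsP

end Groth.Agent.S13995
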