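import Groth.Statements.S13996
import Mathlib

set_option autoImplicit false
universe u
open CAlg

namespace Groth.Agent.S13996

/-- Let R be a reduced Noetherian local ring of Krull dimension one with maximal ideal m, and M a
non-zero finitely generated R-module. Then M is torsion-free in the sense that no element of m which
is a non-zero-divisor on R is a zero-divisor on M, if and only if M has depth one, i.e. some element
of m is a non-zero-divisor on M. (The published statement is for a non-zero coherent sheaf F on a
connected reduced projective curve over a characteristic-zero algebraically closed field and asserts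
the equivalence of: F torsion-free in the above sense at every closed point; F pure of dimension
one; depth of F_p equal to one at every closed point p. This row is the equivalence of the first and
third conditions at a single closed point p with F_p ≠ 0; at points outside the support the third
condition as published cannot hold, so the row assumes the stalk non-zero.) -/
theorem result (R : Type u) [CommRing R] [IsLocalRing R] [IsNoetherianRing R] [IsReduced R] (hdim : ringKrullDim R = 1) (M : Type u) [AddCommGroup M] [Module R M] [Module.Finite R M] [Nontrivial M] : (∀ r : R, r ∈ IsLocalRing.maximalIdeal R → IsSMulRegular R r → IsSMulRegular M r) ↔ (∃ x : R, x ∈ IsLocalRing.maximalIdeal R ∧ IsSMulRegular M x) := by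
  classical
  have hmh : (IsLocalRing.maximalIdeal R).height = 1 := by
    have h := IsLocalRing.maximalIdeal_height_eq_ringKrullDim (R := R)
    rw [hdim] at h
    exact_mod_cast h
  have hmin : ∀ p : Ideal R, p.IsPrime → p ≠ IsLocalRing.maximalIdeal R → p ∈ minimalPrimes R := by
    intro p hp hne
    have hlt : p < IsLocalRing.maximalIdeal R :=
      lt_of_le_of_ne (IsLocalRing.le_maximalIdeal hp.ne_top) hne
    have h1 := Ideal.height_add_one_le_of_lt_of_isPrime hlt
    rw [hmh] at h1
    have h0 : p.height = 0 := by
      generalize p.height = a at h1
      induction a using ENat.recTopCoe with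
      | top => simp at h1
      | coe n =>
        have h2 : n + 1 ≤ 1 := by exact_mod_cast h1
        have h3 : n = 0 := by omega
        subst h3
        rfl
    exact Ideal.height_eq_zero_iff.1 h0
  have hann : Module.annihilator R R = ⊥ := by
    refine eq_bot_iff.2 fun r hr => ?_
    have := Module.mem_annihilator.1 hr 1
    simpa using this
  have hminass : ∀ p ∈ minimalPrimes R, p ∈ associatedPrimes R R := by
    intro p hp
    apply Module.associatedPrimes.minimalPrimes_annihilator_subset_associatedPrimes R R
    rw [hann]
    exact hp
  have hregM := biUnion_associatedPrimes_eq_compl_regular R M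
  have hregR := biUnion_associatedPrimes_eq_compl_regular R R
  constructor
  · intro h
    -- find an R-regular element of the maximal ideal
    have hex : ∃ r ∈ IsLocalRing.maximalIdeal R, IsSMulRegular R r := by
      by_contra hno
      push Not at hno
      have hsub : ((IsLocalRing.maximalIdeal R : Ideal R) : Set R) ⊆
          ⋃ p ∈ ((associatedPrimes.finite R R).toFinset : Set (Ideal R)), (id p : Ideal R) := by
        intro r hr
        have hr' : r ∈ { r : R | IsSMulRegular R r }ᶜ := hno r hr
        rw [← hregR] at hr'
        simpa using hr'
      rw [Ideal.subset_union_prime (⊥ : Ideal R) (⊥ : Ideal R)] at hsub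
      · obtain ⟨p, hp, hmp⟩ := hsub
        rw [Set.Finite.mem_toFinset] at hp
        have hpp : p.IsPrime := hp.isPrime
        have hpm : p = IsLocalRing.maximalIdeal R :=
          le_antisymm (IsLocalRing.le_maximalIdeal hpp.ne_top) hmp
        rw [hpm] at hp
        obtain ⟨_, a, ha⟩ := isAssociatedPrime_iff.1 hp
        have ha0 : a ≠ 0 := by
          rintro rfl
          have : (1 : R) ∈ (⊥ : Submodule R R).colon {(0 : R)} := by
            rw [Submodule.mem_colon_singleton]; simp
          rw [← ha] at this
          exact (Ideal.ne_top_iff_one _).1 (IsLocalRing.maximalIdeal.isMaximal R).ne_top this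
        have hnil : a ∉ nilradical R := by
          rw [nilradical_eq_zero]
          exact ha0
        rw [nilradical_eq_sInf, Ideal.mem_sInf] at hnil
        push Not at hnil
        obtain ⟨q, hq, haq⟩ := hnil
        have hmq : IsLocalRing.maximalIdeal R ≤ q := by
          intro y hy
          rw [ha, Submodule.mem_colon_singleton] at hy
          have hya : y * a ∈ q := by
            have : y • a = 0 := by simpa using hy
            rw [smul_eq_mul] at this
            rw [this]; exact q.zero_mem
          exact (hq.mem_or_mem hya).resolve_right haq
        have hqm : q = IsLocalRing.maximalIdeal R :=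
          le_antisymm (IsLocalRing.le_maximalIdeal hq.ne_top) hmq
        rw [hqm] at haq
        have hau : IsUnit a := by
          by_contra hnu
          exact haq ((IsLocalRing.mem_maximalIdeal a).2 hnu)
        have hmbot : IsLocalRing.maximalIdeal R = ⊥ := by
          refine eq_bot_iff.2 fun y hy => ?_
          rw [ha, Submodule.mem_colon_singleton] at hy
          have : y • a = 0 := by simpa using hy
          rw [smul_eq_mul] at this
          exact (Ideal.mem_bot).2 (hau.mul_left_eq_zero.1 this)
        rw [hmbot, Ideal.height_bot] at hmh
        exact absurd hmh (by decide)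
      · intro p hp _ _
        rw [Set.Finite.mem_toFinset] at hp
        exact hp.isPrime
    obtain ⟨r, hrm, hr⟩ := hex
    exact ⟨r, hrm, h r hrm hr⟩
  · rintro ⟨x, hxm, hx⟩ r hrm hr
    by_contra hnr
    have hr' : r ∈ { r : R | IsSMulRegular M r }ᶜ := hnr
    rw [← hregM] at hr'
    simp only [Set.mem_iUnion, SetLike.mem_coe, exists_prop] at hr'
    obtain ⟨p, hp, hrp⟩ := hr'
    have hpp : p.IsPrime := hp.isPrime
    have hxp : x ∉ p := by
      intro hxp
      have : x ∈ ⋃ p ∈ associatedPrimes R M, (p : Set R) := by
        simp only [Set.mem_iUnion, SetLike.mem_coe, exists_prop]
        exact ⟨p, hp, hxp⟩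
      rw [hregM] at this
      exact this hx
    have hpm : p ≠ IsLocalRing.maximalIdeal R := by
      rintro rfl
      exact hxp hxm
    have hpass := hminass p (hmin p hpp hpm)
    have : r ∈ ⋃ p ∈ associatedPrimes R R, (p : Set R) := by
      simp only [Set.mem_iUnion, SetLike.mem_coe, exists_prop]
      exact ⟨p, hpass, hrp⟩
    rw [hregR] at this
    exact this hr

end Groth.Agent.S13996
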