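import Groth.Statements.S13997
import Groth.Agent.Lib.Helper3NilFT
import Mathlib

set_option autoImplicit false
universe u
open FlatMor

namespace Groth.Agent.S13997

open AlgebraicGeometry CategoryTheory

/-- the `⇐` direction, only needing the ideal of `i` to be finitely generated and nilpotent on
affine opens. -/
theorem lft_of_lft_thin {X X₀ Y Y₀ : Scheme.{u}}
    (F : Y ⟶ X) (F₀ : Y₀ ⟶ X₀) (i : Y₀ ⟶ Y) (j : X₀ ⟶ X)
    [IsClosedImmersion i] [IsClosedImmersion j]
    (hinil : ∀ U : Y.affineOpens, IsNilpotent (i.ker.ideal U))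
    (hfg : ∀ U : Y.affineOpens, (i.ker.ideal U).FG)
    (w : F₀ ≫ j = i ≫ F) [LocallyOfFiniteType F₀] : LocallyOfFiniteType F := by
  rw [HasRingHomProperty.iff_appLE (P := @LocallyOfFiniteType)]
  rintro ⟨U, hU⟩ ⟨V, hV⟩ e
  let V₀ : Y₀.Opens := i ⁻¹ᵁ V
  have hV₀ : IsAffineOpen V₀ := hV.preimage i
  let U₀ : X₀.Opens := j ⁻¹ᵁ U
  have hU₀ : IsAffineOpen U₀ := hU.preimage j
  have e₀ : V₀ ≤ F₀ ⁻¹ᵁ U₀ := by
    intro y hy
    change j (F₀ y) ∈ U
    rw [show j (F₀ y) = F (i y) from congr($(w) y)]
    exact e hy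
  have hπ : Function.Surjective (i.app V).hom := i.app_surjective V hV
  have hker : i.ker.ideal ⟨V, hV⟩ = RingHom.ker (i.app V).hom := Scheme.Hom.ker_apply i ⟨V, hV⟩
  have hfg' : (RingHom.ker (i.app V).hom).FG := hker ▸ hfg ⟨V, hV⟩
  have hnil' : IsNilpotent (RingHom.ker (i.app V).hom) := hker ▸ hinil ⟨V, hV⟩
  have h1 : F.appLE U V e ≫ i.app V = j.app U ≫ F₀.appLE U₀ V₀ e₀ := by
    rw [Scheme.Hom.app_eq_appLE, Scheme.Hom.app_eq_appLE, Scheme.Hom.appLE_comp_appLE,
      Scheme.Hom.appLE_comp_appLE]
    simp only [w]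
    rfl
  have hcomp : ((i.app V).hom.comp (F.appLE U V e).hom).FiniteType := by
    rw [← CommRingCat.hom_comp, h1, CommRingCat.hom_comp]
    refine RingHom.FiniteType.comp ?_ ?_
    · exact F₀.finiteType_appLE hU₀ hV₀ e₀
    · exact RingHom.FiniteType.of_surjective _ (j.app_surjective U hU)
  exact Groth.Agent.Lib.Helper3.NilFT.finiteType_of_comp_surjective _ _ hπ hfg' hnil' hcomp

open AlgebraicGeometry CategoryTheory in
/-- Consider a commutative square of schemes F₀ ≫ j = i ≫ F in which i : Y₀ ⟶ Y and j : X₀ ⟶ X are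
closed immersions surjective on points whose ideals are locally nilpotent (nilpotent on every affine
open), and suppose moreover that the ideal of i is of finite type (finitely generated on every
affine open of Y). Then F : Y ⟶ X is locally of finite type if and only if F₀ : Y₀ ⟶ X₀ is. The
square is not assumed cartesian and the ideal of j need not be of finite type. (The published
statement also asserts the version for morphisms of finite type; that version follows from this one,
because quasi-compactness of a morphism transfers along closed immersions surjective on points, and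
it is not restated here.) -/
theorem result {X X₀ Y Y₀ : Scheme.{u}}
    (F : Y ⟶ X) (F₀ : Y₀ ⟶ X₀) (i : Y₀ ⟶ Y) (j : X₀ ⟶ X)
    (hi : MoreMor.IsThickening i) (hj : MoreMor.IsThickening j)
    (hinil : ∀ U : Y.affineOpens, IsNilpotent (i.ker.ideal U))
    (hjnil : ∀ U : X.affineOpens, IsNilpotent (j.ker.ideal U))
    (hfg : ∀ U : Y.affineOpens, (i.ker.ideal U).FG)
    (w : F₀ ≫ j = i ≫ F) :
    LocallyOfFiniteType F ↔ LocallyOfFiniteType F₀ := by
  haveI : IsClosedImmersion i := hi.1
  haveI : IsClosedImmersion j := hj.1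
  constructor
  · intro hF
    haveI : LocallyOfFiniteType (F₀ ≫ j) := by
      rw [w]; infer_instance
    exact locallyOfFiniteType_of_comp F₀ j
  · intro hF₀
    exact lft_of_lft_thin F F₀ i j hinil hfg w

end Groth.Agent.S13997
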