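import Groth.Statements.S13998
import Mathlib
import Groth.Agent.Lib.Helper22ThickAffine

set_option autoImplicit false
universe u
open FlatMor

namespace Groth.Agent.S13998

/-- nilpotent Nakayama -/
theorem eq_top_of_sup_smul_eq_top {A M : Type*} [CommRing A] [AddCommGroup M] [Module A M]
    (N : Submodule A M) (J : Ideal A) (hJ : IsNilpotent J) (h : N ⊔ J • (⊤ : Submodule A M) = ⊤) :
    N = ⊤ := by
  obtain ⟨n, hn⟩ := hJ
  have key : ∀ m : ℕ, N ⊔ (J ^ m) • (⊤ : Submodule A M) = ⊤ := by
    intro m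
    induction m with
    | zero => simp
    | succ m ih =>
      have h1 : (J ^ m) • (⊤ : Submodule A M) ≤ N ⊔ (J ^ (m + 1)) • (⊤ : Submodule A M) := by
        calc (J ^ m) • (⊤ : Submodule A M) = (J ^ m) • (N ⊔ J • (⊤ : Submodule A M)) := by rw [h]
          _ = (J ^ m) • N ⊔ (J ^ m) • (J • (⊤ : Submodule A M)) := Submodule.smul_sup _ _ _
          _ = (J ^ m) • N ⊔ (J ^ (m + 1)) • (⊤ : Submodule A M) := by
              rw [← Submodule.mul_smul, ← pow_succ]
          _ ≤ N ⊔ (J ^ (m + 1)) • (⊤ : Submodule A M) :=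
              sup_le_sup_right Submodule.smul_le_right _
      rw [eq_top_iff]
      calc (⊤ : Submodule A M) = N ⊔ (J ^ m) • (⊤ : Submodule A M) := ih.symm
        _ ≤ N ⊔ (J ^ (m + 1)) • (⊤ : Submodule A M) := sup_le le_sup_left h1
  have := key n
  rwa [hn, Ideal.zero_eq_bot, Submodule.bot_smul, sup_bot_eq] at this

theorem finite_of_nilpotent {A B B₀ : Type*} [CommRing A] [CommRing B] [CommRing B₀]
    (φ : A →+* B) (β : B →+* B₀) (hβ : Function.Surjective β) (J : Ideal A) (hJ : IsNilpotent J)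
    (hker : RingHom.ker β ≤ J.map φ) (hfin : (β.comp φ).Finite) : φ.Finite := by
  algebraize [φ, β.comp φ]
  classical
  have hfin' : Module.Finite A B₀ := hfin
  obtain ⟨s, hs⟩ := hfin'.fg_top
  choose lift hlift using hβ
  let N : Submodule A B := Submodule.span A (lift '' (s : Set B₀))
  have hN : N ⊔ J • (⊤ : Submodule A B) = ⊤ := by
    rw [eq_top_iff]
    intro b _
    have hb : β b ∈ Submodule.span A (s : Set B₀) := by rw [hs]; trivial
    let βl : B →ₗ[A] B₀ :=
      { toFun := β
        map_add' := map_add β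
        map_smul' := by
          intro a x
          simp only [Algebra.smul_def, RingHom.id_apply, map_mul]
          rfl }
    have himg : Submodule.map βl N = Submodule.span A (s : Set B₀) := by
      rw [Submodule.map_span, ← Set.image_comp]
      congr 1
      ext x
      simp only [Set.mem_image, Function.comp_apply]
      constructor
      · rintro ⟨y, hy, rfl⟩
        have : βl (lift y) = y := hlift y
        rwa [this]
      · intro hx
        exact ⟨x, hx, hlift x⟩
    rw [← himg] at hb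
    obtain ⟨n, hn, hnb⟩ := hb
    have hk : b - n ∈ RingHom.ker β := by
      rw [RingHom.mem_ker, map_sub, sub_eq_zero]
      exact hnb.symm
    have hk' : b - n ∈ J • (⊤ : Submodule A B) := by
      rw [Ideal.smul_top_eq_map]
      exact hker hk
    have : b = n + (b - n) := by ring
    rw [this]
    exact Submodule.add_mem_sup hn hk'
  have hNtop := eq_top_of_sup_smul_eq_top N J hJ hN
  have : Module.Finite A B := ⟨⟨s.image lift, by rw [Finset.coe_image]; exact hNtop⟩⟩
  exact this

open AlgebraicGeometry CategoryTheory Limits in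
theorem affine_of_thick {X X' S S' : Scheme.{u}} (iX : X ⟶ X') (iS : S ⟶ S') (f : X ⟶ S)
    (f' : X' ⟶ S') [IsClosedImmersion iX] [Surjective iX] [IsClosedImmersion iS]
    (w : iX ≫ f' = f ≫ iS) [IsAffineHom f] : IsAffineHom f' := by
  refine ⟨fun U' hU' => ?_⟩
  have hV : IsAffineOpen (iX ⁻¹ᵁ f' ⁻¹ᵁ U') := by
    rw [← Scheme.Hom.comp_preimage, w, Scheme.Hom.comp_preimage]
    exact (hU'.preimage iS).preimage f
  have : IsAffine (iX ⁻¹ᵁ f' ⁻¹ᵁ U').toScheme := hV
  have hsurj : Surjective (iX ∣_ (f' ⁻¹ᵁ U')) := IsZariskiLocalAtTarget.restrict ‹Surjective iX› _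
  exact Groth.Agent.Lib.Helper22.ThickAffine.isAffine_of_thickening (iX ∣_ (f' ⁻¹ᵁ U')) hsurj.surj

open AlgebraicGeometry CategoryTheory in
/-- Consider a cartesian square of schemes F₀ ≫ j = i ≫ F (so Y₀ = Y ×_X X₀) in which i : Y₀ ⟶ Y and j :
X₀ ⟶ X are closed immersions surjective on points whose ideals are locally nilpotent (nilpotent on
every affine open), and suppose moreover that the ideal of j is of finite type (finitely generated
on every affine open of X). Then F : Y ⟶ X is finite if and only if F₀ : Y₀ ⟶ X₀ is finite. -/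
theorem result {X X₀ Y Y₀ : Scheme.{u}}
    (F : Y ⟶ X) (F₀ : Y₀ ⟶ X₀) (i : Y₀ ⟶ Y) (j : X₀ ⟶ X)
    (hi : MoreMor.IsThickening i) (hj : MoreMor.IsThickening j)
    (hinil : ∀ U : Y.affineOpens, IsNilpotent (i.ker.ideal U))
    (hjnil : ∀ U : X.affineOpens, IsNilpotent (j.ker.ideal U))
    (hfg : ∀ U : X.affineOpens, (j.ker.ideal U).FG)
    (hc : IsPullback F₀ i j F) :
    IsFinite F ↔ IsFinite F₀ := by
  obtain ⟨hi1, hi2⟩ := hi
  obtain ⟨hj1, hj2⟩ := hj
  constructor
  · intro hF
    exact MorphismProperty.of_isPullback hc.flip hF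
  · intro hF₀
    have hw : i ≫ F = F₀ ≫ j := hc.w.symm
    have haff : IsAffineHom F := affine_of_thick i j F₀ F hw
    refine ⟨fun U hU => ?_⟩
    have hV : IsAffineOpen (F ⁻¹ᵁ U) := hU.preimage F
    have hker := Groth.Agent.Lib.Helper22.Thick.ker_app_le hc.flip hU hV le_rfl
    rw [← Scheme.Hom.app_eq_appLE] at hker
    have hJ : IsNilpotent (RingHom.ker (j.app U).hom) := by
      have := hjnil ⟨U, hU⟩
      rwa [Scheme.Hom.ker_apply] at this
    refine finite_of_nilpotent (F.app U).hom (i.app (F ⁻¹ᵁ U)).hom (i.app_surjective _ hV) _ hJ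
      hker ?_
    -- the composite is finite
    have hcomp : F.app U ≫ i.app (F ⁻¹ᵁ U) =
        j.app U ≫ F₀.app (j ⁻¹ᵁ U) ≫ Y₀.presheaf.map (eqToHom (by
          rw [← Scheme.Hom.comp_preimage, ← Scheme.Hom.comp_preimage, hw])).op := by
      have h1 := Scheme.Hom.congr_app hw U
      rw [Scheme.Hom.comp_app, Scheme.Hom.comp_app] at h1
      exact h1.trans (Category.assoc _ _ _)
    have : (i.app (F ⁻¹ᵁ U)).hom.comp (F.app U).hom = (F.app U ≫ i.app (F ⁻¹ᵁ U)).hom := rfl
    rw [this, hcomp]
    simp only [CommRingCat.hom_comp]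
    refine RingHom.Finite.comp ?_ (RingHom.Finite.of_surjective _ (j.app_surjective U hU))
    refine RingHom.Finite.comp ?_ (F₀.finite_app _ (hU.preimage j))
    refine RingHom.Finite.of_surjective _ ?_
    exact (ConcreteCategory.bijective_of_isIso (Y₀.presheaf.map (eqToHom _).op)).2

end Groth.Agent.S13998
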