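import Groth.Statements.S14000
import Mathlib
import Groth.Agent.S2374
import Groth.Agent.Lib.Helper1LBC2
import Groth.Agent.Lib.Helper1Extend
-- import your own Groth.Agent.* helpers here

set_option autoImplicit false
universe u
open Perf

namespace Groth.Agent.S14000

open CategoryTheory CategoryTheory.Limits
open Groth.Agent.Lib.Helper1.LDer Groth.Agent.Lib.Helper1.Extend Groth.Agent.Lib.Helper1.Tor

attribute [local instance] Module.free_of_flat_of_isLocalRing

/-- rank at a point as the dimension of the two-step base change to the residue field -/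
lemma finrank_fibre {A : Type u} [CommRing A] (q : PrimeSpectrum A) (M : ModuleCat.{u} A)
    [Module.Finite A M] [Module.Projective A M] :
    Module.finrank (IsLocalRing.ResidueField (Localization.AtPrime q.asIdeal))
      ((ext (Localization.AtPrime q.asIdeal) (IsLocalRing.ResidueField (Localization.AtPrime q.asIdeal))).obj
        ((ext A (Localization.AtPrime q.asIdeal)).obj M)) = Module.rankAtStalk (R := A) M q := by
  let Aq := Localization.AtPrime q.asIdeal
  let κ := IsLocalRing.ResidueField Aq
  let F := (ext A Aq).obj M
  have hFfin : Module.Finite Aq F := finite_bc (algebraMap A Aq) M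
  have hFproj : Module.Projective Aq F := projective_bc (algebraMap A Aq) M
  have hFfree : Module.Free Aq F := inferInstance
  have h1 : Module.finrank κ ((ext Aq κ).obj F) = Module.finrank Aq F := by
    rw [(extEquiv (A := Aq) (B := κ) F).finrank_eq]
    exact Module.finrank_baseChange
  have h2 : Module.finrank Aq F = Module.rankAtStalk (R := A) M q := by
    rw [(extEquiv (A := A) (B := Aq) M).finrank_eq]
    exact (Module.rankAtStalk_eq_finrank_tensorProduct q).symm
  exact h1.trans h2

open CategoryTheory CategoryTheory.Limits in
/-- Let A be a commutative ring and P a strictly perfect complex over A, that is a cochain complex of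
finitely generated projective A-modules which is zero outside a finite set s of degrees. Suppose the
cohomological support of P has positive codimension: for every minimal prime q of A and every degree
i the localization at q of the cohomology module H^i(P) is zero. Then the Euler characteristic of P
vanishes identically: at every prime of A the alternating sum over i ∈ s of the ranks of the P^i is
zero. -/
theorem result {A : Type u} [CommRing A]
    (P : CochainComplex (ModuleCat.{u} A) ℤ) (s : Finset ℤ)
    (hP : ∀ i : ℤ, Module.Finite A (P.X i) ∧ Module.Projective A (P.X i))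
    (hs : ∀ i : ℤ, i ∉ s → IsZero (P.X i))
    (hsupp : ∀ q : PrimeSpectrum A, q.asIdeal ∈ minimalPrimes A →
      ∀ i : ℤ, Subsingleton (LocalizedModule q.asIdeal.primeCompl (P.homology i))) :
    ∀ x : PrimeSpectrum A,
      (s.sum fun i => ((i.negOnePow : ℤˣ) : ℤ) * (Module.rankAtStalk (R := A) (P.X i) x : ℤ)) = 0 := by
  intro x
  -- a minimal prime below `x`
  obtain ⟨q₀, hq₀, hle⟩ := Ideal.exists_minimalPrimes_le (I := (⊥ : Ideal A)) (J := x.asIdeal) bot_le
  have hq₀p : q₀.IsPrime := hq₀.1.1
  let q : PrimeSpectrum A := ⟨q₀, hq₀p⟩
  have hqx : q ⤳ x := (PrimeSpectrum.le_iff_specializes q x).1 hle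
  -- ranks at `x` and `q` agree
  have hrank : ∀ i : ℤ, Module.rankAtStalk (R := A) (P.X i) x = Module.rankAtStalk (R := A) (P.X i) q := by
    intro i
    have := (hP i).1
    have := (hP i).2
    have : Module.FinitePresentation A (P.X i) := Module.finitePresentation_of_projective A _
    have hlc := Module.isLocallyConstant_rankAtStalk (R := A) (M := P.X i)
    have hopen := hlc.isOpen_fiber (Module.rankAtStalk (R := A) (P.X i) x)
    have : q ∈ {y | Module.rankAtStalk (R := A) (P.X i) y = Module.rankAtStalk (R := A) (P.X i) x} :=
      hqx.mem_open hopen rfl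
    exact this.symm
  simp_rw [hrank]
  -- base change to the residue field of `q`
  let Aq := Localization.AtPrime q.asIdeal
  let κ := IsLocalRing.ResidueField Aq
  let Pq : DRing.Cx Aq := (bcCx (algebraMap A Aq)).obj P
  let N : DRing.Cx κ := (bcCx (algebraMap Aq κ)).obj Pq
  have hPqex : ∀ i : ℤ, Pq.ExactAt i := by
    intro i
    rw [HomologicalComplex.exactAt_iff_isZero_homology]
    refine IsZero.of_iso ?_ (homologyMapCxIso (ext A Aq) P i)
    have hsub := hsupp q hq₀ i
    have e1 := extEquiv (A := A) (B := Aq) (P.homology i)
    have e2 := LocalizedModule.equivTensorProduct q.asIdeal.primeCompl (P.homology i)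
    have : Subsingleton ((ext A Aq).obj (P.homology i)) :=
      (e1.toEquiv.trans e2.symm.toEquiv).subsingleton
    exact ModuleCat.isZero_of_subsingleton _
  obtain ⟨b, hb⟩ := s.exists_le
  have hPb : DRing.VanishesAbove P b := fun i hi => hs i (fun his => by have := hb i his; omega)
  have hPqb : DRing.VanishesAbove Pq b := vanishesAbove_bc _ P b hPb
  have hPqflat : DRing.TermwiseFlat Pq := by
    intro i
    have := (hP i).2
    exact flat_bc (algebraMap A Aq) (P.X i)
  have hNex : ∀ i : ℤ, N.ExactAt i := fun i =>
    exactAt_bc_of_flat (algebraMap Aq κ) Pq b hPqb hPqflat (i - 1) (fun j _ => hPqex j) i (by omega)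
  have hNzero : ∀ i : ℤ, i ∉ s → IsZero (N.X i) := fun i hi =>
    (ext Aq κ).map_isZero ((ext A Aq).map_isZero (hs i hi))
  have hNfin : ∀ i : ℤ, Module.Finite κ (N.X i) := by
    intro i
    have := (hP i).1
    have : Module.Finite Aq (Pq.X i) := finite_bc (algebraMap A Aq) (P.X i)
    exact finite_bc (algebraMap Aq κ) (Pq.X i)
  have hNfl : ∀ i : ℤ, IsFiniteLength κ (N.X i) := by
    intro i
    have := hNfin i
    rw [isFiniteLength_iff_isNoetherian_isArtinian]
    exact ⟨inferInstance, inferInstance⟩
  have key := Groth.Agent.S2374.result N s hNzero hNfl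
  have hlen : ∀ i : ℤ, ((Module.length κ (N.X i)).toNat : ℤ) = (Module.rankAtStalk (R := A) (P.X i) q : ℤ) := by
    intro i
    have := hNfin i
    have := (hP i).1
    have := (hP i).2
    rw [Module.length_eq_finrank]
    simp only [ENat.toNat_natCast]
    exact congrArg _ (finrank_fibre q (P.X i))
  have hhom : ∀ i : ℤ, ((Module.length κ (N.homology i)).toNat : ℤ) = 0 := by
    intro i
    have hz : IsZero (N.homology i) := (HomologicalComplex.exactAt_iff_isZero_homology _ _).1 (hNex i)
    have := ModuleCat.subsingleton_of_isZero hz
    rw [Module.length_eq_zero]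
    rfl
  simp_rw [hlen, hhom] at key
  simpa using key

end Groth.Agent.S14000
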