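import Groth.Statements.S14004
import Groth.Prelude.Def_FSch5
import Groth.Agent.S2305
import Groth.Agent.S1384

set_option autoImplicit false
universe u
open CategoryTheory AlgebraicGeometry
open FSch

namespace Groth.Agent.S14004

set_option linter.unusedVariables false
open CategoryTheory.Limits

theorem lfp_of_lft_noeth {X Y : Scheme.{u}} (F : Y ⟶ X) [IsLocallyNoetherian X]
    [LocallyOfFiniteType F] : LocallyOfFinitePresentation F := by
  rw [HasRingHomProperty.iff_appLE (P := @LocallyOfFinitePresentation)]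
  rintro ⟨U, hU⟩ ⟨V, hV⟩ e
  have : IsNoetherianRing Γ(X, U) := IsLocallyNoetherian.component_noetherian ⟨U, hU⟩
  exact RingHom.FinitePresentation.of_finiteType.1 (F.finiteType_appLE hU hV e)

/-- for an adic morphism the squares over `toX n` are cartesian -/
theorem isPullback_toX {𝔛 𝔜 : FSch.Sys.{u}} (f : 𝔛 ⟶ 𝔜) (hf : FSch.IsAdicHom f) :
    ∀ n, IsPullback (𝔛.toX n) ((f : FSch.Hom 𝔛 𝔜).app 0) ((f : FSch.Hom 𝔛 𝔜).app n) (𝔜.toX n)
  | 0 => by
    dsimp only [FSch.Sys.toX]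
    exact IsPullback.of_horiz_isIso ⟨by rw [Category.id_comp, Category.comp_id]⟩
  | n + 1 => by
    dsimp only [FSch.Sys.toX]
    exact (isPullback_toX f hf n).paste_horiz (hf n)

/-- Formal schemes are modelled as ℕ-indexed systems of thickenings. Let 𝔛 and 𝔜 be locally Noetherian
adic formal systems and f : 𝔛 ⟶ 𝔜 an adic morphism (every square X_n → X_{n+1}, Y_n → Y_{n+1}
cartesian) all of whose levels f_n : X_n ⟶ Y_n are flat. Then f is smooth, in the sense that every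
level f_n is smooth, if and only if the bottom level f_0 is smooth. -/
theorem result (𝔛 𝔜 : FSch.Sys.{u})
    (h𝔛 : 𝔛.IsLocNoethFormal) (h𝔜 : 𝔜.IsLocNoethFormal) (f : 𝔛 ⟶ 𝔜) (hf : FSch.IsAdicHom f)
    (hflat : ∀ n : ℕ, Flat ((f : FSch.Hom 𝔛 𝔜).app n)) :
    (∀ n : ℕ, AlgebraicGeometry.Smooth ((f : FSch.Hom 𝔛 𝔜).app n)) ↔
      AlgebraicGeometry.Smooth ((f : FSch.Hom 𝔛 𝔜).app 0) := by
  refine ⟨fun H => H 0, fun H n => ?_⟩
  have hsq := isPullback_toX f hf n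
  have hci : IsClosedImmersion (𝔜.toX n) := FSch.Sys.toX_isClosedImmersion 𝔜 h𝔜.1 n
  have hsurj : Surjective (𝔜.toX n) := ⟨FSch.Sys.toX_surjective 𝔜 h𝔜.1 n⟩
  have hnoeth : IsLocallyNoetherian (𝔜.X n) := h𝔜.2.2 n
  have hlft0 : LocallyOfFiniteType ((f : FSch.Hom 𝔛 𝔜).app 0) := inferInstance
  have hlft : LocallyOfFiniteType ((f : FSch.Hom 𝔛 𝔜).app n) := by
    have e : pullback.snd ((f : FSch.Hom 𝔛 𝔜).app n) (𝔜.toX n) =
        hsq.isoPullback.inv ≫ (f : FSch.Hom 𝔛 𝔜).app 0 := by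
      rw [Iso.eq_inv_comp]; exact hsq.isoPullback_hom_snd
    have : LocallyOfFiniteType (pullback.snd ((f : FSch.Hom 𝔛 𝔜).app n) (𝔜.toX n)) := by
      rw [e]; infer_instance
    exact Groth.Agent.S2305.result ((f : FSch.Hom 𝔛 𝔜).app n) (𝔜.toX n)
  have hlfp : LocallyOfFinitePresentation ((f : FSch.Hom 𝔛 𝔜).app n) := lfp_of_lft_noeth _
  have := hflat n
  exact Groth.Agent.S1384.smooth_of_thick (𝔛.toX n) (𝔜.toX n) ((f : FSch.Hom 𝔛 𝔜).app 0)
    ((f : FSch.Hom 𝔛 𝔜).app n) ⟨hci, hsurj⟩ hsq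

end Groth.Agent.S14004
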