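import Groth.Statements.S14005
import Mathlib.AlgebraicGeometry.Properties
import Mathlib.Topology.Sober

set_option autoImplicit false
universe u
open CategoryTheory AlgebraicGeometry
open CohTop

namespace Groth.Agent.S14005

/-- Take a scheme X with a locally Noetherian underlying topological space, F a sheaf of abelian groups
on X, x a point of X and s an element of the stalk F_x. Then the following are equivalent: (i) s is
the germ of a section t over some open neighbourhood U of x whose support in U is contained in the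
closure of {x} (that is, s belongs to the subgroup Γ_x(F) of F_x); (ii) for every generization y ≠ x
of x the image of s under the cospecialisation map F_x → F_y is zero (that is, viewed as a global
section of the inverse image of F on Spec O_{X,x}, s is supported at the closed point). -/
theorem result {X : Scheme.{u}}
    (hX : ∀ x : X, ∃ U : X.Opens, x ∈ U ∧ TopologicalSpace.NoetherianSpace U)
    (F : TopCat.Sheaf AddCommGrpCat.{u} X.carrier) (x : X) (s : F.presheaf.stalk x) :
    (∃ (U : X.Opens) (hx : x ∈ U) (t : F.presheaf.obj (Opposite.op U)),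
        F.presheaf.germ U x hx t = s ∧
          ∀ (u : X) (hu : u ∈ U), F.presheaf.germ U u hu t ≠ 0 → u ∈ closure ({x} : Set X)) ↔
      ∀ (y : X) (h : y ⤳ x), y ≠ x → F.presheaf.stalkSpecializes h s = 0 := by
  constructor
  · rintro ⟨U, hx, t, rfl, hsupp⟩ y h hyx
    have hy : y ∈ U := h.mem_open U.isOpen hx
    rw [TopCat.Presheaf.germ_stalkSpecializes_apply]
    by_contra hne
    have h1 : y ∈ closure ({x} : Set X) := hsupp y hy hne
    have h2 : x ⤳ y := specializes_iff_mem_closure.mpr h1
    exact hyx (h.antisymm h2).eq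
  · intro hs
    obtain ⟨W, hxW, hWn⟩ := hX x
    obtain ⟨U₀, hU₀W, hxU₀, t₀, ht₀⟩ := F.presheaf.exists_le_germ_eq s hxW
    have hi : Topology.IsInducing (fun u : (U₀ : Set X) => (⟨u.1, hU₀W u.2⟩ : W)) := by
      refine Topology.IsInducing.of_comp (g := Subtype.val) ?_ continuous_subtype_val ?_
      · exact Continuous.subtype_mk continuous_subtype_val _
      · exact Topology.IsInducing.subtypeVal
    have hU₀n : TopologicalSpace.NoetherianSpace (U₀ : Set X) :=
      @Topology.IsInducing.noetherianSpace _ _ _ _ hWn _ hi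
    have hU₀s : QuasiSober (U₀ : Set X) := U₀.isOpenEmbedding'.quasiSober
    -- the support of t₀ in U₀
    let Z : Set (U₀ : Set X) := {u | F.presheaf.germ U₀ u.1 u.2 t₀ ≠ 0}
    have hZ : IsClosed Z := by
      rw [← isOpen_compl_iff, isOpen_iff_forall_mem_open]
      intro u hu
      have hu0 : F.presheaf.germ U₀ u.1 u.2 t₀ = 0 := by
        by_contra h
        exact hu h
      have hu1 : F.presheaf.germ U₀ u.1 u.2 t₀ = F.presheaf.germ U₀ u.1 u.2 0 := by
        rw [hu0, map_zero]
      obtain ⟨V, hV, i₁, i₂, hres⟩ := F.presheaf.germ_eq u.1 u.2 u.2 _ _ hu1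
      refine ⟨Subtype.val ⁻¹' (V : Set X), ?_, V.isOpen.preimage continuous_subtype_val, hV⟩
      intro v hv
      change ¬ (F.presheaf.germ U₀ v.1 v.2 t₀ ≠ 0)
      rw [not_not, ← F.presheaf.germ_res_apply i₁ v.1 hv t₀, hres, map_zero, map_zero]
    obtain ⟨S, hSfin, hSclosed, hSirr, hSsup⟩ :=
      TopologicalSpace.NoetherianSpace.exists_finite_set_isClosed_irreducible hZ
    have hZmem : ∀ u : (U₀ : Set X), u ∈ Z ↔ ∃ C ∈ S, u ∈ C := by
      intro u
      rw [hSsup, Set.mem_sUnion]
    -- the closed set to remove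
    let Bad : Set (U₀ : Set X) := {v | ∃ C ∈ S, (⟨x, hxU₀⟩ : (U₀ : Set X)) ∉ C ∧ v ∈ C}
    have hBad : IsClosed Bad := by
      have : Bad = ⋃ C ∈ {C ∈ S | (⟨x, hxU₀⟩ : (U₀ : Set X)) ∉ C}, C := by
        ext v
        simp only [Set.mem_iUnion, Set.mem_sep_iff, exists_prop]
        constructor
        · rintro ⟨C, hCS, hxC, hvC⟩
          exact ⟨C, ⟨hCS, hxC⟩, hvC⟩
        · rintro ⟨C, ⟨hCS, hxC⟩, hvC⟩
          exact ⟨C, hCS, hxC, hvC⟩
      rw [this]
      exact (hSfin.subset (Set.sep_subset _ _)).isClosed_biUnion fun C hC => hSclosed C hC.1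
    let U : X.Opens := ⟨Subtype.val '' Badᶜ, U₀.isOpen.isOpenMap_subtype_val _ hBad.isOpen_compl⟩
    have hUU₀ : U ≤ U₀ := by
      rintro _ ⟨u, -, rfl⟩
      exact u.2
    have hxU : x ∈ U := by
      refine ⟨⟨x, hxU₀⟩, ?_, rfl⟩
      rintro ⟨C, -, hC, hxC⟩
      exact hC hxC
    refine ⟨U, hxU, F.presheaf.map (homOfLE hUU₀).op t₀, ?_, ?_⟩
    · rw [F.presheaf.germ_res_apply]
      exact ht₀
    · intro u hu hne
      rw [F.presheaf.germ_res_apply (homOfLE hUU₀) u hu t₀] at hne
      have huU₀ : u ∈ U₀ := hUU₀ hu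
      have huZ : (⟨u, huU₀⟩ : (U₀ : Set X)) ∈ Z := hne
      obtain ⟨C, hCS, huC⟩ := (hZmem _).mp huZ
      have hxC : (⟨x, hxU₀⟩ : (U₀ : Set X)) ∈ C := by
        by_contra hxC
        obtain ⟨u', hu', hu'eq⟩ := hu
        have : u' = ⟨u, huU₀⟩ := Subtype.ext hu'eq
        subst this
        exact hu' ⟨C, hCS, hxC, huC⟩
      -- generic point of C
      have hCirr := hSirr C hCS
      let η : (U₀ : Set X) := hCirr.genericPoint
      have hη : IsGenericPoint η C := by
        have := hCirr.isGenericPoint_genericPoint_closure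
        rwa [(hSclosed C hCS).closure_eq] at this
      have hηx : η ⤳ (⟨x, hxU₀⟩ : (U₀ : Set X)) := hη.specializes hxC
      have hηx' : η.1 ⤳ x := hηx.map continuous_subtype_val
      have hηZ : η ∈ Z := (hZmem η).mpr ⟨C, hCS, hη.mem⟩
      have hηeq : η.1 = x := by
        by_contra hne'
        have h0 := hs η.1 hηx' hne'
        rw [← ht₀, TopCat.Presheaf.germ_stalkSpecializes_apply] at h0
        exact hηZ h0
      have hηeq' : η = ⟨x, hxU₀⟩ := Subtype.ext hηeq
      have hxu : (⟨x, hxU₀⟩ : (U₀ : Set X)) ⤳ ⟨u, huU₀⟩ := by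
        rw [← hηeq']
        exact hη.specializes huC
      exact specializes_iff_mem_closure.mp (hxu.map continuous_subtype_val)

end Groth.Agent.S14005
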