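import Groth.Statements.S1401
import Groth.Agent.S1127

set_option autoImplicit false
universe u
open FlatMor

namespace Groth.Agent.S1401


open AlgebraicGeometry CategoryTheory Limits in
/-- transfer of quasi-affineness between nested opens. -/
lemma isQuasiAffine_of_image_le {X : Scheme.{u}} {U₁ U₂ : X.Opens} (O₁ : (U₁ : Scheme.{u}).Opens)
    (O₂ : (U₂ : Scheme.{u}).Opens) (h : U₁.ι ''ᵁ O₁ ≤ U₂.ι ''ᵁ O₂)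
    [(O₂ : Scheme.{u}).IsQuasiAffine] (hc : IsCompact (O₁ : Set (U₁ : Scheme.{u}))) :
    (O₁ : Scheme.{u}).IsQuasiAffine := by
  have : CompactSpace (O₁ : Scheme.{u}) := isCompact_iff_compactSpace.mp hc
  have hr : Set.range (O₁.ι ≫ U₁.ι).base ⊆ Set.range (O₂.ι ≫ U₂.ι).base := by
    rintro _ ⟨x, rfl⟩
    have hx : U₁.ι (O₁.ι x) ∈ U₂.ι ''ᵁ O₂ := h ⟨x.1, x.2, rfl⟩
    obtain ⟨y, hy, hxy⟩ := hx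
    exact ⟨⟨y, hy⟩, hxy⟩
  let m := IsOpenImmersion.lift (O₂.ι ≫ U₂.ι) (O₁.ι ≫ U₁.ι) hr
  have hm : m ≫ (O₂.ι ≫ U₂.ι) = O₁.ι ≫ U₁.ι := IsOpenImmersion.lift_fac _ _ _
  have : IsOpenImmersion (m ≫ (O₂.ι ≫ U₂.ι)) := by rw [hm]; infer_instance
  have : IsOpenImmersion m := IsOpenImmersion.of_comp m (O₂.ι ≫ U₂.ι)
  exact Scheme.IsQuasiAffine.of_isImmersion m



open AlgebraicGeometry CategoryTheory Limits in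
/-- Let S' → S be flat, surjective and quasi-compact and let f' be the base change of f : X → S to S'.
If f' is ind-quasi-affine then so is f. -/
theorem result {X S X' S' : Scheme.{u}} (f : X ⟶ S) (f' : X' ⟶ S') (g' : X' ⟶ X) (g : S' ⟶ S)
    [Flat g] [Surjective g] [QuasiCompact g] (hc : IsPullback g' f' f g) (hf' : MoreMor.IsIndQuasiAffineHom f') : MoreMor.IsIndQuasiAffineHom f := by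
  intro V hV U hU
  have e₀ : (f ⁻¹ᵁ V).ι ''ᵁ U ≤ f ⁻¹ᵁ V := (f ⁻¹ᵁ V).ι_image_le U
  have hVaff : IsAffine (V : Scheme.{u}) := hV
  have hU₀c : CompactSpace (((f ⁻¹ᵁ V).ι ''ᵁ U : X.Opens) : Scheme.{u}) :=
    isCompact_iff_compactSpace.mp (hU.image (f ⁻¹ᵁ V).ι.continuous)
  have HV := Scheme.Hom.isPullback_resLE hc (US := V) (UT := g ⁻¹ᵁ V)
    (UX := (f ⁻¹ᵁ V).ι ''ᵁ U) le_rfl e₀
    (UY := g' ⁻¹ᵁ ((f ⁻¹ᵁ V).ι ''ᵁ U) ⊓ f' ⁻¹ᵁ (g ⁻¹ᵁ V)) rfl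
  rw [Scheme.Hom.resLE_eq_morphismRestrict] at HV
  have hgV : (@Surjective ⊓ @Flat ⊓ @QuasiCompact : MorphismProperty Scheme.{u}) (g ∣_ V) :=
    ⟨⟨MorphismProperty.of_isPullback (P := @Surjective) (isPullback_morphismRestrict g V).flip ‹_›,
      inferInstanceAs (Flat (g ∣_ V))⟩, inferInstanceAs (QuasiCompact (g ∣_ V))⟩
  have hqc0 : QuasiCompact (Scheme.Hom.resLE f V ((f ⁻¹ᵁ V).ι ''ᵁ U) e₀) := inferInstance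
  have hqc' := MorphismProperty.of_isPullback (P := @QuasiCompact) HV hqc0
  have hqa : Mor2.IsQuasiAffine (Scheme.Hom.resLE f' (g ⁻¹ᵁ V)
      (g' ⁻¹ᵁ ((f ⁻¹ᵁ V).ι ''ᵁ U) ⊓ f' ⁻¹ᵁ (g ⁻¹ᵁ V)) inf_le_right) := by
    refine ⟨hqc', fun W hW => ?_⟩
    have hW₀ : IsAffineOpen ((g ⁻¹ᵁ V).ι ''ᵁ W) := hW.image_of_isOpenImmersion _
    have hc1 := Scheme.Hom.isCompact_preimage (f := Scheme.Hom.resLE f' (g ⁻¹ᵁ V)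
      (g' ⁻¹ᵁ ((f ⁻¹ᵁ V).ι ''ᵁ U) ⊓ f' ⁻¹ᵁ (g ⁻¹ᵁ V)) inf_le_right) hW.isCompact
    have himg : (g' ⁻¹ᵁ ((f ⁻¹ᵁ V).ι ''ᵁ U) ⊓ f' ⁻¹ᵁ (g ⁻¹ᵁ V)).ι ''ᵁ
        (Scheme.Hom.resLE f' (g ⁻¹ᵁ V)
          (g' ⁻¹ᵁ ((f ⁻¹ᵁ V).ι ''ᵁ U) ⊓ f' ⁻¹ᵁ (g ⁻¹ᵁ V)) inf_le_right ⁻¹ᵁ W) =
        (f' ⁻¹ᵁ ((g ⁻¹ᵁ V).ι ''ᵁ W)).ι ''ᵁ ((f' ⁻¹ᵁ ((g ⁻¹ᵁ V).ι ''ᵁ W)).ι ⁻¹ᵁ
          (g' ⁻¹ᵁ ((f ⁻¹ᵁ V).ι ''ᵁ U) ⊓ f' ⁻¹ᵁ (g ⁻¹ᵁ V))) := by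
      rw [Scheme.Hom.resLE_preimage, Scheme.Hom.image_preimage_eq_opensRange_inf,
        Scheme.Hom.image_preimage_eq_opensRange_inf, Scheme.Opens.opensRange_ι,
        Scheme.Opens.opensRange_ι, inf_comm]
    have hO₂c : IsCompact (((f' ⁻¹ᵁ ((g ⁻¹ᵁ V).ι ''ᵁ W)).ι ⁻¹ᵁ
          (g' ⁻¹ᵁ ((f ⁻¹ᵁ V).ι ''ᵁ U) ⊓ f' ⁻¹ᵁ (g ⁻¹ᵁ V)) :
          (f' ⁻¹ᵁ ((g ⁻¹ᵁ V).ι ''ᵁ W) : Scheme.{u}).Opens) :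
          Set (f' ⁻¹ᵁ ((g ⁻¹ᵁ V).ι ''ᵁ W) : Scheme.{u})) := by
      rw [(f' ⁻¹ᵁ ((g ⁻¹ᵁ V).ι ''ᵁ W)).ι.isEmbedding.isCompact_iff]
      have := hc1.image (g' ⁻¹ᵁ ((f ⁻¹ᵁ V).ι ''ᵁ U) ⊓ f' ⁻¹ᵁ (g ⁻¹ᵁ V)).ι.continuous
      have h3 := congrArg (fun O : X'.Opens => (O : Set X')) himg
      simp only [Scheme.Hom.coe_image] at h3
      rw [← h3]
      exact this
    have := hf' _ hW₀ _ hO₂c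
    exact isQuasiAffine_of_image_le _ _ (le_of_eq himg) hc1
  have h1 := (Groth.Agent.S1127.result).of_isPullback HV.flip hgV hqa
  have h2 := h1.2 ⊤ (isAffineOpen_top _)
  refine isQuasiAffine_of_image_le U
    (Scheme.Hom.resLE f V ((f ⁻¹ᵁ V).ι ''ᵁ U) e₀ ⁻¹ᵁ ⊤) ?_ hU
  rw [Scheme.Hom.preimage_top, Scheme.Opens.ι_image_top]

end Groth.Agent.S1401
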