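import Groth.Statements.S14018
import Mathlib
-- import your own Groth.Agent.* helpers here

set_option autoImplicit false
set_option linter.style.haveILetI false
set_option linter.unusedSectionVars false
open CategoryTheory CategoryTheory.Limits Opposite
universe w v u
open CohSite

namespace Groth.Agent.S14018

section Types

variable {G : ℕᵒᵖ ⥤ Type w}
  (hG : ∀ n, Function.Surjective (G.map (homOfLE (Nat.le_succ n)).op))

/-- successive preimages -/
noncomputable def pre (n : ℕ) (a : G.obj ⟨n⟩) : (k : ℕ) → G.obj ⟨n + k⟩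
  | 0 => a
  | k + 1 => (hG (n + k) (pre n a k)).choose

lemma pre_succ (n : ℕ) (a : G.obj ⟨n⟩) (k : ℕ) :
    G.map (homOfLE (Nat.le_succ (n + k))).op (pre hG n a (k + 1)) = pre hG n a k :=
  (hG (n + k) (pre hG n a k)).choose_spec

lemma pre_le (n : ℕ) (a : G.obj ⟨n⟩) (k' k : ℕ) (h : k' ≤ k) :
    G.map (homOfLE (Nat.add_le_add_left h n)).op (pre hG n a k) = pre hG n a k' := by
  induction h with
  | refl =>
    have : (homOfLE (Nat.add_le_add_left (le_refl k') n)).op = 𝟙 (op (n + k')) := rfl
    rw [this, G.map_id]; rfl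
  | @step p h ih =>
    rw [← ih]
    have h2 : (homOfLE (Nat.add_le_add_left (Nat.le_succ_of_le h) n)).op =
        (homOfLE (Nat.le_succ (n + p))).op ≫ (homOfLE (Nat.add_le_add_left h n)).op := rfl
    rw [h2, G.map_comp]
    show G.map _ (G.map _ _) = _
    rw [pre_succ]

include hG in
lemma exists_section (n : ℕ) (a : G.obj ⟨n⟩) : ∃ σ : G.sections, σ.1 ⟨n⟩ = a := by
  refine ⟨⟨fun m => G.map (homOfLE (Nat.le_add_left m.unop n)).op (pre hG n a m.unop), ?_⟩, ?_⟩
  · intro ⟨m⟩ ⟨m'⟩ ⟨⟨⟨(h : m' ≤ m)⟩⟩⟩
    show G.map _ (G.map _ _) = G.map _ _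
    rw [← pre_le hG n a m' m h]
    rw [← Functor.map_comp_apply, ← Functor.map_comp_apply]
    rfl
  · show G.map _ (pre hG n a n) = a
    exact pre_le hG n a 0 n (Nat.zero_le n)

end Types


/-- Let (C, J) be a site with enough weakly contractible objects — every object V has a covering sieve
all of whose arrows factor through some weakly contractible object, an object U being weakly
contractible when every epimorphism of sheaves of sets (valued in a fixed universe) is surjective on
sections over U. Then the topos of sheaves of sets is replete: if (F_n) is an inverse system of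
sheaves of sets indexed by ℕ with every transition map F_(n+1) ⟶ F_n an epimorphism, then each
projection lim_n F_n ⟶ F_n is an epimorphism; the limit is taken as any limit cone. (The small
pro-étale site of a scheme is such a site.) -/
theorem result
    {C : Type u} [Category.{v} C] (J : GrothendieckTopology C)
    (hwc : ∀ V : C, ∃ S : Sieve V, S ∈ J V ∧ ∀ ⦃W : C⦄ (f : W ⟶ V), S.arrows f →
      ∃ (U : C) (g : W ⟶ U) (h : U ⟶ V), (∀ (A B : Sheaf J (Type w)) (ψ : A ⟶ B), Epi ψ → Function.Surjective (ψ.hom.app (op U))) ∧ g ≫ h = f)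
    (F : ℕᵒᵖ ⥤ Sheaf J (Type w))
    (hF : ∀ n : ℕ, Epi (F.map (homOfLE (Nat.le_succ n)).op))
    (c : Cone F) (hc : IsLimit c) (n : ℕ) :
    Epi (c.π.app (op n)) := by
  haveI : Sheaf.IsLocallySurjective (c.π.app (op n)) := by
    refine ⟨fun {V} s => ?_⟩
    obtain ⟨S, hS, hS'⟩ := hwc V
    refine J.superset_covering ?_ hS
    intro W f hf
    obtain ⟨U, g, h, hU, rfl⟩ := hS' f hf
    let ev : Sheaf J (Type w) ⥤ Type w := sheafToPresheaf J (Type w) ⋙ (evaluation _ _).obj (op U)
    haveI : PreservesLimitsOfShape ℕᵒᵖ ev := inferInstance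
    let G := F ⋙ ev
    have hG : ∀ k, Function.Surjective (G.map (homOfLE (Nat.le_succ k)).op) :=
      fun k => hU _ _ _ (hF k)
    obtain ⟨σ, hσ⟩ := exists_section hG n ((F.obj (op n)).obj.map h.op s)
    let e := Types.isLimitEquivSections (isLimitOfPreserves ev hc)
    have he : (c.π.app (op n)).hom.app (op U) (e.symm σ) = σ.1 ⟨n⟩ :=
      Types.isLimitEquivSections_symm_apply (isLimitOfPreserves ev hc) σ ⟨n⟩
    refine ⟨c.pt.obj.map g.op (e.symm σ), ?_⟩
    have nat := ConcreteCategory.congr_hom ((c.π.app (op n)).hom.naturality g.op) (e.symm σ)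
    simp only [types_comp_apply] at nat
    refine nat.trans ?_
    rw [he, hσ, op_comp, Functor.map_comp]
    rfl
  infer_instance

end Groth.Agent.S14018
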