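import Groth.Statements.S14020
import Mathlib.Algebra.Module.Torsion.Basic
import Mathlib.RingTheory.Finiteness.Ideal
import Mathlib.RingTheory.Artinian.Module

set_option autoImplicit false
universe u
open CAlg

namespace Groth.Agent.S14020

/-- A finite module killed by `I` is Artinian over `R` as soon as `R ⧸ I` is an Artinian ring. -/
lemma isArtinian_of_torsion {R : Type u} [CommRing R] (I : Ideal R) [IsArtinianRing (R ⧸ I)]
    (K : Type u) [AddCommGroup K] [Module R K] [Module.Finite R K]
    (hK : Module.IsTorsionBySet R K I) : IsArtinian R K := by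
  let _ := hK.module
  have h1 : IsScalarTower R (R ⧸ I) K := hK.isScalarTower
  have h2 : Module.Finite (R ⧸ I) K := Module.Finite.of_restrictScalars_finite R (R ⧸ I) K
  have h3 : IsArtinian (R ⧸ I) K := inferInstance
  exact isArtinian_of_surjective_algebraMap (S := R) (R := R ⧸ I) Ideal.Quotient.mk_surjective

lemma isArtinian_quotient_pow {R : Type u} [CommRing R] (I : Ideal R) (hI : I.FG)
    [IsArtinianRing (R ⧸ I)] (n : ℕ) : IsArtinian R (R ⧸ I ^ n) := by
  induction n with
  | zero =>
    have : Subsingleton (R ⧸ I ^ 0) := Ideal.Quotient.subsingleton_iff.mpr (by simp)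
    infer_instance
  | succ n ih =>
    have hle : I ^ (n + 1) ≤ I ^ n := Ideal.pow_le_pow_right (Nat.le_succ n)
    let g : (R ⧸ I ^ (n + 1)) →ₗ[R] (R ⧸ I ^ n) :=
      Submodule.mapQ (I ^ (n + 1)) (I ^ n) LinearMap.id (by simpa using hle)
    let K : Submodule R (R ⧸ I ^ (n + 1)) := Submodule.map (Submodule.mkQ (I ^ (n + 1))) (I ^ n)
    have hKfg : K.FG := Submodule.FG.map _ (Ideal.FG.pow (n := n) hI)
    have hKfin : Module.Finite R K := Module.Finite.iff_fg.mpr hKfg
    have hKtor : Module.IsTorsionBySet R K I := by
      rintro ⟨x, hx⟩ ⟨i, hi⟩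
      obtain ⟨a, ha, rfl⟩ := hx
      apply Subtype.ext
      change i • (Submodule.mkQ (I ^ (n + 1)) a) = 0
      rw [← map_smul, Submodule.mkQ_apply, Submodule.Quotient.mk_eq_zero, smul_eq_mul, pow_succ']
      exact Ideal.mul_mem_mul hi ha
    have hKart : IsArtinian R K := isArtinian_of_torsion I K hKtor
    have hker : LinearMap.range K.subtype = LinearMap.ker g := by
      rw [Submodule.range_subtype]
      ext x
      obtain ⟨a, rfl⟩ := Submodule.Quotient.mk_surjective _ x
      rw [LinearMap.mem_ker]
      change _ ↔ Submodule.Quotient.mk (p := I ^ n) a = 0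
      rw [Submodule.Quotient.mk_eq_zero]
      constructor
      · rintro ⟨b, hb, hab⟩
        have h1 : b - a ∈ I ^ (n + 1) := by
          exact (Submodule.Quotient.eq _).mp hab
        have h2 : a = b - (b - a) := by ring
        rw [h2]
        exact (I ^ n).sub_mem hb (hle h1)
      · intro ha
        exact ⟨a, ha, rfl⟩
    exact isArtinian_of_range_eq_ker K.subtype g hker

/-- Let R be a commutative ring and I a finitely generated ideal such that the quotient ring R/I is
artinian. Then R/I^n is artinian for every n. -/
theorem result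
    (R : Type u) [CommRing R] (I : Ideal R) (hI : I.FG) [IsArtinianRing (R ⧸ I)] (n : ℕ) :
    IsArtinianRing (R ⧸ I ^ n) := by
  have h := isArtinian_quotient_pow I hI n
  exact isArtinian_of_tower R h

end Groth.Agent.S14020
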