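import Groth.Statements.S14023
import Mathlib
-- import your own Groth.Agent.* helpers here

set_option autoImplicit false
set_option linter.style.haveILetI false
set_option linter.unusedSectionVars false
open CategoryTheory CategoryTheory.Limits Opposite
universe v u
open ARSys

namespace Groth.Agent.S14023

/-- inclusion of discrete ℕ into ℕᵒᵖ -/
def ι : Discrete ℕ ⥤ ℕᵒᵖ := Discrete.functor (fun n => op n)

instance finite_obj (m : ℕᵒᵖ) : Finite (StructuredArrow m ι) := by
  let g : Fin (m.unop + 1) → StructuredArrow m ι := fun k =>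
    StructuredArrow.mk (Y := (⟨k.1⟩ : Discrete ℕ)) (homOfLE (Nat.lt_succ_iff.1 k.2)).op
  apply Finite.of_surjective g
  intro a
  obtain ⟨⟨⟨⟩⟩, ⟨n⟩, f⟩ := a
  have hn : n ≤ m.unop := leOfHom f.unop
  refine ⟨⟨n, Nat.lt_succ_iff.2 hn⟩, ?_⟩
  rfl

instance subsingleton_hom (m : ℕᵒᵖ) (a b : StructuredArrow m ι) : Subsingleton (a ⟶ b) := by
  constructor
  intro φ ψ
  ext
  apply Subsingleton.elim

noncomputable instance finCat (m : ℕᵒᵖ) : FinCategory (StructuredArrow m ι) where
  fintypeObj := Fintype.ofFinite _
  fintypeHom _ _ := Fintype.ofFinite _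

variable (A : Type u) [Category.{v} A] [Abelian A]

instance hasRan (F : Discrete ℕ ⥤ A) : ι.HasPointwiseRightKanExtension F := fun Y => by
  dsimp [Functor.HasPointwiseRightKanExtensionAt]
  infer_instance

instance enoughInj_discrete [EnoughInjectives A] : EnoughInjectives (Discrete ℕ ⥤ A) where
  presentation X := by
    let I : ℕ → A := fun n => Injective.under (X.obj ⟨n⟩)
    let J : Discrete ℕ ⥤ A := Discrete.functor I
    have hI : ∀ n : Discrete ℕ, Injective (J.obj n) := fun n =>
      (inferInstance : Injective (Injective.under (X.obj ⟨n.as⟩)))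
    have hJ : Injective J := by
      constructor
      intro Y Y' g f hf
      have hf' : ∀ n, Mono (f.app n) := (NatTrans.mono_iff_mono_app f).1 hf
      refine ⟨Discrete.natTrans (fun n => Injective.factorThru (g.app n) (f.app n)), ?_⟩
      ext n
      simp
    let φ : X ⟶ J := Discrete.natTrans (fun n => (Injective.ι (X.obj ⟨n.as⟩) : X.obj n ⟶ J.obj n))
    have hφ : ∀ n, Mono (φ.app n) := fun n =>
      (inferInstance : Mono (Injective.ι (X.obj ⟨n.as⟩)))
    exact ⟨⟨J, hJ, φ, NatTrans.mono_of_mono_app _⟩⟩

noncomputable abbrev Lres : (ℕᵒᵖ ⥤ A) ⥤ (Discrete ℕ ⥤ A) := (Functor.whiskeringLeft (Discrete ℕ) ℕᵒᵖ A).obj ι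

instance Lres_pres : (Lres A).PreservesMonomorphisms where
  preserves f hf := by
    have hf' : ∀ n, Mono (f.app n) := (NatTrans.mono_iff_mono_app f).1 hf
    haveI : ∀ n, Mono (((Lres A).map f).app n) := fun n => hf' (ι.obj n)
    exact NatTrans.mono_of_mono_app _

instance Lres_refl : (Lres A).ReflectsMonomorphisms where
  reflects f hf := by
    have hf' : ∀ n, Mono (((Lres A).map f).app n) := (NatTrans.mono_iff_mono_app _).1 hf
    haveI : ∀ m, Mono (f.app m) := fun m => hf' ⟨m.unop⟩
    exact NatTrans.mono_of_mono_app _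

theorem backward [EnoughInjectives A] : EnoughInjectives (ℕᵒᵖ ⥤ A) :=
  EnoughInjectives.of_adjunction (L := Lres A) (ι.ranAdjunction A)

instance sigma_finite (a b : ℕᵒᵖ) : Finite (a ⟶ b) := Finite.of_subsingleton

theorem sigmaMap_mono {X Y : A} (f : X ⟶ Y) [Mono f] (c t : ℕᵒᵖ) :
    Mono (Limits.Sigma.map (fun _ : c ⟶ t => f)) := by
  haveI : HasFiniteBiproducts A := Abelian.hasFiniteBiproducts
  haveI : HasBiproduct (fun _ : c ⟶ t => X) := HasBiproductsOfShape.has_biproduct _
  haveI : HasBiproduct (fun _ : c ⟶ t => Y) := HasBiproductsOfShape.has_biproduct _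
  infer_instance

instance evL_pres (c : ℕᵒᵖ) : (evaluationLeftAdjoint A c).PreservesMonomorphisms where
  preserves {X Y} f hf := by
    haveI : ∀ t, Mono (((evaluationLeftAdjoint A c).map f).app t) := by
      intro t
      have h := sigmaMap_mono A f c t
      have : Limits.Sigma.map (fun _ : c ⟶ t => f) =
          (Sigma.desc fun h : c ⟶ t => f ≫ Sigma.ι (fun _ : c ⟶ t => Y) h) := by
        ext
        simp
      rw [this] at h
      exact h
    exact NatTrans.mono_of_mono_app _

theorem forward [EnoughInjectives (ℕᵒᵖ ⥤ A)] : EnoughInjectives A where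
  presentation X := by
    let F : ℕᵒᵖ ⥤ A := (Functor.const ℕᵒᵖ).obj X
    obtain ⟨pres⟩ := EnoughInjectives.presentation F
    have hinj : Injective pres.J := pres.injective
    have hJ : Injective (((evaluation ℕᵒᵖ A).obj (op 0)).obj pres.J) :=
      Injective.injective_of_adjoint (evaluationAdjunctionRight A (op 0)) pres.J
    have hmono : Mono pres.f := pres.mono
    have hm : Mono (pres.f.app (op 0)) := (NatTrans.mono_iff_mono_app pres.f).1 hmono (op 0)
    exact ⟨⟨pres.J.obj (op 0), hJ, pres.f.app (op 0), hm⟩⟩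


/-- For an abelian category A, the category of inverse systems (A_n)_n indexed by ℕ, i.e. of functors
ℕᵒᵖ ⥤ A, has enough injectives if and only if A has enough injectives. (The second assertion of the
published proposition, describing the injective systems, is not part of this row.) -/
theorem result
    (A : Type u) [Category.{v} A] [Abelian A] :
    EnoughInjectives (ℕᵒᵖ ⥤ A) ↔ EnoughInjectives A := by
  exact ⟨fun _ => forward A, fun _ => backward A⟩

end Groth.Agent.S14023
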