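import Groth.Statements.S14026
import Mathlib
-- import your own Groth.Agent.* helpers here

set_option autoImplicit false
open CategoryTheory CategoryTheory.Limits Opposite
universe v u
open CohSite

namespace Groth.Agent.S14026.Aux

set_option autoImplicit false
open CategoryTheory CategoryTheory.Limits Opposite
universe w' w

section Abstract

universe v₂ v₃ u₂ u₃

variable {𝒞 : Type u₂} [Category.{v₂} 𝒞] {𝒟 : Type u₃} [Category.{v₃} 𝒟]

/-- whether a component of the unit is an isomorphism does not depend on the left adjoint -/
lemma isIso_unit_app_of_adj {L₁ L₂ : 𝒞 ⥤ 𝒟} {R : 𝒟 ⥤ 𝒞} (adj₁ : L₁ ⊣ R) (adj₂ : L₂ ⊣ R) (X : 𝒞)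
    [IsIso (adj₁.unit.app X)] : IsIso (adj₂.unit.app X) := by
  rw [← adj₁.unit_leftAdjointUniq_hom_app adj₂ X]
  infer_instance

end Abstract

variable {C : Type u} [Category.{v} C] (J : GrothendieckTopology C) (U : C)

/-- the forgetful functor from the slice over a subterminal object is full -/
lemma full_forget (hU : ∀ V : C, Subsingleton (V ⟶ U)) : (Over.forget U).Full where
  map_surjective {X Y} f := ⟨Over.homMk f ((hU _).elim _ _), rfl⟩

variable (A : Type w') [Category.{w} A]

theorem isIso_constr_unit_app (hU : ∀ V : C, Subsingleton (V ⟶ U))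
    [HasWeakSheafify J A] [HasWeakSheafify (J.over U) A]
    [∀ (P : (Over U)ᵒᵖ ⥤ A), (Over.forget U).op.HasLeftKanExtension P]
    [∀ (P : (Over U)ᵒᵖ ⥤ A), (Over.forget U).op.HasPointwiseLeftKanExtension P]
    [∀ (P : (Over U)ᵒᵖ ⥤ A), (Over.forget U).op.HasPointwiseRightKanExtension P]
    (F : Sheaf (J.over U) A) :
    IsIso ((Functor.sheafPullbackConstruction.sheafAdjunctionContinuous
      (Over.forget U) A (J.over U) J).unit.app F) := by
  haveI := full_forget U hU
  haveI h1 : IsIso (((Over.forget U).op.lanAdjunction A).unit.app F.obj) := inferInstance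
  have hP : Presheaf.IsSheaf (J.over U) ((Over.forget U).op ⋙ ((Over.forget U).op.lan).obj F.obj) :=
    (Presheaf.isSheaf_of_iso_iff (asIso (((Over.forget U).op.lanAdjunction A).unit.app F.obj))).1
      F.property
  haveI h2 : IsIso (toSheafify (J.over U)
      ((Over.forget U).op ⋙ ((Over.forget U).op.lan).obj F.obj)) :=
    isIso_toSheafify (J.over U) hP
  haveI h3 : IsIso (Functor.whiskerLeft (Over.forget U).op
      (toSheafify J (((Over.forget U).op.lan).obj F.obj))) := by
    rw [← (Over.forget U).toSheafify_pullbackSheafificationCompatibility A (J.over U) J]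
    haveI : IsIso (((Over.forget U).pushforwardContinuousSheafificationCompatibility
        A (J.over U) J).hom.app (((Over.forget U).op.lan).obj F.obj)).hom :=
      inferInstanceAs (IsIso ((sheafToPresheaf (J.over U) A).map
        (((Over.forget U).pushforwardContinuousSheafificationCompatibility
          A (J.over U) J).hom.app (((Over.forget U).op.lan).obj F.obj))))
    exact IsIso.comp_isIso' h2 this
  haveI : IsIso ((sheafToPresheaf _ _).map
      ((Functor.sheafPullbackConstruction.sheafAdjunctionContinuous
        (Over.forget U) A (J.over U) J).unit.app F)) := by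
    rw [Functor.sheafPullbackConstruction.sheafAdjunctionContinuous,
      Adjunction.map_restrictFullyFaithful_unit_app, Adjunction.comp_unit_app]
    simp only [Iso.refl_hom, NatTrans.id_app]
    erw [CategoryTheory.Functor.map_id, Category.comp_id]
    exact @IsIso.comp_isIso' _ _ _ _ _ _ _ (@IsIso.comp_isIso' _ _ _ _ _ _ _ h1 h3) (IsIso.id _)
  exact isIso_of_reflects_iso _ (sheafToPresheaf _ _)

theorem main
    {C : Type u} [Category.{v} C] (J : GrothendieckTopology C) (U : C)
    (hU : ∀ V : C, Subsingleton (V ⟶ U))
    [HasWeakSheafify J (Type (max u v))]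
    [∀ (P : (Over U)ᵒᵖ ⥤ (Type (max u v))), (Over.forget U).op.HasLeftKanExtension P]
    (F : Sheaf (J.over U) (Type (max u v))) :
    IsIso (((Over.forget U).sheafAdjunctionContinuous (Type (max u v)) (J.over U) J).unit.app F) := by
  haveI : ∀ (P : (Over U)ᵒᵖ ⥤ (Type (max u v))),
      (Over.forget U).op.HasPointwiseLeftKanExtension P := fun P => inferInstance
  haveI := isIso_constr_unit_app J U (Type (max u v)) hU F
  exact isIso_unit_app_of_adj (Functor.sheafPullbackConstruction.sheafAdjunctionContinuous
      (Over.forget U) (Type (max u v)) (J.over U) J) _ F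

end Groth.Agent.S14026.Aux

namespace Groth.Agent.S14026

/-- Let C be a site with topology J and U an object of C such that every object has at most one morphism
to U (a subobject of the terminal object). For sheaves of sets, let j^* be restriction to the
localized site C/U and j_! its left adjoint (extension by the empty set), which exists under the
stated sheafification and Kan-extension hypotheses. Then for every sheaf F on C/U the unit morphism
F ⟶ j^* j_! F is an isomorphism. -/
theorem result
    {C : Type u} [Category.{v} C] (J : GrothendieckTopology C) (U : C)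
    (hU : ∀ V : C, Subsingleton (V ⟶ U))
    [HasWeakSheafify J (Type (max u v))]
    [∀ (P : (Over U)ᵒᵖ ⥤ (Type (max u v))), (Over.forget U).op.HasLeftKanExtension P]
    (F : Sheaf (J.over U) (Type (max u v))) :
    IsIso (((Over.forget U).sheafAdjunctionContinuous (Type (max u v)) (J.over U) J).unit.app F) := by
  exact Aux.main J U hU F

end Groth.Agent.S14026
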