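import Groth.Statements.S1403
import Groth.Agent.Lib.Helper4LocParamB
import Groth.Agent.Lib.Helper4LocParamD
open Groth.Agent.Lib.Helper4.LocParam

set_option autoImplicit false
set_option linter.style.haveILetI false
universe u
open FlatMor

namespace Groth.Agent.S1403

/-- Let A → B be an injective local homomorphism of local domains with B essentially of finite type and
flat over A. Then dim(B / m_A B) + trdeg_{κ(A)} κ(B) = trdeg_A B; all three quantities are finite
here, and the statement gives them as natural numbers d, e with d + e the transcendence degree of B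
over A. -/
theorem result {A B : Type u} [CommRing A] [CommRing B] [IsDomain A] [IsDomain B] [IsLocalRing A] [IsLocalRing B]
    [Algebra A B] [IsLocalHom (algebraMap A B)] [FaithfulSMul A B] [Algebra.EssFiniteType A B] [Module.Flat A B] :
    ∃ d e : ℕ, ringKrullDim (B ⧸ Ideal.map (algebraMap A B) (IsLocalRing.maximalIdeal A)) = d ∧
      Algebra.trdeg (IsLocalRing.ResidueField A) (IsLocalRing.ResidueField B) = e ∧ Algebra.trdeg A B = (d + e : ℕ) := by
  classical
  have hIle : (IsLocalRing.maximalIdeal A).map (algebraMap A B) ≤ IsLocalRing.maximalIdeal B :=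
    map_maximalIdeal_le
  haveI hnoeth : IsNoetherianRing (B ⧸ (IsLocalRing.maximalIdeal A).map (algebraMap A B)) :=
    isNoetherianRing_quotient_of_map_le _ le_rfl
  haveI hloc := isLocalRing_quotient_of_le _ hIle
  have hcm := comap_maximalIdeal_quotient _ hIle
  obtain ⟨d, y, hy𝔪, hht, hminF, hminB⟩ := exists_params_quot _ hIle
  obtain ⟨e, z, he, hzind, hzalg⟩ := exists_lift_transcendenceBasis (A := A) (B := B)
  refine ⟨d, e, ?_, he, ?_⟩
  · rw [← IsLocalRing.maximalIdeal_height_eq_ringKrullDim, hht]
    rfl
  set x : Fin d ⊕ Fin e → B := Sum.elim y z with hx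
  -- lower bound, by flatness
  have hinj : Function.Injective (MvPolynomial.aeval x : MvPolynomial (Fin d ⊕ Fin e) A →ₐ[A] B) := by
    apply aeval_injective_of_flat
    letI : Field (A ⧸ IsLocalRing.maximalIdeal A) := Ideal.Quotient.field _
    have h1 := aeval_sumElim_injective (κ := A ⧸ IsLocalRing.maximalIdeal A)
      (F := B ⧸ (IsLocalRing.maximalIdeal A).map (algebraMap A B)) d e
      (fun i => Ideal.Quotient.mk _ (y i)) (fun i => Ideal.Quotient.mk _ (z i)) hminF hht (by
        intro P hP0 hmem
        obtain ⟨P', rfl⟩ := MvPolynomial.map_surjective (Ideal.Quotient.mk (IsLocalRing.maximalIdeal A))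
          Ideal.Quotient.mk_surjective P
        rw [← Groth.Agent.Lib.Helper4.ClosedPts.mk_aeval_eq (IsLocalRing.maximalIdeal A) z P',
          ← Ideal.mem_comap, hcm, ← IsLocalRing.residue_eq_zero_iff, residue_aeval_eq] at hmem
        have h2 : MvPolynomial.map (IsLocalRing.residue A) P' = 0 :=
          (algebraicIndependent_iff_injective_aeval.mp hzind) (by rw [hmem, map_zero])
        exact hP0 h2)
    have h3 : (fun i => Ideal.Quotient.mk ((IsLocalRing.maximalIdeal A).map (algebraMap A B)) (x i)) =
        Sum.elim (fun i => Ideal.Quotient.mk _ (y i)) (fun i => Ideal.Quotient.mk _ (z i)) := by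
      funext i
      rcases i with i | i <;> rfl
    rw [h3]
    exact h1
  have hge : ((d + e : ℕ) : Cardinal) ≤ Algebra.trdeg A B := by
    have h1 := (algebraicIndependent_iff_injective_aeval.mpr hinj).lift_cardinalMk_le_trdeg
    rw [Cardinal.lift_uzero, Cardinal.mk_fintype, Fintype.card_sum, Fintype.card_fin, Fintype.card_fin,
      Cardinal.lift_natCast] at h1
    exact h1
  -- upper bound, by Zariski's main theorem
  haveI halg : Algebra.IsAlgebraic (Algebra.adjoin A (Set.range x)) B :=
    isAlgebraic_adjoin_of_params x y z hy𝔪 (fun i => ⟨Sum.inl i, rfl⟩) (fun i => ⟨Sum.inr i, rfl⟩)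
      hminB hzalg
  have hle : Algebra.trdeg A B ≤ ((d + e : ℕ) : Cardinal) := by
    refine (Algebra.IsAlgebraic.trdeg_le_cardinalMk A (Set.range x)).trans ?_
    have h1 : Set.range x = ((Finset.univ.image x : Finset B) : Set B) := by
      rw [Finset.coe_image, Finset.coe_univ, Set.image_univ]
    rw [h1, Finset.coe_sort_coe, Cardinal.mk_coe_finset]
    have h2 : (Finset.univ.image x).card ≤ d + e := by
      refine Finset.card_image_le.trans ?_
      rw [Finset.card_univ, Fintype.card_sum, Fintype.card_fin, Fintype.card_fin]
    exact_mod_cast h2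
  exact le_antisymm hle hge

end Groth.Agent.S1403
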