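import Groth.Statements.S14032
import Mathlib.LinearAlgebra.TensorProduct.Quotient
import Mathlib.RingTheory.Noetherian.Nilpotent
import Mathlib.LinearAlgebra.Basis.Basic
import Mathlib.LinearAlgebra.Basis.Submodule
import Mathlib.Tactic

set_option autoImplicit false
universe u v
open W4c1frobunstiva

namespace Groth.Agent.S14032

open TensorProduct

section aux

variable {R : Type u} [CommRing R] {M : Type v} [AddCommGroup M] [Module R M]

/-- `1 ⊗ y = 0` in `(R ⧸ I) ⊗ M` exactly when `y ∈ I M`. -/
lemma one_tmul_eq_zero_iff (I : Ideal R) (y : M) :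
    ((1 : R ⧸ I) ⊗ₜ[R] y = 0) ↔ y ∈ I • (⊤ : Submodule R M) := by
  rw [← (TensorProduct.quotTensorEquivQuotSMul M I).map_eq_zero_iff,
    TensorProduct.quotTensorEquivQuotSMul_mk_one_tmul, Submodule.Quotient.mk_eq_zero]

lemma one_tmul_surjective (I : Ideal R) (t : (R ⧸ I) ⊗[R] M) :
    ∃ x : M, (1 : R ⧸ I) ⊗ₜ[R] x = t := by
  obtain ⟨x, hx⟩ := Submodule.Quotient.mk_surjective _ (TensorProduct.quotTensorEquivQuotSMul M I t)
  refine ⟨x, ?_⟩
  apply (TensorProduct.quotTensorEquivQuotSMul M I).injective
  rw [TensorProduct.quotTensorEquivQuotSMul_mk_one_tmul, hx]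

lemma mk_smul_one_tmul (I : Ideal R) (a : R) (x : M) :
    (Ideal.Quotient.mk I a) • ((1 : R ⧸ I) ⊗ₜ[R] x) = (1 : R ⧸ I) ⊗ₜ[R] (a • x) := by
  rw [TensorProduct.smul_tmul', smul_eq_mul, mul_one, ← TensorProduct.smul_tmul]
  congr 1
  rw [← Ideal.Quotient.algebraMap_eq, Algebra.algebraMap_eq_smul_one]

lemma sum_mk_smul_one_tmul (I : Ideal R) {r : ℕ} (a : Fin r → R) (m : Fin r → M) :
    ∑ i, (Ideal.Quotient.mk I (a i)) • ((1 : R ⧸ I) ⊗ₜ[R] m i) =
      (1 : R ⧸ I) ⊗ₜ[R] (∑ i, a i • m i) := by
  rw [TensorProduct.tmul_sum]
  exact Finset.sum_congr rfl fun i _ => mk_smul_one_tmul I (a i) (m i)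

end aux

open TensorProduct in
/-- Let R be a commutative Noetherian ring with nilradical n, M an R-module and r a natural number. Then
M is NR-free of rank r — generated by r elements such that every linear relation among them has
nilpotent coefficients — if and only if (R/n) ⊗_R M is free of rank r over R/n, in the sense of
admitting a basis indexed by r elements. (The published statement assumes M finitely generated and
also gives the converse when R is local; over a Noetherian ring the nilradical is nilpotent, the
case used here, and finite generation is not needed.) -/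
theorem result (R : Type u) [CommRing R]
    [IsNoetherianRing R] (M : Type v) [AddCommGroup M] [Module R M] (r : ℕ) :
    W4c1frobunstiva.IsNRFree R M r ↔
      Nonempty (Module.Basis (Fin r) (R ⧸ nilradical R) ((R ⧸ nilradical R) ⊗[R] M)) := by
  classical
  constructor
  · rintro ⟨m, hspan, hrel⟩
    -- elements of `N M` are combinations of the generators with nilpotent coefficients
    have hNM : ∀ y ∈ nilradical R • (⊤ : Submodule R M),
        ∃ c : Fin r → R, (∀ i, c i ∈ nilradical R) ∧ y = ∑ i, c i • m i := by
      intro y hy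
      refine Submodule.smul_induction_on
        (p := fun y => ∃ c : Fin r → R, (∀ i, c i ∈ nilradical R) ∧ y = ∑ i, c i • m i) hy ?_ ?_
      · intro n hn x _
        have hx : x ∈ Submodule.span R (Set.range m) := by rw [hspan]; trivial
        obtain ⟨d, rfl⟩ := (Submodule.mem_span_range_iff_exists_fun R).mp hx
        refine ⟨fun i => n * d i, fun i => Ideal.mul_mem_right _ _ hn, ?_⟩
        rw [Finset.smul_sum]
        exact Finset.sum_congr rfl fun i _ => by rw [smul_smul]
      · rintro x y ⟨c, hc, rfl⟩ ⟨c', hc', rfl⟩
        refine ⟨fun i => c i + c' i, fun i => Ideal.add_mem _ (hc i) (hc' i), ?_⟩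
        rw [← Finset.sum_add_distrib]
        exact Finset.sum_congr rfl fun i _ => by rw [add_smul]
    have hli : LinearIndependent (R ⧸ nilradical R)
        (fun i : Fin r => (1 : R ⧸ nilradical R) ⊗ₜ[R] m i) := by
      rw [Fintype.linearIndependent_iff]
      intro g hg i
      choose a ha using fun i => Ideal.Quotient.mk_surjective (g i)
      have hg' : ∑ i, (Ideal.Quotient.mk (nilradical R) (a i)) •
          ((1 : R ⧸ nilradical R) ⊗ₜ[R] m i) = 0 := by
        rw [← hg]
        exact Finset.sum_congr rfl fun i _ => by rw [ha i]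
      rw [sum_mk_smul_one_tmul, one_tmul_eq_zero_iff] at hg'
      obtain ⟨c, hc, hyc⟩ := hNM _ hg'
      have hzero : ∑ i, (a i - c i) • m i = 0 := by
        simp only [sub_smul, Finset.sum_sub_distrib]
        rw [hyc, sub_self]
      have hnil := hrel _ hzero i
      rw [← ha i, Ideal.Quotient.eq_zero_iff_mem]
      have : a i = (a i - c i) + c i := by ring
      rw [this]
      exact Ideal.add_mem _ (mem_nilradical.mpr hnil) (hc i)
    have hsp : ⊤ ≤ Submodule.span (R ⧸ nilradical R)
        (Set.range fun i : Fin r => (1 : R ⧸ nilradical R) ⊗ₜ[R] m i) := by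
      intro t _
      obtain ⟨x, rfl⟩ := one_tmul_surjective (nilradical R) t
      have hx : x ∈ Submodule.span R (Set.range m) := by rw [hspan]; trivial
      obtain ⟨d, rfl⟩ := (Submodule.mem_span_range_iff_exists_fun R).mp hx
      rw [← sum_mk_smul_one_tmul]
      exact Submodule.sum_mem _ fun i _ =>
        Submodule.smul_mem _ _ (Submodule.subset_span ⟨i, rfl⟩)
    exact ⟨Module.Basis.mk hli hsp⟩
  · rintro ⟨b⟩
    choose m hm using fun i => one_tmul_surjective (nilradical R) (b i)
    refine ⟨m, ?_, ?_⟩
    · -- generation, by the nilpotent form of Nakayama's lemma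
      set S := Submodule.span R (Set.range m) with hS
      have hsup : S ⊔ nilradical R • (⊤ : Submodule R M) = ⊤ := by
        rw [eq_top_iff]
        intro x _
        have hx : (1 : R ⧸ nilradical R) ⊗ₜ[R] x ∈
            Submodule.span (R ⧸ nilradical R) (Set.range b) := by
          rw [b.span_eq]; trivial
        obtain ⟨g, hg⟩ := (Submodule.mem_span_range_iff_exists_fun _).mp hx
        choose a ha using fun i => Ideal.Quotient.mk_surjective (g i)
        have h1 : (1 : R ⧸ nilradical R) ⊗ₜ[R] (x - ∑ i, a i • m i) = 0 := by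
          rw [TensorProduct.tmul_sub, ← sum_mk_smul_one_tmul, ← hg, sub_eq_zero]
          exact Finset.sum_congr rfl fun i _ => by rw [ha i, hm i]
        rw [one_tmul_eq_zero_iff] at h1
        have h2 : x = ∑ i, a i • m i + (x - ∑ i, a i • m i) := by abel
        rw [h2]
        exact Submodule.add_mem_sup
          (Submodule.sum_mem _ fun i _ => Submodule.smul_mem _ _ (Submodule.subset_span ⟨i, rfl⟩)) h1
      have hpow : ∀ k : ℕ, S ⊔ (nilradical R) ^ k • (⊤ : Submodule R M) = ⊤ := by
        intro k
        induction k with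
        | zero => simp
        | succ k ih =>
          have step : nilradical R • (⊤ : Submodule R M) ≤
              S ⊔ nilradical R ^ (k + 1) • (⊤ : Submodule R M) := by
            calc nilradical R • (⊤ : Submodule R M)
                = nilradical R • (S ⊔ nilradical R ^ k • (⊤ : Submodule R M)) := by rw [ih]
              _ = nilradical R • S ⊔ nilradical R • (nilradical R ^ k • (⊤ : Submodule R M)) :=
                  Submodule.smul_sup _ _ _
              _ ≤ S ⊔ nilradical R ^ (k + 1) • (⊤ : Submodule R M) := by
                  refine sup_le_sup Submodule.smul_le_right ?_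
                  rw [← mul_smul, ← pow_succ']
          rw [eq_top_iff]
          calc (⊤ : Submodule R M) = S ⊔ nilradical R • (⊤ : Submodule R M) := hsup.symm
            _ ≤ S ⊔ nilradical R ^ (k + 1) • (⊤ : Submodule R M) := sup_le le_sup_left step
      obtain ⟨k, hk⟩ := IsNoetherianRing.isNilpotent_nilradical R
      have := hpow k
      rw [hk, Submodule.zero_eq_bot, Submodule.bot_smul, sup_bot_eq] at this
      exact this
    · intro a ha i
      have h1 : (1 : R ⧸ nilradical R) ⊗ₜ[R] (∑ i, a i • m i) = 0 := by rw [ha, TensorProduct.tmul_zero]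
      rw [← sum_mk_smul_one_tmul] at h1
      have h2 : ∑ i, (Ideal.Quotient.mk (nilradical R) (a i)) • b i = 0 := by
        rw [← h1]
        exact Finset.sum_congr rfl fun i _ => by rw [hm i]
      have h3 := (Fintype.linearIndependent_iff.mp b.linearIndependent) _ h2 i
      rw [Ideal.Quotient.eq_zero_iff_mem] at h3
      exact mem_nilradical.mp h3

end Groth.Agent.S14032
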