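import Groth.Statements.S14033
import Mathlib

set_option autoImplicit false
universe u v
open W4c1frobunstiva

namespace Groth.Agent.S14033

section aux
open DualNumber Pointwise TrivSqZeroExt

variable {R : Type u} [CommRing R] {M : Type v} [AddCommGroup M] [Module R[ε] M] [Module R M]
  [IsScalarTower R R[ε] M] {r : ℕ}

lemma smul_eq (x : R[ε]) (m : M) : x • m = x.fst • m + x.snd • ((ε : R[ε]) • m) := by
  conv_lhs => rw [← TrivSqZeroExt.inl_fst_add_inr_snd_eq x]
  have h1 : (inl (fst x) : R[ε]) = algebraMap R R[ε] (fst x) := rfl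
  rw [add_smul, h1, algebraMap_smul, DualNumber.inr_eq_smul_eps, smul_assoc]

lemma eps_eps (m : M) : (ε : R[ε]) • ((ε : R[ε]) • m) = 0 := by
  rw [smul_smul, DualNumber.eps_mul_eps, zero_smul]

lemma mem_E (m : M) : m ∈ ((ε : R[ε]) • (⊤ : Submodule R[ε] M)) ↔ ∃ m', (ε : R[ε]) • m' = m := by
  rw [Submodule.mem_smul_pointwise_iff_exists]
  simp

lemma eps_mem (m : M) : (ε : R[ε]) • m ∈ ((ε : R[ε]) • (⊤ : Submodule R[ε] M)) :=
  (mem_E _).2 ⟨m, rfl⟩

lemma eps_smul_comm (a : R) (m : M) : (ε : R[ε]) • (a • m) = a • ((ε : R[ε]) • m) :=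
  smul_comm _ _ _


lemma sum_eq_zero (b : Module.Basis (Fin r) R[ε] M) (x : Fin r → R[ε])
    (h : ∑ i, x i • b i = 0) : ∀ i, x i = 0 :=
  Fintype.linearIndependent_iff.1 b.linearIndependent x h

lemma fwd (r : ℕ) (b : Module.Basis (Fin r) R[ε] M) :
    Nonempty (Module.Basis (Fin r) R (M ⧸ ((ε : R[ε]) • (⊤ : Submodule R[ε] M)))) ∧
      Nonempty (Module.Basis (Fin r) R (((ε : R[ε]) • (⊤ : Submodule R[ε] M)).restrictScalars R)) := by
  set E := ((ε : R[ε]) • (⊤ : Submodule R[ε] M)) with hE
  constructor
  · refine ⟨Module.Basis.mk (v := fun i => (Submodule.Quotient.mk (b i) : M ⧸ E)) ?_ ?_⟩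
    · rw [Fintype.linearIndependent_iff]
      intro g hg
      have h1 : (Submodule.Quotient.mk (∑ i, g i • b i) : M ⧸ E) = 0 := by
        rw [← hg]
        show E.mkQ _ = _
        rw [map_sum]
        exact Finset.sum_congr rfl fun _ _ => rfl
      rw [Submodule.Quotient.mk_eq_zero, hE, mem_E] at h1
      obtain ⟨m', hm'⟩ := h1
      have h2 : ∑ i, ((inl (g i) : R[ε]) - ε * b.repr m' i) • b i = 0 := by
        simp only [sub_smul, Finset.sum_sub_distrib]
        rw [sub_eq_zero]
        have h3 : ∑ i, (ε * b.repr m' i) • b i = (ε : R[ε]) • m' := by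
          conv_rhs => rw [← b.sum_repr m', Finset.smul_sum]
          simp only [smul_smul]
        rw [h3, hm']
        refine Finset.sum_congr rfl fun i _ => ?_
        exact algebraMap_smul R[ε] (g i) (b i)
      intro i
      have h4 := sum_eq_zero b _ h2 i
      have h5 := congrArg TrivSqZeroExt.fst h4
      simpa using h5
    · rintro q -
      induction q using Submodule.Quotient.induction_on with
      | _ m =>
      rw [← b.sum_repr m]
      show E.mkQ _ ∈ _
      rw [map_sum]
      refine Submodule.sum_mem _ fun i _ => ?_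
      show (Submodule.Quotient.mk _ : M ⧸ E) ∈ _
      rw [smul_eq, Submodule.Quotient.mk_add]
      have h1 : (Submodule.Quotient.mk ((b.repr m i).snd • ((ε : R[ε]) • b i)) : M ⧸ E) = 0 := by
        rw [Submodule.Quotient.mk_eq_zero, ← eps_smul_comm]
        exact eps_mem _
      rw [h1, add_zero, Submodule.Quotient.mk_smul]
      exact Submodule.smul_mem _ _ (Submodule.subset_span (Set.mem_range_self i))
  · refine ⟨Module.Basis.mk (v := fun i => (⟨(ε : R[ε]) • b i, eps_mem _⟩ : E.restrictScalars R)) ?_ ?_⟩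
    · rw [Fintype.linearIndependent_iff]
      intro h hh
      have h1 := congrArg (Subtype.val) hh
      simp only [Submodule.coe_sum, Submodule.coe_smul, Submodule.coe_zero] at h1
      have h2 : ∑ i, (h i • (ε : R[ε])) • b i = 0 := by
        rw [← h1]
        refine Finset.sum_congr rfl fun i _ => ?_
        rw [smul_assoc]
      intro i
      have h4 := sum_eq_zero b _ h2 i
      have h5 := congrArg TrivSqZeroExt.snd h4
      simpa using h5
    · rintro ⟨e, he⟩ -
      obtain ⟨m, rfl⟩ := (mem_E e).1 he
      have h1 : (ε : R[ε]) • m = ∑ i, (b.repr m i).fst • ((ε : R[ε]) • b i) := by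
        conv_lhs => rw [← b.sum_repr m, Finset.smul_sum]
        refine Finset.sum_congr rfl fun i _ => ?_
        rw [smul_eq (b.repr m i), smul_add, eps_smul_comm, eps_smul_comm, eps_eps, smul_zero, add_zero]
      have h2 : (⟨(ε : R[ε]) • m, he⟩ : E.restrictScalars R) =
          ∑ i, (b.repr m i).fst • (⟨(ε : R[ε]) • b i, eps_mem _⟩ : E.restrictScalars R) := by
        apply Subtype.ext
        simp only [Submodule.coe_sum, Submodule.coe_smul]
        exact h1
      rw [h2]
      exact Submodule.sum_mem _ fun i _ =>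
        Submodule.smul_mem _ _ (Submodule.subset_span ⟨i, rfl⟩)


lemma bwd (r : ℕ)
    (B1 : Module.Basis (Fin r) R (M ⧸ ((ε : R[ε]) • (⊤ : Submodule R[ε] M))))
    (B2 : Module.Basis (Fin r) R (((ε : R[ε]) • (⊤ : Submodule R[ε] M)).restrictScalars R)) :
    Nonempty (Module.Basis (Fin r) R[ε] M) := by
  set E := ((ε : R[ε]) • (⊤ : Submodule R[ε] M)) with hE
  have hlift : ∀ i, ∃ a : M, (Submodule.Quotient.mk a : M ⧸ E) = B1 i :=
    fun i => Submodule.Quotient.mk_surjective _ _
  choose a ha using hlift
  let w : Fin r → E.restrictScalars R := fun i => ⟨(ε : R[ε]) • a i, eps_mem _⟩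
  let L : (Fin r → R) →ₗ[R] E.restrictScalars R := Fintype.linearCombination R w
  have hLapply : ∀ g, ((L g : E.restrictScalars R) : M) = ∑ i, g i • ((ε : R[ε]) • a i) := by
    intro g
    simp only [L, Fintype.linearCombination_apply, w, Submodule.coe_sum, Submodule.coe_smul]
  have hmk : ∀ g : Fin r → R, (Submodule.Quotient.mk (∑ i, g i • a i) : M ⧸ E) = ∑ i, g i • B1 i := by
    intro g
    show E.mkQ _ = _
    rw [map_sum]
    refine Finset.sum_congr rfl fun i _ => ?_
    rw [← ha i]
    rfl
  have hdecomp : ∀ m : M, ∃ g : Fin r → R, m - ∑ i, g i • a i ∈ E := by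
    intro m
    refine ⟨fun i => B1.repr (Submodule.Quotient.mk m) i, ?_⟩
    rw [← Submodule.Quotient.mk_eq_zero, Submodule.Quotient.mk_sub, sub_eq_zero, hmk]
    exact (B1.sum_repr (Submodule.Quotient.mk m)).symm
  have hLsurj : Function.Surjective L := by
    rintro ⟨e, he⟩
    obtain ⟨m, rfl⟩ := (mem_E e).1 he
    obtain ⟨g, hg⟩ := hdecomp m
    obtain ⟨m'', hm''⟩ := (mem_E _).1 hg
    refine ⟨g, Subtype.ext ?_⟩
    rw [hLapply]
    have h1 : m = ∑ i, g i • a i + (ε : R[ε]) • m'' := by rw [hm'']; abel
    show _ = (ε : R[ε]) • m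
    rw [h1, smul_add, eps_eps, add_zero, Finset.smul_sum]
    exact Finset.sum_congr rfl fun i _ => (eps_smul_comm _ _).symm
  have hLinj : Function.Injective L := by
    have hT : Function.Surjective (B2.equivFun.toLinearMap ∘ₗ L) :=
      B2.equivFun.surjective.comp hLsurj
    have h2 := OrzechProperty.injective_of_surjective_endomorphism _ hT
    exact Function.Injective.of_comp (f := B2.equivFun) h2
  refine ⟨Module.Basis.mk (v := a) ?_ ?_⟩
  · rw [Fintype.linearIndependent_iff]
    intro x hx
    have h1 : ∑ i, ((x i).fst • a i + (x i).snd • ((ε : R[ε]) • a i)) = 0 := by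
      rw [← hx]
      exact Finset.sum_congr rfl fun i _ => (smul_eq _ _).symm
    rw [Finset.sum_add_distrib] at h1
    have h2 : ∑ i, (x i).snd • ((ε : R[ε]) • a i) ∈ E := by
      refine Submodule.sum_mem _ fun i _ => ?_
      rw [← eps_smul_comm]
      exact eps_mem _
    have h3 : (Submodule.Quotient.mk (∑ i, (x i).fst • a i) : M ⧸ E) = 0 := by
      rw [Submodule.Quotient.mk_eq_zero]
      have : ∑ i, (x i).fst • a i = - ∑ i, (x i).snd • ((ε : R[ε]) • a i) :=
        eq_neg_of_add_eq_zero_left h1
      rw [this]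
      exact E.neg_mem h2
    rw [hmk] at h3
    have h4 := Fintype.linearIndependent_iff.1 B1.linearIndependent _ h3
    have h5 : ∑ i, (x i).fst • a i = 0 := by simp [h4]
    rw [h5, zero_add] at h1
    have h6 : L (fun i => (x i).snd) = 0 := by
      apply Subtype.ext
      rw [hLapply]
      exact h1
    have h7 := hLinj (h6.trans (map_zero L).symm)
    intro i
    exact TrivSqZeroExt.ext (h4 i) (congrFun h7 i)
  · rintro m -
    obtain ⟨g, hg⟩ := hdecomp m
    obtain ⟨h, hh⟩ := hLsurj ⟨m - ∑ i, g i • a i, hg⟩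
    have h1 := congrArg Subtype.val hh
    rw [hLapply] at h1
    have h2 : m = ∑ i, ((inl (g i) + inr (h i) : R[ε])) • a i := by
      have : ∀ i, ((inl (g i) + inr (h i) : R[ε])) • a i = g i • a i + h i • ((ε : R[ε]) • a i) := by
        intro i
        rw [smul_eq]
        simp
      simp only [this, Finset.sum_add_distrib]
      rw [h1]
      show m = ∑ x, g x • a x + (m - ∑ x, g x • a x)
      abel
    rw [h2]
    exact Submodule.sum_mem _ fun i _ =>
      Submodule.smul_mem _ _ (Submodule.subset_span (Set.mem_range_self i))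


end aux

open DualNumber Pointwise in
/-- Let R be a commutative ring, R[ε] its ring of dual numbers (ε² = 0), M an R[ε]-module and r a
natural number. Then M is free of rank r over R[ε] (admits a basis of r elements) if and only if the
R-modules M/εM and εM are both free of rank r. (The published statement concerns a coherent sheaf on
the product of a scheme S with Spec ℤ[ε] and local freeness of rank r; that assertion is local, and
this row is its form over one ring, with no finiteness assumption on M and no hypothesis on R.) -/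
theorem result (R : Type u) [CommRing R] (M : Type v)
    [AddCommGroup M] [Module R[ε] M] [Module R M] [IsScalarTower R R[ε] M] (r : ℕ) :
    Nonempty (Module.Basis (Fin r) R[ε] M) ↔
      (Nonempty (Module.Basis (Fin r) R (M ⧸ ((ε : R[ε]) • (⊤ : Submodule R[ε] M)))) ∧
        Nonempty (Module.Basis (Fin r) R (((ε : R[ε]) • (⊤ : Submodule R[ε] M)).restrictScalars R))) := by
  constructor
  · rintro ⟨b⟩
    exact fwd r b
  · rintro ⟨⟨B1⟩, ⟨B2⟩⟩
    exact bwd r B1 B2

end Groth.Agent.S14033
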