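import Groth.Statements.S14034
import Mathlib
-- import your own Groth.Agent.* helpers here

set_option autoImplicit false
universe u
open W4c1frobunstiva

namespace Groth.Agent.S14034.Aux

set_option autoImplicit false

namespace NRKer


open W4c1frobunstiva

variable {R : Type u} [CommRing R] [IsLocalRing R]

/-- kernel of a surjection from a finite free module onto `R^s` over a local ring -/
theorem ker_free_of_surjective {E : Type u} [AddCommGroup E] [Module R E] [Module.Free R E]
    [Module.Finite R E] (s : ℕ) (Ψ : E →ₗ[R] (Fin s → R)) (hΨ : Function.Surjective Ψ) :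
    ∃ (P : E →ₗ[R] LinearMap.ker Ψ), (∀ x : LinearMap.ker Ψ, P x = x) ∧
      Module.Free R (LinearMap.ker Ψ) ∧ Module.Finite R (LinearMap.ker Ψ) ∧
      Module.finrank R (LinearMap.ker Ψ) + s = Module.finrank R E := by
  obtain ⟨σ, hσ⟩ := Module.projective_lifting_property Ψ LinearMap.id hΨ
  have hσ' : ∀ y, Ψ (σ y) = y := fun y => LinearMap.congr_fun hσ y
  let P : E →ₗ[R] LinearMap.ker Ψ :=
    LinearMap.codRestrict (LinearMap.ker Ψ) (LinearMap.id - σ ∘ₗ Ψ) (by
      intro x
      rw [LinearMap.mem_ker]
      simp [hσ'])
  have hP : ∀ x : LinearMap.ker Ψ, P x = x := by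
    intro x
    apply Subtype.ext
    have hx : Ψ x.1 = 0 := x.2
    simp [P, hx]
  have hproj : Module.Projective R (LinearMap.ker Ψ) :=
    Module.Projective.of_split (LinearMap.ker Ψ).subtype P (by
      ext x
      simp [hP])
  have hfin : Module.Finite R (LinearMap.ker Ψ) :=
    Module.Finite.of_surjective P (fun x => ⟨x.1, hP x⟩)
  have hfree : Module.Free R (LinearMap.ker Ψ) := Module.free_of_flat_of_isLocalRing
  refine ⟨P, hP, hfree, hfin, ?_⟩
  let e : E ≃ₗ[R] (LinearMap.ker Ψ × (Fin s → R)) :=
    LinearEquiv.ofLinearMap (P.prod Ψ)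
      ((LinearMap.ker Ψ).subtype.coprod σ)
      (by
        apply LinearMap.ext
        rintro ⟨k, y⟩
        have hk : Ψ k.1 = 0 := k.2
        apply Prod.ext
        · apply Subtype.ext
          simp [P, hk, hσ']
        · simp [hk, hσ'])
      (by
        apply LinearMap.ext
        intro x
        simp [P])
  rw [e.finrank_eq, Module.finrank_prod, Module.finrank_fin_fun]

theorem main' (f : R)
    (hann : ∀ a : R, a * f = 0 → IsNilpotent a) (r s l : ℕ) (hls : l ≤ s)
    (S : Submodule R (Fin s → R))
    (hS : S = Submodule.span R (Set.range fun i : Fin l =>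
        (Pi.single (Fin.castLE hls i) f : Fin s → R)))
    (φ : (Fin r → R) →ₗ[R] ((Fin s → R) ⧸ S))
    (hφ : Function.Surjective φ) :
    IsNRFree R (LinearMap.ker φ) (r + l - s) ∧
      (l = 0 → Nonempty (Module.Basis (Fin (r - s)) R (LinearMap.ker φ))) := by
  classical
  -- lift φ
  obtain ⟨Φ, hΦ⟩ := Module.projective_lifting_property S.mkQ φ (Submodule.mkQ_surjective S)
  have hΦ' : ∀ u, S.mkQ (Φ u) = φ u := fun u => LinearMap.congr_fun hΦ u
  -- the map g
  let g : (Fin l → R) →ₗ[R] (Fin s → R) :=
    Fintype.linearCombination R (fun i : Fin l => (Pi.single (Fin.castLE hls i) f : Fin s → R))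
  have hg_apply : ∀ v, g v = ∑ i, v i • (Pi.single (Fin.castLE hls i) f : Fin s → R) := by
    intro v
    simp [g, Fintype.linearCombination_apply]
  have hg_mem : ∀ v, g v ∈ S := by
    intro v
    rw [hg_apply, hS]
    apply Submodule.sum_mem
    intro i _
    exact Submodule.smul_mem _ _ (Submodule.subset_span ⟨i, rfl⟩)
  have hg_surj : ∀ x ∈ S, ∃ v, g v = x := by
    intro x hx
    have : S = LinearMap.range g := by
      rw [hS]
      exact (Fintype.range_linearCombination R _).symm
    rw [this] at hx
    exact hx
  have hg_coord : ∀ v (i : Fin l), (g v) (Fin.castLE hls i) = v i * f := by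
    intro v i
    rw [hg_apply, Finset.sum_apply]
    rw [Finset.sum_eq_single i]
    · simp
    · intro j _ hji
      have : Fin.castLE hls j ≠ Fin.castLE hls i := by
        intro h
        exact hji (Fin.castLE_injective hls h)
      simp [Pi.single_apply, this.symm]
    · intro h
      exact absurd (Finset.mem_univ i) h
  -- Ψ
  let Ψ : ((Fin r → R) × (Fin l → R)) →ₗ[R] (Fin s → R) := Φ.coprod (-g)
  have hΨ_apply : ∀ u v, Ψ (u, v) = Φ u - g v := by
    intro u v
    simp [Ψ, sub_eq_add_neg]
  have hΨ : Function.Surjective Ψ := by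
    intro y
    obtain ⟨u, hu⟩ := hφ (S.mkQ y)
    have h1 : y - Φ u ∈ S := by
      rw [← Submodule.Quotient.mk_eq_zero S]
      have : S.mkQ (y - Φ u) = 0 := by
        rw [map_sub, hΦ', hu, sub_self]
      exact this
    obtain ⟨v, hv⟩ := hg_surj _ h1
    refine ⟨(u, -v), ?_⟩
    rw [hΨ_apply, map_neg, sub_neg_eq_add, hv]
    abel
  have hker : ∀ u : Fin r → R, u ∈ LinearMap.ker φ ↔ ∃ v, (u, v) ∈ LinearMap.ker Ψ := by
    intro u
    rw [LinearMap.mem_ker, ← hΦ']
    change S.mkQ (Φ u) = 0 ↔ _
    rw [Submodule.mkQ_apply, Submodule.Quotient.mk_eq_zero]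
    constructor
    · intro h
      obtain ⟨v, hv⟩ := hg_surj _ h
      exact ⟨v, by rw [LinearMap.mem_ker, hΨ_apply, hv, sub_self]⟩
    · rintro ⟨v, hv⟩
      rw [LinearMap.mem_ker, hΨ_apply, sub_eq_zero] at hv
      rw [hv]
      exact hg_mem v
  obtain ⟨P, hP, hfree, hfin, hrank⟩ := ker_free_of_surjective s Ψ hΨ
  have hrankE : Module.finrank R ((Fin r → R) × (Fin l → R)) = r + l := by
    rw [Module.finrank_prod, Module.finrank_fin_fun, Module.finrank_fin_fun]
  have ht : Module.finrank R (LinearMap.ker Ψ) = r + l - s := by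
    rw [hrankE] at hrank
    omega
  let w : Module.Basis (Fin (r + l - s)) R (LinearMap.ker Ψ) := Module.finBasisOfFinrankEq R _ ht
  -- generators of ker φ
  let m : Fin (r + l - s) → LinearMap.ker φ := fun j =>
    ⟨(w j).1.1, (hker _).mpr ⟨(w j).1.2, by
      have := (w j).2
      exact this⟩⟩
  have hspan : Submodule.span R (Set.range m) = ⊤ := by
    rw [eq_top_iff]
    rintro ⟨u, hu⟩ -
    obtain ⟨v, hv⟩ := (hker u).mp hu
    set x : LinearMap.ker Ψ := ⟨(u, v), hv⟩ with hx
    have hrepr := w.sum_repr x
    have hfst : (⟨u, hu⟩ : LinearMap.ker φ) = ∑ j, (w.repr x j) • m j := by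
      apply Subtype.ext
      have h1 : (∑ j, (w.repr x j) • w j : LinearMap.ker Ψ).1.1 = u := by rw [hrepr]
      change u = _
      rw [← h1]
      simp only [Submodule.coe_sum, Submodule.coe_smul, Prod.fst_sum, Prod.smul_fst, m]
    rw [hfst]
    apply Submodule.sum_mem
    intro j _
    exact Submodule.smul_mem _ _ (Submodule.subset_span ⟨j, rfl⟩)
  refine ⟨⟨m, hspan, ?_⟩, ?_⟩
  · intro a ha j
    -- the combination of the w j
    set z : LinearMap.ker Ψ := ∑ i, a i • w i with hz
    have hz1 : z.1.1 = 0 := by
      have := congrArg (fun y : LinearMap.ker φ => (y : Fin r → R)) ha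
      simp only [m, Submodule.coe_sum, Submodule.coe_smul, ZeroMemClass.coe_zero] at this
      rw [hz]
      simp only [Submodule.coe_sum, Submodule.coe_smul, Prod.fst_sum, Prod.smul_fst]
      exact this
    have hzker : Ψ z.1 = 0 := z.2
    have hz2 : ∀ i : Fin l, IsNilpotent (z.1.2 i) := by
      intro i
      apply hann
      have h1 : z.1 = (z.1.1, z.1.2) := rfl
      rw [h1, hΨ_apply, hz1, map_zero, zero_sub, neg_eq_zero] at hzker
      rw [← hg_coord, hzker]
      rfl
    -- coordinates of z via P
    have hzP : z = P ((0 : Fin r → R), z.1.2) := by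
      have h0 : (z : (Fin r → R) × (Fin l → R)) = ((0 : Fin r → R), z.1.2) := Prod.ext hz1 rfl
      exact (hP z).symm.trans (congrArg P h0)
    have haj : a j = w.repr z j := by
      rw [hz]
      simp [map_sum, Finsupp.single_apply]
    rw [haj, hzP]
    -- expand (0, v) = Σ v i • (0, e_i)
    have hexp : ((0 : Fin r → R), z.1.2) =
        ∑ i, z.1.2 i • ((0 : Fin r → R), (Pi.single i 1 : Fin l → R)) := by
      apply Prod.ext
      · simp [Prod.fst_sum]
      · rw [Prod.snd_sum]
        ext i'
        simp [Finset.sum_apply, Pi.single_apply]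
    rw [hexp, map_sum, map_sum, Finsupp.finsetSum_apply]
    apply isNilpotent_sum
    intro i _
    rw [map_smul, map_smul, Finsupp.smul_apply, smul_eq_mul]
    exact (Commute.all _ _).isNilpotent_mul_right (hz2 i)
  · intro hl0
    subst hl0
    -- here ker φ ≃ ker Ψ
    have hinj : ∀ x : LinearMap.ker Ψ, x.1.2 = 0 := by
      intro x
      funext i
      exact Fin.elim0 i
    let e : LinearMap.ker Ψ ≃ₗ[R] LinearMap.ker φ :=
      LinearEquiv.ofBijective
        (LinearMap.codRestrict (LinearMap.ker φ)
          ((LinearMap.fst R (Fin r → R) (Fin 0 → R)) ∘ₗ (LinearMap.ker Ψ).subtype)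
          (fun x => (hker _).mpr ⟨x.1.2, x.2⟩))
        ⟨by
          intro x y hxy
          have h1 : x.1.1 = y.1.1 := by
            have := congrArg (fun y : LinearMap.ker φ => (y : Fin r → R)) hxy
            simpa using this
          apply Subtype.ext
          apply Prod.ext h1
          rw [hinj x, hinj y],
        by
          rintro ⟨u, hu⟩
          obtain ⟨v, hv⟩ := (hker u).mp hu
          exact ⟨⟨(u, v), hv⟩, by apply Subtype.ext; simp⟩⟩
    have ht' : Module.finrank R (LinearMap.ker Ψ) = r - s := by
      rw [ht]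
      omega
    exact ⟨(Module.finBasisOfFinrankEq R _ ht').map e⟩

theorem main (f : R)
    (hann : ∀ a : R, a * f = 0 → IsNilpotent a) (r s l : ℕ) (hls : l ≤ s)
    (φ : (Fin r → R) →ₗ[R]
      ((Fin s → R) ⧸ Submodule.span R (Set.range fun i : Fin l =>
        (Pi.single (Fin.castLE hls i) f : Fin s → R))))
    (hφ : Function.Surjective φ) :
    IsNRFree R (LinearMap.ker φ) (r + l - s) ∧
      (l = 0 → Nonempty (Module.Basis (Fin (r - s)) R (LinearMap.ker φ))) :=
  main' f hann r s l hls _ rfl φ hφ

end NRKer

end Groth.Agent.S14034.Aux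

namespace Groth.Agent.S14034

/-- Let R be a Noetherian local ring and f an element of R whose annihilator consists of nilpotent
elements (a f = 0 forces a nilpotent), r, s and l ≤ s natural numbers, N the quotient of the free
module R^s by the submodule spanned by f e_1, …, f e_l (e_i the standard basis vectors), and φ : R^r
→ N a surjective linear map. Then the kernel of φ is NR-free of rank r + l − s: it is generated by r
+ l − s elements every linear relation among which has nilpotent coefficients; and when l = 0 the
kernel is free of rank r − s. (The published statement takes R Noetherian with irreducible spectrum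
and R_red a domain, not necessarily local, and f arbitrary. Over the coordinate ring of the real
2-sphere the kernel of (x, y, z) : R³ → R is not free, and over k[x, y]/(y², xy) localised at (x, y)
with f = y the kernel of R → R/(y) is spanned by y with the non-nilpotent relation x·y = 0. The
published argument uses that the kernel of a surjection of free modules is free, true over a local
ring, and that a f = 0 forces a nilpotent, which is the hypothesis taken here; it holds when R_red
is a domain and f is not nilpotent, and also for f = ε in A[ε] with A a domain, so primality of the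
nilradical is not assumed.) -/
theorem result (R : Type u)
    [CommRing R] [IsNoetherianRing R] [IsLocalRing R] (f : R)
    (hann : ∀ a : R, a * f = 0 → IsNilpotent a) (r s l : ℕ) (hls : l ≤ s)
    (φ : (Fin r → R) →ₗ[R]
      ((Fin s → R) ⧸ Submodule.span R (Set.range fun i : Fin l => (Pi.single (Fin.castLE hls i) f : Fin s → R))))
    (hφ : Function.Surjective φ) :
    W4c1frobunstiva.IsNRFree R (LinearMap.ker φ) (r + l - s) ∧
      (l = 0 → Nonempty (Module.Basis (Fin (r - s)) R (LinearMap.ker φ))) := by
  exact Aux.NRKer.main f hann r s l hls φ hφ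

end Groth.Agent.S14034
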