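import Groth.Statements.S14035
import Mathlib.RingTheory.Flat.Equalizer
import Mathlib.RingTheory.LocalRing.Module
import Mathlib.RingTheory.Support
import Mathlib.RingTheory.Nilpotent.Basic
import Mathlib.RingTheory.Nilpotent.Lemmas

set_option autoImplicit false
universe u v
open W4c1frobunstiva

namespace Groth.Agent.S14035

open TensorProduct

/-- the image of `K ⊗ N` in `K ⊗ B` consists of nilpotent elements -/
theorem isNilpotent_lTensor_subtype (A : Type u) (B : Type v) [CommRing A] [CommRing B] [Algebra A B]
    (K : Type*) [CommRing K] [Algebra A K]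
    (z : K ⊗[A] (nilradical B)) :
    IsNilpotent ((((nilradical B).subtype.restrictScalars A).lTensor K) z) := by
  induction z using TensorProduct.induction_on with
  | zero => simp
  | tmul c n =>
    obtain ⟨k, hk⟩ := (mem_nilradical.mp n.2)
    refine ⟨k, ?_⟩
    simp only [LinearMap.lTensor_tmul, LinearMap.coe_restrictScalars, Submodule.subtype_apply,
      Algebra.TensorProduct.tmul_pow, hk, tmul_zero]
  | add x y hx hy =>
    rw [map_add]
    exact Commute.isNilpotent_add (Commute.all _ _) hx hy

theorem subsingleton_fibre (A : Type u) (B : Type v) [CommRing A] [CommRing B] [Algebra A B]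
    [Module.Flat A (B ⧸ nilradical B)] (K : Type*) [CommRing K] [Algebra A K]
    [IsReduced (K ⊗[A] B)] : Subsingleton (K ⊗[A] (nilradical B)) := by
  have hinj : Function.Injective (((nilradical B).subtype.restrictScalars A).lTensor K) := by
    apply LinearMap.lTensor_injective_of_exact_of_flat
      ((Ideal.Quotient.mkₐ A (nilradical B)).toLinearMap)
    · exact Ideal.Quotient.mk_surjective
    · exact Subtype.val_injective
    · intro b
      simp only [AlgHom.toLinearMap_apply, Ideal.Quotient.mkₐ_eq_mk, Ideal.Quotient.eq_zero_iff_mem,
        LinearMap.coe_restrictScalars, Submodule.coe_subtype, Set.mem_range, Subtype.exists,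
        exists_prop, exists_eq_right]
  refine ⟨fun x y => hinj ?_⟩
  have hx := (isNilpotent_lTensor_subtype A B K x).eq_zero
  have hy := (isNilpotent_lTensor_subtype A B K y).eq_zero
  rw [hx, hy]


theorem subsingleton_residue (A : Type u) (B : Type v) [CommRing A] [CommRing B] [Algebra A B]
    (N : Ideal B) (q : Ideal B) [q.IsPrime]
    (h : Subsingleton ((q.comap (algebraMap A B)).ResidueField ⊗[A] N)) :
    Subsingleton (q.ResidueField ⊗[B] N) := by
  let p := q.comap (algebraMap A B)
  let φ : p.ResidueField →ₐ[A] q.ResidueField :=
    Ideal.ResidueField.mapₐ p q (Algebra.ofId A B) rfl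
  let Ψ : p.ResidueField ⊗[A] N →ₗ[A] q.ResidueField ⊗[B] N :=
    (TensorProduct.mapOfCompatibleSMul B A A q.ResidueField N) ∘ₗ
      (TensorProduct.map φ.toLinearMap LinearMap.id)
  have h1 : ∀ n : N, (1 : q.ResidueField) ⊗ₜ[B] n = 0 := by
    intro n
    have : Ψ ((1 : p.ResidueField) ⊗ₜ[A] n) = Ψ 0 := congrArg Ψ (Subsingleton.elim _ _)
    simpa [Ψ] using this
  refine ⟨fun x y => ?_⟩
  have h0 : ∀ z : q.ResidueField ⊗[B] N, z = 0 := by
    intro z
    induction z using TensorProduct.induction_on with
    | zero => rfl
    | tmul c n =>
      have : c ⊗ₜ[B] n = c • ((1 : q.ResidueField) ⊗ₜ[B] n) := by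
        rw [TensorProduct.smul_tmul', smul_eq_mul, mul_one]
      rw [this, h1, smul_zero]
    | add x y hx hy => rw [hx, hy, add_zero]
  rw [h0 x, h0 y]

theorem main (A : Type u) (B : Type v)
    [CommRing A] [CommRing B] [Algebra A B] [IsNoetherianRing B]
    [Module.Flat A (B ⧸ nilradical B)]
    (hfib : ∀ p : PrimeSpectrum A, IsReduced (p.asIdeal.ResidueField ⊗[A] B)) :
    IsReduced B := by
  rw [← nilradical_eq_bot_iff, ← Submodule.subsingleton_iff_eq_bot]
  have hfin : Module.Finite B (nilradical B) := inferInstance
  rw [← Module.support_eq_empty_iff (R := B), Set.eq_empty_iff_forall_notMem]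
  intro q hq
  rw [Module.mem_support_iff_nontrivial_residueField_tensorProduct] at hq
  have hp : (q.asIdeal.comap (algebraMap A B)).IsPrime := inferInstance
  have := hfib ⟨q.asIdeal.comap (algebraMap A B), hp⟩
  have h1 := subsingleton_fibre A B (q.asIdeal.comap (algebraMap A B)).ResidueField
  have h2 := subsingleton_residue A B (nilradical B) q.asIdeal h1
  exact not_subsingleton _ h2

open TensorProduct in
/-- Let A → B be a ring homomorphism with B Noetherian. If B modulo its nilradical is flat over A and
every fibre ring κ(p) ⊗_A B, p a prime of A, is reduced, then B is reduced. (This is the affine form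
of the statement for a morphism of schemes X → Y all of whose fibres are reduced and whose
restriction to the reduced closed subscheme X_red is flat. The published statement does not say X is
locally Noetherian, but its proof applies Nakayama's lemma to the nilradical as a finitely generated
ideal; without it the square-zero extension of a discrete valuation ring A by Frac(A)/A is a
counterexample.) -/
theorem result (A : Type u) (B : Type v)
    [CommRing A] [CommRing B] [Algebra A B] [IsNoetherianRing B]
    [Module.Flat A (B ⧸ nilradical B)]
    (hfib : ∀ p : PrimeSpectrum A, IsReduced (p.asIdeal.ResidueField ⊗[A] B)) :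
    IsReduced B := by
  exact main A B hfib

end Groth.Agent.S14035
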