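import Groth.Statements.S14038
import Mathlib
import Groth.Agent.Lib.Helper16Hermite
-- import your own Groth.Agent.* helpers here

set_option autoImplicit false
set_option linter.style.haveILetI false
set_option linter.unusedSectionVars false
universe u
open W4c1frobunstiva

namespace Groth.Agent.S14038

open Helper16Hermite


/-- Let k be a field and M a square matrix of size r over the formal power series ring k[[t]] with
non-zero determinant. Call a matrix H over k[[t]] row-reduced when it is upper triangular, each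
diagonal entry is a power t^{e_i} of the variable, and every entry above the diagonal in column j is
a polynomial of degree less than e_j (all its coefficients in degrees ≥ e_j vanish). Then there is
exactly one row-reduced H obtainable from M by left multiplication with an invertible matrix over
k[[t]]. (The published statement takes k algebraically closed; the row-reduction argument needs only
a field.) -/
theorem result (k : Type u) [Field k] (r : ℕ)
    (M : Matrix (Fin r) (Fin r) (PowerSeries k)) (hM : M.det ≠ 0) :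
    ∃! H : Matrix (Fin r) (Fin r) (PowerSeries k),
      (∃ e : Fin r → ℕ, (∀ i, H i i = PowerSeries.X ^ e i) ∧ (∀ i j, j < i → H i j = 0) ∧
        (∀ i j, i < j → ∀ n, e j ≤ n → PowerSeries.coeff n (H i j) = 0)) ∧
      ∃ N : Matrix (Fin r) (Fin r) (PowerSeries k), IsUnit N ∧ N * M = H := by
  obtain ⟨H, e, hRR, -, N, hN, hNM⟩ := exists_hermite M hM
  refine ⟨H, ⟨⟨e, hRR.1, hRR.2.1, hRR.2.2⟩, N, hN, hNM⟩, ?_⟩
  rintro H' ⟨⟨e', h1, h2, h3⟩, N', hN', hN'M⟩
  obtain ⟨Nu, rfl⟩ := hN
  obtain ⟨Nu', rfl⟩ := hN'
  have hM1 : M = (↑Nu⁻¹ : Matrix (Fin r) (Fin r) (PowerSeries k)) * H := by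
    rw [← hNM, ← Matrix.mul_assoc, Units.inv_mul, one_mul]
  have hM2 : M = (↑Nu'⁻¹ : Matrix (Fin r) (Fin r) (PowerSeries k)) * H' := by
    rw [← hN'M, ← Matrix.mul_assoc, Units.inv_mul, one_mul]
  have hU : H' = ((Nu' : Matrix (Fin r) (Fin r) (PowerSeries k)) * ((Nu⁻¹ : (Matrix (Fin r) (Fin r) (PowerSeries k))ˣ) : Matrix (Fin r) (Fin r) (PowerSeries k))) * H := by
    rw [Matrix.mul_assoc, ← hM1, hN'M]
  have hU' : H = ((Nu : Matrix (Fin r) (Fin r) (PowerSeries k)) * ((Nu'⁻¹ : (Matrix (Fin r) (Fin r) (PowerSeries k))ˣ) : Matrix (Fin r) (Fin r) (PowerSeries k))) * H' := by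
    rw [Matrix.mul_assoc, ← hM2, hNM]
  exact uniq hRR ⟨h1, h2, h3⟩ hU hU'

end Groth.Agent.S14038
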