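import Groth.Statements.S14039
import Mathlib

set_option autoImplicit false
open W4c1frobunstiva

namespace Groth.Agent.S14039

open PowerSeries

/-- For natural numbers p, n ≥ 1 and s, the number of monomials of degree s in n variables in which
every variable occurs with a positive exponent strictly less than p — that is, of exponent vectors
(e_1, …, e_n) with sum s and 1 ≤ e_i ≤ p − 1 — equals the inclusion–exclusion sum over i from 0 to n
of (−1)^i · C(n, i) · C(s − i(p − 1) − 1, n − 1), the last factor counting monomials of degree s −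
i(p − 1) − n in n variables and read as 0 when s < i(p − 1) + n. (A companion count, by how many
exponents lie below p/2, and a remark on polynomiality in s and p are not part of this row.) -/
theorem result (p n s : ℕ)
    (hn : 1 ≤ n) :
    (Fintype.card {e : Fin n → Fin p // (∀ i, 1 ≤ (e i : ℕ)) ∧ ∑ i, (e i : ℕ) = s} : ℤ) =
      ∑ i ∈ Finset.range (n + 1),
        (-1 : ℤ) ^ i * (n.choose i : ℤ) *
          (if i * (p - 1) + n ≤ s then (((s - i * (p - 1) - 1).choose (n - 1) : ℕ) : ℤ) else 0) := by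
  classical
  set G : ℤ⟦X⟧ := ∑ j : Fin p, if 1 ≤ (j : ℕ) then (X : ℤ⟦X⟧) ^ (j : ℕ) else 0 with hG
  -- coefficient of G^n counts
  have h1 : coeff s (G ^ n) =
      (Fintype.card {e : Fin n → Fin p // (∀ i, 1 ≤ (e i : ℕ)) ∧ ∑ i, (e i : ℕ) = s} : ℤ) := by
    have : G ^ n = ∏ _i : Fin n, G := by simp
    rw [this, hG, Fintype.prod_sum]
    rw [map_sum]
    rw [Fintype.card_subtype, Finset.card_filter]
    push_cast
    refine Finset.sum_congr rfl fun e _ => ?_
    rw [Finset.prod_ite_zero]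
    by_cases h : ∀ i, 1 ≤ (e i : ℕ)
    · simp only [Finset.mem_univ, forall_true_left, h, implies_true, if_true, true_and]
      rw [Finset.prod_pow_eq_pow_sum, coeff_X_pow]
      by_cases h2 : ∑ i, (e i : ℕ) = s
      · simp [h2]
      · rw [if_neg (fun h' => h2 h'.symm), if_neg h2]
    · simp [h]
  -- G in closed form
  have h2 : G = X * (1 - X ^ (p - 1)) * mk 1 := by
    have h3 : G = X * ∑ i ∈ Finset.range (p - 1), (X : ℤ⟦X⟧) ^ i := by
      rw [hG, Finset.mul_sum]
      rw [Fin.sum_univ_eq_sum_range (fun j => if 1 ≤ j then (X : ℤ⟦X⟧) ^ j else 0) p]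
      rcases p with _ | p
      · simp
      · rw [Finset.sum_range_succ']
        simp [pow_succ']
    have h4 : (∑ i ∈ Finset.range (p - 1), (X : ℤ⟦X⟧) ^ i) = (1 - X ^ (p - 1)) * mk 1 := by
      have := geom_sum_mul_neg (X : ℤ⟦X⟧) (p - 1)
      calc (∑ i ∈ Finset.range (p - 1), (X : ℤ⟦X⟧) ^ i)
          = (∑ i ∈ Finset.range (p - 1), (X : ℤ⟦X⟧) ^ i) * ((1 - X) * mk 1) := by
            rw [mul_comm (1 - X : ℤ⟦X⟧), mk_one_mul_one_sub_eq_one, mul_one]
        _ = _ := by rw [← mul_assoc, this]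
    rw [h3, h4, mul_assoc]
  rw [← h1, h2]
  obtain ⟨m, rfl⟩ : ∃ m, n = m + 1 := ⟨n - 1, by omega⟩
  have h5 : (1 - (X : ℤ⟦X⟧) ^ (p - 1)) = (-(X : ℤ⟦X⟧) ^ (p - 1)) + 1 := by ring
  rw [mul_pow, mul_pow, mk_one_pow_eq_mk_choose_add, h5, add_pow, mul_assoc, Finset.sum_mul,
    Finset.mul_sum, map_sum]
  refine Finset.sum_congr rfl fun i hi => ?_
  have : (X : ℤ⟦X⟧) ^ (m + 1) * ((-(X : ℤ⟦X⟧) ^ (p - 1)) ^ i * 1 ^ (m + 1 - i) * ((m + 1).choose i : ℤ⟦X⟧) *
      mk fun n => (((m + n).choose m : ℕ) : ℤ)) =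
      C ((-1) ^ i * ((m + 1).choose i : ℤ)) * (X ^ (i * (p - 1) + (m + 1)) * mk fun n => (((m + n).choose m : ℕ) : ℤ)) := by
    rw [map_mul, map_pow, map_neg, map_one, neg_pow, ← pow_mul, pow_add, mul_comm (p - 1) i]
    simp only [one_pow, mul_one, map_natCast]
    ring
  rw [this, coeff_C_mul, coeff_X_pow_mul']
  congr 1
  split_ifs with h
  · rw [coeff_mk]
    congr 2
    omega
  · rfl

end Groth.Agent.S14039
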