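import Groth.Statements.S1404
import Groth.Agent.Lib.Helper4LocParamF
open Groth.Agent.Lib.Helper4.LocParam

set_option autoImplicit false
set_option linter.style.haveILetI false
universe u
open FlatMor

namespace Groth.Agent.S1404

/-- Let A → B be an injective local homomorphism of local domains with B essentially of finite type over
A, and g an element of the maximal ideal of B lying in no minimal prime over m_A B. Assume dim(B /
m_A B) + trdeg_{κ(A)} κ(B) = trdeg_A B (with all three finite). Then A → B/gB is injective. -/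
theorem result {A B : Type u} [CommRing A] [CommRing B] [IsDomain A] [IsDomain B] [IsLocalRing A] [IsLocalRing B]
    [Algebra A B] [IsLocalHom (algebraMap A B)] [FaithfulSMul A B] [Algebra.EssFiniteType A B]
    (g : B) (hg : g ∈ IsLocalRing.maximalIdeal B)
    (hmin : ∀ q ∈ (Ideal.map (algebraMap A B) (IsLocalRing.maximalIdeal A)).minimalPrimes, g ∉ q)
    (d e : ℕ) (hd : ringKrullDim (B ⧸ Ideal.map (algebraMap A B) (IsLocalRing.maximalIdeal A)) = d)
    (he : Algebra.trdeg (IsLocalRing.ResidueField A) (IsLocalRing.ResidueField B) = e) (hsum : Algebra.trdeg A B = (d + e : ℕ)) :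
    Function.Injective (algebraMap A (B ⧸ Ideal.span {g})) := by
  classical
  obtain ⟨d₁, y, hdd, hy0, hy𝔪, hminB⟩ := exists_params_with g hg hmin d hd
  obtain ⟨e', z, he', hzind, hzalg⟩ := exists_lift_transcendenceBasis (A := A) (B := B)
  have hee : e' = e := by
    have h1 : ((e' : ℕ) : Cardinal) = ((e : ℕ) : Cardinal) := by rw [← he', he]
    exact_mod_cast h1
  subst hee
  set x : Fin (d₁ + 1) ⊕ Fin e' → B := Sum.elim y z with hx
  haveI halg : Algebra.IsAlgebraic (Algebra.adjoin A (Set.range x)) B :=
    isAlgebraic_adjoin_of_params x y z hy𝔪 (fun i => ⟨Sum.inl i, rfl⟩) (fun i => ⟨Sum.inr i, rfl⟩)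
      hminB hzalg
  have htb : IsTranscendenceBasis A x := by
    apply Algebra.IsAlgebraic.isTranscendenceBasis_of_lift_le_trdeg_of_finite
    rw [hsum, Cardinal.mk_fintype, Fintype.card_sum, Fintype.card_fin, Fintype.card_fin,
      Cardinal.lift_natCast, Cardinal.lift_natCast, hdd]
  have hinj := injective_algebraMap_quotient_of_params y z hy𝔪 hminB hzalg htb.1
  rw [hy0] at hinj
  exact hinj

end Groth.Agent.S1404
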