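import Groth.Statements.S14043
import Mathlib.LinearAlgebra.Span.Basic
import Mathlib.RingTheory.Nilpotent.Basic
import Mathlib.RingTheory.Ideal.Quotient.Nilpotent
import Mathlib.LinearAlgebra.Matrix.Determinant.Basic

set_option autoImplicit false
universe u v
open W4c1frobunstiva

namespace Groth.Agent.S14043

theorem exists_matrix_of_span {R : Type u} [CommRing R] {M : Type v} [AddCommGroup M] [Module R M]
    {r : ℕ} (m : Fin r → M) (hm : Submodule.span R (Set.range m) = ⊤) (n : Fin r → M) :
    ∃ P : Matrix (Fin r) (Fin r) R, ∀ j, n j = ∑ i, P j i • m i := by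
  have h : ∀ j, ∃ c : Fin r → R, ∑ i, c i • m i = n j := by
    intro j
    have : n j ∈ Submodule.span R (Set.range m) := by rw [hm]; trivial
    exact (Submodule.mem_span_range_iff_exists_fun R).mp this
  choose c hc using h
  exact ⟨Matrix.of c, fun j => (hc j).symm⟩

theorem comp_matrix {R : Type u} [CommRing R] {M : Type v} [AddCommGroup M] [Module R M]
    {r : ℕ} (a b c : Fin r → M) (P Q : Matrix (Fin r) (Fin r) R)
    (hab : ∀ j, a j = ∑ i, P j i • b i) (hbc : ∀ j, b j = ∑ i, Q j i • c i) :
    ∀ j, a j = ∑ k, (P * Q) j k • c k := by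
  intro j
  rw [hab j]
  simp only [hbc, Finset.smul_sum, smul_smul, Matrix.mul_apply, Finset.sum_smul]
  rw [Finset.sum_comm]

theorem isUnit_det_of_fix {R : Type u} [CommRing R] {M : Type v} [AddCommGroup M] [Module R M]
    {r : ℕ} (m₀ : Fin r → M) (h₀ : IsNRBasis R M m₀) (C : Matrix (Fin r) (Fin r) R)
    (hC : ∀ j, m₀ j = ∑ i, C j i • m₀ i) : IsUnit C.det := by
  classical
  have hnil : ∀ j i, IsNilpotent ((C - 1) j i) := by
    intro j
    apply h₀.2
    simp only [Matrix.sub_apply, sub_smul, Finset.sum_sub_distrib, ← hC j, Matrix.one_apply,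
      ite_smul, one_smul, zero_smul, Finset.sum_ite_eq, Finset.mem_univ, if_true, sub_self]
  have hmap : C.map (Ideal.Quotient.mk (nilradical R)) = 1 := by
    ext j i
    have := hnil j i
    rw [← mem_nilradical, ← Ideal.Quotient.eq_zero_iff_mem] at this
    simp only [Matrix.sub_apply, map_sub] at this
    rw [Matrix.map_apply, sub_eq_zero.mp this, Matrix.one_apply, Matrix.one_apply]
    split_ifs <;> simp
  have hdet : Ideal.Quotient.mk (nilradical R) (C.det - 1) = 0 := by
    rw [map_sub, RingHom.map_det, RingHom.mapMatrix_apply, hmap, Matrix.det_one, map_one, sub_self]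
  rw [Ideal.Quotient.eq_zero_iff_mem, mem_nilradical] at hdet
  have := hdet.isUnit_add_one
  simpa using this

/-- Let R be a commutative Noetherian ring, M an R-module that is NR-free of rank r — generated by some
r elements all of whose linear relations have nilpotent coefficients — and m, m' two generating
families of M, each indexed by the same finite set of size r. Then some invertible r × r matrix T
over R expresses m' in terms of m, m'_j = Σ_i T_{ji} m_i; reducing modulo the nilradical n, such a T
induces the change-of-basis matrix between the bases of M/nM given by the images of m and m' (an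
r-element generating family of M is itself an NR-basis), so only the existence of an invertible T is
asserted here. (T is not unique.) -/
theorem result (R : Type u) [CommRing R]
    [IsNoetherianRing R] (M : Type v) [AddCommGroup M] [Module R M] (r : ℕ)
    (hM : W4c1frobunstiva.IsNRFree R M r) (m m' : Fin r → M)
    (hm : Submodule.span R (Set.range m) = ⊤) (hm' : Submodule.span R (Set.range m') = ⊤) :
    ∃ T : Matrix (Fin r) (Fin r) R, IsUnit T ∧ ∀ j, m' j = ∑ i, T j i • m i := by
  obtain ⟨m₀, h₀⟩ := hM
  obtain ⟨P, hP⟩ := exists_matrix_of_span m₀ h₀.1 m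
  obtain ⟨Q, hQ⟩ := exists_matrix_of_span m hm m₀
  obtain ⟨P', hP'⟩ := exists_matrix_of_span m₀ h₀.1 m'
  obtain ⟨Q', hQ'⟩ := exists_matrix_of_span m' hm' m₀
  have h1 : IsUnit (Q * P).det := isUnit_det_of_fix m₀ h₀ _ (comp_matrix m₀ m m₀ Q P hQ hP)
  have h2 : IsUnit (Q' * P').det := isUnit_det_of_fix m₀ h₀ _ (comp_matrix m₀ m' m₀ Q' P' hQ' hP')
  rw [Matrix.det_mul] at h1 h2
  have hQu : IsUnit Q.det := isUnit_of_mul_isUnit_left h1
  have hP'u : IsUnit P'.det := isUnit_of_mul_isUnit_right h2
  refine ⟨P' * Q, ?_, comp_matrix m' m₀ m P' Q hP' hQ⟩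
  rw [Matrix.isUnit_iff_isUnit_det, Matrix.det_mul]
  exact hP'u.mul hQu

end Groth.Agent.S14043
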