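import Groth.Statements.S14046
import Mathlib.RingTheory.Flat.Equalizer
import Mathlib.LinearAlgebra.TensorProduct.Prod
import Mathlib.Tactic.LinearCombination
import Mathlib.Tactic.Ring

set_option autoImplicit false
universe u v w
open W4c1frobunstiva

namespace Groth.Agent.S14046

open TensorProduct in
theorem map_le_ker (R : Type u) (A : Type v)
    [CommRing R] [CommRing A] [Algebra R A] (I : Ideal A) (R' : Type w) [CommRing R'] [Algebra R R']
    (x : R' ⊗[R] A)
    (hx : x ∈ I.map (Algebra.TensorProduct.includeRight : A →ₐ[R] R' ⊗[R] A)) :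
    ((Ideal.Quotient.mkₐ R I).toLinearMap.lTensor R') x = 0 := by
  have h : I.map (Algebra.TensorProduct.includeRight : A →ₐ[R] R' ⊗[R] A) ≤
      RingHom.ker (Algebra.TensorProduct.map (AlgHom.id R R') (Ideal.Quotient.mkₐ R I)) := by
    rw [Ideal.map_le_iff_le_comap]
    intro a ha
    rw [Ideal.mem_comap, RingHom.mem_ker]
    simp only [Algebra.TensorProduct.includeRight_apply,
      Algebra.TensorProduct.map_tmul, AlgHom.coe_id, id_eq, Ideal.Quotient.mkₐ_eq_mk]
    rw [Ideal.Quotient.eq_zero_iff_mem.mpr ha, TensorProduct.tmul_zero]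
  have := h hx
  rw [RingHom.mem_ker] at this
  exact this

open TensorProduct in
/-- Let R → A be a homomorphism of commutative rings and I, J ideals of A with I ∩ J = 0 — so that A is
the fibre product of A/I and A/J over A/(I + J), i.e. Spec A is the union of the two closed
subschemes in the strong sense — and suppose A/(I + J) is flat over R. Then this persists under
every base change: for every commutative R-algebra R', the ideals generated by I and J in R' ⊗_R A
again meet in 0. (This is the ideal-theoretic, affine form of the base-change step; the exact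
sequence of unit sheaves deduced from it in the published statement — restriction of units to a
closed subscheme being surjective locally — is not restated. Without flatness of A/(I + J) the
conclusion fails: for A = k[x, y]/(xy) over R = k[u] with u ↦ x + y, I = (x) and J = (y), the base
change to R/(u) gives k[x]/(x²), in which both ideals become (x).) -/
theorem result (R : Type u) (A : Type v)
    [CommRing R] [CommRing A] [Algebra R A] (I J : Ideal A) (hIJ : I ⊓ J = ⊥)
    [Module.Flat R (A ⧸ (I ⊔ J))] (R' : Type w) [CommRing R'] [Algebra R R'] :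
    I.map (Algebra.TensorProduct.includeRight : A →ₐ[R] R' ⊗[R] A) ⊓
      J.map (Algebra.TensorProduct.includeRight : A →ₐ[R] R' ⊗[R] A) = ⊥ := by
  classical
  let mI : A →ₗ[R] (A ⧸ I) := (Ideal.Quotient.mkₐ R I).toLinearMap
  let mJ : A →ₗ[R] (A ⧸ J) := (Ideal.Quotient.mkₐ R J).toLinearMap
  let f : A →ₗ[R] (A ⧸ I) × (A ⧸ J) := LinearMap.prod mI mJ
  let qI : (A ⧸ I) →ₗ[R] A ⧸ (I ⊔ J) := (Ideal.Quotient.factorₐ R (le_sup_left : I ≤ I ⊔ J)).toLinearMap
  let qJ : (A ⧸ J) →ₗ[R] A ⧸ (I ⊔ J) := (Ideal.Quotient.factorₐ R (le_sup_right : J ≤ I ⊔ J)).toLinearMap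
  let g : (A ⧸ I) × (A ⧸ J) →ₗ[R] A ⧸ (I ⊔ J) :=
    qI ∘ₗ LinearMap.fst R _ _ - qJ ∘ₗ LinearMap.snd R _ _
  have hf : Function.Injective f := by
    rw [← LinearMap.ker_eq_bot, LinearMap.ker_eq_bot']
    intro a ha
    have h1 : Ideal.Quotient.mk I a = 0 := congrArg Prod.fst ha
    have h2 : Ideal.Quotient.mk J a = 0 := congrArg Prod.snd ha
    rw [Ideal.Quotient.eq_zero_iff_mem] at h1 h2
    have : a ∈ I ⊓ J := ⟨h1, h2⟩
    rw [hIJ] at this
    exact this
  have hg : Function.Surjective g := by
    intro z
    obtain ⟨a, rfl⟩ := Ideal.Quotient.mk_surjective z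
    refine ⟨(Ideal.Quotient.mk I a, 0), ?_⟩
    simp [g, qI, qJ]
  have hex : Function.Exact f g := by
    intro z
    constructor
    · intro hz
      obtain ⟨x, y⟩ := z
      obtain ⟨a, rfl⟩ := Ideal.Quotient.mk_surjective x
      obtain ⟨b, rfl⟩ := Ideal.Quotient.mk_surjective y
      have hz' : Ideal.Quotient.mk (I ⊔ J) a - Ideal.Quotient.mk (I ⊔ J) b = 0 := by
        simpa [g, qI, qJ] using hz
      rw [← map_sub, Ideal.Quotient.eq_zero_iff_mem, Submodule.mem_sup] at hz'
      obtain ⟨i, hi, j, hj, hij⟩ := hz'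
      refine ⟨a - i, ?_⟩
      refine Prod.ext ?_ ?_
      · change Ideal.Quotient.mk I (a - i) = Ideal.Quotient.mk I a
        rw [Ideal.Quotient.eq]
        simpa using I.neg_mem hi
      · change Ideal.Quotient.mk J (a - i) = Ideal.Quotient.mk J b
        rw [Ideal.Quotient.eq]
        have : a - i - b = j := by linear_combination (-1 : A) * hij
        rw [this]; exact hj
    · rintro ⟨a, rfl⟩
      simp [f, g, qI, qJ, mI, mJ]
  have key := LinearMap.lTensor_injective_of_exact_of_flat g hg f hf hex R'
  rw [eq_bot_iff]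
  intro x hx
  rw [Ideal.mem_bot]
  apply key
  rw [map_zero]
  apply (TensorProduct.prodRight R R R' (A ⧸ I) (A ⧸ J)).injective
  rw [map_zero]
  have e : (TensorProduct.prodRight R R R' (A ⧸ I) (A ⧸ J)).toLinearMap ∘ₗ f.lTensor R'
      = LinearMap.prod (mI.lTensor R') (mJ.lTensor R') := by
    ext r a <;> simp [f]
  have e' := LinearMap.congr_fun e x
  rw [LinearMap.comp_apply] at e'
  change (TensorProduct.prodRight R R R' (A ⧸ I) (A ⧸ J)) ((f.lTensor R') x) = 0
  refine e'.trans ?_
  rw [LinearMap.prod_apply]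
  refine Prod.ext ?_ ?_
  · exact map_le_ker R A I R' x hx.1
  · exact map_le_ker R A J R' x hx.2

end Groth.Agent.S14046
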