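import Groth.Statements.S14048
import Mathlib.RingTheory.Localization.Integral
import Mathlib.Algebra.Polynomial.Degree.Lemmas
import Mathlib.Data.Nat.Prime.Infinite
import Mathlib.Data.Nat.Prime.Int
import Mathlib.RingTheory.Polynomial.Basic
import Mathlib.Tactic.Ring
import Mathlib.Tactic.LinearCombination
import Mathlib.Tactic.Linarith

set_option autoImplicit false
universe u
open TensorProduct
open CAlg

namespace Groth.Agent.S14048

open Polynomial

/-- l-integral rational polynomials -/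
def Il (ℓ : ℕ) (f : ℚ[X]) : Prop :=
  ∃ d : ℤ, ¬ ((ℓ : ℤ) ∣ d) ∧ ∃ g : ℤ[X], (d : ℚ[X]) * f = g.map (Int.castRingHom ℚ)

theorem Il_add {ℓ : ℕ} (hℓ : ℓ.Prime) {f₁ f₂ : ℚ[X]} (h₁ : Il ℓ f₁) (h₂ : Il ℓ f₂) :
    Il ℓ (f₁ + f₂) := by
  obtain ⟨d₁, hd₁, g₁, e₁⟩ := h₁
  obtain ⟨d₂, hd₂, g₂, e₂⟩ := h₂
  refine ⟨d₁ * d₂, ?_, (d₂ : ℤ[X]) * g₁ + (d₁ : ℤ[X]) * g₂, ?_⟩
  · intro h
    rcases (Nat.prime_iff_prime_int.mp hℓ).dvd_or_dvd h with h | h
    · exact hd₁ h
    · exact hd₂ h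
  · simp only [Polynomial.map_add, Polynomial.map_mul, Polynomial.map_intCast, ← e₁, ← e₂]
    push_cast
    ring

theorem Il_mul {ℓ : ℕ} (hℓ : ℓ.Prime) {f₁ f₂ : ℚ[X]} (h₁ : Il ℓ f₁) (h₂ : Il ℓ f₂) :
    Il ℓ (f₁ * f₂) := by
  obtain ⟨d₁, hd₁, g₁, e₁⟩ := h₁
  obtain ⟨d₂, hd₂, g₂, e₂⟩ := h₂
  refine ⟨d₁ * d₂, ?_, g₁ * g₂, ?_⟩
  · intro h
    rcases (Nat.prime_iff_prime_int.mp hℓ).dvd_or_dvd h with h | h
    · exact hd₁ h
    · exact hd₂ h
  · simp only [Polynomial.map_mul, ← e₁, ← e₂]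
    push_cast
    ring

theorem Il_of_mul {ℓ : ℕ} (hℓ : ℓ.Prime) {N : ℤ} (hN : ¬ ((ℓ : ℤ) ∣ N)) {f : ℚ[X]}
    (h : Il ℓ ((N : ℚ[X]) * f)) : Il ℓ f := by
  obtain ⟨d, hd, g, e⟩ := h
  refine ⟨d * N, ?_, g, ?_⟩
  · intro h
    rcases (Nat.prime_iff_prime_int.mp hℓ).dvd_or_dvd h with h | h
    · exact hd h
    · exact hN h
  · rw [← e]; push_cast; ring

theorem Il_map {ℓ : ℕ} (hℓ : ℓ.Prime) (G : ℤ[X]) : Il ℓ (G.map (Int.castRingHom ℚ)) := by
  refine ⟨1, ?_, G, by simp⟩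
  intro h
  have := Int.natAbs_dvd_natAbs.mpr h
  simp at this
  exact hℓ.one_lt.ne' this

theorem Il_coeff_zero {ℓ : ℕ} {f : ℚ[X]} (h : Il ℓ f) (h1 : (ℓ : ℚ) * f.coeff 0 = 1) : False := by
  obtain ⟨d, hd, g, e⟩ := h
  have := congrArg (fun p => p.coeff 0) e
  simp only [Polynomial.coeff_map, eq_intCast] at this
  rw [← Polynomial.C_eq_intCast, Polynomial.coeff_C_mul] at this
  -- d * f.coeff 0 = g.coeff 0
  apply hd
  refine ⟨g.coeff 0, ?_⟩
  have h3 : (d : ℚ) = (ℓ : ℚ) * (g.coeff 0 : ℚ) := by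
    rw [← this]
    linear_combination (-(d:ℚ)) * h1
  exact_mod_cast h3


noncomputable def jj : Localization.Away (2 : ℤ) →+* ℚ :=
  IsLocalization.Away.lift (2 : ℤ) (g := Int.castRingHom ℚ) (by simp)

theorem hom_ext_away {P : Type*} [Semiring P] (f g : Localization.Away (2 : ℤ) →+* P) : f = g := by
  apply IsLocalization.ringHom_ext (Submonoid.powers (2 : ℤ))
  exact Subsingleton.elim _ _

theorem Il_C_jj {ℓ : ℕ} (hℓ : ℓ.Prime) (hodd : ℓ ≠ 2) (c : Localization.Away (2 : ℤ)) :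
    Il ℓ (C (jj c)) := by
  obtain ⟨n, a, h⟩ := IsLocalization.Away.surj (2 : ℤ) c
  have h' := congrArg jj h
  rw [map_mul, map_pow] at h'
  simp only [jj, IsLocalization.Away.lift_eq] at h'
  refine ⟨2 ^ n, ?_, C a, ?_⟩
  · intro hd
    have h2 : (ℓ : ℤ) ∣ 2 := (Nat.prime_iff_prime_int.mp hℓ).dvd_of_dvd_pow hd
    have h3 : ℓ ∣ 2 := by exact_mod_cast h2
    exact hodd ((Nat.prime_dvd_prime_iff_eq hℓ Nat.prime_two).mp h3)
  · rw [Polynomial.map_C, ← h']
    simp only [jj, eq_intCast, Int.cast_ofNat, Int.cast_pow, map_mul, map_pow]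
    rw [mul_comm]
    congr 1


section mainb
variable (A : Type u) [CommRing A] (t : A)
    (h1 : Function.Bijective (Polynomial.aeval (R := ℚ) ((1 : ℚ) ⊗ₜ[ℤ] t : ℚ ⊗[ℤ] A)))
    (s : A →+* Localization.Away (2 : ℤ)) (hs : s t = 1)

/-- the equivalence -/
noncomputable def ee : ℚ[X] ≃ₐ[ℚ] ℚ ⊗[ℤ] A := AlgEquiv.ofBijective _ h1

/-- the map A -> Q[X] -/
noncomputable def io : A →+* ℚ[X] :=
  ((ee A t h1).symm : ℚ ⊗[ℤ] A →+* ℚ[X]).comp
    (Algebra.TensorProduct.includeRight : A →ₐ[ℤ] ℚ ⊗[ℤ] A).toRingHom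

theorem ee_symm_t : (ee A t h1).symm ((1 : ℚ) ⊗ₜ[ℤ] t) = X := by
  rw [AlgEquiv.symm_apply_eq]
  simp [ee]

theorem io_t : io A t h1 t = X := by
  unfold io
  simp only [RingHom.coe_comp, Function.comp_apply, AlgHom.toRingHom_eq_coe, RingHom.coe_coe,
    Algebra.TensorProduct.includeRight_apply]
  exact ee_symm_t A t h1

include hs in
theorem io_eval (a : A) : (io A t h1 a).eval 1 = jj (s a) := by
  let φ₂ : ℚ ⊗[ℤ] A →+* ℚ :=
    (Algebra.TensorProduct.lift (AlgHom.id ℤ ℚ) ((jj.comp s).toIntAlgHom)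
      (fun _ _ => Commute.all _ _)).toRingHom
  let φ₁ : ℚ ⊗[ℤ] A →+* ℚ :=
    (Polynomial.evalRingHom (1 : ℚ)).comp ((ee A t h1).symm : ℚ ⊗[ℤ] A →+* ℚ[X])
  have key : φ₁.comp ((ee A t h1) : ℚ[X] →+* ℚ ⊗[ℤ] A) = φ₂.comp ((ee A t h1) : ℚ[X] →+* ℚ ⊗[ℤ] A) := by
    apply Polynomial.ringHom_ext'
    · exact Subsingleton.elim _ _
    · have := ee_symm_t A t h1
      simp only [ee] at this
      simp [φ₁, φ₂, ee, hs, this]
  have h := congrArg (fun f => f ((ee A t h1).symm ((1 : ℚ) ⊗ₜ[ℤ] a))) key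
  simp only [RingHom.coe_comp, RingHom.coe_coe, Function.comp_apply, AlgEquiv.apply_symm_apply] at h
  simpa [φ₁, φ₂, io] using h

end mainb


section main
variable {A : Type u} [CommRing A] (t : A)
    (s : A →+* Localization.Away (2 : ℤ))
    (ι : A →+* ℚ[X]) (hιt : ι t = X) (hιev : ∀ a, (ι a).eval 1 = jj (s a))

include hιt in
theorem io_aeval (G : ℤ[X]) : ι (Polynomial.aeval t G) = G.map (Int.castRingHom ℚ) := by
  rw [Polynomial.aeval_def, Polynomial.hom_eval₂, hιt, Polynomial.map]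
  congr 1
  exact Subsingleton.elim _ _

include hιt hιev in
theorem key_noeth [IsNoetherianRing A] : ∃ N : ℤ, N ≠ 0 ∧ ∀ x ∈ RingHom.ker s,
    ∃ a' : A, (N : ℚ[X]) * ι x = (X - 1) * ι a' := by
  classical
  obtain ⟨S, hS⟩ := (isNoetherianRing_iff_ideal_fg A).mp inferInstance (RingHom.ker s)
  have hq : ∀ q ∈ S, ∃ (d : ℤ) (G : ℤ[X]), d ≠ 0 ∧
      (d : ℚ[X]) * ι q = (X - 1) * G.map (Int.castRingHom ℚ) := by
    intro q hq
    have hqk : q ∈ RingHom.ker s := hS ▸ Ideal.subset_span hq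
    have hroot : (ι q).IsRoot 1 := by
      rw [IsRoot, hιev, (RingHom.mem_ker).mp hqk, map_zero]
    obtain ⟨g, hg⟩ := Polynomial.dvd_iff_isRoot.mpr hroot
    obtain ⟨b, hb, hbg⟩ := IsLocalization.integerNormalization_spec (nonZeroDivisors ℤ) g
    refine ⟨b, IsLocalization.integerNormalization (nonZeroDivisors ℤ) g,
      nonZeroDivisors.ne_zero hb, ?_⟩
    have : (algebraMap ℤ ℚ) = Int.castRingHom ℚ := rfl
    rw [hg, ← this, hbg, zsmul_eq_mul]
    simp only [map_one]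
    ring
  choose! d G hd hdG using hq
  refine ⟨∏ q ∈ S, d q, Finset.prod_ne_zero_iff.mpr hd, ?_⟩
  intro x hx
  rw [← hS] at hx
  induction hx using Submodule.span_induction with
  | mem q hq =>
    obtain ⟨k, hk⟩ := Finset.dvd_prod_of_mem d hq
    refine ⟨(k : A) * Polynomial.aeval t (G q), ?_⟩
    rw [map_mul, io_aeval t ι hιt, hk, map_intCast]
    push_cast
    linear_combination (k : ℚ[X]) * hdG q hq
  | zero => exact ⟨0, by simp⟩
  | add x y _ _ hx hy =>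
    obtain ⟨a₁, h₁⟩ := hx
    obtain ⟨a₂, h₂⟩ := hy
    exact ⟨a₁ + a₂, by rw [map_add, map_add, mul_add, mul_add, h₁, h₂]⟩
  | smul a x _ hx =>
    obtain ⟨a₁, h₁⟩ := hx
    refine ⟨a * a₁, ?_⟩
    rw [smul_eq_mul, map_mul, map_mul]
    linear_combination (ι a) * h₁


theorem descent (h2 : IsUnit (2 : A)) (ℓ : ℕ) (hℓ : ℓ.Prime) (hodd : ℓ ≠ 2) (N : ℤ) (hN0 : N ≠ 0)
    (hN : ¬ ((ℓ : ℤ) ∣ N))
    (hkey : ∀ x ∈ RingHom.ker s, ∃ a' : A, (N : ℚ[X]) * ι x = (X - 1) * ι a') :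
    ∀ (n : ℕ) (a : A), (ι a).natDegree = n → Il ℓ (ι a) := by
  let ρ : Localization.Away (2 : ℤ) →+* A :=
    IsLocalization.Away.lift (2 : ℤ) (g := Int.castRingHom A) (by simpa using h2)
  have hsρ : ∀ c, s (ρ c) = c := fun c =>
    RingHom.congr_fun (hom_ext_away (s.comp ρ) (RingHom.id _)) c
  have hιρ : ∀ c, ι (ρ c) = C (jj c) := fun c =>
    RingHom.congr_fun (hom_ext_away (ι.comp ρ) (C.comp jj)) c
  intro n
  induction n using Nat.strong_induction_on with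
  | _ n ih =>
    intro a han
    set c := s a with hc
    have hx : a - ρ c ∈ RingHom.ker s := by
      rw [RingHom.mem_ker, map_sub, hsρ, hc, sub_self]
    obtain ⟨a', ha'⟩ := hkey _ hx
    have hιa : ι a = ι (a - ρ c) + C (jj c) := by
      rw [map_sub, hιρ]; ring
    have hNq : (N : ℚ[X]) ≠ 0 := by
      rw [← Polynomial.C_eq_intCast]
      simpa using hN0
    by_cases h0 : ι (a - ρ c) = 0
    · rw [hιa, h0, zero_add]
      exact Il_C_jj hℓ hodd c
    · have ha'0 : ι a' ≠ 0 := by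
        intro h
        rw [h, mul_zero] at ha'
        exact h0 ((mul_eq_zero.mp ha').resolve_left hNq)
      have hdeg : (ι (a - ρ c)).natDegree = 1 + (ι a').natDegree := by
        have h1 : ((N : ℚ[X]) * ι (a - ρ c)).natDegree = (ι (a - ρ c)).natDegree := by
          rw [← Polynomial.C_eq_intCast]
          exact Polynomial.natDegree_C_mul (by simpa using hN0)
        have hX : (X - 1 : ℚ[X]) = X - C 1 := by simp
        rw [← h1, ha', hX, Polynomial.natDegree_mul (Polynomial.X_sub_C_ne_zero (1 : ℚ)) ha'0,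
          Polynomial.natDegree_X_sub_C]
      have hdeg2 : (ι a).natDegree = (ι (a - ρ c)).natDegree := by
        rw [hιa, Polynomial.natDegree_add_C]
      have hlt : (ι a').natDegree < n := by omega
      have hIl : Il ℓ (ι a') := ih _ hlt a' rfl
      have hX1 : Il ℓ (X - 1 : ℚ[X]) := by
        have := Il_map hℓ (X - 1 : ℤ[X])
        simpa using this
      have h3 : Il ℓ ((N : ℚ[X]) * ι (a - ρ c)) := by
        rw [ha']; exact Il_mul hℓ hX1 hIl
      rw [hιa]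
      exact Il_add hℓ (Il_of_mul hℓ hN h3) (Il_C_jj hℓ hodd c)

end main

/-- Let A be an integral domain in which 2 is invertible and let t be an element of A, so that Spec A is
a scheme over the affine line Spec ℤ[1/2][t]. Assume that (1) the ℚ-algebra map ℚ[X] → ℚ ⊗_ℤ A
sending X to 1 ⊗ t is bijective (the map Spec A → Spec ℤ[1/2][t] becomes an isomorphism after base
change to ℚ); (2) every prime number is invertible in A/(t) (the fibre over t = 0 is of pure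
characteristic zero); and (3) there is a ring homomorphism s : A → ℤ[1/2] with s(t) = 1 (the fibre
over t = 1 admits a section). Then A is not Noetherian. -/
theorem result (A : Type u) [CommRing A]
    [IsDomain A] (h2 : IsUnit (2 : A)) (t : A)
    (h1 : Function.Bijective (Polynomial.aeval (R := ℚ) ((1 : ℚ) ⊗ₜ[ℤ] t : ℚ ⊗[ℤ] A)))
    (h0 : ∀ p : ℕ, p.Prime → IsUnit ((p : ℕ) : A ⧸ Ideal.span ({t} : Set A)))
    (s : A →+* Localization.Away (2 : ℤ)) (hs : s t = 1) :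
    ¬ IsNoetherianRing A := by
  intro hNoeth
  have hev := io_eval A t h1 s hs
  have hιt := io_t A t h1
  obtain ⟨N, hN0, hkey⟩ := key_noeth t s (io A t h1) hιt hev
  obtain ⟨ℓ, hℓge, hℓ⟩ := Nat.exists_infinite_primes (N.natAbs + 3)
  have hodd : ℓ ≠ 2 := by omega
  have hNl : ¬ ((ℓ : ℤ) ∣ N) := by
    intro h
    have h' := Int.natAbs_dvd_natAbs.mpr h
    have hpos : 0 < N.natAbs := Int.natAbs_pos.mpr hN0
    have := Nat.le_of_dvd hpos (by simpa using h')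
    omega
  have hall := descent s (io A t h1) h2 ℓ hℓ hodd N hN0 hNl hkey
  obtain ⟨y, hy⟩ := (h0 ℓ hℓ).exists_right_inv
  obtain ⟨a, rfl⟩ := Ideal.Quotient.mk_surjective y
  have hmem : Ideal.Quotient.mk (Ideal.span ({t} : Set A)) ((ℓ : A) * a - 1) = 0 := by
    rw [map_sub, map_mul, map_natCast, hy, map_one, sub_self]
  rw [Ideal.Quotient.eq_zero_iff_mem, Ideal.mem_span_singleton'] at hmem
  obtain ⟨b, hb⟩ := hmem
  have h5 := congrArg (io A t h1) hb
  rw [map_mul, hιt, map_sub, map_mul, map_one, map_natCast] at h5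
  have h6 := congrArg (fun p => p.coeff 0) h5
  simp only [Polynomial.coeff_mul_X_zero, Polynomial.coeff_sub, Polynomial.coeff_one_zero] at h6
  rw [← Polynomial.C_eq_natCast, Polynomial.coeff_C_mul] at h6
  exact Il_coeff_zero (hall _ a rfl) (by linarith)

end Groth.Agent.S14048
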