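import Groth.Statements.S14049
import Mathlib
import Groth.Agent.Lib.Helper22Thick

set_option autoImplicit false
universe u
open CategoryTheory AlgebraicGeometry
open LocStr

namespace Groth.Agent.S14049

open Groth.Agent.Lib.Helper22.Thick

/-- if `B = φ(A) + J²` with `J` nilpotent then `φ` is surjective -/
theorem surjective_of_sq_nilpotent {A B : Type*} [CommRing A] [CommRing B] (φ : A →+* B)
    (J : Ideal B) (hJ : IsNilpotent J) (h : ∀ b : B, ∃ a : A, b - φ a ∈ J ^ 2) :
    Function.Surjective φ := by
  -- P(n): every element of `J^n` is congruent mod `J^(n+1)` to an element of `φ(A) ∩ J^n`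
  have P : ∀ n : ℕ, ∀ x ∈ J ^ n, ∃ a : A, φ a ∈ J ^ n ∧ x - φ a ∈ J ^ (n + 1) := by
    intro n
    induction n with
    | zero =>
      intro x _
      obtain ⟨a, ha⟩ := h x
      refine ⟨a, by simp, ?_⟩
      exact Ideal.pow_le_pow_right (by norm_num) ha
    | succ n ih =>
      intro x hx
      have P1 : ∀ j ∈ J, ∃ a : A, φ a ∈ J ∧ j - φ a ∈ J ^ 2 := by
        intro j hj
        obtain ⟨a, ha⟩ := h j
        refine ⟨a, ?_, ha⟩
        have : φ a = j - (j - φ a) := by ring
        rw [this]
        exact Ideal.sub_mem _ hj (Ideal.pow_le_self two_ne_zero ha)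
      rw [pow_succ] at hx
      refine Submodule.mul_induction_on hx ?_ ?_
      · intro y hy j hj
        obtain ⟨ay, hay1, hay2⟩ := ih y hy
        obtain ⟨aj, haj1, haj2⟩ := P1 j hj
        refine ⟨ay * aj, ?_, ?_⟩
        · rw [map_mul, pow_succ]
          exact Ideal.mul_mem_mul hay1 haj1
        · have e : y * j - φ (ay * aj) = (y - φ ay) * j + φ ay * (j - φ aj) := by
            rw [map_mul]; ring
          rw [e]
          refine Ideal.add_mem _ ?_ ?_
          · have := Ideal.mul_mem_mul hay2 hj
            rwa [← pow_succ] at this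
          · have := Ideal.mul_mem_mul hay1 haj2
            rwa [← pow_add] at this
      · intro x y hx hy
        obtain ⟨a1, h11, h12⟩ := hx
        obtain ⟨a2, h21, h22⟩ := hy
        refine ⟨a1 + a2, ?_, ?_⟩
        · rw [map_add]; exact Ideal.add_mem _ h11 h21
        · have e : x + y - φ (a1 + a2) = (x - φ a1) + (y - φ a2) := by rw [map_add]; ring
          rw [e]; exact Ideal.add_mem _ h12 h22
  have Q : ∀ n : ℕ, ∀ b : B, ∃ a : A, b - φ a ∈ J ^ n := by
    intro n
    induction n with
    | zero => intro b; exact ⟨0, by simp⟩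
    | succ n ih =>
      intro b
      obtain ⟨a, ha⟩ := ih b
      obtain ⟨a', -, ha'⟩ := P n _ ha
      refine ⟨a + a', ?_⟩
      have e : b - φ (a + a') = b - φ a - φ a' := by rw [map_add]; ring
      rw [e]; exact ha'
  obtain ⟨n, hn⟩ := hJ
  intro b
  obtain ⟨a, ha⟩ := Q n b
  rw [hn, Ideal.zero_eq_bot, Ideal.mem_bot, sub_eq_zero] at ha
  exact ⟨a, ha.symm⟩

/-- For schemes. Let f : X → Y be a morphism of schemes and let I be a quasi-coherent sheaf of ideals on
X which is nilpotent (some power of I is zero). Let X₁ ⊆ X be the closed subscheme defined by I².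
Then f is a closed immersion as soon as the composite X₁ → X → Y is one. (The published statement is
the same assertion for a morphism of algebraic stacks; it is stated here for schemes.) -/
theorem result (X Y : Scheme.{u}) (f : X ⟶ Y)
    (I : X.IdealSheafData) (hI : IsNilpotent I)
    (h : IsClosedImmersion ((I ^ 2).subschemeι ≫ f)) :
    IsClosedImmersion f := by
  obtain ⟨n, hn⟩ := hI
  set ι := (I ^ 2).subschemeι with hι
  -- `ι` is surjective
  have hsupp : (I ^ 2).support = ⊤ := by
    rw [Scheme.IdealSheafData.support_pow _ 2 two_ne_zero]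
    by_cases hn0 : n = 0
    · subst hn0
      have h1 : (⊤ : X.IdealSheafData) = ⊥ := by simpa using hn
      have h2 : (⊥ : TopologicalSpace.Closeds X) = ⊤ := by
        rw [← Scheme.IdealSheafData.support_top, h1, Scheme.IdealSheafData.support_bot]
      exact (eq_top_iff.mpr (h2 ▸ bot_le))
    · rw [← Scheme.IdealSheafData.support_pow I n hn0, hn, Scheme.IdealSheafData.zero_eq_bot,
        Scheme.IdealSheafData.support_bot]
  haveI : Surjective ι := by
    constructor
    rw [← Set.range_eq_univ, hι, Scheme.IdealSheafData.range_subschemeι, hsupp]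
    rfl
  -- `f` is a closed embedding
  obtain ⟨h', hh'⟩ := isHomeomorph_iff_exists_homeomorph.mp
    (isHomeomorph_of_surjective_closedImmersion ι)
  have hfun : (f : X → Y) = (ι ≫ f) ∘ h'.symm := by
    funext x
    obtain ⟨x₀, rfl⟩ := h'.surjective x
    simp only [Function.comp_apply, Homeomorph.symm_apply_apply]
    rw [hh', Scheme.Hom.comp_apply]
  have hg : Topology.IsClosedEmbedding f := by
    rw [hfun]
    exact (ι ≫ f).isClosedEmbedding.comp h'.symm.isClosedEmbedding
  apply IsZariskiLocalAtTarget.of_forall_exists_morphismRestrict (P := @IsClosedImmersion)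
  intro y
  obtain ⟨U, hU, hyU, hV⟩ := exists_isAffineOpen_preimage f hg y
  refine ⟨U, hyU, ?_⟩
  haveI : IsAffine U := hU
  haveI : IsAffine (f ⁻¹ᵁ U) := hV
  apply IsClosedImmersion.of_surjective_of_isAffine
  rw [morphismRestrict_appTop]
  have key : ∀ W : Y.Opens, W = U → Function.Surjective (f.app W).hom := by
    rintro W rfl
    let V : X.affineOpens := ⟨f ⁻¹ᵁ W, hV⟩
    apply surjective_of_sq_nilpotent _ (I.ideal V)
    · refine ⟨n, ?_⟩
      have := congrArg (fun K : X.IdealSheafData => K.ideal V) hn
      simpa using this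
    · intro b
      obtain ⟨a, ha⟩ := (ι ≫ f).app_surjective W hU ((ι.app (f ⁻¹ᵁ W)).hom b)
      refine ⟨a, ?_⟩
      have hk : b - (f.app W).hom a ∈ RingHom.ker (ι.app V.1).hom := by
        rw [RingHom.mem_ker, map_sub, sub_eq_zero]
        exact ha.symm
      rw [hι, Scheme.IdealSheafData.ker_subschemeι_app] at hk
      simpa using hk
  intro t
  obtain ⟨t', rfl⟩ := (ConcreteCategory.bijective_of_isIso
    (X.presheaf.map (eqToHom (image_morphismRestrict_preimage f U ⊤)).op)).2 t
  obtain ⟨s, rfl⟩ := key _ U.ι_image_top t'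
  exact ⟨s, rfl⟩

end Groth.Agent.S14049
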