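import Groth.Statements.S1405
import Groth.Agent.Lib.Helper2NoethDesc

set_option autoImplicit false
universe u
open FlatMor

namespace Groth.Agent.S1405

section Dev
open AlgebraicGeometry CategoryTheory Limits

/-- base change along an essentially-finite-type map of affine bases preserves local Noetherianity -/
theorem EF2 {Z' Z : Scheme.{u}} {k K : CommRingCat.{u}} (m : Z' ⟶ Z) (p' : Z' ⟶ Spec K)
    (p : Z ⟶ Spec k) (φ : k ⟶ K) (hφ : φ.hom.EssFiniteType)
    (sq : IsPullback m p' p (Spec.map φ)) [IsLocallyNoetherian Z] : IsLocallyNoetherian Z' := by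
  let 𝒰 := Z.affineCover
  rw [isLocallyNoetherian_iff_openCover (𝒰.pullback₁ m)]
  intro i
  let W := 𝒰.X i
  haveI : IsAffine W := inferInstanceAs (IsAffine (𝒰.X i))
  haveI : IsLocallyNoetherian W := isLocallyNoetherian_of_isOpenImmersion (𝒰.f i)
  let P := pullback m (𝒰.f i)
  show IsLocallyNoetherian P
  have sqv : IsPullback (pullback.snd m (𝒰.f i)) (pullback.fst m (𝒰.f i) ≫ p') (𝒰.f i ≫ p)
      (Spec.map φ) := (IsPullback.of_hasPullback m (𝒰.f i)).flip.paste_vert sq
  haveI : IsAffine P := IsAffine.of_isPullback sqv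
  have hpo := isPushout_appTop_of_isPullback sqv
  -- the property
  haveI : (RingHom.toMorphismProperty RingHom.EssFiniteType).IsStableUnderCobaseChange :=
    RingHom.isStableUnderCobaseChange_toMorphismProperty_iff.mpr
      RingHom.EssFiniteType.isStableUnderBaseChange
  have h1 : (Spec.map φ).appTop.hom.EssFiniteType := by
    have e : (Spec.map φ).appTop = (Scheme.ΓSpecIso k).hom ≫ φ ≫ (Scheme.ΓSpecIso K).inv := by
      rw [← Scheme.ΓSpecIso_naturality_assoc, Iso.hom_inv_id, Category.comp_id]
    rw [e]
    have hA : (Scheme.ΓSpecIso k).hom.hom.EssFiniteType :=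
      (RingHom.FiniteType.of_surjective _
        (ConcreteCategory.bijective_of_isIso (Scheme.ΓSpecIso k).hom).2).essFiniteType
    have hC : (Scheme.ΓSpecIso K).inv.hom.EssFiniteType :=
      (RingHom.FiniteType.of_surjective _
        (ConcreteCategory.bijective_of_isIso (Scheme.ΓSpecIso K).inv).2).essFiniteType
    have h12 : (φ ≫ (Scheme.ΓSpecIso K).inv).hom.EssFiniteType := by
      rw [CommRingCat.hom_comp]; exact RingHom.EssFiniteType.comp hφ hC
    rw [CommRingCat.hom_comp]
    exact RingHom.EssFiniteType.comp hA h12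
  have h2 : (pullback.snd m (𝒰.f i)).appTop.hom.EssFiniteType :=
    MorphismProperty.of_isPushout (P := RingHom.toMorphismProperty RingHom.EssFiniteType) hpo h1
  haveI : IsNoetherianRing Γ(W, ⊤) :=
    IsLocallyNoetherian.component_noetherian ⟨⊤, isAffineOpen_top W⟩
  have h3 : IsNoetherianRing Γ(P, ⊤) := by
    algebraize [(pullback.snd m (𝒰.f i)).appTop.hom]
    exact Algebra.EssFiniteType.isNoetherianRing Γ(W, ⊤) Γ(P, ⊤)
  exact isLocallyNoetherian_of_affine_cover (S := fun _ : Unit ↦ ⟨⊤, isAffineOpen_top P⟩) (by simp)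
    fun _ ↦ h3


theorem main {X Y X' Y' : Scheme.{u}} (f : X ⟶ Y) (f' : X' ⟶ Y') (g' : X' ⟶ X) (g : Y' ⟶ Y)
    [Flat g] [LocallyOfFinitePresentation g] [Surjective g] (hc : IsPullback g' f' f g) :
    (∀ y : Y, IsLocallyNoetherian (f.fiber y)) ↔ ∀ y' : Y', IsLocallyNoetherian (f'.fiber y') := by
  have key : ∀ y' : Y', IsLocallyNoetherian (f.fiber (g y')) ↔ IsLocallyNoetherian (f'.fiber y') := by
    intro y'
    have sq := isPullback_fiberToSpecResidueField_of_isPullback hc y'
    set m := pullback.map f' (Y'.fromSpecResidueField y') f (Y.fromSpecResidueField (g y')) g'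
      (Spec.map (g.residueFieldMap y')) g hc.w.symm (by simp) with hm
    let ρ := g.residueFieldMap y'
    constructor
    · intro h
      have hess : ρ.hom.EssFiniteType :=
        RingHom.EssFiniteType.residueFieldMap (LocallyOfFiniteType.stalkMap (f := g) y')
      haveI : IsLocallyNoetherian (pullback f (Y.fromSpecResidueField (g y'))) := h
      exact EF2 m _ _ ρ hess sq
    · intro h
      haveI : Flat (Spec.map ρ) := by
        rw [HasRingHomProperty.Spec_iff (P := @Flat)]
        algebraize [ρ.hom]
        show Module.Flat _ _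
        infer_instance
      haveI : Surjective (Spec.map ρ) := by
        refine ⟨fun x => ?_⟩
        haveI : Nonempty (Spec (Y'.residueField y')) :=
          ⟨IsLocalRing.closedPoint (Y'.residueField y')⟩
        obtain ⟨z⟩ := ‹Nonempty (Spec (Y'.residueField y'))›
        exact ⟨z, Subsingleton.elim (α := PrimeSpectrum (Y.residueField (g y'))) _ _⟩
      have h1 : Flat m := MorphismProperty.of_isPullback (P := @Flat) sq.flip inferInstance
      have h2 : Surjective m := MorphismProperty.of_isPullback (P := @Surjective) sq.flip inferInstance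
      have h3 : QuasiCompact m :=
        MorphismProperty.of_isPullback (P := @QuasiCompact) sq.flip inferInstance
      have h4 : IsLocallyNoetherian (pullback f' (Y'.fromSpecResidueField y')) := h
      exact @Groth.Agent.Lib.Helper2.NoethDesc.r2492 _ _ m h1 h2 h3 h4
  constructor
  · intro h y'; exact (key y').mp (h (g y'))
  · intro h y
    obtain ⟨y', rfl⟩ := g.surjective y
    exact (key y').mpr (h y')


end Dev

open AlgebraicGeometry CategoryTheory Limits in
/-- Let Y' → Y be flat, locally of finite presentation and surjective and f' the base change of f : X →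
Y. Then all fibres of f are locally Noetherian if and only if all fibres of f' are. -/
theorem result {X Y X' Y' : Scheme.{u}} (f : X ⟶ Y) (f' : X' ⟶ Y') (g' : X' ⟶ X) (g : Y' ⟶ Y) [Flat g] [LocallyOfFinitePresentation g] [Surjective g]
    (hc : IsPullback g' f' f g) :
    (∀ y : Y, IsLocallyNoetherian (f.fiber y)) ↔ ∀ y' : Y', IsLocallyNoetherian (f'.fiber y') := by
  exact main f f' g' g hc

end Groth.Agent.S1405
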