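import Groth.Statements.S14050
import Mathlib
import Groth.Agent.S14624
import Groth.Agent.S0600
import Groth.Agent.S0597
import Groth.Agent.Lib.Helper7ArtinFunctor

set_option autoImplicit false
set_option linter.style.haveILetI false
universe u
open CategoryTheory CategoryTheory.Limits
open Hensel

namespace Groth.Agent.S14050

/-- Let A be a G-ring, that is a Noetherian ring whose local rings have regular completion maps (for
instance a quasi-excellent ring), let I be an ideal such that (A, I) is a henselian pair, and let Â
be the I-adic completion of A. Let F be a functor from A-algebras (commutative rings under A) to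
sets which preserves filtered colimits, let ξ ∈ F(Â) and n ≥ 0. Then there is η ∈ F(A) such that η
and ξ have the same image in F(A/I^(n+1)). Here π is the A-algebra map Â → A/I^(n+1), pinned by its
underlying ring map, and ρ is the structure map A → A/I^(n+1). (The published statement is for a
limit-preserving contravariant functor on all schemes over Spec A; only its values on affine schemes
enter, and those form a functor on A-algebras preserving filtered colimits, which is the form stated
here.) -/
theorem result (A : Type u) [CommRing A]
    (I : Ideal A) [HenselianRing A I] (hG : CAlg.IsGRing A)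
    (F : Under (CommRingCat.of A) ⥤ Type u)
    (hF : ∀ (J : Type u) [SmallCategory J] [IsFiltered J], PreservesColimitsOfShape J F)
    (n : ℕ)
    (π : Under.mk (CommRingCat.ofHom (algebraMap A (AdicCompletion I A))) ⟶
      Under.mk (CommRingCat.ofHom (algebraMap A (A ⧸ I ^ (n + 1)))))
    (hπ : π.right = CommRingCat.ofHom
      (AdicCompletion.evalₐ I (n + 1) : AdicCompletion I A →ₐ[A] A ⧸ I ^ (n + 1)).toRingHom)
    (ρ : Under.mk (𝟙 (CommRingCat.of A)) ⟶
      Under.mk (CommRingCat.ofHom (algebraMap A (A ⧸ I ^ (n + 1)))))
    (ξ : F.obj (Under.mk (CommRingCat.ofHom (algebraMap A (AdicCompletion I A))))) :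
    ∃ η : F.obj (Under.mk (𝟙 (CommRingCat.of A))), F.map ρ η = F.map π ξ := by
  haveI := hG.1
  by_cases hI : I = ⊤
  · -- `A` is the zero ring
    have hjac : I ≤ Ideal.jacobson ⊥ := HenselianRing.jac
    have h1 : Ideal.jacobson (⊥ : Ideal A) = ⊤ := top_le_iff.mp (hI ▸ hjac)
    have h2 : (⊥ : Ideal A) = ⊤ := Ideal.jacobson_eq_top_iff.mp h1
    haveI : Subsingleton A := by
      refine ⟨fun a b => ?_⟩
      have ha : a ∈ (⊥ : Ideal A) := h2 ▸ Submodule.mem_top
      have hb : b ∈ (⊥ : Ideal A) := h2 ▸ Submodule.mem_top
      rw [Ideal.mem_bot.mp ha, Ideal.mem_bot.mp hb]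
    let θ' : AdicCompletion I A →+* A :=
      { toFun := fun _ => 0
        map_one' := Subsingleton.elim _ _
        map_mul' := fun _ _ => Subsingleton.elim _ _
        map_zero' := rfl
        map_add' := fun _ _ => Subsingleton.elim _ _ }
    let θ : Under.mk (CommRingCat.ofHom (algebraMap A (AdicCompletion I A))) ⟶
        Under.mk (𝟙 (CommRingCat.of A)) :=
      Under.homMk (CommRingCat.ofHom θ') (by
        ext x
        exact Subsingleton.elim (α := A) _ _)
    refine ⟨F.map θ ξ, ?_⟩
    have h3 : θ ≫ ρ = π := by
      apply Under.UnderMorphism.ext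
      ext x
      haveI : Subsingleton (A ⧸ I ^ (n + 1)) := (algebraMap A (A ⧸ I ^ (n + 1))).codomain_trivial
      exact Subsingleton.elim (α := A ⧸ I ^ (n + 1)) _ _
    rw [← h3, FunctorToTypes.map_comp_apply]
  · exact Groth.Agent.S14624.result A I hI
      (Groth.Agent.Lib.Helper7.ArtinFunctor.hAP_of_approx A _ (fun n m F a ha N =>
        Groth.Agent.S0597.result A I (Groth.Agent.S0600.result A hG I) n m F a ha N))
      F hF (n + 1) π hπ ρ ξ


end Groth.Agent.S14050
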