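import Groth.Statements.S14051
import Mathlib.Algebra.Module.GradedModule
import Mathlib.RingTheory.GradedAlgebra.Basic

set_option autoImplicit false
universe u
open CAlg

namespace Groth.Agent.S14051

set_option linter.unusedSectionVars false

section
variable {R : Type u} [CommRing R] {A : Type u} [CommRing A] [Algebra R A]
    (𝒜 : ℕ → Submodule R A) [GradedAlgebra 𝒜]
    {M : Type u} [AddCommGroup M] [Module R M] [Module A M] [IsScalarTower R A M]
    (ℳ : ℕ → Submodule R M) [DirectSum.Decomposition ℳ] [SetLike.GradedSMul 𝒜 ℳ]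

/-- the degree `d` part generated by `s` -/
def T (s : Set M) (n₀ : ℕ) (d : ℕ) : Submodule R M :=
  Submodule.span R {x | ∃ y ∈ s, ∃ e, e ≤ n₀ ∧ e ≤ d ∧ y ∈ ℳ e ∧ ∃ a ∈ 𝒜 (d - e), x = a • y}

theorem T_le (s : Set M) (n₀ d : ℕ) : T 𝒜 ℳ s n₀ d ≤ ℳ d := by
  apply Submodule.span_le.mpr
  rintro x ⟨y, _, e, _, hed, hy, a, ha, rfl⟩
  have := SetLike.GradedSMul.smul_mem ha hy
  rwa [vadd_eq_add, Nat.sub_add_cancel hed] at this

theorem smul_T (s : Set M) (n₀ d i : ℕ) (a : A) (ha : a ∈ 𝒜 i) (x : M) (hx : x ∈ T 𝒜 ℳ s n₀ d) :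
    a • x ∈ T 𝒜 ℳ s n₀ (i + d) := by
  induction hx using Submodule.span_induction with
  | mem x hx =>
    obtain ⟨y, hys, e, he, hed, hy, a', ha', rfl⟩ := hx
    apply Submodule.subset_span
    refine ⟨y, hys, e, he, by omega, hy, a * a', ?_, by rw [mul_smul]⟩
    have := SetLike.GradedMul.mul_mem ha ha'
    have h2 : i + (d - e) = i + d - e := by omega
    rwa [h2] at this
  | zero => rw [smul_zero]; exact Submodule.zero_mem _
  | add x y _ _ hx hy => rw [smul_add]; exact Submodule.add_mem _ hx hy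
  | smul r x _ hx => rw [smul_comm]; exact Submodule.smul_mem _ _ hx

theorem iSup_T_eq_top (s : Set M) (n₀ : ℕ) (hs : ∀ y ∈ s, ∃ d : ℕ, d ≤ n₀ ∧ y ∈ ℳ d)
    (hspan : Submodule.span A s = ⊤) : ⨆ d, T 𝒜 ℳ s n₀ d = ⊤ := by
  classical
  let Q : Submodule A M :=
    { carrier := (⨆ d, T 𝒜 ℳ s n₀ d : Submodule R M)
      add_mem' := fun ha hb => Submodule.add_mem _ ha hb
      zero_mem' := Submodule.zero_mem _
      smul_mem' := by
        intro a x hx
        change a • x ∈ (⨆ d, T 𝒜 ℳ s n₀ d : Submodule R M)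
        change x ∈ (⨆ d, T 𝒜 ℳ s n₀ d : Submodule R M) at hx
        induction a using DirectSum.Decomposition.inductionOn 𝒜 with
        | zero => rw [zero_smul]; exact Submodule.zero_mem _
        | homogeneous a =>
          rename_i i
          induction hx using Submodule.iSup_induction' with
          | mem d x hx =>
            exact Submodule.mem_iSup_of_mem (i + d) (smul_T 𝒜 ℳ s n₀ d i a a.2 x hx)
          | zero => rw [smul_zero]; exact Submodule.zero_mem _
          | add x y _ _ hx hy => rw [smul_add]; exact Submodule.add_mem _ hx hy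
        | add a b ha hb => rw [add_smul]; exact Submodule.add_mem _ ha hb }
  have hsQ : s ⊆ Q := by
    intro y hy
    obtain ⟨e, he, hye⟩ := hs y hy
    change y ∈ (⨆ d, T 𝒜 ℳ s n₀ d : Submodule R M)
    refine Submodule.mem_iSup_of_mem e (Submodule.subset_span ?_)
    refine ⟨y, hy, e, he, le_rfl, hye, 1, ?_, by rw [one_smul]⟩
    rw [Nat.sub_self]
    exact SetLike.GradedOne.one_mem
  have hQ : Q = ⊤ := by
    rw [eq_top_iff, ← hspan]
    exact Submodule.span_le.mpr hsQ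
  rw [eq_top_iff]
  intro x _
  have : x ∈ Q := by rw [hQ]; trivial
  exact this

theorem T_eq (s : Set M) (n₀ : ℕ) (hs : ∀ y ∈ s, ∃ d : ℕ, d ≤ n₀ ∧ y ∈ ℳ d)
    (hspan : Submodule.span A s = ⊤) (d : ℕ) : T 𝒜 ℳ s n₀ d = ℳ d := by
  classical
  apply le_antisymm (T_le 𝒜 ℳ s n₀ d)
  have key : ∀ x : M, ∀ d, ((DirectSum.decompose ℳ x) d : M) ∈ T 𝒜 ℳ s n₀ d := by
    intro x
    have hx : x ∈ ⨆ d, T 𝒜 ℳ s n₀ d := by rw [iSup_T_eq_top 𝒜 ℳ s n₀ hs hspan]; trivial
    induction hx using Submodule.iSup_induction' with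
    | mem e x hx =>
      intro d
      have hxe : x ∈ ℳ e := T_le 𝒜 ℳ s n₀ e hx
      by_cases hde : d = e
      · subst hde
        rw [DirectSum.decompose_of_mem_same ℳ hxe]; exact hx
      · rw [DirectSum.decompose_of_mem_ne ℳ hxe (Ne.symm hde)]; exact Submodule.zero_mem _
    | zero => intro d; rw [DirectSum.decompose_zero]; exact Submodule.zero_mem _
    | add x y _ _ hx hy =>
      intro d
      rw [DirectSum.decompose_add, DirectSum.add_apply, Submodule.coe_add]
      exact Submodule.add_mem _ (hx d) (hy d)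
  intro x hx
  have := key x d
  rwa [DirectSum.decompose_of_mem_same ℳ hx] at this


theorem smul_le_graded (i j : ℕ) : 𝒜 i • ℳ j ≤ ℳ (i + j) := by
  rw [Submodule.smul_le]
  intro a ha m hm
  exact SetLike.GradedSMul.smul_mem ha hm

theorem step (hA : ∀ n : ℕ, 𝒜 (n + 1) = 𝒜 1 * 𝒜 n)
    (s : Set M) (n₀ : ℕ) (hs : ∀ y ∈ s, ∃ d : ℕ, d ≤ n₀ ∧ y ∈ ℳ d)
    (hspan : Submodule.span A s = ⊤) (n : ℕ) (hn : n₀ ≤ n) : ℳ (n + 1) = 𝒜 1 • ℳ n := by
  apply le_antisymm
  · rw [← T_eq 𝒜 ℳ s n₀ hs hspan (n + 1)]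
    apply Submodule.span_le.mpr
    rintro x ⟨y, _, e, he, hed, hy, a, ha, rfl⟩
    have h1 : n + 1 - e = (n - e) + 1 := by omega
    rw [h1, hA] at ha
    induction ha using Submodule.mul_induction_on' with
    | mem_mul_mem b hb c hc =>
      rw [mul_smul]
      apply Submodule.smul_mem_smul hb
      have := SetLike.GradedSMul.smul_mem hc hy
      rwa [vadd_eq_add, Nat.sub_add_cancel (le_trans he hn)] at this
    | add a _ b _ ha hb =>
      rw [add_smul]; exact Submodule.add_mem _ ha hb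
  · have := smul_le_graded 𝒜 ℳ 1 n
    rwa [add_comm] at this

theorem main (hA : ∀ n : ℕ, 𝒜 (n + 1) = 𝒜 1 * 𝒜 n)
    (s : Set M) (n₀ : ℕ) (hs : ∀ y ∈ s, ∃ d : ℕ, d ≤ n₀ ∧ y ∈ ℳ d)
    (hspan : Submodule.span A s = ⊤) (n k : ℕ) (hn : n₀ ≤ n) : ℳ (n + k) = 𝒜 k • ℳ n := by
  induction k with
  | zero =>
    apply le_antisymm
    · intro x hx
      rw [add_zero] at hx
      have : (1 : A) • x ∈ 𝒜 0 • ℳ n := Submodule.smul_mem_smul SetLike.GradedOne.one_mem hx
      rwa [one_smul] at this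
    · have := smul_le_graded 𝒜 ℳ 0 n
      rwa [zero_add] at this
  | succ k ih =>
    have e : 𝒜 1 • 𝒜 k = 𝒜 1 * 𝒜 k :=
      le_antisymm (Submodule.smul_le.mpr fun a ha b hb => Submodule.mul_mem_mul ha hb)
        (Submodule.mul_le.mpr fun a ha b hb => Submodule.smul_mem_smul ha hb)
    rw [← add_assoc, step 𝒜 ℳ hA s n₀ hs hspan (n + k) (by omega), ih, ← Submodule.smul_assoc, e,
      ← hA]

end

/-- Let A be a commutative ℕ-graded algebra over a base ring R which is generated by A_1 as an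
A_0-algebra, written as A_{n+1} = A_1 · A_n for every n, and let M be a graded A-module: an A-module
with R-submodules M_n giving a direct-sum decomposition and A_i · M_j ⊆ M_{i+j}. If M is spanned
over A by a set of homogeneous elements all of degree at most n₀, then for every n ≥ n₀ and every k
≥ 0 the degree-(n+k) part of M is A_k · M_n. -/
theorem result
    (R : Type u) [CommRing R] (A : Type u) [CommRing A] [Algebra R A]
    (𝒜 : ℕ → Submodule R A) [GradedAlgebra 𝒜]
    (hA : ∀ n : ℕ, 𝒜 (n + 1) = 𝒜 1 * 𝒜 n)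
    (M : Type u) [AddCommGroup M] [Module R M] [Module A M] [IsScalarTower R A M]
    (ℳ : ℕ → Submodule R M) [DirectSum.Decomposition ℳ] [SetLike.GradedSMul 𝒜 ℳ]
    (s : Set M) (n₀ : ℕ) (hs : ∀ y ∈ s, ∃ d : ℕ, d ≤ n₀ ∧ y ∈ ℳ d)
    (hspan : Submodule.span A s = ⊤)
    (n k : ℕ) (hn : n₀ ≤ n) :
    ℳ (n + k) = 𝒜 k • ℳ n := by
  exact main 𝒜 ℳ hA s n₀ hs hspan n k hn

end Groth.Agent.S14051
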