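import Groth.Statements.S1406
import Groth.Agent.Lib.Helper2NoethDesc
import Groth.Agent.S10861

set_option autoImplicit false
universe u
open FlatMor

namespace Groth.Agent.S1406

section Dev
open AlgebraicGeometry CategoryTheory Limits

theorem main {X X' Y : Scheme.{u}} (f : X ⟶ Y) (a : X' ⟶ X) [Flat a] [LocallyOfFinitePresentation a] [Surjective a] :
    (∀ y : Y, IsLocallyNoetherian (f.fiber y)) ↔ ∀ y : Y, IsLocallyNoetherian ((a ≫ f).fiber y) := by
  have key : ∀ y : Y, IsLocallyNoetherian (f.fiber y) ↔ IsLocallyNoetherian ((a ≫ f).fiber y) := by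
    intro y
    let ay := CohIII.fiberMapOver a (a ≫ f) f rfl y
    have hPB : IsPullback ((a ≫ f).fiberι y) ay a (f.fiberι y) := Groth.Agent.S10861.PB a (a ≫ f) f rfl y
    haveI : Flat ay := MorphismProperty.of_isPullback (P := @Flat) hPB inferInstance
    haveI : LocallyOfFinitePresentation ay :=
      MorphismProperty.of_isPullback (P := @LocallyOfFinitePresentation) hPB inferInstance
    haveI : Surjective ay := MorphismProperty.of_isPullback (P := @Surjective) hPB inferInstance
    constructor
    · intro h
      exact LocallyOfFiniteType.isLocallyNoetherian ay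
    · intro h
      exact Groth.Agent.Lib.Helper2.NoethDesc.r0116 ay
  exact ⟨fun h y => (key y).mp (h y), fun h y => (key y).mpr (h y)⟩


end Dev

open AlgebraicGeometry CategoryTheory Limits in
/-- Let a : X' → X be flat, locally of finite presentation and surjective. Then all fibres of f : X → Y
are locally Noetherian if and only if all fibres of a ≫ f are. -/
theorem result {X X' Y : Scheme.{u}} (f : X ⟶ Y) (a : X' ⟶ X) [Flat a] [LocallyOfFinitePresentation a] [Surjective a] :
    (∀ y : Y, IsLocallyNoetherian (f.fiber y)) ↔ ∀ y : Y, IsLocallyNoetherian ((a ≫ f).fiber y) := by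
  exact main f a

end Groth.Agent.S1406
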