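import Groth.Statements.S14060
import Mathlib
-- import your own Groth.Agent.* helpers here

set_option autoImplicit false
set_option linter.unusedSectionVars false
set_option linter.style.haveILetI false
universe u
open CategoryTheory CategoryTheory.Limits TopologicalSpace
open CohTop

namespace Groth.Agent.S14060

section
open Abelian

variable {𝒜 : Type*} [Category 𝒜] [Abelian 𝒜]

/-- for an exact pair `a`, `b`: `0 → ker a → X₂ → ker b → 0`. -/
noncomputable def kerSC {X₂ X₁ X₀ : 𝒜} (a : X₂ ⟶ X₁) (b : X₁ ⟶ X₀) (hab : a ≫ b = 0) : ShortComplex 𝒜 :=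
  ShortComplex.mk (kernel.ι a) (kernel.lift b a hab) (by
    rw [← cancel_mono (kernel.ι b), Category.assoc, kernel.lift_ι, kernel.condition, zero_comp])

lemma lift_aux {X₂ X₁ X₀ W : 𝒜} (a : X₂ ⟶ X₁) (b : X₁ ⟶ X₀) (hab : a ≫ b = 0) (g : W ⟶ X₂)
    (hg : g ≫ kernel.lift b a hab = 0) : g ≫ a = 0 := by
  rw [← kernel.lift_ι b a hab, ← Category.assoc, hg, zero_comp]

lemma uniq_aux {X₂ X₁ W : 𝒜} (a : X₂ ⟶ X₁) (g : W ⟶ X₂) (hg : g ≫ a = 0)
    (m : W ⟶ kernel a) (hm : m ≫ kernel.ι a = g) : m = kernel.lift _ g hg := by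
  rw [← cancel_mono (kernel.ι a), hm, kernel.lift_ι]

lemma kerSC_shortExact {X₂ X₁ X₀ : 𝒜} (a : X₂ ⟶ X₁) (b : X₁ ⟶ X₀) (hab : a ≫ b = 0)
    (hex : (ShortComplex.mk a b hab).Exact) : (kerSC a b hab).ShortExact := by
  haveI : Mono (kerSC a b hab).f := by dsimp [kerSC]; infer_instance
  haveI : Epi (kerSC a b hab).g := (ShortComplex.exact_iff_epi_kernel_lift _).1 hex
  refine ShortComplex.ShortExact.mk (ShortComplex.exact_of_f_is_kernel _ ?_)
  refine KernelFork.IsLimit.ofι _ _ (fun g hg => kernel.lift _ g ?_) (fun g hg => kernel.lift_ι _ _ _)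
    (fun g hg m hm => ?_)
  · exact lift_aux a b hab g hg
  · exact uniq_aux a g _ m hm

/-- `0 → ker b → X₁ → X₀ → 0` for `b` epi. -/
noncomputable def kerSC0 {X₁ X₀ : 𝒜} (b : X₁ ⟶ X₀) : ShortComplex 𝒜 :=
  ShortComplex.mk (kernel.ι b) b (kernel.condition b)

lemma kerSC0_shortExact {X₁ X₀ : 𝒜} (b : X₁ ⟶ X₀) [Epi b] : (kerSC0 b).ShortExact := by
  haveI : Mono (kerSC0 b).f := by dsimp [kerSC0]; infer_instance
  haveI : Epi (kerSC0 b).g := by dsimp [kerSC0]; infer_instance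
  exact ShortComplex.ShortExact.mk (ShortComplex.exact_of_f_is_kernel _ (kernelIsKernel _))

end

section main
open Abelian

variable {𝒜 : Type*} [Category 𝒜] [Abelian 𝒜] [HasExt.{u} 𝒜]

lemma ext_eq_zero_of_isZero {A W : 𝒜} (hW : IsZero W) {n : ℕ} (x : Ext.{u} A W n) : x = 0 := by
  have h : 𝟙 W = 0 := hW.eq_of_src _ _
  rw [← Ext.comp_mk₀_id x, h, Ext.mk₀_zero, Ext.comp_zero]

variable (A : 𝒜) (F : ChainComplex 𝒜 ℕ) (r : ℕ)
  (hmono : Mono (F.d r (r - 1)))
  (hex : ∀ j : ℕ, 1 ≤ j → j < r → F.ExactAt j)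
  (hvan : ∀ j : ℕ, 2 ≤ j → j ≤ r → ∀ x : Ext.{u} A (F.X j) (j - 1), x = 0)

include hmono hex hvan in
lemma claim (hr : 1 ≤ r) : ∀ (k j : ℕ), j + k = r - 1 →
    ∀ x : Ext.{u} A (kernel (F.d (j + 1) j)) (j + 1), x = 0 := by
  intro k
  induction k with
  | zero =>
    intro j hj x
    have hj' : j + 1 = r := by lia
    have h0 : IsZero (kernel (F.d (j + 1) j)) := by
      haveI : Mono (F.d (j + 1) j) := by
        have : j = r - 1 := by lia
        subst hj'
        exact hmono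
      exact isZero_kernel_of_mono _
    exact ext_eq_zero_of_isZero h0 x
  | succ k ih =>
    intro j hj x
    have hex' : (ShortComplex.mk (F.d (j + 2) (j + 1)) (F.d (j + 1) j) (F.d_comp_d _ _ _)).Exact := by
      have := hex (j + 1) (by lia) (by lia)
      rwa [HomologicalComplex.exactAt_iff' F (j + 2) (j + 1) j (by simp) (by simp)] at this
    have hS := kerSC_shortExact _ _ _ hex'
    obtain ⟨x₂, hx₂⟩ := Ext.covariant_sequence_exact₃ A hS x (n₁ := j + 2) rfl
      (ih (j + 1) (by lia) _)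
    have h2 : x₂ = 0 := hvan (j + 2) (by lia) (by lia) x₂
    subst h2
    exact hx₂.symm.trans (Ext.zero_comp _ _ _ _ _)

include hmono hex hvan in
theorem main (hr : 1 ≤ r) [Epi (F.d 1 0)] (φ : A ⟶ F.X 0) : ∃ ψ : A ⟶ F.X 1, ψ ≫ F.d 1 0 = φ := by
  have hS := kerSC0_shortExact (F.d 1 0)
  obtain ⟨x₂, hx₂⟩ := Ext.covariant_sequence_exact₃ A hS (Ext.mk₀ φ) (n₁ := 1) rfl
    (claim A F r hmono hex hvan hr (r - 1) 0 (by lia) _)
  obtain ⟨ψ, rfl⟩ := (Ext.mk₀_bijective _ _).2 x₂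
  refine ⟨ψ, ?_⟩
  rw [Ext.mk₀_comp_mk₀] at hx₂
  exact (Ext.mk₀_bijective _ _).1 hx₂

end main

section final
open Abelian Opposite

theorem result' (X : TopCat.{u})
    [HasExt.{u} (Sheaf (Opens.grothendieckTopology X) AddCommGrpCat.{u})]
    (r : ℕ) (hr : 1 ≤ r)
    (F : ChainComplex (Sheaf (Opens.grothendieckTopology X) AddCommGrpCat.{u}) ℕ)
    (hmono : Mono (F.d r (r - 1))) (hepi : Epi (F.d 1 0))
    (hex : ∀ j : ℕ, 1 ≤ j → j < r → F.ExactAt j)
    (hvan : ∀ j : ℕ, 2 ≤ j → j ≤ r → Subsingleton (Sheaf.H (F.X j) (j - 1))) :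
    Function.Surjective ((F.d 1 0).hom.app (Opposite.op ⊤)) := by
  have hT : IsTerminal (⊤ : Opens X) :=
    IsTerminal.ofUniqueHom (fun U => homOfLE le_top) (fun _ _ => Subsingleton.elim _ _)
  intro s
  let x : Sheaf.H (F.X 0) 0 := (Sheaf.H.equiv₀ (F.X 0) hT).symm s
  obtain ⟨ψ, hψ⟩ := main _ F r hmono hex
    (fun j h1 h2 y => @Subsingleton.elim _ (hvan j h1 h2) _ _) hr (Ext.addEquiv₀ x)
  refine ⟨Sheaf.H.equiv₀ (F.X 1) hT (Ext.addEquiv₀.symm ψ), ?_⟩
  rw [Sheaf.H.equiv₀_naturality]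
  have h1 : Sheaf.H.map (F.d 1 0) 0 (Ext.addEquiv₀.symm ψ) = x := by
    apply Ext.addEquiv₀.injective
    rw [Sheaf.H.addEquiv₀_map, AddEquiv.apply_symm_apply, hψ]
  rw [h1]
  exact AddEquiv.apply_symm_apply _ s

end final


/-- Let X be a topological space, r ≥ 1 an integer and 0 → F_r → ⋯ → F_2 → F_1 → F_0 → 0 an exact
sequence of sheaves of abelian groups on X, presented as a chain complex F of abelian sheaves
indexed by the natural numbers whose differential F_r → F_{r−1} is a monomorphism, whose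
differential F_1 → F_0 is an epimorphism of sheaves, and which is exact at F_j for 1 ≤ j ≤ r − 1
(for r = 1 the single map F_1 → F_0 is mono and epi). Assume the sheaf cohomology groups H^{j−1}(X,
F_j) vanish for 2 ≤ j ≤ r. Then the map on global sections F_1(X) → F_0(X) is surjective. (The
instance hypothesis that the category of abelian sheaves on X has Ext groups in the universe of X
holds for every X, abelian sheaves on a space forming a Grothendieck abelian category; it is the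
setting in which sheaf cohomology is defined.) -/
theorem result (X : TopCat.{u})
    [HasExt.{u} (Sheaf (Opens.grothendieckTopology X) AddCommGrpCat.{u})]
    (r : ℕ) (hr : 1 ≤ r)
    (F : ChainComplex (Sheaf (Opens.grothendieckTopology X) AddCommGrpCat.{u}) ℕ)
    (hmono : Mono (F.d r (r - 1))) (hepi : Epi (F.d 1 0))
    (hex : ∀ j : ℕ, 1 ≤ j → j < r → F.ExactAt j)
    (hvan : ∀ j : ℕ, 2 ≤ j → j ≤ r → Subsingleton (Sheaf.H (F.X j) (j - 1))) :
    Function.Surjective ((F.d 1 0).hom.app (Opposite.op ⊤)) := by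
  exact result' X r hr F hmono hepi hex hvan

end Groth.Agent.S14060
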