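import Groth.Statements.S14069
import Mathlib
import Groth.Agent.Lib.Helper20FinHom

set_option autoImplicit false
universe u
open CategoryTheory AlgebraicGeometry
open FamCyc

namespace Groth.Agent.S14069
open CategoryTheory AlgebraicGeometry CategoryTheory.Limits

/-- Shrinking an étale neighbourhood so that its restriction to a closed subscheme becomes the
image of a given section. -/
theorem shrink {X X₀ U₁ Y : Scheme.{u}} (ι₀ : X₀ ⟶ X) [IsClosedImmersion ι₀] (e : U₁ ⟶ X)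
    (f : U₁ ⟶ Y) (f₀ : X₀ ⟶ Y) (W₀ : X₀.Opens)
    (σ : (W₀ : Scheme.{u}) ⟶ pullback e ι₀) [IsOpenImmersion σ]
    (hσ : σ ≫ pullback.snd e ι₀ = W₀.ι)
    (hσf : σ ≫ pullback.fst e ι₀ ≫ f = W₀.ι ≫ f₀) :
    ∃ U : U₁.Opens, IsOpenImmersion (pullback.snd (U.ι ≫ e) ι₀) ∧
      (W₀ : Set X₀) ⊆ Set.range (pullback.snd (U.ι ≫ e) ι₀).base ∧
      pullback.snd (U.ι ≫ e) ι₀ ≫ f₀ = pullback.fst (U.ι ≫ e) ι₀ ≫ U.ι ≫ f := by
  have hfstcl : IsClosedImmersion (pullback.fst e ι₀) := inferInstance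
  -- the closed set to remove
  have hDcl : IsClosed ((pullback.fst e ι₀).base '' (Set.range σ.base)ᶜ) :=
    (pullback.fst e ι₀).isClosedEmbedding.isClosedMap _
      σ.isOpenEmbedding.isOpen_range.isClosed_compl
  let U : U₁.Opens := ⟨((pullback.fst e ι₀).base '' (Set.range σ.base)ᶜ)ᶜ, hDcl.isOpen_compl⟩
  have hinj : Function.Injective (pullback.fst e ι₀).base :=
    (pullback.fst e ι₀).isClosedEmbedding.injective
  have hmemU : ∀ z : ↥(pullback e ι₀), (pullback.fst e ι₀).base z ∈ U ↔ z ∈ Set.range σ.base := by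
    intro z
    change (pullback.fst e ι₀).base z ∉ _ ↔ _
    rw [hinj.mem_set_image]
    simp
  refine ⟨U, ?_⟩
  -- the comparison maps
  let m : pullback (U.ι ≫ e) ι₀ ⟶ pullback e ι₀ :=
    pullback.lift (pullback.fst (U.ι ≫ e) ι₀ ≫ U.ι) (pullback.snd (U.ι ≫ e) ι₀)
      (by rw [Category.assoc, pullback.condition])
  have hm1 : m ≫ pullback.fst e ι₀ = pullback.fst (U.ι ≫ e) ι₀ ≫ U.ι := pullback.lift_fst _ _ _
  have hm2 : m ≫ pullback.snd e ι₀ = pullback.snd (U.ι ≫ e) ι₀ := pullback.lift_snd _ _ _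
  have hmr : Set.range m.base ⊆ Set.range σ.base := by
    rintro _ ⟨z, rfl⟩
    rw [← hmemU, ← Scheme.Hom.comp_apply, hm1, Scheme.Hom.comp_apply]
    exact (pullback.fst (U.ι ≫ e) ι₀ z).2
  let m' : pullback (U.ι ≫ e) ι₀ ⟶ (W₀ : Scheme.{u}) := IsOpenImmersion.lift σ m hmr
  have hm' : m' ≫ σ = m := IsOpenImmersion.lift_fac _ _ _
  have hσU : Set.range (σ ≫ pullback.fst e ι₀).base ⊆ Set.range U.ι.base := by
    rintro _ ⟨w, rfl⟩
    rw [Scheme.Opens.range_ι, Scheme.Hom.comp_apply]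
    exact (hmemU _).mpr ⟨w, rfl⟩
  let l : (W₀ : Scheme.{u}) ⟶ (U : Scheme.{u}) :=
    IsOpenImmersion.lift U.ι (σ ≫ pullback.fst e ι₀) hσU
  have hl : l ≫ U.ι = σ ≫ pullback.fst e ι₀ := IsOpenImmersion.lift_fac _ _ _
  let n' : (W₀ : Scheme.{u}) ⟶ pullback (U.ι ≫ e) ι₀ :=
    pullback.lift l W₀.ι (by
      rw [← Category.assoc, hl, Category.assoc, pullback.condition, ← Category.assoc, hσ])
  have hn1 : n' ≫ pullback.fst (U.ι ≫ e) ι₀ = l := pullback.lift_fst _ _ _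
  have hn2 : n' ≫ pullback.snd (U.ι ≫ e) ι₀ = W₀.ι := pullback.lift_snd _ _ _
  have hsnd : pullback.snd (U.ι ≫ e) ι₀ = m' ≫ W₀.ι := by
    rw [← hσ, ← Category.assoc, hm', hm2]
  have hn'm : n' ≫ m = σ := by
    apply pullback.hom_ext
    · rw [Category.assoc, hm1, ← Category.assoc, hn1, hl]
    · rw [Category.assoc, hm2, hn2, hσ]
  have h1 : m' ≫ n' = 𝟙 _ := by
    apply pullback.hom_ext
    · rw [← cancel_mono U.ι, Category.assoc, Category.assoc, reassoc_of% hn1, hl, ← Category.assoc,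
        hm', hm1, Category.id_comp]
    · rw [Category.assoc, hn2, Category.id_comp, hsnd]
  have h2 : n' ≫ m' = 𝟙 _ := by
    rw [← cancel_mono σ, Category.assoc, hm', hn'm, Category.id_comp]
  have hiso : IsIso m' := ⟨n', h1, h2⟩
  refine ⟨?_, ?_, ?_⟩
  · rw [hsnd]
    infer_instance
  · intro w hw
    refine ⟨n' ⟨w, hw⟩, ?_⟩
    rw [← Scheme.Hom.comp_apply, hn2]
    rfl
  · rw [hsnd, Category.assoc, ← hσf, ← Category.assoc, ← Category.assoc, hm', ← Category.assoc,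
      hm1, Category.assoc]

set_option backward.isDefEq.respectTransparency false in

/-- Let i : S₀ ⟶ S be a closed immersion, p : X ⟶ S a scheme over S, q : Y ⟶ S a smooth morphism, X₀ = X
×_S S₀, x₀ a point of X₀ and f₀ : X₀ ⟶ Y a morphism over S. Then there are a scheme U, an étale
morphism e : U ⟶ X whose base change U ×_X X₀ ⟶ X₀ is an open immersion whose image contains x₀, and
a morphism f : U ⟶ Y over S whose restriction to U ×_X X₀ equals the restriction of f₀. -/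
theorem result {S S₀ X Y : Scheme.{u}} (i : S₀ ⟶ S) [IsClosedImmersion i]
    (p : X ⟶ S) (q : Y ⟶ S) [Smooth q] (f₀ : Limits.pullback p i ⟶ Y)
    (hf₀ : f₀ ≫ q = Limits.pullback.fst p i ≫ p) (x₀ : ↥(Limits.pullback p i)) :
    ∃ (U : Scheme.{u}) (e : U ⟶ X) (f : U ⟶ Y), Etale e ∧ f ≫ q = e ≫ p ∧
      IsOpenImmersion (Limits.pullback.snd e (Limits.pullback.fst p i)) ∧
      x₀ ∈ Set.range (Limits.pullback.snd e (Limits.pullback.fst p i)).base ∧
      Limits.pullback.snd e (Limits.pullback.fst p i) ≫ f₀ =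
        Limits.pullback.fst e (Limits.pullback.fst p i) ≫ f := by
  set ι₀ := pullback.fst p i with hι₀
  have hι₀cl : IsClosedImmersion ι₀ := inferInstance
  obtain ⟨US, hUS, VY, hVY, hyV, eq, hsm⟩ := Smooth.exists_isStandardSmooth q (f₀ x₀)
  obtain ⟨n, g, hgC, hg⟩ := hsm.exists_etale_mvPolynomial
  -- an open of `X` whose trace on `X₀` is `f₀⁻¹ VY`
  obtain ⟨O, hOopen, hO⟩ := ι₀.isEmbedding.isInducing.isOpen_iff.mp (f₀ ⁻¹ᵁ VY).2
  have hxO : ι₀ x₀ ∈ O := by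
    have : x₀ ∈ ι₀.base ⁻¹' O := by rw [hO]; exact hyV
    exact this
  have hxUS : ι₀ x₀ ∈ (p ⁻¹ᵁ US : X.Opens) := by
    change p (ι₀ x₀) ∈ US
    rw [← Scheme.Hom.comp_apply, ← hf₀, Scheme.Hom.comp_apply]
    exact eq hyV
  obtain ⟨_, ⟨W', hW', rfl⟩, hxW', hW'sub⟩ := X.isBasis_affineOpens.exists_subset_of_mem_open
    (show ι₀ x₀ ∈ O ∩ (p ⁻¹ᵁ US : X.Opens) from ⟨hxO, hxUS⟩) (hOopen.inter (p ⁻¹ᵁ US).2)
  obtain ⟨W, hW, hxW, hWsub⟩ : ∃ W : X.Opens, IsAffineOpen W ∧ ι₀ x₀ ∈ W ∧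
      (W : Set X) ⊆ O ∩ (p ⁻¹ᵁ US : X.Opens) := ⟨W', hW', hxW', hW'sub⟩
  have hWUS : W ≤ p ⁻¹ᵁ US := fun z hz => (hWsub hz).2
  set W₀ : (pullback p i).Opens := ι₀ ⁻¹ᵁ W with hW₀def
  have hW₀ : IsAffineOpen W₀ := hW.preimage ι₀
  have hW₀VY : W₀ ≤ f₀ ⁻¹ᵁ VY := by
    intro z hz
    have h1 : ι₀ z ∈ O := (hWsub hz).1
    have h2 : z ∈ ι₀.base ⁻¹' O := h1
    rw [hO] at h2
    exact h2
  have hW₀US : W₀ ≤ (ι₀ ≫ p) ⁻¹ᵁ US := fun z hz => hWUS hz
  have hx₀W₀ : x₀ ∈ W₀ := hxW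
  -- ring maps
  let α := p.appLE US W hWUS
  let ρ := ι₀.app W
  let φ₀ := f₀.appLE VY W₀ hW₀VY
  let β := q.appLE US VY eq
  have hρsurj : Function.Surjective ρ := ι₀.app_surjective W hW
  have hαρ : α ≫ ρ = β ≫ φ₀ := by
    have h1 : α ≫ ρ = (ι₀ ≫ p).appLE US W₀ hW₀US := by
      simp only [α, ρ, Scheme.Hom.app_eq_appLE]
      rw [Scheme.Hom.appLE_comp_appLE]
    have h2 : β ≫ φ₀ = (f₀ ≫ q).appLE US W₀ (by rw [hf₀]; exact hW₀US) := by
      simp only [β, φ₀]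
      rw [Scheme.Hom.appLE_comp_appLE]
    rw [h1, h2]
    congr 1
    exact hf₀.symm
  choose c hc using fun j : Fin n => hρsurj (φ₀ (g (MvPolynomial.X j)))
  let τ : MvPolynomial (Fin n) Γ(S, US) →+* Γ(X, W) := MvPolynomial.eval₂Hom α.hom c
  have hτC : τ.comp MvPolynomial.C = α.hom := by
    ext a
    exact MvPolynomial.eval₂Hom_C _ _ a
  have hρτ : ρ.hom.comp τ = φ₀.hom.comp g := by
    apply MvPolynomial.ringHom_ext
    · intro a
      have h1 : τ (MvPolynomial.C a) = α a := MvPolynomial.eval₂Hom_C _ _ a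
      have h2 : g (MvPolynomial.C a) = β a := congr($hgC a)
      rw [RingHom.comp_apply, RingHom.comp_apply, h1, h2]
      exact congr($hαρ a)
    · intro j
      have h1 : τ (MvPolynomial.X j) = c j := MvPolynomial.eval₂Hom_X' _ _ j
      rw [RingHom.comp_apply, RingHom.comp_apply, h1]
      exact hc j
  -- schemes
  let aX := Spec.map (CommRingCat.ofHom τ)
  let aY := Spec.map (CommRingCat.ofHom g)
  have haY : Etale aY := by
    rw [HasRingHomProperty.Spec_iff (P := @Etale)]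
    exact hg
  let e : pullback aX aY ⟶ X := pullback.fst aX aY ≫ hW.fromSpec
  let f : pullback aX aY ⟶ Y := pullback.snd aX aY ≫ hVY.fromSpec
  have hetale : Etale e := inferInstance
  have hfq : f ≫ q = e ≫ p := by
    have h1 : hVY.fromSpec ≫ q = aY ≫ Spec.map (CommRingCat.ofHom MvPolynomial.C) ≫
        hUS.fromSpec := by
      rw [← IsAffineOpen.SpecMap_appLE_fromSpec q hUS hVY eq, ← Spec.map_comp_assoc]
      congr 2
      ext a
      exact (congr($hgC a)).symm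
    have h2 : hW.fromSpec ≫ p = aX ≫ Spec.map (CommRingCat.ofHom MvPolynomial.C) ≫
        hUS.fromSpec := by
      rw [← IsAffineOpen.SpecMap_appLE_fromSpec p hUS hW hWUS, ← Spec.map_comp_assoc]
      congr 2
      ext a
      exact (congr($hτC a)).symm
    simp only [e, f, Category.assoc]
    rw [h1, h2, pullback.condition_assoc]
  -- the section over `W₀`
  let s₀ : Spec Γ(pullback p i, W₀) ⟶ pullback aX aY :=
    pullback.lift (Spec.map ρ) (Spec.map φ₀) (by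
      simp only [aX, aY]
      rw [← Spec.map_comp, ← Spec.map_comp]
      congr 1
      apply CommRingCat.hom_ext
      exact hρτ)
  have hs₀1 : s₀ ≫ pullback.fst aX aY = Spec.map ρ := pullback.lift_fst _ _ _
  have hs₀2 : s₀ ≫ pullback.snd aX aY = Spec.map φ₀ := pullback.lift_snd _ _ _
  have hρfrom : Spec.map ρ ≫ hW.fromSpec = hW₀.fromSpec ≫ ι₀ := by
    have := IsAffineOpen.SpecMap_appLE_fromSpec ι₀ hW hW₀ le_rfl
    rw [← this]
    simp only [ρ, Scheme.Hom.app_eq_appLE]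
    rfl
  have hφ₀from : Spec.map φ₀ ≫ hVY.fromSpec = hW₀.fromSpec ≫ f₀ :=
    IsAffineOpen.SpecMap_appLE_fromSpec f₀ hVY hW₀ hW₀VY
  have hσc : (hW₀.isoSpec.hom ≫ s₀) ≫ e = W₀.ι ≫ ι₀ := by
    simp only [e, Category.assoc]
    rw [reassoc_of% hs₀1, hρfrom, ← Category.assoc, IsAffineOpen.isoSpec_hom_fromSpec]
  let σ : (W₀ : Scheme.{u}) ⟶ pullback e ι₀ := pullback.lift (hW₀.isoSpec.hom ≫ s₀) W₀.ι hσc
  have hσ1 : σ ≫ pullback.fst e ι₀ = hW₀.isoSpec.hom ≫ s₀ := pullback.lift_fst _ _ _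
  have hσ2 : σ ≫ pullback.snd e ι₀ = W₀.ι := pullback.lift_snd _ _ _
  have hσOI : IsOpenImmersion σ := by
    have := Groth.Agent.Lib.Helper20.FinHom.isOpenImmersion_hasOfPostcomp_unramified
    have hsndE : Etale (pullback.snd e ι₀) := inferInstance
    refine MorphismProperty.of_postcomp (W := @IsOpenImmersion)
      (W' := @LocallyOfFiniteType ⊓ @FormallyUnramified) σ (pullback.snd e ι₀)
      ⟨inferInstance, inferInstance⟩ ?_
    rw [hσ2]
    infer_instance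
  have hσf : σ ≫ pullback.fst e ι₀ ≫ f = W₀.ι ≫ f₀ := by
    rw [reassoc_of% hσ1]
    simp only [f]
    rw [reassoc_of% hs₀2, hφ₀from, ← Category.assoc, IsAffineOpen.isoSpec_hom_fromSpec]
  obtain ⟨U, hUoi, hUW₀, hUf⟩ := shrink ι₀ e f f₀ W₀ σ hσ2 hσf
  refine ⟨U, U.ι ≫ e, U.ι ≫ f, inferInstance, ?_, hUoi, hUW₀ hx₀W₀, hUf⟩
  rw [Category.assoc, Category.assoc]
  exact congrArg (fun t => U.ι ≫ t) hfq

end Groth.Agent.S14069
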