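import Groth.Statements.S1407
import Groth.Agent.Lib.Helper5FibreLN
import Groth.Agent.S1345
import Groth.Agent.S1347

set_option autoImplicit false
universe u
open FlatMor

namespace Groth.Agent.S1407

open AlgebraicGeometry CategoryTheory Limits in
/-- Let Y' → Y be flat, locally of finite presentation and surjective and f' the base change of f : X →
Y. Then f has locally Noetherian fibres and is Cohen–Macaulay at every point if and only if the same
holds for f'. -/
theorem result {X Y X' Y' : Scheme.{u}} (f : X ⟶ Y) (f' : X' ⟶ Y') (g' : X' ⟶ X) (g : Y' ⟶ Y) [Flat g] [LocallyOfFinitePresentation g] [Surjective g]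
    (hc : IsPullback g' f' f g) :
    ((∀ y : Y, IsLocallyNoetherian (f.fiber y)) ∧ ∀ x : X, MoreMor.IsCMAt f x) ↔
      (∀ y' : Y', IsLocallyNoetherian (f'.fiber y')) ∧ ∀ x' : X', MoreMor.IsCMAt f' x' := by
  haveI hg'surj : Surjective g' := MorphismProperty.of_isPullback hc.flip ‹Surjective g›
  constructor
  · rintro ⟨hN, hCM⟩
    refine ⟨fun y' => ?_, fun x' => ?_⟩
    · exact Groth.Agent.Lib.Helper5.FibreLN.fiber_isLocallyNoetherian_of_isPullback hc y' (hN _)
    · exact Groth.Agent.S1345.result f hN f' g' g hc x' (hCM _)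
  · rintro ⟨hN', hCM'⟩
    have hN : ∀ y : Y, IsLocallyNoetherian (f.fiber y) := by
      intro y
      obtain ⟨y', rfl⟩ := g.surjective y
      exact Groth.Agent.Lib.Helper5.FibreLN.fiber_isLocallyNoetherian_descend hc y' (hN' y')
    refine ⟨hN, fun x => ?_⟩
    obtain ⟨x', rfl⟩ := g'.surjective x
    exact Groth.Agent.S1347.result f hN f' g' g hc x' (Flat.stalkMap g _) (hCM' x')

end Groth.Agent.S1407
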