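import Groth.Statements.S14085
import Mathlib.RingTheory.Flat.Equalizer
import Mathlib.RingTheory.Flat.Stability
import Mathlib.LinearAlgebra.TensorProduct.Prod

set_option autoImplicit false
universe u
open FlatMor

namespace Groth.Agent.S14085

open TensorProduct

theorem flat_prod (R : Type*) (M N : Type*) [CommRing R] [AddCommGroup M] [AddCommGroup N]
    [Module R M] [Module R N] [Module.Flat R M] [Module.Flat R N] : Module.Flat R (M × N) := by
  rw [Module.Flat.iff_lTensor_preserves_injective_linearMap]
  intro P P' _ _ _ _ f hf
  have e : (TensorProduct.prodLeft R R M N P').toLinearMap ∘ₗ f.lTensor (M × N) =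
      (LinearMap.prodMap (f.lTensor M) (f.lTensor N)) ∘ₗ
        (TensorProduct.prodLeft R R M N P).toLinearMap := by
    ext <;> simp
  have h1 : Function.Injective ((TensorProduct.prodLeft R R M N P').toLinearMap ∘ₗ
      f.lTensor (M × N)) := by
    rw [e, LinearMap.coe_comp]
    refine Function.Injective.comp ?_ (TensorProduct.prodLeft R R M N P).injective
    exact Function.Injective.prodMap
      (Module.Flat.lTensor_preserves_injective_linearMap f hf)
      (Module.Flat.lTensor_preserves_injective_linearMap f hf)
  rw [LinearMap.coe_comp] at h1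
  exact Function.Injective.of_comp h1

theorem flat_of_exact {R : Type*} [CommRing R] {K E Q : Type*} [AddCommGroup K] [AddCommGroup E]
    [AddCommGroup Q] [Module R K] [Module R E] [Module R Q] [Module.Flat R E] [Module.Flat R Q]
    (g : K →ₗ[R] E) (hg : Function.Injective g) (f : E →ₗ[R] Q) (hf : Function.Surjective f)
    (hex : Function.Exact g f) : Module.Flat R K := by
  rw [Module.Flat.iff_rTensor_preserves_injective_linearMap]
  intro N N' _ _ _ _ h hh
  have h1 : Function.Injective ((g.lTensor N') ∘ₗ (h.rTensor K)) := by
    rw [LinearMap.lTensor_comp_rTensor, ← LinearMap.rTensor_comp_lTensor, LinearMap.coe_comp]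
    exact (Module.Flat.rTensor_preserves_injective_linearMap h hh).comp
      (LinearMap.lTensor_injective_of_exact_of_flat f hf g hg hex N)
  rw [LinearMap.coe_comp] at h1
  exact Function.Injective.of_comp h1

/-- Let R be a ring, A and B flat R-algebras, I an ideal of A and B → A/I an injective finite flat map
of R-algebras. Then the fibre product ring B ×_{A/I} A, realised as the subalgebra of B × A of pairs
with equal image in A/I, is flat over R. (This is the affine statement behind flatness over the base
of the pushout of a closed immersion along a finite flat morphism.) -/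
theorem result (R A B : Type u) [CommRing R] [CommRing A] [CommRing B]
    [Algebra R A] [Algebra R B] [Module.Flat R A] [Module.Flat R B] (I : Ideal A)
    [Algebra B (A ⧸ I)] [IsScalarTower R B (A ⧸ I)] [Module.Finite B (A ⧸ I)] [Module.Flat B (A ⧸ I)]
    (hinj : Function.Injective (algebraMap B (A ⧸ I))) :
    Module.Flat R ↥(AlgHom.equalizer ((IsScalarTower.toAlgHom R B (A ⧸ I)).comp (AlgHom.fst R B A))
          ((Ideal.Quotient.mkₐ R I).comp (AlgHom.snd R B A))) := by
  have hAI : Module.Flat R (A ⧸ I) := Module.Flat.trans R B (A ⧸ I)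
  have hBA : Module.Flat R (B × A) := flat_prod R B A
  let f₁ : B × A →ₐ[R] A ⧸ I := (IsScalarTower.toAlgHom R B (A ⧸ I)).comp (AlgHom.fst R B A)
  let f₂ : B × A →ₐ[R] A ⧸ I := (Ideal.Quotient.mkₐ R I).comp (AlgHom.snd R B A)
  let P := AlgHom.equalizer f₁ f₂
  let g : P →ₗ[R] B × A := P.val.toLinearMap
  let f : B × A →ₗ[R] A ⧸ I := f₁.toLinearMap - f₂.toLinearMap
  have hg : Function.Injective g := Subtype.val_injective
  have hf : Function.Surjective f := by
    intro z
    obtain ⟨a, rfl⟩ := Ideal.Quotient.mk_surjective z
    refine ⟨(0, -a), ?_⟩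
    simp [f, f₁, f₂]
  have hex : Function.Exact g f := by
    intro x
    constructor
    · intro hx
      have hx' : f₁ x = f₂ x := by
        have : f₁ x - f₂ x = 0 := hx
        exact sub_eq_zero.mp this
      exact ⟨⟨x, hx'⟩, rfl⟩
    · rintro ⟨y, rfl⟩
      have : f₁ y.1 = f₂ y.1 := y.2
      change f₁ y.1 - f₂ y.1 = 0
      rw [this, sub_self]
  exact flat_of_exact g hg f hf hex

end Groth.Agent.S14085
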