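import Groth.Statements.S14086
import Mathlib

set_option autoImplicit false
universe u
open FlatMor

namespace Groth.Agent.S14086

open TensorProduct

section purity

variable (R B C R' : Type u) [CommRing R] [CommRing B] [CommRing C] [CommRing R']
  [Algebra R B] [Algebra R C] [Algebra R R'] [Algebra B C] [IsScalarTower R B C]

/-- faithfully flat maps are universally injective (rTensor version) -/
lemma rTensor_injective_of_faithfullyFlat [Module.FaithfullyFlat B C] :
    Function.Injective ((IsScalarTower.toAlgHom R B C).toLinearMap.rTensor R') := by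
  have h1 := Module.FaithfullyFlat.tensorProduct_mk_injective (A := B) (B := C) (B ⊗[R] R')
  have h2 : ∀ z : B ⊗[R] R', (IsScalarTower.toAlgHom R B C).toLinearMap.rTensor R' z =
      TensorProduct.AlgebraTensorModule.cancelBaseChange R B B C R'
        (TensorProduct.mk B C (B ⊗[R] R') 1 z) := by
    intro z
    induction z using TensorProduct.induction_on with
    | zero => simp
    | tmul b r =>
      simp [Algebra.smul_def]
    | add x y hx hy => rw [map_add, hx, hy, map_add, map_add]
  intro x y hxy
  rw [h2, h2] at hxy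
  exact h1 ((TensorProduct.AlgebraTensorModule.cancelBaseChange R B B C R').injective hxy)

lemma lTensor_injective_of_faithfullyFlat [Module.FaithfullyFlat B C] :
    Function.Injective ((IsScalarTower.toAlgHom R B C).toLinearMap.lTensor R') := by
  have h := rTensor_injective_of_faithfullyFlat R B C R'
  have h2 : ∀ z : R' ⊗[R] B, (IsScalarTower.toAlgHom R B C).toLinearMap.lTensor R' z =
      TensorProduct.comm R C R'
        ((IsScalarTower.toAlgHom R B C).toLinearMap.rTensor R' (TensorProduct.comm R R' B z)) := by
    intro z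
    induction z using TensorProduct.induction_on with
    | zero => simp
    | tmul r b => simp
    | add x y hx hy => rw [map_add, hx, hy, map_add, map_add, map_add]
  intro x y hxy
  rw [h2, h2] at hxy
  exact (TensorProduct.comm R R' B).injective (h ((TensorProduct.comm R C R').injective hxy))

lemma faithfullyFlat_of_finite_flat_injective [Module.Finite B C] [Module.Flat B C]
    (hinj : Function.Injective (algebraMap B C)) : Module.FaithfullyFlat B C := by
  have : FaithfulSMul B C := (faithfulSMul_iff_algebraMap_injective B C).mpr hinj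
  exact Module.FaithfullyFlat.of_comap_surjective (Algebra.IsIntegral.comap_surjective B C)

end purity

section main

variable (R A B R' : Type u) [CommRing R] [CommRing A]
    [CommRing B] [CommRing R'] [Algebra R A] [Algebra R B] [Algebra R R']
    (I : Ideal A) [Algebra B (A ⧸ I)] [IsScalarTower R B (A ⧸ I)]

/-- first map -/
abbrev φ₁ : B × A →ₐ[R] A ⧸ I := (IsScalarTower.toAlgHom R B (A ⧸ I)).comp (AlgHom.fst R B A)

/-- second map -/
abbrev φ₂ : B × A →ₐ[R] A ⧸ I := (Ideal.Quotient.mkₐ R I).comp (AlgHom.snd R B A)

/-- the fibre product -/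
abbrev Eq : Subalgebra R (B × A) := AlgHom.equalizer (φ₁ R A B I) (φ₂ R A B I)

/-- inclusion -/
def incl : ↥(Eq R A B I) →ₗ[R] B × A := (Eq R A B I).val.toLinearMap

/-- difference map -/
def diff : B × A →ₗ[R] A ⧸ I := (φ₁ R A B I).toLinearMap - (φ₂ R A B I).toLinearMap

lemma incl_injective : Function.Injective (incl R A B I) := Subtype.val_injective

lemma diff_surjective : Function.Surjective (diff R A B I) := by
  intro c
  obtain ⟨a, rfl⟩ := Ideal.Quotient.mk_surjective c
  refine ⟨(0, -a), ?_⟩
  simp [diff]

lemma exact_incl_diff : Function.Exact (incl R A B I) (diff R A B I) := by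
  intro y
  constructor
  · intro hy
    have hy' : (φ₁ R A B I) y = (φ₂ R A B I) y := by
      have : (φ₁ R A B I) y - (φ₂ R A B I) y = 0 := hy
      exact sub_eq_zero.mp this
    exact ⟨⟨y, hy'⟩, rfl⟩
  · rintro ⟨x, rfl⟩
    have : (φ₁ R A B I) x.1 = (φ₂ R A B I) x.1 := x.2
    change (φ₁ R A B I) x.1 - (φ₂ R A B I) x.1 = 0
    rw [this, sub_self]

lemma map_id_eq_lTensor {X Y : Type u} [CommRing X] [CommRing Y] [Algebra R X] [Algebra R Y]
    (f : X →ₐ[R] Y) (z : R' ⊗[R] X) :
    Algebra.TensorProduct.map (AlgHom.id R' R') f z = f.toLinearMap.lTensor R' z := by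
  induction z using TensorProduct.induction_on with
  | zero => simp
  | tmul r x => simp
  | add x y hx hy => rw [map_add, hx, hy, map_add]

lemma diff_comp_inl : (diff R A B I) ∘ₗ (LinearMap.inl R B A) =
    (IsScalarTower.toAlgHom R B (A ⧸ I)).toLinearMap := by
  ext b
  simp [diff]

lemma diff_comp_inr : (diff R A B I) ∘ₗ (LinearMap.inr R B A) =
    - (Ideal.Quotient.mkₐ R I).toLinearMap := by
  ext a
  simp [diff]

lemma decomp (y : R' ⊗[R] (B × A)) :
    y = (LinearMap.inl R B A).lTensor R' ((LinearMap.fst R B A).lTensor R' y) +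
      (LinearMap.inr R B A).lTensor R' ((LinearMap.snd R B A).lTensor R' y) := by
  rw [← LinearMap.lTensor_comp_apply, ← LinearMap.lTensor_comp_apply, ← LinearMap.add_apply,
    ← LinearMap.lTensor_add]
  have : (LinearMap.inl R B A) ∘ₗ (LinearMap.fst R B A) +
      (LinearMap.inr R B A) ∘ₗ (LinearMap.snd R B A) = LinearMap.id := by
    ext <;> simp
  rw [this, LinearMap.lTensor_id, LinearMap.id_apply]

lemma fst_inl : (LinearMap.fst R B A) ∘ₗ (LinearMap.inl R B A) = LinearMap.id := by ext; simp
lemma fst_inr : (LinearMap.fst R B A) ∘ₗ (LinearMap.inr R B A) = 0 := by ext; simp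
lemma snd_inl : (LinearMap.snd R B A) ∘ₗ (LinearMap.inl R B A) = 0 := by ext; simp
lemma snd_inr : (LinearMap.snd R B A) ∘ₗ (LinearMap.inr R B A) = LinearMap.id := by ext; simp

end main


/-- Let R be a ring, A and B flat R-algebras, I an ideal of A, B → A/I an injective finite flat map of
R-algebras and P = B ×_{A/I} A the fibre product ring (pairs in B × A with equal image in A/I). For
any R-algebra R' the base change R' ⊗_R P maps injectively to R' ⊗_R A, and any b' in R' ⊗_R B and
a' in R' ⊗_R A with the same image in R' ⊗_R (A/I) are the two components of some element of R' ⊗_R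
P; that is, R' ⊗_R P is the fibre product of R' ⊗_R B and R' ⊗_R A over R' ⊗_R (A/I). -/
theorem result (R A B R' : Type u) [CommRing R] [CommRing A]
    [CommRing B] [CommRing R'] [Algebra R A] [Algebra R B] [Algebra R R'] [Module.Flat R A] [Module.Flat R B]
    (I : Ideal A) [Algebra B (A ⧸ I)] [IsScalarTower R B (A ⧸ I)] [Module.Finite B (A ⧸ I)] [Module.Flat B (A ⧸ I)]
    (hinj : Function.Injective (algebraMap B (A ⧸ I))) :
    Function.Injective (Algebra.TensorProduct.map (AlgHom.id R' R')
        ((AlgHom.snd R B A).comp (AlgHom.equalizer ((IsScalarTower.toAlgHom R B (A ⧸ I)).comp (AlgHom.fst R B A))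
          ((Ideal.Quotient.mkₐ R I).comp (AlgHom.snd R B A))).val)) ∧
    ∀ (b : TensorProduct R R' B) (a : TensorProduct R R' A),
      Algebra.TensorProduct.map (AlgHom.id R' R') (IsScalarTower.toAlgHom R B (A ⧸ I)) b =
        Algebra.TensorProduct.map (AlgHom.id R' R') (Ideal.Quotient.mkₐ R I) a →
      ∃ x : TensorProduct R R' ↥(AlgHom.equalizer ((IsScalarTower.toAlgHom R B (A ⧸ I)).comp (AlgHom.fst R B A))
          ((Ideal.Quotient.mkₐ R I).comp (AlgHom.snd R B A))),
        Algebra.TensorProduct.map (AlgHom.id R' R') ((AlgHom.fst R B A).comp (AlgHom.equalizer ((IsScalarTower.toAlgHom R B (A ⧸ I)).comp (AlgHom.fst R B A))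
          ((Ideal.Quotient.mkₐ R I).comp (AlgHom.snd R B A))).val) x = b ∧
        Algebra.TensorProduct.map (AlgHom.id R' R') ((AlgHom.snd R B A).comp (AlgHom.equalizer ((IsScalarTower.toAlgHom R B (A ⧸ I)).comp (AlgHom.fst R B A))
          ((Ideal.Quotient.mkₐ R I).comp (AlgHom.snd R B A))).val) x = a := by
  have hFF : Module.FaithfullyFlat B (A ⧸ I) :=
    faithfullyFlat_of_finite_flat_injective B (A ⧸ I) hinj
  have hCflat : Module.Flat R (A ⧸ I) := Module.Flat.trans R B (A ⧸ I)
  have hex := lTensor_exact R' (exact_incl_diff R A B I) (diff_surjective R A B I)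
  have hinclinj : Function.Injective ((incl R A B I).lTensor R') :=
    LinearMap.lTensor_injective_of_exact_of_flat (diff R A B I) (diff_surjective R A B I)
      (incl R A B I) (incl_injective R A B I) (exact_incl_diff R A B I) R'
  have e1 : ((AlgHom.snd R B A).comp (Eq R A B I).val).toLinearMap =
      (LinearMap.snd R B A) ∘ₗ (incl R A B I) := rfl
  have e2 : ((AlgHom.fst R B A).comp (Eq R A B I).val).toLinearMap =
      (LinearMap.fst R B A) ∘ₗ (incl R A B I) := rfl
  constructor
  · rw [injective_iff_map_eq_zero]
    intro x hx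
    rw [map_id_eq_lTensor] at hx
    change ((AlgHom.snd R B A).comp (Eq R A B I).val).toLinearMap.lTensor R' x = 0 at hx
    rw [e1, LinearMap.lTensor_comp_apply] at hx
    have hdy : (diff R A B I).lTensor R' ((incl R A B I).lTensor R' x) = 0 :=
      (hex _).mpr ⟨x, rfl⟩
    have hdec := decomp R A B R' ((incl R A B I).lTensor R' x)
    rw [hx, map_zero, add_zero] at hdec
    rw [hdec, ← LinearMap.lTensor_comp_apply, diff_comp_inl] at hdy
    have hb := lTensor_injective_of_faithfullyFlat R B (A ⧸ I) R' (hdy.trans (map_zero _).symm)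
    rw [hb, map_zero] at hdec
    apply hinclinj
    rw [hdec, map_zero]
  · intro b a hba
    rw [map_id_eq_lTensor, map_id_eq_lTensor] at hba
    have hdy : (diff R A B I).lTensor R'
        ((LinearMap.inl R B A).lTensor R' b + (LinearMap.inr R B A).lTensor R' a) = 0 := by
      rw [map_add, ← LinearMap.lTensor_comp_apply, ← LinearMap.lTensor_comp_apply, diff_comp_inl,
        diff_comp_inr, LinearMap.lTensor_neg, LinearMap.neg_apply, hba, add_neg_cancel]
    obtain ⟨x, hx⟩ := (hex _).mp hdy
    refine ⟨x, ?_, ?_⟩
    · rw [map_id_eq_lTensor]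
      change ((AlgHom.fst R B A).comp (Eq R A B I).val).toLinearMap.lTensor R' x = b
      rw [e2, LinearMap.lTensor_comp_apply, hx, map_add, ← LinearMap.lTensor_comp_apply,
        ← LinearMap.lTensor_comp_apply, fst_inl, fst_inr, LinearMap.lTensor_id,
        LinearMap.lTensor_zero, LinearMap.id_apply, LinearMap.zero_apply, add_zero]
    · rw [map_id_eq_lTensor]
      change ((AlgHom.snd R B A).comp (Eq R A B I).val).toLinearMap.lTensor R' x = a
      rw [e1, LinearMap.lTensor_comp_apply, hx, map_add, ← LinearMap.lTensor_comp_apply,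
        ← LinearMap.lTensor_comp_apply, snd_inl, snd_inr, LinearMap.lTensor_id,
        LinearMap.lTensor_zero, LinearMap.id_apply, LinearMap.zero_apply, zero_add]

end Groth.Agent.S14086
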