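import Groth.Statements.S14088
import Mathlib

set_option autoImplicit false
universe u
open ArSing

namespace Groth.Agent.S14088

/-- The identity behind the torus-equivariant classes h_i = h_0 + i τ of the coordinate hyperplanes of a
projective space of binary forms, stated in an arbitrary commutative ring: for n ≤ m, (h_0 ⋯
h_(n-1))^2 · h_n ⋯ h_(m-1) equals the sum over s = 0, …, n of (-1)^s s! (n choose s) (m choose s)
τ^s h_0 ⋯ h_(m+n-s-1), where h_i = h + i τ. (The published statement is in the equivariant Chow ring
of that projective space; only the relations h_i = h_j + (j - i) τ are used, so it holds in any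
commutative ring.) -/
theorem result (A : Type u) [CommRing A] (h τ : A) (n m : ℕ) (hnm : n ≤ m) :
    (∏ i ∈ Finset.range n, (h + (i : A) * τ) ^ 2) * ∏ i ∈ Finset.Ico n m, (h + (i : A) * τ) =
      ∑ s ∈ Finset.range (n + 1), (-1 : A) ^ s * (Nat.factorial s : A) * (Nat.choose n s : A) *
        (Nat.choose m s : A) * τ ^ s * ∏ i ∈ Finset.range (m + n - s), (h + (i : A) * τ) := by
  set P : ℕ → A := fun k => ∏ i ∈ Finset.range k, (h + (i : A) * τ) with hP
  have hPs : ∀ k, P (k+1) = P k * (h + (k:A) * τ) := fun k => Finset.prod_range_succ _ _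
  have hch : ∀ m s : ℕ, ((m.choose s : ℕ) : A) * ((m : A) - (s : A)) =
      ((m.choose (s+1) : ℕ) : A) * ((s : A) + 1) := by
    intro m s
    rcases le_or_gt s m with hs | hs
    · have := Nat.choose_succ_right_eq m s
      have h2 : ((m.choose (s+1) * (s+1) : ℕ) : A) = ((m.choose s * (m - s) : ℕ) : A) := by
        rw [this]
      push_cast [Nat.cast_sub hs] at h2
      rw [h2]
    · rw [Nat.choose_eq_zero_of_lt hs, Nat.choose_eq_zero_of_lt (by omega)]; simp
  have key : ∀ n m : ℕ, P n * P m = ∑ s ∈ Finset.range (n + 1), (-1 : A) ^ s *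
      (Nat.factorial s : A) * (Nat.choose n s : A) * (Nat.choose m s : A) * τ ^ s *
        P (m + n - s) := by
    intro n
    induction n with
    | zero => intro m; simp [hP]
    | succ n ih =>
      intro m
      have e1 : P (n+1) * P m = (h + (n:A) * τ) * (P n * P m) := by rw [hPs]; ring
      rw [e1, ih m, Finset.mul_sum]
      set c' : ℕ → A := fun s => (-1 : A) ^ s * (Nat.factorial s : A) * (Nat.choose n s : A) *
        (Nat.choose m s : A) * τ ^ s * P (m + (n+1) - s) with hc'
      set T2 : ℕ → A := fun s => (-1 : A) ^ (s+1) * (Nat.factorial (s+1) : A) *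
        (Nat.choose n s : A) * (Nat.choose m (s+1) : A) * τ ^ (s+1) * P (m + (n+1) - (s+1)) with hT2
      set g : ℕ → A := fun s => (-1 : A) ^ s * (Nat.factorial s : A) *
        (Nat.choose (n+1) s : A) * (Nat.choose m s : A) * τ ^ s * P (m + (n+1) - s) with hg
      have hstep : ∀ s ∈ Finset.range (n+1), (h + (n:A) * τ) * ((-1 : A) ^ s *
          (Nat.factorial s : A) * (Nat.choose n s : A) * (Nat.choose m s : A) * τ ^ s *
            P (m + n - s)) = c' s + T2 s := by
        intro s hs
        have hs' : s ≤ n := Nat.lt_succ_iff.mp (Finset.mem_range.mp hs)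
        have e2 : m + (n+1) - s = (m + n - s) + 1 := by omega
        have e3 : m + (n+1) - (s+1) = m + n - s := by omega
        simp only [hc', hT2]
        rw [e2, e3, hPs, Nat.factorial_succ]
        have e4 : ((m + n - s : ℕ) : A) = (m:A) + n - s := by
          rw [Nat.cast_sub (by omega)]; push_cast; ring
        rw [e4]
        have := hch m s
        push_cast
        linear_combination (-(-1 : A) ^ s * (Nat.factorial s : A) * (Nat.choose n s : A) *
          τ ^ (s+1) * P (m + n - s)) * this
      rw [Finset.sum_congr rfl hstep, Finset.sum_add_distrib]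
      have hR : ∑ s ∈ Finset.range (n + 1 + 1), g s =
          ∑ s ∈ Finset.range (n+1), c' s + ∑ s ∈ Finset.range (n+1), T2 s := by
        have h1 : ∑ s ∈ Finset.range (n + 1 + 1), g s =
            ∑ s ∈ Finset.range (n + 1 + 1), c' s + ∑ s ∈ Finset.range (n+1), T2 s := by
          rw [Finset.sum_range_succ' g (n+1), Finset.sum_range_succ' c' (n+1)]
          have hgs : ∀ s, g (s+1) = c' (s+1) + T2 s := by
            intro s
            simp only [hg, hc', hT2]
            rw [Nat.choose_succ_succ]
            push_cast
            ring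
          simp only [hgs, Finset.sum_add_distrib]
          have hg0 : g 0 = c' 0 := by simp [hg, hc']
          rw [hg0]; ring
        rw [h1, Finset.sum_range_succ c' (n+1)]
        have hz : c' (n+1) = 0 := by simp [hc', Nat.choose_succ_self]
        rw [hz, add_zero]
      exact hR.symm
  have hl : (∏ i ∈ Finset.range n, (h + (i : A) * τ) ^ 2) *
      ∏ i ∈ Finset.Ico n m, (h + (i : A) * τ) = P n * P m := by
    rw [Finset.prod_pow, sq, mul_assoc]
    congr 1
    exact Finset.prod_range_mul_prod_Ico _ hnm
  rw [hl, key]

end Groth.Agent.S14088
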