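import Groth.Statements.S1409
import Mathlib.RingTheory.Ideal.MinimalPrime.Localization
import Mathlib.RingTheory.Ideal.GoingDown
import Mathlib.RingTheory.Flat.FaithfullyFlat.Algebra
import Mathlib.Order.Filter.AtTopBot.Basic
import Mathlib.Order.Filter.Finite
import Mathlib.Data.Set.Card

set_option autoImplicit false
universe u
open FlatMor

namespace Groth.Agent.S1409

/-- An element of a minimal prime is killed, up to a power, by an element outside. -/
lemma exists_mul_pow_eq_zero {R : Type*} [CommRing R] {P : Ideal R} (hP : P ∈ minimalPrimes R)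
    {x : R} (hx : x ∈ P) : ∃ y ∉ P, ∃ n : ℕ, y * x ^ n = 0 := by
  have hPp : P.IsPrime := hP.1.1
  by_contra hcon
  push Not at hcon
  -- the multiplicative set
  let S : Submonoid R :=
    { carrier := {z | ∃ y ∉ P, ∃ n : ℕ, z = y * x ^ n}
      one_mem' := ⟨1, (Ideal.ne_top_iff_one P).mp hPp.ne_top, 0, by simp⟩
      mul_mem' := by
        rintro _ _ ⟨y, hy, n, rfl⟩ ⟨y', hy', n', rfl⟩
        refine ⟨y * y', ?_, n + n', by ring⟩
        exact fun h => (hPp.mem_or_mem h).elim hy hy' }
  have hdisj : Disjoint ((⊥ : Ideal R) : Set R) (S : Set R) := by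
    rw [Set.disjoint_left]
    rintro z hz ⟨y, hy, n, rfl⟩
    exact hcon y hy n (by simpa using hz)
  obtain ⟨Q, hQ, -, hQS⟩ := Ideal.exists_le_prime_disjoint ⊥ S hdisj
  have hQP : Q ≤ P := by
    intro z hz
    by_contra hzP
    exact Set.disjoint_left.mp hQS hz ⟨z, hzP, 0, by simp⟩
  have hPQ : P ≤ Q := hP.2 ⟨hQ, bot_le⟩ hQP
  exact Set.disjoint_left.mp hQS (hPQ hx) ⟨1, (Ideal.ne_top_iff_one P).mp hPp.ne_top, 1, by simp⟩

section

variable {ι : Type u} [Preorder ι] [IsDirected ι (· ≤ ·)] [Nonempty ι] (G : ι → Type u)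
  [∀ i, CommRing (G i)] (f : ∀ i j, i ≤ j → G i →+* G j) [DirectedSystem G fun i j h => f i j h]
  (hf : ∀ i j (h : i ≤ j), letI := (f i j h).toAlgebra
      Module.FaithfullyFlat (G i) (G j))


include hf in
lemma f_injective (i j : ι) (h : i ≤ j) : Function.Injective (f i j h) := by
  letI := (f i j h).toAlgebra
  have := hf i j h
  exact FaithfulSMul.algebraMap_injective (G i) (G j)

include hf in
lemma of_injective (i : ι) : Function.Injective (Ring.DirectLimit.of G (fun i j h => ⇑(f i j h)) i) :=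
  Ring.DirectLimit.of_injective f (f_injective G f hf) i

lemma comap_comap_of (P : Ideal (Ring.DirectLimit G fun i j h => ⇑(f i j h))) (i j : ι) (h : i ≤ j) :
    ((P.comap (Ring.DirectLimit.of G (fun i j h => ⇑(f i j h)) j)).comap (f i j h)) = P.comap (Ring.DirectLimit.of G (fun i j h => ⇑(f i j h)) i) := by
  ext x
  simp only [Ideal.mem_comap]
  rw [Ring.DirectLimit.of_f]

include hf in
/-- (C1) contraction of a minimal prime is minimal. -/
lemma comap_mem_minimalPrimes (P : Ideal (Ring.DirectLimit G fun i j h => ⇑(f i j h))) (hP : P ∈ minimalPrimes (Ring.DirectLimit G fun i j h => ⇑(f i j h))) (i : ι) :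
    P.comap (Ring.DirectLimit.of G (fun i j h => ⇑(f i j h)) i) ∈ minimalPrimes (G i) := by
  have hPp : P.IsPrime := hP.1.1
  refine ⟨⟨inferInstance, bot_le⟩, ?_⟩
  rintro q ⟨hq, -⟩ hqp a ha
  obtain ⟨y, hyP, n, hyn⟩ := exists_mul_pow_eq_zero hP (x := Ring.DirectLimit.of G (fun i j h => ⇑(f i j h)) i a) ha
  obtain ⟨k, y', rfl⟩ := Ring.DirectLimit.exists_of y
  obtain ⟨j, hij, hkj⟩ := exists_ge_ge i k
  -- move to level j
  have h1 : f k j hkj y' * (f i j hij a) ^ n = 0 := by
    apply of_injective G f hf j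
    rw [map_mul, map_pow, Ring.DirectLimit.of_f, Ring.DirectLimit.of_f, hyn, map_zero]
  have h2 : f k j hkj y' ∉ P.comap (Ring.DirectLimit.of G (fun i j h => ⇑(f i j h)) j) := by
    rw [Ideal.mem_comap, Ring.DirectLimit.of_f]; exact hyP
  -- going down
  letI := (f i j hij).toAlgebra
  have := hf i j hij
  have hq' : q ≤ (P.comap (Ring.DirectLimit.of G (fun i j h => ⇑(f i j h)) j)).comap (algebraMap (G i) (G j)) := by
    rw [RingHom.algebraMap_toAlgebra, comap_comap_of]; exact hqp
  have : (P.comap (Ring.DirectLimit.of G (fun i j h => ⇑(f i j h)) j)).IsPrime := inferInstance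
  obtain ⟨Q, hQle, hQp, hQlo⟩ := Ideal.exists_ideal_le_liesOver_of_le (p := q) (P.comap (Ring.DirectLimit.of G (fun i j h => ⇑(f i j h)) j)) hq'
  have h3 : f i j hij a ∈ Q := by
    have : f k j hkj y' * (f i j hij a) ^ n ∈ Q := by rw [h1]; exact Q.zero_mem
    rcases hQp.mem_or_mem this with h | h
    · exact absurd (hQle h) h2
    · exact hQp.mem_of_pow_mem _ h
  rw [hQlo.over]
  exact h3

include hf in
/-- (C2) minimal primes lift. -/
lemma exists_minimalPrimes_comap_eq (i : ι) (p : Ideal (G i)) (hp : p ∈ minimalPrimes (G i)) :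
    ∃ P ∈ minimalPrimes (Ring.DirectLimit G fun i j h => ⇑(f i j h)),
      P.comap (Ring.DirectLimit.of G (fun i j h => ⇑(f i j h)) i) = p := by
  apply Ideal.exists_minimalPrimes_comap_eq (I := ⊥)
  rw [Ideal.comap_bot_of_injective _ (of_injective G f hf i)]
  exact hp

/-- (C3) distinct minimal primes are eventually separated. -/
lemma eventually_comap_ne (P Q : Ideal (Ring.DirectLimit G fun i j h => ⇑(f i j h)))
    (hP : P ∈ minimalPrimes (Ring.DirectLimit G fun i j h => ⇑(f i j h)))
    (hQ : Q ∈ minimalPrimes (Ring.DirectLimit G fun i j h => ⇑(f i j h))) (hne : P ≠ Q) :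
    ∀ᶠ j in Filter.atTop, P.comap (Ring.DirectLimit.of G (fun i j h => ⇑(f i j h)) j) ≠
      Q.comap (Ring.DirectLimit.of G (fun i j h => ⇑(f i j h)) j) := by
  have hPQ : ¬ P ≤ Q := fun h => hne (le_antisymm h (hQ.2 hP.1 h))
  obtain ⟨x, hxP, hxQ⟩ := Set.not_subset.mp hPQ
  obtain ⟨i, a, rfl⟩ := Ring.DirectLimit.exists_of x
  rw [Filter.eventually_atTop]
  refine ⟨i, fun j hij heq => ?_⟩
  have h1 : f i j hij a ∈ P.comap (Ring.DirectLimit.of G (fun i j h => ⇑(f i j h)) j) := by
    rw [Ideal.mem_comap, Ring.DirectLimit.of_f]; exact hxP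
  rw [heq, Ideal.mem_comap, Ring.DirectLimit.of_f] at h1
  exact hxQ h1

end

/-- Let (R_i) be a directed system of commutative rings whose transition maps are faithfully flat, with
colimit R. Then, counting in the extended natural numbers, the minimal primes of R are exactly as
numerous as the supremum over i of the count of minimal primes of R_i. -/
theorem result {ι : Type u} [Preorder ι] [IsDirected ι (· ≤ ·)] [Nonempty ι] (G : ι → Type u) [∀ i, CommRing (G i)]
    (f : ∀ i j, i ≤ j → G i →+* G j) [DirectedSystem G fun i j h => f i j h]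
    (hf : ∀ i j (h : i ≤ j), letI := (f i j h).toAlgebra
      Module.FaithfullyFlat (G i) (G j)) :
    (minimalPrimes (Ring.DirectLimit G fun i j h => ⇑(f i j h))).encard = ⨆ i, (minimalPrimes (G i)).encard := by
  apply le_antisymm
  · refine ENat.forall_natCast_le_iff_le.mp fun n hn => ?_
    obtain ⟨T, hTsub, hTcard⟩ := Set.exists_subset_encard_eq hn
    have hTfin : T.Finite := Set.finite_of_encard_eq_coe hTcard
    have hev : ∀ᶠ j in Filter.atTop, ∀ P ∈ T, ∀ Q ∈ T, P ≠ Q →
        P.comap (Ring.DirectLimit.of G (fun i j h => ⇑(f i j h)) j) ≠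
          Q.comap (Ring.DirectLimit.of G (fun i j h => ⇑(f i j h)) j) := by
      rw [Filter.eventually_all_finite hTfin]
      intro P hP
      rw [Filter.eventually_all_finite hTfin]
      intro Q hQ
      by_cases hne : P = Q
      · exact Filter.Eventually.of_forall fun j h => absurd hne h
      · exact (eventually_comap_ne G f P Q (hTsub hP) (hTsub hQ) hne).mono fun j hj _ => hj
    obtain ⟨j, hj⟩ := hev.exists
    have hinj : Set.InjOn
        (fun P : Ideal _ => P.comap (Ring.DirectLimit.of G (fun i j h => ⇑(f i j h)) j)) T := by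
      intro P hP Q hQ hPQ
      by_contra hne
      exact hj P hP Q hQ hne hPQ
    have hmaps : Set.MapsTo
        (fun P : Ideal _ => P.comap (Ring.DirectLimit.of G (fun i j h => ⇑(f i j h)) j)) T
        (minimalPrimes (G j)) := fun P hP => comap_mem_minimalPrimes G f hf P (hTsub hP) j
    calc (n : ℕ∞) = T.encard := hTcard.symm
      _ ≤ (minimalPrimes (G j)).encard := Set.encard_le_encard_of_injOn hmaps hinj
      _ ≤ ⨆ i, (minimalPrimes (G i)).encard := le_iSup (fun i => (minimalPrimes (G i)).encard) j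
  · refine iSup_le fun i => ?_
    have hsub : minimalPrimes (G i) ⊆
        (fun P : Ideal _ => P.comap (Ring.DirectLimit.of G (fun i j h => ⇑(f i j h)) i)) ''
          minimalPrimes (Ring.DirectLimit G fun i j h => ⇑(f i j h)) := by
      intro p hp
      obtain ⟨P, hP, h⟩ := exists_minimalPrimes_comap_eq G f hf i p hp
      exact ⟨P, hP, h⟩
    exact (Set.encard_le_encard hsub).trans (Set.encard_image_le _ _)

end Groth.Agent.S1409
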