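import Groth.Statements.S14091
import Mathlib

set_option autoImplicit false
universe u
open ArSing

namespace Groth.Agent.S14091

open Polynomial

open Polynomial in
/-- Over an algebraically closed field k, a finite local k-algebra B whose cotangent space m/m^2 has
dimension at most one over the residue field is isomorphic, as a k-algebra, to k[t]/(t^n) with n =
dim_k B (curvilinear pointed algebras of degree n have a single isomorphism class). -/
theorem result (k B : Type u) [Field k] [IsAlgClosed k]
    [CommRing B] [IsLocalRing B] [Algebra k B] [Module.Finite k B]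
    (hcurv : Module.finrank (IsLocalRing.ResidueField B) (IsLocalRing.CotangentSpace B) ≤ 1) :
    Nonempty (B ≃ₐ[k] (Polynomial k ⧸ Ideal.span {(X : Polynomial k) ^ Module.finrank k B})) := by
  have hNk : IsNoetherian k B := inferInstance
  have : IsNoetherianRing B := isNoetherian_of_tower k hNk
  have : IsArtinianRing B := IsArtinianRing.of_finite k B
  obtain ⟨t, ht⟩ := (IsLocalRing.finrank_cotangentSpace_le_one_iff.mp hcurv).principal
  have ht' : IsLocalRing.maximalIdeal B = Ideal.span {t} := ht
  -- residue field is k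
  have hres : ∀ b : B, ∃ c : k, ∃ b' : B, b = algebraMap k B c + t * b' := by
    intro b
    have : Module.Finite k (IsLocalRing.ResidueField B) :=
      Module.Finite.of_surjective (IsScalarTower.toAlgHom k B (IsLocalRing.ResidueField B)).toLinearMap
        IsLocalRing.residue_surjective
    have hbij := IsAlgClosed.algebraMap_bijective_of_isIntegral (k := k)
      (K := IsLocalRing.ResidueField B)
    obtain ⟨c, hc⟩ := hbij.2 (IsLocalRing.residue B b)
    have h1 : b - algebraMap k B c ∈ IsLocalRing.maximalIdeal B := by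
      rw [← IsLocalRing.residue_eq_zero_iff, map_sub, ← hc]
      rw [IsScalarTower.algebraMap_apply k B (IsLocalRing.ResidueField B)]
      exact sub_self _
    rw [ht', Ideal.mem_span_singleton] at h1
    obtain ⟨b', hb'⟩ := h1
    exact ⟨c, b', by rw [← hb']; ring⟩
  -- t is nilpotent
  have htnil : IsNilpotent t := by
    have h1 : IsNilpotent (IsLocalRing.maximalIdeal B) := by
      rw [← IsLocalRing.jacobson_eq_maximalIdeal (⊥ : Ideal B) bot_ne_top]
      exact IsArtinianRing.isNilpotent_jacobson_bot
    obtain ⟨N, hN⟩ := h1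
    refine ⟨N, ?_⟩
    have : t ^ N ∈ (IsLocalRing.maximalIdeal B) ^ N :=
      Ideal.pow_mem_pow (ht' ▸ Ideal.mem_span_singleton_self t) N
    rw [hN] at this
    exact this
  obtain ⟨N, hN⟩ := htnil
  let ev : k[X] →ₐ[k] B := Polynomial.aeval t
  have hstep : ∀ j : ℕ, ∀ b : B, ∃ (p : k[X]) (b' : B), b = ev p + t ^ j * b' := by
    intro j
    induction j with
    | zero => intro b; exact ⟨0, b, by simp⟩
    | succ j ih =>
      intro b
      obtain ⟨p, b', hp⟩ := ih b
      obtain ⟨c, b'', hc⟩ := hres b'
      refine ⟨p + C c * X ^ j, b'', ?_⟩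
      rw [hp, hc, map_add, map_mul, map_pow, aeval_C, aeval_X]
      ring
  have hsurj : Function.Surjective ev := by
    intro b
    obtain ⟨p, b', hp⟩ := hstep N b
    exact ⟨p, by rw [hp, hN, zero_mul, add_zero]⟩
  obtain ⟨g, hg⟩ := (IsPrincipalIdealRing.principal (RingHom.ker (ev : k[X] →+* B))).principal
  have hg' : RingHom.ker (ev : k[X] →+* B) = Ideal.span {g} := hg
  have hXN : (X : k[X]) ^ N ∈ RingHom.ker (ev : k[X] →+* B) := by
    rw [RingHom.mem_ker]
    change ev (X ^ N) = 0
    rw [map_pow, aeval_X, hN]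
  rw [hg', Ideal.mem_span_singleton] at hXN
  obtain ⟨m, -, hm⟩ := (dvd_prime_pow Polynomial.prime_X N).mp hXN
  have hker : RingHom.ker (ev : k[X] →+* B) = Ideal.span {(X : k[X]) ^ m} := by
    rw [hg', Ideal.span_singleton_eq_span_singleton]; exact hm
  let e1 : (k[X] ⧸ RingHom.ker (ev : k[X] →+* B)) ≃ₐ[k] B :=
    Ideal.quotientKerAlgEquivOfSurjective hsurj
  let e2 : (k[X] ⧸ RingHom.ker (ev : k[X] →+* B)) ≃ₐ[k] (k[X] ⧸ Ideal.span {(X : k[X]) ^ m}) :=
    Ideal.quotientEquivAlgOfEq k hker
  let e : B ≃ₐ[k] (k[X] ⧸ Ideal.span {(X : k[X]) ^ m}) := e1.symm.trans e2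
  have hfin : Module.finrank k B = m := by
    rw [e.toLinearEquiv.finrank_eq]
    have hne : (X : k[X]) ^ m ≠ 0 := pow_ne_zero _ Polynomial.X_ne_zero
    have := (AdjoinRoot.powerBasis hne).finrank
    rw [AdjoinRoot.powerBasis_dim, natDegree_X_pow] at this
    exact this
  rw [hfin]
  exact ⟨e⟩


end Groth.Agent.S14091
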