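import Groth.Statements.S14093
import Mathlib
import Groth.Agent.Lib.Helper16ArSing
-- import your own Groth.Agent.* helpers here

set_option autoImplicit false
set_option linter.style.haveILetI false
set_option linter.unusedSectionVars false
universe u
open ArSing

namespace Groth.Agent.S14093

open Groth.Agent.Lib.Helper16ArSing

lemma two_ne_zero_S {k : Type u} [Field k] (h2 : (2 : k) ≠ 0) : (2 : PowerSeries k) ≠ 0 := by
  intro h0
  have := congrArg (PowerSeries.constantCoeff) h0
  rw [map_ofNat, map_zero] at this
  exact h2 this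


/-- For an algebraically closed field k of characteristic prime to 2 and to r+1 and the involution σ of
A_r = k[[x,y]]/(y^2 - x^(r+1)) with σ(x) = x, σ(y) = -y: the invariant subalgebra is k[[x]] (the
image of t ↦ x from k[[t]]), the inclusion k[[x]] → A_r is faithfully flat (flat, and the maximal
ideal of k[[t]] does not generate the unit ideal of A_r), and the fixed locus (the closed subscheme
cut out by all σ(a) - a) is a Cartier divisor of length r + 1, i.e. its ideal is generated by one
nonzerodivisor and the quotient has length r + 1. -/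
theorem result (k : Type u) [Field k] [IsAlgClosed k] (r : ℕ)
    (h2 : (2 : k) ≠ 0) (hr : ((r + 1 : ℕ) : k) ≠ 0)
    (σ : ArSing.ring k r ≃ₐ[k] ArSing.ring k r) (hx : σ (ArSing.x k r) = ArSing.x k r)
    (hy : σ (ArSing.y k r) = -ArSing.y k r) :
    (∀ a : ArSing.ring k r, σ a = a ↔ a ∈ (ArSing.xMap k r).range) ∧
    ((ArSing.xMap k r).toRingHom.Flat ∧
      Ideal.map (ArSing.xMap k r) (IsLocalRing.maximalIdeal (PowerSeries k)) ≠ ⊤) ∧
    (∃ g : ArSing.ring k r, g ∈ nonZeroDivisors (ArSing.ring k r) ∧
      Ideal.span (Set.range fun a : ArSing.ring k r => σ a - a) = Ideal.span {g}) ∧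
    Module.length (ArSing.ring k r)
      (ArSing.ring k r ⧸ Ideal.span (Set.range fun a : ArSing.ring k r => σ a - a)) = r + 1 := by
  have hσx : ∀ s : PowerSeries k, σ (ArSing.xMap k r s) = ArSing.xMap k r s :=
    fun s => sigma_xMap_of_x k r σ.toAlgHom hx s
  have hσ : ∀ α β : PowerSeries k, σ (ArSing.xMap k r α + ArSing.xMap k r β * ArSing.y k r)
      = ArSing.xMap k r α - ArSing.xMap k r β * ArSing.y k r := by
    intro α β
    rw [map_add, map_mul, hσx, hσx, hy]
    ring
  -- the ideal
  have hJ : Ideal.span (Set.range fun a : ArSing.ring k r => σ a - a)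
      = Ideal.span {ArSing.y k r} := by
    apply le_antisymm
    · rw [Ideal.span_le]
      rintro _ ⟨a, rfl⟩
      obtain ⟨α, β, rfl⟩ := exists_rep k r a
      show σ _ - _ ∈ _
      rw [hσ]
      exact Ideal.mem_span_singleton'.2 ⟨-2 * ArSing.xMap k r β, by ring⟩
    · rw [Ideal.span_le]
      rintro _ rfl
      have hmem : σ (ArSing.y k r) - ArSing.y k r
          ∈ Ideal.span (Set.range fun a : ArSing.ring k r => σ a - a) :=
        Ideal.subset_span ⟨ArSing.y k r, rfl⟩
      have := Ideal.mul_mem_left _ (algebraMap k (ArSing.ring k r) ((-2 : k)⁻¹)) hmem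
      have e : algebraMap k (ArSing.ring k r) ((-2 : k)⁻¹) * (σ (ArSing.y k r) - ArSing.y k r)
          = ArSing.y k r := by
        rw [hy]
        have h1 : algebraMap k (ArSing.ring k r) ((-2 : k)⁻¹) * (-2 : ArSing.ring k r) = 1 := by
          have : (-2 : ArSing.ring k r) = algebraMap k (ArSing.ring k r) (-2 : k) := by
            rw [map_neg, map_ofNat]
          rw [this, ← map_mul, inv_mul_cancel₀ (neg_ne_zero.2 h2), map_one]
        linear_combination (ArSing.y k r) * h1
      rw [e] at this
      exact this
  have hynzd : ArSing.y k r ∈ nonZeroDivisors (ArSing.ring k r) := by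
    rw [mem_nonZeroDivisors_iff_left]
    intro z hz
    obtain ⟨γ, δ, rfl⟩ := exists_rep k r z
    have e : ArSing.y k r * (ArSing.xMap k r γ + ArSing.xMap k r δ * ArSing.y k r)
        = ArSing.xMap k r (PowerSeries.X ^ (r + 1) * δ) + ArSing.xMap k r γ * ArSing.y k r := by
      rw [map_mul]
      linear_combination (ArSing.xMap k r δ) * y_sq' k r
    rw [e] at hz
    obtain ⟨h1, h3⟩ := rep_zero k r _ _ hz
    have hδ : δ = 0 := (mul_eq_zero.1 h1).resolve_left (pow_ne_zero _ PowerSeries.X_ne_zero)
    rw [h3, hδ]
    simp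
  refine ⟨?_, ⟨xMap_flat k r, map_maximalIdeal_ne_top k r⟩, ⟨ArSing.y k r, hynzd, hJ⟩, ?_⟩
  · intro a
    constructor
    · intro h
      obtain ⟨α, β, rfl⟩ := exists_rep k r a
      rw [hσ] at h
      have h' : ArSing.xMap k r α + ArSing.xMap k r (-β) * ArSing.y k r
          = ArSing.xMap k r α + ArSing.xMap k r β * ArSing.y k r := by
        rw [map_neg]
        linear_combination h
      obtain ⟨-, h3⟩ := rep_unique k r _ _ _ _ h'
      have hβ : β = 0 := by
        have : (2 : PowerSeries k) * β = 0 := by linear_combination -h3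
        exact (mul_eq_zero.1 this).resolve_left (two_ne_zero_S h2)
      refine ⟨α, ?_⟩
      rw [hβ, map_zero, zero_mul, add_zero]
      rfl
    · rintro ⟨s, rfl⟩
      exact hσx s
  · rw [hJ]
    apply length_quot_eq k r _ (r + 1)
      (LinearMap.pi fun i : Fin (r + 1) => (PowerSeries.coeff (R := k) (i : ℕ)).comp (re k r))
    · intro v
      refine ⟨ArSing.xMap k r (PowerSeries.mk fun n => if h : n < r + 1 then v ⟨n, h⟩ else 0), ?_⟩
      funext i
      have e : ArSing.xMap k r (PowerSeries.mk fun n => if h : n < r + 1 then v ⟨n, h⟩ else 0)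
          = ArSing.xMap k r (PowerSeries.mk fun n => if h : n < r + 1 then v ⟨n, h⟩ else 0)
            + ArSing.xMap k r 0 * ArSing.y k r := by
        rw [map_zero, zero_mul, add_zero]
      rw [LinearMap.pi_apply, LinearMap.comp_apply, e, re_rep, PowerSeries.coeff_mk, dif_pos i.2]
    · intro a
      constructor
      · intro h
        have h0 : ∀ i, i < r + 1 → PowerSeries.coeff i (re k r a) = 0 := by
          intro i hi
          have := congrFun h ⟨i, hi⟩
          exact this
        obtain ⟨α', hα'⟩ := (PowerSeries.X_pow_dvd_iff).2 h0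
        rw [Ideal.mem_span_singleton']
        refine ⟨ArSing.y k r * ArSing.xMap k r α' + ArSing.xMap k r (im k r a), ?_⟩
        conv_rhs => rw [rep_re_im k r a, hα', map_mul]
        linear_combination (ArSing.xMap k r α') * y_sq' k r
      · intro h
        rw [Ideal.mem_span_singleton'] at h
        obtain ⟨c, rfl⟩ := h
        obtain ⟨γ, δ, rfl⟩ := exists_rep k r c
        have e : (ArSing.xMap k r γ + ArSing.xMap k r δ * ArSing.y k r) * ArSing.y k r
            = ArSing.xMap k r (PowerSeries.X ^ (r + 1) * δ) + ArSing.xMap k r γ * ArSing.y k r := by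
          rw [map_mul]
          linear_combination (ArSing.xMap k r δ) * y_sq' k r
        funext i
        rw [LinearMap.pi_apply, LinearMap.comp_apply, e, re_rep, PowerSeries.coeff_X_pow_mul',
          if_neg (by have := i.2; omega)]
        rfl

end Groth.Agent.S14093
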