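import Groth.Statements.S14094
import Mathlib
import Groth.Agent.Lib.Helper16ArSing
-- import your own Groth.Agent.* helpers here

set_option autoImplicit false
set_option linter.style.haveILetI false
set_option linter.unusedSectionVars false
universe u
open ArSing

namespace Groth.Agent.S14094

open Groth.Agent.Lib.Helper16ArSing

lemma rs_Ev {k : Type u} [Field k] (a : PowerSeries k) : rs (-1 : k) (Ev a) = Ev a := by
  have := rs_neg_one_EvX a 0
  simpa using this

lemma exists_EvX {k : Type u} [Field k] (α : PowerSeries k) :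
    ∃ a₀ a₁ : PowerSeries k, α = Ev a₀ + PowerSeries.X * Ev a₁ := ⟨ev α, od α, ev_od α⟩

lemma neg_two_inv_mul {k : Type u} [Field k] (r : ℕ) (h2 : (2 : k) ≠ 0) :
    algebraMap k (ArSing.ring k r) ((-2 : k)⁻¹) * (-2 : ArSing.ring k r) = 1 := by
  have : (-2 : ArSing.ring k r) = algebraMap k (ArSing.ring k r) (-2 : k) := by
    rw [map_neg, map_ofNat]
  rw [this, ← map_mul, inv_mul_cancel₀ (neg_ne_zero.2 h2), map_one]


/-- K algebraically closed of characteristic prime to 2 and to r+1, r = 2m - 1 with m ≥ 2, σ the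
involution x ↦ -x, y ↦ y of A_r = k[[x,y]]/(y^2 - x^(r+1)), and φ : A_(m-1) → A_r the k-algebra map
x ↦ x^2, y ↦ y. Then the invariant subalgebra of σ is the image of φ (so A_r^σ ≅ A_(m-1)), φ is
faithfully flat (flat, and the maximal ideal of A_(m-1) does not generate the unit ideal), and the
fixed locus of σ is a Cartier divisor of length 2: its ideal, generated by the elements σ(a) - a, is
generated by one nonzerodivisor and has quotient of length 2. -/
theorem result (k : Type u) [Field k] [IsAlgClosed k] (m r : ℕ)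
    (hm : 2 ≤ m) (hr : r = 2 * m - 1) (h2 : (2 : k) ≠ 0) (hr1 : ((r + 1 : ℕ) : k) ≠ 0)
    (σ : ArSing.ring k r ≃ₐ[k] ArSing.ring k r) (hx : σ (ArSing.x k r) = -ArSing.x k r)
    (hy : σ (ArSing.y k r) = ArSing.y k r)
    (φ : ArSing.ring k (m - 1) →ₐ[k] ArSing.ring k r) (hφx : φ (ArSing.x k (m - 1)) = ArSing.x k r ^ 2)
    (hφy : φ (ArSing.y k (m - 1)) = ArSing.y k r) :
    (∀ a : ArSing.ring k r, σ a = a ↔ a ∈ φ.range) ∧
    (φ.toRingHom.Flat ∧ ∀ I : Ideal (ArSing.ring k (m - 1)), I.IsMaximal → Ideal.map φ I ≠ ⊤) ∧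
    (∃ g : ArSing.ring k r, g ∈ nonZeroDivisors (ArSing.ring k r) ∧ Ideal.span (Set.range fun a : ArSing.ring k r => σ a - a) = Ideal.span {g}) ∧
    Module.length (ArSing.ring k r) (ArSing.ring k r ⧸ Ideal.span (Set.range fun a : ArSing.ring k r => σ a - a)) = 2 := by
  have hσx : ∀ s : PowerSeries k, σ (ArSing.xMap k r s) = ArSing.xMap k r (rs (-1 : k) s) :=
    fun s => sigma_xMap_of_neg_x k r σ.toAlgHom hx s
  have hσ : ∀ α β : PowerSeries k, σ (ArSing.xMap k r α + ArSing.xMap k r β * ArSing.y k r)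
      = ArSing.xMap k r (rs (-1 : k) α) + ArSing.xMap k r (rs (-1 : k) β) * ArSing.y k r := by
    intro α β
    rw [map_add, map_mul, hσx, hσx, hy]
  have hφs : ∀ s : PowerSeries k, φ (ArSing.xMap k (m - 1) s) = ArSing.xMap k r (Ev s) :=
    fun s => phi_xMap_of_sq k r φ hφx s
  have hφ : ∀ α β : PowerSeries k,
      φ (ArSing.xMap k (m - 1) α + ArSing.xMap k (m - 1) β * ArSing.y k (m - 1))
      = ArSing.xMap k r (Ev α) + ArSing.xMap k r (Ev β) * ArSing.y k r := by
    intro α β
    rw [map_add, map_mul, hφs, hφs, hφy]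
  -- the ideal
  have hJ : Ideal.span (Set.range fun a : ArSing.ring k r => σ a - a)
      = Ideal.span {ArSing.x k r} := by
    apply le_antisymm
    · rw [Ideal.span_le]
      rintro _ ⟨a, rfl⟩
      obtain ⟨α, β, rfl⟩ := exists_rep k r a
      obtain ⟨a₀, a₁, rfl⟩ := exists_EvX α
      obtain ⟨b₀, b₁, rfl⟩ := exists_EvX β
      show σ _ - _ ∈ _
      rw [hσ, rs_neg_one_EvX, rs_neg_one_EvX]
      refine Ideal.mem_span_singleton'.2 ⟨-2 * ArSing.xMap k r (Ev a₁)
        + -2 * ArSing.xMap k r (Ev b₁) * ArSing.y k r, ?_⟩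
      simp only [map_add, map_sub, map_mul, xMap_X]
      ring
    · rw [Ideal.span_le]
      rintro _ rfl
      have hmem : σ (ArSing.x k r) - ArSing.x k r
          ∈ Ideal.span (Set.range fun a : ArSing.ring k r => σ a - a) :=
        Ideal.subset_span ⟨ArSing.x k r, rfl⟩
      have := Ideal.mul_mem_left _ (algebraMap k (ArSing.ring k r) ((-2 : k)⁻¹)) hmem
      have e : algebraMap k (ArSing.ring k r) ((-2 : k)⁻¹) * (σ (ArSing.x k r) - ArSing.x k r)
          = ArSing.x k r := by
        rw [hx]
        linear_combination (ArSing.x k r) * neg_two_inv_mul r h2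
      rw [e] at this
      exact this
  have hxnzd : ArSing.x k r ∈ nonZeroDivisors (ArSing.ring k r) := by
    rw [mem_nonZeroDivisors_iff_left]
    intro z hz
    obtain ⟨γ, δ, rfl⟩ := exists_rep k r z
    have e : ArSing.x k r * (ArSing.xMap k r γ + ArSing.xMap k r δ * ArSing.y k r)
        = ArSing.xMap k r (PowerSeries.X * γ) + ArSing.xMap k r (PowerSeries.X * δ) * ArSing.y k r := by
      rw [map_mul, map_mul, xMap_X]
      ring
    rw [e] at hz
    obtain ⟨h1, h3⟩ := rep_zero k r _ _ hz
    have hγ : γ = 0 := (mul_eq_zero.1 h1).resolve_left PowerSeries.X_ne_zero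
    have hδ : δ = 0 := (mul_eq_zero.1 h3).resolve_left PowerSeries.X_ne_zero
    rw [hγ, hδ]
    simp
  refine ⟨?_, ⟨?_, ?_⟩, ⟨ArSing.x k r, hxnzd, hJ⟩, ?_⟩
  · intro a
    constructor
    · intro h
      obtain ⟨α, β, rfl⟩ := exists_rep k r a
      rw [hσ] at h
      obtain ⟨h1, h3⟩ := rep_unique k r _ _ _ _ h
      rw [rs_neg_one_eq_self_iff h2] at h1 h3
      refine ⟨ArSing.xMap k (m - 1) (ev α) + ArSing.xMap k (m - 1) (ev β) * ArSing.y k (m - 1), ?_⟩
      show φ _ = _
      rw [hφ]
      have e1 : Ev (ev α) = α := by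
        conv_rhs => rw [ev_od α, h1, map_zero, mul_zero, add_zero]
      have e2 : Ev (ev β) = β := by
        conv_rhs => rw [ev_od β, h3, map_zero, mul_zero, add_zero]
      rw [e1, e2]
    · rintro ⟨b, rfl⟩
      obtain ⟨α, β, rfl⟩ := exists_rep k (m - 1) b
      show σ (φ _) = φ _
      rw [hφ, hσ, rs_Ev, rs_Ev]
  · -- flat
    letI : Algebra (ArSing.ring k (m - 1)) (ArSing.ring k r) := φ.toRingHom.toAlgebra
    show Module.Flat (ArSing.ring k (m - 1)) (ArSing.ring k r)
    have hsm : ∀ (s : ArSing.ring k (m - 1)) (a : ArSing.ring k r), s • a = φ s * a := by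
      intro s a
      rw [Algebra.smul_def]
      rfl
    let g : (ArSing.ring k (m - 1) × ArSing.ring k (m - 1)) →ₗ[ArSing.ring k (m - 1)]
        ArSing.ring k r :=
      { toFun := fun p => φ p.1 + ArSing.x k r * φ p.2
        map_add' := fun p q => by
          simp only [Prod.fst_add, Prod.snd_add, map_add]
          ring
        map_smul' := fun s p => by
          simp only [Prod.smul_fst, Prod.smul_snd, smul_eq_mul, map_mul, RingHom.id_apply, hsm]
          ring }
    have hgdef : ∀ p, g p = φ p.1 + ArSing.x k r * φ p.2 := fun p => rfl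
    have hcomp : ∀ α₁ β₁ α₂ β₂ : PowerSeries k,
        φ (ArSing.xMap k (m - 1) α₁ + ArSing.xMap k (m - 1) β₁ * ArSing.y k (m - 1))
          + ArSing.x k r * φ (ArSing.xMap k (m - 1) α₂ + ArSing.xMap k (m - 1) β₂ * ArSing.y k (m - 1))
        = ArSing.xMap k r (Ev α₁ + PowerSeries.X * Ev α₂)
          + ArSing.xMap k r (Ev β₁ + PowerSeries.X * Ev β₂) * ArSing.y k r := by
      intro α₁ β₁ α₂ β₂
      rw [hφ, hφ]
      simp only [map_add, map_mul, xMap_X]
      ring
    have hg : Function.Bijective g := by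
      constructor
      · rw [injective_iff_map_eq_zero]
        rintro ⟨b₁, b₂⟩ hb
        rw [hgdef] at hb
        obtain ⟨α₁, β₁, rfl⟩ := exists_rep k (m - 1) b₁
        obtain ⟨α₂, β₂, rfl⟩ := exists_rep k (m - 1) b₂
        simp only at hb
        rw [hcomp] at hb
        obtain ⟨h1, h3⟩ := rep_zero k r _ _ hb
        obtain ⟨e1, e2⟩ := EvX_unique α₁ α₂ 0 0 (by rw [h1]; simp)
        obtain ⟨e3, e4⟩ := EvX_unique β₁ β₂ 0 0 (by rw [h3]; simp)
        rw [e1, e2, e3, e4]
        simp
      · intro a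
        obtain ⟨α, β, rfl⟩ := exists_rep k r a
        refine ⟨(ArSing.xMap k (m - 1) (ev α) + ArSing.xMap k (m - 1) (ev β) * ArSing.y k (m - 1),
          ArSing.xMap k (m - 1) (od α) + ArSing.xMap k (m - 1) (od β) * ArSing.y k (m - 1)), ?_⟩
        rw [hgdef]
        simp only
        rw [hcomp, ← ev_od, ← ev_od]
    exact Module.Flat.of_linearEquiv (LinearEquiv.ofBijective g hg).symm
  · intro I hI htop
    have hle : Ideal.map φ I ≤ RingHom.ker (constR k r) := by
      rw [Ideal.map_le_iff_le_comap]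
      intro z hz
      rw [Ideal.mem_comap, RingHom.mem_ker, constR_algHom]
      apply constR_eq_zero_of_not_isUnit
      intro hu
      exact hI.ne_top (Ideal.eq_top_of_isUnit_mem _ hz hu)
    rw [htop, top_le_iff] at hle
    have : (1 : ArSing.ring k r) ∈ RingHom.ker (constR k r) := by rw [hle]; trivial
    rw [RingHom.mem_ker, map_one] at this
    exact one_ne_zero this
  · rw [hJ]
    have h := length_quot_eq k r (Ideal.span {ArSing.x k r}) 2
      (LinearMap.pi ![(PowerSeries.coeff (R := k) 0).comp (re k r),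
        (PowerSeries.coeff (R := k) 0).comp (im k r)]) ?_ ?_
    · rw [h]; rfl
    · intro v
      refine ⟨ArSing.xMap k r (PowerSeries.C (v 0))
        + ArSing.xMap k r (PowerSeries.C (v 1)) * ArSing.y k r, ?_⟩
      funext i
      fin_cases i
      · simp [re_rep]
      · simp [im_rep]
    · intro a
      constructor
      · intro h
        have h0 : PowerSeries.coeff 0 (re k r a) = 0 := congrFun h 0
        have h1 : PowerSeries.coeff 0 (im k r a) = 0 := congrFun h 1
        rw [PowerSeries.coeff_zero_eq_constantCoeff_apply, ← PowerSeries.X_dvd_iff] at h0 h1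
        obtain ⟨α', hα'⟩ := h0
        obtain ⟨β', hβ'⟩ := h1
        rw [Ideal.mem_span_singleton']
        refine ⟨ArSing.xMap k r α' + ArSing.xMap k r β' * ArSing.y k r, ?_⟩
        conv_rhs => rw [rep_re_im k r a, hα', hβ', map_mul, map_mul, xMap_X]
        ring
      · intro h
        rw [Ideal.mem_span_singleton'] at h
        obtain ⟨c, rfl⟩ := h
        obtain ⟨γ, δ, rfl⟩ := exists_rep k r c
        have e : (ArSing.xMap k r γ + ArSing.xMap k r δ * ArSing.y k r) * ArSing.x k r
            = ArSing.xMap k r (PowerSeries.X * γ)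
              + ArSing.xMap k r (PowerSeries.X * δ) * ArSing.y k r := by
          rw [map_mul, map_mul, xMap_X]
          ring
        funext i
        fin_cases i
        · show PowerSeries.coeff 0 (re k r _) = 0
          rw [e, re_rep, PowerSeries.coeff_zero_X_mul]
        · show PowerSeries.coeff 0 (im k r _) = 0
          rw [e, im_rep, PowerSeries.coeff_zero_X_mul]

end Groth.Agent.S14094
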