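import Groth.Statements.S14095
import Mathlib
import Groth.Agent.Lib.Helper16ArSing
-- import your own Groth.Agent.* helpers here

set_option autoImplicit false
set_option linter.style.haveILetI false
set_option linter.unusedSectionVars false
universe u
open ArSing

namespace Groth.Agent.S14095

open Groth.Agent.Lib.Helper16ArSing

lemma rs_Ev {k : Type u} [Field k] (a : PowerSeries k) : rs (-1 : k) (Ev a) = Ev a := by
  have := rs_neg_one_EvX a 0
  simpa using this

lemma rs_XEv {k : Type u} [Field k] (b : PowerSeries k) :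
    rs (-1 : k) (PowerSeries.X * Ev b) = -(PowerSeries.X * Ev b) := by
  have := rs_neg_one_EvX 0 b
  simpa using this

lemma neg_two_inv_mul {k : Type u} [Field k] (r : ℕ) (h2 : (2 : k) ≠ 0) :
    algebraMap k (ArSing.ring k r) ((-2 : k)⁻¹) * (-2 : ArSing.ring k r) = 1 := by
  have : (-2 : ArSing.ring k r) = algebraMap k (ArSing.ring k r) (-2 : k) := by
    rw [map_neg, map_ofNat]
  rw [this, ← map_mul, inv_mul_cancel₀ (neg_ne_zero.2 h2), map_one]

lemma constR_rep {k : Type u} [Field k] (r : ℕ) (α β : PowerSeries k) :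
    constR k r (ArSing.xMap k r α + ArSing.xMap k r β * ArSing.y k r)
      = PowerSeries.constantCoeff α := by
  rw [map_add, map_mul, constR_xMap, constR_y, mul_zero, add_zero]

lemma constR_eq {k : Type u} [Field k] (r : ℕ) (a : ArSing.ring k r) :
    constR k r a = PowerSeries.coeff 0 (re k r a) := by
  conv_lhs => rw [rep_re_im k r a]
  rw [constR_rep, PowerSeries.coeff_zero_eq_constantCoeff_apply]

/-- linear terms of a product with an element of the maximal ideal -/
lemma lin_mul {k : Type u} [Field k] (r : ℕ) (hr : 1 ≤ r) (c z : ArSing.ring k r)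
    (hz : constR k r z = 0) :
    PowerSeries.coeff 1 (re k r (c * z)) = constR k r c * PowerSeries.coeff 1 (re k r z) ∧
    PowerSeries.coeff 0 (im k r (c * z)) = constR k r c * PowerSeries.coeff 0 (im k r z) := by
  obtain ⟨γ, δ, rfl⟩ := exists_rep k r c
  obtain ⟨α, β, rfl⟩ := exists_rep k r z
  rw [constR_rep] at hz
  rw [mul_rep, re_rep, im_rep, re_rep, im_rep, constR_rep]
  have hα0 : PowerSeries.coeff 0 α = 0 := by
    rw [PowerSeries.coeff_zero_eq_constantCoeff_apply]; exact hz
  constructor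
  · rw [map_add, PowerSeries.coeff_X_pow_mul', if_neg (by omega), add_zero, PowerSeries.coeff_mul]
    rw [Finset.Nat.antidiagonal_succ]
    simp [hα0]
  · rw [map_add, PowerSeries.coeff_mul, PowerSeries.coeff_mul]
    simp [hα0]

/-- the equational criterion for a relation with two terms, in ring-hom form -/
lemma flat_two_rel {A B : Type*} [CommRing A] [CommRing B] (φ : A →+* B) (hflat : φ.Flat)
    (f₀ f₁ : A) (x₀ x₁ : B) (hrel : φ f₀ * x₀ + φ f₁ * x₁ = 0) :
    ∃ (κ : ℕ) (a₀ a₁ : Fin κ → A) (yv : Fin κ → B),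
      x₀ = ∑ j, φ (a₀ j) * yv j ∧ x₁ = ∑ j, φ (a₁ j) * yv j ∧
      ∀ j, f₀ * a₀ j + f₁ * a₁ j = 0 := by
  letI : Algebra A B := φ.toAlgebra
  haveI hflat' : Module.Flat A B := hflat
  have hsm : ∀ (s : A) (b : B), s • b = φ s * b := by
    intro s b
    rw [Algebra.smul_def]
    rfl
  let f : Fin 2 → A := ![f₀, f₁]
  let x : Fin 2 → B := ![x₀, x₁]
  have hrel' : ∑ i : Fin 2, f i • x i = 0 := by
    rw [Fin.sum_univ_two]
    show f₀ • x₀ + f₁ • x₁ = 0
    rw [hsm, hsm]
    exact hrel
  obtain ⟨κ, a, yv, h1, h3⟩ := Module.Flat.isTrivialRelation_of_sum_smul_eq_zero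
    (R := A) (M := B) (ι := Fin 2) (f := f) (x := x) hrel'
  refine ⟨κ, a 0, a 1, yv, ?_, ?_, ?_⟩
  · have := h1 0
    simp only [hsm] at this
    exact this
  · have := h1 1
    simp only [hsm] at this
    exact this
  · intro j
    have := h3 j
    rw [Fin.sum_univ_two] at this
    exact this


/-- K algebraically closed of characteristic prime to 2 and to r+1, r = 2m - 1 with m ≥ 1, σ the
involution x ↦ -x, y ↦ -y of A_r = k[[x,y]]/(y^2 - x^(r+1)), and φ : A_m → A_r the k-algebra map x ↦
x^2, y ↦ xy. Then the invariant subalgebra of σ is the image of φ and φ is injective (so A_r^σ ≅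
A_m), φ is not flat, and the fixed locus of σ is the reduced closed point and is not a Cartier
divisor: the ideal generated by the elements σ(a) - a has quotient of length 1 and is not generated
by one nonzerodivisor. -/
theorem result (k : Type u) [Field k] [IsAlgClosed k] (m r : ℕ)
    (hm : 1 ≤ m) (hr : r = 2 * m - 1) (h2 : (2 : k) ≠ 0) (hr1 : ((r + 1 : ℕ) : k) ≠ 0)
    (σ : ArSing.ring k r ≃ₐ[k] ArSing.ring k r) (hx : σ (ArSing.x k r) = -ArSing.x k r)
    (hy : σ (ArSing.y k r) = -ArSing.y k r)
    (φ : ArSing.ring k m →ₐ[k] ArSing.ring k r) (hφx : φ (ArSing.x k m) = ArSing.x k r ^ 2)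
    (hφy : φ (ArSing.y k m) = ArSing.x k r * ArSing.y k r) :
    (∀ a : ArSing.ring k r, σ a = a ↔ a ∈ φ.range) ∧ Function.Injective φ ∧
    ¬ φ.toRingHom.Flat ∧
    Module.length (ArSing.ring k r) (ArSing.ring k r ⧸ Ideal.span (Set.range fun a : ArSing.ring k r => σ a - a)) = 1 ∧
    ¬ (∃ g : ArSing.ring k r, g ∈ nonZeroDivisors (ArSing.ring k r) ∧ Ideal.span (Set.range fun a : ArSing.ring k r => σ a - a) = Ideal.span {g}) := by
  have hr1' : 1 ≤ r := by omega
  have hσx : ∀ s : PowerSeries k, σ (ArSing.xMap k r s) = ArSing.xMap k r (rs (-1 : k) s) :=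
    fun s => sigma_xMap_of_neg_x k r σ.toAlgHom hx s
  have hσ : ∀ α β : PowerSeries k, σ (ArSing.xMap k r α + ArSing.xMap k r β * ArSing.y k r)
      = ArSing.xMap k r (rs (-1 : k) α) + ArSing.xMap k r (-rs (-1 : k) β) * ArSing.y k r := by
    intro α β
    rw [map_add, map_mul, hσx, hσx, hy, map_neg]
    ring
  have hφs : ∀ s : PowerSeries k, φ (ArSing.xMap k m s) = ArSing.xMap k r (Ev s) :=
    fun s => phi_xMap_of_sq k r φ hφx s
  have hφ : ∀ α β : PowerSeries k,
      φ (ArSing.xMap k m α + ArSing.xMap k m β * ArSing.y k m)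
      = ArSing.xMap k r (Ev α) + ArSing.xMap k r (PowerSeries.X * Ev β) * ArSing.y k r := by
    intro α β
    rw [map_add, map_mul, hφs, hφs, hφy, map_mul, xMap_X]
    ring
  -- the ideal
  set J := Ideal.span (Set.range fun a : ArSing.ring k r => σ a - a) with hJdef
  have hJle : J ≤ RingHom.ker (constR k r) := by
    rw [hJdef, Ideal.span_le]
    rintro _ ⟨a, rfl⟩
    show σ a - a ∈ RingHom.ker (constR k r)
    rw [RingHom.mem_ker, map_sub]
    have := constR_algHom k r σ.toAlgHom a
    rw [sub_eq_zero]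
    exact this
  have hxJ : ArSing.x k r ∈ J := by
    have hmem : σ (ArSing.x k r) - ArSing.x k r ∈ J := Ideal.subset_span ⟨ArSing.x k r, rfl⟩
    have := Ideal.mul_mem_left _ (algebraMap k (ArSing.ring k r) ((-2 : k)⁻¹)) hmem
    have e : algebraMap k (ArSing.ring k r) ((-2 : k)⁻¹) * (σ (ArSing.x k r) - ArSing.x k r)
        = ArSing.x k r := by
      rw [hx]
      linear_combination (ArSing.x k r) * neg_two_inv_mul r h2
    rw [e] at this
    exact this
  have hyJ : ArSing.y k r ∈ J := by
    have hmem : σ (ArSing.y k r) - ArSing.y k r ∈ J := Ideal.subset_span ⟨ArSing.y k r, rfl⟩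
    have := Ideal.mul_mem_left _ (algebraMap k (ArSing.ring k r) ((-2 : k)⁻¹)) hmem
    have e : algebraMap k (ArSing.ring k r) ((-2 : k)⁻¹) * (σ (ArSing.y k r) - ArSing.y k r)
        = ArSing.y k r := by
      rw [hy]
      linear_combination (ArSing.y k r) * neg_two_inv_mul r h2
    rw [e] at this
    exact this
  have hJmem : ∀ a, a ∈ J ↔ constR k r a = 0 := by
    intro a
    constructor
    · intro ha
      exact hJle ha
    · intro ha
      rw [constR_eq, PowerSeries.coeff_zero_eq_constantCoeff_apply, ← PowerSeries.X_dvd_iff] at ha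
      obtain ⟨α', hα'⟩ := ha
      rw [rep_re_im k r a, hα', map_mul, xMap_X]
      exact Ideal.add_mem _ (Ideal.mul_mem_right _ _ hxJ) (Ideal.mul_mem_left _ _ hyJ)
  have hx_ne : ArSing.x k r ≠ 0 := by
    intro h0
    rw [← xMap_X, ← map_zero (ArSing.xMap k r)] at h0
    exact PowerSeries.X_ne_zero (xMap_injective k r h0)
  refine ⟨?_, ?_, ?_, ?_, ?_⟩
  · intro a
    constructor
    · intro h
      obtain ⟨α, β, rfl⟩ := exists_rep k r a
      rw [hσ] at h
      obtain ⟨h1, h3⟩ := rep_unique k r _ _ _ _ h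
      rw [rs_neg_one_eq_self_iff h2] at h1
      have h3' : rs (-1 : k) β = -β := by linear_combination -h3
      rw [rs_neg_one_eq_neg_iff h2] at h3'
      refine ⟨ArSing.xMap k m (ev α) + ArSing.xMap k m (od β) * ArSing.y k m, ?_⟩
      show φ _ = _
      rw [hφ]
      have e1 : Ev (ev α) = α := by
        conv_rhs => rw [ev_od α, h1, map_zero, mul_zero, add_zero]
      have e2 : PowerSeries.X * Ev (od β) = β := by
        conv_rhs => rw [ev_od β, h3', map_zero, zero_add]
      rw [e1, e2]
    · rintro ⟨b, rfl⟩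
      obtain ⟨α, β, rfl⟩ := exists_rep k m b
      show σ (φ _) = φ _
      rw [hφ, hσ, rs_Ev, rs_XEv, neg_neg]
  · rw [injective_iff_map_eq_zero]
    intro b hb
    obtain ⟨α, β, rfl⟩ := exists_rep k m b
    rw [hφ] at hb
    obtain ⟨h1, h3⟩ := rep_zero k r _ _ hb
    obtain ⟨e1, -⟩ := EvX_unique α 0 0 0 (by rw [h1]; simp)
    obtain ⟨-, e2⟩ := EvX_unique 0 β 0 0 (by rw [map_zero, zero_add, h3]; simp)
    rw [e1, e2]
    simp
  · -- not flat
    intro hflat
    have hrel : φ.toRingHom (ArSing.y k m) * ArSing.x k r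
        + φ.toRingHom (-ArSing.x k m) * ArSing.y k r = 0 := by
      show φ (ArSing.y k m) * ArSing.x k r + φ (-ArSing.x k m) * ArSing.y k r = 0
      rw [map_neg, hφx, hφy]
      ring
    obtain ⟨κ, a₀, a₁, yv, h1, -, h3⟩ := flat_two_rel φ.toRingHom hflat _ _ _ _ hrel
    have hw : ∀ j, ∃ w, φ (a₀ j) = ArSing.x k r * w ∧ constR k r w = 0 := by
      intro j
      have hj := h3 j
      obtain ⟨p, q, hpq⟩ := exists_rep k m (a₀ j)
      obtain ⟨u, v, huv⟩ := exists_rep k m (a₁ j)
      rw [hpq, huv] at hj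
      have e : ArSing.y k m * (ArSing.xMap k m p + ArSing.xMap k m q * ArSing.y k m)
          + -ArSing.x k m * (ArSing.xMap k m u + ArSing.xMap k m v * ArSing.y k m)
          = ArSing.xMap k m (PowerSeries.X ^ (m + 1) * q - PowerSeries.X * u)
            + ArSing.xMap k m (p - PowerSeries.X * v) * ArSing.y k m := by
        simp only [map_sub, map_mul, xMap_X]
        linear_combination (ArSing.xMap k m q) * y_sq' k m
      rw [e] at hj
      obtain ⟨-, hp⟩ := rep_zero k m _ _ hj
      have hp' : p = PowerSeries.X * v := sub_eq_zero.1 hp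
      refine ⟨ArSing.xMap k r (PowerSeries.X * Ev v) + ArSing.xMap k r (Ev q) * ArSing.y k r, ?_, ?_⟩
      · rw [hpq, hφ, hp', map_mul, Ev_X]
        simp only [map_mul, map_pow, xMap_X]
        ring
      · rw [constR_rep, map_mul, PowerSeries.constantCoeff_X, zero_mul]
    choose w hw1 hw2 using hw
    have hx1 : ArSing.x k r = ∑ j, φ (a₀ j) * yv j := h1
    have hx2 : ArSing.x k r * (1 - ∑ j, w j * yv j) = 0 := by
      rw [mul_sub, mul_one, Finset.mul_sum]
      nth_rewrite 1 [hx1]
      rw [sub_eq_zero]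
      apply Finset.sum_congr rfl
      intro j _
      rw [hw1 j]
      ring
    have hunit : IsUnit (1 - ∑ j, w j * yv j) := by
      apply isUnit_of_constR
      rw [map_sub, map_one, map_sum]
      have : ∑ j, constR k r (w j * yv j) = 0 := by
        apply Finset.sum_eq_zero
        intro j _
        rw [map_mul, hw2 j, zero_mul]
      rw [this, sub_zero]
      exact one_ne_zero
    exact hx_ne (hunit.mul_left_eq_zero.1 hx2)
  · have h := length_quot_eq k r J 1
      (LinearMap.pi ![(PowerSeries.coeff (R := k) 0).comp (re k r)]) ?_ ?_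
    · rw [h]; rfl
    · intro v
      refine ⟨ArSing.xMap k r (PowerSeries.C (v 0))
        + ArSing.xMap k r 0 * ArSing.y k r, ?_⟩
      funext i
      fin_cases i
      show PowerSeries.coeff 0 (re k r _) = v 0
      rw [re_rep]
      simp
    · intro a
      rw [hJmem, constR_eq]
      constructor
      · intro h
        exact congrFun h 0
      · intro h
        funext i
        fin_cases i
        exact h
  · rintro ⟨g, -, hg⟩
    have hgJ : g ∈ J := by rw [hg]; exact Ideal.mem_span_singleton_self g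
    have hg0 : constR k r g = 0 := (hJmem g).1 hgJ
    have hxg := hxJ
    have hyg := hyJ
    rw [hg, Ideal.mem_span_singleton'] at hxg hyg
    obtain ⟨u, hu⟩ := hxg
    obtain ⟨v, hv⟩ := hyg
    obtain ⟨hu1, hu2⟩ := lin_mul r hr1' u g hg0
    obtain ⟨hv1, hv2⟩ := lin_mul r hr1' v g hg0
    rw [hu] at hu1 hu2
    rw [hv] at hv1 hv2
    have ex : ArSing.x k r = ArSing.xMap k r PowerSeries.X + ArSing.xMap k r 0 * ArSing.y k r := by
      rw [xMap_X, map_zero, zero_mul, add_zero]
    have ey : ArSing.y k r = ArSing.xMap k r 0 + ArSing.xMap k r 1 * ArSing.y k r := by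
      rw [map_zero, map_one, one_mul, zero_add]
    rw [ex, re_rep] at hu1
    rw [ex, im_rep] at hu2
    rw [ey, im_rep] at hv2
    simp only [PowerSeries.coeff_one_X, map_zero, map_one, PowerSeries.coeff_zero_one] at hu1 hu2 hv2
    -- hu1 : 1 = constR u * g₁ ; hu2 : 0 = constR u * g₂ ; hv2 : 1 = constR v * g₂
    have hu0 : constR k r u ≠ 0 := by
      intro h0
      rw [h0, zero_mul] at hu1
      exact one_ne_zero hu1
    have hg2 : PowerSeries.coeff 0 (im k r g) = 0 := by
      rcases mul_eq_zero.1 hu2.symm with h | h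
      · exact absurd h hu0
      · exact h
    rw [hg2, mul_zero] at hv2
    exact one_ne_zero hv2

end Groth.Agent.S14095
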