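import Groth.Statements.S14096
import Mathlib
import Groth.Agent.Lib.Helper16ArSing
-- import your own Groth.Agent.* helpers here

set_option autoImplicit false
set_option linter.style.haveILetI false
set_option linter.unusedSectionVars false
universe u
open ArSing

namespace Groth.Agent.S14096

open Groth.Agent.Lib.Helper16ArSing

/-- the equational criterion for a relation with two terms, in ring-hom form -/
lemma flat_two_rel {A B : Type*} [CommRing A] [CommRing B] (φ : A →+* B) (hflat : φ.Flat)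
    (f₀ f₁ : A) (x₀ x₁ : B) (hrel : φ f₀ * x₀ + φ f₁ * x₁ = 0) :
    ∃ (κ : ℕ) (a₀ a₁ : Fin κ → A) (yv : Fin κ → B),
      x₀ = ∑ j, φ (a₀ j) * yv j ∧ x₁ = ∑ j, φ (a₁ j) * yv j ∧
      ∀ j, f₀ * a₀ j + f₁ * a₁ j = 0 := by
  letI : Algebra A B := φ.toAlgebra
  haveI hflat' : Module.Flat A B := hflat
  have hsm : ∀ (s : A) (b : B), s • b = φ s * b := by
    intro s b
    rw [Algebra.smul_def]
    rfl
  let f : Fin 2 → A := ![f₀, f₁]
  let x : Fin 2 → B := ![x₀, x₁]
  have hrel' : ∑ i : Fin 2, f i • x i = 0 := by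
    rw [Fin.sum_univ_two]
    show f₀ • x₀ + f₁ • x₁ = 0
    rw [hsm, hsm]
    exact hrel
  obtain ⟨κ, a, yv, h1, h3⟩ := Module.Flat.isTrivialRelation_of_sum_smul_eq_zero
    (R := A) (M := B) (ι := Fin 2) (f := f) (x := x) hrel'
  refine ⟨κ, a 0, a 1, yv, ?_, ?_, ?_⟩
  · have := h1 0
    simp only [hsm] at this
    exact this
  · have := h1 1
    simp only [hsm] at this
    exact this
  · intro j
    have := h3 j
    rw [Fin.sum_univ_two] at this
    exact this

section Node

variable (k : Type u) [Field k]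

/-- `u = x + y` -/
noncomputable def uu : ArSing.ring k 1 := ArSing.x k 1 + ArSing.y k 1
/-- `v = y - x` -/
noncomputable def vv : ArSing.ring k 1 := ArSing.y k 1 - ArSing.x k 1

lemma ysq : ArSing.y k 1 ^ 2 = ArSing.x k 1 ^ 2 := y_sq k 1

lemma uv : uu k * vv k = 0 := by
  unfold uu vv
  linear_combination ysq k

lemma yu : ArSing.y k 1 * uu k = ArSing.x k 1 * uu k := by
  unfold uu
  linear_combination ysq k

lemma yv : ArSing.y k 1 * vv k = -ArSing.x k 1 * vv k := by
  unfold vv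
  linear_combination ysq k

lemma vsq : vv k ^ 2 = -2 * ArSing.x k 1 * vv k := by
  unfold vv
  linear_combination ysq k

lemma usq : uu k ^ 2 = 2 * ArSing.x k 1 * uu k := by
  unfold uu
  linear_combination ysq k

lemma y_pow_u (n : ℕ) : ArSing.y k 1 ^ n * uu k = ArSing.x k 1 ^ n * uu k := by
  induction n with
  | zero => simp
  | succ n ih =>
    rw [pow_succ, mul_assoc, yu, ← mul_assoc, mul_comm _ (ArSing.x k 1), mul_assoc, ih]
    ring

lemma y_pow_v (n : ℕ) : ArSing.y k 1 ^ n * vv k = (-ArSing.x k 1) ^ n * vv k := by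
  induction n with
  | zero => simp
  | succ n ih =>
    rw [pow_succ, mul_assoc, yv, ← mul_assoc, mul_comm _ (-ArSing.x k 1), mul_assoc, ih]
    ring

lemma y_pow_even (N : ℕ) : ArSing.y k 1 ^ (2 * N) = ArSing.x k 1 ^ (2 * N) := by
  rw [pow_mul, pow_mul, ysq]

/-- the branch map `y ↦ x` in coordinates -/
noncomputable def Br (a : ArSing.ring k 1) : PowerSeries k :=
  re k 1 a + PowerSeries.X * im k 1 a

lemma Br_rep (α β : PowerSeries k) :
    Br k (ArSing.xMap k 1 α + ArSing.xMap k 1 β * ArSing.y k 1) = α + PowerSeries.X * β := by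
  unfold Br
  rw [re_rep, im_rep]

lemma Br_mul (a b : ArSing.ring k 1) : Br k (a * b) = Br k a * Br k b := by
  obtain ⟨α, β, rfl⟩ := exists_rep k 1 a
  obtain ⟨γ, δ, rfl⟩ := exists_rep k 1 b
  rw [mul_rep, Br_rep, Br_rep, Br_rep]
  ring

lemma vv_rep : vv k = ArSing.xMap k 1 (-PowerSeries.X) + ArSing.xMap k 1 1 * ArSing.y k 1 := by
  unfold vv
  rw [map_neg, xMap_X, map_one]
  ring

lemma uu_rep : uu k = ArSing.xMap k 1 PowerSeries.X + ArSing.xMap k 1 1 * ArSing.y k 1 := by
  unfold uu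
  rw [xMap_X, map_one]
  ring

lemma mem_span_vv_iff (a : ArSing.ring k 1) : a ∈ Ideal.span {vv k} ↔ Br k a = 0 := by
  constructor
  · intro h
    rw [Ideal.mem_span_singleton'] at h
    obtain ⟨c, rfl⟩ := h
    rw [Br_mul, vv_rep, Br_rep]
    ring
  · intro h
    obtain ⟨α, β, rfl⟩ := exists_rep k 1 a
    rw [Br_rep] at h
    have hα : α = -(PowerSeries.X * β) := by linear_combination h
    rw [Ideal.mem_span_singleton']
    refine ⟨ArSing.xMap k 1 β, ?_⟩
    rw [hα, map_neg, map_mul, xMap_X]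
    unfold vv
    ring

lemma constR_uu : constR k 1 (uu k) = 0 := by
  unfold uu
  rw [map_add, constR_x, constR_y, add_zero]

lemma constR_vv : constR k 1 (vv k) = 0 := by
  unfold vv
  rw [map_sub, constR_x, constR_y, sub_zero]

lemma vv_ne_zero : vv k ≠ 0 := by
  intro h
  rw [vv_rep] at h
  obtain ⟨-, h1⟩ := rep_zero k 1 _ _ h
  exact one_ne_zero h1

/-- the normal form `a₀ + P(x) u + Q(x) v` -/
noncomputable def NF (a₀ : k) (P Q : PowerSeries k) : ArSing.ring k 1 :=
  algebraMap k (ArSing.ring k 1) a₀ + ArSing.xMap k 1 P * uu k + ArSing.xMap k 1 Q * vv k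

lemma xMap_C (a : k) : ArSing.xMap k 1 (PowerSeries.C a) = algebraMap k (ArSing.ring k 1) a := by
  have : (PowerSeries.C a : PowerSeries k) = algebraMap k (PowerSeries k) a := by
    rw [PowerSeries.algebraMap_apply, Algebra.algebraMap_self, RingHom.id_apply]
  rw [this, AlgHom.commutes]

lemma NF_rep (a₀ : k) (P Q : PowerSeries k) :
    NF k a₀ P Q = ArSing.xMap k 1 (PowerSeries.C a₀ + PowerSeries.X * (P - Q))
      + ArSing.xMap k 1 (P + Q) * ArSing.y k 1 := by
  unfold NF uu vv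
  simp only [map_add, map_sub, map_mul, xMap_X, xMap_C]
  ring

lemma two_ne_zero_S (h2 : (2 : k) ≠ 0) : (2 : PowerSeries k) ≠ 0 := by
  intro h0
  have := congrArg (PowerSeries.constantCoeff) h0
  rw [map_ofNat, map_zero] at this
  exact h2 this

lemma C_half_two (h2 : (2 : k) ≠ 0) : PowerSeries.C (2⁻¹ : k) * (2 : PowerSeries k) = 1 := by
  have : (2 : PowerSeries k) = PowerSeries.C (2 : k) := by rw [map_ofNat]
  rw [this, ← map_mul, inv_mul_cancel₀ h2, map_one]

lemma NF_exists (h2 : (2 : k) ≠ 0) (a : ArSing.ring k 1) :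
    ∃ (a₀ : k) (P Q : PowerSeries k), a = NF k a₀ P Q := by
  obtain ⟨α, β, rfl⟩ := exists_rep k 1 a
  set α' : PowerSeries k := PowerSeries.mk fun p => PowerSeries.coeff (p + 1) α with hα'
  have hα : α = PowerSeries.X * α' + PowerSeries.C (PowerSeries.constantCoeff α) :=
    PowerSeries.eq_X_mul_shift_add_const α
  refine ⟨PowerSeries.constantCoeff α, PowerSeries.C (2⁻¹ : k) * (β + α'),
    PowerSeries.C (2⁻¹ : k) * (β - α'), ?_⟩
  rw [NF_rep]
  have e1 : PowerSeries.C (2⁻¹ : k) * (β + α') - PowerSeries.C (2⁻¹ : k) * (β - α') = α' := by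
    linear_combination α' * C_half_two k h2
  have e2 : PowerSeries.C (2⁻¹ : k) * (β + α') + PowerSeries.C (2⁻¹ : k) * (β - α') = β := by
    linear_combination β * C_half_two k h2
  rw [e1, e2]
  congr 2
  conv_lhs => rw [hα]
  ring

lemma NF_zero (h2 : (2 : k) ≠ 0) (a₀ : k) (P Q : PowerSeries k) (h : NF k a₀ P Q = 0) :
    a₀ = 0 ∧ P = 0 ∧ Q = 0 := by
  rw [NF_rep] at h
  obtain ⟨h1, h3⟩ := rep_zero k 1 _ _ h
  have ha : a₀ = 0 := by
    have := congrArg PowerSeries.constantCoeff h1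
    simpa using this
  rw [ha, map_zero, zero_add] at h1
  have hPQ : P - Q = 0 := (mul_eq_zero.1 h1).resolve_left PowerSeries.X_ne_zero
  have hP : P = 0 := by
    have : (2 : PowerSeries k) * P = 0 := by linear_combination hPQ + h3
    exact (mul_eq_zero.1 this).resolve_left (two_ne_zero_S k h2)
  have hQ : Q = 0 := by
    rw [hP, zero_sub, neg_eq_zero] at hPQ
    exact hPQ
  exact ⟨ha, hP, hQ⟩

lemma NF_sub (a₀ b₀ : k) (P Q P' Q' : PowerSeries k) :
    NF k a₀ P Q - NF k b₀ P' Q' = NF k (a₀ - b₀) (P - P') (Q - Q') := by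
  unfold NF
  simp only [map_sub]
  ring

lemma NF_unique (h2 : (2 : k) ≠ 0) (a₀ b₀ : k) (P Q P' Q' : PowerSeries k)
    (h : NF k a₀ P Q = NF k b₀ P' Q') : a₀ = b₀ ∧ P = P' ∧ Q = Q' := by
  have h' : NF k (a₀ - b₀) (P - P') (Q - Q') = 0 := by
    rw [← NF_sub, h, sub_self]
  obtain ⟨h1, h3, h4⟩ := NF_zero k h2 _ _ _ h'
  exact ⟨sub_eq_zero.1 h1, sub_eq_zero.1 h3, sub_eq_zero.1 h4⟩

/-! ### continuity for `σ` -/

lemma sigma_u (σ : ArSing.ring k 1 →ₐ[k] ArSing.ring k 1)
    (hx : σ (ArSing.x k 1) = ArSing.y k 1) (s : PowerSeries k) :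
    σ (ArSing.xMap k 1 s) * uu k = ArSing.xMap k 1 s * uu k := by
  let F : PowerSeries k →ₗ[k] ArSing.ring k 1 :=
    { toFun := fun s => σ (ArSing.xMap k 1 s) * uu k - ArSing.xMap k 1 s * uu k
      map_add' := fun a b => by
        simp only [map_add]
        ring
      map_smul' := fun c a => by
        simp only [map_smul, RingHom.id_apply, smul_mul_assoc, smul_sub] }
  have hF : ∀ s, F s = σ (ArSing.xMap k 1 s) * uu k - ArSing.xMap k 1 s * uu k := fun s => rfl
  have := cont_lin k 1 F (by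
    intro n
    rw [hF, map_pow, map_pow, xMap_X, hx, y_pow_u, sub_self]) (by
    intro N s
    refine ⟨ArSing.x k 1 ^ N * (σ (ArSing.xMap k 1 s) * uu k - ArSing.xMap k 1 s * uu k), ?_⟩
    rw [hF, map_mul, map_mul, map_pow, map_pow, xMap_X, hx, y_pow_even]
    ring) s
  rw [hF, sub_eq_zero] at this
  exact this

lemma xMap_rs_X_pow (n : ℕ) :
    ArSing.xMap k 1 (rs (-1 : k) (PowerSeries.X ^ n)) = (-ArSing.x k 1) ^ n := by
  have : ArSing.xMap k 1 (PowerSeries.C (-1 : k)) = -1 := by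
    rw [map_neg, map_one, map_neg, map_one]
  rw [map_pow, rs_X, map_pow, map_mul, xMap_X, this]
  ring

lemma sigma_v (σ : ArSing.ring k 1 →ₐ[k] ArSing.ring k 1)
    (hx : σ (ArSing.x k 1) = ArSing.y k 1) (s : PowerSeries k) :
    σ (ArSing.xMap k 1 s) * vv k = ArSing.xMap k 1 (rs (-1 : k) s) * vv k := by
  let F : PowerSeries k →ₗ[k] ArSing.ring k 1 :=
    { toFun := fun s => σ (ArSing.xMap k 1 s) * vv k - ArSing.xMap k 1 (rs (-1 : k) s) * vv k
      map_add' := fun a b => by
        simp only [map_add]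
        ring
      map_smul' := fun c a => by
        simp only [map_smul, RingHom.id_apply, smul_mul_assoc, smul_sub] }
  have hF : ∀ s, F s
      = σ (ArSing.xMap k 1 s) * vv k - ArSing.xMap k 1 (rs (-1 : k) s) * vv k := fun s => rfl
  have := cont_lin k 1 F (by
    intro n
    rw [hF, xMap_rs_X_pow, map_pow, map_pow, xMap_X, hx, y_pow_v, sub_self]) (by
    intro N s
    refine ⟨ArSing.x k 1 ^ N * (σ (ArSing.xMap k 1 s) * vv k
      - ArSing.xMap k 1 (rs (-1 : k) s) * vv k), ?_⟩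
    have e : (-ArSing.x k 1) ^ (2 * N) = ArSing.x k 1 ^ (2 * N) := by
      rw [pow_mul, pow_mul]
      congr 1
      ring
    rw [hF, map_mul (rs (-1 : k)), map_mul, map_mul, map_mul, xMap_rs_X_pow, map_pow, map_pow,
      xMap_X, hx, y_pow_even, e]
    ring) s
  rw [hF, sub_eq_zero] at this
  exact this

/-! ### continuity for `φ` -/

lemma half_two (h2 : (2 : k) ≠ 0) :
    algebraMap k (ArSing.ring k 1) (2⁻¹ : k) * (2 : ArSing.ring k 1) = 1 := by
  have : (2 : ArSing.ring k 1) = algebraMap k (ArSing.ring k 1) (2 : k) := by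
    rw [map_ofNat]
  rw [this, ← map_mul, inv_mul_cancel₀ h2, map_one]

lemma phi_x (h2 : (2 : k) ≠ 0) (φ : ArSing.ring k 1 →ₐ[k] ArSing.ring k 1)
    (hφu : φ (uu k) = uu k) (hφv : φ (vv k) = vv k ^ 2) :
    φ (ArSing.x k 1) = algebraMap k (ArSing.ring k 1) (2⁻¹ : k) * (uu k - vv k ^ 2) := by
  have hx : ArSing.x k 1 = algebraMap k (ArSing.ring k 1) (2⁻¹ : k) * (uu k - vv k) := by
    unfold uu vv
    linear_combination (-ArSing.x k 1) * half_two k h2
  conv_lhs => rw [hx]
  rw [map_mul, map_sub, hφu, hφv, AlgHom.commutes]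

lemma phi_x_u (h2 : (2 : k) ≠ 0) (φ : ArSing.ring k 1 →ₐ[k] ArSing.ring k 1)
    (hφu : φ (uu k) = uu k) (hφv : φ (vv k) = vv k ^ 2) :
    φ (ArSing.x k 1) * uu k = ArSing.x k 1 * uu k := by
  rw [phi_x k h2 φ hφu hφv]
  linear_combination (algebraMap k (ArSing.ring k 1) (2⁻¹ : k)) * usq k
    + (ArSing.x k 1 * uu k) * half_two k h2
    - (algebraMap k (ArSing.ring k 1) (2⁻¹ : k)) * vv k * uv k

lemma phi_x_v (h2 : (2 : k) ≠ 0) (φ : ArSing.ring k 1 →ₐ[k] ArSing.ring k 1)
    (hφu : φ (uu k) = uu k) (hφv : φ (vv k) = vv k ^ 2) :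
    φ (ArSing.x k 1) * vv k ^ 2 = (-2 * ArSing.x k 1 ^ 2) * vv k ^ 2 := by
  rw [phi_x k h2 φ hφu hφv]
  linear_combination (algebraMap k (ArSing.ring k 1) (2⁻¹ : k)) * vv k * uv k
    - (algebraMap k (ArSing.ring k 1) (2⁻¹ : k)) * (vv k ^ 2 - 2 * ArSing.x k 1 * vv k) * vsq k
    - (2 * ArSing.x k 1 ^ 2 * vv k ^ 2) * half_two k h2

lemma phi_x_pow_u (h2 : (2 : k) ≠ 0) (φ : ArSing.ring k 1 →ₐ[k] ArSing.ring k 1)
    (hφu : φ (uu k) = uu k) (hφv : φ (vv k) = vv k ^ 2) (n : ℕ) :
    φ (ArSing.x k 1) ^ n * uu k = ArSing.x k 1 ^ n * uu k := by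
  induction n with
  | zero => simp
  | succ n ih =>
    rw [pow_succ, mul_assoc, phi_x_u k h2 φ hφu hφv, ← mul_assoc, mul_comm _ (ArSing.x k 1),
      mul_assoc, ih]
    ring

lemma phi_x_pow_v (h2 : (2 : k) ≠ 0) (φ : ArSing.ring k 1 →ₐ[k] ArSing.ring k 1)
    (hφu : φ (uu k) = uu k) (hφv : φ (vv k) = vv k ^ 2) (n : ℕ) :
    φ (ArSing.x k 1) ^ n * vv k ^ 2 = (-2 * ArSing.x k 1 ^ 2) ^ n * vv k ^ 2 := by
  induction n with
  | zero => simp
  | succ n ih =>
    rw [pow_succ, mul_assoc, phi_x_v k h2 φ hφu hφv, ← mul_assoc,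
      mul_comm _ (-2 * ArSing.x k 1 ^ 2), mul_assoc, ih]
    ring

lemma phi_u (h2 : (2 : k) ≠ 0) (φ : ArSing.ring k 1 →ₐ[k] ArSing.ring k 1)
    (hφu : φ (uu k) = uu k) (hφv : φ (vv k) = vv k ^ 2) (s : PowerSeries k) :
    φ (ArSing.xMap k 1 s) * uu k = ArSing.xMap k 1 s * uu k := by
  let F : PowerSeries k →ₗ[k] ArSing.ring k 1 :=
    { toFun := fun s => φ (ArSing.xMap k 1 s) * uu k - ArSing.xMap k 1 s * uu k
      map_add' := fun a b => by
        simp only [map_add]
        ring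
      map_smul' := fun c a => by
        simp only [map_smul, RingHom.id_apply, smul_mul_assoc, smul_sub] }
  have hF : ∀ s, F s = φ (ArSing.xMap k 1 s) * uu k - ArSing.xMap k 1 s * uu k := fun s => rfl
  have := cont_lin k 1 F (by
    intro n
    rw [hF, map_pow, map_pow, xMap_X, phi_x_pow_u k h2 φ hφu hφv, sub_self]) (by
    intro N s
    refine ⟨ArSing.x k 1 ^ N * (φ (ArSing.xMap k 1 s) * uu k - ArSing.xMap k 1 s * uu k), ?_⟩
    rw [hF, map_mul, map_mul, map_pow, map_pow, xMap_X]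
    have e : φ (ArSing.x k 1) ^ (2 * N) * φ (ArSing.xMap k 1 s) * uu k
        = φ (ArSing.xMap k 1 s) * (φ (ArSing.x k 1) ^ (2 * N) * uu k) := by ring
    rw [e, phi_x_pow_u k h2 φ hφu hφv]
    ring) s
  rw [hF, sub_eq_zero] at this
  exact this

/-- `s(t) ↦ s(-2 t^2)` -/
noncomputable def Psi : PowerSeries k →ₐ[k] PowerSeries k := Ev.comp (rs (-2 : k))

lemma Ev_C (a : k) : Ev (PowerSeries.C a : PowerSeries k) = PowerSeries.C a := by
  have : (PowerSeries.C a : PowerSeries k) = algebraMap k (PowerSeries k) a := by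
    rw [PowerSeries.algebraMap_apply, Algebra.algebraMap_self, RingHom.id_apply]
  rw [this, AlgHom.commutes]

lemma rs_C (c a : k) : rs c (PowerSeries.C a : PowerSeries k) = PowerSeries.C a := by
  have : (PowerSeries.C a : PowerSeries k) = algebraMap k (PowerSeries k) a := by
    rw [PowerSeries.algebraMap_apply, Algebra.algebraMap_self, RingHom.id_apply]
  rw [this, AlgHom.commutes]

lemma xMap_C_neg_two : ArSing.xMap k 1 (PowerSeries.C (-2 : k)) = -2 := by
  rw [xMap_C, map_neg, map_ofNat]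

lemma xMap_Psi_X_pow (n : ℕ) :
    ArSing.xMap k 1 (Psi k (PowerSeries.X ^ n)) = (-2 * ArSing.x k 1 ^ 2) ^ n := by
  rw [map_pow, map_pow]
  congr 1
  unfold Psi
  rw [AlgHom.comp_apply, rs_X, map_mul, Ev_C, Ev_X, map_mul, map_pow, xMap_X, xMap_C_neg_two]

lemma phi_v (h2 : (2 : k) ≠ 0) (φ : ArSing.ring k 1 →ₐ[k] ArSing.ring k 1)
    (hφu : φ (uu k) = uu k) (hφv : φ (vv k) = vv k ^ 2) (s : PowerSeries k) :
    φ (ArSing.xMap k 1 s) * vv k ^ 2 = ArSing.xMap k 1 (Psi k s) * vv k ^ 2 := by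
  let F : PowerSeries k →ₗ[k] ArSing.ring k 1 :=
    { toFun := fun s => φ (ArSing.xMap k 1 s) * vv k ^ 2 - ArSing.xMap k 1 (Psi k s) * vv k ^ 2
      map_add' := fun a b => by
        simp only [map_add]
        ring
      map_smul' := fun c a => by
        simp only [map_smul, RingHom.id_apply, smul_mul_assoc, smul_sub] }
  have hF : ∀ s, F s
      = φ (ArSing.xMap k 1 s) * vv k ^ 2 - ArSing.xMap k 1 (Psi k s) * vv k ^ 2 := fun s => rfl
  have := cont_lin k 1 F (by
    intro n
    rw [hF, xMap_Psi_X_pow, map_pow, map_pow, xMap_X, phi_x_pow_v k h2 φ hφu hφv, sub_self]) (by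
    intro N s
    refine ⟨(-2) ^ (2 * N) * ArSing.x k 1 ^ (3 * N) * (φ (ArSing.xMap k 1 s) * vv k ^ 2
      - ArSing.xMap k 1 (Psi k s) * vv k ^ 2), ?_⟩
    rw [hF, map_mul (Psi k), map_mul, map_mul, map_mul, xMap_Psi_X_pow, map_pow, map_pow, xMap_X]
    have e : φ (ArSing.x k 1) ^ (2 * N) * φ (ArSing.xMap k 1 s) * vv k ^ 2
        = φ (ArSing.xMap k 1 s) * (φ (ArSing.x k 1) ^ (2 * N) * vv k ^ 2) := by ring
    rw [e, phi_x_pow_v k h2 φ hφu hφv]
    ring) s
  rw [hF, sub_eq_zero] at this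
  exact this

/-! ### `σ` and `φ` in normal form -/

lemma sigma_NF (σ : ArSing.ring k 1 →ₐ[k] ArSing.ring k 1)
    (hx : σ (ArSing.x k 1) = ArSing.y k 1) (hy : σ (ArSing.y k 1) = ArSing.x k 1)
    (a₀ : k) (P Q : PowerSeries k) :
    σ (NF k a₀ P Q) = NF k a₀ P (-rs (-1 : k) Q) := by
  have hu : σ (uu k) = uu k := by
    unfold uu
    rw [map_add, hx, hy]
    ring
  have hv : σ (vv k) = -vv k := by
    unfold vv
    rw [map_sub, hx, hy]
    ring
  unfold NF
  rw [map_add, map_add, map_mul, map_mul, hu, hv, AlgHom.commutes, sigma_u k σ hx, map_neg]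
  linear_combination -(sigma_v k σ hx Q)

lemma phi_NF (h2 : (2 : k) ≠ 0) (φ : ArSing.ring k 1 →ₐ[k] ArSing.ring k 1)
    (hφu : φ (uu k) = uu k) (hφv : φ (vv k) = vv k ^ 2) (a₀ : k) (P Q : PowerSeries k) :
    φ (NF k a₀ P Q) = NF k a₀ P (PowerSeries.C (-2 : k) * PowerSeries.X * Psi k Q) := by
  unfold NF
  rw [map_add, map_add, map_mul, map_mul, hφu, hφv, AlgHom.commutes, phi_u k h2 φ hφu hφv,
    phi_v k h2 φ hφu hφv, map_mul, map_mul, xMap_X, xMap_C_neg_two]
  linear_combination (ArSing.xMap k 1 (Psi k Q)) * vsq k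

end Node


/-- K algebraically closed of characteristic ≠ 2, σ the involution of the node algebra A_1 =
k[[x,y]]/(y^2 - x^2) exchanging x and y, and φ : A_1 → A_1 the k-algebra map with φ(x + y) = x + y
and φ(y - x) = (y - x)^2 (in the branch coordinates u = x + y, v = y - x with uv = 0: u ↦ u, v ↦
v^2). Then the invariant subalgebra of σ is the image of φ and φ is injective (so A_1^σ ≅ A_1), and
the fixed locus of σ is the branch v = 0: the ideal generated by the elements σ(a) - a is the ideal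
(y - x), a minimal prime ideal generated by a zero-divisor (so not a Cartier divisor). Moreover φ is
not flat. (The published statement asserts that this extension is faithfully flat; it is not: as a
module over the invariant subalgebra B = k[[u,w]]/(uw), w = v^2, A_1 is B ⊕ (B/uB)·v, and B/uB is
not flat over B — equivalently the fibre length jumps from 1 on the branch w = 0 to 2 at the closed
point.) -/
theorem result (k : Type u) [Field k] [IsAlgClosed k]
    (h2 : (2 : k) ≠ 0)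
    (σ : ArSing.ring k 1 ≃ₐ[k] ArSing.ring k 1) (hx : σ (ArSing.x k 1) = ArSing.y k 1)
    (hy : σ (ArSing.y k 1) = ArSing.x k 1)
    (φ : ArSing.ring k 1 →ₐ[k] ArSing.ring k 1) (hφu : φ (ArSing.x k 1 + ArSing.y k 1) = ArSing.x k 1 + ArSing.y k 1)
    (hφv : φ (ArSing.y k 1 - ArSing.x k 1) = (ArSing.y k 1 - ArSing.x k 1) ^ 2) :
    (∀ a : ArSing.ring k 1, σ a = a ↔ a ∈ φ.range) ∧ Function.Injective φ ∧
    Ideal.span (Set.range fun a : ArSing.ring k 1 => σ a - a) = Ideal.span {ArSing.y k 1 - ArSing.x k 1} ∧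
    (ArSing.y k 1 - ArSing.x k 1) ∉ nonZeroDivisors (ArSing.ring k 1) ∧
    Ideal.span {ArSing.y k 1 - ArSing.x k 1} ∈ minimalPrimes (ArSing.ring k 1) ∧
    ¬ φ.toRingHom.Flat := by
  have hφu' : φ (uu k) = uu k := hφu
  have hφv' : φ (vv k) = vv k ^ 2 := hφv
  change (∀ a : ArSing.ring k 1, σ a = a ↔ a ∈ φ.range) ∧ Function.Injective φ ∧
    Ideal.span (Set.range fun a : ArSing.ring k 1 => σ a - a) = Ideal.span {vv k} ∧
    vv k ∉ nonZeroDivisors (ArSing.ring k 1) ∧
    Ideal.span {vv k} ∈ minimalPrimes (ArSing.ring k 1) ∧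
    ¬ φ.toRingHom.Flat
  have hσN : ∀ a₀ P Q, σ (NF k a₀ P Q) = NF k a₀ P (-rs (-1 : k) Q) :=
    fun a₀ P Q => sigma_NF k σ.toAlgHom hx hy a₀ P Q
  have hφN : ∀ a₀ P Q, φ (NF k a₀ P Q)
      = NF k a₀ P (PowerSeries.C (-2 : k) * PowerSeries.X * Psi k Q) :=
    fun a₀ P Q => phi_NF k h2 φ hφu' hφv' a₀ P Q
  have hm2 : (-2 : k) ≠ 0 := neg_ne_zero.2 h2
  have hu_ne : uu k ≠ 0 := by
    intro h
    rw [uu_rep] at h
    obtain ⟨-, h1⟩ := rep_zero k 1 _ _ h
    exact one_ne_zero h1
  have hBr_u : Br k (uu k) = 2 * PowerSeries.X := by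
    rw [uu_rep, Br_rep]
    ring
  have h2X : (2 : PowerSeries k) * PowerSeries.X ≠ 0 :=
    mul_ne_zero (two_ne_zero_S k h2) PowerSeries.X_ne_zero
  refine ⟨?_, ?_, ?_, ?_, ?_, ?_⟩
  · -- fixed points
    intro a
    constructor
    · intro h
      obtain ⟨a₀, P, Q, rfl⟩ := NF_exists k h2 a
      rw [hσN] at h
      obtain ⟨-, -, hQ⟩ := NF_unique k h2 _ _ _ _ _ _ h
      have hQ' : rs (-1 : k) Q = -Q := by linear_combination -hQ
      rw [rs_neg_one_eq_neg_iff h2] at hQ'
      have hQX : Q = PowerSeries.X * Ev (od Q) := by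
        conv_lhs => rw [ev_od Q, hQ', map_zero, zero_add]
      set Q₀ : PowerSeries k :=
        PowerSeries.mk fun n => ((-2 : k)⁻¹) ^ (n + 1) * PowerSeries.coeff n (od Q) with hQ₀
      have hQ₀' : PowerSeries.C (-2 : k) * rs (-2 : k) Q₀ = od Q := by
        ext n
        rw [PowerSeries.coeff_C_mul, coeff_rs, hQ₀, PowerSeries.coeff_mk]
        have : (-2 : k) * ((-2 : k) ^ n * (((-2 : k)⁻¹) ^ (n + 1) * PowerSeries.coeff n (od Q)))
            = ((-2 : k) * (-2 : k)⁻¹) ^ (n + 1) * PowerSeries.coeff n (od Q) := by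
          rw [mul_pow]
          ring
        rw [this, mul_inv_cancel₀ hm2, one_pow, one_mul]
      refine ⟨NF k a₀ P Q₀, ?_⟩
      show φ _ = _
      rw [hφN]
      congr 1
      conv_rhs => rw [hQX, ← hQ₀', map_mul, Ev_C]
      unfold Psi
      rw [AlgHom.comp_apply]
      ring
    · rintro ⟨b, rfl⟩
      obtain ⟨a₀, P, Q, rfl⟩ := NF_exists k h2 b
      show σ (φ _) = φ _
      rw [hφN, hσN]
      congr 1
      unfold Psi
      rw [AlgHom.comp_apply, mul_assoc, map_mul, rs_C]
      have := rs_neg_one_EvX (0 : PowerSeries k) (rs (-2 : k) Q)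
      rw [map_zero, zero_add, zero_sub] at this
      rw [this]
      ring
  · -- injective
    rw [injective_iff_map_eq_zero]
    intro b hb
    obtain ⟨a₀, P, Q, rfl⟩ := NF_exists k h2 b
    rw [hφN] at hb
    obtain ⟨ha, hP, hQ⟩ := NF_zero k h2 _ _ _ hb
    have hC : (PowerSeries.C (-2 : k) : PowerSeries k) ≠ 0 := by
      intro h0
      have := congrArg PowerSeries.constantCoeff h0
      simp only [PowerSeries.constantCoeff_C, map_zero] at this
      exact hm2 this
    have h1 : Psi k Q = 0 :=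
      (mul_eq_zero.1 hQ).resolve_left (mul_ne_zero hC PowerSeries.X_ne_zero)
    unfold Psi at h1
    rw [AlgHom.comp_apply] at h1
    obtain ⟨h3, -⟩ := EvX_unique (rs (-2 : k) Q) 0 0 0 (by rw [h1]; simp)
    have hQ0 : Q = 0 := by
      ext n
      have := congrArg (PowerSeries.coeff n) h3
      rw [coeff_rs, map_zero] at this
      rw [map_zero]
      exact (mul_eq_zero.1 this).resolve_left (pow_ne_zero _ hm2)
    rw [ha, hP, hQ0]
    unfold NF
    simp
  · -- the ideal
    apply le_antisymm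
    · rw [Ideal.span_le]
      rintro _ ⟨a, rfl⟩
      obtain ⟨a₀, P, Q, rfl⟩ := NF_exists k h2 a
      show σ _ - _ ∈ _
      rw [hσN, NF_sub, sub_self, sub_self]
      unfold NF
      rw [map_zero, map_zero, zero_mul, zero_add, zero_add]
      exact Ideal.mul_mem_left _ _ (Ideal.mem_span_singleton_self _)
    · rw [Ideal.span_le]
      rintro _ rfl
      have hmem : σ (vv k) - vv k
          ∈ Ideal.span (Set.range fun a : ArSing.ring k 1 => σ a - a) :=
        Ideal.subset_span ⟨vv k, rfl⟩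
      have := Ideal.mul_mem_left _ (-algebraMap k (ArSing.ring k 1) ((2 : k)⁻¹)) hmem
      have e : -algebraMap k (ArSing.ring k 1) ((2 : k)⁻¹) * (σ (vv k) - vv k) = vv k := by
        have hv : σ (vv k) = -vv k := by
          unfold vv
          rw [map_sub, hx, hy]
          ring
        rw [hv]
        linear_combination (vv k) * half_two k h2
      rw [e] at this
      exact this
  · -- zero divisor
    intro h
    rw [mem_nonZeroDivisors_iff_right] at h
    exact hu_ne (h (uu k) (uv k))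
  · -- minimal prime
    rw [minimalPrimes_eq_minimals]
    refine ⟨?_, ?_⟩
    · rw [Ideal.isPrime_iff]
      constructor
      · intro htop
        have : (1 : ArSing.ring k 1) ∈ Ideal.span {vv k} := by rw [htop]; trivial
        rw [Ideal.mem_span_singleton'] at this
        obtain ⟨c, hc⟩ := this
        have := congrArg (constR k 1) hc
        rw [map_mul, constR_vv, mul_zero, map_one] at this
        exact zero_ne_one this
      · intro a b hab
        rw [mem_span_vv_iff, Br_mul] at hab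
        rw [mem_span_vv_iff, mem_span_vv_iff]
        exact mul_eq_zero.1 hab
    · intro q hq hle
      haveI := hq
      have huv : uu k * vv k ∈ q := by rw [uv]; exact q.zero_mem
      rcases hq.mem_or_mem huv with hu | hv
      · exfalso
        have := hle hu
        rw [mem_span_vv_iff, hBr_u] at this
        exact h2X this
      · rw [Ideal.span_le]
        rintro _ rfl
        exact hv
  · -- not flat
    intro hflat
    have hrel : φ.toRingHom (uu k) * vv k + φ.toRingHom 0 * 0 = 0 := by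
      show φ (uu k) * vv k + φ.toRingHom 0 * 0 = 0
      rw [hφu', uv, mul_zero, add_zero]
    obtain ⟨κ, a₀, a₁, yv, h1, -, h3⟩ := flat_two_rel φ.toRingHom hflat _ _ _ _ hrel
    have hw : ∀ j, ∃ c, a₀ j = c * vv k := by
      intro j
      have hj := h3 j
      rw [zero_mul, add_zero] at hj
      have hB := congrArg (Br k) hj
      rw [Br_mul, hBr_u] at hB
      have hB0 : Br k 0 = 0 := by
        have := (mem_span_vv_iff k 0).1 (Ideal.zero_mem _)
        exact this
      rw [hB0] at hB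
      have : Br k (a₀ j) = 0 := (mul_eq_zero.1 hB).resolve_left h2X
      rw [← mem_span_vv_iff, Ideal.mem_span_singleton'] at this
      obtain ⟨c, hc⟩ := this
      exact ⟨c, hc.symm⟩
    choose c hc using hw
    have hx1 : vv k = ∑ j, φ (a₀ j) * yv j := h1
    have hx2 : vv k * (1 - vv k * ∑ j, φ (c j) * yv j) = 0 := by
      rw [mul_sub, mul_one, Finset.mul_sum, Finset.mul_sum]
      nth_rewrite 1 [hx1]
      rw [sub_eq_zero]
      apply Finset.sum_congr rfl
      intro j _
      rw [hc j, map_mul, hφv']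
      ring
    have hunit : IsUnit (1 - vv k * ∑ j, φ (c j) * yv j) := by
      apply isUnit_of_constR
      rw [map_sub, map_one, map_mul, constR_vv, zero_mul, sub_zero]
      exact one_ne_zero
    exact vv_ne_zero k (hunit.mul_left_eq_zero.1 hx2)

end Groth.Agent.S14096
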