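import Groth.Statements.S14097
import Mathlib

set_option autoImplicit false
universe u
open ArSing

namespace Groth.Agent.S14097

/-- In any commutative ring, if h_0, …, h_(k-1) (k ≥ 2) and τ satisfy h_i^2 + τ h_i = 0, then ∏_(i ≤
k-2) (h_i + h_(i+1) + τ) = Σ_(j ≤ k-1) τ^(k-1-j) e_j(h), e_j the elementary symmetric functions.
(The published statement is the resulting formula for the class of the small diagonal in the Chow
ring of (P^1)^k, where the h_i are the hyperplane classes of the factors and satisfy these
relations; only the ring identity is asserted here.) -/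
theorem result (A : Type u) [CommRing A] (k : ℕ) (hk : 2 ≤ k) (τ : A)
    (h : ℕ → A) (hrel : ∀ i, i < k → h i ^ 2 + τ * h i = 0) :
    ∏ i ∈ Finset.range (k - 1), (h i + h (i + 1) + τ) =
      ∑ j ∈ Finset.range k, τ ^ (k - 1 - j) * (((Finset.range k).val.map h).esymm j) := by
  have hcons : ∀ (a : A) (s : Multiset A) (n : ℕ),
      (a ::ₘ s).esymm (n+1) = s.esymm (n+1) + a * s.esymm n := by
    intro a s n
    simp only [Multiset.esymm, Multiset.powersetCard_cons, Multiset.map_add, Multiset.sum_add,
      Multiset.map_map, Function.comp_def, Multiset.prod_cons, Multiset.sum_map_mul_left]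
  have hzero : ∀ s : Multiset A, s.esymm 0 = 1 := by intro s; simp [Multiset.esymm]
  set M : ℕ → Multiset A := fun n => (Finset.range n).val.map h with hM
  have hMs : ∀ n, M (n+1) = h n ::ₘ M n := by
    intro n; simp only [hM, Finset.range_val, Multiset.range_succ, Multiset.map_cons]
  have hMcard : ∀ n, Multiset.card (M n) = n := by intro n; simp [hM]
  have htop : ∀ n, (M n).esymm n = ∏ i ∈ Finset.range n, h i := by
    intro n
    have := Multiset.powersetCard_self (M n)
    rw [hMcard] at this
    simp only [Multiset.esymm, this, Multiset.map_singleton, Multiset.sum_singleton]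
    rfl
  have L1 : ∀ n, n + 1 ≤ k → (∏ i ∈ Finset.range n, (h i + h (i + 1) + τ)) * h n =
      ∏ i ∈ Finset.range (n+1), h i := by
    intro n
    induction n with
    | zero => intro _; simp
    | succ n ih =>
      intro hn
      rw [Finset.prod_range_succ, Finset.prod_range_succ _ (n+1), ← ih (by omega)]
      have := hrel (n+1) (by omega)
      linear_combination (∏ i ∈ Finset.range n, (h i + h (i + 1) + τ)) * this
  have L2 : ∀ n, n + 1 ≤ k → ∏ i ∈ Finset.range n, (h i + h (i + 1) + τ) =
      ∑ j ∈ Finset.range (n+1), τ ^ (n - j) * (M (n+1)).esymm j := by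
    intro n
    induction n with
    | zero => intro _; simp [hzero]
    | succ n ih =>
      intro hn
      rw [Finset.prod_range_succ, mul_add, mul_add, L1 n (by omega), ih (by omega)]
      have hE1 : (∑ j ∈ Finset.range (n+1), τ ^ (n - j) * (M (n+1)).esymm j) * τ +
          ∏ i ∈ Finset.range (n+1), h i =
          ∑ j ∈ Finset.range (n+1), τ ^ (n - j) * (M (n+1)).esymm (j+1) + τ ^ (n+1) := by
        have h3 : ∑ j ∈ Finset.range (n+1+1), τ ^ (n + 1 - j) * (M (n+1)).esymm j =
            (∑ j ∈ Finset.range (n+1), τ ^ (n - j) * (M (n+1)).esymm j) * τ +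
              ∏ i ∈ Finset.range (n+1), h i := by
          rw [Finset.sum_range_succ, Finset.sum_mul, htop, Nat.sub_self, pow_zero, one_mul]
          congr 1
          refine Finset.sum_congr rfl (fun j hj => ?_)
          have : n + 1 - j = (n - j) + 1 := by have := Finset.mem_range.mp hj; omega
          rw [this, pow_succ]; ring
        rw [← h3, Finset.sum_range_succ' _ (n+1)]
        simp only [Nat.add_sub_add_right, Nat.sub_zero, hzero, mul_one]
      rw [Finset.sum_range_succ' _ (n+1), hMs (n+1)]
      simp only [hcons, Nat.add_sub_add_right, Nat.sub_zero, hzero, mul_one, mul_add,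
        Finset.sum_add_distrib]
      have hE2 : ∑ j ∈ Finset.range (n+1), τ ^ (n - j) * (h (n+1) * (M (n+1)).esymm j) =
          (∑ j ∈ Finset.range (n+1), τ ^ (n - j) * (M (n+1)).esymm j) * h (n+1) := by
        rw [Finset.sum_mul]; refine Finset.sum_congr rfl (fun j _ => by ring)
      rw [hE2]
      linear_combination hE1
  obtain ⟨n, rfl⟩ : ∃ n, k = n + 1 := ⟨k - 1, by omega⟩
  simpa [hM] using L2 n le_rfl

end Groth.Agent.S14097
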