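import Groth.Statements.S14115
import Mathlib

set_option autoImplicit false
universe u v
open SuperComm

namespace Groth.Agent.S14115

/-- Let S be an associative unital algebra over a commutative ring R, x an element and y_0, …, y_n
elements such that the anticommutator x y_i + y_i x equals r_i · 1 for scalars r_i ∈ R. Then the
graded commutator of x with the ordered product y_0 ⋯ y_n, namely x (y_0 ⋯ y_n) + (-1)^n (y_0 ⋯ y_n)
x, equals the sum over p of (-1)^p r_p times the ordered product of the y_q with q ≠ p. (The
published statement takes x homogeneous of degree 1 and the y_i homogeneous of degree -1 in a graded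
algebra with unit in degree 0, the signs being those of the supercommutator; this row states the
identity for arbitrary elements satisfying the anticommutation relations, which is what the
computation proves.) -/
theorem result {R : Type u} {S : Type v} [CommRing R] [Ring S]
    [Algebra R S] (n : ℕ) (x : S) (y : Fin (n + 1) → S) (r : Fin (n + 1) → R)
    (h : ∀ i : Fin (n + 1), x * y i + y i * x = algebraMap R S (r i)) :
    x * (List.ofFn y).prod + (-1 : S) ^ n * ((List.ofFn y).prod * x) =
      ∑ p : Fin (n + 1), (-1 : S) ^ (p : ℕ) * (r p • (List.ofFn (fun q : Fin n => y (p.succAbove q))).prod) := by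
  have hcomm : ∀ (k : ℕ) (z : S), z * (-1 : S) ^ k = (-1 : S) ^ k * z := fun k z =>
    ((Commute.neg_one_left z).pow_left k).eq.symm
  induction n with
  | zero =>
    simp [List.ofFn_succ, h 0, Algebra.algebraMap_eq_smul_one]
  | succ n ih =>
    have ih' := ih (fun i => y i.succ) (fun i => r i.succ) (fun i => h i.succ)
    set Y' := (List.ofFn (fun i : Fin (n + 1) => y i.succ)).prod with hY'
    set T := ∑ p : Fin (n + 1), (-1 : S) ^ (p : ℕ) *
        (r p.succ • (List.ofFn (fun q : Fin n => y (p.succAbove q).succ)).prod) with hT
    have hY : (List.ofFn y).prod = y 0 * Y' := by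
      rw [List.ofFn_succ, List.prod_cons]
    have hx0 : x * y 0 = algebraMap R S (r 0) - y 0 * x := by
      rw [← h 0]; abel
    have hxY' : x * Y' = -((-1 : S) ^ n * (Y' * x)) + T := by
      rw [← ih']; abel
    have key : x * (y 0 * Y') + (-1 : S) ^ (n + 1) * (y 0 * Y' * x)
        = algebraMap R S (r 0) * Y' - y 0 * T := by
      have e1 : x * (y 0 * Y') = algebraMap R S (r 0) * Y' - y 0 * (x * Y') := by
        rw [← mul_assoc, hx0, sub_mul, mul_assoc]
      rw [e1, hxY', mul_add, mul_neg, ← mul_assoc (y 0), hcomm n (y 0), pow_succ]
      noncomm_ring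
    have hsum : ∀ p : Fin (n + 1),
        (List.ofFn (fun q : Fin (n + 1) => y (p.succ.succAbove q))).prod
          = y 0 * (List.ofFn (fun q : Fin n => y (p.succAbove q).succ)).prod := by
      intro p
      rw [List.ofFn_succ, List.prod_cons]
      simp only [Fin.succ_succAbove_zero, Fin.succ_succAbove_succ]
    have h0 : (List.ofFn (fun q : Fin (n + 1) => y ((0 : Fin (n + 2)).succAbove q))).prod = Y' := by
      simp only [Fin.succAbove_zero, hY']
    rw [hY, key, Fin.sum_univ_succ, h0, Fin.val_zero, pow_zero, one_mul, Algebra.smul_def,
      sub_eq_add_neg]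
    congr 1
    rw [hT, Finset.mul_sum, ← Finset.sum_neg_distrib]
    refine Finset.sum_congr rfl (fun p _ => ?_)
    rw [hsum p, Fin.val_succ, pow_succ, ← mul_assoc, hcomm, mul_assoc, mul_smul_comm]
    noncomm_ring
    exact smul_comm _ _ _

end Groth.Agent.S14115
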