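import Groth.Statements.S6034
import Groth.Agent.Lib.Helper21HZB6

set_option autoImplicit false
universe u
open CategoryTheory CategoryTheory.Limits TopologicalSpace AlgebraicGeometry
open LocCohZ

namespace Groth.Agent.S6034

/-- Let X be a locally Noetherian scheme, Y a closed subset with open complement U, M a coherent
O_X-module with underlying abelian sheaf F and n a natural number. Then ℋ^i_Y(F) = 0 for all i < n
if and only if depth M_x ≥ n for every x ∈ Y. -/
theorem result (X : Scheme.{u}) [IsLocallyNoetherian X] (U : X.Opens)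
    (M : X.Modules) (hM : Coh.IsCoh M) (n : ℕ) :
    (∀ i : ℕ, i < n → IsZero ((LocCohZ.HZsh (X := X.carrier) U i).obj (Coh.toAb M))) ↔
      ∀ x : X, x ∉ (U : Set X) →
        (n : ℕ∞) ≤ LocCoh.depth (X.presheaf.stalk x) (M.presheaf.stalk x) := by
  haveI : M.IsQuasicoherent := hM.1
  haveI : SheafOfModules.IsFiniteType (R := X.ringCatSheaf) M := hM.2
  have key : ∀ (V : X.Opens), IsAffineOpen V →
      ((∀ i : ℕ, i < n →
        Subsingleton (LocCohZ.HZ (X := X.carrier) (Coh.toAb M) i (inf_le_left : V ⊓ U ≤ V))) ↔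
      ∀ x : X, x ∈ V → x ∉ U →
        (n : ℕ∞) ≤ LocCoh.depth (X.presheaf.stalk x) (M.presheaf.stalk x)) := by
    intro V hV
    rw [← Groth.Agent.Lib.Helper21.HZB.affine_local_iff X M V hV U n]
    refine forall_congr' fun i => forall_congr' fun _ => ?_
    obtain ⟨e⟩ := Groth.Agent.Lib.Helper21.HZB.nonempty_HZ_equiv_HZM X M U V i
    exact e.toEquiv.subsingleton_congr
  constructor
  · intro h x hxU
    have h' := (Groth.Agent.Lib.Helper16.LocCohShift.HZsh_isZero_iff_HZ (X := X.carrier)
      (Coh.toAb M) U n).1 h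
    obtain ⟨V, hV, hxV, -⟩ := (Opens.isBasis_iff_nbhd.1 X.isBasis_affineOpens)
      (show x ∈ (⊤ : X.Opens) from trivial)
    exact (key V hV).1 (fun i hi => h' V i hi) x hxV hxU
  · intro h i hi
    refine Groth.Agent.Lib.Helper21.HZB.isZero_HZsh_of_basis (X := X.carrier) U (Coh.toAb M)
      X.affineOpens X.isBasis_affineOpens i ?_
    intro V hV
    exact (key V hV).2 (fun x _ hxU => h x hxU) i hi

end Groth.Agent.S6034
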