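import Groth.Statements.S14118
import Mathlib.Tactic.Ring
import Mathlib.Tactic.Linarith

set_option autoImplicit false
universe u v w
open SuperComm

namespace Groth.Agent.S14118

set_option linter.unusedSectionVars false
section
variable {R : Type u} [CommRing R] {ι : Type v} [Fintype ι] [DecidableEq ι]
    (deg : ι → ℤ) (M : ι → Type w) [∀ i, AddCommGroup (M i)] [∀ i, Module R (M i)]
    [∀ i, Module.Free R (M i)] [∀ i, Module.Finite R (M i)]

theorem sum_single_proj :
    (∑ j : ι, (LinearMap.single R M j) ∘ₗ (LinearMap.proj j : (Π k, M k) →ₗ[R] M j)) =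
      LinearMap.id := by
  ext x k
  simp [Finset.sum_apply]

theorem str_formula (T : (Π k, M k) →ₗ[R] (Π k, M k)) :
    LinearMap.trace R (Π k, M k)
      ((∑ i : ι, (LinearMap.single R M i) ∘ₗ (((-1 : R) ^ (deg i).natAbs) •
        (LinearMap.proj i : (Π k, M k) →ₗ[R] M i))) ∘ₗ T) =
    ∑ i : ι, ((-1 : R) ^ (deg i).natAbs) *
      LinearMap.trace R (M i) ((LinearMap.proj i) ∘ₗ T ∘ₗ (LinearMap.single R M i)) := by
  have hcomp : ∀ (E : (Π k, M k) →ₗ[R] (Π k, M k)), E ∘ₗ T = E * T := fun E => rfl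
  rw [hcomp, Finset.sum_mul, map_sum]
  apply Finset.sum_congr rfl
  intro i _
  have h1 : (LinearMap.single R M i ∘ₗ (((-1 : R) ^ (deg i).natAbs) •
      (LinearMap.proj i : (Π k, M k) →ₗ[R] M i))) * T =
      (LinearMap.single R M i) ∘ₗ ((((-1 : R) ^ (deg i).natAbs) •
      (LinearMap.proj i : (Π k, M k) →ₗ[R] M i)) ∘ₗ T) := rfl
  rw [h1, LinearMap.trace_comp_comm']
  have h2 : ((((-1 : R) ^ (deg i).natAbs) • (LinearMap.proj i : (Π k, M k) →ₗ[R] M i)) ∘ₗ T) ∘ₗ
      LinearMap.single R M i = ((-1 : R) ^ (deg i).natAbs) •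
      ((LinearMap.proj i) ∘ₗ T ∘ₗ (LinearMap.single R M i)) := by
    ext x
    simp
  rw [h2, map_smul, smul_eq_mul]

theorem block_comp (φ ψ : (Π k, M k) →ₗ[R] (Π k, M k)) (i : ι) :
    (LinearMap.proj i) ∘ₗ (φ ∘ₗ ψ) ∘ₗ (LinearMap.single R M i) =
      ∑ j : ι, ((LinearMap.proj i) ∘ₗ φ ∘ₗ (LinearMap.single R M j)) ∘ₗ
        ((LinearMap.proj j) ∘ₗ ψ ∘ₗ (LinearMap.single R M i)) := by
  have h : φ ∘ₗ ψ = φ ∘ₗ (∑ j : ι, (LinearMap.single R M j) ∘ₗ
      (LinearMap.proj j : (Π k, M k) →ₗ[R] M j)) ∘ₗ ψ := by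
    rw [sum_single_proj]; rfl
  rw [h]
  ext x
  simp only [LinearMap.coe_comp, Function.comp_apply, LinearMap.coe_sum, Finset.sum_apply, map_sum]

theorem sign_aux (a b di dj : ℤ) (h1 : di = dj + a) (h2 : dj = di + b) :
    ((-1 : R) ^ di.natAbs) = ((-1 : R) ^ (a * b).natAbs) * ((-1 : R) ^ dj.natAbs) := by
  have hb : b = -a := by linarith
  subst hb
  rw [← pow_add, neg_one_pow_eq_pow_mod_two, neg_one_pow_eq_pow_mod_two (n := _ + _)]
  congr 1
  have haa : (a * a) % 2 = a % 2 := by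
    rcases Int.emod_two_eq_zero_or_one a with h | h <;> simp [Int.mul_emod, h]
  have e1 : (a * -a).natAbs = (a * a).natAbs := by
    rw [mul_neg, Int.natAbs_neg]
  rw [e1]
  generalize a * a = t at haa
  omega

end

/-- Let R be a commutative ring and M a finitely ℤ-graded R-module with finitely many nonzero graded
pieces, each finite free, presented as a finite family of finite free R-modules M_i with integer
degrees deg i (the piece of degree n being the product of the M_i with deg i = n); an endomorphism φ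
of the total module Π_i M_i has degree a when its (i, j) block vanishes unless deg j = deg i + a;
the supertrace of an endomorphism is the trace of its composite with the grading involution ε = Σ_i
(-1)^{deg i} pr_i. If φ and ψ have degrees a and b, the supertrace of the supercommutator φψ -
(-1)^{ab} ψφ vanishes. (The published statement allows the graded pieces to be finitely generated
projective; this row takes them finite free, where the trace is the ordinary trace of a free
module.) -/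
theorem result {R : Type u} [CommRing R] {ι : Type v} [Fintype ι] [DecidableEq ι]
    (deg : ι → ℤ) (M : ι → Type w) [∀ i, AddCommGroup (M i)] [∀ i, Module R (M i)]
    [∀ i, Module.Free R (M i)] [∀ i, Module.Finite R (M i)]
    (a b : ℤ) (φ ψ : (Π k, M k) →ₗ[R] (Π k, M k))
    (hφ : ∀ i j : ι, deg j ≠ deg i + a → (LinearMap.proj j) ∘ₗ φ ∘ₗ (LinearMap.single R M i) = 0)
    (hψ : ∀ i j : ι, deg j ≠ deg i + b → (LinearMap.proj j) ∘ₗ ψ ∘ₗ (LinearMap.single R M i) = 0) :
    LinearMap.trace R (Π k, M k)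
      ((∑ i : ι, (LinearMap.single R M i) ∘ₗ (((-1 : R) ^ (deg i).natAbs) • (LinearMap.proj i : (Π k, M k) →ₗ[R] M i))) ∘ₗ (φ ∘ₗ ψ - ((-1 : R) ^ (a * b).natAbs) • (ψ ∘ₗ φ))) = 0 := by
  rw [str_formula]
  have key : ∀ i : ι, LinearMap.trace R (M i)
      ((LinearMap.proj i) ∘ₗ (φ ∘ₗ ψ - ((-1 : R) ^ (a * b).natAbs) • (ψ ∘ₗ φ)) ∘ₗ
        (LinearMap.single R M i)) =
      ∑ j : ι, (LinearMap.trace R (M i) (((LinearMap.proj i) ∘ₗ φ ∘ₗ (LinearMap.single R M j)) ∘ₗ
        ((LinearMap.proj j) ∘ₗ ψ ∘ₗ (LinearMap.single R M i))) -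
        ((-1 : R) ^ (a * b).natAbs) * LinearMap.trace R (M j)
          (((LinearMap.proj j) ∘ₗ φ ∘ₗ (LinearMap.single R M i)) ∘ₗ
            ((LinearMap.proj i) ∘ₗ ψ ∘ₗ (LinearMap.single R M j)))) := by
    intro i
    have h : (LinearMap.proj i) ∘ₗ (φ ∘ₗ ψ - ((-1 : R) ^ (a * b).natAbs) • (ψ ∘ₗ φ)) ∘ₗ
        (LinearMap.single R M i) =
        (LinearMap.proj i) ∘ₗ (φ ∘ₗ ψ) ∘ₗ (LinearMap.single R M i) -
          ((-1 : R) ^ (a * b).natAbs) • ((LinearMap.proj i) ∘ₗ (ψ ∘ₗ φ) ∘ₗ
            (LinearMap.single R M i)) := by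
      ext x
      simp
    rw [h, map_sub, map_smul, block_comp, block_comp, map_sum, map_sum, smul_eq_mul,
      Finset.mul_sum, ← Finset.sum_sub_distrib]
    apply Finset.sum_congr rfl
    intro j _
    rw [LinearMap.trace_comp_comm' ((LinearMap.proj j) ∘ₗ φ ∘ₗ (LinearMap.single R M i))]
  simp only [key, Finset.mul_sum, mul_sub, Finset.sum_sub_distrib]
  rw [sub_eq_zero]
  conv_rhs => rw [Finset.sum_comm]
  apply Finset.sum_congr rfl
  intro i _
  apply Finset.sum_congr rfl
  intro j _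
  by_cases h1 : deg i = deg j + a
  · by_cases h2 : deg j = deg i + b
    · rw [sign_aux (R := R) a b (deg i) (deg j) h1 h2]
      ring
    · rw [hψ i j h2]
      simp
  · rw [hφ j i h1]
    simp

end Groth.Agent.S14118
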