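import Groth.Statements.S1412
import Mathlib

set_option autoImplicit false
universe u
open FlatMor

namespace Groth.Agent.S1412

section Dev
open AlgebraicGeometry CategoryTheory Limits TopologicalSpace

theorem flat_fromSpecStalk (X : Scheme.{u}) (x : X) : Flat (X.fromSpecStalk x) := by
  obtain ⟨_, ⟨U, hU, rfl⟩, hxU, -⟩ :=
    X.isBasis_affineOpens.exists_subset_of_mem_open (Set.mem_univ x) isOpen_univ
  rw [← hU.fromSpecStalk_eq_fromSpecStalk hxU, IsAffineOpen.fromSpecStalk]
  have : Flat (Spec.map (X.presheaf.germ U x hxU)) := by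
    rw [Flat.SpecMap_iff]
    let := X.presheaf.algebra_section_stalk ⟨x, hxU⟩
    have := hU.isLocalization_stalk ⟨x, hxU⟩
    have hfl : Module.Flat Γ(X, U) (X.presheaf.stalk x) :=
      IsLocalization.flat _ (hU.primeIdealOf ⟨x, hxU⟩).asIdeal.primeCompl
    exact hfl
  infer_instance

theorem weaklyEtale_fromSpecStalk (X : Scheme.{u}) (x : X) : WeaklyEtale (X.fromSpecStalk x) := by
  have := flat_fromSpecStalk X x
  exact { }

theorem flat_of_fromSpecStalk_comp {X Z : Scheme.{u}} (h : X ⟶ Z)
    (H : ∀ x, Flat (X.fromSpecStalk x ≫ h)) : Flat h := by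
  apply Flat.of_stalkMap
  intro x
  have h1 := H x
  rw [← Scheme.SpecMap_stalkMap_fromSpecStalk] at h1
  have h2 : Flat (Spec.map (h.stalkMap x)) :=
    MorphismProperty.of_postcomp (W := @Flat) (W' := MorphismProperty.monomorphisms _)
      _ (Z.fromSpecStalk (h x)) (inferInstanceAs (Mono _)) h1
  exact Flat.SpecMap_iff.mp h2

theorem weaklyEtale_of_fromSpecStalk_comp {X Y : Scheme.{u}} (f : X ⟶ Y)
    (H : ∀ x, WeaklyEtale (X.fromSpecStalk x ≫ f)) : WeaklyEtale f := by
  have h1 : Flat f := flat_of_fromSpecStalk_comp f (fun x => (H x).flat)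
  have h2 : Flat (pullback.diagonal f) := by
    apply flat_of_fromSpecStalk_comp
    intro x
    rw [pullback.comp_diagonal]
    have := (H x).flat_diagonal
    have hj := flat_fromSpecStalk X x
    have : Flat (pullback.map (X.fromSpecStalk x ≫ f) (X.fromSpecStalk x ≫ f) f f
        (X.fromSpecStalk x) (X.fromSpecStalk x) (𝟙 Y) (by simp) (by simp)) :=
      MorphismProperty.pullbackMap (P := @Flat) hj hj rfl rfl
    infer_instance
  exact { }


theorem weaklyEtale_SpecMap_iff {R A : CommRingCat.{u}} (φ : R ⟶ A) :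
    WeaklyEtale (Spec.map φ) ↔ φ.hom.Flat ∧
      (letI := φ.hom.toAlgebra
       (Algebra.TensorProduct.lmul' (S := ↑A) (↑R)).toRingHom.Flat) := by
  let := φ.hom.toAlgebra
  have hφ : φ = CommRingCat.ofHom (algebraMap R A) := rfl
  rw [weaklyEtale_iff, Flat.SpecMap_iff]
  refine and_congr Iff.rfl ?_
  rw [hφ, diagonal_SpecMap R A, MorphismProperty.cancel_right_of_respectsIso (P := @Flat),
    Flat.SpecMap_iff]
  rfl

end Dev

open AlgebraicGeometry CategoryTheory Limits in
/-- A morphism of schemes f : X → Y is weakly étale (flat with flat diagonal) if and only if for every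
point x of X the local ring map O_{Y, f(x)} → O_{X, x} is weakly étale, that is, flat and with flat
multiplication map O_{X,x} ⊗_{O_{Y, f(x)}} O_{X,x} → O_{X,x}. -/
theorem result {X Y : Scheme.{u}} (f : X ⟶ Y) :
    WeaklyEtale f ↔ ∀ x : X, (f.stalkMap x).hom.Flat ∧
      (letI := (f.stalkMap x).hom.toAlgebra
       (Algebra.TensorProduct.lmul' (S := ↑(X.presheaf.stalk x)) (↑(Y.presheaf.stalk (f x)))).toRingHom.Flat) := by
  have key : ∀ x : X, (WeaklyEtale (Spec.map (f.stalkMap x)) ↔ (f.stalkMap x).hom.Flat ∧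
      (letI := (f.stalkMap x).hom.toAlgebra
       (Algebra.TensorProduct.lmul' (S := ↑(X.presheaf.stalk x))
        (↑(Y.presheaf.stalk (f x)))).toRingHom.Flat)) := fun x => weaklyEtale_SpecMap_iff _
  constructor
  · intro hf x
    rw [← key x]
    have := weaklyEtale_fromSpecStalk X x
    have h1 : WeaklyEtale (X.fromSpecStalk x ≫ f) := inferInstance
    rw [← Scheme.SpecMap_stalkMap_fromSpecStalk] at h1
    exact MorphismProperty.of_postcomp (W := @WeaklyEtale)
      (W' := MorphismProperty.monomorphisms _)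
      _ (Y.fromSpecStalk (f x)) (inferInstanceAs (Mono _)) h1
  · intro H
    apply weaklyEtale_of_fromSpecStalk_comp
    intro x
    have h1 : WeaklyEtale (Spec.map (f.stalkMap x)) := (key x).mpr (H x)
    have := weaklyEtale_fromSpecStalk Y (f x)
    rw [← Scheme.SpecMap_stalkMap_fromSpecStalk]
    infer_instance

end Groth.Agent.S1412
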