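import Groth.Statements.S14120
import Groth.Agent.Lib.Helper9NagVC
import Groth.Agent.Lib.Helper9ValCritEss
import Groth.Agent.Lib.Helper7QE2

set_option autoImplicit false
universe u
open CategoryTheory AlgebraicGeometry
open ValCrit

namespace Groth.Agent.S14120

/-- For schemes, let every affine open of the base `S` have excellent coordinate ring, let `g : Y ⟶ S`
be locally of finite type and `f : X ⟶ Y` quasi-compact and locally of finite type. Then the
existence part of the valuative criterion for `f` over discrete valuation rings (every commutative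
square `Spec K ⟶ X`, `Spec R ⟶ Y` with `R` a discrete valuation ring and `K` its fraction field has
a lift `Spec R ⟶ X`) holds as soon as it holds for the squares whose ring `R` is essentially of
finite type over `S`, i.e. `Spec R ⟶ Y ⟶ S` factors through some affine open `U` of `S` by a ring
map `Γ(S, U) ⟶ R` that is essentially of finite type; and conversely. (The published statement is
for algebraic spaces and treats existence and uniqueness together; this row is the existence half
for schemes.) -/
theorem result (S : Scheme.{u})
    (hS : ∀ U : S.affineOpens, EGA4.IsExcellent Γ(S, U.1))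
    {X Y : Scheme.{u}} (f : X ⟶ Y) (g : Y ⟶ S)
    [QuasiCompact f] [LocallyOfFiniteType f] [LocallyOfFiniteType g] :
    (∀ sq : ValuativeCommSq f, IsDiscreteValuationRing sq.R → sq.commSq.HasLift) ↔
    (∀ sq : ValuativeCommSq f, IsDiscreteValuationRing sq.R →
      (∃ (U : S.affineOpens) (φ : Γ(S, U.1) ⟶ CommRingCat.of sq.R),
        Spec.map φ ≫ U.2.fromSpec = sq.i₂ ≫ g ∧ φ.hom.EssFiniteType) →
      sq.commSq.HasLift) := by
  have hNag : ∀ W : S.affineOpens, CAlg.IsNagata Γ(S, W) := fun W => by
    obtain ⟨hN, -, hG, hJ⟩ := hS W
    haveI := hN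
    exact Groth.Agent.Lib.Helper7.QE.isNagata_of_gRing_of_J2 _ (fun p _ => hG.2 p)
      (fun B _ _ hfin => hJ B inferInstance)
  haveI : IsLocallyNoetherian S := ⟨fun W => (hS W).1⟩
  constructor
  · intro h sq hd _
    exact h sq hd
  · intro h
    have huc : UniversallyClosed f := by
      refine Groth.Agent.Lib.Helper9.NagVC.universallyClosed_of_curveLifting S hNag (f ≫ g) g f rfl ?_
      intro C r _ _ _ hnorm c hclosed hdim U hU u gC hgC hu k hk
      haveI : IsLocallyNoetherian C := LocallyOfFiniteType.isLocallyNoetherian r
      haveI hdomA : IsDomain (C.presheaf.stalk c) := inferInstance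
      haveI := hnorm c
      have hdvr : IsDiscreteValuationRing (C.presheaf.stalk c) :=
        Groth.Agent.Lib.Helper9.ValCritEss.isDiscreteValuationRing_of_dim_one _ hdim
      have hsq : CommSq (k ≫ u) (Spec.map (CommRingCat.ofHom (algebraMap (C.presheaf.stalk c)
          (FractionRing (C.presheaf.stalk c))))) f (C.fromSpecStalk c ≫ gC) :=
        ⟨by rw [Category.assoc, hu, ← Category.assoc, hk, Category.assoc]⟩
      let sq : ValuativeCommSq f :=
        { R := C.presheaf.stalk c
          domain := hdomA
          K := FractionRing (C.presheaf.stalk c)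
          i₁ := k ≫ u
          i₂ := C.fromSpecStalk c ≫ gC
          commSq := hsq }
      obtain ⟨U', φ, hφ1, hφ2⟩ := Groth.Agent.Lib.Helper9.ValCritEss.exists_essFiniteType_stalk r c
      obtain ⟨⟨lft⟩⟩ := h sq hdvr ⟨U', φ, by rw [hφ1, ← hgC, Category.assoc], hφ2⟩
      exact ⟨lft.l, lft.fac_right, lft.fac_left⟩
    intro sq _
    have h1 : (ValuativeCriterion.Existence ⊓ @QuasiCompact) f := by
      rw [← UniversallyClosed.eq_valuativeCriterion]; exact huc
    exact h1.1 sq

end Groth.Agent.S14120
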