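import Groth.Statements.S7450
import Groth.Agent.Lib.Helper9NagVC

set_option autoImplicit false
universe u
open CategoryTheory AlgebraicGeometry
open Lim

namespace Groth.Agent.S7450

/-- Assume `S` is a Nagata scheme and `f : X → Y` is a morphism over `S` between schemes `X`, `Y` that
are locally of finite type over `S`. Then `f` is separated exactly when the following holds. Take
any normal integral scheme `C` of finite type over `S` and a closed point `c ∈ C` such that the
local ring `A = O_{C,c}` is one-dimensional, put `U = C ∖ {c}`, and consider any commutative diagram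
of `S`-schemes formed by `U → X` and `C → Y`. Then at most one morphism `Spec A → X` makes the
square with `Spec K → X` and `Spec A → Y` commute. -/
theorem result (S : Scheme.{u}) (hS : ∀ W : S.affineOpens, CAlg.IsNagata Γ(S, W))
    {X Y : Scheme.{u}} (p : X ⟶ S) (q : Y ⟶ S) [LocallyOfFiniteType p] [LocallyOfFiniteType q] (f : X ⟶ Y)
    (hf : f ≫ q = p) :
    IsSeparated f ↔
      ∀ (C : Scheme.{u}) (r : C ⟶ S) [IsIntegral C] [LocallyOfFiniteType r] [QuasiCompact r],
        (∀ x : C, IsIntegrallyClosed (C.presheaf.stalk x)) →
        ∀ (c : C), IsClosed ({c} : Set C) → ringKrullDim (C.presheaf.stalk c) = 1 →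
        ∀ (U : C.Opens), (U : Set C) = {c}ᶜ →
        ∀ (u : (U : Scheme.{u}) ⟶ X) (g : C ⟶ Y), g ≫ q = r → u ≫ f = U.ι ≫ g →
        ∀ (k : Spec (CommRingCat.of (FractionRing (C.presheaf.stalk c))) ⟶ (U : Scheme.{u})),
          k ≫ U.ι = Spec.map (CommRingCat.ofHom (algebraMap (C.presheaf.stalk c)
            (FractionRing (C.presheaf.stalk c)))) ≫ C.fromSpecStalk c →
        ∀ l l' : Spec (C.presheaf.stalk c) ⟶ X,
          l ≫ f = C.fromSpecStalk c ≫ g →
          Spec.map (CommRingCat.ofHom (algebraMap (C.presheaf.stalk c) (FractionRing (C.presheaf.stalk c)))) ≫ l =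
            k ≫ u →
          l' ≫ f = C.fromSpecStalk c ≫ g →
          Spec.map (CommRingCat.ofHom (algebraMap (C.presheaf.stalk c) (FractionRing (C.presheaf.stalk c)))) ≫ l' =
            k ≫ u → l = l' := by
  haveI : IsLocallyNoetherian S := ⟨fun W => (hS W).1⟩
  haveI : IsLocallyNoetherian X := LocallyOfFiniteType.isLocallyNoetherian p
  haveI : LocallyOfFiniteType (f ≫ q) := by rw [hf]; infer_instance
  haveI : LocallyOfFiniteType f := locallyOfFiniteType_of_comp f q
  constructor
  · intro hsep C r _ _ _ hnorm c hclosed hdim U hU u g hg hu k hk l l' h1 h2 h1' h2'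
    haveI : IsLocallyNoetherian C := LocallyOfFiniteType.isLocallyNoetherian r
    haveI : Ring.KrullDimLE 1 (C.presheaf.stalk c) := Ring.krullDimLE_iff.mpr hdim.le
    haveI hdomA : IsDomain (C.presheaf.stalk c) := inferInstance
    haveI : ValuationRing (C.presheaf.stalk c) := by
      have h := (tfae_of_isNoetherianRing_of_isLocalRing_of_isDomain (C.presheaf.stalk c)).out 3 1
      refine h.mp ⟨hnorm c, ?_⟩
      intro P hP hPp
      exact IsLocalRing.eq_maximalIdeal (hPp.isMaximal_of_ne_bot hP)
    have hsq : CommSq (k ≫ u) (Spec.map (CommRingCat.ofHom (algebraMap (C.presheaf.stalk c)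
        (FractionRing (C.presheaf.stalk c))))) f (C.fromSpecStalk c ≫ g) :=
      ⟨by rw [Category.assoc, hu, ← Category.assoc, hk, Category.assoc]⟩
    let sq : ValuativeCommSq f :=
      { R := C.presheaf.stalk c
        domain := hdomA
        K := FractionRing (C.presheaf.stalk c)
        i₁ := k ≫ u
        i₂ := C.fromSpecStalk c ≫ g
        commSq := hsq }
    haveI : Subsingleton sq.commSq.LiftStruct := IsSeparated.valuativeCriterion f sq
    have h3 : (⟨l, h2, h1⟩ : sq.commSq.LiftStruct) = ⟨l', h2', h1'⟩ := Subsingleton.elim _ _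
    exact congrArg CommSq.LiftStruct.l h3
  · intro Huniq
    haveI : QuasiSeparated f := QuasiSeparated.of_quasiSeparatedSpace f
    haveI : QuasiCompact (Limits.pullback.diagonal f) := QuasiSeparated.quasiCompact_diagonal
    haveI : LocallyOfFiniteType (Limits.pullback.fst f f ≫ p) := inferInstance
    have huc : UniversallyClosed (Limits.pullback.diagonal f) := by
      refine Groth.Agent.Lib.Helper9.NagVC.universallyClosed_of_curveLifting S hS p
        (Limits.pullback.fst f f ≫ p) (Limits.pullback.diagonal f) (by simp) ?_
      intro C r _ _ _ hnorm c hclosed hdim U hU u g' hg' hu' k hk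
      have hu1 : u = U.ι ≫ g' ≫ Limits.pullback.fst f f := by
        have := congrArg (fun φ => φ ≫ Limits.pullback.fst f f) hu'
        simpa using this
      have hu2 : u = U.ι ≫ g' ≫ Limits.pullback.snd f f := by
        have := congrArg (fun φ => φ ≫ Limits.pullback.snd f f) hu'
        simpa using this
      have hl := Huniq C r hnorm c hclosed hdim U hU u (g' ≫ Limits.pullback.fst f f ≫ f)
        (by rw [← hg', Category.assoc, Category.assoc, hf]) (by rw [hu1]; simp) k hk
        (C.fromSpecStalk c ≫ g' ≫ Limits.pullback.fst f f) (C.fromSpecStalk c ≫ g' ≫ Limits.pullback.snd f f)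
        (by simp)
        (by rw [← Category.assoc, ← hk, Category.assoc, ← hu1])
        (by simp [Limits.pullback.condition])
        (by rw [← Category.assoc, ← hk, Category.assoc, ← hu2])
      refine ⟨C.fromSpecStalk c ≫ g' ≫ Limits.pullback.fst f f, ?_, ?_⟩
      · apply Limits.pullback.hom_ext
        · simp
        · simp only [Category.assoc, Limits.pullback.diagonal_snd, Category.comp_id]
          exact hl
      · rw [← Category.assoc, ← hk, Category.assoc, ← hu1]
    exact ⟨.of_isPreimmersion _ (Limits.pullback.diagonal f).isClosedMap.isClosed_range⟩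

end Groth.Agent.S7450
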