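import Groth.Statements.S14122
import Mathlib

set_option autoImplicit false
universe u
open ValCrit

namespace Groth.Agent.S14122

open Module


/-- Let `R` be a discrete valuation ring with fraction field `K` and `g ∈ GL_N(K)` an element of finite
order. Then after passing to a finite extension `K'` of `K` and a discrete valuation ring `R'` of
`K'` dominating `R`, the element `g` becomes conjugate in `GL_N(K')` to an element of `GL_N(R')`.
(The published statement is that the classifying stack of `GL_N` over the integers satisfies a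
valuative condition, for discrete valuation rings essentially of finite type over the integers, on
extending finite-order generic automorphisms along nearby modifications; since vector bundles over a
discrete valuation ring are trivial, that condition is this conjugacy statement for such rings, and
this row states it for every discrete valuation ring, as the printed argument gives.) -/
theorem result
    (R : Type u) [CommRing R] [IsDomain R] [IsDiscreteValuationRing R]
    (K : Type u) [Field K] [Algebra R K] [IsFractionRing R K]
    (N : ℕ) (g : GL (Fin N) K) (hg : IsOfFinOrder g) :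
    ∃ (R' : Type u) (_ : CommRing R') (_ : IsDomain R') (_ : IsDiscreteValuationRing R')
      (K' : Type u) (_ : Field K') (_ : Algebra R' K') (_ : IsFractionRing R' K')
      (_ : Algebra R R') (_ : Algebra K K') (_ : Algebra R K')
      (_ : IsScalarTower R R' K') (_ : IsScalarTower R K K')
      (_ : Module.Finite K K') (_ : IsLocalHom (algebraMap R R'))
      (h : GL (Fin N) K') (g' : GL (Fin N) R'),
      h * Matrix.GeneralLinearGroup.map (algebraMap K K') g * h⁻¹ =
        Matrix.GeneralLinearGroup.map (algebraMap R' K') g' := by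
  classical
  refine ⟨R, inferInstance, inferInstance, inferInstance, K, inferInstance, inferInstance,
    inferInstance, Algebra.id R, Algebra.id K, inferInstance, inferInstance, inferInstance,
    inferInstance, ?_, ?_⟩
  · show IsLocalHom (RingHom.id R)
    infer_instance
  set n := orderOf g with hn
  have hnpos : 0 < n := hg.orderOf_pos
  let T : Module.End K (Fin N → K) := Matrix.toLinAlgEquiv' (g : Matrix (Fin N) (Fin N) K)
  have hTn : T ^ n = 1 := by
    show (Matrix.toLinAlgEquiv' (g : Matrix (Fin N) (Fin N) K)) ^ n = 1
    rw [← map_pow, ← Units.val_pow_eq_pow_val, hn, pow_orderOf_eq_one, Units.val_one, map_one]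
  let e : Basis (Fin N) K (Fin N → K) := Pi.basisFun K (Fin N)
  let S : Set (Fin N → K) := Set.range (fun p : ℕ × Fin N => (T ^ p.1) (e p.2))
  have hSfin : S.Finite := by
    apply Set.Finite.subset ((Finset.range n ×ˢ (Finset.univ : Finset (Fin N))).image
      (fun p : ℕ × Fin N => (T ^ p.1) (e p.2))).finite_toSet
    rintro _ ⟨⟨i, j⟩, rfl⟩
    simp only [Finset.coe_image, Set.mem_image, Finset.mem_coe, Finset.mem_product,
      Finset.mem_range, Finset.mem_univ, and_true]
    refine ⟨(i % n, j), Nat.mod_lt _ hnpos, ?_⟩
    show (T ^ (i % n)) (e j) = (T ^ i) (e j)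
    conv_rhs => rw [← Nat.mod_add_div i n, pow_add, pow_mul, hTn, one_pow, mul_one]
  let L : Submodule R (Fin N → K) := Submodule.span R S
  have hLfg : L.FG := Submodule.fg_span hSfin
  haveI : Submodule.IsLattice K L := by
    refine ⟨hLfg, ?_⟩
    rw [eq_top_iff, ← e.span_eq]
    apply Submodule.span_le.2
    rintro _ ⟨j, rfl⟩
    apply Submodule.subset_span
    apply Submodule.subset_span
    exact ⟨(0, j), by simp⟩
  have hTS : ∀ x ∈ S, T x ∈ S := by
    rintro _ ⟨⟨i, j⟩, rfl⟩
    refine ⟨(i + 1, j), ?_⟩
    show (T ^ (i + 1)) (e j) = T ((T ^ i) (e j))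
    rw [pow_succ', Module.End.mul_apply]
  have hTL : ∀ x ∈ L, T x ∈ L := by
    intro x hx
    induction hx using Submodule.span_induction with
    | mem x hx => exact Submodule.subset_span (hTS x hx)
    | zero => rw [map_zero]; exact L.zero_mem
    | add x y _ _ hx hy => rw [map_add]; exact L.add_mem hx hy
    | smul a x _ hx =>
      rw [LinearMap.map_smul_of_tower]; exact L.smul_mem a hx
  have hTkL : ∀ (k : ℕ), ∀ x ∈ L, (T ^ k) x ∈ L := by
    intro k
    induction k with
    | zero => intro x hx; simpa using hx
    | succ k ih =>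
      intro x hx
      rw [pow_succ', Module.End.mul_apply]
      exact hTL _ (ih x hx)
  let φ : L →ₗ[R] L := (T.restrictScalars R).restrict hTL
  let ψ : L →ₗ[R] L := ((T ^ (n - 1)).restrictScalars R).restrict (hTkL (n - 1))
  have hφψ : φ ∘ₗ ψ = LinearMap.id := by
    apply LinearMap.ext
    intro x
    apply Subtype.ext
    show T ((T ^ (n - 1)) x.1) = x.1
    rw [← Module.End.mul_apply, ← pow_succ', Nat.sub_add_cancel hnpos, hTn]
    rfl
  have hψφ : ψ ∘ₗ φ = LinearMap.id := by
    apply LinearMap.ext
    intro x
    apply Subtype.ext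
    show (T ^ (n - 1)) (T x.1) = x.1
    rw [← Module.End.mul_apply, ← pow_succ, Nat.sub_add_cancel hnpos, hTn]
    rfl
  have hfr : Module.finrank R L = Fintype.card (Fin N) :=
    Submodule.IsLattice.finrank_of_pi K L
  rw [Fintype.card_fin] at hfr
  let b : Basis (Fin N) R L := Module.finBasisOfFinrankEq R L hfr
  let bK : Basis (Fin N) K (Fin N → K) := b.extendOfIsLattice K
  have hbK : ∀ j, bK j = (b j).1 := fun j => Module.Basis.extendOfIsLattice_apply K b j
  let C : Matrix (Fin N) (Fin N) R := LinearMap.toMatrix b b φ
  let C' : Matrix (Fin N) (Fin N) R := LinearMap.toMatrix b b ψ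
  have hCC' : C * C' = 1 := by
    rw [← LinearMap.toMatrix_comp, hφψ, LinearMap.toMatrix_id]
  have hC'C : C' * C = 1 := by
    rw [← LinearMap.toMatrix_comp, hψφ, LinearMap.toMatrix_id]
  let g' : GL (Fin N) R := ⟨C, C', hCC', hC'C⟩
  let h : GL (Fin N) K := ⟨bK.toMatrix e, e.toMatrix bK, Basis.toMatrix_mul_toMatrix_flip _ _,
    Basis.toMatrix_mul_toMatrix_flip _ _⟩
  refine ⟨h, g', ?_⟩
  apply Units.ext
  have hkey : LinearMap.toMatrix bK bK T = C.map (algebraMap R K) := by
    ext i j
    rw [LinearMap.toMatrix_apply, Matrix.map_apply, hbK]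
    have h1 : T (b j).1 = (φ (b j)).1 := rfl
    have h2 : (φ (b j)).1 = ∑ i, algebraMap R K (C i j) • bK i := by
      conv_lhs => rw [← b.sum_repr (φ (b j))]
      rw [Submodule.coe_sum]
      apply Finset.sum_congr rfl
      intro i _
      rw [Submodule.coe_smul, hbK, algebraMap_smul]
      congr 1
      exact (LinearMap.toMatrix_apply b b φ i j).symm
    rw [h1, h2, Basis.repr_sum_self]
  have hchange := basis_toMatrix_mul_linearMap_toMatrix_mul_basis_toMatrix e bK e bK T
  have hTg : LinearMap.toMatrix e e T = (g : Matrix (Fin N) (Fin N) K) := by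
    show LinearMap.toMatrix (Pi.basisFun K (Fin N)) (Pi.basisFun K (Fin N)) T = _
    rw [LinearMap.toMatrix_eq_toMatrix']
    exact LinearMap.toMatrix'_toLin' _
  rw [hTg, hkey] at hchange
  show (bK.toMatrix e) * ((g : Matrix (Fin N) (Fin N) K).map (algebraMap K K)) *
    (e.toMatrix bK) = C.map (algebraMap R K)
  have hid : (g : Matrix (Fin N) (Fin N) K).map (algebraMap K K) = g := by
    ext i j
    simp
  rw [hid, ← hchange]
  have h1 : bK.toMatrix e * e.toMatrix bK = 1 := Basis.toMatrix_mul_toMatrix_flip _ _
  simp only [← mul_assoc, h1, one_mul]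
  rw [mul_assoc, h1, mul_one]

end Groth.Agent.S14122
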