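import Groth.Statements.S14123
import Groth.Agent.Lib.Helper29RescaleC
import Groth.Agent.Lib.Helper29KummerDVR

set_option autoImplicit false
universe u v
open GmQuot

namespace Groth.Agent.S14123

/-- Let `A = ⊕_{d ∈ ℤ} A_d` be a graded commutative ring whose ideal `I₊` generated by the homogeneous
elements of positive degree is finitely generated, `R` a discrete valuation ring with fraction field
`K`, and `φ : A → R` a ring map with `φ(I₊) ≠ 0` and `φ(I₊)` inside the maximal ideal. Then after a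
finite extension `K'/K` and a discrete valuation ring `R'` of `K'` dominating `R` there are a
nonzero non-unit `ϖ ∈ R'` and a ring map `g : A → R'` with `g(a) ϖ^d = φ(a)` for every homogeneous
`a` of degree `d` (so `g` is `φ` rescaled through the grading by `ϖ`), such that `g(I₊) R' = R'`.
(The published statement is phrased for the quotient stack of `Spec A` by the multiplicative group
and its closed substack cut out by `I₊`, in a setting where `A` is Noetherian, being of finite type
over a Noetherian base: an `R`-point whose closed point lies in that substack and whose generic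
point does not admits, after a finite extension, an elementary modification avoiding the substack;
this row is the graded-ring statement the printed argument proves, assuming only that `I₊` is
finitely generated, which is all that argument uses, and with `ϖ` not required to be a uniformizer.) -/
theorem result
    {A : Type u} [CommRing A] (𝒜 : ℤ → AddSubgroup A) [GradedRing 𝒜]
    (hfg : (Ideal.span {a : A | ∃ d : ℤ, 0 < d ∧ a ∈ 𝒜 d}).FG)
    (R : Type v) [CommRing R] [IsDomain R] [IsDiscreteValuationRing R]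
    (K : Type v) [Field K] [Algebra R K] [IsFractionRing R K]
    (φ : A →+* R)
    (hle : Ideal.map φ (Ideal.span {a : A | ∃ d : ℤ, 0 < d ∧ a ∈ 𝒜 d}) ≤ IsLocalRing.maximalIdeal R)
    (hne : Ideal.map φ (Ideal.span {a : A | ∃ d : ℤ, 0 < d ∧ a ∈ 𝒜 d}) ≠ ⊥) :
    ∃ (R' : Type v) (_ : CommRing R') (_ : IsDomain R') (_ : IsDiscreteValuationRing R')
      (K' : Type v) (_ : Field K') (_ : Algebra R' K') (_ : IsFractionRing R' K')
      (_ : Algebra R R') (_ : Algebra K K') (_ : Algebra R K')
      (_ : IsScalarTower R R' K') (_ : IsScalarTower R K K')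
      (_ : Module.Finite K K') (_ : IsLocalHom (algebraMap R R'))
      (ϖ : R') (g : A →+* R'),
      ϖ ≠ 0 ∧ ϖ ∈ IsLocalRing.maximalIdeal R' ∧
      (∀ (d : ℤ) (a : A), a ∈ 𝒜 d →
        algebraMap R' K' (g a) * algebraMap R' K' ϖ ^ d = algebraMap R K' (φ a)) ∧
      Ideal.map g (Ideal.span {a : A | ∃ d : ℤ, 0 < d ∧ a ∈ 𝒜 d}) = ⊤ := by
  classical
  -- Step 1: a finite generating set of positive-degree homogeneous elements
  obtain ⟨T, hTS, hspan⟩ := (Submodule.fg_span_iff_fg_span_finset_subset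
    {a : A | ∃ d : ℤ, 0 < d ∧ a ∈ 𝒜 d}).mp hfg
  have hspan' : Ideal.span {a : A | ∃ d : ℤ, 0 < d ∧ a ∈ 𝒜 d} = Ideal.span (T : Set A) := hspan
  have hex : ∀ f : A, ∃ m : ℕ, f ∈ T → (0 < m ∧ f ∈ 𝒜 (m : ℤ)) := by
    intro f
    by_cases hf : f ∈ T
    · obtain ⟨d, hd, hfd⟩ := hTS hf
      obtain ⟨m, rfl⟩ := Int.eq_ofNat_of_zero_le hd.le
      exact ⟨m, fun _ => ⟨by exact_mod_cast hd, hfd⟩⟩
    · exact ⟨0, fun h => absurd h hf⟩
  choose deg hdeg using hex
  -- Step 2: a uniformizer and the valuations of the images of the generators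
  obtain ⟨π, hπ⟩ := IsDiscreteValuationRing.exists_irreducible R
  have hex2 : ∀ f : A, ∃ (k : ℕ) (u : Rˣ), φ f ≠ 0 → φ f = u * π ^ k := by
    intro f
    by_cases h0 : φ f = 0
    · exact ⟨0, 1, fun h => absurd h0 h⟩
    · obtain ⟨k, u, hu⟩ := IsDiscreteValuationRing.eq_unit_mul_pow_irreducible h0 hπ
      exact ⟨k, u, fun _ => hu⟩
  choose k u hku using hex2
  have hT' : (T.filter fun f => φ f ≠ 0).Nonempty := by
    by_contra hempty
    rw [Finset.not_nonempty_iff_eq_empty, Finset.filter_eq_empty_iff] at hempty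
    apply hne
    rw [hspan', Ideal.map_span, Ideal.span_eq_bot]
    rintro _ ⟨f, hf, rfl⟩
    exact not_not.mp (hempty hf)
  -- Step 3: the generator of minimal slope
  obtain ⟨f₀, hf₀, hmin⟩ := Finset.exists_min_image (T.filter fun f => φ f ≠ 0)
    (fun f => (k f : ℚ) / (deg f : ℚ)) hT'
  rw [Finset.mem_filter] at hf₀
  have he : 0 < deg f₀ := (hdeg f₀ hf₀.1).1
  have hcross : ∀ f ∈ T, φ f ≠ 0 → k f₀ * deg f ≤ deg f₀ * k f := by
    intro f hf hf0
    have h1 := hmin f (Finset.mem_filter.mpr ⟨hf, hf0⟩)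
    have hd1 : (0 : ℚ) < deg f := by exact_mod_cast (hdeg f hf).1
    have hd2 : (0 : ℚ) < deg f₀ := by exact_mod_cast he
    rw [div_le_div_iff₀ hd2 hd1] at h1
    have h2 : ((k f₀ * deg f : ℕ) : ℚ) ≤ ((deg f₀ * k f : ℕ) : ℚ) := by
      push_cast
      linarith
    exact_mod_cast h2
  have hw : 0 < k f₀ := by
    by_contra h0
    have hw0 : k f₀ = 0 := by omega
    have h1 := hku f₀ hf₀.2
    rw [hw0, pow_zero, mul_one] at h1
    have hmem : φ f₀ ∈ IsLocalRing.maximalIdeal R :=
      hle (Ideal.mem_map_of_mem φ (Ideal.subset_span (hTS hf₀.1)))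
    rw [h1] at hmem
    exact (IsLocalRing.mem_maximalIdeal _).mp hmem (u f₀).isUnit
  -- Step 4: the totally ramified extension of degree `deg f₀`
  obtain ⟨R', iCR, iDom, iDVR, K', iF, iAlg, iFr, iAlgRR', iAlgKK', iAlgRK', iT1, iT2, iFin,
    iLoc, x, hxe, hxirr⟩ :=
    Groth.Agent.Lib.Helper29.KummerDVR.exists_kummer_dvr R K π hπ (deg f₀) he
  have hx0 : x ≠ 0 := hxirr.ne_zero
  have hT : ∀ f ∈ T, x ^ (k f₀ * deg f) ∣ ((algebraMap R R').comp φ) f := by
    intro f hf
    by_cases hf0 : φ f = 0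
    · change x ^ _ ∣ algebraMap R R' (φ f)
      rw [hf0, map_zero]
      exact dvd_zero _
    · change x ^ _ ∣ algebraMap R R' (φ f)
      rw [hku f hf0, map_mul, map_pow, ← hxe, ← pow_mul]
      exact Dvd.dvd.mul_left (pow_dvd_pow x (hcross f hf hf0)) _
  have hf₀ψ : ((algebraMap R R').comp φ) f₀ =
      algebraMap R R' (u f₀) * x ^ (k f₀ * deg f₀) := by
    change algebraMap R R' (φ f₀) = _
    rw [hku f₀ hf₀.2, map_mul, map_pow, ← hxe, ← pow_mul, mul_comm (deg f₀) (k f₀)]
  obtain ⟨g, hg1, hg2⟩ := Groth.Agent.Lib.Helper29.Rescale.exists_rescaled 𝒜 T deg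
    (fun f hf => (hdeg f hf).2) (fun f hf => (hdeg f hf).1) hspan' (K' := K')
    ((algebraMap R R').comp φ) x hx0 (k f₀) hT f₀ hf₀.1 _ ((u f₀).isUnit.map _) hf₀ψ
  refine ⟨R', iCR, iDom, iDVR, K', iF, iAlg, iFr, iAlgRR', iAlgKK', iAlgRK', iT1, iT2, iFin,
    iLoc, x ^ k f₀, g, pow_ne_zero _ hx0, ?_, ?_, hg2⟩
  · rw [IsLocalRing.mem_maximalIdeal, mem_nonunits_iff, isUnit_pow_iff hw.ne']
    exact hxirr.not_isUnit
  · intro d a ha
    rw [hg1 d a ha]
    exact (IsScalarTower.algebraMap_apply R R' K' (φ a)).symm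

end Groth.Agent.S14123
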