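import Groth.Statements.S5150
import Mathlib

set_option autoImplicit false
universe u
open CategoryTheory
open LocCoh

namespace Groth.Agent.S5150

open CategoryTheory Abelian RingTheory.Sequence Pointwise

theorem main {A : Type u} [CommRing A] (I : Ideal A) (N : Type u) [AddCommGroup N] [Module A N]
    (k : ℕ) (hN : (I ^ k) • (⊤ : Submodule A N) = ⊥) :
    ∀ (rs : List A) (M : Type u) [AddCommGroup M] [Module A M], IsWeaklyRegular M rs →
      (∀ r ∈ rs, r ∈ I) → ∀ i < rs.length,
      Subsingleton (Ext (ModuleCat.of A N) (ModuleCat.of A M) i)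
  | [], M, _, _, _, _, i, hi => by simp at hi
  | f :: rs, M, _, _, hreg, hI, i, hi => by
    rw [isWeaklyRegular_cons_iff] at hreg
    obtain ⟨hf, hrs⟩ := hreg
    have hex : Function.Exact (f • 𝟙 (ModuleCat.of A M) : ModuleCat.of A M ⟶ ModuleCat.of A M).hom
        (ModuleCat.ofHom (Submodule.mkQ (f • (⊤ : Submodule A M)))).hom := by
      intro y
      show Submodule.mkQ (f • (⊤ : Submodule A M)) y = 0 ↔ _
      rw [Submodule.mkQ_apply, Submodule.Quotient.mk_eq_zero,
        Submodule.mem_smul_pointwise_iff_exists]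
      constructor
      · rintro ⟨z, -, rfl⟩; exact ⟨z, rfl⟩
      · rintro ⟨z, rfl⟩; exact ⟨z, trivial, rfl⟩
    let S : ShortComplex (ModuleCat.{u} A) := ShortComplex.mk (f • 𝟙 (ModuleCat.of A M))
      (ModuleCat.ofHom (Submodule.mkQ (f • (⊤ : Submodule A M)))) (by
        ext y
        exact hex.apply_apply_eq_zero y)
    have hS : S.ShortExact := ModuleCat.shortComplex_shortExact S hex hf
      (Submodule.mkQ_surjective _)
    have hfk : ∀ z : Ext (ModuleCat.of A N) (ModuleCat.of A M) i, f ^ k • z = 0 := by
      intro z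
      have h0 : (f ^ k) • 𝟙 (ModuleCat.of A N) = 0 := by
        ext n
        show f ^ k • n = 0
        have : f ^ k • n ∈ (I ^ k) • (⊤ : Submodule A N) :=
          Submodule.smul_mem_smul (Ideal.pow_mem_pow (hI f (by simp)) k) Submodule.mem_top
        rwa [hN, Submodule.mem_bot] at this
      rw [← Ext.mk₀_id_comp z, ← Ext.smul_comp, ← Ext.mk₀_smul, h0, Ext.mk₀_zero, Ext.zero_comp]
    have hinjf : ∀ z : Ext (ModuleCat.of A N) (ModuleCat.of A M) i, f • z = 0 → z = 0 := by
      intro z hz
      have h1 : z.comp (Ext.mk₀ S.f) (add_zero i) = 0 := by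
        show z.comp (Ext.mk₀ (f • 𝟙 _)) _ = 0
        rw [Ext.mk₀_smul, Ext.comp_smul, Ext.comp_mk₀_id]
        exact hz
      rcases Nat.eq_zero_or_pos i with rfl | hi0
      · haveI : Mono S.f := hS.mono_f
        refine Ext.postcomp_mk₀_injective_of_mono _ S.f ?_
        rw [map_zero]
        exact h1
      · obtain ⟨j, rfl⟩ : ∃ j, i = j + 1 := ⟨i - 1, by omega⟩
        obtain ⟨x₃, hx₃⟩ := Ext.covariant_sequence_exact₁ _ hS z h1 rfl
        haveI := main I N k hN rs (QuotSMulTop f M) hrs (fun r hr => hI r (by simp [hr])) j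
          (by simp at hi; omega)
        rw [← hx₃, Subsingleton.elim x₃ 0, Ext.zero_comp]
    have hpow : ∀ (m : ℕ) (z : Ext (ModuleCat.of A N) (ModuleCat.of A M) i),
        f ^ m • z = 0 → z = 0 := by
      intro m
      induction m with
      | zero => intro z hz; simpa using hz
      | succ m ihm =>
        intro z hz
        apply ihm
        apply hinjf
        rw [← mul_smul, ← pow_succ']
        exact hz
    exact ⟨fun a b => by rw [hpow k a (hfk a), hpow k b (hfk b)]⟩

/-- Let A be a commutative ring, I an ideal, M and N A-modules, and f_1, …, f_r a weakly M-regular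
sequence of elements of I. If N is killed by a power of I then Ext^i_A(N, M) vanishes for all i < r.
(No Noetherian or finiteness hypothesis on A, M or N.) -/
theorem result (A : Type u) [CommRing A] (I : Ideal A) (M N : Type u) [AddCommGroup M] [Module A M] [AddCommGroup N] [Module A N] (rs : List A) (hreg : RingTheory.Sequence.IsWeaklyRegular M rs) (hI : ∀ r ∈ rs, r ∈ I) (k : ℕ) (hN : (I ^ k) • (⊤ : Submodule A N) = ⊥) (i : ℕ) (hi : i < rs.length) : Subsingleton (Abelian.Ext (ModuleCat.of A N) (ModuleCat.of A M) i) := by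
  exact main I N k hN rs M hreg hI i hi

end Groth.Agent.S5150
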