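import Groth.Statements.S14128
import Mathlib
import Groth.Agent.S5150
import Groth.Agent.Lib.Helper5RLR3

set_option autoImplicit false
universe u
open CategoryTheory CategoryTheory.Limits
open LocAlg

namespace Groth.Agent.S14128

open CategoryTheory Abelian IsLocalRing

/-- A nonzero finite length module over a local ring has a nonzero element killed by `𝔪`. -/
theorem exists_ne_zero_smul_eq_zero (R : Type u) [CommRing R] [IsLocalRing R]
    (H : Type u) [AddCommGroup H] [Module R H] [IsArtinian R H] [Nontrivial H] :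
    ∃ x : H, x ≠ 0 ∧ ∀ a ∈ maximalIdeal R, a • x = 0 := by
  obtain ⟨S, hS⟩ := IsAtomic.exists_atom (Submodule R H)
  obtain ⟨x, hxS, hx0⟩ := Submodule.exists_mem_ne_zero_of_ne_bot hS.1
  refine ⟨x, hx0, fun a ha => ?_⟩
  by_contra hax
  have hle : Submodule.span R {a • x} ≤ S :=
    (Submodule.span_singleton_le_iff_mem _ _).2 (S.smul_mem a hxS)
  have hne : Submodule.span R {a • x} ≠ ⊥ := by
    rw [Ne, Submodule.span_singleton_eq_bot]; exact hax
  have heq : Submodule.span R {a • x} = S := by
    rcases lt_or_eq_of_le hle with h | h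
    · exact absurd (hS.2 _ h) hne
    · exact h
  have hx' : x ∈ Submodule.span R {a • x} := heq ▸ hxS
  obtain ⟨b, hb⟩ := Submodule.mem_span_singleton.1 hx'
  have hu : IsUnit (1 - b * a) := by
    have hba : b * a ∈ maximalIdeal R := Ideal.mul_mem_left _ b ha
    by_contra hnu
    have h1 : (1 - b * a) ∈ maximalIdeal R := (mem_maximalIdeal _).2 hnu
    have : (1 : R) ∈ maximalIdeal R := by
      have := Ideal.add_mem _ h1 hba
      simpa using this
    exact (Ideal.ne_top_iff_one _).1 (maximalIdeal.isMaximal R).ne_top this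
  have h0 : (1 - b * a) • x = 0 := by
    rw [sub_smul, one_smul, mul_smul, hb, sub_self]
  exact hx0 ((hu.smul_eq_zero).1 h0)

/-- The residue field as a module. -/
noncomputable abbrev kk (R : Type u) [CommRing R] [IsLocalRing R] : ModuleCat.{u} R :=
  ModuleCat.of R (R ⧸ maximalIdeal R)

theorem isZero_of_hom_residue_eq_zero (R : Type u) [CommRing R] [IsLocalRing R]
    (H : ModuleCat.{u} R) (hfl : IsFiniteLength R H)
    (h : ∀ f : kk R ⟶ H, f = 0) : IsZero H := by
  rw [ModuleCat.isZero_iff_subsingleton]
  by_contra hns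
  rw [not_subsingleton_iff_nontrivial] at hns
  have hart : IsArtinian R H := (isFiniteLength_iff_isNoetherian_isArtinian.1 hfl).2
  obtain ⟨x, hx0, hx⟩ := exists_ne_zero_smul_eq_zero R H
  let φ : (R ⧸ maximalIdeal R) →ₗ[R] H :=
    Submodule.liftQ (maximalIdeal R) (LinearMap.toSpanSingleton R H x) (by
      intro a ha
      rw [LinearMap.mem_ker, LinearMap.toSpanSingleton_apply]
      exact hx a ha)
  have hφ : φ (Submodule.Quotient.mk 1) = x := by
    show LinearMap.toSpanSingleton R H x 1 = x
    rw [LinearMap.toSpanSingleton_apply, one_smul]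
  have h0 := h (ModuleCat.ofHom φ)
  have h1 : φ = 0 := by
    have := congrArg ModuleCat.Hom.hom h0
    simpa using this
  rw [h1] at hφ
  exact hx0 hφ.symm

theorem ext_free_subsingleton (R : Type u) [CommRing R] [IsRegularLocalRing R] (g : ℕ)
    (hg : ringKrullDim R = g) (F : ModuleCat.{u} R) [Module.Free R F] (n : ℕ) (hn : n < g) :
    Subsingleton (Ext (kk R) F n) := by
  obtain ⟨rs, hlen, hrs, hreg⟩ := Groth.Agent.Lib.Helper5.exists_isRegular_ofList_eq_maximalIdeal R
  have hlen' : rs.length = g := by
    rw [hg] at hlen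
    exact_mod_cast hlen.symm
  have hw : RingTheory.Sequence.IsWeaklyRegular F rs := by
    have h1 : RingTheory.Sequence.IsWeaklyRegular (TensorProduct R R F) rs :=
      hreg.toIsWeaklyRegular.isWeaklyRegular_rTensor
    exact ((TensorProduct.lid R F).isWeaklyRegular_congr rs).1 h1
  have hmem : ∀ r ∈ rs, r ∈ maximalIdeal R := fun r hr => hrs ▸ Ideal.subset_span hr
  have hN : ((maximalIdeal R) ^ 1) • (⊤ : Submodule R (R ⧸ maximalIdeal R)) = ⊥ := by
    rw [pow_one, eq_bot_iff]
    intro y hy
    refine Submodule.smul_induction_on hy ?_ ?_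
    · intro a ha z _
      obtain ⟨z, rfl⟩ := Submodule.Quotient.mk_surjective _ z
      rw [Submodule.mem_bot, ← Submodule.Quotient.mk_smul, Submodule.Quotient.mk_eq_zero]
      exact Ideal.mul_mem_right _ _ ha
    · intro a b ha hb
      exact Submodule.add_mem _ ha hb
  exact Groth.Agent.S5150.main (maximalIdeal R) (R ⧸ maximalIdeal R) 1 hN rs F hw hmem n
    (by omega)

theorem ext_opcycles_subsingleton (R : Type u) [CommRing R] [IsRegularLocalRing R] (g : ℕ)
    (hg : ringKrullDim R = g) (M : CochainComplex (ModuleCat.{u} R) ℕ)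
    (hfree : ∀ i, Module.Free R (M.X i)) :
    ∀ (j : ℕ), (∀ j' < j, IsZero (M.homology j')) → ∀ n, n + j < g →
      Subsingleton (Ext (kk R) (M.opcycles j) n) := by
  intro j
  induction j with
  | zero =>
    intro _ n hn
    have := hfree 0
    have h1 := ext_free_subsingleton R g hg (M.X 0) n (by omega)
    refine ⟨fun a b => ?_⟩
    have key : ∀ x : Ext (kk R) (M.opcycles 0) n, x = 0 := by
      intro x
      have e1 : x = (x.comp (Ext.mk₀ (inv (M.pOpcycles 0))) (add_zero n)).comp
          (Ext.mk₀ (M.pOpcycles 0)) (add_zero n) := by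
        rw [Ext.comp_assoc_of_third_deg_zero, Ext.mk₀_comp_mk₀, IsIso.inv_hom_id, Ext.comp_mk₀_id]
      rw [e1, Subsingleton.elim (x.comp (Ext.mk₀ (inv (M.pOpcycles 0))) (add_zero n)) 0,
        Ext.zero_comp]
    rw [key a, key b]
  | succ j ih =>
    intro hH n hn
    have hHj : IsZero (M.homology j) := hH j (by omega)
    have ih' := ih (fun j' hj' => hH j' (by omega))
    have hzero : M.fromOpcycles j (j + 1) ≫ M.pOpcycles (j + 1) = 0 := by
      rw [← cancel_epi (M.pOpcycles j), HomologicalComplex.p_fromOpcycles_assoc,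
        HomologicalComplex.d_pOpcycles, comp_zero]
    have hmono : Mono (M.fromOpcycles j (j + 1)) := by
      apply Preadditive.mono_of_cancel_zero
      intro W u hu
      have hk := M.homologyIsKernel j (j + 1) (by simp)
      have e1 := KernelFork.IsLimit.lift' hk u hu
      rw [← e1.2]
      have : e1.1 = 0 := hHj.eq_of_tgt _ _
      rw [this, zero_comp]
    let S₁ : ShortComplex (ModuleCat.{u} R) :=
      ShortComplex.mk (M.d j (j + 1)) (M.pOpcycles (j + 1)) (M.d_pOpcycles j (j + 1))
    let S₂ : ShortComplex (ModuleCat.{u} R) :=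
      ShortComplex.mk (M.fromOpcycles j (j + 1)) (M.pOpcycles (j + 1)) hzero
    have hS₁ : S₁.Exact :=
      ShortComplex.exact_of_g_is_cokernel _ (M.opcyclesIsCokernel j (j + 1) (by simp))
    let φ : S₁ ⟶ S₂ :=
      { τ₁ := M.pOpcycles j, τ₂ := 𝟙 _, τ₃ := 𝟙 _
        comm₁₂ := by
          show M.pOpcycles j ≫ M.fromOpcycles j (j + 1) = M.d j (j + 1) ≫ 𝟙 _
          rw [HomologicalComplex.p_fromOpcycles, Category.comp_id]
        comm₂₃ := by
          show 𝟙 _ ≫ M.pOpcycles (j + 1) = M.pOpcycles (j + 1) ≫ 𝟙 _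
          rw [Category.comp_id, Category.id_comp] }
    have : Epi φ.τ₁ := inferInstanceAs (Epi (M.pOpcycles j))
    have : IsIso φ.τ₂ := inferInstanceAs (IsIso (𝟙 _))
    have : Mono φ.τ₃ := inferInstanceAs (Mono (𝟙 _))
    have hS₂ : S₂.Exact := (ShortComplex.exact_iff_of_epi_of_isIso_of_mono φ).1 hS₁
    have : Mono S₂.f := hmono
    have : Epi S₂.g := inferInstanceAs (Epi (M.pOpcycles (j + 1)))
    have hSE : S₂.ShortExact := { exact := hS₂ }
    have := hfree (j + 1)
    have h1 : Subsingleton (Ext (kk R) (M.X (j + 1)) n) :=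
      ext_free_subsingleton R g hg (M.X (j + 1)) n (by omega)
    have h2 : Subsingleton (Ext (kk R) (M.opcycles j) (n + 1)) := ih' (n + 1) (by omega)
    refine ⟨fun a b => ?_⟩
    have key : ∀ x : Ext (kk R) (M.opcycles (j + 1)) n, x = 0 := by
      intro x
      obtain ⟨y, hy⟩ := Ext.covariant_sequence_exact₃ (kk R) hSE x (rfl : n + 1 = n + 1)
        (Subsingleton.elim _ _)
      rw [← hy, Subsingleton.elim y 0, Ext.zero_comp]
    rw [key a, key b]

/-- Let R be a regular local ring of Krull dimension g and M = (M^0 → M^1 → ⋯ → M^g) a perfect complex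
over R, here a cochain complex of finitely generated free R-modules indexed by ℕ with M^i = 0 for i
> g, such that every cohomology module H^i(M) has finite length. Then H^i(M) = 0 for all i < g, so
that M has cohomology at most in degree g. -/
theorem result (R : Type u) [CommRing R]
    [IsRegularLocalRing R] (g : ℕ) (hg : ringKrullDim R = g) (M : CochainComplex (ModuleCat.{u} R) ℕ)
    (hbd : ∀ i, g < i → IsZero (M.X i)) (hfree : ∀ i, Module.Free R (M.X i) ∧ Module.Finite R (M.X i))
    (hfl : ∀ i, IsFiniteLength R (M.homology i)) (i : ℕ) (hi : i < g) :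
    IsZero (M.homology i) := by
  have hfree' : ∀ i, Module.Free R (M.X i) := fun i => (hfree i).1
  induction i using Nat.strong_induction_on with
  | _ i ih =>
    have hH : ∀ j' < i, IsZero (M.homology j') := fun j' hj' => ih j' hj' (by omega)
    have h0 := Groth.Agent.S14128.ext_opcycles_subsingleton R g hg M hfree' i hH 0 (by omega)
    apply isZero_of_hom_residue_eq_zero R _ (hfl i)
    intro f
    have h1 : Ext.mk₀ (f ≫ M.homologyι i) = 0 := Subsingleton.elim _ _
    have h2 : f ≫ M.homologyι i = 0 := by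
      have := congrArg Ext.addEquiv₀ h1
      simpa using this
    rw [← cancel_mono (M.homologyι i), h2, zero_comp]

end Groth.Agent.S14128
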