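import Groth.Statements.S1413
import Mathlib.RingTheory.Flat.FaithfullyFlat.Algebra
import Mathlib.RingTheory.RingHom.FaithfullyFlat

set_option autoImplicit false
universe u
open FlatMor

namespace Groth.Agent.S1413

open TensorProduct in
lemma flat_of_comp_of_faithfullyFlat {A B C : Type u} [CommRing A] [CommRing B] [CommRing C]
    [Algebra A B] [Algebra B C] [Algebra A C] [IsScalarTower A B C]
    [Module.FaithfullyFlat B C] [Module.Flat A C] : Module.Flat A B := by
  rw [Module.Flat.iff_lTensor_preserves_injective_linearMap]
  intro N P _ _ _ _ f hf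
  have h1 : Function.Injective (LinearMap.lTensor C f) :=
    Module.Flat.lTensor_preserves_injective_linearMap f hf
  let eN : C ⊗[B] (B ⊗[A] N) ≃ₗ[B] C ⊗[A] N :=
    (TensorProduct.AlgebraTensorModule.cancelBaseChange A B B C N)
  let eP : C ⊗[B] (B ⊗[A] P) ≃ₗ[B] C ⊗[A] P :=
    (TensorProduct.AlgebraTensorModule.cancelBaseChange A B B C P)
  have hcomm : ∀ x, eP (LinearMap.lTensor C (f.baseChange B) x) = LinearMap.lTensor C f (eN x) := by
    intro x
    induction x using TensorProduct.induction_on with
    | zero => simp
    | add x y hx hy => simp only [map_add, hx, hy]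
    | tmul c y =>
      induction y using TensorProduct.induction_on with
      | zero => simp
      | add x y hx hy => simp only [tmul_add, map_add, hx, hy]
      | tmul b n => simp [eN, eP]
  have h2 : Function.Injective (LinearMap.lTensor C (f.baseChange B)) := by
    intro x y hxy
    apply eN.injective
    apply h1
    rw [← hcomm, ← hcomm, hxy]
  have h3 := (Module.FaithfullyFlat.lTensor_injective_iff_injective B C (f.baseChange B)).mp h2
  rwa [LinearMap.baseChange_eq_ltensor] at h3

lemma ringHom_flat_of_comp {A B C : Type u} [CommRing A] [CommRing B] [CommRing C]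
    [IsLocalRing B] [IsLocalRing C] (φ : A →+* B) (ψ : B →+* C) [IsLocalHom ψ]
    (h1 : (ψ.comp φ).Flat) (h2 : ψ.Flat) : φ.Flat := by
  algebraize [φ, ψ, ψ.comp φ]
  have : Module.FaithfullyFlat B C := Module.FaithfullyFlat.of_flat_of_isLocalHom
  exact flat_of_comp_of_faithfullyFlat (A := A) (B := B) (C := C)

open AlgebraicGeometry CategoryTheory Limits in
/-- Let X → Y → Z be morphisms with X → Y flat and surjective and with the diagonal of X over Z flat.
Then the diagonal of Y over Z is flat. -/
theorem result {X Y Z : Scheme.{u}} (f : X ⟶ Y) (g : Y ⟶ Z) [Flat f] [Surjective f] [Flat (pullback.diagonal (f ≫ g))] :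
    Flat (pullback.diagonal g) := by
  rw [Flat.iff_flat_stalkMap]
  intro y
  obtain ⟨x, rfl⟩ := f.surjective y
  have hff : Flat (pullback.map (f ≫ g) (f ≫ g) g g f f (𝟙 Z) (by simp) (by simp)) :=
    MorphismProperty.pullbackMap (P := @Flat) inferInstance inferInstance rfl rfl
  have hsq : f ≫ pullback.diagonal g = pullback.diagonal (f ≫ g) ≫
      pullback.map (f ≫ g) (f ≫ g) g g f f (𝟙 Z) (by simp) (by simp) := by
    ext
    · rw [Category.assoc, Category.assoc, pullback.lift_fst, pullback.diagonal_fst,
        pullback.diagonal_fst_assoc, Category.comp_id]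
    · rw [Category.assoc, Category.assoc, pullback.lift_snd, pullback.diagonal_snd,
        pullback.diagonal_snd_assoc, Category.comp_id]
  have hflat : Flat (f ≫ pullback.diagonal g) := by rw [hsq]; infer_instance
  have h1 := Flat.stalkMap (f ≫ pullback.diagonal g) x
  rw [Scheme.Hom.stalkMap_comp] at h1
  have h2 := Flat.stalkMap f x
  have hloc : IsLocalHom (f.stalkMap x).hom := inferInstance
  exact @ringHom_flat_of_comp _ _ _ _ _ _ _ _ ((pullback.diagonal g).stalkMap (f x)).hom
    (f.stalkMap x).hom hloc h1 h2

end Groth.Agent.S1413
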