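import Groth.Statements.S1414
-- no extra imports

set_option autoImplicit false
universe u
open FlatMor

namespace Groth.Agent.S1414

open AlgebraicGeometry CategoryTheory Limits in
/-- Let f : X → Y and g : Y → Z with f ≫ g smooth and g étale. Then f is smooth. -/
theorem result {X Y Z : Scheme.{u}} (f : X ⟶ Y) (g : Y ⟶ Z) [Smooth (f ≫ g)] [Etale g] : Smooth f := by
  have hm : MorphismProperty.IsMultiplicative @Smooth :=
    { id_mem := fun X => (inferInstance : Smooth (𝟙 X))
      comp_mem := fun f g hf hg => MorphismProperty.comp_mem _ f g hf hg }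
  have h : MorphismProperty.HasOfPostcompProperty @Smooth @Etale := by
    rw [MorphismProperty.hasOfPostcompProperty_iff_le_diagonal]
    intro X Y f (hf : Etale f)
    exact inferInstanceAs <| Smooth (pullback.diagonal f)
  exact h.of_postcomp f g ‹Etale g› ‹Smooth (f ≫ g)›

end Groth.Agent.S1414
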