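import Groth.Statements.S14141
import Mathlib
import Groth.Agent.Lib.Helper11RigidBaseF

set_option autoImplicit false
universe u
open CategoryTheory CategoryTheory.Limits AlgebraicGeometry
open AbSch

namespace Groth.Agent.S14141


/-- Let S be a connected Noetherian scheme, f : X → S a proper flat morphism such that for every point s
of S the natural map κ(s) → H^0(X_s, O_{X_s}) on global sections of the fibre is bijective, g : Y →
S a separated morphism and π : X → Y a morphism over S. If for some point s of S the restriction of
π to the fibre X_s is constant, i.e. factors through the projection X_s → Spec κ(s), then π is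
constant over all of S: it factors as f followed by a section S → Y of g. (The published statement
is for arbitrary Noetherian S with the conclusion over the connected component of s; this row
assumes S connected, the reduction made in the first line of the printed proof.) -/
theorem result {X Y S : Scheme.{u}} [IsNoetherian S] [ConnectedSpace ↥S]
    (f : X ⟶ S) [IsProper f] [Flat f]
    (hfib : ∀ s : ↥S, Function.Bijective (algebraMap (S.residueField s) Γ(f.fiber s, ⊤)))
    (g : Y ⟶ S) [IsSeparated g] (π : X ⟶ Y) (hπ : π ≫ g = f) (s : ↥S)
    (hs : ∃ y : Spec (S.residueField s) ⟶ Y, f.fiberι s ≫ π = f.fiberToSpecResidueField s ≫ y) :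
    ∃ σ : S ⟶ Y, σ ≫ g = 𝟙 S ∧ π = f ≫ σ := by
  have hLN : IsLocallyNoetherian X := LocallyOfFiniteType.isLocallyNoetherian f
  have h0 : ∀ s : S, Function.Bijective
      (Limits.pullback.snd f (S.fromSpecResidueField s)).appTop.hom := by
    intro s
    have h1 := hfib s
    have h2 : (algebraMap (S.residueField s) Γ(f.fiber s, ⊤)) =
        ((f.fiberToSpecResidueField s).appTop.hom.comp
          (Scheme.ΓSpecIso (S.residueField s)).inv.hom) := rfl
    rw [h2] at h1
    have h3 : Function.Bijective (Scheme.ΓSpecIso (S.residueField s)).hom.hom :=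
      ConcreteCategory.bijective_of_isIso _
    have h4 := h1.comp h3
    have h5 : ⇑(Limits.pullback.snd f (S.fromSpecResidueField s)).appTop.hom =
        ⇑((f.fiberToSpecResidueField s).appTop.hom.comp
          (Scheme.ΓSpecIso (S.residueField s)).inv.hom) ∘
        ⇑(Scheme.ΓSpecIso (S.residueField s)).hom.hom := by
      funext a
      change _ = (f.fiberToSpecResidueField s).appTop.hom
        ((Scheme.ΓSpecIso (S.residueField s)).inv.hom
          ((Scheme.ΓSpecIso (S.residueField s)).hom.hom a))
      have : (Scheme.ΓSpecIso (S.residueField s)).inv.hom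
          ((Scheme.ΓSpecIso (S.residueField s)).hom.hom a) = a := by
        rw [← CommRingCat.comp_apply, Iso.hom_inv_id]; rfl
      rw [this]
      rfl
    rw [h5]
    exact h4
  obtain ⟨y, hy⟩ := hs
  have hcol : ∀ x₁ x₂ : X, f.base x₁ = s → f.base x₂ = s → π.base x₁ = π.base x₂ := by
    intro x₁ x₂ h1 h2
    have hr : ∀ x : X, f.base x = s → ∃ z : ↥(f.fiber s), (f.fiberι s).base z = x := by
      intro x hx
      have : x ∈ Set.range (f.fiberι s).base := by
        rw [Scheme.Hom.range_fiberι]; exact hx
      exact this
    obtain ⟨z₁, rfl⟩ := hr x₁ h1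
    obtain ⟨z₂, rfl⟩ := hr x₂ h2
    have e1 := congr($(hy).base z₁)
    have e2 := congr($(hy).base z₂)
    have hsub : (f.fiberToSpecResidueField s).base z₁ = (f.fiberToSpecResidueField s).base z₂ :=
      Subsingleton.elim _ _
    change π.base ((f.fiberι s).base z₁) = y.base ((f.fiberToSpecResidueField s).base z₁) at e1
    change π.base ((f.fiberι s).base z₂) = y.base ((f.fiberToSpecResidueField s).base z₂) at e2
    rw [e1, e2, hsub]
  obtain ⟨t, ht⟩ := Groth.Agent.Lib.Helper11RigidBase.rigidity_proper f π g (𝟙 S)
    (by rw [hπ, Category.comp_id]) h0 s hcol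
  refine ⟨t, ?_, ht⟩
  have hsurj : Function.Surjective f.base :=
    Groth.Agent.Lib.Helper11RigidBase.surjective_of_injective_appTop f (fun s => (h0 s).1)
  have : Surjective f := ⟨hsurj⟩
  have hepi : Epi f := Flat.epi_of_flat_of_surjective f
  rw [← cancel_epi f, ← Category.assoc, ← ht, hπ, Category.comp_id]

end Groth.Agent.S14141
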