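import Groth.Statements.S1415
import Mathlib

set_option autoImplicit false
universe u
open FlatMor

namespace Groth.Agent.S1415

section Dev
open CategoryTheory CategoryTheory.Limits AlgebraicGeometry
/-- bound on the number of points of all field-valued fibres -/
def Bd {X Y : Scheme.{u}} (f : X ⟶ Y) (d : ℕ) : Prop :=
  ∀ (K : Type u) [Field K] (g : Spec (CommRingCat.of K) ⟶ Y), ENat.card ↥(pullback f g) ≤ d

theorem Bd.mono_comp {W T Y : Scheme.{u}} (j : W ⟶ T) [Mono j] (π : T ⟶ Y) {d : ℕ}
    (h : Bd π d) : Bd (j ≫ π) d := by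
  intro K _ g
  let m : pullback (j ≫ π) g ⟶ pullback π g :=
    pullback.map _ _ _ _ j (𝟙 _) (𝟙 _) (by simp) (by simp)
  have : Mono m := by
    constructor
    intro Z a b hab
    apply pullback.hom_ext
    · rw [← cancel_mono j]
      have := congrArg (· ≫ pullback.fst π g) hab
      simp only [m, pullback.map, Category.assoc] at this
      rw [pullback.lift_fst] at this
      simpa only [Category.assoc] using this
    · have := congrArg (· ≫ pullback.snd π g) hab
      simp only [m, pullback.map, Category.assoc] at this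
      rw [pullback.lift_snd, Category.comp_id] at this
      exact this
  exact (ENat.card_le_card_of_injective m.injective).trans (h K g)

theorem Bd.comp_openImm {X V Y : Scheme.{u}} (f' : X ⟶ V) (i : V ⟶ Y) [IsOpenImmersion i] {d : ℕ}
    (h : Bd f' d) : Bd (f' ≫ i) d := by
  intro K _ g
  by_cases hne : Nonempty ↥(pullback (f' ≫ i) g)
  · obtain ⟨z⟩ := hne
    have hsub : Subsingleton ↥(Spec (CommRingCat.of K)) :=
      inferInstanceAs (Subsingleton (PrimeSpectrum K))
    have hr : Set.range g ⊆ Set.range i := by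
      rintro _ ⟨pt, rfl⟩
      have : pt = pullback.snd (f' ≫ i) g z := Subsingleton.elim _ _
      rw [this, ← Scheme.Hom.comp_apply, ← pullback.condition]
      exact ⟨f' (pullback.fst (f' ≫ i) g z), by simp⟩
    let g' := IsOpenImmersion.lift i g hr
    have hg' : g' ≫ i = g := IsOpenImmersion.lift_fac _ _ _
    let inv : pullback (f' ≫ i) g ⟶ pullback f' g' :=
      pullback.lift (pullback.fst _ _) (pullback.snd _ _)
        (by rw [← cancel_mono i]; simp [hg', pullback.condition])
    let hom : pullback f' g' ⟶ pullback (f' ≫ i) g :=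
      pullback.lift (pullback.fst _ _) (pullback.snd _ _)
        (by rw [← hg', ← Category.assoc, pullback.condition, Category.assoc])
    have hih : inv ≫ hom = 𝟙 _ := by
      apply pullback.hom_ext
      · simp only [inv, hom, Category.assoc, Category.id_comp]
        rw [pullback.lift_fst, pullback.lift_fst]
      · simp only [inv, hom, Category.assoc, Category.id_comp]
        rw [pullback.lift_snd, pullback.lift_snd]
    have hinj : Function.Injective inv := by
      intro a b hab
      have := congrArg hom hab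
      rwa [← Scheme.Hom.comp_apply, ← Scheme.Hom.comp_apply, hih] at this
    exact (ENat.card_le_card_of_injective hinj).trans (h K g')
  · rw [not_nonempty_iff] at hne
    rw [(ENat.card_eq_zero_iff_empty _).mpr hne]
    exact zero_le

theorem Bd.of_family {ι : Type*} (s : Finset ι) {X Y : Scheme.{u}} (f : X ⟶ Y)
    (W : ι → Scheme.{u}) (h : ∀ i, W i ⟶ X)
    (hcov : ∀ x : X, ∃ i ∈ s, x ∈ Set.range (h i)) (d : ι → ℕ)
    (hB : ∀ i ∈ s, Bd (h i ≫ f) (d i)) : Bd f (∑ i ∈ s, d i) := by
  intro K _ g
  let t : ι → Set ↥(pullback f g) := fun i => Set.range (pullback.snd (h i) (pullback.fst f g))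
  have hcovt : (Set.univ : Set ↥(pullback f g)) ⊆ ⋃ i ∈ s, t i := by
    intro z _
    obtain ⟨i, hi, w, hw⟩ := hcov (pullback.fst f g z)
    obtain ⟨z', -, hz'⟩ := Scheme.Pullback.exists_preimage_pullback (f := h i)
      (g := pullback.fst f g) w z hw
    simp only [Set.mem_iUnion]
    exact ⟨i, hi, z', hz'⟩
  have ht : ∀ i ∈ s, (t i).encard ≤ d i := by
    intro i hi
    let e := pullbackRightPullbackFstIso f g (h i)
    calc (t i).encard ≤ ENat.card ↥(pullback (h i) (pullback.fst f g)) := by
          rw [← Set.encard_univ]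
          show (Set.range _).encard ≤ _
          rw [← Set.image_univ]
          exact Set.encard_image_le _ _
      _ = ENat.card ↥(pullback (h i ≫ f) g) := ENat.card_congr e.hom.homeomorph.toEquiv
      _ ≤ d i := hB i hi K g
  calc ENat.card ↥(pullback f g) = (Set.univ : Set ↥(pullback f g)).encard := (Set.encard_univ _).symm
    _ ≤ (⋃ i ∈ s, t i).encard := Set.encard_le_encard hcovt
    _ ≤ ∑ i ∈ s, (t i).encard := Finset.set_encard_biUnion_le s t
    _ ≤ ∑ i ∈ s, (d i : ℕ∞) := Finset.sum_le_sum ht
    _ = ((∑ i ∈ s, d i : ℕ) : ℕ∞) := by push_cast; rfl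

theorem card_primeSpectrum_le (K : Type*) [Field K] (B : Type*) [CommRing B] [Algebra K B]
    [Module.Finite K B] : ENat.card (PrimeSpectrum B) ≤ Module.finrank K B := by
  have hart : IsArtinianRing B := IsArtinianRing.of_finite K B
  have hfin : Finite (PrimeSpectrum B) := inferInstance
  have := Fintype.ofFinite (PrimeSpectrum B)
  rw [ENat.card_eq_coe_fintype_card]
  norm_cast
  let I : PrimeSpectrum B → Ideal B := fun p => p.asIdeal
  have hcop : Pairwise (fun p q : PrimeSpectrum B => IsCoprime (I p) (I q)) := by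
    intro p q hpq
    have hp : (I p).IsMaximal := IsArtinianRing.isMaximal_of_isPrime (I p)
    have hq : (I q).IsMaximal := IsArtinianRing.isMaximal_of_isPrime (I q)
    rw [Ideal.isCoprime_iff_sup_eq]
    exact Ideal.IsMaximal.coprime_of_ne hp hq (fun h => hpq (PrimeSpectrum.ext h))
  let φ : B →ₗ[K] (∀ p : PrimeSpectrum B, B ⧸ I p) :=
    LinearMap.pi fun p => (Ideal.Quotient.mkₐ K (I p)).toLinearMap
  have hφ : Function.Surjective φ := by
    intro y
    obtain ⟨x, hx⟩ := Ideal.quotientInfToPiQuotient_surj hcop y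
    obtain ⟨b, rfl⟩ := Ideal.Quotient.mk_surjective x
    refine ⟨b, ?_⟩
    rw [← hx]
    rfl
  have h1 := LinearMap.finrank_le_finrank_of_surjective hφ
  rw [Module.finrank_pi_fintype] at h1
  refine le_trans ?_ h1
  calc Fintype.card (PrimeSpectrum B) = ∑ _p : PrimeSpectrum B, 1 := by simp
    _ ≤ ∑ p : PrimeSpectrum B, Module.finrank K (B ⧸ I p) := by
        apply Finset.sum_le_sum
        intro p _
        have : Nontrivial (B ⧸ I p) := Ideal.Quotient.nontrivial_iff.mpr p.isPrime.ne_top
        exact Module.finrank_pos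


open TensorProduct in
theorem Bd_finite_Spec (A B' : Type u) [CommRing A] [CommRing B'] [Algebra A B'] (s : Finset B')
    (hs : Submodule.span A (s : Set B') = ⊤) :
    Bd (Spec.map (CommRingCat.ofHom (algebraMap A B'))) s.card := by
  classical
  intro K _ g
  obtain ⟨ψ, rfl⟩ := Spec.map_surjective g
  letI : Algebra A K := ψ.hom.toAlgebra
  have hψ : ψ = CommRingCat.ofHom (algebraMap A K) := rfl
  rw [hψ]
  let e := pullbackSymmetry (Spec.map (CommRingCat.ofHom (algebraMap A B')))
    (Spec.map (CommRingCat.ofHom (algebraMap A K))) ≪≫ pullbackSpecIso A K B'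
  rw [ENat.card_congr e.hom.homeomorph.toEquiv]
  have hfin : Module.Finite A B' := ⟨⟨s, hs⟩⟩
  have h1 : ENat.card (PrimeSpectrum (K ⊗[A] B')) ≤ Module.finrank K (K ⊗[A] B') :=
    card_primeSpectrum_le K _
  refine h1.trans ?_
  norm_cast
  have hspan : Submodule.span K ((s.image (TensorProduct.mk A K B' 1) : Finset _) :
      Set (K ⊗[A] B')) = ⊤ := by
    rw [Finset.coe_image, ← Submodule.baseChange_span, hs, Submodule.baseChange_top]
  calc Module.finrank K (K ⊗[A] B') = Module.finrank K (⊤ : Submodule K (K ⊗[A] B')) :=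
        (finrank_top K _).symm
    _ = Module.finrank K (Submodule.span K ((s.image (TensorProduct.mk A K B' 1) : Finset _) :
      Set (K ⊗[A] B'))) := by rw [hspan]
    _ ≤ (s.image (TensorProduct.mk A K B' 1)).card := finrank_span_finset_le_card _
    _ ≤ s.card := Finset.card_image_le


theorem Bd_affine_qf {A B : CommRingCat.{u}} (φ : A ⟶ B) (hft : φ.hom.FiniteType)
    (hqf : φ.hom.QuasiFinite) : ∃ d, Bd (Spec.map φ) d := by
  algebraize [φ.hom]
  have key : ∀ q : PrimeSpectrum B, ∃ (S' : Subalgebra A B) (r : S'), S'.toSubmodule.FG ∧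
      r.1 ∉ q.asIdeal ∧ Function.Bijective (Localization.awayMap S'.val.toRingHom r) := by
    intro q
    obtain ⟨S', h1, r, h2, h3⟩ :=
      Algebra.QuasiFiniteAt.exists_fg_and_exists_notMem_and_awayMap_bijective (R := A) q.asIdeal
    exact ⟨S', r, h1, h2, h3⟩
  choose S' r hfg hr hbij using key
  have hcov : (Set.univ : Set (PrimeSpectrum B)) ⊆
      ⋃ q, (PrimeSpectrum.basicOpen (r q).1 : Set (PrimeSpectrum B)) := by
    intro q _
    simp only [Set.mem_iUnion]
    exact ⟨q, hr q⟩
  obtain ⟨t, ht⟩ := isCompact_univ.elim_finite_subcover _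
    (fun q => (PrimeSpectrum.basicOpen (r q).1).isOpen) hcov
  have hgen : ∀ q, ∃ s : Finset (S' q), Submodule.span A (s : Set (S' q)) = ⊤ := by
    intro q
    have : Module.Finite A (S' q) := Module.Finite.iff_fg.mpr (hfg q)
    exact Module.Finite.fg_top
  choose gen hgen using hgen
  refine ⟨∑ q ∈ t, (gen q).card, ?_⟩
  apply Bd.of_family t (Spec.map φ) (fun q => Spec (CommRingCat.of (Localization.Away (r q).1)))
    (fun q => Spec.map (CommRingCat.ofHom (algebraMap B (Localization.Away (r q).1))))
  · intro x
    obtain ⟨q, hq, hx⟩ : ∃ q ∈ t, (r q).1 ∉ x.asIdeal := by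
      simpa using ht (Set.mem_univ x)
    refine ⟨q, hq, ?_⟩
    have := PrimeSpectrum.localization_away_comap_range (Localization.Away (r q).1) (r q).1
    exact (eq_iff_iff.mp congr(x ∈ $this)).mpr hx
  · intro q hq
    have hfac : Spec.map (CommRingCat.ofHom (algebraMap B (Localization.Away (r q).1))) ≫ Spec.map φ
        = Spec.map (CommRingCat.ofHom (Localization.awayMap (S' q).val.toRingHom (r q))) ≫
          Spec.map (CommRingCat.ofHom (algebraMap (S' q) (Localization.Away (r q)))) ≫
          Spec.map (CommRingCat.ofHom (algebraMap A (S' q))) := by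
      rw [← Spec.map_comp, ← Spec.map_comp, ← Spec.map_comp]
      congr 1
      ext a
      show algebraMap B _ (φ.hom a) = Localization.awayMap (S' q).val.toRingHom (r q)
        (algebraMap (S' q) _ (algebraMap A (S' q) a))
      rw [Localization.awayMap, IsLocalization.Away.map, IsLocalization.map_eq]
      rfl
    rw [hfac]
    have : IsIso (Spec.map (CommRingCat.ofHom
        (Localization.awayMap (S' q).val.toRingHom (r q)))) := by
      have : IsIso (CommRingCat.ofHom (Localization.awayMap (S' q).val.toRingHom (r q))) :=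
        (ConcreteCategory.isIso_iff_bijective _).mpr (hbij q)
      infer_instance
    have hm : Mono (Spec.map (CommRingCat.ofHom
        (Localization.awayMap (S' q).val.toRingHom (r q)))) := inferInstance
    have hm2 : Mono (Spec.map (CommRingCat.ofHom (algebraMap (S' q) (Localization.Away (r q))))) :=
      inferInstance
    exact @Bd.mono_comp _ _ _ _ hm _ _
      (@Bd.mono_comp _ _ _ _ hm2 _ _ (Bd_finite_Spec A (S' q) (gen q) (hgen q)))


theorem exists_Bd {X Y : Scheme.{u}} (f : X ⟶ Y) [LocallyQuasiFinite f] [LocallyOfFiniteType f]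
    [CompactSpace X] : ∃ d, Bd f d := by
  have key : ∀ x : X, ∃ (U : X.Opens) (V : Y.Opens), IsAffineOpen U ∧ IsAffineOpen V ∧ x ∈ U ∧
      U ≤ f ⁻¹ᵁ V := by
    intro x
    obtain ⟨V, hV, hxV⟩ : ∃ V : Y.Opens, IsAffineOpen V ∧ f x ∈ V := by
      obtain ⟨_, ⟨V, hV, rfl⟩, hxV, -⟩ := Y.isBasis_affineOpens.exists_subset_of_mem_open
        (Set.mem_univ (f x)) isOpen_univ
      exact ⟨V, hV, hxV⟩
    obtain ⟨_, ⟨U, hU, rfl⟩, hxU, hUV⟩ := X.isBasis_affineOpens.exists_subset_of_mem_open
      (show x ∈ (f ⁻¹ᵁ V : Set X) from hxV) (f ⁻¹ᵁ V).isOpen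
    exact ⟨U, V, hU, hV, hxU, hUV⟩
  choose U V hU hV hxU hUV using key
  obtain ⟨t, ht⟩ := isCompact_univ.elim_finite_subcover (fun x => (U x : Set X))
    (fun x => (U x).isOpen) (fun x _ => Set.mem_iUnion.mpr ⟨x, hxU x⟩)
  have hB : ∀ x, ∃ d, Bd ((hU x).fromSpec ≫ f) d := by
    intro x
    have hfac : (hU x).fromSpec ≫ f =
        Spec.map (f.appLE (V x) (U x) (hUV x)) ≫ (hV x).fromSpec :=
      ((hV x).SpecMap_appLE_fromSpec f (hU x) (hUV x)).symm
    rw [hfac]
    obtain ⟨d, hd⟩ := Bd_affine_qf (f.appLE (V x) (U x) (hUV x))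
      (HasRingHomProperty.appLE (P := @LocallyOfFiniteType) f inferInstance ⟨V x, hV x⟩
        ⟨U x, hU x⟩ (hUV x))
      (HasRingHomProperty.appLE (P := @LocallyQuasiFinite) f inferInstance ⟨V x, hV x⟩
        ⟨U x, hU x⟩ (hUV x))
    exact ⟨d, Bd.comp_openImm _ _ hd⟩
  choose d hd using hB
  refine ⟨∑ x ∈ t, d x, Bd.of_family t f (fun x => Spec Γ(X, U x))
    (fun x => (hU x).fromSpec) ?_ d (fun x _ => hd x)⟩
  intro x
  obtain ⟨i, hi, hx⟩ : ∃ i ∈ t, x ∈ U i := by simpa using ht (Set.mem_univ x)
  exact ⟨i, hi, by rw [(hU i).range_fromSpec]; exact hx⟩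


theorem card_irred_of_discrete (Z : Type*) [TopologicalSpace Z] [DiscreteTopology Z] :
    (irreducibleComponents Z).encard = ENat.card Z := by
  have : irreducibleComponents Z = Set.range (fun z : Z => ({z} : Set Z)) := by
    ext s
    constructor
    · intro hs
      obtain ⟨z, hz⟩ := hs.1.nonempty
      have hsub : s.Subsingleton := hs.1.isPreirreducible.subsingleton
      exact ⟨z, (hsub.eq_singleton_of_mem hz).symm⟩
    · rintro ⟨z, rfl⟩
      refine ⟨isIrreducible_singleton, fun t ht hzt => ?_⟩
      have hsub : t.Subsingleton := ht.isPreirreducible.subsingleton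
      have hz : z ∈ t := hzt rfl
      rw [hsub.eq_singleton_of_mem hz]
  rw [this, ← Set.image_univ, Function.Injective.encard_image Set.singleton_injective,
    Set.encard_univ]

theorem card_cc_of_discrete (Z : Type*) [TopologicalSpace Z] [DiscreteTopology Z] :
    ENat.card (ConnectedComponents Z) = ENat.card Z := by
  symm
  apply ENat.card_congr
  refine Equiv.ofBijective ConnectedComponents.mk ⟨?_, ConnectedComponents.surjective_coe⟩
  intro a b hab
  rw [ConnectedComponents.coe_eq_coe] at hab
  rw [connectedComponent_eq_singleton, connectedComponent_eq_singleton] at hab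
  exact Set.singleton_injective hab

theorem main {X Y : Scheme.{u}} (f : X ⟶ Y) [LocallyQuasiFinite f] [LocallyOfFiniteType f] :
    (∀ y : Y, MoreMor.nGeomIrredComp f y = MoreMor.nGeomConnComp f y) ∧
      (CompactSpace ↑X → ∃ d : ℕ, ∀ y : Y, MoreMor.nGeomConnComp f y ≤ d) := by
  constructor
  · intro y
    have hq1 : LocallyQuasiFinite (f.fiberToSpecResidueField y) := by
      unfold Scheme.Hom.fiberToSpecResidueField
      exact MorphismProperty.pullback_snd (P := @LocallyQuasiFinite) f _ inferInstance
    let p : MoreMor.geomFiber f y ⟶ Spec (CommRingCat.of (SeparableClosure (Y.residueField y))) :=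
      pullback.snd _ _
    have hq2 : LocallyQuasiFinite p := by
      exact MorphismProperty.pullback_snd (P := @LocallyQuasiFinite) _ _ hq1
    have hsub : Subsingleton ↥(Spec (CommRingCat.of (SeparableClosure (Y.residueField y)))) :=
      inferInstanceAs (Subsingleton (PrimeSpectrum (SeparableClosure (Y.residueField y))))
    have hne : Nonempty ↥(Spec (CommRingCat.of (SeparableClosure (Y.residueField y)))) :=
      inferInstanceAs (Nonempty (PrimeSpectrum (SeparableClosure (Y.residueField y))))
    obtain ⟨pt⟩ := hne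
    have h := p.isDiscrete_preimage_singleton pt
    have hu : p ⁻¹' {pt} = Set.univ := by
      ext z
      simp only [Set.mem_preimage, Set.mem_singleton_iff, Set.mem_univ, iff_true]
      exact Subsingleton.elim _ _
    rw [hu, isDiscrete_univ_iff] at h
    unfold MoreMor.nGeomIrredComp MoreMor.nGeomConnComp
    rw [card_irred_of_discrete, card_cc_of_discrete]
  · intro hX
    obtain ⟨d, hd⟩ := exists_Bd f
    refine ⟨d, fun y => ?_⟩
    unfold MoreMor.nGeomConnComp
    let e : MoreMor.geomFiber f y ≅ _ := pullbackLeftPullbackSndIso f (Y.fromSpecResidueField y)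
      (Spec.map (CommRingCat.ofHom
      (algebraMap (Y.residueField y) (SeparableClosure (Y.residueField y)))))
    calc ENat.card (_root_.ConnectedComponents ↥(MoreMor.geomFiber f y))
        ≤ ENat.card ↥(MoreMor.geomFiber f y) :=
          ENat.card_le_card_of_injective
            (Function.injective_surjInv ConnectedComponents.surjective_coe)
      _ = ENat.card ↥(pullback f (Spec.map (CommRingCat.ofHom
            (algebraMap (Y.residueField y) (SeparableClosure (Y.residueField y)))) ≫
            Y.fromSpecResidueField y)) := ENat.card_congr e.hom.homeomorph.toEquiv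
      _ ≤ d := hd _ _


end Dev

open AlgebraicGeometry CategoryTheory Limits in
/-- Let f : X → Y be locally quasi-finite. Then (1) for every y the number of irreducible components and
the number of connected components of the geometric fibre over y agree, and (2) if X is
quasi-compact these numbers are bounded by some natural number. -/
theorem result {X Y : Scheme.{u}} (f : X ⟶ Y) [LocallyQuasiFinite f] [LocallyOfFiniteType f] :
    (∀ y : Y, MoreMor.nGeomIrredComp f y = MoreMor.nGeomConnComp f y) ∧
      (CompactSpace ↑X → ∃ d : ℕ, ∀ y : Y, MoreMor.nGeomConnComp f y ≤ d) := by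
  exact main f

end Groth.Agent.S1415
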