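import Groth.Statements.S9221
-- import your own Groth.Agent.* helpers here
import Mathlib
import Groth.Agent.S2074
import Groth.Agent.S0020
import Groth.Agent.Lib.Helper20PullbackAff

set_option autoImplicit false
universe u
open CategoryTheory AlgebraicGeometry
open Lim

namespace Groth.Agent.S9221

set_option linter.style.haveILetI false

open CategoryTheory.Limits

/-- a closed immersion whose range contains the closed set `Z` receives the reduced structure on `Z`. -/
theorem exists_lift_vanishingIdeal {X X' : Scheme.{u}} (ι : X' ⟶ X) [IsClosedImmersion ι]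
    (Z : TopologicalSpace.Closeds X) (hZ : (Z : Set X) ⊆ Set.range ι) :
    ∃ r : (Scheme.IdealSheafData.vanishingIdeal Z).subscheme ⟶ X', IsClosedImmersion r ∧
      r ≫ ι = (Scheme.IdealSheafData.vanishingIdeal Z).subschemeι := by
  have hker : ι.ker ≤ (Scheme.IdealSheafData.vanishingIdeal Z).subschemeι.ker := by
    rw [Scheme.IdealSheafData.ker_subschemeι, ← Scheme.IdealSheafData.le_support_iff_le_vanishingIdeal]
    intro x hx
    change x ∈ (ι.ker.support : Set X)
    rw [Scheme.Hom.support_ker]
    exact subset_closure (hZ hx)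
  have hfac := IsClosedImmersion.lift_fac ι (Scheme.IdealSheafData.vanishingIdeal Z).subschemeι hker
  refine ⟨IsClosedImmersion.lift ι _ hker, ?_, hfac⟩
  haveI : IsClosedImmersion (IsClosedImmersion.lift ι _ hker ≫ ι) := by
    rw [hfac]; infer_instance
  exact IsClosedImmersion.of_comp (IsClosedImmersion.lift ι _ hker) ι

/-- properness does not see nilpotents. -/
theorem isProper_of_surjective_closedImmersion {Z X' Y : Scheme.{u}} (r : Z ⟶ X') (g : X' ⟶ Y)
    [IsClosedImmersion r] [Surjective r] [LocallyOfFiniteType g] (h : IsProper (r ≫ g)) :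
    IsProper g := by
  haveI := h
  haveI : UniversallyClosed g := UniversallyClosed.of_comp_surjective r g
  haveI : IsSeparated g := by
    refine ⟨IsClosedImmersion.of_isPreimmersion _ ?_⟩
    let m : pullback (r ≫ g) (r ≫ g) ⟶ pullback g g :=
      pullback.map (r ≫ g) (r ≫ g) g g r r (𝟙 _) ((Category.comp_id _).trans rfl)
        ((Category.comp_id _).trans rfl)
    haveI : MorphismProperty.IsStableUnderComposition @IsClosedImmersion.{u} :=
      (inferInstance : MorphismProperty.IsMultiplicative @IsClosedImmersion.{u}).toIsStableUnderComposition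
    haveI hm : IsClosedImmersion m :=
      MorphismProperty.pullbackMap (P := @IsClosedImmersion) (inferInstance : IsClosedImmersion r)
        (inferInstance : IsClosedImmersion r) rfl rfl
    have hcomm : pullback.diagonal (r ≫ g) ≫ m = r ≫ pullback.diagonal g := by
      apply pullback.hom_ext
      · simp only [m, pullback.map, Category.assoc, pullback.lift_fst, pullback.diagonal_fst_assoc,
          pullback.diagonal_fst, Category.comp_id]
      · simp only [m, pullback.map, Category.assoc, pullback.lift_snd, pullback.diagonal_snd_assoc,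
          pullback.diagonal_snd, Category.comp_id]
    have h1 : Set.range (pullback.diagonal g) = m '' Set.range (pullback.diagonal (r ≫ g)) := by
      rw [← Set.range_comp]
      have h2 : (m : _ → _) ∘ (pullback.diagonal (r ≫ g) : _ → _) =
          (pullback.diagonal g : _ → _) ∘ (r : _ → _) := by
        funext z
        change (pullback.diagonal (r ≫ g) ≫ m) z = (r ≫ pullback.diagonal g) z
        rw [hcomm]
      rw [h2, Set.range_comp, Set.range_eq_univ.mpr r.surjective, Set.image_univ]
    rw [h1]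
    exact m.isClosedEmbedding.isClosedMap _ (pullback.diagonal (r ≫ g)).isClosedEmbedding.isClosed_range
  exact {}

theorem support_pullback {X Y : Scheme.{u}} (q : Y ⟶ X) (F : X.Modules) [F.IsQuasicoherent]
    (hF : CohB1.IsFT F) :
    CohB1.support ((Scheme.Modules.pullback q).obj F) = q ⁻¹' CohB1.support F := by
  haveI : SheafOfModules.IsFiniteType (R := X.ringCatSheaf) F := hF
  ext y
  simp only [CohB1.support, Set.mem_ofPred_eq, Set.mem_preimage]
  rw [Groth.Agent.Lib.Helper20.PullbackAff.subsingleton_stalk_pullback_iff q F y]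

theorem range_of_isPullback {P X Y S : Scheme.{u}} {a : P ⟶ X} {b : P ⟶ Y} {f : X ⟶ S} {g : Y ⟶ S}
    (h : IsPullback a b f g) : Set.range b = g ⁻¹' Set.range f := by
  have hb : b = h.isoPullback.hom ≫ pullback.snd f g := h.isoPullback_hom_snd.symm
  rw [← Scheme.Pullback.range_snd f g]
  ext x
  constructor
  · rintro ⟨z, rfl⟩
    exact ⟨h.isoPullback.hom z, by rw [← Scheme.Hom.comp_apply, ← hb]⟩
  · rintro ⟨w, rfl⟩
    refine ⟨h.isoPullback.inv w, ?_⟩
    rw [← Scheme.Hom.comp_apply, h.isoPullback_inv_snd]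

/-- Let S = lim S_i be a cofiltered limit of schemes with affine transition morphisms, S_{i₀} a
quasi-compact quasi-separated stage, f₀ : X₀ → Y₀ a morphism of quasi-compact quasi-separated
schemes over S_{i₀}, and f : X → Y its base change along S → S_{i₀} (base changes expressed by
pullback squares). Let F₀ be a quasi-coherent O_{X₀}-module of finite type, with pullbacks F to X
and F_i to X_i, and assume f₀ is locally of finite type. If the support of F (a closed subset of X,
taken with its reduced structure; equivalently the scheme-theoretic support of F) is proper over Y,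
then for some index i over i₀, with f_i : X_i → Y_i the base change of f₀ along S_i → S_{i₀}, the
support of F_i is proper over Y_i. -/
theorem result {I : Type u} [SmallCategory I] [IsCofiltered I]
    (D : I ⥤ Scheme.{u}) (c : Limits.Cone D) (hc : Limits.IsLimit c)
    [∀ (i j : I) (f : i ⟶ j), IsAffineHom (D.map f)] (i₀ : I) [CompactSpace (D.obj i₀)]
    [QuasiSeparatedSpace (D.obj i₀)] {X₀ Y₀ : Scheme.{u}} (f₀ : X₀ ⟶ Y₀) (g₀ : Y₀ ⟶ D.obj i₀)
    [CompactSpace X₀] [QuasiSeparatedSpace X₀] [CompactSpace Y₀] [QuasiSeparatedSpace Y₀]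
    [LocallyOfFiniteType f₀] (F₀ : X₀.Modules) [Coh.IsQCoh F₀] (hF₀ : CohB1.IsFT F₀)
    {X Y : Scheme.{u}} (f : X ⟶ Y) (g : Y ⟶ c.pt) (qY : Y ⟶ Y₀) (qX : X ⟶ X₀)
    (hY : IsPullback qY g g₀ (c.π.app i₀)) (hX : IsPullback qX f f₀ qY) (hF : ClSub.IsProperOver f (CohB1.support ((Scheme.Modules.pullback qX).obj F₀))) :
    ∃ (i : I) (φ : i ⟶ i₀) (Xi Yi : Scheme.{u}) (fi : Xi ⟶ Yi) (gi : Yi ⟶ D.obj i) (pY : Yi ⟶ Y₀)
      (pX : Xi ⟶ X₀), IsPullback pY gi g₀ (D.map φ) ∧ IsPullback pX fi f₀ pY ∧ ClSub.IsProperOver fi (CohB1.support ((Scheme.Modules.pullback pX).obj F₀)) := by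
  have hZ₀ : IsClosed (CohB1.support F₀) := Groth.Agent.S0020.result X₀ F₀ hF₀
  let Z₀ : TopologicalSpace.Closeds X₀ := ⟨CohB1.support F₀, hZ₀⟩
  let I₀ := Scheme.IdealSheafData.vanishingIdeal Z₀
  let ι₀ : I₀.subscheme ⟶ X₀ := I₀.subschemeι
  have hι₀ : Set.range ι₀ = CohB1.support F₀ := by
    rw [Scheme.IdealSheafData.range_subschemeι, Scheme.IdealSheafData.coe_support_vanishingIdeal]
    rfl
  -- the preimage closed subscheme of `X`
  let ι' : pullback ι₀ qX ⟶ X := pullback.snd ι₀ qX
  let q' : pullback ι₀ qX ⟶ I₀.subscheme := pullback.fst ι₀ qX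
  have hι' : Set.range ι' = CohB1.support ((Scheme.Modules.pullback qX).obj F₀) := by
    rw [support_pullback qX F₀ hF₀, Scheme.Pullback.range_snd, hι₀]
  obtain ⟨hcl, hprop⟩ := hF
  obtain ⟨r, hr, hrι⟩ := exists_lift_vanishingIdeal ι' ⟨_, hcl⟩ (by rw [hι']; rfl)
  haveI := hr
  haveI : Surjective r := by
    refine ⟨fun x' => ?_⟩
    have hx' : ι' x' ∈ Set.range (Scheme.IdealSheafData.vanishingIdeal ⟨_, hcl⟩).subschemeι := by
      rw [Scheme.IdealSheafData.range_subschemeι, Scheme.IdealSheafData.coe_support_vanishingIdeal]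
      change ι' x' ∈ CohB1.support _
      rw [← hι']
      exact ⟨x', rfl⟩
    obtain ⟨z, hz⟩ := hx'
    refine ⟨z, ι'.isClosedEmbedding.injective ?_⟩
    rw [← hz, ← hrι]
    rfl
  haveI : LocallyOfFiniteType f :=
    MorphismProperty.of_isPullback (P := @LocallyOfFiniteType) hX inferInstance
  haveI : IsClosedImmersion ι' := by
    change IsClosedImmersion (pullback.snd ι₀ qX)
    infer_instance
  haveI : IsProper (ι' ≫ f) :=
    isProper_of_surjective_closedImmersion r (ι' ≫ f) (by rw [← Category.assoc, hrι]; exact hprop)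
  haveI : CompactSpace ↥I₀.subscheme := QuasiCompact.compactSpace_of_compactSpace ι₀
  haveI : QuasiSeparatedSpace ↥I₀.subscheme := quasiSeparatedSpace_of_quasiSeparated ι₀
  have hX' : IsPullback q' (ι' ≫ f) (ι₀ ≫ f₀) qY := (IsPullback.of_hasPullback ι₀ qX).paste_vert hX
  obtain ⟨i, φ, Xi', Yi, fi', gi, pY, pX', hYi, hXi', hfi'⟩ :=
    Groth.Agent.S2074.result D c hc i₀ (ι₀ ≫ f₀) g₀ (ι' ≫ f) g qY q' hY hX'
  haveI := hfi'
  refine ⟨i, φ, pullback f₀ pY, Yi, pullback.snd f₀ pY, gi, pY, pullback.fst f₀ pY, hYi,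
    IsPullback.of_hasPullback f₀ pY, ?_⟩
  let ιi : Xi' ⟶ pullback f₀ pY := pullback.lift (pX' ≫ ι₀) fi' (by rw [Category.assoc]; exact hXi'.w)
  have hsq : IsPullback pX' ιi ι₀ (pullback.fst f₀ pY) := by
    refine IsPullback.of_bot ?_ (pullback.lift_fst _ _ _).symm (IsPullback.of_hasPullback f₀ pY)
    rw [pullback.lift_snd]
    exact hXi'
  haveI : IsClosedImmersion ιi :=
    MorphismProperty.of_isPullback (P := @IsClosedImmersion) hsq inferInstance
  have hιi : Set.range ιi =
      CohB1.support ((Scheme.Modules.pullback (pullback.fst f₀ pY)).obj F₀) := by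
    rw [support_pullback _ F₀ hF₀, ← hι₀]
    exact range_of_isPullback hsq
  have hcli : IsClosed (CohB1.support ((Scheme.Modules.pullback (pullback.fst f₀ pY)).obj F₀)) := by
    rw [← hιi]
    exact ιi.isClosedEmbedding.isClosed_range
  refine ⟨hcli, ?_⟩
  obtain ⟨ri, hri, hriι⟩ := exists_lift_vanishingIdeal ιi ⟨_, hcli⟩ (by rw [hιi]; rfl)
  haveI := hri
  have hfin : (Scheme.IdealSheafData.vanishingIdeal ⟨_, hcli⟩).subschemeι ≫ pullback.snd f₀ pY =
      ri ≫ fi' := by
    rw [← hriι, Category.assoc, pullback.lift_snd]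
  rw [hfin]
  infer_instance

end Groth.Agent.S9221
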