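import Groth.Statements.S1416
-- import your own Groth.Agent.* helpers here
import Mathlib
import Groth.Agent.Lib.Helper3FlatFibDim2
import Groth.Agent.Lib.Helper18Ann2
import Groth.Agent.Lib.Helper2PullbackSec3
import Groth.Agent.Lib.Helper2FlatOver2
import Groth.Agent.Lib.Helper10SubtrVal
import Groth.Agent.Lib.Helper20FormalPull
import Groth.Agent.S9221

set_option autoImplicit false
universe u
open FlatMor

namespace Groth.Agent.S1416

open AlgebraicGeometry CategoryTheory Limits TopologicalSpace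
open Groth.Agent.Lib.Helper2.FPAff

set_option linter.style.haveILetI false

/-- ring lemma: a quotient of `B` by the radical of the annihilator of an `R`-torsion-free
`B`-module is flat over the Bezout domain `R`. -/
theorem flat_comp_of_torsionFree {R B Q M : Type*} [CommRing R] [IsDomain R] [IsBezout R]
    [CommRing B] [CommRing Q] [AddCommGroup M] [Module B M]
    (ψ : R →+* B) (π : B →+* Q) (hπ : Function.Surjective π)
    (hker : RingHom.ker π = (Module.annihilator B M).radical)
    (hreg : ∀ r : R, r ≠ 0 → ∀ m : M, ψ r • m = 0 → m = 0) :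
    (π.comp ψ).Flat := by
  letI : Algebra R Q := (π.comp ψ).toAlgebra
  show Module.Flat R Q
  rw [Module.Flat.flat_iff_torsion_eq_bot_of_isBezout, eq_bot_iff]
  intro q hq
  obtain ⟨a, ha⟩ := (Submodule.mem_torsion_iff q).mp hq
  obtain ⟨b, rfl⟩ := hπ q
  have ha0 : (a : R) ≠ 0 := nonZeroDivisors.coe_ne_zero a
  have ha' : π (ψ (a : R)) * π b = 0 := by
    have h0 := ha
    rw [Submonoid.smul_def, Algebra.smul_def, RingHom.algebraMap_toAlgebra] at h0
    exact h0
  have h1 : ψ (a : R) * b ∈ (Module.annihilator B M).radical := by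
    rw [← hker, RingHom.mem_ker, map_mul]
    exact ha'
  obtain ⟨k, hk⟩ := h1
  have h2 : b ^ k ∈ Module.annihilator B M := by
    rw [Module.mem_annihilator]
    intro m
    apply hreg ((a : R) ^ k) (pow_ne_zero k ha0)
    rw [map_pow, ← mul_smul, ← mul_pow]
    exact Module.mem_annihilator.mp hk m
  have h3 : b ∈ RingHom.ker π := by
    rw [hker]
    exact ⟨k, h2⟩
  rw [Submodule.mem_bot]
  exact (RingHom.mem_ker).mp h3

/-- the fibre of a composite with an embedding is the trace of the fibre on the range. -/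
theorem dim_fiber_comp {Z X T : Scheme.{u}} (ι : Z ⟶ X) (h : X ⟶ T) (hι : Topology.IsEmbedding ι)
    (y : T) :
    topologicalKrullDim ↥((ι ≫ h).fiber y) = topologicalKrullDim ↥(h ⁻¹' {y} ∩ Set.range ι) := by
  have hmem : ∀ z : ↥((ι ≫ h) ⁻¹' {y}), ι z.1 ∈ h ⁻¹' {y} ∩ Set.range ι :=
    fun z => ⟨z.2, ⟨z.1, rfl⟩⟩
  let φ : ↥((ι ≫ h) ⁻¹' {y}) → ↥(h ⁻¹' {y} ∩ Set.range ι) := fun z => ⟨ι z.1, hmem z⟩
  have hφc : Continuous φ := (ι.continuous.comp continuous_subtype_val).subtype_mk _
  have hφe : Topology.IsEmbedding φ := by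
    refine Topology.IsEmbedding.of_comp hφc continuous_subtype_val ?_
    exact hι.comp Topology.IsEmbedding.subtypeVal
  have hφs : Function.Surjective φ := by
    rintro ⟨x, hx1, ⟨z, rfl⟩⟩
    exact ⟨⟨z, hx1⟩, rfl⟩
  have e1 := IsHomeomorph.topologicalKrullDim_eq _ ((ι ≫ h).fiberHomeo y).isHomeomorph
  have e2 := IsHomeomorph.topologicalKrullDim_eq _
    (hφe.toHomeomorphOfSurjective hφs).isHomeomorph
  exact e1.trans e2

theorem isClosed_support {X : Scheme.{u}} (F : X.Modules) (hF : Coh.IsCoh F) :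
    IsClosed (CohB1.support F) := by
  haveI : F.IsQuasicoherent := hF.1
  obtain ⟨J, -, -, -, hJ⟩ := Groth.Agent.Helper18Ann.main_S9377 F hF.2
  rw [← hJ]
  exact J.support.isClosed

theorem exists_closedImmersion_range {X : Scheme.{u}} (C : Set X) (hC : IsClosed C) :
    ∃ (Z : Scheme.{u}) (ι : Z ⟶ X), IsClosedImmersion ι ∧ Set.range ι = C := by
  refine ⟨_, (Scheme.IdealSheafData.vanishingIdeal ⟨C, hC⟩).subschemeι, inferInstance, ?_⟩
  rw [Scheme.IdealSheafData.range_subschemeι, Scheme.IdealSheafData.coe_support_vanishingIdeal]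
  rfl

/-- the closed subscheme cut out by the radical of the annihilator of a module flat over a
valuation ring is flat over the valuation ring. -/
theorem flat_of_radical_ann {A : Type u} [CommRing A] [IsDomain A] [ValuationRing A]
    {Y : Scheme.{u}} (g : Y ⟶ Spec (CommRingCat.of A)) (G : Y.Modules) [G.IsQuasicoherent]
    (hGfl : FlatMod.IsFlatOver g G) (I : Y.IdealSheafData)
    (hI : ∀ U : Y.affineOpens,
      I.ideal U = (Module.annihilator Γ(Y, U.1) Γ(G, U.1)).radical) :
    Flat (I.subschemeι ≫ g) := by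
  let eR : Γ(Spec (CommRingCat.of A), ⊤) ≃+* A :=
    (Scheme.ΓSpecIso (CommRingCat.of A)).commRingCatIsoToRingEquiv
  haveI : IsDomain Γ(Spec (CommRingCat.of A), ⊤) := MulEquiv.isDomain A eR.toMulEquiv
  haveI : IsBezout Γ(Spec (CommRingCat.of A), ⊤) :=
    Function.Surjective.isBezout eR.symm.toRingHom eR.symm.surjective
  rw [HasRingHomProperty.iff_exists_appLE (P := @Flat)
    (RingHom.Flat.stableUnderComposition.stableUnderCompositionWithLocalizationAway
      RingHom.Flat.holdsForLocalizationAway).left]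
  intro z
  obtain ⟨U', hU', hzU', -⟩ := exists_isAffineOpen_mem_and_subset
    (x := I.subschemeι z) (U := ⊤) trivial
  have e' : U' ≤ g ⁻¹ᵁ ⊤ := fun _ _ => trivial
  refine ⟨⟨⊤, isAffineOpen_top _⟩, ⟨I.subschemeι ⁻¹ᵁ U', hU'.preimage _⟩, hzU',
    fun _ _ => trivial, ?_⟩
  have hcomp : ((I.subschemeι ≫ g).appLE ⊤ (I.subschemeι ⁻¹ᵁ U') (fun _ _ => trivial)).hom =
      (I.subschemeι.app U').hom.comp (g.appLE ⊤ U' e').hom := by
    rw [← CommRingCat.hom_comp, ← Scheme.Hom.appLE_eq_app, Scheme.Hom.appLE_comp_appLE]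
  have hflat := (Groth.Agent.Lib.Helper2.FlatOver.isFlatOver_iff_forall_affine g G).mp hGfl U' ⊤ e'
    hU' (isAffineOpen_top _)
  have key : ((I.subschemeι.app U').hom.comp (g.appLE ⊤ U' e').hom).Flat := by
    refine flat_comp_of_torsionFree (M := Γ(G, U')) _ _
      (I.subschemeι_app_surjective ⟨U', hU'⟩) ?_ ?_
    · rw [I.ker_subschemeι_app ⟨U', hU'⟩, hI]
    · intro r hr m hm
      letI : Module Γ(Spec (CommRingCat.of A), ⊤) Γ(G, U') :=
        Module.compHom Γ(G, U') (g.appLE ⊤ U' e').hom
      haveI : Module.Flat Γ(Spec (CommRingCat.of A), ⊤) Γ(G, U') := hflat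
      have h3 : IsSMulRegular Γ(G, U') r :=
        Module.Flat.isSMulRegular_of_nonZeroDivisors (mem_nonZeroDivisors_of_ne_zero hr)
      apply h3
      show (g.appLE ⊤ U' e').hom r • m = (g.appLE ⊤ U' e').hom r • (0 : Γ(G, U'))
      rw [smul_zero]
      exact hm
  rw [← hcomp] at key
  exact key

/-- after base change to a valuation ring, the support of a flat coherent module is the underlying
space of a flat scheme of finite type over the valuation ring, with the expected fibres. -/
theorem exists_flat_model {X S X' : Scheme.{u}} (f : X ⟶ S) [LocallyOfFiniteType f]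
    (F : X.Modules) (hF : Coh.IsCoh F) (hfl : FlatMod.IsFlatOver f F)
    {A : Type u} [CommRing A] [IsDomain A] [ValuationRing A]
    (t : Spec (CommRingCat.of A) ⟶ S) (p : X' ⟶ X) (fA : X' ⟶ Spec (CommRingCat.of A))
    (hpb : IsPullback p fA f t) :
    ∃ (Y : Scheme.{u}) (g : Y ⟶ Spec (CommRingCat.of A)), Flat g ∧ LocallyOfFiniteType g ∧
      ∀ y, topologicalKrullDim ↥(g.fiber y) =
        topologicalKrullDim ↥(f ⁻¹' {t y} ∩ CohB1.support F) := by
  haveI : F.IsQuasicoherent := hF.1
  have hFft : CohB1.IsFT F := hF.2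
  haveI : SheafOfModules.IsFiniteType (R := X.ringCatSheaf) F := hFft
  have hCcl : IsClosed (CohB1.support F) := isClosed_support F hF
  haveI : LocallyOfFiniteType fA :=
    MorphismProperty.of_isPullback (P := @LocallyOfFiniteType) hpb inferInstance
  haveI : ((Scheme.Modules.pullback p).obj F).IsQuasicoherent := inferInstance
  have hGft : CohB1.IsFT ((Scheme.Modules.pullback p).obj F) :=
    Groth.Agent.Lib.Helper20.FormalPull.isFiniteType_pullback p F
  have hGfl : FlatMod.IsFlatOver fA ((Scheme.Modules.pullback p).obj F) := fun x' =>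
    Groth.Agent.Lib.Helper2.PullbackSec.isFlatOverAt_pullback_of_isPullback hpb F x' (hfl (p.base x'))
  have hGsupp : CohB1.support ((Scheme.Modules.pullback p).obj F) = p ⁻¹' CohB1.support F :=
    Groth.Agent.S9221.support_pullback p F hFft
  obtain ⟨CG, hCG⟩ : ∃ CG : Closeds X', (CG : Set X') = p ⁻¹' CohB1.support F :=
    ⟨⟨_, hCcl.preimage p.continuous⟩, rfl⟩
  have hI : ∀ U : X'.affineOpens, (Scheme.IdealSheafData.vanishingIdeal CG).ideal U =
      (Module.annihilator Γ(X', U.1) Γ((Scheme.Modules.pullback p).obj F, U.1)).radical := by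
    obtain ⟨J, hJ1, -, -, hJ4⟩ :=
      Groth.Agent.Helper18Ann.main_S9377 ((Scheme.Modules.pullback p).obj F) hGft
    have hCJ : CG = J.support := by
      apply SetLike.coe_injective
      rw [hCG, hJ4, hGsupp]
    intro U
    rw [hCJ, Scheme.IdealSheafData.vanishingIdeal_support, Scheme.IdealSheafData.radical_ideal, hJ1]
  refine ⟨_, (Scheme.IdealSheafData.vanishingIdeal CG).subschemeι ≫ fA,
    flat_of_radical_ann fA _ hGfl _ hI, inferInstance, fun y => ?_⟩
  obtain ⟨Z, ι, hιcl, hrι⟩ := exists_closedImmersion_range (CohB1.support F) hCcl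
  have hrj : Set.range (Scheme.IdealSheafData.vanishingIdeal CG).subschemeι =
      p ⁻¹' CohB1.support F := by
    rw [Scheme.IdealSheafData.range_subschemeι, Scheme.IdealSheafData.coe_support_vanishingIdeal,
      hCG]
  have hrq : Set.range (pullback.snd ι p) = p ⁻¹' CohB1.support F := by
    rw [Scheme.Pullback.range_snd, hrι]
  have hpaste : IsPullback (pullback.fst ι p) (pullback.snd ι p ≫ fA) (ι ≫ f) t :=
    (IsPullback.of_hasPullback ι p).paste_vert hpb
  have e1 : topologicalKrullDim
      ↥(((Scheme.IdealSheafData.vanishingIdeal CG).subschemeι ≫ fA).fiber y) =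
      topologicalKrullDim ↥(fA ⁻¹' {y} ∩ p ⁻¹' CohB1.support F) := by
    rw [dim_fiber_comp _ fA
      (Scheme.IdealSheafData.vanishingIdeal CG).subschemeι.isClosedEmbedding.isEmbedding y, hrj]
  have e2 : topologicalKrullDim ↥((pullback.snd ι p ≫ fA).fiber y) =
      topologicalKrullDim ↥(fA ⁻¹' {y} ∩ p ⁻¹' CohB1.support F) := by
    rw [dim_fiber_comp (pullback.snd ι p) fA (pullback.snd ι p).isClosedEmbedding.isEmbedding y,
      hrq]
  have e3 := Groth.Agent.Lib.Helper3.FlatFibDim2.dim_fiber_eq_of_isPullback (ι ≫ f) t _ _ hpaste y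
  have e4 : topologicalKrullDim ↥((ι ≫ f).fiber (t y)) =
      topologicalKrullDim ↥(f ⁻¹' {t y} ∩ CohB1.support F) := by
    rw [dim_fiber_comp ι f ι.isClosedEmbedding.isEmbedding (t y), hrι]
  exact e1.trans (e2.symm.trans (e3.trans e4))

open AlgebraicGeometry CategoryTheory Limits in
/-- Let f : X → S be locally of finite type with S irreducible with generic point η, and F a
quasi-coherent O_X-module of finite type which is flat over S. If the support of F in the fibre over
η has dimension ≤ r then the support of F in every fibre has dimension ≤ r (supports in fibres taken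
as subspaces of X: the points of the fibre where the stalk of F is nonzero). -/
theorem result {X S : Scheme.{u}} (f : X ⟶ S) [LocallyOfFiniteType f] [IrreducibleSpace ↑S]
    (F : X.Modules) (hF : Coh.IsCoh F) (hfl : FlatMod.IsFlatOver f F) (r : WithBot ℕ∞)
    (h : topologicalKrullDim ↑(f ⁻¹' {genericPoint ↑S} ∩ CohB1.support F) ≤ r) (s : S) :
    topologicalKrullDim ↑(f ⁻¹' {s} ∩ CohB1.support F) ≤ r := by
  refine le_trans ?_ h
  apply Groth.Agent.Lib.Helper3.FlatFibDim2.le_of_forall_natCast_le
  intro m hm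
  obtain ⟨A, t, ht1, ht2⟩ := Groth.Agent.Lib.Helper10.SubtrVal.exists_valuationRing_of_specializes
    (genericPoint_specializes s)
  have hgen : t (⟨⊥, Ideal.isPrime_bot⟩ : Spec (CommRingCat.of ↥A)) = genericPoint ↑S := by
    let pt : Spec (CommRingCat.of (S.residueField (genericPoint ↑S))) := ⟨⊥, Ideal.isPrime_bot⟩
    have h1 : Spec.map (CommRingCat.ofHom A.subtype) pt =
        (⟨⊥, Ideal.isPrime_bot⟩ : Spec (CommRingCat.of ↥A)) := by
      apply PrimeSpectrum.ext
      show Ideal.comap A.subtype ⊥ = ⊥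
      rw [← RingHom.ker_eq_comap_bot]
      exact (RingHom.injective_iff_ker_eq_bot _).mp Subtype.val_injective
    rw [← h1]
    show (Spec.map (CommRingCat.ofHom A.subtype) ≫ t) pt = genericPoint ↑S
    rw [ht2]
    exact Scheme.fromSpecResidueField_apply _ _
  obtain ⟨Y, g, hg1, hg2, hdim⟩ := exists_flat_model f F hF hfl t (pullback.fst f t)
    (pullback.snd f t) (IsPullback.of_hasPullback f t)
  have hm' : (m : WithBot ℕ∞) ≤ topologicalKrullDim ↥(g.fiber (IsLocalRing.closedPoint ↥A)) := by
    have e := hdim (IsLocalRing.closedPoint ↥A)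
    rw [ht1] at e
    exact hm.trans_eq e.symm
  have h2 := Groth.Agent.Lib.Helper3.FlatFibDim2.le_dim_generic_of_le_dim_special' ↥A g m hm'
  have e2 := hdim ⟨⊥, Ideal.isPrime_bot⟩
  rw [hgen] at e2
  exact h2.trans_eq e2

end Groth.Agent.S1416
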