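import Groth.Statements.S14175
import Mathlib

set_option autoImplicit false
universe u v w
open GalCoh

namespace Groth.Agent.S14175

section
variable {k : Type u} {V : Type w} [CommRing k] [AddCommGroup V] [Module k V]

noncomputable def S (T : Module.End k V) (n : ℕ) : Module.End k V :=
  ∑ i ∈ Finset.range n, T ^ i

lemma S_add (T : Module.End k V) (a b : ℕ) : S T (a + b) = S T a + T ^ a * S T b := by
  unfold S
  rw [Finset.sum_range_add, Finset.mul_sum]
  congr 1
  apply Finset.sum_congr rfl
  intro i _
  rw [pow_add]

lemma S_one (T : Module.End k V) : S T 1 = 1 := by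
  simp [S]

lemma S_zero (T : Module.End k V) : S T 0 = 0 := by
  simp [S]

lemma S_mul_of_pow_eq_one (T : Module.End k V) (d : ℕ) (hd : T ^ d = 1) (j : ℕ) :
    S T (j * d) = j • S T d := by
  induction j with
  | zero => simp [S_zero]
  | succ j ih =>
    rw [Nat.succ_mul, S_add, ih, pow_mul', hd, one_pow, one_mul, succ_nsmul]

lemma S_apply_add_mul (T : Module.End k V) (N : ℕ) (v : V) (hN : S T N v = 0)
    (hTN : T ^ N = 1) (a c : ℕ) :
    S T (a + N * c) v = S T a v := by
  induction c with
  | zero => simp
  | succ c ih =>
    rw [Nat.mul_succ, ← add_assoc, S_add, LinearMap.add_apply, ih, Module.End.mul_apply, hN,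
      map_zero, add_zero]

end


/-- Let G be a finite cyclic group generated by t, let m be a natural number dividing the order of G,
and let ρ be a linear representation of G on a module V over a commutative ring k such that m·V = 0
and every element of G whose m-th power is the identity acts trivially on V. Then evaluating a
crossed homomorphism at t induces a bijection from the first cohomology of G with values in V
(crossed homomorphisms f, i.e. f(gh) = ρ(g)f(h) + f(g), modulo the principal ones g ↦ ρ(g)x − x)
onto the coinvariants V_G (the quotient of V by the span of all ρ(g)v − v): the class of f(t) in V_G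
vanishes exactly when f is principal, and every class of V_G is the class of f(t) for some crossed
homomorphism f. The bijection depends on the choice of the generator t. -/
theorem result
    {k : Type u} {G : Type v} {V : Type w} [CommRing k] [Group G] [Finite G]
    [AddCommGroup V] [Module k V] (ρ : Representation k G V)
    (t : G) (ht : ∀ g : G, g ∈ Subgroup.zpowers t)
    (m : ℕ) (hm : m ∣ Nat.card G) (htors : ∀ v : V, m • v = 0)
    (htriv : ∀ g : G, g ^ m = 1 → ∀ v : V, ρ g v = v) :
    (∀ f : G → V, (∀ g h : G, f (g * h) = ρ g (f h) + f g) →
        (Representation.Coinvariants.mk ρ (f t) = 0 ↔ ∃ x : V, ∀ g : G, f g = ρ g x - x)) ∧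
    (∀ v : V, ∃ f : G → V, (∀ g h : G, f (g * h) = ρ g (f h) + f g) ∧
        Representation.Coinvariants.mk ρ (f t) = Representation.Coinvariants.mk ρ v) := by
  classical
  set T : Module.End k V := ρ t with hT
  have hpow : ∀ n : ℕ, ρ (t ^ n) = T ^ n := fun n => map_pow ρ t n
  have hex : ∀ g : G, ∃ n : ℕ, t ^ n = g := by
    intro g
    have h1 := ht g
    rw [← (isOfFinOrder_of_finite t).mem_powers_iff_mem_zpowers] at h1
    exact (Submonoid.mem_powers_iff _ _).1 h1
  have hord : orderOf t = Nat.card G := orderOf_eq_card_of_forall_mem_zpowers ht
  obtain ⟨d, hd⟩ := hm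
  set N := Nat.card G with hN
  have hTd : T ^ d = 1 := by
    apply LinearMap.ext
    intro v
    rw [← hpow]
    apply htriv
    rw [← pow_mul, mul_comm, ← hd, hN, pow_card_eq_one']
  have hTN : T ^ N = 1 := by
    rw [hd, pow_mul', hTd, one_pow]
  have hSN : ∀ v : V, S T N v = 0 := by
    intro v
    rw [hd, S_mul_of_pow_eq_one T d hTd m]
    rw [LinearMap.smul_apply]
    exact htors _
  have hScong : ∀ (v : V) (a b : ℕ), t ^ a = t ^ b → S T a v = S T b v := by
    intro v
    have key : ∀ a b : ℕ, a ≤ b → t ^ a = t ^ b → S T a v = S T b v := by
      intro a b hab h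
      rw [pow_eq_pow_iff_modEq, hord] at h
      obtain ⟨c, hc⟩ := (Nat.modEq_iff_dvd' hab).1 h
      have : b = a + N * c := by omega
      rw [this, S_apply_add_mul T N v (hSN v) hTN]
    intro a b h
    rcases le_total a b with hab | hab
    · exact key a b hab h
    · exact (key b a hab h.symm).symm
  refine ⟨?_, ?_⟩
  · intro f hf
    constructor
    · intro h0
      rw [Representation.Coinvariants.mk_eq_zero] at h0
      have hker : Representation.Coinvariants.ker ρ ≤ LinearMap.range (T - 1) := by
        unfold Representation.Coinvariants.ker
        rw [Submodule.span_le]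
        rintro _ ⟨⟨g, x⟩, rfl⟩
        obtain ⟨n, rfl⟩ := hex g
        refine ⟨S T n x, ?_⟩
        have : (T - 1) * S T n = T ^ n - 1 := mul_geom_sum T n
        show (T - 1) (S T n x) = ρ (t ^ n) x - x
        rw [← Module.End.mul_apply, this, hpow]
        simp
      obtain ⟨x, hx⟩ := hker h0
      refine ⟨x, ?_⟩
      have hf1 : f 1 = 0 := by
        have := hf 1 1
        rw [one_mul, map_one] at this
        simpa using this
      have hft : f t = T x - x := by
        rw [← hx]; simp
      have hind : ∀ n : ℕ, f (t ^ n) = ρ (t ^ n) x - x := by
        intro n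
        induction n with
        | zero => simp [hf1]
        | succ n ih =>
          rw [pow_succ', hf, ih, hft, map_mul]
          simp only [map_sub, Module.End.mul_apply]
          abel
      intro g
      obtain ⟨n, rfl⟩ := hex g
      exact hind n
    · rintro ⟨x, hx⟩
      rw [Representation.Coinvariants.mk_eq_zero, hx t]
      exact Representation.Coinvariants.sub_mem_ker t x
  · intro v
    refine ⟨fun g => S T (hex g).choose v, ?_, ?_⟩
    · intro g h
      have hg := (hex g).choose_spec
      have hh := (hex h).choose_spec
      have hgh := (hex (g * h)).choose_spec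
      set a := (hex g).choose
      set b := (hex h).choose
      set c := (hex (g * h)).choose
      show S T c v = ρ g (S T b v) + S T a v
      have : t ^ c = t ^ (a + b) := by rw [hgh, pow_add, hg, hh]
      rw [hScong v c (a + b) this, S_add, LinearMap.add_apply, Module.End.mul_apply, ← hpow, hg,
        add_comm]
    · show Representation.Coinvariants.mk ρ (S T (hex t).choose v) = _
      have h1 := (hex t).choose_spec
      have : t ^ (hex t).choose = t ^ 1 := by rw [h1, pow_one]
      rw [hScong v _ 1 this, S_one]
      rfl

end Groth.Agent.S14175
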