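import Groth.Statements.S1973
-- import your own Groth.Agent.* helpers here
import Groth.Agent.Lib.Helper3EtNormal
import Groth.Agent.Lib.Helper3EtRed

set_option autoImplicit false
universe u
open EtAlg

namespace Groth.Agent.S1973

section Helpers

variable (A : Type u) [CommRing A] [IsDedekindDomain A]

/-- Over a Dedekind domain, in a quasi-finite algebra a prime strictly containing another prime is
maximal. -/
theorem isMaximal_of_lt (B : Type u) [CommRing B] [Algebra A B] [Algebra.QuasiFinite A B]
    (P Q : Ideal B) [P.IsPrime] [hQ : Q.IsPrime] (h : P < Q) : Q.IsMaximal := by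
  have hne : P.under A ≠ Q.under A := fun h2 =>
    h.ne (Algebra.QuasiFinite.eq_of_le_of_under_eq P Q h.le h2)
  have hle : P.under A ≤ Q.under A := Ideal.comap_mono h.le
  have hQ0 : Q.under A ≠ ⊥ := by
    intro h0
    apply hne
    rw [h0] at hle ⊢
    exact le_bot_iff.mp hle
  have hQmax : (Q.under A).IsMaximal :=
    Ring.DimensionLEOne.maximalOfPrime hQ0 inferInstance
  obtain ⟨M, hM, hQM⟩ := Ideal.exists_le_maximal Q hQ.ne_top
  have hMu : Q.under A = M.under A := by
    have h1 : Q.under A ≤ M.under A := Ideal.comap_mono hQM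
    have h2 : M.under A ≠ ⊤ := (Ideal.IsPrime.under A M).ne_top
    exact hQmax.eq_of_le h2 h1
  haveI := hM.isPrime
  rw [Algebra.QuasiFinite.eq_of_le_of_under_eq Q M hQM hMu]
  exact hM

/-- A domain étale over a Dedekind domain is a Dedekind domain. -/
theorem isDedekindDomain_of_etale (D : Type u) [CommRing D] [IsDomain D] [Algebra A D]
    [Algebra.Etale A D] : IsDedekindDomain D := by
  haveI : IsNoetherianRing D := Algebra.FiniteType.isNoetherianRing A D
  haveI : Algebra.QuasiFinite A D := inferInstance
  haveI : Ring.DimensionLEOne D := ⟨fun {p} hp hpp => by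
    haveI := hpp
    exact isMaximal_of_lt A D ⊥ p (bot_lt_iff_ne_bot.mpr hp)⟩
  haveI : IsIntegrallyClosed D := IsIntegrallyClosed.of_localization_maximal fun p _ _ =>
    (Groth.Agent.Lib.Helper3.EtNormal.isDomain_and_isIntegrallyClosed_localization A D p).2
  exact { }


/-- Decomposition of an étale algebra over a Dedekind domain along its (finitely many, pairwise
coprime) minimal primes. -/
theorem exists_decomp (B : Type u) [CommRing B] [Algebra A B] [Algebra.Etale A B] :
    ∃ (n : ℕ) (g : Fin n → Ideal B), (∀ k, (g k).IsPrime) ∧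
      Function.Bijective (Pi.ringHom fun k => Ideal.Quotient.mk (g k)) := by
  haveI : IsNoetherianRing B := Algebra.FiniteType.isNoetherianRing A B
  haveI : IsReduced B := Groth.Agent.Lib.Helper3.EtRed.isReduced_of_etale A B
  have hfin : (minimalPrimes B).Finite := minimalPrimes.finite_of_isNoetherianRing B
  haveI : Finite (minimalPrimes B) := hfin.to_subtype
  obtain ⟨n, ⟨eqv⟩⟩ := Finite.exists_equiv_fin (minimalPrimes B)
  let g : Fin n → Ideal B := fun k => (eqv.symm k).1
  have hgmin : ∀ k, g k ∈ minimalPrimes B := fun k => (eqv.symm k).2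
  have hgprime : ∀ k, (g k).IsPrime := fun k => (hgmin k).1.1
  have hcop : Pairwise (Function.onFun IsCoprime g) := by
    intro j k hjk
    rw [Function.onFun, Ideal.isCoprime_iff_sup_eq]
    by_contra hne
    obtain ⟨M, hM, hle⟩ := Ideal.exists_le_maximal _ hne
    haveI := hM
    haveI hdom : IsDomain (Localization.AtPrime M) :=
      (Groth.Agent.Lib.Helper3.EtNormal.isDomain_and_isIntegrallyClosed_localization A B M).1
    let N : Ideal B := RingHom.ker (algebraMap B (Localization.AtPrime M))
    haveI : N.IsPrime := RingHom.ker_isPrime _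
    have hN : ∀ P ∈ minimalPrimes B, P ≤ M → P = N := by
      intro P hP hPM
      have hNP : N ≤ P := by
        intro x hx
        rw [RingHom.mem_ker, IsLocalization.map_eq_zero_iff M.primeCompl] at hx
        obtain ⟨s, hs⟩ := hx
        have h3 : (s : B) * x ∈ P := by rw [hs]; exact P.zero_mem
        exact (hP.1.1.mem_or_mem h3).resolve_left (fun h => s.2 (hPM h))
      exact le_antisymm (hP.2 ⟨inferInstance, bot_le⟩ hNP) hNP
    have h1 := hN (g j) (hgmin j) (le_sup_left.trans hle)
    have h2 := hN (g k) (hgmin k) (le_sup_right.trans hle)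
    apply hjk
    have h3 : eqv.symm j = eqv.symm k := Subtype.ext (h1.trans h2.symm)
    exact eqv.symm.injective h3
  refine ⟨n, g, hgprime, ?_, ?_⟩
  · rw [injective_iff_map_eq_zero]
    intro x hx
    have hxg : ∀ k, x ∈ g k := fun k => by
      have h4 : Ideal.Quotient.mk (g k) x = 0 := congrFun hx k
      exact Ideal.Quotient.eq_zero_iff_mem.mp h4
    have hx2 : x ∈ sInf (minimalPrimes B) := by
      rw [Ideal.mem_sInf]
      intro P hP
      have := hxg (eqv ⟨P, hP⟩)
      simpa [g] using this
    have h0 : sInf (minimalPrimes B) = (⊥ : Ideal B) := by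
      have := Ideal.sInf_minimalPrimes (I := (⊥ : Ideal B))
      rw [show (⊥ : Ideal B).radical = nilradical B from rfl, nilradical_eq_zero] at this
      exact this
    rw [h0] at hx2
    exact hx2
  · intro y
    obtain ⟨r, hr⟩ := Ideal.pi_quotient_surjective hcop y
    exact ⟨r, funext hr⟩

/-- Each factor of a finite product decomposition of an étale algebra is étale. -/
theorem etale_quotient_of_bijective (B : Type u) [CommRing B] [Algebra A B] [Algebra.Etale A B]
    (n : ℕ) (g : Fin n → Ideal B)
    (hbij : Function.Bijective (Pi.ringHom fun k => Ideal.Quotient.mk (g k))) (k : Fin n) :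
    Algebra.Etale A (B ⧸ g k) := by
  haveI : IsNoetherianRing B := Algebra.FiniteType.isNoetherianRing A B
  let φ : B →ₐ[A] (∀ k, B ⧸ g k) := Pi.algHom A _ fun k => Ideal.Quotient.mkₐ A (g k)
  have hφ : Function.Bijective φ := hbij
  let e : B ≃ₐ[A] (∀ k, B ⧸ g k) := AlgEquiv.ofBijective φ hφ
  haveI : Algebra.FormallyEtale A (∀ k, B ⧸ g k) := Algebra.FormallyEtale.of_equiv e
  haveI : Algebra.FormallyEtale A (B ⧸ g k) :=
    (Algebra.FormallyEtale.pi_iff (R := A) (fun k => B ⧸ g k)).mp inferInstance k
  haveI : Algebra.FinitePresentation A (B ⧸ g k) :=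
    Algebra.FinitePresentation.of_surjective (f := Ideal.Quotient.mkₐ A (g k))
      (Ideal.Quotient.mkₐ_surjective A (g k))
      (IsNoetherian.noetherian _)
  exact { }

/-- The local ring of an étale algebra over a Dedekind domain at a maximal ideal is a DVR unless
it is a field. -/
theorem isDVR_localization (B : Type u) [CommRing B] [Algebra A B] [Algebra.Etale A B]
    (q : Ideal B) [q.IsMaximal] (hq : ¬ IsField (Localization.AtPrime q)) :
    ∃ _ : IsDomain (Localization.AtPrime q), IsDiscreteValuationRing (Localization.AtPrime q) := by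
  haveI : IsNoetherianRing B := Algebra.FiniteType.isNoetherianRing A B
  obtain ⟨hdom, hic⟩ :=
    Groth.Agent.Lib.Helper3.EtNormal.isDomain_and_isIntegrallyClosed_localization A B q
  refine ⟨hdom, ?_⟩
  haveI : IsNoetherianRing (Localization.AtPrime q) :=
    IsLocalization.isNoetherianRing q.primeCompl _ inferInstance
  haveI : Ring.DimensionLEOne (Localization.AtPrime q) := ⟨fun {𝔭} h𝔭 h𝔭p => by
    haveI := h𝔭p
    let Q' : Ideal B := 𝔭.comap (algebraMap B (Localization.AtPrime q))
    let N : Ideal B := (⊥ : Ideal (Localization.AtPrime q)).comap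
      (algebraMap B (Localization.AtPrime q))
    haveI : Q'.IsPrime := Ideal.IsPrime.comap _
    haveI : N.IsPrime := Ideal.IsPrime.comap _
    have hmap𝔭 : Ideal.map (algebraMap B (Localization.AtPrime q)) Q' = 𝔭 :=
      IsLocalization.map_comap q.primeCompl _ 𝔭
    have hmapN : Ideal.map (algebraMap B (Localization.AtPrime q)) N = ⊥ :=
      IsLocalization.map_comap q.primeCompl _ ⊥
    have hNQ' : N < Q' := by
      refine lt_of_le_of_ne (Ideal.comap_mono bot_le) ?_
      intro heq
      apply h𝔭
      rw [← hmap𝔭, ← heq, hmapN]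
    have hQ'max : Q'.IsMaximal := isMaximal_of_lt A B N Q' hNQ'
    have hQ'q : Q' ≤ q := by
      intro x hx
      by_contra hxq
      have hu : IsUnit (algebraMap B (Localization.AtPrime q) x) :=
        IsLocalization.map_units _ (⟨x, hxq⟩ : q.primeCompl)
      exact h𝔭p.ne_top (Ideal.eq_top_of_isUnit_mem _ hx hu)
    have hQ'eq : Q' = q := hQ'max.eq_of_le (Ideal.IsPrime.ne_top inferInstance) hQ'q
    rw [← hmap𝔭, hQ'eq, Localization.AtPrime.map_eq_maximalIdeal]
    exact inferInstance⟩
  have hDed : IsDedekindDomain (Localization.AtPrime q) := { }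
  exact ((IsDiscreteValuationRing.TFAE (Localization.AtPrime q) hq).out 0 2).mpr hDed

end Helpers

/-- Let A be a Dedekind domain and B an etale A-algebra. Then B is isomorphic as a ring to a finite
product of Dedekind domains, and for every maximal ideal q of B whose localization is not a field,
the localization B_q is a discrete valuation ring. (The source states the last claim for all maximal
ideals; it fails for field factors, e.g. A a DVR with uniformizer π and B = A[1/π], so the guard is
needed.) -/
theorem result (A B : Type u) [CommRing A] [IsDedekindDomain A] [CommRing B] [Algebra A B]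
    [Algebra.Etale A B] :
    (∃ (n : ℕ) (D : Fin n → Type u) (_ : ∀ i, CommRing (D i)) (_ : ∀ i, IsDedekindDomain (D i)),
      Nonempty (B ≃+* ∀ i, D i)) ∧
    ∀ (q : Ideal B) [q.IsMaximal], ¬ IsField (Localization.AtPrime q) →
      ∃ _ : IsDomain (Localization.AtPrime q), IsDiscreteValuationRing (Localization.AtPrime q) := by
  refine ⟨?_, fun q _ hq => isDVR_localization A B q hq⟩
  obtain ⟨n, g, hprime, hbij⟩ := exists_decomp A B
  refine ⟨n, fun k => B ⧸ g k, fun k => inferInstance, fun k => ?_, ?_⟩
  · haveI := hprime k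
    haveI := etale_quotient_of_bijective A B n g hbij k
    exact isDedekindDomain_of_etale A (B ⧸ g k)
  · exact ⟨RingEquiv.ofBijective _ hbij⟩

end Groth.Agent.S1973
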