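import Groth.Statements.S14177
-- import your own Groth.Agent.* helpers here
import Mathlib
import Groth.Agent.S1973

set_option autoImplicit false
universe u v w
open scoped nonZeroDivisors
open EtAlg

namespace Groth.Agent.S14177

section Local

open Polynomial IntermediateField

variable (A : Type u) (K : Type v) (L : Type w) [CommRing A] [IsDedekindDomain A]
  [Field K] [Algebra A K] [IsFractionRing A K]
  [Field L] [Algebra K L] [Algebra A L] [IsScalarTower A K L]

include K in
theorem algebraMap_injective_AL : Function.Injective (algebraMap A L) := by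
  rw [IsScalarTower.algebraMap_eq A K L]
  exact (algebraMap K L).injective.comp (IsFractionRing.injective A K)

/-- `A[X]/(X^n - u)` is étale over `A` for units `n`, `u`. -/
theorem etale_adjoinRoot (n : ℕ) (hn : IsUnit (n : A)) (uu : Aˣ) :
    Algebra.Etale A (AdjoinRoot (X ^ n - C (uu : A))) := by
  have hnpos : 0 < n := by
    rcases n.eq_zero_or_pos with rfl | h
    · simp at hn
    · exact h
  have hmonic : (X ^ n - C (uu : A)).Monic := monic_X_pow_sub_C _ hnpos.ne'
  have hsep : (X ^ n - C (uu : A)).Separable := separable_X_pow_sub_C_unit uu hn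
  obtain ⟨a, b, hab⟩ := hsep
  let P : StandardEtalePair A := ⟨X ^ n - C (uu : A), hmonic, 1,
    ⟨b, a, 0, by rw [pow_zero]; linear_combination hab⟩⟩
  have h1 : IsLocalization.Away (AdjoinRoot.mk P.f P.g) (AdjoinRoot (X ^ n - C (uu : A))) := by
    refine IsLocalization.away_of_isUnit_of_bijective _ ?_ Function.bijective_id
    show IsUnit (AdjoinRoot.mk (X ^ n - C (uu : A)) 1)
    rw [map_one]
    exact isUnit_one
  let e2 : Localization.Away (AdjoinRoot.mk P.f P.g) ≃ₐ[AdjoinRoot (X ^ n - C (uu : A))]
      AdjoinRoot (X ^ n - C (uu : A)) :=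
    IsLocalization.algEquiv (Submonoid.powers (AdjoinRoot.mk P.f P.g)) _ _
  exact Algebra.Etale.of_equiv (P.equivAwayAdjoinRoot.trans (e2.restrictScalars A))


set_option maxHeartbeats 800000 in
/-- Local form: if `β ^ n = u` is a unit of the Dedekind domain `A` and `L = K(β)`, then the
integral closure of `A` in `L` is étale over `A`. -/
theorem etale_local (n : ℕ) (hn : IsUnit (n : A)) (uu : Aˣ) (β : L)
    (hβ : β ^ n = algebraMap A L uu) (hgen : IntermediateField.adjoin K {β} = ⊤) :
    Algebra.Etale A (integralClosure A L) := by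
  classical
  have hnpos : 0 < n := by
    rcases n.eq_zero_or_pos with rfl | h
    · simp at hn
    · exact h
  have hmonic : (X ^ n - C (uu : A)).Monic := monic_X_pow_sub_C _ hnpos.ne'
  haveI := etale_adjoinRoot A n hn uu
  haveI : Module.Finite A (AdjoinRoot (X ^ n - C (uu : A))) := hmonic.finite_adjoinRoot
  have hinjAL := algebraMap_injective_AL A K L
  -- the map `E → L`
  let ψ : AdjoinRoot (X ^ n - C (uu : A)) →ₐ[A] L :=
    AdjoinRoot.liftAlgHom _ (Algebra.ofId A L) β (by
      simp only [eval₂_sub, eval₂_pow, eval₂_X, eval₂_C]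
      rw [hβ]
      simp [Algebra.ofId_apply])
  have hψroot : ψ (AdjoinRoot.root _) = β := AdjoinRoot.liftAlgHom_root _ _ _ _
  let P : Ideal (AdjoinRoot (X ^ n - C (uu : A))) := RingHom.ker ψ.toRingHom
  haveI hPprime : P.IsPrime := RingHom.ker_isPrime _
  -- decomposition
  obtain ⟨m, g, hgprime, hbij⟩ :=
    Groth.Agent.S1973.exists_decomp A (AdjoinRoot (X ^ n - C (uu : A)))
  have hinf : ⨅ k, g k = ⊥ := by
    rw [eq_bot_iff]
    intro x hx
    rw [Ideal.mem_iInf] at hx
    have : (Pi.ringHom fun k => Ideal.Quotient.mk (g k)) x = 0 := by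
      funext k
      exact Ideal.Quotient.eq_zero_iff_mem.mpr (hx k)
    exact hbij.1 (this.trans (map_zero _).symm)
  obtain ⟨k, hk⟩ : ∃ k, g k ≤ P := by
    have h1 : (Finset.univ : Finset (Fin m)).inf g ≤ P := by
      rw [Finset.inf_univ_eq_iInf, hinf]
      exact bot_le
    obtain ⟨k, -, hk⟩ := (Ideal.IsPrime.inf_le' hPprime).mp h1
    exact ⟨k, hk⟩
  haveI := hgprime k
  have hPunder : P.under A = ⊥ := by
    rw [eq_bot_iff]
    intro a ha
    have h1 : ψ (algebraMap A _ a) = 0 := ha
    rw [ψ.commutes] at h1
    exact hinjAL (h1.trans (map_zero _).symm)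
  have hgk : g k = P := by
    refine Algebra.QuasiFinite.eq_of_le_of_under_eq (R := A) (g k) P hk ?_
    rw [hPunder, eq_bot_iff, ← hPunder]
    exact Ideal.comap_mono hk
  haveI hDet : Algebra.Etale A (AdjoinRoot (X ^ n - C (uu : A)) ⧸ P) :=
    hgk ▸ Groth.Agent.S1973.etale_quotient_of_bijective A _ m g hbij k
  haveI hDed : IsDedekindDomain (AdjoinRoot (X ^ n - C (uu : A)) ⧸ P) :=
    Groth.Agent.S1973.isDedekindDomain_of_etale A _
  haveI : Module.Finite A (AdjoinRoot (X ^ n - C (uu : A)) ⧸ P) :=
    Module.Finite.of_surjective (Ideal.Quotient.mkₐ A P).toLinearMap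
      (Ideal.Quotient.mkₐ_surjective A P)
  -- the injective map `D → L`
  let ψ' : (AdjoinRoot (X ^ n - C (uu : A)) ⧸ P) →ₐ[A] L := Ideal.kerLiftAlg ψ
  have hψ'inj : Function.Injective ψ' := Ideal.kerLiftAlg_injective ψ
  have hψ'mk : ∀ x, ψ' (Ideal.Quotient.mk P x) = ψ x := fun x => rfl
  letI : Algebra (AdjoinRoot (X ^ n - C (uu : A)) ⧸ P) L := ψ'.toRingHom.toAlgebra
  haveI : IsScalarTower A (AdjoinRoot (X ^ n - C (uu : A)) ⧸ P) L :=
    IsScalarTower.of_algebraMap_eq (fun x => (ψ'.commutes x).symm)
  haveI : FaithfulSMul (AdjoinRoot (X ^ n - C (uu : A)) ⧸ P) L :=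
    (faithfulSMul_iff_algebraMap_injective _ _).mpr hψ'inj
  -- fraction ring
  have hβint : IsIntegral K β := by
    refine ⟨X ^ n - C (algebraMap A K uu), monic_X_pow_sub_C _ hnpos.ne', ?_⟩
    simp only [eval₂_sub, eval₂_pow, eval₂_X, eval₂_C]
    rw [hβ, ← IsScalarTower.algebraMap_apply, sub_self]
  haveI hfrac : IsFractionRing (AdjoinRoot (X ^ n - C (uu : A)) ⧸ P) L := by
    refine IsFractionRing.of_field _ L fun z => ?_
    have hz : z ∈ (K⟮β⟯).toSubalgebra := by
      rw [hgen]; exact Algebra.mem_top
    rw [IntermediateField.adjoin_simple_toSubalgebra_of_isAlgebraic hβint.isAlgebraic,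
      Algebra.adjoin_singleton_eq_range_aeval] at hz
    obtain ⟨p, hp⟩ := hz
    obtain ⟨b, hb⟩ := IsLocalization.integerNormalization_map_to_map A⁰ p
    refine ⟨Ideal.Quotient.mk P (AdjoinRoot.mk _ (IsLocalization.integerNormalization A⁰ p)),
      algebraMap A _ (b : A), ?_⟩
    have hb0 : algebraMap A L (b : A) ≠ 0 := fun h =>
      nonZeroDivisors.coe_ne_zero b (hinjAL (h.trans (map_zero _).symm))
    have h1 : algebraMap (AdjoinRoot (X ^ n - C (uu : A)) ⧸ P) L
        (Ideal.Quotient.mk P (AdjoinRoot.mk _ (IsLocalization.integerNormalization A⁰ p))) =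
        algebraMap A L (b : A) * z := by
      show ψ' _ = _
      rw [hψ'mk]
      show ψ (AdjoinRoot.mk _ _) = _
      rw [AdjoinRoot.liftAlgHom_mk]
      have h2 := congrArg (aeval β) hb
      have hp' : aeval β p = z := hp
      rw [aeval_map_algebraMap, ← algebraMap_smul K (b : A) p, map_smul, Algebra.smul_def, hp',
        ← IsScalarTower.algebraMap_apply] at h2
      exact h2
    rw [h1, ← IsScalarTower.algebraMap_apply, mul_div_cancel_left₀ _ hb0]
  -- range of ψ' is the integral closure
  have hrange : ψ'.range = integralClosure A L := by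
    apply le_antisymm
    · rintro _ ⟨d, rfl⟩
      exact (Algebra.IsIntegral.isIntegral (R := A) d).map ψ'
    · intro x hx
      have hx' : IsIntegral (AdjoinRoot (X ^ n - C (uu : A)) ⧸ P) x :=
        IsIntegral.tower_top (R := A) hx
      obtain ⟨y, hy⟩ := IsIntegrallyClosed.isIntegral_iff.mp hx'
      exact ⟨y, hy⟩
  let e : (AdjoinRoot (X ^ n - C (uu : A)) ⧸ P) ≃ₐ[A] integralClosure A L :=
    (AlgEquiv.ofInjective ψ' hψ'inj).trans (Subalgebra.equivOfEq _ _ hrange)
  exact Algebra.Etale.of_equiv e

end Local

section Transfer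

variable (A : Type u) (A' : Type u) (L : Type w) [CommRing A] [CommRing A'] [Algebra A A']
  [Field L] [Algebra A L] [Algebra A' L] [IsScalarTower A A' L]

set_option maxHeartbeats 800000 in
/-- If `A'` is a localization of `A` and the integral closure of `A'` in `L` is étale over `A'`,
then the integral closure of `A` in `L` is étale over `A` at all primes disjoint from the
localizing submonoid. -/
theorem formallyEtale_localization_of_etale (M : Submonoid A) [IsLocalization M A']
    (hM : ∀ m ∈ M, algebraMap A L m ≠ 0)
    [Algebra.Etale A' (integralClosure A' L)]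
    (q : Ideal (integralClosure A L)) [q.IsPrime]
    (hq : ∀ m ∈ M, algebraMap A (integralClosure A L) m ∉ q) :
    Algebra.FormallyEtale A (Localization.AtPrime q) := by
  -- the inclusion `B → B''`
  let ι : integralClosure A L →+* integralClosure A' L :=
    { toFun := fun b => ⟨b.1, IsIntegral.tower_top (R := A) b.2⟩
      map_one' := rfl
      map_mul' := fun _ _ => rfl
      map_zero' := rfl
      map_add' := fun _ _ => rfl }
  letI : Algebra (integralClosure A L) (integralClosure A' L) := ι.toAlgebra
  haveI : IsScalarTower (integralClosure A L) (integralClosure A' L) L :=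
    IsScalarTower.of_algebraMap_eq (fun _ => rfl)
  haveI : IsScalarTower A (integralClosure A L) (integralClosure A' L) :=
    IsScalarTower.of_algebraMap_eq (fun x => by
      apply Subtype.ext
      rfl)
  haveI : IsLocalization (Algebra.algebraMapSubmonoid L M) L := by
    apply IsLocalization.self
    rintro _ ⟨m, hm, rfl⟩
    exact (hM m hm).isUnit
  haveI hloc : IsLocalization (Algebra.algebraMapSubmonoid (integralClosure A L) M)
      (integralClosure A' L) := IsLocalization.integralClosure M
  -- the prime `q''`
  have hdisj : Disjoint ((Algebra.algebraMapSubmonoid (integralClosure A L) M :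
      Submonoid (integralClosure A L)) : Set (integralClosure A L)) (q : Set (integralClosure A L)) := by
    rw [Set.disjoint_left]
    rintro _ ⟨m, hm, rfl⟩ hmem
    exact hq m hm hmem
  haveI hq''prime : (q.map (algebraMap (integralClosure A L) (integralClosure A' L))).IsPrime :=
    IsLocalization.isPrime_of_isPrime_disjoint _ _ q inferInstance hdisj
  have hcomap : (q.map (algebraMap (integralClosure A L) (integralClosure A' L))).comap
      (algebraMap (integralClosure A L) (integralClosure A' L)) = q :=
    IsLocalization.comap_map_of_isPrime_disjoint _ _ inferInstance hdisj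
  haveI h1 := IsLocalization.isLocalization_isLocalization_atPrime_isLocalization
    (Algebra.algebraMapSubmonoid (integralClosure A L) M)
    (Localization.AtPrime (q.map (algebraMap (integralClosure A L) (integralClosure A' L))))
    (q.map (algebraMap (integralClosure A L) (integralClosure A' L)))
  have hpc : ((q.map (algebraMap (integralClosure A L) (integralClosure A' L))).comap
      (algebraMap (integralClosure A L) (integralClosure A' L))).primeCompl = q.primeCompl := by
    ext x
    rw [Ideal.mem_primeCompl_iff, Ideal.mem_primeCompl_iff, hcomap]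
  haveI h2 : IsLocalization q.primeCompl
      (Localization.AtPrime (q.map (algebraMap (integralClosure A L) (integralClosure A' L)))) :=
    hpc ▸ h1
  let e : Localization.AtPrime q ≃ₐ[integralClosure A L]
      Localization.AtPrime (q.map (algebraMap (integralClosure A L) (integralClosure A' L))) :=
    IsLocalization.algEquiv q.primeCompl _ _
  -- formally étale chain
  haveI : Algebra.FormallyEtale (integralClosure A' L)
      (Localization.AtPrime (q.map (algebraMap (integralClosure A L) (integralClosure A' L)))) :=
    Algebra.FormallyEtale.of_isLocalization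
      (q.map (algebraMap (integralClosure A L) (integralClosure A' L))).primeCompl
  haveI : Algebra.FormallyEtale A A' := Algebra.FormallyEtale.of_isLocalization M
  haveI : Algebra.FormallyEtale A'
      (Localization.AtPrime (q.map (algebraMap (integralClosure A L) (integralClosure A' L)))) :=
    Algebra.FormallyEtale.comp A' (integralClosure A' L) _
  haveI : IsScalarTower A A'
      (Localization.AtPrime (q.map (algebraMap (integralClosure A L) (integralClosure A' L)))) :=
    IsScalarTower.of_algebraMap_eq (fun x => by
      rw [IsScalarTower.algebraMap_apply A (integralClosure A' L),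
        IsScalarTower.algebraMap_apply A' (integralClosure A' L)]
      congr 1
      apply Subtype.ext
      show algebraMap A L x = algebraMap A' L (algebraMap A A' x)
      rw [← IsScalarTower.algebraMap_apply])
  haveI : Algebra.FormallyEtale A
      (Localization.AtPrime (q.map (algebraMap (integralClosure A L) (integralClosure A' L)))) :=
    Algebra.FormallyEtale.comp A A' _
  haveI : IsScalarTower A (integralClosure A L)
      (Localization.AtPrime (q.map (algebraMap (integralClosure A L) (integralClosure A' L)))) :=
    IsScalarTower.of_algebraMap_eq (fun x => by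
      rw [IsScalarTower.algebraMap_apply A (integralClosure A' L),
        IsScalarTower.algebraMap_apply (integralClosure A L) (integralClosure A' L)]
      congr 1)
  exact Algebra.FormallyEtale.of_equiv (e.symm.restrictScalars A)

end Transfer

section Data

open FractionalIdeal

variable {A : Type u} {K : Type v} [CommRing A] [IsDedekindDomain A]
  [Field K] [Algebra A K] [IsFractionRing A K]

/-- Local principal generator of `I` at `p` together with the resulting `n`-th root data. -/
theorem exists_local_data (n : ℕ) (hnpos : 0 < n) (f : K) (hf : f ≠ 0)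
    (I : FractionalIdeal A⁰ K) (hI : FractionalIdeal.spanSingleton A⁰ f = I ^ n)
    (p : Ideal A) [hp : p.IsPrime] :
    ∃ (g : K) (a : A), g ≠ 0 ∧ a ∉ p ∧ g ^ n = algebraMap A K a * f := by
  have hinj := IsFractionRing.injective A K
  have hI0 : I ≠ 0 := by
    rintro rfl
    rw [zero_pow hnpos.ne'] at hI
    exact hf ((FractionalIdeal.spanSingleton_eq_zero_iff).mp hI)
  have hinv : I * I⁻¹ = 1 := mul_inv_cancel₀ hI0
  -- local generator
  obtain ⟨g, hg, y, hy, c, hc, hgy⟩ : ∃ g ∈ I, ∃ y ∈ I⁻¹, ∃ c : A, c ∉ p ∧ g * y = algebraMap A K c := by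
    by_contra hcon
    push_neg at hcon
    have h1 : (1 : K) ∈ I * I⁻¹ := by rw [hinv]; exact FractionalIdeal.one_mem_one _
    have h2 : ∃ a ∈ p, algebraMap A K a = 1 := by
      refine FractionalIdeal.mul_induction_on (C := fun z => ∃ a ∈ p, algebraMap A K a = z) h1 ?_ ?_
      · intro i hi j hj
        have h3 : i * j ∈ (1 : FractionalIdeal A⁰ K) := hinv ▸ FractionalIdeal.mul_mem_mul hi hj
        obtain ⟨c, hc⟩ := (FractionalIdeal.mem_one_iff _).mp h3
        refine ⟨c, ?_, hc⟩
        by_contra hcp
        exact hcon i hi j hj c hcp hc.symm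
      · rintro x y ⟨a, ha, rfl⟩ ⟨b, hb, rfl⟩
        exact ⟨a + b, p.add_mem ha hb, map_add _ _ _⟩
    obtain ⟨a, ha, ha1⟩ := h2
    have : a = 1 := hinj (ha1.trans (map_one _).symm)
    exact hp.ne_top ((Ideal.eq_top_iff_one _).mpr (this ▸ ha))
  -- every `x ∈ I` is `g` times a fraction with denominator `c`
  have hx : ∀ x ∈ I, ∃ a : A, x * algebraMap A K c = g * algebraMap A K a := by
    intro x hxI
    have h3 : x * y ∈ (1 : FractionalIdeal A⁰ K) := hinv ▸ FractionalIdeal.mul_mem_mul hxI hy
    obtain ⟨a, ha⟩ := (FractionalIdeal.mem_one_iff _).mp h3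
    exact ⟨a, by rw [← hgy, ha]; ring⟩
  have hpow : ∀ m : ℕ, ∀ z ∈ I ^ m, ∃ a : A, z * algebraMap A K (c ^ m) = g ^ m * algebraMap A K a := by
    intro m
    induction m with
    | zero =>
      intro z hz
      rw [pow_zero] at hz
      obtain ⟨a, ha⟩ := (FractionalIdeal.mem_one_iff _).mp hz
      exact ⟨a, by simp [ha]⟩
    | succ m ih =>
      intro z hz
      rw [pow_succ] at hz
      refine FractionalIdeal.mul_induction_on
        (C := fun z => ∃ a : A, z * algebraMap A K (c ^ (m + 1)) = g ^ (m + 1) * algebraMap A K a)
        hz ?_ ?_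
      · intro i hi j hj
        obtain ⟨a₁, ha₁⟩ := ih i hi
        obtain ⟨a₂, ha₂⟩ := hx j hj
        refine ⟨a₁ * a₂, ?_⟩
        rw [pow_succ, pow_succ, map_mul, map_mul]
        calc i * j * (algebraMap A K (c ^ m) * algebraMap A K c)
            = (i * algebraMap A K (c ^ m)) * (j * algebraMap A K c) := by ring
          _ = (g ^ m * algebraMap A K a₁) * (g * algebraMap A K a₂) := by rw [ha₁, ha₂]
          _ = g ^ m * g * (algebraMap A K a₁ * algebraMap A K a₂) := by ring
      · rintro x y ⟨a, ha⟩ ⟨b, hb⟩
        exact ⟨a + b, by rw [add_mul, ha, hb, map_add, mul_add]⟩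
  have hgpow : ∀ m : ℕ, g ^ m ∈ I ^ m := by
    intro m
    induction m with
    | zero => rw [pow_zero, pow_zero]; exact FractionalIdeal.one_mem_one _
    | succ m ih => rw [pow_succ, pow_succ]; exact FractionalIdeal.mul_mem_mul ih hg
  have hfI : f ∈ I ^ n := hI ▸ FractionalIdeal.mem_spanSingleton_self _ f
  obtain ⟨a', ha'⟩ := hpow n f hfI
  have hgn : g ^ n ∈ FractionalIdeal.spanSingleton A⁰ f := hI ▸ hgpow n
  obtain ⟨a, ha⟩ := (FractionalIdeal.mem_spanSingleton _).mp hgn
  rw [Algebra.smul_def] at ha
  -- `c ^ n = a * a'`
  have hca : c ^ n = a * a' := by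
    apply hinj
    rw [map_mul]
    have h5 : f * algebraMap A K (c ^ n) = f * (algebraMap A K a * algebraMap A K a') := by
      rw [ha', ← ha]; ring
    exact mul_left_cancel₀ hf h5
  have hap : a ∉ p := by
    intro hmem
    have : c ^ n ∈ p := hca ▸ p.mul_mem_right _ hmem
    exact hc (hp.mem_of_pow_mem n this)
  refine ⟨g, a, ?_, hap, ha.symm⟩
  rintro rfl
  rw [zero_pow hnpos.ne'] at ha
  have ha0 : a = 0 := by
    rcases mul_eq_zero.mp ha with h | h
    · exact hinj (h.trans (map_zero _).symm)
    · exact absurd h hf
  exact hap (ha0 ▸ p.zero_mem)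

end Data

section Main

open Polynomial IntermediateField

set_option maxHeartbeats 800000 in
theorem main
    {A : Type u} {K : Type v} {L : Type w} [CommRing A] [IsDedekindDomain A]
    [Field K] [Algebra A K] [IsFractionRing A K]
    [Field L] [Algebra K L] [Algebra A L] [IsScalarTower A K L]
    (n : ℕ) (hn : IsUnit (n : A)) (f : K) (hf : f ≠ 0)
    (I : FractionalIdeal A⁰ K) (hI : FractionalIdeal.spanSingleton A⁰ f = I ^ n)
    (α : L) (hα : α ^ n = algebraMap K L f) (hgen : IntermediateField.adjoin K {α} = ⊤) :
    Algebra.Etale A (integralClosure A L) ∧ Module.Finite A (integralClosure A L) := by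
  classical
  have hnpos : 0 < n := by
    rcases n.eq_zero_or_pos with rfl | h
    · simp at hn
    · exact h
  have hinjAK := IsFractionRing.injective A K
  have hinjAL := algebraMap_injective_AL A K L
  have hnK : (n : K) ≠ 0 := by
    have h1 : IsUnit (algebraMap A K (n : A)) := hn.map _
    rw [map_natCast] at h1
    exact h1.ne_zero
  have hroot : aeval α (X ^ n - C f : K[X]) = 0 := by simp [hα]
  have hαint : IsIntegral K α := ⟨X ^ n - C f, monic_X_pow_sub_C _ hnpos.ne', hroot⟩
  haveI : FiniteDimensional K L := by
    have h1 : FiniteDimensional K K⟮α⟯ := IntermediateField.adjoin.finiteDimensional hαint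
    have h2 : FiniteDimensional K (⊤ : IntermediateField K L) := hgen ▸ h1
    exact IntermediateField.topEquiv.toLinearEquiv.finiteDimensional
  haveI : Algebra.IsSeparable K L := by
    have hsepα : IsSeparable K α := by
      have hsep : (X ^ n - C f : K[X]).Separable := separable_X_pow_sub_C f hnK hf
      exact hsep.of_dvd (minpoly.dvd K α hroot)
    have h1 : Algebra.IsSeparable K K⟮α⟯ :=
      (IntermediateField.isSeparable_adjoin_simple_iff_isSeparable K L).mpr hsepα
    haveI h2 : Algebra.IsSeparable K (⊤ : IntermediateField K L) := hgen ▸ h1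
    exact AlgEquiv.Algebra.isSeparable IntermediateField.topEquiv
  haveI hfin : Module.Finite A (integralClosure A L) := IsIntegralClosure.finite A K L _
  haveI : Algebra.FinitePresentation A (integralClosure A L) :=
    Algebra.FinitePresentation.of_finiteType.mp inferInstance
  refine ⟨?_, hfin⟩
  rw [← Algebra.etaleLocus_eq_univ_iff_etale, Set.eq_univ_iff_forall]
  intro q
  show Algebra.FormallyEtale A (Localization.AtPrime q.asIdeal)
  haveI hpprime : (q.asIdeal.under A).IsPrime := Ideal.IsPrime.under A q.asIdeal
  obtain ⟨g, a, hg0, hap, hga⟩ := exists_local_data n hnpos f hf I hI (q.asIdeal.under A)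
  -- the local ring `A'`
  have hunits : ∀ y : (q.asIdeal.under A).primeCompl, IsUnit (algebraMap A K y) := fun y => by
    refine IsUnit.mk0 _ ?_
    intro h0
    have : (y : A) = 0 := hinjAK (h0.trans (map_zero _).symm)
    exact y.2 (this ▸ Ideal.zero_mem _)
  letI : Algebra (Localization.AtPrime (q.asIdeal.under A)) K :=
    (IsLocalization.lift (M := (q.asIdeal.under A).primeCompl) (g := algebraMap A K) hunits).toAlgebra
  haveI : IsScalarTower A (Localization.AtPrime (q.asIdeal.under A)) K :=
    IsScalarTower.of_algebraMap_eq (fun x => (IsLocalization.lift_eq hunits x).symm)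
  haveI : IsFractionRing (Localization.AtPrime (q.asIdeal.under A)) K :=
    IsFractionRing.isFractionRing_of_isDomain_of_isLocalization (q.asIdeal.under A).primeCompl _ K
  letI : Algebra (Localization.AtPrime (q.asIdeal.under A)) L :=
    ((algebraMap K L).comp (algebraMap (Localization.AtPrime (q.asIdeal.under A)) K)).toAlgebra
  haveI : IsScalarTower (Localization.AtPrime (q.asIdeal.under A)) K L :=
    IsScalarTower.of_algebraMap_eq (fun _ => rfl)
  haveI : IsScalarTower A (Localization.AtPrime (q.asIdeal.under A)) L :=
    IsScalarTower.of_algebraMap_eq (fun x => by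
      rw [IsScalarTower.algebraMap_apply (Localization.AtPrime (q.asIdeal.under A)) K L,
        ← IsScalarTower.algebraMap_apply A (Localization.AtPrime (q.asIdeal.under A)) K,
        ← IsScalarTower.algebraMap_apply A K L])
  have hunit : IsUnit (algebraMap A (Localization.AtPrime (q.asIdeal.under A)) a) :=
    IsLocalization.map_units _ (⟨a, hap⟩ : (q.asIdeal.under A).primeCompl)
  have hgL : algebraMap K L g ≠ 0 := by
    rw [Ne, map_eq_zero]; exact hg0
  have hfL : algebraMap K L f ≠ 0 := by
    rw [Ne, map_eq_zero]; exact hf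
  have haL : algebraMap A L a ≠ 0 := by
    intro h0
    have : a = 0 := hinjAL (h0.trans (map_zero _).symm)
    exact hap (this ▸ Ideal.zero_mem _)
  obtain ⟨β, hβdef⟩ : ∃ β : L, β = α * (algebraMap K L g)⁻¹ := ⟨_, rfl⟩
  have hαβ : α = β * algebraMap K L g := by
    rw [hβdef, mul_assoc, inv_mul_cancel₀ hgL, mul_one]
  have hβ : β ^ n =
      algebraMap (Localization.AtPrime (q.asIdeal.under A)) L ((hunit.unit⁻¹ : (Localization.AtPrime (q.asIdeal.under A))ˣ) : Localization.AtPrime (q.asIdeal.under A)) := by
    have h1 : algebraMap (Localization.AtPrime (q.asIdeal.under A)) L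
        ((hunit.unit⁻¹ : (Localization.AtPrime (q.asIdeal.under A))ˣ) : Localization.AtPrime (q.asIdeal.under A)) * algebraMap A L a = 1 := by
      rw [IsScalarTower.algebraMap_apply A (Localization.AtPrime (q.asIdeal.under A)) L a, ← map_mul,
        hunit.val_inv_mul, map_one]
    rw [eq_inv_of_mul_eq_one_left h1, hβdef, mul_pow, hα, inv_pow, ← map_pow, hga, map_mul,
      ← IsScalarTower.algebraMap_apply A K L, mul_inv, mul_comm (algebraMap A L a)⁻¹,
      ← mul_assoc, mul_inv_cancel₀ hfL, one_mul]
  have hn' : IsUnit ((n : ℕ) : Localization.AtPrime (q.asIdeal.under A)) := by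
    have h1 := hn.map (algebraMap A (Localization.AtPrime (q.asIdeal.under A)))
    rwa [map_natCast] at h1
  have hgen' : K⟮β⟯ = ⊤ := by
    rw [eq_top_iff, ← hgen, IntermediateField.adjoin_simple_le_iff, hαβ]
    exact mul_mem (IntermediateField.mem_adjoin_simple_self K _)
      (IntermediateField.algebraMap_mem _ g)
  haveI := etale_local (Localization.AtPrime (q.asIdeal.under A)) K L n hn' (hunit.unit⁻¹) β hβ hgen'
  refine formallyEtale_localization_of_etale A (Localization.AtPrime (q.asIdeal.under A)) L
    (q.asIdeal.under A).primeCompl ?_ q.asIdeal ?_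
  · intro m hm h0
    have : m = 0 := hinjAL (h0.trans (map_zero _).symm)
    exact hm (this ▸ Ideal.zero_mem _)
  · intro m hm hmem
    exact hm hmem

end Main

/-- Let A be a Dedekind domain with fraction field K, let n be a natural number invertible in A, let f
be a nonzero element of K whose principal fractional ideal is the n-th power of a fractional ideal I
(the divisor of f is n times a divisor), and let L = K(α) be a field extension of K generated by a
single element α with α^n = f. Then the integral closure of A in L is finite and étale over A. (The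
published statement is for the normalisation of an integral smooth curve over a perfect field in
such an extension of its function field; this row states the same for any Dedekind domain, the case
the local argument covers.) -/
theorem result
    {A : Type u} {K : Type v} {L : Type w} [CommRing A] [IsDedekindDomain A]
    [Field K] [Algebra A K] [IsFractionRing A K]
    [Field L] [Algebra K L] [Algebra A L] [IsScalarTower A K L]
    (n : ℕ) (hn : IsUnit (n : A)) (f : K) (hf : f ≠ 0)
    (I : FractionalIdeal A⁰ K) (hI : FractionalIdeal.spanSingleton A⁰ f = I ^ n)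
    (α : L) (hα : α ^ n = algebraMap K L f) (hgen : IntermediateField.adjoin K {α} = ⊤) :
    Algebra.Etale A (integralClosure A L) ∧ Module.Finite A (integralClosure A L) := by
  exact main n hn f hf I hI α hα hgen

end Groth.Agent.S14177
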