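import Groth.Statements.S14178
import Mathlib.FieldTheory.KummerExtension
import Mathlib.RingTheory.ClassGroup.Basic
import Mathlib.RingTheory.Norm.Basic
import Mathlib.RingTheory.FractionalIdeal.Basic
import Mathlib.RingTheory.FractionalIdeal.Operations
import Mathlib.RingTheory.IntegralClosure.IntegrallyClosed

set_option autoImplicit false
universe u v w
open scoped nonZeroDivisors
open EtAlg

namespace Groth.Agent.S14178

open Polynomial

theorem pow_mem_pow' {A : Type u} {K : Type v} [CommRing A] [Field K] [Algebra A K]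
    (J : FractionalIdeal A⁰ K) {x : K} (hx : x ∈ J) (n : ℕ) : x ^ n ∈ J ^ n := by
  induction n with
  | zero => rw [pow_zero, pow_zero]; exact FractionalIdeal.one_mem_one _
  | succ k ih => rw [pow_succ, pow_succ]; exact FractionalIdeal.mul_mem_mul ih hx

/-- a fractional ideal of an integrally closed domain whose power is `1` is `1` -/
theorem eq_one_of_pow_eq_one {A : Type u} {K : Type v} [CommRing A] [IsDomain A]
    [IsIntegrallyClosed A] [Field K] [Algebra A K] [IsFractionRing A K]
    (J : FractionalIdeal A⁰ K) (n : ℕ) (hn : n ≠ 0) (hJ : J ^ n = 1) : J = 1 := by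
  have h1 : J ≤ 1 := by
    intro x hx
    have hxn : x ^ n ∈ J ^ n := pow_mem_pow' J hx n
    rw [hJ, FractionalIdeal.mem_one_iff] at hxn
    obtain ⟨a, ha⟩ := hxn
    have hint : IsIntegral A x := by
      refine ⟨X ^ n - C a, monic_X_pow_sub_C a hn, ?_⟩
      simp [ha]
    obtain ⟨y, hy⟩ := IsIntegrallyClosed.isIntegral_iff.mp hint
    exact (FractionalIdeal.mem_one_iff A⁰).mpr ⟨y, hy⟩
  apply le_antisymm h1
  obtain ⟨k, rfl⟩ := Nat.exists_eq_succ_of_ne_zero hn
  calc (1 : FractionalIdeal A⁰ K) = J ^ k * J := by rw [← hJ, pow_succ]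
    _ ≤ 1 * J := mul_le_mul_left (pow_le_one' h1 k) J
    _ = J := one_mul J


theorem main
    {A : Type u} {K : Type v} {L : Type w} [CommRing A] [IsDedekindDomain A]
    [Field K] [Algebra A K] [IsFractionRing A K]
    [Field L] [Algebra K L]
    (n : ℕ) (hn : IsUnit (n : A)) (ζ : K) (hζ : IsPrimitiveRoot ζ n) (f : K) (hf : f ≠ 0)
    (I : (FractionalIdeal A⁰ K)ˣ)
    (hI : FractionalIdeal.spanSingleton A⁰ f = (I : FractionalIdeal A⁰ K) ^ n)
    (hord : orderOf (ClassGroup.mk K I) = n)
    (α : L) (hα : α ^ n = algebraMap K L f) (hgen : IntermediateField.adjoin K {α} = ⊤) :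
    IsGalois K L ∧ IsCyclic (L ≃ₐ[K] L) ∧ Module.finrank K L = n := by
  have hn0 : n ≠ 0 := by
    rintro rfl
    simp at hn
  have hroot : aeval α (X ^ n - C f : K[X]) = 0 := by simp [hα]
  have hint : IsIntegral K α := ⟨X ^ n - C f, monic_X_pow_sub_C f hn0, hroot⟩
  have hfd : FiniteDimensional K L := by
    have h1 : FiniteDimensional K (IntermediateField.adjoin K {α}) :=
      IntermediateField.adjoin.finiteDimensional hint
    rw [hgen] at h1
    exact Module.Finite.equiv (IntermediateField.topEquiv (F := K) (E := L)).toLinearEquiv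
  -- degree
  have hd : Module.finrank K L = (minpoly K α).natDegree := by
    rw [← IntermediateField.adjoin.finrank hint, hgen, IntermediateField.finrank_top']
  have hdle : Module.finrank K L ≤ n := by
    rw [hd]
    have := Polynomial.natDegree_le_of_dvd (minpoly.dvd K α hroot) (X_pow_sub_C_ne_zero
      (Nat.pos_of_ne_zero hn0) f)
    rwa [natDegree_X_pow_sub_C] at this
  have hdpos : 0 < Module.finrank K L := Module.finrank_pos
  -- norm
  set d := Module.finrank K L with hd_def
  set c := Algebra.norm K α with hc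
  have hcn : c ^ n = f ^ d := by
    rw [hc, ← map_pow, hα, Algebra.norm_algebraMap]
  have hc0 : c ≠ 0 := by
    intro h
    rw [h, zero_pow hn0] at hcn
    exact pow_ne_zero d hf hcn.symm
  -- fractional ideals
  have hspan : (FractionalIdeal.spanSingleton A⁰ c) ^ n = ((I : FractionalIdeal A⁰ K) ^ d) ^ n := by
    rw [FractionalIdeal.spanSingleton_pow, hcn, ← FractionalIdeal.spanSingleton_pow, hI,
      ← pow_mul, ← pow_mul, mul_comm]
  let Jc : (FractionalIdeal A⁰ K)ˣ :=
    Units.mk0 (FractionalIdeal.spanSingleton A⁰ c) (FractionalIdeal.spanSingleton_ne_zero_iff.mpr hc0)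
  have hJ : ((Jc / I ^ d : (FractionalIdeal A⁰ K)ˣ) : FractionalIdeal A⁰ K) ^ n = 1 := by
    rw [← Units.val_pow_eq_pow_val, div_pow, Units.val_eq_one, div_eq_one]
    apply Units.ext
    simpa [Jc] using hspan
  have hJ1 := eq_one_of_pow_eq_one _ n hn0 hJ
  rw [Units.val_eq_one, div_eq_one] at hJ1
  have hprinc : ClassGroup.mk K (I ^ d) = 1 := by
    rw [ClassGroup.mk_eq_one_iff, ← hJ1]
    simp only [Jc, Units.val_mk0, FractionalIdeal.coe_spanSingleton]
    exact ⟨⟨c, rfl⟩⟩
  rw [map_pow] at hprinc
  have hdvd : n ∣ d := hord ▸ orderOf_dvd_of_pow_eq_one hprinc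
  have hdn : d = n := le_antisymm hdle (Nat.le_of_dvd hdpos hdvd)
  have hK : (primitiveRoots (Module.finrank K L) K).Nonempty :=
    ⟨ζ, by rw [← hd_def, hdn]; exact (mem_primitiveRoots (Nat.pos_of_ne_zero hn0)).mpr hζ⟩
  have h3 : ∃ (α : L), α ^ (Module.finrank K L) ∈ Set.range (algebraMap K L) ∧
      IntermediateField.adjoin K {α} = ⊤ :=
    ⟨α, ⟨f, by rw [← hd_def, hdn, hα]⟩, hgen⟩
  have h1 := ((isCyclic_tfae K L hK).out 2 0).mp h3
  exact ⟨h1.1, h1.2, hdn⟩

/-- Let A be a Dedekind domain with fraction field K, let n be a natural number invertible in A such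
that K contains a primitive n-th root of unity, let f be a nonzero element of K and I an invertible
fractional ideal of A with (f) = I^n whose class in the ideal class group of A has order exactly n
(the divisor of f is n times a divisor whose class has order n), and let L = K(α) be a field
extension of K generated by a single element α with α^n = f. Then L is Galois over K of degree n
with cyclic Galois group. (The published statement is for an integral smooth curve over a perfect
field containing a primitive n-th root of unity, with the Picard group of the curve in place of the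
class group; this row states it for any Dedekind domain.) -/
theorem result
    {A : Type u} {K : Type v} {L : Type w} [CommRing A] [IsDedekindDomain A]
    [Field K] [Algebra A K] [IsFractionRing A K]
    [Field L] [Algebra K L]
    (n : ℕ) (hn : IsUnit (n : A)) (ζ : K) (hζ : IsPrimitiveRoot ζ n) (f : K) (hf : f ≠ 0)
    (I : (FractionalIdeal A⁰ K)ˣ) (hI : FractionalIdeal.spanSingleton A⁰ f = (I : FractionalIdeal A⁰ K) ^ n)
    (hord : orderOf (ClassGroup.mk K I) = n)
    (α : L) (hα : α ^ n = algebraMap K L f) (hgen : IntermediateField.adjoin K {α} = ⊤) :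
    IsGalois K L ∧ IsCyclic (L ≃ₐ[K] L) ∧ Module.finrank K L = n := by
  exact main n hn ζ hζ f hf I hI hord α hα hgen

end Groth.Agent.S14178
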