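import Groth.Statements.S14181
import Mathlib

set_option autoImplicit false
universe u
open CategoryTheory
open GalCoh

namespace Groth.Agent.S14181

open groupCohomology Rep

set_option backward.defeqAttrib.useBackward true in
set_option backward.isDefEq.respectTransparency false in
lemma exists_z {k G : Type u} [CommRing k] [Group G] (A : Rep.{u} k G) (S : Subgroup G) [S.Normal]
    (x : cocycles₁ A) (y : A) (h2 : ∀ s ∈ S, x s = A.ρ s y - y) :
    ∃ z : cocycles₁ (A.quotientToInvariants S),
      ∀ g : G, ((z (g : G ⧸ S)).1 : A) = x g - A.ρ g y + y := by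
  have h1 := (mem_cocycles₁_iff x).1 x.2
  refine ⟨⟨fun g => Quotient.liftOn' g (fun g => ⟨x.1 g - A.ρ g y + y, ?_⟩) ?_, ?_⟩, ?_⟩
  · intro s
    calc
      _ = x (s * g) - x s - A.ρ s (A.ρ g y) + (x s + y) := by
        simp [add_eq_of_eq_sub (h2 s s.2), sub_eq_of_eq_add (h1 s g)]
      _ = x (g * (g⁻¹ * s * g)) - A.ρ g (A.ρ (g⁻¹ * s * g) y - y) - A.ρ g y + y := by
        simp only [mul_assoc, mul_inv_cancel_left, map_mul, Module.End.mul_apply, map_sub,
          Representation.self_inv_apply]
        abel
      _ = x g - A.ρ g y + y := by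
        simp [eq_sub_of_add_eq' (h1 g (g⁻¹ * s * g)).symm,
          h2 (g⁻¹ * s * g) (Subgroup.Normal.conj_mem' ‹_› _ s.2 _)]
  · intro g h hgh
    have := congr(A.ρ g $(h2 (g⁻¹ * h) <| QuotientGroup.leftRel_apply.1 hgh))
    simp_all [← sub_eq_add_neg, sub_eq_sub_iff_sub_eq_sub]
  · rw [mem_cocycles₁_iff]
    intro g h
    induction g using QuotientGroup.induction_on with | @H g =>
    induction h using QuotientGroup.induction_on with | @H h =>
    apply Subtype.ext
    simp [← QuotientGroup.mk_mul, h1 g h, sub_add_eq_add_sub, add_assoc]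
  · intro g
    rfl


lemma z_ext {k G : Type u} [CommRing k] [Group G] (A : Rep.{u} k G) (S : Subgroup G) [S.Normal]
    (z z' : cocycles₁ (A.quotientToInvariants S))
    (h : ∀ g : G, ((z (g : G ⧸ S)).1 : A) = (z' (g : G ⧸ S)).1) : z = z' := by
  apply cocycles₁_ext
  intro g
  induction g using QuotientGroup.induction_on with | @H g =>
  exact Subtype.ext (h g)


/-- Let G be a group with a finite normal subgroup P, k a commutative ring and A a k-linear
representation of G such that multiplication by the order of P is a bijection of A. Then the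
inflation map on 1-cocycles (crossed homomorphisms) Z¹(G/P, A^P) → Z¹(G, A) has a k-linear left
inverse. (The published statement is for the inertia group of a Galois cover of smooth curves at a
point, its normal Sylow p-subgroup P and a module of n-torsion with n prime to p; the argument uses
only that the order of P acts invertibly, which is the hypothesis taken here.) -/
theorem result
    {k G : Type u} [CommRing k] [Group G] (A : Rep.{u} k G) (P : Subgroup G) [P.Normal] [Finite P]
    (hP : Function.Bijective fun a : A => (Nat.card P : k) • a) :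
    ∃ r : ModuleCat.of k (groupCohomology.cocycles₁ A) ⟶
        ModuleCat.of k (groupCohomology.cocycles₁ (A.quotientToInvariants P)),
      (groupCohomology.mapCocycles₁ (QuotientGroup.mk' P) (Rep.ofHom (A.ρ.quotientToInvariants_lift P)) :
          ModuleCat.of k (groupCohomology.cocycles₁ (A.quotientToInvariants P)) ⟶
            ModuleCat.of k (groupCohomology.cocycles₁ A)) ≫ r = 𝟙 _ := by
  classical
  haveI : Fintype P := Fintype.ofFinite P
  let mulN : A.V →ₗ[k] A.V := (Nat.card P : k) • LinearMap.id
  have hbij : Function.Bijective mulN := hP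
  let e : A.V ≃ₗ[k] A.V := LinearEquiv.ofBijective mulN hbij
  have he : ∀ a : A.V, e a = (Nat.card P : k) • a := fun a => rfl
  have hcomm : ∀ (g : G) (a : A.V), e.symm (A.ρ g a) = A.ρ g (e.symm a) := by
    intro g a
    apply e.injective
    rw [LinearEquiv.apply_symm_apply, he, ← map_smul, ← he, LinearEquiv.apply_symm_apply]
  -- the sum map
  let sMap : cocycles₁ A →ₗ[k] A.V :=
    ∑ p : P, (LinearMap.proj (p : G) : (G → A.V) →ₗ[k] A.V) ∘ₗ (cocycles₁ A).subtype
  have hsMap : ∀ x : cocycles₁ A, sMap x = ∑ p : P, x (p : G) := by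
    intro x
    simp only [sMap, LinearMap.sum_apply, LinearMap.comp_apply, LinearMap.proj_apply]
    rfl
  let yMap : cocycles₁ A →ₗ[k] A.V := - (e.symm.toLinearMap ∘ₗ sMap)
  have hyMap : ∀ x : cocycles₁ A, yMap x = - e.symm (sMap x) := fun x => rfl
  have hy : ∀ (x : cocycles₁ A), ∀ s ∈ P, x s = A.ρ s (yMap x) - yMap x := by
    intro x s hs
    have h1 := (mem_cocycles₁_iff x).1 x.2
    -- sum over p of x (s * p)
    have hsum : ∑ p : P, x ((s : G) * (p : G)) = ∑ p : P, x (p : G) := by
      let σ : P ≃ P := Equiv.mulLeft (⟨s, hs⟩ : P)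
      exact Fintype.sum_equiv σ _ _ (fun p => rfl)
    have hsum2 : ∑ p : P, x ((s : G) * (p : G)) = A.ρ s (sMap x) + (Nat.card P : k) • x s := by
      simp_rw [h1]
      rw [Finset.sum_add_distrib, hsMap, map_sum, Finset.sum_const, Finset.card_univ,
        Nat.card_eq_fintype_card, Nat.cast_smul_eq_nsmul]
    have h3 : e (x s) = sMap x - A.ρ s (sMap x) := by
      rw [he, eq_sub_iff_add_eq', ← hsum2, hsum, hsMap]
    have h4 : x s = e.symm (sMap x) - A.ρ s (e.symm (sMap x)) := by
      rw [← hcomm, ← map_sub, ← h3, LinearEquiv.symm_apply_apply]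
    rw [hyMap, map_neg, h4]
    abel
  let r : cocycles₁ A →ₗ[k] cocycles₁ (A.quotientToInvariants P) :=
    { toFun := fun x => (exists_z A P x (yMap x) (hy x)).choose
      map_add' := by
        intro x x'
        apply z_ext
        intro g
        rw [(exists_z A P (x + x') (yMap (x + x')) (hy (x + x'))).choose_spec g]
        have h1 := (exists_z A P x (yMap x) (hy x)).choose_spec g
        have h2 := (exists_z A P x' (yMap x') (hy x')).choose_spec g
        show _ = ((exists_z A P x (yMap x) (hy x)).choose (g : G ⧸ P)).1 +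
          ((exists_z A P x' (yMap x') (hy x')).choose (g : G ⧸ P)).1
        rw [h1, h2, map_add, map_add]
        show x g + x' g - _ + _ = _
        abel
      map_smul' := by
        intro c x
        apply z_ext
        intro g
        rw [(exists_z A P (c • x) (yMap (c • x)) (hy (c • x))).choose_spec g]
        have h1 := (exists_z A P x (yMap x) (hy x)).choose_spec g
        show _ = c • ((exists_z A P x (yMap x) (hy x)).choose (g : G ⧸ P)).1
        rw [h1, map_smul, map_smul]
        show c • x g - _ + _ = _
        rw [smul_add, smul_sub] }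
  refine ⟨ModuleCat.ofHom r, ?_⟩
  apply ModuleCat.hom_ext
  apply LinearMap.ext
  intro φ
  show r (mapCocycles₁ (QuotientGroup.mk' P) (Rep.ofHom (A.ρ.quotientToInvariants_lift P)) φ) = φ
  set x := mapCocycles₁ (QuotientGroup.mk' P) (Rep.ofHom (A.ρ.quotientToInvariants_lift P)) φ
    with hx
  have hxg : ∀ g : G, x g = (φ (g : G ⧸ P)).1 := fun g => rfl
  apply z_ext
  intro g
  have h1 := (exists_z A P x (yMap x) (hy x)).choose_spec g
  show ((exists_z A P x (yMap x) (hy x)).choose (g : G ⧸ P)).1 = _
  rw [h1]
  have hs0 : sMap x = 0 := by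
    rw [hsMap]
    apply Finset.sum_eq_zero
    intro p _
    rw [hxg]
    have : ((p : G) : G ⧸ P) = 1 := (QuotientGroup.eq_one_iff _).2 p.2
    rw [this, cocycles₁_map_one]
    rfl
  have hy0 : yMap x = 0 := by rw [hyMap, hs0, map_zero, neg_zero]
  rw [hy0, map_zero, sub_zero, add_zero, hxg]

end Groth.Agent.S14181
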