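import Groth.Statements.S14188
import Mathlib

set_option autoImplicit false
universe u
open CategoryTheory CategoryTheory.Limits AlgebraicGeometry
open FlatMor

namespace Groth.Agent.S14188

open AlgebraicGeometry CategoryTheory CategoryTheory.Limits

section
variable (T : Scheme.{u}) [IsIntegral T]

instance quasiCompact_fromSpecStalk_genericPoint :
    QuasiCompact (T.fromSpecStalk (genericPoint T)) := by
  have hF : IsField (T.presheaf.stalk (genericPoint T)) :=
    isField_stalk_of_closure_mem_irreducibleComponents T _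
      (by simp [irreducibleComponents_eq_singleton])
  haveI : IsPrincipalIdealRing (T.presheaf.stalk (genericPoint T)) := hF.isPrincipalIdealRing
  haveI : IsNoetherianRing (T.presheaf.stalk (genericPoint T)) := inferInstance
  haveI : IsNoetherian (Spec (T.presheaf.stalk (genericPoint T))) := inferInstance
  infer_instance

instance isDominant_fromSpecStalk_genericPoint :
    IsDominant (T.fromSpecStalk (genericPoint T)) := by
  constructor
  have h1 : genericPoint T ∈ Set.range (T.fromSpecStalk (genericPoint T)) :=
    ⟨IsLocalRing.closedPoint _, Scheme.fromSpecStalk_closedPoint⟩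
  have h2 : Dense ({genericPoint T} : Set T) := by
    rw [dense_iff_closure_eq]
    exact (genericPoint_spec T)
  exact h2.mono (Set.singleton_subset_iff.2 h1)

instance isSchDom_fromSpecStalk_genericPoint :
    IsSchemeTheoreticallyDominant (T.fromSpecStalk (genericPoint T)) :=
  IsSchemeTheoreticallyDominant.of_isDominant _

end

theorem isIso_subschemeι_comp_congr {W Y : Scheme.{u}} (I J : W.IdealSheafData) (h : I = J)
    (q : W ⟶ Y) : IsIso (I.subschemeι ≫ q) ↔ IsIso (J.subschemeι ≫ q) := by
  subst h
  rfl

/-- Let T be an integral scheme with generic point η, let Y and Z be schemes flat over T with Z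
separated over T, and let ψ : Y_η → Z be a T-morphism from the generic fibre Y_η = Y ×_T Spec
O_{T,η} (equivalently, an η-morphism Y_η → Z_η). Let gr : Y_η → Y ×_T Z be the graph of ψ, the
morphism whose components are the projection Y_η → Y and ψ, and let Γ ⊆ Y ×_T Z be the
scheme-theoretic image of gr (the schematic closure of the graph). Then ψ extends to a T-morphism φ
: Y → Z, meaning that the composite Y_η → Y → Z is ψ, if and only if the composite of the inclusion
Γ → Y ×_T Z with the first projection is an isomorphism Γ ≅ Y. -/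
theorem result (T Y Z : Scheme.{u}) [IsIntegral T]
    (pY : Y ⟶ T) (pZ : Z ⟶ T) [Flat pY] [Flat pZ] [IsSeparated pZ]
    (ψ : pullback pY (T.fromSpecStalk (genericPoint T)) ⟶ Z)
    (hψ : ψ ≫ pZ = pullback.fst pY (T.fromSpecStalk (genericPoint T)) ≫ pY)
    (gr : pullback pY (T.fromSpecStalk (genericPoint T)) ⟶ pullback pY pZ)
    (hgr₁ : gr ≫ pullback.fst pY pZ = pullback.fst pY (T.fromSpecStalk (genericPoint T)))
    (hgr₂ : gr ≫ pullback.snd pY pZ = ψ) :
    (∃ φ : Y ⟶ Z, φ ≫ pZ = pY ∧ pullback.fst pY (T.fromSpecStalk (genericPoint T)) ≫ φ = ψ) ↔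
      IsIso (gr.imageι ≫ pullback.fst pY pZ) := by
  constructor
  · rintro ⟨φ, hφ₁, hφ₂⟩
    -- the graph of `φ`
    let Γφ : Y ⟶ pullback pY pZ := pullback.lift (𝟙 Y) φ (by rw [Category.id_comp, hφ₁])
    have hΓ₁ : Γφ ≫ pullback.fst pY pZ = 𝟙 Y := pullback.lift_fst _ _ _
    have hΓ₂ : Γφ ≫ pullback.snd pY pZ = φ := pullback.lift_snd _ _ _
    haveI : IsClosedImmersion (Γφ ≫ pullback.fst pY pZ) := by rw [hΓ₁]; infer_instance
    haveI : IsSeparated (pullback.fst pY pZ) := inferInstance
    haveI hci : IsClosedImmersion Γφ := IsClosedImmersion.of_comp Γφ (pullback.fst pY pZ)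
    have hgr : gr = pullback.fst pY (T.fromSpecStalk (genericPoint T)) ≫ Γφ := by
      apply pullback.hom_ext
      · rw [hgr₁, Category.assoc, hΓ₁, Category.comp_id]
      · rw [hgr₂, Category.assoc, hΓ₂, hφ₂]
    haveI : IsSchemeTheoreticallyDominant
        (pullback.fst pY (T.fromSpecStalk (genericPoint T))) := inferInstance
    have hker : gr.ker = Γφ.ker := by
      rw [hgr, Scheme.Hom.ker_comp, Scheme.Hom.ker_eq_bot, Scheme.IdealSheafData.map_bot]
    have h1 : IsIso (Γφ.imageι ≫ pullback.fst pY pZ) := by
      haveI : IsIso Γφ.toImage := inferInstance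
      have h2 : Γφ.imageι ≫ pullback.fst pY pZ = inv Γφ.toImage := by
        rw [← cancel_epi Γφ.toImage, ← Category.assoc, Scheme.Hom.toImage_imageι, hΓ₁,
          IsIso.hom_inv_id]
      rw [h2]
      infer_instance
    exact (isIso_subschemeι_comp_congr _ _ hker (pullback.fst pY pZ)).2 h1
  · intro hiso
    refine ⟨inv (gr.imageι ≫ pullback.fst pY pZ) ≫ gr.imageι ≫ pullback.snd pY pZ, ?_, ?_⟩
    · rw [Category.assoc, Category.assoc, ← pullback.condition, ← Category.assoc gr.imageι,
        IsIso.inv_hom_id_assoc]
    · have h1 : pullback.fst pY (T.fromSpecStalk (genericPoint T)) =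
          gr.toImage ≫ (gr.imageι ≫ pullback.fst pY pZ) := by
        rw [← Category.assoc, Scheme.Hom.toImage_imageι, hgr₁]
      rw [h1, Category.assoc, IsIso.hom_inv_id_assoc, ← Category.assoc,
        Scheme.Hom.toImage_imageι, hgr₂]

end Groth.Agent.S14188
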