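import Groth.Statements.S14189
import Mathlib
import Groth.Agent.S14188

set_option autoImplicit false
universe u
open CategoryTheory CategoryTheory.Limits AlgebraicGeometry
open FlatMor

namespace Groth.Agent.S14189

open AlgebraicGeometry CategoryTheory CategoryTheory.Limits

/-- two morphisms into a separated `T`-scheme that agree on a scheme-theoretically dominant
subobject are equal -/
theorem ext_of_schDominant {W X Z T : Scheme.{u}} (ι : W ⟶ X) [IsSchemeTheoreticallyDominant ι]
    (pZ : Z ⟶ T) [IsSeparated pZ] (a b : X ⟶ Z) (hab : a ≫ pZ = b ≫ pZ) (h : ι ≫ a = ι ≫ b) :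
    a = b := by
  let X' : Over T := Over.mk (a ≫ pZ)
  let Y' : Over T := Over.mk pZ
  let f' : X' ⟶ Y' := Over.homMk a rfl
  let g' : X' ⟶ Y' := Over.homMk b hab.symm
  let U' : Over T := Over.mk (ι ≫ a ≫ pZ)
  let ι' : U' ⟶ X' := Over.homMk ι rfl
  have : IsSeparated Y'.hom := ‹_›
  have hE : IsClosedImmersion (equalizer.ι f' g').left := inferInstance
  have hfac : (equalizer.lift ι' (by ext1; exact h : ι' ≫ f' = ι' ≫ g')).left ≫
      (equalizer.ι f' g').left = ι := by
    rw [← Over.comp_left, equalizer.lift_ι]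
    rfl
  have hker : (equalizer.ι f' g').left.ker = ⊥ := by
    have h1 := Scheme.Hom.le_ker_comp
      (equalizer.lift ι' (by ext1; exact h : ι' ≫ f' = ι' ≫ g')).left (equalizer.ι f' g').left
    rw [hfac, ι.ker_eq_bot] at h1
    exact le_bot_iff.1 h1
  have hiso : IsIso (equalizer.ι f' g').left := IsClosedImmersion.isIso_iff_ker_eq_bot.2 hker
  rw [← cancel_epi (equalizer.ι f' g').left]
  exact congr($(equalizer.condition f' g').left)

/-- Let T be an integral scheme with generic point η, let Y and Z be schemes flat over T with Z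
separated over T, and let ψ : Y_η → Z be a T-morphism from the generic fibre Y_η = Y ×_T Spec
O_{T,η}. Let g : T' → T be flat, surjective and quasi-compact, and let φ' : Y_{T'} → Z_{T'} be a
T'-morphism which agrees with ψ over T' ×_T η, in the sense that on Y_{T'} ×_Y Y_η = Y ×_T T' ×_T
Spec O_{T,η} the composite of the first projection with φ' and with Z_{T'} → Z equals the composite
of the second projection with ψ. Then ψ extends to a T-morphism φ : Y → Z, one whose composite with
Y_η → Y is ψ. (The published statement is an equivalence and also records that an extension, when it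
exists, is unique; the converse direction, that an extension over T base-changes to such a φ' over
any such T', is immediate, and this row states the existence direction only.) -/
theorem result (T Y Z T' : Scheme.{u}) [IsIntegral T]
    (pY : Y ⟶ T) (pZ : Z ⟶ T) [Flat pY] [Flat pZ] [IsSeparated pZ]
    (ψ : pullback pY (T.fromSpecStalk (genericPoint T)) ⟶ Z)
    (hψ : ψ ≫ pZ = pullback.fst pY (T.fromSpecStalk (genericPoint T)) ≫ pY)
    (g : T' ⟶ T) [Flat g] [Surjective g] [QuasiCompact g]
    (φ' : pullback pY g ⟶ pullback pZ g) (hφ' : φ' ≫ pullback.snd pZ g = pullback.snd pY g)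
    (hagree : pullback.fst (pullback.fst pY g) (pullback.fst pY (T.fromSpecStalk (genericPoint T))) ≫ φ' ≫ pullback.fst pZ g =
      pullback.snd (pullback.fst pY g) (pullback.fst pY (T.fromSpecStalk (genericPoint T))) ≫ ψ) :
    ∃ φ : Y ⟶ Z, φ ≫ pZ = pY ∧ pullback.fst pY (T.fromSpecStalk (genericPoint T)) ≫ φ = ψ := by
  -- notation
  let η := T.fromSpecStalk (genericPoint T)
  let j := pullback.fst pY η
  let h := pullback.fst pY g
  obtain ⟨φ'', hφ''def⟩ : ∃ φ'' : pullback pY g ⟶ Z, φ'' = φ' ≫ pullback.fst pZ g := ⟨_, rfl⟩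
  have hφ''T : φ'' ≫ pZ = h ≫ pY := by
    change φ'' ≫ pZ = pullback.fst pY g ≫ pY
    rw [hφ''def, Category.assoc, pullback.condition, ← Category.assoc, hφ', pullback.condition]
  have hagree' : pullback.fst h j ≫ φ'' = pullback.snd h j ≫ ψ := by
    rw [hφ''def]
    exact hagree
  haveI : IsSchemeTheoreticallyDominant j := inferInstance
  haveI : QuasiCompact j := inferInstance
  haveI : Flat h := inferInstance
  haveI : Surjective h := inferInstance
  haveI : QuasiCompact h := inferInstance
  haveI : EffectiveEpi h := inferInstance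
  -- the descent condition on the fibre product
  have key : ∀ {W : Scheme.{u}} (g₁ g₂ : W ⟶ pullback pY g), g₁ ≫ h = g₂ ≫ h →
      g₁ ≫ φ'' = g₂ ≫ φ'' := by
    intro W g₁ g₂ hg
    -- reduce to the universal case
    suffices hP : pullback.fst h h ≫ φ'' = pullback.snd h h ≫ φ'' by
      calc g₁ ≫ φ'' = (pullback.lift g₁ g₂ hg ≫ pullback.fst h h) ≫ φ'' := by
            rw [pullback.lift_fst]
        _ = pullback.lift g₁ g₂ hg ≫ (pullback.fst h h ≫ φ'') := Category.assoc _ _ _
        _ = pullback.lift g₁ g₂ hg ≫ (pullback.snd h h ≫ φ'') := by rw [hP]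
        _ = (pullback.lift g₁ g₂ hg ≫ pullback.snd h h) ≫ φ'' := (Category.assoc _ _ _).symm
        _ = g₂ ≫ φ'' := by rw [pullback.lift_snd]
    let P := pullback h h
    let p₁ : P ⟶ pullback pY g := pullback.fst h h
    let p₂ : P ⟶ pullback pY g := pullback.snd h h
    haveI : Flat (p₁ ≫ h) := inferInstance
    let u : pullback (p₁ ≫ h) j ⟶ P := pullback.fst (p₁ ≫ h) j
    let v : pullback (p₁ ≫ h) j ⟶ pullback pY η := pullback.snd (p₁ ≫ h) j
    haveI : IsSchemeTheoreticallyDominant u := inferInstance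
    have hc : u ≫ p₁ ≫ h = v ≫ j := pullback.condition
    have hp : p₁ ≫ h = p₂ ≫ h := pullback.condition
    have e : ∀ (w : pullback (p₁ ≫ h) j ⟶ pullback pY g), w ≫ h = v ≫ j → w ≫ φ'' = v ≫ ψ := by
      intro w hh
      calc w ≫ φ'' = (pullback.lift w v hh ≫ pullback.fst h j) ≫ φ'' := by rw [pullback.lift_fst]
        _ = pullback.lift w v hh ≫ (pullback.fst h j ≫ φ'') := Category.assoc _ _ _
        _ = pullback.lift w v hh ≫ (pullback.snd h j ≫ ψ) := by rw [hagree']
        _ = (pullback.lift w v hh ≫ pullback.snd h j) ≫ ψ := (Category.assoc _ _ _).symm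
        _ = v ≫ ψ := by rw [pullback.lift_snd]
    have e₁ : u ≫ p₁ ≫ φ'' = v ≫ ψ := by
      rw [← Category.assoc]
      exact e (u ≫ p₁) (by rw [Category.assoc]; exact hc)
    have e₂ : u ≫ p₂ ≫ φ'' = v ≫ ψ := by
      rw [← Category.assoc]
      exact e (u ≫ p₂) (by rw [Category.assoc, ← hp]; exact hc)
    refine ext_of_schDominant u pZ (p₁ ≫ φ'') (p₂ ≫ φ'') ?_ (e₁.trans e₂.symm)
    calc (p₁ ≫ φ'') ≫ pZ = p₁ ≫ (φ'' ≫ pZ) := Category.assoc _ _ _
      _ = p₁ ≫ (h ≫ pY) := by rw [hφ''T]
      _ = (p₁ ≫ h) ≫ pY := (Category.assoc _ _ _).symm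
      _ = (p₂ ≫ h) ≫ pY := by rw [hp]
      _ = p₂ ≫ (h ≫ pY) := Category.assoc _ _ _
      _ = p₂ ≫ (φ'' ≫ pZ) := by rw [hφ''T]
      _ = (p₂ ≫ φ'') ≫ pZ := (Category.assoc _ _ _).symm
  refine ⟨EffectiveEpi.desc h φ'' (fun g₁ g₂ hg => key g₁ g₂ hg), ?_, ?_⟩
  · rw [← cancel_epi h, ← Category.assoc, EffectiveEpi.fac, hφ''T]
  · let k := pullback.fst h j
    let l := pullback.snd h j
    haveI : Flat l := inferInstance
    haveI : Surjective l := inferInstance
    haveI : QuasiCompact l := inferInstance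
    haveI : EffectiveEpi l := inferInstance
    rw [← cancel_epi l]
    have hc : k ≫ h = l ≫ j := pullback.condition
    calc l ≫ j ≫ EffectiveEpi.desc h φ'' (fun g₁ g₂ hg => key g₁ g₂ hg)
        = (l ≫ j) ≫ EffectiveEpi.desc h φ'' (fun g₁ g₂ hg => key g₁ g₂ hg) :=
          (Category.assoc _ _ _).symm
      _ = (k ≫ h) ≫ EffectiveEpi.desc h φ'' (fun g₁ g₂ hg => key g₁ g₂ hg) := by rw [hc]
      _ = k ≫ (h ≫ EffectiveEpi.desc h φ'' (fun g₁ g₂ hg => key g₁ g₂ hg)) := Category.assoc _ _ _
      _ = k ≫ φ'' := by rw [EffectiveEpi.fac]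
      _ = l ≫ ψ := hagree'

end Groth.Agent.S14189
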