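import Groth.Statements.S14192
import Mathlib

set_option autoImplicit false
open PowerSeries
open StackCount

namespace Groth.Agent.S14192

/-- the exponential of a power series with zero constant term -/
noncomputable def E (f : ℚ⟦X⟧) : ℚ⟦X⟧ := (PowerSeries.exp ℚ).subst f

lemma hasSubst_of {f : ℚ⟦X⟧} (hf : constantCoeff f = 0) : HasSubst f :=
  HasSubst.of_constantCoeff_zero' hf

lemma constantCoeff_E {f : ℚ⟦X⟧} (hf : constantCoeff f = 0) : constantCoeff (E f) = 1 := by
  have h1 : PowerSeries.exp ℚ = 1 + (PowerSeries.exp ℚ - 1) := by ring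
  unfold E
  rw [h1, subst_add (hasSubst_of hf), map_add]
  have h2 : constantCoeff ((PowerSeries.exp ℚ - 1).subst f) = 0 := by
    apply constantCoeff_subst_eq_zero hf
    simp
  rw [h2, add_zero]
  have h3 : (1 : ℚ⟦X⟧).subst f = 1 := by
    have := map_one (substAlgHom (R := ℚ) (hasSubst_of hf))
    rwa [coe_substAlgHom] at this
  rw [h3]
  simp

lemma derivative_E {f : ℚ⟦X⟧} (hf : constantCoeff f = 0) :
    d⁄dX ℚ (E f) = E f * d⁄dX ℚ f := by
  unfold E
  rw [derivative_subst (hasSubst_of hf), derivative_exp]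

/-- uniqueness for the linear ODE -/
lemma ode_zero (W H : ℚ⟦X⟧) (hW : d⁄dX ℚ W = W * H) (h0 : constantCoeff W = 0) : W = 0 := by
  ext n
  induction n using Nat.strong_induction_on with
  | _ n ih =>
    cases n with
    | zero => simpa using h0
    | succ n =>
      have h1 := congrArg (coeff n) hW
      rw [coeff_derivative, coeff_mul] at h1
      rw [Finset.sum_eq_zero] at h1
      swap
      · intro p hp
        have : p.1 ≤ n := by
          have := Finset.HasAntidiagonal.mem_antidiagonal.mp hp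
          omega
        rw [ih p.1 (by omega)]
        simp
      have h3 : ((n : ℚ) + 1) ≠ 0 := by positivity
      simpa [h3] using h1

lemma ode_unique (U V H : ℚ⟦X⟧) (hU : d⁄dX ℚ U = U * H) (hV : d⁄dX ℚ V = V * H)
    (h0 : constantCoeff U = constantCoeff V) : U = V := by
  have := ode_zero (U - V) H (by rw [map_sub, hU, hV, sub_mul]) (by rw [map_sub, h0, sub_self])
  exact sub_eq_zero.mp this

lemma E_add {f g : ℚ⟦X⟧} (hf : constantCoeff f = 0) (hg : constantCoeff g = 0) :
    E (f + g) = E f * E g := by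
  have hfg : constantCoeff (f + g) = 0 := by rw [map_add, hf, hg, add_zero]
  apply ode_unique _ _ (d⁄dX ℚ f + d⁄dX ℚ g)
  · rw [derivative_E hfg, map_add]
  · rw [Derivation.leibniz, derivative_E hf, derivative_E hg]
    simp only [smul_eq_mul]
    ring
  · rw [constantCoeff_E hfg, map_mul, constantCoeff_E hf, constantCoeff_E hg, mul_one]

lemma E_zero : E 0 = 1 := by
  apply ode_unique _ _ 0
  · rw [derivative_E (map_zero _), map_zero]
  · simp
  · rw [constantCoeff_E (map_zero _)]; simp

lemma E_sum {ι : Type*} (s : Finset ι) (f : ι → ℚ⟦X⟧) (hf : ∀ i ∈ s, constantCoeff (f i) = 0) :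
    E (∑ i ∈ s, f i) = ∏ i ∈ s, E (f i) := by
  classical
  induction s using Finset.induction_on with
  | empty => simp [E_zero]
  | insert a s ha ih =>
    rw [Finset.sum_insert ha, Finset.prod_insert ha, E_add, ih]
    · intro i hi; exact hf i (Finset.mem_insert_of_mem hi)
    · exact hf a (Finset.mem_insert_self _ _)
    · rw [map_sum]
      exact Finset.sum_eq_zero fun i hi => hf i (Finset.mem_insert_of_mem hi)

/-- the logarithm-type series -/
noncomputable def La (a : ℚ) : ℚ⟦X⟧ := PowerSeries.mk fun v : ℕ => if v = 0 then (0 : ℚ) else a ^ v / (v : ℚ)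

lemma cc_smul (r : ℚ) (f : ℚ⟦X⟧) (hf : constantCoeff f = 0) : constantCoeff (r • f) = 0 := by
  rw [smul_eq_C_mul, map_mul, hf, mul_zero]

lemma constantCoeff_La (a : ℚ) : constantCoeff (La a) = 0 := by
  rw [← coeff_zero_eq_constantCoeff_apply, La, coeff_mk]
  simp

lemma derivative_La (a : ℚ) : d⁄dX ℚ (La a) = PowerSeries.mk fun v : ℕ => a ^ (v + 1) := by
  ext n
  rw [coeff_derivative, La, coeff_mk, coeff_mk]
  simp only [Nat.add_eq_zero_iff, one_ne_zero, and_false, if_false]
  have : ((n : ℚ) + 1) ≠ 0 := by positivity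
  push_cast
  field_simp

lemma E_La_mul (a : ℚ) : E (La a) * (1 - C a * X) = 1 := by
  have hH : (PowerSeries.mk fun v : ℕ => a ^ (v + 1)) * (1 - C a * X) = C a := by
    ext n
    rw [mul_sub, mul_one, map_sub, ← mul_assoc, coeff_mk]
    cases n with
    | zero => simp
    | succ n =>
      rw [coeff_succ_mul_X, mul_comm _ (C a), coeff_C_mul, coeff_mk, coeff_C]
      simp only [Nat.add_eq_zero_iff, one_ne_zero, and_false, if_false]
      ring
  apply derivative.ext
  · rw [Derivation.leibniz, derivative_E (constantCoeff_La a), derivative_La]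
    simp only [smul_eq_mul, map_sub, map_one, Derivation.leibniz, derivative_C, derivative_X,
      smul_zero, add_zero, mul_one, Derivation.map_one_eq_zero, zero_sub]
    have : (1 - C a * X) * (E (La a) * PowerSeries.mk fun v : ℕ => a ^ (v + 1)) =
        E (La a) * ((PowerSeries.mk fun v : ℕ => a ^ (v + 1)) * (1 - C a * X)) := by ring
    rw [this, hH]
    simp
  · rw [map_mul, constantCoeff_E (constantCoeff_La a)]
    simp

lemma E_nsmul_La (a : ℚ) (k : ℕ) : E ((k : ℚ) • La a) * (1 - C a * X) ^ k = 1 := by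
  have hpow : E ((k : ℚ) • La a) = E (La a) ^ k := by
    induction k with
    | zero => simp [E_zero]
    | succ k ih =>
      have : ((k + 1 : ℕ) : ℚ) • La a = (k : ℚ) • La a + La a := by
        push_cast; rw [add_smul, one_smul]
      rw [this, E_add, ih, pow_succ]
      · exact cc_smul _ _ (constantCoeff_La a)
      · exact constantCoeff_La a
  rw [hpow, ← mul_pow, E_La_mul, one_pow]

lemma E_neg_nsmul_La (a : ℚ) (k : ℕ) : E ((-(k : ℚ)) • La a) = (1 - C a * X) ^ k := by
  have h0 : constantCoeff ((k : ℚ) • La a) = 0 := cc_smul _ _ (constantCoeff_La a)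
  have h0' : constantCoeff ((-(k : ℚ)) • La a) = 0 := cc_smul _ _ (constantCoeff_La a)
  have h1 : E ((-(k : ℚ)) • La a) * E ((k : ℚ) • La a) = 1 := by
    rw [← E_add h0' h0, ← add_smul, neg_add_cancel, zero_smul, E_zero]
  calc E ((-(k : ℚ)) • La a) = E ((-(k : ℚ)) • La a) * (E ((k : ℚ) • La a) * (1 - C a * X) ^ k) := by
        rw [E_nsmul_La, mul_one]
    _ = (E ((-(k : ℚ)) • La a) * E ((k : ℚ) • La a)) * (1 - C a * X) ^ k := by ring
    _ = (1 - C a * X) ^ k := by rw [h1, one_mul]

lemma E_zsmul_La (a : ℚ) (r : ℤ) :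
    E ((r : ℚ) • La a) * (1 - C a * X) ^ r.toNat = (1 - C a * X) ^ (-r).toNat := by
  rcases le_or_gt 0 r with h | h
  · obtain ⟨k, rfl⟩ := Int.eq_ofNat_of_zero_le h
    have h2 : (-(k : ℤ)).toNat = 0 := by omega
    rw [Int.toNat_natCast, h2, pow_zero]
    exact_mod_cast E_nsmul_La a k
  · obtain ⟨k, hk⟩ : ∃ k : ℕ, r = -(k : ℤ) := ⟨(-r).toNat, by omega⟩
    subst hk
    have h1 : (-(k : ℤ)).toNat = 0 := by omega
    have h2 : (-(-(k : ℤ))).toNat = k := by omega
    rw [h1, h2, pow_zero, mul_one]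
    have := E_neg_nsmul_La a k
    push_cast
    exact this


/-- Let R = Σ_n r_n X^n be a Laurent polynomial with integer coefficients and q > 1 an integer. In the
ring of formal power series in t over ℚ, the exponential of Σ_{v ≥ 1} R(q^v) t^v / v equals the
finite product Π_n (1 - q^n t)^(-r_n). Stated here with denominators cleared: the exponential series
multiplied by Π_{n : r_n > 0} (1 - q^n t)^(r_n) equals Π_{n : r_n < 0} (1 - q^n t)^(-r_n) (each
factor 1 - q^n t is a unit, so this is equivalent). -/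
theorem result (R : LaurentPolynomial ℤ) (q : ℤ) (hq : 1 < q) :
    (PowerSeries.exp ℚ).subst
        (PowerSeries.mk fun v : ℕ => if v = 0 then (0 : ℚ)
          else (R.coeff.sum fun (n : ℤ) (r : ℤ) => (r : ℚ) * (q : ℚ) ^ (n * (v : ℤ))) / (v : ℚ))
      * ∏ n ∈ R.coeff.support, (1 - PowerSeries.C ((q : ℚ) ^ n) * PowerSeries.X) ^ (R.coeff n).toNat
    = ∏ n ∈ R.coeff.support, (1 - PowerSeries.C ((q : ℚ) ^ n) * PowerSeries.X) ^ (-(R.coeff n)).toNat := by
  generalize R.coeff = c
  have hG : (PowerSeries.mk fun v : ℕ => if v = 0 then (0 : ℚ)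
          else (c.sum fun (n : ℤ) (r : ℤ) => (r : ℚ) * (q : ℚ) ^ (n * (v : ℤ))) / (v : ℚ)) =
      ∑ n ∈ c.support, ((c n : ℤ) : ℚ) • La ((q : ℚ) ^ n) := by
    ext v
    rw [coeff_mk, map_sum]
    by_cases hv : v = 0
    · subst hv
      simp [La]
    · rw [if_neg hv, Finsupp.sum, Finset.sum_div]
      refine Finset.sum_congr rfl fun n _ => ?_
      rw [coeff_smul, La, coeff_mk, if_neg hv, zpow_mul, zpow_natCast, smul_eq_mul, mul_div_assoc]
  show E _ * _ = _
  rw [hG, E_sum, ← Finset.prod_mul_distrib]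
  · refine Finset.prod_congr rfl fun n _ => ?_
    exact E_zsmul_La _ _
  · intro n _
    exact cc_smul _ _ (constantCoeff_La _)

end Groth.Agent.S14192
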