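import Groth.Statements.S14193
import Mathlib
-- import your own Groth.Agent.* helpers here

set_option autoImplicit false
set_option linter.style.haveILetI false
set_option linter.unusedSectionVars false
open PowerSeries
open StackCount

namespace Groth.Agent.S14193

open scoped Polynomial

/-- integer polynomial to rational polynomial -/
noncomputable abbrev toQ (P : ℤ[X]) : ℚ[X] := P.map (Int.castRingHom ℚ)

/-- The embedding ℤ[X] → ℚ(X). -/
noncomputable def ι : ℤ[X] →+* RatFunc ℚ :=
  (algebraMap ℚ[X] (RatFunc ℚ)).comp (Polynomial.mapRingHom (Int.castRingHom ℚ))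

lemma ι_apply (P : ℤ[X]) : ι P = algebraMap ℚ[X] (RatFunc ℚ) (toQ P) := rfl

lemma toQ_injective : Function.Injective toQ :=
  Polynomial.map_injective _ Int.cast_injective

lemma ι_injective : Function.Injective ι := by
  intro a b h
  exact toQ_injective (RatFunc.algebraMap_injective ℚ h)

lemma ι_X : ι Polynomial.X = RatFunc.X := by simp [ι_apply, toQ, RatFunc.algebraMap_X]

/-- the multiplicative set generated by the `X^(n+1) - 1`. -/
noncomputable def M : Submonoid ℤ[X] := Submonoid.closure (Set.range fun n : ℕ => (Polynomial.X ^ (n+1) - 1 : ℤ[X]))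

lemma M_monic {D : ℤ[X]} (hD : D ∈ M) : D.Monic := by
  induction hD using Submonoid.closure_induction with
  | mem x hx =>
    obtain ⟨n, rfl⟩ := hx
    have := Polynomial.monic_X_pow_sub_C (1 : ℤ) (n := n + 1) (by omega)
    simpa using this
  | one => exact Polynomial.monic_one
  | mul x y _ _ hx hy => exact hx.mul hy

lemma rep (F : RatFunc ℚ) (hF : F ∈ Subring.closure
      (({RatFunc.X, (RatFunc.X : RatFunc ℚ)⁻¹} : Set (RatFunc ℚ)) ∪
        Set.range fun n : ℕ => ((RatFunc.X : RatFunc ℚ) ^ (n + 1) - 1)⁻¹)) :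
    ∃ (P : ℤ[X]) (a : ℕ) (D : ℤ[X]), D ∈ M ∧ F * (RatFunc.X ^ a * ι D) = ι P := by
  induction hF using Subring.closure_induction with
  | mem x hx =>
    rcases hx with (hx | hx) | ⟨n, rfl⟩
    · refine ⟨Polynomial.X, 0, 1, M.one_mem, ?_⟩
      rw [hx]; simp [ι_X]
    · refine ⟨1, 1, 1, M.one_mem, ?_⟩
      rw [hx]; simp [RatFunc.X_ne_zero]
    · refine ⟨1, 0, Polynomial.X^(n+1) - 1, Submonoid.subset_closure ⟨n, rfl⟩, ?_⟩
      have h1 : ι (Polynomial.X^(n+1) - 1) = RatFunc.X^(n+1) - 1 := by simp [ι_X]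
      have hne : (RatFunc.X : RatFunc ℚ)^(n+1) - 1 ≠ 0 := by
        rw [← h1]
        intro h
        have h2 := ι_injective (h.trans (map_zero ι).symm)
        have h3 := (M_monic (Submonoid.subset_closure ⟨n, rfl⟩ : (Polynomial.X^(n+1) - 1 : ℤ[X]) ∈ M)).ne_zero
        exact h3 h2
      simp only [h1, pow_zero, one_mul, map_one]
      exact inv_mul_cancel₀ hne
  | zero => exact ⟨0, 0, 1, M.one_mem, by simp⟩
  | one => exact ⟨1, 0, 1, M.one_mem, by simp⟩
  | add x y _ _ hx hy =>
    obtain ⟨P1, a1, D1, hD1, h1⟩ := hx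
    obtain ⟨P2, a2, D2, hD2, h2⟩ := hy
    refine ⟨P1 * (Polynomial.X^a2 * D2) + P2 * (Polynomial.X^a1 * D1), a1 + a2, D1 * D2, mul_mem hD1 hD2, ?_⟩
    simp only [map_add, map_mul, map_pow, ι_X, ← h1, ← h2]; ring
  | neg x _ hx =>
    obtain ⟨P, a, D, hD, h⟩ := hx
    exact ⟨-P, a, D, hD, by rw [map_neg, ← h]; ring⟩
  | mul x y _ _ hx hy =>
    obtain ⟨P1, a1, D1, hD1, h1⟩ := hx
    obtain ⟨P2, a2, D2, hD2, h2⟩ := hy
    refine ⟨P1 * P2, a1 + a2, D1 * D2, mul_mem hD1 hD2, ?_⟩
    simp only [map_mul, ← h1, ← h2]; ring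


/-- Rationality of `exp (∑ c_v t^v / v)` gives a linear recurrence for `c`. -/
lemma recurrence (c : ℕ → ℚ) (P Q : ℚ[X]) (hQ : Q ≠ 0)
    (h : (PowerSeries.exp ℚ).subst
          (PowerSeries.mk fun v : ℕ => if v = 0 then (0 : ℚ) else c v / (v : ℚ))
        * (Q : PowerSeries ℚ) = (P : PowerSeries ℚ)) :
    ∃ (W : ℚ[X]) (m0 : ℕ), W ≠ 0 ∧ ∀ m, m0 ≤ m →
      ∑ k ∈ Finset.range (W.natDegree + 1), W.coeff k * c (m - k + 1) = 0 := by
  set hser : PowerSeries ℚ := PowerSeries.mk fun v : ℕ => if v = 0 then (0 : ℚ) else c v / (v : ℚ)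
    with hser_def
  have hs : HasSubst hser := HasSubst.of_constantCoeff_zero' (by simp [hser_def])
  set Z : PowerSeries ℚ := (PowerSeries.exp ℚ).subst hser with hZ
  have hZunit : IsUnit Z := by
    have := (PowerSeries.isUnit_exp ℚ).map (PowerSeries.substAlgHom hs)
    rwa [PowerSeries.coe_substAlgHom] at this
  have hdZ : PowerSeries.derivative ℚ Z = Z * PowerSeries.derivative ℚ hser := by
    rw [hZ, PowerSeries.derivative_subst hs, PowerSeries.derivative_exp]
  have hPne : P ≠ 0 := by
    rintro rfl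
    have hQ' : (Q : PowerSeries ℚ) ≠ 0 := by
      simpa using hQ
    have : Z * (Q : PowerSeries ℚ) = 0 := by simpa using h
    rcases mul_eq_zero.mp this with h0 | h0
    · exact hZunit.ne_zero h0
    · exact hQ' h0
  have e1 : Z * PowerSeries.derivative ℚ hser * (Q : PowerSeries ℚ)
      + Z * ((Polynomial.derivative Q : ℚ[X]) : PowerSeries ℚ)
      = ((Polynomial.derivative P : ℚ[X]) : PowerSeries ℚ) := by
    have := congrArg (PowerSeries.derivative ℚ) h
    rw [Derivation.leibniz, hdZ, PowerSeries.derivative_coe, PowerSeries.derivative_coe] at this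
    rw [← this]
    simp only [smul_eq_mul]
    ring
  have key : ((P * Q : ℚ[X]) : PowerSeries ℚ) * PowerSeries.derivative ℚ hser
      = ((Polynomial.derivative P * Q - P * Polynomial.derivative Q : ℚ[X]) : PowerSeries ℚ) := by
    rw [Polynomial.coe_mul, Polynomial.coe_sub, Polynomial.coe_mul, Polynomial.coe_mul]
    linear_combination (Q : PowerSeries ℚ) * e1
      - (PowerSeries.derivative ℚ hser * (Q : PowerSeries ℚ)
          + ((Polynomial.derivative Q : ℚ[X]) : PowerSeries ℚ)) * h
  refine ⟨P * Q, max (P * Q).natDegree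
    ((Polynomial.derivative P * Q - P * Polynomial.derivative Q).natDegree + 1),
    mul_ne_zero hPne hQ, fun m hm => ?_⟩
  have hm1 : (P * Q).natDegree ≤ m := le_trans (le_max_left _ _) hm
  have hm2 : (Polynomial.derivative P * Q - P * Polynomial.derivative Q).natDegree < m :=
    lt_of_lt_of_le (Nat.lt_succ_self _) (le_trans (le_max_right _ _) hm)
  have hc := congrArg (PowerSeries.coeff m) key
  rw [Polynomial.coeff_coe, Polynomial.coeff_eq_zero_of_natDegree_lt hm2, PowerSeries.coeff_mul,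
    Finset.Nat.sum_antidiagonal_eq_sum_range_succ_mk] at hc
  rw [← hc]
  have hsub : Finset.range ((P * Q).natDegree + 1) ⊆ Finset.range (m + 1) :=
    Finset.range_subset_range.mpr (by omega)
  rw [← Finset.sum_subset hsub]
  · refine Finset.sum_congr rfl fun k hk => ?_
    rw [Polynomial.coeff_coe, PowerSeries.coeff_derivative, hser_def, PowerSeries.coeff_mk]
    have : (m - k + 1 : ℕ) ≠ 0 := by omega
    rw [if_neg this]
    have h2 : ((m - k : ℕ) : ℚ) + 1 ≠ 0 := by positivity
    push_cast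
    field_simp
  · intro k _ hk
    rw [Polynomial.coeff_coe, Polynomial.coeff_eq_zero_of_natDegree_lt (by
      simp only [Finset.mem_range, not_lt] at hk; omega), zero_mul]


/-- evaluation of `F` in terms of a representation. -/
lemma eval_rep (F : RatFunc ℚ) (P D : ℤ[X]) (a : ℕ)
    (hrep : F * (RatFunc.X ^ a * ι D) = ι P)
    (x : ℚ) (hx : x ≠ 0) (hD : (toQ D).eval x ≠ 0) :
    F.eval (RingHom.id ℚ) x * (x ^ a * (toQ D).eval x) = (toQ P).eval x := by
  have hF := RatFunc.num_div_denom F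
  have hden : algebraMap ℚ[X] (RatFunc ℚ) F.denom ≠ 0 :=
    RatFunc.algebraMap_ne_zero (RatFunc.denom_ne_zero F)
  have hpoly : F.num * (Polynomial.X ^ a * toQ D) = toQ P * F.denom := by
    apply RatFunc.algebraMap_injective ℚ
    have hF' := (div_eq_iff hden).mp hF
    rw [map_mul, map_mul, map_mul, map_pow, RatFunc.algebraMap_X, ← ι_apply, ← ι_apply, ← hrep,
      hF']
    ring
  have hev := congrArg (Polynomial.eval x) hpoly
  simp only [Polynomial.eval_mul, Polynomial.eval_pow, Polynomial.eval_X] at hev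
  have hcop := RatFunc.isCoprime_num_denom F
  have hdx : F.denom.eval x ≠ 0 := by
    intro h0
    rw [h0, mul_zero] at hev
    have hn0 : F.num.eval x = 0 := by
      rcases mul_eq_zero.mp hev with h | h
      · exact h
      · exact absurd h (mul_ne_zero (pow_ne_zero _ hx) hD)
    obtain ⟨u, v, huv⟩ := hcop
    have := congrArg (Polynomial.eval x) huv
    simp [h0, hn0] at this
  unfold RatFunc.eval
  rw [Polynomial.eval₂_id, Polynomial.eval₂_id]
  field_simp
  linarith

lemma eval_ne_zero_M {D : ℤ[X]} (hD : D ∈ M) (x : ℚ) (hx : 1 < x) : (toQ D).eval x ≠ 0 := by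
  induction hD using Submonoid.closure_induction with
  | mem z hz =>
    obtain ⟨n, rfl⟩ := hz
    have h1 : 1 < x ^ (n + 1) := one_lt_pow₀ hx (by omega)
    simp only [toQ, Polynomial.map_sub, Polynomial.map_pow, Polynomial.map_X, Polynomial.map_one,
      Polynomial.eval_sub, Polynomial.eval_pow, Polynomial.eval_X, Polynomial.eval_one]
    linarith
  | one => simp [toQ]
  | mul z w _ _ hz hw =>
    simp only [toQ, Polynomial.map_mul, Polynomial.eval_mul] at hz hw ⊢
    exact mul_ne_zero hz hw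

lemma coprime_gen (q : ℚ) (hq : 1 < q) (e : ℕ) (he : 1 ≤ e) (n m : ℕ) :
    IsCoprime (Polynomial.X ^ (n+1) - 1 : ℚ[X])
      ((Polynomial.C (q^e) * Polynomial.X) ^ (m+1) - 1) := by
  set N := (n+1) * (m+1) with hN
  have hA : (Polynomial.X ^ (n+1) - 1 : ℚ[X]) ∣ Polynomial.X ^ N - 1 := by
    have := sub_dvd_pow_sub_pow (Polynomial.X ^ (n+1) : ℚ[X]) 1 (m+1)
    rwa [one_pow, ← pow_mul] at this
  have hB : ((Polynomial.C (q^e) * Polynomial.X) ^ (m+1) - 1 : ℚ[X]) ∣
      (Polynomial.C (q^e) * Polynomial.X) ^ N - 1 := by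
    have := sub_dvd_pow_sub_pow ((Polynomial.C (q^e) * Polynomial.X) ^ (m+1) : ℚ[X]) 1 (n+1)
    rwa [one_pow, ← pow_mul, mul_comm (m+1) (n+1)] at this
  refine IsCoprime.of_isCoprime_of_dvd_left (IsCoprime.of_isCoprime_of_dvd_right ?_ hB) hA
  set β : ℚ := (q^e)^N with hβ
  have hβ1 : 1 < β := one_lt_pow₀ (one_lt_pow₀ hq (by omega)) (by positivity)
  have hβne : (1 - β) ≠ 0 := by linarith
  have hB' : ((Polynomial.C (q^e) * Polynomial.X) ^ N - 1 : ℚ[X])
      = Polynomial.C β * Polynomial.X ^ N - 1 := by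
    rw [mul_pow, ← Polynomial.C_pow]
  rw [hB']
  have hγ : (Polynomial.C ((1 - β)⁻¹) : ℚ[X]) * (1 - Polynomial.C β) = 1 := by
    rw [← Polynomial.C_1, ← Polynomial.C_sub, ← Polynomial.C_mul, inv_mul_cancel₀ hβne]
  refine ⟨Polynomial.C ((1 - β)⁻¹) * Polynomial.C β, - Polynomial.C ((1 - β)⁻¹), ?_⟩
  linear_combination hγ

lemma coprime_M1 (q : ℚ) (hq : 1 < q) (e : ℕ) (he : 1 ≤ e) (n : ℕ) {D' : ℤ[X]} (hD' : D' ∈ M) :
    IsCoprime (Polynomial.X ^ (n+1) - 1 : ℚ[X])
      ((toQ D').comp (Polynomial.C (q^e) * Polynomial.X)) := by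
  induction hD' using Submonoid.closure_induction with
  | mem z hz =>
    obtain ⟨m, rfl⟩ := hz
    have : (toQ (Polynomial.X ^ (m+1) - 1)).comp (Polynomial.C (q^e) * Polynomial.X)
        = (Polynomial.C (q^e) * Polynomial.X) ^ (m+1) - 1 := by
      simp [toQ]
    rw [this]
    exact coprime_gen q hq e he n m
  | one => simpa [toQ] using isCoprime_one_right
  | mul z w _ _ hz hw =>
    have : (toQ (z * w)).comp (Polynomial.C (q^e) * Polynomial.X)
        = (toQ z).comp (Polynomial.C (q^e) * Polynomial.X)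
          * (toQ w).comp (Polynomial.C (q^e) * Polynomial.X) := by
      simp [toQ]
    rw [this]
    exact hz.mul_right hw

lemma coprime_M (q : ℚ) (hq : 1 < q) (e : ℕ) (he : 1 ≤ e) {D D' : ℤ[X]} (hD : D ∈ M)
    (hD' : D' ∈ M) :
    IsCoprime (toQ D) ((toQ D').comp (Polynomial.C (q^e) * Polynomial.X)) := by
  induction hD using Submonoid.closure_induction with
  | mem z hz =>
    obtain ⟨n, rfl⟩ := hz
    have : toQ (Polynomial.X ^ (n+1) - 1) = (Polynomial.X ^ (n+1) - 1 : ℚ[X]) := by
      simp [toQ]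
    rw [this]
    exact coprime_M1 q hq e he n hD'
  | one => simpa [toQ] using isCoprime_one_left
  | mul z w _ _ hz hw =>
    have : toQ (z * w) = toQ z * toQ w := by simp [toQ]
    rw [this]
    exact hz.mul_left hw

lemma int_dvd_of_toQ_dvd {D P : ℤ[X]} (hD : D.Monic) (h : toQ D ∣ toQ P) : D ∣ P := by
  rw [← Polynomial.modByMonic_eq_zero_iff_dvd hD]
  apply toQ_injective
  rw [show toQ (0 : ℤ[X]) = 0 from Polynomial.map_zero _, toQ, Polynomial.map_modByMonic _ hD]
  exact (Polynomial.modByMonic_eq_zero_iff_dvd (hD.map _)).mpr h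



/-- Let q > 1 be an integer and let F be an element of the subring of the rational function field ℚ(X)
generated by X, X^(-1) and the fractions 1/(X^n - 1) for n ≥ 1 (so F(q^v) is defined for every v ≥
1). If the formal power series exp(Σ_{v ≥ 1} F(q^v) t^v / v) in ℚ⟦t⟧ is the expansion of a rational
function, i.e. its product with some non-zero polynomial in t is a polynomial, then F is a Laurent
polynomial with integer coefficients: F · X^a is the image of a polynomial with integer coefficients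
for some a. (The published statement also assumes that the series defines a meromorphic function on
the complex plane; that is implied by rationality and is omitted here.) -/
theorem result (q : ℤ) (hq : 1 < q) (F : RatFunc ℚ)
    (hF : F ∈ Subring.closure
      (({RatFunc.X, (RatFunc.X : RatFunc ℚ)⁻¹} : Set (RatFunc ℚ)) ∪
        Set.range fun n : ℕ => ((RatFunc.X : RatFunc ℚ) ^ (n + 1) - 1)⁻¹))
    (hrat : ∃ P Q : Polynomial ℚ, Q ≠ 0 ∧
      (PowerSeries.exp ℚ).subst
          (PowerSeries.mk fun v : ℕ => if v = 0 then (0 : ℚ)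
            else F.eval (RingHom.id ℚ) ((q : ℚ) ^ v) / (v : ℚ))
        * (Q : PowerSeries ℚ) = (P : PowerSeries ℚ)) :
    ∃ (P : Polynomial ℤ) (a : ℕ),
      F * RatFunc.X ^ a = algebraMap (Polynomial ℚ) (RatFunc ℚ) (P.map (Int.castRingHom ℚ)) := by
  obtain ⟨P0, a, D, hDM, hrep⟩ := rep F hF
  obtain ⟨Pp, Qq, hQ, hPQ⟩ := hrat
  obtain ⟨W, m0, hW, hrec⟩ :=
    recurrence (fun v => F.eval (RingHom.id ℚ) ((q:ℚ)^v)) Pp Qq hQ hPQ
  have hq' : (1:ℚ) < (q:ℚ) := by exact_mod_cast hq
  have hq0 : (0:ℚ) < (q:ℚ) := by linarith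
  set d := W.natDegree with hd
  set r : ℕ → ℚ[X] := fun k => Polynomial.C ((q:ℚ)^(d-k)) * Polynomial.X with hr
  set t : ℕ → ℚ[X] := fun k => Polynomial.C (W.coeff k * (q:ℚ)^(k*a)) * (toQ P0).comp (r k)
    * ∏ k' ∈ (Finset.range (d+1)).erase k, (toQ D).comp (r k') with ht
  have hT : ∑ k ∈ Finset.range (d+1), t k = 0 := by
    apply Polynomial.eq_zero_of_infinite_isRoot
    refine Set.infinite_of_injective_forall_mem (f := fun u : ℕ => (q:ℚ)^(u + m0 + 1)) ?_ ?_
    · intro u v huv
      have := pow_right_injective₀ hq0 (ne_of_gt hq') huv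
      omega
    · intro u
      show Polynomial.IsRoot _ _
      set y : ℚ := (q:ℚ)^(u + m0 + 1) with hy
      have hrec' := hrec (u + m0 + d) (by omega)
      set K : ℚ := (q:ℚ)^(d*a) * y^a * ∏ k' ∈ Finset.range (d+1), (toQ D).eval ((q:ℚ)^(d-k') * y)
        with hK
      have hterm : ∀ k ∈ Finset.range (d+1), Polynomial.eval y (t k)
          = (W.coeff k * F.eval (RingHom.id ℚ) ((q:ℚ)^(u + m0 + d - k + 1))) * K := by
        intro k hk
        have hk' : k ≤ d := by simpa [Nat.lt_succ_iff] using hk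
        have hx : (q:ℚ)^(u + m0 + d - k + 1) = (q:ℚ)^(d-k) * y := by
          rw [hy, ← pow_add]; congr 1; omega
        have hx1 : (1:ℚ) < (q:ℚ)^(d-k) * y := by
          rw [← hx]; exact one_lt_pow₀ hq' (by omega)
        have hev := eval_rep F P0 D a hrep ((q:ℚ)^(d-k) * y) (by positivity)
          (eval_ne_zero_M hDM _ hx1)
        rw [ht]
        simp only [Polynomial.eval_mul, Polynomial.eval_C, Polynomial.eval_comp, hr,
          Polynomial.eval_X, Polynomial.eval_prod]
        rw [← hev, hx, hK, ← Finset.mul_prod_erase _ _ hk]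
        have hpow : (q:ℚ)^(k*a) * ((q:ℚ)^(d-k) * y)^a = (q:ℚ)^(d*a) * y^a := by
          rw [mul_pow, ← pow_mul, ← mul_assoc, ← pow_add]
          congr 2
          have : k * a + (d - k) * a = d * a := by
            rw [← Nat.add_mul]; congr 1; omega
          exact this
        linear_combination (W.coeff k * F.eval (RingHom.id ℚ) ((q:ℚ)^(d-k) * y)
          * (toQ D).eval ((q:ℚ)^(d-k) * y)
          * ∏ k' ∈ (Finset.range (d+1)).erase k, (toQ D).eval ((q:ℚ)^(d-k') * y)) * hpow
      rw [Polynomial.IsRoot.def, Polynomial.eval_finsetSum, Finset.sum_congr rfl hterm,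
        ← Finset.sum_mul, hrec', zero_mul]
  -- divisibility
  have hrd : r d = Polynomial.X := by simp [hr]
  have hDdvd : ∀ k ∈ Finset.range d, toQ D ∣ t k := by
    intro k hk
    have hk' : k < d := by simpa using hk
    rw [ht]
    apply Dvd.dvd.mul_left
    have hmem : d ∈ (Finset.range (d+1)).erase k := by
      simp only [Finset.mem_erase, Finset.mem_range]; omega
    have := Finset.dvd_prod_of_mem (fun k' => (toQ D).comp (r k')) hmem
    simpa [hrd] using this
  have htd : toQ D ∣ t d := by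
    rw [Finset.sum_range_succ] at hT
    have : t d = - ∑ k ∈ Finset.range d, t k := by linear_combination hT
    rw [this]
    exact (Finset.dvd_sum hDdvd).neg_right
  have herase : (Finset.range (d+1)).erase d = Finset.range d := by
    ext k; simp only [Finset.mem_erase, Finset.mem_range]; omega
  have hcop : IsCoprime (toQ D) (∏ k' ∈ Finset.range d, (toQ D).comp (r k')) := by
    apply IsCoprime.prod_right
    intro k hk
    have hk' : k < d := by simpa using hk
    exact coprime_M (q:ℚ) hq' (d - k) (by omega) hDM hDM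
  have hu : W.coeff d * (q:ℚ)^(d*a) ≠ 0 :=
    mul_ne_zero (Polynomial.leadingCoeff_ne_zero.mpr hW) (by positivity)
  have hDP : toQ D ∣ toQ P0 := by
    have h1 : toQ D ∣ Polynomial.C (W.coeff d * (q:ℚ)^(d*a)) * toQ P0 := by
      apply hcop.dvd_of_dvd_mul_right
      have := htd
      rw [ht] at this
      simpa [hrd, herase] using this
    have h2 : toQ P0 = Polynomial.C ((W.coeff d * (q:ℚ)^(d*a))⁻¹)
        * (Polynomial.C (W.coeff d * (q:ℚ)^(d*a)) * toQ P0) := by
      rw [← mul_assoc, ← Polynomial.C_mul, inv_mul_cancel₀ hu, Polynomial.C_1, one_mul]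
    rw [h2]
    exact Dvd.dvd.mul_left h1 _
  obtain ⟨L, hL⟩ := int_dvd_of_toQ_dvd (M_monic hDM) hDP
  refine ⟨L, a, ?_⟩
  have hιD : ι D ≠ 0 := by
    intro h
    exact (M_monic hDM).ne_zero (ι_injective (h.trans (map_zero ι).symm))
  rw [← ι_apply]
  apply mul_right_cancel₀ hιD
  rw [mul_assoc, hrep, hL, map_mul, mul_comm]

end Groth.Agent.S14193
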