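import Groth.Statements.S14205
import Groth.Agent.Lib.LeadTPow

set_option autoImplicit false
universe u v
open scoped TensorProduct
open Brauer

namespace Groth.Agent.S14205

/-- Let A be a finite-dimensional central simple algebra over a field k with period p: p is the least
positive integer for which the p-fold tensor power of A over k is a full matrix algebra over k. Then
for every r ≥ 1 the r-fold tensor power of A has period p / gcd(p, r) (the order of the r-th
multiple of an element of order p). -/
theorem result (k : Type u) [Field k] (A : Type v) [Ring A] [Algebra k A]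
    [Algebra.IsCentral k A] [IsSimpleRing A] [FiniteDimensional k A] (p : ℕ)
    (hp : CSAGal.IsPeriod k A p) (r : ℕ) (hr : 0 < r) :
    CSAGal.IsPeriod k (CSAGal.tpow k A r) (p / Nat.gcd p r) := by
  have hp0 : 0 < p := hp.1
  set g := Nat.gcd p r with hg
  have hgpos : 0 < g := Nat.gcd_pos_of_pos_left r hp0
  obtain ⟨p', hp'⟩ := Nat.gcd_dvd_left p r
  obtain ⟨r', hr'⟩ := Nat.gcd_dvd_right p r
  rw [← hg] at hp' hr'
  have hdiv : p / g = p' := Nat.div_eq_of_eq_mul_right hgpos hp'
  have hp'pos : 0 < p' := by
    rcases Nat.eq_zero_or_pos p' with h | h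
    · rw [h, mul_zero] at hp'; omega
    · exact h
  have hcop : Nat.Coprime p' r' := by
    have := Nat.coprime_div_gcd_div_gcd (m := p) (n := r) hgpos
    rw [← hg, hdiv] at this
    have hr'' : r / g = r' := Nat.div_eq_of_eq_mul_right hgpos hr'
    rwa [hr''] at this
  have key : ∀ e : ℕ, Curves.Splits k (CSAGal.tpow k (CSAGal.tpow k A r) e) k ↔ p' ∣ e := by
    intro e
    obtain ⟨f⟩ := Groth.Agent.Lib.LeadCSA.nonempty_tpow_tpow_equiv (k := k) (A := A) r e
    have h1 : Curves.Splits k (CSAGal.tpow k (CSAGal.tpow k A r) e) k ↔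
        Curves.Splits k (CSAGal.tpow k A (r * e)) k :=
      ⟨Groth.Agent.Lib.LeadCSA.splits_of_algEquiv f,
        Groth.Agent.Lib.LeadCSA.splits_of_algEquiv f.symm⟩
    rw [h1, Groth.Agent.Lib.LeadCSA.splits_tpow_iff_dvd hp]
    constructor
    · intro h
      have h2 : g * p' ∣ g * (r' * e) := by
        rw [← hp', ← mul_assoc, ← hr']; exact h
      have h3 : p' ∣ r' * e := Nat.dvd_of_mul_dvd_mul_left hgpos h2
      exact hcop.dvd_of_dvd_mul_left h3
    · rintro ⟨q, rfl⟩
      refine ⟨r' * q, ?_⟩
      rw [hr']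
      conv_rhs => rw [hp']
      ring
  rw [hdiv]
  refine ⟨hp'pos, (key p').mpr dvd_rfl, ?_⟩
  intro e' he' hlt hs
  have := Nat.le_of_dvd he' ((key e').mp hs)
  omega

end Groth.Agent.S14205
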