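import Groth.Statements.S14211
import Groth.Agent.Lib.LeadQuat

set_option autoImplicit false
universe u v
open scoped TensorProduct
open Brauer

namespace Groth.Agent.S14211

/-- Let k be a field in which 2 ≠ 0 and A a finite-dimensional central simple k-algebra. Then A has
period 2 and index 2 (its Severi–Brauer variety has type (2, 2, 2m)) if and only if A is isomorphic
over k to a matrix algebra M_m(Q), m ≥ 1, over a quaternion algebra Q = (a, b)_k (the k-algebra with
basis 1, i, j, ij, i² = a, j² = b, ij = −ji) which is a division ring; moreover such a quaternion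
algebra is unique up to k-isomorphism. -/
theorem result (k : Type u) [Field k] (h2 : (2 : k) ≠ 0)
    (A : Type v) [Ring A] [Algebra k A] [Algebra.IsCentral k A] [IsSimpleRing A]
    [FiniteDimensional k A] :
    ((CSAGal.IsPeriod k A 2 ∧ CSAGal.IsIndex k A 2) ↔
      ∃ (a b : k) (m : ℕ), 0 < m ∧ (∀ x : QuaternionAlgebra k a 0 b, x ≠ 0 → IsUnit x) ∧
        Nonempty (A ≃ₐ[k] Matrix (Fin m) (Fin m) (QuaternionAlgebra k a 0 b))) ∧
    (∀ (a b a' b' : k) (m m' : ℕ),
      (∀ x : QuaternionAlgebra k a 0 b, x ≠ 0 → IsUnit x) →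
      (∀ x : QuaternionAlgebra k a' 0 b', x ≠ 0 → IsUnit x) →
      Nonempty (A ≃ₐ[k] Matrix (Fin m) (Fin m) (QuaternionAlgebra k a 0 b)) →
      Nonempty (A ≃ₐ[k] Matrix (Fin m') (Fin m') (QuaternionAlgebra k a' 0 b')) →
      Nonempty (QuaternionAlgebra k a 0 b ≃ₐ[k] QuaternionAlgebra k a' 0 b')) := by
  classical
  have hmne : ∀ {m : ℕ} {Q : Type u} [Ring Q] [Algebra k Q],
      (A ≃ₐ[k] Matrix (Fin m) (Fin m) Q) → m ≠ 0 := by
    intro m Q _ _ e
    rintro rfl
    haveI : Nontrivial A := inferInstance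
    obtain ⟨x, y, hxy⟩ := exists_pair_ne A
    exact hxy (e.injective (Subsingleton.elim _ _))
  have hunit : ∀ {a b : k}, (∀ x : QuaternionAlgebra k a 0 b, x ≠ 0 → IsUnit x) →
      ∀ x : QuaternionAlgebra k a 0 b, IsUnit x ∨ x = 0 := by
    intro a b h x
    by_cases hx : x = 0
    · exact Or.inr hx
    · exact Or.inl (h x hx)
  refine ⟨⟨?_, ?_⟩, ?_⟩
  · -- period 2, index 2 ⇒ matrix algebra over a division quaternion algebra
    rintro ⟨-, hidx⟩
    obtain ⟨-, m, D, _, _, hm, hD, ⟨iso⟩⟩ := hidx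
    haveI : FiniteDimensional k D := Module.finite_of_finrank_pos (by rw [hD]; norm_num)
    haveI : NeZero m := ⟨hm.ne'⟩
    haveI : Algebra.IsCentral k (Matrix (Fin m) (Fin m) D) :=
      Groth.Agent.Lib.LeadCSA.isCentral_of_algEquiv' iso
    haveI : Algebra.IsCentral k D := Groth.Agent.Lib.LeadCSA.isCentral_of_matrix (n := m)
    obtain ⟨a, b, ⟨φ⟩⟩ := Groth.Agent.Lib.LeadQuat.exists_quaternion_equiv (k := k) (D := D) h2
      (by rw [hD]; norm_num)
    refine ⟨a, b, m, hm, ?_, ⟨iso.trans (φ.mapMatrix (m := Fin m))⟩⟩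
    intro x hx
    have h1 : φ.symm x ≠ 0 := fun h => hx (by
      have := congrArg φ h
      rwa [AlgEquiv.apply_symm_apply, map_zero] at this)
    have h2' := (isUnit_iff_ne_zero.mpr h1).map φ
    rwa [AlgEquiv.apply_symm_apply] at h2'
  · -- converse
    rintro ⟨a, b, m, hm, hQ, ⟨e⟩⟩
    letI : DivisionRing (QuaternionAlgebra k a 0 b) := DivisionRing.ofIsUnitOrEqZero (hunit hQ)
    obtain ⟨d, hd⟩ := Groth.Agent.Lib.LeadCSA.exists_isIndex (k := k) (A := A)
    have hd2 : d = 2 := by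
      obtain ⟨hd0, r, D', _, _, hr, hD', ⟨iso⟩⟩ := hd
      obtain ⟨ψ⟩ := Groth.Agent.Lib.LeadCSA.nonempty_algEquiv_of_matrix hr.ne' hm.ne'
        (iso.symm.trans e)
      have h4 : Module.finrank k D' = 4 := by
        rw [ψ.toLinearEquiv.finrank_eq, QuaternionAlgebra.finrank_eq_four]
      rw [hD'] at h4
      have : d ^ 2 = 2 ^ 2 := by omega
      exact Nat.pow_left_injective (n := 2) (by norm_num) this
    subst hd2
    refine ⟨⟨by norm_num, Groth.Agent.Lib.LeadPRep.splits_tpow_of_isIndex hd, ?_⟩, hd⟩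
    intro e' he'0 he'2 hsp
    have he'1 : e' = 1 := by omega
    subst he'1
    have hA : Curves.Splits k A k :=
      Groth.Agent.Lib.LeadCSA.splits_of_algEquiv (Groth.Agent.Lib.LeadCSA.tpowOneEquiv k A) hsp
    have := Groth.Agent.Lib.LeadCSA.isIndex_dvd_of_splits hd k hA
    rw [Module.finrank_self] at this
    omega
  · -- uniqueness
    rintro a b a' b' m m' hQ hQ' ⟨e⟩ ⟨e'⟩
    letI : DivisionRing (QuaternionAlgebra k a 0 b) := DivisionRing.ofIsUnitOrEqZero (hunit hQ)
    letI : DivisionRing (QuaternionAlgebra k a' 0 b') := DivisionRing.ofIsUnitOrEqZero (hunit hQ')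
    exact Groth.Agent.Lib.LeadCSA.nonempty_algEquiv_of_matrix (hmne e) (hmne e') (e.symm.trans e')


end Groth.Agent.S14211
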