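import Groth.Statements.S1422
import Groth.Agent.Lib.Helper2Weight3

set_option autoImplicit false
universe u
open FlatMor

namespace Groth.Agent.S1422

open Groth.Agent.Lib.Helper2.Weight in
open AlgebraicGeometry CategoryTheory Limits in
theorem aux {X Y Z : Scheme.{u}} (f : X ⟶ Y) (g : Y ⟶ Z) [LocallyQuasiFinite f]
    [LocallyOfFiniteType f] [LocallyQuasiFinite g] [LocallyOfFiniteType g]
    (wf : ↑X → ℤ) (wg : ↑Y → ℤ) (hf : MoreMor.IsWeighting f wf) (hg : MoreMor.IsWeighting g wg) :
    MoreMor.IsWeighting (f ≫ g) (fun x => wf x * wg (f x)) := by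
  intro V h _ U hfin
  haveI := hfin
  let D : CompData f g V :=
    { T := pullback f (pullback.fst g h)
      YB := pullback g h
      φ := pullback.snd _ _
      γ := pullback.snd g h
      mT := pullback.fst _ _
      mY := pullback.fst g h
      q := h
      sq1 := IsPullback.of_hasPullback _ _
      sq2 := IsPullback.of_hasPullback _ _ }
  have sqT : IsPullback D.mT D.p (f ≫ g) h := D.sq1.paste_vert D.sq2
  have he1 : sqT.isoPullback.hom ≫ pullback.fst (f ≫ g) h = D.mT := sqT.isoPullback_hom_fst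
  have he2 : sqT.isoPullback.hom ≫ pullback.snd (f ≫ g) h = D.p := sqT.isoPullback_hom_snd
  let W : D.T.Opens := sqT.isoPullback.hom ⁻¹ᵁ U
  have hsq : IsPullback sqT.isoPullback.hom D.p (pullback.snd (f ≫ g) h) (𝟙 V) :=
    IsPullback.of_horiz_isIso ⟨by rw [he2, Category.comp_id]⟩
  haveI : IsFinite (W.ι ≫ D.p) :=
    MorphismProperty.of_isPullback (P := @IsFinite)
      ((isPullback_morphismRestrict sqT.isoPullback.hom U).paste_vert hsq) ‹_›
  have key : ∀ v'' : V, MoreMor.fibreIntegral (U.ι ≫ pullback.snd (f ≫ g) h)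
      (fun u => (fun x => wf x * wg (f x)) (pullback.fst (f ≫ g) h (U.ι u))) v'' =
      fI D.p (D.wT wf wg) W v'' := by
    intro v''
    have h1 := fibreIntegral_opens U (pullback.snd (f ≫ g) h)
      ((fun x => wf x * wg (f x)) ∘ pullback.fst (f ≫ g) h) v''
    refine h1.trans ?_
    have h2 := fI_baseChange (pullback.snd (f ≫ g) h) D.p sqT.isoPullback.hom (𝟙 V) hsq U
      ((fun x => wf x * wg (f x)) ∘ pullback.fst (f ≫ g) h) v''
    have h3 : (𝟙 V : V ⟶ V) v'' = v'' := rfl
    rw [h3] at h2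
    rw [← h2]
    congr 1
    funext t
    change wf (pullback.fst (f ≫ g) h (sqT.isoPullback.hom t)) *
      wg (f (pullback.fst (f ≫ g) h (sqT.isoPullback.hom t))) =
      wf (D.mT t) * wg (D.mY (D.φ t))
    rw [← Scheme.Hom.comp_apply, he1, ← Scheme.Hom.comp_apply D.mT f, D.sq1.w,
      Scheme.Hom.comp_apply]
  rw [IsLocallyConstant.iff_exists_open]
  intro v
  obtain ⟨O, hO, hvO, hconst⟩ := D.lcat wf wg hf hg W v
  refine ⟨O, hO, hvO, fun v' hv' => ?_⟩
  rw [key v', key v]
  exact hconst v' hv'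

open AlgebraicGeometry CategoryTheory Limits in
/-- Let f : X → Y and g : Y → Z be locally quasi-finite with weightings w_f and w_g. Then x ↦ w_f(x) ·
w_g(f x) is a weighting of f ≫ g. -/
theorem result {X Y Z : Scheme.{u}} (f : X ⟶ Y) (g : Y ⟶ Z) [LocallyQuasiFinite f] [LocallyOfFiniteType f] [LocallyQuasiFinite g] [LocallyOfFiniteType g]
    (wf : ↑X → ℤ) (wg : ↑Y → ℤ) (hf : MoreMor.IsWeighting f wf) (hg : MoreMor.IsWeighting g wg) :
    MoreMor.IsWeighting (f ≫ g) (fun x => wf x * wg (f x)) := by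
  exact aux f g wf wg hf hg

end Groth.Agent.S1422
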