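import Groth.Statements.S1425
import Groth.Agent.Lib.Helper2Weight2

set_option autoImplicit false
universe u
open FlatMor

namespace Groth.Agent.S1425

open AlgebraicGeometry CategoryTheory Limits in
/-- A weighting of a locally quasi-finite morphism taking positive values is upper semicontinuous on X. -/
theorem result {X Y : Scheme.{u}} (f : X ⟶ Y) [LocallyQuasiFinite f] [LocallyOfFiniteType f] (w : ↑X → ℤ) (hw : MoreMor.IsWeighting f w) (hpos : ∀ x, 0 < w x) :
    UpperSemicontinuous w := by
  intro x c hc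
  obtain ⟨V, gV, v, z, Uz, hgV, hv, hz1, hz2, hzU, hfin, huniq, hsd, hGv⟩ :=
    Groth.Agent.Lib.Helper2.Weight.exists_local_structure f x
  haveI := hgV
  haveI := hfin
  have hG := Groth.Agent.Lib.Helper2.Weight.isLocallyConstant_fI_etale f w hw gV Uz
  let N : Set V := {v' | Groth.Agent.Lib.Helper2.Weight.fI (pullback.snd f gV)
    (w ∘ pullback.fst f gV) Uz v' = w x}
  have hN : IsOpen N := hG.isOpen_fiber _
  have hvN : v ∈ N := hGv w
  let O : Set ↥(pullback f gV) := (Uz : Set _) ∩ (pullback.snd f gV) ⁻¹' N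
  have hO : IsOpen O := Uz.2.inter (hN.preimage (pullback.snd f gV).continuous)
  have hzO : z ∈ O := ⟨hzU, by rw [Set.mem_preimage, hz2]; exact hvN⟩
  have hopen : IsOpen (pullback.fst f gV '' O) := (pullback.fst f gV).isOpenMap _ hO
  refine Filter.mem_of_superset (hopen.mem_nhds ⟨z, hzO, hz1⟩) ?_
  rintro _ ⟨z', ⟨hz'U, hz'N⟩, rfl⟩
  haveI : LocallyQuasiFinite (pullback.snd f gV) :=
    MorphismProperty.of_isPullback (P := @LocallyQuasiFinite) (IsPullback.of_hasPullback f gV) ‹_›
  have hle := Groth.Agent.Lib.Helper2.Weight.le_fI (pullback.snd f gV) (w ∘ pullback.fst f gV)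
    (fun t => hpos _) (Uz : Set _) (pullback.snd f gV z')
    (Groth.Agent.Lib.Helper2.Weight.finite_fibre_inter_opens _ Uz _) z' hz'U rfl
  have hz'N' : Groth.Agent.Lib.Helper2.Weight.fI (pullback.snd f gV)
    (w ∘ pullback.fst f gV) Uz (pullback.snd f gV z') = w x := hz'N
  rw [hz'N'] at hle
  exact lt_of_le_of_lt hle hc

end Groth.Agent.S1425
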