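import Groth.Statements.S14254
import Groth.Agent.Lib.Helper20PRadical

set_option autoImplicit false
universe u
open CategoryTheory AlgebraicGeometry
open FrobAlg

namespace Groth.Agent.S14254

/-- Let p be a prime, φ : A → B a map of commutative rings of characteristic p, i : A → A' and j : B →
B' perfect closures (A' and B' are perfect rings of characteristic p, every element of A' resp. B'
has a p^n-th power in the image of i resp. j, and the kernels of i and j consist of nilpotent
elements), and φ' : A' → B' the induced map, φ' ∘ i = j ∘ φ. Then Spec φ : Spec B ⟶ Spec A is a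
universal homeomorphism if and only if φ' is bijective. (The published statement is for an arbitrary
morphism of schemes over the prime field and its perfection; this row is the case of affine schemes,
the perfection of Spec A being Spec of the perfect closure of A.) -/
theorem result (p : ℕ) [Fact p.Prime]
    {A B A' B' : Type u} [CommRing A] [CommRing B] [CommRing A'] [CommRing B']
    [CharP A p] [CharP B p] [CharP A' p] [CharP B' p] [PerfectRing A' p] [PerfectRing B' p]
    (φ : A →+* B) (i : A →+* A') (j : B →+* B') [IsPerfectClosure i p] [IsPerfectClosure j p]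
    (φ' : A' →+* B') (hφ : φ'.comp i = j.comp φ) :
    FlatMor.IsUnivHomeo (Spec.map (CommRingCat.ofHom φ)) ↔ Function.Bijective φ' := by
  open Groth.Agent.Lib.Helper20.AWN in
  rw [isUnivHomeo_iff_UH, UH_iff_isPRadical p φ]
  constructor
  · intro h
    haveI : IsPRadical φ p := h
    haveI : IsPRadical (j.comp φ) p := IsPRadical.trans φ j p
    have e : φ' = (IsPerfectClosure.equiv i (j.comp φ) p).toRingHom := by
      apply IsPRadical.injective_comp_of_perfect i p (M := B')
      show φ'.comp i = ((IsPerfectClosure.equiv i (j.comp φ) p).toRingHom).comp i
      rw [hφ]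
      exact (IsPerfectClosure.equiv_comp i (j.comp φ) p).symm
    rw [e]
    exact (IsPerfectClosure.equiv i (j.comp φ) p).bijective
  · intro hbij
    have hp : p.Prime := Fact.out
    haveI : ExpChar B p := ExpChar.prime hp
    refine ⟨?_, ?_⟩
    · intro b
      obtain ⟨a', ha'⟩ := hbij.2 (j b)
      obtain ⟨n, a, ha⟩ := IsPRadical.pow_mem i p a'
      have h1 : j (b ^ p ^ n) = j (φ a) := by
        rw [map_pow, ← ha', ← map_pow, ← ha]
        exact (RingHom.congr_fun hφ a)
      have h2 : b ^ p ^ n - φ a ∈ pNilradical B p := by
        apply IsPRadical.ker_le j p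
        rw [RingHom.mem_ker, map_sub, h1, sub_self]
      obtain ⟨m, hm⟩ := sub_mem_pNilradical_iff_pow_expChar_pow_eq.mp h2
      refine ⟨n + m, a ^ p ^ m, ?_⟩
      rw [map_pow, ← hm, ← pow_mul, ← pow_add]
    · intro a ha
      apply IsPRadical.ker_le i p
      rw [RingHom.mem_ker] at ha ⊢
      apply hbij.1
      rw [map_zero]
      have := RingHom.congr_fun hφ a
      simp only [RingHom.comp_apply] at this
      rw [this, ha, map_zero]

end Groth.Agent.S14254
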