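import Groth.Statements.S14260
import Mathlib
import Groth.Agent.S14255

set_option autoImplicit false
universe u
open FrobAlg

namespace Groth.Agent.S14260

/-- Let p be a prime, φ : A → B a faithfully flat map of commutative rings of characteristic p, i : A →
A' and j : B → B' perfect closures (A', B' perfect rings of characteristic p, every element of A'
resp. B' has a p^n-th power in the image of i resp. j, the kernels of i and j consist of nilpotent
elements), and φ' : A' → B' the induced map, φ' ∘ i = j ∘ φ. Then φ' is faithfully flat. (The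
published statement is that the perfection of a faithfully flat morphism of schemes over the prime
field is faithfully flat; this row is its affine case, to which the published proof reduces.) -/
theorem result (p : ℕ) [Fact p.Prime]
    {A B A' B' : Type u} [CommRing A] [CommRing B] [CommRing A'] [CommRing B']
    [CharP A p] [CharP B p] [CharP A' p] [CharP B' p] [PerfectRing A' p] [PerfectRing B' p]
    (φ : A →+* B) (hflat : φ.FaithfullyFlat) (i : A →+* A') (j : B →+* B') [IsPerfectClosure i p]
    [IsPerfectClosure j p] (φ' : A' →+* B') (hφ : φ'.comp i = j.comp φ) : φ'.FaithfullyFlat := by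
  classical
  have hp : p.Prime := Fact.out
  have hflat' : φ'.Flat := Groth.Agent.S14255.result p φ hflat.flat i j φ' hφ
  letI algφ : Algebra A B := φ.toAlgebra
  letI algφ' : Algebra A' B' := φ'.toAlgebra
  haveI hff : Module.FaithfullyFlat A B := hflat
  haveI hfl' : Module.Flat A' B' := hflat'
  show Module.FaithfullyFlat A' B'
  have hφx : ∀ a : A, φ' (i a) = j (φ a) := fun a => RingHom.congr_fun hφ a
  refine ⟨?_⟩
  intro m' hm' htop
  set m : Ideal A := m'.comap i with hm
  have hmne : m ≠ ⊤ := by
    intro h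
    have : (1 : A) ∈ m := h ▸ Submodule.mem_top
    rw [hm, Ideal.mem_comap, map_one] at this
    exact hm'.ne_top ((Ideal.eq_top_iff_one _).mpr this)
  set J : Ideal B := m.map (algebraMap A B) with hJ
  have hJne : J ≠ ⊤ := by
    intro h
    have h1 := Ideal.comap_map_eq_self_of_faithfullyFlat (B := B) m
    rw [← hJ, h, Ideal.comap_top] at h1
    exact hmne h1.symm
  have key : ∀ x ∈ m' • (⊤ : Submodule A' B'), ∃ n, ∃ b ∈ J, j b = x ^ p ^ n := by
    intro x hx
    refine Submodule.smul_induction_on hx ?_ ?_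
    · intro r hr b' _
      obtain ⟨n1, a, ha⟩ := IsPRadical.pow_mem i p r
      obtain ⟨n2, b, hb⟩ := IsPRadical.pow_mem j p b'
      refine ⟨n1 + n2, φ (a ^ p ^ n2) * b ^ p ^ n1, ?_, ?_⟩
      · apply Ideal.mul_mem_right
        apply Ideal.mem_map_of_mem
        rw [hm, Ideal.mem_comap, map_pow, ha]
        exact Ideal.pow_mem_of_mem _ (Ideal.pow_mem_of_mem _ hr _ (pow_pos hp.pos _)) _
          (pow_pos hp.pos _)
      · show _ = (φ' r * b') ^ p ^ (n1 + n2)
        have e1 : j (φ (a ^ p ^ n2)) = φ' r ^ p ^ (n1 + n2) := by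
          rw [← hφx, map_pow, ha, ← pow_mul, ← pow_add, map_pow]
        have e2 : j (b ^ p ^ n1) = b' ^ p ^ (n1 + n2) := by
          rw [map_pow, hb, ← pow_mul, ← pow_add, add_comm]
        rw [map_mul, e1, e2, mul_pow]
    · rintro x y ⟨n1, b1, hb1, h1⟩ ⟨n2, b2, hb2, h2⟩
      refine ⟨n1 + n2, b1 ^ p ^ n2 + b2 ^ p ^ n1, ?_, ?_⟩
      · exact Ideal.add_mem _ (Ideal.pow_mem_of_mem _ hb1 _ (pow_pos hp.pos _))
          (Ideal.pow_mem_of_mem _ hb2 _ (pow_pos hp.pos _))
      · have e1 : j (b1 ^ p ^ n2) = x ^ p ^ (n1 + n2) := by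
          rw [map_pow, h1, ← pow_mul, ← pow_add]
        have e2 : j (b2 ^ p ^ n1) = y ^ p ^ (n1 + n2) := by
          rw [map_pow, h2, ← pow_mul, ← pow_add, add_comm]
        rw [map_add, e1, e2, add_pow_char_pow]
  obtain ⟨n, b, hb, hb1⟩ := key 1 (by rw [htop]; exact Submodule.mem_top)
  rw [one_pow] at hb1
  have h2 : b - 1 ∈ pNilradical B p := IsPRadical.ker_le j p (by
    rw [RingHom.mem_ker, map_sub, hb1, map_one, sub_self])
  obtain ⟨k, hk⟩ := mem_pNilradical.mp h2
  rw [sub_pow_char_pow, one_pow, sub_eq_zero] at hk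
  apply hJne
  rw [Ideal.eq_top_iff_one, ← hk]
  exact Ideal.pow_mem_of_mem _ hb _ (pow_pos hp.pos _)

end Groth.Agent.S14260
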