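import Groth.Statements.S14274
import Mathlib
import Groth.Agent.S6004
import Groth.Agent.Lib.Helper10TorsorExt
-- import your own Groth.Agent.* helpers here

set_option autoImplicit false
universe u
open scoped CategoryTheory.Obj
open NonAbH1

namespace Groth.Agent.S14274

open AlgebraicGeometry CategoryTheory CategoryTheory.Limits MonoidalCategory in
/-- Let X be a scheme, G a finite locally free X-group scheme (finite, flat and locally of finite
presentation over X, not necessarily commutative), and U an open subscheme of X whose inclusion is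
quasi-compact, such that for every point z of X outside U the local ring of X at z is regular of
Krull dimension at least 2. Let Q₁ and Q₂ be fppf G-torsors over X. Then every U-morphism between
their base changes to U that is equivariant for the base-changed group is the base change of a
unique G-equivariant X-morphism Q₁ -> Q₂. (With the essential-surjectivity row this is the statement
that pullback is an equivalence from G-torsors over X to torsors over U under the base change of G.) -/
theorem result {X : Scheme.{u}} (G : Over X) [GrpObj G]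
    [IsFinite G.hom] [Flat G.hom] [LocallyOfFinitePresentation G.hom]
    (U : X.Opens) [QuasiCompact U.ι]
    (hZ : ∀ z : X, z ∉ U → IsRegularLocalRing (X.presheaf.stalk z) ∧ (2 : WithBot ℕ∞) ≤ ringKrullDim (X.presheaf.stalk z))
    (Q₁ Q₂ : Over X) (a₁ : AlgGrp.Action G Q₁) (a₂ : AlgGrp.Action G Q₂)
    (h₁ : NonAbH1.IsTorsorFor Scheme.fppfPrecoverage a₁) (h₂ : NonAbH1.IsTorsorFor Scheme.fppfPrecoverage a₂)
    (h' : (Over.pullback U.ι).obj Q₁ ⟶ (Over.pullback U.ι).obj Q₂)
    (hh' : (Functor.LaxMonoidal.μ (Over.pullback U.ι) G Q₁ ≫ (Over.pullback U.ι).map a₁.act) ≫ h' =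
      ((Over.pullback U.ι).obj G ◁ h') ≫ (Functor.LaxMonoidal.μ (Over.pullback U.ι) G Q₂ ≫ (Over.pullback U.ι).map a₂.act)) :
    ∃! h : Q₁ ⟶ Q₂, a₁.act ≫ h = (G ◁ h) ≫ a₂.act ∧ (Over.pullback U.ι).map h = h' := by
  have hfpqc : ∀ {Q : Over X} (a : AlgGrp.Action G Q),
      NonAbH1.IsTorsorFor Scheme.fppfPrecoverage a → IsAffineHom Q.hom ∧ Flat Q.hom := by
    intro Q a h
    obtain ⟨hpt, R, hR, hsec⟩ := h
    exact Groth.Agent.S6004.result G Q a
      ⟨hpt, R, Scheme.fppfPrecoverage_le_fpqcPrecoverage _ hR, hsec⟩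
  obtain ⟨hA1, hF1⟩ := hfpqc a₁ h₁
  obtain ⟨hA2, hF2⟩ := hfpqc a₂ h₂
  obtain ⟨h, hh, huniq⟩ :=
    Groth.Agent.Lib.Helper10.TorsorExt.existsUnique_pullback_map_eq U hZ (A := Q₁) (B := Q₂) h'
  refine ⟨h, ⟨?_, hh⟩, fun k hk => huniq k hk.2⟩
  haveI : Flat (G ⊗ Q₁).hom := by
    rw [Over.tensorObj_hom]
    infer_instance
  apply Groth.Agent.Lib.Helper10.TorsorExt.pullback_map_injective U hZ
  rw [← cancel_epi (Functor.LaxMonoidal.μ (Over.pullback U.ι) G Q₁)]
  calc Functor.LaxMonoidal.μ (Over.pullback U.ι) G Q₁ ≫ (Over.pullback U.ι).map (a₁.act ≫ h)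
      = (Functor.LaxMonoidal.μ (Over.pullback U.ι) G Q₁ ≫ (Over.pullback U.ι).map a₁.act) ≫ h' := by
        rw [Functor.map_comp, hh, Category.assoc]
    _ = ((Over.pullback U.ι).obj G ◁ h') ≫
        (Functor.LaxMonoidal.μ (Over.pullback U.ι) G Q₂ ≫ (Over.pullback U.ι).map a₂.act) := hh'
    _ = Functor.LaxMonoidal.μ (Over.pullback U.ι) G Q₁ ≫
        (Over.pullback U.ι).map ((G ◁ h) ≫ a₂.act) := by
        rw [← hh, ← Category.assoc, Functor.LaxMonoidal.μ_natural_right, Category.assoc,
          ← Functor.map_comp]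

end Groth.Agent.S14274
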