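import Groth.Statements.S14275
import Groth.Agent.Lib.Helper14ComplExact

set_option autoImplicit false
universe u
open CAlg

namespace Groth.Agent.S14275

open Groth.Agent.Lib.Helper14.ComplExact RingTheory.Sequence

theorem take_succ_ofList {A : Type u} [CommRing A] (rs : List A) (i : ℕ) (hi : i < rs.length) :
    Ideal.ofList (rs.take (i + 1)) = Ideal.ofList (rs.take i) ⊔ Ideal.span {rs[i]} := by
  rw [List.take_succ_eq_append_getElem hi, Ideal.ofList_append, Ideal.ofList_singleton]

theorem reg_of_hreg {A : Type u} [CommRing A] (rs : List A) (hreg : IsWeaklyRegular A rs)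
    (i : ℕ) (hi : i < rs.length) (x : A) (hx : rs[i] * x ∈ Ideal.ofList (rs.take i)) :
    x ∈ Ideal.ofList (rs.take i) := by
  have h1 := hreg.regular_mod_prev i hi
  rw [isSMulRegular_quotient_iff_mem_of_smul_mem] at h1
  have h2 : (Ideal.ofList (rs.take i) • ⊤ : Submodule A A) = Ideal.ofList (rs.take i) := by
    rw [smul_eq_mul, Ideal.mul_top]
  rw [h2] at h1
  exact h1 x hx

theorem ker_take {A : Type u} [CommRing A] (a : A) (rs : List A)
    (hreg : IsWeaklyRegular A rs)
    (hbd : ∀ i ≤ rs.length, ∃ N : ℕ, ∀ x : A ⧸ Ideal.ofList (rs.take i),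
      (∃ m : ℕ, a ^ m • x = 0) → a ^ N • x = 0) :
    ∀ i ≤ rs.length,
      LinearMap.ker (AdicCompletion.map (Ideal.span {a}) (Ideal.ofList (rs.take i)).mkQ) =
        (Ideal.ofList (rs.take i)).map (algebraMap A (AdicCompletion (Ideal.span {a}) A)) := by
  intro i
  induction i with
  | zero =>
    intro _
    rw [List.take_zero, Ideal.ofList_nil]
    exact ker_bot _
  | succ i ih =>
    intro hi
    have hi' : i < rs.length := hi
    obtain ⟨N, hN⟩ := hbd (i + 1) hi
    have hJ := ih hi'.le
    have hr := reg_of_hreg rs hreg i hi'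
    rw [take_succ_ofList rs i hi'] at hN ⊢
    exact ker_step a rs[i] _ hr N hN hJ

open RingTheory.Sequence in
/-- Let A be a commutative ring, a an element of A with a-adic completion A^, and a_1, ..., a_n a weakly
regular sequence on A such that for each i = 0, ..., n the quotient A/(a_1, ..., a_i) has bounded
a-power torsion (some fixed power of a kills every element killed by a power of a). Then the images
of a_1, ..., a_n form a weakly regular sequence on A^, and the canonical map from A^ to the a-adic
completion of A/(a_1, ..., a_n) is surjective with kernel the ideal generated by the images of a_1,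
..., a_n. -/
theorem result (A : Type u) [CommRing A] (a : A) (rs : List A)
    (hreg : IsWeaklyRegular A rs)
    (hbd : ∀ i ≤ rs.length, ∃ N : ℕ, ∀ x : A ⧸ Ideal.ofList (rs.take i), (∃ m : ℕ, a ^ m • x = 0) → a ^ N • x = 0) :
    IsWeaklyRegular (AdicCompletion (Ideal.span {a}) A)
        (rs.map (algebraMap A (AdicCompletion (Ideal.span {a}) A))) ∧
      Function.Surjective (AdicCompletion.map (Ideal.span {a}) (Ideal.ofList rs).mkQ) ∧
      LinearMap.ker (AdicCompletion.map (Ideal.span {a}) (Ideal.ofList rs).mkQ) =
        (Ideal.ofList rs).map (algebraMap A (AdicCompletion (Ideal.span {a}) A)) := by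
  have hker := ker_take a rs hreg hbd
  refine ⟨?_, ?_, ?_⟩
  · rw [isWeaklyRegular_iff]
    intro i hi
    have hi' : i < rs.length := by simpa using hi
    rw [isSMulRegular_quotient_iff_mem_of_smul_mem]
    have h2 : (Ideal.ofList ((rs.map (algebraMap A (AdicCompletion (Ideal.span {a}) A))).take i) • ⊤ :
        Submodule (AdicCompletion (Ideal.span {a}) A) (AdicCompletion (Ideal.span {a}) A)) =
        (Ideal.ofList (rs.take i)).map (algebraMap A (AdicCompletion (Ideal.span {a}) A)) := by
      rw [smul_eq_mul, Ideal.mul_top, ← List.map_take, Ideal.map_ofList]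
    rw [h2, List.getElem_map]
    intro x hx
    obtain ⟨N, hN⟩ := hbd (i + 1) hi'
    rw [take_succ_ofList rs i hi'] at hN
    exact regular_step a rs[i] _ (reg_of_hreg rs hreg i hi') N hN (hker i hi'.le) x hx
  · exact AdicCompletion.map_surjective _ (Submodule.mkQ_surjective _)
  · have := hker rs.length le_rfl
    rw [List.take_length] at this
    exact this

end Groth.Agent.S14275
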