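import Groth.Statements.S14285
import Groth.Agent.Lib.Helper21UnitFibB

set_option autoImplicit false
universe u
open CategoryTheory AlgebraicGeometry
open EllLift

namespace Groth.Agent.S14285

/-- Let R be a complete Noetherian local ring with maximal ideal m and residue field k = R/m, g : X →
Spec R a proper and flat morphism, and i : X₀ → X the fibre of g over the closed point, i.e. a
pullback of g along Spec k → Spec R, with structure map f₀ : X₀ → Spec k. If the induced ring map k
→ Γ(X₀, O_{X₀}) is bijective, then so is R → Γ(X, O_X). -/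
theorem result (R : Type u) [CommRing R]
    [IsLocalRing R] [IsNoetherianRing R] [IsAdicComplete (IsLocalRing.maximalIdeal R) R]
    (X X₀ : Scheme.{u}) (g : X ⟶ Spec (CommRingCat.of R)) [IsProper g] [Flat g]
    (i : X₀ ⟶ X) (f₀ : X₀ ⟶ Spec (CommRingCat.of (R ⧸ IsLocalRing.maximalIdeal R)))
    (hsq : IsPullback i f₀ g
      (Spec.map (CommRingCat.ofHom (Ideal.Quotient.mk (IsLocalRing.maximalIdeal R)))))
    (h0 : Function.Bijective ((Scheme.ΓSpecIso (CommRingCat.of (R ⧸ IsLocalRing.maximalIdeal R))).inv ≫
      f₀.appTop)) :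
    Function.Bijective ((Scheme.ΓSpecIso (CommRingCat.of R)).inv ≫ g.appTop) := by
  letI oX : X.Over (Spec (CommRingCat.of R)) := ⟨g⟩
  letI oX₀ : X₀.Over (Spec (CommRingCat.of (IsLocalRing.ResidueField R))) := ⟨f₀⟩
  haveI : IsProper (X ↘ Spec (CommRingCat.of R)) := ‹IsProper g›
  haveI : Flat (X ↘ Spec (CommRingCat.of R)) := ‹Flat g›
  have key := Groth.Agent.Lib.Helper21.TBridge.toGlobal_bijective R X X₀ i hsq h0
  exact key

end Groth.Agent.S14285
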