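import Groth.Statements.S14294
import Groth.Agent.Lib.Helper21PtDeg

set_option autoImplicit false
universe u v
open PtDeg

namespace Groth.Agent.S14294

open Groth.Agent.Lib.Helper21 in
theorem aux {A : Type u} {G : Type v} [AddCommGroup A] [AddCommGroup G]
    (f : A → G) (hf : Deg2 f) (n : ℤ) (hn : ∀ x : A, n • x = 0) (x : A) (b : ℤ)
    (hb : 2 * b = n * (n - 1)) :
    n • f x + b • Bil f x x = 0 ∧ n • Bil f x x = 0 := by
  have hB : n • Bil f x x = 0 := by
    rw [← hf.bil_zsmul_left, hn, hf.bil_zero_left]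
  refine ⟨?_, hB⟩
  have h := (hf.zsmul_formula x n).1 (b + n) b (by linear_combination hb) hb
  rw [hn, hf.map_zero] at h
  have hg : f (-x) = Bil f x x - f x := by rw [← hf.add_neg_eq_bil]; abel
  rw [hg] at h
  rw [h]
  module

/-- Let A and G be abelian groups, written additively, and f : A → G a map which is pointed of degree 2,
that is f(x+y+z) + f(x) + f(y) + f(z) = f(x+y) + f(x+z) + f(y+z) for all x, y, z in A. If an integer
n satisfies n·x = 0 for every x in A, then 2n·f(x) = 0 for every x in A, and if moreover n is odd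
then n·f(x) = 0 for every x in A. -/
theorem result {A : Type u} {G : Type v} [AddCommGroup A] [AddCommGroup G]
    (f : A → G) (hf : ∀ x y z : A, f (x + y + z) + f x + f y + f z = f (x + y) + f (x + z) + f (y + z))
    (n : ℤ) (hn : ∀ x : A, n • x = 0) :
    (∀ x : A, (2 * n) • f x = 0) ∧ (Odd n → ∀ x : A, n • f x = 0) := by
  have hf' : Groth.Agent.Lib.Helper21.Deg2 f := hf
  have h2 : (2 : ℤ) ∣ n * (n - 1) := by
    have := (Int.even_mul_succ_self (n - 1)).two_dvd
    rwa [sub_add_cancel, mul_comm] at this
  obtain ⟨b, hb⟩ := h2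
  constructor
  · intro x
    obtain ⟨h1, h3⟩ := aux f hf' n hn x b hb.symm
    have e : (2 * n) • f x = 2 • (n • f x + b • Groth.Agent.Lib.Helper21.Bil f x x)
        - (n - 1) • (n • Groth.Agent.Lib.Helper21.Bil f x x) := by
      have : (2 * b : ℤ) = n * (n - 1) := hb.symm
      have e3 : (2 * b) • Groth.Agent.Lib.Helper21.Bil f x x =
          (n * (n - 1)) • Groth.Agent.Lib.Helper21.Bil f x x := by rw [this]
      have e4 : (n - 1) • (n • Groth.Agent.Lib.Helper21.Bil f x x) =
          (2 * b) • Groth.Agent.Lib.Helper21.Bil f x x := by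
        rw [e3, smul_smul, mul_comm]
      rw [e4]
      module
    rw [e, h1, h3, smul_zero, smul_zero, sub_zero]
  · intro hodd x
    obtain ⟨k, hk⟩ := hodd
    obtain ⟨h1, h3⟩ := aux f hf' n hn x b hb.symm
    have hbk : b = n * k := by
      have : 2 * b = 2 * (n * k) := by rw [← hb, hk]; ring
      linarith
    rw [hbk, mul_comm, mul_smul, h3, smul_zero, add_zero] at h1
    exact h1

end Groth.Agent.S14294
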