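import Groth.Statements.S14307
import Mathlib.Algebra.BigOperators.Group.Finset.Basic
import Mathlib.Algebra.BigOperators.Ring.Finset
import Mathlib.Data.Finset.Powerset
import Mathlib.Tactic.Abel
import Mathlib.Tactic.Ring
import Mathlib.Algebra.Module.Basic
import Mathlib.Algebra.Module.Defs

set_option autoImplicit false
universe u v
open PtDeg

namespace Groth.Agent.S14307

/-- Let A and G be abelian groups, written additively, f : A → G a map and n ≥ 1. If a tuple x ∈ A^n has
some coordinate equal to 0, then the n-th deviation of f at x, namely Σ_{∅ ≠ I ⊆ {1,…,n}}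
(−1)^{n+|I|} f(Σ_{i ∈ I} x_i), equals (−1)^{n+1} f(0). -/
theorem result {A : Type u} {G : Type v} [AddCommGroup A] [AddCommGroup G]
    (f : A → G) (n : ℕ) (hn : 1 ≤ n) (x : Fin n → A) (i : Fin n) (hx : x i = 0) :
    ∑ I ∈ ((Finset.univ : Finset (Fin n)).powerset.erase ∅), ((-1 : ℤ) ^ (n + I.card)) • f (∑ j ∈ I, x j) =
      ((-1 : ℤ) ^ (n + 1)) • f 0 := by
  classical
  set F : Finset (Fin n) → G := fun I => ((-1 : ℤ) ^ (n + I.card)) • f (∑ j ∈ I, x j) with hF
  have hall : ∑ I ∈ (Finset.univ : Finset (Fin n)).powerset, F I = 0 := by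
    refine Finset.sum_involution
      (fun I _ => if i ∈ I then I.erase i else insert i I) ?_ ?_ ?_ ?_
    · intro I _
      by_cases hi : i ∈ I
      · simp only [hi, if_true, hF]
        rw [Finset.sum_erase _ hx, Finset.card_erase_of_mem hi]
        have hc : 0 < I.card := Finset.card_pos.mpr ⟨i, hi⟩
        have e : (-1 : ℤ) ^ (n + I.card) = - (-1 : ℤ) ^ (n + (I.card - 1)) := by
          have : n + I.card = (n + (I.card - 1)) + 1 := by omega
          rw [this, pow_succ]; ring
        rw [e, neg_smul, neg_add_cancel]
      · simp only [hi, if_false, hF]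
        rw [Finset.sum_insert hi, hx, zero_add, Finset.card_insert_of_notMem hi]
        have e : (-1 : ℤ) ^ (n + (I.card + 1)) = - (-1 : ℤ) ^ (n + I.card) := by
          rw [← add_assoc, pow_succ]; ring
        rw [e, neg_smul, add_neg_cancel]
    · intro I _ _
      by_cases hi : i ∈ I
      · simp only [hi, if_true]
        intro h
        have := Finset.notMem_erase i I
        rw [h] at this
        exact this hi
      · simp only [hi, if_false]
        intro h
        exact hi (h ▸ Finset.mem_insert_self i I)
    · intro I _
      exact Finset.mem_powerset.mpr (Finset.subset_univ _)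
    · intro I _
      by_cases hi : i ∈ I
      · simp only [hi, if_true, Finset.notMem_erase, if_false]
        exact Finset.insert_erase hi
      · simp only [hi, if_false, Finset.mem_insert_self, if_true]
        exact Finset.erase_insert hi
  have hsplit := Finset.add_sum_erase ((Finset.univ : Finset (Fin n)).powerset) F
    (Finset.empty_mem_powerset _)
  rw [hall] at hsplit
  have h0 : F ∅ = ((-1 : ℤ) ^ n) • f 0 := by simp [hF]
  have : ∑ I ∈ ((Finset.univ : Finset (Fin n)).powerset.erase ∅), F I = - F ∅ := by
    rw [eq_neg_iff_add_eq_zero, add_comm]; exact hsplit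
  change ∑ I ∈ ((Finset.univ : Finset (Fin n)).powerset.erase ∅), F I = _
  rw [this, h0, pow_succ, mul_neg_one, neg_smul]

end Groth.Agent.S14307
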