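import Groth.Statements.S14309
import Mathlib.RingTheory.Ideal.Span
import Mathlib.RingTheory.Ideal.Maps
import Mathlib.Algebra.MvPolynomial.Rename
import Mathlib.Tactic.Ring
import Mathlib.Tactic.LinearCombination

set_option autoImplicit false
universe u v w x y
open CAlg

namespace Groth.Agent.S14309

theorem decomp {R : Type u} [CommRing R] {σ : Type y} (w : MvPolynomial (Option σ) R) :
    ∃ (P : MvPolynomial σ R) (w' : MvPolynomial (Option σ) R),
      w = MvPolynomial.rename (Option.some : σ → Option σ) P + MvPolynomial.X none * w' := by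
  induction w using MvPolynomial.induction_on with
  | C r => exact ⟨MvPolynomial.C r, 0, by simp⟩
  | add p q hp hq =>
    obtain ⟨P, p', rfl⟩ := hp
    obtain ⟨Q, q', rfl⟩ := hq
    exact ⟨P + Q, p' + q', by rw [map_add]; ring⟩
  | mul_X p i hp =>
    obtain ⟨P, p', rfl⟩ := hp
    cases i with
    | none =>
      exact ⟨0, MvPolynomial.rename (Option.some : σ → Option σ) P + MvPolynomial.X none * p',
        by rw [map_zero]; ring⟩
    | some s =>
      exact ⟨P * MvPolynomial.X s, p' * MvPolynomial.X (some s), by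
        rw [map_mul, MvPolynomial.rename_X]; ring⟩

/-- Let R be a commutative ring; A, B, C commutative R-algebras; i : A → B and j : A → C jointly
injective R-algebra maps; c a non-zero-divisor of B; u : C → B/(c) a ring map with u ∘ j equal to i
followed by reduction modulo c; ζ in A with i ζ = c and j ζ = 0; η : R[X_σ, Z] → A an R-algebra map
with η(Z) = ζ; a : R[Y_τ] → B a surjective R-algebra map; η_Z : R[X_σ, Z] → R[Y_τ] a surjective
R-algebra map with a ∘ η_Z = i ∘ η. Fix c̃ in R[Y_τ] with a(c̃) = c, a family (p_h) generating the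
kernel of the composite R[X_σ] → R[X_σ, Z] → A → C, a family (q'_h) generating the kernel of a
together with lifts q_h along η_Z, a family (v_h) generating the kernel of η_Z, and elements g'_h of
R[Y_τ] with η_Z(p_h) + g'_h c̃ in the ideal (q'_h), together with lifts g_h along η_Z. Then the
kernel of η is the ideal generated by the elements Z q_h, Z v_h and p_h + Z g_h. (The published
statement is for the rings of cycle classes, with coefficients ℤ[1/6], of a smooth quotient stack, a
smooth closed substack whose normal bundle has top Chern class c a non-zero-divisor, and the open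
complement; this row states the ring-theoretic content for any such square of commutative rings in
which A embeds in B × C.) -/
theorem result
    {R : Type u} [CommRing R] {A : Type v} {B : Type w} {C : Type x}
    [CommRing A] [CommRing B] [CommRing C] [Algebra R A] [Algebra R B] [Algebra R C]
    (i : A →ₐ[R] B) (j : A →ₐ[R] C)
    (hinj : ∀ t : A, i t = 0 → j t = 0 → t = 0)
    (c : B) (hc : c ∈ nonZeroDivisors B) (u : C →+* B ⧸ Ideal.span ({c} : Set B))
    (hu : ∀ t : A, u (j t) = Ideal.Quotient.mk (Ideal.span ({c} : Set B)) (i t))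
    (ζ : A) (hiζ : i ζ = c) (hjζ : j ζ = 0)
    {σ τ ιp ιq ιv : Type y}
    (η : MvPolynomial (Option σ) R →ₐ[R] A) (hη : η (MvPolynomial.X none) = ζ)
    (a : MvPolynomial τ R →ₐ[R] B) (ha : Function.Surjective a)
    (ηZ : MvPolynomial (Option σ) R →ₐ[R] MvPolynomial τ R)
    (hcomm : ∀ t, a (ηZ t) = i (η t)) (hηZ : Function.Surjective ηZ)
    (cZ : MvPolynomial τ R) (hcZ : a cZ = c)
    (p : ιp → MvPolynomial σ R)
    (hp : Ideal.span (Set.range p) =
      RingHom.ker ((j.comp η).comp (MvPolynomial.rename (Option.some : σ → Option σ))))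
    (q' : ιq → MvPolynomial τ R) (hq' : Ideal.span (Set.range q') = RingHom.ker a)
    (q : ιq → MvPolynomial (Option σ) R) (hq : ∀ h, ηZ (q h) = q' h)
    (v : ιv → MvPolynomial (Option σ) R) (hv : Ideal.span (Set.range v) = RingHom.ker ηZ)
    (g' : ιp → MvPolynomial τ R)
    (hg' : ∀ h, ηZ (MvPolynomial.rename (Option.some : σ → Option σ) (p h)) + g' h * cZ ∈
      Ideal.span (Set.range q'))
    (g : ιp → MvPolynomial (Option σ) R) (hg : ∀ h, ηZ (g h) = g' h) :
    RingHom.ker η = Ideal.span
      (Set.range (fun h : ιq => MvPolynomial.X none * q h) ∪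
        Set.range (fun h : ιv => MvPolynomial.X none * v h) ∪
        Set.range (fun h : ιp =>
          MvPolynomial.rename (Option.some : σ → Option σ) (p h) + MvPolynomial.X none * g h)) := by
  classical
  set ren := MvPolynomial.rename (R := R) (Option.some : σ → Option σ) with hren
  set Z : MvPolynomial (Option σ) R := MvPolynomial.X none with hZ
  set K : Ideal (MvPolynomial (Option σ) R) := Ideal.span
      (Set.range (fun h : ιq => Z * q h) ∪ Set.range (fun h : ιv => Z * v h) ∪
        Set.range (fun h : ιp => ren (p h) + Z * g h)) with hK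
  have hcz : ∀ b : B, c * b = 0 → b = 0 := fun b hb =>
    (mem_nonZeroDivisors_iff.mp hc).1 b hb
  -- membership of generators
  have hq_mem : ∀ h, Z * q h ∈ K := fun h =>
    Ideal.subset_span (Or.inl (Or.inl ⟨h, rfl⟩))
  have hv_mem : ∀ h, Z * v h ∈ K := fun h =>
    Ideal.subset_span (Or.inl (Or.inr ⟨h, rfl⟩))
  have hp_mem : ∀ h, ren (p h) + Z * g h ∈ K := fun h =>
    Ideal.subset_span (Or.inr ⟨h, rfl⟩)
  have hKle : K ≤ RingHom.ker η := by
    rw [hK, Ideal.span_le]
    rintro x ((⟨h, rfl⟩ | ⟨h, rfl⟩) | ⟨h, rfl⟩)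
    · rw [SetLike.mem_coe, RingHom.mem_ker]
      apply hinj
      · rw [map_mul, map_mul, hη, hiζ, ← hcomm, hq]
        have : q' h ∈ RingHom.ker a := hq' ▸ Ideal.subset_span ⟨h, rfl⟩
        rw [RingHom.mem_ker.mp this, mul_zero]
      · rw [map_mul, map_mul, hη, hjζ, zero_mul]
    · rw [SetLike.mem_coe, RingHom.mem_ker]
      apply hinj
      · rw [map_mul, map_mul, hη, hiζ, ← hcomm]
        have : v h ∈ RingHom.ker ηZ := hv ▸ Ideal.subset_span ⟨h, rfl⟩
        rw [RingHom.mem_ker.mp this, map_zero, mul_zero]
      · rw [map_mul, map_mul, hη, hjζ, zero_mul]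
    · rw [SetLike.mem_coe, RingHom.mem_ker]
      apply hinj
      · rw [map_add, map_add, map_mul, map_mul, hη, hiζ, ← hcomm, ← hcomm, hg, ← hcZ, ← map_mul,
          ← map_add, mul_comm]
        have : ηZ (ren (p h)) + g' h * cZ ∈ RingHom.ker a := hq' ▸ hg' h
        exact RingHom.mem_ker.mp this
      · rw [map_add, map_add, map_mul, map_mul, hη, hjζ, zero_mul, add_zero]
        have : p h ∈ RingHom.ker ((j.comp η).comp ren) := hp ▸ Ideal.subset_span ⟨h, rfl⟩
        exact RingHom.mem_ker.mp this
  refine le_antisymm ?_ hKle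
  -- claims
  have claimA : ∀ P ∈ Ideal.span (Set.range p), ∃ G, ren P + Z * G ∈ K := by
    intro P hP
    induction hP using Submodule.span_induction with
    | mem x hx =>
      obtain ⟨h, rfl⟩ := hx
      exact ⟨g h, hp_mem h⟩
    | zero => exact ⟨0, by simp⟩
    | add x y _ _ hx hy =>
      obtain ⟨G₁, h₁⟩ := hx
      obtain ⟨G₂, h₂⟩ := hy
      refine ⟨G₁ + G₂, ?_⟩
      have := K.add_mem h₁ h₂
      convert this using 1
      rw [map_add]; ring
    | smul r x _ hx =>
      obtain ⟨G₁, h₁⟩ := hx
      refine ⟨ren r * G₁, ?_⟩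
      have := K.mul_mem_left (ren r) h₁
      convert this using 1
      rw [smul_eq_mul, map_mul]; ring
  have claimB : ∀ y ∈ Ideal.span (Set.range q'), ∃ W, ηZ W = y ∧ Z * W ∈ K := by
    intro y hy
    induction hy using Submodule.span_induction with
    | mem x hx =>
      obtain ⟨h, rfl⟩ := hx
      exact ⟨q h, hq h, hq_mem h⟩
    | zero => exact ⟨0, map_zero _, by simp⟩
    | add x y _ _ hx hy =>
      obtain ⟨W₁, e₁, h₁⟩ := hx
      obtain ⟨W₂, e₂, h₂⟩ := hy
      refine ⟨W₁ + W₂, by rw [map_add, e₁, e₂], ?_⟩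
      rw [mul_add]; exact K.add_mem h₁ h₂
    | smul r x _ hx =>
      obtain ⟨W₁, e₁, h₁⟩ := hx
      obtain ⟨r', rfl⟩ := hηZ r
      refine ⟨r' * W₁, by rw [map_mul, e₁, smul_eq_mul], ?_⟩
      have := K.mul_mem_left r' h₁
      convert this using 1
      ring
  have claimC : ∀ V ∈ Ideal.span (Set.range v), Z * V ∈ K := by
    intro V hV
    induction hV using Submodule.span_induction with
    | mem x hx =>
      obtain ⟨h, rfl⟩ := hx
      exact hv_mem h
    | zero => simp
    | add x y _ _ hx hy => rw [mul_add]; exact K.add_mem hx hy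
    | smul r x _ hx =>
      have := K.mul_mem_left r hx
      convert this using 1
      rw [smul_eq_mul]; ring
  intro w hw
  rw [RingHom.mem_ker] at hw
  obtain ⟨P, w', rfl⟩ := decomp w
  have hjP : P ∈ Ideal.span (Set.range p) := by
    rw [hp, RingHom.mem_ker]
    have := congrArg j hw
    rw [map_add, map_add, map_mul, map_mul, hη, hjζ, zero_mul, add_zero, map_zero] at this
    exact this
  obtain ⟨G, hG⟩ := claimA P hjP
  have hG' : η (ren P + Z * G) = 0 := RingHom.mem_ker.mp (hKle hG)
  set w'' := w' - G with hw''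
  have hw''ker : η (Z * w'') = 0 := by
    have : Z * w'' = (ren P + Z * w') - (ren P + Z * G) := by rw [hw'']; ring
    rw [this, map_sub, hw, hG', sub_zero]
  have haw : a (ηZ w'') = 0 := by
    apply hcz
    have := congrArg i hw''ker
    rw [map_mul, map_mul, hη, hiζ, map_zero, ← hcomm] at this
    exact this
  have hmem : ηZ w'' ∈ Ideal.span (Set.range q') := by rw [hq']; exact RingHom.mem_ker.mpr haw
  obtain ⟨W, hW, hWK⟩ := claimB _ hmem
  have hdiff : w'' - W ∈ Ideal.span (Set.range v) := by
    rw [hv, RingHom.mem_ker, map_sub, hW, sub_self]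
  have hC := claimC _ hdiff
  have : ren P + Z * w' = (ren P + Z * G) + (Z * W + Z * (w'' - W)) := by rw [hw'']; ring
  rw [this]
  exact K.add_mem hG (K.add_mem hWK hC)

end Groth.Agent.S14309
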