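import Groth.Statements.S1432
import Mathlib

set_option autoImplicit false
universe u
open FlatMor

namespace Groth.Agent.S1432

open AlgebraicGeometry CategoryTheory Limits in
/-- A monomorphism through which every member of an open cover of the target factors is an
isomorphism. -/
lemma isIso_of_mono_of_cover_factors {W Z : Scheme.{u}} (l : Z ⟶ W) [Mono l] (𝒰 : W.OpenCover)
    (s : ∀ j, 𝒰.X j ⟶ Z) (hs : ∀ j, s j ≫ l = 𝒰.f j) : IsIso l := by
  have : MorphismProperty.isomorphisms Scheme.{u} l := by
    refine IsZariskiLocalAtTarget.of_openCover (P := MorphismProperty.isomorphisms Scheme.{u}) 𝒰 ?_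
    intro j
    change IsIso (pullback.snd l (𝒰.f j))
    have hsplit : IsSplitEpi (pullback.snd l (𝒰.f j)) :=
      IsSplitEpi.mk' ⟨pullback.lift (s j) (𝟙 _) (by rw [hs j, Category.id_comp]), pullback.lift_snd _ _ _⟩
    exact isIso_of_mono_of_isSplitEpi _
  exact this

open AlgebraicGeometry CategoryTheory Limits in
lemma ker_SpecMap_eq_bot {A B : CommRingCat.{u}} (φ : A ⟶ B) (hφ : Function.Injective φ.hom) :
    (Spec.map φ).ker = ⊥ := by
  rw [Scheme.ker_of_isAffine]
  have : RingHom.ker (Spec.map φ).appTop.hom = ⊥ := by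
    rw [RingHom.ker_eq_bot_iff_eq_zero]
    intro x hx
    have h1 : (Spec.map φ).appTop = (Scheme.ΓSpecIso A).hom ≫ φ ≫ (Scheme.ΓSpecIso B).inv := by
      rw [← Scheme.ΓSpecIso_naturality_assoc, Iso.hom_inv_id, Category.comp_id]
    rw [h1] at hx
    simp only [CommRingCat.hom_comp, RingHom.comp_apply] at hx
    have h2 : Function.Injective (Scheme.ΓSpecIso B).inv.hom :=
      (ConcreteCategory.bijective_of_isIso (Scheme.ΓSpecIso B).inv).1
    have h3 : Function.Injective (Scheme.ΓSpecIso A).hom.hom :=
      (ConcreteCategory.bijective_of_isIso (Scheme.ΓSpecIso A).hom).1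
    have := h2 (hx.trans (map_zero _).symm)
    have := hφ (this.trans (map_zero _).symm)
    exact h3 (this.trans (map_zero _).symm)
  rw [this]
  exact map_bot (Scheme.IdealSheafData.equivOfIsAffine (X := Spec A)).symm

open AlgebraicGeometry CategoryTheory Limits in
/-- For a quasi-compact morphism f : X → Y, being a closed immersion is equivalent to the following
lifting property: for each injective ring map A → B and each commutative square with Spec B → X on
top and Spec A → Y at the bottom there is a lift Spec A → X making both triangles commute. -/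
theorem result {X Y : Scheme.{u}} (f : X ⟶ Y) [QuasiCompact f] :
    IsClosedImmersion f ↔ ∀ (A B : Type u) [CommRing A] [CommRing B] (φ : A →+* B), Function.Injective φ →
      ∀ (a : Spec (CommRingCat.of B) ⟶ X) (b : Spec (CommRingCat.of A) ⟶ Y), Spec.map (CommRingCat.ofHom φ) ≫ b = a ≫ f →
        ∃ l : Spec (CommRingCat.of A) ⟶ X, Spec.map (CommRingCat.ofHom φ) ≫ l = a ∧ l ≫ f = b := by
  constructor
  · intro hf A B _ _ φ hφ a b comm
    have hiso : IsIso (pullback.snd f b) := by
      rw [IsClosedImmersion.isIso_iff_ker_eq_bot, eq_bot_iff]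
      have h1 := Scheme.Hom.le_ker_comp (pullback.lift a (Spec.map (CommRingCat.ofHom φ)) comm.symm)
        (pullback.snd f b)
      rw [pullback.lift_snd, ker_SpecMap_eq_bot _ hφ] at h1
      exact h1
    refine ⟨inv (pullback.snd f b) ≫ pullback.fst f b, ?_, ?_⟩
    · have : Spec.map (CommRingCat.ofHom φ) ≫ inv (pullback.snd f b) =
          pullback.lift a (Spec.map (CommRingCat.ofHom φ)) comm.symm := by
        rw [IsIso.comp_inv_eq, pullback.lift_snd]
      rw [reassoc_of% this, pullback.lift_fst]
    · rw [Category.assoc, pullback.condition, IsIso.inv_hom_id_assoc]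
  · intro H
    refine IsZariskiLocalAtTarget.of_openCover (P := @IsClosedImmersion) Y.affineCover ?_
    intro i
    change IsClosedImmersion (pullback.snd f (Y.affineCover.f i))
    set V := Y.affineCover.X i with hV
    set v : V ⟶ Y := Y.affineCover.f i with hv
    set W := pullback f v with hW
    let 𝒰 : W.OpenCover := W.affineCover.finiteSubcover
    let U : Scheme.{u} := ∐ 𝒰.X
    let c : U ⟶ W := Sigma.desc 𝒰.f
    let φ : Γ(V, ⊤) ⟶ Γ(U, ⊤) := (c ≫ pullback.snd f v).appTop
    let ψ : (Γ(V, ⊤) ⧸ RingHom.ker φ.hom) →+* Γ(U, ⊤) := RingHom.kerLift φ.hom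
    have hψ : Function.Injective ψ := RingHom.kerLift_injective φ.hom
    have hψφ : CommRingCat.ofHom (Ideal.Quotient.mk (RingHom.ker φ.hom)) ≫ CommRingCat.ofHom ψ = φ := by
      apply CommRingCat.hom_ext
      apply RingHom.ext
      intro x
      rfl
    have hnat : Spec.map φ ≫ V.isoSpec.inv = U.isoSpec.inv ≫ c ≫ pullback.snd f v :=
      Scheme.isoSpec_inv_naturality (c ≫ pullback.snd f v)
    obtain ⟨l₀, hl₀a, hl₀b⟩ := H (Γ(V, ⊤) ⧸ RingHom.ker φ.hom) Γ(U, ⊤) ψ hψ
      (U.isoSpec.inv ≫ c ≫ pullback.fst f v)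
      (Spec.map (CommRingCat.ofHom (Ideal.Quotient.mk (RingHom.ker φ.hom))) ≫ V.isoSpec.inv ≫ v)
      (by
        rw [← Spec.map_comp_assoc, hψφ, reassoc_of% hnat]
        simp only [Category.assoc, pullback.condition])
    let l : Spec (CommRingCat.of (Γ(V, ⊤) ⧸ RingHom.ker φ.hom)) ⟶ W :=
      pullback.lift l₀ (Spec.map (CommRingCat.ofHom (Ideal.Quotient.mk (RingHom.ker φ.hom))) ≫ V.isoSpec.inv)
        (by rw [hl₀b, Category.assoc])
    have hlp : l ≫ pullback.snd f v =
        Spec.map (CommRingCat.ofHom (Ideal.Quotient.mk (RingHom.ker φ.hom))) ≫ V.isoSpec.inv :=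
      pullback.lift_snd _ _ _
    have hψl : Spec.map (CommRingCat.ofHom ψ) ≫ l = U.isoSpec.inv ≫ c := by
      apply pullback.hom_ext
      · rw [Category.assoc, pullback.lift_fst, hl₀a, Category.assoc]
      · rw [Category.assoc, hlp, ← Spec.map_comp_assoc, hψφ, hnat, Category.assoc]
    have hci : IsClosedImmersion (l ≫ pullback.snd f v) := by
      rw [hlp]
      have : IsClosedImmersion (Spec.map (CommRingCat.ofHom (Ideal.Quotient.mk (RingHom.ker φ.hom)))) :=
        IsClosedImmersion.spec_of_surjective _ Ideal.Quotient.mk_surjective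
      infer_instance
    have hmono : Mono l := mono_of_mono l (pullback.snd f v)
    have hiso : IsIso l := by
      refine isIso_of_mono_of_cover_factors l 𝒰
        (fun j => Sigma.ι 𝒰.X j ≫ U.isoSpec.hom ≫ Spec.map (CommRingCat.ofHom ψ)) ?_
      intro j
      rw [Category.assoc, Category.assoc, hψl, Iso.hom_inv_id_assoc]
      exact Sigma.ι_desc _ _
    have : pullback.snd f v = inv l ≫ (l ≫ pullback.snd f v) := by
      rw [IsIso.inv_hom_id_assoc]
    rw [this]
    infer_instance

end Groth.Agent.S1432
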