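import Groth.Statements.S14330
import Groth.Agent.Lib.Helper20ZClos20

set_option autoImplicit false
set_option linter.style.haveILetI false
universe u
open CategoryTheory CategoryTheory.Limits AlgebraicGeometry Opposite
open GrpSch

namespace Groth.Agent.S14330

/-- Let S be a locally Noetherian scheme, f : A → S a smooth morphism, L an invertible O_A-module and V
an open subscheme of S; for an open W of S consider the restriction of sections of L from f⁻¹(W) to
f⁻¹(W) ∩ f⁻¹(V), that is the component over W of the natural map f_*L → j_*j^*(f_*L), j : V → S the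
inclusion. If V is schematically dense in S, all these restrictions are injective. If V is a big
open of S, meaning that the local ring of S at every point outside V has depth at least 2, all these
restrictions are bijective. (The published statement is for a semi-stable group scheme A; its proof
uses only the smoothness of A over S and the local freeness of L, which are the hypotheses kept
here.) -/
theorem result {S A : Scheme.{u}} [IsLocallyNoetherian S]
    (f : A ⟶ S) [Smooth f] (L : A.Modules) (hL : PicF.IsInvertible L) (V : S.Opens) :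
    (CInt.IsSchematicallyDense V →
      ∀ W : S.Opens, Function.Injective (L.val.map (homOfLE (inf_le_left : f ⁻¹ᵁ W ⊓ f ⁻¹ᵁ V ≤ f ⁻¹ᵁ W)).op)) ∧
    ((∀ x : S, x ∉ V → 2 ≤ LocCoh.depth (S.presheaf.stalk x) (S.presheaf.stalk x)) →
      ∀ W : S.Opens, Function.Bijective (L.val.map (homOfLE (inf_le_left : f ⁻¹ᵁ W ⊓ f ⁻¹ᵁ V ≤ f ⁻¹ᵁ W)).op)) := by
  haveI : IsLocallyNoetherian A := LocallyOfFiniteType.isLocallyNoetherian f
  haveI := Groth.Agent.Lib.Helper20.WeakAss.isQuasicoherent_of_isInvertible L hL
  haveI := Groth.Agent.Lib.Helper20.ZClosLib.isFiniteType_of_isInvertible L hL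
  let K : TopologicalSpace.Closeds A := (f ⁻¹ᵁ V).compl
  have hKV : K.compl = f ⁻¹ᵁ V := (f ⁻¹ᵁ V).compl_compl
  -- depth of `L` at points over the complement of `V`
  have hdepth : ∀ (n : ℕ∞), (∀ s : S, s ∉ V →
      n ≤ LocCoh.depth (S.presheaf.stalk s) (S.presheaf.stalk s)) →
      ∀ x : A, x ∈ (K : Set A) →
        n ≤ LocCoh.depth (A.presheaf.stalk x) (L.presheaf.stalk x) := by
    intro n hn x hx
    rw [Groth.Agent.Lib.Helper20.ZClosLib.depth_stalk_of_isInvertible L hL x]
    exact (hn (f x) hx).trans (Groth.Agent.Lib.Helper20.ZClosLib.depth_le_depth_of_flat f x)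
  constructor
  · intro hV W
    have h1 := hdepth 1
      (Groth.Agent.Lib.Helper20.ZClosLib.one_le_depth_of_isSchematicallyDense V hV)
    have hpure : ZClos.IsZPure (K : Set A) L := by
      refine (Groth.Agent.Lib.Helper20.ZClosLib.mono_iff_stalk_injective
        (ZClos.rhoApp (K : Set A) L)).mpr fun x => ?_
      exact Groth.Agent.Lib.Helper20.ZClosLib.isZPureAt_of_depth_ge_one (K : Set A) L x
        fun x' _ hx' => h1 x' hx'
    have hmono := (Groth.Agent.Lib.Helper20.ZClosLib.isZPure_iff_forall_mono (K : Set A) L).mp hpure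
      (Groth.Agent.Lib.Helper20.ZClosLib.topCl K)
    have h2 := (Groth.Agent.Lib.Helper20.ZClosLib.mono_toDiagram_iff (K : Set A) L
      (Groth.Agent.Lib.Helper20.ZClosLib.topCl K)).mp hmono (f ⁻¹ᵁ W)
    exact (Groth.Agent.Lib.Helper20.ZClosLib.injective_map_congr L (by rw [← hKV]; rfl) rfl _ _).mp h2
  · intro hV W
    have h2 := hdepth 2 hV
    have h3 := (Groth.Agent.Lib.Helper20.ZClosLib.depth_ge_two_iff_bijective_res K L).mp h2 (f ⁻¹ᵁ W)
    exact (Groth.Agent.Lib.Helper20.ZClosLib.bijective_map_congr L (by rw [← hKV]) rfl _ _).mp h3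

end Groth.Agent.S14330
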