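import Groth.Statements.S14337
import Mathlib.RingTheory.Flat.EquationalCriterion
import Mathlib.Algebra.Module.FinitePresentation
import Mathlib.LinearAlgebra.TensorProduct.RightExactness
import Mathlib.Algebra.Module.Projective

set_option autoImplicit false
universe u
open scoped TensorProduct
open CAlg

namespace Groth.Agent.S14337

/-- Let B be a Noetherian ring, K and K' finitely generated flat B-modules and φ : K → K' a B-linear
map; for a prime y of B write κ(y) for its residue field and φ_y for the base change κ(y) ⊗ K → κ(y)
⊗ K'. If the cokernel K'/Im φ is a projective (locally free) B-module, then Im φ is projective, and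
the formation of Im φ commutes with every base change: for every commutative B-algebra B' the map B'
⊗ Im φ → B' ⊗ K' induced by the inclusion is injective and its range is the range of the base change
B' ⊗ K → B' ⊗ K' of φ. -/
theorem result (B : Type u) [CommRing B] [IsNoetherianRing B] (K K' : Type u) [AddCommGroup K] [Module B K] [Module.Finite B K] [Module.Flat B K] [AddCommGroup K'] [Module B K'] [Module.Finite B K'] [Module.Flat B K'] (φ : K →ₗ[B] K') (hc : Module.Projective B (K' ⧸ LinearMap.range φ)) : Module.Projective B ↥(LinearMap.range φ) ∧ ∀ (B' : Type u) [CommRing B'] [Algebra B B'], Function.Injective ((LinearMap.range φ).subtype.baseChange B') ∧ LinearMap.range ((LinearMap.range φ).subtype.baseChange B') = LinearMap.range (φ.baseChange B') := by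
  classical
  have : Module.FinitePresentation B K' := Module.finitePresentation_of_finite B K'
  have : Module.Projective B K' := Module.Flat.projective_of_finitePresentation
  set P : Submodule B K' := LinearMap.range φ with hP
  obtain ⟨g, hg⟩ := P.mkQ.exists_rightInverse_of_surjective (Submodule.range_mkQ P)
  have hg' : ∀ q, P.mkQ (g q) = q := fun q => by
    have := congrArg (fun f => f q) hg
    simpa using this
  -- retraction
  set ψ : K' →ₗ[B] K' := LinearMap.id - g ∘ₗ P.mkQ with hψ
  have hmem : ∀ x : K', ψ x ∈ P := fun x => by
    have h0 : P.mkQ (ψ x) = 0 := by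
      rw [hψ, LinearMap.sub_apply, map_sub, LinearMap.id_apply, LinearMap.comp_apply, hg', sub_self]
    have h1 := LinearMap.mem_ker.mpr h0
    rwa [Submodule.ker_mkQ] at h1
  let r : K' →ₗ[B] P := LinearMap.codRestrict P ψ hmem
  have hr : r ∘ₗ P.subtype = LinearMap.id := by
    ext x
    simp only [r, hψ, LinearMap.comp_apply, LinearMap.codRestrict_apply, LinearMap.sub_apply,
      LinearMap.id_apply, Submodule.subtype_apply]
    have : P.mkQ (x : K') = 0 := by
      rw [← LinearMap.mem_ker, Submodule.ker_mkQ]; exact x.2
    rw [this, map_zero, sub_zero]
  refine ⟨Module.Projective.of_split P.subtype r hr, ?_⟩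
  intro B' _ _
  constructor
  · have h1 : r.baseChange B' ∘ₗ P.subtype.baseChange B' = LinearMap.id := by
      rw [← LinearMap.baseChange_comp, hr, LinearMap.baseChange_id]
    intro a b hab
    have := congrArg (r.baseChange B') hab
    rw [← LinearMap.comp_apply, ← LinearMap.comp_apply, h1] at this
    exact this
  · have h2 : φ = P.subtype ∘ₗ φ.rangeRestrict := by
      ext x; rfl
    conv_rhs => rw [h2, LinearMap.baseChange_comp]
    rw [LinearMap.range_comp_of_range_eq_top]
    rw [LinearMap.range_eq_top]
    exact LinearMap.baseChange_surjective B' (LinearMap.surjective_rangeRestrict φ)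

end Groth.Agent.S14337
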