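import Groth.Statements.S14338
import Mathlib
import Groth.Agent.Lib.Helper22RedProj

set_option autoImplicit false
universe u
open CAlg

namespace Groth.Agent.S14338

open scoped TensorProduct
open Groth.Agent.Lib.Helper22.RedProj

lemma fib_coker {B : Type u} [CommRing B] {K K' : Type u} [AddCommGroup K] [Module B K]
    [AddCommGroup K'] [Module B K'] [Module.Finite B K'] (φ : K →ₗ[B] K')
    (y : PrimeSpectrum B) :
    Module.finrank y.asIdeal.ResidueField (y.asIdeal.ResidueField ⊗[B] K') =
      Module.finrank y.asIdeal.ResidueField
        (y.asIdeal.ResidueField ⊗[B] (K' ⧸ LinearMap.range φ)) +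
      Module.finrank y.asIdeal.ResidueField
        ↥(LinearMap.range (φ.baseChange y.asIdeal.ResidueField)) := by
  have hex : Function.Exact (φ.baseChange y.asIdeal.ResidueField)
      ((Submodule.mkQ (LinearMap.range φ)).baseChange y.asIdeal.ResidueField) :=
    lTensor_exact y.asIdeal.ResidueField (LinearMap.exact_map_mkQ_range φ)
      (Submodule.mkQ_surjective _)
  rw [LinearMap.exact_iff] at hex
  have hsurj : Function.Surjective
      ((Submodule.mkQ (LinearMap.range φ)).baseChange y.asIdeal.ResidueField) :=
    LinearMap.lTensor_surjective _ (Submodule.mkQ_surjective _)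
  have h1 := LinearMap.finrank_range_add_finrank_ker
    ((Submodule.mkQ (LinearMap.range φ)).baseChange y.asIdeal.ResidueField)
  rw [LinearMap.range_eq_top.mpr hsurj, finrank_top, hex] at h1
  exact h1.symm

/-- Let B be a Noetherian ring, K and K' finitely generated flat B-modules and φ : K → K' a B-linear
map; for a prime y of B write κ(y) for its residue field and φ_y for the base change κ(y) ⊗ K → κ(y)
⊗ K'. Assume B is reduced and the number dim_{κ(y)} Im(φ_y) is the same for all primes y of B. Then
the cokernel K'/Im φ and the image Im φ are projective (locally free) B-modules. -/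
theorem result (B : Type u) [CommRing B] [IsNoetherianRing B] (K K' : Type u) [AddCommGroup K] [Module B K] [Module.Finite B K] [Module.Flat B K] [AddCommGroup K'] [Module B K'] [Module.Finite B K'] [Module.Flat B K'] (φ : K →ₗ[B] K') [IsReduced B] (hconst : ∃ c : ℕ, ∀ y : PrimeSpectrum B, Module.finrank y.asIdeal.ResidueField ↥(LinearMap.range (φ.baseChange y.asIdeal.ResidueField)) = c) : Module.Projective B (K' ⧸ LinearMap.range φ) ∧ Module.Projective B ↥(LinearMap.range φ) := by
  obtain ⟨c, hc⟩ := hconst
  have hfp : Module.FinitePresentation B K' := Module.finitePresentation_of_finite B K'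
  have hK'proj : Module.Projective B K' := Module.Flat.projective_of_finitePresentation
  have hlcK' := Module.isLocallyConstant_rankAtStalk (R := B) (M := K')
  have heq : (fun p : PrimeSpectrum B => Module.finrank p.asIdeal.ResidueField
      (fib p (K' ⧸ LinearMap.range φ))) = fun p => Module.rankAtStalk (R := B) K' p - c := by
    funext p
    have h1 := fib_coker φ p
    rw [hc p] at h1
    have h2 : Module.rankAtStalk K' p = Module.finrank p.asIdeal.ResidueField
        (p.asIdeal.ResidueField ⊗[B] K') := Module.rankAtStalk_eq p
    rw [h2, h1]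
    simp
  have hlc : IsLocallyConstant (fun p : PrimeSpectrum B => Module.finrank p.asIdeal.ResidueField
      (fib p (K' ⧸ LinearMap.range φ))) := by
    rw [heq]
    exact hlcK'.comp (fun n => n - c)
  have hCproj : Module.Projective B (K' ⧸ LinearMap.range φ) :=
    projective_of_isLocallyConstant hlc
  refine ⟨hCproj, ?_⟩
  -- split the quotient map
  obtain ⟨s, hs⟩ := Module.projective_lifting_property (Submodule.mkQ (LinearMap.range φ))
    LinearMap.id (Submodule.mkQ_surjective _)
  -- retraction K' → range φ : m ↦ m - s (mk m)
  have hmem : ∀ m : K', m - s (Submodule.mkQ (LinearMap.range φ) m) ∈ LinearMap.range φ := by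
    intro m
    rw [← Submodule.Quotient.mk_eq_zero, Submodule.Quotient.mk_sub]
    have := LinearMap.congr_fun hs (Submodule.mkQ (LinearMap.range φ) m)
    simp only [LinearMap.comp_apply, LinearMap.id_apply] at this
    rw [← Submodule.mkQ_apply, ← Submodule.mkQ_apply, this, sub_self]
  let ρ : K' →ₗ[B] ↥(LinearMap.range φ) :=
    (LinearMap.id - s.comp (Submodule.mkQ (LinearMap.range φ))).codRestrict _ (by
      intro m
      simpa using hmem m)
  refine Module.Projective.of_split (LinearMap.range φ).subtype ρ ?_
  ext ⟨m, hm⟩
  simp only [ρ, LinearMap.comp_apply, Submodule.subtype_apply, LinearMap.id_apply,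
    LinearMap.codRestrict_apply, LinearMap.sub_apply, Submodule.mkQ_apply]
  rw [(Submodule.Quotient.mk_eq_zero _).mpr hm, map_zero, sub_zero]

end Groth.Agent.S14338
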