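import Groth.Statements.S1434
-- no extra imports

set_option autoImplicit false
universe u
open FlatMor

namespace Groth.Agent.S1434

open AlgebraicGeometry CategoryTheory Limits in
lemma eq_zero_of_affine_res {X : Scheme.{u}} (W : X.Opens) (s : Γ(X, W))
    (h : ∀ (V : X.affineOpens) (hV : V.1 ≤ W), X.presheaf.map (homOfLE hV).op s = 0) : s = 0 := by
  apply TopCat.Presheaf.section_ext X.sheaf W s 0
  intro x hx
  change X.presheaf.germ W x hx s = X.presheaf.germ W x hx 0
  rw [map_zero]
  obtain ⟨_, ⟨V, hV, rfl⟩, hxV, hVW⟩ := X.isBasis_affineOpens.exists_subset_of_mem_open hx W.2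
  have := h ⟨V, hV⟩ hVW
  rw [← X.presheaf.germ_res_apply (homOfLE hVW) x hxV s, this, map_zero]

open AlgebraicGeometry CategoryTheory Limits in
lemma mul_eq_zero_of_mem_ker {T T' : Scheme.{u}} (t : T ⟶ T') [QuasiCompact t] (ht : t.ker * t.ker = ⊥)
    (W : T'.Opens) (s₁ s₂ : Γ(T', W)) (h₁ : t.app W s₁ = 0) (h₂ : t.app W s₂ = 0) : s₁ * s₂ = 0 := by
  apply eq_zero_of_affine_res
  intro V hV
  have key : ∀ s : Γ(T', W), t.app W s = 0 → T'.presheaf.map (homOfLE hV).op s ∈ t.ker.ideal V := by
    intro s hs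
    rw [Scheme.Hom.ker_apply, RingHom.mem_ker]
    have := t.naturality (homOfLE hV).op
    have h2 := congr($(this).hom s)
    simp only [CommRingCat.hom_comp, RingHom.comp_apply] at h2
    rw [h2, hs, map_zero]
  have hmem : T'.presheaf.map (homOfLE hV).op s₁ * T'.presheaf.map (homOfLE hV).op s₂ ∈ (t.ker * t.ker).ideal V := by
    rw [Scheme.IdealSheafData.ideal_mul]
    exact Ideal.mul_mem_mul (key s₁ h₁) (key s₂ h₂)
  rw [ht] at hmem
  rw [map_mul]
  simpa using hmem

open AlgebraicGeometry CategoryTheory Limits in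
/-- Part (1), for a closed subscheme: let Z ⊂ X be the closed subscheme cut out by an ideal sheaf I and
Z' the one cut out by I², its first order infinitesimal neighbourhood. Given a first order
thickening T → T', a morphism a : T → Z and a morphism b : T' → X compatible with them, there is a
unique morphism T' → Z' through which b factors (compatibility with a is then automatic). -/
theorem result {X T T' : Scheme.{u}} (I : X.IdealSheafData) (t : T ⟶ T') (ht : MoreMor.IsFirstOrderThickening t)
    (a : T ⟶ I.subscheme) (b : T' ⟶ X) (w : a ≫ I.subschemeι = t ≫ b) :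
    ∃! a' : T' ⟶ (I ^ 2).subscheme, a' ≫ (I ^ 2).subschemeι = b := by
  obtain ⟨⟨hci, hsurj⟩, hsq⟩ := ht
  have : IsClosedImmersion t := hci
  have hle : ((I ^ 2).subschemeι).ker ≤ b.ker := by
    rw [Scheme.IdealSheafData.ker_subschemeι]
    refine Scheme.IdealSheafData.le_ofIdeals_iff.mpr ?_
    intro U
    rw [Scheme.IdealSheafData.ideal_pow, Pi.pow_apply, pow_two, Ideal.mul_le]
    have hI : ∀ s ∈ I.ideal U, t.app (b ⁻¹ᵁ U.1) (b.app U.1 s) = 0 := by
      intro s hs
      have h1 : I ≤ (t ≫ b).ker := by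
        rw [← w]
        conv_lhs => rw [← I.ker_subschemeι]
        exact Scheme.Hom.le_ker_comp _ _
      have h2 := (t ≫ b).ideal_ker_le U (h1 U hs)
      rw [RingHom.mem_ker] at h2
      rw [Scheme.Hom.comp_app] at h2
      exact h2
    intro r hr s hs
    rw [RingHom.mem_ker, map_mul]
    exact mul_eq_zero_of_mem_ker t hsq _ _ _ (hI r hr) (hI s hs)
  refine ⟨IsClosedImmersion.lift (I ^ 2).subschemeι b hle, IsClosedImmersion.lift_fac _ _ _, ?_⟩
  intro y hy
  rw [← cancel_mono (I ^ 2).subschemeι, hy, IsClosedImmersion.lift_fac]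

end Groth.Agent.S1434
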