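import Groth.Statements.S14342
import Groth.Agent.Lib.Helper4CIPull
import Groth.Agent.Lib.Helper4CIChart
import Groth.Agent.Lib.Helper4CIAlgB

set_option autoImplicit false
universe u
open CategoryTheory CategoryTheory.Limits AlgebraicGeometry
open Coherent

namespace Groth.Agent.S14342

/-- Let k be a field, r + 1 ≤ n, and G_0, …, G_r homogeneous forms of positive degrees a_0, …, a_r in
the homogeneous coordinates of P = P^n_k whose common zero scheme X = V(G_0, …, G_r) has dimension n
− (r + 1), a global complete intersection; let Y = V(G_0, …, G_{r−1}) with its closed immersion ι_Y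
: Y → P. Then the ideal sheaf of X inside Y (the ideal of the inverse image of the hypersurface
V(G_r) under ι_Y, as an O_Y-module) is isomorphic to ι_Y^*O(−a_r). (The published statement
identifies the two modules through a named map, induced by multiplication by G_r; this row asserts
only that an isomorphism of O_Y-modules exists.) -/
theorem result (k : Type u) [Field k] (n r : ℕ) (hr : r + 1 ≤ n) (a : Fin (r + 1) → ℕ) (ha : ∀ j, 1 ≤ a j) (G : ∀ j : Fin (r + 1), LefPen.Form n k (a j)) (hdim : topologicalKrullDim ↥(LefPen.ciIdeal G).subscheme = ((n - (r + 1) : ℕ) : WithBot ℕ∞)) : Nonempty (ClSub.idealMod ((LefPen.hypIdeal (G (Fin.last r))).comap (LefPen.ciIdeal (fun j : Fin r => G j.castSucc)).subschemeι) ≅ (Scheme.Modules.pullback (LefPen.ciIdeal (fun j : Fin r => G j.castSucc)).subschemeι).obj (Twist.twistProjSpace n k (-(a (Fin.last r) : ℤ)))) := by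
  open Groth.Agent.Lib.Helper4.HypIdeal Groth.Agent.Lib.Helper4.CIChart
    Groth.Agent.Lib.Helper4.CIAlg Groth.Agent.Lib.Helper4.CIPull in
  rw [Groth.Agent.Lib.Helper27TwistEq.twistProjSpace_apply]
  have hrange : ∀ {B : Type u} (F : Fin (r + 1) → B),
      Set.range F = Set.range (fun j : Fin r => F j.castSucc) ∪ {F (Fin.last r)} := by
    intro B F
    ext x
    constructor
    · rintro ⟨j, rfl⟩
      refine Fin.lastCases ?_ (fun j' => ?_) j
      · exact Or.inr rfl
      · exact Or.inl ⟨j', rfl⟩
    · rintro (⟨j, rfl⟩ | h)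
      · exact ⟨j.castSucc, rfl⟩
      · exact ⟨Fin.last r, h.symm⟩
  have hreg : ∀ (i : Fin (n + 1)) (a' : Γ(CohB1.ProjSpace n k, LefPen.chart n k i)),
      a' * LefPen.dehom (G (Fin.last r)) i ∈
        (LefPen.ciIdeal (fun j : Fin r => G j.castSucc)).ideal
          ⟨LefPen.chart n k i, isAffineOpen_chart i⟩ →
      a' ∈ (LefPen.ciIdeal (fun j : Fin r => G j.castSucc)).ideal
          ⟨LefPen.chart n k i, isAffineOpen_chart i⟩ := by
    intro i a' ha'
    rw [ciIdeal_ideal_chart] at ha' ⊢
    refine mem_of_mul_mem_of_ringEquiv k n (chartEquiv n k i) r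
      (fun j : Fin r => LefPen.dehom (G j.castSucc) i) (LefPen.dehom (G (Fin.last r)) i) hr ?_
      a' ha'
    have h1 := ringKrullDim_quotient_le (LefPen.ciIdeal G) ⟨LefPen.chart n k i, isAffineOpen_chart i⟩
    rw [hdim, ciIdeal_ideal_chart, hrange (fun j => LefPen.dehom (G j) i), Ideal.span_union] at h1
    exact h1
  obtain ⟨e⟩ := nonempty_pullback_iso_idealMod_comap (n := n) (k := k)
    (LefPen.ciIdeal (fun j : Fin r => G j.castSucc) :
      (Proj (CohB1.polyGrading n k)).IdealSheafData)
    (LefPen.hypIdeal (G (Fin.last r)) : (Proj (CohB1.polyGrading n k)).IdealSheafData)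
    (G (Fin.last r)).1 (G (Fin.last r)).2 (fun i => hypIdeal_ideal_chart (G (Fin.last r)) i) hreg
  exact ⟨e.symm⟩

end Groth.Agent.S14342
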