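import Groth.Statements.S14350
import Mathlib
import Groth.Agent.Lib.Helper16RpushNat
-- import your own Groth.Agent.* helpers here

set_option autoImplicit false
set_option linter.style.haveILetI false
set_option linter.unusedSectionVars false
universe u
open CategoryTheory
open CohTop

namespace Groth.Agent.S14350

section
open CategoryTheory.Limits Opposite Abelian
open Groth.Agent.Lib.Helper16.DimShift Groth.Agent.Lib.Helper16.RpushSh Groth.Agent.Lib.Helper16.RpushNat

variable {C : Type u} [SmallCategory C] (J : GrothendieckTopology C)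

section Succ

variable (G : Sheaf J AddCommGrpCat.{u}) (n : ℕ)

/-- the short complex of presheaves `I^n → Z^{n+1} → H^{n+1}(-, G)`. -/
noncomputable def pSC : ShortComplex (Cᵒᵖ ⥤ AddCommGrpCat.{u}) :=
  ShortComplex.mk (gn J G n).hom (τ J (clsG J G n)) (gn_τ J G n)

lemma pSC_exact : (pSC J G n).Exact := by
  apply exact_of_pointwise
  intro V x hx
  exact (τapp_cls_eq_zero_iff J (Dt J G) (hDt J G) n V.unop x).1 hx

instance pSC_epi_g : Epi (pSC J G n).g := by
  haveI : ∀ V : Cᵒᵖ, Epi ((pSC J G n).g.app V) := fun V =>
    (AddCommGrpCat.epi_iff_surjective _).2 (τapp_cls_surjective J (Dt J G) (hDt J G) n V.unop)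
  exact NatTrans.epi_of_epi_app _

/-- `τ` is a cokernel of `I^n → Z^{n+1}` in presheaves. -/
noncomputable def τIsColimit :
    IsColimit (CokernelCofork.ofπ (τ J (clsG J G n)) (gn_τ J G n)) :=
  (pSC_exact J G n).gIsCokernel

/-- the isomorphism in positive degrees -/
noncomputable def isoSucc :
    ((sheafToPresheaf J AddCommGrpCat.{u}).rightDerived (n + 1)).obj G ≅ G.cohomologyPresheaf (n + 1) :=
  IsColimit.coconePointUniqueUpToIso
    (πRIsColimit (sheafToPresheaf J AddCommGrpCat.{u}) (injectiveResolution G) n)
    (τIsColimit J G n)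

end Succ

/-- the isomorphism in degree zero -/
noncomputable def isoZero (G : Sheaf J AddCommGrpCat.{u}) :
    ((sheafToPresheaf J AddCommGrpCat.{u}).rightDerived 0).obj G ≅ G.cohomologyPresheaf 0 := by
  haveI : IsIso (τ J (Ext.mk₀ (𝟙 G))) := by
    rw [NatTrans.isIso_iff_isIso_app]
    intro W
    exact (ConcreteCategory.isIso_iff_bijective _).2 (τapp_zero_bijective J G W.unop)
  exact ((sheafToPresheaf J AddCommGrpCat.{u}).rightDerivedZeroIsoSelf.app G) ≪≫ asIso (τ J (Ext.mk₀ (𝟙 G)))

theorem result' (G : Sheaf J AddCommGrpCat.{u}) (p : ℕ) :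
    Nonempty (((sheafToPresheaf J AddCommGrpCat.{u}).rightDerived p).obj G ≅ G.cohomologyPresheaf p) := by
  cases p with
  | zero => exact ⟨isoZero J G⟩
  | succ n => exact ⟨isoSucc J G n⟩

end


open TopologicalSpace in
/-- For a sheaf of abelian groups F on a topological space X and p ≥ 0, the value at F of the p-th right
derived functor of the (left exact) forgetful functor from abelian sheaves to abelian presheaves on
X is isomorphic, as a presheaf, to the cohomology presheaf U ↦ H^p(U, F). Existence of an
isomorphism of presheaves only. (The published statement is for O_X-modules and presheaves of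
O_X-modules on a scheme X; this row is the case of sheaves of abelian groups on a topological
space.) -/
theorem result {X : TopCat.{u}}
    (F : CohTop.Ab X) (p : ℕ) :
    Nonempty (((sheafToPresheaf (Opens.grothendieckTopology X) AddCommGrpCat.{u}).rightDerived p).obj F ≅
      Sheaf.cohomologyPresheaf.{u} F p) := by
  exact result' (Opens.grothendieckTopology X) F p

end Groth.Agent.S14350
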