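import Groth.Statements.S14351
import Groth.Agent.Lib.Helper12Flat
import Mathlib.RingTheory.Flat.FaithfullyFlat.Algebra

set_option autoImplicit false
universe u
open CAlg

namespace Groth.Agent.S14351

/-- For ring maps A → B → C with C faithfully flat over B and C faithfully flat over A, the ring B is
faithfully flat over A. -/
theorem result (A B C : Type u) [CommRing A] [CommRing B]
    [CommRing C] [Algebra A B] [Algebra B C] [Algebra A C] [IsScalarTower A B C]
    [Module.FaithfullyFlat B C] [Module.FaithfullyFlat A C] : Module.FaithfullyFlat A B := by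
  have : Module.Flat A B := Groth.Agent.Lib.Helper12.flat_of_faithfullyFlat_of_flat_comp A B C
  apply Module.FaithfullyFlat.of_comap_surjective
  intro q
  obtain ⟨r, hr⟩ := PrimeSpectrum.comap_surjective_of_faithfullyFlat (A := A) (B := C) q
  refine ⟨PrimeSpectrum.comap (algebraMap B C) r, ?_⟩
  rw [← hr]
  ext x
  simp only [PrimeSpectrum.comap_asIdeal, Ideal.mem_comap]
  rw [IsScalarTower.algebraMap_apply A B C]

end Groth.Agent.S14351
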