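import Groth.Statements.S14352
import Mathlib

set_option autoImplicit false
universe u
open Mor

namespace Groth.Agent.S14352
open TensorProduct
open CategoryTheory CategoryTheory.Limits AlgebraicGeometry

attribute [local instance] Algebra.TensorProduct.rightAlgebra

theorem formallyUnramified_of_geometric {A B : Type u} [CommRing A] [CommRing B] [Algebra A B]
    [Algebra.FiniteType A B]
    (H : ∀ (K : Type u) [Field K] [IsAlgClosed K] [Algebra A K],
      Algebra.FormallyUnramified K (K ⊗[A] B)) :
    Algebra.FormallyUnramified A B := by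
  rw [Algebra.formallyUnramified_iff]
  by_contra hne
  rw [not_subsingleton_iff_nontrivial] at hne
  obtain ⟨q, hq⟩ := Module.nonempty_support_of_nontrivial (R := B) (M := Ω[B⁄A])
  rw [Module.mem_support_iff_nontrivial_residueField_tensorProduct] at hq
  let k := q.asIdeal.ResidueField
  let K := AlgebraicClosure k
  have hK := H K
  rw [Algebra.formallyUnramified_iff] at hK
  have e := KaehlerDifferential.tensorKaehlerEquivBase A K B (K ⊗[A] B)
  have h1 : Subsingleton (K ⊗[A] Ω[B⁄A]) := e.toEquiv.subsingleton
  have h2 : Subsingleton (K ⊗[B] Ω[B⁄A]) :=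
    (TensorProduct.mapOfCompatibleSMul_surjective B A A K Ω[B⁄A]).subsingleton
  have e2 := AlgebraTensorModule.cancelBaseChange B k K K Ω[B⁄A]
  have h3 : Subsingleton (K ⊗[k] (k ⊗[B] Ω[B⁄A])) := e2.toEquiv.subsingleton
  rw [Module.FaithfullyFlat.subsingleton_tensorProduct_iff_right] at h3
  exact not_subsingleton _ h3

theorem formallyUnramified_of_reduced_discrete (K C : Type u) [Field K] [IsAlgClosed K]
    [CommRing C] [Algebra K C] [Algebra.FiniteType K C] [IsReduced C]
    [DiscreteTopology (PrimeSpectrum C)] : Algebra.FormallyUnramified K C := by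
  have hN : IsNoetherianRing C := Algebra.FiniteType.isNoetherianRing K C
  obtain ⟨_, hdim⟩ := PrimeSpectrum.discreteTopology_iff_finite_and_krullDimLE_zero.mp
    (inferInstance : DiscreteTopology (PrimeSpectrum C))
  have hA : IsArtinianRing C := isArtinianRing_iff_isNoetherianRing_krullDimLE_zero.mpr ⟨hN, hdim⟩
  have : Algebra.FormallyUnramified K (Π (m : MaximalSpectrum C), (C ⧸ m.asIdeal)) := by
    rw [Algebra.FormallyUnramified.pi_iff]
    intro m
    let _ := Ideal.Quotient.field m.asIdeal
    have : Algebra.FiniteType K (C ⧸ m.asIdeal) := inferInstance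
    have hfin : Module.Finite K (C ⧸ m.asIdeal) := finite_of_finite_type_of_isJacobsonRing K _
    have hbij : Function.Bijective (algebraMap K (C ⧸ m.asIdeal)) :=
      IsAlgClosed.algebraMap_bijective_of_isIntegral
    exact Algebra.FormallyUnramified.of_surjective (Algebra.ofId K (C ⧸ m.asIdeal)) hbij.2
  exact .of_equiv ((IsArtinianRing.equivPi C).restrictScalars K).symm

theorem reduced_discrete_of_unramified (K C : Type u) [Field K]
    [CommRing C] [Algebra K C] [Algebra.FiniteType K C] [Algebra.FormallyUnramified K C] :
    IsReduced C ∧ DiscreteTopology (PrimeSpectrum C) := by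
  have := Algebra.FormallyUnramified.finite_of_free K C
  have : IsArtinianRing C := .of_finite K C
  exact ⟨Algebra.FormallyUnramified.isReduced_of_field K C, inferInstance⟩

theorem scheme_reduced_discrete (K : Type u) [Field K] {Y : Scheme.{u}}
    (g : Y ⟶ Spec (CommRingCat.of K)) [FormallyUnramified g] [LocallyOfFiniteType g] :
    IsReduced Y ∧ DiscreteTopology Y := by
  let 𝒰 := Y.affineOpenCover
  have key : ∀ i, _root_.IsReduced (𝒰.X i) ∧ DiscreteTopology (PrimeSpectrum (𝒰.X i)) := by
    intro i
    obtain ⟨φ, hφ⟩ := Spec.map_surjective (𝒰.f i ≫ g)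
    have h1 : FormallyUnramified (Spec.map φ) := by
      rw [hφ]; exact MorphismProperty.comp_mem _ _ _ inferInstance inferInstance
    have h2 : LocallyOfFiniteType (Spec.map φ) := by rw [hφ]; infer_instance
    rw [HasRingHomProperty.Spec_iff (P := @FormallyUnramified)] at h1
    rw [HasRingHomProperty.Spec_iff (P := @LocallyOfFiniteType)] at h2
    algebraize [φ.hom]
    exact reduced_discrete_of_unramified K (𝒰.X i)
  constructor
  · have : ∀ i, IsReduced (𝒰.openCover.X i) := fun i => by
      have := (key i).1
      change IsReduced (Spec (𝒰.X i))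
      infer_instance
    exact IsReduced.of_openCover _ 𝒰.openCover
  · rw [discreteTopology_iff_isOpen_singleton]
    intro y
    obtain ⟨x, hx⟩ := 𝒰.covers y
    have := (key (𝒰.idx y)).2
    have hop : IsOpen ({x} : Set (Spec (𝒰.X (𝒰.idx y)))) := isOpen_discrete (α := PrimeSpectrum (𝒰.X (𝒰.idx y))) _
    have := (𝒰.f (𝒰.idx y)).isOpenEmbedding.isOpenMap _ hop
    rwa [Set.image_singleton, hx] at this


open CategoryTheory CategoryTheory.Limits AlgebraicGeometry in
/-- A morphism of schemes f : X → S which is locally of finite presentation is unramified (formally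
unramified) if and only if all its geometric fibres are reduced with discrete underlying space: for
every algebraically closed field K and every S-point Spec K → S, the fibre product X ×_S Spec K is a
reduced scheme whose topological space is discrete. -/
theorem result {X S : Scheme.{u}} (f : X ⟶ S)
    [LocallyOfFinitePresentation f] :
    FormallyUnramified f ↔
      ∀ (K : Type u) [Field K] [IsAlgClosed K] (s : Spec (CommRingCat.of K) ⟶ S),
        IsReduced (pullback f s) ∧ DiscreteTopology ↥(pullback f s) := by
  constructor
  · intro hf K _ _ s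
    have hg : FormallyUnramified (pullback.snd f s) := MorphismProperty.pullback_snd _ _ hf
    have hg' : LocallyOfFiniteType (pullback.snd f s) :=
      MorphismProperty.pullback_snd _ _ inferInstance
    exact scheme_reduced_discrete K (pullback.snd f s)
  · intro H
    rw [HasRingHomProperty.iff_appLE (P := @FormallyUnramified)]
    intro U V e
    have hfp : (f.appLE U V e).hom.FinitePresentation :=
      HasRingHomProperty.appLE (P := @LocallyOfFinitePresentation) f inferInstance U V e
    algebraize [(f.appLE U V e).hom]
    have : Algebra.FiniteType Γ(S, U) Γ(X, V) := inferInstance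
    suffices hAB : Algebra.FormallyUnramified Γ(S, U) Γ(X, V) by
      rwa [← RingHom.formallyUnramified_algebraMap, RingHom.algebraMap_toAlgebra] at hAB
    apply formallyUnramified_of_geometric
    intro K _ _ _
    let s : Spec (CommRingCat.of K) ⟶ S :=
      Spec.map (CommRingCat.ofHom (algebraMap Γ(S, U) K)) ≫ U.2.fromSpec
    obtain ⟨hred, hdisc⟩ := H K s
    have e₂ : Spec.map (CommRingCat.ofHom (algebraMap Γ(S, U) Γ(X, V))) ≫ U.2.fromSpec =
        V.2.fromSpec ≫ f := by
      rw [RingHom.algebraMap_toAlgebra]
      exact IsAffineOpen.SpecMap_appLE_fromSpec f U.2 V.2 e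
    let j : Spec (CommRingCat.of (K ⊗[Γ(S, U)] Γ(X, V))) ⟶ pullback f s :=
      (pullbackSpecIso Γ(S, U) K Γ(X, V)).inv ≫
        pullback.map _ _ s f (𝟙 _) V.2.fromSpec U.2.fromSpec (by simp [s]) e₂ ≫
        (pullbackSymmetry s f).hom
    have hj : IsOpenImmersion j := inferInstance
    have h1 : IsReduced (Spec (CommRingCat.of (K ⊗[Γ(S, U)] Γ(X, V)))) :=
      isReduced_of_isOpenImmersion j
    have h2 : _root_.IsReduced (K ⊗[Γ(S, U)] Γ(X, V)) :=
      (affine_isReduced_iff (CommRingCat.of (K ⊗[Γ(S, U)] Γ(X, V)))).mp h1
    have h3 : DiscreteTopology (PrimeSpectrum (K ⊗[Γ(S, U)] Γ(X, V))) :=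
      j.isOpenEmbedding.isEmbedding.discreteTopology
    exact formallyUnramified_of_reduced_discrete K _

end Groth.Agent.S14352
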