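import Groth.Statements.S14354
import Mathlib
import Groth.Agent.Lib.Helper20StalkExact
import Groth.Agent.Lib.Helper23FinTypeLocal
import Groth.Agent.Lib.Helper23Serre
import Groth.Agent.Lib.Helper20SuppClosed
import Groth.Agent.Lib.Helper4DevD
import Groth.Agent.Lib.Helper23QCohAbelian

set_option autoImplicit false
universe u
open CategoryTheory CategoryTheory.Limits AlgebraicGeometry Opposite
open Coh

namespace Groth.Agent.S14354
open CategoryTheory CategoryTheory.Limits AlgebraicGeometry Opposite
open Coh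

variable {X : Scheme.{u}}

theorem isQuasicoherent_image {A C : X.Modules} [A.IsQuasicoherent] [C.IsQuasicoherent]
    (α : A ⟶ C) : (image α).IsQuasicoherent := by
  haveI : (cokernel α).IsQuasicoherent :=
    Groth.Agent.Lib.Helper23.QCohLocal.isQuasicoherent_cokernel α
  have hI : (Abelian.image α).IsQuasicoherent :=
    Groth.Agent.Lib.Helper23.QCohLocal.isQuasicoherent_kernel (cokernel.π α)
  exact (SheafOfModules.isQuasicoherent X.ringCatSheaf).prop_of_iso (Abelian.imageIsoImage α) hI

/-- (K) equal image subobjects have equal ranges on affine sections -/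
theorem range_subset_of_imageSubobject_eq {A B C : X.Modules} [A.IsQuasicoherent]
    [B.IsQuasicoherent] [C.IsQuasicoherent] (α : A ⟶ C) (β : B ⟶ C)
    (h : imageSubobject α = imageSubobject β) {U : X.Opens} (hU : IsAffineOpen U) :
    Set.range (α.app U) ⊆ Set.range (β.app U) := by
  rintro _ ⟨a, rfl⟩
  have h' : Subobject.mk (image.ι α) = Subobject.mk (image.ι β) := h
  let e := Subobject.isoOfMkEqMk (image.ι α) (image.ι β) h'
  have he : e.hom ≫ image.ι β = image.ι α := Subobject.ofMkLEMk_comp h'.le
  haveI := isQuasicoherent_image β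
  obtain ⟨b, hb⟩ := Groth.Agent.Lib.Helper23.FinType.surjective_app_of_epi (factorThruImage β) hU
    ((factorThruImage α ≫ e.hom).app U a)
  refine ⟨b, ?_⟩
  have h1 : β = factorThruImage β ≫ image.ι β := (image.fac β).symm
  have h2 : α = (factorThruImage α ≫ e.hom) ≫ image.ι β := by
    rw [Category.assoc, he, image.fac]
  calc β.app U b = (image.ι β).app U ((factorThruImage β).app U b) := by
        conv_lhs => rw [h1]
        rfl
    _ = (image.ι β).app U ((factorThruImage α ≫ e.hom).app U a) := by rw [hb]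
    _ = α.app U a := by
        conv_rhs => rw [h2]
        rfl

section tower
variable (G : ℕᵒᵖ ⥤ X.Modules) (V : X.Opens)

/-- transition maps on sections -/
noncomputable def tr {n m : ℕ} (h : n ≤ m) : Γ(G.obj (op m), V) → Γ(G.obj (op n), V) :=
  fun z => (G.map (homOfLE h).op).app V z

theorem tr_tr {n m k : ℕ} (h : n ≤ m) (h' : m ≤ k) (z : Γ(G.obj (op k), V)) :
    tr G V h (tr G V h' z) = tr G V (h.trans h') z := by
  unfold tr
  have : G.map (homOfLE (h.trans h')).op = G.map (homOfLE h').op ≫ G.map (homOfLE h).op := by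
    rw [← G.map_comp]
    rfl
  rw [this]
  rfl

theorem tr_self (n : ℕ) (z : Γ(G.obj (op n), V)) : tr G V (le_refl n) z = z := by
  unfold tr
  have : G.map (homOfLE (le_refl n)).op = 𝟙 _ := by
    rw [← G.map_id]
    rfl
  rw [this]
  rfl

/-- universally liftable sections -/
def JJ (n : ℕ) : Set Γ(G.obj (op n), V) := {y | ∀ m (h : n ≤ m), y ∈ Set.range (tr G V h)}

variable {G V}

theorem tr_mem_JJ {n m : ℕ} (h : n ≤ m) {y : Γ(G.obj (op m), V)} (hy : y ∈ JJ G V m) :
    tr G V h y ∈ JJ G V n := by
  intro k hk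
  obtain ⟨w, rfl⟩ := hy (max m k) (le_max_left _ _)
  refine ⟨tr G V (le_max_right m k) w, ?_⟩
  rw [tr_tr, tr_tr]

variable (hG : ∀ n : ℕ, (G.obj (op n)).IsQuasicoherent) (hV : IsAffineOpen V)
  (dd : ℕ → ℕ) (hdd : ∀ n, n ≤ dd n)
  (hstab : ∀ (n d' : ℕ) (hd' : dd n ≤ d'),
    imageSubobject (G.map (homOfLE ((hdd n).trans hd')).op) =
      imageSubobject (G.map (homOfLE (hdd n)).op))
include hG hV hstab

theorem tr_mem_JJ_of_le {n D : ℕ} (hD : dd n ≤ D) (w : Γ(G.obj (op D), V)) :
    tr G V ((hdd n).trans hD) w ∈ JJ G V n := by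
  intro m hm
  rcases le_total m D with h | h
  · exact ⟨tr G V h w, tr_tr G V hm h w⟩
  · haveI := hG n
    haveI := hG m
    haveI := hG (dd n)
    have hdm : dd n ≤ m := hD.trans h
    have hsub := range_subset_of_imageSubobject_eq (G.map (homOfLE (hdd n)).op)
      (G.map (homOfLE hm).op) (hstab n m hdm).symm hV
    have h1 : tr G V ((hdd n).trans hD) w = tr G V (hdd n) (tr G V hD w) := (tr_tr G V _ _ w).symm
    rw [h1]
    exact hsub ⟨tr G V hD w, rfl⟩

theorem exists_lift {n : ℕ} {y : Γ(G.obj (op n), V)} (hy : y ∈ JJ G V n) :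
    ∃ z ∈ JJ G V (n + 1), tr G V (Nat.le_succ n) z = y := by
  have hD : n ≤ dd (n + 1) := (Nat.le_succ n).trans (hdd (n + 1))
  obtain ⟨w, rfl⟩ := hy (dd (n + 1)) hD
  refine ⟨tr G V (hdd (n + 1)) w, ?_, tr_tr G V _ _ w⟩
  exact tr_mem_JJ_of_le hG hV dd hdd hstab (le_refl _) w

theorem exists_seq (e : ℕ) (y₀ : Γ(G.obj (op e), V)) (hy₀ : y₀ ∈ JJ G V e) :
    ∃ s : ∀ n, Γ(G.obj (op n), V),
      (∀ n, tr G V (Nat.le_succ n) (s (n + 1)) = s n) ∧ s e = y₀ := by
  classical
  let S : ∀ n, {z : Γ(G.obj (op n), V) // z ∈ JJ G V n} := fun n =>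
    Nat.rec (motive := fun n => {z : Γ(G.obj (op n), V) // z ∈ JJ G V n})
      ⟨tr G V (Nat.zero_le e) y₀, tr_mem_JJ _ hy₀⟩
      (fun n Sn => if h : n + 1 ≤ e then ⟨tr G V h y₀, tr_mem_JJ h hy₀⟩ else
        ⟨Classical.choose (exists_lift hG hV dd hdd hstab Sn.2),
          (Classical.choose_spec (exists_lift hG hV dd hdd hstab Sn.2)).1⟩) n
  have hSsucc : ∀ n, S (n + 1) = if h : n + 1 ≤ e then ⟨tr G V h y₀, tr_mem_JJ h hy₀⟩ else
      ⟨Classical.choose (exists_lift hG hV dd hdd hstab (S n).2),
        (Classical.choose_spec (exists_lift hG hV dd hdd hstab (S n).2)).1⟩ := fun n => rfl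
  have hle : ∀ n (h : n ≤ e), (S n).1 = tr G V h y₀ := by
    intro n h
    cases n with
    | zero => rfl
    | succ n => rw [hSsucc, dif_pos h]
  refine ⟨fun n => (S n).1, fun n => ?_, ?_⟩
  · by_cases h : n + 1 ≤ e
    · show tr G V (Nat.le_succ n) (S (n + 1)).1 = (S n).1
      rw [hle (n + 1) h, hle n (Nat.le_of_succ_le h), tr_tr]
    · have h1 : (S (n + 1)).1 = Classical.choose (exists_lift hG hV dd hdd hstab (S n).2) := by
        rw [hSsucc, dif_neg h]
      show tr G V (Nat.le_succ n) (S (n + 1)).1 = (S n).1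
      rw [h1]
      exact (Classical.choose_spec (exists_lift hG hV dd hdd hstab (S n).2)).2
  · show (S e).1 = y₀
    rw [hle e le_rfl, tr_self]

end tower

open Groth.Agent.Lib.Helper20.StalkExact in
theorem exists_limit_section (G : ℕᵒᵖ ⥤ X.Modules) (V : X.Opens) (s : ∀ n, Γ(G.obj (op n), V))
    (hs : ∀ n, tr G V (Nat.le_succ n) (s (n + 1)) = s n) :
    ∃ σ : Γ(limit G, V), ∀ n, (limit.π G (op n)).app V σ = s n := by
  have hs' : ∀ n m (h : n ≤ m), tr G V h (s m) = s n := by
    intro n m h
    induction m, h using Nat.le_induction with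
    | base => exact tr_self G V n _
    | succ m hm ih =>
      rw [← ih, ← hs m, tr_tr]
  let ev : X.Modules ⥤ Type u := secF V ⋙ forget Ab
  haveI : PreservesLimits (forget Ab.{u}) := inferInstance
  haveI : PreservesLimits ev := comp_preservesLimits _ _
  haveI : PreservesLimitsOfSize.{0, 0} ev := preservesLimitsOfSize_shrink.{0, u, 0, u} ev
  have hlim : IsLimit (ev.mapCone (limit.cone G)) := isLimitOfPreserves ev (limit.isLimit G)
  let sec : (G ⋙ ev).sections := ⟨fun j => s j.unop, by
    intro j j' f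
    have h : j'.unop ≤ j.unop := leOfHom f.unop
    have hf : f = (homOfLE h).op := Subsingleton.elim _ _
    subst hf
    exact hs' j'.unop j.unop h⟩
  refine ⟨(Types.isLimitEquivSections hlim).symm sec, fun n => ?_⟩
  exact Types.isLimitEquivSections_symm_apply hlim sec (op n)

open Groth.Agent.Lib.Helper4.Dev in

/-- Let X be a locally Noetherian scheme and (G_e)_{e ∈ ℕ} an inverse system of coherent O_X-modules
satisfying the Mittag-Leffler condition, in the sense that for every e the image subobject of G_d ⟶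
G_e is the same for all sufficiently large d. Then for every e the support of the image of the
canonical map lim_d G_d ⟶ G_e is closed in X. (The published statement is the case where G_e is the
i-th cohomology sheaf of the Fourier–Mukai transform of the e-th member of a Mittag-Leffler inverse
system of coherent modules on an abelian variety; the argument uses only the coherence of the G_e
and their Mittag-Leffler condition, which is the form stated here.) -/
theorem result (X : Scheme.{u}) [IsLocallyNoetherian X]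
    (G : ℕᵒᵖ ⥤ X.Modules) (hG : ∀ n : ℕᵒᵖ, Coh.IsCoh (G.obj n))
    (hML : ∀ e : ℕ, ∃ (d : ℕ) (hd : e ≤ d), ∀ (d' : ℕ) (hd' : d ≤ d'),
      imageSubobject (G.map (homOfLE (hd.trans hd')).op) = imageSubobject (G.map (homOfLE hd).op))
    (e : ℕ) : IsClosed (CohB1.support (image (limit.π G (op e)))) := by
  choose dd hdd hstab using hML
  have hGq : ∀ n : ℕ, (G.obj (op n)).IsQuasicoherent := fun n => (hG (op n)).1
  set φ := G.map (homOfLE (hdd e)).op with hφ
  have hK : Coh.IsCoh (image φ) :=
    isCoh_of_iso (Abelian.imageIsoImage φ) (isCoh_image φ (hG _) (hG _))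
  have hepi : Epi (limit.π G (op (dd e)) ≫ factorThruImage φ) := by
    apply Groth.Agent.Lib.Helper23.Serre.epi_of_locally_surjective
    intro W t x hx
    obtain ⟨V, hV, hxV, hVW⟩ :=
      (TopologicalSpace.Opens.isBasis_iff_nbhd.mp X.isBasis_affineOpens) hx
    have hV : IsAffineOpen V := hV
    refine ⟨V, hVW, hxV, ?_⟩
    haveI := hGq (dd e)
    haveI := hGq e
    haveI := isQuasicoherent_image φ
    obtain ⟨u, hu⟩ := Groth.Agent.Lib.Helper23.FinType.surjective_app_of_epi (factorThruImage φ) hV
      ((image φ).presheaf.map (homOfLE hVW).op t)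
    have hy₀ := tr_mem_JJ_of_le hGq hV dd hdd hstab (le_refl (dd e)) u
    obtain ⟨s, hs, hse⟩ := exists_seq hGq hV dd hdd hstab e _ hy₀
    obtain ⟨σ, hσ⟩ := exists_limit_section G V s hs
    have hs' : tr G V (hdd e) (s (dd e)) = s e := by
      have : ∀ m (h : e ≤ m), tr G V h (s m) = s e := by
        intro m h
        induction m, h using Nat.le_induction with
        | base => exact tr_self G V e _
        | succ m hm ih => rw [← ih, ← hs m, tr_tr]
      exact this _ _
    refine ⟨σ, ?_⟩
    apply Groth.Agent.Lib.Helper20.StalkExact.injective_app_of_mono (image.ι φ) V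
    have h1 : ∀ z : Γ(G.obj (op (dd e)), V),
        (image.ι φ).app V ((factorThruImage φ).app V z) = tr G V (hdd e) z := by
      intro z
      have : φ = factorThruImage φ ≫ image.ι φ := (image.fac φ).symm
      unfold tr
      conv_rhs => rw [← hφ, this]
      rfl
    have h2 : (limit.π G (op (dd e)) ≫ factorThruImage φ).app V σ =
        (factorThruImage φ).app V ((limit.π G (op (dd e))).app V σ) := rfl
    rw [h2, hσ, h1, hs', hse, ← hu, h1]
  have hiso : image (limit.π G (op e)) ≅ image φ := by
    have hfac : (limit.π G (op (dd e)) ≫ factorThruImage φ) ≫ image.ι φ = limit.π G (op e) := by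
      rw [Category.assoc, image.fac]
      exact limit.w G (homOfLE (hdd e)).op
    haveI : StrongEpi (limit.π G (op (dd e)) ≫ factorThruImage φ) := strongEpi_of_epi _
    exact (image.isoStrongEpiMono _ _ hfac).symm
  have hsupp : CohB1.support (image (limit.π G (op e))) = CohB1.support (image φ) :=
    Set.Subset.antisymm (support_subset_of_mono hiso.hom) (support_subset_of_epi hiso.hom)
  rw [hsupp, ← isOpen_compl_iff, isOpen_iff_forall_mem_open]
  intro x hx
  haveI := hK.2
  obtain ⟨V, hxV, hV⟩ := Groth.Agent.Lib.Helper20.SuppClosed.exists_opens_subsingleton_stalk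
    (image φ) x (not_not.1 hx)
  exact ⟨V, fun y hy => not_not.2 (hV y hy), V.2, hxV⟩

end Groth.Agent.S14354
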