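import Groth.Statements.S14355
import Mathlib
import Groth.Agent.S8355
import Groth.Agent.S8347

set_option autoImplicit false
universe v u
open CategoryTheory CategoryTheory.Limits
open SpSeqMor

namespace Groth.Agent.S14355


theorem homologyMap_eq_zero_of_f_eq_zero {ι : Type*} {c : ComplexShape ι} {C : Type u}
    [Category.{v} C] [Abelian C] {K L : HomologicalComplex C c} (φ : K ⟶ L) (i : ι)
    (h : φ.f i = 0) : HomologicalComplex.homologyMap φ i = 0 := by
  have h1 : HomologicalComplex.cyclesMap φ i = 0 := by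
    rw [← cancel_mono (L.iCycles i), HomologicalComplex.cyclesMap_i, h, comp_zero, zero_comp]
  rw [← cancel_epi (K.homologyπ i), HomologicalComplex.homologyπ_naturality, h1, zero_comp,
    comp_zero]

theorem hom_f_eq_zero {C : Type u} [Category.{v} C] [Abelian C] {r₀ : ℤ}
    {E E' : CohomologicalSpectralSequence C r₀} (φ : E ⟶ E') (pq : ℤ × ℤ) (r : ℤ) (hr : r₀ ≤ r)
    (h : (φ.hom r hr).f pq = 0) (k : ℤ) (hk : r ≤ k) : (φ.hom k (hr.trans hk)).f pq = 0 := by
  induction k, hk using Int.leInduction with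
  | base => exact h
  | succ k hk ih =>
    have hc := φ.comm k (k + 1) pq rfl (hr.trans hk)
    rw [homologyMap_eq_zero_of_f_eq_zero _ _ ih, zero_comp] at hc
    have : (E.iso k (k + 1) pq rfl (hr.trans hk)).inv ≫ (E.iso k (k + 1) pq rfl (hr.trans hk)).hom ≫
        (φ.hom (k + 1) ((hr.trans hk).trans (Int.le_add_one le_rfl))).f pq = 0 := by
      rw [← hc, comp_zero]
    rwa [Iso.inv_hom_id_assoc] at this

theorem hom_eq_zero_of_gr {C : Type u} [Category.{v} C] [Abelian C] {K L : SpSeq.FilObj C}
    (f : SpSeqMor.FilLift K L) (p : ℤ) (hK : K.fil p = ⊤) (hL : L.fil (p + 1) = ⊥)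
    (hgr : f.gr p = 0) : f.hom = 0 := by
  have h1 : f.lift p ≫ cokernel.π (L.stepLE (Int.le_add_one (le_refl p))) = 0 := by
    have : cokernel.π (K.stepLE (Int.le_add_one (le_refl p))) ≫ f.gr p =
        f.lift p ≫ cokernel.π (L.stepLE (Int.le_add_one (le_refl p))) := by
      unfold SpSeqMor.FilLift.gr
      exact cokernel.π_desc _ _ _
    rw [← this, hgr]
    exact comp_zero
  have hker : IsLimit (KernelFork.ofι (L.stepLE (Int.le_add_one (le_refl p)))
      (cokernel.condition _)) :=
    Abelian.monoIsKernelOfCokernel _ (colimit.isColimit _)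
  have h2 : f.lift p = hker.lift (KernelFork.ofι (f.lift p) h1) ≫
      L.stepLE (Int.le_add_one (le_refl p)) :=
    (hker.fac (KernelFork.ofι (f.lift p) h1) WalkingParallelPair.zero).symm
  have h3 : (L.fil (p + 1)).arrow = 0 := by
    have : ∀ (Q : Subobject L.obj), Q = ⊥ → Q.arrow = 0 := by
      rintro _ rfl
      exact Subobject.bot_arrow
    exact this _ hL
  have h4 : (K.fil p).arrow ≫ f.hom = 0 := by
    rw [← f.lift_arrow, h2, Category.assoc]
    unfold SpSeq.FilObj.stepLE
    rw [Subobject.ofLE_arrow, h3, comp_zero]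
  haveI : IsIso (K.fil p).arrow := by rw [hK]; infer_instance
  rwa [← cancel_epi (K.fil p).arrow, comp_zero]


/-- Let φ : E ⟶ E' be a morphism of E_2-cohomological spectral sequences in an abelian category, with
abutments H and H' whose filtrations are finite in each degree, and f a morphism of abutment data
over φ. Fix integers l and a₀. If E_2^{i, l-i} = 0 for i < a₀, E'_2^{i, l-i} = 0 for i > a₀ and
φ_2^{a₀, l-a₀} = 0, then f^l : H^l ⟶ H'^l is zero. (The published statement prints the two vanishing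
hypotheses at positions (i, l); the argument works on the line of total degree l, at positions (i, l
- i), which is the form stated here.) -/
theorem result (C : Type u) [Category.{v} C] [Abelian C]
    (E E' : E₂CohomologicalSpectralSequence C) (φ : E ⟶ E') (H H' : ℤ → C)
    (a : SpSeq.Abutment E H) (a' : SpSeq.Abutment E' H')
    (ha : ∀ n : ℤ, a.IsFinite n) (ha' : ∀ n : ℤ, a'.IsFinite n)
    (f : SpSeqMor.AbutHom φ a a') (l a₀ : ℤ)
    (hE : ∀ i : ℤ, i < a₀ → IsZero ((E.page 2 le_rfl).X (i, l - i)))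
    (hE' : ∀ i : ℤ, a₀ < i → IsZero ((E'.page 2 le_rfl).X (i, l - i)))
    (hφ : (φ.hom 2 le_rfl).f (a₀, l - a₀) = 0) :
    f.hom l = 0 := by
  -- graded pieces vanish
  have hgrE : ∀ i : ℤ, i < a₀ → a.fil l i = a.fil l (i + 1) := by
    intro i hi
    have h2 := (Groth.Agent.S8355.result E 2 le_rfl (i, l - i) (hE i hi)).2 H a
    have e : i + (l - i) = l := by ring
    simp only at h2
    rw [e] at h2
    exact Groth.Agent.S8347.eq_of_isZero_subquot _ _ _ h2
  have hgrE' : ∀ i : ℤ, a₀ < i → a'.fil l i = a'.fil l (i + 1) := by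
    intro i hi
    have h2 := (Groth.Agent.S8355.result E' 2 le_rfl (i, l - i) (hE' i hi)).2 H' a'
    have e : i + (l - i) = l := by ring
    simp only at h2
    rw [e] at h2
    exact Groth.Agent.S8347.eq_of_isZero_subquot _ _ _ h2
  -- F^{a₀} H = ⊤
  have htop : (a.filObj l).fil a₀ = ⊤ := by
    obtain ⟨⟨aa, haa⟩, _⟩ := ha l
    change a.fil l aa = ⊤ at haa
    change a.fil l a₀ = ⊤
    by_cases hle : a₀ ≤ aa
    · exact top_le_iff.1 (haa ▸ a.anti l hle)
    · rw [not_le] at hle
      have key : ∀ k : ℤ, aa ≤ k → k ≤ a₀ → a.fil l k = ⊤ := by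
        intro k hk
        induction k, hk using Int.leInduction with
        | base => intro _; exact haa
        | succ k hk ih =>
          intro hk'
          rw [← hgrE k (by omega)]
          exact ih (by omega)
      exact key a₀ hle.le le_rfl
  -- F^{a₀+1} H' = ⊥
  have hbot : (a'.filObj l).fil (a₀ + 1) = ⊥ := by
    obtain ⟨_, ⟨bb, hbb⟩⟩ := ha' l
    change a'.fil l bb = ⊥ at hbb
    change a'.fil l (a₀ + 1) = ⊥
    by_cases hle : bb ≤ a₀ + 1
    · exact le_bot_iff.1 (hbb ▸ a'.anti l hle)
    · rw [not_le] at hle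
      have key : ∀ k : ℤ, a₀ + 1 ≤ k → a'.fil l k = a'.fil l (a₀ + 1) := by
        intro k hk
        induction k, hk using Int.leInduction with
        | base => rfl
        | succ k hk ih => rw [← hgrE' k (by omega), ih]
      rw [← key bb hle.le, hbb]
  -- the graded map vanishes
  have hgr : ∀ m : ℤ, m = l - a₀ → (f.fil (a₀ + m)).gr a₀ = 0 := by
    intro m hm
    set pq : ℤ × ℤ := (a₀, m) with hpq
    -- choose pages
    obtain ⟨k, k', hkk⟩ : ∃ k k' : ℕ, a.rk pq + k = a'.rk pq + k' := by
      refine ⟨(a'.rk pq - 2).toNat, (a.rk pq - 2).toNat, ?_⟩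
      have h1 := (a.stat pq).1
      have h2 := (a'.stat pq).1
      rw [Int.toNat_of_nonneg (by omega), Int.toNat_of_nonneg (by omega)]
      ring
    have hc := f.comm pq k k' hkk
    have hz : (φ.hom (a'.rk pq + k') (page_le (a'.stat pq).1 k')).f pq = 0 := by
      refine hom_f_eq_zero φ pq 2 le_rfl ?_ _ (page_le (a'.stat pq).1 k')
      rw [hpq, hm]
      exact hφ
    rw [hz] at hc
    simp only [zero_comp, comp_zero] at hc
    have : (a.β pq).inv ≫ (a.β pq).hom ≫ (f.fil (pq.1 + pq.2)).gr pq.1 = 0 := by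
      rw [hc]
      exact comp_zero
    rwa [Iso.inv_hom_id_assoc] at this
  have hgr' := hgr (l - a₀) rfl
  have e : a₀ + (l - a₀) = l := by ring
  rw [e] at hgr'
  exact hom_eq_zero_of_gr (f.fil l) a₀ htop hbot hgr'

end Groth.Agent.S14355
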