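import Groth.Statements.S14357
import Mathlib
import Groth.Agent.Lib.Helper27ProjGamma2
import Groth.Agent.Lib.Helper27ProjDim
-- import your own Groth.Agent.* helpers here

set_option autoImplicit false
universe u
open AlgebraicGeometry
open Proj

namespace Groth.Agent.S14357

/-- For a field k the projective line over k is not an affine scheme. (The projective line is taken here
as Proj of the polynomial ring in two variables over k with its standard grading; the book builds it
by gluing two affine lines and identifies the two constructions later.) -/
theorem result (k : Type u) [Field k] :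
    ¬ IsAffine (CohB1.ProjSpace 1 k) := by
  intro h
  have h1 : CategoryTheory.IsIso (CohB1.ProjSpace.toSpec 1 k).appTop :=
    Groth.Agent.Lib.Helper27ProjGamma.isIso_toSpec_appTop 1 k
  have h2 : CategoryTheory.IsIso (CohB1.ProjSpace.toSpec 1 k) :=
    (HasAffineProperty.iff_of_isAffine (P := CategoryTheory.MorphismProperty.isomorphisms Scheme)).mpr ⟨h, h1⟩
  have h3 : topologicalKrullDim (CohB1.ProjSpace 1 k) = ((1 : ℕ) : WithBot ℕ∞) :=
    Groth.Agent.Lib.Helper27ProjDim.main k 1
  have h4 : topologicalKrullDim (Spec (CommRingCat.of k)) = 0 := by
    have : topologicalKrullDim (PrimeSpectrum k) = ringKrullDim k :=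
      PrimeSpectrum.topologicalKrullDim_eq_ringKrullDim k
    rw [ringKrullDim_eq_zero_of_field] at this
    exact this
  have h5 := IsHomeomorph.topologicalKrullDim_eq _
    (CohB1.ProjSpace.toSpec 1 k).homeomorph.isHomeomorph
  rw [h3] at h5
  have h6 : topologicalKrullDim (Spec (CommRingCat.of k)) = ((1 : ℕ) : WithBot ℕ∞) := h5.symm
  rw [h4] at h6
  norm_num at h6

end Groth.Agent.S14357
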