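import Groth.Statements.S14358
import Mathlib.RingTheory.Ideal.AssociatedPrime.Basic
import Mathlib.RingTheory.Localization.FractionRing

set_option autoImplicit false
universe u
open CAlg

namespace Groth.Agent.S14358

/-- Let A be a Noetherian integral domain with fraction field K and let r ∈ K. Then r belongs to A if
and only if, for every nonzero g ∈ A and every associated prime p of the A-module A/(g), the element
r belongs to the local ring A_p inside K, i.e. s r = a in K for some a ∈ A and some s ∈ A outside p. -/
theorem result (A K : Type u)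
    [CommRing A] [IsDomain A] [IsNoetherianRing A] [Field K] [Algebra A K] [IsFractionRing A K]
    (r : K) :
    r ∈ Set.range (algebraMap A K) ↔
      ∀ g : A, g ≠ 0 → ∀ p ∈ associatedPrimes A (A ⧸ Ideal.span {g}),
        ∃ a s : A, s ∉ p ∧ algebraMap A K s * r = algebraMap A K a := by
  classical
  constructor
  · rintro ⟨a, rfl⟩ g _ p hp
    have hpr : p.IsPrime := hp.isPrime
    exact ⟨a, 1, fun h => (Ideal.ne_top_iff_one p).mp hpr.ne_top h, by rw [map_one, one_mul]⟩
  · intro h
    obtain ⟨a, g, hg, hr⟩ := IsFractionRing.div_surjective (A := A) r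
    have hg0 : g ≠ 0 := nonZeroDivisors.ne_zero hg
    have hgK : algebraMap A K g ≠ 0 := by
      rw [Ne, IsFractionRing.to_map_eq_zero_iff]; exact hg0
    by_contra hnot
    -- a ∉ (g)
    have ha : (Ideal.Quotient.mk (Ideal.span {g}) a) ≠ 0 := by
      intro h0
      rw [Ideal.Quotient.eq_zero_iff_mem, Ideal.mem_span_singleton'] at h0
      obtain ⟨c, hc⟩ := h0
      apply hnot
      refine ⟨c, ?_⟩
      rw [← hr, ← hc, map_mul, mul_div_assoc, div_self hgK, mul_one]
    obtain ⟨P, hP, hle⟩ := exists_le_isAssociatedPrime_of_isNoetherianRing A _ ha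
    obtain ⟨a', s, hs, hsr⟩ := h g hg0 P hP
    apply hs
    apply hle
    rw [Submodule.mem_colon_singleton, Submodule.mem_bot, Algebra.smul_def,
      Ideal.Quotient.algebraMap_eq, ← map_mul, Ideal.Quotient.eq_zero_iff_mem,
      Ideal.mem_span_singleton']
    refine ⟨a', ?_⟩
    apply IsFractionRing.injective A K
    rw [map_mul, map_mul, ← hsr, ← hr, mul_div_assoc', div_mul_cancel₀ _ hgK]

end Groth.Agent.S14358
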