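import Groth.Statements.S14359
import Mathlib
import Groth.Agent.Lib.Helper22AssHeightOne

set_option autoImplicit false
universe u
open CAlg

namespace Groth.Agent.S14359

/-- Let A be a Noetherian integrally closed integral domain and b a nonzero element of A. Then every
associated prime of the A-module A/(b) has height one, so that A/(b) has no embedded associated
primes. -/
theorem result
    (A : Type u) [CommRing A] [IsDomain A] [IsNoetherianRing A] [IsIntegrallyClosed A]
    (b : A) (hb : b ≠ 0) (p : Ideal A) (hp : p ∈ associatedPrimes A (A ⧸ Ideal.span {b})) :
    p.height = 1 := by
  exact Groth.Agent.Lib.Helper22.AssHeightOne.height_eq_one_of_mem_associatedPrimes b hb p hp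

end Groth.Agent.S14359
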