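import Groth.Statements.S14360
import Mathlib

set_option autoImplicit false
universe u
open AlgebraicGeometry
open Variety

namespace Groth.Agent.S14360


open CategoryTheory CategoryTheory.Limits in
lemma exists_alpha {X Y : Scheme.{u}} [IrreducibleSpace X] [Nonempty Y]
    (f : X.PartialMap Y) [IsDominant f.hom] (g : Y.PartialMap X)
    (h : (f.comp g).equiv (Scheme.PartialMap.id X)) :
    ∃ (W : X.Opens) (_ : Dense (W : Set X)) (hWU : W ≤ f.domain)
      (α : W.toScheme ⟶ g.domain.toScheme),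
      α ≫ g.hom = W.ι ∧ α ≫ g.domain.ι = X.homOfLE hWU ≫ f.hom := by
  obtain ⟨W, hW, hWl, hWr, e⟩ := h
  have hWl' : W ≤ f.domain.ι ''ᵁ f.hom ⁻¹ᵁ g.domain := hWl
  have hWU : W ≤ f.domain := hWl'.trans (f.domain.ι_image_le _)
  refine ⟨W, hW, hWU, X.homOfLE hWl' ≫ (f.domain.ι.isoImage _).inv ≫ f.hom ∣_ g.domain, ?_, ?_⟩
  · simp only [Scheme.PartialMap.restrict_hom, Scheme.PartialMap.comp_hom] at e
    simp only [Category.assoc]
    refine e.trans ?_
    simp only [Scheme.Hom.toPartialMap_hom, Scheme.topIso_hom, Category.comp_id]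
    exact X.homOfLE_ι hWr
  · simp only [Category.assoc, morphismRestrict_ι, Scheme.Opens.isoImage_ι_inv_ι_assoc,
      Scheme.homOfLE_homOfLE_assoc]


open CategoryTheory CategoryTheory.Limits in
/-- the formal core: mutually inverse partial morphisms give a partial isomorphism -/
lemma birational_of_alpha {X Y : Scheme.{u}} [IrreducibleSpace X] [IrreducibleSpace Y]
    (U W : X.Opens) (V W' : Y.Opens) (hWU : W ≤ U) (hW'V : W' ≤ V)
    (hW : Dense (W : Set X)) (hW' : Dense (W' : Set Y))
    (φ : U.toScheme ⟶ Y) (ψ : V.toScheme ⟶ X) [IsDominant φ] [IsDominant ψ]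
    (α : W.toScheme ⟶ V.toScheme) (α' : W'.toScheme ⟶ U.toScheme)
    (hα1 : α ≫ ψ = W.ι) (hα2 : α ≫ V.ι = X.homOfLE hWU ≫ φ)
    (hα'1 : α' ≫ φ = W'.ι) (hα'2 : α' ≫ U.ι = Y.homOfLE hW'V ≫ ψ) :
    Scheme.Birational X Y := by
  have key1 : pullback.snd (α ≫ V.ι) W'.ι ≫ Y.homOfLE hW'V = pullback.fst (α ≫ V.ι) W'.ι ≫ α := by
    rw [← cancel_mono V.ι, Category.assoc, Category.assoc, Scheme.homOfLE_ι, pullback.condition]
  have key2 : pullback.snd (α' ≫ U.ι) W.ι ≫ X.homOfLE hWU = pullback.fst (α' ≫ U.ι) W.ι ≫ α' := by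
    rw [← cancel_mono U.ι, Category.assoc, Category.assoc, Scheme.homOfLE_ι, pullback.condition]
  let u : pullback (α ≫ V.ι) W'.ι ⟶ pullback (α' ≫ U.ι) W.ι :=
    pullback.lift (pullback.snd _ _) (pullback.fst _ _) (by
      rw [hα'2, ← Category.assoc, key1, Category.assoc, hα1])
  let v : pullback (α' ≫ U.ι) W.ι ⟶ pullback (α ≫ V.ι) W'.ι :=
    pullback.lift (pullback.snd _ _) (pullback.fst _ _) (by
      rw [hα2, ← Category.assoc, key2, Category.assoc, hα'1])
  let e : pullback (α ≫ V.ι) W'.ι ≅ pullback (α' ≫ U.ι) W.ι :=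
    ⟨u, v, by
      apply pullback.hom_ext
      · rw [Category.assoc, Category.id_comp, pullback.lift_fst, pullback.lift_snd]
      · rw [Category.assoc, Category.id_comp, pullback.lift_snd, pullback.lift_fst], by
      apply pullback.hom_ext
      · rw [Category.assoc, Category.id_comp, pullback.lift_fst, pullback.lift_snd]
      · rw [Category.assoc, Category.id_comp, pullback.lift_snd, pullback.lift_fst]⟩
  let jX : pullback (α ≫ V.ι) W'.ι ⟶ X := pullback.fst _ _ ≫ W.ι
  let jY : pullback (α' ≫ U.ι) W.ι ⟶ Y := pullback.fst _ _ ≫ W'.ι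
  -- density
  haveI : IsDominant (X.homOfLE hWU) := AlgebraicGeometry.Opens.isDominant_homOfLE hW hWU
  haveI : IsDominant (Y.homOfLE hW'V) := AlgebraicGeometry.Opens.isDominant_homOfLE hW' hW'V
  have hdX : Dense (jX.opensRange : Set X) := by
    refine jX.opensRange.2.dense ?_
    haveI : IsDominant (α ≫ V.ι) := by rw [hα2]; infer_instance
    obtain ⟨y, hy, ⟨w, hw⟩⟩ := (α ≫ V.ι).denseRange.inter_open_nonempty _ W'.2 hW'.nonempty
    have hw' : w ∈ Set.range (pullback.fst (α ≫ V.ι) W'.ι) := by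
      rw [Scheme.Pullback.range_fst]
      simp only [Set.mem_preimage, Scheme.Opens.range_ι]
      rw [hw]; exact hy
    obtain ⟨z, hz⟩ := hw'
    exact ⟨jX z, ⟨z, rfl⟩⟩
  have hdY : Dense (jY.opensRange : Set Y) := by
    refine jY.opensRange.2.dense ?_
    haveI : IsDominant (α' ≫ U.ι) := by rw [hα'2]; infer_instance
    obtain ⟨y, hy, ⟨w, hw⟩⟩ := (α' ≫ U.ι).denseRange.inter_open_nonempty _ W.2 hW.nonempty
    have hw' : w ∈ Set.range (pullback.fst (α' ≫ U.ι) W.ι) := by
      rw [Scheme.Pullback.range_fst]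
      simp only [Set.mem_preimage, Scheme.Opens.range_ι]
      rw [hw]; exact hy
    obtain ⟨z, hz⟩ := hw'
    exact ⟨jY z, ⟨z, rfl⟩⟩
  exact ⟨⟨jX.opensRange, hdX, jY.opensRange, hdY, jX.isoOpensRange.symm ≪≫ e ≪≫ jY.isoOpensRange⟩⟩


open CategoryTheory CategoryTheory.Limits in
lemma partialIso_dominant {X Y : Scheme.{u}} (φ : X.PartialIso Y) :
    IsDominant φ.toPartialMap.hom := by
  haveI := AlgebraicGeometry.Opens.isDominant_ι φ.dense_target
  change IsDominant (φ.iso.hom ≫ φ.target.ι)
  infer_instance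


open CategoryTheory CategoryTheory.Limits in
lemma partialIso_aux {X Y : Scheme.{u}} (S : X.Opens) (T : Y.Opens) (i : S.toScheme ≅ T.toScheme)
    (h : S ≤ S.ι ''ᵁ ((i.hom ≫ T.ι) ⁻¹ᵁ T)) :
    X.homOfLE h ≫ (S.ι.isoImage ((i.hom ≫ T.ι) ⁻¹ᵁ T)).inv ≫ ((i.hom ≫ T.ι) ∣_ T) ≫ i.inv ≫ S.ι =
      S.ι := by
  have h1 : (i.hom ≫ T.ι) ∣_ T = ((i.hom ≫ T.ι) ⁻¹ᵁ T).ι ≫ i.hom := by
    apply Mono.right_cancellation (f := T.ι)
    rw [Category.assoc]
    exact morphismRestrict_ι (i.hom ≫ T.ι) T
  rw [h1]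
  simp only [Category.assoc, Iso.hom_inv_id_assoc, Scheme.Hom.isoImage_inv_ι, Scheme.homOfLE_ι]

open CategoryTheory CategoryTheory.Limits in
lemma partialIso_comp_symm {X Y : Scheme.{u}} [IrreducibleSpace X] [Nonempty Y]
    (φ : X.PartialIso Y) :
    haveI := partialIso_dominant φ
    (φ.toPartialMap.comp φ.symm.toPartialMap).equiv (Scheme.PartialMap.id X) := by
  haveI := partialIso_dominant φ
  have hdom : (φ.toPartialMap.comp φ.symm.toPartialMap).domain = φ.source := by
    change φ.source.ι ''ᵁ ((φ.iso.hom ≫ φ.target.ι) ⁻¹ᵁ φ.target) = φ.source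
    rw [Scheme.Hom.comp_preimage, Scheme.Opens.ι_preimage_self, Scheme.Hom.preimage_top,
      Scheme.Opens.ι_image_top]
  refine ⟨φ.source, φ.dense_source, hdom.ge, le_top, ?_⟩
  simp only [Scheme.PartialMap.restrict_hom, Scheme.PartialMap.comp_hom]
  refine (partialIso_aux φ.source φ.target φ.iso _).trans ?_
  simp only [Scheme.Hom.toPartialMap_hom, Scheme.topIso_hom, Category.comp_id]
  exact (X.homOfLE_ι _).symm


/-- Let X and Y be integral schemes. Then X and Y have isomorphic dense open subschemes if and only if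
they are birational in the sense of rational maps, i.e. there exist dominant rational maps f : X ⤏ Y
and g : Y ⤏ X such that the composites g ∘ f and f ∘ g are the identity rational maps of X and of Y. -/
theorem result (X Y : Scheme.{u})
    [IsIntegral X] [IsIntegral Y] :
    Scheme.Birational X Y ↔
      ∃ (f : X ⤏ Y) (g : Y ⤏ X) (_ : f.IsDominant) (_ : g.IsDominant),
        f.comp g = Scheme.RationalMap.id X ∧ g.comp f = Scheme.RationalMap.id Y := by
  constructor
  · rintro ⟨φ⟩
    haveI h1 := partialIso_dominant φ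
    haveI h2 := partialIso_dominant φ.symm
    refine ⟨φ.toPartialMap.toRationalMap, φ.symm.toPartialMap.toRationalMap, inferInstance,
      inferInstance, ?_, ?_⟩
    · rw [Scheme.RationalMap.toRationalMap_comp, Scheme.PartialMap.toRationalMap_eq_iff]
      exact partialIso_comp_symm φ
    · rw [Scheme.RationalMap.toRationalMap_comp, Scheme.PartialMap.toRationalMap_eq_iff]
      exact partialIso_comp_symm φ.symm
  · rintro ⟨f, g, hf, hg, h1, h2⟩
    haveI := hf
    haveI := hg
    have e1 : (f.representative.comp g.representative).equiv (Scheme.PartialMap.id X) := by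
      rw [← Scheme.PartialMap.toRationalMap_eq_iff, ← Scheme.RationalMap.comp_def,
        g.toRationalMap_representative]
      exact h1
    have e2 : (g.representative.comp f.representative).equiv (Scheme.PartialMap.id Y) := by
      rw [← Scheme.PartialMap.toRationalMap_eq_iff, ← Scheme.RationalMap.comp_def,
        f.toRationalMap_representative]
      exact h2
    obtain ⟨W, hW, hWU, α, hα1, hα2⟩ := exists_alpha f.representative g.representative e1
    obtain ⟨W', hW', hW'V, α', hα'1, hα'2⟩ := exists_alpha g.representative f.representative e2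
    exact birational_of_alpha _ W _ W' hWU hW'V hW hW' f.representative.hom g.representative.hom
      α α' hα1 hα2 hα'1 hα'2

end Groth.Agent.S14360
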