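import Groth.Statements.S14363
import Mathlib.RingTheory.Support
import Mathlib.RingTheory.Ideal.AssociatedPrime.Basic

set_option autoImplicit false
universe u
open CAlg

namespace Groth.Agent.S14363

/-- Let A be a Noetherian ring and 0 → M' → M → M'' → 0 a short exact sequence of A-modules. If a prime
p of A is an associated prime of M'' and is not in the support of M', then p is an associated prime
of M. -/
theorem result (A : Type u) [CommRing A] [IsNoetherianRing A]
    (M' M M'' : Type u) [AddCommGroup M'] [Module A M'] [AddCommGroup M] [Module A M]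
    [AddCommGroup M''] [Module A M'']
    (f : M' →ₗ[A] M) (g : M →ₗ[A] M'') (hf : Function.Injective f) (hg : Function.Surjective g)
    (hfg : Function.Exact f g)
    (p : PrimeSpectrum A) (hp : p.asIdeal ∈ associatedPrimes A M'') (hsupp : p ∉ Module.support A M') :
    p.asIdeal ∈ associatedPrimes A M := by
  classical
  rw [AssociatedPrimes.mem_iff, isAssociatedPrime_iff] at hp ⊢
  obtain ⟨hprime, m'', hm''⟩ := hp
  refine ⟨hprime, ?_⟩
  obtain ⟨m, rfl⟩ := hg m''
  rw [Module.notMem_support_iff'] at hsupp
  -- for each a ∈ p, exists s ∉ p with s • a • m = 0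
  have key : ∀ a ∈ p.asIdeal, ∃ s : A, s ∉ p.asIdeal ∧ s • a • m = 0 := by
    intro a ha
    have h1 : g (a • m) = 0 := by
      rw [hm'', Submodule.mem_colon_singleton, Submodule.mem_bot] at ha
      rw [map_smul, ha]
    obtain ⟨m', hm'⟩ := (hfg (a • m)).1 h1
    obtain ⟨s, hs, hs0⟩ := hsupp m'
    exact ⟨s, hs, by rw [← hm', ← map_smul, hs0, map_zero]⟩
  obtain ⟨S, hS⟩ := (isNoetherianRing_iff_ideal_fg A).1 inferInstance p.asIdeal
  choose! σ hσ1 hσ2 using key
  set s := ∏ a ∈ S, σ a with hs
  have hsp : s ∉ p.asIdeal := by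
    rw [hs, hprime.prod_mem_iff]
    push Not
    intro a ha
    exact hσ1 a (hS ▸ Ideal.subset_span ha)
  have hkill : ∀ a ∈ p.asIdeal, a • s • m = 0 := by
    intro a ha
    rw [← hS] at ha
    induction ha using Submodule.span_induction with
    | mem x hx =>
      have hxp : x ∈ p.asIdeal := hS ▸ Ideal.subset_span hx
      rw [smul_comm, hs, ← Finset.mul_prod_erase S σ hx, mul_comm, mul_smul, hσ2 x hxp, smul_zero]
    | zero => rw [zero_smul]
    | add x y _ _ hx hy => rw [add_smul, hx, hy, add_zero]
    | smul r x _ hx => rw [smul_eq_mul, mul_smul, hx, smul_zero]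
  refine ⟨s • m, ?_⟩
  ext b
  rw [Submodule.mem_colon_singleton, Submodule.mem_bot]
  constructor
  · exact hkill b
  · intro hb
    have h2 : (b * s) ∈ p.asIdeal := by
      rw [hm'', Submodule.mem_colon_singleton, Submodule.mem_bot, mul_smul, ← map_smul, ← map_smul,
        hb, map_zero]
    exact (hprime.mem_or_mem h2).resolve_right hsp

end Groth.Agent.S14363
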