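import Groth.Statements.S1437
import Mathlib

set_option autoImplicit false
universe u
open FlatMor

namespace Groth.Agent.S1437

section Dev
open CategoryTheory CategoryTheory.Limits AlgebraicGeometry TopologicalSpace
/-- stratification with index set `Fin d`. -/
def Strat (X : Scheme.{u}) (d : ℕ) : Prop :=
  ∃ s : X → Fin d, (∀ i : Fin d, IsClosed {x : X | s x ≤ i}) ∧
    ∀ i : Fin d, ∃ (Z : Scheme.{u}) (ι : Z ⟶ X),
      IsImmersion ι ∧ IsAffine Z ∧ IsAffineHom ι ∧ Set.range ι = {x : X | s x = i}

theorem dim_lt {Z X : Type*} [TopologicalSpace Z] [TopologicalSpace X] [NoetherianSpace X]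
    (i : Z → X) (hi : Topology.IsClosedEmbedding i) (hdense : Dense (Set.range i)ᶜ) (d : ℕ)
    (h : topologicalKrullDim X < ((d + 1 : ℕ) : WithBot ℕ∞)) :
    topologicalKrullDim Z < ((d : ℕ) : WithBot ℕ∞) := by
  unfold topologicalKrullDim at h ⊢
  rw [Order.krullDim_lt_coe_iff] at h ⊢
  intro l
  let T := IrreducibleCloseds.map i hi.continuous l.last
  obtain ⟨C, hC, hTC⟩ := exists_mem_irreducibleComponents_subset_of_isIrreducible
    (T : Set X) T.isIrreducible
  obtain ⟨o, ho, hne, hoC⟩ :=
    NoetherianSpace.exists_isOpen_nonempty_subset_irreducibleComponent C hC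
  obtain ⟨x, hxo, hx⟩ := hdense.inter_open_nonempty o ho hne
  let C' : IrreducibleCloseds X := ⟨C, hC.1, isClosed_of_mem_irreducibleComponents C hC⟩
  have hTr : (T : Set X) ⊆ Set.range i := by
    show closure (i '' (l.last : Set Z)) ⊆ Set.range i
    rw [(hi.isClosedMap _ l.last.isClosed).closure_eq]
    exact Set.image_subset_range _ _
  have hlt : T < C' := by
    refine lt_of_le_of_ne hTC ?_
    intro heq
    have : x ∈ (T : Set X) := by
      rw [heq]; exact hoC hxo
    exact hx (hTr this)
  let l' := (l.map (IrreducibleCloseds.map i hi.continuous)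
    (IrreducibleCloseds.map_strictMono_of_isInducing hi.isInducing)).snoc C'
    (by simpa using hlt)
  have := h l'
  simp [l'] at this
  exact this

theorem exists_small_open {X : Type*} [TopologicalSpace X] (T : Finset (Opens X)) (V : Opens X)
    (hV : V ≠ ⊥) :
    ∃ W : Opens X, W ≠ ⊥ ∧ W ≤ V ∧ ∀ O ∈ T, W ≤ O ∨ W ⊓ O = ⊥ := by
  classical
  induction T using Finset.induction_on with
  | empty => exact ⟨V, hV, le_rfl, by simp⟩
  | insert O T hO ih =>
    obtain ⟨W, hW, hWV, hWT⟩ := ih
    by_cases h : W ⊓ O = ⊥
    · refine ⟨W, hW, hWV, ?_⟩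
      intro O' hO'
      rcases Finset.mem_insert.mp hO' with rfl | hO'
      · exact Or.inr h
      · exact hWT O' hO'
    · refine ⟨W ⊓ O, h, inf_le_left.trans hWV, ?_⟩
      intro O' hO'
      rcases Finset.mem_insert.mp hO' with rfl | hO'
      · exact Or.inl inf_le_right
      · rcases hWT O' hO' with h1 | h1
        · exact Or.inl (inf_le_left.trans h1)
        · right
          rw [eq_bot_iff, ← h1]
          exact inf_le_inf_right _ inf_le_left

theorem exists_dense_affine (X : Scheme.{u}) [IsNoetherian X] :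
    ∃ U : X.Opens, IsAffineOpen U ∧ IsAffineHom U.ι ∧ Dense (U : Set X) := by
  classical
  obtain ⟨s0, hs0fin, hs0⟩ := (isCompact_and_isOpen_iff_finite_and_eq_biUnion_affineOpens
    (X := X) (U := Set.univ)).mp ⟨isCompact_univ, isOpen_univ⟩
  let T : Finset X.Opens := hs0fin.toFinset.image (fun i => i.1)
  have hTaff : ∀ O ∈ T, IsAffineOpen O := by
    intro O hO
    obtain ⟨i, -, rfl⟩ := Finset.mem_image.mp hO
    exact i.2
  have hTcov : ∀ x : X, ∃ O ∈ T, x ∈ O := by
    intro x
    have hx : x ∈ (Set.univ : Set X) := trivial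
    rw [hs0] at hx
    obtain ⟨i, hi, hxi⟩ := Set.mem_iUnion₂.mp hx
    exact ⟨i.1, Finset.mem_image.mpr ⟨i, hs0fin.mem_toFinset.mpr hi, rfl⟩, hxi⟩
  let 𝒮 : Set X.Opens := {U | IsAffineOpen U ∧ ∀ O ∈ T, IsAffineOpen (U ⊓ O)}
  have hne : 𝒮.Nonempty := ⟨⊥, isAffineOpen_bot X, fun O _ => by
    rw [bot_inf_eq]; exact isAffineOpen_bot X⟩
  have hwf : WellFoundedGT X.Opens := (inferInstance : NoetherianSpace X)
  obtain ⟨U, hU, hmax⟩ := hwf.wf.has_min 𝒮 hne
  refine ⟨U, hU.1, ?_, ?_⟩
  · apply isAffineHom_of_forall_exists_isAffineOpen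
    intro x
    obtain ⟨O, hO, hxO⟩ := hTcov x
    refine ⟨O, hxO, hTaff O hO, ?_⟩
    rw [← Scheme.Hom.isAffineOpen_iff_of_isOpenImmersion U.ι,
      Scheme.Hom.image_preimage_eq_opensRange_inf, Scheme.Opens.opensRange_ι]
    exact hU.2 O hO
  · by_contra hnd
    let V : X.Opens := ⟨(closure (U : Set X))ᶜ, isClosed_closure.isOpen_compl⟩
    have hVne : V ≠ ⊥ := by
      intro hV
      apply hnd
      rw [dense_iff_closure_eq]
      have : (V : Set X) = ∅ := by rw [hV]; rfl
      have h2 : (closure (U : Set X))ᶜ = ∅ := this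
      rwa [Set.compl_empty_iff] at h2
    obtain ⟨W', hW'ne, hW'V, hW'T⟩ := exists_small_open T V hVne
    obtain ⟨x, hx⟩ : ∃ x, x ∈ W' := by
      by_contra hcon
      apply hW'ne
      ext y
      simp only [Opens.coe_bot, Set.mem_empty_iff_false, iff_false]
      intro hy
      exact hcon ⟨y, hy⟩
    obtain ⟨W, hWaff, hxW, hWW'⟩ := exists_isAffineOpen_mem_and_subset (X := X) hx
    have hWW'' : W ≤ W' := hWW'
    have hWT : ∀ O ∈ T, W ≤ O ∨ W ⊓ O = ⊥ := by
      intro O hO
      rcases hW'T O hO with h1 | h1
      · exact Or.inl (hWW''.trans h1)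
      · right
        rw [eq_bot_iff, ← h1]
        exact inf_le_inf_right _ hWW''
    have hdisj : U ⊓ W = ⊥ := by
      rw [eq_bot_iff]
      intro y hy
      have hyV : y ∈ V := hW'V (hWW'' hy.2)
      exact (hyV (subset_closure hy.1)).elim
    have hmem : U ⊔ W ∈ 𝒮 := by
      refine ⟨hU.1.sup_of_disjoint hWaff (disjoint_iff.mpr hdisj), ?_⟩
      intro O hO
      rw [inf_sup_right]
      have h1 : IsAffineOpen (W ⊓ O) := by
        rcases hWT O hO with h1 | h1
        · rw [inf_eq_left.mpr h1]; exact hWaff
        · rw [h1]; exact isAffineOpen_bot X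
      refine (hU.2 O hO).sup_of_disjoint h1 ?_
      exact (disjoint_iff.mpr hdisj).mono inf_le_left inf_le_left
    apply hmax _ hmem
    show U < U ⊔ W
    refine lt_of_le_of_ne le_sup_left ?_
    intro heq
    have hxU : x ∈ U := by
      rw [heq]; exact Or.inr hxW
    have : x ∈ U ⊓ W := ⟨hxU, hxW⟩
    rw [hdisj] at this
    exact this


theorem strat_of_dim (d : ℕ) : ∀ (X : Scheme.{u}) [IsNoetherian X],
    topologicalKrullDim X < ((d : ℕ) : WithBot ℕ∞) → Strat X d := by
  induction d with
  | zero =>
    intro X _ h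
    have hempty : IsEmpty X := by
      refine ⟨fun x => ?_⟩
      unfold topologicalKrullDim at h
      have := (Order.krullDim_lt_coe_iff.mp h) (RelSeries.singleton _
        ⟨closure {x}, isIrreducible_singleton.closure, isClosed_closure⟩)
      simp at this
    exact ⟨fun x => hempty.elim x, fun i => i.elim0, fun i => i.elim0⟩
  | succ d ih =>
    classical
    intro X _ h
    obtain ⟨U, hUaff, hUhom, hUdense⟩ := exists_dense_affine X
    let F : Closeds X := ⟨(U : Set X)ᶜ, U.isOpen.isClosed_compl⟩
    let I := Scheme.IdealSheafData.vanishingIdeal F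
    let Z := I.subscheme
    let ι : Z ⟶ X := I.subschemeι
    have hrange : Set.range ι = (U : Set X)ᶜ := by
      rw [I.range_subschemeι]; simp [I, F]
    have : IsLocallyNoetherian Z := LocallyOfFiniteType.isLocallyNoetherian ι
    have : CompactSpace Z := QuasiCompact.compactSpace_of_compactSpace ι
    have : IsNoetherian Z := {}
    have hdimZ : topologicalKrullDim Z < ((d : ℕ) : WithBot ℕ∞) :=
      dim_lt ι ι.isClosedEmbedding (by rw [hrange, compl_compl]; exact hUdense) d h
    obtain ⟨sZ, hsZ1, hsZ2⟩ := ih Z hdimZ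
    have hsurj : ∀ x : X, x ∉ U → ∃ z : Z, ι z = x := by
      intro x hx
      have : x ∈ Set.range ι := by rw [hrange]; exact hx
      exact this
    let s : X → Fin (d + 1) := fun x =>
      if h : x ∈ U then Fin.last d else (sZ (Classical.choose (hsurj x h))).castSucc
    have hsU : ∀ x, x ∈ U → s x = Fin.last d := fun x hx => dif_pos hx
    have hsZ : ∀ z : Z, s (ι z) = (sZ z).castSucc := by
      intro z
      have hz : ι z ∉ U := by
        have : ι z ∈ Set.range ι := ⟨z, rfl⟩
        rw [hrange] at this; exact this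
      have h1 : s (ι z) = (sZ (Classical.choose (hsurj (ι z) hz))).castSucc := dif_neg hz
      rw [h1]
      congr 2
      exact ι.isClosedEmbedding.injective (Classical.choose_spec (hsurj (ι z) hz))
    refine ⟨s, fun i => ?_, fun i => ?_⟩
    · rcases Fin.eq_castSucc_or_eq_last i with ⟨j, rfl⟩ | rfl
      · have : {x | s x ≤ j.castSucc} = ι '' {z | sZ z ≤ j} := by
          ext x
          constructor
          · intro hx
            have hx' : s x ≤ j.castSucc := hx
            have hxU : x ∉ U := by
              intro hxU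
              rw [hsU x hxU] at hx'
              exact absurd hx' (not_le.mpr (Fin.castSucc_lt_last j))
            obtain ⟨z, rfl⟩ := hsurj x hxU
            refine ⟨z, ?_, rfl⟩
            rw [hsZ] at hx'
            exact Fin.castSucc_le_castSucc_iff.mp hx'
          · rintro ⟨z, hz, rfl⟩
            show s (ι z) ≤ _
            rw [hsZ]; exact Fin.castSucc_le_castSucc_iff.mpr hz
        rw [this]
        exact ι.isClosedEmbedding.isClosedMap _ (hsZ1 j)
      · have : {x | s x ≤ Fin.last d} = Set.univ := by
          ext x; simp [Fin.le_last]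
        rw [this]; exact isClosed_univ
    · rcases Fin.eq_castSucc_or_eq_last i with ⟨j, rfl⟩ | rfl
      · obtain ⟨Z', ι', h1, h2, h3, h4⟩ := hsZ2 j
        refine ⟨Z', ι' ≫ ι, inferInstance, h2, inferInstance, ?_⟩
        rw [Scheme.Hom.comp_base, TopCat.coe_comp, Set.range_comp, h4]
        ext x
        constructor
        · rintro ⟨z, hz, rfl⟩
          show s (ι z) = _
          rw [hsZ]
          have hz' : sZ z = j := hz
          rw [hz']
        · intro hx
          have hx' : s x = j.castSucc := hx
          have hxU : x ∉ U := by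
            intro hxU
            rw [hsU x hxU] at hx'
            exact absurd hx'.symm (Fin.castSucc_lt_last j).ne
          obtain ⟨z, rfl⟩ := hsurj x hxU
          refine ⟨z, ?_, rfl⟩
          rw [hsZ] at hx'
          exact Fin.castSucc_injective _ hx'
      · refine ⟨U, U.ι, inferInstance, hUaff, hUhom, ?_⟩
        rw [Scheme.Opens.range_ι]
        ext x
        constructor
        · intro hx; exact hsU x hx
        · intro hx
          by_contra hxU
          obtain ⟨z, rfl⟩ := hsurj x hxU
          have h5 : s (ι z) = Fin.last d := hx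
          rw [hsZ] at h5
          exact (Fin.castSucc_lt_last _).ne h5

theorem main (X : Scheme.{u}) [IsNoetherian X] (d : ℕ) (hd : topologicalKrullDim ↑X = d) :
    MoreMor.HasAffineStratification X d := by
  have h : topologicalKrullDim X < ((d + 1 : ℕ) : WithBot ℕ∞) := by
    rw [hd]
    exact_mod_cast Nat.lt_succ_self d
  exact strat_of_dim (d + 1) X h
end Dev

open AlgebraicGeometry CategoryTheory Limits in
/-- A Noetherian scheme of finite dimension d has affine stratification number at most d: it admits an
affine stratification with index set {0, …, d}. -/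
theorem result (X : Scheme.{u}) [IsNoetherian X] (d : ℕ) (hd : topologicalKrullDim ↑X = d) :
    MoreMor.HasAffineStratification X d := by
  exact main X d hd

end Groth.Agent.S1437
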