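import Groth.Statements.S14371
import Mathlib
import Groth.Agent.Lib.Helper5RLR

set_option autoImplicit false
universe u
open CAlg

namespace Groth.Agent.S14371

open Groth.Agent.Lib.Helper5

/-- Let R be a regular local ring of dimension n with maximal ideal m and residue field κ, and I, J
ideals of R such that R/I and R/J are regular local rings of dimensions a and b (two subvarieties
smooth at the point). Suppose the quotient R/(I + J) is local with cotangent space m/(m² + I + J) of
dimension a + b − n over κ (the tangent spaces of the two subvarieties meet in the expected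
dimension, i.e. they intersect transversally at the point). Then R/(I + J) is a regular local ring
of dimension a + b − n; in particular I + J is a prime ideal. (The published statement is about the
local rings of a smooth variety over an algebraically closed field at a point where two smooth
closed subvarieties meet transversally, and also states the resulting equalities of tangent spaces
and of ideals; this row is the local-ring form, for an arbitrary regular local ring.) -/
theorem result {R : Type u} [CommRing R] [IsRegularLocalRing R]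
    (I J : Ideal R) [IsRegularLocalRing (R ⧸ I)] [IsRegularLocalRing (R ⧸ J)] [IsLocalRing (R ⧸ (I ⊔ J))]
    (n a b : ℕ) (hn : ringKrullDim R = n) (ha : ringKrullDim (R ⧸ I) = a) (hb : ringKrullDim (R ⧸ J) = b)
    (ht : Module.finrank (IsLocalRing.ResidueField (R ⧸ (I ⊔ J))) (IsLocalRing.CotangentSpace (R ⧸ (I ⊔ J))) + n = a + b) :
    IsRegularLocalRing (R ⧸ (I ⊔ J)) ∧ ringKrullDim (R ⧸ (I ⊔ J)) = ((a + b - n : ℕ) : WithBot ℕ∞) := by
  classical
  have hIsNoeth : IsNoetherianRing R := inferInstance
  obtain ⟨r, x, hxli, hIx⟩ := exists_linearIndependent_span_range_eq I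
  obtain ⟨s, y, hyli, hJy⟩ := exists_linearIndependent_span_range_eq J
  -- dimension counts
  have hAI := spanFinrank_maximalIdeal_quotient_add_finrank_cotV I
  have hAJ := spanFinrank_maximalIdeal_quotient_add_finrank_cotV J
  have hcI : Module.finrank (IsLocalRing.ResidueField R) (cotV I) = r := by
    rw [hIx]; exact finrank_cotV_span_range_of_linearIndependent x hxli
  have hcJ : Module.finrank (IsLocalRing.ResidueField R) (cotV J) = s := by
    rw [hJy]; exact finrank_cotV_span_range_of_linearIndependent y hyli
  rw [hcI] at hAI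
  rw [hcJ] at hAJ
  have hregR : ((IsLocalRing.maximalIdeal R).spanFinrank : WithBot ℕ∞) = ringKrullDim R :=
    IsRegularLocalRing.spanFinrank_maximalIdeal
  have hregI : ((IsLocalRing.maximalIdeal (R ⧸ I)).spanFinrank : WithBot ℕ∞) = ringKrullDim (R ⧸ I) :=
    IsRegularLocalRing.spanFinrank_maximalIdeal
  have hregJ : ((IsLocalRing.maximalIdeal (R ⧸ J)).spanFinrank : WithBot ℕ∞) = ringKrullDim (R ⧸ J) :=
    IsRegularLocalRing.spanFinrank_maximalIdeal
  rw [hn] at hregR
  rw [ha] at hregI
  rw [hb] at hregJ
  have hregR' : (IsLocalRing.maximalIdeal R).spanFinrank = n := by exact_mod_cast hregR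
  have hregI' : (IsLocalRing.maximalIdeal (R ⧸ I)).spanFinrank = a := by exact_mod_cast hregI
  have hregJ' : (IsLocalRing.maximalIdeal (R ⧸ J)).spanFinrank = b := by exact_mod_cast hregJ
  -- generators of `I ⊔ J`
  have hK : I ⊔ J = Ideal.span (Set.range fun i => ((Fin.append x y i : IsLocalRing.maximalIdeal R) : R)) := by
    rw [hIx, hJy, ← Ideal.span_union]
    congr 1
    ext t
    simp only [Set.mem_union, Set.mem_range]
    constructor
    · rintro (⟨i, rfl⟩ | ⟨j, rfl⟩)
      · exact ⟨Fin.castAdd s i, by rw [Fin.append_left]⟩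
      · exact ⟨Fin.natAdd r j, by rw [Fin.append_right]⟩
    · rintro ⟨k, rfl⟩
      induction k using Fin.addCases with
      | left i => left; exact ⟨i, by rw [Fin.append_left]⟩
      | right j => right; exact ⟨j, by rw [Fin.append_right]⟩
  have hdimle : ringKrullDim R ≤ ringKrullDim (R ⧸ (I ⊔ J)) + ((r + s : ℕ) : WithBot ℕ∞) := by
    have key : ∀ (K : Ideal R), K = Ideal.span (Set.range fun i =>
        ((Fin.append x y i : IsLocalRing.maximalIdeal R) : R)) →
        ringKrullDim R ≤ ringKrullDim (R ⧸ K) + ((r + s : ℕ) : WithBot ℕ∞) := by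
      intro K hK'
      subst hK'
      exact ringKrullDim_le_quotient_span_range_add (Fin.append x y)
    exact key _ hK
  obtain ⟨d', hd'⟩ := exists_nat_ringKrullDim_eq (R ⧸ (I ⊔ J))
  have h2 := ringKrullDim_le_spanFinrank_maximalIdeal (R ⧸ (I ⊔ J))
  rw [hn, hd'] at hdimle
  rw [hd'] at h2
  have h1' : n ≤ d' + (r + s) := by exact_mod_cast hdimle
  have h2' : d' ≤ (IsLocalRing.maximalIdeal (R ⧸ (I ⊔ J))).spanFinrank := by exact_mod_cast h2
  have h3 := IsLocalRing.spanFinrank_maximalIdeal_eq_finrank_cotangentSpace (R := R ⧸ (I ⊔ J))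
  have h4 : (IsLocalRing.maximalIdeal (R ⧸ (I ⊔ J))).spanFinrank = d' := by omega
  refine ⟨?_, ?_⟩
  · rw [isRegularLocalRing_iff, hd', h4]
  · rw [hd']
    have : d' = a + b - n := by omega
    exact_mod_cast this

end Groth.Agent.S14371
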