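import Groth.Statements.S14372
import Groth.Agent.Lib.Helper19FormsCommonZero
import Groth.Agent.Lib.Helper19PderivChain

set_option autoImplicit false
universe u
open Fano

namespace Groth.Agent.S14372

/-- Over an algebraically closed field k of arbitrary characteristic, let f be a homogeneous form of
degree d ≥ 2 in n + 1 variables and U a linear subspace of k^(n+1) on which f vanishes, such that at
every nonzero vector of U some partial derivative of f does not vanish (the hypersurface f = 0 in
P^n contains the r-plane P(U), r + 1 = dim U, and is smooth at every point of it). Then 2 · dim U ≤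
n + 1, i.e. r ≤ (n − 1)/2. (The published statement assumes the hypersurface smooth everywhere; this
row assumes smoothness only along P(U).) -/
theorem result (k : Type u) [Field k] [IsAlgClosed k]
    (n d : ℕ) (hd : 2 ≤ d) (f : MvPolynomial (Fin (n + 1)) k) (hf : f.IsHomogeneous d)
    (U : Submodule k (Fin (n + 1) → k)) (hU : ∀ u ∈ U, MvPolynomial.eval u f = 0)
    (hsm : ∀ u ∈ U, u ≠ 0 → ∃ i : Fin (n + 1), MvPolynomial.eval u (MvPolynomial.pderiv i f) ≠ 0) :
    2 * Module.finrank k ↥U ≤ n + 1 := by
  classical
  by_contra hcon
  push Not at hcon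
  set N := Module.finrank k ↥U with hN
  -- basis of U
  let bU := Module.finBasis k ↥U
  let b : Fin N → (Fin (n + 1) → k) := fun l => (bU l : Fin (n + 1) → k)
  have hbli : LinearIndependent k b := by
    have := bU.linearIndependent
    exact this.map' U.subtype (Submodule.ker_subtype U)
  have hbU : ∀ y : Fin N → k, (∑ l, y l • b l) ∈ U := by
    intro y
    exact U.sum_mem (fun l _ => U.smul_mem _ (bU l).2)
  -- the substitution
  let g : Fin (n + 1) → MvPolynomial (Fin N) k := fun i => ∑ l, MvPolynomial.C (b l i) * MvPolynomial.X l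
  have hg_hom : ∀ i, (g i).IsHomogeneous 1 := by
    intro i
    apply MvPolynomial.IsHomogeneous.sum
    intro l _
    have := (MvPolynomial.isHomogeneous_C (Fin N) (b l i)).mul (MvPolynomial.isHomogeneous_X k l)
    simpa using this
  have heval : ∀ (y : Fin N → k) (q : MvPolynomial (Fin (n + 1)) k),
      MvPolynomial.eval y (MvPolynomial.aeval g q) = MvPolynomial.eval (∑ l, y l • b l) q := by
    intro y q
    have h : (MvPolynomial.eval y).comp (MvPolynomial.aeval g : MvPolynomial (Fin (n + 1)) k →ₐ[k] _).toRingHom =
        MvPolynomial.eval (∑ l, y l • b l) := by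
      apply MvPolynomial.ringHom_ext
      · intro a; simp
      · intro i
        simp only [RingHom.coe_comp, AlgHom.toRingHom_eq_coe, RingHom.coe_coe, Function.comp_apply,
          MvPolynomial.aeval_X, MvPolynomial.eval_X, g, map_sum, map_mul, MvPolynomial.eval_C,
          Finset.sum_apply, Pi.smul_apply, smul_eq_mul]
        apply Finset.sum_congr rfl
        intro l _
        ring
    exact congrFun (congrArg DFunLike.coe h) q
  have hpd : ∀ (l : Fin N) (i : Fin (n + 1)), MvPolynomial.pderiv l (g i) = MvPolynomial.C (b l i) := by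
    intro l i
    simp only [g, map_sum, Derivation.leibniz, MvPolynomial.pderiv_C, MvPolynomial.pderiv_X, smul_zero,
      add_zero, smul_eq_mul]
    rw [Finset.sum_eq_single l]
    · simp
    · intro l' _ hl'
      simp [Pi.single_apply, hl']
    · simp
  -- Φ f = 0
  have hΦf : MvPolynomial.aeval g f = 0 := by
    apply MvPolynomial.funext
    intro y
    rw [heval, map_zero]
    exact hU _ (hbU y)
  let P : Fin (n + 1) → MvPolynomial (Fin N) k := fun i => MvPolynomial.aeval g (MvPolynomial.pderiv i f)
  have hPhom : ∀ i, (P i).IsHomogeneous (d - 1) := by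
    intro i
    have h1 : (MvPolynomial.pderiv i f).IsHomogeneous (d - 1) := hf.pderiv
    have := h1.aeval g hg_hom
    rw [one_mul] at this
    exact this
  -- linear relations
  have hrel : ∀ l : Fin N, ∑ i, b l i • P i = 0 := by
    intro l
    have h1 := Groth.Agent.Lib.Helper19PderivChain.pderiv_aeval g l f
    rw [hΦf, map_zero] at h1
    have : ∑ i, b l i • P i = ∑ i, MvPolynomial.aeval g (MvPolynomial.pderiv i f) * MvPolynomial.pderiv l (g i) := by
      apply Finset.sum_congr rfl
      intro i _
      rw [hpd, MvPolynomial.smul_eq_C_mul, mul_comm]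
    rw [this, ← h1]
  -- the linear map
  let L : (Fin (n + 1) → k) →ₗ[k] MvPolynomial (Fin N) k :=
    { toFun := fun c => ∑ i, c i • P i
      map_add' := fun c c' => by simp [add_smul, Finset.sum_add_distrib]
      map_smul' := fun a c => by simp [Finset.smul_sum, smul_smul] }
  have hbker : ∀ l, b l ∈ LinearMap.ker L := fun l => hrel l
  have hkerdim : N ≤ Module.finrank k (LinearMap.ker L) := by
    have hli : LinearIndependent k (fun l => (⟨b l, hbker l⟩ : LinearMap.ker L)) := by
      apply LinearIndependent.of_comp (LinearMap.ker L).subtype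
      exact hbli
    have := hli.fintype_card_le_finrank
    simpa using this
  have hrank := LinearMap.finrank_range_add_finrank_ker L
  rw [Module.finrank_fin_fun] at hrank
  set m := Module.finrank k (LinearMap.range L) with hm
  have hmN : m < N := by omega
  let bR := Module.finBasis k (LinearMap.range L)
  let Q : Fin m → MvPolynomial (Fin N) k := fun j => (bR j : MvPolynomial (Fin N) k)
  have hrange_hom : ∀ q ∈ LinearMap.range L, q.IsHomogeneous (d - 1) := by
    rintro q ⟨c, rfl⟩
    apply MvPolynomial.IsHomogeneous.sum
    intro i _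
    exact (MvPolynomial.homogeneousSubmodule (Fin N) k (d - 1)).smul_mem _ (hPhom i)
  have hQhom : ∀ j, (Q j).IsHomogeneous (d - 1) := fun j => hrange_hom _ (bR j).2
  obtain ⟨y, hy0, hyQ⟩ := Groth.Agent.Lib.Helper19FormsCommonZero.exists_common_zero N m hmN Q (d - 1)
    (by omega) hQhom
  -- all elements of range L vanish at y
  have hvan : ∀ q ∈ LinearMap.range L, MvPolynomial.eval y q = 0 := by
    intro q hq
    have h1 := bR.sum_repr ⟨q, hq⟩
    have h2 : q = ∑ j, (bR.repr ⟨q, hq⟩ j) • Q j := by
      have h3 : ((∑ j, bR.repr ⟨q, hq⟩ j • bR j : LinearMap.range L) : MvPolynomial (Fin N) k) = q :=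
        congrArg Subtype.val h1
      conv_lhs => rw [← h3]
      simp only [Submodule.coe_sum, Submodule.coe_smul, Q]
    rw [h2, map_sum]
    apply Finset.sum_eq_zero
    intro j _
    rw [MvPolynomial.smul_eval, hyQ j, mul_zero]
  have hPy : ∀ i, MvPolynomial.eval y (P i) = 0 := by
    intro i
    apply hvan
    refine ⟨Pi.single i 1, ?_⟩
    show ∑ i', (Pi.single i (1 : k) : Fin (n + 1) → k) i' • P i' = P i
    rw [Finset.sum_eq_single i]
    · simp
    · intro i' _ hi'
      simp [Pi.single_apply, hi']
    · simp
  set u : Fin (n + 1) → k := ∑ l, y l • b l with hu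
  have huU : u ∈ U := hbU y
  have hu0 : u ≠ 0 := by
    intro h
    apply hy0
    have := (Fintype.linearIndependent_iff.mp hbli) y h
    funext l
    exact this l
  obtain ⟨i, hi⟩ := hsm u huU hu0
  apply hi
  rw [← heval]
  exact hPy i

end Groth.Agent.S14372
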