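import Groth.Statements.S14375
import Mathlib
import Groth.Agent.Lib.Helper6SepCl2
import Groth.Agent.Lib.Helper6SepCl3
-- import your own Groth.Agent.* helpers here

set_option autoImplicit false
universe u
open CategoryTheory CategoryTheory.Limits AlgebraicGeometry
open Variety

namespace Groth.Agent.S14375

/-- Let k be an algebraically closed field, F an irreducible scheme of finite type over k, and f : X → Y
a k-morphism of schemes of finite type over k with Y irreducible which is locally trivial with fibre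
F: every point of Y has an open neighbourhood V such that f⁻¹(V) is isomorphic over V to V ×_k F.
Then X is irreducible. (The published statement is for varieties, i.e. reduced separated schemes;
this row assumes neither.) -/
theorem result (k : Type u) [Field k] [IsAlgClosed k]
    {X Y F : Scheme.{u}} (qX : X ⟶ Spec (CommRingCat.of k)) (qY : Y ⟶ Spec (CommRingCat.of k))
    (qF : F ⟶ Spec (CommRingCat.of k))
    [LocallyOfFiniteType qX] [QuasiCompact qX] [LocallyOfFiniteType qY] [QuasiCompact qY]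
    [LocallyOfFiniteType qF] [QuasiCompact qF] [IrreducibleSpace ↥F] [IrreducibleSpace ↥Y]
    (f : X ⟶ Y) (hf : f ≫ qY = qX)
    (htriv : ∀ y : ↥Y, ∃ V : Y.Opens, y ∈ V ∧
      ∃ e : (↑(f ⁻¹ᵁ V) : Scheme.{u}) ≅ pullback (V.ι ≫ qY) qF, e.hom ≫ pullback.fst (V.ι ≫ qY) qF = f ∣_ V) :
    IrreducibleSpace ↥X := by
  classical
  letI : F.Over (Spec (CommRingCat.of k)) := ⟨qF⟩
  haveI hgi : GeometricallyIrreducible qF :=
    Groth.Agent.Lib.Helper6.SepCl.geometricallyIrreducible_of_isSepClosed k F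
  have key : ∀ y : Y, ∃ V : Y.Opens, y ∈ V ∧ IsPreirreducible (f ⁻¹' (V : Set Y)) ∧
      (∀ y' ∈ V, ∃ x : X, f x = y') := by
    intro y
    obtain ⟨V, hyV, e, he⟩ := htriv y
    have hVirr : IsIrreducible (V : Set Y) :=
      ⟨⟨y, hyV⟩, (PreirreducibleSpace.isPreirreducible_univ).open_subset V.2 (Set.subset_univ _)⟩
    haveI : IrreducibleSpace ↥(V : Scheme.{u}) := isIrreducible_iff_irreducibleSpace.mp hVirr
    haveI : IrreducibleSpace ↥(pullback (V.ι ≫ qY) qF) := inferInstance
    haveI hirr : IrreducibleSpace ↥((f ⁻¹ᵁ V : X.Opens) : Scheme.{u}) :=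
      Groth.Agent.Lib.Helper6.SepCl.irreducibleSpace_of_surjective
        (Scheme.homeoOfIso e).symm.continuous (Scheme.homeoOfIso e).symm.surjective
    refine ⟨V, hyV, ?_, ?_⟩
    · have : IsIrreducible ((f ⁻¹ᵁ V : X.Opens) : Set X) :=
        isIrreducible_iff_irreducibleSpace.mpr hirr
      exact this.2
    · intro y' hy'
      obtain ⟨z, hz⟩ := (pullback.fst (V.ι ≫ qY) qF).surjective ⟨y', hy'⟩
      refine ⟨(e.inv z).1, ?_⟩
      have h1 : (f ∣_ V) (e.inv z) = ⟨y', hy'⟩ := by
        rw [← he, ← Scheme.Hom.comp_apply, Iso.inv_hom_id_assoc, hz]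
      have h2 := morphismRestrict_base_coe f V (e.inv z)
      rw [h1] at h2
      exact h2.symm
  haveI : PreirreducibleSpace X := by
    apply Groth.Agent.Lib.Helper6.SepCl.preirreducibleSpace_of_cover
    intro x x'
    obtain ⟨V, hV, hVp, hVs⟩ := key (f x)
    obtain ⟨V', hV', hVp', hVs'⟩ := key (f x')
    refine ⟨f ⁻¹' (V : Set Y), f ⁻¹' (V' : Set Y), V.2.preimage f.continuous,
      V'.2.preimage f.continuous, hVp, hVp', hV, hV', ?_⟩
    obtain ⟨y', hy1, hy2⟩ := nonempty_preirreducible_inter V.2 V'.2 ⟨_, hV⟩ ⟨_, hV'⟩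
    obtain ⟨x'', hx''⟩ := hVs y' hy1
    exact ⟨x'', by simpa [hx''] using hy1, by simpa [hx''] using hy2⟩
  haveI : Nonempty X := by
    obtain ⟨y⟩ := (inferInstance : Nonempty Y)
    obtain ⟨V, hV, -, hVs⟩ := key y
    obtain ⟨x, -⟩ := hVs y hV
    exact ⟨x⟩
  exact ⟨inferInstance⟩

end Groth.Agent.S14375
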