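import Groth.Statements.S14379
import Groth.Agent.Lib.Helper19RelNoetherC

set_option autoImplicit false
open scoped TensorProduct
universe u
open CAlg

namespace Groth.Agent.S14379


open Groth.Agent.Lib.Helper19RelNoether in
/-- generators of `R` over `V` give a surjection onto any fibre `F ⊗ R`. -/
theorem surj_fibre {V R : Type u} [CommRing V] [CommRing R] [Algebra V R]
    (F : Type u) [Field F] [Algebra V F] {m d : ℕ} (x : Fin d → R)
    (f : MvPolynomial (Fin m) V →ₐ[V] R) (hf : Function.Surjective f) :
    (MvPolynomial.aeval ((Algebra.TensorProduct.includeRight : R →ₐ[V] F ⊗[V] R).toRingHom ∘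
      (Fin.append x (fun j => f (MvPolynomial.X j)))) :
        MvPolynomial (Fin (d + m)) F →ₐ[F] F ⊗[V] R).toRingHom.IsIntegral := by
  apply RingHom.isIntegral_of_surjective
  set Z₀ : Fin (d + m) → R := Fin.append x (fun j => f (MvPolynomial.X j)) with hZ₀
  set ι : R →+* F ⊗[V] R := (Algebra.TensorProduct.includeRight : R →ₐ[V] F ⊗[V] R).toRingHom
    with hι
  set S : Subalgebra F (F ⊗[V] R) :=
    (MvPolynomial.aeval (ι ∘ Z₀) : MvPolynomial (Fin (d + m)) F →ₐ[F] F ⊗[V] R).range with hS
  have hgen : ∀ j : Fin m, (1 : F) ⊗ₜ[V] f (MvPolynomial.X j) ∈ S := by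
    intro j
    refine ⟨MvPolynomial.X (Fin.natAdd d j), ?_⟩
    change MvPolynomial.aeval (ι ∘ Z₀) (MvPolynomial.X (Fin.natAdd d j)) = _
    rw [MvPolynomial.aeval_X, Function.comp_apply, hZ₀, Fin.append_right]
    rfl
  have hone : ∀ r : R, (1 : F) ⊗ₜ[V] r ∈ S := by
    intro r
    obtain ⟨p, rfl⟩ := hf r
    induction p using MvPolynomial.induction_on with
    | C a =>
      have : (1 : F) ⊗ₜ[V] f (MvPolynomial.C a) = algebraMap F (F ⊗[V] R) (algebraMap V F a) := by
        rw [← MvPolynomial.algebraMap_eq, AlgHom.commutes, Algebra.TensorProduct.algebraMap_apply]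
        calc (1 : F) ⊗ₜ[V] (algebraMap V R a) = (1 : F) ⊗ₜ[V] (a • (1 : R)) := by
              rw [Algebra.algebraMap_eq_smul_one]
          _ = a • ((1 : F) ⊗ₜ[V] (1 : R)) := TensorProduct.tmul_smul _ _ _
          _ = (a • (1 : F)) ⊗ₜ[V] (1 : R) := TensorProduct.smul_tmul' _ _ _
          _ = _ := by rw [← Algebra.algebraMap_eq_smul_one]; rfl
      rw [this]
      exact S.algebraMap_mem _
    | add p q hp hq =>
      rw [map_add, TensorProduct.tmul_add]
      exact S.add_mem hp hq
    | mul_X p j hp =>
      rw [map_mul]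
      have : (1 : F) ⊗ₜ[V] (f p * f (MvPolynomial.X j)) =
          ((1 : F) ⊗ₜ[V] f p) * ((1 : F) ⊗ₜ[V] f (MvPolynomial.X j)) := by
        rw [Algebra.TensorProduct.tmul_mul_tmul, mul_one]
      rw [this]
      exact S.mul_mem hp (hgen j)
  intro t
  have : t ∈ S := by
    induction t using TensorProduct.induction_on with
    | zero => exact S.zero_mem
    | tmul c r =>
      have : c ⊗ₜ[V] r = c • ((1 : F) ⊗ₜ[V] r) := by
        rw [TensorProduct.smul_tmul', smul_eq_mul, mul_one]
      rw [this]
      exact S.smul_mem (hone r) c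
    | add a b ha hb => exact S.add_mem ha hb
  exact this

/-- integral + finite type target gives finite. -/
theorem finite_of_int {V R : Type u} [CommRing V] [CommRing R] [Algebra V R] [Algebra.FiniteType V R]
    (F : Type u) [Field F] [Algebra V F] {d : ℕ}
    (g : MvPolynomial (Fin d) F →ₐ[F] F ⊗[V] R) (hg : g.toRingHom.IsIntegral) :
    g.toRingHom.Finite := by
  have fin : Algebra.FiniteType F (F ⊗[V] R) := inferInstance
  have h : algebraMap F (F ⊗[V] R) = g.toRingHom.comp (algebraMap F (MvPolynomial (Fin d) F)) := by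
    ext c
    exact (g.commutes c).symm
  exact hg.to_finite (h ▸ RingHom.finiteType_algebraMap.mpr fin).of_comp_finiteType

/-- Let V be a discrete valuation ring with residue field k and fraction field K, let R be a flat
V-algebra of finite type such that both fibre rings k ⊗_V R and K ⊗_V R have Krull dimension at most
d, let x_1, …, x_d be elements of R and let N ≥ 1 be an integer. Then there are elements y_1, …, y_d
of the subring of R generated by the N-th powers of elements of R such that, setting f_i = x_i +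
y_i, the fibre ring k ⊗_V R is finite over the polynomial ring k[T_1, …, T_d] via T_i ↦ 1 ⊗ f_i and
K ⊗_V R is finite over K[T_1, …, T_d] via T_i ↦ 1 ⊗ f_i; in other words the morphism (f_1, …, f_d)
to affine d-space over V is finite on both fibres. -/
theorem result (V : Type u) [CommRing V] [IsDomain V]
    [IsDiscreteValuationRing V] (R : Type u) [CommRing R] [Algebra V R] [Module.Flat V R]
    [Algebra.FiniteType V R] (d : ℕ)
    (hs : ringKrullDim (IsLocalRing.ResidueField V ⊗[V] R) ≤ d)
    (hη : ringKrullDim (FractionRing V ⊗[V] R) ≤ d)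
    (x : Fin d → R) (N : ℕ) (hN : 1 ≤ N) :
    ∃ y : Fin d → R, (∀ i, y i ∈ Subring.closure (Set.range fun r : R => r ^ N)) ∧
      (MvPolynomial.aeval (fun i => (1 : IsLocalRing.ResidueField V) ⊗ₜ[V] (x i + y i)) :
          MvPolynomial (Fin d) (IsLocalRing.ResidueField V) →ₐ[IsLocalRing.ResidueField V]
            IsLocalRing.ResidueField V ⊗[V] R).toRingHom.Finite ∧
      (MvPolynomial.aeval (fun i => (1 : FractionRing V) ⊗ₜ[V] (x i + y i)) :
          MvPolynomial (Fin d) (FractionRing V) →ₐ[FractionRing V] FractionRing V ⊗[V] R).toRingHom.Finite := by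
  classical
  open Groth.Agent.Lib.Helper19RelNoether in
  obtain ⟨m, f, hf⟩ := Algebra.FiniteType.iff_quotient_mvPolynomial''.mp
    (inferInstance : Algebra.FiniteType V R)
  set Z₀ : Fin (d + m) → R := Fin.append x (fun j => f (MvPolynomial.X j)) with hZ₀
  have hZ : ∀ i, Z₀ (Fin.castAdd m i) - x i ∈ SN R N := by
    intro i
    rw [hZ₀, Fin.append_left, sub_self]
    exact Subring.zero_mem _
  obtain ⟨y, hy, hy₁, hy₂⟩ := main_induction N x
    (F₁ := IsLocalRing.ResidueField V) (A₁ := IsLocalRing.ResidueField V ⊗[V] R)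
    ((Algebra.TensorProduct.includeRight : R →ₐ[V] IsLocalRing.ResidueField V ⊗[V] R).toRingHom)
    (F₂ := FractionRing V) (A₂ := FractionRing V ⊗[V] R)
    ((Algebra.TensorProduct.includeRight : R →ₐ[V] FractionRing V ⊗[V] R).toRingHom)
    hN hs hη (d + m) Z₀ (Fin.castAdd m) (Fin.castAdd_injective d m) hZ
    (surj_fibre (IsLocalRing.ResidueField V) x f hf) (surj_fibre (FractionRing V) x f hf)
  exact ⟨y, hy, finite_of_int (IsLocalRing.ResidueField V) _ hy₁,
    finite_of_int (FractionRing V) _ hy₂⟩

end Groth.Agent.S14379
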