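import Groth.Statements.S1438
import Mathlib

set_option autoImplicit false
universe u
open FlatMor

namespace Groth.Agent.S1438

open AlgebraicGeometry CategoryTheory Limits in
/-- A separated scheme with an open covering by n + 1 affine opens has affine stratification number at
most n: it admits an affine stratification with index set {0, …, n}. -/
theorem result (X : Scheme.{u}) [X.IsSeparated] (n : ℕ) (U : Fin (n + 1) → X.Opens)
    (hU : ∀ i, IsAffineOpen (U i)) (hcov : ⨆ i, U i = ⊤) :
    MoreMor.HasAffineStratification X n := by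
  open AlgebraicGeometry CategoryTheory Limits in
  classical
  have hex : ∀ x : X, (Finset.univ.filter (fun i => x ∈ U i)).Nonempty := by
    intro x
    have : x ∈ (⨆ i, U i : X.Opens) := by rw [hcov]; trivial
    rw [TopologicalSpace.Opens.mem_iSup] at this
    obtain ⟨i, hi⟩ := this
    exact ⟨i, by simp [hi]⟩
  let m : X → Fin (n + 1) := fun x => (Finset.univ.filter (fun i => x ∈ U i)).min' (hex x)
  have hm_mem : ∀ x, x ∈ U (m x) := by
    intro x
    have := Finset.min'_mem _ (hex x)
    simpa using this
  have hm_min : ∀ x i, x ∈ U i → m x ≤ i := by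
    intro x i hi
    exact Finset.min'_le _ i (by simp [hi])
  -- closed sets C j = complement of the union of earlier opens
  have hCcl : ∀ j : Fin (n + 1), IsClosed (⋂ j' : Fin (n + 1), ⋂ (_ : j' < j), ((U j' : Set X))ᶜ) :=
    fun j => isClosed_iInter fun j' => isClosed_iInter fun _ => (U j').2.isClosed_compl
  have hC : ∀ (j : Fin (n + 1)) (x : X),
      x ∈ (⋂ j' : Fin (n + 1), ⋂ (_ : j' < j), ((U j' : Set X))ᶜ) ↔ j ≤ m x := by
    intro j x
    simp only [Set.mem_iInter, Set.mem_compl_iff, SetLike.mem_coe]
    constructor
    · intro h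
      by_contra hlt
      exact h (m x) (not_le.1 hlt) (hm_mem x)
    · intro h j' hj' hx
      exact absurd (lt_of_le_of_lt (hm_min x j' hx) hj') (not_lt.2 h)
  refine ⟨fun x => Fin.rev (m x), ?_, ?_⟩
  · intro i
    have : {x : X | Fin.rev (m x) ≤ i} =
        ⋂ j' : Fin (n + 1), ⋂ (_ : j' < Fin.rev i), ((U j' : Set X))ᶜ := by
      ext x
      rw [hC, Set.mem_ofPred_eq, Fin.rev_le_iff]
    rw [this]
    exact hCcl _
  · intro i
    set j := Fin.rev i with hj
    let C : TopologicalSpace.Closeds X :=
      ⟨⋂ j' : Fin (n + 1), ⋂ (_ : j' < j), ((U j' : Set X))ᶜ, hCcl j⟩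
    let I := Scheme.IdealSheafData.vanishingIdeal C
    have hUj : IsAffine (U j : Scheme) := hU j
    have haff : IsAffineHom (U j).ι := by
      have h1 : IsAffineHom ((U j).ι ≫ terminal.from X) := by
        have : (U j).ι ≫ terminal.from X = terminal.from _ := terminal.hom_ext _ _
        rw [this]
        infer_instance
      exact IsAffineHom.of_comp (f := (U j).ι) (g := terminal.from X)
    refine ⟨pullback I.subschemeι (U j).ι, pullback.snd I.subschemeι (U j).ι ≫ (U j).ι,
      inferInstance, ?_, inferInstance, ?_⟩
    · exact isAffine_of_isAffineHom (pullback.snd I.subschemeι (U j).ι)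
    · rw [Scheme.Pullback.range_snd_comp, Scheme.IdealSheafData.range_subschemeι,
        Scheme.IdealSheafData.coe_support_vanishingIdeal, Scheme.Opens.range_ι]
      ext x
      simp only [Set.mem_inter_iff, Set.mem_ofPred_eq, SetLike.mem_coe]
      have hxC : x ∈ C ↔ j ≤ m x := hC j x
      rw [hxC]
      constructor
      · rintro ⟨h1, h2⟩
        have : m x = j := le_antisymm (hm_min x j h2) h1
        rw [this, hj, Fin.rev_rev]
      · intro h
        have : m x = j := by rw [hj, ← h, Fin.rev_rev]
        rw [← this]
        exact ⟨le_rfl, hm_mem x⟩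

end Groth.Agent.S1438
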