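import Groth.Statements.S1439
import Mathlib
import Groth.Agent.Lib.Helper16AffStrat
-- import your own Groth.Agent.* helpers here

set_option autoImplicit false
set_option linter.style.haveILetI false
set_option linter.unusedSectionVars false
universe u
open FlatMor

namespace Groth.Agent.S1439

open AlgebraicGeometry CategoryTheory Limits
open Groth.Agent.Lib.Helper2.Weight
open Groth.Agent.Lib.Helper16.AffStrat


open AlgebraicGeometry CategoryTheory Limits in
/-- Let f : X → Y be surjective and quasi-finite with X affine and Y separated and nonempty, and let w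
be a positive weighting of f. If the fibre integral of w along f takes exactly k distinct values,
then Y has an affine stratification with index set {0, …, k − 1} (its affine stratification number
is at most k − 1). -/
theorem result {X Y : Scheme.{u}} (f : X ⟶ Y) [Surjective f] [LocallyQuasiFinite f] [LocallyOfFiniteType f] [QuasiCompact f]
    [IsAffine X] [Y.IsSeparated] [Nonempty ↑Y] (w : ↑X → ℤ) (hw : MoreMor.IsWeighting f w) (hpos : ∀ x, 0 < w x)
    (k : ℕ) (hk : (Set.range (MoreMor.fibreIntegral f w)).ncard = k) (hkfin : (Set.range (MoreMor.fibreIntegral f w)).Finite) :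
    MoreMor.HasAffineStratification Y (k - 1) := by
  classical
  set I := MoreMor.fibreIntegral f w with hI
  haveI : IsAffineHom f := isAffineHom_of_isAffine_of_isSeparated f
  haveI : IsSeparated f := inferInstance
  have hfin : ∀ y, (f ⁻¹' {y}).Finite := fun y => Scheme.Hom.finite_preimage_singleton f y
  have hopen : ∀ r : ℤ, IsOpen {y : Y | r ≤ I y} := by
    intro r
    rw [isOpen_iff_forall_mem_open]
    intro y hy
    obtain ⟨N, hN, hyN, h⟩ := exists_etale_nhd_le f hfin w hw hpos y
    exact ⟨N, fun y' hy' => le_trans hy (h y' hy'), hN, hyN⟩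
  have hclosed : ∀ r : ℤ, IsClosed {y : Y | I y ≤ r} := by
    intro r
    have : {y : Y | I y ≤ r} = {y : Y | r + 1 ≤ I y}ᶜ := by
      ext y
      change I y ≤ r ↔ ¬ (r + 1 ≤ I y)
      omega
    rw [this]
    exact (hopen (r + 1)).isClosed_compl
  have hI1 : ∀ y, 1 ≤ I y := by
    intro y
    obtain ⟨x, rfl⟩ := f.surjective y
    have h1 := le_fI f w hpos Set.univ (f x) (by rw [Set.inter_univ]; exact hfin _) x trivial rfl
    rw [← fibreIntegral_eq_fI_univ] at h1
    have := hpos x
    have h2 : I (f x) = MoreMor.fibreIntegral f w (f x) := rfl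
    omega
  let S : Finset ℤ := hkfin.toFinset
  have hmem : ∀ y, I y ∈ S := fun y => by
    rw [Set.Finite.mem_toFinset]
    exact ⟨y, rfl⟩
  have hScard : S.card = k := by
    rw [← hk, Set.ncard_eq_toFinset_card _ hkfin]
  have hkpos : 0 < k := by
    obtain ⟨y⟩ := ‹Nonempty ↑Y›
    rw [← hScard]
    exact Finset.card_pos.mpr ⟨_, hmem y⟩
  have hk1 : k - 1 + 1 = k := by omega
  let e : Fin (k - 1 + 1) ≃o S := S.orderIsoOfFin (by rw [hScard, hk1])
  refine ⟨fun y => e.symm ⟨I y, hmem y⟩, ?_, ?_⟩
  · intro i
    have : {y : Y | e.symm ⟨I y, hmem y⟩ ≤ i} = {y : Y | I y ≤ ((e i : S) : ℤ)} := by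
      ext y
      change e.symm ⟨I y, hmem y⟩ ≤ i ↔ I y ≤ ((e i : S) : ℤ)
      rw [OrderIso.symm_apply_le]
      exact Iff.rfl
    rw [this]
    exact hclosed _
  · intro i
    have hset : {y : Y | e.symm ⟨I y, hmem y⟩ = i} = {y : Y | I y = ((e i : S) : ℤ)} := by
      ext y
      change e.symm ⟨I y, hmem y⟩ = i ↔ I y = ((e i : S) : ℤ)
      rw [OrderIso.symm_apply_eq]
      exact Subtype.ext_iff
    rw [hset]
    have hr : ((e i : S) : ℤ) ∈ S := (e i).2
    obtain ⟨y0, hy0⟩ : ∃ y, I y = ((e i : S) : ℤ) := by
      rw [Set.Finite.mem_toFinset] at hr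
      exact hr
    exact level f w hw hpos ((e i : S) : ℤ) (by rw [← hy0]; exact hI1 y0) (hclosed _) (hopen _)

end Groth.Agent.S1439
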