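import Groth.Statements.S14390
import Mathlib
-- import your own Groth.Agent.* helpers here

set_option autoImplicit false
set_option linter.style.haveILetI false
set_option linter.unusedSectionVars false
open CategoryTheory CategoryTheory.Limits AlgebraicGeometry Opposite
universe u
open CAlg

namespace Groth.Agent.S14390


/-- Let V be a discrete valuation ring of characteristic zero with uniformizer ϖ, whose residue field is
perfect of characteristic p > 0, and let f : X → Y be a morphism of schemes of finite type over S =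
Spec V (structure morphisms p_X = f ≫ p_Y) whose underlying continuous map is closed. Write X_η =
p_X⁻¹(D(ϖ)) and Y_η = p_Y⁻¹(D(ϖ)) for the generic fibres, open subschemes whose complements are the
closed fibres. Suppose f is η-étale: there is an open U of X containing the closed fibre (U ∪ X_η =
X) such that the restriction of f to U ∩ X_η is étale. Then there is an open W of Y containing the
closed fibre of Y (W ∪ Y_η = Y) such that the restriction of f to f⁻¹(W) ∩ X_η is étale, i.e.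
f⁻¹(W)_η → W_η is étale. -/
theorem result (V : Type u) [CommRing V] [IsDomain V]
    [IsDiscreteValuationRing V] [CharZero V] (ϖ : V) (hϖ : Irreducible ϖ) (p : ℕ) [Fact p.Prime]
    [CharP (IsLocalRing.ResidueField V) p] [PerfectField (IsLocalRing.ResidueField V)]
    {X Y : Scheme.{u}} (pX : X ⟶ Spec (CommRingCat.of V)) (pY : Y ⟶ Spec (CommRingCat.of V))
    [LocallyOfFiniteType pX] [QuasiCompact pX] [LocallyOfFiniteType pY] [QuasiCompact pY]
    (f : X ⟶ Y) (w : f ≫ pY = pX) (hcl : IsClosedMap f.base)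
    (hη : ∃ U : X.Opens, U ⊔ pX ⁻¹ᵁ (PrimeSpectrum.basicOpen ϖ : (Spec (CommRingCat.of V)).Opens) = ⊤ ∧
      Etale ((U ⊓ pX ⁻¹ᵁ (PrimeSpectrum.basicOpen ϖ : (Spec (CommRingCat.of V)).Opens)).ι ≫ f)) :
    ∃ W : Y.Opens, W ⊔ pY ⁻¹ᵁ (PrimeSpectrum.basicOpen ϖ : (Spec (CommRingCat.of V)).Opens) = ⊤ ∧
      Etale ((f ⁻¹ᵁ W ⊓ pX ⁻¹ᵁ (PrimeSpectrum.basicOpen ϖ : (Spec (CommRingCat.of V)).Opens)).ι ≫ f) := by
  obtain ⟨U, hU, hEt⟩ := hη
  obtain ⟨D, hD⟩ : ∃ D : (Spec (CommRingCat.of V)).Opens, D = PrimeSpectrum.basicOpen ϖ := ⟨_, rfl⟩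
  rw [← hD] at hU hEt ⊢
  have hXη : pX ⁻¹ᵁ D = f ⁻¹ᵁ (pY ⁻¹ᵁ D) := by
    rw [← w]
    rfl
  -- the closed complement of U
  have hCclosed : IsClosed ((U : Set X)ᶜ) := U.isOpen.isClosed_compl
  have hfC : IsClosed (f.base '' ((U : Set X)ᶜ)) := hcl _ hCclosed
  let W : Y.Opens := ⟨(f.base '' ((U : Set X)ᶜ))ᶜ, hfC.isOpen_compl⟩
  have hle : f ⁻¹ᵁ W ⊓ pX ⁻¹ᵁ D ≤ U ⊓ pX ⁻¹ᵁ D := by
    intro x hx
    refine ⟨?_, hx.2⟩
    by_contra hxU
    exact hx.1 ⟨x, hxU, rfl⟩
  refine ⟨W, ?_, ?_⟩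
  · rw [eq_top_iff]
    intro y _
    by_cases hy : y ∈ (f.base '' ((U : Set X)ᶜ))
    · right
      obtain ⟨x, hxU, rfl⟩ := hy
      have hx : x ∈ U ⊔ pX ⁻¹ᵁ D := by rw [hU]; trivial
      rcases hx with hx | hx
      · exact absurd hx hxU
      · rw [hXη] at hx
        exact hx
    · left
      exact hy
  · have hfac : (f ⁻¹ᵁ W ⊓ pX ⁻¹ᵁ D).ι ≫ f = X.homOfLE hle ≫ ((U ⊓ pX ⁻¹ᵁ D).ι ≫ f) := by
      rw [← Category.assoc, Scheme.homOfLE_ι]
    rw [hfac]
    infer_instance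

end Groth.Agent.S14390
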