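import Groth.Statements.S14397
import Mathlib.Algebra.Group.Torsion
import Mathlib.LinearAlgebra.Quotient.Basic
import Mathlib.Tactic.Ring
import Mathlib.Tactic.Linarith

set_option autoImplicit false
universe u
open DualGr

namespace Groth.Agent.S14397

/-- Let (V, E) with endpoint map E → V × V be a finite multigraph (loops and parallel edges allowed; the
order of the two endpoints is an auxiliary orientation), and let D_1, …, D_n be finite sets of edges
such that every edge lies outside at least one D_i. For each i let Γ_i be the multigraph obtained by
contracting the edges of D_i, and let H₁(Γ, ℤ) → H₁(Γ_i, ℤ) be the map of cycle lattices (integer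
edge vectors with zero boundary) given by restriction to the surviving edges. Then the map H₁(Γ, ℤ)
→ ⊕_i H₁(Γ_i, ℤ) has torsion-free cokernel. (The published statement is about the connected labelled
dual graph of the closed fibre of a nodal curve, smooth outside a normal crossing divisor with
components D_1, …, D_n, over a Noetherian regular strictly local base; Γ_i is the dual graph of the
fibre over the generic point of D_i, the lattices are identified with the character groups of the
toric parts of the Picard schemes of these fibres, and the map is the generization map of character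
groups; this row states the assertion about cycle lattices, for any finite multigraph, which is what
the argument establishes.) -/
theorem result
    {V E : Type u} [Fintype V] [Fintype E] [DecidableEq V] [DecidableEq E]
    (ends : E → V × V) {n : ℕ} (D : Fin n → Finset E) (hcover : ∀ e : E, ∃ i : Fin n, e ∉ D i) :
    IsAddTorsionFree (((i : Fin n) → ↥(DualGr.cycleLattice (DualGr.ctrEnds ends (D i)))) ⧸
      LinearMap.range (LinearMap.pi fun i : Fin n => DualGr.genMap ends (D i))) := by
  classical
  refine ⟨fun m hm a b hab => ?_⟩
  simp only at hab
  obtain ⟨x, rfl⟩ := Submodule.Quotient.mk_surjective _ a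
  obtain ⟨y, rfl⟩ := Submodule.Quotient.mk_surjective _ b
  have hm' : (m : ℤ) ≠ 0 := by exact_mod_cast hm
  rw [← Submodule.Quotient.mk_smul, ← Submodule.Quotient.mk_smul, Submodule.Quotient.eq] at hab
  obtain ⟨z, hz⟩ := hab
  -- coordinates
  have hcoord : ∀ (i : Fin n) (e : E) (he : e ∉ D i),
      z.1 e = (m : ℤ) * ((x i).1 ⟨e, he⟩ - (y i).1 ⟨e, he⟩) := by
    intro i e he
    have h1 := congrFun hz i
    have h2 := congrArg (fun w : ↥(DualGr.cycleLattice (DualGr.ctrEnds ends (D i))) => w.1 ⟨e, he⟩) h1
    simp only [LinearMap.pi_apply] at h2
    have h3 : (DualGr.genMap ends (D i) z).1 ⟨e, he⟩ = z.1 e := rfl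
    rw [h3] at h2
    rw [h2]
    simp
    ring
  -- divide
  set z' : E → ℤ := fun e => z.1 e / (m : ℤ) with hz'
  have hdiv : ∀ e, (m : ℤ) * z' e = z.1 e := by
    intro e
    obtain ⟨i, hi⟩ := hcover e
    rw [hz']
    simp only
    rw [hcoord i e hi, Int.mul_ediv_cancel_left _ hm']
  have hsmul : (m : ℤ) • z' = z.1 := by
    funext e
    simp only [Pi.smul_apply, smul_eq_mul]
    exact hdiv e
  have hz'mem : z' ∈ DualGr.cycleLattice ends := by
    have h1 : DualGr.boundaryHom ends ((m : ℤ) • z') = 0 := by
      rw [hsmul]; exact z.2
    rw [map_smul] at h1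
    show DualGr.boundaryHom ends z' = 0
    funext v
    have h2 := congrFun h1 v
    simp only [Pi.smul_apply, smul_eq_mul, Pi.zero_apply] at h2
    rcases mul_eq_zero.mp h2 with h | h
    · exact absurd h hm'
    · exact h
  rw [Submodule.Quotient.eq]
  refine ⟨⟨z', hz'mem⟩, ?_⟩
  funext i
  apply Subtype.ext
  funext e
  obtain ⟨e, he⟩ := e
  show z' e = (x i - y i).1 ⟨e, he⟩
  have h4 := hdiv e
  rw [hcoord i e he] at h4
  have h5 := mul_left_cancel₀ hm' h4
  rw [h5]
  simp

end Groth.Agent.S14397
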