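import Groth.Statements.S1440
-- import your own Groth.Agent.* helpers here
import Mathlib

set_option autoImplicit false
universe u
open FlatMor

namespace Groth.Agent.S1440

set_option linter.style.haveILetI false

open AlgebraicGeometry CategoryTheory Limits Topology TopologicalSpace

lemma exists_common_den {A K : Type*} [CommRing A] [Field K] (ev : A →+* K)
    (hfrac : ∀ k : K, ∃ a s : A, ev s ≠ 0 ∧ k * ev s = ev a) {n : ℕ} (κ : Fin n → K) :
    ∃ s : A, ev s ≠ 0 ∧ ∀ j, ∃ a : A, κ j * ev s = ev a := by
  classical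
  choose a s hs hk using hfrac
  refine ⟨∏ j, s (κ j), ?_, fun j => ⟨a (κ j) * ∏ i ∈ Finset.univ.erase j, s (κ i), ?_⟩⟩
  · rw [map_prod]; exact Finset.prod_ne_zero_iff.2 (fun j _ => hs _)
  · rw [← Finset.mul_prod_erase Finset.univ (fun i => s (κ i)) (Finset.mem_univ j), map_mul,
      map_mul, ← mul_assoc, hk]

/-- spreading out a section of a finitely presented algebra over the residue field to a
finitely presented locally closed piece. -/
theorem exists_local_section {A B K : Type u} [CommRing A] [CommRing B] [Field K]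
    (φ : A →+* B) (hφ : φ.FinitePresentation) (ev : A →+* K) (τ : B →+* K)
    (hτ : τ.comp φ = ev)
    (hfrac : ∀ k : K, ∃ a s : A, ev s ≠ 0 ∧ k * ev s = ev a) :
    ∃ (s : A) (I : Ideal (Localization.Away s)), I.FG ∧
      ∃ (σ : B →+* Localization.Away s ⧸ I) (ev' : Localization.Away s ⧸ I →+* K),
        σ.comp φ = (Ideal.Quotient.mk I).comp (algebraMap A (Localization.Away s)) ∧
        ev'.comp ((Ideal.Quotient.mk I).comp (algebraMap A (Localization.Away s))) = ev := by
  letI := φ.toAlgebra
  have hφ' : Algebra.FinitePresentation A B := hφ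
  obtain ⟨n, π, hπ, hker⟩ := hφ'.out
  let πr : MvPolynomial (Fin n) A →+* B := π.toRingHom
  have hπr : Function.Surjective πr := hπ
  have hπC : ∀ r : A, πr (MvPolynomial.C r) = φ r := by
    intro r
    show π (MvPolynomial.C r) = φ r
    rw [← MvPolynomial.algebraMap_eq, AlgHom.commutes]; rfl
  have hτφ : ∀ r : A, τ (φ r) = ev r := fun r => by rw [← hτ]; rfl
  obtain ⟨s, hs, ha⟩ := exists_common_den ev hfrac (fun j : Fin n => τ (πr (MvPolynomial.X j)))
  choose a ha using ha
  have hsu : IsUnit (ev s) := isUnit_iff_ne_zero.2 hs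
  let evA' : Localization.Away s →+* K := IsLocalization.Away.lift s hsu
  have hevA' : ∀ r : A, evA' (algebraMap A (Localization.Away s) r) = ev r :=
    fun r => IsLocalization.Away.lift_eq s hsu r
  let α : Fin n → Localization.Away s := fun j =>
    IsLocalization.mk' (Localization.Away s) (a j)
      (⟨s, Submonoid.mem_powers s⟩ : Submonoid.powers s)
  have hα : ∀ j, evA' (α j) = τ (πr (MvPolynomial.X j)) := by
    intro j
    have h1 : α j * algebraMap A (Localization.Away s) s =
        algebraMap A (Localization.Away s) (a j) :=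
      IsLocalization.mk'_spec (Localization.Away s) (a j)
        (⟨s, Submonoid.mem_powers s⟩ : Submonoid.powers s)
    have h2 := congrArg evA' h1
    rw [map_mul, hevA', hevA', ← ha j] at h2
    exact mul_right_cancel₀ hs h2
  let ψ : MvPolynomial (Fin n) A →+* Localization.Away s :=
    MvPolynomial.eval₂Hom (algebraMap A (Localization.Away s)) α
  have hψ : evA'.comp ψ = τ.comp πr := by
    apply MvPolynomial.ringHom_ext
    · intro r
      show evA' (MvPolynomial.eval₂Hom (algebraMap A (Localization.Away s)) α (MvPolynomial.C r)) =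
        τ (πr (MvPolynomial.C r))
      rw [MvPolynomial.eval₂Hom_C, hevA', hπC, hτφ]
    · intro j
      show evA' (MvPolynomial.eval₂Hom (algebraMap A (Localization.Away s)) α (MvPolynomial.X j)) =
        τ (πr (MvPolynomial.X j))
      rw [MvPolynomial.eval₂Hom_X', hα]
  let I : Ideal (Localization.Away s) := (RingHom.ker πr).map ψ
  have hI : I.FG := Ideal.FG.map hker ψ
  have hIev : I ≤ RingHom.ker evA' := by
    rw [Ideal.map_le_iff_le_comap]
    intro g hg
    rw [Ideal.mem_comap, RingHom.mem_ker]
    have h1 : evA' (ψ g) = τ (πr g) := RingHom.congr_fun hψ g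
    rw [h1, (RingHom.mem_ker).1 hg, map_zero]
  refine ⟨s, I, hI, ?_⟩
  have hkerle : RingHom.ker πr ≤ RingHom.ker ((Ideal.Quotient.mk I).comp ψ) := by
    intro g hg
    rw [RingHom.mem_ker, RingHom.comp_apply, Ideal.Quotient.eq_zero_iff_mem]
    exact Ideal.mem_map_of_mem ψ hg
  let σ : B →+* Localization.Away s ⧸ I :=
    πr.liftOfSurjective hπr ⟨(Ideal.Quotient.mk I).comp ψ, hkerle⟩
  have hσ : ∀ g, σ (πr g) = Ideal.Quotient.mk I (ψ g) := fun g =>
    RingHom.liftOfSurjective_comp_apply πr hπr ⟨(Ideal.Quotient.mk I).comp ψ, hkerle⟩ g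
  let ev' : Localization.Away s ⧸ I →+* K :=
    Ideal.Quotient.lift I evA' (fun a ha => (RingHom.mem_ker).1 (hIev ha))
  refine ⟨σ, ev', ?_, ?_⟩
  · ext r
    show σ (φ r) = Ideal.Quotient.mk I (algebraMap A (Localization.Away s) r)
    rw [← hπC, hσ]
    show Ideal.Quotient.mk I (MvPolynomial.eval₂Hom (algebraMap A (Localization.Away s)) α
      (MvPolynomial.C r)) = _
    rw [MvPolynomial.eval₂Hom_C]
  · ext r
    show ev' (Ideal.Quotient.mk I (algebraMap A (Localization.Away s) r)) = ev r
    rw [Ideal.Quotient.lift_mk, hevA']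

/-- constructible sets are clopen in the constructible topology of a quasi-compact space. -/
theorem isOpen_constructibleTopology_of_isConstructible {X : Type*} [TopologicalSpace X]
    [CompactSpace X] {s : Set X} (hs : IsConstructible s) :
    IsOpen[constructibleTopology X] s ∧ IsOpen[constructibleTopology X] sᶜ := by
  induction hs using IsConstructible.empty_union_induction with
  | open_retrocompact U hU hU' =>
    refine ⟨IsCompact.isOpen_constructibleTopology_of_isOpen hU'.isCompact hU, ?_⟩
    refine IsCompact.isOpen_constructibleTopology_of_isClosed ?_ hU.isClosed_compl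
    rw [compl_compl]; exact hU'.isCompact
  | union s hs t ht ihs iht =>
    refine ⟨@IsOpen.union _ _ _ (constructibleTopology X) ihs.1 iht.1, ?_⟩
    rw [Set.compl_union]
    exact @IsOpen.inter _ (constructibleTopology X) _ _ ihs.2 iht.2
  | compl s hs ih =>
    refine ⟨ih.2, ?_⟩
    rw [compl_compl]; exact ih.1

theorem exists_local_stratum {X Y : Scheme.{u}} (f : X ⟶ Y) [LocallyOfFinitePresentation f]
    [QuasiSeparatedSpace Y]
    (x : X) (hbij : Function.Bijective (f.residueFieldMap x)) :
    ∃ (Z : Scheme.{u}) (z : Z ⟶ Y), f x ∈ Set.range z ∧ IsImmersion z ∧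
      LocallyOfFinitePresentation z ∧ QuasiCompact z ∧ QuasiSeparated z ∧
      ∃ s : Z ⟶ pullback f z, s ≫ pullback.snd f z = 𝟙 Z := by
  obtain ⟨V, hV0, hyV, -⟩ := (Opens.isBasis_iff_nbhd.mp Y.isBasis_affineOpens)
    (show f x ∈ (⊤ : Y.Opens) from trivial)
  have hV : IsAffineOpen V := hV0
  obtain ⟨U, hU0, hxU, hUV⟩ := (Opens.isBasis_iff_nbhd.mp X.isBasis_affineOpens)
    (show x ∈ f ⁻¹ᵁ V from hyV)
  have hU : IsAffineOpen U := hU0
  have hφ : (f.appLE V U hUV).hom.FinitePresentation := f.finitePresentation_appLE hV hU hUV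
  -- compatibility of evaluations
  have hnat : f.appLE V U hUV ≫ X.evaluation U x hxU =
      Y.evaluation V (f x) hyV ≫ f.residueFieldMap x := by
    rw [Scheme.evaluation_naturality, Scheme.Hom.appLE, Category.assoc]
    congr 1
    simp only [Scheme.evaluation]
    rw [← Category.assoc, TopCat.Presheaf.germ_res]
  let e : Y.residueField (f x) ≃+* X.residueField x :=
    RingEquiv.ofBijective (f.residueFieldMap x).hom hbij
  let τ : Γ(X, U) →+* Y.residueField (f x) :=
    (e.symm : X.residueField x →+* Y.residueField (f x)).comp (X.evaluation U x hxU).hom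
  have hτ : τ.comp (f.appLE V U hUV).hom = (Y.evaluation V (f x) hyV).hom := by
    ext r
    show e.symm ((X.evaluation U x hxU).hom ((f.appLE V U hUV).hom r)) = _
    rw [RingEquiv.symm_apply_eq]
    have := congrArg (fun g => g.hom r) hnat
    exact this
  have hfrac : ∀ k : Y.residueField (f x), ∃ a s : Γ(Y, V),
      (Y.evaluation V (f x) hyV).hom s ≠ 0 ∧
      k * (Y.evaluation V (f x) hyV).hom s = (Y.evaluation V (f x) hyV).hom a := by
    intro k
    obtain ⟨t, rfl⟩ := Y.residue_surjective (f x) k
    letI : Algebra Γ(Y, V) (Y.presheaf.stalk (f x)) :=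
      (Y.presheaf.germ V (f x) hyV).hom.toAlgebra
    haveI hloc : IsLocalization (hV.primeIdealOf ⟨f x, hyV⟩).asIdeal.primeCompl
        (Y.presheaf.stalk (f x)) := hV.isLocalization_stalk ⟨f x, hyV⟩
    obtain ⟨⟨a, s⟩, rfl⟩ := IsLocalization.mk'_surjective
      (hV.primeIdealOf ⟨f x, hyV⟩).asIdeal.primeCompl t
    refine ⟨a, s.1, ?_, ?_⟩
    · have hu : IsUnit (algebraMap Γ(Y, V) (Y.presheaf.stalk (f x)) s.1) :=
        IsLocalization.map_units _ s
      have hu' : IsUnit ((Y.evaluation V (f x) hyV).hom s.1) := hu.map (Y.residue (f x)).hom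
      exact hu'.ne_zero
    · have h1 := IsLocalization.mk'_spec (Y.presheaf.stalk (f x)) a s
      have h2 := congrArg (Y.residue (f x)).hom h1
      rw [map_mul] at h2
      exact h2
  obtain ⟨s, I, hI, σ, ev', hσ, hev'⟩ :=
    exists_local_section (f.appLE V U hUV).hom hφ (Y.evaluation V (f x) hyV).hom τ hτ hfrac
  -- the scheme
  let q : Localization.Away s →+* Localization.Away s ⧸ I := Ideal.Quotient.mk I
  let l : Γ(Y, V) →+* Localization.Away s := algebraMap Γ(Y, V) (Localization.Away s)
  haveI hz1 : IsClosedImmersion (Spec.map (CommRingCat.ofHom q)) :=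
    IsClosedImmersion.spec_of_surjective _ Ideal.Quotient.mk_surjective
  haveI hz1' : LocallyOfFinitePresentation (Spec.map (CommRingCat.ofHom q)) := by
    rw [LocallyOfFinitePresentation.SpecMap_iff]
    refine RingHom.FinitePresentation.of_surjective _ Ideal.Quotient.mk_surjective ?_
    show (RingHom.ker (Ideal.Quotient.mk I)).FG
    rwa [Ideal.mk_ker]
  haveI hz2 : IsOpenImmersion (Spec.map (CommRingCat.ofHom l)) := inferInstance
  let z : Spec (CommRingCat.of (Localization.Away s ⧸ I)) ⟶ Y :=
    Spec.map (CommRingCat.ofHom q) ≫ Spec.map (CommRingCat.ofHom l) ≫ hV.fromSpec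
  have hzι : z = Spec.map (CommRingCat.ofHom (q.comp l)) ≫ hV.fromSpec := by
    show _ ≫ _ ≫ _ = _
    rw [← Category.assoc, ← Spec.map_comp]; rfl
  haveI h3 : IsOpenImmersion hV.fromSpec := inferInstance
  haveI h4 : IsOpenImmersion (Spec.map (CommRingCat.ofHom l) ≫ hV.fromSpec) := inferInstance
  haveI h5 : IsImmersion (Spec.map (CommRingCat.ofHom l) ≫ hV.fromSpec) := inferInstance
  haveI h6 : LocallyOfFinitePresentation (Spec.map (CommRingCat.ofHom l) ≫ hV.fromSpec) :=
    inferInstance
  haveI h7 : IsImmersion (Spec.map (CommRingCat.ofHom q)) := inferInstance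
  have hzi : IsImmersion z := by
    show IsImmersion (_ ≫ _ ≫ _)
    infer_instance
  have hzp : LocallyOfFinitePresentation z := by
    show LocallyOfFinitePresentation (_ ≫ _ ≫ _)
    infer_instance
  refine ⟨Spec (CommRingCat.of (Localization.Away s ⧸ I)), z, ?_, hzi, hzp,
    inferInstance, inferInstance, ?_⟩
  · -- the point
    have hpt : Spec.map (Y.evaluation V (f x) hyV) ≫ hV.fromSpec =
        Y.fromSpecResidueField (f x) := by
      have h1 : hV.fromSpecStalk hyV =
          Spec.map (Y.presheaf.germ V (f x) hyV) ≫ hV.fromSpec := rfl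
      rw [Scheme.fromSpecResidueField, ← hV.fromSpecStalk_eq_fromSpecStalk hyV, h1,
        Scheme.evaluation, Spec.map_comp, Category.assoc]
    have hcomp : Spec.map (CommRingCat.ofHom ev') ≫ z = Y.fromSpecResidueField (f x) := by
      rw [hzι, ← Category.assoc, ← Spec.map_comp, ← hpt]
      congr 2
      exact CommRingCat.hom_ext hev'
    obtain ⟨w⟩ : Nonempty (Spec (Y.residueField (f x))) := inferInstance
    refine ⟨Spec.map (CommRingCat.ofHom ev') w, ?_⟩
    rw [← Scheme.Hom.comp_apply, hcomp, Scheme.fromSpecResidueField_apply]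
  · -- the section
    have hσc : f.appLE V U hUV ≫ CommRingCat.ofHom σ = CommRingCat.ofHom (q.comp l) :=
      CommRingCat.hom_ext hσ
    have hsec : (Spec.map (CommRingCat.ofHom σ) ≫ hU.fromSpec) ≫ f = z := by
      rw [Category.assoc, ← IsAffineOpen.SpecMap_appLE_fromSpec f hV hU hUV, ← Category.assoc,
        ← Spec.map_comp, hσc, hzι]
    refine ⟨pullback.lift (Spec.map (CommRingCat.ofHom σ) ≫ hU.fromSpec) (𝟙 _)
      (by rw [hsec, Category.id_comp]), ?_⟩
    rw [pullback.lift_snd]

open AlgebraicGeometry CategoryTheory Limits in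
/-- Let f : X → Y be locally of finite presentation with Y quasi-compact and quasi-separated, and assume
f is completely decomposed: every point y of Y is the image of a point x at which the residue field
extension is trivial. Then there are finitely many immersions Z_i → Y of finite presentation,
jointly surjective, such that each base change X ×_Y Z_i → Z_i admits a section. -/
theorem result {X Y : Scheme.{u}} (f : X ⟶ Y) [LocallyOfFinitePresentation f] [CompactSpace ↑Y] [QuasiSeparatedSpace ↑Y]
    (hcd : ∀ y : Y, ∃ x : X, f x = y ∧ Function.Bijective (f.residueFieldMap x)) :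
    ∃ (n : ℕ) (Z : Fin n → Scheme.{u}) (z : ∀ i, Z i ⟶ Y), (∀ y : Y, ∃ i, y ∈ Set.range ⇑(z i)) ∧
      ∀ i, IsImmersion (z i) ∧ LocallyOfFinitePresentation (z i) ∧ QuasiCompact (z i) ∧ QuasiSeparated (z i) ∧
        ∃ s : Z i ⟶ pullback f (z i), s ≫ pullback.snd f (z i) = 𝟙 (Z i) := by
  classical
  have hloc : ∀ y : Y, ∃ (Z : Scheme.{u}) (z : Z ⟶ Y), y ∈ Set.range z ∧ IsImmersion z ∧
      LocallyOfFinitePresentation z ∧ QuasiCompact z ∧ QuasiSeparated z ∧
      ∃ s : Z ⟶ pullback f z, s ≫ pullback.snd f z = 𝟙 Z := by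
    intro y
    obtain ⟨x, rfl, hb⟩ := hcd y
    exact exists_local_stratum f x hb
  choose Z z hz1 hz2 hz3 hz4 hz5 hz6 using hloc
  have hopen : ∀ y, IsOpen[constructibleTopology Y] (Set.range (z y)) := by
    intro y
    haveI := hz3 y
    haveI := hz4 y
    have hc : IsConstructible (Set.range (z y)) := by
      rw [← Set.image_univ]
      exact (z y).isConstructible_image IsConstructible.univ
    exact (isOpen_constructibleTopology_of_isConstructible hc).1
  obtain ⟨t, ht⟩ := (isCompact_univ (X := WithConstructibleTopology Y)).elim_finite_subcover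
    (fun y : Y => WithTopology.ofTopology ⁻¹' (Set.range (z y)))
    (fun y => WithConstructibleTopology.isOpen_iff.2 (hopen y))
    (fun w _ => Set.mem_iUnion.2 ⟨WithTopology.ofTopology w, hz1 _⟩)
  refine ⟨t.card, fun i => Z (t.equivFin.symm i).1, fun i => z (t.equivFin.symm i).1, ?_, ?_⟩
  · intro y
    obtain ⟨y', hy', hmem⟩ := Set.mem_iUnion₂.1
      (ht (Set.mem_univ (WithTopology.toTopology (constructibleTopology Y) y)))
    refine ⟨t.equivFin ⟨y', hy'⟩, ?_⟩
    show y ∈ Set.range ⇑(z ↑(t.equivFin.symm (t.equivFin ⟨y', hy'⟩)))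
    rw [Equiv.symm_apply_apply]
    exact hmem
  · intro i
    exact ⟨hz2 _, hz3 _, hz4 _, hz5 _, hz6 _⟩

end Groth.Agent.S1440
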