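import Groth.Statements.S14401
import Mathlib
import Groth.Agent.Lib.Helper14IrrComp
-- import your own Groth.Agent.* helpers here

set_option autoImplicit false
universe u
open CategoryTheory AlgebraicGeometry
open Props

namespace Groth.Agent.S14401

/-- Let X be a Noetherian scheme all of whose local rings are integral domains. Then each irreducible
component of X is an open subset of X, and each point of X lies on exactly one irreducible component
(so the irreducible components of X are pairwise disjoint, open and closed, and coincide with the
connected components). (The published statement assumes X regular and Noetherian; its argument uses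
only that the local rings of X are domains, which is the hypothesis taken here.) -/
theorem result (X : Scheme.{u}) [AlgebraicGeometry.IsNoetherian X]
    (hX : ∀ x : X, IsDomain (X.presheaf.stalk x)) :
    (∀ Z ∈ irreducibleComponents (X : Type u), IsOpen Z) ∧
      ∀ x : X, ∃! Z, Z ∈ irreducibleComponents (X : Type u) ∧ x ∈ Z := by
  have huniq : ∀ x : X, ∃! Z, Z ∈ irreducibleComponents (X : Type u) ∧ x ∈ Z := by
    intro x
    haveI := hX x
    have hb := Groth.Agent.Lib.Helper14.bijOn_irreducibleComponents_specStalk X x
    haveI : IrreducibleSpace (Spec (X.presheaf.stalk x)) :=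
      inferInstanceAs (IrreducibleSpace (PrimeSpectrum (X.presheaf.stalk x)))
    have hsrc : {z : Spec (X.presheaf.stalk x) | closure ({z} : Set _) ∈
        irreducibleComponents (Spec (X.presheaf.stalk x) : Type u)} =
        {genericPoint (Spec (X.presheaf.stalk x))} := by
      ext z
      rw [irreducibleComponents_eq_singleton]
      simp only [Set.mem_setOf_eq, Set.mem_singleton_iff]
      constructor
      · intro h
        exact (IsGenericPoint.eq (genericPoint_spec _) (show IsGenericPoint z ⊤ from h)).symm
      · rintro rfl
        exact genericPoint_spec _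
    rw [hsrc] at hb
    have himg := hb.image_eq
    rw [Set.image_singleton] at himg
    refine ⟨closure {X.fromSpecStalk x (genericPoint (Spec (X.presheaf.stalk x)))}, ?_, ?_⟩
    · have : closure {X.fromSpecStalk x (genericPoint (Spec (X.presheaf.stalk x)))} ∈
          ({Z | Z ∈ irreducibleComponents (X : Type u) ∧ x ∈ Z} : Set (Set X)) := by
        rw [← himg]; exact Set.mem_singleton _
      exact this
    · intro Z hZ
      have : Z ∈ ({Z | Z ∈ irreducibleComponents (X : Type u) ∧ x ∈ Z} : Set (Set X)) := hZ
      rw [← himg] at this
      exact this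
  refine ⟨fun Z hZ => ?_, huniq⟩
  have hfin : (irreducibleComponents (X : Type u)).Finite :=
    TopologicalSpace.NoetherianSpace.finite_irreducibleComponents
  have hcompl : Zᶜ = ⋃ Z' ∈ (irreducibleComponents (X : Type u)) \ {Z}, Z' := by
    ext x
    simp only [Set.mem_compl_iff, Set.mem_iUnion, Set.mem_sdiff, Set.mem_singleton_iff,
      exists_prop]
    obtain ⟨Z₀, ⟨hZ₀, hxZ₀⟩, hu⟩ := huniq x
    constructor
    · intro hx
      refine ⟨Z₀, ⟨hZ₀, ?_⟩, hxZ₀⟩
      rintro rfl
      exact hx hxZ₀
    · rintro ⟨Z', ⟨hZ', hne⟩, hxZ'⟩ hxZ
      have h1 := hu Z' ⟨hZ', hxZ'⟩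
      have h2 := hu Z ⟨hZ, hxZ⟩
      exact hne (h1.trans h2.symm)
  have hclosed : IsClosed Zᶜ := by
    rw [hcompl]
    exact (hfin.subset Set.sdiff_subset).isClosed_biUnion fun Z' hZ' =>
      isClosed_of_mem_irreducibleComponents Z' hZ'.1
  have := hclosed.isOpen_compl
  rwa [compl_compl] at this

end Groth.Agent.S14401
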