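import Groth.Statements.S14402
import Mathlib
import Groth.Agent.Lib.Helper16ClosedEmb
import Groth.Agent.Lib.Helper16Flasque
-- import your own Groth.Agent.* helpers here

set_option autoImplicit false
universe u
open CategoryTheory CategoryTheory.Limits
open CohTop

namespace Groth.Agent.S14402


/-- If a continuous map f : X → Y is a closed embedding (a homeomorphism onto a closed subset), then for
every abelian sheaf F on X and every q ≥ 0 the higher direct image R^{q+1} f_* F is zero. (The
published statement is for modules over a sheaf of rings on X along a morphism of ringed spaces;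
this row is the case of abelian sheaves, the sheaf of rings being the constant sheaf ℤ.) -/
theorem result {X Y : TopCat.{u}} (f : X ⟶ Y)
    (hf : Topology.IsClosedEmbedding f) (F : CohTop.Ab X) (q : ℕ) :
    IsZero ((CohTop.Rpush f (q + 1)).obj F) := by
  haveI := Groth.Agent.Lib.Helper16.ClosedEmb.push_preservesFiniteLimits f
  exact Groth.Agent.Lib.Helper16.Flasque.rightDerived_vanish (CohTop.push f) (fun _ => True)
    (fun _ _ => trivial) (fun _ _ _ _ => trivial)
    (fun S hS _ => by
      haveI := hS.epi_g
      exact Groth.Agent.Lib.Helper16.ClosedEmb.push_map_epi f hf S.g) F trivial q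

end Groth.Agent.S14402
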