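import Groth.Statements.S14403
import Groth.Agent.Lib.Helper3EquiDim
import Groth.Agent.Lib.Helper3GrpFibDim
import Groth.Agent.Lib.Helper4VarDim10
import Mathlib

set_option autoImplicit false
universe u
open CategoryTheory AlgebraicGeometry
open FlatMor

namespace Groth.Agent.S14403

/-- Let k be a field, X and Y schemes of finite type over k, f : X ⟶ Y a flat k-morphism, and d, n
natural numbers such that every irreducible component of Y has dimension d (Y equidimensional of
dimension d). Then every irreducible component of X has dimension d + n if and only if for every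
point y of Y, closed or not, every irreducible component of the scheme-theoretic fibre of f over y
has dimension n (empty fibres impose no condition). -/
theorem result (k : Type u) [Field k]
    {X Y : Scheme.{u}} (qX : X ⟶ Spec (CommRingCat.of k)) (qY : Y ⟶ Spec (CommRingCat.of k))
    [LocallyOfFiniteType qX] [QuasiCompact qX] [LocallyOfFiniteType qY] [QuasiCompact qY]
    (f : X ⟶ Y) (hf : f ≫ qY = qX) [Flat f] (d n : ℕ)
    (hY : ∀ Z ∈ irreducibleComponents (Y : Type u), topologicalKrullDim Z = (d : WithBot ℕ∞)) :
    (∀ Z ∈ irreducibleComponents (X : Type u), topologicalKrullDim Z = ((d + n : ℕ) : WithBot ℕ∞)) ↔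
      ∀ (y : Y), ∀ Z ∈ irreducibleComponents (f.fiber y : Type u),
        topologicalKrullDim Z = (n : WithBot ℕ∞) := by
  letI : X.Over (Spec (CommRingCat.of k)) := ⟨qX⟩
  letI : Y.Over (Spec (CommRingCat.of k)) := ⟨qY⟩
  haveI : LocallyOfFiniteType (X ↘ Spec (CommRingCat.of k)) := ‹LocallyOfFiniteType qX›
  haveI : LocallyOfFiniteType (Y ↘ Spec (CommRingCat.of k)) := ‹LocallyOfFiniteType qY›
  haveI : LocallyOfFiniteType (f ≫ qY) := by rw [hf]; infer_instance
  haveI : LocallyOfFiniteType f := locallyOfFiniteType_of_comp f qY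
  have hK : IsField (CommRingCat.of k) := Field.toIsField k
  rw [Groth.Agent.Lib.Helper3.EquiDim.forall_dim_irreducibleComponents_eq_iff k X]
  have hY' := (Groth.Agent.Lib.Helper3.EquiDim.forall_dim_irreducibleComponents_eq_iff k Y d).mp hY
  have hfib : ∀ y : Y, (∀ Z ∈ irreducibleComponents (f.fiber y : Type u),
      topologicalKrullDim Z = (n : WithBot ℕ∞)) ↔
      ∀ z : f.fiber y, FlatMor.localDim (f.fiber y) z = (n : WithBot ℕ∞) := by
    intro y
    letI : (f.fiber y).Over (Spec (CommRingCat.of (Y.residueField y))) :=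
      ⟨f.fiberToSpecResidueField y⟩
    haveI : LocallyOfFiniteType ((f.fiber y) ↘ Spec (CommRingCat.of (Y.residueField y))) :=
      Groth.Agent.Lib.Helper4.VarDim.locallyOfFiniteType_fiberToSpecResidueField f _
    exact Groth.Agent.Lib.Helper3.EquiDim.forall_dim_irreducibleComponents_eq_iff
      (Y.residueField y) (f.fiber y) n
  have key : ∀ x : X, FlatMor.localDim X x = FlatMor.fibreDimAt f x + (d : WithBot ℕ∞) := by
    intro x
    have := (Groth.Agent.Lib.Helper3.CompDim.localDim_le_add_of_field hK f qY x).2
      (Flat.stalkMap f x)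
    rw [this, hY']
  constructor
  · intro h y
    rw [hfib]
    intro z
    rw [← Groth.Agent.Lib.Helper3.DimCons.fibreDimAt_fiberι]
    have h1 := h (f.fiberι y z)
    rw [key] at h1
    obtain ⟨m, hm⟩ := Groth.Agent.Lib.Helper3.GrpFibDim.exists_nat_fibreDimAt_eq f (f.fiberι y z)
    rw [hm] at h1 ⊢
    have h2 : m + d = d + n := by exact_mod_cast h1
    have : m = n := by omega
    rw [this]
  · intro h x
    rw [key, ← f.fiberι_asFiber x, Groth.Agent.Lib.Helper3.DimCons.fibreDimAt_fiberι,
      (hfib _).mp (h _)]
    push_cast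
    exact add_comm _ _

end Groth.Agent.S14403
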