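import Groth.Statements.S14404
import Groth.Agent.Lib.Helper4DimFormulaW

set_option autoImplicit false
set_option linter.style.haveILetI false
universe u
open CategoryTheory AlgebraicGeometry
open FlatMor

namespace Groth.Agent.S14404

/-- Let k be a field, X and Y irreducible schemes of finite type over k and f : X ⟶ Y a flat k-morphism.
Then dim Y ≤ dim X, and for every point y of Y every irreducible component Z of the scheme-theoretic
fibre of f over y has dim Z + dim Y = dim X; that is, every non-empty fibre has all its irreducible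
components of dimension dim X − dim Y. -/
theorem result (k : Type u) [Field k]
    {X Y : Scheme.{u}} (qX : X ⟶ Spec (CommRingCat.of k)) (qY : Y ⟶ Spec (CommRingCat.of k))
    [LocallyOfFiniteType qX] [QuasiCompact qX] [LocallyOfFiniteType qY] [QuasiCompact qY]
    [IrreducibleSpace X] [IrreducibleSpace Y] (f : X ⟶ Y) (hf : f ≫ qY = qX) [Flat f] :
    topologicalKrullDim Y ≤ topologicalKrullDim X ∧
      ∀ (y : Y), ∀ Z ∈ irreducibleComponents (f.fiber y : Type u),
        topologicalKrullDim Z + topologicalKrullDim Y = topologicalKrullDim X := by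
  letI : X.Over (Spec (CommRingCat.of k)) := ⟨qX⟩
  letI : Y.Over (Spec (CommRingCat.of k)) := ⟨qY⟩
  haveI : LocallyOfFiniteType (X ↘ Spec (CommRingCat.of k)) := ‹LocallyOfFiniteType qX›
  haveI : LocallyOfFiniteType (Y ↘ Spec (CommRingCat.of k)) := ‹LocallyOfFiniteType qY›
  haveI := Groth.Agent.Lib.Helper4.DimFormula.locallyOfFiniteType_of_over k f hf
  have hξmax : ∀ x' : X, x' ⤳ genericPoint X → x' = genericPoint X := fun x' hx' =>
    (hx'.antisymm (genericPoint_specializes x')).eq
  have h1 := Groth.Agent.Lib.Helper4.DimFormula.topologicalKrullDim_closure_eq_add_ptTrdeg k f hf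
    (genericPoint X) hξmax
  have hdimY := Groth.Agent.Lib.Helper4.DimFormula.topologicalKrullDim_eq_trdegNat_genericPoint k (Y := Y)
  have huniv : topologicalKrullDim (closure ({genericPoint X} : Set X)) = topologicalKrullDim X := by
    rw [(genericPoint_spec X).def]
    exact Groth.Agent.Lib.Helper4.VarDim.topologicalKrullDim_univ_eq
  rw [huniv] at h1
  have hfib := (Groth.Agent.Lib.Helper4.DimFormula.equidim_iff_fibres_equidim k f hf
    (Groth.Agent.Lib.Helper4.DimFormula.ptTrdeg f (genericPoint X))).mp (by
      intro Z hZ
      have hZuniv : Z = Set.univ := by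
        have := hZ.2 (y := Set.univ) (IrreducibleSpace.isIrreducible_univ X) (Set.subset_univ _)
        exact Set.eq_univ_of_univ_subset this
      subst hZuniv
      rw [Groth.Agent.Lib.Helper4.VarDim.topologicalKrullDim_univ_eq]
      exact h1)
  refine ⟨?_, ?_⟩
  · rw [h1, hdimY]
    exact_mod_cast Nat.le_add_right _ _
  · intro y Z hZ
    rw [hfib y Z hZ, h1, add_comm]

end Groth.Agent.S14404
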