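import Groth.Statements.S14408
import Groth.Agent.Lib.Helper12HilbDeg

set_option autoImplicit false
universe u
open CategoryTheory CategoryTheory.Limits AlgebraicGeometry
open HilbNum

namespace Groth.Agent.S14408

/-- Let k be an algebraically closed field, n a positive integer, F a nonzero coherent O-module on
projective n-space P over k (quasi-coherent of finite type), and P_F a polynomial with rational
coefficients such that P_F(m) = χ(F(m)) = Σ_{j ≤ n} (-1)^j dim_k H^j(P, F ⊗ O(m)) for every integer
m. Then the degree of P_F equals the dimension of the support of F (the closed set of points where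
the stalk of F is nonzero, with the subspace topology). The existence of such a polynomial is not
part of this statement; it enters through the hypothesis on P_F. -/
theorem result (k : Type u) [Field k] [IsAlgClosed k] (n : ℕ) (hn : 0 < n)
    (F : (CohB1.ProjSpace n k).Modules) (hF : Coh.IsCoh F) (hF0 : ¬ IsZero F) (P : Polynomial ℚ)
    (hP : ∀ m : ℤ,
      ((Finset.range (n + 1)).sum fun j => (-1 : ℚ) ^ j *
        (Module.finrank k (Coh.HH (CohB1.ProjSpace n k) (CohB1.tensorMod F (Twist.twistProjSpace n k m)) j) : ℚ)) =
      P.eval (m : ℚ)) :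
    topologicalKrullDim ↥(CohB1.support F) = (P.natDegree : WithBot ℕ∞) := by
  refine Groth.Agent.Lib.Helper12.HilbDeg.hilb_degree k n hn F hF hF0 P (fun m => ?_)
  have h1 := hP (m : ℤ)
  have h2 := Groth.Agent.Lib.Helper12.Snap.eulerCharLE_eq_euler k (CohB1.ProjSpace n k) n
    (Groth.Agent.Lib.Helper12.HilbDeg.dim_projSpace k n).le
    (CohB1.tensorMod F (Twist.twistProjSpace n k (m : ℤ)))
  have h3 : ((m : ℤ) : ℚ) = (m : ℚ) := by push_cast; rfl
  rw [h3] at h1
  rw [← h1]
  change ((Curv2.euler k (CohB1.ProjSpace n k) (CohB1.tensorMod F (Twist.twistProjSpace n k (m : ℤ))) : ℤ) : ℚ) = _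
  rw [← h2]
  unfold FGA.eulerCharLE
  push_cast
  rfl

end Groth.Agent.S14408
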