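import Groth.Statements.S1441
import Groth.Agent.Lib.Helper3FibModL
import Mathlib

set_option autoImplicit false
set_option linter.style.haveILetI false
universe u
open FlatMor

namespace Groth.Agent.S1441

open AlgebraicGeometry CategoryTheory Limits in

open AlgebraicGeometry CategoryTheory Limits in
/-- Let f : X → Y be a morphism over S with X locally of finite presentation and Y locally of finite
type over S, and F a finitely presented quasi-coherent O_X-module flat over S. Then the set U of
points where F is flat over Y is open in X, and for any base change S' → S (with X', Y', F' the base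
changes) the corresponding set for F' over Y' is the preimage of U. -/
theorem result {X Y S : Scheme.{u}} (f : X ⟶ Y) (g : Y ⟶ S) [LocallyOfFinitePresentation (f ≫ g)] [LocallyOfFiniteType g]
    (F : X.Modules) (hq : Coh.IsQCoh F) (hfp : CohB1.IsFP F) (hfl : FlatMod.IsFlatOver (f ≫ g) F) :
    IsOpen {x : ↑X | FlatMod.IsFlatOverAt f F x} ∧
      ∀ {X' Y' S' : Scheme.{u}} (h : S' ⟶ S) (gY : Y' ⟶ Y) (g' : Y' ⟶ S') (hY : IsPullback gY g' g h)
        (gX : X' ⟶ X) (f' : X' ⟶ Y') (hX : IsPullback gX (f' ≫ g') (f ≫ g) h) (w : gX ≫ f = f' ≫ gY),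
        {x' : ↑X' | FlatMod.IsFlatOverAt f' ((Scheme.Modules.pullback gX).obj F) x'} = gX ⁻¹' {x : ↑X | FlatMod.IsFlatOverAt f F x} := by
  haveI : F.IsQuasicoherent := hq
  haveI : SheafOfModules.IsFinitePresentation (R := X.ringCatSheaf) F := hfp
  refine ⟨Groth.Agent.Lib.Helper3.FibModK.isOpen_setOf_isFlatOverAt f g F hfl, ?_⟩
  intro X' Y' S' h gY g' hY gX f' hX w
  ext x'
  constructor
  · intro hB
    exact Groth.Agent.Lib.Helper3.FibModL.isFlatOverAt_of_pullback_flat f g F h gY g' hY gX f' hX w
      x' (hfl _) hB
  · intro hx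
    have hL : IsPullback gX f' f gY := (IsPullback.of_right hX.flip w.symm hY.flip).flip
    exact Groth.Agent.Lib.Helper2.PullbackSec.isFlatOverAt_pullback_of_isPullback hL F x' hx

end Groth.Agent.S1441
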