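import Groth.Statements.S14410
import Mathlib.Topology.Sheaves.Flasque

set_option autoImplicit false
universe u
open CategoryTheory TopologicalSpace
open CohTop

namespace Groth.Agent.S14410

/-- Let X be a topological space and 0 → F₁ → F₂ → F₃ → 0 a short exact sequence of sheaves of abelian
groups on X. If F₁ and F₃ are flasque (every restriction map is surjective), then F₂ is flasque.
(The published statement is for O_X-modules on a ringed space and is an equivalence; this row states
the implication from the outer terms to the middle term, for the underlying abelian sheaves.) -/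
theorem result (X : TopCat.{u})
    (S : ShortComplex (TopCat.Sheaf AddCommGrpCat.{u} X)) (hS : S.ShortExact)
    [S.X₁.IsFlasque] [S.X₃.IsFlasque] : S.X₂.IsFlasque := by
  constructor
  intro U V i
  rw [AddCommGrpCat.epi_iff_surjective]
  intro s
  have h3 : Function.Surjective (S.X₃.obj.map i) :=
    (AddCommGrpCat.epi_iff_surjective _).mp inferInstance
  have h1 : Function.Surjective (S.X₁.obj.map i) :=
    (AddCommGrpCat.epi_iff_surjective _).mp inferInstance
  obtain ⟨t, ht⟩ := h3 (S.g.hom.app V s)
  have hg : Function.Surjective (S.g.hom.app U) :=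
    (AddCommGrpCat.epi_iff_surjective _).mp
      (TopCat.Sheaf.IsFlasque.epi_of_shortExact (U := U.unop) hS)
  obtain ⟨s', hs'⟩ := hg t
  have natg : ∀ x, S.g.hom.app V (S.X₂.obj.map i x) = S.X₃.obj.map i (S.g.hom.app U x) := by
    intro x
    exact NatTrans.naturality_apply S.g.hom i x
  have natf : ∀ x, S.f.hom.app V (S.X₁.obj.map i x) = S.X₂.obj.map i (S.f.hom.app U x) := by
    intro x
    exact NatTrans.naturality_apply S.f.hom i x
  have h0 : S.g.hom.app V (S.X₂.obj.map i s' - s) = 0 := by
    rw [map_sub, natg, hs', ht, sub_self]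
  obtain ⟨r, hr⟩ := TopCat.Sheaf.sections_exact_of_left_exact (U := V.unop) hS.1 hS.2 _ h0
  obtain ⟨r', hr'⟩ := h1 r
  refine ⟨s' - S.f.hom.app U r', ?_⟩
  rw [map_sub, ← natf, hr', hr]
  abel

end Groth.Agent.S14410
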