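import Groth.Statements.S14412
import Groth.Agent.Lib.Helper8ExtLoc
import Mathlib

set_option autoImplicit false
universe u
open CategoryTheory
open CAlg

namespace Groth.Agent.S14412

open Abelian Groth.Agent.Lib.Helper8.ExtLoc

section Aux

variable {R : Type u} [CommRing R] (S : Submonoid R)

/-- the localization functor -/
noncomputable abbrev LF : ModuleCat.{u} R ⥤ ModuleCat.{u} (Localization S) :=
  ModuleCat.localizedModuleFunctor.{u} S

theorem LF_map_hom {M N : ModuleCat.{u} R} (h : M ⟶ N) :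
    ((LF S).map h).hom =
      loc S (M.localizedModuleMkLinearMap S) (N.localizedModuleMkLinearMap S) h.hom := rfl

set_option backward.isDefEq.respectTransparency false in
theorem LF_map_smul {M N : ModuleCat.{u} R} (r : R) (h : M ⟶ N) :
    (LF S).map (r • h) = algebraMap R (Localization S) r • (LF S).map h := by
  apply ModuleCat.hom_ext
  show (loc S (M.localizedModuleMkLinearMap S) (N.localizedModuleMkLinearMap S) (r • h).hom :
      M.localizedModule S →ₗ[Localization S] N.localizedModule S) =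
    algebraMap R (Localization S) r •
      loc S (M.localizedModuleMkLinearMap S) (N.localizedModuleMkLinearMap S) h.hom
  rw [ModuleCat.hom_smul, map_smul, algebraMap_smul]

theorem mapExt_smul {M N : ModuleCat.{u} R} (i : ℕ) (r : R) (e : Ext M N i) :
    (LF S).mapExtAddHom M N i (r • e) =
      algebraMap R (Localization S) r • (LF S).mapExtAddHom M N i e := by
  have h1 : r • e = e.comp (Ext.mk₀ (r • 𝟙 N)) (add_zero i) := by
    rw [Ext.mk₀_smul, Ext.comp_smul, Ext.comp_mk₀_id]
  rw [h1, Functor.mapExtAddHom_apply, Functor.mapExtAddHom_apply, Ext.mapExactFunctor_comp,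
    Ext.mapExactFunctor_mk₀, LF_map_smul, (LF S).map_id, Ext.mk₀_smul, Ext.comp_smul,
    Ext.comp_mk₀_id]

variable (N : ModuleCat.{u} R)

/-- surjectivity up to denominators. -/
def SurjAt (i : ℕ) (M : ModuleCat.{u} R) : Prop :=
  ∀ y : Ext ((LF S).obj M) ((LF S).obj N) i, ∃ (e : Ext M N i) (s : S),
    algebraMap R (Localization S) (s : R) • y = (LF S).mapExtAddHom M N i e

/-- the kernel is torsion. -/
def InjAt (i : ℕ) (M : ModuleCat.{u} R) : Prop :=
  ∀ e : Ext M N i, (LF S).mapExtAddHom M N i e = 0 → ∃ s : S, (s : R) • e = 0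

set_option backward.isDefEq.respectTransparency false in
theorem surjAt_zero (M : ModuleCat.{u} R) [Module.FinitePresentation R M] : SurjAt S N 0 M := by
  intro y
  obtain ⟨φ, rfl⟩ := (Ext.mk₀_bijective _ _).2 y
  obtain ⟨h, s, hs⟩ := loc_surj S (M.localizedModuleMkLinearMap S)
    (N.localizedModuleMkLinearMap S) φ.hom
  refine ⟨Ext.mk₀ (ModuleCat.ofHom h), s, ?_⟩
  rw [Functor.mapExtAddHom_apply, Ext.mapExactFunctor_mk₀, ← Ext.mk₀_smul]
  congr 1
  apply ModuleCat.hom_ext
  let ψ : M.localizedModule S →ₗ[Localization S] N.localizedModule S := φ.hom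
  have h7 : algebraMap R (Localization S) (s : R) • ψ = (s : R) • ψ := algebraMap_smul _ _ _
  exact h7.trans hs

set_option backward.isDefEq.respectTransparency false in
theorem injAt_zero (M : ModuleCat.{u} R) [Module.FinitePresentation R M] : InjAt S N 0 M := by
  intro e he
  obtain ⟨h, rfl⟩ := (Ext.mk₀_bijective _ _).2 e
  rw [Functor.mapExtAddHom_apply, Ext.mapExactFunctor_mk₀] at he
  have h1 : (LF S).map h = 0 := (Ext.mk₀_bijective _ _).1 (he.trans (Ext.mk₀_zero _ _).symm)
  have h2 : loc S (M.localizedModuleMkLinearMap S) (N.localizedModuleMkLinearMap S) h.hom =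
      loc S (M.localizedModuleMkLinearMap S) (N.localizedModuleMkLinearMap S) 0 := by
    rw [map_zero, ← LF_map_hom, h1]
    rfl
  obtain ⟨s, hs⟩ := loc_eq S _ _ h2
  refine ⟨s, ?_⟩
  rw [← Ext.mk₀_smul]
  have h3 : (s : R) • h = 0 := by
    apply ModuleCat.hom_ext
    rw [ModuleCat.hom_smul, hs, smul_zero]
    rfl
  rw [h3, Ext.mk₀_zero]

theorem exact₃ (Sh : ShortComplex (ModuleCat.{u} R)) (hSh : Sh.ShortExact)
    (hproj : Projective ((LF S).obj Sh.X₂)) (Y : ModuleCat.{u} (Localization S)) (i : ℕ)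
    (y : Ext ((LF S).obj Sh.X₃) Y (i + 1)) :
    ∃ y₁ : Ext ((LF S).obj Sh.X₁) Y i,
      (hSh.extClass.mapExactFunctor (LF S)).comp y₁ (Nat.add_comm 1 i) = y := by
  have hSh' := hSh.map_of_exact (LF S)
  have h0 : (Ext.mk₀ ((LF S).map Sh.g)).comp y (zero_add (i + 1)) = 0 :=
    Ext.eq_zero_of_projective _
  obtain ⟨y₁, hy₁⟩ := Ext.contravariant_sequence_exact₃ hSh' Y y h0 (Nat.add_comm 1 i)
  exact ⟨y₁, (congrArg (fun z => z.comp y₁ (Nat.add_comm 1 i))
    (Ext.mapExactFunctor_extClass (LF S) hSh)).trans hy₁⟩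

theorem exact₁ (Sh : ShortComplex (ModuleCat.{u} R)) (hSh : Sh.ShortExact)
    (Y : ModuleCat.{u} (Localization S)) (i : ℕ)
    (y₁ : Ext ((LF S).obj Sh.X₁) Y i)
    (h : (hSh.extClass.mapExactFunctor (LF S)).comp y₁ (Nat.add_comm 1 i) = 0) :
    ∃ x₂ : Ext ((LF S).obj Sh.X₂) Y i, (Ext.mk₀ ((LF S).map Sh.f)).comp x₂ (zero_add i) = y₁ := by
  have hSh' := hSh.map_of_exact (LF S)
  have h' : hSh'.extClass.comp y₁ (Nat.add_comm 1 i) = 0 :=
    (congrArg (fun z => z.comp y₁ (Nat.add_comm 1 i))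
      (Ext.mapExactFunctor_extClass (LF S) hSh)).symm.trans h
  exact Ext.contravariant_sequence_exact₁ hSh' Y y₁ (Nat.add_comm 1 i) h'

theorem surjAt_succ (Sh : ShortComplex (ModuleCat.{u} R)) (hSh : Sh.ShortExact)
    (hproj : Projective ((LF S).obj Sh.X₂)) (i : ℕ) (h1 : SurjAt S N i Sh.X₁) :
    SurjAt S N (i + 1) Sh.X₃ := by
  intro y
  obtain ⟨y₁, rfl⟩ := exact₃ S Sh hSh hproj _ i y
  obtain ⟨e₁, s, hs⟩ := h1 y₁
  refine ⟨hSh.extClass.comp e₁ (Nat.add_comm 1 i), s, ?_⟩
  rw [Functor.mapExtAddHom_apply, Ext.mapExactFunctor_comp, ← Ext.comp_smul, hs]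
  rfl

theorem injAt_succ (Sh : ShortComplex (ModuleCat.{u} R)) (hSh : Sh.ShortExact)
    [Projective Sh.X₂] (i : ℕ)
    (h2 : SurjAt S N i Sh.X₂) (h1 : InjAt S N i Sh.X₁) :
    InjAt S N (i + 1) Sh.X₃ := by
  intro e he
  have h0 : (Ext.mk₀ Sh.g).comp e (zero_add (i + 1)) = 0 := Ext.eq_zero_of_projective _
  have hi : 1 + i = i + 1 := Nat.add_comm 1 i
  obtain ⟨e₁, rfl⟩ := Ext.contravariant_sequence_exact₃ hSh _ e h0 hi
  rw [Functor.mapExtAddHom_apply, Ext.mapExactFunctor_comp] at he
  obtain ⟨x₂, hx₂⟩ := exact₁ S Sh hSh _ i _ he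
  obtain ⟨e₂, t, ht⟩ := h2 x₂
  have h3 : (LF S).mapExtAddHom _ _ i ((t : R) • e₁ - (Ext.mk₀ Sh.f).comp e₂ (zero_add i)) = 0 := by
    rw [map_sub, mapExt_smul, sub_eq_zero, Functor.mapExtAddHom_apply,
      Functor.mapExtAddHom_apply, Ext.mapExactFunctor_comp, Ext.mapExactFunctor_mk₀, ← hx₂]
    have h6 : e₂.mapExactFunctor (LF S) = algebraMap R (Localization S) (t : R) • x₂ := ht.symm
    rw [h6, Ext.comp_smul]
  obtain ⟨u, hu⟩ := h1 _ h3
  refine ⟨u * t, ?_⟩
  rw [smul_sub, sub_eq_zero] at hu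
  rw [← Ext.comp_smul, Submonoid.coe_mul, mul_smul, hu, Ext.comp_smul]
  have h4 : hSh.extClass.comp ((Ext.mk₀ Sh.f).comp e₂ (zero_add i)) hi = 0 :=
    hSh.extClass_comp_assoc _
  rw [h4, smul_zero]

variable [IsNoetherianRing R]

theorem main : ∀ (i : ℕ) (M : ModuleCat.{u} R) [Module.Finite R M],
    SurjAt S N i M ∧ InjAt S N i M := by
  intro i
  induction i with
  | zero =>
    intro M _
    have := Module.finitePresentation_of_finite R M
    exact ⟨surjAt_zero S N M, injAt_zero S N M⟩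
  | succ i ih =>
    intro M _
    obtain ⟨b, p, hp⟩ := Module.Finite.exists_fin' R M
    let Sh := p.shortComplexKer
    have hSh : Sh.ShortExact := LinearMap.shortExact_shortComplexKer hp
    have hX₂ : Projective Sh.X₂ := (inferInstance : Projective (ModuleCat.of R (Fin b → R)))
    have hproj : Projective ((LF S).obj Sh.X₂) := (LF S).projective_obj _
    have hfin₁ : Module.Finite R Sh.X₁ :=
      (inferInstance : Module.Finite R (LinearMap.ker p))
    have hfin₂ : Module.Finite R Sh.X₂ := (inferInstance : Module.Finite R (Fin b → R))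
    exact ⟨surjAt_succ S N Sh hSh hproj i (ih Sh.X₁).1,
      injAt_succ S N Sh hSh i (ih Sh.X₂).1 (ih Sh.X₁).2⟩

end Aux


/-- Let R be a Noetherian commutative ring, S a multiplicative subset of R, and M, N finitely generated
R-modules. For i ≥ 0 consider the map Ext^i_R(M, N) → Ext^i_{S⁻¹R}(S⁻¹M, S⁻¹N) induced on Ext groups
(computed in the categories of modules) by the exact localization functor M ↦ S⁻¹M. Then this map
exhibits its target as the localization S⁻¹ Ext^i_R(M, N): every element of the target, after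
multiplication by some s ∈ S, is the image of an element of Ext^i_R(M, N), and an element of
Ext^i_R(M, N) maps to zero if and only if it is annihilated by some element of S. (Equivalently, the
induced map identifies S⁻¹Ext^i_R(M, N) with Ext^i_{S⁻¹R}(S⁻¹M, S⁻¹N).) -/
theorem result (R : Type u) [CommRing R] [IsNoetherianRing R]
    (S : Submonoid R) (M N : ModuleCat.{u} R) [Module.Finite R M] [Module.Finite R N] (i : ℕ) :
    (∀ y : Abelian.Ext ((ModuleCat.localizedModuleFunctor.{u} S).obj M) ((ModuleCat.localizedModuleFunctor.{u} S).obj N) i,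
        ∃ (e : Abelian.Ext M N i) (s : S),
          algebraMap R (Localization S) (s : R) • y = (ModuleCat.localizedModuleFunctor.{u} S).mapExtAddHom M N i e) ∧
      (∀ e : Abelian.Ext M N i,
        (ModuleCat.localizedModuleFunctor.{u} S).mapExtAddHom M N i e = 0 ↔ ∃ s : S, (s : R) • e = 0) := by
  obtain ⟨h1, h2⟩ := main S N i M
  refine ⟨h1, fun e => ⟨h2 e, ?_⟩⟩
  rintro ⟨s, hs⟩
  have h3 := mapExt_smul S i (s : R) e
  rw [hs, map_zero] at h3
  have hu : IsUnit (algebraMap R (Localization S) (s : R)) := IsLocalization.map_units _ s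
  exact (hu.smul_eq_zero).mp h3.symm

end Groth.Agent.S14412
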