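import Groth.Statements.S14415
import Groth.Agent.S2528
import Groth.Agent.Lib.Helper2FinPushFP
import Groth.Agent.Lib.Helper2LocFree
import Groth.Agent.Lib.Helper5RLR
import Groth.Agent.Lib.Helper28HomShRefl2
import Groth.Agent.Lib.Helper23FinType
import Groth.Agent.Lib.Helper4DevI

set_option autoImplicit false
set_option linter.style.haveILetI false
universe u
open CategoryTheory AlgebraicGeometry
open FlatMor

namespace Groth.Agent.S14415


/-- (after helper4/helper28) a regular local domain of dimension at most one is a principal ideal ring. -/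
theorem isPrincipalIdealRing_of_regular (R : Type*) [CommRing R] [IsDomain R] [hR : IsRegularLocalRing R]
    (h : ringKrullDim R ≤ 1) : IsPrincipalIdealRing R := by
  have h1 := (IsRegularLocalRing.iff_finrank_cotangentSpace R).1 hR
  have h2 : Module.finrank (IsLocalRing.ResidueField R) (IsLocalRing.CotangentSpace R) ≤ 1 := by
    have h3 : ((Module.finrank (IsLocalRing.ResidueField R) (IsLocalRing.CotangentSpace R) : ℕ) : WithBot ℕ∞) ≤ 1 := by
      rw [h1]; exact h
    exact_mod_cast h3
  exact ((tfae_of_isNoetherianRing_of_isLocalRing_of_isDomain R).out 0 5).2 h2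

theorem flat_of_no_ass (O : Type u) [CommRing O] [IsRegularLocalRing O] (hdim : ringKrullDim O ≤ 1)
    (N : Type u) [AddCommGroup N] [Module O N] [Module.Finite O N]
    (h : IsAssociatedPrime (IsLocalRing.maximalIdeal O) N → ringKrullDim O = 0) :
    Module.Flat O N := by
  haveI : IsDomain O := Groth.Agent.Lib.Helper5.isDomain_of_isRegularLocalRing O
  haveI : IsPrincipalIdealRing O :=
    isPrincipalIdealRing_of_regular O hdim
  haveI : Module.IsTorsionFree O N := by
    refine ⟨fun r hr n₁ n₂ h12 => ?_⟩
    by_contra hne
    have hn : n₁ - n₂ ≠ 0 := sub_ne_zero.2 hne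
    have hrn : r • (n₁ - n₂) = 0 := by
      rw [smul_sub]; exact sub_eq_zero.2 h12
    obtain ⟨P, hP, hle⟩ := exists_le_isAssociatedPrime_of_isNoetherianRing O (n₁ - n₂) hn
    have hrP : r ∈ P := hle (by
      rw [Submodule.mem_colon_singleton]; simpa using hrn)
    haveI := hP.isPrime
    have hr0 : r ≠ 0 := hr.ne_zero
    have hPne : P ≠ ⊥ := fun hb => hr0 (by rw [hb] at hrP; exact hrP)
    haveI : P.IsMaximal := Ideal.IsPrime.isMaximal ‹_› hPne
    have hPm : P = IsLocalRing.maximalIdeal O := IsLocalRing.eq_maximalIdeal ‹_›
    have h0 := h (hPm ▸ hP)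
    haveI : Ring.KrullDimLE 0 O := (Ring.krullDimLE_iff).2 h0.le
    haveI : (⊥ : Ideal O).IsPrime := Ideal.isPrime_bot
    have hbm : (⊥ : Ideal O).IsMaximal := Ideal.IsPrime.isMaximal' ‹(⊥ : Ideal O).IsPrime›
    have : (⊥ : Ideal O) = IsLocalRing.maximalIdeal O := IsLocalRing.eq_maximalIdeal hbm
    exact hPne (hPm.trans this.symm)
  haveI : Module.Free O N := inferInstance
  infer_instance



/-- Let f : C → C' be a finite morphism of schemes, with C' locally Noetherian and all local rings of C'
regular of dimension at most one, such that every associated point x of C (a point whose maximal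
ideal is an associated prime of O_{C,x}) maps to a point of C' whose local ring is zero-dimensional,
that is, to a generic point of an irreducible component of C'. Then f_* O_C is finite locally free.
(The published statement takes C' regular Noetherian of pure dimension one and C Noetherian of pure
dimension one without embedded points; these hypotheses imply that every associated point of C maps
to a generic point of C'. This row assumes only that condition, allows C' locally Noetherian with
regular local rings of dimension at most one, and puts no condition on the dimension of C; the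
argument is local on C'.) -/
theorem result
    (C C' : Scheme.{u}) (f : C ⟶ C') [IsFinite f] [IsLocallyNoetherian C']
    (hreg : ∀ y : C', IsRegularLocalRing (C'.presheaf.stalk y))
    (hdim : ∀ y : C', ringKrullDim (C'.presheaf.stalk y) ≤ 1)
    (hass : ∀ x : C, Curv2.IsAssPoint (Coh.structureModule C) x →
      ringKrullDim (C'.presheaf.stalk (f.base x)) = 0) :
    FlatMod.IsFinLocFree ((Coh.push f).obj (Coh.structureModule C)) := by
  haveI : IsLocallyNoetherian C := LocallyOfFiniteType.isLocallyNoetherian f
  have hO : Coh.IsCoh (Coh.structureModule C) := Groth.Agent.Lib.Helper4.Dev.isCoh_structureModule C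
  haveI : (Coh.structureModule C).IsQuasicoherent := hO.1
  haveI : SheafOfModules.IsFiniteType (R := C.ringCatSheaf) (Coh.structureModule C) := hO.2
  let P : C'.Modules := (Coh.push f).obj (Coh.structureModule C)
  haveI hPq : P.IsQuasicoherent :=
    Groth.Agent.Lib.Helper23.QCohLocal.isQuasicoherent_pushforward f _
  haveI hPf : SheafOfModules.IsFiniteType (R := C'.ringCatSheaf) P :=
    (Groth.Agent.Lib.Helper2.FinPushFP.isFiniteType_pushforward_iff f _).1 inferInstance
  have hP : Coh.IsCoh P := ⟨hPq, hPf⟩
  haveI : SheafOfModules.IsFinitePresentation (R := C'.ringCatSheaf) P :=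
    Groth.Agent.Lib.Helper23.FinType.isFinitePresentation_of_isFiniteType P
  have hAss := Groth.Agent.S2528.result f (Coh.structureModule C) hO.1
  intro y
  refine Groth.Agent.Lib.Helper2.LocFree.exists_restrict_iso_freeMod_of_isFlatAt P y ?_
  haveI := hreg y
  haveI := Groth.Agent.Lib.Helper28.HomSh.finite_stalk_of_isCoh P hP y
  refine flat_of_no_ass _ (hdim y) _ fun hy => ?_
  have hy' : y ∈ AssSch.Ass P := hy
  rw [hAss] at hy'
  obtain ⟨x, hx, rfl⟩ := hy'
  exact hass x hx

end Groth.Agent.S14415
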