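import Groth.Statements.S14416
import Mathlib.RingTheory.LocalRing.Module
import Mathlib.RingTheory.Support
import Mathlib.LinearAlgebra.FiniteDimensional.Basic
import Mathlib.RingTheory.TensorProduct.Finite

set_option autoImplicit false
universe u
open scoped TensorProduct
open CAlg

namespace Groth.Agent.S14416

/-- Let B → A be a ring map with A a finitely generated B-module such that for every prime ideal p of B
the fibre κ(p) ⊗_B A has dimension at most one over the residue field κ(p). Then B → A is
surjective. In scheme language: a finite morphism whose degree at every point of the target is 0 or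
1 is a closed immersion. (The published statement assumes the two schemes Noetherian; that
hypothesis plays no role and is dropped here.) -/
theorem result
    (B A : Type u) [CommRing B] [CommRing A] [Algebra B A] [Module.Finite B A]
    (h : ∀ p : PrimeSpectrum B,
      Module.finrank p.asIdeal.ResidueField (p.asIdeal.ResidueField ⊗[B] A) ≤ 1) :
    Function.Surjective (algebraMap B A) := by
  classical
  set P : Submodule B A := LinearMap.range (Algebra.linearMap B A) with hP
  suffices hsub : Subsingleton (A ⧸ P) by
    intro a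
    have h0 : P.mkQ a = 0 := Subsingleton.elim _ _
    have h1 : a ∈ P := by
      rw [← LinearMap.mem_ker, Submodule.ker_mkQ] at h0; exact h0
    obtain ⟨b, hb⟩ := h1
    exact ⟨b, hb⟩
  rw [← Module.support_eq_empty_iff (R := B)]
  ext p
  simp only [Set.mem_empty_iff_false, iff_false]
  rw [Module.mem_support_iff_nontrivial_residueField_tensorProduct, not_nontrivial_iff_subsingleton]
  set κ := p.asIdeal.ResidueField with hκ
  -- surjectivity of κ → κ ⊗ A
  have hsurj : ∀ t : κ ⊗[B] A, ∃ c : κ, c ⊗ₜ[B] (1 : A) = t := by
    by_cases hnt : Nontrivial (κ ⊗[B] A)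
    · have h1 : Module.finrank κ (κ ⊗[B] A) = 1 := by
        have hpos : 0 < Module.finrank κ (κ ⊗[B] A) := Module.finrank_pos
        have h' : Module.finrank κ (κ ⊗[B] A) ≤ 1 := h p
        omega
      have hone : (1 : κ ⊗[B] A) ≠ 0 := one_ne_zero
      intro t
      obtain ⟨c, hc⟩ := (finrank_eq_one_iff_of_nonzero' (1 : κ ⊗[B] A) hone).mp h1 t
      refine ⟨c, ?_⟩
      rw [← hc, Algebra.TensorProduct.one_def, TensorProduct.smul_tmul', smul_eq_mul, mul_one]
    · rw [not_nontrivial_iff_subsingleton] at hnt
      intro t
      exact ⟨0, Subsingleton.elim _ _⟩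
  refine ⟨fun s t => ?_⟩
  suffices h0 : ∀ t : κ ⊗[B] (A ⧸ P), t = 0 by rw [h0 s, h0 t]
  intro t
  induction t using TensorProduct.induction_on with
  | zero => rfl
  | tmul c q =>
    obtain ⟨a, rfl⟩ := P.mkQ_surjective q
    obtain ⟨c', hc'⟩ := hsurj (c ⊗ₜ[B] a)
    have h2 : c ⊗ₜ[B] (P.mkQ a) = (LinearMap.lTensor κ P.mkQ) (c ⊗ₜ[B] a) := rfl
    rw [h2, ← hc', LinearMap.lTensor_tmul]
    have h3 : P.mkQ (1 : A) = 0 := by
      rw [← LinearMap.mem_ker, Submodule.ker_mkQ]
      exact ⟨1, by simp⟩
    rw [h3, TensorProduct.tmul_zero]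
  | add x y hx hy => rw [hx, hy, add_zero]

end Groth.Agent.S14416
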