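import Groth.Statements.S14418
import Mathlib
import Groth.Agent.Lib.Helper10Devissage
-- import your own Groth.Agent.* helpers here

set_option autoImplicit false
universe u
open CategoryTheory
open CAlg

namespace Groth.Agent.S14418

/-- Let B → A be a local homomorphism of Noetherian local rings, n the maximal ideal of B, and T an
additive functor from B-modules to A-modules which is B-linear (T applied to multiplication by b ∈ B
is multiplication by the image of b in A), carries finitely generated B-modules to finitely
generated A-modules, and is half-exact on finitely generated modules (every short exact sequence of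
finitely generated B-modules goes to a sequence exact at its middle term). If T(B/n) = 0 then T(N) =
0 for every finitely generated B-module N. (The published statement takes T defined on finitely
generated modules only; here T is defined on all B-modules while every hypothesis and the conclusion
concern finitely generated modules.) -/
theorem result {B A : Type u} [CommRing B] [CommRing A]
    [IsNoetherianRing B] [IsLocalRing B] [IsNoetherianRing A] [IsLocalRing A] [Algebra B A]
    [IsLocalHom (algebraMap B A)] (T : ModuleCat.{u} B ⥤ ModuleCat.{u} A) [T.Additive]
    (hlin : ∀ (N : ModuleCat.{u} B) (b : B),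
      T.map (ModuleCat.ofHom (b • (LinearMap.id : N →ₗ[B] N))) =
        ModuleCat.ofHom (algebraMap B A b • (LinearMap.id : T.obj N →ₗ[A] T.obj N)))
    (hfin : ∀ N : ModuleCat.{u} B, Module.Finite B N → Module.Finite A (T.obj N))
    (hex : ∀ S : ShortComplex (ModuleCat.{u} B), S.ShortExact → Module.Finite B S.X₁ →
      Module.Finite B S.X₂ → Module.Finite B S.X₃ → (S.map T).Exact)
    (h0 : Limits.IsZero (T.obj (ModuleCat.of B (B ⧸ IsLocalRing.maximalIdeal B))))
    (N : ModuleCat.{u} B) [Module.Finite B N] : Limits.IsZero (T.obj N) := by
  classical
  have key : ∀ (M : Type u) [AddCommGroup M] [Module B M] [Module.Finite B M],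
      Limits.IsZero (T.obj (ModuleCat.of B M)) := by
    intro M _ _ _
    refine Groth.Agent.Lib.Helper10.Devissage.devissage (B := B)
      (P := fun N _ _ => Limits.IsZero (T.obj (ModuleCat.of B N))) ?_ ?_ ?_ M
    · intro N _ _ _
      exact T.map_isZero (ModuleCat.isZero_of_subsingleton _)
    · intro N₁ _ _ _ N₂ _ _ _ N₃ _ _ _ f g hf hg hfg h1 h3
      let S : ShortComplex (ModuleCat.{u} B) :=
        ShortComplex.moduleCatMk f g (by ext x; exact hfg.apply_apply_eq_zero x)
      have hS : S.ShortExact := by
        refine ShortComplex.ShortExact.mk' ?_ ?_ ?_
        · rw [ShortComplex.ShortExact.moduleCat_exact_iff_function_exact]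
          exact hfg
        · exact (ModuleCat.mono_iff_injective _).2 hf
        · exact (ModuleCat.epi_iff_surjective _).2 hg
      have hE := hex S hS ‹_› ‹_› ‹_›
      exact hE.isZero_of_both_isZero h1 h3
    · intro p hp ih
      by_cases hpm : p = IsLocalRing.maximalIdeal B
      · subst hpm
        exact h0
      · -- choose b ∈ m \ p
        have hlt : p < IsLocalRing.maximalIdeal B :=
          lt_of_le_of_ne (IsLocalRing.le_maximalIdeal hp.ne_top) hpm
        obtain ⟨b, hbm, hbp⟩ := Set.exists_of_ssubset hlt
        let N := B ⧸ p
        let μ : N →ₗ[B] N := b • (LinearMap.id : N →ₗ[B] N)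
        have hμinj : Function.Injective μ := by
          rw [← LinearMap.ker_eq_bot, LinearMap.ker_eq_bot']
          intro x hx
          obtain ⟨y, rfl⟩ := Ideal.Quotient.mk_surjective x
          have : Ideal.Quotient.mk p (b * y) = 0 := by
            have : b • (Ideal.Quotient.mk p y) = 0 := hx
            rw [map_mul]; rw [Algebra.smul_def] at this; exact this
          rw [Ideal.Quotient.eq_zero_iff_mem] at this ⊢
          exact (hp.mem_or_mem this).resolve_left hbp
        let N₃ := N ⧸ LinearMap.range μ
        have hN₃ : Limits.IsZero (T.obj (ModuleCat.of B N₃)) := by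
          apply ih N₃
          refine ⟨p ⊔ Ideal.span {b}, ?_, ?_⟩
          · refine lt_of_le_of_ne le_sup_left ?_
            intro h
            apply hbp
            rw [h]
            exact Ideal.mem_sup_right (Ideal.subset_span rfl)
          · intro a ha x
            obtain ⟨y, rfl⟩ := Submodule.mkQ_surjective _ x
            obtain ⟨z, rfl⟩ := Ideal.Quotient.mk_surjective y
            rw [Submodule.mem_sup] at ha
            obtain ⟨a₁, ha₁, a₂, ha₂, rfl⟩ := ha
            obtain ⟨c, rfl⟩ := Ideal.mem_span_singleton'.1 ha₂
            rw [← map_smul, Submodule.mkQ_apply, Submodule.Quotient.mk_eq_zero]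
            refine ⟨c • Ideal.Quotient.mk p z, ?_⟩
            show b • (c • Ideal.Quotient.mk p z) = (a₁ + c * b) • Ideal.Quotient.mk p z
            rw [add_smul, mul_smul, smul_comm b c]
            have : a₁ • Ideal.Quotient.mk p z = 0 := by
              rw [Algebra.smul_def]
              have : algebraMap B (B ⧸ p) a₁ = 0 := Ideal.Quotient.eq_zero_iff_mem.2 ha₁
              rw [this, zero_mul]
            rw [this, zero_add]
        let S : ShortComplex (ModuleCat.{u} B) :=
          ShortComplex.moduleCatMk μ (LinearMap.range μ).mkQ
            (by ext x; simp)
        have hS : S.ShortExact := by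
          refine ShortComplex.ShortExact.mk' ?_ ?_ ?_
          · rw [ShortComplex.ShortExact.moduleCat_exact_iff_function_exact]
            exact LinearMap.exact_map_mkQ_range μ
          · exact (ModuleCat.mono_iff_injective _).2 hμinj
          · exact (ModuleCat.epi_iff_surjective _).2 (Submodule.mkQ_surjective _)
        have hE := hex S hS (inferInstanceAs (Module.Finite B N)) (inferInstanceAs (Module.Finite B N))
          (inferInstanceAs (Module.Finite B N₃))
        -- T(μ) is surjective
        have hsurj : Function.Surjective (T.map S.f) := by
          intro y
          have hy : (T.map S.g) y = 0 := by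
            have : T.map S.g = 0 := hN₃.eq_zero_of_tgt _
            rw [this]; rfl
          exact (ShortComplex.moduleCat_exact_iff (S.map T)).1 hE y hy
        have hf : T.map S.f = ModuleCat.ofHom (algebraMap B A b •
            (LinearMap.id : T.obj (ModuleCat.of B N) →ₗ[A] T.obj (ModuleCat.of B N))) :=
          hlin (ModuleCat.of B N) b
        haveI : Module.Finite A (T.obj (ModuleCat.of B N)) := hfin _ (inferInstanceAs (Module.Finite B N))
        have hbA : algebraMap B A b ∈ IsLocalRing.maximalIdeal A := by
          rw [IsLocalRing.mem_maximalIdeal, mem_nonunits_iff]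
          intro hu
          exact (IsLocalRing.mem_maximalIdeal _).1 hbm (isUnit_of_map_unit (algebraMap B A) b hu)
        have htop : (⊤ : Submodule A (T.obj (ModuleCat.of B N))) = ⊥ := by
          apply Submodule.eq_bot_of_le_smul_of_le_jacobson_bot (IsLocalRing.maximalIdeal A) ⊤
            Module.Finite.fg_top
          · intro x _
            obtain ⟨y, hy⟩ := hsurj x
            rw [hf] at hy
            rw [← hy]
            exact Submodule.smul_mem_smul hbA Submodule.mem_top
          · exact (IsLocalRing.maximalIdeal_le_jacobson ⊥)
        haveI : Subsingleton (T.obj (ModuleCat.of B N)) :=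
          (Submodule.subsingleton_iff A).1 (subsingleton_of_bot_eq_top htop.symm)
        exact ModuleCat.isZero_of_subsingleton _
  exact key N

end Groth.Agent.S14418
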