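import Groth.Statements.S14421
import Mathlib.Algebra.Homology.ShortComplex.HomologicalComplex
import Mathlib.Algebra.Homology.ShortComplex.ModuleCat
import Mathlib.Algebra.Homology.ShortComplex.Exact
import Mathlib.Algebra.Category.ModuleCat.EpiMono

set_option autoImplicit false
universe u v
open CategoryTheory
open HomAlg

namespace Groth.Agent.S14421

/-- Let φ : K → J be a morphism of cochain complexes of modules over a ring which is surjective in
degree p − 1. Then the map induced on cohomology in degree p is surjective if and only if the map
induced on cocycles in degree p is surjective. (Stated for cochain complexes indexed by the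
integers; the published statement is for three-term complexes in degrees p − 1, p, p + 1, which
embed as such complexes.) -/
theorem result {R : Type u} [Ring R]
    (K J : CochainComplex (ModuleCat.{v} R) ℤ) (φ : K ⟶ J) (p : ℤ) [Epi (φ.f (p - 1))] :
    Epi (HomologicalComplex.homologyMap φ p) ↔ Epi (HomologicalComplex.cyclesMap φ p) := by
  constructor
  · intro hH
    rw [ModuleCat.epi_iff_surjective] at hH ⊢
    have hπK : Function.Surjective (K.homologyπ p) :=
      (ModuleCat.epi_iff_surjective _).mp inferInstance
    have hφ : Function.Surjective (φ.f (p - 1)) :=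
      (ModuleCat.epi_iff_surjective _).mp inferInstance
    -- exactness of J.X (p-1) → J.cycles p → J.homology p
    have hex : (ShortComplex.mk (J.toCycles (p - 1) p) (J.homologyπ p)
        (J.toCycles_comp_homologyπ (p - 1) p)).Exact :=
      ShortComplex.exact_of_g_is_cokernel _ (J.homologyIsCokernel (p - 1) p (by simp))
    rw [ShortComplex.moduleCat_exact_iff] at hex
    intro z'
    obtain ⟨h, hh⟩ := hH (J.homologyπ p z')
    obtain ⟨z, rfl⟩ := hπK h
    have nat1 : ∀ x, HomologicalComplex.homologyMap φ p (K.homologyπ p x) =
        J.homologyπ p (HomologicalComplex.cyclesMap φ p x) := by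
      intro x
      have := HomologicalComplex.homologyπ_naturality φ p
      exact congrArg (fun f => f.hom x) this
    have h0 : J.homologyπ p (z' - HomologicalComplex.cyclesMap φ p z) = 0 := by
      rw [map_sub, ← nat1, hh, sub_self]
    obtain ⟨j, hj⟩ := hex _ h0
    obtain ⟨k, rfl⟩ := hφ j
    have nat2 : ∀ x, J.toCycles (p - 1) p (φ.f (p - 1) x) =
        HomologicalComplex.cyclesMap φ p (K.toCycles (p - 1) p x) := by
      intro x
      have : K.toCycles (p - 1) p ≫ HomologicalComplex.cyclesMap φ p =
          φ.f (p - 1) ≫ J.toCycles (p - 1) p := by
        rw [← cancel_mono (J.iCycles p), Category.assoc, Category.assoc,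
          HomologicalComplex.cyclesMap_i, HomologicalComplex.toCycles_i,
          HomologicalComplex.toCycles_i_assoc, φ.comm]
      exact (congrArg (fun f => f.hom x) this).symm
    refine ⟨z + K.toCycles (p - 1) p k, ?_⟩
    rw [map_add, ← nat2]
    have hj' : (J.toCycles (p - 1) p) ((φ.f (p - 1)) k) =
        z' - HomologicalComplex.cyclesMap φ p z := hj
    rw [hj']
    abel
  · intro hZ
    have h1 : Epi (K.homologyπ p ≫ HomologicalComplex.homologyMap φ p) := by
      rw [HomologicalComplex.homologyπ_naturality]
      infer_instance
    exact epi_of_epi (K.homologyπ p) _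

end Groth.Agent.S14421
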