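import Groth.Statements.S14426
import Groth.Agent.Lib.Helper21KoszulDepth
import Groth.Agent.Lib.Helper28DepthLoc
import Groth.Agent.S14433

set_option autoImplicit false
universe u
open Koszul3

namespace Groth.Agent.S14426

open CategoryTheory CategoryTheory.Limits CochainComplex HomComplex Pointwise CohIII
open Groth.Agent.Lib.Helper21 Groth.Agent.Lib.Helper28

/-- vanishing of Koszul cohomology in integer degree `i` -/
def V {R : Type u} [CommRing R] (xs : List R) (M : Type u) [AddCommGroup M] [Module R M]
    (i : ℤ) : Prop :=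
  IsZero ((koszulCx (ModuleCat.of R M) xs).homology i)

theorem step {R : Type u} [CommRing R] (xs : List R) (M : Type u) [AddCommGroup M] [Module R M]
    (y : R) (hy : y ∈ Ideal.span {x | x ∈ xs}) (hreg : IsSMulRegular M y) (i j : ℤ)
    (hij : i + 1 = j) :
    (V xs (QuotSMulTop y M) i → V xs M j) ∧
      (V xs M i → ¬ V xs (QuotSMulTop y M) i → ¬ V xs M j) := by
  have hS := koszul_cons_shortExact (ModuleCat.of R M) y hreg xs
  have hzero : ∀ k, HomologicalComplex.homologyMap
      (koszulConsSC (ModuleCat.of R M) y xs).f k = 0 := fun k =>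
    smul_homology_eq_zero _ xs y (Groth.Agent.S14433.result M xs y hy) k
  have h1 := hS.homology_exact₁ i j hij
  have h3 := hS.homology_exact₃ i j hij
  have hepi : Epi (hS.δ i j hij) := h1.epi_f_iff.mpr (hzero j)
  constructor
  · intro hV
    exact @IsZero.of_epi _ _ _ _ _ _ hepi hV
  · intro hVM hnV hVj
    have hmono : Mono (hS.δ i j hij) := h3.mono_g_iff.mpr (IsZero.eq_of_src hVM _ _)
    exact hnV (@IsZero.of_mono _ _ _ _ _ _ hmono hVj)

theorem main {R : Type u} [CommRing R] [IsNoetherianRing R] (xs : List R) :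
    ∀ (r : ℕ) (M : Type u) [AddCommGroup M] [Module R M] [Module.Finite R M],
      (Ideal.span {x | x ∈ xs}) • (⊤ : Submodule R M) ≠ ⊤ →
      LocCoh.idealDepth (Ideal.span {x | x ∈ xs}) M = r →
      (∀ i : ℤ, i < (r : ℤ) - xs.length → V xs M i) ∧ ¬ V xs M ((r : ℤ) - xs.length) := by
  intro r
  induction r with
  | zero =>
    intro M _ _ _ hIM hdepth
    constructor
    · intro i hi
      exact isZero_homology_of_isZero_X _ i (isZero_koszulCx_X_neg _ xs i (by simpa using hi))
    · obtain ⟨e⟩ := bottom_equiv M xs (((0 : ℕ) : ℤ) - xs.length) (by simp)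
      intro hV
      have hsub : Subsingleton ((koszulCx (ModuleCat.of R M) xs).homology
        (((0 : ℕ) : ℤ) - xs.length)) := ModuleCat.subsingleton_of_isZero hV
      have hsub2 : Subsingleton (Submodule.torsionBySet R M {x | x ∈ xs}) :=
        e.symm.toEquiv.subsingleton
      obtain ⟨p, hp, hIp⟩ := (idealDepth_eq_zero_iff hIM).mp (by exact_mod_cast hdepth)
      obtain ⟨hpp, z, hz⟩ := (isAssociatedPrime_iff (M := M)).mp hp
      have hz0 : z ≠ 0 := by
        rintro rfl
        apply hpp.ne_top
        rw [hz, eq_top_iff]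
        intro r _
        simp [Submodule.mem_colon_singleton]
      have hIz : ∀ a ∈ Ideal.span {x | x ∈ xs}, a • z = 0 := by
        intro a ha
        have : a ∈ (⊥ : Submodule R M).colon {z} := hz ▸ hIp ha
        simpa [Submodule.mem_colon_singleton] using this
      have hzT : z ∈ Submodule.torsionBySet R M {x | x ∈ xs} := by
        rw [Submodule.mem_torsionBySet_iff]
        rintro ⟨a, ha⟩
        exact hIz a (Ideal.subset_span ha)
      have := Subsingleton.elim (⟨z, hzT⟩ : Submodule.torsionBySet R M {x | x ∈ xs}) 0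
      exact hz0 (congrArg Subtype.val this)
  | succ r ih =>
    intro M _ _ _ hIM hdepth
    have h1 : 1 ≤ LocCoh.idealDepth (Ideal.span {x | x ∈ xs}) M := by
      rw [hdepth]
      exact_mod_cast Nat.succ_le_succ (Nat.zero_le r)
    obtain ⟨y, hyI, hreg⟩ := (one_le_idealDepth_iff hIM).mp h1
    have hIM' := smul_top_quotSMulTop_ne_top hyI hIM
    have hd' : LocCoh.idealDepth (Ideal.span {x | x ∈ xs}) (QuotSMulTop y M) = r := by
      have := idealDepth_quotSMulTop_add_one (Ideal.span {x | x ∈ xs}) M hIM y hyI hreg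
      rw [hdepth] at this
      push_cast at this
      exact (ENat.add_left_injective_of_ne_top ENat.one_ne_top) this
    obtain ⟨ih1, ih2⟩ := ih (QuotSMulTop y M) hIM' hd'
    have key : ∀ i : ℤ, i < ((r + 1 : ℕ) : ℤ) - xs.length → V xs M i := by
      intro i hi
      exact (step xs M y hyI hreg (i - 1) i (by ring)).1
        (ih1 (i - 1) (by push_cast at hi ⊢; omega))
    refine ⟨key, ?_⟩
    have hVM : V xs M ((r : ℤ) - xs.length) := key _ (by push_cast; omega)
    exact (step xs M y hyI hreg ((r : ℤ) - xs.length) (((r + 1 : ℕ) : ℤ) - xs.length)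
      (by push_cast; ring)).2 hVM ih2

open CategoryTheory CategoryTheory.Limits in
/-- Let (R, m) be a Noetherian local ring, M a nonzero finitely generated R-module and x_1, …, x_n
elements of m generating the ideal a. Then depth(a, M) ≤ n; the Koszul cohomology H^p(x; M) vanishes
for every p < depth(a, M); and H^r(x; M) is nonzero for r = depth(a, M). (Cohomological indexing
with H^n(x; M) = M/(x)M; in homological indexing this reads H_i = 0 for i > n − r and H_{n−r} ≠ 0.
Koszul complex realised by iterated mapping cones, as in the prelude.) -/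
theorem result {R : Type u} [CommRing R] [IsNoetherianRing R] [IsLocalRing R]
    (M : Type u) [AddCommGroup M] [Module R M] [Module.Finite R M] [Nontrivial M]
    (xs : List R) (hxs : ∀ x ∈ xs, x ∈ IsLocalRing.maximalIdeal R) :
    LocCoh.idealDepth (Ideal.span {x | x ∈ xs}) M ≤ xs.length ∧
      (∀ p : ℕ, (p : ℕ∞) < LocCoh.idealDepth (Ideal.span {x | x ∈ xs}) M → IsZero (CohIII.koszulH xs (ModuleCat.of R M) p)) ∧
      (∀ r : ℕ, LocCoh.idealDepth (Ideal.span {x | x ∈ xs}) M = r → ¬ IsZero (CohIII.koszulH xs (ModuleCat.of R M) r)) := by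
  have hI : Ideal.span {x | x ∈ xs} ≤ IsLocalRing.maximalIdeal R := Ideal.span_le.mpr hxs
  have hIM : (Ideal.span {x | x ∈ xs}) • (⊤ : Submodule R M) ≠ ⊤ :=
    (Submodule.top_ne_ideal_smul_of_le_jacobson_annihilator
      (hI.trans (IsLocalRing.maximalIdeal_le_jacobson _))).symm
  have hne := idealDepth_ne_top (I := Ideal.span {x | x ∈ xs}) (M := M) hIM
  obtain ⟨r, hr⟩ := ENat.ne_top_iff_exists.mp hne
  obtain ⟨h1, h2⟩ := main xs r M hIM hr.symm
  refine ⟨?_, ?_, ?_⟩
  · rw [← hr]
    by_contra hlt
    rw [not_le] at hlt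
    have hlt' : xs.length < r := by exact_mod_cast hlt
    apply h2
    exact isZero_homology_of_isZero_X _ _ (isZero_koszulCx_X_pos _ xs _ (by omega))
  · intro p hp
    rw [← hr] at hp
    have hp' : p < r := by exact_mod_cast hp
    exact h1 _ (by omega)
  · intro r' hr'
    have : r' = r := by
      rw [← hr] at hr'
      exact_mod_cast hr'.symm
    subst this
    exact h2

end Groth.Agent.S14426
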