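import Groth.Statements.S14425
import Mathlib
import Groth.Agent.S14426
-- import your own Groth.Agent.* helpers here

set_option autoImplicit false
universe u
open LocCoh

namespace Groth.Agent.S14425.Aux

set_option autoImplicit false

open CategoryTheory CategoryTheory.Limits CochainComplex HomComplex Pointwise CohIII
open Groth.Agent.Lib.Helper21 Groth.Agent.Lib.Helper28

variable {A : Type u} [CommRing A]

/-- the terms of the Koszul complex of a finite module are finite -/
lemma finite_koszulCx_X (M : ModuleCat.{u} A) [Module.Finite A M] :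
    ∀ (fs : List A) (n : ℤ), Module.Finite A ((koszulCx M fs).X n)
  | [], n => by
    by_cases hn : n = 0
    · subst hn
      exact Module.Finite.equiv
        ((HomologicalComplex.singleObjXSelf (ComplexShape.up ℤ) 0 M).toLinearEquiv).symm
    · have hz : IsZero ((koszulCx M []).X n) :=
        HomologicalComplex.isZero_single_obj_X (ComplexShape.up ℤ) 0 M n hn
      have : Subsingleton ((koszulCx M []).X n) := ModuleCat.subsingleton_of_isZero hz
      infer_instance
  | f :: fs, n => by
    have h1 := finite_koszulCx_X M fs (n + 1)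
    have h2 := finite_koszulCx_X M fs n
    let e : (koszulCx M (f :: fs)).X n ≅ (koszulCx M fs).X (n + 1) ⊞ (koszulCx M fs).X n :=
      HomologicalComplex.homotopyCofiber.XIsoBiprod (f • 𝟙 (koszulCx M fs)) n (n + 1) rfl
    let e2 := e ≪≫ ModuleCat.biprodIsoProd _ _
    exact Module.Finite.equiv e2.toLinearEquiv.symm

lemma finite_homology [IsNoetherianRing A] (K : CochainComplex (ModuleCat.{u} A) ℤ) (n : ℤ)
    [Module.Finite A (K.X n)] : Module.Finite A (K.homology n) := by
  have hinj : Function.Injective (K.iCycles n).hom :=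
    (ModuleCat.mono_iff_injective _).mp inferInstance
  have hsurj : Function.Surjective (K.homologyπ n).hom :=
    (ModuleCat.epi_iff_surjective _).mp inferInstance
  have : Module.Finite A (K.cycles n) := Module.Finite.of_injective _ hinj
  exact Module.Finite.of_surjective _ hsurj

lemma homologyMap_smul_id (K : CochainComplex (ModuleCat.{u} A) ℤ) (f : A) (i : ℤ) :
    HomologicalComplex.homologyMap (f • 𝟙 K) i = f • 𝟙 (K.homology i) := by
  rw [homologyMap_smul', HomologicalComplex.homologyMap_id]

/-- Nakayama: a finite module over a local ring on which an element of the maximal ideal acts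
surjectively is zero. -/
lemma subsingleton_of_smul_surjective [IsLocalRing A] (N : Type u) [AddCommGroup N] [Module A N]
    [Module.Finite A N] (f : A) (hf : f ∈ IsLocalRing.maximalIdeal A)
    (h : Function.Surjective (fun x : N => f • x)) : Subsingleton N := by
  have hle : (⊤ : Submodule A N) ≤ IsLocalRing.maximalIdeal A • (⊤ : Submodule A N) := by
    intro y _
    obtain ⟨x, rfl⟩ := h y
    exact Submodule.smul_mem_smul hf Submodule.mem_top
  have hbot := Submodule.eq_bot_of_le_smul_of_le_jacobson_bot (IsLocalRing.maximalIdeal A) ⊤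
    Module.Finite.fg_top hle (IsLocalRing.maximalIdeal_le_jacobson ⊥)
  rw [← Submodule.subsingleton_iff A]
  exact subsingleton_of_bot_eq_top hbot.symm

lemma cone_step [IsNoetherianRing A] [IsLocalRing A] (M : ModuleCat.{u} A) [Module.Finite A M]
    (f : A) (hf : f ∈ IsLocalRing.maximalIdeal A) (fs : List A)
    (h : ∀ i : ℤ, i < 0 → IsZero ((koszulCx M (f :: fs)).homology i)) :
    (∀ i : ℤ, i < 0 → IsZero ((koszulCx M fs).homology i)) ∧
      Function.Injective (fun x : (koszulCx M fs).homology 0 => f • x) := by
  have h' : ∀ i : ℤ, i < 0 →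
      IsZero ((mappingCone (f • 𝟙 (koszulCx M fs))).homology i) := h
  constructor
  · intro i hi
    have hex := cone_homology_exact₂ (f • 𝟙 (koszulCx M fs)) i
    have hepi : Epi (HomologicalComplex.homologyMap (f • 𝟙 (koszulCx M fs)) i) :=
      hex.epi_f_iff.mpr ((h' i hi).eq_of_tgt _ _)
    rw [homologyMap_smul_id] at hepi
    have hsurj : Function.Surjective (fun x : (koszulCx M fs).homology i => f • x) :=
      (ModuleCat.epi_iff_surjective _).mp hepi
    have := finite_koszulCx_X M fs i
    have := finite_homology (koszulCx M fs) i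
    have := subsingleton_of_smul_surjective _ f hf hsurj
    exact ModuleCat.isZero_of_subsingleton _
  · have hex := cone_homology_exact₁ (f • 𝟙 (koszulCx M fs)) (-1) 0 (by norm_num)
    have hmono : Mono (HomologicalComplex.homologyMap (f • 𝟙 (koszulCx M fs)) 0) :=
      hex.mono_g_iff.mpr ((h' (-1) (by norm_num)).eq_of_src _ _)
    rw [homologyMap_smul_id] at hmono
    exact (ModuleCat.mono_iff_injective _).mp hmono

lemma range_smul_id (N : Type u) [AddCommGroup N] [Module A N] (f : A) :
    LinearMap.range (f • (LinearMap.id : N →ₗ[A] N)) = f • (⊤ : Submodule A N) := by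
  ext y
  simp only [LinearMap.mem_range, LinearMap.smul_apply, LinearMap.id_coe, id_eq]
  constructor
  · rintro ⟨x, rfl⟩
    exact Submodule.smul_mem_pointwise_smul x f ⊤ Submodule.mem_top
  · intro hy
    obtain ⟨x, -, rfl⟩ := (Submodule.mem_smul_pointwise_iff_exists y f ⊤).mp hy
    exact ⟨x, rfl⟩

/-- top Koszul cohomology is `M / (fs) M` -/
theorem top_equiv (M : Type u) [AddCommGroup M] [Module A M] :
    ∀ (fs : List A), Nonempty (((koszulCx (ModuleCat.of A M) fs).homology 0) ≃ₗ[A]
        (M ⧸ (Ideal.ofList fs • ⊤ : Submodule A M)))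
  | [] => by
    have e := (HomologicalComplex.singleObjHomologySelfIso (ComplexShape.up ℤ) 0
      (ModuleCat.of A M)).toLinearEquiv
    have hbot : (Ideal.ofList ([] : List A) • ⊤ : Submodule A M) = ⊥ := by
      rw [Ideal.ofList_nil, Submodule.bot_smul]
    exact ⟨e.trans (Submodule.quotEquivOfEqBot _ hbot).symm⟩
  | f :: fs => by
    obtain ⟨e⟩ := top_equiv M fs
    let K := koszulCx (ModuleCat.of A M) fs
    have hK1 : IsZero (K.homology (0 + 1)) :=
      isZero_homology_of_isZero_X _ _ (isZero_koszulCx_X_pos _ fs _ (by norm_num))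
    have hepi := cone_homology_epi (f • 𝟙 K) 0 hK1
    have hex := cone_homology_exact₂ (f • 𝟙 K) 0
    let g : K.homology 0 →ₗ[A] (mappingCone (f • 𝟙 K)).homology 0 :=
      (HomologicalComplex.homologyMap (mappingCone.inr (f • 𝟙 K)) 0).hom
    have hg : Function.Surjective g := (ModuleCat.epi_iff_surjective _).mp hepi
    have hker : LinearMap.ker g = f • (⊤ : Submodule A (K.homology 0)) := by
      have h1 := hex.moduleCat_range_eq_ker
      rw [← range_smul_id]
      rw [← h1]
      show LinearMap.range (HomologicalComplex.homologyMap (f • 𝟙 K) 0).hom = _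
      rw [homologyMap_smul_id]
      rfl
    let e1 : (QuotSMulTop f (K.homology 0)) ≃ₗ[A] (mappingCone (f • 𝟙 K)).homology 0 :=
      (Submodule.quotEquivOfEq _ _ hker.symm).trans (g.quotKerEquivOfSurjective hg)
    let e2 : QuotSMulTop f (K.homology 0) ≃ₗ[A]
        QuotSMulTop f (M ⧸ (Ideal.ofList fs • ⊤ : Submodule A M)) := QuotSMulTop.congr f e
    exact ⟨e1.symm.trans (e2.trans
      (Submodule.quotOfListConsSMulTopEquivQuotSMulTopOuter M f fs).symm)⟩

open RingTheory.Sequence in
theorem regular_of_vanishing [IsNoetherianRing A] [IsLocalRing A] (M : Type u) [AddCommGroup M]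
    [Module A M] [Module.Finite A M] :
    ∀ fs : List A, (∀ x ∈ fs, x ∈ IsLocalRing.maximalIdeal A) →
      (∀ i : ℤ, i < 0 → IsZero ((koszulCx (ModuleCat.of A M) fs).homology i)) →
      IsWeaklyRegular M fs.reverse
  | [], _, _ => by simp
  | f :: fs, hmem, h => by
    obtain ⟨h1, h2⟩ := cone_step (ModuleCat.of A M) f (hmem f (by simp)) fs h
    have ih := regular_of_vanishing M fs (fun x hx => hmem x (by simp [hx])) h1
    rw [List.reverse_cons, isWeaklyRegular_append_iff]
    refine ⟨ih, ?_⟩
    rw [isWeaklyRegular_singleton_iff]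
    obtain ⟨e⟩ := top_equiv M fs
    have hrev : (Ideal.ofList fs.reverse • ⊤ : Submodule A M) = Ideal.ofList fs • ⊤ := by
      have : Ideal.ofList fs.reverse = Ideal.ofList fs := by
        unfold Ideal.ofList
        congr 1
        ext x
        simp
      rw [this]
    rw [hrev]
    have h3 : IsSMulRegular ((koszulCx (ModuleCat.of A M) fs).homology 0) f := h2
    exact (e.isSMulRegular_congr f).mp h3

open RingTheory.Sequence in
theorem main {R : Type u} [CommRing R] [IsNoetherianRing R] [IsLocalRing R]
    {M : Type u} [AddCommGroup M] [Module R M] [Module.Finite R M] [Nontrivial M]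
    (xs : List R) (hxs : ∀ x ∈ xs, x ∈ IsLocalRing.maximalIdeal R) :
    LocCoh.idealDepth (Ideal.span {x | x ∈ xs}) M = xs.length ↔ IsWeaklyRegular M xs := by
  constructor
  · intro hd
    have hset : {x | x ∈ xs.reverse} = {x | x ∈ xs} := by
      ext x; simp
    have hxs' : ∀ x ∈ xs.reverse, x ∈ IsLocalRing.maximalIdeal R := fun x hx =>
      hxs x (List.mem_reverse.mp hx)
    obtain ⟨-, hv, -⟩ := Groth.Agent.S14426.result M xs.reverse hxs'
    rw [hset, hd] at hv
    have key := regular_of_vanishing M xs.reverse hxs' (by
      intro i hi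
      by_cases hlow : i < -(xs.reverse.length : ℤ)
      · exact isZero_homology_of_isZero_X _ i (isZero_koszulCx_X_neg _ _ i hlow)
      · push_neg at hlow
        have hp : 0 ≤ i + xs.reverse.length := by omega
        obtain ⟨p, hp'⟩ := Int.eq_ofNat_of_zero_le hp
        have hpn : p < xs.length := by
          have : (xs.reverse.length : ℤ) = xs.length := by simp
          omega
        have h0 := hv p (by exact_mod_cast hpn)
        have hidx : i = ((p : ℤ) - xs.reverse.length) := by omega
        subst hidx
        exact h0)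
    rwa [List.reverse_reverse] at key
  · intro hreg
    obtain ⟨hle, -, -⟩ := Groth.Agent.S14426.result M xs hxs
    refine le_antisymm hle ?_
    exact length_le_idealDepth hreg (fun r hr => Ideal.subset_span hr)

end Groth.Agent.S14425.Aux

namespace Groth.Agent.S14425

/-- Let (R, m) be a Noetherian local ring, M a nonzero finitely generated R-module and x_1, …, x_n
elements of m generating the ideal a. Then depth(a, M) = n if and only if x_1, …, x_n is an
M-regular sequence (each x_i a non-zero-divisor on M/(x_1, …, x_{i-1})M; the condition (x)M ≠ M is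
automatic here). -/
theorem result {R : Type u} [CommRing R] [IsNoetherianRing R] [IsLocalRing R]
    {M : Type u} [AddCommGroup M] [Module R M] [Module.Finite R M] [Nontrivial M]
    (xs : List R) (hxs : ∀ x ∈ xs, x ∈ IsLocalRing.maximalIdeal R) :
    LocCoh.idealDepth (Ideal.span {x | x ∈ xs}) M = xs.length ↔ RingTheory.Sequence.IsWeaklyRegular M xs := by
  exact Aux.main xs hxs

end Groth.Agent.S14425
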