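import Groth.Statements.S14427
import Mathlib.RingTheory.MvPolynomial.Homogeneous
import Mathlib.LinearAlgebra.Dual.Lemmas
import Mathlib.LinearAlgebra.Pi
import Mathlib.LinearAlgebra.LinearIndependent.Lemmas
import Mathlib.LinearAlgebra.Dimension.Constructions
import Mathlib.LinearAlgebra.Dimension.Free
import Mathlib.LinearAlgebra.FiniteDimensional.Lemmas
import Mathlib.LinearAlgebra.FiniteDimensional.Defs
import Mathlib.Data.Sym.Card
import Mathlib.Data.Finsupp.Multiset

set_option autoImplicit false
universe u
open CAlgX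

namespace Groth.Agent.S14427

open MvPolynomial

theorem finrank_homog3 (k : Type u) [Field k] (d : ℕ) :
    Module.finrank k ↥(homogeneousSubmodule (Fin 3) k d) = Nat.choose (d + 2) 2 := by
  classical
  rw [homogeneousSubmodule_eq_finsupp_supported]
  have e := AddMonoidAlgebra.supportedEquivFinsupp (R := k) (S := k) {e : Fin 3 →₀ ℕ | e.degree = d}
  rw [e.finrank_eq]
  let eq1 : Sym (Fin 3) d ≃ {e : Fin 3 →₀ ℕ | e.degree = d} :=
    (Sym.equivNatSum (Fin 3) d).trans (Equiv.subtypeEquivRight (fun P => by
      simp [Finsupp.degree, Finsupp.sum]))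
  let _ : Fintype {e : Fin 3 →₀ ℕ | e.degree = d} := Fintype.ofEquiv _ eq1
  rw [Module.finrank_finsupp_self, ← Fintype.card_congr eq1, Sym.card_sym_eq_choose]
  simp only [Fintype.card_fin]
  have : 3 + d - 1 = d + 2 := by omega
  rw [this]
  exact (Nat.choose_symm_of_eq_add (by omega)).symm

noncomputable def linPoly {k : Type u} [Field k] (φ : (Fin 3 → k) →ₗ[k] k) : MvPolynomial (Fin 3) k :=
  ∑ i, C (φ (fun j => if i = j then 1 else 0)) * X i

theorem linPoly_homog {k : Type u} [Field k] (φ : (Fin 3 → k) →ₗ[k] k) :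
    (linPoly φ).IsHomogeneous 1 :=
  IsHomogeneous.sum _ _ _ (fun i _ => isHomogeneous_C_mul_X _ _)

theorem eval_linPoly {k : Type u} [Field k] (φ : (Fin 3 → k) →ₗ[k] k) (u : Fin 3 → k) :
    eval u (linPoly φ) = φ u := by
  rw [LinearMap.pi_apply_eq_sum_univ φ u, linPoly, map_sum]
  refine Finset.sum_congr rfl (fun i _ => ?_)
  rw [map_mul, eval_C, eval_X, smul_eq_mul, mul_comm]

theorem exists_sep {k : Type u} [Field k] (v : Fin 3 → k) (S : Finset (Fin 3 → k))
    (hS : ∀ w ∈ S, v ∉ Submodule.span k {w}) :
    ∃ f : MvPolynomial (Fin 3) k, f.IsHomogeneous S.card ∧ eval v f ≠ 0 ∧ ∀ w ∈ S, eval w f = 0 := by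
  classical
  induction S using Finset.induction_on with
  | empty =>
    exact ⟨1, by simpa using isHomogeneous_one (Fin 3) k, by simp, by simp⟩
  | insert w S hw ih =>
    obtain ⟨f, hf1, hf2, hf3⟩ := ih (fun w' hw' => hS w' (Finset.mem_insert_of_mem hw'))
    obtain ⟨φ, hφ1, hφ2⟩ := Submodule.exists_dual_map_eq_bot_of_notMem
      (hS w (Finset.mem_insert_self _ _)) inferInstance
    have hφw : φ w = 0 := by
      have : φ w ∈ (Submodule.span k {w}).map φ :=
        Submodule.mem_map_of_mem (Submodule.mem_span_singleton_self w)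
      rw [hφ2] at this
      exact (Submodule.mem_bot k).mp this
    refine ⟨linPoly φ * f, ?_, ?_, ?_⟩
    · rw [Finset.card_insert_of_notMem hw, add_comm]
      exact (linPoly_homog φ).mul hf1
    · rw [map_mul, eval_linPoly]
      exact mul_ne_zero hφ1 hf2
    · intro w' hw'
      rw [map_mul, eval_linPoly]
      rcases Finset.mem_insert.mp hw' with rfl | h
      · rw [hφw, zero_mul]
      · rw [hf3 w' h, mul_zero]

/-- Let k be a field and Λ a set of n ≥ 3 nonzero vectors of k^3 which are pairwise linearly
independent, i.e. n distinct k-rational points of the projective plane. Then the space of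
homogeneous forms of degree n − 1 in k[x_0, x_1, x_2] vanishing at every point of Λ — the global
sections of I_Λ(n − 1) — has dimension C(n+1, 2) − n over k, the same for all such Λ. (The published
statement is over an algebraically closed field; this row allows any field and k-rational points,
which is all its argument uses.) -/
theorem result (k : Type u) [Field k] (n : ℕ) (hn : 3 ≤ n)
    (Λ : Finset (Fin 3 → k)) (hcard : Λ.card = n) (h0 : ∀ v ∈ Λ, v ≠ 0)
    (hdist : ∀ v ∈ Λ, ∀ w ∈ Λ, v ≠ w → LinearIndependent k ![v, w]) :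
    Module.finrank k ↥(MvPolynomial.homogeneousSubmodule (Fin 3) k (n - 1) ⊓ ⨅ v ∈ Λ, LinearMap.ker (MvPolynomial.aeval v).toLinearMap) = Nat.choose (n + 1) 2 - n := by
  classical
  set H := homogeneousSubmodule (Fin 3) k (n - 1) with hH
  set K : Submodule k (MvPolynomial (Fin 3) k) :=
    ⨅ v ∈ Λ, LinearMap.ker (MvPolynomial.aeval v).toLinearMap with hK
  have : Module.Finite k H := Module.Finite.iff_fg.mpr (homogeneousSubmodule_fg (Fin 3) k (n - 1))
  let ev : H →ₗ[k] (Λ → k) :=
    LinearMap.pi (fun v : Λ => (MvPolynomial.aeval (v : Fin 3 → k)).toLinearMap ∘ₗ H.subtype)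
  have hker : LinearMap.ker ev = Submodule.comap H.subtype (H ⊓ K) := by
    ext x
    simp only [LinearMap.mem_ker, Submodule.mem_comap, Submodule.mem_inf, Submodule.subtype_apply,
      SetLike.coe_mem, true_and, hK, Submodule.mem_iInf]
    constructor
    · intro hx v hv
      have := congrFun hx ⟨v, hv⟩
      simpa [ev] using this
    · intro hx
      funext v
      have := hx v.1 v.2
      simpa [ev] using this
  -- surjectivity
  have hsurj : Function.Surjective ev := by
    -- separating forms
    have hsep : ∀ v : Λ, ∃ f : H, (∀ w : Λ, ev f w = if w = v then 1 else 0) := by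
      intro v
      obtain ⟨f, hf1, hf2, hf3⟩ := exists_sep (k := k) v.1 (Λ.erase v.1) (by
        intro w hw hmem
        obtain ⟨hne, hwΛ⟩ := Finset.mem_erase.mp hw
        obtain ⟨c, hc⟩ := Submodule.mem_span_singleton.mp hmem
        have hli := hdist v.1 v.2 w hwΛ (Ne.symm hne)
        rw [LinearIndependent.pair_iff] at hli
        have := hli 1 (-c) (by rw [one_smul, neg_smul, hc, add_neg_cancel])
        exact one_ne_zero this.1)
      have hcard' : (Λ.erase v.1).card = n - 1 := by
        rw [Finset.card_erase_of_mem v.2, hcard]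
      rw [hcard'] at hf1
      refine ⟨⟨(eval v.1 f)⁻¹ • f, H.smul_mem _ hf1⟩, ?_⟩
      intro w
      by_cases hwv : w = v
      · subst hwv
        simp [ev, hf2]
      · have : eval w.1 f = 0 := hf3 w.1 (Finset.mem_erase.mpr ⟨fun h => hwv (Subtype.ext h), w.2⟩)
        simp [ev, this, hwv]
    choose g hg using hsep
    intro t
    refine ⟨∑ v : Λ, t v • g v, ?_⟩
    funext w
    rw [map_sum, Finset.sum_apply]
    simp only [map_smul, Pi.smul_apply, hg, smul_eq_mul, mul_ite, mul_one, mul_zero]
    rw [Finset.sum_ite_eq]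
    simp
  have hrange : Module.finrank k (LinearMap.range ev) = n := by
    rw [LinearMap.range_eq_top.mpr hsurj, finrank_top, Module.finrank_fintype_fun_eq_card,
      Fintype.card_coe, hcard]
  have hrn := LinearMap.finrank_range_add_finrank_ker ev
  rw [hrange, hker] at hrn
  have hequiv : Module.finrank k (Submodule.comap H.subtype (H ⊓ K)) =
      Module.finrank k ↥(H ⊓ K) :=
    (Submodule.comapSubtypeEquivOfLe (inf_le_left : H ⊓ K ≤ H)).finrank_eq
  rw [hequiv, finrank_homog3] at hrn
  have : n - 1 + 2 = n + 1 := by omega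
  rw [this] at hrn
  omega

end Groth.Agent.S14427
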