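import Groth.Statements.S14428
import Groth.Agent.S14427
import Mathlib.LinearAlgebra.Dimension.Constructions
import Mathlib.LinearAlgebra.FiniteDimensional.Lemmas

set_option autoImplicit false
universe u
open CAlgX

namespace Groth.Agent.S14428

open MvPolynomial Groth.Agent.S14427

theorem one_dir (k : Type u) [Field k] (n : ℕ) (hn : 3 ≤ n)
    (Λ Λ' : Finset (Fin 3 → k)) (hcard' : Λ'.card = n)
    (hline' : ¬ ∃ ℓ : (Fin 3 → k) →ₗ[k] k, ℓ ≠ 0 ∧ ∀ v ∈ Λ', ℓ v = 0)
    (hle : (MvPolynomial.homogeneousSubmodule (Fin 3) k (n - 1) ⊓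
        ⨅ v ∈ Λ', LinearMap.ker (MvPolynomial.aeval v).toLinearMap) ≤
      (MvPolynomial.homogeneousSubmodule (Fin 3) k (n - 1) ⊓
        ⨅ v ∈ Λ, LinearMap.ker (MvPolynomial.aeval v).toLinearMap)) :
    ∀ v ∈ Λ, ∃ w ∈ Λ', ∃ c : k, v = c • w := by
  classical
  intro v hv
  by_contra hcon
  push Not at hcon
  have hnot : ∀ w ∈ Λ', v ∉ Submodule.span k {w} := by
    intro w hw hmem
    obtain ⟨c, hc⟩ := Submodule.mem_span_singleton.mp hmem
    exact hcon w hw c hc.symm
  -- Step A
  have hA : ∃ w₁ ∈ Λ', ∃ w₂ ∈ Λ', w₁ ≠ w₂ ∧ v ∉ Submodule.span k {w₁, w₂} := by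
    by_contra hA
    push Not at hA
    have hne : Λ'.Nonempty := by
      rw [← Finset.card_pos, hcard']; omega
    obtain ⟨w₁, hw₁⟩ := hne
    set L : Submodule k (Fin 3 → k) := Submodule.span k {v, w₁} with hL
    have hall : ∀ w ∈ Λ', w ∈ L := by
      intro w hw
      by_cases hww : w = w₁
      · rw [hww]; exact Submodule.subset_span (by simp)
      · have hmem := hA w₁ hw₁ w hw (Ne.symm hww)
        obtain ⟨a, b, hab⟩ := Submodule.mem_span_pair.mp hmem
        have hb : b ≠ 0 := by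
          intro hb0
          rw [hb0, zero_smul, add_zero] at hab
          exact hnot w₁ hw₁ (Submodule.mem_span_singleton.mpr ⟨a, hab⟩)
        have hw_eq : w = b⁻¹ • (v - a • w₁) := by
          rw [← hab, add_sub_cancel_left, smul_smul, inv_mul_cancel₀ hb, one_smul]
        rw [hw_eq]
        refine L.smul_mem _ (L.sub_mem ?_ (L.smul_mem _ ?_))
        · exact Submodule.subset_span (by simp)
        · exact Submodule.subset_span (by simp)
    have hLtop : L ≠ ⊤ := by
      intro htop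
      have h1 : Module.finrank k L ≤ 2 := by
        have := finrank_span_finset_le_card (R := k) ({v, w₁} : Finset (Fin 3 → k))
        have hcoe : ((({v, w₁} : Finset (Fin 3 → k)) : Set (Fin 3 → k))) = {v, w₁} := by simp
        rw [Set.finrank, hcoe] at this
        exact this.trans (Finset.card_le_two)
      rw [htop, finrank_top, Module.finrank_fintype_fun_eq_card, Fintype.card_fin] at h1
      omega
    obtain ⟨x, -, hx⟩ := SetLike.exists_of_lt (lt_top_iff_ne_top.mpr hLtop)
    obtain ⟨f, hf1, hf2⟩ := Submodule.exists_dual_map_eq_bot_of_notMem hx inferInstance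
    apply hline'
    refine ⟨f, fun h0 => hf1 (by rw [h0]; rfl), fun w hw => ?_⟩
    have : f w ∈ L.map f := Submodule.mem_map_of_mem (hall w hw)
    rw [hf2] at this
    exact (Submodule.mem_bot k).mp this
  obtain ⟨w₁, hw₁, w₂, hw₂, hne12, hv12⟩ := hA
  obtain ⟨φ, hφ1, hφ2⟩ := Submodule.exists_dual_map_eq_bot_of_notMem hv12 inferInstance
  have hφw : ∀ w ∈ ({w₁, w₂} : Set (Fin 3 → k)), φ w = 0 := by
    intro w hw
    have : φ w ∈ (Submodule.span k {w₁, w₂}).map φ :=
      Submodule.mem_map_of_mem (Submodule.subset_span hw)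
    rw [hφ2] at this
    exact (Submodule.mem_bot k).mp this
  set S := (Λ'.erase w₁).erase w₂ with hS
  have hScard : S.card = n - 2 := by
    rw [hS, Finset.card_erase_of_mem (Finset.mem_erase.mpr ⟨hne12.symm, hw₂⟩),
      Finset.card_erase_of_mem hw₁, hcard']
    omega
  obtain ⟨G, hG1, hG2, hG3⟩ := exists_sep (k := k) v S (by
    intro w hw
    exact hnot w (Finset.mem_of_mem_erase (Finset.mem_of_mem_erase hw)))
  rw [hScard] at hG1
  set F := linPoly φ * G with hF
  have hFhom : F.IsHomogeneous (n - 1) := by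
    have := (linPoly_homog φ).mul hG1
    have h2 : 1 + (n - 2) = n - 1 := by omega
    rwa [h2] at this
  have hFv : eval v F ≠ 0 := by
    rw [hF, map_mul, eval_linPoly]
    exact mul_ne_zero hφ1 hG2
  have hFΛ' : ∀ w ∈ Λ', eval w F = 0 := by
    intro w hw
    rw [hF, map_mul, eval_linPoly]
    by_cases h1 : w = w₁
    · rw [hφw w (by simp [h1]), zero_mul]
    · by_cases h2 : w = w₂
      · rw [hφw w (by simp [h2]), zero_mul]
      · rw [hG3 w (Finset.mem_erase.mpr ⟨h2, Finset.mem_erase.mpr ⟨h1, hw⟩⟩), mul_zero]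
  have hmem : F ∈ (MvPolynomial.homogeneousSubmodule (Fin 3) k (n - 1) ⊓
        ⨅ v ∈ Λ', LinearMap.ker (MvPolynomial.aeval v).toLinearMap) := by
    rw [Submodule.mem_inf]
    refine ⟨hFhom, ?_⟩
    simp only [Submodule.mem_iInf, LinearMap.mem_ker]
    intro w hw
    simpa [coe_aeval_eq_eval] using hFΛ' w hw
  have hmem2 := (Submodule.mem_inf.mp (hle hmem)).2
  simp only [Submodule.mem_iInf, LinearMap.mem_ker] at hmem2
  have := hmem2 v hv
  apply hFv
  simpa [coe_aeval_eq_eval] using this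

/-- Let k be a field, n ≥ 3, and let Λ and Λ' be two sets of n nonzero, pairwise linearly independent
vectors of k^3 (n distinct k-rational points of the projective plane each), neither lying on a line
(no nonzero linear form vanishes on all of Λ, resp. Λ'). If the spaces of homogeneous forms of
degree n − 1 vanishing on Λ and on Λ' coincide, then Λ and Λ' define the same set of points of the
plane: the assignment Λ ↦ H^0(P^2, I_Λ(n − 1)), with values in a Grassmannian, is injective on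
non-collinear sets. (The published statement is over an algebraically closed field; this row allows
any field and k-rational points, which is all its argument uses.) -/
theorem result (k : Type u) [Field k] (n : ℕ) (hn : 3 ≤ n)
    (Λ Λ' : Finset (Fin 3 → k)) (hcard : Λ.card = n) (hcard' : Λ'.card = n)
    (h0 : ∀ v ∈ Λ, v ≠ 0) (h0' : ∀ v ∈ Λ', v ≠ 0)
    (hdist : ∀ v ∈ Λ, ∀ w ∈ Λ, v ≠ w → LinearIndependent k ![v, w])
    (hdist' : ∀ v ∈ Λ', ∀ w ∈ Λ', v ≠ w → LinearIndependent k ![v, w])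
    (hline : ¬ ∃ ℓ : (Fin 3 → k) →ₗ[k] k, ℓ ≠ 0 ∧ ∀ v ∈ Λ, ℓ v = 0)
    (hline' : ¬ ∃ ℓ : (Fin 3 → k) →ₗ[k] k, ℓ ≠ 0 ∧ ∀ v ∈ Λ', ℓ v = 0)
    (heq : (MvPolynomial.homogeneousSubmodule (Fin 3) k (n - 1) ⊓ ⨅ v ∈ Λ, LinearMap.ker (MvPolynomial.aeval v).toLinearMap) = (MvPolynomial.homogeneousSubmodule (Fin 3) k (n - 1) ⊓ ⨅ v ∈ Λ', LinearMap.ker (MvPolynomial.aeval v).toLinearMap)) :
    (∀ v ∈ Λ, ∃ w ∈ Λ', ∃ c : k, v = c • w) ∧ (∀ w ∈ Λ', ∃ v ∈ Λ, ∃ c : k, w = c • v) := by
  exact ⟨one_dir k n hn Λ Λ' hcard' hline' heq.ge, one_dir k n hn Λ' Λ hcard hline heq.le⟩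

end Groth.Agent.S14428
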