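import Groth.Statements.S14434
import Mathlib
import Groth.Agent.Lib.Helper13TorMore
import Groth.Agent.Lib.Helper13Devissage
-- import your own Groth.Agent.* helpers here

set_option autoImplicit false
universe u
open CAlg

namespace Groth.Agent.S14434

/-- Let R be a commutative ring, M an R-module and x ∈ R a non-zero-divisor on R and on M. Then
Tor_i^R(M, R/(x)) = 0 for all i ≥ 1 (Tor computed as the left derived functors of the tensor product
on R-modules). -/
theorem result {R : Type u} [CommRing R] (M : Type u) [AddCommGroup M] [Module R M]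
    (x : R) (hxR : IsSMulRegular R x) (hxM : IsSMulRegular M x) (i : ℕ) (hi : 1 ≤ i) :
    Subsingleton (DRing.Tor R i M (R ⧸ Ideal.span {x})) := by
  classical
  -- the short exact sequence 0 → R → R → R/(x) → 0
  let f : R →ₗ[R] R := LinearMap.lsmul R R x
  let g : R →ₗ[R] (R ⧸ Ideal.span {x}) := (Ideal.span {x}).mkQ
  have hf : Function.Injective f := hxR
  have hg : Function.Surjective g := Submodule.mkQ_surjective _
  have hfg : Function.Exact f g := by
    intro y
    constructor
    · intro hy
      have : y ∈ Ideal.span {x} := (Submodule.Quotient.mk_eq_zero _).1 hy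
      obtain ⟨a, rfl⟩ := Ideal.mem_span_singleton'.1 this
      exact ⟨a, by simp [f, mul_comm]⟩
    · rintro ⟨a, rfl⟩
      apply (Submodule.Quotient.mk_eq_zero _).2
      apply Ideal.mem_span_singleton'.2
      exact ⟨a, by simp [f, mul_comm]⟩
  have hS := Groth.Agent.Helper13Devissage.shortExact_mk (A := R) f g hf hg hfg
  have hflat : ∀ j : ℕ, 0 < j → CategoryTheory.Limits.IsZero
      (((CategoryTheory.Tor (ModuleCat.{u} R) j).obj (ModuleCat.of R M)).obj (ModuleCat.of R R)) := by
    intro j hj
    exact Groth.Agent.Helper13Tor.isZero_tor_of_flat_right (ModuleCat.of R M) (ModuleCat.of R R) j hj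
  have key : CategoryTheory.Limits.IsZero
      (((CategoryTheory.Tor (ModuleCat.{u} R) i).obj (ModuleCat.of R M)).obj
        (ModuleCat.of R (R ⧸ Ideal.span {x}))) := by
    obtain ⟨n, rfl⟩ : ∃ n, i = n + 1 := ⟨i - 1, by omega⟩
    rcases Nat.eq_zero_or_pos n with rfl | hn
    · refine (Groth.Agent.Helper13Tor.isZero_tor_one_iff_lTensor_injective (ModuleCat.of R M) _ hS
        (hflat 1 Nat.one_pos)).2 ?_
      -- injectivity of M ⊗ (x·)
      show Function.Injective (LinearMap.lTensor M f)
      have hcomm : (TensorProduct.rid R M).toLinearMap ∘ₗ LinearMap.lTensor M f =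
          (LinearMap.lsmul R M x) ∘ₗ (TensorProduct.rid R M).toLinearMap := by
        apply TensorProduct.ext'
        intro m r
        simp [f, smul_smul, mul_comm]
      intro a b hab
      apply (TensorProduct.rid R M).injective
      apply hxM
      have h1 := LinearMap.congr_fun hcomm a
      have h2 := LinearMap.congr_fun hcomm b
      simp only [LinearMap.comp_apply, LinearEquiv.coe_coe] at h1 h2
      show x • (TensorProduct.rid R M) a = x • (TensorProduct.rid R M) b
      have h1' : x • (TensorProduct.rid R M) a = (TensorProduct.rid R M) (LinearMap.lTensor M f a) :=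
        h1.symm
      have h2' : x • (TensorProduct.rid R M) b = (TensorProduct.rid R M) (LinearMap.lTensor M f b) :=
        h2.symm
      rw [h1', h2', hab]
    · exact Groth.Agent.Helper13Tor.isZero_tor₂_X₃ (ModuleCat.of R M) _ hS n
        (hflat (n + 1) (Nat.succ_pos n)) (hflat n hn)
  exact ModuleCat.subsingleton_of_isZero key

end Groth.Agent.S14434
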