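import Groth.Statements.S14436
import Mathlib.RingTheory.Etale.Kaehler
import Mathlib.RingTheory.Etale.Field
import Mathlib.RingTheory.Kaehler.Polynomial
import Mathlib.RingTheory.AlgebraicIndependent.Adjoin
import Mathlib.LinearAlgebra.Dimension.Constructions

set_option autoImplicit false
universe u
open CAlg

namespace Groth.Agent.S14436

open TensorProduct in
theorem aux (K L : Type u) [Field K] [Field L] [Algebra K L]
    (n : ℕ) (a : Fin n → L) (ha : IsTranscendenceBasis K a)
    (hsep : Algebra.IsSeparable ↥(IntermediateField.adjoin K (Set.range a)) L) :
    Module.finrank L (Ω[L⁄K]) = n := by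
  classical
  let P := MvPolynomial (Fin n) K
  let F := IntermediateField.adjoin K (Set.range a)
  let a' : Fin n → F := fun i => ⟨a i, IntermediateField.subset_adjoin K _ ⟨i, rfl⟩⟩
  let φF : P →ₐ[K] F := MvPolynomial.aeval a'
  let φL : P →ₐ[K] L := MvPolynomial.aeval a
  letI algPF : Algebra P F := φF.toRingHom.toAlgebra
  letI algPL : Algebra P L := φL.toRingHom.toAlgebra
  have hcomp : ∀ p : P, algebraMap F L (φF p) = φL p := by
    intro p
    have : (IntermediateField.val F).comp φF = φL := by
      apply MvPolynomial.algHom_ext
      intro i
      simp [φF, φL, a']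
    exact congrArg (fun f : P →ₐ[K] L => f p) this
  haveI st1 : IsScalarTower K P F := IsScalarTower.of_algebraMap_eq (fun x => by
    change algebraMap K F x = φF (algebraMap K P x)
    rw [AlgHom.commutes])
  haveI st2 : IsScalarTower K P L := IsScalarTower.of_algebraMap_eq (fun x => by
    change algebraMap K L x = φL (algebraMap K P x)
    rw [AlgHom.commutes])
  haveI st3 : IsScalarTower P F L := IsScalarTower.of_algebraMap_eq (fun p => by
    change φL p = algebraMap F L (φF p)
    rw [hcomp])
  -- F is a localization of P
  have hloc : IsLocalization (nonZeroDivisors P) F := by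
    let e : FractionRing P ≃ₐ[K] F := ha.1.aevalEquivField
    let e' : FractionRing P ≃ₐ[P] F :=
      { e.toRingEquiv with
        commutes' := fun p => by
          change e (algebraMap P (FractionRing P) p) = φF p
          apply Subtype.ext
          rw [AlgebraicIndependent.aevalEquivField_algebraMap_apply_coe]
          exact (hcomp p).symm }
    exact IsLocalization.isLocalization_of_algEquiv (nonZeroDivisors P) e'
  haveI fe1 : Algebra.FormallyEtale P F :=
    Algebra.FormallyEtale.of_isLocalization (Rₘ := F) (nonZeroDivisors P)
  haveI fe2 : Algebra.FormallyEtale F L := Algebra.FormallyEtale.of_isSeparable F L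
  haveI fe : Algebra.FormallyEtale P L := Algebra.FormallyEtale.comp P F L
  have e := KaehlerDifferential.tensorKaehlerEquivOfFormallyEtale K P L
  rw [← e.finrank_eq, Module.finrank_baseChange,
    Module.finrank_eq_card_basis (KaehlerDifferential.mvPolynomialBasis K (Fin n)),
    Fintype.card_fin]

/-- Let L/K be a finitely generated field extension which is separable in the sense that it has a
transcendence basis a_1, …, a_n over which L is a (finite) separable extension of K(a_1, …, a_n).
Then dim_L Ω_{L/K} = n, the transcendence degree of L over K. -/
theorem result (K L : Type u) [Field K] [Field L] [Algebra K L]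
    (hfg : ∃ s : Finset L, IntermediateField.adjoin K (s : Set L) = ⊤)
    (n : ℕ) (a : Fin n → L) (ha : IsTranscendenceBasis K a)
    (hsep : Algebra.IsSeparable ↥(IntermediateField.adjoin K (Set.range a)) L) :
    Module.finrank L (Ω[L⁄K]) = n := by
  exact aux K L n a ha hsep

end Groth.Agent.S14436
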