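import Groth.Statements.S14437
import Mathlib.RingTheory.Kaehler.Basic
import Mathlib.RingTheory.Ideal.Cotangent
import Mathlib.LinearAlgebra.Dual.Lemmas
import Mathlib.LinearAlgebra.Dimension.Finrank
import Mathlib.LinearAlgebra.FiniteDimensional.Lemmas
import Mathlib.RingTheory.LocalRing.ResidueField.Ideal

set_option autoImplicit false
universe u
open CAlg

namespace Groth.Agent.S14437

open IsLocalRing TensorProduct KaehlerDifferential

section
variable (k : Type u) [Field k]
    (A B : Type u) [CommRing A] [CommRing B] [IsLocalRing A] [IsLocalRing B]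
    [Algebra k A] [Algebra k B] [Algebra A B] [IsScalarTower k A B]

lemma algebraMap_A_surj (hB : Function.Bijective (algebraMap k (ResidueField B))) :
    Function.Surjective (algebraMap A (ResidueField B)) := by
  intro x
  obtain ⟨c, rfl⟩ := hB.2 x
  refine ⟨algebraMap k A c, ?_⟩
  rw [IsScalarTower.algebraMap_apply A B (ResidueField B),
    ← IsScalarTower.algebraMap_apply k A B,
    ← IsScalarTower.algebraMap_apply k B (ResidueField B)]

lemma delta_surj (hB : Function.Bijective (algebraMap k (ResidueField B))) :
    Function.Surjective (kerCotangentToTensor A B (ResidueField B)) := by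
  have hs : Function.Surjective (algebraMap B (ResidueField B)) := Ideal.Quotient.mk_surjective
  have hex := exact_kerCotangentToTensor_mapBaseChange A B (ResidueField B) hs
  have : Subsingleton (Ω[ResidueField B⁄A]) :=
    KaehlerDifferential.subsingleton_of_surjective A (ResidueField B) (algebraMap_A_surj k A B hB)
  intro y
  exact (hex y).mp (Subsingleton.elim _ _)

/-- the constant-term ring hom `B → k` -/
noncomputable def cstHom (hB : Function.Bijective (algebraMap k (ResidueField B))) : B →+* k :=
  ((RingEquiv.ofBijective (algebraMap k (ResidueField B)) hB).symm : ResidueField B →+* k).comp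
    (algebraMap B (ResidueField B))

lemma cstHom_spec (hB : Function.Bijective (algebraMap k (ResidueField B))) (b : B) :
    algebraMap k (ResidueField B) (cstHom k B hB b) = algebraMap B (ResidueField B) b := by
  simp only [cstHom, RingHom.coe_comp, RingHom.coe_coe, Function.comp_apply]
  exact (RingEquiv.ofBijective (algebraMap k (ResidueField B)) hB).apply_symm_apply _

lemma cstHom_algebraMap (hB : Function.Bijective (algebraMap k (ResidueField B))) (c : k) :
    cstHom k B hB (algebraMap k B c) = c := by
  apply hB.1
  rw [cstHom_spec, ← IsScalarTower.algebraMap_apply]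

lemma cstHom_eq_zero (hB : Function.Bijective (algebraMap k (ResidueField B))) (b : B)
    (hb : b ∈ RingHom.ker (algebraMap B (ResidueField B))) : cstHom k B hB b = 0 := by
  apply hB.1
  rw [cstHom_spec, map_zero]
  exact hb

/-- the remainder `b - c(b)` in the maximal ideal -/
noncomputable def rem (hB : Function.Bijective (algebraMap k (ResidueField B))) (b : B) :
    RingHom.ker (algebraMap B (ResidueField B)) :=
  ⟨b - algebraMap k B (cstHom k B hB b), by
    rw [RingHom.mem_ker, map_sub, ← IsScalarTower.algebraMap_apply, cstHom_spec, sub_self]⟩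

lemma rem_add (hB : Function.Bijective (algebraMap k (ResidueField B))) (b b' : B) :
    rem k B hB (b + b') = rem k B hB b + rem k B hB b' := by
  ext
  simp only [rem, map_add, Submodule.coe_add]
  ring

lemma rem_of_mem (hB : Function.Bijective (algebraMap k (ResidueField B))) (b : B)
    (hb : b ∈ RingHom.ker (algebraMap B (ResidueField B))) : rem k B hB b = ⟨b, hb⟩ := by
  ext
  simp [rem, cstHom_eq_zero k B hB b hb]

lemma toCotangent_rem_mul (hB : Function.Bijective (algebraMap k (ResidueField B))) (b b' : B) :
    (RingHom.ker (algebraMap B (ResidueField B))).toCotangent (rem k B hB (b * b')) =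
      algebraMap k B (cstHom k B hB b) •
        (RingHom.ker (algebraMap B (ResidueField B))).toCotangent (rem k B hB b') +
      algebraMap k B (cstHom k B hB b') •
        (RingHom.ker (algebraMap B (ResidueField B))).toCotangent (rem k B hB b) := by
  have h1 : rem k B hB (b * b') = algebraMap k B (cstHom k B hB b) • rem k B hB b' +
      algebraMap k B (cstHom k B hB b') • rem k B hB b +
      ⟨(rem k B hB b : B) * (rem k B hB b' : B), Ideal.mul_mem_right _ _ (rem k B hB b).2⟩ := by
    ext
    simp only [rem, map_mul, Submodule.coe_add, Submodule.coe_smul, smul_eq_mul]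
    ring
  rw [h1, map_add, map_add, map_smul, map_smul]
  have h2 : (RingHom.ker (algebraMap B (ResidueField B))).toCotangent
      ⟨(rem k B hB b : B) * (rem k B hB b' : B), Ideal.mul_mem_right _ _ (rem k B hB b).2⟩ = 0 := by
    rw [Ideal.toCotangent_eq_zero, pow_two]
    exact Ideal.mul_mem_mul (rem k B hB b).2 (rem k B hB b').2
  rw [h2, add_zero]

/-- the function underlying the derivation -/
noncomputable def Dfun (hB : Function.Bijective (algebraMap k (ResidueField B)))
    (ℓ : (RingHom.ker (algebraMap B (ResidueField B))).Cotangent →ₗ[k] k) (b : B) :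
    ResidueField B :=
  algebraMap k (ResidueField B)
    (ℓ ((RingHom.ker (algebraMap B (ResidueField B))).toCotangent (rem k B hB b)))

lemma Dfun_add (hB : Function.Bijective (algebraMap k (ResidueField B)))
    (ℓ : (RingHom.ker (algebraMap B (ResidueField B))).Cotangent →ₗ[k] k) (b b' : B) :
    Dfun k B hB ℓ (b + b') = Dfun k B hB ℓ b + Dfun k B hB ℓ b' := by
  simp only [Dfun, rem_add, map_add]

lemma Dfun_mul (hB : Function.Bijective (algebraMap k (ResidueField B)))
    (ℓ : (RingHom.ker (algebraMap B (ResidueField B))).Cotangent →ₗ[k] k) (b b' : B) :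
    Dfun k B hB ℓ (b * b') = b • Dfun k B hB ℓ b' + b' • Dfun k B hB ℓ b := by
  simp only [Dfun, toCotangent_rem_mul, algebraMap_smul, map_add, map_smul, smul_eq_mul, map_mul,
    cstHom_spec, Algebra.smul_def]

lemma Dfun_of_mem (hB : Function.Bijective (algebraMap k (ResidueField B)))
    (ℓ : (RingHom.ker (algebraMap B (ResidueField B))).Cotangent →ₗ[k] k)
    (y : RingHom.ker (algebraMap B (ResidueField B))) :
    Dfun k B hB ℓ y = algebraMap k (ResidueField B)
      (ℓ ((RingHom.ker (algebraMap B (ResidueField B))).toCotangent y)) := by
  simp only [Dfun, rem_of_mem k B hB y y.2]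

lemma Dfun_algebraMap (hA : Function.Bijective (algebraMap k (ResidueField A)))
    (hB : Function.Bijective (algebraMap k (ResidueField B)))
    (hle : ∀ m ∈ maximalIdeal A, algebraMap A B m ∈ RingHom.ker (algebraMap B (ResidueField B)))
    (ℓ : (RingHom.ker (algebraMap B (ResidueField B))).Cotangent →ₗ[k] k)
    (hℓ : ∀ (m : A) (hm : m ∈ maximalIdeal A),
      ℓ ((RingHom.ker (algebraMap B (ResidueField B))).toCotangent ⟨algebraMap A B m, hle m hm⟩) = 0)
    (a : A) : Dfun k B hB ℓ (algebraMap A B a) = 0 := by
  obtain ⟨c, hc⟩ := hA.2 (residue A a)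
  have hm : a - algebraMap k A c ∈ maximalIdeal A := by
    rw [← residue_eq_zero_iff, map_sub, ← hc, sub_eq_zero]
    exact IsScalarTower.algebraMap_apply k A (ResidueField A) c
  have h1 : algebraMap A B a = algebraMap k B c + algebraMap A B (a - algebraMap k A c) := by
    rw [map_sub, ← IsScalarTower.algebraMap_apply k A B]
    ring
  have h2 : rem k B hB (algebraMap k B c) = 0 := by
    ext
    simp [rem, cstHom_algebraMap]
  rw [Dfun, h1, rem_add, h2, zero_add, rem_of_mem k B hB _ (hle _ hm), hℓ _ hm, map_zero]

/-- the derivation `B → κ` attached to a functional killing the image of `m_A` -/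
noncomputable def Dder (hA : Function.Bijective (algebraMap k (ResidueField A)))
    (hB : Function.Bijective (algebraMap k (ResidueField B)))
    (hle : ∀ m ∈ maximalIdeal A, algebraMap A B m ∈ RingHom.ker (algebraMap B (ResidueField B)))
    (ℓ : (RingHom.ker (algebraMap B (ResidueField B))).Cotangent →ₗ[k] k)
    (hℓ : ∀ (m : A) (hm : m ∈ maximalIdeal A),
      ℓ ((RingHom.ker (algebraMap B (ResidueField B))).toCotangent
        ⟨algebraMap A B m, hle m hm⟩) = 0) :
    Derivation A B (ResidueField B) :=
  Derivation.mk'
    { toFun := Dfun k B hB ℓ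
      map_add' := Dfun_add k B hB ℓ
      map_smul' := fun a b => by
        rw [Algebra.smul_def, Dfun_mul, Dfun_algebraMap k A B hA hB hle ℓ hℓ, smul_zero, add_zero,
          algebraMap_smul]
        rfl }
    (Dfun_mul k B hB ℓ)

lemma key_eval (hA : Function.Bijective (algebraMap k (ResidueField A)))
    (hB : Function.Bijective (algebraMap k (ResidueField B)))
    (hle : ∀ m ∈ maximalIdeal A, algebraMap A B m ∈ RingHom.ker (algebraMap B (ResidueField B)))
    (ℓ : (RingHom.ker (algebraMap B (ResidueField B))).Cotangent →ₗ[k] k)
    (hℓ : ∀ (m : A) (hm : m ∈ maximalIdeal A),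
      ℓ ((RingHom.ker (algebraMap B (ResidueField B))).toCotangent
        ⟨algebraMap A B m, hle m hm⟩) = 0)
    (x : (RingHom.ker (algebraMap B (ResidueField B))).Cotangent)
    (hx : kerCotangentToTensor A B (ResidueField B) x = 0) : ℓ x = 0 := by
  obtain ⟨y, rfl⟩ := Ideal.toCotangent_surjective _ x
  have h1 := congrArg
    (LinearMap.liftBaseChange (ResidueField B)
      (Dder k A B hA hB hle ℓ hℓ).liftKaehlerDifferential) hx
  rw [kerCotangentToTensor_toCotangent, LinearMap.liftBaseChange_tmul, one_smul,
    Derivation.liftKaehlerDifferential_comp_D, map_zero] at h1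
  have h2 : Dder k A B hA hB hle ℓ hℓ (y : B) = Dfun k B hB ℓ y := rfl
  rw [h2, Dfun_of_mem] at h1
  exact hB.1 (h1.trans (map_zero _).symm)

end
section
variable (k : Type u) [Field k]
    (A B : Type u) [CommRing A] [CommRing B] [IsLocalRing A] [IsLocalRing B]
    [IsNoetherianRing B]
    [Algebra k A] [Algebra k B] [Algebra A B] [IsScalarTower k A B]

lemma finite_cot (hB : Function.Bijective (algebraMap k (ResidueField B))) :
    Module.Finite k (RingHom.ker (algebraMap B (ResidueField B))).Cotangent := by
  have hI : IsNoetherian B ↥(RingHom.ker (algebraMap B (ResidueField B))) :=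
    isNoetherian_submodule' _
  have h0 : IsNoetherian B (RingHom.ker (algebraMap B (ResidueField B))).Cotangent :=
    isNoetherian_of_surjective (f := (RingHom.ker (algebraMap B (ResidueField B))).toCotangent)
      (LinearMap.range_eq_top.mpr (Ideal.toCotangent_surjective _))
  have h1 : Module.Finite B (RingHom.ker (algebraMap B (ResidueField B))).Cotangent :=
    Module.IsNoetherian.finite B _
  obtain ⟨S, hS⟩ := h1.fg_top
  refine ⟨⟨S, ?_⟩⟩
  rw [eq_top_iff]
  intro x _
  have hx : x ∈ Submodule.span B (S : Set (RingHom.ker (algebraMap B (ResidueField B))).Cotangent) := by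
    rw [hS]; trivial
  refine Submodule.span_induction ?_ ?_ ?_ ?_ hx
  · intro y hy
    exact Submodule.subset_span hy
  · exact zero_mem _
  · intro y z _ _ hy hz
    exact add_mem hy hz
  · intro b y _ hy
    have : b • y = cstHom k B hB b • y := by
      obtain ⟨y', rfl⟩ := Ideal.toCotangent_surjective _ y
      rw [← algebraMap_smul B (cstHom k B hB b), ← sub_eq_zero, ← sub_smul, ← map_smul,
        Ideal.toCotangent_eq_zero, pow_two]
      exact Ideal.mul_mem_mul (rem k B hB b).2 y'.2
    rw [this]
    exact Submodule.smul_mem _ _ hy

theorem main_ker (hA : Function.Bijective (algebraMap k (ResidueField A)))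
    (hB : Function.Bijective (algebraMap k (ResidueField B)))
    (hle : maximalIdeal A ≤ Ideal.comap (IsScalarTower.toAlgHom k A B)
      (RingHom.ker (algebraMap B (ResidueField B)))) :
    Module.finrank (ResidueField B) (TensorProduct B (ResidueField B) (Ω[B⁄A])) +
      Module.finrank k ↥(LinearMap.range (Ideal.mapCotangent (maximalIdeal A)
        (RingHom.ker (algebraMap B (ResidueField B))) (IsScalarTower.toAlgHom k A B) hle)) =
      Module.finrank k (RingHom.ker (algebraMap B (ResidueField B))).Cotangent := by
  have hle' : ∀ m ∈ maximalIdeal A,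
      algebraMap A B m ∈ RingHom.ker (algebraMap B (ResidueField B)) := fun m hm => hle hm
  have hfin := finite_cot k B hB
  set δk : (RingHom.ker (algebraMap B (ResidueField B))).Cotangent →ₗ[k]
      TensorProduct B (ResidueField B) (Ω[B⁄A]) :=
    (kerCotangentToTensor A B (ResidueField B)).restrictScalars k with hδk
  have hker : LinearMap.ker δk = LinearMap.range (Ideal.mapCotangent (maximalIdeal A)
        (RingHom.ker (algebraMap B (ResidueField B))) (IsScalarTower.toAlgHom k A B) hle) := by
    ext x
    constructor
    · intro hx
      have hx' : kerCotangentToTensor A B (ResidueField B) x = 0 := hx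
      by_contra hxW
      obtain ⟨ℓ, hℓx, hℓW⟩ := Submodule.exists_dual_map_eq_bot_of_notMem hxW inferInstance
      have hℓ : ∀ (m : A) (hm : m ∈ maximalIdeal A),
          ℓ ((RingHom.ker (algebraMap B (ResidueField B))).toCotangent
            ⟨algebraMap A B m, hle' m hm⟩) = 0 := by
        intro m hm
        have h1 : (RingHom.ker (algebraMap B (ResidueField B))).toCotangent
            ⟨algebraMap A B m, hle' m hm⟩ ∈ LinearMap.range (Ideal.mapCotangent (maximalIdeal A)
            (RingHom.ker (algebraMap B (ResidueField B))) (IsScalarTower.toAlgHom k A B) hle) :=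
          ⟨(maximalIdeal A).toCotangent ⟨m, hm⟩, by rw [Ideal.mapCotangent_toCotangent]; rfl⟩
        have h2 := Submodule.mem_map_of_mem (f := ℓ) h1
        rw [hℓW] at h2
        simpa using h2
      exact hℓx (key_eval k A B hA hB hle' ℓ hℓ x hx')
    · rintro ⟨z, rfl⟩
      obtain ⟨m, rfl⟩ := Ideal.toCotangent_surjective _ z
      rw [Ideal.mapCotangent_toCotangent]
      show kerCotangentToTensor A B (ResidueField B) _ = 0
      rw [kerCotangentToTensor_toCotangent]
      simp
  have hrange : LinearMap.range δk = ⊤ := by
    rw [LinearMap.range_eq_top]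
    exact delta_surj k A B hB
  have hrn := LinearMap.finrank_range_add_finrank_ker δk
  rw [hrange, finrank_top, hker] at hrn
  have h1 : Module.finrank k (ResidueField B) = 1 := by
    rw [← (LinearEquiv.ofBijective (Algebra.linearMap k (ResidueField B)) hB).finrank_eq]
    exact Module.finrank_self k
  have htower := Module.finrank_mul_finrank k (ResidueField B)
    (TensorProduct B (ResidueField B) (Ω[B⁄A]))
  rw [h1, one_mul] at htower
  rw [htower]
  exact hrn

theorem main_J (hA : Function.Bijective (algebraMap k (ResidueField A)))
    (hB : Function.Bijective (algebraMap k (ResidueField B)))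
    (J : Ideal B) (hJ : J = RingHom.ker (algebraMap B (ResidueField B)))
    (hle : maximalIdeal A ≤ Ideal.comap (IsScalarTower.toAlgHom k A B) J) :
    Module.finrank (ResidueField B) (TensorProduct B (ResidueField B) (Ω[B⁄A])) +
      Module.finrank k ↥(LinearMap.range (Ideal.mapCotangent (maximalIdeal A)
        J (IsScalarTower.toAlgHom k A B) hle)) =
      Module.finrank k J.Cotangent := by
  subst hJ
  exact main_ker k A B hA hB hle

end

/-- Let k be a field and A → B a local homomorphism of Noetherian local k-algebras with residue fields k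
(k → A/m_A and k → B/m_B bijective) — for instance the local rings at a closed point x and at its
image y under a morphism of schemes of finite type over an algebraically closed k. Then dim_k
(Ω_{B/A} ⊗_B B/m_B) + rank(m_A/m_A² → m_B/m_B²) = dim_k (m_B/m_B²): the fibre at x of the sheaf of
relative differentials is dual to the kernel of the tangent map T_x X → T_y Y. (The published
statement is the canonical isomorphism (Ω_{X/Y})_(x)^∨ ≅ ker(df_x); stated here as the resulting
equality of dimensions. Its second assertion, dim (Ω_{X/Y})_(x) ≥ r when the fibre has an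
r-dimensional component through x, is not included.) -/
theorem result (k : Type u) [Field k]
    (A B : Type u) [CommRing A] [CommRing B] [IsLocalRing A] [IsLocalRing B] [IsNoetherianRing A] [IsNoetherianRing B]
    [Algebra k A] [Algebra k B] [Algebra A B] [IsScalarTower k A B]
    (hle : IsLocalRing.maximalIdeal A ≤ Ideal.comap (IsScalarTower.toAlgHom k A B) (IsLocalRing.maximalIdeal B))
    (hA : Function.Bijective (algebraMap k (IsLocalRing.ResidueField A)))
    (hB : Function.Bijective (algebraMap k (IsLocalRing.ResidueField B))) :
    Module.finrank (IsLocalRing.ResidueField B) (TensorProduct B (IsLocalRing.ResidueField B) (Ω[B⁄A])) +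
      Module.finrank k ↥(LinearMap.range (Ideal.mapCotangent (IsLocalRing.maximalIdeal A) (IsLocalRing.maximalIdeal B)
        (IsScalarTower.toAlgHom k A B) hle)) =
      Module.finrank k (IsLocalRing.CotangentSpace B) := by
  exact main_J k A B hA hB (maximalIdeal B) (IsLocalRing.ker_residue (R := B)).symm hle

end Groth.Agent.S14437
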