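import Groth.Statements.S14438
import Mathlib
import Groth.Agent.S6320
import Groth.Agent.Lib.Helper26FinLocalProd

set_option autoImplicit false
universe u
open CAlg

namespace Groth.Agent.S14438

/-- Let (A, m) be a local ring, B a commutative A-algebra which is free of finite rank d as an A-module,
and assume that for every maximal ideal n of B containing mB the induced map of residue fields A/m →
B/n is bijective (as for the points of a fibre of a finite flat morphism of varieties over an
algebraically closed field). Then the multiplicities of the points of the fibre add up to the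
degree: the sum over all such n of the length of the B_n-module (B/mB)_n equals d. -/
theorem result (A B : Type u) [CommRing A] [IsLocalRing A] [CommRing B] [Algebra A B]
    [Module.Free A B] [Module.Finite A B] (d : ℕ) (hd : Module.finrank A B = d)
    (hres : ∀ (n : Ideal B) [n.IsMaximal] (h : Ideal.map (algebraMap A B) (IsLocalRing.maximalIdeal A) ≤ n),
      Function.Bijective (Ideal.quotientMap n (algebraMap A B) (Ideal.map_le_iff_le_comap.mp h))) :
    finsum (fun n : {n : MaximalSpectrum B // Ideal.map (algebraMap A B) (IsLocalRing.maximalIdeal A) ≤ n.asIdeal} =>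
      Module.length (Localization.AtPrime n.1.asIdeal)
        (LocalizedModule n.1.asIdeal.primeCompl (B ⧸ Ideal.map (algebraMap A B) (IsLocalRing.maximalIdeal A)))) = (d : ℕ∞) := by
  classical
  haveI : Finite (MaximalSpectrum B) :=
    Finite.of_injective _ (Groth.Agent.Lib.Helper26.FinLocalProd.barMax_injective A B)
  have hJle : ∀ n : MaximalSpectrum B,
      Ideal.map (algebraMap A B) (IsLocalRing.maximalIdeal A) ≤ n.asIdeal := by
    intro n
    haveI := n.isMaximal
    exact Groth.Agent.Lib.Helper26.FinLocalProd.JJ_le_of_isMaximal A B n.asIdeal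
  have hover : ∀ n : MaximalSpectrum B,
      n.asIdeal.comap (algebraMap A B) = IsLocalRing.maximalIdeal A := by
    intro n
    haveI := n.isMaximal
    haveI : Algebra.IsIntegral A B := inferInstance
    exact IsLocalRing.eq_maximalIdeal (Ideal.isMaximal_comap_of_isIntegral_of_isMaximal n.asIdeal)
  have hfin : ∀ n : MaximalSpectrum B,
      Module.Finite (A ⧸ n.asIdeal.comap (algebraMap A B)) (B ⧸ n.asIdeal) :=
    fun n => Module.Finite.of_restrictScalars_finite A _ _
  have hlenA : Module.length A
      (B ⧸ Ideal.map (algebraMap A B) (IsLocalRing.maximalIdeal A)) = d := by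
    letI : Field (A ⧸ IsLocalRing.maximalIdeal A) := Ideal.Quotient.field _
    have e : (IsLocalRing.maximalIdeal A • (⊤ : Submodule A B)) =
        (Ideal.map (algebraMap A B) (IsLocalRing.maximalIdeal A)).restrictScalars A :=
      Ideal.smul_top_eq_map _
    rw [← (Submodule.Quotient.restrictScalarsEquiv A
        (Ideal.map (algebraMap A B) (IsLocalRing.maximalIdeal A))).length_eq,
      ← (Submodule.quotEquivOfEq _ _ e).length_eq,
      ← (TensorProduct.quotTensorEquivQuotSMul B (IsLocalRing.maximalIdeal A)).length_eq,
      Module.length_eq_of_surjective (R := A ⧸ IsLocalRing.maximalIdeal A)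
        Ideal.Quotient.mk_surjective,
      Module.length_eq_finrank, Module.finrank_baseChange, hd]
  have hM : IsFiniteLength B (B ⧸ Ideal.map (algebraMap A B) (IsLocalRing.maximalIdeal A)) := by
    have h1 : IsFiniteLength A (B ⧸ Ideal.map (algebraMap A B) (IsLocalRing.maximalIdeal A)) :=
      Module.length_ne_top_iff.1 (by rw [hlenA]; exact ENat.natCast_ne_top d)
    obtain ⟨hn, ha⟩ := isFiniteLength_iff_isNoetherian_isArtinian.1 h1
    exact isFiniteLength_iff_isNoetherian_isArtinian.2
      ⟨isNoetherian_of_tower A hn, isArtinian_of_tower A ha⟩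
  have key := Groth.Agent.S6320.result (A := A) (B := B) hover hfin
    (B ⧸ Ideal.map (algebraMap A B) (IsLocalRing.maximalIdeal A)) hM
  have hone : ∀ n : MaximalSpectrum B,
      Module.finrank (A ⧸ n.asIdeal.comap (algebraMap A B)) (B ⧸ n.asIdeal) = 1 := by
    intro n
    haveI := n.isMaximal
    have hb := hres n.asIdeal (hJle n)
    have hsurj : ∀ y : B ⧸ n.asIdeal,
        ∃ a : A, Ideal.Quotient.mk n.asIdeal (algebraMap A B a) = y := by
      intro y
      obtain ⟨x, hx⟩ := hb.2 y
      obtain ⟨a, rfl⟩ := Ideal.Quotient.mk_surjective x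
      exact ⟨a, by rw [← hx, Ideal.quotientMap_mk]⟩
    haveI : (n.asIdeal.comap (algebraMap A B)).IsMaximal := by
      rw [hover n]; infer_instance
    letI : Field (A ⧸ n.asIdeal.comap (algebraMap A B)) := Ideal.Quotient.field _
    haveI : Nontrivial (B ⧸ n.asIdeal) :=
      Ideal.Quotient.nontrivial_iff.2 (Ideal.IsMaximal.ne_top inferInstance)
    rw [finrank_eq_one_iff_of_nonzero' (1 : B ⧸ n.asIdeal) one_ne_zero]
    intro w
    obtain ⟨a, ha⟩ := hsurj w
    refine ⟨Ideal.Quotient.mk _ a, ?_⟩
    rw [Algebra.smul_def, mul_one, ← ha]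
    rfl
  simp only [hone, Nat.cast_one, one_mul] at key
  rw [hlenA] at key
  rw [key]
  exact finsum_comp_equiv (Equiv.subtypeUnivEquiv hJle)
    (f := fun n : MaximalSpectrum B => Module.length (Localization.AtPrime n.asIdeal)
      (LocalizedModule n.asIdeal.primeCompl
        (B ⧸ Ideal.map (algebraMap A B) (IsLocalRing.maximalIdeal A))))

end Groth.Agent.S14438
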