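import Groth.Statements.S14442
import Mathlib.Algebra.Module.GradedModule
import Mathlib.RingTheory.GradedAlgebra.Homogeneous.Ideal
import Mathlib.Algebra.DirectSum.Decomposition

set_option autoImplicit false
universe u
open GrNak

namespace Groth.Agent.S14442

/-- Let R be a commutative ℕ-graded ring with irrelevant ideal R_+ = ⊕_{i>0} R_i, M an ℕ-graded R-module
and N a graded submodule of M (closed under taking homogeneous components). If M = R_+ M + N then N
= M. (The published statement is for finitely generated ℤ-graded modules over a graded quotient of a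
polynomial ring, whose degrees are then bounded below; stated here for non-negatively graded modules
over any ℕ-graded commutative ring, where the same lowest-degree argument applies without finite
generation.) -/
theorem result {R : Type u} [CommRing R] {σ : Type u} [SetLike σ R] [AddSubmonoidClass σ R]
    (𝒜 : ℕ → σ) [GradedRing 𝒜]
    {M : Type u} [AddCommGroup M] [Module R M] {τ : Type u} [SetLike τ M] [AddSubmonoidClass τ M]
    (ℳ : ℕ → τ) [DirectSum.Decomposition ℳ] [SetLike.GradedSMul 𝒜 ℳ]
    (N : Submodule R M) (hN : ∀ x ∈ N, ∀ i : ℕ, (DirectSum.decompose ℳ x i : M) ∈ N)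
    (h : (HomogeneousIdeal.irrelevant 𝒜).toIdeal • (⊤ : Submodule R M) ⊔ N = ⊤) :
    N = ⊤ := by
  classical
  -- component map
  let comp : ℕ → M →+ M := fun i =>
    { toFun := fun x => (DirectSum.decompose ℳ x i : M)
      map_zero' := by simp [DirectSum.decompose_zero]
      map_add' := fun x y => by simp [DirectSum.decompose_add] }
  have hcomp : ∀ i x, comp i x = (DirectSum.decompose ℳ x i : M) := fun _ _ => rfl
  have key : ∀ i : ℕ, ∀ m : M, m ∈ ℳ i → m ∈ N := by
    intro i
    induction i using Nat.strong_induction_on with
    | _ i ih =>
      intro m hm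
      -- claim for elements of R₊ • ⊤
      have hclaim : ∀ s ∈ (HomogeneousIdeal.irrelevant 𝒜).toIdeal • (⊤ : Submodule R M),
          comp i s ∈ N := by
        intro s hs
        refine Submodule.smul_induction_on hs ?_ ?_
        · intro r hr x _
          have hr0 : (DirectSum.decompose 𝒜 r 0 : R) = 0 := by
            have := (HomogeneousIdeal.mem_irrelevant_iff 𝒜 r).mp hr
            simpa [GradedRing.proj_apply] using this
          have hr_sum := DirectSum.sum_support_decompose 𝒜 r
          have hx_sum := DirectSum.sum_support_decompose ℳ x
          rw [← hr_sum, ← hx_sum, Finset.sum_smul, map_sum]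
          refine N.sum_mem (fun a _ => ?_)
          rw [Finset.smul_sum, map_sum]
          refine N.sum_mem (fun b _ => ?_)
          have hmem : (DirectSum.decompose 𝒜 r a : R) • (DirectSum.decompose ℳ x b : M) ∈ ℳ (a + b) := by
            have := SetLike.GradedSMul.smul_mem (A := 𝒜) (B := ℳ)
              (SetLike.coe_mem (DirectSum.decompose 𝒜 r a)) (SetLike.coe_mem (DirectSum.decompose ℳ x b))
            simpa [vadd_eq_add] using this
          rw [hcomp]
          by_cases hab : a + b = i
          · rw [DirectSum.decompose_of_mem_same ℳ (hab ▸ hmem)]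
            rcases Nat.eq_zero_or_pos a with ha | ha
            · rw [ha, hr0, zero_smul]; exact N.zero_mem
            · exact N.smul_mem _ (ih b (by omega) _ (SetLike.coe_mem _))
          · rw [DirectSum.decompose_of_mem_ne ℳ hmem hab]; exact N.zero_mem
        · intro x y hx hy
          rw [map_add]; exact N.add_mem hx hy
      have hmtop : m ∈ (HomogeneousIdeal.irrelevant 𝒜).toIdeal • (⊤ : Submodule R M) ⊔ N := by
        rw [h]; exact Submodule.mem_top
      obtain ⟨s, hs, n, hn, rfl⟩ := Submodule.mem_sup.mp hmtop
      have h1 : comp i (s + n) = s + n := by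
        rw [hcomp]; exact DirectSum.decompose_of_mem_same ℳ hm
      rw [← h1, map_add]
      exact N.add_mem (hclaim s hs) (by rw [hcomp]; exact hN n hn i)
  rw [eq_top_iff]
  intro x _
  rw [← DirectSum.sum_support_decompose ℳ x]
  exact N.sum_mem (fun i _ => key i _ (SetLike.coe_mem _))

end Groth.Agent.S14442
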