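import Groth.Statements.S14444
import Groth.Agent.Lib.Helper21BC0MainC

set_option autoImplicit false
universe u
open Coherent

namespace Groth.Agent.S14444

local instance (X : AlgebraicGeometry.Scheme.{u}) : CategoryTheory.EnoughInjectives X.Modules :=
  Groth.Agent.Lib.Helper17.QCPush.enoughInjectives X

open AlgebraicGeometry CategoryTheory Scheme.Modules in
/-- Let η : Y → V be a proper morphism of finite presentation and L a quasi-coherent O_Y-module of
finite presentation, flat over V, with H^1(Y_v, L_v) = 0 for every point v of V (cohomology of the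
restriction of L to the fibre Y_v). Then η_* L is finite locally free, and for every cartesian
square with vertex X = U ×_V Y, projections f : X → Y and ζ : X → U, over a morphism φ : U → V, the
base change map φ^* η_* L → ζ_* f^* L — the map adjoint to η_*(ρ) : η_* L → η_* f_* f^* L = φ_* ζ_*
f^* L, where ρ : L → f_* f^* L is the unit — is an isomorphism. -/
theorem result {Y V : Scheme.{u}} (η : Y ⟶ V)
    [IsProper η] [LocallyOfFinitePresentation η] (L : Y.Modules) [Coh.IsQCoh L] (hfp : CohB1.IsFP L)
    (hfl : FlatMod.IsFlatOver η L) (h1 : ∀ v : V, Subsingleton (CohIII.fiberH η L v 1)) :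
    FlatMod.IsFinLocFree ((pushforward η).obj L) ∧
      ∀ ⦃X U : Scheme.{u}⦄ (f : X ⟶ Y) (ζ : X ⟶ U) (φ : U ⟶ V) (h : IsPullback f ζ η φ),
        IsIso (((pullbackPushforwardAdjunction φ).homEquiv ((pushforward η).obj L)
            ((pushforward ζ).obj ((pullback f).obj L))).symm
          ((pushforward η).map ((pullbackPushforwardAdjunction f).unit.app L) ≫
            (pushforwardComp f η).hom.app ((pullback f).obj L) ≫
            (pushforwardCongr h.w).hom.app ((pullback f).obj L) ≫
            (pushforwardComp ζ φ).inv.app ((pullback f).obj L))) := by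
  have hb : ∀ v : V, PerfAux.betti η L v 1 = 0 := fun v => by
    haveI : Subsingleton (PerfAux.fiberH η L v 1) := h1 v
    exact Module.finrank_zero_of_subsingleton
  refine ⟨?_, fun X U f ζ φ h => ?_⟩
  · refine Groth.Agent.Lib.Helper1.SPL.isFinLocFree_of_local _ (fun y => ?_)
    refine ⟨_, (⊤ : V.Opens).ι, inferInstance, ?_, ?_⟩
    · rw [Scheme.Opens.opensRange_ι]
      trivial
    · have h0 := Groth.Agent.Lib.Helper21.NNBC.isFinLocFree_restrict_Rpush η L hfp hfl 0 ⊤
        (fun s _ => hb s) (Or.inl rfl)
      exact Groth.Agent.Lib.Helper1.FLF.isFinLocFree_of_iso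
        ((Scheme.Modules.restrictFunctor (⊤ : V.Opens).ι).mapIso
          ((Functor.rightDerivedZeroIsoSelf (Scheme.Modules.pushforward η)).app L)) h0
  · exact Groth.Agent.Lib.Helper21.BC0Main.isIso_bcMap_of_H1 η L hfp hfl ⊤ (fun s _ => hb s)
      φ f ζ h (fun _ => trivial)

end Groth.Agent.S14444
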