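import Groth.Statements.S14445
import Mathlib
import Groth.Agent.Lib.Helper12TorsorDescent2

set_option autoImplicit false
universe u
open NonAbH1

namespace Groth.Agent.S14445


open CategoryTheory MonoidalCategory CartesianMonoidalCategory MonObj AlgebraicGeometry

open Groth.Agent.Lib.Helper12 in
/-- if a section `s : T ⟶ X` trivialises the action over `T`, the shear map becomes an
isomorphism after `- ⊗ T`. -/
theorem isIso_shear_whiskerRight {S : Scheme.{u}} {G X : Over S} [GrpObj G]
    (a : AlgGrp.Action G X) {T : Over S} (s : T ⟶ X)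
    (h : IsIso (lift ((G ◁ s) ≫ a.act) (snd G T))) :
    IsIso ((lift a.act (snd G X)) ▷ T) := by
  set φ := lift ((G ◁ s) ≫ a.act) (snd G T) with hφ
  have hφsnd : φ ≫ snd X T = snd G T := by simp [φ]
  have hinvsnd : inv φ ≫ snd G T = snd X T := by rw [IsIso.inv_comp_eq, hφsnd]
  have hpt : ∀ {T' : Over S} (c : T' ⟶ G) (t : T' ⟶ T),
      lift c t ≫ φ = lift (lift c (t ≫ s) ≫ a.act) t := by
    intro T' c t
    apply CartesianMonoidalCategory.hom_ext
    · simp only [φ, Category.assoc, lift_fst]
      rw [← Category.assoc]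
      congr 1
      apply CartesianMonoidalCategory.hom_ext <;> simp
    · simp [φ]
  -- transitivity
  have F1 : ∀ {T' : Over S} (t : T' ⟶ T) (x : T' ⟶ X),
      ∃ c : T' ⟶ G, lift c (t ≫ s) ≫ a.act = x := by
    intro T' t x
    set q := lift x t ≫ inv φ with hq
    have hq2 : q ≫ snd G T = t := by rw [hq, Category.assoc, hinvsnd, lift_snd]
    have hq3 : q = lift (q ≫ fst G T) t := by
      apply CartesianMonoidalCategory.hom_ext <;> simp [hq2]
    have hq4 : q ≫ φ = lift x t := by rw [hq, Category.assoc, IsIso.inv_hom_id, Category.comp_id]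
    refine ⟨q ≫ fst G T, ?_⟩
    rw [hq3, hpt] at hq4
    have := congrArg (· ≫ fst X T) hq4
    simpa using this
  -- freeness
  have F2 : ∀ {T' : Over S} (t : T' ⟶ T) (c₁ c₂ : T' ⟶ G),
      lift c₁ (t ≫ s) ≫ a.act = lift c₂ (t ≫ s) ≫ a.act → c₁ = c₂ := by
    intro T' t c₁ c₂ h12
    have h1 : lift c₁ t ≫ φ = lift c₂ t ≫ φ := by rw [hpt, hpt, h12]
    have h2 : lift c₁ t = lift c₂ t := (cancel_mono φ).1 h1
    have := congrArg (· ≫ fst G T) h2
    simpa using this
  set Φ := lift a.act (snd G X) with hΦ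
  have hΦpt : ∀ {T' : Over S} (g : T' ⟶ G) (x : T' ⟶ X) (t : T' ⟶ T),
      lift (lift g x) t ≫ (Φ ▷ T) = lift (lift (lift g x ≫ a.act) x) t := by
    intro T' g x t
    apply CartesianMonoidalCategory.hom_ext
    · rw [Category.assoc, whiskerRight_fst, lift_fst_assoc, lift_fst]
      apply CartesianMonoidalCategory.hom_ext <;> simp [Φ]
    · simp
  rw [isIso_iff_yoneda_map_bijective]
  intro T'
  constructor
  · intro p₁ p₂ h12
    have h12 : p₁ ≫ (Φ ▷ T) = p₂ ≫ (Φ ▷ T) := h12
    have e1 : ∀ p : T' ⟶ (G ⊗ X) ⊗ T,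
        p = lift (lift (p ≫ fst _ _ ≫ fst _ _) (p ≫ fst _ _ ≫ snd _ _)) (p ≫ snd _ _) := by
      intro p
      apply CartesianMonoidalCategory.hom_ext
      · rw [lift_fst]
        apply CartesianMonoidalCategory.hom_ext <;> simp
      · simp
    rw [e1 p₁, e1 p₂, hΦpt, hΦpt] at h12
    set g₁ := p₁ ≫ fst _ _ ≫ fst _ _
    set g₂ := p₂ ≫ fst _ _ ≫ fst _ _
    set x₁ := p₁ ≫ fst _ _ ≫ snd _ _
    set x₂ := p₂ ≫ fst _ _ ≫ snd _ _
    set t₁ := p₁ ≫ snd _ _
    set t₂ := p₂ ≫ snd _ _
    have ht : t₁ = t₂ := by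
      have := congrArg (· ≫ snd _ _) h12
      simpa using this
    have hx : x₁ = x₂ := by
      have := congrArg (· ≫ fst _ _ ≫ snd _ _) h12
      simpa using this
    have hgx : lift g₁ x₁ ≫ a.act = lift g₂ x₂ ≫ a.act := by
      have := congrArg (· ≫ fst _ _ ≫ fst _ _) h12
      simpa using this
    obtain ⟨c, hc⟩ := F1 t₁ x₁
    have hg : g₁ = g₂ := by
      rw [← hx, ← hc, ← act_mul, ← act_mul] at hgx
      exact mul_right_cancel (F2 t₁ _ _ hgx)
    rw [e1 p₁, e1 p₂]
    change lift (lift g₁ x₁) t₁ = lift (lift g₂ x₂) t₂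
    rw [hg, hx, ht]
  · intro p'
    set y := p' ≫ fst _ _ ≫ fst _ _ with hy
    set x := p' ≫ fst _ _ ≫ snd _ _ with hx
    set t := p' ≫ snd _ _ with ht
    have e2 : p' = lift (lift y x) t := by
      apply CartesianMonoidalCategory.hom_ext
      · rw [lift_fst]
        apply CartesianMonoidalCategory.hom_ext <;> simp [hy, hx]
      · simp [ht]
    obtain ⟨cy, hcy⟩ := F1 t y
    obtain ⟨cx, hcx⟩ := F1 t x
    refine ⟨lift (lift (cy * cx⁻¹) x) t, ?_⟩
    change lift (lift (cy * cx⁻¹) x) t ≫ (Φ ▷ T) = p'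
    rw [hΦpt, e2]
    congr 2
    rw [← hcx, ← act_mul, inv_mul_cancel_right, hcy]

open CategoryTheory MonoidalCategory CartesianMonoidalCategory AlgebraicGeometry in


open CategoryTheory MonoidalCategory CartesianMonoidalCategory AlgebraicGeometry in
/-- Let S be a scheme, G a group scheme over S and X an S-scheme with an action of G. Then X is a
G-torsor for the fpqc topology — the morphism G ×_S X → X ×_S X, (g, x) ↦ (gx, x), is an isomorphism
and X → S acquires sections over the members of some fpqc covering family of S — if and only if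
there are an fpqc covering family of S and, for each member S' → S, an S-morphism s : S' → X for
which the G-equivariant S'-morphism G ×_S S' → X ×_S S', (g, t) ↦ (g·s(t), t), is an isomorphism; in
words, X becomes equivariantly isomorphic to the trivial torsor over each member of the covering.
(The published statement is set in any subcanonical site with fibre products, for an invariant arrow
X → Y; this row is its instance for schemes over S with the fpqc topology and Y = S.) -/
theorem result {S : Scheme.{u}} {G X : Over S} [GrpObj G]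
    (a : AlgGrp.Action G X) :
    NonAbH1.IsTorsorFor Scheme.fpqcPrecoverage a ↔
      ∃ R ∈ Scheme.fpqcPrecoverage S, ∀ ⦃S' : Scheme.{u}⦄ (f : S' ⟶ S), R f →
        ∃ s : Over.mk f ⟶ X, IsIso (lift ((G ◁ s) ≫ a.act) (snd G (Over.mk f))) := by
  constructor
  · rintro ⟨h1, R, hR, hsec⟩
    refine ⟨R, hR, fun S' f hf => ?_⟩
    obtain ⟨s, hs⟩ := hsec f hf
    exact ⟨Over.homMk s hs,
      Groth.Agent.Lib.Helper12.TorsorDescent.isIso_lift_of_section a h1 _⟩
  · rintro ⟨R, hR, h⟩
    refine ⟨?_, R, hR, fun S' f hf => ?_⟩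
    · refine Groth.Agent.Lib.Helper12.TorsorDescent.isIso_of_forall_isIso_whiskerRight _ R hR ?_
      intro S' f hf
      obtain ⟨s, hs⟩ := h f hf
      exact isIso_shear_whiskerRight a s hs
    · obtain ⟨s, hs⟩ := h f hf
      exact ⟨s.left, Over.w s⟩

end Groth.Agent.S14445
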