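import Groth.Statements.S14447
import Mathlib
-- import your own Groth.Agent.* helpers here

set_option autoImplicit false
set_option linter.style.haveILetI false
set_option linter.unusedSectionVars false
universe w v u
open AlgGrp

namespace Groth.Agent.S14447

open CategoryTheory CategoryTheory.Limits

section
variable {C : Type u} [Category.{v} C] [HasFiniteProducts C] [HasCoproducts.{w} C]

/-- `∐_{I×J} pt ⟶ ∐_I ∐_J pt`. -/
noncomputable def psi (I J : Type w) :
    (∐ fun _ : I × J => ⊤_ C) ⟶ ∐ fun _ : I => (∐ fun _ : J => ⊤_ C) :=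
  Sigma.desc fun p : I × J => Sigma.ι (fun _ : J => ⊤_ C) p.2 ≫
    Sigma.ι (fun _ : I => (∐ fun _ : J => ⊤_ C)) p.1

/-- inverse of `psi`. -/
noncomputable def psiInv (I J : Type w) :
    (∐ fun _ : I => (∐ fun _ : J => ⊤_ C)) ⟶ (∐ fun _ : I × J => ⊤_ C) :=
  Sigma.desc fun i : I => Sigma.desc fun j : J => Sigma.ι (fun _ : I × J => ⊤_ C) (i, j)

lemma psi_psiInv (I J : Type w) : psi (C := C) I J ≫ psiInv I J = 𝟙 _ := by
  apply Sigma.hom_ext
  rintro ⟨i, j⟩
  simp [psi, psiInv]

lemma psiInv_psi (I J : Type w) : psiInv (C := C) I J ≫ psi I J = 𝟙 _ := by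
  apply Sigma.hom_ext
  intro i
  apply Sigma.hom_ext
  intro j
  simp [psi, psiInv]

instance (I J : Type w) : IsIso (psi (C := C) I J) :=
  ⟨⟨psiInv I J, psi_psiInv I J, psiInv_psi I J⟩⟩

lemma lift_eq (I J : Type w) :
    prod.lift ((sigmaConst.{w}.obj (⊤_ C)).map (↾(Prod.fst : I × J → I)))
      ((sigmaConst.{w}.obj (⊤_ C)).map (↾(Prod.snd : I × J → J))) =
    psi I J ≫ (Sigma.desc fun i : I =>
      prod.lift (terminal.from (∐ fun _ : J => ⊤_ C) ≫ Sigma.ι (fun _ : I => ⊤_ C) i)
        (𝟙 (∐ fun _ : J => ⊤_ C))) := by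
  apply Sigma.hom_ext
  rintro ⟨i, j⟩
  apply Limits.prod.hom_ext
  · simp only [psi, sigmaConst_obj_map, Category.assoc, Sigma.ι_desc_assoc, Sigma.ι_desc,
      prod.comp_lift, prod.lift_fst, Sigma.ι_comp_map', TypeCat.ofHom_apply, Category.comp_id]
    refine (Category.id_comp _).trans (Eq.trans ?_ (prod.lift_fst _ _).symm)
    rw [← Category.assoc, Subsingleton.elim (Sigma.ι (fun _ : J => ⊤_ C) j ≫ terminal.from _) (𝟙 _),
      Category.id_comp]
  · simp only [psi, sigmaConst_obj_map, Category.assoc, Sigma.ι_desc_assoc, Sigma.ι_desc,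
      prod.comp_lift, prod.lift_snd, Sigma.ι_comp_map', TypeCat.ofHom_apply, Category.comp_id]
    exact (Category.id_comp _).trans (prod.lift_snd _ _).symm

end


open CategoryTheory CategoryTheory.Limits in
/-- Let C be a category with finite products and with all coproducts indexed by sets, and assume that
for every set I and every object U the canonical arrow ∐_{i∈I} U → (∐_{i∈I} pt) × U, whose i-th
component pairs U → pt → ∐_{i∈I} pt (i-th coprojection) with the identity of U, is an isomorphism.
Then the discrete-object functor from sets to C, I ↦ ∐_{i∈I} pt, preserves finite products. (Sets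
are the types of one fixed universe, the one indexing the coproducts. The published statement asks
only for the coproducts of copies of one object; this row assumes that C has all coproducts indexed
by sets, which Mathlib's discrete-object functor sigmaConst requires.) -/
theorem result {C : Type u} [Category.{v} C]
    [HasFiniteProducts C] [HasCoproducts.{w} C]
    (h : ∀ (I : Type w) (U : C), IsIso (Sigma.desc fun i : I =>
      prod.lift (terminal.from U ≫ Sigma.ι (fun _ : I => ⊤_ C) i) (𝟙 U))) :
    PreservesFiniteProducts (sigmaConst.{w}.obj (⊤_ C)) := by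
  have hterm : PreservesLimitsOfShape (Discrete.{0} PEmpty) (sigmaConst.{w}.obj (⊤_ C)) := by
    have : PreservesLimit (Functor.empty.{0} (Type w)) (sigmaConst.{w}.obj (⊤_ C)) := by
      apply preservesLimit_of_preserves_limit_cone Types.isTerminalPUnit
      apply (isLimitMapConeEmptyConeEquiv _ _).symm _
      exact IsTerminal.ofIso terminalIsTerminal
        (coproductUniqueIso (fun _ : PUnit.{w+1} => ⊤_ C)).symm
    exact preservesLimitsOfShape_pempty_of_preservesTerminal _
  have hbin : PreservesLimitsOfShape (Discrete WalkingPair) (sigmaConst.{w}.obj (⊤_ C)) := by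
    refine ⟨fun {K} => ?_⟩
    suffices H : ∀ I J : Type w, PreservesLimit (pair I J) (sigmaConst.{w}.obj (⊤_ C)) by
      have := H (K.obj ⟨WalkingPair.left⟩) (K.obj ⟨WalkingPair.right⟩)
      exact preservesLimit_of_iso_diagram _ (diagramIsoPair K).symm
    intro I J
    apply preservesLimit_of_preserves_limit_cone (Types.binaryProductLimit I J)
    apply (isLimitMapConeBinaryFanEquiv _ _ _).symm _
    have hiso : IsIso (prod.lift ((sigmaConst.{w}.obj (⊤_ C)).map (↾(Prod.fst : I × J → I)))
      ((sigmaConst.{w}.obj (⊤_ C)).map (↾(Prod.snd : I × J → J)))) := by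
      rw [lift_eq]
      have := h I (∐ fun _ : J => ⊤_ C)
      infer_instance
    refine @IsLimit.ofPointIso _ _ _ _ _ _ _ (limit.isLimit (pair _ _)) ?_
    exact hiso
  exact PreservesFiniteProducts.of_preserves_binary_and_terminal _

end Groth.Agent.S14447
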