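import Groth.Statements.S14449
import Mathlib
import Groth.Agent.Lib.Helper23Recoll
import Groth.Agent.Lib.Helper23IntStalkC
import Groth.Agent.Lib.Helper9JContAll
import Groth.Agent.S0651
-- import your own Groth.Agent.* helpers here

set_option autoImplicit false
set_option backward.isDefEq.respectTransparency.types false
universe u
open CategoryTheory CategoryTheory.Limits AlgebraicGeometry
open EtCore

namespace Groth.Agent.S14449


open Opposite

open Groth.Agent.Lib.Helper23.FinStalkA Groth.Agent.Lib.Helper23.FinStalkB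
  Groth.Agent.Lib.Helper23.FinStalkC Groth.Agent.Lib.Helper23.FinStalkD
  Groth.Agent.Lib.Helper23.FinStalkE Groth.Agent.Lib.Helper23.IntStalkC
  Groth.Agent.Lib.Helper16.EtGlue Groth.Agent.S0101

attribute [local instance] Groth.Agent.Lib.Helper9.JContAll.jCont

instance pull_pfl {X Y : Scheme.{u}} (f : X ⟶ Y) : PreservesFiniteLimits (EtCoh.pull f) :=
  Groth.Agent.S0101.result f

/-- `j⁻¹ i_* G = 0` when the images of `i` and `j` are disjoint (`j` etale) -/
lemma isZero_pull_push {X Z U : Scheme.{u}} (i : Z ⟶ X) (j : U ⟶ X) [AlgebraicGeometry.Etale j]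
    (hdisj : ∀ (u : U) (z : Z), j u ≠ i z) (G : EtCoh.Ab Z) :
    IsZero ((EtCoh.pull j).obj ((EtCoh.push i).obj G)) := by
  have hz : IsZero ((EtShriek.restrAlong j).obj ((EtCoh.push i).obj G)) := by
    rw [IsZero.iff_id_eq_zero]
    apply Sheaf.hom_ext
    ext W s
    haveI : IsEmpty ((EtCoh.bc i).obj ((EtShriek.compEtale j).obj W.unop)).left := by
      constructor
      intro p
      let p1 : W.unop.left := (pullback.fst (W.unop.hom ≫ j) i) p
      let p2 : Z := (pullback.snd (W.unop.hom ≫ j) i) p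
      have h1 : (W.unop.hom ≫ j) p1 = i p2 := by
        have := congrArg (fun m : pullback (W.unop.hom ≫ j) i ⟶ X => m p)
          (pullback.condition (f := W.unop.hom ≫ j) (g := i))
        simpa only [Scheme.Hom.comp_apply] using this
      rw [Scheme.Hom.comp_apply] at h1
      exact hdisj _ _ h1
    haveI := subsingleton_of_isEmpty
      (G.obj ⋙ forget AddCommGrpCat.{u + 1})
      ((isSheaf_iff_isSheaf_of_type _ _).1
        ((Presheaf.isSheaf_iff_isSheaf_forget _ G.obj
          (forget AddCommGrpCat.{u + 1})).1 G.property))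
      ((EtCoh.bc i).obj ((EtShriek.compEtale j).obj W.unop))
    exact Subsingleton.elim (α := (G.obj ⋙ forget AddCommGrpCat.{u + 1}).obj
      (op ((EtCoh.bc i).obj ((EtShriek.compEtale j).obj W.unop)))) _ _
  exact hz.of_iso ((Adjunction.leftAdjointUniq (EtCoh.pullPushAdj j)
    (Groth.Agent.S0651.restrPushAdj j)).app _)

/-- transport of bijectivity on stalks along `stalkPullIso` -/
lemma stalk_bijective_of_isIso_pull {X Y : Scheme.{u}} (f : Y ⟶ X) {F F' : EtCoh.Ab X}
    (φ : F ⟶ F') (hφ : IsIso ((EtCoh.pull f).map φ))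
    {Ω : Type u} [Field Ω] [IsAlgClosed Ω] (ξ : Spec (CommRingCat.of Ω) ⟶ Y) :
    Function.Bijective ((EtCoh.stalk (ξ ≫ f)).map φ) := by
  let e := stalkPullIso f ξ
  have h : (EtCoh.stalk (ξ ≫ f)).map φ =
      e.hom.app _ ≫ (EtCoh.stalk ξ).map ((EtCoh.pull f).map φ) ≫ e.inv.app _ :=
    (NatIso.naturality_2 e φ).symm
  haveI : IsIso ((EtCoh.stalk (ξ ≫ f)).map φ) := by
    rw [h]
    infer_instance
  exact ConcreteCategory.bijective_of_isIso _

/-- Let X be a scheme, i : Z ⟶ X a closed immersion and j : U ⟶ X an open immersion whose image is the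
complement of the image of i. Then the functor from abelian sheaves on the small étale site of X to
the category of triples (G on Z, H on U, φ : G ⟶ i⁻¹ j_* H), sending F to (i⁻¹ F, j⁻¹ F, i⁻¹ of the
unit F ⟶ j_* j⁻¹ F), is an equivalence of categories. The category of triples is the comma category
of the identity functor of Ab(Z) over j_* ⋙ i⁻¹. -/
theorem result {X Z U : Scheme.{u}}
    (i : Z ⟶ X) [IsClosedImmersion i] (j : U ⟶ X) [IsOpenImmersion j]
    (hZU : Set.range j.base = (Set.range i.base)ᶜ) :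
    (EtCore.recollTriple i j).IsEquivalence := by
  have hdisj : ∀ (u : U) (z : Z), j u ≠ i z := by
    intro u z h
    have h1 : j u ∈ Set.range j.base := ⟨u, rfl⟩
    rw [hZU] at h1
    exact h1 ⟨z, h.symm⟩
  have hI : ∀ G, IsIso ((EtCoh.pullPushAdj i).counit.app G) := isIso_counit_ui i
  have hJ : ∀ H, IsIso ((EtCoh.pullPushAdj j).counit.app H) :=
    Groth.Agent.S0651.isIso_counit_pull j
  have hz : ∀ G, IsZero ((EtCoh.pull j).obj ((EtCoh.push i).obj G)) :=
    isZero_pull_push i j hdisj
  have hc : ∀ {F F' : EtCoh.Ab X} (φ : F ⟶ F'), IsIso ((EtCoh.pull i).map φ) →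
      IsIso ((EtCoh.pull j).map φ) → IsIso φ := by
    intro F F' φ h1 h2
    apply isIso_of_stalks_algClosed
    intro Ω _ _ ξ
    by_cases hx : ξ (default : Spec (CommRingCat.of Ω)) ∈ Set.range j.base
    · have hr : Set.range ξ.base ⊆ Set.range j.base := by
        rintro _ ⟨a, rfl⟩
        rw [Subsingleton.elim a default]
        exact hx
      obtain ⟨u, rfl⟩ : ∃ u, u ≫ j = ξ :=
        ⟨IsOpenImmersion.lift j ξ hr, IsOpenImmersion.lift_fac _ _ _⟩
      exact stalk_bijective_of_isIso_pull j φ h2 u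
    · rw [hZU] at hx
      have hx' : ξ (default : Spec (CommRingCat.of Ω)) ∈ Set.range i.base := by
        by_contra hc
        exact hx hc
      obtain ⟨c, hc⟩ := hx'
      obtain ⟨z, rfl, -⟩ := exists_geo_lift i ξ c hc
      exact stalk_bijective_of_isIso_pull i φ h1 z
  exact Groth.Agent.Lib.Helper23Recoll.isEquivalence_glue (EtCoh.pullPushAdj i)
    (EtCoh.pullPushAdj j) hI hJ hz hc

end Groth.Agent.S14449
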