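import Groth.Statements.S1445
import Groth.Agent.Lib.Helper22ZmtFpC
import Groth.Agent.Lib.Helper22UFOa
import Groth.Agent.Lib.Helper22UFOc

set_option autoImplicit false
universe u
open FlatMor

namespace Groth.Agent.S1445

open AlgebraicGeometry CategoryTheory Limits in
/-- Let f : X → Y be quasi-finite and of finite presentation with X and Y affine. Then there are a
morphism Y_u → Y of finite presentation and an open U_u of Y_u ×_Y X finite over Y_u such that for
every morphism Y' → Y with Y' affine and every open U' of Y' ×_Y X finite over Y', some morphism Y'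
→ Y_u over Y pulls U_u back to U'. -/
theorem result {X Y : Scheme.{u}} (f : X ⟶ Y) [IsAffine X] [IsAffine Y] [LocallyQuasiFinite f] [LocallyOfFinitePresentation f] :
    ∃ (Yu : Scheme.{u}) (a : Yu ⟶ Y) (Uu : (pullback f a).Opens), LocallyOfFinitePresentation a ∧ QuasiCompact a ∧ QuasiSeparated a ∧
      IsFinite (Uu.ι ≫ pullback.snd f a) ∧
      ∀ (Y' : Scheme.{u}) (b : Y' ⟶ Y) (U' : (pullback f b).Opens), IsAffine Y' → IsFinite (U'.ι ≫ pullback.snd f b) →
        ∃ (c : Y' ⟶ Yu) (hc : c ≫ a = b),
          (pullback.map f b f a (𝟙 X) c (𝟙 Y) ((Category.comp_id f).trans (Category.id_comp f).symm) ((Category.comp_id b).trans hc.symm)) ⁻¹ᵁ Uu = U' := by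
  have : IsAffineHom f := inferInstance
  obtain ⟨B₁, instB₁, instAB₁, j, ρ, g, hfin, hfp, hoi, hjπ, hrange⟩ :=
    Groth.Agent.Lib.Helper22.ZmtFp.exists_fp_factorization_affine f
  exact Groth.Agent.Lib.Helper22.UFO.transport f Y.isoSpec
    (Groth.Agent.Lib.Helper22.UFO.f₀ (A := Γ(Y, ⊤)) j) hjπ.symm
    (Groth.Agent.Lib.Helper22.UFO.core j g hrange)

end Groth.Agent.S1445
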