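import Groth.Statements.S14453
import Mathlib

set_option autoImplicit false
universe w u
open CategoryTheory AlgebraicGeometry
open EtCore

namespace Groth.Agent.S14453

section Aux

variable {X : Scheme.{u}}

/-- The Zariski topology on the small étale site. -/
abbrev Zar (X : Scheme.{u}) : GrothendieckTopology X.Etale :=
  X.smallGrothendieckTopology (P := @IsOpenImmersion)

lemma mem_zar_iff (U : X.Etale) (R : Sieve U) :
    R ∈ Zar X U ↔ ∀ x : U.left, ∃ (Y : X.Etale) (f : Y ⟶ U) (y : Y.left),
      R f ∧ IsOpenImmersion f.left ∧ f.left y = x := by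
  have hle : @IsOpenImmersion ≤ @Etale := fun _ _ f hf => inferInstance
  show R ∈ X.smallGrothendieckTopology (P := @IsOpenImmersion) (Q := @Etale) U ↔ _
  rw [Scheme.smallGrothendieckTopology_eq_toGrothendieck_smallPretopology X hle]
  exact Scheme.mem_toGrothendieck_smallPretopology U R

lemma mem_et_iff (U : X.Etale) (R : Sieve U) :
    R ∈ X.smallEtaleTopology U ↔ ∀ x : U.left, ∃ (Y : X.Etale) (f : Y ⟶ U) (y : Y.left),
      R f ∧ f.left y = x := by
  have hle : @Etale ≤ @Etale := le_rfl
  show R ∈ X.smallGrothendieckTopology (P := @Etale) (Q := @Etale) U ↔ _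
  rw [Scheme.smallGrothendieckTopology_eq_toGrothendieck_smallPretopology X hle]
  refine (Scheme.mem_toGrothendieck_smallPretopology U R).trans ?_
  constructor
  · intro h x
    obtain ⟨Y, f, y, hf, -, hy⟩ := h x
    exact ⟨Y, f, y, hf, hy⟩
  · intro h x
    obtain ⟨Y, f, y, hf, hy⟩ := h x
    exact ⟨Y, f, y, hf, inferInstance, hy⟩

lemma exists_affine_mem (Y : Scheme.{u}) (x : Y) (O : Y.Opens) (hx : x ∈ O) :
    ∃ U : Y.Opens, IsAffineOpen U ∧ x ∈ U ∧ U ≤ O := by
  obtain ⟨_, ⟨U, hU, rfl⟩, hxU, hle⟩ :=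
    Y.isBasis_affineOpens.exists_subset_of_mem_open hx O.isOpen
  exact ⟨U, hU, hxU, hle⟩

/-- Restriction of an object of the small étale site to an open of its underlying scheme. -/
noncomputable def res (U : X.Etale) (W : U.left.Opens) : X.Etale :=
  Scheme.Etale.mk (W.ι ≫ U.hom)

@[simp] lemma res_left (U : X.Etale) (W : U.left.Opens) : (res U W).left = (W : Scheme.{u}) := rfl

@[simp] lemma res_hom (U : X.Etale) (W : U.left.Opens) : (res U W).hom = W.ι ≫ U.hom := rfl

/-- The inclusion of a restriction. -/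
noncomputable def resι (U : X.Etale) (W : U.left.Opens) : res U W ⟶ U :=
  MorphismProperty.Over.homMk W.ι rfl

@[simp] lemma resι_left (U : X.Etale) (W : U.left.Opens) : (resι U W).left = W.ι := rfl

/-- Inclusion between restrictions. -/
noncomputable def resLE (U : X.Etale) {W W' : U.left.Opens} (h : W ≤ W') : res U W ⟶ res U W' :=
  MorphismProperty.Over.homMk (U.left.homOfLE h) (by simp)

@[simp] lemma resLE_left (U : X.Etale) {W W' : U.left.Opens} (h : W ≤ W') :
    (resLE U h).left = U.left.homOfLE h := rfl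

/-- The Zariski one-hypercover of an object of the small étale site by affine opens. -/
noncomputable def affHyper (U : X.Etale) : (Zar X).OneHypercover.{u} U where
  I₀ := {W : U.left.Opens // IsAffineOpen W}
  X W := res U W.1
  f W := resι U W.1
  I₁ W W' := {W'' : U.left.Opens // IsAffineOpen W'' ∧ W'' ≤ W.1 ⊓ W'.1}
  Y _ _ W'' := res U W''.1
  p₁ _ _ W'' := resLE U (W''.2.2.trans inf_le_left)
  p₂ _ _ W'' := resLE U (W''.2.2.trans inf_le_right)
  w _ _ W'' := by
    apply MorphismProperty.Over.Hom.ext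
    change (resLE U _).left ≫ (resι U _).left = (resLE U _).left ≫ (resι U _).left
    simp
  mem₀ := by
    rw [mem_zar_iff]
    intro x
    obtain ⟨W, hW, hx, -⟩ := exists_affine_mem U.left x ⊤ trivial
    exact ⟨res U W, resι U W, ⟨x, hx⟩, Sieve.ofArrows_mk _ _ (⟨W, hW⟩ : {W // IsAffineOpen W}),
      inferInstanceAs (IsOpenImmersion W.ι), rfl⟩
  mem₁ W W' T q₁ q₂ hq := by
    rw [mem_zar_iff]
    intro t
    have hq' : q₁.left ≫ W.1.ι = q₂.left ≫ W'.1.ι := congrArg (fun f => f.left) hq
    let q : T.left ⟶ U.left := q₁.left ≫ W.1.ι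
    have h1 : q t ∈ W.1 := (q₁.left t).2
    have h2 : q t ∈ W'.1 := by
      show (q₁.left ≫ W.1.ι) t ∈ W'.1
      rw [hq']
      exact (q₂.left t).2
    obtain ⟨W'', hW'', ht, hle⟩ := exists_affine_mem U.left _ (W.1 ⊓ W'.1) ⟨h1, h2⟩
    let O : T.left.Opens := q ⁻¹ᵁ W''
    have hw : q.resLE W'' O le_rfl ≫ (res U W'').hom = (res T O).hom := by
      simp only [res_hom]
      rw [Scheme.Hom.resLE_comp_ι_assoc]
      have e : q₁.left ≫ W.1.ι ≫ U.hom = T.hom := MorphismProperty.Over.w q₁
      simp only [q, Category.assoc, e]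
    refine ⟨res T O, resι T O, ⟨t, ht⟩, ⟨⟨W'', hW'', hle⟩,
      MorphismProperty.Over.homMk (q.resLE W'' O le_rfl) hw, ?_, ?_⟩,
      inferInstanceAs (IsOpenImmersion O.ι), rfl⟩
    · apply MorphismProperty.Over.Hom.ext
      change O.ι ≫ q₁.left = q.resLE W'' O le_rfl ≫ U.left.homOfLE (hle.trans inf_le_left)
      refine (cancel_mono W.1.ι).1 ?_
      simp [q]
    · apply MorphismProperty.Over.Hom.ext
      change O.ι ≫ q₂.left = q.resLE W'' O le_rfl ≫ U.left.homOfLE (hle.trans inf_le_right)
      refine (cancel_mono W'.1.ι).1 ?_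
      simp [q, hq']

instance : Limits.PreservesLimitsOfShape Limits.WalkingCospan (Scheme.Etale.forget X) :=
  inferInstanceAs (Limits.PreservesLimitsOfShape Limits.WalkingCospan
    (MorphismProperty.Over.forget @Etale ⊤ X))

lemma sheafFor_pullback_affine {F : X.Etaleᵒᵖ ⥤ Type w}
    (hA : ∀ (U V : X.Etale) [IsAffine U.left] [IsAffine V.left] (f : V ⟶ U) [Surjective f.left],
      Presieve.IsSheafFor F (Presieve.singleton f))
    {U V Y : X.Etale} [IsAffine U.left] [IsAffine V.left] [IsAffine Y.left] (p : V ⟶ U)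
    [Surjective p.left] (g : Y ⟶ U) :
    Presieve.IsSheafFor F ((Sieve.generate (Presieve.singleton p)).pullback g).arrows := by
  rw [← Sieve.pullbackArrows_comm, ← Presieve.isSheafFor_iff_generate,
    Presieve.pullback_singleton]
  have sq : IsPullback (Limits.pullback.fst p g).left (Limits.pullback.snd p g).left
      p.left g.left :=
    (IsPullback.of_hasPullback p g).map (Scheme.Etale.forget X ⋙ CategoryTheory.Over.forget X)
  have h1 : IsAffine (Limits.pullback p g).left := .of_isIso sq.isoPullback.hom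
  have h2 : Surjective (Limits.pullback.snd p g).left :=
    MorphismProperty.of_isPullback (P := @Surjective) sq inferInstance
  exact hA _ _ _

lemma isAffine_res_left (U : X.Etale) (W : U.left.Opens) (hW : IsAffineOpen W) :
    IsAffine (res U W).left := hW

lemma claimA {F : X.Etaleᵒᵖ ⥤ Type w} (hZ : Presieve.IsSheaf (Zar X) F)
    (hA : ∀ (U V : X.Etale) [IsAffine U.left] [IsAffine V.left] (f : V ⟶ U) [Surjective f.left],
      Presieve.IsSheafFor F (Presieve.singleton f))
    {U V : X.Etale} [IsAffine U.left] [IsAffine V.left] (p : V ⟶ U) [Surjective p.left] :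
    Sieve.generate (Presieve.singleton p) ∈ Sheaf.finestTopologySingle F U := by
  intro Y g
  refine (affHyper Y).isSheafFor_sieve_of_pullback hZ (fun W => ?_) (fun W W' W'' => ?_)
  · rw [← Sieve.pullback_comp]
    have : IsAffine ((affHyper Y).X W).left := W.2
    exact sheafFor_pullback_affine hA p _
  · rw [← Sieve.pullback_comp]
    have : IsAffine ((affHyper Y).Y W'').left := W''.2.1
    exact (sheafFor_pullback_affine hA p _).isSeparatedFor

lemma generate_singleton_elim {C : Type*} [Category C] {A B : C} (p : B ⟶ A) {Z : C} (g : Z ⟶ A)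
    (hg : (Sieve.generate (Presieve.singleton p)).arrows g) : ∃ h : Z ⟶ B, h ≫ p = g := by
  obtain ⟨W, h, q, ⟨⟩, rfl⟩ := hg
  exact ⟨h, rfl⟩

lemma et_le {F : X.Etaleᵒᵖ ⥤ Type w} (hZ : Presieve.IsSheaf (Zar X) F)
    (hA : ∀ (U V : X.Etale) [IsAffine U.left] [IsAffine V.left] (f : V ⟶ U) [Surjective f.left],
      Presieve.IsSheafFor F (Presieve.singleton f)) :
    X.smallEtaleTopology ≤ Sheaf.finestTopologySingle F := by
  classical
  have hZar : Zar X ≤ Sheaf.finestTopologySingle F := by
    intro U R hR Y f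
    exact hZ _ (GrothendieckTopology.pullback_stable _ f hR)
  have haff : ∀ (U : X.Etale) [IsAffine U.left] (R : Sieve U),
      R ∈ X.smallEtaleTopology U → R ∈ Sheaf.finestTopologySingle F U := by
    intro U _ R hR
    rw [mem_et_iff] at hR
    choose Y f y hf hy using hR
    have hA' : ∀ x : U.left, ∃ A : (Y x).left.Opens, IsAffineOpen A ∧ y x ∈ A := fun x => by
      obtain ⟨A, hA, hx, -⟩ := exists_affine_mem (Y x).left (y x) ⊤ trivial
      exact ⟨A, hA, hx⟩
    choose A hAaff hyA using hA'
    let φ : ∀ x, res (Y x) (A x) ⟶ U := fun x => resι (Y x) (A x) ≫ f x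
    have hφl : ∀ x, (φ x).left = (A x).ι ≫ (f x).left := fun x => rfl
    have hφR : ∀ x, R (φ x) := fun x => R.downward_closed (hf x) _
    have hopen : ∀ x, IsOpen (Set.range (φ x).left) := fun x =>
      (φ x).left.isOpenMap.isOpen_range
    have hmem : ∀ x, x ∈ Set.range (φ x).left := fun x => ⟨⟨y x, hyA x⟩, by
      rw [hφl]
      exact hy x⟩
    obtain ⟨t, ht⟩ := isCompact_univ.elim_finite_subcover (fun x => Set.range (φ x).left) hopen
      (fun x _ => Set.mem_iUnion.2 ⟨x, hmem x⟩)
    have hE : Etale (Limits.Sigma.desc (fun x : t => (res (Y x.1) (A x.1)).hom)) :=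
      IsZariskiLocalAtSource.sigmaDesc (fun x => inferInstance)
    let V : X.Etale := Scheme.Etale.mk (Limits.Sigma.desc (fun x : t => (res (Y x.1) (A x.1)).hom))
    have hpw : Limits.Sigma.desc (fun x : t => (φ x.1).left) ≫ U.hom = V.hom := by
      apply Limits.Sigma.hom_ext
      intro x
      have e : (φ x.1).left ≫ U.hom = (res (Y x.1) (A x.1)).hom := MorphismProperty.Over.w (φ x.1)
      rw [Limits.Sigma.ι_desc_assoc]
      change (φ x.1).left ≫ U.hom =
        Limits.Sigma.ι (fun x : t => ((A x.1 : (Y x.1).left.Opens) : Scheme.{u})) x ≫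
          Limits.Sigma.desc (fun x : t => (res (Y x.1) (A x.1)).hom)
      rw [Limits.Sigma.ι_desc]
      exact e
    let p : V ⟶ U := MorphismProperty.Over.homMk (Limits.Sigma.desc (fun x : t => (φ x.1).left)) hpw
    have hVa : IsAffine V.left := by
      have : ∀ x : t, IsAffine ((A x.1 : (Y x.1).left.Opens) : Scheme.{u}) := fun x => hAaff x.1
      exact inferInstanceAs (IsAffine (∐ fun x : t => ((A x.1 : (Y x.1).left.Opens) : Scheme.{u})))
    have hps : Surjective p.left := by
      refine ⟨fun u => ?_⟩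
      obtain ⟨x, hx⟩ := Set.mem_iUnion.1 (ht (Set.mem_univ u))
      obtain ⟨hxt, v, rfl⟩ := Set.mem_iUnion.1 hx
      refine ⟨Limits.Sigma.ι (fun x : t => ((A x.1 : (Y x.1).left.Opens) : Scheme.{u})) ⟨x, hxt⟩ v, ?_⟩
      show (Limits.Sigma.ι (fun x : t => ((A x.1 : (Y x.1).left.Opens) : Scheme.{u})) ⟨x, hxt⟩ ≫
        Limits.Sigma.desc (fun x : t => (φ x.1).left)) v = _
      rw [Limits.Sigma.ι_desc]
      rfl
    have hp := claimA hZ hA p
    refine (Sheaf.finestTopologySingle F).transitive hp R ?_
    intro Y' g' hg'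
    obtain ⟨h', rfl⟩ := generate_singleton_elim p g' hg'
    rw [Sieve.pullback_comp]
    refine GrothendieckTopology.pullback_stable _ h' ?_
    apply hZar
    rw [mem_zar_iff]
    intro v
    obtain ⟨x, v', hv'⟩ :=
      (sigmaOpenCover (fun x : t => ((A x.1 : (Y x.1).left.Opens) : Scheme.{u}))).exists_eq v
    have hιw : Limits.Sigma.ι (fun x : t => ((A x.1 : (Y x.1).left.Opens) : Scheme.{u})) x ≫ V.hom =
        (res (Y x.1) (A x.1)).hom := by
      simp [V]
    refine ⟨res (Y x.1) (A x.1), MorphismProperty.Over.homMk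
      (Limits.Sigma.ι (fun x : t => ((A x.1 : (Y x.1).left.Opens) : Scheme.{u})) x) hιw, v', ?_,
      (inferInstance : IsOpenImmersion
        (Limits.Sigma.ι (fun x : t => ((A x.1 : (Y x.1).left.Opens) : Scheme.{u})) x)), hv'⟩
    have e : (MorphismProperty.Over.homMk
      (Limits.Sigma.ι (fun x : t => ((A x.1 : (Y x.1).left.Opens) : Scheme.{u})) x) hιw :
        res (Y x.1) (A x.1) ⟶ V) ≫ p = φ x.1 := by
      apply MorphismProperty.Over.Hom.ext
      change Limits.Sigma.ι (fun x : t => ((A x.1 : (Y x.1).left.Opens) : Scheme.{u})) x ≫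
        Limits.Sigma.desc (fun x : t => (φ x.1).left) = _
      rw [Limits.Sigma.ι_desc]
    exact (congrArg (fun g => R.arrows g) e).mpr (hφR _)
  intro U R hR
  refine (Sheaf.finestTopologySingle F).transitive (hZar _ (affHyper U).mem₀) R ?_
  rintro Y g ⟨W, h, _, ⟨W0⟩, rfl⟩
  rw [Sieve.pullback_comp]
  refine GrothendieckTopology.pullback_stable _ h ?_
  have : IsAffine ((affHyper U).X W0).left := W0.2
  exact haff _ _ (GrothendieckTopology.pullback_stable _ _ hR)

end Aux


/-- Let X be a scheme and F a presheaf of sets on the small étale site of X. Then F is an étale sheaf if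
and only if F is a sheaf for the Zariski topology on the same category (coverings are jointly
surjective families of open immersions between étale X-schemes) and, for every morphism f : V ⟶ U of
étale X-schemes with U and V affine and f surjective, F satisfies the sheaf condition for the single
arrow f. -/
theorem result (X : Scheme.{u})
    (F : X.Etaleᵒᵖ ⥤ Type w) :
    Presieve.IsSheaf X.smallEtaleTopology F ↔
      Presieve.IsSheaf (X.smallGrothendieckTopology (P := @IsOpenImmersion)) F ∧
        ∀ (U V : X.Etale) [IsAffine U.left] [IsAffine V.left] (f : V ⟶ U) [Surjective f.left],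
          Presieve.IsSheafFor F (Presieve.singleton f) := by
  constructor
  · intro hF
    refine ⟨Presieve.isSheaf_of_le F ?_ hF, fun U V _ _ f _ => ?_⟩
    · intro U R hR
      rw [mem_et_iff]
      intro x
      obtain ⟨Y, f, y, hf, -, hy⟩ := (mem_zar_iff U R).1 hR x
      exact ⟨Y, f, y, hf, hy⟩
    · rw [Presieve.isSheafFor_iff_generate]
      refine hF _ ?_
      rw [mem_et_iff]
      intro x
      obtain ⟨y, hy⟩ := f.left.surjective x
      exact ⟨V, f, y, Sieve.le_generate _ _ _ Presieve.singleton.mk, hy⟩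
  · rintro ⟨hZ, hA⟩ U R hR
    have := et_le hZ hA U hR U (𝟙 U)
    simpa using this

end Groth.Agent.S14453
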