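import Groth.Statements.S14456
import Mathlib
import Groth.Agent.Lib.Helper5AdicFlat

set_option autoImplicit false
universe u
open CAlg

namespace Groth.Agent.S14456

/-- Take a local homomorphism A → B between Noetherian local rings, M a finitely generated B-module and
f an element of the maximal ideal of B. If M/f^(n+1)M is flat over A for every n ≥ 0, then M is flat
over A. -/
theorem result {A B : Type u} [CommRing A] [CommRing B]
    [IsNoetherianRing A] [IsNoetherianRing B] [IsLocalRing A] [IsLocalRing B] [Algebra A B]
    [IsLocalHom (algebraMap A B)] (M : Type u) [AddCommGroup M] [Module B M] [Module A M]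
    [IsScalarTower A B M] [Module.Finite B M] (f : B) (hf : f ∈ IsLocalRing.maximalIdeal B)
    (hflat : ∀ n : ℕ, Module.Flat A (M ⧸ (Ideal.span {f ^ (n + 1)} • (⊤ : Submodule B M)))) :
    Module.Flat A M := by
  have hI : Ideal.span {f} ≠ (⊤ : Ideal B) := by
    intro htop
    have h1 : Ideal.span {f} ≤ IsLocalRing.maximalIdeal B :=
      (Ideal.span_singleton_le_iff_mem _).mpr hf
    rw [htop] at h1
    exact (IsLocalRing.maximalIdeal.isMaximal B).ne_top (top_le_iff.mp h1)
  refine Groth.Agent.Lib.Helper5.flat_of_forall_flat_quotient_smul_top (A := A) (B := B) M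
    (fun n => Ideal.span {f ^ (n + 1)}) ?_ hflat
  intro N _ _ _
  rw [eq_bot_iff]
  intro x hx
  rw [← Ideal.iInf_pow_smul_eq_bot_of_isLocalRing (M := N) (Ideal.span {f}) hI]
  rw [Submodule.mem_iInf] at hx ⊢
  intro n
  have h1 := hx n
  rw [← Ideal.span_singleton_pow] at h1
  exact Submodule.smul_mono_left (Ideal.pow_le_pow_right (Nat.le_succ n)) h1

end Groth.Agent.S14456
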