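import Groth.Statements.S14457
import Mathlib

set_option autoImplicit false
universe u
open CAlg

namespace Groth.Agent.S14457

open Polynomial

variable {A : Type u} [CommRing A]

theorem monic_f (a : A) (n : ℕ) (hn : 1 ≤ n) : ((X : A[X]) ^ n - C a).Monic :=
  monic_X_pow_sub_C a (by omega)

/-- sufficient condition: Bezout relation between `f` and `f'`. -/
theorem etale_of_bezout (f : A[X]) (hf : f.Monic) (p₁ p₂ : A[X])
    (h : derivative f * p₁ + f * p₂ = 1) : Algebra.Etale A (AdjoinRoot f) := by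
  let P : StandardEtalePair A := ⟨f, hf, 1, ⟨p₁, p₂, 1, by rw [pow_one]; exact h⟩⟩
  have e1 : P.Ring ≃ₐ[A] Localization.Away (AdjoinRoot.mk P.f P.g) := P.equivAwayAdjoinRoot
  have hle : Submonoid.powers (AdjoinRoot.mk P.f P.g) ≤ IsUnit.submonoid (AdjoinRoot f) := by
    rintro _ ⟨k, rfl⟩
    show IsUnit ((AdjoinRoot.mk P.f P.g) ^ k)
    have : AdjoinRoot.mk P.f P.g = 1 := map_one _
    rw [this, one_pow]
    exact isUnit_one
  have e2 : AdjoinRoot f ≃ₐ[AdjoinRoot f] Localization.Away (AdjoinRoot.mk P.f P.g) :=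
    IsLocalization.atUnits (AdjoinRoot f) (Submonoid.powers (AdjoinRoot.mk P.f P.g)) hle
  have e3 : P.Ring ≃ₐ[A] AdjoinRoot f := e1.trans (e2.restrictScalars A).symm
  exact Algebra.Etale.of_equiv e3

theorem unit_of_unit_map (f : A[X]) (hf : f.Monic) (hdeg : 1 ≤ f.natDegree) (x : A)
    (hx : IsUnit (algebraMap A (AdjoinRoot f) x)) : IsUnit x := by
  have hnorm := Algebra.norm_algebraMap_of_basis (AdjoinRoot.powerBasis' hf).basis x
  have h1 : IsUnit (Algebra.norm A (algebraMap A (AdjoinRoot f) x)) := hx.map _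
  rw [hnorm] at h1
  have hcard : Fintype.card (Fin (AdjoinRoot.powerBasis' hf).dim) = f.natDegree := by
    rw [Fintype.card_fin, AdjoinRoot.powerBasis'_dim]
  rw [hcard] at h1
  exact (isUnit_pow_iff (by omega)).mp h1

theorem unit_deriv_of_unramified (a : A) (n : ℕ) (hn : 1 ≤ n)
    [Algebra.FormallyUnramified A (AdjoinRoot ((X : A[X]) ^ n - C a))] :
    IsUnit ((n : AdjoinRoot ((X : A[X]) ^ n - C a)) * (AdjoinRoot.root ((X : A[X]) ^ n - C a)) ^ (n - 1)) := by
  set f : A[X] := (X : A[X]) ^ n - C a with hf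
  set S := AdjoinRoot f
  set r : S := AdjoinRoot.root f
  set d : S := (n : S) * r ^ (n - 1) with hd
  -- quotient ring
  let Q := S ⧸ Ideal.span {d}
  let π : S →ₐ[A] Q := Ideal.Quotient.mkₐ A (Ideal.span {d})
  have hπd : π d = 0 := by
    show Ideal.Quotient.mk _ d = 0
    exact Ideal.Quotient.eq_zero_iff_mem.mpr (Ideal.mem_span_singleton_self d)
  have hroot : r ^ n = algebraMap A S a := by
    have := AdjoinRoot.eval₂_root f
    rw [hf, eval₂_sub, eval₂_pow, eval₂_X, eval₂_C, sub_eq_zero] at this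
    exact this
  -- two maps S → Q[ε]
  let φ₁ : S →ₐ[A] TrivSqZeroExt Q Q := (TrivSqZeroExt.inlAlgHom A Q Q).comp π
  have hx0 : aeval (TrivSqZeroExt.inl (π r) + TrivSqZeroExt.inr (1 : Q) : TrivSqZeroExt Q Q) f = 0 := by
    conv_lhs => arg 2; rw [hf]
    rw [map_sub, map_pow, aeval_X, aeval_C]
    apply TrivSqZeroExt.ext
    · simp only [TrivSqZeroExt.fst_sub, TrivSqZeroExt.fst_pow, TrivSqZeroExt.fst_add,
        TrivSqZeroExt.fst_inl, TrivSqZeroExt.fst_inr, add_zero, TrivSqZeroExt.fst_zero]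
      rw [TrivSqZeroExt.algebraMap_eq_inl', TrivSqZeroExt.fst_inl, ← map_pow, hroot,
        AlgHom.commutes, sub_self]
    · simp only [TrivSqZeroExt.snd_sub, TrivSqZeroExt.snd_pow, TrivSqZeroExt.fst_add,
        TrivSqZeroExt.fst_inl, TrivSqZeroExt.fst_inr, add_zero, TrivSqZeroExt.snd_add,
        TrivSqZeroExt.snd_inl, TrivSqZeroExt.snd_inr, zero_add, TrivSqZeroExt.snd_zero]
      rw [TrivSqZeroExt.algebraMap_eq_inl', TrivSqZeroExt.snd_inl, sub_zero, smul_eq_mul, mul_one,
        Nat.pred_eq_sub_one, nsmul_eq_mul, ← map_pow, ← map_natCast π, ← map_mul, ← hd, hπd]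
  let φ₂ : S →ₐ[A] TrivSqZeroExt Q Q := AdjoinRoot.liftAlgHom f (Algebra.ofId A _)
    (TrivSqZeroExt.inl (π r) + TrivSqZeroExt.inr (1 : Q)) (by
      have := hx0
      rwa [aeval_def] at this)
  have hker : IsNilpotent (RingHom.ker ((TrivSqZeroExt.fstHom A Q Q : TrivSqZeroExt Q Q →ₐ[A] Q) : TrivSqZeroExt Q Q →+* Q)) := by
    refine ⟨2, ?_⟩
    have key : ∀ (I : Ideal (TrivSqZeroExt Q Q)), (∀ x ∈ I, ∀ y ∈ I, x * y = 0) → I ^ 2 = 0 := by
      intro I hI
      rw [sq, Ideal.zero_eq_bot, eq_bot_iff, Ideal.mul_le]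
      intro x hx y hy; rw [Ideal.mem_bot]; exact hI x hx y hy
    refine key _ ?_
    intro x hx y hy
    rw [RingHom.mem_ker] at hx hy
    have hx' : x.fst = 0 := hx
    have hy' : y.fst = 0 := hy
    apply TrivSqZeroExt.ext
    · simp [hx', hy']
    · simp [hx', hy']
  have heq : φ₁ = φ₂ := by
    apply Algebra.FormallyUnramified.ext' _ hker
    intro x
    induction x using AdjoinRoot.induction_on with
    | ih p =>
      have h1 : φ₁ (AdjoinRoot.mk f p) = TrivSqZeroExt.inl (π (AdjoinRoot.mk f p)) := rfl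
      have h2 : φ₂ (AdjoinRoot.mk f p) = eval₂ (algebraMap A _) (TrivSqZeroExt.inl (π r) + TrivSqZeroExt.inr (1 : Q)) p := by
        show AdjoinRoot.liftAlgHom f _ _ _ (AdjoinRoot.mk f p) = _
        rw [AdjoinRoot.liftAlgHom_mk]
        rfl
      rw [h1, h2]
      have : ((TrivSqZeroExt.fstHom A Q Q : TrivSqZeroExt Q Q →ₐ[A] Q) : TrivSqZeroExt Q Q →+* Q)
          (eval₂ (algebraMap A _) (TrivSqZeroExt.inl (π r) + TrivSqZeroExt.inr (1 : Q)) p)
          = eval₂ (algebraMap A Q) (π r) p := by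
        rw [Polynomial.hom_eval₂]
        have e1 : ((TrivSqZeroExt.fstHom A Q Q : TrivSqZeroExt Q Q →ₐ[A] Q) : TrivSqZeroExt Q Q →+* Q).comp
            (algebraMap A (TrivSqZeroExt Q Q)) = algebraMap A Q :=
          RingHom.ext fun z => by simp
        have e2 : ((TrivSqZeroExt.fstHom A Q Q : TrivSqZeroExt Q Q →ₐ[A] Q) : TrivSqZeroExt Q Q →+* Q)
            (TrivSqZeroExt.inl (π r) + TrivSqZeroExt.inr (1 : Q)) = π r := by simp
        rw [e1, e2]
      rw [this]
      show π (AdjoinRoot.mk f p) = _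
      have h3 : AdjoinRoot.mk f p = aeval r p := (AdjoinRoot.aeval_eq p).symm
      rw [h3, ← Polynomial.aeval_algHom_apply, aeval_def]
  have h10 : (φ₁ r).snd = (φ₂ r).snd := by rw [heq]
  have h11 : (φ₁ r).snd = 0 := by
    show (TrivSqZeroExt.inl (π r) : TrivSqZeroExt Q Q).snd = 0
    simp
  have h12 : (φ₂ r).snd = 1 := by
    have h13 : φ₂ r = TrivSqZeroExt.inl (π r) + TrivSqZeroExt.inr (1 : Q) :=
      AdjoinRoot.liftAlgHom_root f _ _ _
    rw [h13]
    simp
  have h01 : (0 : Q) = 1 := by rw [← h11, h10, h12]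
  -- so span {d} = ⊤
  have : (1 : S) ∈ Ideal.span {d} := by
    have h1 : Ideal.Quotient.mk (Ideal.span {d}) (1 : S) = 0 := by
      rw [map_one]; exact h01.symm
    exact Ideal.Quotient.eq_zero_iff_mem.mp h1
  rw [Ideal.mem_span_singleton'] at this
  obtain ⟨c, hc⟩ := this
  exact .of_mul_eq_one c (by rw [mul_comm]; exact hc)


open Polynomial in
/-- Let A be a commutative ring, a an element of A and n ≥ 1 an integer. The A-algebra A[T]/(T^n − a) is
etale exactly when either n = 1 or the product n·a is a unit of A. (The exponent n is a positive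
integer here; for n = 0 the quotient is (A/(1 − a))[T] and the equivalence fails.) -/
theorem result (A : Type u) [CommRing A] (a : A) (n : ℕ) (hn : 1 ≤ n) :
    Algebra.Etale A (AdjoinRoot ((X : A[X]) ^ n - C a)) ↔ n = 1 ∨ IsUnit ((n : A) * a) := by
  constructor
  · intro h
    by_cases h1 : n = 1
    · exact Or.inl h1
    · right
      rcases subsingleton_or_nontrivial A with hs | hnt
      · exact isUnit_of_subsingleton _
      have hn2 : 2 ≤ n := by omega
      have hu := unit_deriv_of_unramified a n hn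
      set f : A[X] := (X : A[X]) ^ n - C a with hf
      set r := AdjoinRoot.root f
      have hroot : r ^ n = algebraMap A (AdjoinRoot f) a := by
        have := AdjoinRoot.eval₂_root f
        rw [hf, eval₂_sub, eval₂_pow, eval₂_X, eval₂_C, sub_eq_zero] at this
        exact this
      have hnu : IsUnit (n : AdjoinRoot f) := isUnit_of_mul_isUnit_left hu
      have hru : IsUnit r := by
        have : IsUnit (r ^ (n - 1)) := isUnit_of_mul_isUnit_right hu
        exact (isUnit_pow_iff (by omega)).mp this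
      have hau : IsUnit (algebraMap A (AdjoinRoot f) ((n : A) * a)) := by
        rw [map_mul, map_natCast, ← hroot]
        exact hnu.mul (hru.pow n)
      have hdeg : 1 ≤ f.natDegree := by
        rw [hf, natDegree_X_pow_sub_C]; exact hn
      exact unit_of_unit_map f (monic_f a n hn) hdeg _ hau
  · rintro (rfl | hu)
    · -- n = 1
      apply etale_of_bezout _ (monic_f a 1 le_rfl) 1 0
      simp
    · obtain ⟨u, hu'⟩ := hu
      apply etale_of_bezout _ (monic_f a n hn) (C (↑u⁻¹ : A) * X) (- C (↑u⁻¹ : A) * C (n : A))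
      have hder : derivative ((X : A[X]) ^ n - C a) = C (n : A) * X ^ (n - 1) := by
        rw [derivative_sub, derivative_C, sub_zero, derivative_X_pow]
      rw [hder]
      have hX : (X : A[X]) ^ (n - 1) * X = X ^ n := by
        rw [← pow_succ]; congr 1; omega
      have : C (n : A) * X ^ (n - 1) * (C (↑u⁻¹ : A) * X) + (X ^ n - C a) * (- C (↑u⁻¹ : A) * C (n : A))
          = C (↑u⁻¹ : A) * C ((n : A) * a) + C (n : A) * C (↑u⁻¹ : A) * (X ^ (n - 1) * X - X ^ n) := by
        rw [map_mul]; ring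
      rw [this, hX, sub_self, mul_zero, add_zero, ← map_mul, ← hu', Units.inv_mul, map_one]

end Groth.Agent.S14457
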