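import Groth.Statements.S14458
import Mathlib.RingTheory.Artinian.Ring
import Mathlib.LinearAlgebra.TensorProduct.Quotient
import Mathlib.LinearAlgebra.Quotient.Basic
import Mathlib.RingTheory.LocalRing.ResidueField.Defs
import Mathlib.RingTheory.LocalRing.MaximalIdeal.Basic

set_option autoImplicit false
universe u
open CAlg

namespace Groth.Agent.S14458

open TensorProduct in
/-- Let R be an Artinian local ring with residue field k and M an R-module, not necessarily finitely
generated. If M ⊗_R k = 0 then M = 0. -/
theorem result {R : Type u} [CommRing R]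
    [IsArtinianRing R] [IsLocalRing R] (M : Type u) [AddCommGroup M] [Module R M]
    (h : Subsingleton ((IsLocalRing.ResidueField R) ⊗[R] M)) : Subsingleton M := by
  classical
  set m := IsLocalRing.maximalIdeal R with hm
  -- m • ⊤ = ⊤
  have htop : m • (⊤ : Submodule R M) = ⊤ := by
    have e := TensorProduct.quotTensorEquivQuotSMul M m
    have hsub : Subsingleton (M ⧸ (m • (⊤ : Submodule R M))) := by
      have : Subsingleton ((R ⧸ m) ⊗[R] M) := h
      exact e.symm.injective.subsingleton
    exact Submodule.Quotient.subsingleton_iff.mp hsub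
  -- m nilpotent
  obtain ⟨n, hn⟩ : IsNilpotent m := by
    have := IsArtinianRing.isNilpotent_jacobson_bot (R := R)
    rwa [IsLocalRing.jacobson_eq_maximalIdeal ⊥ bot_ne_top] at this
  have hpow : ∀ j : ℕ, (m ^ j) • (⊤ : Submodule R M) = ⊤ := by
    intro j
    induction j with
    | zero => rw [pow_zero, Ideal.one_eq_top, Submodule.top_smul]
    | succ j ih => rw [pow_succ, mul_smul, htop, ih]
  have h0 := hpow n
  rw [hn, Ideal.zero_eq_bot, Submodule.bot_smul] at h0
  exact (Submodule.subsingleton_iff R).mp (subsingleton_of_bot_eq_top h0)

end Groth.Agent.S14458
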