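import Groth.Statements.S14462
import Mathlib
import Groth.Agent.Lib.Helper22DiscPurity

set_option autoImplicit false
universe u
open CategoryTheory AlgebraicGeometry
open Unram

namespace Groth.Agent.S14462
open CategoryTheory AlgebraicGeometry CategoryTheory.Limits
open Groth.Agent.Lib.Helper22.DiscPurity

set_option backward.isDefEq.respectTransparency.types false in
theorem etale_app_of_free_dim {X Y : Scheme.{u}} [IsLocallyNoetherian X] (π : Y ⟶ X) [IsFinite π]
    (U : X.Opens)
    (hU : ∀ x : X, x ∉ U → (2 : WithBot ℕ∞) ≤ ringKrullDim (X.presheaf.stalk x))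
    [Etale (pullback.snd π U.ι)] (W : X.Opens) (hW : IsAffineOpen W)
    (hfree : @Module.Free Γ(X, W) Γ(Y, π ⁻¹ᵁ W) _ _ (π.app W).hom.toAlgebra.toModule) :
    (π.app W).hom.Etale := by
  letI : Algebra Γ(X, W) Γ(Y, π ⁻¹ᵁ W) := (π.app W).hom.toAlgebra
  have hfin : Module.Finite Γ(X, W) Γ(Y, π ⁻¹ᵁ W) := π.finite_app W hW
  haveI : IsNoetherianRing Γ(X, W) := IsLocallyNoetherian.component_noetherian ⟨W, hW⟩
  classical
  let bas := Module.Free.chooseBasis Γ(X, W) Γ(Y, π ⁻¹ᵁ W)
  have hunit : IsUnit (Algebra.discr Γ(X, W) bas) := by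
    by_contra hnu
    have hne : Ideal.span {Algebra.discr Γ(X, W) bas} ≠ ⊤ := by
      rwa [Ne, Ideal.span_singleton_eq_top]
    obtain ⟨p, hp⟩ := Ideal.nonempty_minimalPrimes hne
    haveI hpp : p.IsPrime := hp.1.1
    have hht : p.height ≤ 1 := Ideal.height_le_one_of_isPrincipal_of_mem_minimalPrimes _ p hp
    let y : PrimeSpectrum Γ(X, W) := ⟨p, hpp⟩
    have hyW : hW.fromSpec y ∈ W := by
      have : hW.fromSpec y ∈ Set.range hW.fromSpec := ⟨y, rfl⟩
      rw [hW.range_fromSpec] at this
      exact this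
    have hdp : Algebra.discr Γ(X, W) bas ∈ p := hp.1.2 (Ideal.subset_span rfl)
    by_cases hxU : hW.fromSpec y ∈ U
    · obtain ⟨g, hgU, hxg⟩ := hW.exists_basicOpen_le (V := U) ⟨_, hxU⟩ hyW
      obtain ⟨u, n, hun⟩ := exists_mul_eq_pow π U W hW bas g hgU
      have h1 : g ^ n ∈ p := hun ▸ p.mul_mem_right _ hdp
      have hgp : g ∈ p := hpp.mem_of_pow_mem _ h1
      have h2 : y ∈ hW.fromSpec ⁻¹ᵁ X.basicOpen g := hxg
      rw [hW.fromSpec_preimage_basicOpen] at h2
      exact h2 hgp
    · have h2 := hU _ hxU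
      have hloc := hW.isLocalization_stalk' y hyW
      have h5 := @IsLocalization.AtPrime.ringKrullDim_eq_height _ _ p hpp
        (X.presheaf.stalk (hW.fromSpec y)) _
        (TopCat.Presheaf.algebra_section_stalk X.presheaf ⟨hW.fromSpec y, hyW⟩) hloc
      rw [h5] at h2
      have h3 : (2 : ℕ∞) ≤ p.height := by
        have h2' : ((2 : ℕ∞) : WithBot ℕ∞) ≤ (p.height : WithBot ℕ∞) := h2
        exact WithBot.coe_le_coe.mp h2'
      have h4 : (2 : ℕ∞) ≤ 1 := h3.trans hht
      exact absurd h4 (by decide)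
  have : Algebra.Etale Γ(X, W) Γ(Y, π ⁻¹ᵁ W) :=
    (Groth.Agent.Lib.Helper20.TraceEt.etale_iff_isUnit_discr bas).mpr hunit
  exact this

set_option backward.isDefEq.respectTransparency.types false in

/-- Let f : X → Y be finite and flat with Y locally Noetherian, and let U ⊆ Y be open with every point
of the complement having a local ring of Krull dimension at least 2. If f is étale over U, then f is
étale. -/
theorem result {X Y : Scheme.{u}} [IsLocallyNoetherian Y]
    (f : X ⟶ Y) [IsFinite f] [Flat f] (U : Y.Opens)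
    (hU : ∀ y : Y, y ∉ U → (2 : WithBot ℕ∞) ≤ ringKrullDim (Y.presheaf.stalk y))
    [Etale (f ∣_ U)] : Etale f := by
  haveI : Etale (pullback.snd f U.ι) := by
    rw [← pullbackRestrictIsoRestrict_hom_morphismRestrict]
    infer_instance
  apply IsZariskiLocalAtTarget.of_forall_exists_morphismRestrict (P := @Etale)
  intro x
  obtain ⟨W', hW', hxW', hfree⟩ := exists_affine_free f x
  exact ⟨W', hxW', etale_restrict_of_app f W' hW' (etale_app_of_free_dim f U hU W' hW' hfree)⟩

end Groth.Agent.S14462
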