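import Groth.Statements.S14463
import Mathlib

set_option autoImplicit false
universe u
open CategoryTheory CategoryTheory.Limits AlgebraicGeometry
open BigSite

namespace Groth.Agent.S14463

section Aux

variable {S : Scheme.{u}} (C : MorphismProperty Scheme.{u})

/-- Finite affine `C`-covering data for the sieve `R` over the open `U`. -/
def Good (X : Over S) (R : Sieve X) (U : X.left.Opens) : Prop :=
  ∃ (κ : Type u) (_ : Finite κ) (V : κ → Over S) (φ : ∀ j, V j ⟶ X)
    (ψ : ∀ j, (V j).left ⟶ (U : Scheme.{u})),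
    (∀ j, IsAffine (V j).left) ∧ (∀ j, R.arrows (φ j)) ∧ (∀ j, ψ j ≫ U.ι = (φ j).left) ∧
      C (Limits.Sigma.desc ψ)

/-- Pointwise form of the covering condition. -/
def Cov (X : Over S) (R : Sieve X) : Prop :=
  ∀ x : X.left, ∃ U : X.left.Opens, IsAffineOpen U ∧ x ∈ U ∧ Good C X R U

lemma cov_iff (X : Over S) (R : Sieve X) :
    Cov C X R ↔ ∃ (ι : Type u) (U : ι → X.left.Opens), (∀ i, IsAffineOpen (U i)) ∧ ⨆ i, U i = ⊤ ∧
      ∀ i, Good C X R (U i) := by
  constructor
  · intro h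
    refine ⟨{U : X.left.Opens // IsAffineOpen U ∧ Good C X R U}, fun U => U.1, fun U => U.2.1, ?_,
      fun U => U.2.2⟩
    rw [eq_top_iff]
    intro x _
    obtain ⟨U, hU, hx, hG⟩ := h x
    exact TopologicalSpace.Opens.mem_iSup.2 ⟨⟨U, hU, hG⟩, hx⟩
  · rintro ⟨ι, U, hU, hcov, hG⟩ x
    have hx : x ∈ (⨆ i, U i : X.left.Opens) := by rw [hcov]; trivial
    obtain ⟨i, hi⟩ := TopologicalSpace.Opens.mem_iSup.1 hx
    exact ⟨U i, hU i, hi, hG i⟩

lemma comp_cov [C.IsStableUnderComposition] [C.RespectsIso]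
    (hcoprod : ∀ (κ : Type u) [Finite κ] (A B : κ → Scheme.{u}) (f : ∀ j, A j ⟶ B j),
      (∀ j, C (f j)) → C (Limits.Sigma.map f))
    {κ : Type u} [Finite κ] {W : κ → Scheme.{u}} {U : Scheme.{u}} (ψ : ∀ j, W j ⟶ U)
    (hψ : C (Limits.Sigma.desc ψ)) {l : κ → Type u} [∀ j, Finite (l j)]
    {T : ∀ j, l j → Scheme.{u}} (t : ∀ j k, T j k ⟶ W j)
    (ht : ∀ j, C (Limits.Sigma.desc (t j))) :
    C (Limits.Sigma.desc (fun p : Σ j, l j => t p.1 p.2 ≫ ψ p.1)) := by
  have h1 : C (Limits.Sigma.map (fun j => Limits.Sigma.desc (t j))) := hcoprod κ _ _ _ ht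
  have h2 : C (Limits.Sigma.map (fun j => Limits.Sigma.desc (t j)) ≫ Limits.Sigma.desc ψ) :=
    C.comp_mem _ _ h1 hψ
  have e : Limits.Sigma.desc (fun p : Σ j, l j => t p.1 p.2 ≫ ψ p.1) =
      (sigmaSigmaIso l T).inv ≫ Limits.Sigma.map (fun j => Limits.Sigma.desc (t j)) ≫
        Limits.Sigma.desc ψ := by
    ext ⟨j, k⟩
    simp
  rw [e]
  exact (C.cancel_left_of_respectsIso _ _).2 h2

lemma exists_affine_mem (X : Scheme.{u}) (x : X) (O : X.Opens) (hx : x ∈ O) :
    ∃ U : X.Opens, IsAffineOpen U ∧ x ∈ U ∧ U ≤ O := by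
  obtain ⟨_, ⟨U, hU, rfl⟩, hxU, hle⟩ :=
    X.isBasis_affineOpens.exists_subset_of_mem_open hx O.isOpen
  exact ⟨U, hU, hxU, hle⟩

lemma cov_top
    (haff : ∀ (U : Scheme.{u}) [IsAffine U] (κ : Type u) [Finite κ] (V : κ → U.Opens),
      (∀ j, IsAffineOpen (V j)) → ⨆ j, V j = ⊤ → C (Limits.Sigma.desc fun j => (V j).ι))
    (X : Over S) : Cov C X ⊤ := by
  intro x
  obtain ⟨U, hU, hxU, -⟩ := exists_affine_mem X.left x ⊤ trivial
  have : IsAffine (U : Scheme.{u}) := hU
  refine ⟨U, hU, hxU, PUnit.{u+1}, inferInstance,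
    fun _ => Over.mk ((⊤ : (U : Scheme.{u}).Opens).ι ≫ U.ι ≫ X.hom),
    fun _ => Over.homMk ((⊤ : (U : Scheme.{u}).Opens).ι ≫ U.ι) (by simp),
    fun _ => (⊤ : (U : Scheme.{u}).Opens).ι, ?_, fun _ => trivial, fun _ => rfl, ?_⟩
  · intro _
    exact isAffineOpen_top (U : Scheme.{u})
  · exact haff U PUnit.{u+1} (fun _ => ⊤) (fun _ => isAffineOpen_top _) (by simp)

lemma cov_pullback [C.IsStableUnderBaseChange] {X Y : Over S} (f : Y ⟶ X) (R : Sieve X)
    (h : Cov C X R) : Cov C Y (R.pullback f) := by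
  intro y
  obtain ⟨U, hU, hxU, κ, hκ, V, φ, ψ, hV, hR, hψ, hC⟩ := h (f.left y)
  obtain ⟨W, hW, hyW, hWU⟩ := exists_affine_mem Y.left y (f.left ⁻¹ᵁ U) hxU
  let g : (W : Scheme.{u}) ⟶ (U : Scheme.{u}) := f.left.resLE U W hWU
  have hg : g ≫ U.ι = W.ι ≫ f.left := Scheme.Hom.resLE_comp_ι _ _
  have : IsAffine (U : Scheme.{u}) := hU
  have : IsAffine (W : Scheme.{u}) := hW
  have hw : ∀ j, pullback.fst (ψ j) g ≫ (V j).hom = pullback.snd (ψ j) g ≫ W.ι ≫ Y.hom := by
    intro j
    rw [← Over.w (φ j), ← hψ j, ← Over.w f]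
    simp only [Category.assoc]
    rw [← reassoc_of% hg, pullback.condition_assoc]
  refine ⟨W, hW, hyW, κ, hκ, fun j => Over.mk (pullback.snd (ψ j) g ≫ W.ι ≫ Y.hom),
    fun j => Over.homMk (pullback.snd (ψ j) g ≫ W.ι) (by simp),
    fun j => pullback.snd (ψ j) g, ?_, ?_, fun j => rfl, ?_⟩
  · intro j
    have := hV j
    dsimp
    infer_instance
  · intro j
    have e : (Over.homMk (pullback.snd (ψ j) g ≫ W.ι) (by simp) :
        Over.mk (pullback.snd (ψ j) g ≫ W.ι ≫ Y.hom) ⟶ Y) ≫ f =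
        (Over.homMk (pullback.fst (ψ j) g) (hw j) :
          Over.mk (pullback.snd (ψ j) g ≫ W.ι ≫ Y.hom) ⟶ V j) ≫ φ j := by
      ext
      simp only [Over.comp_left, Over.homMk_left, Category.assoc]
      rw [← hψ j, ← hg, pullback.condition_assoc]
    show R.arrows (_ ≫ f)
    rw [e]
    exact R.downward_closed (hR j) _
  · have hau : IsUniversalColimit (Cofan.mk (∐ fun j => (V j).left)
        (Limits.Sigma.ι fun j => (V j).left)) :=
      FinitaryPreExtensive.isUniversal_finiteCoproducts (coproductIsCoproduct _)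
    have hpb := hau.isPullback_of_isColimit_right ψ (Limits.Sigma.desc ψ) g
      (fun j => pullback.fst (ψ j) g) (fun j => pullback.snd (ψ j) g)
      (fun j => IsPullback.of_hasPullback _ _)
      (coproductIsCoproduct (fun j => pullback (ψ j) g)) (by intro i; simp)
    have := C.of_isPullback hpb hC
    have e : Cofan.IsColimit.desc (coproductIsCoproduct fun j => pullback (ψ j) g)
        (fun j => pullback.snd (ψ j) g) = Limits.Sigma.desc (fun j => pullback.snd (ψ j) g) := by
      apply Limits.Sigma.hom_ext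
      intro j
      simp [Cofan.IsColimit.desc, coproductIsCoproduct]
    rw [e] at this
    exact this

lemma cov_trans [C.IsStableUnderComposition] [C.RespectsIso]
    (hcoprod : ∀ (κ : Type u) [Finite κ] (A B : κ → Scheme.{u}) (f : ∀ j, A j ⟶ B j),
      (∀ j, C (f j)) → C (Limits.Sigma.map f))
    (haff : ∀ (U : Scheme.{u}) [IsAffine U] (κ : Type u) [Finite κ] (V : κ → U.Opens),
      (∀ j, IsAffineOpen (V j)) → ⨆ j, V j = ⊤ → C (Limits.Sigma.desc fun j => (V j).ι))
    {X : Over S} (R R' : Sieve X) (hR : Cov C X R)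
    (h : ∀ ⦃Y : Over S⦄ ⦃f : Y ⟶ X⦄, R.arrows f → Cov C Y (R'.pullback f)) : Cov C X R' := by
  classical
  intro x
  obtain ⟨U, hU, hxU, κ, hκ, V, φ, ψ, hV, hRφ, hψ, hC⟩ := hR x
  refine ⟨U, hU, hxU, ?_⟩
  have key : ∀ j, ∃ s : Finset (V j).left.Opens,
      (∀ W ∈ s, IsAffineOpen W ∧ Good C (V j) (R'.pullback (φ j)) W) ∧
        (⨆ W : s, (W : (V j).left.Opens)) = ⊤ := by
    intro j
    have hj := h (hRφ j)
    have : IsAffine (V j).left := hV j
    have : CompactSpace (V j).left := inferInstance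
    choose W hW using hj
    obtain ⟨t, ht⟩ := isCompact_univ.elim_finite_subcover
      (fun y => ((W y : (V j).left.Opens) : Set (V j).left)) (fun y => (W y).isOpen)
      (fun y _ => Set.mem_iUnion.2 ⟨y, (hW y).2.1⟩)
    refine ⟨t.image W, ?_, ?_⟩
    · intro W' hW'
      obtain ⟨y, -, rfl⟩ := Finset.mem_image.1 hW'
      exact ⟨(hW y).1, (hW y).2.2⟩
    · rw [eq_top_iff]
      intro z _
      obtain ⟨y, hy⟩ := Set.mem_iUnion.1 (ht (Set.mem_univ z))
      obtain ⟨hyt, hz⟩ := Set.mem_iUnion.1 hy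
      exact TopologicalSpace.Opens.mem_iSup.2 ⟨⟨W y, Finset.mem_image_of_mem W hyt⟩, hz⟩
  choose s hs hcov using key
  have key2 : ∀ (p : Σ j, ↥(s j)), ∃ (l : Type u) (_ : Finite l) (T : l → Over S)
      (φ' : ∀ k, T k ⟶ V p.1) (ψ' : ∀ k, (T k).left ⟶ ((p.2.1 : (V p.1).left.Opens) : Scheme.{u})),
      (∀ k, IsAffine (T k).left) ∧ (∀ k, (R'.pullback (φ p.1)).arrows (φ' k)) ∧
        (∀ k, ψ' k ≫ (p.2.1 : (V p.1).left.Opens).ι = (φ' k).left) ∧
        C (Limits.Sigma.desc ψ') := fun p => (hs p.1 p.2.1 p.2.2).2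
  choose l hl T φ' ψ' hT hR' hψ' hC' using key2
  have := hκ
  have : ∀ p, Finite (l p) := hl
  have : ∀ j, IsAffine (V j).left := hV
  have hA : C (Limits.Sigma.desc (fun p : Σ j, ↥(s j) =>
      (p.2.1 : (V p.1).left.Opens).ι ≫ ψ p.1)) :=
    comp_cov C hcoprod (W := fun j => (V j).left) ψ hC (l := fun j => ↥(s j))
      (T := fun j W => ((W.1 : (V j).left.Opens) : Scheme.{u}))
      (fun j W => (W.1 : (V j).left.Opens).ι)
      (fun j => haff (V j).left ↥(s j) (fun W => W.1) (fun W => (hs j W.1 W.2).1) (hcov j))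
  have hB := comp_cov C hcoprod (κ := Σ j, ↥(s j))
    (W := fun p => ((p.2.1 : (V p.1).left.Opens) : Scheme.{u}))
    (fun p => (p.2.1 : (V p.1).left.Opens).ι ≫ ψ p.1) hA (l := l)
    (T := fun p k => (T p k).left) ψ' hC'
  refine ⟨Σ p : (Σ j, ↥(s j)), l p, inferInstance, fun q => T q.1 q.2,
    fun q => φ' q.1 q.2 ≫ φ q.1.1,
    fun q => ψ' q.1 q.2 ≫ (q.1.2.1 : (V q.1.1).left.Opens).ι ≫ ψ q.1.1, fun q => hT q.1 q.2,
    fun q => hR' q.1 q.2, ?_, hB⟩
  intro q
  rw [Category.assoc, Category.assoc, hψ q.1.1, reassoc_of% (hψ' q.1 q.2)]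
  rfl

end Aux


/-- Fix a scheme S and a class C of quasi-compact morphisms of schemes which is stable under composition
and base change, closed under finite coproducts, and contains ∐_j V_j → U for every finite affine
open cover (V_j) of an affine scheme U. Declare a sieve R on an S-scheme X to be covering when X has
an affine open cover (U_i) such that for every i there are finitely many affine S-schemes V_j and
S-morphisms V_j → X in R factoring through U_i with the induced morphism ∐_j V_j → U_i in C. Then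
there is a Grothendieck topology on S-schemes whose covering sieves are exactly these. (The
published statement also allows a local property of S-schemes preserved by the class and works on
the S-schemes having it, takes a class of morphisms of S-schemes, and says that covering may
equivalently be tested with arbitrary rather than affine opens and schemes; this row takes no such
property and a class of morphisms of schemes, and defines covering sieves through affine opens and
affine schemes only.) -/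
theorem result (S : Scheme.{u})
    (C : MorphismProperty Scheme.{u}) [C.IsStableUnderComposition] [C.IsStableUnderBaseChange]
    (hqc : ∀ {A B : Scheme.{u}} (f : A ⟶ B), C f → QuasiCompact f)
    (hcoprod : ∀ (κ : Type u) [Finite κ] (A B : κ → Scheme.{u}) (f : ∀ j, A j ⟶ B j),
      (∀ j, C (f j)) → C (Limits.Sigma.map f))
    (haff : ∀ (U : Scheme.{u}) [IsAffine U] (κ : Type u) [Finite κ] (V : κ → U.Opens),
      (∀ j, IsAffineOpen (V j)) → ⨆ j, V j = ⊤ → C (Limits.Sigma.desc fun j => (V j).ι)) :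
    ∃ J : GrothendieckTopology (Over S), ∀ (X : Over S) (R : Sieve X), R ∈ J X ↔
      ∃ (ι : Type u) (U : ι → X.left.Opens), (∀ i, IsAffineOpen (U i)) ∧ ⨆ i, U i = ⊤ ∧
        ∀ i, ∃ (κ : Type u) (_ : Finite κ) (V : κ → Over S) (φ : ∀ j, V j ⟶ X)
          (ψ : ∀ j, (V j).left ⟶ (U i : Scheme.{u})),
          (∀ j, IsAffine (V j).left) ∧ (∀ j, R.arrows (φ j)) ∧ (∀ j, ψ j ≫ (U i).ι = (φ j).left) ∧
            C (Limits.Sigma.desc ψ) := by
  have : C.RespectsIso := inferInstance
  refine ⟨{ sieves := fun X => {R | Cov C X R}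
            top_mem' := fun X => cov_top C haff X
            pullback_stable' := fun X Y R f h => cov_pullback C f R h
            transitive' := fun X R hR R' h => cov_trans C hcoprod haff R R' hR h }, fun X R => ?_⟩
  exact cov_iff C X R

end Groth.Agent.S14463
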