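import Groth.Statements.S14465
import Mathlib
import Groth.Agent.S14463

set_option autoImplicit false
universe v u
open CategoryTheory CategoryTheory.Limits AlgebraicGeometry
open BigSite

namespace Groth.Agent.S14465

section Aux

open Groth.Agent.S14463

variable {S : Scheme.{u}} (C : MorphismProperty Scheme.{u})

lemma exists_finite_affine_cover (Y : Scheme.{u}) [CompactSpace Y] :
    ∃ s : Finset Y.Opens, (∀ A ∈ s, IsAffineOpen A) ∧ (⨆ A : s, (A : Y.Opens)) = ⊤ := by
  classical
  have hj : ∀ y : Y, ∃ W : Y.Opens, IsAffineOpen W ∧ y ∈ W := fun y => by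
    obtain ⟨W, hW, hy, -⟩ := exists_affine_mem Y y ⊤ trivial
    exact ⟨W, hW, hy⟩
  choose W hW using hj
  obtain ⟨t, ht⟩ := isCompact_univ.elim_finite_subcover
    (fun y => ((W y : Y.Opens) : Set Y)) (fun y => (W y).isOpen)
    (fun y _ => Set.mem_iUnion.2 ⟨y, (hW y).2⟩)
  refine ⟨t.image W, ?_, ?_⟩
  · intro W' hW'
    obtain ⟨y, -, rfl⟩ := Finset.mem_image.1 hW'
    exact (hW y).1
  · rw [eq_top_iff]
    intro z _
    obtain ⟨y, hy⟩ := Set.mem_iUnion.1 (ht (Set.mem_univ z))
    obtain ⟨hyt, hz⟩ := Set.mem_iUnion.1 hy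
    exact TopologicalSpace.Opens.mem_iSup.2 ⟨⟨W y, Finset.mem_image_of_mem W hyt⟩, hz⟩

lemma cov_of_zariski
    (haff : ∀ (U : Scheme.{u}) [IsAffine U] (κ : Type u) [Finite κ] (V : κ → U.Opens),
      (∀ j, IsAffineOpen (V j)) → ⨆ j, V j = ⊤ → C (Limits.Sigma.desc fun j => (V j).ι))
    {X : Over S} (R : Sieve X) (hR : R ∈ (Scheme.zariskiTopology.over S) X) : Cov C X R := by
  rw [GrothendieckTopology.mem_over_iff, Scheme.mem_grothendieckTopology_iff] at hR
  obtain ⟨𝒰, hle⟩ := hR
  intro x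
  obtain ⟨i, y, rfl⟩ := 𝒰.exists_eq x
  have : IsOpenImmersion (𝒰.f i) := 𝒰.map_prop i
  obtain ⟨U, hU, hxU, hUle⟩ := exists_affine_mem X.left _ (𝒰.f i).opensRange ⟨y, rfl⟩
  have : IsAffine (U : Scheme.{u}) := hU
  let lft : (U : Scheme.{u}) ⟶ 𝒰.X i := IsOpenImmersion.lift (𝒰.f i) U.ι
    (by rw [Scheme.Opens.range_ι]; exact fun z hz => hUle hz)
  have hl : lft ≫ 𝒰.f i = U.ι := IsOpenImmersion.lift_fac _ _ _
  have hmem : R.arrows (Over.homMk (𝒰.f i) : Over.mk (𝒰.f i ≫ X.hom) ⟶ X) :=
    (Sieve.overEquiv_iff _ _).1 (hle _ _ (Presieve.ofArrows.mk i))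
  refine ⟨U, hU, hxU, PUnit.{u+1}, inferInstance,
    fun _ => Over.mk ((⊤ : (U : Scheme.{u}).Opens).ι ≫ U.ι ≫ X.hom),
    fun _ => Over.homMk ((⊤ : (U : Scheme.{u}).Opens).ι ≫ U.ι) (by simp),
    fun _ => (⊤ : (U : Scheme.{u}).Opens).ι, ?_, ?_, fun _ => rfl, ?_⟩
  · intro _
    exact isAffineOpen_top (U : Scheme.{u})
  · intro _
    have e : (Over.homMk ((⊤ : (U : Scheme.{u}).Opens).ι ≫ U.ι) (by simp) :
        Over.mk ((⊤ : (U : Scheme.{u}).Opens).ι ≫ U.ι ≫ X.hom) ⟶ X) =
        (Over.homMk ((⊤ : (U : Scheme.{u}).Opens).ι ≫ lft) (by simp [reassoc_of% hl]) :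
          Over.mk ((⊤ : (U : Scheme.{u}).Opens).ι ≫ U.ι ≫ X.hom) ⟶ Over.mk (𝒰.f i ≫ X.hom)) ≫
          Over.homMk (𝒰.f i) := by
      ext
      simp [hl]
    dsimp only
    rw [e]
    exact R.downward_closed hmem _
  · exact haff U PUnit.{u+1} (fun _ => ⊤) (fun _ => isAffineOpen_top _) (by simp)

lemma cov_of_single [C.IsStableUnderBaseChange]
    (hqc : ∀ {A B : Scheme.{u}} (f : A ⟶ B), C f → QuasiCompact f)
    (hres : ∀ (W X' : Scheme.{u}) [IsAffine W] (f : X' ⟶ W), C f →
      ∀ (κ : Type u) [Finite κ] (A : κ → X'.Opens), (∀ l, IsAffineOpen (A l)) → ⨆ l, A l = ⊤ →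
        C (Limits.Sigma.desc fun l => (A l).ι ≫ f))
    {X X' : Over S} (f : X' ⟶ X) (hf : C f.left) :
    Cov C X (Sieve.generate (Presieve.singleton f)) := by
  intro x
  obtain ⟨U, hU, hxU, -⟩ := exists_affine_mem X.left x ⊤ trivial
  have : IsAffine (U : Scheme.{u}) := hU
  have : QuasiCompact f.left := hqc _ hf
  have hres' : C (f.left ∣_ U) := C.of_isPullback (isPullback_morphismRestrict f.left U).flip hf
  have hc : CompactSpace ↥((f.left ⁻¹ᵁ U : X'.left.Opens) : Scheme.{u}) :=
    isCompact_iff_compactSpace.mp (QuasiCompact.isCompact_preimage (f := f.left) _ U.isOpen hU.isCompact)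
  obtain ⟨s, hs, hcov⟩ := exists_finite_affine_cover ((f.left ⁻¹ᵁ U : X'.left.Opens) : Scheme.{u})
  have hCs := hres U ((f.left ⁻¹ᵁ U : X'.left.Opens) : Scheme.{u}) (f.left ∣_ U) hres' ↥s
    (fun A => A.1) (fun A => hs A.1 A.2) hcov
  refine ⟨U, hU, hxU, ↥s, inferInstance,
    fun A => Over.mk (A.1.ι ≫ (f.left ⁻¹ᵁ U).ι ≫ X'.hom),
    fun A => Over.homMk (A.1.ι ≫ (f.left ⁻¹ᵁ U).ι ≫ f.left) (by simp),
    fun A => A.1.ι ≫ (f.left ∣_ U), ?_, ?_, ?_, hCs⟩
  · intro A
    exact hs A.1 A.2
  · intro A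
    refine ⟨X', Over.homMk (A.1.ι ≫ (f.left ⁻¹ᵁ U).ι) (by simp), f, Presieve.singleton.mk, ?_⟩
    ext
    simp
  · intro A
    simp [morphismRestrict_ι]

lemma single_mem_finest [C.IsStableUnderBaseChange] (F : (Over S)ᵒᵖ ⥤ Type*)
    (hF : ∀ (X X' : Over S) (f : X' ⟶ X), C f.left →
      Presieve.IsSheafFor F (Presieve.singleton f))
    {U V : Over S} (p : V ⟶ U) (hp : C p.left) :
    Sieve.generate (Presieve.singleton p) ∈ Sheaf.finestTopologySingle F U := by
  intro Y g
  rw [← Sieve.pullbackArrows_comm, ← Presieve.isSheafFor_iff_generate,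
    Presieve.pullback_singleton]
  apply hF
  have := (IsPullback.of_hasPullback p g).map (Over.forget S)
  exact C.of_isPullback this hp

lemma le_finest [C.IsStableUnderBaseChange] (F : (Over S)ᵒᵖ ⥤ Type*)
    (hZ : Presieve.IsSheaf (Scheme.zariskiTopology.over S) F)
    (hF : ∀ (X X' : Over S) (f : X' ⟶ X), C f.left →
      Presieve.IsSheafFor F (Presieve.singleton f))
    {X : Over S} (R : Sieve X) (hR : Cov C X R) : R ∈ Sheaf.finestTopologySingle F X := by
  have hZar : Scheme.zariskiTopology.over S ≤ Sheaf.finestTopologySingle F := by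
    intro X R hR Y f
    exact hZ _ (GrothendieckTopology.pullback_stable _ f hR)
  obtain ⟨ι, U, hU, hcov, hG⟩ := (cov_iff C X R).1 hR
  let Uo : ι → Over S := fun i => Over.mk ((U i).ι ≫ X.hom)
  let uo : ∀ i, Uo i ⟶ X := fun i => Over.homMk (U i).ι
  have hZmem : Sieve.generate (Presieve.ofArrows Uo uo) ∈ (Scheme.zariskiTopology.over S) X := by
    rw [GrothendieckTopology.mem_over_iff, Scheme.mem_grothendieckTopology_iff]
    refine ⟨X.left.openCoverOfIsOpenCover U hcov, ?_⟩
    rintro Y g ⟨i⟩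
    rw [Sieve.overEquiv_iff]
    exact Sieve.le_generate _ _ _ (Presieve.ofArrows.mk i)
  refine (Sheaf.finestTopologySingle F).transitive (hZar _ hZmem) R ?_
  rintro Y g ⟨W, h, _, ⟨i⟩, rfl⟩
  rw [Sieve.pullback_comp]
  refine GrothendieckTopology.pullback_stable _ h ?_
  obtain ⟨κ, hκ, V, φ, ψ, hV, hRφ, hψ, hC⟩ := hG i
  let Vsum : Over S := Over.mk (Limits.Sigma.desc (fun j => (V j).hom))
  have hpw : Limits.Sigma.desc ψ ≫ (Uo i).hom = Vsum.hom := by
    apply Limits.Sigma.hom_ext
    intro j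
    simp only [Limits.Sigma.ι_desc_assoc, Uo, Vsum, Over.mk_hom, Limits.Sigma.ι_desc]
    rw [reassoc_of% (hψ j), Over.w]
  let p : Vsum ⟶ Uo i := Over.homMk (Limits.Sigma.desc ψ) hpw
  have hp := single_mem_finest C F hF p hC
  refine (Sheaf.finestTopologySingle F).transitive hp _ ?_
  rintro Y' g' ⟨W', h', _, ⟨⟩, rfl⟩
  rw [Sieve.pullback_comp]
  refine GrothendieckTopology.pullback_stable _ h' ?_
  apply hZar
  rw [GrothendieckTopology.mem_over_iff, Scheme.mem_grothendieckTopology_iff]
  have := hκ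
  refine ⟨sigmaOpenCover (fun j => (V j).left), ?_⟩
  rintro Y'' g'' ⟨j⟩
  rw [Sieve.overEquiv_iff]
  show R.arrows ((_ ≫ p) ≫ uo i)
  have e : ((Over.homMk (Limits.Sigma.ι (fun j => (V j).left) j) :
      Over.mk (Limits.Sigma.ι (fun j => (V j).left) j ≫ Vsum.hom) ⟶ Vsum) ≫ p) ≫ uo i =
      (Over.homMk (𝟙 _) (by simp [Vsum]) :
        Over.mk (Limits.Sigma.ι (fun j => (V j).left) j ≫ Vsum.hom) ⟶ V j) ≫ φ j := by
    ext
    simp [p, uo, hψ j]
  exact e ▸ R.downward_closed (hRφ j) _

end Aux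


/-- Fix a scheme S and a class C of quasi-compact morphisms of schemes, stable under composition and
base change, closed under finite coproducts, and containing ∐_j V_j → U for every finite affine open
cover (V_j) of an affine scheme U. Assume moreover that for every morphism f : X' → W in C with W
affine and every finite affine open cover (A_l) of X', the induced morphism ∐_l A_l → W lies in C.
Let J be the Grothendieck topology on S-schemes whose covering sieves are those admitting
affine-local finite C-covering data (an affine open cover (U_i) of X and, for each i, finitely many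
affine S-schemes V_j → X in the sieve factoring through U_i with ∐_j V_j → U_i in C). Then a
presheaf of types on S-schemes is a J-sheaf if and only if it is a sheaf for the big Zariski
topology on S-schemes and satisfies the sheaf condition for every single S-morphism X' → X whose
underlying morphism of schemes lies in C. (The published statement does not assume the hypothesis on
finite affine open covers of the source of a C-morphism with affine target; its proof uses that
hypothesis, through an unproved equivalence between arbitrary and affine covering data, to see that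
the sieve generated by a C-morphism is covering. The hypothesis holds for the classes of fpqc
morphisms, of fppf morphisms and of surjective étale quasi-compact morphisms. The published
statement also allows a local property of S-schemes preserved by the class; this row takes no such
property and a class of morphisms of schemes.) -/
theorem result (S : Scheme.{u})
    (C : MorphismProperty Scheme.{u}) [C.IsStableUnderComposition] [C.IsStableUnderBaseChange]
    (hqc : ∀ {A B : Scheme.{u}} (f : A ⟶ B), C f → QuasiCompact f)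
    (hcoprod : ∀ (κ : Type u) [Finite κ] (A B : κ → Scheme.{u}) (f : ∀ j, A j ⟶ B j),
      (∀ j, C (f j)) → C (Limits.Sigma.map f))
    (haff : ∀ (U : Scheme.{u}) [IsAffine U] (κ : Type u) [Finite κ] (V : κ → U.Opens),
      (∀ j, IsAffineOpen (V j)) → ⨆ j, V j = ⊤ → C (Limits.Sigma.desc fun j => (V j).ι))
    (hres : ∀ (W X' : Scheme.{u}) [IsAffine W] (f : X' ⟶ W), C f →
      ∀ (κ : Type u) [Finite κ] (A : κ → X'.Opens), (∀ l, IsAffineOpen (A l)) → ⨆ l, A l = ⊤ →
        C (Limits.Sigma.desc fun l => (A l).ι ≫ f))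
    (J : GrothendieckTopology (Over S))
    (hJ : ∀ (X : Over S) (R : Sieve X), R ∈ J X ↔
      ∃ (ι : Type u) (U : ι → X.left.Opens), (∀ i, IsAffineOpen (U i)) ∧ ⨆ i, U i = ⊤ ∧
        ∀ i, ∃ (κ : Type u) (_ : Finite κ) (V : κ → Over S) (φ : ∀ j, V j ⟶ X)
          (ψ : ∀ j, (V j).left ⟶ (U i : Scheme.{u})),
          (∀ j, IsAffine (V j).left) ∧ (∀ j, R.arrows (φ j)) ∧ (∀ j, ψ j ≫ (U i).ι = (φ j).left) ∧
            C (Limits.Sigma.desc ψ))
    (F : (Over S)ᵒᵖ ⥤ Type v) :
    Presieve.IsSheaf J F ↔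
      (Presieve.IsSheaf (Scheme.zariskiTopology.over S) F ∧
        ∀ (X X' : Over S) (f : X' ⟶ X), C f.left → Presieve.IsSheafFor F (Presieve.singleton f)) := by
  have hJ' : ∀ (X : Over S) (R : Sieve X), R ∈ J X ↔ Groth.Agent.S14463.Cov C X R := fun X R =>
    (hJ X R).trans (Groth.Agent.S14463.cov_iff C X R).symm
  constructor
  · intro hF
    refine ⟨Presieve.isSheaf_of_le F ?_ hF, fun X X' f hf => ?_⟩
    · intro X R hR
      exact (hJ' X R).2 (cov_of_zariski C haff R hR)
    · rw [Presieve.isSheafFor_iff_generate]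
      exact hF _ ((hJ' X _).2 (cov_of_single C hqc hres f hf))
  · rintro ⟨hZ, hF⟩ X R hR
    have := le_finest C F hZ hF R ((hJ' X R).1 hR) X (𝟙 X)
    simpa using this

end Groth.Agent.S14465
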