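import Groth.Statements.S14478
import Mathlib
import Groth.Agent.Lib.Helper22CommonCompl

set_option autoImplicit false
universe u
open CharCyc

namespace Groth.Agent.S14478

/-- Let V be a finite-dimensional vector space over a field k, let W = V × V^∨ with V^∨ the dual space,
and let T ⊆ W be a subspace with dim T = dim V; put V₁ = V ∩ T, where V sits in W as V × 0. Then
there is a complement V₂ of V₁ in V with the following property: for every injective linear map A₁ :
V₁ → V₁^∨, the map A : V → V^∨ extending A₁ by zero along the decompositions V = V₁ ⊕ V₂ and V^∨ =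
V₁^∨ ⊕ V₂^∨ (so A v = A₁(p v) ∘ p, with p : V → V₁ the projection along V₂) has graph Γ ⊆ W with Γ ∩
T = 0. -/
theorem result (k V : Type u) [Field k] [AddCommGroup V] [Module k V]
    [FiniteDimensional k V] (T : Submodule k (V × Module.Dual k V))
    (hT : Module.finrank k T = Module.finrank k V) :
    ∃ (V₂ : Submodule k V) (h : IsCompl (T.comap (LinearMap.inl k V (Module.Dual k V))) V₂),
      ∀ A₁ : T.comap (LinearMap.inl k V (Module.Dual k V)) →ₗ[k]
          Module.Dual k (T.comap (LinearMap.inl k V (Module.Dual k V))),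
        Function.Injective A₁ →
          LinearMap.graph ((Submodule.projectionOnto _ V₂ h).dualMap ∘ₗ A₁ ∘ₗ
              Submodule.projectionOnto _ V₂ h) ⊓ T = ⊥ := by
  classical
  set V₁ : Submodule k V := T.comap (LinearMap.inl k V (Module.Dual k V)) with hV₁
  set T₂ : Submodule k (Module.Dual k V) := T.map (LinearMap.snd k V (Module.Dual k V)) with hT₂
  -- dimension of T₂
  set g : T →ₗ[k] Module.Dual k V := (LinearMap.snd k V (Module.Dual k V)).domRestrict T with hg
  have hrange : LinearMap.range g = T₂ := LinearMap.range_domRestrict T _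
  have hker : Module.finrank k (LinearMap.ker g) = Module.finrank k V₁ := by
    refine LinearEquiv.finrank_eq ?_
    refine
      { toFun := fun t => ⟨t.1.1.1, ?_⟩
        map_add' := fun a b => rfl
        map_smul' := fun c a => rfl
        invFun := fun v => ⟨⟨(v.1, 0), v.2⟩, rfl⟩
        left_inv := ?_
        right_inv := fun v => rfl }
    · have h2 : t.1.1.2 = 0 := t.2
      have h3 : (LinearMap.inl k V (Module.Dual k V)) t.1.1.1 = t.1.1 := by
        refine Prod.ext rfl ?_
        simp [h2]
      show (LinearMap.inl k V (Module.Dual k V)) t.1.1.1 ∈ T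
      rw [h3]; exact t.1.2
    · intro t
      have h2 : t.1.1.2 = 0 := t.2
      apply Subtype.ext; apply Subtype.ext
      refine Prod.ext rfl ?_
      simp [h2]
  have hrn := LinearMap.finrank_range_add_finrank_ker (K := k) (V := T) (V₂ := Module.Dual k V) g
  rw [hrange, hker, hT] at hrn
  have hann := Subspace.finrank_add_finrank_dualAnnihilator_eq V₁
  have hdim : Module.finrank k T₂ = Module.finrank k V₁.dualAnnihilator := by omega
  obtain ⟨U, hTU, hAU⟩ := Groth.Agent.Lib.Helper22.CommonCompl.exists_common_compl T₂
    V₁.dualAnnihilator hdim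
  have hdisj : Disjoint V₁ U.dualCoannihilator := by
    rw [disjoint_iff]
    conv_lhs => rw [← Subspace.dualAnnihilator_dualCoannihilator_eq (W := V₁)]
    rw [← Submodule.dualCoannihilator_sup_eq, hAU.sup_eq_top, Submodule.dualCoannihilator_top]
  have hcompl : IsCompl V₁ U.dualCoannihilator := by
    refine ⟨hdisj, codisjoint_iff.mpr ?_⟩
    refine Submodule.eq_top_of_disjoint V₁ U.dualCoannihilator ?_ hdisj
    have h1 := Subspace.finrank_add_finrank_dualCoannihilator_eq U
    have h2 := Submodule.finrank_add_eq_of_isCompl hAU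
    have h3 : Module.finrank k (Module.Dual k V) = Module.finrank k V := Subspace.dual_finrank_eq
    omega
  refine ⟨U.dualCoannihilator, hcompl, ?_⟩
  intro A₁ hA₁
  rw [eq_bot_iff]
  rintro ⟨v, φ⟩ ⟨hgr, hT'⟩
  have hφ : φ = ((Submodule.projectionOnto _ U.dualCoannihilator hcompl).dualMap ∘ₗ A₁ ∘ₗ
      Submodule.projectionOnto _ U.dualCoannihilator hcompl) v := (LinearMap.mem_graph_iff _ _).mp hgr
  set p := Submodule.projectionOnto V₁ U.dualCoannihilator hcompl with hp
  have hφ' : ∀ w, φ w = A₁ (p v) (p w) := by
    intro w; rw [hφ]; rfl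
  have hφT₂ : φ ∈ T₂ := Submodule.mem_map.mpr ⟨(v, φ), hT', rfl⟩
  have hφU : φ ∈ U := by
    rw [← Subspace.dualCoannihilator_dualAnnihilator_eq (W := U), Submodule.mem_dualAnnihilator]
    intro w hw
    rw [hφ' w, Submodule.projectionOnto_apply_of_mem_right hcompl hw, map_zero]
  have hφ0 : φ = 0 := by
    have := hTU.disjoint
    rw [Submodule.disjoint_def] at this
    exact this φ hφT₂ hφU
  have hpv : p v = 0 := by
    apply hA₁
    rw [map_zero]
    ext x
    obtain ⟨y, rfl⟩ := Submodule.projectionOnto_surjective hcompl x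
    rw [← hφ' y, hφ0]; rfl
  have hv2 : v ∈ U.dualCoannihilator := (Submodule.projectionOnto_apply_eq_zero_iff hcompl).mp hpv
  have hv1 : v ∈ V₁ := by
    show (LinearMap.inl k V (Module.Dual k V)) v ∈ T
    have : (LinearMap.inl k V (Module.Dual k V)) v = (v, φ) := by
      rw [hφ0]; rfl
    rw [this]; exact hT'
  have hv0 : v = 0 := by
    have := hcompl.disjoint
    rw [Submodule.disjoint_def] at this
    exact this v hv1 hv2
  rw [hv0, hφ0]
  exact Submodule.zero_mem _

end Groth.Agent.S14478
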