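import Groth.Statements.S14479
import Mathlib.LinearAlgebra.Matrix.BilinearForm
import Mathlib.LinearAlgebra.Matrix.Permutation
import Mathlib.LinearAlgebra.Matrix.Nondegenerate
import Mathlib.Algebra.CharP.Basic
import Mathlib.Data.Fin.Rev
import Mathlib.LinearAlgebra.Dimension.Free

set_option autoImplicit false
universe u
open CharCyc

namespace Groth.Agent.S14479

open Matrix in
theorem exists_matrix (k : Type u) [Field k] (n : ℕ) (h : Even n ∨ ringChar k ≠ 2) :
    ∃ M : Matrix (Fin n) (Fin n) k, (M + Mᵀ).det ≠ 0 := by
  classical
  rcases h with h | h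
  · -- even case
    refine ⟨Matrix.of fun i j => if j = Fin.rev i ∧ i < j then 1 else 0, ?_⟩
    have hfix : ∀ i : Fin n, Fin.rev i ≠ i := by
      intro i hi
      have := congrArg Fin.val hi
      rw [Fin.val_rev] at this
      obtain ⟨m, hm⟩ := h
      omega
    have hP : (Matrix.of fun i j : Fin n => if j = Fin.rev i ∧ i < j then (1 : k) else 0) +
        (Matrix.of fun i j : Fin n => if j = Fin.rev i ∧ i < j then (1 : k) else 0)ᵀ =
        (Fin.revPerm : Equiv.Perm (Fin n)).permMatrix k := by
      ext i j
      simp only [Matrix.add_apply, Matrix.transpose_apply, Matrix.of_apply,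
        Equiv.Perm.permMatrix, PEquiv.toMatrix_apply, Equiv.toPEquiv_apply, Fin.revPerm_apply,
        Option.mem_def, Option.some.injEq]
      by_cases hj : j = Fin.rev i
      · have hi : i = Fin.rev j := by rw [hj, Fin.rev_rev]
        have hne : i ≠ j := fun hij => hfix i (by rw [← hj, hij])
        rcases lt_or_gt_of_ne hne with hlt | hgt
        · have : ¬ (j < i) := not_lt.mpr hlt.le
          simp [hj.symm, hlt, this, hi.symm]
        · have : ¬ (i < j) := not_lt.mpr hgt.le
          simp [hj.symm, hgt, this, hi.symm]
      · have hi : ¬ (i = Fin.rev j) := fun hi => hj (by rw [hi, Fin.rev_rev])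
        have hj' : ¬ (Fin.rev i = j) := fun h' => hj h'.symm
        simp [hj, hi, hj']
    rw [hP, Matrix.det_permutation]
    rcases Int.units_eq_one_or (Equiv.Perm.sign (Fin.revPerm : Equiv.Perm (Fin n))) with h1 | h1 <;>
      simp [h1]
  · refine ⟨1, ?_⟩
    have h2 : (2 : k) ≠ 0 := Ring.two_ne_zero h
    rw [Matrix.transpose_one, ← two_smul k (1 : Matrix (Fin n) (Fin n) k), Matrix.det_smul,
      Matrix.det_one, mul_one]
    exact pow_ne_zero _ h2

/-- Let V be a finite-dimensional vector space over a field k. If dim V is even or the characteristic of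
k is different from 2, there is a bilinear form B on V such that the bilinear form (v, w) ↦ B(v, w)
+ B(w, v) (B plus its transpose, as a map V → V^∨) is nondegenerate. -/
theorem result (k V : Type u) [Field k] [AddCommGroup V] [Module k V]
    [FiniteDimensional k V] (h : Even (Module.finrank k V) ∨ ringChar k ≠ 2) :
    ∃ B : LinearMap.BilinForm k V, (B + B.flip).Nondegenerate := by
  classical
  set n := Module.finrank k V with hn
  let b : Module.Basis (Fin n) k V := Module.finBasis k V
  obtain ⟨M, hM⟩ := exists_matrix k n h
  refine ⟨Matrix.toBilin b M, ?_⟩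
  rw [LinearMap.BilinForm.nondegenerate_iff_det_ne_zero b]
  have : LinearMap.BilinForm.toMatrix b (Matrix.toBilin b M + (Matrix.toBilin b M).flip) =
      M + M.transpose := by
    ext i j
    rw [LinearMap.BilinForm.toMatrix_apply, LinearMap.add_apply, LinearMap.add_apply,
      LinearMap.BilinForm.flip_apply, Matrix.add_apply, Matrix.transpose_apply,
      ← LinearMap.BilinForm.toMatrix_apply b, ← LinearMap.BilinForm.toMatrix_apply b,
      LinearMap.BilinForm.toMatrix_toBilin]
  rw [this]
  exact hM

end Groth.Agent.S14479
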