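import Groth.Statements.S14480
import Groth.Agent.Lib.Helper4FibDimK
open Groth.Agent.Lib.Helper4.VarDim Groth.Agent.Lib.Helper4.FibDim AlgebraicGeometry

set_option autoImplicit false
set_option linter.style.haveILetI false
universe u
open CategoryTheory AlgebraicGeometry
open CharCyc

namespace Groth.Agent.S14480

/-- Let k be a field, let π : C → X be a morphism between k-schemes of finite type, and let n be a
natural number. For j ≥ 0 let B_j ⊆ X be the set of points x whose fibre π⁻¹(x) has dimension at
least j (so B_0 is the image of π). Then dim C ≤ n if and only if, for every j, the closure of B_j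
in X has dimension at most n − j. Dimensions are topological Krull dimensions with the empty space
of dimension ⊥, and the inequality is written additively as dim cl(B_j) + j ≤ n. -/
theorem result (k : Type u) [Field k] (C X : Scheme.{u})
    (q : X ⟶ Spec (CommRingCat.of k)) (π : C ⟶ X)
    [LocallyOfFiniteType q] [CompactSpace X] [LocallyOfFiniteType π] [CompactSpace C] (n : ℕ) :
    topologicalKrullDim C ≤ n ↔
      ∀ j : ℕ, topologicalKrullDim (closure {x : X | (j : WithBot ℕ∞) ≤ topologicalKrullDim (π.fiber x)}) +
        (j : WithBot ℕ∞) ≤ n := by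
  letI : X.Over (Spec (CommRingCat.of k)) := ⟨q⟩
  letI : C.Over (Spec (CommRingCat.of k)) := ⟨π ≫ q⟩
  haveI : LocallyOfFiniteType (X ↘ Spec (CommRingCat.of k)) := ‹LocallyOfFiniteType q›
  haveI : LocallyOfFiniteType (C ↘ Spec (CommRingCat.of k)) :=
    inferInstanceAs (LocallyOfFiniteType (π ≫ q))
  have hπ : π ≫ (X ↘ Spec (CommRingCat.of k)) = (C ↘ Spec (CommRingCat.of k)) := rfl
  haveI : IsLocallyNoetherian C :=
    LocallyOfFiniteType.isLocallyNoetherian (C ↘ (Spec (CommRingCat.of k)))
  haveI : IsNoetherian C := {}
  constructor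
  · -- dim C ≤ n ⇒ the bounds
    intro hC j
    -- every point of `B_j` has `trdeg + j ≤ n`
    have hB : ∀ x : X, ((j : ℕ) : WithBot ℕ∞) ≤ topologicalKrullDim (π.fiber x) →
        trdegNat k X x + j ≤ n := by
      intro x hx
      obtain ⟨z, hz⟩ := exists_fiber_point_trdegNat_ge π x j hx
      have h1 := trdegNat_eq_add_fiber k π hπ x z (π.fiberι x z) rfl
      have hfz : π (π.fiberι x z) = x := (π.fiberHomeo x z).2
      rw [hfz] at h1
      have h2 : ((trdegNat k C (π.fiberι x z) : ℕ) : WithBot ℕ∞) ≤ n :=
        (trdegNat_le_topologicalKrullDim k C _).trans hC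
      have h3 : trdegNat k C (π.fiberι x z) ≤ n := by exact_mod_cast h2
      omega
    -- every point of the closure too
    have hcl : ∀ y ∈ closure {x : X | ((j : ℕ) : WithBot ℕ∞) ≤ topologicalKrullDim (π.fiber x)},
        trdegNat k X y + j ≤ n := by
      intro y hy
      rw [setOf_natCast_le_dim_fiber_eq_image] at hy
      obtain ⟨a, ha, hay⟩ := exists_specializes_of_mem_closure_image π π.continuous _
        (isClosed_setOf_natCast_le_fibreDimAt π j) y hy
      have h1 : ((j : ℕ) : WithBot ℕ∞) ≤ topologicalKrullDim (π.fiber (π a)) :=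
        (natCast_le_topologicalKrullDim_fiber_iff π (π a) j).mpr ⟨a, rfl, ha⟩
      have h2 := hB (π a) h1
      have h3 := trdegNat_le_of_specializes k X (π a) y hay
      omega
    by_cases hne : (closure {x : X | ((j : ℕ) : WithBot ℕ∞) ≤
        topologicalKrullDim (π.fiber x)}).Nonempty
    · obtain ⟨y₀, hy₀⟩ := hne
      have hjn : j ≤ n := by have := hcl y₀ hy₀; omega
      haveI := quasiSober_of_isLocallyClosed
        (closure {x : X | ((j : ℕ) : WithBot ℕ∞) ≤ topologicalKrullDim (π.fiber x)})
        isClosed_closure.isLocallyClosed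
      have h4 : topologicalKrullDim (closure {x : X | ((j : ℕ) : WithBot ℕ∞) ≤
          topologicalKrullDim (π.fiber x)}) ≤ ((n - j : ℕ) : WithBot ℕ∞) := by
        refine topologicalKrullDim_le_of_forall_trdegNat_le k X _ _ fun t ht => ?_
        have := hcl t ht
        have h5 : trdegNat k X t ≤ n - j := by omega
        exact_mod_cast h5
      refine (add_le_add_left h4 _).trans ?_
      have h6 : (n - j) + j = n := by omega
      exact_mod_cast h6.le
    · rw [Set.not_nonempty_iff_eq_empty] at hne
      rw [hne]
      haveI : IsEmpty ((∅ : Set X) : Type u) := Set.isEmpty_coe_sort.mpr rfl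
      rw [topologicalKrullDim_eq_bot_of_isEmpty, WithBot.bot_add]
      exact bot_le
  · -- the bounds ⇒ dim C ≤ n
    intro h
    refine topologicalKrullDim_le_of_forall_trdegNat_le' k C _ fun c => ?_
    letI : (π.fiber (π c)).Over (Spec (CommRingCat.of (X.residueField (π c)))) :=
      ⟨π.fiberToSpecResidueField (π c)⟩
    haveI : LocallyOfFiniteType ((π.fiber (π c)) ↘ Spec (CommRingCat.of (X.residueField (π c)))) :=
      locallyOfFiniteType_fiberToSpecResidueField π (π c)
    set j := trdegNat (X.residueField (π c)) (π.fiber (π c)) (π.asFiber c) with hj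
    have h1 := trdegNat_eq_add_fiber k π hπ (π c) (π.asFiber c) c (π.fiberι_asFiber c)
    have h2 : ((j : ℕ) : WithBot ℕ∞) ≤ topologicalKrullDim (π.fiber (π c)) :=
      trdegNat_le_topologicalKrullDim (X.residueField (π c)) (π.fiber (π c)) (π.asFiber c)
    have h3 : π c ∈ closure {x : X | ((j : ℕ) : WithBot ℕ∞) ≤ topologicalKrullDim (π.fiber x)} :=
      subset_closure h2
    have h4 := trdegNat_le_topologicalKrullDim_of_isLocallyClosed k X _
      isClosed_closure.isLocallyClosed (π c) h3
    have h5 := (add_le_add_left h4 ((j : ℕ) : WithBot ℕ∞)).trans (h j)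
    rw [h1]
    exact_mod_cast h5

end Groth.Agent.S14480
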