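import Groth.Statements.S14481
import Groth.Agent.Lib.Helper2KrullCut

set_option autoImplicit false
universe u
open CategoryTheory AlgebraicGeometry
open CharCyc

namespace Groth.Agent.S14481

/-- First equivalence: let k be a field, let π : C → X be a morphism between k-schemes of finite type
such that every irreducible component of C has dimension n, and let ι : W → X be a regular immersion
of codimension c. The following are equivalent: (a) ι meets C properly, that is, whenever P is an
irreducible component of C and Q is an irreducible component of P ×_X W (the subspace P ∩ π⁻¹(ι(W))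
of C), one has dim Q = dim P − c; (b) dim C ×_X W ≤ n − c (the subspace π⁻¹(ι(W)) of C). Dimensions
are written additively: dim Q + c = n and dim π⁻¹(ι(W)) + c ≤ n, the empty space having dimension ⊥.
(Stated for each of the four kinds of regular immersion of codimension c — regular, Koszul-regular,
H₁-regular, quasi-regular; the published statement does not distinguish kinds.) -/
theorem result (k : Type u) [Field k] (C X W : Scheme.{u})
    (q : X ⟶ Spec (CommRingCat.of k)) (π : C ⟶ X) (ι : W ⟶ X)
    [LocallyOfFiniteType q] [CompactSpace X] [LocallyOfFiniteType π] [CompactSpace C]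
    (κ : RegImm.Kind) (n c : ℕ) (hι : RegImm.IsRegularImmersionOfCodim κ c ι)
    (hC : ∀ P ∈ irreducibleComponents (C : Type u), topologicalKrullDim P = n) :
    (∀ P ∈ irreducibleComponents (C : Type u), ∀ Q ∈ irreducibleComponents (P ∩ π ⁻¹' Set.range ι : Set C),
        topologicalKrullDim Q + (c : WithBot ℕ∞) = n) ↔
      topologicalKrullDim (π ⁻¹' Set.range ι : Set C) + (c : WithBot ℕ∞) ≤ n := by
  classical
  obtain ⟨himm, hloc⟩ := hι
  haveI := himm
  letI ovC : C.Over (Spec (CommRingCat.of k)) := ⟨π ≫ q⟩
  haveI : LocallyOfFiniteType (C ↘ Spec (CommRingCat.of k)) :=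
    (inferInstance : LocallyOfFiniteType (π ≫ q))
  haveI : IsLocallyNoetherian (Spec (CommRingCat.of k)) := inferInstance
  haveI : IsLocallyNoetherian X := LocallyOfFiniteType.isLocallyNoetherian q
  haveI : IsNoetherian X := {}
  haveI : TopologicalSpace.NoetherianSpace X := inferInstance
  haveI : TopologicalSpace.NoetherianSpace W := ι.isEmbedding.isInducing.noetherianSpace
  haveI : QuasiCompact ι := inferInstance
  have hloc' : ∀ w : W, ∃ U : X.affineOpens, ι w ∈ U.1 ∧ IsClosedImmersion (ι ∣_ U.1) ∧
      ∃ rs : List Γ(X, U.1), rs.length = c ∧ RingHom.ker (ι.app U.1).hom = Ideal.ofList rs := by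
    intro w
    obtain ⟨U, h1, h2, rs, h3, -, h4⟩ := hloc w
    exact ⟨U, h1, h2, rs, h3, h4⟩
  have hSlc : IsLocallyClosed (π ⁻¹' Set.range ι : Set C) :=
    (ι.isLocallyClosed_range).preimage π.continuous
  constructor
  · intro ha
    have hpt : ∀ t ∈ (π ⁻¹' Set.range ι : Set C),
        Groth.Agent.Lib.Helper4.VarDim.trdegNat k C t + c ≤ n := by
      intro t ht
      have hP : irreducibleComponent t ∈ irreducibleComponents (C : Type u) :=
        irreducibleComponent_mem_irreducibleComponents t
      have htP : t ∈ irreducibleComponent t := mem_irreducibleComponent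
      have hPc : IsClosed (irreducibleComponent t) := isClosed_irreducibleComponent
      have hTlc : IsLocallyClosed (irreducibleComponent t ∩ π ⁻¹' Set.range ι : Set C) :=
        hPc.isLocallyClosed.inter hSlc
      have hQ : irreducibleComponent
          (⟨t, htP, ht⟩ : ↥(irreducibleComponent t ∩ π ⁻¹' Set.range ι : Set C)) ∈
          irreducibleComponents ↥(irreducibleComponent t ∩ π ⁻¹' Set.range ι : Set C) :=
        irreducibleComponent_mem_irreducibleComponents _
      obtain ⟨ξ, hξT, hξQ, hdim, -, hle⟩ :=
        Groth.Agent.Lib.Helper2.KrullCut.exists_generic_of_mem_irreducibleComponents k C _ hTlc _ hQ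
      have h1 := ha _ hP _ hQ
      rw [hdim] at h1
      have h2 := hle ⟨t, htP, ht⟩ mem_irreducibleComponent
      have h3 : Groth.Agent.Lib.Helper4.VarDim.trdegNat k C ξ + c = n := by exact_mod_cast h1
      have h2' : Groth.Agent.Lib.Helper4.VarDim.trdegNat k C t ≤
          Groth.Agent.Lib.Helper4.VarDim.trdegNat k C ξ := h2
      omega
    by_cases hne : (π ⁻¹' Set.range ι : Set C).Nonempty
    · obtain ⟨t₀, ht₀⟩ := hne
      have hcn : c ≤ n := by
        have := hpt t₀ ht₀
        omega
      haveI := Groth.Agent.Lib.Helper4.VarDim.quasiSober_of_isLocallyClosed _ hSlc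
      have hdimS : topologicalKrullDim ↥(π ⁻¹' Set.range ι : Set C) ≤ ((n - c : ℕ) : WithBot ℕ∞) :=
        Groth.Agent.Lib.Helper4.VarDim.topologicalKrullDim_le_of_forall_trdegNat_le k C _ _
          fun t ht => by
            have := hpt t ht
            exact_mod_cast (by omega : Groth.Agent.Lib.Helper4.VarDim.trdegNat k C t ≤ n - c)
      refine (add_le_add hdimS le_rfl).trans ?_
      exact_mod_cast (by omega : n - c + c ≤ n)
    · haveI : IsEmpty ↥(π ⁻¹' Set.range ι : Set C) :=
        ⟨fun t => hne ⟨t.1, t.2⟩⟩
      rw [Groth.Agent.Lib.Helper4.VarDim.topologicalKrullDim_eq_bot_of_isEmpty, WithBot.bot_add]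
      exact bot_le
  · intro hb P hP Q hQ
    have hPc : IsClosed P := isClosed_of_mem_irreducibleComponents P hP
    have hTlc : IsLocallyClosed (P ∩ π ⁻¹' Set.range ι : Set C) := hPc.isLocallyClosed.inter hSlc
    obtain ⟨ξ, hξT, hξQ, hdim, hgen, -⟩ :=
      Groth.Agent.Lib.Helper2.KrullCut.exists_generic_of_mem_irreducibleComponents k C _ hTlc Q hQ
    obtain ⟨η, hη⟩ := QuasiSober.sober hP.1 hPc
    have dimP := Groth.Agent.S19416.dim_eq_trdegNat_of_isGenericPoint k C P hPc η hη
    rw [hC P hP] at dimP
    have hηn : Groth.Agent.Lib.Helper4.VarDim.trdegNat k C η = n := by exact_mod_cast dimP.symm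
    have hηξ : η ⤳ ξ := hη.specializes hξT.1
    have h1 : Groth.Agent.Lib.Helper4.VarDim.trdegNat k C η ≤
        Groth.Agent.Lib.Helper4.VarDim.trdegNat k C ξ + c :=
      Groth.Agent.Lib.Helper2.KrullCut.le_trdegNat_add_of_generic k C X W π ι c hloc' η ξ hηξ hξT.2
        (fun y hy1 hy2 hy3 => hgen y ⟨by
          rw [← hη.def]
          exact specializes_iff_mem_closure.mp hy1, hy2⟩ hy3)
    have h2 : ((Groth.Agent.Lib.Helper4.VarDim.trdegNat k C ξ : ℕ) : WithBot ℕ∞) ≤
        topologicalKrullDim ↥(π ⁻¹' Set.range ι : Set C) :=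
      Groth.Agent.Lib.Helper4.VarDim.trdegNat_le_topologicalKrullDim_of_isLocallyClosed k C _ hSlc
        ξ hξT.2
    have h3 : Groth.Agent.Lib.Helper4.VarDim.trdegNat k C ξ + c ≤ n := by
      have : ((Groth.Agent.Lib.Helper4.VarDim.trdegNat k C ξ : ℕ) : WithBot ℕ∞) + (c : WithBot ℕ∞)
          ≤ n := (add_le_add h2 le_rfl).trans hb
      exact_mod_cast this
    rw [hdim]
    exact_mod_cast (by omega : Groth.Agent.Lib.Helper4.VarDim.trdegNat k C ξ + c = n)

end Groth.Agent.S14481
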