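import Groth.Statements.S14482
import Groth.Agent.Lib.Helper2KrullCut
import Groth.Agent.S14480
open Groth.Agent.Lib.Helper4.VarDim Groth.Agent.Lib.Helper4.FibDim AlgebraicGeometry

set_option autoImplicit false
universe u
open CategoryTheory AlgebraicGeometry
open CharCyc

namespace Groth.Agent.S14482

section
attribute [local instance] Curv2.resAlgebra

/-- Immersions preserve the transcendence degree of residue fields. -/
theorem trdegNat_eq_of_isPreimmersion (k : Type u) [Field k] {X W : Scheme.{u}}
    [X.Over (Spec (CommRingCat.of k))] [W.Over (Spec (CommRingCat.of k))] (ι : W ⟶ X)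
    [IsPreimmersion ι]
    (hι : ι ≫ (X ↘ Spec (CommRingCat.of k)) = (W ↘ Spec (CommRingCat.of k))) (w : W) :
    trdegNat k W w = trdegNat k X (ι w) := by
  unfold trdegNat
  have hb : Function.Bijective (residueFieldAlgHom k ι hι w) :=
    residueFieldMap_bijective_of_isPreimmersion ι w
  have h := (AlgEquiv.ofBijective (residueFieldAlgHom k ι hι w) hb).trdeg_eq
  rw [h]

end

/-- Second assertion: let k be a field, let π : C → X be a morphism between k-schemes of finite type
such that every irreducible component of C has dimension n, let ι : W → X be a regular immersion of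
codimension c, and for j ≥ 0 let B_j ⊆ X be the set of points whose fibre under π has dimension at
least j. Assume that every B_j is closed in X. Then dim B_j + j ≤ n for every j, and the condition
dim π⁻¹(ι(W)) + c ≤ n (that is, dim C ×_X W ≤ n − c) holds if and only if dim ι⁻¹(B_j) + c + j ≤ n
for every j (that is, ι meets the sequence (B_j) n-semi-properly). Dimensions are topological Krull
dimensions of subspaces, the empty space having dimension ⊥. (Stated for each of the four kinds of
regular immersion of codimension c — regular, Koszul-regular, H₁-regular, quasi-regular; the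
published statement does not distinguish kinds.) -/
theorem result (k : Type u) [Field k] (C X W : Scheme.{u})
    (q : X ⟶ Spec (CommRingCat.of k)) (π : C ⟶ X) (ι : W ⟶ X)
    [LocallyOfFiniteType q] [CompactSpace X] [LocallyOfFiniteType π] [CompactSpace C]
    (κ : RegImm.Kind) (n c : ℕ) (hι : RegImm.IsRegularImmersionOfCodim κ c ι)
    (hC : ∀ P ∈ irreducibleComponents (C : Type u), topologicalKrullDim P = n)
    (hB : ∀ j : ℕ, IsClosed {x : X | (j : WithBot ℕ∞) ≤ topologicalKrullDim (π.fiber x)}) :
    (∀ j : ℕ, topologicalKrullDim {x : X | (j : WithBot ℕ∞) ≤ topologicalKrullDim (π.fiber x)} + (j : WithBot ℕ∞) ≤ n) ∧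
      (topologicalKrullDim (π ⁻¹' Set.range ι : Set C) + (c : WithBot ℕ∞) ≤ n ↔
        ∀ j : ℕ, topologicalKrullDim (ι ⁻¹' {x : X | (j : WithBot ℕ∞) ≤ topologicalKrullDim (π.fiber x)} : Set W) + (c : WithBot ℕ∞) + (j : WithBot ℕ∞) ≤ n) := by
  classical
  obtain ⟨himm, -⟩ := hι
  haveI := himm
  letI ovX : X.Over (Spec (CommRingCat.of k)) := ⟨q⟩
  letI ovC : C.Over (Spec (CommRingCat.of k)) := ⟨π ≫ q⟩
  letI ovW : W.Over (Spec (CommRingCat.of k)) := ⟨ι ≫ q⟩
  haveI : LocallyOfFiniteType (X ↘ Spec (CommRingCat.of k)) := ‹LocallyOfFiniteType q›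
  haveI : LocallyOfFiniteType (C ↘ Spec (CommRingCat.of k)) :=
    (inferInstance : LocallyOfFiniteType (π ≫ q))
  haveI : LocallyOfFiniteType (W ↘ Spec (CommRingCat.of k)) :=
    (inferInstance : LocallyOfFiniteType (ι ≫ q))
  have hπ : π ≫ (X ↘ Spec (CommRingCat.of k)) = (C ↘ Spec (CommRingCat.of k)) := rfl
  have hιk : ι ≫ (X ↘ Spec (CommRingCat.of k)) = (W ↘ Spec (CommRingCat.of k)) := rfl
  have hSlc : IsLocallyClosed (π ⁻¹' Set.range ι : Set C) :=
    (ι.isLocallyClosed_range).preimage π.continuous
  have hCn : topologicalKrullDim C ≤ n := by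
    refine topologicalKrullDim_le_of_forall_trdegNat_le' k C _ fun t => ?_
    have h1 := trdegNat_le_topologicalKrullDim_of_isLocallyClosed k C (irreducibleComponent t)
      isClosed_irreducibleComponent.isLocallyClosed t mem_irreducibleComponent
    rwa [hC _ (irreducibleComponent_mem_irreducibleComponents t)] at h1
  have hclB : ∀ j : ℕ, IsClosed (ι ⁻¹' {x : X | (j : WithBot ℕ∞) ≤ topologicalKrullDim (π.fiber x)} :
      Set W) := fun j => (hB j).preimage ι.continuous
  refine ⟨fun j => ?_, ?_⟩
  · have h1 := (Groth.Agent.S14480.result k C X q π n).mp hCn j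
    rwa [(hB j).closure_eq] at h1
  · constructor
    · intro hS j
      have hpt : ∀ w ∈ (ι ⁻¹' {x : X | (j : WithBot ℕ∞) ≤ topologicalKrullDim (π.fiber x)} : Set W),
          trdegNat k W w + c + j ≤ n := by
        intro w hw
        obtain ⟨z, hz⟩ := exists_fiber_point_trdegNat_ge π (ι w) j hw
        have h1 := trdegNat_eq_add_fiber k π hπ (ι w) z (π.fiberι (ι w) z) rfl
        have hfz : π (π.fiberι (ι w) z) = ι w := (π.fiberHomeo (ι w) z).2
        rw [hfz] at h1
        have hmemS : π.fiberι (ι w) z ∈ (π ⁻¹' Set.range ι : Set C) := by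
          show π (π.fiberι (ι w) z) ∈ Set.range ι
          rw [hfz]
          exact ⟨w, rfl⟩
        have h2 := trdegNat_le_topologicalKrullDim_of_isLocallyClosed k C _ hSlc _ hmemS
        have h3 : ((trdegNat k C (π.fiberι (ι w) z) : ℕ) : WithBot ℕ∞) + (c : WithBot ℕ∞) ≤ n :=
          (add_le_add h2 le_rfl).trans hS
        have h4 : trdegNat k C (π.fiberι (ι w) z) + c ≤ n := by exact_mod_cast h3
        have h5 := trdegNat_eq_of_isPreimmersion k ι hιk w
        omega
      by_cases hne : (ι ⁻¹' {x : X | (j : WithBot ℕ∞) ≤ topologicalKrullDim (π.fiber x)} :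
          Set W).Nonempty
      · obtain ⟨w₀, hw₀⟩ := hne
        have hcj : c + j ≤ n := by
          have := hpt w₀ hw₀
          omega
        haveI := quasiSober_of_isLocallyClosed _ (hclB j).isLocallyClosed
        have h4 : topologicalKrullDim
            ↥(ι ⁻¹' {x : X | (j : WithBot ℕ∞) ≤ topologicalKrullDim (π.fiber x)} : Set W) ≤
            ((n - (c + j) : ℕ) : WithBot ℕ∞) :=
          topologicalKrullDim_le_of_forall_trdegNat_le k W _ _ fun t ht => by
            have := hpt t ht
            exact_mod_cast (by omega : trdegNat k W t ≤ n - (c + j))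
        refine (add_le_add (add_le_add h4 le_rfl) le_rfl).trans ?_
        exact_mod_cast (by omega : n - (c + j) + c + j ≤ n)
      · haveI : IsEmpty ↥(ι ⁻¹' {x : X | (j : WithBot ℕ∞) ≤ topologicalKrullDim (π.fiber x)} :
            Set W) := ⟨fun t => hne ⟨t.1, t.2⟩⟩
        rw [topologicalKrullDim_eq_bot_of_isEmpty, WithBot.bot_add, WithBot.bot_add]
        exact bot_le
    · intro h
      have hpt : ∀ t ∈ (π ⁻¹' Set.range ι : Set C), trdegNat k C t + c ≤ n := by
        rintro t ⟨w, hw⟩
        letI : (π.fiber (π t)).Over (Spec (CommRingCat.of (X.residueField (π t)))) :=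
          ⟨π.fiberToSpecResidueField (π t)⟩
        haveI : LocallyOfFiniteType
            ((π.fiber (π t)) ↘ Spec (CommRingCat.of (X.residueField (π t)))) :=
          locallyOfFiniteType_fiberToSpecResidueField π (π t)
        set j := trdegNat (X.residueField (π t)) (π.fiber (π t)) (π.asFiber t) with hj
        have h1 := trdegNat_eq_add_fiber k π hπ (π t) (π.asFiber t) t (π.fiberι_asFiber t)
        have h2 : ((j : ℕ) : WithBot ℕ∞) ≤ topologicalKrullDim (π.fiber (π t)) :=
          trdegNat_le_topologicalKrullDim (X.residueField (π t)) (π.fiber (π t)) (π.asFiber t)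
        have h3 : w ∈ (ι ⁻¹' {x : X | (j : WithBot ℕ∞) ≤ topologicalKrullDim (π.fiber x)} :
            Set W) := by
          show ((j : ℕ) : WithBot ℕ∞) ≤ topologicalKrullDim (π.fiber (ι w))
          rw [hw]
          exact h2
        have h4 := trdegNat_le_topologicalKrullDim_of_isLocallyClosed k W _
          (hclB j).isLocallyClosed w h3
        have h5 := (add_le_add (add_le_add h4 (le_refl (c : WithBot ℕ∞)))
          (le_refl (j : WithBot ℕ∞))).trans (h j)
        have h6 : trdegNat k W w + c + j ≤ n := by exact_mod_cast h5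
        have h7 := trdegNat_le_of_hom k ι hιk w
        rw [hw] at h7
        omega
      by_cases hne : (π ⁻¹' Set.range ι : Set C).Nonempty
      · obtain ⟨t₀, ht₀⟩ := hne
        have hcn : c ≤ n := by
          have := hpt t₀ ht₀
          omega
        haveI := quasiSober_of_isLocallyClosed _ hSlc
        have hdimS : topologicalKrullDim ↥(π ⁻¹' Set.range ι : Set C) ≤
            ((n - c : ℕ) : WithBot ℕ∞) :=
          topologicalKrullDim_le_of_forall_trdegNat_le k C _ _ fun t ht => by
            have := hpt t ht
            exact_mod_cast (by omega : trdegNat k C t ≤ n - c)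
        refine (add_le_add hdimS le_rfl).trans ?_
        exact_mod_cast (by omega : n - c + c ≤ n)
      · haveI : IsEmpty ↥(π ⁻¹' Set.range ι : Set C) := ⟨fun t => hne ⟨t.1, t.2⟩⟩
        rw [topologicalKrullDim_eq_bot_of_isEmpty, WithBot.bot_add]
        exact bot_le

end Groth.Agent.S14482
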