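import Groth.Statements.S14483
import Groth.Agent.S19416
import Groth.Agent.Lib.Helper4VarDim9
import Groth.Agent.Lib.Helper4VarDim7
import Groth.Agent.Lib.Helper4FibDimK
open Groth.Agent.Lib.Helper4.VarDim Groth.Agent.Lib.Helper4.FibDim

set_option autoImplicit false
universe u
open CategoryTheory CategoryTheory.Limits AlgebraicGeometry
open CharCyc

namespace Groth.Agent.S14483

set_option backward.isDefEq.respectTransparency.types false in
set_option backward.defeqAttrib.useBackward true in
/-- Pointwise version of Mathlib's `tfae_universallyInjective` (4 → 3): if every point of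
`X ×_Y X` lying over `(x, x)` is in the image of the diagonal, then the residue field extension
at `x` is purely inseparable. -/
theorem isPurelyInseparable_of_forall_mem_range {X Y : Scheme.{u}} (f : X ⟶ Y) (x : X)
    (hf : ∀ z : ↥(pullback f f), pullback.fst f f z = x → pullback.snd f f z = x →
      z ∈ Set.range (pullback.diagonal f)) :
    (f.residueFieldMap x).hom.IsPurelyInseparable := by
  algebraize [(f.residueFieldMap x).hom]
  rw [RingHom.IsPurelyInseparable, isPurelyInseparable_iff_subsingleton_emb, subsingleton_iff]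
  intro σ₁ σ₂
  apply AlgHom.coe_ringHom_injective
  let g₁ := (X.SpecToEquivOfField _).symm ⟨_, CommRingCat.ofHom σ₁.toRingHom⟩
  let g₂ := (X.SpecToEquivOfField _).symm ⟨_, CommRingCat.ofHom σ₂.toRingHom⟩
  suffices X.SpecToEquivOfField _ g₁ = X.SpecToEquivOfField _ g₂ by
    rw [Equiv.apply_symm_apply, Equiv.apply_symm_apply] at this
    exact congr($(this).2.hom)
  let q := pullback.lift (f := f) (g := f) g₁ g₂ <| by
    simp only [g₁, g₂, Scheme.SpecToEquivOfField_symm_apply, AlgHom.toRingHom_eq_coe,
      Category.assoc, ← f.SpecMap_residueFieldMap_fromSpecResidueField x, ← Spec.map_comp_assoc]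
    congr 2
    ext a
    simp only [CommRingCat.hom_comp, RingHom.comp_apply]
    exact (AlgHom.commutes σ₁ a).trans (AlgHom.commutes σ₂ a).symm
  have q_fst : q ≫ pullback.fst f f = g₁ := pullback.lift_fst _ _ _
  have q_snd : q ≫ pullback.snd f f = g₂ := pullback.lift_snd _ _ _
  rw [Scheme.SpecToEquivOfField_eq_iff, ← q_fst, ← q_snd]
  have hz1 : pullback.fst f f (q (IsLocalRing.closedPoint _)) = x := by
    rw [← Scheme.Hom.comp_apply, q_fst]
    simp [g₁, Scheme.SpecToEquivOfField_symm_apply]
  have hz2 : pullback.snd f f (q (IsLocalRing.closedPoint _)) = x := by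
    rw [← Scheme.Hom.comp_apply, q_snd]
    simp [g₂, Scheme.SpecToEquivOfField_symm_apply]
  obtain ⟨u, hu⟩ := hf (q (IsLocalRing.closedPoint _)) hz1 hz2
  have hux : u = x := by
    have := congr(pullback.fst f f $(hu))
    rw [← Scheme.Hom.comp_apply, ← Scheme.Hom.comp_apply] at this
    simpa [Scheme.SpecToEquivOfField_symm_apply, q_fst, g₁] using this
  refine ⟨by simp [g₁, g₂, q_fst, q_snd], ?_⟩
  dsimp
  simp only [Scheme.descResidueField_stalkClosedPointTo_comp, ← Category.assoc]
  congr 1
  rw [← cancel_mono (Scheme.residueFieldCongr (hux ▸ hu).symm).hom]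
  have : Mono (Scheme.Hom.residueFieldMap (pullback.diagonal f) x) :=
    ConcreteCategory.mono_of_injective _ (RingHom.injective _)
  simp [← cancel_mono ((pullback.diagonal f).residueFieldMap x), ← Scheme.residueFieldMap_comp,
    (pullback.fst f f).residueFieldMap_congr', (pullback.snd f f).residueFieldMap_congr'_assoc,
    Scheme.Hom.residueFieldMap_congr (pullback.diagonal_snd f),
    Scheme.Hom.residueFieldMap_congr (pullback.diagonal_fst f)]

/-- Let k be a field and let f : X → S be a morphism between separated k-schemes of finite type. Two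
closed subsets Y, Z of X are said to well intersect with respect to f when dim(Y ×_S Z ∖ Y ×_X Z) ≤
dim Y + dim Z − dim S; here Y ×_S Z ∖ Y ×_X Z is taken as the subspace of X ×_S X of points whose
two projections lie in Y and in Z and which are not in the image of the diagonal, and the inequality
is written additively as dim(Y ×_S Z ∖ Y ×_X Z) + dim S ≤ dim Y + dim Z (topological Krull
dimensions, the empty space having dimension ⊥). Let Y ⊆ X be closed and irreducible with dim Y <
dim S, and suppose that the pair Y, Y well intersects with respect to f. Then Y → S is generically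
radicial onto its image: there is an open subset V of X meeting Y such that f is injective on V ∩ Y
and, at every point of V ∩ Y, the residue field extension induced by f is purely inseparable. -/
theorem result (k : Type u) [Field k] (X S : Scheme.{u})
    (q : S ⟶ Spec (CommRingCat.of k)) (f : X ⟶ S)
    [LocallyOfFiniteType q] [CompactSpace S] [IsSeparated q] [LocallyOfFiniteType f] [CompactSpace X] [IsSeparated f]
    (Y : Set X) (hYc : IsClosed Y) (hYi : IsIrreducible Y)
    (hWI : topologicalKrullDim {p : ↥(pullback f f) | pullback.fst f f p ∈ Y ∧ pullback.snd f f p ∈ Y ∧ p ∉ Set.range (pullback.diagonal f)} + topologicalKrullDim S ≤ topologicalKrullDim Y + topologicalKrullDim Y)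
    (hYS : topologicalKrullDim Y < topologicalKrullDim S) :
    ∃ V : Set X, IsOpen V ∧ (V ∩ Y).Nonempty ∧ Set.InjOn f.base (V ∩ Y) ∧
      ∀ x ∈ V ∩ Y, (f.residueFieldMap x).hom.IsPurelyInseparable := by
  classical
  letI ovS : S.Over (Spec (CommRingCat.of k)) := ⟨q⟩
  letI ovX : X.Over (Spec (CommRingCat.of k)) := ⟨f ≫ q⟩
  letI ovP : (pullback f f).Over (Spec (CommRingCat.of k)) := ⟨pullback.fst f f ≫ f ≫ q⟩
  haveI : LocallyOfFiniteType (S ↘ Spec (CommRingCat.of k)) := ‹LocallyOfFiniteType q›
  haveI : LocallyOfFiniteType (X ↘ Spec (CommRingCat.of k)) :=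
    (inferInstance : LocallyOfFiniteType (f ≫ q))
  haveI : LocallyOfFiniteType ((pullback f f) ↘ Spec (CommRingCat.of k)) :=
    (inferInstance : LocallyOfFiniteType (pullback.fst f f ≫ f ≫ q))
  haveI : QuasiSeparatedSpace S := quasiSeparatedSpace_of_quasiSeparated q
  haveI : QuasiCompact f := inferInstance
  haveI : CompactSpace ↥(pullback f f) := inferInstance
  haveI : IsLocallyNoetherian (pullback f f) :=
    LocallyOfFiniteType.isLocallyNoetherian (pullback.fst f f ≫ f ≫ q)
  haveI : IsNoetherian (pullback f f) := {}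
  haveI : TopologicalSpace.NoetherianSpace ↥(pullback f f) := inferInstance
  obtain ⟨η, hη⟩ := QuasiSober.sober hYi hYc
  have dY := Groth.Agent.S19416.dim_eq_trdegNat_of_isGenericPoint k X Y hYc η hη
  haveI : Nonempty S := ⟨f η⟩
  obtain ⟨σ, -, dS⟩ := exists_trdegNat_eq_topologicalKrullDim k S
  rw [dY, dS] at hWI
  rw [dY, dS] at hYS
  have hYS' : trdegNat k X η < trdegNat k S σ := by exact_mod_cast hYS
  have hΔ : IsClosed (Set.range (pullback.diagonal f)) :=
    (pullback.diagonal f).isClosedEmbedding.isClosed_range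
  have hG : IsClosed {p : ↥(pullback f f) | pullback.fst f f p ∈ Y ∧ pullback.snd f f p ∈ Y} :=
    (hYc.preimage (pullback.fst f f).continuous).inter
      (hYc.preimage (pullback.snd f f).continuous)
  have hE : IsLocallyClosed {p : ↥(pullback f f) | pullback.fst f f p ∈ Y ∧
      pullback.snd f f p ∈ Y ∧ p ∉ Set.range (pullback.diagonal f)} := by
    have : {p : ↥(pullback f f) | pullback.fst f f p ∈ Y ∧
        pullback.snd f f p ∈ Y ∧ p ∉ Set.range (pullback.diagonal f)} =
        {p : ↥(pullback f f) | pullback.fst f f p ∈ Y ∧ pullback.snd f f p ∈ Y} ∩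
          (Set.range (pullback.diagonal f))ᶜ :=
      Set.ext fun p => ⟨fun h => ⟨⟨h.1, h.2.1⟩, h.2.2⟩, fun h => ⟨h.1.1, h.1.2, h.2⟩⟩
    rw [this]
    exact hG.isLocallyClosed.inter hΔ.isOpen_compl.isLocallyClosed
  -- no point of E has its first or second projection equal to η
  have hnoE : ∀ e : ↥(pullback f f), e ∈ {p : ↥(pullback f f) | pullback.fst f f p ∈ Y ∧
      pullback.snd f f p ∈ Y ∧ p ∉ Set.range (pullback.diagonal f)} →
      pullback.fst f f e ≠ η ∧ pullback.snd f f e ≠ η := by
    intro e he
    have hdimE := trdegNat_le_topologicalKrullDim_of_isLocallyClosed k (pullback f f) _ hE e he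
    have hle1 : trdegNat k X (pullback.fst f f e) ≤ trdegNat k (pullback f f) e :=
      trdegNat_le_of_hom k (pullback.fst f f) rfl e
    have hsnd : pullback.snd f f ≫ (X ↘ Spec (CommRingCat.of k)) =
        ((pullback f f) ↘ Spec (CommRingCat.of k)) := by
      show pullback.snd f f ≫ f ≫ q = pullback.fst f f ≫ f ≫ q
      rw [← Category.assoc, ← pullback.condition, Category.assoc]
    have hle2 : trdegNat k X (pullback.snd f f e) ≤ trdegNat k (pullback f f) e :=
      trdegNat_le_of_hom k (pullback.snd f f) hsnd e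
    have hgen : ∀ n : ℕ, n ≤ trdegNat k (pullback f f) e → n ≠ trdegNat k X η := by
      intro n hn hne
      have h1 : ((trdegNat k X η : ℕ) : WithBot ℕ∞) + ((trdegNat k S σ : ℕ) : WithBot ℕ∞) ≤
          ((trdegNat k X η : ℕ) : WithBot ℕ∞) + ((trdegNat k X η : ℕ) : WithBot ℕ∞) :=
        le_trans (add_le_add (le_trans (by exact_mod_cast (hne ▸ hn)) hdimE) le_rfl) hWI
      have h2 : trdegNat k X η + trdegNat k S σ ≤ trdegNat k X η + trdegNat k X η := by
        exact_mod_cast h1
      omega
    refine ⟨fun h => hgen _ hle1 (by rw [h]), fun h => hgen _ hle2 (by rw [h])⟩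
  -- hence η is not in the closure of either projection of E
  have hcl : ∀ (pr : ↥(pullback f f) → X), Continuous pr →
      (∀ e, e ∈ {p : ↥(pullback f f) | pullback.fst f f p ∈ Y ∧
        pullback.snd f f p ∈ Y ∧ p ∉ Set.range (pullback.diagonal f)} → pr e ∈ Y ∧ pr e ≠ η) →
      η ∉ closure (pr '' {p : ↥(pullback f f) | pullback.fst f f p ∈ Y ∧
        pullback.snd f f p ∈ Y ∧ p ∉ Set.range (pullback.diagonal f)}) := by
    intro pr hpr hprE hmem
    haveI := quasiSober_of_isLocallyClosed _ hE
    have hmem' : η ∈ closure ((fun e : ↥{p : ↥(pullback f f) | pullback.fst f f p ∈ Y ∧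
        pullback.snd f f p ∈ Y ∧ p ∉ Set.range (pullback.diagonal f)} => pr e.1) '' Set.univ) := by
      have : ((fun e : ↥{p : ↥(pullback f f) | pullback.fst f f p ∈ Y ∧
          pullback.snd f f p ∈ Y ∧ p ∉ Set.range (pullback.diagonal f)} => pr e.1) '' Set.univ) =
          pr '' {p : ↥(pullback f f) | pullback.fst f f p ∈ Y ∧
            pullback.snd f f p ∈ Y ∧ p ∉ Set.range (pullback.diagonal f)} := by
        ext t
        constructor
        · rintro ⟨e, -, rfl⟩
          exact ⟨e.1, e.2, rfl⟩
        · rintro ⟨e, he, rfl⟩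
          exact ⟨⟨e, he⟩, Set.mem_univ _, rfl⟩
      rw [this]
      exact hmem
    obtain ⟨e, -, hspec⟩ := exists_specializes_of_mem_closure_image _
      (hpr.comp continuous_subtype_val) Set.univ isClosed_univ η hmem'
    have h1 := hprE e.1 e.2
    have hrev : η ⤳ pr e.1 := hη.specializes h1.1
    exact h1.2 (hspec.antisymm hrev).eq
  have hη1 := hcl (fun p => pullback.fst f f p) (pullback.fst f f).continuous
    (fun e he => ⟨he.1, (hnoE e he).1⟩)
  have hη2 := hcl (fun p => pullback.snd f f p) (pullback.snd f f).continuous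
    (fun e he => ⟨he.2.1, (hnoE e he).2⟩)
  -- key property of points of V ∩ Y
  have hkey : ∀ x : X, x ∈ (closure ((fun p => pullback.fst f f p) '' {p : ↥(pullback f f) |
      pullback.fst f f p ∈ Y ∧ pullback.snd f f p ∈ Y ∧
        p ∉ Set.range (pullback.diagonal f)}))ᶜ ∩ Y →
      ∀ z : ↥(pullback f f), pullback.fst f f z = x → pullback.snd f f z ∈ Y →
        z ∈ Set.range (pullback.diagonal f) := by
    intro x hx z hz1 hz2
    by_contra hzΔ
    exact hx.1 (subset_closure ⟨z, ⟨by rw [hz1]; exact hx.2, hz2, hzΔ⟩, hz1⟩)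
  have hdiag : ∀ u : X, pullback.fst f f (pullback.diagonal f u) = u ∧
      pullback.snd f f (pullback.diagonal f u) = u := by
    intro u
    constructor
    · rw [← Scheme.Hom.comp_apply, pullback.diagonal_fst]; rfl
    · rw [← Scheme.Hom.comp_apply, pullback.diagonal_snd]; rfl
  refine ⟨(closure ((fun p => pullback.fst f f p) '' {p : ↥(pullback f f) |
      pullback.fst f f p ∈ Y ∧ pullback.snd f f p ∈ Y ∧
        p ∉ Set.range (pullback.diagonal f)}))ᶜ, isClosed_closure.isOpen_compl,
      ⟨η, hη1, hη.mem⟩, ?_, ?_⟩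
  · intro x hx x' hx' hxx'
    obtain ⟨p, hp1, hp2⟩ := Scheme.Pullback.exists_preimage_pullback (f := f) (g := f) x x' hxx'
    obtain ⟨u, hu⟩ := hkey x hx p hp1 (by rw [hp2]; exact hx'.2)
    have h1 := (hdiag u).1
    have h2 := (hdiag u).2
    rw [hu, hp1] at h1
    rw [hu, hp2] at h2
    rw [h1, h2]
  · intro x hx
    exact isPurelyInseparable_of_forall_mem_range f x
      (fun z hz1 hz2 => hkey x hx z hz1 (by rw [hz2]; exact hx.2))

end Groth.Agent.S14483
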