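import Groth.Statements.S14484
import Groth.Agent.S19416
import Groth.Agent.Lib.Helper4VarDim9
import Groth.Agent.Lib.Helper4VarDim7
import Groth.Agent.Lib.Helper4FibDimK
open Groth.Agent.Lib.Helper4.VarDim Groth.Agent.Lib.Helper4.FibDim

set_option autoImplicit false
universe u
open CategoryTheory CategoryTheory.Limits AlgebraicGeometry
open CharCyc

namespace Groth.Agent.S14484

/-- Let k be a field and let f : X → S be a morphism between separated k-schemes of finite type. Two
closed subsets Y, Z of X are said to well intersect with respect to f when dim(Y ×_S Z ∖ Y ×_X Z) ≤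
dim Y + dim Z − dim S; here Y ×_S Z ∖ Y ×_X Z is taken as the subspace of X ×_S X of points whose
two projections lie in Y and in Z and which are not in the image of the diagonal, and the inequality
is written additively as dim(Y ×_S Z ∖ Y ×_X Z) + dim S ≤ dim Y + dim Z (topological Krull
dimensions, the empty space having dimension ⊥). Let Y, Z ⊆ X be closed irreducible subsets that
well intersect with respect to f, with dim Y < dim S and dim Z < dim S, and assume Y ⊄ Z. Then f(Y)
is not contained in the closure of f(Y) ∩ f(Z); in particular f(Y) ⊄ f(Z). -/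
theorem result (k : Type u) [Field k] (X S : Scheme.{u})
    (q : S ⟶ Spec (CommRingCat.of k)) (f : X ⟶ S)
    [LocallyOfFiniteType q] [CompactSpace S] [IsSeparated q] [LocallyOfFiniteType f] [CompactSpace X] [IsSeparated f]
    (Y Z : Set X) (hYc : IsClosed Y) (hYi : IsIrreducible Y) (hZc : IsClosed Z) (hZi : IsIrreducible Z)
    (hWI : topologicalKrullDim {p : ↥(pullback f f) | pullback.fst f f p ∈ Y ∧ pullback.snd f f p ∈ Z ∧ p ∉ Set.range (pullback.diagonal f)} + topologicalKrullDim S ≤ topologicalKrullDim Y + topologicalKrullDim Z)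
    (hYS : topologicalKrullDim Y < topologicalKrullDim S) (hZS : topologicalKrullDim Z < topologicalKrullDim S)
    (hYZ : ¬ Y ⊆ Z) :
    ¬ (f.base '' Y ⊆ closure (f.base '' Y ∩ f.base '' Z)) ∧ ¬ (f.base '' Y ⊆ f.base '' Z) := by
  classical
  have key : ¬ (f.base '' Y ⊆ closure (f.base '' Y ∩ f.base '' Z)) := by
    intro hsub
    letI ovS : S.Over (Spec (CommRingCat.of k)) := ⟨q⟩
    letI ovX : X.Over (Spec (CommRingCat.of k)) := ⟨f ≫ q⟩
    letI ovP : (pullback f f).Over (Spec (CommRingCat.of k)) := ⟨pullback.fst f f ≫ f ≫ q⟩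
    haveI : LocallyOfFiniteType (S ↘ Spec (CommRingCat.of k)) := ‹LocallyOfFiniteType q›
    haveI : LocallyOfFiniteType (X ↘ Spec (CommRingCat.of k)) :=
      (inferInstance : LocallyOfFiniteType (f ≫ q))
    haveI : LocallyOfFiniteType ((pullback f f) ↘ Spec (CommRingCat.of k)) :=
      (inferInstance : LocallyOfFiniteType (pullback.fst f f ≫ f ≫ q))
    haveI : QuasiSeparatedSpace S := quasiSeparatedSpace_of_quasiSeparated q
    haveI : QuasiCompact f := inferInstance
    haveI : CompactSpace ↥(pullback f f) := inferInstance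
    haveI : IsLocallyNoetherian (pullback f f) :=
      LocallyOfFiniteType.isLocallyNoetherian (pullback.fst f f ≫ f ≫ q)
    haveI : IsNoetherian (pullback f f) := {}
    haveI : TopologicalSpace.NoetherianSpace ↥(pullback f f) := inferInstance
    obtain ⟨ηY, hηY⟩ := QuasiSober.sober hYi hYc
    obtain ⟨ηZ, hηZ⟩ := QuasiSober.sober hZi hZc
    have dY := Groth.Agent.S19416.dim_eq_trdegNat_of_isGenericPoint k X Y hYc ηY hηY
    have dZ := Groth.Agent.S19416.dim_eq_trdegNat_of_isGenericPoint k X Z hZc ηZ hηZ
    haveI : Nonempty S := ⟨f ηY⟩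
    obtain ⟨σ, -, dS⟩ := exists_trdegNat_eq_topologicalKrullDim k S
    have hηYZ : ηY ∉ Z := fun h => hYZ (by
      rw [← hηY.def]
      exact closure_minimal (Set.singleton_subset_iff.mpr h) hZc)
    -- the closed set G and the map g
    have hG : IsClosed {p : ↥(pullback f f) | pullback.fst f f p ∈ Y ∧ pullback.snd f f p ∈ Z} :=
      (hYc.preimage (pullback.fst f f).continuous).inter
        (hZc.preimage (pullback.snd f f).continuous)
    have hg : Continuous (fun p : ↥(pullback f f) => f (pullback.fst f f p)) :=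
      f.continuous.comp (pullback.fst f f).continuous
    have hcond : ∀ p : ↥(pullback f f), f (pullback.snd f f p) = f (pullback.fst f f p) := by
      intro p
      rw [← Scheme.Hom.comp_apply, ← Scheme.Hom.comp_apply, pullback.condition]
    have hsub2 : f.base '' Y ∩ f.base '' Z ⊆
        (fun p : ↥(pullback f f) => f (pullback.fst f f p)) ''
          {p : ↥(pullback f f) | pullback.fst f f p ∈ Y ∧ pullback.snd f f p ∈ Z} := by
      rintro s ⟨⟨y, hy, rfl⟩, ⟨z, hz, hzy⟩⟩
      obtain ⟨p, hp1, hp2⟩ := Scheme.Pullback.exists_preimage_pullback (f := f) (g := f) y z hzy.symm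
      refine ⟨p, ⟨?_, ?_⟩, ?_⟩
      · show pullback.fst f f p ∈ Y
        rw [hp1]; exact hy
      · show pullback.snd f f p ∈ Z
        rw [hp2]; exact hz
      · show f (pullback.fst f f p) = f y
        rw [hp1]
    have hfη : f ηY ∈ closure ((fun p : ↥(pullback f f) => f (pullback.fst f f p)) ''
          {p : ↥(pullback f f) | pullback.fst f f p ∈ Y ∧ pullback.snd f f p ∈ Z}) :=
      closure_mono hsub2 (hsub ⟨ηY, hηY.mem, rfl⟩)
    obtain ⟨p, hpG, hpspec⟩ := exists_specializes_of_mem_closure_image _ hg _ hG (f ηY) hfη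
    have hpY : pullback.fst f f p ∈ Y := hpG.1
    have hpZ : pullback.snd f f p ∈ Z := hpG.2
    have hrev : f ηY ⤳ f (pullback.fst f f p) := (hηY.specializes hpY).map f.continuous
    have hgp : f (pullback.fst f f p) = f ηY := (hpspec.antisymm hrev).eq
    have hz : f ηY = f (pullback.snd f f p) := by rw [hcond p, hgp]
    obtain ⟨p', hp'1, hp'2⟩ :=
      Scheme.Pullback.exists_preimage_pullback (f := f) (g := f) ηY (pullback.snd f f p) hz
    have hp'Δ : p' ∉ Set.range (pullback.diagonal f) := by
      rintro ⟨x, hx⟩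
      have h1 : pullback.fst f f (pullback.diagonal f x) = x := by
        rw [← Scheme.Hom.comp_apply, pullback.diagonal_fst]; rfl
      have h2 : pullback.snd f f (pullback.diagonal f x) = x := by
        rw [← Scheme.Hom.comp_apply, pullback.diagonal_snd]; rfl
      rw [hx, hp'1] at h1
      rw [hx, hp'2] at h2
      apply hηYZ
      rw [h1, ← h2]
      exact hpZ
    have hΔ : IsClosed (Set.range (pullback.diagonal f)) :=
      (pullback.diagonal f).isClosedEmbedding.isClosed_range
    have hE : IsLocallyClosed {p : ↥(pullback f f) | pullback.fst f f p ∈ Y ∧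
        pullback.snd f f p ∈ Z ∧ p ∉ Set.range (pullback.diagonal f)} := by
      have : {p : ↥(pullback f f) | pullback.fst f f p ∈ Y ∧
          pullback.snd f f p ∈ Z ∧ p ∉ Set.range (pullback.diagonal f)} =
          {p : ↥(pullback f f) | pullback.fst f f p ∈ Y ∧ pullback.snd f f p ∈ Z} ∩
            (Set.range (pullback.diagonal f))ᶜ :=
        Set.ext fun p => ⟨fun h => ⟨⟨h.1, h.2.1⟩, h.2.2⟩, fun h => ⟨h.1.1, h.1.2, h.2⟩⟩
      rw [this]
      exact hG.isLocallyClosed.inter hΔ.isOpen_compl.isLocallyClosed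
    have hp'E : p' ∈ {p : ↥(pullback f f) | pullback.fst f f p ∈ Y ∧
        pullback.snd f f p ∈ Z ∧ p ∉ Set.range (pullback.diagonal f)} := by
      refine ⟨?_, ?_, hp'Δ⟩
      · rw [hp'1]; exact hηY.mem
      · rw [hp'2]; exact hpZ
    have hdimE := trdegNat_le_topologicalKrullDim_of_isLocallyClosed k (pullback f f) _ hE p' hp'E
    have hle : trdegNat k X (pullback.fst f f p') ≤ trdegNat k (pullback f f) p' :=
      trdegNat_le_of_hom k (pullback.fst f f) rfl p'
    rw [hp'1] at hle
    rw [dY, dZ, dS] at hWI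
    rw [dZ, dS] at hZS
    have h1 : ((trdegNat k X ηY : ℕ) : WithBot ℕ∞) + ((trdegNat k S σ : ℕ) : WithBot ℕ∞) ≤
        ((trdegNat k X ηY : ℕ) : WithBot ℕ∞) + ((trdegNat k X ηZ : ℕ) : WithBot ℕ∞) :=
      le_trans (add_le_add (le_trans (by exact_mod_cast hle) hdimE) le_rfl) hWI
    have h2 : trdegNat k X ηY + trdegNat k S σ ≤ trdegNat k X ηY + trdegNat k X ηZ := by
      exact_mod_cast h1
    have h3 : trdegNat k X ηZ < trdegNat k S σ := by exact_mod_cast hZS
    omega
  exact ⟨key, fun h2 => key (fun s hs => subset_closure ⟨hs, h2 hs⟩)⟩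

end Groth.Agent.S14484
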