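import Groth.Statements.S14485
import Groth.Agent.Lib.Helper2ConstFibDim
open Groth.Agent.Lib.Helper2.ConstFibDim Groth.Agent.Lib.Helper4.VarDim

set_option autoImplicit false
universe u
open CategoryTheory CategoryTheory.Limits AlgebraicGeometry
open CharCyc

namespace Groth.Agent.S14485

/-- Let k be a field and let f : X → S be a morphism between separated k-schemes of finite type. Two
closed subsets Y, Z of X are said to well intersect with respect to f when dim(Y ×_S Z ∖ Y ×_X Z) ≤
dim Y + dim Z − dim S; here Y ×_S Z ∖ Y ×_X Z is taken as the subspace of X ×_S X of points whose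
two projections lie in Y and in Z and which are not in the image of the diagonal, and the inequality
is written additively as dim(Y ×_S Z ∖ Y ×_X Z) + dim S ≤ dim Y + dim Z (topological Krull
dimensions, the empty space having dimension ⊥). Let Y, Z ⊆ X be closed subsets, and let g : S' → S
be faithfully flat with every fibre of dimension d (relative constant dimension d), where S' is
again a separated k-scheme of finite type. Write f' : X' = X ×_S S' → S' for the base change and Y',
Z' ⊆ X' for the preimages of Y, Z. Then well-intersection of Y, Z with respect to f is equivalent to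
well-intersection of Y', Z' with respect to f'. -/
theorem result (k : Type u) [Field k] (X S S' : Scheme.{u})
    (q : S ⟶ Spec (CommRingCat.of k)) (f : X ⟶ S) (g : S' ⟶ S)
    [LocallyOfFiniteType q] [CompactSpace S] [IsSeparated q] [LocallyOfFiniteType f] [CompactSpace X] [IsSeparated f]
    [LocallyOfFiniteType g] [CompactSpace S'] [IsSeparated g] [Flat g] [Surjective g]
    (d : ℕ) (hd : ∀ s : S, topologicalKrullDim (g.fiber s) = d)
    (Y Z : Set X) (hYc : IsClosed Y) (hZc : IsClosed Z) :
    (topologicalKrullDim {p : ↥(pullback f f) | pullback.fst f f p ∈ Y ∧ pullback.snd f f p ∈ Z ∧ p ∉ Set.range (pullback.diagonal f)} + topologicalKrullDim S ≤ topologicalKrullDim Y + topologicalKrullDim Z) ↔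
      (topologicalKrullDim {p : ↥(pullback (pullback.snd f g) (pullback.snd f g)) | pullback.fst (pullback.snd f g) (pullback.snd f g) p ∈ ((pullback.fst f g) ⁻¹' Y) ∧ pullback.snd (pullback.snd f g) (pullback.snd f g) p ∈ ((pullback.fst f g) ⁻¹' Z) ∧ p ∉ Set.range (pullback.diagonal (pullback.snd f g))} + topologicalKrullDim S' ≤ topologicalKrullDim ((pullback.fst f g) ⁻¹' Y) + topologicalKrullDim ((pullback.fst f g) ⁻¹' Z)) := by
  classical
  have hΔ : IsClosed (Set.range (pullback.diagonal f)) :=
    (pullback.diagonal f).isClosedEmbedding.isClosed_range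
  have hG : IsClosed {p : ↥(pullback f f) | pullback.fst f f p ∈ Y ∧ pullback.snd f f p ∈ Z} :=
    (hYc.preimage (pullback.fst f f).continuous).inter
      (hZc.preimage (pullback.snd f f).continuous)
  have hE : IsLocallyClosed {p : ↥(pullback f f) | pullback.fst f f p ∈ Y ∧
      pullback.snd f f p ∈ Z ∧ p ∉ Set.range (pullback.diagonal f)} := by
    have : {p : ↥(pullback f f) | pullback.fst f f p ∈ Y ∧
        pullback.snd f f p ∈ Z ∧ p ∉ Set.range (pullback.diagonal f)} =
        {p : ↥(pullback f f) | pullback.fst f f p ∈ Y ∧ pullback.snd f f p ∈ Z} ∩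
          (Set.range (pullback.diagonal f))ᶜ :=
      Set.ext fun p => ⟨fun h => ⟨⟨h.1, h.2.1⟩, h.2.2⟩, fun h => ⟨h.1.1, h.1.2, h.2⟩⟩
    rw [this]
    exact hG.isLocallyClosed.inter hΔ.isOpen_compl.isLocallyClosed
  have dE := topologicalKrullDim_preimage_eq_add_of_isPullback k q g d hd (pullback.fst f f ≫ f)
    (pullback.fst (pullback.snd f g) (pullback.snd f g) ≫ pullback.snd f g)
    (pullback.map (pullback.snd f g) (pullback.snd f g) f f (pullback.fst f g) (pullback.fst f g) g
      pullback.condition.symm pullback.condition.symm)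
    (isPullback_map_base f g).flip _ hE
  rw [preimage_offDiag_eq f g Y Z] at dE
  have dY := topologicalKrullDim_preimage_eq_add_of_isPullback k q g d hd f (pullback.snd f g)
    (pullback.fst f g) (IsPullback.of_hasPullback f g).flip Y hYc.isLocallyClosed
  have dZ := topologicalKrullDim_preimage_eq_add_of_isPullback k q g d hd f (pullback.snd f g)
    (pullback.fst f g) (IsPullback.of_hasPullback f g).flip Z hZc.isLocallyClosed
  have dS : topologicalKrullDim S' = topologicalKrullDim S + d := by
    have := topologicalKrullDim_preimage_eq_add_of_isPullback k q g d hd (𝟙 S) (𝟙 S') g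
      (IsPullback.id_horiz g) Set.univ isOpen_univ.isLocallyClosed
    rwa [Set.preimage_univ, topologicalKrullDim_univ_eq, topologicalKrullDim_univ_eq] at this
  rw [dE, dY, dZ, dS]
  rw [add_add_add_comm _ (d : WithBot ℕ∞) _ (d : WithBot ℕ∞),
    add_add_add_comm (topologicalKrullDim ↥Y) (d : WithBot ℕ∞) _ (d : WithBot ℕ∞)]
  have h2 : ((d : WithBot ℕ∞) + (d : WithBot ℕ∞)) = ((d + d : ℕ) : WithBot ℕ∞) := by
    push_cast; rfl
  rw [h2]
  exact ENat.WithBot.add_le_add_natCast_right_iff.symm

end Groth.Agent.S14485
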