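import Groth.Statements.S14493
import Groth.Agent.Lib.Helper19IndCofG

set_option autoImplicit false
universe v
open IndCof

namespace Groth.Agent.S14493

open CategoryTheory CategoryTheory.Limits in
/-- Let C be a small abelian category all of whose objects are Artinian and killed by some power of a
prime p. The ind-objects of cofinite type (those A in Ind C with every p^n-torsion sub-object A[p^n]
isomorphic to an object of C) form an abelian subcategory of Ind C: for a morphism f : A ⟶ B between
ind-objects of cofinite type, the kernel and the cokernel of f in Ind C are of cofinite type. -/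
theorem result {C : Type v} [SmallCategory C] [Abelian C]
    (hart : ∀ X : C, IsArtinianObject X) (p : ℕ) (hp : p.Prime)
    (htor : ∀ X : C, ∃ n : ℕ, (p ^ n) • 𝟙 X = 0)
    (A B : Ind C) (hA : ∀ n : ℕ, (Ind.yoneda (C := C)).essImage (kernel ((p ^ n) • 𝟙 A))) (hB : ∀ n : ℕ, (Ind.yoneda (C := C)).essImage (kernel ((p ^ n) • 𝟙 B))) (f : A ⟶ B) :
    (∀ n : ℕ, (Ind.yoneda (C := C)).essImage (kernel ((p ^ n) • 𝟙 (kernel f)))) ∧
      (∀ n : ℕ, (Ind.yoneda (C := C)).essImage (kernel ((p ^ n) • 𝟙 (cokernel f)))) := by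
  open Groth.Agent.Lib.Helper19.IndCof in
  have h := essImage_tor_kernel_cokernel (C := C) (fun m => ∃ n : ℕ, m = p ^ n)
    (fun A' hA' m hm => by
      obtain ⟨n, rfl⟩ := hm
      exact essImage_cokernel_pow hart p htor A' (fun k => hA' _ ⟨k, rfl⟩) n)
    f (fun m hm => by obtain ⟨n, rfl⟩ := hm; exact hA n)
    (fun m hm => by obtain ⟨n, rfl⟩ := hm; exact hB n)
  exact ⟨fun n => h.1 _ ⟨n, rfl⟩, fun n => h.2 _ ⟨n, rfl⟩⟩

end Groth.Agent.S14493
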