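import Groth.Statements.S14498
import Mathlib
-- import your own Groth.Agent.* helpers here

set_option autoImplicit false
set_option linter.style.haveILetI false
set_option linter.unusedSectionVars false
universe v u
open AbDiag

namespace Groth.Agent.S14498
open CategoryTheory CategoryTheory.Limits


open CategoryTheory CategoryTheory.Limits in
/-- In an abelian category, let 0 → F → W → E' → 0 (maps a, b) and 0 → E → W → F' → G → G' → 0 (maps c,
d, e, g) be exact sequences such that the composite F → W → F' is a monomorphism. Then the composite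
E → W → E' is a monomorphism, and there is a short exact sequence 0 → Coker(E → E') → Coker(F → F')
→ Ker(G → G') → 0 whose first map is induced by d (through the quotient map b) and whose second map
is induced by e. -/
theorem result
    {V : Type u} [Category.{v} V] [Abelian V] {F W E' E F' G G' : V}
    (a : F ⟶ W) (b : W ⟶ E') (c : E ⟶ W) (d : W ⟶ F') (e : F' ⟶ G) (g : G ⟶ G')
    [Mono a] [Epi b] (wab : a ≫ b = 0) (hab : (ShortComplex.mk a b wab).Exact)
    [Mono c] (wcd : c ≫ d = 0) (hcd : (ShortComplex.mk c d wcd).Exact)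
    (wde : d ≫ e = 0) (hde : (ShortComplex.mk d e wde).Exact)
    (weg : e ≫ g = 0) (heg : (ShortComplex.mk e g weg).Exact) [Epi g]
    (hmono : Mono (a ≫ d)) :
    Mono (c ≫ b) ∧
      ∃ (φ : cokernel (c ≫ b) ⟶ cokernel (a ≫ d)) (ψ : cokernel (a ≫ d) ⟶ kernel g)
        (w : φ ≫ ψ = 0),
        b ≫ cokernel.π (c ≫ b) ≫ φ = d ≫ cokernel.π (a ≫ d) ∧
        cokernel.π (a ≫ d) ≫ ψ ≫ kernel.ι g = e ∧
        (ShortComplex.mk φ ψ w).ShortExact := by
  have hmono_cb : Mono (c ≫ b) := by
    rw [Preadditive.mono_iff_cancel_zero]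
    intro P x hx
    have hx' : (x ≫ c) ≫ b = 0 := by simpa using hx
    have hy := hab.lift_f (x ≫ c) hx'
    set y := hab.lift (x ≫ c) hx' with hydef
    dsimp at hy
    have hy0 : y ≫ (a ≫ d) = 0 := by
      rw [← Category.assoc, hy, Category.assoc, wcd, comp_zero]
    have : y = 0 := (Preadditive.mono_iff_cancel_zero (a ≫ d)).1 hmono _ y hy0
    rw [this, zero_comp] at hy
    exact (Preadditive.mono_iff_cancel_zero c).1 inferInstance _ x hy.symm
  refine ⟨hmono_cb, ?_⟩
  -- β : E' ⟶ coker (a ≫ d)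
  have hβ0 : a ≫ (d ≫ cokernel.π (a ≫ d)) = 0 := by
    rw [← Category.assoc, cokernel.condition]
  let β : E' ⟶ cokernel (a ≫ d) := hab.desc (d ≫ cokernel.π (a ≫ d)) hβ0
  have hβ : b ≫ β = d ≫ cokernel.π (a ≫ d) := hab.g_desc _ hβ0
  have hβ1 : (c ≫ b) ≫ β = 0 := by
    rw [Category.assoc, hβ, ← Category.assoc, wcd, zero_comp]
  let φ : cokernel (c ≫ b) ⟶ cokernel (a ≫ d) := cokernel.desc (c ≫ b) β hβ1
  have hφ : cokernel.π (c ≫ b) ≫ φ = β := cokernel.π_desc _ _ _
  have hl0 : (a ≫ d) ≫ kernel.lift g e weg = 0 := by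
    rw [← cancel_mono (kernel.ι g), Category.assoc, kernel.lift_ι, Category.assoc, wde, comp_zero,
      zero_comp]
  let ψ : cokernel (a ≫ d) ⟶ kernel g := cokernel.desc (a ≫ d) (kernel.lift g e weg) hl0
  have hψ : cokernel.π (a ≫ d) ≫ ψ = kernel.lift g e weg := cokernel.π_desc _ _ _
  have h1 : b ≫ cokernel.π (c ≫ b) ≫ φ = d ≫ cokernel.π (a ≫ d) := by rw [hφ, hβ]
  have h2 : cokernel.π (a ≫ d) ≫ ψ ≫ kernel.ι g = e := by
    rw [← Category.assoc, hψ, kernel.lift_ι]
  have w : φ ≫ ψ = 0 := by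
    rw [← cancel_epi (cokernel.π (c ≫ b)), ← cancel_epi b, ← cancel_mono (kernel.ι g)]
    simp only [Category.assoc, comp_zero, zero_comp]
    rw [← Category.assoc b, ← Category.assoc (b ≫ _), Category.assoc b, h1, Category.assoc, h2, wde]
  refine ⟨φ, ψ, w, h1, h2, ?_⟩
  have hepiψ : Epi ψ := by
    have : Epi (kernel.lift g e weg) :=
      (ShortComplex.exact_iff_epi_kernel_lift (ShortComplex.mk e g weg)).1 heg
    have h3 : Epi (cokernel.π (a ≫ d) ≫ ψ) := by rw [hψ]; exact this
    exact epi_of_epi (cokernel.π (a ≫ d)) ψ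
  have hcok : (ShortComplex.mk (a ≫ d) (cokernel.π (a ≫ d)) (cokernel.condition _)).Exact :=
    ShortComplex.exact_cokernel (a ≫ d)
  have hmonoφ : Mono φ := by
    rw [Preadditive.mono_iff_cancel_zero]
    intro P x hx
    obtain ⟨A1, π1, hπ1, w1, hw1⟩ :=
      surjective_up_to_refinements_of_epi (b ≫ cokernel.π (c ≫ b)) x
    have hw1d : (w1 ≫ d) ≫ cokernel.π (a ≫ d) = 0 := by
      rw [Category.assoc, ← h1, ← Category.assoc, ← Category.assoc, Category.assoc w1, ← hw1,
        Category.assoc, hx, comp_zero]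
    obtain ⟨A2, π2, hπ2, f2, hf2⟩ := hcok.exact_up_to_refinements (w1 ≫ d) hw1d
    dsimp at f2 hf2
    have h3 : (π2 ≫ w1 - f2 ≫ a) ≫ d = 0 := by
      rw [Preadditive.sub_comp, Category.assoc, Category.assoc, hf2, sub_self]
    obtain ⟨A3, π3, hπ3, e3, he3⟩ := hcd.exact_up_to_refinements _ h3
    dsimp at e3 he3
    have h4 : π3 ≫ π2 ≫ π1 ≫ x = 0 := by
      rw [hw1, ← Category.assoc π2, ← Category.assoc π3]
      have : π3 ≫ π2 ≫ w1 = e3 ≫ c + π3 ≫ f2 ≫ a := by
        rw [← he3, Preadditive.comp_sub, sub_add_cancel]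
      rw [this, Preadditive.add_comp, Category.assoc, Category.assoc, Category.assoc,
        ← Category.assoc c, cokernel.condition, comp_zero, zero_add, ← Category.assoc a, wab,
        zero_comp, comp_zero, comp_zero]
    rw [← cancel_epi π1, ← cancel_epi π2, ← cancel_epi π3, h4, comp_zero, comp_zero, comp_zero]
  have hex : (ShortComplex.mk φ ψ w).Exact := by
    rw [ShortComplex.exact_iff_exact_up_to_refinements]
    intro P x hx
    dsimp at x hx
    obtain ⟨A1, π1, hπ1, y1, hy1⟩ := surjective_up_to_refinements_of_epi (cokernel.π (a ≫ d)) x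
    have hy1e : y1 ≫ e = 0 := by
      rw [← h2, ← Category.assoc, ← hy1, Category.assoc, ← Category.assoc x, hx, zero_comp,
        comp_zero]
    obtain ⟨A2, π2, hπ2, w2, hw2⟩ := hde.exact_up_to_refinements y1 hy1e
    dsimp at w2 hw2
    refine ⟨A2, π2 ≫ π1, inferInstance, w2 ≫ b ≫ cokernel.π (c ≫ b), ?_⟩
    dsimp
    rw [Category.assoc, Category.assoc, Category.assoc, h1, hy1, ← Category.assoc, hw2,
      Category.assoc]
  exact ShortComplex.ShortExact.mk' hex hmonoφ hepiψ

end Groth.Agent.S14498
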