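import Groth.Statements.S14503
import Mathlib
import Groth.Agent.Lib.Helper5DetLattice

set_option autoImplicit false
universe u
open IntTh

namespace Groth.Agent.S14503

/-- Let A ⊆ B be a module-finite extension of domains with A Noetherian local of Krull dimension one, K
⊆ L their fraction fields, and r ∈ B nonzero. Then B/rB has finite length as an A-module and
length_A(B/rB) equals the order at the closed point of A of the norm N_{L/K}(r), i.e.
length_A(A/(a)) − length_A(A/(b)) for N_{L/K}(r) = a/b. -/
theorem result (A : Type u) [CommRing A] [IsDomain A]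
    [IsNoetherianRing A] [IsLocalRing A] (hA : ringKrullDim A = 1) (B : Type u) [CommRing B]
    [IsDomain B] [Algebra A B] (hinj : Function.Injective (algebraMap A B)) [Module.Finite A B]
    (K L : Type u) [Field K] [Field L] [Algebra A K] [IsFractionRing A K] [Algebra B L]
    [IsFractionRing B L] [Algebra K L] [Algebra A L] [IsScalarTower A B L] [IsScalarTower A K L]
    [FiniteDimensional K L] (r : B) (hr : r ≠ 0) :
    Module.length A (B ⧸ Ideal.span {r}) < ⊤ ∧
      ((Module.length A (B ⧸ Ideal.span {r})).toNat : ℤ) =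
        CycAlg.ordFrac A K (Algebra.norm K (algebraMap B L r)) := by
  classical
  have hBL : Function.Injective (algebraMap B L) := IsFractionRing.injective B L
  have hAK : Function.Injective (algebraMap A K) := IsFractionRing.injective A K
  obtain ⟨ι, hι⟩ : ∃ f : B →ₗ[A] L, f = (IsScalarTower.toAlgHom A B L).toLinearMap := ⟨_, rfl⟩
  have hι_apply : ∀ x, ι x = algebraMap B L x := fun x => by rw [hι]; rfl
  have hι_inj : Function.Injective ι := fun x y h => hBL (by rw [← hι_apply, ← hι_apply, h])
  obtain ⟨M, hMdef⟩ : ∃ M : Submodule A L, M = LinearMap.range ι := ⟨_, rfl⟩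
  have hMlat : Submodule.IsLattice K M := by
    refine ⟨?_, ?_⟩
    · rw [hMdef, LinearMap.range_eq_map]
      exact (Module.Finite.fg_top).map ι
    · rw [eq_top_iff]
      intro y _
      obtain ⟨b, s, hs, rfl⟩ := IsFractionRing.div_surjective (A := B) y
      have halg : IsAlgebraic A s := (Algebra.IsIntegral.isIntegral (R := A) s).isAlgebraic
      obtain ⟨a, ha, t, hat⟩ := halg.exists_nonzero_dvd hs
      have haK : algebraMap A K a ≠ 0 := (map_ne_zero_iff _ hAK).mpr ha
      have hsL : algebraMap B L s ≠ 0 := (map_ne_zero_iff _ hBL).mpr (nonZeroDivisors.ne_zero hs)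
      have haL : algebraMap B L (algebraMap A B a) ≠ 0 := by
        rw [← IsScalarTower.algebraMap_apply A B L, IsScalarTower.algebraMap_apply A K L]
        exact (map_ne_zero_iff _ (algebraMap K L).injective).mpr haK
      have htL : algebraMap B L t ≠ 0 := by
        intro h0
        apply haL
        rw [hat, map_mul, h0, mul_zero]
      have heq : algebraMap B L b / algebraMap B L s = (algebraMap A K a)⁻¹ • ι (b * t) := by
        rw [hι_apply, Algebra.smul_def, map_inv₀, ← IsScalarTower.algebraMap_apply A K L,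
          IsScalarTower.algebraMap_apply A B L, hat, map_mul, map_mul]
        field_simp
      rw [heq]
      refine Submodule.smul_mem _ _ (Submodule.subset_span ?_)
      rw [hMdef]
      exact ⟨b * t, rfl⟩
  have hρ : algebraMap B L r ≠ 0 := (map_ne_zero_iff _ hBL).mpr hr
  obtain ⟨φ, hφ⟩ : ∃ φ : L ≃ₗ[K] L, φ.toLinearMap = Algebra.lmul K L (algebraMap B L r) := by
    refine ⟨LinearEquiv.ofLinear (Algebra.lmul K L (algebraMap B L r))
      (Algebra.lmul K L (algebraMap B L r)⁻¹) ?_ ?_, rfl⟩
    · ext x
      simp [mul_inv_cancel_left₀ hρ]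
    · ext x
      simp [inv_mul_cancel_left₀ hρ]
  have hφ_apply : ∀ x, φ x = algebraMap B L r * x := by
    intro x
    have h1 : φ x = φ.toLinearMap x := rfl
    rw [h1, hφ]
    rfl
  obtain ⟨f1, f2, heq⟩ := Groth.Agent.Lib.Helper5.DetLattice.main A K (le_of_eq hA) M φ
  obtain ⟨M', hM'⟩ : ∃ M' : Submodule A L, M' = M.map (φ.toLinearMap.restrictScalars A) :=
    ⟨_, rfl⟩
  rw [← hM'] at f1 f2 heq
  have hM'eq : M' = ((Ideal.span {r} : Ideal B).restrictScalars A).map ι := by
    rw [hM', hMdef]
    ext y
    constructor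
    · rintro ⟨_, ⟨b, rfl⟩, rfl⟩
      refine ⟨r * b, ?_, ?_⟩
      · exact Ideal.mul_mem_right _ _ (Ideal.subset_span rfl)
      · change ι (r * b) = φ (ι b)
        rw [hφ_apply, hι_apply, hι_apply, map_mul]
    · rintro ⟨x, hx, rfl⟩
      have hx' : x ∈ Ideal.span {r} := hx
      obtain ⟨b, rfl⟩ := Ideal.mem_span_singleton'.mp hx'
      refine ⟨ι b, ⟨b, rfl⟩, ?_⟩
      change φ (ι b) = ι (b * r)
      rw [hφ_apply, hι_apply, hι_apply, map_mul, mul_comm]
  have hle : M' ≤ M := by
    rw [hM'eq, hMdef]
    exact LinearMap.map_le_range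
  have e1 : Module.length A (↥M ⧸ (M ⊓ M').submoduleOf M) =
      Module.length A (B ⧸ Ideal.span {r}) := by
    rw [inf_eq_right.mpr hle, hM'eq, hMdef,
      Groth.Agent.Lib.Helper5.DetLattice.length_range_quot ι hι_inj]
    exact (Submodule.Quotient.restrictScalarsEquiv A (Ideal.span {r} : Ideal B)).length_eq
  have e2 : Module.length A (↥M' ⧸ (M ⊓ M').submoduleOf M') = 0 := by
    rw [inf_eq_right.mpr hle, Submodule.submoduleOf_self, Module.length_eq_zero_iff]
    infer_instance
  rw [e1] at f1 heq
  rw [e2] at heq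
  refine ⟨f1, ?_⟩
  rw [Algebra.norm_apply, ← hφ, ← heq]
  simp

end Groth.Agent.S14503
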