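import Groth.Statements.S14511
import Mathlib

set_option autoImplicit false
universe u
open CAlgX

namespace Groth.Agent.S14511

/-- Let R be a commutative ring and P ∈ R[x_1, …, x_r] a polynomial of total degree at most r. Then the
coefficient of the monomial x_1 ⋯ x_r in P equals Σ_J (−1)^{|J|} P(δ_J), the sum over all subsets J
⊆ {1, …, r} (the empty one included), where δ_J is the point with coordinate −1 at the indices in J
and 0 at the others. -/
theorem result (R : Type u) [CommRing R] (r : ℕ)
    (P : MvPolynomial (Fin r) R) (hP : P.totalDegree ≤ r) :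
    MvPolynomial.coeff (∑ i : Fin r, Finsupp.single i 1) P =
      ∑ J : Finset (Fin r), (-1 : R) ^ J.card * MvPolynomial.eval (fun j => if j ∈ J then (-1 : R) else 0) P := by
  classical
  set ones : Fin r →₀ ℕ := ∑ i : Fin r, Finsupp.single i 1 with hones
  have hones_apply : ∀ j, ones j = 1 := by
    intro j; simp [hones, Finsupp.finset_sum_apply, Finsupp.single_apply]
  have hS : ∀ a : Fin r →₀ ℕ, (∑ J : Finset (Fin r), (-1 : R) ^ J.card *
      ∏ j, (if j ∈ J then (-1 : R) else 0) ^ a j) = ∏ j, ((-(-1 : R) ^ a j) + 0 ^ a j) := by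
    intro a
    rw [Finset.prod_add, Finset.powerset_univ]
    refine Finset.sum_congr rfl (fun J _ => ?_)
    rw [← Finset.prod_mul_prod_compl J (fun j => (if j ∈ J then (-1 : R) else 0) ^ a j),
      Finset.prod_neg, ← Finset.compl_eq_univ_sdiff, mul_assoc]
    congr 2
    · refine Finset.prod_congr rfl (fun j hj => ?_)
      rw [if_pos hj]
    · refine Finset.prod_congr rfl (fun j hj => ?_)
      rw [if_neg (Finset.mem_compl.mp hj)]
  have hS0 : ∀ a : Fin r →₀ ℕ, a ∈ P.support → a ≠ ones →
      ∏ j, ((-(-1 : R) ^ a j) + 0 ^ a j) = 0 := by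
    intro a ha hne
    by_cases hz : ∃ j, a j = 0
    · obtain ⟨j, hj⟩ := hz
      refine Finset.prod_eq_zero (Finset.mem_univ j) ?_
      rw [hj]; simp
    · exfalso
      push Not at hz
      apply hne
      have hdeg : ∑ j, a j ≤ r := by
        have h1 := MvPolynomial.le_totalDegree ha
        rw [Finsupp.sum_fintype _ _ (fun _ => rfl)] at h1
        exact h1.trans hP
      have hall : ∀ j, a j = 1 := by
        by_contra hcon
        push Not at hcon
        obtain ⟨j0, hj0⟩ := hcon
        have hlt : ∑ j : Fin r, (1 : ℕ) < ∑ j, a j := by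
          refine Finset.sum_lt_sum (fun j _ => Nat.one_le_iff_ne_zero.mpr (hz j))
            ⟨j0, Finset.mem_univ _, ?_⟩
          have := hz j0
          omega
        simp at hlt
        omega
      ext j
      rw [hall j, hones_apply j]
  have hS1 : ∏ j, ((-(-1 : R) ^ ones j) + 0 ^ ones j) = 1 := by
    refine Finset.prod_eq_one (fun j _ => ?_)
    rw [hones_apply j]; simp
  have hmain : ∑ J : Finset (Fin r), (-1 : R) ^ J.card *
      MvPolynomial.eval (fun j => if j ∈ J then (-1 : R) else 0) P =
      ∑ a ∈ P.support, MvPolynomial.coeff a P * ∏ j, ((-(-1 : R) ^ a j) + 0 ^ a j) := by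
    simp only [MvPolynomial.eval_eq', Finset.mul_sum]
    rw [Finset.sum_comm]
    refine Finset.sum_congr rfl (fun a _ => ?_)
    rw [← hS a, Finset.mul_sum]
    refine Finset.sum_congr rfl (fun J _ => ?_)
    ring
  rw [hmain]
  rw [Finset.sum_eq_single ones]
  · rw [hS1, mul_one]
  · intro a ha hne
    rw [hS0 a ha hne, mul_zero]
  · intro hn
    rw [MvPolynomial.notMem_support_iff.mp hn, zero_mul]

end Groth.Agent.S14511
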