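import Groth.Statements.S14514
import Groth.Agent.Lib.Helper4FibDimJ
open Groth.Agent.Lib.Helper4.VarDim Groth.Agent.Lib.Helper4.FibDim AlgebraicGeometry

set_option autoImplicit false
set_option linter.style.haveILetI false
universe u
open CategoryTheory CategoryTheory.Limits AlgebraicGeometry
open Variety

namespace Groth.Agent.S14514

/-- Let k be an algebraically closed field and f : X → Y a morphism of algebraic varieties over k (X, Y
reduced, separated and of finite type over k) such that Y is irreducible and the image f(X) is dense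
in Y. Then X contains an irreducible closed subset Z with dim Z = dim Y such that f(Z) is dense in
Y. -/
theorem result (k : Type u) [Field k] [IsAlgClosed k]
    (X Y : Scheme.{u}) [X.Over (Spec (CommRingCat.of k))] [Y.Over (Spec (CommRingCat.of k))]
    [IsReduced X] [IsSeparated (X ↘ (Spec (CommRingCat.of k)))] [LocallyOfFiniteType (X ↘ (Spec (CommRingCat.of k)))] [QuasiCompact (X ↘ (Spec (CommRingCat.of k)))]
    [IsReduced Y] [IsSeparated (Y ↘ (Spec (CommRingCat.of k)))] [LocallyOfFiniteType (Y ↘ (Spec (CommRingCat.of k)))] [QuasiCompact (Y ↘ (Spec (CommRingCat.of k)))] [IrreducibleSpace Y]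
    (f : X ⟶ Y) (hf : f ≫ (Y ↘ (Spec (CommRingCat.of k))) = (X ↘ (Spec (CommRingCat.of k)))) [IsDominant f] :
    ∃ Z : Set X, IsClosed Z ∧ IsIrreducible Z ∧ topologicalKrullDim ↥Z = topologicalKrullDim Y ∧
      Dense (f '' Z) := by
  haveI : CompactSpace X := by
    have : CompactSpace (Spec (CommRingCat.of k)) := inferInstance
    exact QuasiCompact.compactSpace_of_compactSpace (X ↘ (Spec (CommRingCat.of k)))
  haveI : IsLocallyNoetherian X :=
    LocallyOfFiniteType.isLocallyNoetherian (X ↘ (Spec (CommRingCat.of k)))
  haveI : IsNoetherian X := {}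
  have hfin : (irreducibleComponents X).Finite := finite_irreducibleComponents_of_isNoetherian
  set η := genericPoint Y with hη
  have hηsp : ∀ y : Y, η ⤳ y := fun y => genericPoint_specializes y
  have hηmax : ∀ y : Y, y ⤳ η → y = η := fun y hy => (hy.antisymm (hηsp y)).eq
  have hmem : η ∈ Set.range f :=
    mem_range_of_denseRange hfin f f.continuous f.denseRange η hηmax
  obtain ⟨x₀, hx₀, htr⟩ := exists_trdegNat_eq_of_mem_range k f hf η hmem
  refine ⟨closure {x₀}, isClosed_closure, isIrreducible_singleton.closure, ?_, ?_⟩
  · rw [topologicalKrullDim_closure_singleton k X x₀, htr,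
      ← topologicalKrullDim_closure_singleton k Y η, genericPoint_closure,
      topologicalKrullDim_univ_eq]
  · rw [dense_iff_closure_eq, ← Set.univ_subset_iff, ← genericPoint_closure (α := Y)]
    apply closure_mono
    rw [Set.singleton_subset_iff]
    exact ⟨x₀, subset_closure rfl, hx₀⟩

end Groth.Agent.S14514
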