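import Groth.Statements.S14515
import Mathlib
import Groth.Agent.Lib.Helper13AusBuchUFD
import Groth.Agent.Lib.Helper2CycOrdSum
import Groth.Agent.Lib.Helper28HBSch
import Groth.Agent.Lib.Helper4VarDim6
import Groth.Agent.Lib.Helper4VarDim5
import Groth.Agent.S7899
-- import your own Groth.Agent.* helpers here

set_option autoImplicit false
set_option linter.style.haveILetI false
set_option linter.unusedSectionVars false
universe u
open CategoryTheory CategoryTheory.Limits AlgebraicGeometry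
open Variety

namespace Groth.Agent.S14515

open Groth.Agent.Lib.Helper2.CycOrdSum in
theorem ringKrullDim_stalk_le_one_core {X Y : Scheme.{u}} [IsIntegral X] [IsIntegral Y]
    [IsLocallyNoetherian X] [IsLocallyNoetherian Y] (f : X ⟶ Y) (ζ : X)
    [UniqueFactorizationMonoid (Y.presheaf.stalk (f ζ))]
    (hinj : Function.Injective (f.stalkMap ζ))
    (hbir : ∀ b : X.presheaf.stalk ζ, ∃ a s : Y.presheaf.stalk (f ζ), s ≠ 0 ∧
      (f.stalkMap ζ) s * b = (f.stalkMap ζ) a)
    (hns : ¬ Function.Surjective (f.stalkMap ζ))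
    (hgen : ∀ x' : X, x' ⤳ ζ → x' ≠ ζ → IsIso (f.stalkMap x')) :
    ringKrullDim (X.presheaf.stalk ζ) ≤ 1 := by
  classical
  letI : GCDMonoid (Y.presheaf.stalk (f ζ)) :=
    UniqueFactorizationMonoid.toGCDMonoid (Y.presheaf.stalk (f ζ))
  set φ : Y.presheaf.stalk (f ζ) →+* X.presheaf.stalk ζ := (f.stalkMap ζ).hom with hφ
  have hφinj : Function.Injective φ := hinj
  rw [Function.Surjective] at hns
  push Not at hns
  obtain ⟨t, ht⟩ := hns
  obtain ⟨a, s, hs, hast⟩ := hbir t
  obtain ⟨g, h, hg, hh, hgh⟩ := extract_gcd a s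
  have hrel : IsRelPrime g h := gcd_isUnit_iff_isRelPrime.1 hgh
  have hd : gcd a s ≠ 0 := by
    intro hd0; apply hs; rw [hh, hd0, zero_mul]
  have hh0 : h ≠ 0 := by
    intro h0; apply hs; rw [hh, h0, mul_zero]
  have key : φ h * t = φ g := by
    have h1 : φ (gcd a s) * (φ h * t) = φ (gcd a s) * φ g := by
      rw [← mul_assoc, ← map_mul, ← hh, ← map_mul, ← hg]
      exact hast
    refine mul_left_cancel₀ (fun h0 => hd (hφinj ?_)) h1
    rw [h0, map_zero]
  have hhu : ¬ IsUnit h := by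
    intro hu
    obtain ⟨u, rfl⟩ := hu
    apply ht ((↑u⁻¹ : Y.presheaf.stalk (f ζ)) * g)
    change φ (↑u⁻¹ * g) = t
    rw [map_mul, ← key, ← mul_assoc, ← map_mul, Units.inv_mul, map_one, one_mul]
  have hφh_mem : φ h ∈ IsLocalRing.maximalIdeal (X.presheaf.stalk ζ) := by
    rw [IsLocalRing.mem_maximalIdeal, mem_nonunits_iff]
    intro hu
    exact hhu (isUnit_of_map_unit φ h hu)
  obtain ⟨q, hqmin, hqle⟩ := Ideal.exists_minimalPrimes_le (I := Ideal.span {φ h})
    (J := IsLocalRing.maximalIdeal (X.presheaf.stalk ζ))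
    ((Ideal.span_singleton_le_iff_mem _).2 hφh_mem)
  haveI hqprime : q.IsPrime := hqmin.1.1
  have hqh : q.height ≤ 1 :=
    Ideal.height_le_one_of_isPrincipal_of_mem_minimalPrimes (Ideal.span {φ h}) q hqmin
  have hφhq : φ h ∈ q := hqmin.1.2 (Ideal.subset_span rfl)
  by_cases hqm : q = IsLocalRing.maximalIdeal (X.presheaf.stalk ζ)
  · rw [← IsLocalRing.maximalIdeal_height_eq_ringKrullDim, ← hqm]
    exact_mod_cast hqh
  · exfalso
    set x' : X := X.fromSpecStalk ζ ⟨q, hqprime⟩ with hx'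
    have hsp : x' ⤳ ζ := by
      have : x' ∈ Set.range (X.fromSpecStalk ζ) := ⟨_, rfl⟩
      rwa [Scheme.range_fromSpecStalk] at this
    have hne : x' ≠ ζ := by
      intro he
      apply hqm
      have h2 : X.fromSpecStalk ζ ⟨q, hqprime⟩ =
          X.fromSpecStalk ζ (IsLocalRing.closedPoint (X.presheaf.stalk ζ)) := by
        rw [Scheme.fromSpecStalk_closedPoint]; exact he
      have h3 := (X.fromSpecStalk ζ).isEmbedding.injective h2
      exact congrArg PrimeSpectrum.asIdeal h3
    haveI := hgen x' hsp hne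
    have hker : RingHom.ker (Cyc.specMap ζ x' hsp) = q := ker_specMap_fromSpecStalk ζ q hsp
    have hdimB' : ringKrullDim (X.presheaf.stalk x') = q.height := by
      letI := (X.presheaf.stalkSpecializes hsp).hom.toAlgebra
      haveI := isLocalization_atPrime_stalkSpecializes ζ x' hsp
      rw [← hker]
      exact IsLocalization.AtPrime.ringKrullDim_eq_height _ _
    have hsp' : f x' ⤳ f ζ := f.base.hom.map_specializes hsp
    set p := RingHom.ker (Cyc.specMap (f ζ) (f x') hsp') with hp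
    haveI : p.IsPrime := RingHom.ker_isPrime _
    have hdimA' : ringKrullDim (Y.presheaf.stalk (f x')) = p.height := by
      letI := (Y.presheaf.stalkSpecializes hsp').hom.toAlgebra
      haveI := isLocalization_atPrime_stalkSpecializes (f ζ) (f x') hsp'
      exact IsLocalization.AtPrime.ringKrullDim_eq_height _ _
    have hdimeq : ringKrullDim (Y.presheaf.stalk (f x')) = ringKrullDim (X.presheaf.stalk x') :=
      ringKrullDim_eq_of_ringEquiv (asIso (f.stalkMap x')).commRingCatIsoToRingEquiv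
    have hph : p.height ≤ 1 := by
      have h1 : (p.height : WithBot ℕ∞) = q.height := by rw [← hdimA', hdimeq, hdimB']
      have h2 : p.height = q.height := by exact_mod_cast h1
      rw [h2]; exact hqh
    have hmem : ∀ c : Y.presheaf.stalk (f ζ), φ c ∈ q → c ∈ p := by
      intro c hc
      rw [← hker, RingHom.mem_ker] at hc
      rw [hp, RingHom.mem_ker]
      have h1 : X.presheaf.stalkSpecializes hsp (φ c) ∈
          IsLocalRing.maximalIdeal (X.presheaf.stalk x') :=
        (IsLocalRing.residue_eq_zero_iff _).1 hc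
      have h2 : (f.stalkMap x') (Y.presheaf.stalkSpecializes hsp' c) =
          X.presheaf.stalkSpecializes hsp (φ c) :=
        Scheme.Hom.stalkSpecializes_stalkMap_apply f x' ζ hsp c
      rw [← h2] at h1
      have h3 : Y.presheaf.stalkSpecializes hsp' c ∈
          IsLocalRing.maximalIdeal (Y.presheaf.stalk (f x')) := by
        rw [IsLocalRing.mem_maximalIdeal, mem_nonunits_iff] at h1 ⊢
        intro hu
        exact h1 (hu.map (f.stalkMap x').hom)
      exact (IsLocalRing.residue_eq_zero_iff _).2 h3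
    have hhp : h ∈ p := hmem h hφhq
    have hgp : g ∈ p := hmem g (by rw [← key]; exact q.mul_mem_right _ hφhq)
    have hpne : p ≠ ⊥ := by
      intro hb
      rw [hb] at hhp
      exact hh0 ((Ideal.mem_bot).1 hhp)
    obtain ⟨π, hπp, hπ⟩ := Ideal.IsPrime.exists_mem_prime_of_ne_bot ‹p.IsPrime› hpne
    haveI : (Ideal.span {π}).IsPrime := (Ideal.span_singleton_prime hπ.ne_zero).2 hπ
    have hle : Ideal.span {π} ≤ p := (Ideal.span_singleton_le_iff_mem _).2 hπp
    have hπh : (1 : ℕ∞) ≤ (Ideal.span {π}).height := by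
      rw [Order.one_le_iff_pos, pos_iff_ne_zero, Ne, Ideal.height_eq_zero_iff_eq_bot,
        Ideal.span_singleton_eq_bot]
      exact hπ.ne_zero
    have heq : Ideal.span {π} = p := Ideal.eq_of_le_of_height_le (Ideal.span {π}) hle (hph.trans hπh)
    have h1 : π ∣ g := Ideal.mem_span_singleton.1 (heq ▸ hgp)
    have h2 : π ∣ h := Ideal.mem_span_singleton.1 (heq ▸ hhp)
    exact hπ.not_isUnit (hrel h1 h2)

open Groth.Agent.Lib.Helper2.CycOrdSum in
theorem stalkSpecializes_injective' {X : Scheme.{u}} [IsIntegral X] {x ξ : X} (h : ξ ⤳ x) :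
    Function.Injective (X.presheaf.stalkSpecializes h) := by
  letI := (X.presheaf.stalkSpecializes h).hom.toAlgebra
  haveI := isLocalization_atPrime_stalkSpecializes x ξ h
  exact IsLocalization.injective (X.presheaf.stalk ξ)
    (M := (RingHom.ker (Cyc.specMap x ξ h)).primeCompl) (Ideal.primeCompl_le_nonZeroDivisors _)

open Groth.Agent.Lib.Helper2.CycOrdSum in
theorem birational_stalk {X Y : Scheme.{u}} [IsIntegral X] [IsIntegral Y] (f : X ⟶ Y)
    (V₀ : Y.Opens) (hV₀ : (V₀ : Set Y).Nonempty) [IsIso (f ∣_ V₀)] (ζ : X) :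
    Function.Injective (f.stalkMap ζ) ∧
    ∀ b : X.presheaf.stalk ζ, ∃ a s : Y.presheaf.stalk (f ζ), s ≠ 0 ∧
      (f.stalkMap ζ) s * b = (f.stalkMap ζ) a := by
  have hη : f (genericPoint X) ∈ V₀ := Groth.Agent.S7899.genericPoint_mem_preimage f V₀ hV₀
  haveI := Groth.Agent.S7899.isIso_stalkMap_of_isIso_restrict f V₀ (genericPoint X) hη
  have hsp : genericPoint X ⤳ ζ := genericPoint_specializes ζ
  have hsp' : f (genericPoint X) ⤳ f ζ := f.base.hom.map_specializes hsp
  have hnat : ∀ c, (f.stalkMap (genericPoint X)) (Y.presheaf.stalkSpecializes hsp' c) =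
      X.presheaf.stalkSpecializes hsp ((f.stalkMap ζ) c) :=
    fun c => Scheme.Hom.stalkSpecializes_stalkMap_apply f _ ζ hsp c
  have hbij : Function.Bijective (f.stalkMap (genericPoint X)) :=
    ConcreteCategory.bijective_of_isIso _
  constructor
  · intro c₁ c₂ hc
    apply stalkSpecializes_injective' hsp'
    apply hbij.1
    rw [hnat, hnat, hc]
  · intro b
    obtain ⟨κ, hκ⟩ := hbij.2 (X.presheaf.stalkSpecializes hsp b)
    letI := (Y.presheaf.stalkSpecializes hsp').hom.toAlgebra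
    haveI := isLocalization_atPrime_stalkSpecializes (f ζ) (f (genericPoint X)) hsp'
    obtain ⟨⟨a, s⟩, has⟩ := IsLocalization.surj
      (RingHom.ker (Cyc.specMap (f ζ) (f (genericPoint X)) hsp')).primeCompl κ
    refine ⟨a, s.1, ?_, ?_⟩
    · intro h0
      exact s.2 (by rw [h0]; exact zero_mem _)
    · apply stalkSpecializes_injective' hsp
      rw [map_mul, ← hnat, ← hnat, ← hκ, ← map_mul]
      congr 1
      rw [mul_comm]
      exact has

theorem map_genericPoint {X Y : Scheme.{u}} [IsIntegral X] [IsIntegral Y] (f : X ⟶ Y)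
    (V₀ : Y.Opens) (hV₀ : (V₀ : Set Y).Nonempty) [IsIso (f ∣_ V₀)] :
    f (genericPoint X) = genericPoint Y := by
  have h3 : f (genericPoint X) ∈ V₀ := Groth.Agent.S7899.genericPoint_mem_preimage f V₀ hV₀
  have h4 : genericPoint Y ∈ V₀ :=
    ((genericPoint_spec Y).mem_open_set_iff V₀.isOpen).mpr ⟨_, Set.mem_univ _, h3⟩
  obtain ⟨x', hx'⟩ := (ConcreteCategory.bijective_of_isIso (f ∣_ V₀).base).2 ⟨genericPoint Y, h4⟩
  have h5 : f x'.1 = genericPoint Y := by
    have := congrArg Subtype.val hx'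
    exact (morphismRestrict_base_coe f V₀ x').symm.trans this
  have h6 : f (genericPoint X) ⤳ f x'.1 := (genericPoint_specializes x'.1).map f.continuous
  rw [h5] at h6
  exact (h6.antisymm (genericPoint_specializes _)).eq

theorem eq_genericPoint_of_map_eq {X Y : Scheme.{u}} [IsIntegral X] [IsIntegral Y] (f : X ⟶ Y)
    (V₀ : Y.Opens) (hV₀ : (V₀ : Set Y).Nonempty) [IsIso (f ∣_ V₀)] (w : X)
    (hw : f w = genericPoint Y) : w = genericPoint X := by
  have h1 := map_genericPoint f V₀ hV₀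
  have h3 : f (genericPoint X) ∈ V₀ := Groth.Agent.S7899.genericPoint_mem_preimage f V₀ hV₀
  have hwV : f w ∈ V₀ := by rw [hw, ← h1]; exact h3
  have hinj := (ConcreteCategory.bijective_of_isIso (f ∣_ V₀).base).1
  have : (⟨w, hwV⟩ : (f ⁻¹ᵁ V₀ : X.Opens)) = ⟨genericPoint X, h3⟩ := by
    apply hinj
    apply Subtype.ext
    exact (morphismRestrict_base_coe f V₀ ⟨w, hwV⟩).trans
      ((hw.trans h1.symm).trans (morphismRestrict_base_coe f V₀ ⟨genericPoint X, h3⟩).symm)
  exact congrArg Subtype.val this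

theorem isIso_restrict_of_bijective_stalkMap {X Y : Scheme.{u}} [IsIntegral X] [IsIntegral Y]
    (f : X ⟶ Y) [IsProper f] (V₀ : Y.Opens) (hV₀ : (V₀ : Set Y).Nonempty) [IsIso (f ∣_ V₀)]
    (ζ : X) (hbij : Function.Bijective (f.stalkMap ζ)) :
    ∃ V : Y.Opens, f ζ ∈ V ∧ IsIso (f ∣_ V) := by
  haveI : IsIso (f.stalkMap ζ) := (ConcreteCategory.isIso_iff_bijective _).2 hbij
  let ψ : Spec (Y.presheaf.stalk (f ζ)) ⟶ X := Spec.map (inv (f.stalkMap ζ)) ≫ X.fromSpecStalk ζ
  have hψ : ψ ≫ f = Y.fromSpecStalk (f ζ) ≫ 𝟙 Y := by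
    rw [Category.comp_id, Category.assoc, ← Scheme.SpecMap_stalkMap_fromSpecStalk,
      ← Category.assoc, ← Spec.map_comp, IsIso.hom_inv_id, Spec.map_id, Category.id_comp]
  obtain ⟨V, hyV, σ, hσ1, hσ2⟩ := spread_out_of_isGermInjective' (𝟙 Y) f ψ hψ
  refine ⟨V, hyV, ?_⟩
  have hσ2' : σ ≫ f = V.ι := by rw [hσ2, Category.comp_id]
  have hfσ : ∀ v : V.toScheme, f (σ v) = V.ι v := by
    intro v
    rw [← Scheme.Hom.comp_apply, hσ2']
  have hrange : Set.range σ.base ⊆ Set.range (f ⁻¹ᵁ V).ι.base := by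
    rintro _ ⟨v, rfl⟩
    rw [Scheme.Opens.range_ι]
    change f (σ v) ∈ V
    rw [hfσ]; exact v.2
  let σ' : V.toScheme ⟶ (f ⁻¹ᵁ V).toScheme := IsOpenImmersion.lift (f ⁻¹ᵁ V).ι σ hrange
  have hσ' : σ' ≫ (f ⁻¹ᵁ V).ι = σ := IsOpenImmersion.lift_fac _ _ _
  have hsec : σ' ≫ (f ∣_ V) = 𝟙 _ := by
    rw [← cancel_mono V.ι, Category.assoc, morphismRestrict_ι, ← Category.assoc, hσ', hσ2',
      Category.id_comp]
  haveI : IsSeparated (f ∣_ V) := IsZariskiLocalAtTarget.restrict (inferInstance : IsSeparated f) V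
  haveI : IsClosedImmersion (σ' ≫ (f ∣_ V)) := by rw [hsec]; infer_instance
  haveI : IsClosedImmersion σ' := IsClosedImmersion.of_comp σ' (f ∣_ V)
  haveI : Nonempty (f ⁻¹ᵁ V : X.Opens) := ⟨⟨ζ, hyV⟩⟩
  haveI : Nonempty V := ⟨⟨f ζ, hyV⟩⟩
  have hgen : genericPoint (f ⁻¹ᵁ V).toScheme ∈ Set.range σ'.base := by
    refine ⟨genericPoint V.toScheme, ?_⟩
    apply (f ⁻¹ᵁ V).ι.isOpenEmbedding.injective
    rw [genericPoint_eq_of_isOpenImmersion (f ⁻¹ᵁ V).ι, ← Scheme.Hom.comp_apply, hσ']
    apply eq_genericPoint_of_map_eq f V₀ hV₀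
    rw [hfσ, genericPoint_eq_of_isOpenImmersion V.ι]
  haveI : Surjective σ' := by
    refine ⟨Set.range_eq_univ.1 (Set.eq_univ_of_univ_subset ?_)⟩
    have h1 : closure ({genericPoint (f ⁻¹ᵁ V).toScheme} : Set (f ⁻¹ᵁ V).toScheme) = Set.univ :=
      (genericPoint_spec _).def
    rw [← h1]
    exact closure_minimal (Set.singleton_subset_iff.2 hgen) σ'.isClosedEmbedding.isClosed_range
  haveI : IsIso σ' := isIso_of_isClosedImmersion_of_surjective σ'
  have : f ∣_ V = inv σ' := by rw [← cancel_epi σ', hsec, IsIso.hom_inv_id]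
  rw [this]; infer_instance

open Groth.Agent.Lib.Helper4.VarDim in
theorem localDim_eq_dim_of_irreducible' (k : Type u) [Field k] (X : Scheme.{u})
    [X.Over (Spec (CommRingCat.of k))] [LocallyOfFiniteType (X ↘ Spec (CommRingCat.of k))]
    [IrreducibleSpace X] (x : X) : FlatMor.localDim X x = topologicalKrullDim X := by
  unfold FlatMor.localDim
  have h : ∀ U : {U : TopologicalSpace.Opens X // x ∈ U},
      topologicalKrullDim ↥(U.1 : Set X) = topologicalKrullDim X := fun U =>
    topologicalKrullDim_opens_eq_of_irreducible k X U.1 ⟨x, U.2⟩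
  haveI : Nonempty {U : TopologicalSpace.Opens X // x ∈ U} := ⟨⟨⊤, trivial⟩⟩
  rw [iInf_congr h, iInf_const]

open Groth.Agent.Lib.Helper4.VarDim in

/-- Let k be an algebraically closed field and f : X → Y a proper, birational morphism over k between
smooth, irreducible varieties (X, Y integral, separated, of finite type and smooth over k; f
restricts to an isomorphism over some nonempty open subset of Y). Let Exc(f) ⊆ X be the exceptional
locus: the points x such that f restricts to an isomorphism over no open neighbourhood of f(x). Then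
Exc(f) has pure codimension one: every irreducible component of Exc(f) has dimension dim X − 1. -/
theorem result (k : Type u) [Field k] [IsAlgClosed k]
    (X Y : Scheme.{u}) [X.Over (Spec (CommRingCat.of k))] [Y.Over (Spec (CommRingCat.of k))]
    [IsIntegral X] [IsSeparated (X ↘ (Spec (CommRingCat.of k)))] [LocallyOfFiniteType (X ↘ (Spec (CommRingCat.of k)))] [QuasiCompact (X ↘ (Spec (CommRingCat.of k)))] [Smooth (X ↘ (Spec (CommRingCat.of k)))]
    [IsIntegral Y] [IsSeparated (Y ↘ (Spec (CommRingCat.of k)))] [LocallyOfFiniteType (Y ↘ (Spec (CommRingCat.of k)))] [QuasiCompact (Y ↘ (Spec (CommRingCat.of k)))] [Smooth (Y ↘ (Spec (CommRingCat.of k)))]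
    (f : X ⟶ Y) (hf : f ≫ (Y ↘ (Spec (CommRingCat.of k))) = (X ↘ (Spec (CommRingCat.of k)))) [IsProper f]
    (hbir : ∃ V : Y.Opens, (V : Set Y).Nonempty ∧ IsIso (f ∣_ V)) :
    ∀ Z ∈ irreducibleComponents ↥{x : X | ∀ V : Y.Opens, f x ∈ V → ¬ IsIso (f ∣_ V)},
      topologicalKrullDim ↥Z + 1 = topologicalKrullDim X := by
  obtain ⟨V₀, hV₀ne, hV₀iso⟩ := hbir
  haveI := hV₀iso
  haveI : IsLocallyNoetherian X :=
    LocallyOfFiniteType.isLocallyNoetherian (X ↘ Spec (CommRingCat.of k))
  haveI : IsLocallyNoetherian Y :=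
    LocallyOfFiniteType.isLocallyNoetherian (Y ↘ Spec (CommRingCat.of k))
  set E : Set X := {x : X | ∀ V : Y.Opens, f x ∈ V → ¬ IsIso (f ∣_ V)} with hE
  intro Z hZ
  have hEcl : IsClosed E := by
    have : E = (f ⁻¹' (⋃ V ∈ {V : Y.Opens | IsIso (f ∣_ V)}, (V : Set Y)))ᶜ := by
      ext x
      simp only [hE, Set.mem_ofPred_eq, Set.mem_compl_iff, Set.mem_preimage, Set.mem_iUnion,
        SetLike.mem_coe, exists_prop, not_exists, not_and]
      constructor
      · intro h V hV hx; exact h V hx hV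
      · intro h V hx hV; exact h V hV hx
    rw [this]
    exact ((isOpen_biUnion fun V _ => V.isOpen).preimage f.continuous).isClosed_compl
  have hZcl : IsClosed Z := isClosed_of_mem_irreducibleComponents Z hZ
  have hZirr : IsIrreducible Z := hZ.1
  set Z' : Set X := Subtype.val '' Z with hZ'
  have hZ'cl : IsClosed Z' := hEcl.isClosedMap_subtype_val _ hZcl
  have hZ'irr : IsIrreducible Z' := hZirr.image _ continuous_subtype_val.continuousOn
  obtain ⟨ζ, hζ⟩ := QuasiSober.sober hZ'irr hZ'cl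
  obtain ⟨z₀, hz₀Z, hz₀⟩ := hζ.mem
  have hζE : ζ ∈ E := hz₀ ▸ z₀.2
  obtain ⟨hinj, hbir'⟩ := birational_stalk f V₀ hV₀ne ζ
  -- generizations are not exceptional
  have hgen : ∀ x' : X, x' ⤳ ζ → x' ≠ ζ → IsIso (f.stalkMap x') := by
    intro x' hsp hne
    by_contra hnot
    have hx'E : x' ∈ E := by
      intro V hV hiso
      haveI := hiso
      exact hnot (Groth.Agent.S7899.isIso_stalkMap_of_isIso_restrict f V x' hV)
    let T : Set ↥E := closure {⟨x', hx'E⟩}
    have hTirr : IsIrreducible T := isIrreducible_singleton.closure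
    have hZT : Z ⊆ T := by
      intro z hz
      change z ∈ closure ({⟨x', hx'E⟩} : Set ↥E)
      rw [Topology.IsEmbedding.subtypeVal.closure_eq_preimage_closure_image, Set.image_singleton]
      change z.1 ∈ closure {x'}
      have h1 : z.1 ∈ Z' := ⟨z, hz, rfl⟩
      rw [← hζ.def] at h1
      exact (closure_minimal (Set.singleton_subset_iff.2 (specializes_iff_mem_closure.1 hsp))
        isClosed_closure) h1
    have hZeqT : Z = T := hZ.eq_of_subset hTirr hZT
    have hmemZ : (⟨x', hx'E⟩ : ↥E) ∈ Z := by rw [hZeqT]; exact subset_closure rfl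
    have hx'Z' : x' ∈ Z' := ⟨_, hmemZ, rfl⟩
    rw [← hζ.def] at hx'Z'
    exact hne ((hsp.antisymm (specializes_iff_mem_closure.2 hx'Z')).eq)
  have hns : ¬ Function.Surjective (f.stalkMap ζ) := by
    intro hs
    obtain ⟨V, hV, hiso⟩ := isIso_restrict_of_bijective_stalkMap f V₀ hV₀ne ζ ⟨hinj, hs⟩
    exact hζE V hV hiso
  haveI : IsRegularLocalRing (Y.presheaf.stalk (f ζ)) :=
    Groth.Agent.Lib.Helper28HBSch.isRegularLocalRing_stalk_of_smooth k Y
      (Y ↘ Spec (CommRingCat.of k)) (f ζ)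
  haveI : UniqueFactorizationMonoid (Y.presheaf.stalk (f ζ)) :=
    Groth.Agent.Helper13AusBuch.ufd_of_isRegularLocalRing _
  have hle := ringKrullDim_stalk_le_one_core f ζ hinj hbir' hns hgen
  have hζne : ζ ≠ genericPoint X := by
    intro he
    rw [he] at hζE
    exact hζE V₀ (Groth.Agent.S7899.genericPoint_mem_preimage f V₀ hV₀ne) hV₀iso
  have hge := Groth.Agent.S7899.one_le_ringKrullDim_stalk ζ hζne
  have hb : ringKrullDim (X.presheaf.stalk ζ) = ((1 : ℕ) : WithBot ℕ∞) := by
    rw [Nat.cast_one]; exact le_antisymm hle hge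
  have hdimZ : topologicalKrullDim ↥Z = ((trdegNat k X ζ : ℕ) : WithBot ℕ∞) := by
    rw [← topologicalKrullDim_closure_singleton k X ζ, hζ.def]
    exact IsHomeomorph.topologicalKrullDim_eq _
      (Topology.IsEmbedding.subtypeVal.homeomorphImage Z).isHomeomorph
  have hloc := localDim_eq_add k X ζ (trdegNat k X ζ) 1 (trdeg_eq_trdegNat k X ζ) hb
  rw [localDim_eq_dim_of_irreducible' k X ζ] at hloc
  rw [hdimZ, hloc]
  push_cast
  rfl

end Groth.Agent.S14515
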