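import Groth.Statements.S1452
import Groth.Agent.S1451
import Groth.Agent.S2806
import Groth.Agent.S0114
import Mathlib

set_option autoImplicit false
universe u
open FlatMor

namespace Groth.Agent.S1452

open AlgebraicGeometry CategoryTheory Limits

/-- transfer an étale neighbourhood inside an open subscheme to the ambient scheme. -/
theorem exists_etale_nhd_of_restrict {X Y : Scheme.{u}} (f : X ⟶ Y) (U : X.Opens) (xU : U)
    (h : ∃ U' : (U : Scheme.{u}).Opens, xU ∈ U' ∧ Etale (U'.ι ≫ U.ι ≫ f)) :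
    ∃ U'' : X.Opens, xU.1 ∈ U'' ∧ U'' ≤ U ∧ Etale (U''.ι ≫ f) := by
  obtain ⟨U', hx, het⟩ := h
  refine ⟨U.ι ''ᵁ U', ⟨xU, hx, rfl⟩, ?_, ?_⟩
  · rintro _ ⟨z, -, rfl⟩
    exact z.2
  · have e : (U.ι ''ᵁ U').ι ≫ f = (U.ι.isoImage U').inv ≫ U'.ι ≫ U.ι ≫ f := by
      rw [← Scheme.Hom.isoImage_inv_ι, Category.assoc, Category.assoc]
    rw [e]
    infer_instance

open AlgebraicGeometry CategoryTheory Limits in
/-- Let f : X → Y and g : Y → Z with Y integral and the local ring of Y at y = f x geometrically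
unibranch; assume g ∘ f is étale on an open neighbourhood of x and some generization of x maps to
the generic point of Y. Then f is étale on an open neighbourhood of x and g is étale on an open
neighbourhood of y. -/
theorem result {X Y Z : Scheme.{u}} (f : X ⟶ Y) (g : Y ⟶ Z) [IsIntegral Y] (x : X)
    (hY : CAlg2.IsGeomUnibranch (Y.presheaf.stalk (f x))) (het : ∃ U : X.Opens, x ∈ U ∧ Etale (U.ι ≫ f ≫ g))
    (hsp : ∃ x' : X, x' ⤳ x ∧ f x' = genericPoint ↑Y) :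
    (∃ U : X.Opens, x ∈ U ∧ Etale (U.ι ≫ f)) ∧ ∃ V : Y.Opens, f x ∈ V ∧ Etale (V.ι ≫ g) := by
  obtain ⟨U, hxU, hU⟩ := het
  obtain ⟨x', hx'x, hx'⟩ := hsp
  haveI : Etale ((U.ι ≫ f) ≫ g) := by rw [Category.assoc]; exact hU
  haveI : LocallyOfFiniteType ((U.ι ≫ f) ≫ g) := inferInstance
  haveI : LocallyOfFiniteType (U.ι ≫ f) := locallyOfFiniteType_of_comp (U.ι ≫ f) g
  have hx'U : x' ∈ U := hx'x.mem_open U.2 hxU
  -- step 1: `f` is étale near `x`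
  have h1 : ∃ U₁ : (U : Scheme.{u}).Opens, (⟨x, hxU⟩ : U) ∈ U₁ ∧ Etale (U₁.ι ≫ U.ι ≫ f) := by
    refine Groth.Agent.S1451.result (U.ι ≫ f) ⟨x, hxU⟩ hY ⟨⟨x', hx'U⟩, ?_, hx'⟩ ⟨⊤, trivial, ?_⟩
    · exact (Topology.IsInducing.subtypeVal.specializes_iff (x := (⟨x', hx'U⟩ : U)) (y := ⟨x, hxU⟩)).mp hx'x
    · haveI : FormallyUnramified (((⊤ : (U : Scheme.{u}).Opens).ι ≫ U.ι ≫ f) ≫ g) := by
        rw [Category.assoc, Category.assoc]
        haveI : Etale (U.ι ≫ f ≫ g) := hU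
        infer_instance
      exact FormallyUnramified.of_comp _ g
  obtain ⟨U₂, hxU₂, hU₂U, hU₂⟩ := exists_etale_nhd_of_restrict f U ⟨x, hxU⟩ h1
  refine ⟨⟨U₂, hxU₂, hU₂⟩, ?_⟩
  -- step 2: `g` is étale near `f x`
  haveI : Etale (U₂.ι ≫ f) := hU₂
  haveI hU₂g : Etale ((U₂.ι ≫ f) ≫ g) := by
    have e : (U₂.ι ≫ f) ≫ g = X.homOfLE hU₂U ≫ U.ι ≫ f ≫ g := by
      rw [← Category.assoc (X.homOfLE hU₂U), Scheme.homOfLE_ι, Category.assoc]
    rw [e]
    haveI : Etale (U.ι ≫ f ≫ g) := hU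
    infer_instance
  let V : Y.Opens := ⟨Set.range (U₂.ι ≫ f), (U₂.ι ≫ f).isOpenMap.isOpen_range⟩
  have hr : Set.range (U₂.ι ≫ f) ⊆ Set.range V.ι := by
    rw [Scheme.Opens.range_ι]
    exact subset_rfl
  let fc : (U₂ : Scheme.{u}) ⟶ V := IsOpenImmersion.lift V.ι (U₂.ι ≫ f) hr
  have hfc : fc ≫ V.ι = U₂.ι ≫ f := IsOpenImmersion.lift_fac _ _ _
  have hVι : IsOpenImmersion V.ι := inferInstance
  haveI : Flat fc := MorphismProperty.of_postcomp (W := @Flat) fc V.ι hVι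
    (by rw [hfc]; infer_instance)
  haveI : LocallyOfFinitePresentation fc :=
    MorphismProperty.of_postcomp (W := @LocallyOfFinitePresentation) fc V.ι hVι
    (by rw [hfc]; infer_instance)
  haveI : Surjective fc := ⟨fun v => by
    obtain ⟨u, hu⟩ := v.2
    refine ⟨u, V.ι.injective ?_⟩
    rw [← Scheme.Hom.comp_apply, hfc]
    exact hu⟩
  have hw : fc ≫ V.ι ≫ g = (U₂.ι ≫ f) ≫ g := by rw [← Category.assoc, hfc]
  haveI : LocallyOfFinitePresentation (fc ≫ V.ι ≫ g) := by rw [hw]; infer_instance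
  haveI : LocallyOfFinitePresentation (V.ι ≫ g) := Groth.Agent.S0114.result fc (V.ι ≫ g)
  haveI : LocallyOfFinitePresentation ((U₂.ι ≫ f) ≫ g) := inferInstance
  obtain ⟨V', hV', hV'et⟩ := Groth.Agent.S2806.result (V.ι ≫ g) ((U₂.ι ≫ f) ≫ g) fc hw
    ⟨x, hxU₂⟩ (Flat.stalkMap fc _) ⟨⊤, trivial, inferInstance⟩
  obtain ⟨V'', hV''x, -, hV''⟩ := exists_etale_nhd_of_restrict g V (fc ⟨x, hxU₂⟩) ⟨V', hV', hV'et⟩
  have hpt : (fc ⟨x, hxU₂⟩).1 = f x := by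
    change V.ι (fc ⟨x, hxU₂⟩) = f x
    rw [← Scheme.Hom.comp_apply, hfc]
    rfl
  exact ⟨V'', hpt ▸ hV''x, hV''⟩

end Groth.Agent.S1452
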