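import Groth.Statements.S14521
import Groth.Agent.Lib.Helper12SnapK
import Groth.Agent.Lib.Helper2TensorInv
import Groth.Agent.Lib.Helper4KFilt2

set_option autoImplicit false
universe u
open CategoryTheory CategoryTheory.Limits AlgebraicGeometry
open Variety

namespace Groth.Agent.S14521

open Groth.Agent.Lib.Helper12.Snap Groth.Agent.Lib.Helper4.KFilt Groth.Agent.Lib.Helper4.KTensor
  Groth.Agent.Lib.Helper4.Dev Groth.Agent.Lib.Helper4.CurveChi Groth.Agent.Lib.Helper17.K0a


/-- Let k be an algebraically closed field, X a complete variety over k (reduced and proper over k) of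
dimension at most d, L_1, …, L_r line bundles with tensor inverses M_1, …, M_r, and F a coherent
O_X-module whose support has dimension at most r. Let Y_1, …, Y_s be the r-dimensional irreducible
components of Supp F, with generic points ξ_1, …, ξ_s (given as a finite set s of points: ξ ∈ s iff
ξ ∈ Supp F and the closure of ξ has dimension r), each Y_i with its reduced structure. Then
(L_1⋯L_r; F) = Σ_i length_{O_{X,ξ_i}}(F_{ξ_i}) · (L_1⋯L_r · Y_i), where all intersection numbers are
the alternating Euler-characteristic sums in the M_i (the prelude's FGA.intNum). -/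
theorem result (k : Type u) [Field k] [IsAlgClosed k]
    (X : Scheme.{u}) [X.Over (Spec (CommRingCat.of k))] [IsReduced X] [IsProper (X ↘ (Spec (CommRingCat.of k)))] (d : ℕ) (hd : topologicalKrullDim X ≤ d)
    {r : ℕ} (M : Fin r → X.Modules) (hM : ∀ i, PicF.IsInvertible (M i))
    (F : X.Modules) (hF : Coh.IsCoh F) (hsupp : topologicalKrullDim ↥(CohB1.support F) ≤ r)
    (s : Finset X) (hs : ∀ ξ : X, ξ ∈ s ↔ ξ ∈ CohB1.support F ∧ topologicalKrullDim ↥(closure ({ξ} : Set X)) = r) :
    FGA.intNum k X d M F =
      ∑ ξ ∈ s, ((Module.length (X.presheaf.stalk ξ) (F.presheaf.stalk ξ)).toNat : ℤ) *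
        FGA.intNum k X d M (ClSub.quotMod (Scheme.IdealSheafData.vanishingIdeal ⟨closure ({ξ} : Set X), isClosed_closure⟩)) := by
  classical
  haveI : IsNoetherian X := Groth.Agent.Lib.Helper4.CurveRR.isNoetherian_of_proper k X
  haveI : IsLocallyNoetherian X := inferInstance
  have hl : ∀ N ∈ List.ofFn M, PicF.IsInvertible N := by
    intro N hN
    obtain ⟨i, rfl⟩ := (List.mem_ofFn' M N).1 hN
    exact hM i
  have hφ := isAdd_dchi k X (List.ofFn M) hl
  have hint : ∀ G : X.Modules, FGA.intNum k X d M G = dchi k X (List.ofFn M) G :=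
    fun G => intNum_eq_dchi k X d hd M G
  simp_rw [hint]
  have hgood := good_of_dim_le r F hF hsupp
  have hkill : ∀ x ∈ lowSub (X := X) r, hφ.lift x = 0 := fun x hx =>
    hφ.lift_eq_zero_of_mem_lowSub r (fun G hG hd' => dchi_eq_zero k X _ hl G hG
      (by rw [List.length_ofFn]; exact hd')) x hx
  have h1 := hkill _ hgood.mem
  rw [map_sub, hφ.lift_clSub F hF, sub_eq_zero] at h1
  rw [h1]
  have hfin : (Function.support (cfun r F)).Finite := hgood.fin.subset (support_cfun_subset r F)
  rw [AddMonoidHom.map_finsum _ hfin, finsum_eq_sum_of_support_subset (s := s)]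
  · refine Finset.sum_congr rfl fun ξ hξ => ?_
    have hd' := ((hs ξ).1 hξ).2
    unfold cfun
    rw [if_pos hd', map_nsmul, hφ.lift_clSub _ (isCoh_closureStructureSheaf ξ), nsmul_eq_mul]
    rfl
  · intro ξ hξ
    rw [Function.mem_support] at hξ
    rw [Finset.mem_coe, hs]
    have hmem : ξ ∈ topPts r F := support_cfun_subset r F (fun h0 => hξ (by rw [h0, map_zero]))
    refine ⟨fun hsub => hmem.2 ?_, hmem.1⟩
    haveI : Subsingleton ↑(F.presheaf.stalk ξ) := hsub
    exact Module.length_eq_zero

end Groth.Agent.S14521
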