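import Groth.Statements.S14541
import Mathlib
import Groth.Agent.Lib.Helper12LocSplit
import Groth.Agent.Lib.Helper12PseudoTorsor

set_option autoImplicit false
universe u
open CategoryTheory MonoidalCategory CartesianMonoidalCategory MonObj GrpObj AlgebraicGeometry
open PrincBund

namespace Groth.Agent.S14541


open Groth.Agent.Lib.Helper12 Groth.Agent.Lib.Helper12.PseudoTorsor
  Groth.Agent.Lib.Helper12.LocSplit

section

variable {X : Scheme.{u}} {J J' : Over X} [GrpObj J] [GrpObj J'] (u : J ⟶ J')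
  {P P' : Over X} (a : AlgGrp.Action J P) (a' : AlgGrp.Action J' P')

/-- point form of equivariance along `u`. -/
lemma equivariant_pt (q : P ⟶ P')
    (hq : a.act ≫ q = lift (fst J P ≫ u) (snd J P ≫ q) ≫ a'.act) {W : Over X} (j : W ⟶ J)
    (x : W ⟶ P) : (lift j x ≫ a.act) ≫ q = lift (j ≫ u) (x ≫ q) ≫ a'.act := by
  rw [Category.assoc, hq, ← Category.assoc]
  congr 1
  apply CartesianMonoidalCategory.hom_ext <;> simp

/-- equivariance from its point form. -/
lemma equivariant_of_pt (q : P ⟶ P')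
    (hq : ∀ {W : Over X} (j : W ⟶ J) (x : W ⟶ P),
      (lift j x ≫ a.act) ≫ q = lift (j ≫ u) (x ≫ q) ≫ a'.act) :
    a.act ≫ q = lift (fst J P ≫ u) (snd J P ≫ q) ≫ a'.act := by
  have := hq (fst J P) (snd J P)
  rwa [lift_fst_snd, Category.id_comp] at this

end



/-- Let X be a scheme, J, J' and J'' group schemes affine over X, with no flatness or finiteness
condition, u : J → J' and v : J' → J'' homomorphisms, P a J-torsor, P' a J'-torsor and P'' a
J''-torsor, all for the fpqc topology, q' : P → P' an X-morphism compatible with u and q'' : P → P''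
an X-morphism compatible with the composite homomorphism J → J' → J''. Then there is exactly one
X-morphism r : P' → P'' compatible with v whose composite with q' is q''. Taking v to be the
identity, the push forward of a torsor along u is unique up to unique isomorphism. -/
theorem result {X : Scheme.{u}}
    {J J' J'' : Over X} [GrpObj J] [GrpObj J'] [GrpObj J''] [IsAffineHom J.hom] [IsAffineHom J'.hom]
    [IsAffineHom J''.hom] (u : J ⟶ J') [IsMonHom u] (v : J' ⟶ J'') [IsMonHom v] {P P' P'' : Over X}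
    (a : AlgGrp.Action J P) (a' : AlgGrp.Action J' P') (a'' : AlgGrp.Action J'' P'')
    (hP : NonAbH1.IsTorsorFor Scheme.fpqcPrecoverage a)
    (hP' : NonAbH1.IsTorsorFor Scheme.fpqcPrecoverage a')
    (hP'' : NonAbH1.IsTorsorFor Scheme.fpqcPrecoverage a'')
    (q' : P ⟶ P') (hq' : a.act ≫ q' = lift (fst J P ≫ u) (snd J P ≫ q') ≫ a'.act)
    (q'' : P ⟶ P'') (hq'' : a.act ≫ q'' = lift (fst J P ≫ u ≫ v) (snd J P ≫ q'') ≫ a''.act) :
    ∃! r : P' ⟶ P'', a'.act ≫ r = lift (fst J' P' ≫ v) (snd J' P' ≫ r) ≫ a''.act ∧ q' ≫ r = q'' := by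
  have hq'pt := @equivariant_pt _ _ _ _ _ u _ _ a a' q' hq'
  have hq''pt := @equivariant_pt _ _ _ _ _ (u ≫ v) _ _ a a'' q'' (by simpa using hq'')
  set δ := diff a hP.1 with hδ
  set δ' := diff a' hP'.1 with hδ'
  -- the morphism `(x, y) ↦ v(δ'(y, q' x)) • q'' x`
  set Ψ : P ⊗ P' ⟶ P'' :=
    lift (lift (snd P P') (fst P P' ≫ q') ≫ δ' ≫ v) (fst P P' ≫ q'') ≫ a''.act with hΨ
  have Ψpt : ∀ {W : Over X} (x : W ⟶ P) (y : W ⟶ P'),
      lift x y ≫ Ψ = lift ((lift y (x ≫ q') ≫ δ') ≫ v) (x ≫ q'') ≫ a''.act := by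
    intro W x y
    have e : lift x y ≫ lift (lift (snd P P') (fst P P' ≫ q') ≫ δ' ≫ v) (fst P P' ≫ q'') =
        lift ((lift y (x ≫ q') ≫ δ') ≫ v) (x ≫ q'') := by
      rw [comp_lift]
      congr 1
      · rw [← Category.assoc, comp_lift, lift_snd, lift_fst_assoc, Category.assoc]
      · rw [lift_fst_assoc]
    rw [hΨ, ← Category.assoc, e]
  -- invariance
  have Ψinv : ∀ {W : Over X} (x₁ x₂ : W ⟶ P) (y : W ⟶ P'), lift x₁ y ≫ Ψ = lift x₂ y ≫ Ψ := by
    intro W x₁ x₂ y
    set j := lift x₂ x₁ ≫ δ with hj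
    have hx₂ : lift j x₁ ≫ a.act = x₂ := diff_act a hP.1 x₂ x₁
    rw [Ψpt, Ψpt, ← hx₂, hq'pt, hq''pt, hδ', diff_act_right, MonObj.mul_comp, GrpObj.inv_comp]
    simp only [Category.assoc]
    rw [← act_mul, inv_mul_cancel_right]
  obtain ⟨r, hr, hru⟩ := existsUnique_desc_snd hP.2 Ψ Ψinv
  have hrpt : ∀ {W : Over X} (x : W ⟶ P) (y : W ⟶ P'),
      y ≫ r = lift ((lift y (x ≫ q') ≫ δ') ≫ v) (x ≫ q'') ≫ a''.act := by
    intro W x y
    rw [← Ψpt, ← hr, ← Category.assoc, lift_snd]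
  refine ⟨r, ⟨?_, ?_⟩, ?_⟩
  · -- equivariance, checked after the epimorphism `snd P (J' ⊗ P')`
    haveI := epi_snd hP.2 (J' ⊗ P')
    rw [← cancel_epi (snd P (J' ⊗ P'))]
    set x := fst P (J' ⊗ P') with hx
    set j' := snd P (J' ⊗ P') ≫ fst J' P' with hj'
    set y := snd P (J' ⊗ P') ≫ snd J' P' with hy
    have e1 : snd P (J' ⊗ P') = lift j' y := by
      apply CartesianMonoidalCategory.hom_ext <;> simp [hj', hy]
    have e2 : snd P (J' ⊗ P') ≫ lift (fst J' P' ≫ v) (snd J' P' ≫ r) =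
        lift (j' ≫ v) (y ≫ r) := by
      apply CartesianMonoidalCategory.hom_ext <;> simp [hj', hy]
    have hL := hrpt x (lift j' y ≫ a'.act)
    have hR := hrpt x y
    rw [← Category.assoc, ← Category.assoc, e2, e1, hL, hR, hδ', diff_act_left, MonObj.mul_comp,
      act_mul]
  · have e1 : q' = lift (𝟙 P) q' ≫ snd P P' := by simp
    rw [e1, Category.assoc, hr, Ψpt, Category.id_comp, hδ', diff_self, MonObj.one_comp, act_one,
      Category.id_comp]
  · rintro r' ⟨hr'1, hr'2⟩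
    apply hru
    have hr'pt := @equivariant_pt _ _ _ _ _ v _ _ a' a'' r' hr'1
    have e1 : snd P P' = lift (lift (snd P P') (fst P P' ≫ q') ≫ δ') (fst P P' ≫ q') ≫ a'.act :=
      (diff_act a' hP'.1 _ _).symm
    have e2 : 𝟙 (P ⊗ P') = lift (fst P P') (snd P P') := by simp
    have e3 : (fst P P' ≫ q') ≫ r' = fst P P' ≫ q'' := by rw [Category.assoc, hr'2]
    rw [e1, hr'pt, e3, hΨ]
    simp only [Category.assoc]

end Groth.Agent.S14541
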