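import Groth.Statements.S14579
import Mathlib
import Groth.Agent.Lib.Helper11BlanchardD

set_option autoImplicit false
universe u
open CategoryTheory MonoidalCategory CartesianMonoidalCategory MonObj GrpObj AlgebraicGeometry CategoryTheory.Limits
open AlgGrp

namespace Groth.Agent.S14579


/-- Let k be a field, G a connected k-group scheme of finite type, X and Y separated k-schemes of finite
type, and f : X → Y a proper k-morphism such that O_Y → f_*O_X is an isomorphism (on sections over
every open subset of Y). For every action of G on X there is a unique action of G on Y for which f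
is equivariant. No hypothesis on k and no smoothness of G are assumed. -/
theorem result (k : Type u) [Field k]
    (G X Y : Over (Spec (CommRingCat.of k))) [GrpObj G] [LocallyOfFiniteType G.hom] [QuasiCompact G.hom]
    [ConnectedSpace ↥G.left] [LocallyOfFiniteType X.hom] [QuasiCompact X.hom] [IsSeparated X.hom]
    [LocallyOfFiniteType Y.hom] [QuasiCompact Y.hom] [IsSeparated Y.hom]
    (f : X ⟶ Y) [IsProper f.left] (hf : ∀ U : Y.left.Opens, IsIso (f.left.app U))
    (a : AlgGrp.Action G X) :
    ∃! b : AlgGrp.Action G Y, (G ◁ f) ≫ b.act = a.act ≫ f := by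
  obtain ⟨b, hb⟩ := Groth.Agent.Lib.Helper11Blanchard.exists_action_desc G X Y f hf a
    (Groth.Agent.Lib.Helper11Blanchard.const_on_fibres G X Y f hf a)
  refine ⟨b, hb, ?_⟩
  intro b' hb'
  have h1 : b'.act = b.act :=
    Groth.Agent.Lib.Helper11Blanchard.whiskerLeft_cancel G f hf _ _ (hb'.trans hb.symm)
  cases b
  cases b'
  simp only at h1
  subst h1
  rfl

end Groth.Agent.S14579
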