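import Groth.Statements.S14580
import Mathlib
import Groth.Agent.Lib.Helper11RigidAntiF
import Groth.Agent.Lib.Helper11ZeroDimSep
import Groth.Agent.Lib.Helper14LocNoeth

set_option autoImplicit false
universe u
open CategoryTheory MonoidalCategory CartesianMonoidalCategory MonObj GrpObj AlgebraicGeometry CategoryTheory.Limits
open AlgGrp

namespace Groth.Agent.S14580

open TopologicalSpace

/-- a clopen subset is the non-vanishing locus of a global function -/
theorem exists_basicOpen_eq_of_isClopen {X : Scheme.{u}} (s : Set X) (hs : IsClopen s) :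
    ∃ e : Γ(X, ⊤), (X.basicOpen e : Set X) = s := by
  obtain ⟨e, he1, he2⟩ := Groth.Agent.Lib.Helper11RigidAntiF.exists_section_one_zero
    (X := X) ⟨s, hs.isOpen⟩ ⟨sᶜ, hs.compl.isOpen⟩ (by ext x; simp) (by ext x; simp)
  refine ⟨e, ?_⟩
  have a1 : (⟨s, hs.isOpen⟩ : X.Opens) ⊓ X.basicOpen e = ⟨s, hs.isOpen⟩ := by
    rw [← Scheme.basicOpen_res X e (homOfLE (le_top : (⟨s, hs.isOpen⟩ : X.Opens) ≤ ⊤)).op]
    erw [he1]
    exact Scheme.basicOpen_of_isUnit X isUnit_one
  have a2 : (⟨sᶜ, hs.compl.isOpen⟩ : X.Opens) ⊓ X.basicOpen e = ⊥ := by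
    rw [← Scheme.basicOpen_res X e (homOfLE (le_top : (⟨sᶜ, hs.compl.isOpen⟩ : X.Opens) ≤ ⊤)).op]
    erw [he2]
    exact Scheme.basicOpen_zero X _
  have b1 := congrArg (fun U : X.Opens => (U : Set X)) a1
  have b2 := congrArg (fun U : X.Opens => (U : Set X)) a2
  simp only [Opens.coe_inf, Opens.coe_mk, Opens.coe_bot] at b1 b2
  ext x
  constructor
  · intro hx
    by_contra hxs
    have : x ∈ sᶜ ∩ (X.basicOpen e : Set X) := ⟨hxs, hx⟩
    rw [b2] at this
    exact this
  · intro hx
    have : x ∈ s ∩ (X.basicOpen e : Set X) := by rw [b1]; exact hx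
    exact this.2


/-- Let k be a field, G a proper k-group scheme of finite type and N ⊆ G the kernel of the affinization
morphism G → Spec O(G), i.e. the fibre over the image of the unit section (the largest anti-affine
subgroup scheme of G). Then the image of N in G is the connected component of the identity: as N is
smooth, N is the reduced neutral component G⁰_red, which is therefore a smooth connected algebraic
group. -/
theorem result (k : Type u) [Field k]
    (G : Over (Spec (CommRingCat.of k))) [GrpObj G] [IsProper G.hom] (t : ↥((𝟙_ (Over (Spec (CommRingCat.of k)))).left)) :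
    Set.range ⇑(pullback.fst G.left.toSpecΓ (η[G].left ≫ G.left.toSpecΓ)).base = connectedComponent ((η[G]).left.base t) := by
  obtain ⟨ρ, hρ⟩ : ∃ ρ : G.left ⟶ Spec Γ(G.left, ⊤), ρ = G.left.toSpecΓ := ⟨_, rfl⟩
  rw [← hρ]
  obtain ⟨ept, hept⟩ : ∃ ept : G.left, ept = (η[G]).left.base t := ⟨_, rfl⟩
  rw [← hept]
  -- the range is a fibre of `ρ`
  have hsub : ∀ t' : ↥((𝟙_ (Over (Spec (CommRingCat.of k)))).left), t' = t := fun t' =>
    Subsingleton.elim (α := ↥(Spec (CommRingCat.of k))) t' t
  have hrange : Set.range (pullback.fst ρ (η[G].left ≫ ρ)).base = ρ.base ⁻¹' {ρ.base ept} := by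
    have h1 := Scheme.Pullback.range_fst ρ (η[G].left ≫ ρ)
    have h2 : Set.range (η[G].left ≫ ρ).base = {ρ.base ept} := by
      ext y
      simp only [Set.mem_range, Set.mem_singleton_iff]
      constructor
      · rintro ⟨t', rfl⟩
        rw [hsub t', hept, Scheme.Hom.comp_base, TopCat.comp_app]
      · rintro rfl
        exact ⟨t, by rw [hept, Scheme.Hom.comp_base, TopCat.comp_app]⟩
    rw [← h2]
    exact h1
  rw [hrange]
  -- `G` is a noetherian space, so the connected component is clopen
  have hlft : LocallyOfFiniteType G.hom := inferInstance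
  have hcomp : CompactSpace G.left := QuasiCompact.compactSpace_of_compactSpace G.hom
  have hlnoeth : IsLocallyNoetherian G.left := LocallyOfFiniteType.isLocallyNoetherian G.hom
  have hnoeth : IsNoetherian G.left := { }
  have hnsp : NoetherianSpace G.left := inferInstance
  have hclopen : IsClopen (connectedComponent ept) :=
    ⟨isClosed_connectedComponent,
      Groth.Agent.Lib.Helper14.isOpen_connectedComponent_of_noetherianSpace ept⟩
  obtain ⟨eC, heC⟩ := exists_basicOpen_eq_of_isClopen (connectedComponent ept) hclopen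
  have hpre : ∀ x : G.left, x ∈ connectedComponent ept ↔
      ρ.base x ∈ (PrimeSpectrum.basicOpen eC : Set (PrimeSpectrum Γ(G.left, ⊤))) := by
    intro x
    rw [← heC, ← Scheme.toSpecΓ_preimage_basicOpen, hρ]
    rfl
  apply Set.Subset.antisymm
  · -- fibre ⊆ component
    intro x hx
    have hx' : ρ.base x = ρ.base ept := hx
    rw [hpre, hx', ← hpre]
    exact mem_connectedComponent
  · -- component ⊆ fibre
    intro x hx
    by_contra hne
    have hne' : ρ.base ept ≠ ρ.base x := fun h => hne h.symm
    -- integrality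
    obtain ⟨F, hF⟩ : ∃ F, F = (Scheme.ΓSpecIso (CommRingCat.of k)).inv ≫ G.hom.appTop := ⟨_, rfl⟩
    have hFint : F.hom.IsIntegral := by
      rw [hF]
      have h1 : (Scheme.ΓSpecIso (CommRingCat.of k)).inv.hom.IsIntegral :=
        RingHom.isIntegral_of_surjective _
          ((ConcreteCategory.isIso_iff_bijective (Scheme.ΓSpecIso (CommRingCat.of k)).inv).mp
            inferInstance).2
      exact RingHom.IsIntegral.trans _ _ h1 (isIntegral_appTop_of_universallyClosed G.hom)
    algebraize [F.hom]
    have halg : Algebra.IsIntegral k Γ(G.left, ⊤) := ⟨hFint⟩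
    obtain ⟨S, hS, hS1, hS2⟩ := Groth.Agent.Lib.Helper11ZeroDimSep.exists_isClopen_of_ne
      (k := k) (A := Γ(G.left, ⊤)) (ρ.base ept) (ρ.base x) hne'
    have hS' : IsClopen (ρ.base ⁻¹' S) := hS.preimage ρ.continuous
    have hsubset : connectedComponent ept ⊆ ρ.base ⁻¹' S :=
      hS'.connectedComponent_subset hS1
    exact hS2 (hsubset hx)

end Groth.Agent.S14580
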