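import Groth.Statements.S14586
import Mathlib
import Groth.Agent.Lib.Helper11OrbitSub

set_option autoImplicit false
universe u
open CategoryTheory MonoidalCategory CartesianMonoidalCategory MonObj GrpObj AlgebraicGeometry CategoryTheory.Limits
open AlgGrp

namespace Groth.Agent.S14586

open Groth.Agent.Lib.Helper11OrbitSub Groth.Agent.Lib.Helper11Orbit Groth.Agent.Lib.Helper12
  Groth.Agent.Lib.Helper11KPts TopologicalSpace

section stable

variable {S : Scheme.{u}} {G X : Over S} [GrpObj G] (a : AlgGrp.Action G X)

/-- a subset of `X` stable under the action of `G` -/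
def Stable (A : Set X.left) : Prop :=
  ∀ t : ↥(G ⊗ X).left, (snd G X).left t ∈ A → a.act.left t ∈ A

theorem stable_closure [UniversallyOpen G.hom] {A : Set X.left} (h : Stable a A) :
    Stable a (closure A) := by
  intro t ht
  have hopen : UniversallyOpen (snd G X).left := by
    change UniversallyOpen (pullback.snd G.hom X.hom)
    infer_instance
  have h1 : t ∈ closure ((snd G X).left ⁻¹' A) := by
    rw [← (snd G X).left.isOpenMap.preimage_closure_eq_closure_preimage (snd G X).left.continuous]
    exact ht
  have h2 := image_closure_subset_closure_image a.act.left.continuous ⟨t, h1, rfl⟩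
  refine closure_mono ?_ h2
  rintro _ ⟨s, hs, rfl⟩
  exact h s hs

theorem stable_range_orbitMap (x : 𝟙_ (Over S) ⟶ X) : Stable a (Set.range (a.orbitMap x).left) := by
  intro t ht
  have : t ∈ Set.range (G ◁ a.orbitMap x).left := by rw [range_whiskerLeft_left]; exact ht
  obtain ⟨s, rfl⟩ := this
  refine ⟨μ[G].left s, ?_⟩
  rw [← Scheme.Hom.comp_apply, ← Scheme.Hom.comp_apply, ← Over.comp_left, ← Over.comp_left,
    whiskerLeft_orbitMap_act]

theorem stable_diff {Z O : Set X.left} (hZ : Stable a Z) (hO : Stable a O) : Stable a (Z \ O) := by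
  intro t ht
  refine ⟨hZ t ht.1, fun hmem => ht.2 ?_⟩
  have h1 : (snd G X).left ((CartesianMonoidalCategory.lift (fst G X)⁻¹ a.act).left t) ∈ O := by
    rw [← Scheme.Hom.comp_apply, ← Over.comp_left, lift_snd]
    exact hmem
  have h2 := hO _ h1
  rw [← Scheme.Hom.comp_apply, ← Over.comp_left, lift_inv_act_act] at h2
  exact h2

theorem orbit_subset {Z : Set X.left} (hZ : Stable a Z) (x : 𝟙_ (Over S) ⟶ X)
    (hx : ∀ g : ↥G.left, x.left ((toUnit G).left g) ∈ Z) : Set.range (a.orbitMap x).left ⊆ Z := by
  rintro _ ⟨g, rfl⟩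
  unfold AlgGrp.Action.orbitMap
  rw [Over.comp_left, Scheme.Hom.comp_apply]
  apply hZ
  rw [← Scheme.Hom.comp_apply, ← Over.comp_left, lift_snd, Over.comp_left, Scheme.Hom.comp_apply]
  exact hx g

end stable


/-- Let k be an algebraically closed field, G a smooth k-group scheme of finite type and X a non-empty
separated k-scheme of finite type with an action of G. Then there is a rational point x of X whose
orbit, the image of the orbit map g ↦ g · x, is closed in X. -/
theorem result (k : Type u) [Field k] [IsAlgClosed k]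
    (G X : Over (Spec (CommRingCat.of k))) [GrpObj G] [Smooth G.hom] [QuasiCompact G.hom]
    [LocallyOfFiniteType X.hom] [QuasiCompact X.hom] [IsSeparated X.hom] [Nonempty ↥X.left]
    (a : AlgGrp.Action G X) :
    ∃ x : 𝟙_ (Over (Spec (CommRingCat.of k))) ⟶ X, IsClosed (Set.range ⇑(a.orbitMap x).left.base) := by
  have hGlft : LocallyOfFiniteType G.hom := inferInstance
  have hGflat : Flat G.hom := inferInstance
  have hnG : IsLocallyNoetherian G.left := LocallyOfFiniteType.isLocallyNoetherian G.hom
  have hGlfp : LocallyOfFinitePresentation G.hom := inferInstance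
  have hGuo : UniversallyOpen G.hom := inferInstance
  have hcX : CompactSpace ↥X.left := QuasiCompact.compactSpace_of_compactSpace X.hom
  have hnX : IsLocallyNoetherian X.left := LocallyOfFiniteType.isLocallyNoetherian X.hom
  have hNX : IsNoetherian X.left := {}
  have hJ : JacobsonSpace ↥X.left := LocallyOfFiniteType.jacobsonSpace X.hom
  -- a minimal nonempty stable closed subset
  obtain ⟨Z, ⟨hZne, hZst⟩, hmin⟩ := WellFounded.has_min (wellFounded_lt (α := Closeds X.left))
    {Z | (Z : Set X.left).Nonempty ∧ Stable a (Z : Set X.left)}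
    ⟨⊤, ⟨Set.univ_nonempty, fun _ _ => trivial⟩⟩
  obtain ⟨x₀, hx₀Z, hx₀⟩ := nonempty_inter_closedPoints hZne Z.isClosed.isLocallyClosed
  obtain ⟨p, hp1, hp2⟩ := exists_point_of_closedPoint (K := k) X.hom x₀ hx₀
  have hp1' : p ≫ X.hom = 𝟙 _ := by
    rw [hp1, Algebra.algebraMap_self]
    exact Spec.map_id _
  obtain ⟨x, hx⟩ : ∃ x : 𝟙_ (Over (Spec (CommRingCat.of k))) ⟶ X, x.left = p :=
    ⟨Over.homMk p hp1', rfl⟩
  refine ⟨x, ?_⟩
  have hOZ : Set.range (a.orbitMap x).left ⊆ (Z : Set X.left) := by
    apply orbit_subset a hZst x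
    intro g
    rw [hx, hp2]
    exact hx₀Z
  have hOst := stable_range_orbitMap a x
  have hOne : (Set.range (a.orbitMap x).left).Nonempty := ⟨_, ⟨η[G].left (IsLocalRing.closedPoint k), rfl⟩⟩
  -- the orbit is locally closed
  have hOlc : IsLocallyClosed (Set.range (a.orbitMap x).left) := by
    obtain ⟨Y, b, y, f, hequiv, hyf, himm, -, -, -, hsurj⟩ := exists_orbit_subscheme k G X a x
    have horb : b.orbitMap y ≫ f = a.orbitMap x := by
      unfold AlgGrp.Action.orbitMap
      rw [Category.assoc, ← hequiv, ← Category.assoc, lift_whiskerLeft, Category.assoc, hyf]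
    have h1 : Set.range (a.orbitMap x).left = Set.range f.left := by
      rw [← horb, Over.comp_left]
      apply Set.Subset.antisymm
      · rintro _ ⟨g, rfl⟩
        exact ⟨(b.orbitMap y).left g, (Scheme.Hom.comp_apply _ _ _).symm⟩
      · rintro _ ⟨t, rfl⟩
        obtain ⟨g, rfl⟩ := hsurj.surj t
        exact ⟨g, Scheme.Hom.comp_apply _ _ _⟩
    rw [h1]
    exact f.left.isLocallyClosed_range
  -- the closure of the orbit is `Z`
  have hcl : closure (Set.range (a.orbitMap x).left) = (Z : Set X.left) := by
    by_contra hne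
    have hle : closure (Set.range (a.orbitMap x).left) ⊆ (Z : Set X.left) :=
      Z.isClosed.closure_subset_iff.mpr hOZ
    apply hmin ⟨closure (Set.range (a.orbitMap x).left), isClosed_closure⟩
      ⟨hOne.mono subset_closure, stable_closure a hOst⟩
    refine lt_of_le_of_ne ?_ ?_
    · exact hle
    · intro h
      apply hne
      exact congrArg (fun W : Closeds X.left => (W : Set X.left)) h
  -- the boundary is empty
  have hbd : IsClosed (closure (Set.range (a.orbitMap x).left) \ Set.range (a.orbitMap x).left) := by
    have := hOlc.isOpen_coborder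
    rw [coborder, isOpen_compl_iff] at this
    exact this
  have hempty : (Z : Set X.left) \ Set.range (a.orbitMap x).left = ∅ := by
    by_contra hne
    rw [hcl] at hbd
    apply hmin ⟨(Z : Set X.left) \ Set.range (a.orbitMap x).left, hbd⟩
      ⟨Set.nonempty_iff_ne_empty.mpr hne, stable_diff a hZst hOst⟩
    refine lt_of_le_of_ne ?_ ?_
    · exact Set.sdiff_subset
    · intro h
      obtain ⟨w, hw⟩ := hOne
      have hwZ : w ∈ (Z : Set X.left) := hOZ hw
      have : w ∈ (Z : Set X.left) \ Set.range (a.orbitMap x).left := by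
        have h' := congrArg (fun W : Closeds X.left => (W : Set X.left)) h
        simp only [Closeds.coe_mk] at h'
        rw [h']
        exact hwZ
      exact this.2 hw
  have hOeq : Set.range (a.orbitMap x).left = (Z : Set X.left) :=
    Set.Subset.antisymm hOZ (Set.sdiff_eq_empty.mp hempty)
  change IsClosed (Set.range (a.orbitMap x).left)
  rw [hOeq]
  exact Z.isClosed

end Groth.Agent.S14586
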