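import Groth.Statements.S14587
import Mathlib
import Groth.Agent.Lib.Helper11Homog

set_option autoImplicit false
universe u
open CategoryTheory MonoidalCategory CartesianMonoidalCategory MonObj GrpObj AlgebraicGeometry CategoryTheory.Limits
open AlgGrp

namespace Groth.Agent.S14587

open Groth.Agent.Lib.Helper11Homog Groth.Agent.Lib.Helper11SchImage

/-- a section of a reduced one-point scheme over a field is an isomorphism -/
theorem isIso_section_of_subsingleton {k : Type u} [Field k] {X : Scheme.{u}} [IsReduced X]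
    [Subsingleton X] (f : X ⟶ Spec (CommRingCat.of k)) (s : Spec (CommRingCat.of k) ⟶ X)
    (hs : s ≫ f = 𝟙 _) : IsIso s := by
  have hmono : Mono s := mono_of_mono_fac hs
  have hne : Nonempty ↥(Spec (CommRingCat.of k)) := inferInstance
  have hsurj : Surjective s := ⟨fun x => ⟨hne.some, Subsingleton.elim _ _⟩⟩
  have hflat : Flat s := by
    rw [Flat.iff_flat_stalkMap]
    intro x
    apply flat_of_isField_source
    exact isField_stalk_of_isMaxPt X _ (fun y _ => Subsingleton.elim _ _)
  have hqc : QuasiCompact s := ⟨fun U _ _ => (Set.toFinite _).isCompact⟩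
  exact Flat.isIso_of_surjective_of_mono s


/-- Let k be a perfect field and G a finite k-group scheme, r : G_red → G its reduced subgroup scheme (a
homomorphism and closed immersion from a reduced k-group scheme, surjective on underlying spaces)
and i₀ : G⁰ → G its neutral component (a homomorphism and open immersion from a connected k-group
scheme). Then the multiplication morphism G_red × G⁰ → G is an isomorphism, exhibiting G as the
semi-direct product of G⁰ by G_red. -/
theorem result (k : Type u) [Field k] [PerfectField k]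
    (G Gr G₀ : Over (Spec (CommRingCat.of k))) [GrpObj G] [GrpObj Gr] [GrpObj G₀] [IsFinite G.hom]
    (r : Gr ⟶ G) [IsMonHom r] [IsClosedImmersion r.left] [IsReduced Gr.left] [Surjective r.left]
    (i₀ : G₀ ⟶ G) [IsMonHom i₀] [IsOpenImmersion i₀.left] [ConnectedSpace ↥G₀.left] :
    IsIso ((r ⊗ₘ i₀) ≫ μ[G]) := by
  have hne : Nonempty ↥(Spec (CommRingCat.of k)) := inferInstance
  obtain ⟨pt⟩ := hne
  -- topology of `G₀`
  have hGn : IsLocallyNoetherian G.left := LocallyOfFiniteType.isLocallyNoetherian G.hom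
  have hqci : QuasiCompact i₀.left := inferInstance
  have hG₀lqf : LocallyQuasiFinite G₀.hom := by
    rw [← Over.w i₀]; infer_instance
  have hG₀qc : QuasiCompact G₀.hom := by
    rw [← Over.w i₀]; infer_instance
  have hGrqc : QuasiCompact Gr.hom := by
    rw [← Over.w r]; infer_instance
  have hdisc : DiscreteTopology ↥G₀.left := by
    rw [← isDiscrete_univ_iff]
    have h := G₀.hom.isDiscrete_preimage_singleton pt
    have e : (G₀.hom ⁻¹' {pt} : Set ↥G₀.left) = Set.univ := by
      ext x
      simp only [Set.mem_preimage, Set.mem_singleton_iff, Set.mem_univ, iff_true]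
      exact Subsingleton.elim _ _
    rwa [e] at h
  have hsub : Subsingleton ↥G₀.left := by
    have := (isPreconnected_univ (α := ↥G₀.left)).subsingleton
    exact ⟨fun x y => this (Set.mem_univ x) (Set.mem_univ y)⟩
  -- the open subscheme `U = r⁻¹(G₀)` of `G_red` is `Spec k`
  obtain ⟨U, hU⟩ : ∃ U : Gr.left.Opens, U = r.left ⁻¹ᵁ i₀.left.opensRange := ⟨_, rfl⟩
  have hUsub : Subsingleton ↥(U : Scheme.{u}) := by
    constructor
    rintro ⟨x, hx⟩ ⟨y, hy⟩
    rw [hU] at hx hy
    obtain ⟨x', hx'⟩ := hx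
    obtain ⟨y', hy'⟩ := hy
    have : r.left.base x = r.left.base y := by
      rw [← hx', ← hy', Subsingleton.elim x' y']
    exact Subtype.ext (r.left.isClosedEmbedding.injective this)
  have hηU : Set.range η[Gr].left.base ⊆ Set.range U.ι.base := by
    rintro _ ⟨x, rfl⟩
    rw [Scheme.Opens.range_ι, hU]
    refine ⟨η[G₀].left.base x, ?_⟩
    change (η[G₀].left ≫ i₀.left).base x = (η[Gr].left ≫ r.left).base x
    rw [← Over.comp_left, ← Over.comp_left, IsMonHom.one_hom i₀, IsMonHom.one_hom r]
  obtain ⟨s, hs⟩ : ∃ s : Spec (CommRingCat.of k) ⟶ (U : Scheme.{u}), s ≫ U.ι = η[Gr].left :=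
    ⟨IsOpenImmersion.lift U.ι η[Gr].left hηU, IsOpenImmersion.lift_fac _ _ _⟩
  have hsU : s ≫ (U.ι ≫ Gr.hom) = 𝟙 _ := by
    rw [← Category.assoc, hs]
    exact Over.w η[Gr]
  have hsiso : IsIso s := isIso_section_of_subsingleton (U.ι ≫ Gr.hom) s hsU
  -- hence `G_red ∩ G₀` is trivial
  have htriv : ∀ {T : Over (Spec (CommRingCat.of k))} (c : T ⟶ Gr) (d : T ⟶ G₀),
      c ≫ r = d ≫ i₀ → c = 1 := by
    intro T c d hcd
    have hrange : Set.range c.left.base ⊆ Set.range U.ι.base := by
      rintro _ ⟨x, rfl⟩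
      rw [Scheme.Opens.range_ι, hU]
      refine ⟨d.left.base x, ?_⟩
      change (d.left ≫ i₀.left).base x = (c.left ≫ r.left).base x
      rw [← Over.comp_left, ← Over.comp_left, hcd]
    obtain ⟨l, hl⟩ : ∃ l : T.left ⟶ (U : Scheme.{u}), l ≫ U.ι = c.left :=
      ⟨IsOpenImmersion.lift U.ι c.left hrange, IsOpenImmersion.lift_fac U.ι c.left hrange⟩
    have h1 : l = (l ≫ inv s) ≫ s := by
      rw [Category.assoc, IsIso.inv_hom_id, Category.comp_id]
    have h2 : c.left = (l ≫ inv s) ≫ η[Gr].left := by
      rw [← hl, ← hs, ← Category.assoc, ← h1]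
    have h3 : l ≫ inv s = T.hom := by
      have h4 : c.left ≫ Gr.hom = T.hom := Over.w c
      have h5 : η[Gr].left ≫ Gr.hom = 𝟙 _ := Over.w η[Gr]
      rw [← h4, h2, Category.assoc, h5]
      exact (Category.comp_id _).symm
    ext1
    rw [h2, h3]
    rfl
  obtain ⟨m, hm⟩ : ∃ m : Gr ⊗ G₀ ⟶ G, m = (r ⊗ₘ i₀) ≫ μ[G] := ⟨_, rfl⟩
  rw [← hm]
  have hmp : ∀ {T : Over (Spec (CommRingCat.of k))} (f : T ⟶ Gr ⊗ G₀),
      f ≫ m = ((f ≫ fst _ _) ≫ r) * ((f ≫ snd _ _) ≫ i₀) := by
    intro T f
    rw [hm, MonObj.mul_eq_mul, MonObj.comp_mul, MonObj.comp_mul, tensorHom_fst, tensorHom_snd,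
      Category.assoc, Category.assoc]
  -- mono
  have hmono : Mono m := by
    constructor
    intro T f g hfg
    rw [hmp f, hmp g] at hfg
    have h1 : ((g ≫ fst _ _)⁻¹ * (f ≫ fst _ _)) ≫ r = ((g ≫ snd _ _) * (f ≫ snd _ _)⁻¹) ≫ i₀ := by
      rw [MonObj.mul_comp, MonObj.mul_comp, GrpObj.inv_comp, GrpObj.inv_comp]
      rw [eq_mul_inv_of_mul_eq hfg]
      group
    have h2 := htriv _ _ h1
    have h3 : f ≫ fst _ _ = g ≫ fst _ _ := by
      rw [inv_mul_eq_one] at h2
      exact h2.symm
    have h4 : f ≫ snd _ _ = g ≫ snd _ _ := by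
      rw [h3] at hfg
      have := mul_left_cancel hfg
      have hi₀ : Mono i₀ := by
        have : Mono i₀.left := inferInstance
        exact Over.mono_of_mono_left i₀
      exact (cancel_mono i₀).mp this
    exact CartesianMonoidalCategory.hom_ext _ _ h3 h4
  have hmonol : Mono m.left := by
    have : Mono ((Over.forget _).map m) := inferInstance
    exact this
  -- surjective
  have hsurj : Surjective m.left := by
    constructor
    intro y
    obtain ⟨x, hx⟩ := r.left.surjective y
    refine ⟨(lift (𝟙 Gr) (toUnit Gr ≫ η[G₀])).left.base x, ?_⟩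
    rw [← Scheme.Hom.comp_apply, ← Over.comp_left, hmp, lift_fst, lift_snd, Category.id_comp,
      Category.assoc, IsMonHom.one_hom i₀, ← Hom.one_def, _root_.mul_one]
    exact hx
  -- flat
  have hflat : Flat m.left := by
    have e : m = (Gr ◁ i₀) ≫ ((fst Gr G ≫ r) * snd Gr G) := by
      rw [hm, tensorHom_def', Category.assoc]
      congr 1
    have h1 : Flat (Gr ◁ i₀).left := flat_whiskerLeft_left Gr i₀
    have hGrflat : Flat Gr.hom := inferInstance
    have h2 : Flat ((fst Gr G ≫ r) * snd Gr G).left := by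
      apply flat_of_shear ((fst Gr G ≫ r) * snd Gr G) ((fst Gr G ≫ r)⁻¹ * snd Gr G)
      · rw [MonObj.comp_mul, GrpObj.comp_inv, ← Category.assoc, lift_fst, lift_snd]
        group
      · rw [MonObj.comp_mul, ← Category.assoc, lift_fst, lift_snd]
        group
    rw [e, Over.comp_left]
    infer_instance
  -- quasi-compact
  have hqc : QuasiCompact m.left := by
    have h1 : QuasiCompact (Gr ⊗ G₀).hom := by
      rw [Over.tensorObj_hom]
      infer_instance
    have h2 : CompactSpace ↥(Gr ⊗ G₀).left := QuasiCompact.compactSpace_of_compactSpace (Gr ⊗ G₀).hom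
    infer_instance
  have hiso : IsIso m.left := Flat.isIso_of_surjective_of_mono m.left
  have : IsIso ((Over.forget _).map m) := hiso
  exact isIso_of_reflects_iso m (Over.forget _)

end Groth.Agent.S14587
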