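import Groth.Statements.S14588
import Groth.Agent.Lib.Helper25SmUnit

set_option autoImplicit false
universe u
open CategoryTheory MonoidalCategory CartesianMonoidalCategory MonObj GrpObj AlgebraicGeometry CategoryTheory.Limits
open AlgGrp

namespace Groth.Agent.S14588

/-- Let k be a field with algebraic closure K and G a k-group scheme locally of finite type. If the
local ring of G_K at its unit point is reduced, then G is smooth over k. -/
theorem result (k : Type u) [Field k]
    (G : Over (Spec (CommRingCat.of k))) [GrpObj G] [LocallyOfFiniteType G.hom]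
    (t : ↥((𝟙_ (Over (Spec (CommRingCat.of (AlgebraicClosure k))))).left))
    (h : _root_.IsReduced ↑((Red.bc (Spec.map (CommRingCat.ofHom (algebraMap k (AlgebraicClosure k)))) G).left.presheaf.stalk ((η[Red.bc (Spec.map (CommRingCat.ofHom (algebraMap k (AlgebraicClosure k)))) G]).left.base t))) :
    Smooth G.hom := by
  let K := AlgebraicClosure k
  let g : Spec (CommRingCat.of K) ⟶ Spec (CommRingCat.of k) :=
    Spec.map (CommRingCat.ofHom (algebraMap k K))
  let GK : Over (Spec (CommRingCat.of K)) := Red.bc g G
  haveI : LocallyOfFiniteType GK.hom :=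
    inferInstanceAs (LocallyOfFiniteType (pullback.snd G.hom g))
  -- the smooth locus of `G_K` is nonempty
  have hne : (GK.hom.smoothLocus : Set GK.left).Nonempty := by
    refine Groth.Agent.Lib.Helper25.SmUnit.nonempty_smoothLocus GK K
      ((η[GK]).left.base t) ?_
    letI := ((Scheme.ΓSpecIso (CommRingCat.of K)).inv ≫ GK.hom.appTop ≫
        GK.left.presheaf.germ ⊤ ((η[GK]).left.base t) trivial).hom.toAlgebra
    haveI : _root_.IsReduced ↑(GK.left.presheaf.stalk ((η[GK]).left.base t)) := h
    exact isReduced_of_injective
      (Algebra.TensorProduct.lid K (GK.left.presheaf.stalk ((η[GK]).left.base t))).toRingEquiv.toRingHom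
      (Algebra.TensorProduct.lid K _).injective
  have hsm : Smooth GK.hom := Groth.Agent.Lib.Helper25.SmUnit.smooth_of_nonempty_smoothLocus GK hne
  apply MorphismProperty.of_pullback_snd_of_descendsAlong
    (Q := @Surjective ⊓ @Flat ⊓ @QuasiCompact) (g := g)
  · exact ⟨⟨inferInstance, inferInstance⟩, inferInstance⟩
  · exact hsm

end Groth.Agent.S14588
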