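import Groth.Statements.S1460
import Mathlib

set_option autoImplicit false
universe u
open FlatMor

namespace Groth.Agent.S1460

open CategoryTheory Limits TensorProduct in
/-- Ring-level noetherian approximation: a finitely presented algebra is a pushout of a finitely
presented algebra over a finite-type `ℤ`-algebra. -/
lemma ring_approx (A B : Type u) [CommRing A] [CommRing B] [Algebra A B]
    [Algebra.FinitePresentation A B] :
    ∃ (A₀ B₀ : Type u) (_ : CommRing A₀) (_ : CommRing B₀) (i : A₀ →+* A) (j : A₀ →+* B₀)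
      (k : B₀ →+* B), Algebra.FiniteType ℤ A₀ ∧ j.FiniteType ∧
      IsPushout (CommRingCat.ofHom i) (CommRingCat.ofHom j)
        (CommRingCat.ofHom (algebraMap A B)) (CommRingCat.ofHom k) := by
  let P := Algebra.Presentation.ofFinitePresentation A B
  let e : A ⊗[P.Core] P.ModelOfHasCoeffs P.Core ≃ₐ[A] B := P.tensorModelOfHasCoeffsEquiv P.Core
  refine ⟨P.Core, P.ModelOfHasCoeffs P.Core, inferInstance, inferInstance, algebraMap _ _,
    algebraMap _ _, e.toAlgHom.toRingHom.comp Algebra.TensorProduct.includeRight.toRingHom,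
    inferInstance, ?_, ?_⟩
  · rw [RingHom.finiteType_algebraMap]
    infer_instance
  · refine (CommRingCat.isPushout_tensorProduct P.Core A (P.ModelOfHasCoeffs P.Core)).of_iso
      (Iso.refl _) (Iso.refl _) (Iso.refl _) e.toRingEquiv.toCommRingCatIso ?_ ?_ ?_ ?_
    · simp
    · simp
    · apply CommRingCat.hom_ext
      apply RingHom.ext
      intro x
      exact e.commutes x
    · apply CommRingCat.hom_ext
      apply RingHom.ext
      intro x
      rfl

open AlgebraicGeometry CategoryTheory Limits in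
/-- Let f : X → S be a morphism of finite presentation between affine schemes. Then f is the base change
of a morphism of finite type f₀ : X₀ → S₀ between affine schemes with S₀ of finite type over ℤ. -/
theorem result {X S : Scheme.{u}} (f : X ⟶ S) [IsAffine X] [IsAffine S] [LocallyOfFinitePresentation f] :
    ∃ (X₀ S₀ : Scheme.{u}) (f₀ : X₀ ⟶ S₀) (g : S ⟶ S₀) (g' : X ⟶ X₀), IsAffine X₀ ∧ IsAffine S₀ ∧ IsPullback g' f f₀ g ∧
      Algebra.FiniteType ℤ Γ(S₀, ⊤) ∧ LocallyOfFiniteType f₀ := by
  have hfp : (f.appTop).hom.FinitePresentation :=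
    (HasRingHomProperty.iff_of_isAffine (P := @LocallyOfFinitePresentation)).mp ‹_›
  algebraize [(f.appTop).hom]
  obtain ⟨A₀, B₀, _, _, i, j, k, hA₀, hj, hpo⟩ := ring_approx Γ(S, ⊤) Γ(X, ⊤)
  have hpb := (isPullback_SpecMap_of_isPushout _ _ _ _ hpo).flip
  have hft : Algebra.FiniteType ℤ Γ(Spec (CommRingCat.of A₀), ⊤) :=
    hA₀.equiv (Scheme.ΓSpecIso (CommRingCat.of A₀)).commRingCatIsoToRingEquiv.symm.toIntAlgEquiv
  refine ⟨Spec (CommRingCat.of B₀), Spec (CommRingCat.of A₀), Spec.map (CommRingCat.ofHom j),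
    S.isoSpec.hom ≫ Spec.map (CommRingCat.ofHom i), X.isoSpec.hom ≫ Spec.map (CommRingCat.ofHom k),
    inferInstance, inferInstance, ?_, hft, ?_⟩
  · refine hpb.of_iso X.isoSpec.symm (Iso.refl _) S.isoSpec.symm (Iso.refl _) ?_ ?_ ?_ ?_
    · simp
    · simp only [Iso.symm_hom]
      exact Scheme.isoSpec_inv_naturality f
    · simp
    · simp
  · rw [HasRingHomProperty.Spec_iff (P := @LocallyOfFiniteType)]
    exact hj

end Groth.Agent.S1460
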