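import Groth.Statements.S14609
import Groth.Agent.Lib.Helper21Fd

set_option autoImplicit false
universe u v
open CAlg

namespace Groth.Agent.S14609

open TensorProduct Topology Groth.Agent.Lib.Helper21Fd in
theorem key (A : Type u) [CommRing A]
    (M : Type v) (F : Type v) [AddCommGroup M] [Module A M] [Module.Finite A M]
    [AddCommGroup F] [Module A F] [Module.Finite A F] [Module.Free A F] (δ : M →ₗ[A] F)
    (x : PrimeSpectrum A) :
    Module.finrank x.asIdeal.ResidueField (LinearMap.ker (δ.baseChange x.asIdeal.ResidueField)) +
      Module.finrank A F = fd M x + fd (F ⧸ LinearMap.range δ) x := by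
  have : Nontrivial A := x.nontrivial
  have h1 := LinearMap.finrank_range_add_finrank_ker (δ.baseChange x.asIdeal.ResidueField)
  have h2 := Submodule.finrank_quotient_add_finrank (LinearMap.range (δ.baseChange x.asIdeal.ResidueField))
  have h3 : Module.finrank x.asIdeal.ResidueField (x.asIdeal.ResidueField ⊗[A] F) = Module.finrank A F := Module.finrank_baseChange
  have h4 : Module.finrank x.asIdeal.ResidueField ((x.asIdeal.ResidueField ⊗[A] F) ⧸ LinearMap.range (δ.baseChange x.asIdeal.ResidueField)) =
      fd (F ⧸ LinearMap.range δ) x := (quotBaseChangeEquiv x.asIdeal.ResidueField δ).finrank_eq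
  have h5 : fd M x = Module.finrank x.asIdeal.ResidueField (x.asIdeal.ResidueField ⊗[A] M) := rfl
  omega

open TensorProduct in
/-- Let A be a Noetherian ring, M a finitely generated A-module, F a finitely generated free A-module
and δ : M → F an A-linear map. Then the function on Spec A sending a prime p with residue field κ(p)
to the κ(p)-dimension of the kernel of δ ⊗ κ(p) : M ⊗ κ(p) → F ⊗ κ(p) is upper semicontinuous. -/
theorem result (A : Type u) [CommRing A]
    [IsNoetherianRing A] (M : Type v) (F : Type v) [AddCommGroup M] [Module A M] [Module.Finite A M]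
    [AddCommGroup F] [Module A F] [Module.Finite A F] [Module.Free A F] (δ : M →ₗ[A] F) :
    UpperSemicontinuous (fun x : PrimeSpectrum A =>
      Module.finrank x.asIdeal.ResidueField
        (LinearMap.ker (δ.baseChange x.asIdeal.ResidueField))) := by
  classical
  intro x0 y hy
  have e1 := Groth.Agent.Lib.Helper21Fd.fd_eventually_le M x0
  have e2 := Groth.Agent.Lib.Helper21Fd.fd_eventually_le (F ⧸ LinearMap.range δ) x0
  filter_upwards [e1, e2] with x hx1 hx2
  have k0 := key A M F δ x0
  have k1 := key A M F δ x
  dsimp only at hy ⊢
  omega

end Groth.Agent.S14609
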