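import Groth.Statements.S14611
import Groth.Agent.Lib.Helper21LocTensor2

set_option autoImplicit false
universe u
open FlatCx

namespace Groth.Agent.S14611

open CategoryTheory CategoryTheory.Limits in
theorem exact_of_isZero_homology {A : Type u} [CommRing A]
    (K : CochainComplex (ModuleCat.{u} A) ℤ) (d : ℤ) (h : IsZero (K.homology (d - 1))) :
    Function.Exact (K.d (d - 2) (d - 1)).hom (K.d (d - 1) d).hom := by
  have h1 : K.ExactAt (d - 1) := (HomologicalComplex.exactAt_iff_isZero_homology _ _).2 h
  rw [HomologicalComplex.exactAt_iff' K (d - 2) (d - 1) d (by simp; omega) (by simp)] at h1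
  exact (ShortComplex.ShortExact.moduleCat_exact_iff_function_exact _).1 h1

open CategoryTheory CategoryTheory.Limits in
/-- Let A be a Noetherian ring, Q a cochain complex whose terms are finitely generated projective
A-modules, and d an integer such that H^p(Q) = 0 for every p < d and H^p(Q ⊗_A A/m) = 0 for every p
< d and every maximal ideal m of A. Then Q^d / im(Q^{d-1} → Q^d), the degree-d term of the
truncation τ_{≥ d} Q, is a projective A-module, so that τ_{≥ d} Q is again a complex of projective
modules. (The published statement also asserts that Q → τ_{≥ d} Q is a quasi-isomorphism when H^p(Q)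
= 0 for p < d; this row omits that clause.) -/
theorem result (A : Type u) [CommRing A] [IsNoetherianRing A]
    (Q : CochainComplex (ModuleCat.{u} A) ℤ)
    (hQ : ∀ i, Module.Finite A (Q.X i) ∧ Module.Projective A (Q.X i)) (d : ℤ)
    (h1 : ∀ p < d, IsZero (Q.homology p))
    (h2 : ∀ (m : Ideal A) [m.IsMaximal], ∀ p < d,
      IsZero ((CohIII.tensorObj Q (ModuleCat.of A (A ⧸ m))).homology p)) :
    Module.Projective A (Q.opcycles d) := by
  have hex := exact_of_isZero_homology Q d (h1 (d - 1) (by omega))
  have hk : ∀ (m : Ideal A) [m.IsMaximal],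
      Function.Exact ((Q.d (d - 2) (d - 1)).hom.rTensor (A ⧸ m))
        ((Q.d (d - 1) d).hom.rTensor (A ⧸ m)) := by
    intro m hm
    exact exact_of_isZero_homology (CohIII.tensorObj Q (ModuleCat.of A (A ⧸ m))) d
      (h2 m (d - 1) (by omega))
  haveI := (hQ d).1
  haveI := (hQ d).2
  haveI := (hQ (d - 1)).1
  have hproj := Groth.Agent.Lib.Helper21.LocTensor.projective_coker
    (Q.d (d - 2) (d - 1)).hom (Q.d (d - 1) d).hom hex hk
  -- identify the opcycles with the quotient
  have hc := Q.opcyclesIsCokernel (d - 1) d (by simp)
  let e : Q.opcycles d ≅ ModuleCat.of A (Q.X d ⧸ LinearMap.range (Q.d (d - 1) d).hom) :=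
    IsColimit.coconePointUniqueUpToIso hc (ModuleCat.cokernelIsColimit (Q.d (d - 1) d))
  exact Module.Projective.of_equiv e.toLinearEquiv.symm

end Groth.Agent.S14611
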