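import Groth.Statements.S14612
import Groth.Agent.Lib.Helper3FlatCx
import Mathlib

set_option autoImplicit false
universe u
open FlatCx

namespace Groth.Agent.S14612

section Helpers
open CategoryTheory CategoryTheory.Limits Groth.Agent.Lib.Helper3

theorem flat_cycles_step {A : Type u} [CommRing A] (F : CochainComplex (ModuleCat.{u} A) ℤ)
    (i j : ℤ) (hij : i + 1 = j) (hX : Module.Flat A (F.X i)) (hZ : Module.Flat A (F.cycles j))
    (hH : IsZero (F.homology j)) : Module.Flat A (F.cycles i) := by
  have hprev : (ComplexShape.up ℤ).prev j = i := (ComplexShape.up ℤ).prev_eq' hij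
  have hnext : (ComplexShape.up ℤ).next i = j := (ComplexShape.up ℤ).next_eq' hij
  have hepi : Epi (F.toCycles i j) :=
    Preadditive.epi_of_isZero_cokernel' _ (F.homologyIsCokernel i j hprev) hH
  have hsurj : Function.Surjective (F.toCycles i j).hom := (ModuleCat.epi_iff_surjective _).mp hepi
  have hinj : Function.Injective (F.iCycles i).hom :=
    (ModuleCat.mono_iff_injective _).mp inferInstance
  have hinj' : Function.Injective (F.iCycles j).hom :=
    (ModuleCat.mono_iff_injective _).mp inferInstance
  have hex : (ShortComplex.mk (F.iCycles i) (F.d i j) (F.iCycles_d i j)).Exact :=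
    ShortComplex.exact_of_f_is_kernel _ (F.cyclesIsKernel i j hnext)
  have hex' := (ShortComplex.ShortExact.moduleCat_exact_iff_function_exact _).mp hex
  have hex'' : Function.Exact (F.iCycles i).hom (F.toCycles i j).hom := by
    intro x
    rw [← hex' x]
    have : (F.d i j).hom x = (F.iCycles j).hom ((F.toCycles i j).hom x) := by
      rw [← F.toCycles_i i j]
      rfl
    show (F.toCycles i j).hom x = 0 ↔ (F.d i j).hom x = 0
    rw [this]
    constructor
    · intro h
      rw [h, map_zero]
    · intro h
      apply hinj'
      rw [h, map_zero]
  exact flat_of_exact_of_flat_mid_right (F.iCycles i).hom (F.toCycles i j).hom hinj hsurj hex''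

end Helpers

open CategoryTheory CategoryTheory.Limits in

open CategoryTheory CategoryTheory.Limits in
/-- Let A be a commutative ring and F a cochain complex of flat A-modules which is bounded above (F^i =
0 for all large i) and whose cohomology H^p(F) vanishes for every p > d. Then the module of
d-cocycles Z^d = ker(F^d → F^{d+1}) is flat over A; hence the truncation τ_{≤ d} F is again a
complex of flat modules (and τ_{≤ d} F → F is a quasi-isomorphism, which is not restated).
Boundedness cannot be dropped. -/
theorem result (A : Type u) [CommRing A]
    (F : CochainComplex (ModuleCat.{u} A) ℤ) (hF : ∀ i, Module.Flat A (F.X i))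
    (hb : ∃ b : ℤ, ∀ i, b < i → IsZero (F.X i)) (d : ℤ) (hac : ∀ p, d < p → IsZero (F.homology p)) :
    Module.Flat A (F.cycles d) := by
  obtain ⟨b, hb⟩ := hb
  have claim : ∀ n : ℕ, ∀ i : ℤ, d ≤ i → b < i + n → Module.Flat A (F.cycles i) := by
    intro n
    induction n with
    | zero =>
      intro i _ hbi
      have hz : IsZero (F.X i) := hb i (by simpa using hbi)
      have hz' : IsZero (F.cycles i) := IsZero.of_mono (F.iCycles i) hz
      have : Subsingleton (F.cycles i) := ModuleCat.subsingleton_of_isZero hz'
      infer_instance
    | succ n ih =>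
      intro i hdi hbi
      have hZ : Module.Flat A (F.cycles (i + 1)) := ih (i + 1) (by omega) (by push_cast at hbi; omega)
      exact flat_cycles_step F i (i + 1) rfl (hF i) hZ (hac (i + 1) (by omega))
  exact claim (b - d + 1).toNat d le_rfl (by omega)

end Groth.Agent.S14612
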