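import Groth.Statements.S14613
import Mathlib
import Groth.Agent.Lib.Helper1TorD
-- import your own Groth.Agent.* helpers here

set_option autoImplicit false
universe u
open FlatCx

namespace Groth.Agent.S14613

open Groth.Agent.Lib.Helper1.Tor DerivedCategory CategoryTheory CategoryTheory.Limits
attribute [local instance] HasDerivedCategory.standard

open CategoryTheory CategoryTheory.Limits in
/-- Let A be a commutative ring (not necessarily Noetherian), C and D cochain complexes of flat
A-modules that are bounded above (zero in all large degrees), φ : C → D a quasi-isomorphism and M an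
arbitrary A-module. Then φ ⊗ id_M : C ⊗_A M → D ⊗_A M, the tensor product taken degreewise, is a
quasi-isomorphism. Boundedness cannot be dropped. -/
theorem result (A : Type u) [CommRing A]
    (C D : CochainComplex (ModuleCat.{u} A) ℤ)
    (hC : ∀ i, Module.Flat A (C.X i)) (hD : ∀ i, Module.Flat A (D.X i))
    (bC : ∃ b : ℤ, ∀ i, b < i → IsZero (C.X i)) (bD : ∃ b : ℤ, ∀ i, b < i → IsZero (D.X i))
    (φ : C ⟶ D) [QuasiIso φ] (M : ModuleCat.{u} A) :
    QuasiIso (((MonoidalCategory.tensorRight M).mapHomologicalComplex (ComplexShape.up ℤ)).map φ) := by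
  obtain ⟨b, hb⟩ := bC
  obtain ⟨b', hb'⟩ := bD
  have hφ : IsIso (Q.map φ) := (DerivedCategory.isIso_Q_map_iff_quasiIso _ φ).2 inferInstance
  have h1 : IsIso (Q.map ((TC M).map φ)) := isIso_Q_map_TC φ b b' hb hb' hC hD hφ M
  have h2 : QuasiIso ((TC M).map φ) := (DerivedCategory.isIso_Q_map_iff_quasiIso _ _).1 h1
  let e : MonoidalCategory.tensorLeft M ≅ MonoidalCategory.tensorRight M :=
    BraidedCategory.tensorLeftIsoTensorRight M
  let E := NatIso.mapHomologicalComplex e (ComplexShape.up ℤ)
  have h3 : ((MonoidalCategory.tensorRight M).mapHomologicalComplex (ComplexShape.up ℤ)).map φ =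
      (E.app C).inv ≫ (TC M).map φ ≫ (E.app D).hom := by
    rw [Iso.app_inv, Iso.app_hom, E.hom.naturality φ, Iso.inv_hom_id_app_assoc]
  rw [h3]
  infer_instance

end Groth.Agent.S14613
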