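import Groth.Statements.S14615


set_option autoImplicit false
universe u
open Formal2

namespace Groth.Agent.S14615

section
variable (G : ℕ → Type u) [∀ n, AddCommGroup (G n)] (t : ∀ n, G (n + 1) →+ G n)

/-- The operator `Φ(x) n = a n + t n (x (n+1))`. -/
def Phi (a : ∀ n, G n) (x : ∀ n, G n) : ∀ n, G n := fun n => a n + t n (x (n + 1))

/-- Iterates of `Phi` starting from `0`. -/
def it (a : ∀ n, G n) : ℕ → (∀ n, G n)
  | 0 => 0
  | (N + 1) => Phi G t a (it a N)

/-- successive differences -/
def dd (a : ∀ n, G n) : ℕ → (∀ n, G n)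
  | 0 => a
  | (N + 1) => fun n => t n (dd a N (n + 1))

theorem it_succ_sub (a : ∀ n, G n) (N : ℕ) (n : ℕ) :
    it G t a (N + 1) n - it G t a N n = dd G t a N n := by
  induction N generalizing n with
  | zero => simp [it, dd, Phi]
  | succ N ih =>
    change (a n + t n (it G t a (N + 1) (n + 1))) - (a n + t n (it G t a N (n + 1))) = t n (dd G t a N (n + 1))
    rw [← ih (n + 1), map_sub]
    abel

theorem dd_eq_zero (a : ∀ n, G n) (i j : ℕ)
    (hj : ∀ x : ∀ n, G n, (∀ n, i ≤ n → n < j → x n = t n (x (n + 1))) → x i = 0)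
    (N : ℕ) (hN : j ≤ N + i) : dd G t a N i = 0 := by
  have := hj (fun n => dd G t a (N + i - n) n) (fun n hin hnj => by
    have : N + i - n = (N + i - (n + 1)) + 1 := by omega
    change dd G t a (N + i - n) n = t n (dd G t a (N + i - (n + 1)) (n + 1))
    rw [this]
    rfl)
  simpa using this

theorem it_stable (a : ∀ n, G n) (i j : ℕ)
    (hj : ∀ x : ∀ n, G n, (∀ n, i ≤ n → n < j → x n = t n (x (n + 1))) → x i = 0)
    (N : ℕ) (hN : j ≤ N) : it G t a N i = it G t a j i := by
  induction N, hN using Nat.le_induction with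
  | base => rfl
  | succ N hN ih =>
    rw [← ih]
    have h1 := it_succ_sub G t a N i
    rw [dd_eq_zero G t a i j hj N (by omega), sub_eq_zero] at h1
    exact h1

end

/-- Let … → G_2 → G_1 → G_0 be an inverse system of abelian groups with transition maps t_n : G_{n+1} →
G_n, and suppose that for every i there is j ≥ i such that the composite transition map G_j → G_i is
zero; this is expressed by asking that every sequence (x_n) ∈ ∏ G_n satisfying x_n = t_n(x_{n+1})
for i ≤ n < j has x_i = 0. Then both lim G_n and lim¹ G_n vanish: the map (x_n) ↦ (x_n −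
t_n(x_{n+1})) on ∏ G_n, whose kernel is lim and whose cokernel is lim¹, is injective and surjective. -/
theorem result (G : ℕ → Type u)
    [∀ n, AddCommGroup (G n)] (t : ∀ n, G (n + 1) →+ G n)
    (h : ∀ i : ℕ, ∃ j : ℕ, i ≤ j ∧
      ∀ x : ∀ n, G n, (∀ n, i ≤ n → n < j → x n = t n (x (n + 1))) → x i = 0) :
    Formal2.limZero G t = ⊥ ∧ Function.Surjective (Formal2.towerDiff G t) := by
  constructor
  · rw [eq_bot_iff]
    intro x hx
    have hx' : ∀ n, x n = t n (x (n + 1)) := by
      intro n
      have := congrFun (AddMonoidHom.mem_ker.mp hx) n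
      change x n - t n (x (n + 1)) = 0 at this
      exact sub_eq_zero.mp this
    rw [AddSubgroup.mem_bot]
    funext i
    obtain ⟨j, _, hj⟩ := h i
    exact hj x (fun n _ _ => hx' n)
  · intro a
    choose J hJ1 hJ2 using h
    refine ⟨fun n => it G t a (J n) n, ?_⟩
    funext n
    change it G t a (J n) n - t n (it G t a (J (n + 1)) (n + 1)) = a n
    set N := max (J n) (J (n + 1)) with hN
    rw [← it_stable G t a n (J n) (hJ2 n) (N + 1) (by omega),
      ← it_stable G t a (n + 1) (J (n + 1)) (hJ2 (n + 1)) N (by omega)]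
    change (a n + t n (it G t a N (n + 1))) - _ = a n
    abel

end Groth.Agent.S14615
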