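import Groth.Statements.S14616
import Groth.Agent.Lib.Helper10ML

set_option autoImplicit false
universe u
open Formal2

namespace Groth.Agent.S14616

open CategoryTheory in
/-- Let … → G_2 → G_1 → G_0 be an inverse system of abelian groups with transition maps t_n : G_{n+1} →
G_n which satisfies the Mittag-Leffler condition: for every i there is j ≥ i such that for all k ≥ j
the images of G_k → G_i and G_j → G_i coincide. Then lim¹ G_n = 0, i.e. the map (x_n) ↦ (x_n −
t_n(x_{n+1})) on ∏ G_n is surjective. -/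
theorem result (G : ℕ → Type u) [∀ n, AddCommGroup (G n)]
    (t : ∀ n, G (n + 1) →+ G n)
    (h : (Functor.ofOpSequence (X := fun n => AddCommGrpCat.of (G n))
      (fun n => AddCommGrpCat.ofHom (t n)) ⋙ forget AddCommGrpCat).IsMittagLeffler) :
    Function.Surjective (Formal2.towerDiff G t) := by
  intro y
  classical
  let 𝒢 : ℕᵒᵖ ⥤ AddCommGrpCat.{u} := Functor.ofOpSequence (X := fun n => AddCommGrpCat.of (G n))
    (fun n => AddCommGrpCat.ofHom (t n))
  let F : ℕᵒᵖ ⥤ Type u := Functor.ofOpSequence (X := fun n => G n)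
    (fun n => TypeCat.ofHom (fun x : G (n + 1) => t n x + y n))
  let fF : ∀ (n m : ℕ) (_ : n ≤ m), G m → G n := fun n m h x => F.map (homOfLE h).op x
  let fG : ∀ (n m : ℕ) (_ : n ≤ m), G m →+ G n := fun n m h => (𝒢.map (homOfLE h).op).hom
  have hF1 : ∀ (n : ℕ) (x : G (n + 1)), fF n (n + 1) (Nat.le_succ n) x = t n x + y n := by
    intro n x
    have := Functor.ofOpSequence_map_homOfLE_succ (X := fun n => G n)
      (fun n => TypeCat.ofHom (fun x : G (n + 1) => t n x + y n)) n
    exact congrArg (fun φ => φ x) this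
  have hG1 : ∀ (n : ℕ) (x : G (n + 1)), fG n (n + 1) (Nat.le_succ n) x = t n x := by
    intro n x
    have := Functor.ofOpSequence_map_homOfLE_succ (X := fun n => AddCommGrpCat.of (G n))
      (fun n => AddCommGrpCat.ofHom (t n)) n
    exact congrArg (fun φ => φ x) this
  have hFid : ∀ (n : ℕ) (x : G n), fF n n le_rfl x = x := by
    intro n x
    have e : (homOfLE (le_refl n)).op = 𝟙 (Opposite.op n) := Subsingleton.elim _ _
    change F.map (homOfLE (le_refl n)).op x = x
    rw [e, F.map_id]; rfl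
  have hGid : ∀ (n : ℕ) (x : G n), fG n n le_rfl x = x := by
    intro n x
    have e : (homOfLE (le_refl n)).op = 𝟙 (Opposite.op n) := Subsingleton.elim _ _
    change 𝒢.map (homOfLE (le_refl n)).op x = x
    rw [e, 𝒢.map_id]; rfl
  have hFcomp : ∀ (n m k : ℕ) (h1 : n ≤ m) (h2 : m ≤ k) (x : G k),
      fF n k (h1.trans h2) x = fF n m h1 (fF m k h2 x) := by
    intro n m k h1 h2 x
    have e : (homOfLE (h1.trans h2)).op = (homOfLE h2).op ≫ (homOfLE h1).op :=
      Subsingleton.elim _ _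
    change F.map (homOfLE (h1.trans h2)).op x = F.map (homOfLE h1).op (F.map (homOfLE h2).op x)
    rw [e, F.map_comp]; rfl
  have hGcomp : ∀ (n m k : ℕ) (h1 : n ≤ m) (h2 : m ≤ k) (x : G k),
      fG n k (h1.trans h2) x = fG n m h1 (fG m k h2 x) := by
    intro n m k h1 h2 x
    have e : (homOfLE (h1.trans h2)).op = (homOfLE h2).op ≫ (homOfLE h1).op :=
      Subsingleton.elim _ _
    change 𝒢.map (homOfLE (h1.trans h2)).op x = 𝒢.map (homOfLE h1).op (𝒢.map (homOfLE h2).op x)
    rw [e, 𝒢.map_comp]; rfl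
  -- the twisted transition maps are translates of the original ones
  have hc : ∀ (n m : ℕ) (hnm : n ≤ m), ∃ c : G n, ∀ x : G m, fF n m hnm x = fG n m hnm x + c := by
    intro n m hnm
    induction m, hnm using Nat.le_induction with
    | base => exact ⟨0, fun x => by rw [hFid, hGid, add_zero]⟩
    | succ m hnm ih =>
      obtain ⟨c, hc⟩ := ih
      refine ⟨fG n m hnm (y m) + c, fun x => ?_⟩
      rw [hFcomp n m (m + 1) hnm (Nat.le_succ m), hGcomp n m (m + 1) hnm (Nat.le_succ m),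
        hF1, hG1, hc, map_add, add_assoc]
  -- Mittag-Leffler in terms of fG
  have hG_ML : ∀ n : ℕ, ∃ (m : ℕ) (hnm : n ≤ m), ∀ (k : ℕ) (hnk : n ≤ k) (x : G m),
      ∃ z : G k, fG n k hnk z = fG n m hnm x := by
    intro n
    obtain ⟨i, f, hf⟩ := h (Opposite.op n)
    have hni : n ≤ i.unop := leOfHom f.unop
    refine ⟨i.unop, hni, ?_⟩
    intro k hnk x
    have ef : f = (homOfLE hni).op := Subsingleton.elim _ _
    have hx : (𝒢 ⋙ forget AddCommGrpCat).map f x ∈
        Set.range ((𝒢 ⋙ forget AddCommGrpCat).map (homOfLE hnk).op) := hf _ ⟨x, rfl⟩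
    obtain ⟨z, hz⟩ := hx
    refine ⟨z, ?_⟩
    rw [ef] at hz
    exact hz
  have hF_ML : ∀ n : ℕ, ∃ (m : ℕ) (hnm : n ≤ m), ∀ (k : ℕ) (hnk : n ≤ k) (x : G m),
      ∃ z : G k, fF n k hnk z = fF n m hnm x := by
    intro n
    obtain ⟨m, hnm, hm⟩ := hG_ML n
    refine ⟨m, hnm, ?_⟩
    intro k hnk x
    rcases le_total k m with hkm | hmk
    · refine ⟨fF k m hkm x, ?_⟩
      rw [← hFcomp n k m hnk hkm]
    · obtain ⟨c, hc1⟩ := hc n m hnm
      obtain ⟨c', hc2⟩ := hc n k hnk
      have hne : ∃ d : G m, c' - c = fG n m hnm d := by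
        have h0 := hFcomp n m k hnm hmk (0 : G k)
        rw [hc2, hc1, map_zero, zero_add] at h0
        refine ⟨fF m k hmk (0 : G k), ?_⟩
        rw [h0]; abel
      obtain ⟨d, hd⟩ := hne
      obtain ⟨z, hz⟩ := hm k hnk (x - d)
      refine ⟨z, ?_⟩
      rw [hc2, hc1, hz, map_sub, ← hd]
      abel
  have hML : F.IsMittagLeffler := by
    intro j
    obtain ⟨m, hnm, hm⟩ := hF_ML j.unop
    refine ⟨Opposite.op m, (homOfLE hnm).op, ?_⟩
    intro k g
    rintro _ ⟨x, rfl⟩
    have hjk : j.unop ≤ k.unop := leOfHom g.unop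
    have eg : g = (homOfLE hjk).op := Subsingleton.elim _ _
    obtain ⟨z, hz⟩ := hm k.unop hjk x
    refine ⟨z, ?_⟩
    rw [eg]
    exact hz
  have hcof : ∃ s : Set ℕ, s.Countable ∧ ∀ i, ∃ j ∈ s, i ≤ j :=
    ⟨Set.univ, Set.countable_univ, fun i => ⟨i, trivial, le_rfl⟩⟩
  have : ∀ j, Nonempty (F.obj j) := fun j => ⟨(0 : G j.unop)⟩
  obtain ⟨s, hs⟩ := Groth.Agent.Lib.Helper10.nonempty_sections_of_isMittagLeffler hcof F hML
  let xs : ∀ n, G n := fun n => s (Opposite.op n)
  refine ⟨xs, ?_⟩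
  ext n
  change xs n - t n (xs (n + 1)) = y n
  have h1 : fF n (n + 1) (Nat.le_succ n) (xs (n + 1)) = xs n := hs (homOfLE (Nat.le_succ n)).op
  rw [hF1] at h1
  rw [← h1]; abel

end Groth.Agent.S14616
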