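import Groth.Statements.S14617
import Mathlib
-- import your own Groth.Agent.* helpers here

set_option autoImplicit false
universe u
open Formal2

namespace Groth.Agent.S14617.Aux
set_option autoImplicit false

namespace SnakeTower

section Abstract

variable {A' A A'' : Type u} [AddCommGroup A'] [AddCommGroup A] [AddCommGroup A'']
  (U : A' →+ A) (V : A →+ A'') (D' : A' →+ A') (D : A →+ A) (D'' : A'' →+ A'')

structure Hyp : Prop where
  inj : Function.Injective U
  surj : Function.Surjective V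
  vu : ∀ w, V (U w) = 0
  ex : ∀ y, V y = 0 → ∃ w, U w = y
  du : ∀ w, D (U w) = U (D' w)
  dv : ∀ y, D'' (V y) = V (D y)

variable {U V D' D D''} (H : Hyp U V D' D D'')

include H in
theorem exists_w (z : D''.ker) : ∃ w : A', ∃ y : A, V y = z ∧ U w = D y := by
  obtain ⟨y, hy⟩ := H.surj z
  have : V (D y) = 0 := by
    rw [← H.dv, hy]
    exact z.2
  obtain ⟨w, hw⟩ := H.ex _ this
  exact ⟨w, y, hy, hw⟩

noncomputable def delta0 (z : D''.ker) : A' ⧸ D'.range :=
  QuotientAddGroup.mk (Classical.choose (exists_w H z))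

theorem delta0_eq (z : D''.ker) (y : A) (w : A') (hy : V y = z) (hw : U w = D y) :
    delta0 H z = QuotientAddGroup.mk w := by
  obtain ⟨y₀, hy₀, hw₀⟩ := Classical.choose_spec (exists_w H z)
  set w₀ := Classical.choose (exists_w H z) with hw₀def
  change (QuotientAddGroup.mk w₀ : A' ⧸ D'.range) = QuotientAddGroup.mk w
  rw [QuotientAddGroup.eq]
  -- -w₀ + w ∈ range D'
  have h1 : V (y - y₀) = 0 := by rw [map_sub, hy, hy₀, sub_self]
  obtain ⟨c, hc⟩ := H.ex _ h1
  refine ⟨c, ?_⟩
  apply H.inj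
  rw [← H.du, hc, map_add, map_neg, hw₀, hw, map_sub]
  abel

noncomputable def delta : D''.ker →+ A' ⧸ D'.range :=
  AddMonoidHom.mk' (delta0 H) (by
    intro z₁ z₂
    obtain ⟨w₁, y₁, hy₁, hw₁⟩ := exists_w H z₁
    obtain ⟨w₂, y₂, hy₂, hw₂⟩ := exists_w H z₂
    rw [delta0_eq H z₁ y₁ w₁ hy₁ hw₁, delta0_eq H z₂ y₂ w₂ hy₂ hw₂,
      delta0_eq H (z₁ + z₂) (y₁ + y₂) (w₁ + w₂) (by rw [map_add, hy₁, hy₂]; rfl)
        (by rw [map_add, map_add, hw₁, hw₂])]
    rfl)

theorem delta_eq (z : D''.ker) (y : A) (w : A') (hy : V y = z) (hw : U w = D y) :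
    delta H z = QuotientAddGroup.mk w := delta0_eq H z y w hy hw

include H in
theorem alpha_mem (x : D'.ker) : U x ∈ D.ker := by
  rw [AddMonoidHom.mem_ker, H.du, (AddMonoidHom.mem_ker).mp x.2, map_zero]

include H in
theorem beta_mem (x : D.ker) : V x ∈ D''.ker := by
  rw [AddMonoidHom.mem_ker, H.dv, (AddMonoidHom.mem_ker).mp x.2, map_zero]

noncomputable def alpha : D'.ker →+ D.ker :=
  (U.comp D'.ker.subtype).codRestrict D.ker (fun x => alpha_mem H x)

noncomputable def beta : D.ker →+ D''.ker :=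
  (V.comp D.ker.subtype).codRestrict D''.ker (fun x => beta_mem H x)

include H in
theorem eps_le : D'.range ≤ D.range.comap U := by
  rintro _ ⟨w, rfl⟩
  exact ⟨U w, H.du w⟩

include H in
theorem zeta_le : D.range ≤ D''.range.comap V := by
  rintro _ ⟨w, rfl⟩
  exact ⟨V w, H.dv w⟩

noncomputable def eps : A' ⧸ D'.range →+ A ⧸ D.range :=
  QuotientAddGroup.map _ _ U (eps_le H)

noncomputable def zeta : A ⧸ D.range →+ A'' ⧸ D''.range :=
  QuotientAddGroup.map _ _ V (zeta_le H)

theorem alpha_coe (x : D'.ker) : ((alpha H x : D.ker) : A) = U x := rfl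
theorem beta_coe (x : D.ker) : ((beta H x : D''.ker) : A'') = V x := rfl
theorem eps_mk (w : A') : eps H (QuotientAddGroup.mk w) = QuotientAddGroup.mk (U w) := rfl
theorem zeta_mk (y : A) : zeta H (QuotientAddGroup.mk y) = QuotientAddGroup.mk (V y) := rfl

theorem alpha_inj : Function.Injective (alpha H) := by
  intro x y hxy
  apply Subtype.ext
  apply H.inj
  have := congrArg (fun q : D.ker => (q : A)) hxy
  exact this

theorem ex1 : (alpha H).range = (beta H).ker := by
  apply le_antisymm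
  · rintro _ ⟨x, rfl⟩
    rw [AddMonoidHom.mem_ker]
    apply Subtype.ext
    rw [beta_coe, alpha_coe, H.vu]
    rfl
  · intro x hx
    rw [AddMonoidHom.mem_ker] at hx
    have h1 : V x = 0 := by
      have := congrArg (fun q : D''.ker => (q : A'')) hx
      exact this
    obtain ⟨w, hw⟩ := H.ex _ h1
    have hwk : w ∈ D'.ker := by
      rw [AddMonoidHom.mem_ker]
      apply H.inj
      rw [← H.du, hw, map_zero]
      exact x.2
    refine ⟨⟨w, hwk⟩, ?_⟩
    apply Subtype.ext
    exact hw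

theorem ex2 : (beta H).range = (delta H).ker := by
  apply le_antisymm
  · rintro _ ⟨x, rfl⟩
    rw [AddMonoidHom.mem_ker]
    rw [delta_eq H (beta H x) x 0 rfl (by rw [map_zero]; exact ((AddMonoidHom.mem_ker).mp x.2).symm)]
    rfl
  · intro z hz
    rw [AddMonoidHom.mem_ker] at hz
    obtain ⟨w, y, hy, hw⟩ := exists_w H z
    rw [delta_eq H z y w hy hw, QuotientAddGroup.eq_zero_iff] at hz
    obtain ⟨c, hc⟩ := hz
    have hk : y - U c ∈ D.ker := by
      rw [AddMonoidHom.mem_ker, map_sub, H.du, hc, hw, sub_self]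
    refine ⟨⟨y - U c, hk⟩, ?_⟩
    apply Subtype.ext
    rw [beta_coe]
    change V (y - U c) = z
    rw [map_sub, H.vu, sub_zero, hy]

theorem ex3 : (delta H).range = (eps H).ker := by
  apply le_antisymm
  · rintro _ ⟨z, rfl⟩
    rw [AddMonoidHom.mem_ker]
    obtain ⟨w, y, hy, hw⟩ := exists_w H z
    rw [delta_eq H z y w hy hw, eps_mk, hw, QuotientAddGroup.eq_zero_iff]
    exact ⟨y, rfl⟩
  · intro q hq
    rw [AddMonoidHom.mem_ker] at hq
    obtain ⟨w, rfl⟩ := QuotientAddGroup.mk_surjective q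
    rw [eps_mk, QuotientAddGroup.eq_zero_iff] at hq
    obtain ⟨y, hy⟩ := hq
    have hz : V y ∈ D''.ker := by
      rw [AddMonoidHom.mem_ker, H.dv, hy, H.vu]
    refine ⟨⟨V y, hz⟩, ?_⟩
    exact delta_eq H ⟨V y, hz⟩ y w rfl hy.symm

theorem ex4 : (eps H).range = (zeta H).ker := by
  apply le_antisymm
  · rintro _ ⟨q, rfl⟩
    obtain ⟨w, rfl⟩ := QuotientAddGroup.mk_surjective q
    rw [AddMonoidHom.mem_ker, eps_mk, zeta_mk, H.vu]
    rfl
  · intro q hq
    rw [AddMonoidHom.mem_ker] at hq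
    obtain ⟨y, rfl⟩ := QuotientAddGroup.mk_surjective q
    rw [zeta_mk, QuotientAddGroup.eq_zero_iff] at hq
    obtain ⟨z, hz⟩ := hq
    obtain ⟨y₀, rfl⟩ := H.surj z
    have h1 : V (y - D y₀) = 0 := by rw [map_sub, ← H.dv, hz, sub_self]
    obtain ⟨w, hw⟩ := H.ex _ h1
    refine ⟨QuotientAddGroup.mk w, ?_⟩
    rw [eps_mk, hw, QuotientAddGroup.eq]
    refine ⟨y₀, ?_⟩
    abel

theorem zeta_surj : Function.Surjective (zeta H) := by
  intro q
  obtain ⟨z, rfl⟩ := QuotientAddGroup.mk_surjective q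
  obtain ⟨y, rfl⟩ := H.surj z
  exact ⟨QuotientAddGroup.mk y, rfl⟩

end Abstract

section Tower

variable (G' G G'' : ℕ → Type u)
    [∀ n, AddCommGroup (G' n)] [∀ n, AddCommGroup (G n)] [∀ n, AddCommGroup (G'' n)]
    (t' : ∀ n, G' (n + 1) →+ G' n) (t : ∀ n, G (n + 1) →+ G n) (t'' : ∀ n, G'' (n + 1) →+ G'' n)
    (u : ∀ n, G' n →+ G n) (v : ∀ n, G n →+ G'' n)

/-- levelwise map on products -/
def piMap {X Y : ℕ → Type u} [∀ n, AddCommGroup (X n)] [∀ n, AddCommGroup (Y n)]
    (f : ∀ n, X n →+ Y n) : (∀ n, X n) →+ (∀ n, Y n) where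
  toFun x := fun n => f n (x n)
  map_zero' := by ext n; simp
  map_add' x y := by ext n; simp

theorem hyp (hu : ∀ n x, t n (u (n + 1) x) = u n (t' n x)) (hv : ∀ n x, t'' n (v (n + 1) x) = v n (t n x))
    (hinj : ∀ n, Function.Injective (u n)) (hsurj : ∀ n, Function.Surjective (v n))
    (hex : ∀ n, (v n).ker = (u n).range) :
    Hyp (piMap u) (piMap v) (Formal2.towerDiff G' t') (Formal2.towerDiff G t)
      (Formal2.towerDiff G'' t'') where
  inj := by
    intro x y hxy
    funext n
    exact hinj n (congrFun hxy n)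
  surj := by
    intro z
    choose y hy using fun n => hsurj n (z n)
    exact ⟨y, funext hy⟩
  vu := by
    intro w
    funext n
    change v n (u n (w n)) = 0
    have : u n (w n) ∈ (v n).ker := by rw [hex]; exact ⟨_, rfl⟩
    exact this
  ex := by
    intro y hy
    have : ∀ n, ∃ w, u n w = y n := by
      intro n
      have h1 : y n ∈ (v n).ker := congrFun hy n
      rw [hex] at h1
      exact h1
    choose w hw using this
    exact ⟨w, funext hw⟩
  du := by
    intro w
    funext n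
    change u n (w n) - t n (u (n + 1) (w (n + 1))) = u n (w n - t' n (w (n + 1)))
    rw [hu, map_sub]
  dv := by
    intro y
    funext n
    change v n (y n) - t'' n (v (n + 1) (y (n + 1))) = v n (y n - t n (y (n + 1)))
    rw [hv, map_sub]

theorem main (hu : ∀ n x, t n (u (n + 1) x) = u n (t' n x)) (hv : ∀ n x, t'' n (v (n + 1) x) = v n (t n x))
    (hinj : ∀ n, Function.Injective (u n)) (hsurj : ∀ n, Function.Surjective (v n))
    (hex : ∀ n, (v n).ker = (u n).range) :
    ∃ (α : Formal2.limZero G' t' →+ Formal2.limZero G t) (β : Formal2.limZero G t →+ Formal2.limZero G'' t'')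
      (δ : Formal2.limZero G'' t'' →+ Formal2.limOne G' t')
      (ε : Formal2.limOne G' t' →+ Formal2.limOne G t) (ζ : Formal2.limOne G t →+ Formal2.limOne G'' t''),
      (∀ (x : Formal2.limZero G' t') (n : ℕ), (α x : ∀ n, G n) n = u n ((x : ∀ n, G' n) n)) ∧
      (∀ (x : Formal2.limZero G t) (n : ℕ), (β x : ∀ n, G'' n) n = v n ((x : ∀ n, G n) n)) ∧
      (∀ (z : Formal2.limZero G'' t'') (y : ∀ n, G n) (w : ∀ n, G' n),
          (∀ n, v n (y n) = (z : ∀ n, G'' n) n) → (∀ n, u n (w n) = Formal2.towerDiff G t y n) →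
            δ z = (QuotientAddGroup.mk w : Formal2.limOne G' t')) ∧
      (∀ y : ∀ n, G' n, ε (QuotientAddGroup.mk y : Formal2.limOne G' t') =
          (QuotientAddGroup.mk (fun n => u n (y n)) : Formal2.limOne G t)) ∧
      (∀ y : ∀ n, G n, ζ (QuotientAddGroup.mk y : Formal2.limOne G t) =
          (QuotientAddGroup.mk (fun n => v n (y n)) : Formal2.limOne G'' t'')) ∧
      Function.Injective α ∧ α.range = β.ker ∧ β.range = δ.ker ∧ δ.range = ε.ker ∧ ε.range = ζ.ker ∧
      Function.Surjective ζ := by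
  have H := hyp G' G G'' t' t t'' u v hu hv hinj hsurj hex
  refine ⟨alpha H, beta H, delta H, eps H, zeta H, fun x n => rfl, fun x n => rfl, ?_,
    fun y => rfl, fun y => rfl, alpha_inj H, ex1 H, ex2 H, ex3 H, ex4 H, zeta_surj H⟩
  intro z y w hy hw
  exact delta_eq H z y w (funext hy) (funext hw)

end Tower

end SnakeTower

end Groth.Agent.S14617.Aux

namespace Groth.Agent.S14617

/-- Let 0 → (G'_n) → (G_n) → (G''_n) → 0 be a short exact sequence of inverse systems of abelian groups
indexed by ℕ: maps u_n : G'_n → G_n and v_n : G_n → G''_n commuting with the transition maps, with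
u_n injective, v_n surjective and ker v_n = im u_n for every n. Writing lim and lim¹ for the kernel
and cokernel of (x_n) ↦ (x_n − t_n(x_{n+1})) on the product, there is an exact sequence 0 → lim G' →
lim G → lim G'' → lim¹ G' → lim¹ G → lim¹ G'' → 0 in which the four outer maps are the ones induced
by u and v on products and the connecting map δ sends a compatible sequence (z_n) to the class of
the unique (w_n) with u_n(w_n) = y_n − t_n(y_{n+1}), for any levelwise lift (y_n) of (z_n). -/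
theorem result (G' G G'' : ℕ → Type u)
    [∀ n, AddCommGroup (G' n)] [∀ n, AddCommGroup (G n)] [∀ n, AddCommGroup (G'' n)]
    (t' : ∀ n, G' (n + 1) →+ G' n) (t : ∀ n, G (n + 1) →+ G n) (t'' : ∀ n, G'' (n + 1) →+ G'' n)
    (u : ∀ n, G' n →+ G n) (v : ∀ n, G n →+ G'' n)
    (hu : ∀ n x, t n (u (n + 1) x) = u n (t' n x)) (hv : ∀ n x, t'' n (v (n + 1) x) = v n (t n x))
    (hinj : ∀ n, Function.Injective (u n)) (hsurj : ∀ n, Function.Surjective (v n))
    (hex : ∀ n, (v n).ker = (u n).range) :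
    ∃ (α : Formal2.limZero G' t' →+ Formal2.limZero G t) (β : Formal2.limZero G t →+ Formal2.limZero G'' t'')
      (δ : Formal2.limZero G'' t'' →+ Formal2.limOne G' t')
      (ε : Formal2.limOne G' t' →+ Formal2.limOne G t) (ζ : Formal2.limOne G t →+ Formal2.limOne G'' t''),
      (∀ (x : Formal2.limZero G' t') (n : ℕ), (α x : ∀ n, G n) n = u n ((x : ∀ n, G' n) n)) ∧
      (∀ (x : Formal2.limZero G t) (n : ℕ), (β x : ∀ n, G'' n) n = v n ((x : ∀ n, G n) n)) ∧
      (∀ (z : Formal2.limZero G'' t'') (y : ∀ n, G n) (w : ∀ n, G' n),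
          (∀ n, v n (y n) = (z : ∀ n, G'' n) n) → (∀ n, u n (w n) = Formal2.towerDiff G t y n) →
            δ z = (QuotientAddGroup.mk w : Formal2.limOne G' t')) ∧
      (∀ y : ∀ n, G' n, ε (QuotientAddGroup.mk y : Formal2.limOne G' t') =
          (QuotientAddGroup.mk (fun n => u n (y n)) : Formal2.limOne G t)) ∧
      (∀ y : ∀ n, G n, ζ (QuotientAddGroup.mk y : Formal2.limOne G t) =
          (QuotientAddGroup.mk (fun n => v n (y n)) : Formal2.limOne G'' t'')) ∧
      Function.Injective α ∧ α.range = β.ker ∧ β.range = δ.ker ∧ δ.range = ε.ker ∧ ε.range = ζ.ker ∧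
      Function.Surjective ζ := by
  exact Aux.SnakeTower.main G' G G'' t' t t'' u v hu hv hinj hsurj hex

end Groth.Agent.S14617
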