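import Groth.Statements.S14619
import Groth.Agent.Lib.Helper21MumD

set_option autoImplicit false
universe u
open Coherent

namespace Groth.Agent.S14619

open CategoryTheory CategoryTheory.Limits AlgebraicGeometry MonoidalCategory
open Groth.Agent.Lib.Helper16.CechLow Groth.Agent.Lib.Helper21.CechMod
  Groth.Agent.Lib.Helper21.CechBC Groth.Agent.Lib.Helper21.MumC Groth.Agent.Lib.Helper21.MumD

theorem key (A : Type u) [CommRing A] [IsNoetherianRing A] (X : Scheme.{u})
    [X.Over (Spec (CommRingCat.of A))]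
    [IsProper (X ↘ Spec (CommRingCat.of A))] (F : X.Modules) (hF : Coh.IsCoh F)
    (hfl : FlatMod.IsFlatOver (X ↘ Spec (CommRingCat.of A)) F) (d' : ℕ) (b : ℤ)
    (hd : ∀ p : ℕ, b < (p : ℤ) → Subsingleton (Coh.HH X F p))
    (hd' : ∀ (y : ↑(Spec (CommRingCat.of A))) (p : ℕ), p < d' →
      Subsingleton (CohIII.fiberH (X ↘ Spec (CommRingCat.of A)) F y p)) :
    ∃ L : CochainComplex (ModuleCat.{u} A) ℤ,
      (∀ i, Module.Finite A (L.X i) ∧ Module.Projective A (L.X i)) ∧
      (∀ i : ℤ, i < (d' : ℤ) ∨ b < i → IsZero (L.X i)) ∧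
      ∀ (B : Type u) [CommRing B] [Algebra A B] (p : ℕ),
        Nonempty (Coh.HH (pullback (X ↘ Spec (CommRingCat.of A)) (Spec.map (CommRingCat.ofHom (algebraMap A B))))
            ((Scheme.Modules.pullback (pullback.fst (X ↘ Spec (CommRingCat.of A))
              (Spec.map (CommRingCat.ofHom (algebraMap A B))))).obj F) p ≃+
          CohIII.T L (p : ℤ) (ModuleCat.of A B)) := by
  haveI : F.IsQuasicoherent := hF.1
  haveI : CompactSpace X :=
    QuasiCompact.compactSpace_of_compactSpace (X ↘ Spec (CommRingCat.of A))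
  obtain ⟨ι, hfin, U, hcov, hU1, hU⟩ := exists_cover A X
  have hflat : ∀ n, Module.Flat A ((CA A F U).X n) :=
    fun n => flat_CX A F U hfl (isAffineOpen_Ux U hU) n
  have hfinH : ∀ p, Module.Finite A ((CA A F U).homology p) := fun p => by
    obtain ⟨e⟩ := nonempty_linearEquiv_homology A F U hcov hU p
    have := Groth.Agent.S0002.result A X F hF p
    exact Module.Finite.equiv e
  have hN : ∀ (M : ModuleCat.{u} A) (p : ℕ), Nat.card ι ≤ p → (TL M (CA A F U)).ExactAt p :=
    fun M p hp => exactAt_TL_of_le A F U hcov hU hU1 M p hp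
  have hb : ∀ p : ℕ, b < (p : ℤ) → (CA A F U).ExactAt p := fun p hp => by
    obtain ⟨e⟩ := nonempty_linearEquiv_homology A F U hcov hU p
    have := hd p hp
    rw [HomologicalComplex.exactAt_iff_isZero_homology]
    haveI : Subsingleton ↑((CA A F U).homology p) := e.symm.injective.subsingleton
    exact ModuleCat.isZero_of_subsingleton _
  have ha : ∀ (m : Ideal A) [m.IsMaximal] (p : ℕ), (p : ℤ) < (d' : ℤ) →
      (TL (ModuleCat.of A (A ⧸ m)) (CA A F U)).ExactAt p := fun m hm p hp => by
    let y : ↑(Spec (CommRingCat.of A)) := (⟨m, hm.isPrime⟩ : PrimeSpectrum A)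
    haveI : y.asIdeal.IsMaximal := hm
    exact exactAt_TL_quot_of_fiberH A F U hcov hU y p (hd' y p (by exact_mod_cast hp))
  obtain ⟨L, hL, hLf, hiso⟩ := Groth.Agent.Lib.Helper21.MumC.main (CA A F U) hflat hfinH
    (Nat.card ι) hN (d' : ℤ) b hb ha
  refine ⟨L, hLf, hL, fun B _ _ p => ?_⟩
  obtain ⟨e⟩ := hiso (ModuleCat.of A B) p
  letI : (pullback (X ↘ Spec (CommRingCat.of A))
      (Spec.map (CommRingCat.ofHom (algebraMap A B)))).Over (Spec (CommRingCat.of B)) :=
    ⟨pullback.snd _ _⟩
  obtain ⟨e'⟩ := nonempty_addEquiv_homology A B (pullback.fst _ _)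
    (IsPullback.of_hasPullback (X ↘ Spec (CommRingCat.of A))
      (Spec.map (CommRingCat.ofHom (algebraMap A B)))) F U hcov hU p
  exact ⟨e'.trans e.toLinearEquiv.toAddEquiv⟩

open CategoryTheory CategoryTheory.Limits AlgebraicGeometry in
/-- Let A be a Noetherian ring, X a proper scheme over Spec A and F a coherent O_X-module flat over Spec
A. Suppose H^p(X, F) = 0 for all p > d and H^p(X_y, F|X_y) = 0 for every point y of Spec A and every
p < d'. Then there is a cochain complex L of finitely generated projective A-modules, with L^i = 0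
unless d' ≤ i ≤ d and with L = 0 when all H^p(X, F) vanish, such that for every A-algebra B and
every p the cohomology H^p(X ×_A Spec B, ξ^*F) of the pulled-back module is isomorphic to H^p(L ⊗_A
B). Only the existence of these isomorphisms of abelian groups is asserted (no naturality in B). -/
theorem result (A : Type u) [CommRing A] [IsNoetherianRing A] (X : Scheme.{u}) [X.Over (Spec (CommRingCat.of A))]
    [IsProper (X ↘ Spec (CommRingCat.of A))] (F : X.Modules) (hF : Coh.IsCoh F)
    (hfl : FlatMod.IsFlatOver (X ↘ Spec (CommRingCat.of A)) F) (d' d : ℕ)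
    (hd : ∀ p : ℕ, d < p → Subsingleton (Coh.HH X F p))
    (hd' : ∀ (y : ↑(Spec (CommRingCat.of A))) (p : ℕ), p < d' →
      Subsingleton (CohIII.fiberH (X ↘ Spec (CommRingCat.of A)) F y p)) :
    ∃ L : CochainComplex (ModuleCat.{u} A) ℤ,
      (∀ i, Module.Finite A (L.X i) ∧ Module.Projective A (L.X i)) ∧
      (∀ i : ℤ, i < (d' : ℤ) ∨ (d : ℤ) < i → IsZero (L.X i)) ∧
      ((∀ p : ℕ, Subsingleton (Coh.HH X F p)) → ∀ i, IsZero (L.X i)) ∧
      ∀ (B : Type u) [CommRing B] [Algebra A B] (p : ℕ),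
        Nonempty (Coh.HH (pullback (X ↘ Spec (CommRingCat.of A)) (Spec.map (CommRingCat.ofHom (algebraMap A B))))
            ((Scheme.Modules.pullback (pullback.fst (X ↘ Spec (CommRingCat.of A))
              (Spec.map (CommRingCat.ofHom (algebraMap A B))))).obj F) p ≃+
          CohIII.T L (p : ℤ) (ModuleCat.of A B)) := by
  by_cases hall : ∀ p : ℕ, Subsingleton (Coh.HH X F p)
  · obtain ⟨L, h1, h2, h3⟩ := key A X F hF hfl d' (min (d : ℤ) ((d' : ℤ) - 1))
      (fun p _ => hall p) hd'
    refine ⟨L, h1, fun i hi => h2 i ?_, fun _ i => h2 i ?_, h3⟩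
    · rcases hi with hi | hi
      · exact Or.inl hi
      · exact Or.inr (lt_of_le_of_lt (min_le_left _ _) hi)
    · by_cases hi : i < (d' : ℤ)
      · exact Or.inl hi
      · exact Or.inr (lt_of_le_of_lt (min_le_right _ _) (by lia))
  · obtain ⟨L, h1, h2, h3⟩ := key A X F hF hfl d' (d : ℤ)
      (fun p hp => hd p (by exact_mod_cast hp)) hd'
    exact ⟨L, h1, h2, fun h => absurd h hall, h3⟩

end Groth.Agent.S14619
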