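import Groth.Statements.S14622
import Mathlib
import Groth.Agent.S0634
-- import your own Groth.Agent.* helpers here

set_option autoImplicit false
open CategoryTheory AlgebraicGeometry
universe u
open EtBase

namespace Groth.Agent.S14622

open CategoryTheory.Limits Opposite

open Groth.Agent.Lib.Helper16.EtStalk Groth.Agent.Lib.Helper16.SmallEtale
open Groth.Agent.Lib.Helper16.StalkPull Groth.Agent.Lib.Helper16.EtSupp
open Groth.Agent.S0100 Groth.Agent.S0101


set_option backward.isDefEq.respectTransparency.types false in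
lemma fiberIso_hom_left {X Y : Scheme.{u}} (f : X ⟶ Y) {Ω : Type u} [Field Ω] [IsSepClosed Ω]
    (ξ : Spec (CommRingCat.of Ω) ⟶ X) (U : Y.Etale)
    (x : (Scheme.pointSmallEtale ξ).fiber.obj ((EtCoh.bc f).obj U)) :
    (((fiberIso f ξ).hom.app U x).left : Spec (CommRingCat.of Ω) ⟶ U.left) =
      (x.left : Spec (CommRingCat.of Ω) ⟶ ((EtCoh.bc f).obj U).left) ≫ pullback.fst U.hom f := by
  simp [fiberIso, Adjunction.compCoyonedaIso]
  erw [Adjunction.homEquiv_counit]
  simp [MorphismProperty.Over.pullbackCompForgetIso]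
  congr 1

set_option backward.isDefEq.respectTransparency.types false in
lemma section_eq_zero {Y Y' : Scheme.{u}} (g : Y' ⟶ Y) [Surjective g]
    (F : EtCoh.Ab Y) (U : Y.Etale) (σ : F.obj.obj (op U))
    (h0 : ((EtCoh.pullPushAdj g).unit.app F).hom.app (op U) σ = 0) : σ = 0 := by
  apply Groth.Agent.S0102.section_eq_zero_of_locally
  intro p
  suffices hp : p ∉ EtShriek.sectSupp F U σ by
    simp only [EtShriek.sectSupp, Set.mem_ofPred_eq, not_forall, not_not] at hp
    obtain ⟨W', k, ⟨w, hw⟩, hk⟩ := hp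
    exact ⟨W', k, w, hw, hk⟩
  have hsurj : Surjective (pullback.fst U.hom g) := inferInstance
  obtain ⟨p', hp'⟩ := hsurj.surj p
  obtain ⟨Ω, _, _, ξ', x₀, hx₀⟩ := exists_geometric_point ((EtCoh.bc g).obj U) p'
  obtain ⟨u, hx, hul⟩ : ∃ u : (Scheme.pointSmallEtale (ξ' ≫ g)).fiber.obj U,
      (fiberIso g ξ').inv.app U u = x₀ ∧
      (u.left : Spec (CommRingCat.of Ω) ⟶ U.left) =
        (x₀.left : Spec (CommRingCat.of Ω) ⟶ ((EtCoh.bc g).obj U).left) ≫ pullback.fst U.hom g := by
    refine ⟨ConcreteCategory.hom ((fiberIso g ξ').hom.app U) x₀, ?_, ?_⟩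
    · exact Groth.Agent.S0634.iso_inv_hom_apply (fiberIso g ξ') U x₀
    · exact fiberIso_hom_left g ξ' U x₀
  have hc := germ_compat g ξ' F U u σ
  rw [hx, h0] at hc
  have hc' : (stalkPullIso g ξ').hom.app F (germ (ξ' ≫ g) F U u σ) = 0 :=
    hc.trans (map_zero (germ ξ' ((EtCoh.pull g).obj F) ((EtCoh.bc g).obj U) x₀).hom)
  have hinj : Function.Injective ((stalkPullIso g ξ').hom.app F) :=
    ((ConcreteCategory.isIso_iff_bijective _).mp inferInstance).1
  have hg0 : germ (ξ' ≫ g) F U u σ = 0 := hinj (hc'.trans (map_zero _).symm)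
  refine (germ_eq_zero_iff F (ξ' ≫ g) U u σ p ?_).mp hg0
  obtain ⟨xl, hxl, hxp⟩ : ∃ xl : Spec (CommRingCat.of Ω) ⟶ pullback U.hom g,
      xl = x₀.left ∧ xl default = p' := ⟨x₀.left, rfl, hx₀⟩
  have e2 : (xl ≫ pullback.fst U.hom g) default = p := by
    rw [Scheme.Hom.comp_apply, hxp, hp']
  have e3 : (u.left : Spec (CommRingCat.of Ω) ⟶ U.left) = xl ≫ pullback.fst U.hom g := by
    rw [hul, hxl]
    rfl
  exact (congrArg (fun m : Spec (CommRingCat.of Ω) ⟶ U.left => m default) e3).trans e2


set_option backward.isDefEq.respectTransparency.types false in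

/-- Let g : Y' → Y be a morphism of schemes which is surjective on points. Then for every abelian sheaf
F on the small étale site of Y the unit F → g_* g⁻¹ F of the adjunction between inverse image and
direct image is a monomorphism. -/
theorem result {Y Y' : Scheme.{u}} (g : Y' ⟶ Y) [Surjective g]
    (F : EtCoh.Ab Y) : Mono ((EtCoh.pullPushAdj g).unit.app F) := by
  have : Sheaf.IsLocallyInjective ((EtCoh.pullPushAdj g).unit.app F) := by
    apply Presheaf.isLocallyInjective_of_injective
    intro U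
    induction U using Opposite.rec with | _ U => ?_
    rw [injective_iff_map_eq_zero]
    intro σ h0
    exact section_eq_zero g F U σ h0
  exact Sheaf.mono_of_isLocallyInjective _

end Groth.Agent.S14622
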