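import Groth.Statements.S14623
import Mathlib
import Groth.Agent.Lib.Helper23KPlusAdj
-- import your own Groth.Agent.* helpers here

set_option autoImplicit false
open CategoryTheory CategoryTheory.Limits
universe w v u
open CohDer

namespace Groth.Agent.S14623

open Groth.Agent.Lib.Helper23KPlusAdj

theorem inverts_of_exact {A B : Type u} [Category.{v} A] [Category.{v} B]
    [Abelian A] [Abelian B] [HasDerivedCategory.{w} A] [HasDerivedCategory.{w} B]
    (L : A ⥤ B) [L.Additive] [PreservesFiniteLimits L] [PreservesFiniteColimits L] :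
    (HomotopyCategory.Plus.quasiIso A).IsInvertedBy (L.mapHomotopyCategoryPlus ⋙ DerivedCategory.Plus.Qh) := by
  intro X Y f hf
  obtain ⟨φ, hφ⟩ := (HomotopyCategory.quotient A (ComplexShape.up ℤ)).map_surjective f.hom
  have hq : QuasiIso φ := by
    rw [HomotopyCategory.Plus.quasiIso_iff, ← hφ] at hf
    exact (HomologicalComplex.mem_quasiIso_iff _).1
      ((HomotopyCategory.quotient_map_mem_quasiIso_iff φ).1 hf)
  have hq' : QuasiIso ((L.mapHomologicalComplex (ComplexShape.up ℤ)).map φ) := inferInstance
  apply Localization.inverts DerivedCategory.Plus.Qh (HomotopyCategory.Plus.quasiIso B)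
  rw [HomotopyCategory.Plus.quasiIso_iff]
  show HomotopyCategory.quasiIso B _ ((L.mapHomotopyCategory (ComplexShape.up ℤ)).map f.hom)
  rw [← hφ]
  exact (HomotopyCategory.quotient_map_mem_quasiIso_iff _).2
    ((HomologicalComplex.mem_quasiIso_iff _).2 hq')

/-- Let A and B be abelian categories with enough injectives, L : A ⥤ B an exact additive functor and R
: B ⥤ A an additive right adjoint of L. Then on bounded below derived categories the functor induced
by L (written as its total right derived functor, L being exact) is left adjoint to the right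
derived functor of R; the existence of an adjunction is asserted. -/
theorem result {A B : Type u} [Category.{v} A] [Category.{v} B]
    [Abelian A] [Abelian B] [HasDerivedCategory.{w} A] [HasDerivedCategory.{w} B]
    [EnoughInjectives A] [EnoughInjectives B] {L : A ⥤ B} {R : B ⥤ A} (adj : L ⊣ R)
    [L.Additive] [R.Additive] [PreservesFiniteLimits L] [PreservesFiniteColimits L] :
    Nonempty (L.rightDerivedFunctorPlus ⊣ R.rightDerivedFunctorPlus) := by
  have hinv := inverts_of_exact L
  have hiso : IsIso L.rightDerivedFunctorPlusUnit :=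
    Functor.isIso_of_isRightDerivedFunctor_of_inverts L.rightDerivedFunctorPlus
      L.rightDerivedFunctorPlusUnit hinv
  let e : DerivedCategory.Plus.Qh ⋙ L.rightDerivedFunctorPlus ≅
      L.mapHomotopyCategoryPlus ⋙ DerivedCategory.Plus.Qh := (asIso L.rightDerivedFunctorPlusUnit).symm
  let W₁ := HomotopyCategory.Plus.quasiIso A
  let W₂ := HomotopyCategory.Plus.quasiIso B
  let RL := L.rightDerivedFunctorPlus
  let RR := R.rightDerivedFunctorPlus
  let α : DerivedCategory.Plus.Qh ⋙ RL ⟶ L.mapHomotopyCategoryPlus ⋙ DerivedCategory.Plus.Qh := e.hom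
  let β : R.mapHomotopyCategoryPlus ⋙ DerivedCategory.Plus.Qh ⟶ DerivedCategory.Plus.Qh ⋙ RR :=
    R.rightDerivedFunctorPlusUnit
  have h1 : RL.IsLeftDerivedFunctor α W₁ := Functor.isLeftDerivedFunctor_of_inverts W₁ RL e
  have h2 : (RL ⋙ RR).IsLeftDerivedFunctor
      ((Functor.associator _ _ _).inv ≫ Functor.whiskerRight α RR) W₁ := by
    let e' : DerivedCategory.Plus.Qh ⋙ (RL ⋙ RR) ≅
        (L.mapHomotopyCategoryPlus ⋙ DerivedCategory.Plus.Qh) ⋙ RR :=
      (Functor.associator _ _ _).symm ≪≫ Functor.isoWhiskerRight e RR
    exact Functor.isLeftDerivedFunctor_of_inverts W₁ (RL ⋙ RR) e'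
  have h3 : RR.IsRightDerivedFunctor β W₂ := inferInstance
  have h4 : (RR ⋙ RL).IsRightDerivedFunctor
      (Functor.whiskerRight β RL ≫ (Functor.associator _ _ _).hom) W₂ := by
    have hder : (HomotopyCategory.Plus.localizerMorphism B).Derives
        ((R.mapHomotopyCategoryPlus ⋙ DerivedCategory.Plus.Qh) ⋙ RL) := by
      intro X Y f hf
      have : IsIso f := hf
      infer_instance
    apply hder.isRightDerivedFunctor_of_isIso
    intro X₁
    have : IsIso (β.app ((HomotopyCategory.Plus.localizerMorphism B).functor.obj X₁)) := by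
      dsimp only [β]
      infer_instance
    simp only [NatTrans.comp_app, Functor.whiskerRight_app, Functor.associator_hom_app]
    infer_instance
  exact ⟨(adjPlus adj).derived W₁ W₂ α β⟩

end Groth.Agent.S14623
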