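import Groth.Statements.S14625
import Groth.Agent.Lib.Helper21MuConst

set_option autoImplicit false
open CategoryTheory AlgebraicGeometry
universe u
open EtBase

namespace Groth.Agent.S14625

open Polynomial in
/-- a strictly henselian local ring in which `n` is invertible contains a root of the `n`-th
cyclotomic polynomial -/
lemma exists_cyclotomic_root (A : Type u) [CommRing A]
    (hA : EtCoh.IsStrictlyHenselianLocalRing A) (n : ℕ) (hn : 1 ≤ n) (hu : IsUnit ((n : ℕ) : A)) :
    ∃ ζ : A, aeval ζ (cyclotomic n ℤ) = 0 := by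
  obtain ⟨hH, hsep⟩ := hA
  let k := IsLocalRing.ResidueField A
  have hnk : ((n : ℕ) : k) ≠ 0 := by
    have h := hu.map (algebraMap A k)
    rw [map_natCast] at h
    exact h.ne_zero
  haveI : NeZero ((n : ℕ) : k) := ⟨hnk⟩
  have hs : (cyclotomic n k).Separable := separable_cyclotomic n k
  have hdeg : (cyclotomic n k).degree ≠ 0 := by
    rw [degree_cyclotomic]
    have := Nat.totient_pos.2 (by omega : 0 < n)
    exact_mod_cast this.ne'
  obtain ⟨z, hz⟩ := IsSepClosed.exists_root (cyclotomic n k) hdeg hs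
  have h1 : aeval z (cyclotomic n A) = 0 := by
    rw [aeval_def, eval₂_eq_eval_map, map_cyclotomic]
    exact hz
  have h2 : aeval z (derivative (cyclotomic n A)) ≠ 0 := by
    rw [aeval_def, eval₂_eq_eval_map, ← derivative_map, map_cyclotomic]
    have h3 : aeval z (cyclotomic n k) = 0 := by
      rw [coe_aeval_eq_eval]
      exact hz
    have h4 := hs.aeval_derivative_ne_zero h3
    rwa [coe_aeval_eq_eval] at h4
  have key : HenselianLocalRing A → ∀ f : A[X], f.Monic → ∀ a₀ : IsLocalRing.ResidueField A,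
      aeval a₀ f = 0 → aeval a₀ (derivative f) ≠ 0 →
        ∃ a : A, f.IsRoot a ∧ IsLocalRing.residue A a = a₀ :=
    ((HenselianLocalRing.TFAE A).out 0 1).1
  obtain ⟨a, ha, -⟩ := key hH (cyclotomic n A) (cyclotomic.monic n A) z h1 h2
  refine ⟨a, ?_⟩
  rw [aeval_def, eval₂_eq_eval_map, map_cyclotomic]
  exact ha

/-- Let A be a strictly henselian local ring, n ≥ 1 an integer invertible in A, and X a scheme over Spec
A. Then the étale sheaf μ_n of n-th roots of unity on X is isomorphic to the constant sheaf with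
value ℤ/n. Only the existence of an isomorphism is asserted; it depends on the choice of a primitive
n-th root of unity in A. -/
theorem result (A : Type u) [CommRing A]
    (hA : EtCoh.IsStrictlyHenselianLocalRing A) (n : ℕ) (hn : 1 ≤ n) (hu : IsUnit (n : A))
    (X : Scheme.{u}) (f : X ⟶ Spec (CommRingCat.of A)) :
    Nonempty (EtCoh.mu X n ≅ EtCoh.const X (ZMod n)) := by
  haveI : NeZero n := ⟨by omega⟩
  obtain ⟨ζ₀, hζ₀⟩ := exists_cyclotomic_root A hA n hn hu
  let φ : A →+* Γ(X, ⊤) := ((Scheme.ΓSpecIso (CommRingCat.of A)).inv ≫ f.appTop).hom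
  have hζ := Groth.Agent.Lib.Helper21.MuConst.aeval_map_root n φ ζ₀ hζ₀
  have hunit : IsUnit ((n : ℕ) : Γ(X, ⊤)) := by
    have h := hu.map φ
    rwa [map_natCast] at h
  exact Groth.Agent.Lib.Helper21.MuConst.nonempty_iso n (φ ζ₀) hζ hunit

end Groth.Agent.S14625
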