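import Groth.Statements.S14628
import Groth.Agent.Lib.Helper21CechEtSurj2

set_option autoImplicit false
open CategoryTheory CategoryTheory.Limits AlgebraicGeometry
universe u
open EtBase

namespace Groth.Agent.S14628

open CategoryTheory CategoryTheory.Limits Opposite AlgebraicGeometry
  Groth.Agent.Lib.Helper21.CechEtSurj Groth.Agent.Lib.Helper21.CechEtSES in
theorem surj_sections {X : Scheme.{u}}
    [∀ U : X.Etale, HasFiniteProducts (Over U)] (S : ShortComplex (EtCoh.Ab X)) (hS : S.ShortExact)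
    (h1 : (∀ (U : X.Etale) (ι : Type (u + 1)) (Uf : ι → Over U),
      (∀ x : ↥(U.left), ∃ (i : ι) (y : ↥((Uf i).left.left)), (Uf i).hom.left.base y = x) →
      ∀ p : ℕ, 0 < p → IsZero (EtCech.cechH Uf S.X₁.obj p)))
    (V : X.Etale) : Function.Surjective (S.g.hom.app (op V)).hom := by
  apply surjective_of_cech_h1 S hS V
  intro T hT
  have hTeq : Sieve.ofArrows
      (fun i : (Σ V' : X.Etale, {φ : V' ⟶ V // T φ}) => (Over.mk i.2.1).left)
      (fun i => (Over.mk i.2.1).hom) = T := by
    apply le_antisymm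
    · rw [Sieve.ofArrows, Sieve.generate_le_iff]
      rintro Z φ ⟨i⟩
      exact i.2.2
    · intro Z φ hφ
      exact Sieve.ofArrows_mk _ _ (⟨Z, ⟨φ, hφ⟩⟩ : Σ V' : X.Etale, {φ : V' ⟶ V // T φ})
  refine ⟨Σ V' : X.Etale, {φ : V' ⟶ V // T φ}, fun i => Over.mk i.2.1, fun i => i.2.2, ?_, ?_⟩
  · rw [hTeq]
    exact hT
  · apply h1 V _ _ ?_ 1 one_pos
    have hcov : Sieve.ofArrows
        (fun i : (Σ V' : X.Etale, {φ : V' ⟶ V // T φ}) => i.1)
        (fun i => i.2.1) ∈ X.smallEtaleTopology V := by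
      have := hTeq ▸ hT
      exact this
    rw [Scheme.ofArrows_mem_smallEtaleTopology_iff] at hcov
    intro x
    have hx : x ∈ ⋃ i : (Σ V' : X.Etale, {φ : V' ⟶ V // T φ}), Set.range (i.2.1).left := by
      rw [hcov]
      exact Set.mem_univ x
    obtain ⟨i, y, hy⟩ := Set.mem_iUnion.1 hx
    exact ⟨i, y, hy⟩

/-- On the small étale site of a scheme, let 0 → F' → F → F'' → 0 be a short exact sequence of abelian
étale sheaves on a scheme X. If F' and F are flasque in the Čech sense (for every étale U over X and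
every jointly surjective family of étale U-schemes, Čech cohomology in positive degrees vanishes),
then so is F''. The finite products of the over categories (the fibre products entering the Čech
complexes) are carried as instance hypotheses. -/
theorem result {X : Scheme.{u}}
    [∀ U : X.Etale, HasFiniteProducts (Over U)] (S : ShortComplex (EtCoh.Ab X)) (hS : S.ShortExact)
    (h1 : (∀ (U : X.Etale) (ι : Type (u + 1)) (Uf : ι → Over U),
      (∀ x : ↥(U.left), ∃ (i : ι) (y : ↥((Uf i).left.left)), (Uf i).hom.left.base y = x) →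
      ∀ p : ℕ, 0 < p → IsZero (EtCech.cechH Uf S.X₁.obj p)))
    (h2 : (∀ (U : X.Etale) (ι : Type (u + 1)) (Uf : ι → Over U),
      (∀ x : ↥(U.left), ∃ (i : ι) (y : ↥((Uf i).left.left)), (Uf i).hom.left.base y = x) →
      ∀ p : ℕ, 0 < p → IsZero (EtCech.cechH Uf S.X₂.obj p)))
    (U : X.Etale) (ι : Type (u + 1)) (Uf : ι → Over U)
    (hU : ∀ x : ↥(U.left), ∃ (i : ι) (y : ↥((Uf i).left.left)), (Uf i).hom.left.base y = x)
    (p : ℕ) (hp : 0 < p) :
    IsZero (EtCech.cechH Uf S.X₃.obj p) := by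
  have hsurj := surj_sections S hS h1
  haveI : Mono S.f := hS.mono_f
  have hfg : S.f.hom ≫ S.g.hom = 0 := by
    have := S.zero
    exact congrArg (fun m : S.X₁ ⟶ S.X₃ => m.hom) this
  exact Groth.Agent.Lib.Helper21.CechEtSES.isZero_X₃ Uf
    (ShortComplex.mk S.f.hom S.g.hom hfg)
    (fun i => Groth.Agent.Lib.Helper21.CechEtSurj.injective_of_mono_site S.f _)
    (fun i x hx => Groth.Agent.Lib.Helper21.CechEtSurj.exists_of_isKernel_site S hS _ x hx)
    (fun i => hsurj _) p (h2 U ι Uf hU p hp) (h1 U ι Uf hU (p + 1) (Nat.succ_pos p))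

end Groth.Agent.S14628
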