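import Groth.Statements.S14631
import Mathlib.AlgebraicGeometry.Morphisms.Etale
import Mathlib.AlgebraicGeometry.Morphisms.QuasiSeparated

set_option autoImplicit false
open CategoryTheory AlgebraicGeometry
universe u
open EtBase

namespace Groth.Agent.S14631

/-- Let X be a quasi-separated scheme and U an étale X-scheme. Then there is a jointly surjective family
of étale U-schemes each of which is quasi-compact and quasi-separated, hence of finite presentation,
over X. (Sheaves on the small étale site are therefore determined by their values on étale X-schemes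
of finite presentation; that equivalence is not stated here.) -/
theorem result (X : Scheme.{u})
    [QuasiSeparatedSpace ↥X] (U : X.Etale) :
    ∃ (ι : Type u) (V : ι → Over U), (∀ i, QuasiCompact (V i).left.hom ∧ QuasiSeparated (V i).left.hom) ∧
      ∀ x : ↥(U.left), ∃ (i : ι) (y : ↥((V i).left.left)), (V i).hom.left.base y = x := by
  classical
  refine ⟨U.left.affineOpens, fun W => ?_, ?_, ?_⟩
  · -- the object
    let W' : X.Etale := Scheme.Etale.mk (W.1.ι ≫ U.hom)
    exact Over.mk (Y := W') (MorphismProperty.Over.homMk W.1.ι rfl trivial)
  · intro W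
    have : IsAffine (W.1 : Scheme) := W.2
    constructor
    · change QuasiCompact (W.1.ι ≫ U.hom)
      have : CompactSpace ↥(W.1 : Scheme) := inferInstance
      exact quasiCompact_of_compactSpace (Y := X) _
    · change QuasiSeparated (W.1.ι ≫ U.hom)
      have : QuasiSeparatedSpace ↥(W.1 : Scheme) := inferInstance
      exact QuasiSeparated.of_quasiSeparatedSpace (Y := X) _
  · intro x
    obtain ⟨W, hW, hxW, -⟩ := (U.left.isBasis_affineOpens).exists_subset_of_mem_open
      (Set.mem_univ x) isOpen_univ
    obtain ⟨W, rfl⟩ : ∃ W' : U.left.Opens, (W' : Set U.left) = W := by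
      obtain ⟨W', hW', rfl⟩ := hW
      exact ⟨W', rfl⟩
    have hWa : IsAffineOpen W := by
      obtain ⟨W', hW', h⟩ := hW
      have : W' = W := TopologicalSpace.Opens.ext h
      exact this ▸ hW'
    exact ⟨⟨W, hWa⟩, ⟨x, hxW⟩, rfl⟩

end Groth.Agent.S14631
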