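import Groth.Statements.S1464
import Groth.Agent.Lib.Helper3GenFibDim
import Groth.Agent.Lib.Helper3LocusOne
import Groth.Agent.Lib.Helper3IndConsLim
import Groth.Agent.Lib.Helper26FGZ
import Groth.Agent.S0591
import Groth.Agent.S9186
import Mathlib

set_option autoImplicit false
universe u
open FlatMor

namespace Groth.Agent.S1464

open AlgebraicGeometry CategoryTheory Limits Groth.Agent.Lib.Helper3.LocusBC Groth.Agent.Lib.Helper3.LocusOne
  Groth.Agent.Lib.Helper3.IndConsLim Groth.Agent.Lib.Helper26.FGZ Groth.Agent.Lib.Helper3.DimCons in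
theorem isIndCons_dim_eq (d : ℕ) :
    ConsProp.IsIndCons.{u} (fun Y T g => topologicalKrullDim ↥Y ∈ ({(d : WithBot ℕ∞)} : Set _)) := by
  refine ⟨(isCons_dim_mem {(d : WithBot ℕ∞)}).1, ?_⟩
  intro X S u _ _ _ _ hη
  obtain ⟨V, hV, hall⟩ := Groth.Agent.Lib.Helper3.GenFibDim.exists_open_fibre_dim_eq u d hη
  exact ⟨genericPoint S, mem_interior.mpr ⟨V, fun y hy => hall y hy, V.isOpen, hV⟩⟩

open AlgebraicGeometry CategoryTheory Limits Groth.Agent.Lib.Helper3.LocusBC Groth.Agent.Lib.Helper3.LocusOne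
  Groth.Agent.Lib.Helper3.IndConsLim Groth.Agent.Lib.Helper26.FGZ Groth.Agent.Lib.Helper3.DimCons in
theorem aux {X S : Scheme.{u}} (f : X ⟶ S) [IsAffine X] [IsAffine S]
    [LocallyOfFinitePresentation f] (d : ℕ)
    (hd : ∀ s : S, topologicalKrullDim ↑(f.fiber s) = d) :
    ∃ (X₀ S₀ : Scheme.{u}) (f₀ : X₀ ⟶ S₀) (g : S ⟶ S₀) (g' : X ⟶ X₀), IsAffine X₀ ∧ IsAffine S₀ ∧
      IsPullback g' f f₀ g ∧
      Algebra.FiniteType ℤ Γ(S₀, ⊤) ∧ LocallyOfFiniteType f₀ ∧
      ∀ s₀ : S₀, topologicalKrullDim ↑(f₀.fiber s₀) = d := by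
  let P : ∀ ⦃Y T : Scheme.{u}⦄, (Y ⟶ T) → Prop :=
    fun Y T g => topologicalKrullDim ↥Y ∈ ({(d : WithBot ℕ∞)} : Set _)
  have hP : ConsProp.IsIndCons P := isIndCons_dim_eq d
  let A : Type u := Γ(S, ⊤)
  let D := specDiagram A
  let c := specCone A
  let hc := specIsLimit A
  let e : S ≅ c.pt := S.isoSpec
  let u : X ⟶ c.pt := f ≫ e.hom
  haveI : LocallyOfFinitePresentation u := inferInstance
  haveI : IsAffine c.pt := by
    show IsAffine (Spec _)
    infer_instance
  haveI : QuasiCompact u := inferInstance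
  haveI : QuasiSeparated u := inferInstance
  have hsq : IsPullback (𝟙 X) f u e.hom := IsPullback.of_horiz_isIso ⟨by simp [u]⟩
  -- descend to a stage
  obtain ⟨i, Xi, ui, qX, a1, a2, a3, hX⟩ := Groth.Agent.S0591.result D c hc X u
  -- make the model affine
  have hY0 : IsPullback (c.π.app i) (𝟙 c.pt) (𝟙 (D.obj i)) (c.π.app i) := by
    haveI : IsIso (𝟙 c.pt) := IsIso.id _
    haveI : IsIso (𝟙 (D.obj i)) := IsIso.id _
    exact IsPullback.of_vert_isIso ⟨(Category.comp_id _).trans (Category.id_comp _).symm⟩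
  haveI : CompactSpace Xi := QuasiCompact.compactSpace_of_compactSpace ui
  haveI : QuasiSeparatedSpace Xi := quasiSeparatedSpace_of_quasiSeparated ui
  obtain ⟨i', φ', Xi', Yi', fi, gi, pY, pX, h1, h2, hfi⟩ :=
    Groth.Agent.S9186.result D c hc i ui (𝟙 (D.obj i)) u (𝟙 c.pt) (c.π.app i) qX hY0 hX
  -- the affine model over stage `i'`
  let v : Xi' ⟶ D.obj i' := fi ≫ gi
  have hv : IsPullback pX v ui (D.map φ') := by
    have := h2.paste_vert h1
    rwa [Category.comp_id] at this
  haveI : IsIso gi := by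
    haveI : IsIso (𝟙 (D.obj i)) := IsIso.id _
    exact h1.isIso_snd_of_isIso
  haveI : IsAffine Yi' := IsAffine.of_isIso gi
  haveI : IsAffine Xi' := isAffine_of_isAffineHom fi
  haveI : LocallyOfFinitePresentation v :=
    MorphismProperty.of_isPullback (P := @LocallyOfFinitePresentation) hv a1
  haveI : QuasiCompact v := MorphismProperty.of_isPullback (P := @QuasiCompact) hv a2
  haveI : QuasiSeparated v := MorphismProperty.of_isPullback (P := @QuasiSeparated) hv a3
  -- `X` over the model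
  let g'' : X ⟶ Xi' := hv.lift qX (u ≫ c.π.app i') (by rw [Category.assoc, c.w φ', hX.w])
  have hXv : IsPullback g'' u v (c.π.app i') := by
    refine IsPullback.of_right ?_ (hv.lift_snd _ _ _) hv
    rw [hv.lift_fst, c.w φ']
    exact hX
  -- the locus
  have hE : ProCons.IsIndConstructible (ConsProp.locus P v) := isIndConstructible_locus hP v
  have key := forall_mem_iff_eventually D c hc i' hE
  have hlocu : ConsProp.locus P u = c.π.app i' ⁻¹' ConsProp.locus P v :=
    locus_eq_preimage hP.1 hXv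
  have hlocf : ConsProp.locus P f = e.hom ⁻¹' ConsProp.locus P u :=
    locus_eq_preimage hP.1 hsq
  obtain ⟨j, φ, hj⟩ := key.mp (fun s => by
    show s ∈ c.π.app i' ⁻¹' ConsProp.locus P v
    rw [← hlocu]
    obtain ⟨s', rfl⟩ := e.hom.surjective s
    show s' ∈ e.hom ⁻¹' ConsProp.locus P u
    rw [← hlocf]
    exact hd s')
  -- the final model
  let hpb := IsPullback.of_hasPullback v (D.map φ)
  haveI : IsAffine (D.obj j) := inferInstance
  haveI : IsAffine (D.obj i') := inferInstance
  haveI : IsAffine (pullback v (D.map φ)) := inferInstance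
  let g₁ : X ⟶ pullback v (D.map φ) :=
    hpb.lift g'' (u ≫ c.π.app j) (by rw [Category.assoc, c.w φ, hXv.w])
  have hX₁ : IsPullback g₁ u (pullback.snd v (D.map φ)) (c.π.app j) := by
    refine IsPullback.of_right ?_ (hpb.lift_snd _ _ _) hpb
    rw [hpb.lift_fst, c.w φ]
    exact hXv
  have hfin : IsPullback (𝟙 X ≫ g₁) f (pullback.snd v (D.map φ)) (e.hom ≫ c.π.app j) :=
    hsq.paste_horiz hX₁
  rw [Category.id_comp] at hfin
  refine ⟨pullback v (D.map φ), D.obj j, pullback.snd v (D.map φ), e.hom ≫ c.π.app j, g₁,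
    inferInstance, inferInstance, hfin, ?_, inferInstance, ?_⟩
  · -- finite type over ℤ
    let R : CommRingCat.{u} := CommRingCat.of j.unop.1
    have hR : Algebra.FiniteType ℤ R := ⟨by
      have := j.unop.2
      exact (Subalgebra.fg_top _).mpr this⟩
    let eΓ : R ≃+* Γ(Spec R, ⊤) := (Scheme.ΓSpecIso R).symm.commRingCatIsoToRingEquiv
    exact hR.equiv eΓ.toIntAlgEquiv
  · intro t
    have hloc : ConsProp.locus P (pullback.snd v (D.map φ)) = D.map φ ⁻¹' ConsProp.locus P v :=
      locus_eq_preimage hP.1 hpb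
    have : t ∈ ConsProp.locus P (pullback.snd v (D.map φ)) := by
      rw [hloc]; exact hj t
    exact this

open AlgebraicGeometry CategoryTheory Limits in
/-- Let f : X → S be a morphism of finite presentation between affine schemes all of whose fibres have
dimension d. Then f is the base change of a morphism of finite type f₀ : X₀ → S₀ between affine
schemes with S₀ of finite type over ℤ, where f₀ can be chosen with the same property. -/
theorem result {X S : Scheme.{u}} (f : X ⟶ S) [IsAffine X] [IsAffine S] [LocallyOfFinitePresentation f] (d : ℕ) (hd : ∀ s : S, topologicalKrullDim ↑(f.fiber s) = d) :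
    ∃ (X₀ S₀ : Scheme.{u}) (f₀ : X₀ ⟶ S₀) (g : S ⟶ S₀) (g' : X ⟶ X₀), IsAffine X₀ ∧ IsAffine S₀ ∧ IsPullback g' f f₀ g ∧
      Algebra.FiniteType ℤ Γ(S₀, ⊤) ∧ LocallyOfFiniteType f₀ ∧ ∀ s₀ : S₀, topologicalKrullDim ↑(f₀.fiber s₀) = d := by
  exact aux f d hd

end Groth.Agent.S1464
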