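import Groth.Statements.S14641
import Mathlib
import Groth.Agent.Lib.Helper12Act
import Groth.Agent.Lib.Helper12Kernel
import Groth.Agent.Lib.Helper12BundleMap
import Groth.Agent.Lib.Helper6LfpComp

set_option autoImplicit false
universe u
open CategoryTheory MonoidalCategory CartesianMonoidalCategory MonObj GrpObj AlgebraicGeometry CategoryTheory.Limits
open AlgGrp

namespace Groth.Agent.S14641


open Groth.Agent.Lib.Helper12 Groth.Agent.Lib.Helper12.Kernel Groth.Agent.Lib.Helper12.BundleMap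
  CategoryTheory.Limits

/-- the kernel of the action of `G` on `G/H` is the largest normal subgroup contained in `H`. -/
theorem core {S : Scheme.{u}} {G H Q N : Over S} [GrpObj G] [GrpObj H] [GrpObj N] (i : H ⟶ G)
    (a : AlgGrp.Action G Q) (o : 𝟙_ (Over S) ⟶ Q)
    (hpb : IsPullback (fst G H) ((G ◁ i) ≫ μ[G]) (a.orbitMap o) (a.orbitMap o))
    (hloc : NonAbH1.IsLocallyTrivialFor Scheme.fpqcPrecoverage
      (Over.mk (a.orbitMap o).left : Over Q.left))
    (n : N ⟶ G)
    (hN : ∀ (T : Over S) (g : T ⟶ G),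
      (∃ m : T ⟶ N, m ≫ n = g) ↔
        ∀ (T' : Over S) (s : T' ⟶ T) (x : T' ⟶ Q), lift (s ≫ g) x ≫ a.act = x) :
    AlgGrp.IsNormalHom n ∧ (∃ f : N ⟶ H, f ≫ i = n) ∧
      ∀ (N' : Over S) [GrpObj N'] (n' : N' ⟶ G),
        AlgGrp.IsNormalHom n' → (∃ f : N' ⟶ H, f ≫ i = n') → ∃ f' : N' ⟶ N, f' ≫ n = n' := by
  have horb : ∀ {T : Over S} (g : T ⟶ G), g ≫ a.orbitMap o = lift g (toUnit T ≫ o) ≫ a.act := by
    intro T g
    unfold AlgGrp.Action.orbitMap
    rw [← Category.assoc, comp_lift, Category.comp_id, ← Category.assoc,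
      toUnit_unique (g ≫ toUnit G) (toUnit T)]
  -- H fixes o
  have hHfix : ∀ {T : Over S} (h : T ⟶ H), lift (h ≫ i) (toUnit T ≫ o) ≫ a.act = toUnit T ≫ o := by
    intro T h
    have h1 := congrArg (fun m => lift (1 : T ⟶ G) h ≫ m) hpb.w
    simp only [← Category.assoc, lift_fst] at h1
    rw [Category.assoc (lift 1 h), lift_act', _root_.one_mul, horb, horb, act_one] at h1
    exact h1.symm
  refine ⟨?_, ?_, ?_⟩
  · intro T g m
    suffices h : ∃ m' : T ⟶ N, m' ≫ n = g * (m ≫ n) * g⁻¹ by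
      obtain ⟨m', hm'⟩ := h
      exact ⟨m', hm'.symm⟩
    refine (hN T (g * (m ≫ n) * g⁻¹)).2 ?_
    intro T' s x
    have hm := (hN T (m ≫ n)).1 ⟨m, rfl⟩ T' s (lift (s ≫ g)⁻¹ x ≫ a.act)
    rw [MonObj.comp_mul, MonObj.comp_mul, GrpObj.comp_inv, act_mul, act_mul, hm, ← act_mul,
      mul_inv_cancel, act_one]
  · have hn := (hN N n).1 ⟨𝟙 N, Category.id_comp n⟩ N (𝟙 N) (toUnit N ≫ o)
    rw [Category.id_comp] at hn
    have hw : (1 : N ⟶ G) ≫ a.orbitMap o = n ≫ a.orbitMap o := by
      rw [horb, horb, hn, act_one]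
    refine ⟨hpb.lift 1 n hw ≫ snd G H, ?_⟩
    have e : hpb.lift 1 n hw = lift 1 (hpb.lift 1 n hw ≫ snd G H) := by
      apply CartesianMonoidalCategory.hom_ext
      · rw [lift_fst]; exact hpb.lift_fst _ _ _
      · rw [lift_snd]
    have h2 := hpb.lift_snd 1 n hw
    rw [e, lift_act', _root_.one_mul] at h2
    exact h2
  · intro N' _ n' hn' hf
    obtain ⟨f, hf⟩ := hf
    refine (hN N' n').2 ?_
    intro T' s x
    -- lift x locally to G
    have sq : IsPullback (pullback.fst x (a.orbitMap o)) (pullback.snd x (a.orbitMap o)) x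
        (a.orbitMap o) := IsPullback.of_hasPullback _ _
    obtain ⟨ρ, hρ⟩ : ∃ ρ, ρ = pullback.fst x (a.orbitMap o) := ⟨_, rfl⟩
    obtain ⟨γ0, hγ0⟩ : ∃ γ0, γ0 = pullback.snd x (a.orbitMap o) := ⟨_, rfl⟩
    rw [← hρ, ← hγ0] at sq
    have hρloc : NonAbH1.IsLocallyTrivialFor Scheme.fpqcPrecoverage
        (Over.mk ρ.left : Over T'.left) :=
      isLocallyTrivialFor_of_isPullback (sq.map (Over.forget S)) hloc
    haveI := epi_of_isLocallyTrivialFor ρ hρloc
    rw [← cancel_epi ρ, comp_lift_act, sq.w, horb]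
    obtain ⟨m', hm'⟩ := hn' _ γ0⁻¹ (ρ ≫ s)
    have h3 : (ρ ≫ s ≫ n') * γ0 = γ0 * (m' ≫ f ≫ i) := by
      rw [hf, ← hm', Category.assoc]
      group
    rw [← act_mul, h3, act_mul, ← Category.assoc m', hHfix]



/-- Over a field k, let G be a k-group scheme of finite type, i : H → G a closed subgroup scheme, and
(Q, o) the quotient G/H: a k-scheme with a G-action and a rational point o exhibiting it as the
quotient (orbit map flat and surjective, G × H ≅ G ×_Q G). Let n : N → G be a closed subgroup scheme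
which is the kernel of the action of G on Q, i.e. for every k-scheme T, a T-point g of G factors
through N exactly when g acts as the identity on Q_T (on all points of Q over T-schemes). Then N is
normal in G and contained in H, and N is the largest such subgroup: every closed subgroup scheme N'
of G which is normal in G and factors through H factors through N. -/
theorem result (k : Type u) [Field k]
    (G H Q N : Over (Spec (CommRingCat.of k))) [GrpObj G] [LocallyOfFiniteType G.hom] [QuasiCompact G.hom]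
    [GrpObj H] (i : H ⟶ G) [IsMonHom i] [IsClosedImmersion i.left]
    (a : AlgGrp.Action G Q) (o : 𝟙_ (Over (Spec (CommRingCat.of k))) ⟶ Q) (hQ : AGF.IsQuotient i Q a o)
    [GrpObj N] (n : N ⟶ G) [IsMonHom n] [IsClosedImmersion n.left]
    (hN : ∀ (T : Over (Spec (CommRingCat.of k))) (g : T ⟶ G),
      (∃ m : T ⟶ N, m ≫ n = g) ↔
        ∀ (T' : Over (Spec (CommRingCat.of k))) (s : T' ⟶ T) (x : T' ⟶ Q),
          CartesianMonoidalCategory.lift (s ≫ g) x ≫ a.act = x) :
    AlgGrp.IsNormalHom n ∧ (∃ f : N ⟶ H, f ≫ i = n) ∧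
      ∀ (N' : Over (Spec (CommRingCat.of k))) [GrpObj N'] (n' : N' ⟶ G) [IsMonHom n'] [IsClosedImmersion n'.left],
        AlgGrp.IsNormalHom n' → (∃ f : N' ⟶ H, f ≫ i = n') → ∃ f' : N' ⟶ N, f' ≫ n = n' := by
  obtain ⟨hlft, hflat, hsurj, hpb⟩ := hQ
  haveI := hflat
  haveI := hsurj
  haveI hlfp : LocallyOfFinitePresentation (a.orbitMap o).left := by
    haveI : LocallyOfFiniteType Q.hom := hlft
    refine Groth.Agent.Lib.Helper6.locallyOfFinitePresentation_of_comp (g := Q.hom) inferInstance ?_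
    rw [Over.w (a.orbitMap o)]
    infer_instance
  have hR : Presieve.singleton (a.orbitMap o).left ∈ Scheme.fpqcPrecoverage Q.left :=
    Scheme.fppfPrecoverage_le_fpqcPrecoverage _ (a.orbitMap o).left.singleton_mem_fppfPrecoverage
  have hloc : NonAbH1.IsLocallyTrivialFor Scheme.fpqcPrecoverage
      (Over.mk (a.orbitMap o).left : Over Q.left) := by
    refine ⟨Presieve.singleton (a.orbitMap o).left, hR, ?_⟩
    rintro T _ ⟨⟩
    exact ⟨𝟙 _, Category.id_comp _⟩
  obtain ⟨h1, h2, h3⟩ := core i a o hpb hloc n hN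
  exact ⟨h1, h2, fun N' _ n' _ _ hn' hf => h3 N' n' hn' hf⟩

end Groth.Agent.S14641
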