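import Groth.Statements.S14645
import Mathlib
import Groth.Agent.Lib.Helper11KPts

set_option autoImplicit false
universe u
open CategoryTheory MonoidalCategory CartesianMonoidalCategory MonObj GrpObj AlgebraicGeometry CategoryTheory.Limits
open AlgGrp

namespace Groth.Agent.S14645

open Groth.Agent.Lib.Helper11KPts Groth.Agent.Lib.Helper11HomSm


/-- Over a field k with algebraic closure K, let G be a smooth k-group scheme of finite type acting on a
variety X (a separated, geometrically integral k-scheme of finite type). Then X is homogeneous under
G, i.e. the graph morphism G × X → X × X, (g, x) ↦ (x, g·x), is surjective, if and only if the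
abstract group G(K) of K-points over k acts transitively on the set X(K): for all K-points x, y of X
there is a K-point g of G with g · x = y. -/
theorem result (k : Type u) [Field k]
    (G X : Over (Spec (CommRingCat.of k))) [GrpObj G] [Smooth G.hom] [QuasiCompact G.hom]
    [IsSeparated X.hom] [LocallyOfFiniteType X.hom] [QuasiCompact X.hom] [GeometricallyIntegral X.hom] (a : AlgGrp.Action G X)
    (K : Type u) [Field K] [Algebra k K] [IsAlgClosure k K] :
    Surjective (CartesianMonoidalCategory.lift (CartesianMonoidalCategory.snd G X) a.act).left ↔
      ∀ x y : Over.mk (Spec.map (CommRingCat.ofHom (algebraMap k K))) ⟶ X, ∃ g : Over.mk (Spec.map (CommRingCat.ofHom (algebraMap k K))) ⟶ G, CartesianMonoidalCategory.lift g x ≫ a.act = y := by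
  have hK : IsAlgClosed K := IsAlgClosure.isAlgClosed k
  have hlftG : LocallyOfFiniteType G.hom := inferInstance
  have hlftP : LocallyOfFiniteType (G ⊗ X).hom := by
    change LocallyOfFiniteType (pullback.fst G.hom X.hom ≫ G.hom)
    infer_instance
  have hqcP : QuasiCompact (G ⊗ X).hom := by
    change QuasiCompact (pullback.fst G.hom X.hom ≫ G.hom)
    infer_instance
  have hlftQ : LocallyOfFiniteType (X ⊗ X).hom := by
    change LocallyOfFiniteType (pullback.fst X.hom X.hom ≫ X.hom)
    infer_instance
  have hqcQ : QuasiCompact (X ⊗ X).hom := by
    change QuasiCompact (pullback.fst X.hom X.hom ≫ X.hom)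
    infer_instance
  constructor
  · intro hsurj x y
    have hlft : LocallyOfFiniteType ((lift (snd G X) a.act).left ≫ (X ⊗ X).hom) := by
      rw [Over.w]; infer_instance
    have hlft' : LocallyOfFiniteType (lift (snd G X) a.act).left :=
      locallyOfFiniteType_of_comp _ (X ⊗ X).hom
    obtain ⟨z, hz⟩ := exists_lift_over k K (lift (snd G X) a.act) (lift x y)
    refine ⟨z ≫ fst G X, ?_⟩
    have h1 : z ≫ snd G X = x := by
      have := congrArg (fun t => t ≫ fst X X) hz
      simpa using this
    have h2 : z ≫ a.act = y := by
      have := congrArg (fun t => t ≫ snd X X) hz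
      simpa using this
    rw [← h1, ← h2]
    congr 1
    apply CartesianMonoidalCategory.hom_ext
    · rw [lift_fst]
    · rw [lift_snd]
  · intro h
    apply surjective_of_points k K
    intro w
    obtain ⟨g, hg⟩ := h (w ≫ fst X X) (w ≫ snd X X)
    refine ⟨lift g (w ≫ fst X X), ?_⟩
    apply CartesianMonoidalCategory.hom_ext
    · rw [Category.assoc, lift_fst, lift_snd]
    · rw [Category.assoc, lift_snd, hg]

end Groth.Agent.S14645
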