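import Groth.Statements.S14649
import Groth.Agent.Lib.Helper29ExtRees
import Groth.Agent.Lib.Helper29GrStarCrit
import Groth.Agent.Lib.Helper2BlowQRLoc
import Groth.Agent.Lib.Helper28ProjNormal

set_option autoImplicit false
universe u
open FiltBl

namespace Groth.Agent.S14649

/-- Let A be a Noetherian local ring that is a quotient of a Gorenstein ring, and F a filtration of
ideals on A (F^0 = A ⊇ F^1 ⊇ ⋯, F^i F^j ⊆ F^{i+j}) with every F^n nonzero and ⋂ F^n = 0, whose Rees
algebra ⊕_{n ≥ 0} F^n X^n is finitely generated over A and with F^1 of height at least 2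
(equivalently, every F^n with n ≥ 1 has height at least 2, all F^n having the same radical). Then
the extended Rees algebra R' = ⊕_{n ∈ ℤ} F^n T^n ⊆ A[T, T⁻¹] is a Cohen–Macaulay ring if and only if
the associated graded ring G = ⊕ F^n/F^{n+1}, realised as R'/uR' with u = T⁻¹, is a Cohen–Macaulay
ring. (The published statement is made under the further standing assumption that no nonzero element
of the Rees algebra ⊕_{n ≥ 0} F^n T^n is annihilated by a power of the ideal generated by its
homogeneous elements of positive degree; this row does not assume it, and the assertion holds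
without it.) -/
theorem result (A : Type u) [CommRing A] [IsNoetherianRing A] [IsLocalRing A]
    (S : Type u) [CommRing S] [LocCoh.IsGorensteinRing S] (π : S →+* A) (hπ : Function.Surjective π)
    (𝓕 : FiltBl.IdealFiltration A) (hne : ∀ n, 𝓕.F n ≠ ⊥) (hsep : ⨅ n, 𝓕.F n = ⊥)
    (hfg : Algebra.FiniteType A 𝓕.rees) (hht : 2 ≤ (𝓕.F 1).height) :
    LocCoh.IsCohenMacaulayRing 𝓕.extRees ↔ LocCoh.IsCohenMacaulayRing 𝓕.Gr := by
  open Groth.Agent.Lib.Helper29ExtRees in
  haveI hN : IsNoetherianRing 𝓕.extRees := isNoetherianRing_extRees 𝓕 hfg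
  have hm := Groth.Agent.Lib.Helper29ExtRees.F_one_le_maximalIdeal 𝓕 hsep
  haveI hMp : (Groth.Agent.Lib.Helper29ExtRees.Mst 𝓕 (IsLocalRing.maximalIdeal A) hm).IsPrime :=
    Groth.Agent.Lib.Helper29ExtRees.Mst_isPrime 𝓕 _ hm
  constructor
  · intro hCM
    refine (Groth.Agent.Lib.Helper28.isCohenMacaulayRing_quotient_of_eq_ofList [𝓕.u]
      (Ideal.span {𝓕.u}) (Ideal.ofList_singleton _).symm ?_).1
    simpa using Ideal.one_le_height_span_singleton_of_mem_nonZeroDivisors
      (Groth.Agent.Lib.Helper29ExtRees.u_mem_nonZeroDivisors 𝓕)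
  · intro hCM
    have h1 := Groth.Agent.Lib.Helper2.BlowQRLoc.isCohenMacaulayLocalRing_localization_of_quotient_span_singleton
      𝓕.u (Groth.Agent.Lib.Helper29ExtRees.u_mem_nonZeroDivisors 𝓕) hCM
      (Groth.Agent.Lib.Helper29ExtRees.Mst 𝓕 (IsLocalRing.maximalIdeal A) hm)
      (Groth.Agent.Lib.Helper29ExtRees.u_mem_Mst 𝓕 _ hm)
    exact Groth.Agent.Lib.Helper29GrStarCrit.isCohenMacaulayRing_of_localization
      (Groth.Agent.Lib.Helper29ExtRees.grd 𝓕)
      (Groth.Agent.Lib.Helper29ExtRees.Mst 𝓕 (IsLocalRing.maximalIdeal A) hm)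
      (fun J hJ hJp => Groth.Agent.Lib.Helper29ExtRees.le_Mst_of_isHomogeneous 𝓕 hm J hJ hJp.ne_top)
      h1

end Groth.Agent.S14649
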