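import Groth.Statements.S15945
import Mathlib
import Groth.Agent.Lib.Helper22FerrandProp

set_option autoImplicit false
universe u
open Pinch

namespace Groth.Agent.S15945

open CategoryTheory AlgebraicGeometry TopologicalSpace Limits
open Groth.Agent.Lib.Helper22.Ferrand Groth.Agent.Lib.Helper22.SpPO

/-- Properties of an arbitrary pushout, by transport from the constructed one. -/
theorem props_of_isPushout {X Y Z : Scheme.{u}} (i : Z ⟶ X) (j : Z ⟶ Y) [IsClosedImmersion i]
    (hY : ∀ y : Y, ∃ k : AdPair i j, y ∈ k.V) {P : Scheme.{u}} (a : X ⟶ P) (b : Y ⟶ P)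
    (hP : IsPushout i j a b) :
    IsPullback i j a b ∧ IsClosedImmersion b ∧ (IsClosedImmersion j → IsClosedImmersion a) ∧
      (IsFinite j → IsFinite a) ∧ (IsIntegralHom j → IsIntegralHom a) := by
  obtain ⟨P₀, a₀, b₀, h0, h1, h2, h3, h4, h5⟩ := exists_pushout_props i j hY
  let e : P₀ ≅ P := h0.isoIsPushout _ _ hP
  have ha : a₀ ≫ e.hom = a := IsPushout.inl_isoIsPushout_hom _ _ h0 hP
  have hb : b₀ ≫ e.hom = b := IsPushout.inr_isoIsPushout_hom _ _ h0 hP
  refine ⟨?_, ?_, ?_, ?_, ?_⟩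
  · exact h1.of_iso (Iso.refl _) (Iso.refl _) (Iso.refl _) e (by simp) (by simp)
      (by simp [ha]) (by simp [hb])
  · rw [← hb]; infer_instance
  · intro hj
    have := h3 hj
    rw [← ha]; infer_instance
  · intro hj
    have := h4 hj
    rw [← ha]; infer_instance
  · intro hj
    have := h5 hj
    rw [← ha]; infer_instance

theorem hT_of_hstd {X Y T Z : Scheme.{u}} (f : X ⟶ Y) (t : T ⟶ Y) (ξ : Z ⟶ T) (ι : Z ⟶ X)
    [IsAffineHom t] [IsClosedImmersion ι] (hsq : ι ≫ f = ξ ≫ t)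
    (hstd : ∀ y : Y, ∃ U : Y.Opens, IsAffineOpen U ∧ y ∈ U ∧ ∃ V : X.Opens, IsAffineOpen V ∧
      V ≤ f ⁻¹ᵁ U ∧ ∀ z : Z, (ξ ≫ t).base z ∈ U → ι.base z ∈ V) :
    ∀ y' : T, ∃ k : AdPair ι ξ, y' ∈ k.V := by
  intro y'
  obtain ⟨U, hU, hyU, V, hV, hVU, hz⟩ := hstd (t.base y')
  refine ⟨⟨V, t ⁻¹ᵁ U, hV, hU.preimage t, ?_⟩, hyU⟩
  ext z
  constructor
  · intro hzV
    have h1 : f.base (ι.base z) ∈ U := hVU hzV
    have h2 : f.base (ι.base z) = t.base (ξ.base z) := congr($(hsq).base z)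
    rw [h2] at h1
    exact h1
  · intro hzU
    exact hz z hzU

open CategoryTheory AlgebraicGeometry in
/-- Let Y be a scheme, f : X → Y a morphism, t : T → Y a scheme affine over Y, ξ : Z → T a morphism with
Z affine over Y via ξ followed by t, and ι : Z → X a closed immersion over Y; assume every point of
Y has an affine open neighbourhood U together with an affine open V of X inside the preimage of U
containing the image under ι of the part of Z over U; assume moreover that Y is locally Noetherian,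
f and t are of finite type and ξ is finite, and let X → P ← T be a push-out of ι and ξ in the
category of schemes. Then X → P is finite, the square is also cartesian (Z is identified with X ×_P
T), and T → P is a closed immersion. -/
theorem result {X Y T Z : Scheme.{u}} (f : X ⟶ Y) (t : T ⟶ Y) (ξ : Z ⟶ T) (ι : Z ⟶ X)
    [IsAffineHom t] [IsAffineHom (ξ ≫ t)] [IsClosedImmersion ι] (hsq : ι ≫ f = ξ ≫ t)
    (hstd : ∀ y : Y, ∃ U : Y.Opens, IsAffineOpen U ∧ y ∈ U ∧ ∃ V : X.Opens, IsAffineOpen V ∧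
      V ≤ f ⁻¹ᵁ U ∧ ∀ z : Z, (ξ ≫ t).base z ∈ U → ι.base z ∈ V)
    [IsLocallyNoetherian Y] [LocallyOfFiniteType f] [QuasiCompact f] [LocallyOfFiniteType t] [QuasiCompact t]
    [IsFinite ξ] {P : Scheme.{u}} (a : X ⟶ P) (b : T ⟶ P) (hP : IsPushout ι ξ a b) :
    IsFinite a ∧ IsPullback ι ξ a b ∧ IsClosedImmersion b := by
  obtain ⟨h1, h2, -, h4, -⟩ := props_of_isPushout ι ξ (hT_of_hstd f t ξ ι hsq hstd) a b hP
  exact ⟨h4 inferInstance, h1, h2⟩

end Groth.Agent.S15945
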