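import Groth.Statements.S7183
import Mathlib
import Groth.Agent.Lib.Helper22PoMap
import Groth.Agent.Lib.Helper22PoMapAlg3
import Groth.Agent.S0432

set_option autoImplicit false
universe u
open FlatMor

namespace Groth.Agent.S7183

open CategoryTheory AlgebraicGeometry Limits TopologicalSpace PrimeSpectrum
open Groth.Agent.Lib.Helper22.Ferrand Groth.Agent.Lib.Helper22.SpPO

section Shrink

variable {X Y Z : Scheme.{u}} {i : Z ⟶ X} {j : Z ⟶ Y} [IsClosedImmersion i]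

theorem exists_sub_of_mem_U (l : AdPair i j) (U₀ : X.Opens) (V₀ : Y.Opens)
    (h₀ : i ⁻¹ᵁ U₀ = j ⁻¹ᵁ V₀) (x₀ : X) (hl : x₀ ∈ l.U) (h0 : x₀ ∈ U₀) :
    ∃ n : AdPair i j, n.U ≤ U₀ ∧ n.V ≤ V₀ ∧ x₀ ∈ n.U := by
  have hl' : x₀ ∈ (l.U : Set X) := hl
  rw [← l.range_cX] at hl'
  obtain ⟨x, rfl⟩ := hl'
  have hw : comap l.φA x ∈ satSet l.φB l.φA (l.cX.base ⁻¹' (U₀ : Set X))
      (l.cY.base ⁻¹' (V₀ : Set Y)) :=
    mem_satSet_of_snd l.fs l.p_surjective (l.sat_compat _ _ h₀) h0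
  obtain ⟨r, hr, hrU, hrV⟩ := l.exists_sub _ _ h₀ _ hw
  refine ⟨l.sub r, hrU, hrV, ?_⟩
  show l.cX.base x ∈ X.basicOpen (l.φA r)
  have : x ∈ l.hU.fromSpec ⁻¹ᵁ X.basicOpen (l.φA r) := by
    rw [l.hU.fromSpec_preimage_basicOpen]; exact hr
  exact this

theorem exists_sub_of_mem_V (l : AdPair i j) (U₀ : X.Opens) (V₀ : Y.Opens)
    (h₀ : i ⁻¹ᵁ U₀ = j ⁻¹ᵁ V₀) (y₀ : Y) (hl : y₀ ∈ l.V) (h0 : y₀ ∈ V₀) :
    ∃ n : AdPair i j, n.U ≤ U₀ ∧ n.V ≤ V₀ ∧ y₀ ∈ n.V := by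
  have hl' : y₀ ∈ (l.V : Set Y) := hl
  rw [← l.range_cY] at hl'
  obtain ⟨y, rfl⟩ := hl'
  have hw : comap l.φB y ∈ satSet l.φB l.φA (l.cX.base ⁻¹' (U₀ : Set X))
      (l.cY.base ⁻¹' (V₀ : Set Y)) :=
    mem_satSet_of_fst l.fs l.p_surjective (l.sat_compat _ _ h₀) h0
  obtain ⟨r, hr, hrU, hrV⟩ := l.exists_sub _ _ h₀ _ hw
  refine ⟨l.sub r, hrU, hrV, ?_⟩
  show l.cY.base y ∈ Y.basicOpen (l.φB r)
  have : y ∈ l.hV.fromSpec ⁻¹ᵁ Y.basicOpen (l.φB r) := by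
    rw [l.hV.fromSpec_preimage_basicOpen]; exact hr
  exact this

end Shrink

/-- a property local at the source, stable under composition and containing open immersions can be
checked on compatible charts. -/
theorem prop_of_charts (Q : MorphismProperty Scheme.{u}) [IsZariskiLocalAtSource Q]
    [Q.IsStableUnderComposition]
    (hoi : ∀ {S T : Scheme.{u}} (e : S ⟶ T) [IsOpenImmersion e], Q e)
    {P P' : Scheme.{u}} (h : P' ⟶ P) {ι : Type u} {S S' : ι → Scheme.{u}}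
    (c' : ∀ t, S' t ⟶ P') [∀ t, IsOpenImmersion (c' t)]
    (hcov : ∀ z : P', ∃ t, z ∈ Set.range (c' t).base)
    (c : ∀ t, S t ⟶ P) [∀ t, IsOpenImmersion (c t)] (m : ∀ t, S' t ⟶ S t)
    (hm : ∀ t, c' t ≫ h = m t ≫ c t) (hQ : ∀ t, Q (m t)) : Q h := by
  let 𝒰 : P'.OpenCover := Scheme.Cover.mkOfCovers ι S' c'
    (fun z => by obtain ⟨t, w, hw⟩ := hcov z; exact ⟨t, w, hw⟩) (fun t => inferInstance)
  apply IsZariskiLocalAtSource.of_openCover 𝒰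
  intro t'
  obtain ⟨t, rfl⟩ : ∃ t : ι, t = t' := ⟨t', rfl⟩
  show Q (c' t ≫ h)
  rw [hm t]
  exact Q.comp_mem _ _ (hQ t) (hoi (c t))

section Cover

variable {X Y Z X' Y' Z' : Scheme.{u}} {i : Z ⟶ X} {j : Z ⟶ Y} [IsClosedImmersion i]
  {i' : Z' ⟶ X'} {j' : Z' ⟶ Y'} [IsClosedImmersion i'] {f : X' ⟶ X} {g : Y' ⟶ Y} {c : Z' ⟶ Z}
  {P P' : Scheme.{u}} {a : X ⟶ P} {b : Y ⟶ P} {a' : X' ⟶ P'} {b' : Y' ⟶ P'}

omit [IsClosedImmersion i] [IsClosedImmersion i'] in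
theorem preimage_eq (hX : i' ≫ f = c ≫ i) (hY : j' ≫ g = c ≫ j) (k : AdPair i j) :
    i' ⁻¹ᵁ (f ⁻¹ᵁ k.U) = j' ⁻¹ᵁ (g ⁻¹ᵁ k.V) := by
  have h1 : i' ⁻¹ᵁ (f ⁻¹ᵁ k.U) = (i' ≫ f) ⁻¹ᵁ k.U := rfl
  have h2 : j' ⁻¹ᵁ (g ⁻¹ᵁ k.V) = (j' ≫ g) ⁻¹ᵁ k.V := rfl
  rw [h1, h2, hX, hY]
  show c ⁻¹ᵁ (i ⁻¹ᵁ k.U) = c ⁻¹ᵁ (j ⁻¹ᵁ k.V)
  rw [k.eq]

/-- every point of `P'` lies in a chart subordinate to a chart of `P`. -/
theorem exists_sub_pair (hX : i' ≫ f = c ≫ i) (hY : j' ≫ g = c ≫ j)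
    (hYcov : ∀ y : Y, ∃ k : AdPair i j, y ∈ k.V)
    (hYcov' : ∀ y : Y', ∃ k : AdPair i' j', y ∈ k.V)
    (ch' : Charts i' j' a' b') (z : P') :
    ∃ (k' : AdPair i' j') (k : AdPair i j), Sub f g k' k ∧ z ∈ Set.range (ch'.c k').base := by
  have hXcov := hX_of_hY i j hYcov
  have hXcov' := hX_of_hY i' j' hYcov'
  rcases ch'.jointly_surjective z with ⟨x', rfl⟩ | ⟨y', rfl⟩
  · obtain ⟨k, hk⟩ := hXcov (f.base x')
    obtain ⟨l', hl'⟩ := hXcov' x'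
    obtain ⟨n, hnU, hnV, hxn⟩ := exists_sub_of_mem_U l' (f ⁻¹ᵁ k.U) (g ⁻¹ᵁ k.V)
      (preimage_eq hX hY k) x' hl' hk
    exact ⟨n, k, ⟨hnU, hnV⟩, (ch'.mem_range_c_iff_X n x').mpr hxn⟩
  · obtain ⟨k, hk⟩ := hYcov (g.base y')
    obtain ⟨l', hl'⟩ := hYcov' y'
    obtain ⟨n, hnU, hnV, hyn⟩ := exists_sub_of_mem_V l' (f ⁻¹ᵁ k.U) (g ⁻¹ᵁ k.V)
      (preimage_eq hX hY k) y' hl' hk
    exact ⟨n, k, ⟨hnU, hnV⟩, (ch'.mem_range_c_iff_Y n y').mpr hyn⟩

end Cover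

set_option backward.isDefEq.respectTransparency.types false in

open AlgebraicGeometry CategoryTheory Limits in
/-- Let i : Z → X, j : Z → Y be closed immersions with pushout P, let X' → X and Y' → Y be morphisms
whose base changes to Z are identified (a scheme Z' cartesian over both), let P' be the pushout of
Z' → X' and Z' → Y' and h : P' → P the induced morphism. Then h is locally of finite type (resp.
flat, resp. flat and locally of finite presentation, resp. smooth, resp. étale) if and only if X' →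
X and Y' → Y both are. -/
theorem result {X Y Z P X' Y' Z' P' : Scheme.{u}}
    (i : Z ⟶ X) (j : Z ⟶ Y) [IsClosedImmersion i] [IsClosedImmersion j] (a : X ⟶ P) (b : Y ⟶ P) (hP : IsPushout i j a b)
    (f : X' ⟶ X) (g : Y' ⟶ Y) (i' : Z' ⟶ X') (j' : Z' ⟶ Y') (c : Z' ⟶ Z) (hX : IsPullback i' c f i) (hY : IsPullback j' c g j)
    (a' : X' ⟶ P') (b' : Y' ⟶ P') (hP' : IsPushout i' j' a' b') (h : P' ⟶ P) (ha : a' ≫ h = f ≫ a) (hb : b' ≫ h = g ≫ b) :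
    (LocallyOfFiniteType h ↔ LocallyOfFiniteType f ∧ LocallyOfFiniteType g) ∧
    (Flat h ↔ Flat f ∧ Flat g) ∧
    ((Flat h ∧ LocallyOfFinitePresentation h) ↔ (Flat f ∧ LocallyOfFinitePresentation f) ∧ (Flat g ∧ LocallyOfFinitePresentation g)) ∧
    (Smooth h ↔ Smooth f ∧ Smooth g) ∧
    (Etale h ↔ Etale f ∧ Etale g) := by
  haveI : IsClosedImmersion i' := MorphismProperty.of_isPullback hX.flip ‹_›
  haveI : IsClosedImmersion j' := MorphismProperty.of_isPullback hY.flip ‹_›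
  have hYcov : ∀ y : Y, ∃ k : AdPair i j, y ∈ k.V := Groth.Agent.S0432.exists_adPair i j
  have hYcov' : ∀ y : Y', ∃ k : AdPair i' j', y ∈ k.V := Groth.Agent.S0432.exists_adPair i' j'
  obtain ⟨ch⟩ := exists_charts_of_isPushout i j hYcov a b hP
  obtain ⟨ch'⟩ := exists_charts_of_isPushout i' j' hYcov' a' b' hP'
  choose k' k hs hz using exists_sub_pair hX.w hY.w hYcov hYcov' ch'
  obtain ⟨hpa, hpb⟩ := isPullback_of_subs k' k hs hX hY ch ch' h ha hb (fun z => ⟨z, hz z⟩)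
  have hq : ∀ z, Function.Surjective (k z).q := fun z => q_surjective i j (k z)
  -- the chart maps
  have hm : ∀ z, ch'.c (k' z) ≫ h = sp ((hs z).θ hX.w hY.w) ≫ ch.c (k z) :=
    fun z => (hs z).chart_comm hX.w hY.w ch ch' h ha hb
  have hcov : ∀ z : P', ∃ t, z ∈ Set.range (ch'.c (k' t)).base := fun z => ⟨z, hz z⟩
  have key : ∀ (Q : MorphismProperty Scheme.{u}) [IsZariskiLocalAtSource Q]
      [Q.IsStableUnderComposition]
      (_ : ∀ {S T : Scheme.{u}} (e : S ⟶ T) [IsOpenImmersion e], Q e),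
      (∀ z, Q (sp ((hs z).θ hX.w hY.w))) → Q h := by
    intro Q _ _ hoi hQ
    exact prop_of_charts Q hoi h (fun z => ch'.c (k' z)) hcov (fun z => ch.c (k z))
      (fun z => sp ((hs z).θ hX.w hY.w)) hm hQ
  have appf : ∀ (Q : MorphismProperty Scheme.{u}) (Qr) [HasRingHomProperty Q Qr] (_ : Q f) (z : P'),
      Qr (hs z).fA := fun Q Qr _ hf z =>
    HasRingHomProperty.appLE Q f hf ⟨(k z).U, (k z).hU⟩ ⟨(k' z).U, (k' z).hU⟩ (hs z).hU
  have appg : ∀ (Q : MorphismProperty Scheme.{u}) (Qr) [HasRingHomProperty Q Qr] (_ : Q g) (z : P'),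
      Qr (hs z).gB := fun Q Qr _ hg z =>
    HasRingHomProperty.appLE Q g hg ⟨(k z).V, (k z).hV⟩ ⟨(k' z).V, (k' z).hV⟩ (hs z).hV
  refine ⟨⟨fun hh => ⟨MorphismProperty.of_isPullback hpa hh, MorphismProperty.of_isPullback hpb hh⟩,
      fun ⟨hf, hg⟩ => ?_⟩,
    ⟨fun hh => ⟨MorphismProperty.of_isPullback hpa hh, MorphismProperty.of_isPullback hpb hh⟩,
      fun ⟨hf, hg⟩ => ?_⟩,
    ⟨fun ⟨hh1, hh2⟩ => ⟨⟨MorphismProperty.of_isPullback hpa hh1,
        MorphismProperty.of_isPullback hpa hh2⟩, ⟨MorphismProperty.of_isPullback hpb hh1,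
        MorphismProperty.of_isPullback hpb hh2⟩⟩, fun ⟨⟨hf1, hf2⟩, ⟨hg1, hg2⟩⟩ => ?_⟩,
    ⟨fun hh => ⟨MorphismProperty.of_isPullback hpa hh, MorphismProperty.of_isPullback hpb hh⟩,
      fun ⟨hf, hg⟩ => ?_⟩,
    ⟨fun hh => ⟨MorphismProperty.of_isPullback hpa hh, MorphismProperty.of_isPullback hpb hh⟩,
      fun ⟨hf, hg⟩ => ?_⟩⟩
  · refine key @LocallyOfFiniteType (fun e _ => inferInstance) (fun z => ?_)
    rw [sp, HasRingHomProperty.Spec_iff (P := @LocallyOfFiniteType)]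
    exact (((hs z).data hX hY).core2 (hq z)).1
      (appf @LocallyOfFiniteType _ hf z) (appg @LocallyOfFiniteType _ hg z)
  · refine key @Flat (fun e _ => inferInstance) (fun z => ?_)
    rw [sp, HasRingHomProperty.Spec_iff (P := @Flat)]
    exact ((hs z).data hX hY).core.2.2.1 (appf @Flat _ hf z) (appg @Flat _ hg z)
  · constructor
    · refine key @Flat (fun e _ => inferInstance) (fun z => ?_)
      rw [sp, HasRingHomProperty.Spec_iff (P := @Flat)]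
      exact ((hs z).data hX hY).core.2.2.1 (appf @Flat _ hf1 z) (appg @Flat _ hg1 z)
    · refine key @LocallyOfFinitePresentation (fun e _ => inferInstance) (fun z => ?_)
      rw [sp, HasRingHomProperty.Spec_iff (P := @LocallyOfFinitePresentation)]
      exact (((hs z).data hX hY).core2 (hq z)).2.1 (appf @Flat _ hf1 z) (appg @Flat _ hg1 z)
        (appf @LocallyOfFinitePresentation _ hf2 z) (appg @LocallyOfFinitePresentation _ hg2 z)
  · refine key @Smooth (fun e _ => inferInstance) (fun z => ?_)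
    rw [sp, HasRingHomProperty.Spec_iff (P := @Smooth)]
    exact (((hs z).data hX hY).core2 (hq z)).2.2.1 (appf @Smooth _ hf z) (appg @Smooth _ hg z)
  · refine key @Etale (fun e _ => inferInstance) (fun z => ?_)
    rw [sp, HasRingHomProperty.Spec_iff (P := @Etale)]
    exact (((hs z).data hX hY).core2 (hq z)).2.2.2 (appf @Etale _ hf z) (appg @Etale _ hg z)

end Groth.Agent.S7183
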