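import Groth.Statements.S1465
import Mathlib
import Groth.Agent.Lib.Helper22FibAffB
import Groth.Agent.Lib.Helper22PoMapAlg4
import Groth.Agent.S7183
import Groth.Agent.S7181

set_option autoImplicit false
universe u
open FlatMor

namespace Groth.Agent.S1465

open CategoryTheory AlgebraicGeometry Limits TopologicalSpace
open Groth.Agent.Lib.Helper22.Ferrand Groth.Agent.Lib.Helper22.SpPO Groth.Agent.Lib.Helper22.PoMap

set_option backward.isDefEq.respectTransparency.types false in

open AlgebraicGeometry CategoryTheory Limits in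
/-- Let i : Z → X be a closed immersion and j : Z → Y an integral morphism such that each fibre of j
lies in the preimage of an affine open of X. Let i' : Z' → X', j' : Z' → Y' and f : X' → X, g : Y' →
Y, h : Z' → Z form cartesian squares over i and j, with f, g, h separated and locally quasi-finite.
Then the pushouts W of (i, j) and W' of (i', j') exist in the category of schemes, the induced W' →
W is separated and locally quasi-finite, and the squares comparing Y' → W', X' → W' with Y → W, X →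
W are cartesian. -/
theorem result {X Y Z X' Y' Z' : Scheme.{u}}
    (i : Z ⟶ X) [IsClosedImmersion i] (j : Z ⟶ Y) [IsIntegralHom j]
    (h3 : ∀ y : Y, ∃ U : X.Opens, IsAffineOpen U ∧ j ⁻¹' {y} ⊆ (i ⁻¹ᵁ U : Set ↑Z))
    (i' : Z' ⟶ X') (j' : Z' ⟶ Y') (f : X' ⟶ X) (g : Y' ⟶ Y) (h : Z' ⟶ Z)
    (hX : IsPullback h i' i f) (hY : IsPullback h j' j g)
    [IsSeparated f] [LocallyQuasiFinite f] [LocallyOfFiniteType f] [IsSeparated g] [LocallyQuasiFinite g] [LocallyOfFiniteType g]
    [IsSeparated h] [LocallyQuasiFinite h] [LocallyOfFiniteType h] :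
    ∃ (W W' : Scheme.{u}) (a : Y ⟶ W) (b : X ⟶ W) (a' : Y' ⟶ W') (b' : X' ⟶ W') (k : W' ⟶ W),
      IsPushout j i a b ∧ IsPushout j' i' a' b' ∧ a' ≫ k = g ≫ a ∧ b' ≫ k = f ≫ b ∧
      IsSeparated k ∧ LocallyQuasiFinite k ∧ LocallyOfFiniteType k ∧ IsPullback g a' a k ∧ IsPullback f b' b k := by
  haveI : IsClosedImmersion i' := MorphismProperty.of_isPullback hX inferInstance
  haveI : IsIntegralHom j' := MorphismProperty.of_isPullback hY inferInstance
  have hYcov : ∀ y : Y, ∃ k : AdPair i j, y ∈ k.V := exists_adPair_integral i j h3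
  have h3' : ∀ y' : Y', ∃ U' : X'.Opens, IsAffineOpen U' ∧
      j' ⁻¹' {y'} ⊆ (i' ⁻¹ᵁ U' : Set ↑Z') := by
    intro y'
    obtain ⟨U, hU, hfibU⟩ := h3 (g.base y')
    apply Groth.Agent.Lib.Helper22.FibAff.exists_affine_open_fibre f i' j' y' U hU
    intro z' hz'
    have e1 : f.base (i'.base z') = i.base (h.base z') := (congr($(hX.w).base z')).symm
    have e2 : j.base (h.base z') = g.base (j'.base z') := congr($(hY.w).base z')
    rw [e1]
    apply hfibU
    show j.base (h.base z') = g.base y'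
    rw [e2, hz']
  have hYcov' : ∀ y' : Y', ∃ k : AdPair i' j', y' ∈ k.V := exists_adPair_integral i' j' h3'
  obtain ⟨W, aX, bY, hP, -, hbcl, -, -, haint⟩ := exists_pushout_props i j hYcov
  obtain ⟨W', aX', bY', hP', -, -, -, -, -⟩ := exists_pushout_props i' j' hYcov'
  haveI : IsIntegralHom aX := haint inferInstance
  haveI : IsClosedImmersion bY := hbcl
  have hcomp : i' ≫ (f ≫ aX) = j' ≫ (g ≫ bY) := by
    rw [← Category.assoc, ← hX.w, ← Category.assoc, ← hY.w, Category.assoc, Category.assoc, hP.w]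
  let k : W' ⟶ W := hP'.desc (f ≫ aX) (g ≫ bY) hcomp
  have hkX : aX' ≫ k = f ≫ aX := hP'.inl_desc _ _ _
  have hkY : bY' ≫ k = g ≫ bY := hP'.inr_desc _ _ _
  obtain ⟨ch⟩ := exists_charts_of_isPushout i j hYcov aX bY hP
  obtain ⟨ch'⟩ := exists_charts_of_isPushout i' j' hYcov' aX' bY' hP'
  have hXf : IsPullback i' h f i := hX.flip
  have hYf : IsPullback j' h g j := hY.flip
  choose k' kk hs hz using Groth.Agent.S7183.exists_sub_pair hXf.w hYf.w hYcov hYcov' ch'
  obtain ⟨hpa, hpb⟩ := isPullback_of_subs k' kk hs hXf hYf ch ch' k hkX hkY (fun z => ⟨z, hz z⟩)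
  have hm : ∀ z, ch'.c (k' z) ≫ k = sp ((hs z).θ hXf.w hYf.w) ≫ ch.c (kk z) :=
    fun z => (hs z).chart_comm hXf.w hYf.w ch ch' k hkX hkY
  have hcov : ∀ z : W', ∃ t, z ∈ Set.range (ch'.c (k' t)).base := fun z => ⟨z, hz z⟩
  have key : ∀ (Q : MorphismProperty Scheme.{u}) [IsZariskiLocalAtSource Q]
      [Q.IsStableUnderComposition]
      (_ : ∀ {S T : Scheme.{u}} (e : S ⟶ T) [IsOpenImmersion e], Q e),
      (∀ z, Q (sp ((hs z).θ hXf.w hYf.w))) → Q k := by
    intro Q _ _ hoi hQ
    exact Groth.Agent.S7183.prop_of_charts Q hoi k (fun z => ch'.c (k' z)) hcov (fun z => ch.c (kk z))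
      (fun z => sp ((hs z).θ hXf.w hYf.w)) hm hQ
  have appf : ∀ (Q : MorphismProperty Scheme.{u}) (Qr) [HasRingHomProperty Q Qr] (_ : Q f) (z : W'),
      Qr (hs z).fA := fun Q Qr _ hf z =>
    HasRingHomProperty.appLE Q f hf ⟨(kk z).U, (kk z).hU⟩ ⟨(k' z).U, (k' z).hU⟩ (hs z).hU
  have appg : ∀ (Q : MorphismProperty Scheme.{u}) (Qr) [HasRingHomProperty Q Qr] (_ : Q g) (z : W'),
      Qr (hs z).gB := fun Q Qr _ hg z =>
    HasRingHomProperty.appLE Q g hg ⟨(kk z).V, (kk z).hV⟩ ⟨(k' z).V, (k' z).hV⟩ (hs z).hV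
  have hsep : IsSeparated k := by
    refine (Groth.Agent.S7181.result i' j' h3' aX' bY' hP' (aX' ≫ k) (bY' ≫ k) k rfl rfl).1 ⟨?_, ?_⟩
    · rw [hkX]; infer_instance
    · rw [hkY]; infer_instance
  have hlft : LocallyOfFiniteType k := by
    refine key @LocallyOfFiniteType (fun e _ => inferInstance) (fun z => ?_)
    rw [sp, HasRingHomProperty.Spec_iff (P := @LocallyOfFiniteType)]
    exact ((hs z).data hXf hYf).core3.1
      (appf @LocallyOfFiniteType _ inferInstance z) (appg @LocallyOfFiniteType _ inferInstance z)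
  have hlqf : LocallyQuasiFinite k := by
    refine key @LocallyQuasiFinite (fun e _ => inferInstance) (fun z => ?_)
    rw [sp, HasRingHomProperty.Spec_iff (P := @LocallyQuasiFinite)]
    exact ((hs z).data hXf hYf).core3.2
      (appf @LocallyOfFiniteType _ inferInstance z) (appg @LocallyOfFiniteType _ inferInstance z)
      (appf @LocallyQuasiFinite _ inferInstance z) (appg @LocallyQuasiFinite _ inferInstance z)
  exact ⟨W, W', bY, aX, bY', aX', k, hP.flip, hP'.flip, hkY, hkX, hsep, hlqf, hlft, hpb.flip,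
    hpa.flip⟩

end Groth.Agent.S1465
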