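import Groth.Statements.S14650
import Groth.Agent.Lib.Helper29ExtRees
import Groth.Agent.Lib.Helper29GrStarCrit
import Groth.Agent.Lib.Helper29GorLocQuot

set_option autoImplicit false
universe u
open FiltBl

namespace Groth.Agent.S14650

/-- Let A be a Noetherian local ring that is a quotient of a Gorenstein ring, and F a filtration of
ideals on A (F^0 = A ⊇ F^1 ⊇ ⋯, F^i F^j ⊆ F^{i+j}) with every F^n nonzero and ⋂ F^n = 0, whose Rees
algebra ⊕_{n ≥ 0} F^n X^n is finitely generated over A and with F^1 of height at least 2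
(equivalently, every F^n with n ≥ 1 has height at least 2, all F^n having the same radical). Then
the extended Rees algebra R' = ⊕_{n ∈ ℤ} F^n T^n ⊆ A[T, T⁻¹] is a Gorenstein ring if and only if the
associated graded ring G = ⊕ F^n/F^{n+1}, realised as R'/uR' with u = T⁻¹, is a Gorenstein ring.
(The published statement is made under the further standing assumption that no nonzero element of
the Rees algebra ⊕_{n ≥ 0} F^n T^n is annihilated by a power of the ideal generated by its
homogeneous elements of positive degree; this row does not assume it, and the assertion holds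
without it.) -/
theorem result (A : Type u) [CommRing A] [IsNoetherianRing A] [IsLocalRing A]
    (S : Type u) [CommRing S] [LocCoh.IsGorensteinRing S] (π : S →+* A) (hπ : Function.Surjective π)
    (𝓕 : FiltBl.IdealFiltration A) (hne : ∀ n, 𝓕.F n ≠ ⊥) (hsep : ⨅ n, 𝓕.F n = ⊥)
    (hfg : Algebra.FiniteType A 𝓕.rees) (hht : 2 ≤ (𝓕.F 1).height) :
    LocCoh.IsGorensteinRing 𝓕.extRees ↔ LocCoh.IsGorensteinRing 𝓕.Gr := by
  haveI hN : IsNoetherianRing 𝓕.extRees :=
    Groth.Agent.Lib.Helper29ExtRees.isNoetherianRing_extRees 𝓕 hfg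
  have hm := Groth.Agent.Lib.Helper29ExtRees.F_one_le_maximalIdeal 𝓕 hsep
  haveI hMp : (Groth.Agent.Lib.Helper29ExtRees.Mst 𝓕 (IsLocalRing.maximalIdeal A) hm).IsPrime :=
    Groth.Agent.Lib.Helper29ExtRees.Mst_isPrime 𝓕 _ hm
  constructor
  · intro hG
    have hreg : IsSMulRegular 𝓕.extRees 𝓕.u := by
      intro a b hab
      have h := Groth.Agent.Lib.Helper29ExtRees.u_mem_nonZeroDivisors 𝓕
      have h2 : (a - b) * 𝓕.u = 0 := by
        rw [sub_mul, mul_comm a, mul_comm b]
        exact sub_eq_zero.mpr hab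
      exact sub_eq_zero.mp ((mem_nonZeroDivisors_iff_right.mp h) _ h2)
    exact Groth.Agent.Lib.Helper5.GorRing.gorRing_quotient_of_regular 𝓕.u hreg
  · intro hG
    have h1 := Groth.Agent.Lib.Helper29GorLocQuot.gorLocal_localization_of_quotient_span_singleton
      𝓕.u (Groth.Agent.Lib.Helper29ExtRees.u_mem_nonZeroDivisors 𝓕) hG
      (Groth.Agent.Lib.Helper29ExtRees.Mst 𝓕 (IsLocalRing.maximalIdeal A) hm)
      (Groth.Agent.Lib.Helper29ExtRees.u_mem_Mst 𝓕 _ hm)
    exact Groth.Agent.Lib.Helper29GrStarCrit.isGorensteinRing_of_localization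
      (Groth.Agent.Lib.Helper29ExtRees.grd 𝓕)
      (Groth.Agent.Lib.Helper29ExtRees.Mst 𝓕 (IsLocalRing.maximalIdeal A) hm)
      (fun J hJ hJp => Groth.Agent.Lib.Helper29ExtRees.le_Mst_of_isHomogeneous 𝓕 hm J hJ hJp.ne_top)
      h1

end Groth.Agent.S14650
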