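import Groth.Statements.S14660
import Groth.Agent.Lib.Helper29ExtRees
import Groth.Agent.Lib.Helper29ExtReesLoc
import Groth.Agent.Lib.Helper29LocQuotNum
import Groth.Agent.Lib.Helper29LocQuotSurj

set_option autoImplicit false
universe u
open FiltBl

namespace Groth.Agent.S14660

/-- (ii) ⇔ (iii): let A be a Noetherian local ring that is a quotient of a Gorenstein ring, and F a
filtration of ideals on A (F^0 = A ⊇ F^1 ⊇ ⋯, F^i F^j ⊆ F^{i+j}) with every F^n nonzero and ⋂ F^n =
0, whose Rees algebra ⊕_{n ≥ 0} F^n X^n is finitely generated over A and with F^1 of height at least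
2 (equivalently, every F^n with n ≥ 1 has height at least 2, all F^n having the same radical). Let
R' = ⊕_{n ∈ ℤ} F^n T^n ⊆ A[T, T⁻¹] be the extended Rees algebra, R_+R' its ideal generated by the
elements a T^n with n ≥ 1 and a ∈ F^n, u = T⁻¹, and G the associated graded ring, given here as any
ring with a surjection φ : R' → G whose kernel is uR', with G_+ = φ(R_+R'). Then the open subscheme
Spec R' − V(R_+R') is Cohen–Macaulay (every localization of R' at a prime not containing R_+R' is a
Cohen–Macaulay local ring) if and only if the localization G_p is Cohen–Macaulay for every prime p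
of G with G_+ ⊄ p and the localization A_q is Cohen–Macaulay for every prime q of A with F^1 ⊄ q.
(The published statement phrases the first condition for the scheme Spec_X ⊕_{n ∈ ℤ} O_X(n) over the
filtered blowing-up X = Proj ⊕_{n ≥ 0} F^n T^n, which is identified with this open subscheme of Spec
R'; it asks the condition on G only at homogeneous primes not containing G_+, which for the graded
ring G is equivalent to asking it at all such primes; it states the condition on A at the primes not
containing a fixed F^N with F^{nN} = (F^N)^n for all n, an ideal with the same radical as F^1; and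
it is made under the further standing assumption that no nonzero element of ⊕_{n ≥ 0} F^n T^n is
annihilated by a power of the ideal generated by its homogeneous elements of positive degree, which
this row does not assume and which is not needed.) -/
theorem result (A : Type u) [CommRing A] [IsNoetherianRing A] [IsLocalRing A]
    (S : Type u) [CommRing S] [LocCoh.IsGorensteinRing S] (π : S →+* A) (hπ : Function.Surjective π)
    (𝓕 : FiltBl.IdealFiltration A) (hne : ∀ n, 𝓕.F n ≠ ⊥) (hsep : ⨅ n, 𝓕.F n = ⊥)
    (hfg : Algebra.FiniteType A 𝓕.rees) (hht : 2 ≤ (𝓕.F 1).height)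
    (G : Type u) [CommRing G] (φ : 𝓕.extRees →+* G) (hφ : Function.Surjective φ)
    (hker : RingHom.ker φ = Ideal.span {𝓕.u}) (Rp : Ideal 𝓕.extRees)
    (hRp : Rp = Ideal.span {x : 𝓕.extRees | ∃ n : ℕ, 0 < n ∧ ∃ a ∈ 𝓕.F n,
      (x : LaurentPolynomial A) = LaurentPolynomial.C a * LaurentPolynomial.T (n : ℤ)}) :
    (∀ (P : Ideal 𝓕.extRees) [P.IsPrime], ¬ Rp ≤ P →
        LocCoh.IsCohenMacaulayLocalRing (Localization.AtPrime P)) ↔
      ((∀ (p : Ideal G) [p.IsPrime], ¬ Ideal.map φ Rp ≤ p →
          LocCoh.IsCohenMacaulayLocalRing (Localization.AtPrime p)) ∧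
        (∀ (q : Ideal A) [q.IsPrime], ¬ 𝓕.F 1 ≤ q →
            LocCoh.IsCohenMacaulayLocalRing (Localization.AtPrime q))) := by
  haveI hN : IsNoetherianRing 𝓕.extRees :=
    Groth.Agent.Lib.Helper29ExtRees.isNoetherianRing_extRees 𝓕 hfg
  haveI hNG : IsNoetherianRing G := isNoetherianRing_of_surjective _ G φ hφ
  have hnzd := Groth.Agent.Lib.Helper29ExtRees.u_mem_nonZeroDivisors 𝓕
  constructor
  · intro h
    constructor
    · intro p hp hnot
      have hP : ¬ Rp ≤ p.comap φ := by
        intro hle
        exact hnot (Ideal.map_le_iff_le_comap.mpr hle)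
      have h1 := h (p.comap φ) hP
      obtain ⟨e1, e2⟩ := Groth.Agent.Lib.Helper29LocQuotSurj.height_dep_of_surjective φ hφ 𝓕.u
        hker hnzd p
      rw [Groth.Agent.Lib.Helper29LocQuotNum.cm_iff] at h1 ⊢
      rw [e1, e2] at h1
      exact Groth.Agent.Lib.Helper29LocQuotSurj.enat_add_one_cancel h1
    · intro q hq hnot
      obtain ⟨P, hP, hmem, e1, e2⟩ := Groth.Agent.Lib.Helper29ExtReesLoc.case_base 𝓕 q
      obtain ⟨a, ha, haq⟩ := SetLike.not_le_iff_exists.mp hnot
      have hxm : (AddMonoidAlgebra.single (1 : ℤ) a : LaurentPolynomial A) ∈ 𝓕.extRees :=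
        Groth.Agent.Lib.Helper29ExtRees.single_mem 𝓕 (by simpa using ha)
      have hnotP : ¬ Rp ≤ P := by
        intro hle
        have hx : (⟨AddMonoidAlgebra.single (1 : ℤ) a, hxm⟩ : 𝓕.extRees) ∈ Rp := by
          rw [hRp]
          refine Ideal.subset_span ⟨1, one_pos, a, ha, ?_⟩
          exact LaurentPolynomial.single_eq_C_mul_T a 1
        have h2 := (hmem _).mp (hle hx) 1
        rw [AddMonoidAlgebra.coeff_single, Finsupp.single_eq_same] at h2
        exact haq h2
      have h1 := h P hnotP
      rw [Groth.Agent.Lib.Helper29LocQuotNum.cm_iff] at h1 ⊢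
      rw [e1, e2] at h1
      exact h1
  · rintro ⟨hG, hA⟩ P hP hnot
    by_cases hu : 𝓕.u ∈ P
    · obtain ⟨p, hp, hpe, hcm, e1, e2⟩ :=
        Groth.Agent.Lib.Helper29LocQuotSurj.case_mem_of_surjective φ hφ 𝓕.u hker hnzd P hu
      have hnotp : ¬ Ideal.map φ Rp ≤ p := by
        intro hle
        apply hnot
        rw [← hcm]
        exact Ideal.map_le_iff_le_comap.mp hle
      have h1 := hG p hnotp
      rw [Groth.Agent.Lib.Helper29LocQuotNum.cm_iff] at h1 ⊢
      rw [e1, e2, h1]
    · obtain ⟨c, e1, e2⟩ := Groth.Agent.Lib.Helper29ExtReesLoc.case_notMem 𝓕 P hu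
      have hnotq : ¬ 𝓕.F 1 ≤ P.comap (algebraMap A 𝓕.extRees) := by
        intro hle
        apply hnot
        rw [hRp, Ideal.span_le]
        rintro x ⟨n, hn, a, ha, hx⟩
        have haq : algebraMap A 𝓕.extRees a ∈ P := hle (𝓕.antitone hn ha)
        have hxu : x * 𝓕.u ^ n = algebraMap A 𝓕.extRees a := by
          apply Subtype.ext
          show (x : LaurentPolynomial A) * ((𝓕.u : 𝓕.extRees) : LaurentPolynomial A) ^ n = _
          rw [hx, Groth.Agent.Lib.Helper29ExtRees.coe_u, LaurentPolynomial.T_pow, mul_assoc,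
            ← LaurentPolynomial.T_add]
          simp
        rw [← hxu] at haq
        rcases Ideal.IsPrime.mem_or_mem hP haq with h3 | h3
        · exact h3
        · exact absurd (Ideal.IsPrime.mem_of_pow_mem hP n h3) hu
      have h1 := hA (P.comap (algebraMap A 𝓕.extRees)) hnotq
      rw [Groth.Agent.Lib.Helper29LocQuotNum.cm_iff] at h1 ⊢
      rw [e1, e2, h1]

end Groth.Agent.S14660
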