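import Groth.Statements.S14666
import Groth.Agent.Lib.Helper3Collapse
import Mathlib

set_option autoImplicit false
set_option linter.style.haveILetI false
universe u
open CategoryTheory CategoryTheory.Limits AlgebraicGeometry
open AbSch

namespace Groth.Agent.S14666

open Groth.Agent.Lib.Helper3.Collapse

/-- Let S be a locally Noetherian scheme, ξ : X ⟶ S a proper morphism all of whose geometric fibres are
integral and for which O_S ⟶ ξ_*O_X is an isomorphism (the map Γ(U, O_S) → Γ(ξ⁻¹U, O_X) is bijective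
for every open U of S), v : Y ⟶ S an arbitrary S-scheme and f : X ⟶ Y a morphism over S. Let U be
the set of points s of S such that f sends every point of the fibre ξ⁻¹(s) to one and the same point
of Y. Then U is open in S, and for every morphism τ : T ⟶ S the base change of f to T factors
through the projection X ×_S T ⟶ T — that is, there is r : T ⟶ Y with r ≫ v = τ and fst ≫ f = snd ≫
r on X ×_S T — if and only if τ maps every point of T into U. -/
theorem result {X Y S : Scheme.{u}} [IsLocallyNoetherian S]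
    (ξ : X ⟶ S) [IsProper ξ] [GeometricallyIntegral ξ]
    (h0 : ∀ U : S.Opens, Function.Bijective (ξ.app U).hom)
    (v : Y ⟶ S) (f : X ⟶ Y) (hf : f ≫ v = ξ) :
    IsOpen {s : ↥S | ∃ y : ↥Y, ∀ x : ↥X, ξ.base x = s → f.base x = y} ∧
    ∀ (T : Scheme.{u}) (τ : T ⟶ S),
      ((∃ r : T ⟶ Y, r ≫ v = τ ∧ pullback.fst ξ τ ≫ f = pullback.snd ξ τ ≫ r) ↔
        ∀ t : ↥T, τ.base t ∈ {s : ↥S | ∃ y : ↥Y, ∀ x : ↥X, ξ.base x = s → f.base x = y}) := by
  have hsurj : Function.Surjective ξ.base := ξ.surjective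
  have hcl : IsClosedMap ξ.base := ξ.isClosedMap
  have hinj : ∀ U : S.Opens, Function.Injective (ξ.app U).hom := fun U => (h0 U).1
  obtain ⟨C, hC⟩ : ∃ C : Set S, C = {s : ↥S | ∃ y : ↥Y, ∀ x : ↥X, ξ.base x = s → f.base x = y} :=
    ⟨_, rfl⟩
  rw [← hC]
  -- local factorizations
  have hloc : ∀ s : C, ∃ U : S.Opens, s.1 ∈ U ∧ ∃ r : (U : Scheme.{u}) ⟶ Y, Factors ξ f U r := by
    rintro ⟨s, hs⟩
    rw [hC] at hs
    obtain ⟨y, hy⟩ := hs
    exact exists_local_factor ξ f hcl h0 s y hy
  choose U hsU r hr using hloc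
  -- a factorization over `U` collapses the fibres over `U`
  have hsub : ∀ (W : S.Opens) (ρ : (W : Scheme.{u}) ⟶ Y), Factors ξ f W ρ → (W : Set S) ⊆ C := by
    intro W ρ hρ s hs
    rw [hC]
    refine ⟨ρ.base ⟨s, hs⟩, fun x hx => ?_⟩
    rw [factors_iff] at hρ
    have hxW : x ∈ ξ ⁻¹ᵁ W := by show ξ.base x ∈ W; rw [hx]; exact hs
    have h1 := congr($(hρ).base ⟨x, hxW⟩)
    refine h1.trans ?_
    show ρ.base ((ξ ∣_ W).base ⟨x, hxW⟩) = _
    congr 1
    apply Subtype.ext
    exact (morphismRestrict_base_coe ξ W ⟨x, hxW⟩).trans hx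
  have hCeq : C = ((⨆ s : C, U s : S.Opens) : Set S) := by
    apply Set.Subset.antisymm
    · intro s hs
      exact TopologicalSpace.Opens.mem_iSup.mpr ⟨⟨s, hs⟩, hsU ⟨s, hs⟩⟩
    · intro s hs
      obtain ⟨j, hj⟩ := TopologicalSpace.Opens.mem_iSup.mp hs
      exact hsub (U j) (r j) (hr j) hj
  obtain ⟨rC, hrC⟩ := exists_factors_iSup ξ f hsurj hinj U r hr
  refine ⟨?_, ?_⟩
  · rw [hCeq]
    exact (⨆ s : C, U s : S.Opens).isOpen
  intro T τ
  constructor
  · rintro ⟨ρ, hρ1, hρ2⟩ t
    rw [hC]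
    refine ⟨ρ.base t, fun x hx => ?_⟩
    obtain ⟨z, hz1, hz2⟩ := Scheme.Pullback.exists_preimage_pullback x t hx
    have h1 := congr($(hρ2).base z)
    change f.base ((pullback.fst ξ τ).base z) = ρ.base ((pullback.snd ξ τ).base z) at h1
    rw [hz1, hz2] at h1
    exact h1
  · intro hτ
    let C' : S.Opens := ⨆ s : C, U s
    have hrange : Set.range τ.base ⊆ Set.range C'.ι.base := by
      rintro _ ⟨t, rfl⟩
      rw [Scheme.Opens.range_ι]
      have := hτ t
      rw [hCeq] at this
      exact this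
    let τ' : T ⟶ (C' : Scheme.{u}) := IsOpenImmersion.lift C'.ι τ hrange
    have hτ' : τ' ≫ C'.ι = τ := IsOpenImmersion.lift_fac _ _ _
    have hv : rC ≫ v = C'.ι := by
      refine factors_unique ξ ξ hsurj hinj C' _ _ ?_ ?_
      · intro Z a b hab
        rw [← hf, ← Category.assoc, hrC Z a b hab, Category.assoc]
      · intro Z a b hab
        exact hab
    refine ⟨τ' ≫ rC, ?_, ?_⟩
    · rw [Category.assoc, hv, hτ']
    · rw [← Category.assoc]
      apply hrC
      rw [Category.assoc, hτ']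
      exact pullback.condition

end Groth.Agent.S14666
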