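import Groth.Statements.S14667
import Groth.Agent.Lib.Helper3RigidClopen
import Mathlib

set_option autoImplicit false
set_option linter.style.haveILetI false
universe u
open CategoryTheory CategoryTheory.Limits AlgebraicGeometry
open AbSch

namespace Groth.Agent.S14667

/-- Let S be a locally Noetherian scheme, ξ : X ⟶ S a proper flat morphism all of whose geometric fibres
are integral, v : Y ⟶ S a separated morphism and f : X ⟶ Y a morphism over S. Then the set U of
points s of S such that f sends every point of the fibre ξ⁻¹(s) to one and the same point of Y is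
closed and open in S. (Under flatness the condition that O_S ⟶ ξ_*O_X be an isomorphism, assumed for
openness in the non-flat case, holds automatically.) -/
theorem result {X Y S : Scheme.{u}} [IsLocallyNoetherian S]
    (ξ : X ⟶ S) [IsProper ξ] [Flat ξ] [GeometricallyIntegral ξ]
    (v : Y ⟶ S) [IsSeparated v] (f : X ⟶ Y) (hf : f ≫ v = ξ) :
    IsClosed {s : ↥S | ∃ y : ↥Y, ∀ x : ↥X, ξ.base x = s → f.base x = y} ∧ IsOpen {s : ↥S | ∃ y : ↥Y, ∀ x : ↥X, ξ.base x = s → f.base x = y} := by
  haveI : IsLocallyNoetherian X := LocallyOfFiniteType.isLocallyNoetherian ξ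
  have hsurj : Function.Surjective ξ.base := ξ.surjective
  have key := Groth.Agent.Lib.Helper3.RigidClopen.isClopen_collapsed ξ f v (𝟙 S)
    (by rw [hf, Category.comp_id])
    (fun s => Groth.Agent.Lib.Helper3.RigidClopen.bijective_appTop_of_geomIntegral_proper ξ s)
  have heq : {s : ↥S | ∃ y : ↥Y, ∀ x : ↥X, ξ.base x = s → f.base x = y} =
      {s : S | ∀ x₁ x₂ : X, ξ.base x₁ = s → ξ.base x₂ = s → f.base x₁ = f.base x₂} := by
    ext s
    constructor
    · rintro ⟨y, hy⟩ x₁ x₂ h1 h2
      rw [hy x₁ h1, hy x₂ h2]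
    · intro h
      obtain ⟨x₀, hx₀⟩ := hsurj s
      exact ⟨f.base x₀, fun x hx => h x x₀ hx hx₀⟩
  rw [heq]
  exact ⟨key.1, key.2⟩

end Groth.Agent.S14667
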