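import Groth.Statements.S14670
import Groth.Agent.Lib.Helper14QFFlat
import Groth.Agent.Lib.Helper28Catenary
import Groth.Agent.S2082

set_option autoImplicit false
universe u
open CAlg

namespace Groth.Agent.S14670

/-- Let R be a regular local ring and S an integral domain containing R as a subring over which it is a
finitely generated module, such that the localization of S at each of its maximal ideals is a
Cohen–Macaulay local ring. Then S is a flat R-module. (The published statement does not require S to
be a domain; in that generality it fails — for a discrete valuation ring R with residue field κ the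
ring R × κ contains R diagonally, is finite over R with Cohen–Macaulay localizations, and is not
flat — and the printed argument needs every maximal ideal of S to have height dim R, which holds
when S is a domain by going down.) -/
theorem result (R S : Type u) [CommRing R] [CommRing S]
    [IsRegularLocalRing R] [IsDomain S] [Algebra R S] [Module.Finite R S]
    (hinj : Function.Injective (algebraMap R S))
    (hCM : ∀ (q : Ideal S) [q.IsMaximal], LocCoh.IsCohenMacaulayLocalRing (Localization.AtPrime q)) :
    Module.Flat R S := by
  haveI : IsDomain R := Groth.Agent.Lib.Helper5.isDomain_of_isRegularLocalRing R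
  haveI : IsIntegrallyClosed R := Groth.Agent.Lib.Helper28.isIntegrallyClosed_of_isRegularLocalRing R
  haveI : Algebra.IsIntegral R S := Algebra.IsIntegral.of_finite R S
  haveI : FaithfulSMul R S := (faithfulSMul_iff_algebraMap_injective R S).mpr hinj
  haveI : IsNoetherianRing R := inferInstance
  haveI : IsNoetherianRing S := IsNoetherianRing.of_finite R S
  refine Module.flat_of_isLocalized_maximal S S (fun P _ => Localization.AtPrime P)
    (fun P _ => Algebra.linearMap S (Localization.AtPrime P)) ?_
  intro m hm
  haveI : m.IsPrime := hm.isPrime
  haveI := hCM m
  -- the contraction of `m` is the maximal ideal of `R`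
  have hcomap : m.comap (algebraMap R S) = IsLocalRing.maximalIdeal R := by
    haveI : (m.comap (algebraMap R S)).IsMaximal :=
      Ideal.isMaximal_comap_of_isIntegral_of_isMaximal m
    exact IsLocalRing.eq_maximalIdeal inferInstance
  -- local homomorphism
  haveI : IsLocalHom (algebraMap R (Localization.AtPrime m)) := by
    constructor
    intro a ha
    by_contra hna
    have h1 : a ∈ IsLocalRing.maximalIdeal R := (IsLocalRing.mem_maximalIdeal a).mpr hna
    rw [← hcomap, Ideal.mem_comap] at h1
    have h2 : algebraMap S (Localization.AtPrime m) (algebraMap R S a) ∈
        IsLocalRing.maximalIdeal (Localization.AtPrime m) := by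
      rw [← Localization.AtPrime.map_eq_maximalIdeal]
      exact Ideal.mem_map_of_mem _ h1
    rw [← IsScalarTower.algebraMap_apply] at h2
    exact (IsLocalRing.mem_maximalIdeal _).mp h2 ha
  -- dimensions
  have hfib := Groth.Agent.Lib.Helper14.QFFlat.ringKrullDim_fibre_eq_zero (A := R) m
  rw [hcomap] at hfib
  haveI : m.LiesOver (m.under R) := ⟨rfl⟩
  have h1 : m.height ≤ (m.under R).height :=
    Groth.Agent.Lib.Helper5.height_le_height_under_of_isIntegral m
  have h2 : (m.under R).height ≤ m.height :=
    Groth.Agent.Lib.Helper5.height_le_height_of_liesOver_of_hasGoingDown (m.under R) m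
  have hht : m.height = (IsLocalRing.maximalIdeal R).height := by
    rw [le_antisymm h1 h2]
    show (m.comap (algebraMap R S)).height = _
    rw [hcomap]
  apply Groth.Agent.S2082.result
  rw [hfib, add_zero, IsLocalization.AtPrime.ringKrullDim_eq_height m (Localization.AtPrime m), hht,
    IsLocalRing.maximalIdeal_height_eq_ringKrullDim]

end Groth.Agent.S14670
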