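import Groth.Statements.S14672
import Groth.Agent.Lib.Helper14FlatStage

set_option autoImplicit false
universe u
open scoped TensorProduct
open SymTen

namespace Groth.Agent.S14672

/-- Let R be a commutative ring, f : M → N a surjective R-linear map whose target N is flat over R, and
n ≥ 0. Then the induced map on symmetric tensors of degree n is surjective: every element of the
n-fold tensor power of N over R which is fixed by every permutation of the factors is the image,
under the n-fold tensor power of f, of an element of the n-fold tensor power of M fixed by every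
permutation of the factors. -/
theorem result (R : Type u) [CommRing R] (M N : Type u) [AddCommGroup M] [Module R M]
    [AddCommGroup N] [Module R N] [Module.Flat R N] (f : M →ₗ[R] N) (hf : Function.Surjective f) (n : ℕ)
    (t : ⨂[R] _ : Fin n, N) (ht : ∀ σ : Equiv.Perm (Fin n), PiTensorProduct.reindex R (fun _ : Fin n => N) σ t = t) :
    ∃ s : ⨂[R] _ : Fin n, M, (∀ σ : Equiv.Perm (Fin n), PiTensorProduct.reindex R (fun _ : Fin n => M) σ s = s) ∧
      PiTensorProduct.map (fun _ : Fin n => f) s = t := by
  classical
  obtain ⟨κ, _, _, u, z, hz⟩ := Groth.Agent.Lib.Helper14.FlatStage.exists_symm_rep_family n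
    ({()} : Finset Unit) (fun _ => t) (fun _ _ => ht)
  obtain ⟨hsym, hzt⟩ := hz () (Finset.mem_singleton_self _)
  obtain ⟨h, hh⟩ := Module.projective_lifting_property f u hf
  refine ⟨Groth.Agent.Lib.Helper14.FlatStage.Tmap n h (z ()), fun σ => ?_, ?_⟩
  · rw [← Groth.Agent.Lib.Helper14.FlatStage.Tmap_reindex, hsym σ]
  · show Groth.Agent.Lib.Helper14.FlatStage.Tmap n f _ = t
    rw [← Groth.Agent.Lib.Helper14.FlatStage.Tmap_comp, hh, hzt]

end Groth.Agent.S14672
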