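import Groth.Statements.S14679
import Groth.Agent.Lib.Helper20ResFld2

set_option autoImplicit false
universe u
open CategoryTheory CategoryTheory.Limits AlgebraicGeometry
open EtBase

namespace Groth.Agent.S14679

/-- Given a morphism of schemes f : X ⟶ Y and a point x ∈ X with image y = f(x), such that the residue
field map κ(y) → κ(x) is bijective; let ℓ be an algebraic extension field of κ(y) and form the base
change X ×_Y Spec ℓ along Spec ℓ ⟶ Spec κ(y) ⟶ Y. Then there is exactly one point of X ×_Y Spec ℓ
mapping to x under the first projection. (The published statement takes ℓ to be an algebraic closure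
of κ(y), noting that any algebraic extension works, and also identifies the local ring at the point
with O_{X,x} ⊗_{O_{Y,y}} ℓ; this row allows any algebraic extension ℓ and states only the first
assertion.) -/
theorem result {X Y : Scheme.{u}} (f : X ⟶ Y) (x : ↥X)
    (hx : Function.Bijective (f.residueFieldMap x).hom)
    (ℓ : Type u) [Field ℓ] [Algebra (Y.residueField (f.base x)) ℓ] [Algebra.IsAlgebraic (Y.residueField (f.base x)) ℓ] :
    ∃! z : ↥(pullback f (Spec.map (CommRingCat.ofHom (algebraMap (Y.residueField (f.base x)) ℓ)) ≫ Y.fromSpecResidueField (f.base x))),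
      (pullback.fst f (Spec.map (CommRingCat.ofHom (algebraMap (Y.residueField (f.base x)) ℓ)) ≫ Y.fromSpecResidueField (f.base x))).base z = x := by
  have hsub : Subsingleton ↥(Spec (CommRingCat.of ℓ)) :=
    inferInstanceAs (Subsingleton (PrimeSpectrum ℓ))
  have pt : ↥(Spec (CommRingCat.of ℓ)) := (⊥ : PrimeSpectrum ℓ)
  have hpt : (Spec.map (CommRingCat.ofHom (algebraMap (Y.residueField (f.base x)) ℓ)) ≫
      Y.fromSpecResidueField (f.base x)) pt = f x := by
    rw [Scheme.Hom.comp_apply]
    have := Scheme.range_fromSpecResidueField (X := Y) (f x)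
    have h2 : Y.fromSpecResidueField (f x) ((Spec.map (CommRingCat.ofHom
        (algebraMap (Y.residueField (f.base x)) ℓ))) pt) ∈ Set.range (Y.fromSpecResidueField (f x)) :=
      ⟨_, rfl⟩
    rw [this] at h2
    exact h2
  obtain ⟨z, hz1, hz2⟩ := Scheme.Pullback.exists_preimage_pullback (f := f)
    (g := Spec.map (CommRingCat.ofHom (algebraMap (Y.residueField (f.base x)) ℓ)) ≫
      Y.fromSpecResidueField (f.base x)) x pt hpt.symm
  refine ⟨z, hz1, ?_⟩
  intro z' hz'
  apply Groth.Agent.Lib.Helper20.ResFld.eq_of_fst_eq_of_snd_eq' z' z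
  · exact hz'.trans hz1.symm
  · exact Subsingleton.elim _ _
  · have e3 : pullback.fst f (Spec.map (CommRingCat.ofHom (algebraMap (Y.residueField (f.base x)) ℓ)) ≫
        Y.fromSpecResidueField (f.base x)) z = x := hz1
    rw [e3]
    exact hx

end Groth.Agent.S14679
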