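import Groth.Statements.S14695
import Mathlib
import Groth.Agent.Lib.Helper10GenTriv
import Groth.Agent.S13152
-- import your own Groth.Agent.* helpers here

set_option autoImplicit false
universe u
open CategoryTheory AlgebraicGeometry
open NonAbH1

namespace Groth.Agent.S14695

/-- In the case where the morphism Y → X is the identity of X: let X be a normal integral scheme
(integral, with every local ring an integrally closed domain), G and G' X-group schemes which are
finite and flat over X, and g : G → G' a homomorphism which becomes an isomorphism after base change
to the spectrum of the function field of X. If an fppf G-torsor P over X becomes trivial after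
extension of the structure group along g — there is an fppf G'-torsor P' over X with a g-equivariant
X-morphism P → P', and P' has a section over X — then P has a section over X. (The published
statement takes G, G' commutative and all schemes Noetherian, allows also composition with the
pull-back along a morphism Y → X admitting a rational section, and is phrased as injectivity of
H¹(X, G) → H¹(Y, G'_Y); this row is the case where Y → X is the identity of X, as the trivial-kernel
assertion the argument establishes, for which commutativity and the Noetherian condition are not
needed.) -/
theorem result {X : Scheme.{u}} [IsIntegral X]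
    (hX : Pi1.IsNormalScheme X) (G G' : Over X) [GrpObj G] [GrpObj G']
    [IsFinite G.hom] [Flat G.hom] [IsFinite G'.hom] [Flat G'.hom]
    (g : G ⟶ G') [IsMonHom g]
    (hg : IsIso ((Over.pullback (X.fromSpecStalk (genericPoint X))).map g))
    (P : Over X) (a : AlgGrp.Action G P) (hP : NonAbH1.IsTorsorFor Scheme.fppfPrecoverage a)
    (P' : Over X) (a' : AlgGrp.Action G' P') (hP' : NonAbH1.IsTorsorFor Scheme.fppfPrecoverage a')
    (hpush : NonAbH1.IsPushforwardAlongSch g a a') (htriv : NonAbH1.HasSectionOver P' (𝟙 X)) :
    NonAbH1.HasSectionOver P (𝟙 X) := by
  haveI : IsIso ((Over.pullback (X.fromSpecStalk (genericPoint X))).map g) := hg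
  haveI : Unique (Spec (X.presheaf.stalk (genericPoint X))) :=
    inferInstanceAs (Unique (Spec (.of X.functionField)))
  have hgen : NonAbH1.HasSectionOver P (X.fromSpecStalk (genericPoint X)) :=
    Groth.Agent.Lib.Helper10.GenTriv.hasSectionOver_of_isPushforward
      (X.fromSpecStalk (genericPoint X)) default (fun t => Subsingleton.elim _ _) g a hP a' hP'.1 hpush
      (by
        obtain ⟨s', hs'⟩ := htriv
        exact ⟨X.fromSpecStalk (genericPoint X) ≫ s', by rw [Category.assoc, hs', Category.comp_id]⟩)
  exact Groth.Agent.S13152.result hX G P a hP hgen

end Groth.Agent.S14695
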