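import Groth.Statements.S14688
import Mathlib
import Groth.Agent.Lib.Helper10PtsBij
import Groth.Agent.Lib.Helper10SekSuwa
import Groth.Agent.Lib.Helper10SekSuwa2
import Groth.Agent.S14694
import Groth.Agent.S14695
-- import your own Groth.Agent.* helpers here

set_option autoImplicit false
universe u
open CategoryTheory AlgebraicGeometry
open SekSuwa

namespace Groth.Agent.S14688

/-- Let R be a discrete valuation ring of characteristic zero and residue characteristic p, n ≥ 1, λ ∈ R
satisfying the divisibility condition under which the finite flat R-group scheme G_{λ,n} (the kernel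
of ψ on the one-parameter group with law s + t + λst, of order p^n) and its homomorphism α^{λ,n} to
μ_{p^n} are defined, and X a normal integral scheme which is faithfully flat over Spec R. If an fppf
torsor P over X under G_{λ,n} becomes trivial after extension of the structure group along α^{λ,n} —
there is an fppf μ_{p^n}-torsor P' over X with an α^{λ,n}-equivariant X-morphism P → P', and P' has
a section over X — then P has a section over X. So H¹(X, G_{λ,n}) → H¹(X, μ_{p^n}) has trivial
kernel, and the groups H¹(X, G_{π^i,n}) for decreasing i form an increasing filtration of H¹(X,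
μ_{p^n}). (The published statement is the filtration itself, for the commutative groups in question
injectivity of these homomorphisms; the trivial-kernel assertion stated here is what the argument
establishes.) -/
theorem result (R : Type u) [CommRing R] [IsDomain R] [IsDiscreteValuationRing R] [CharZero R]
    (p : ℕ) [Fact p.Prime] [CharP (IsLocalRing.ResidueField R) p]
    (n : ℕ) (hn : 0 < n) (lam : R) (h : SekSuwa.DivCond lam (p ^ n))
    (X : Scheme.{u}) [IsIntegral X] (hX : Pi1.IsNormalScheme X)
    (f : X ⟶ Spec (CommRingCat.of R)) [Flat f] [Surjective f]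
    (P : Over X) (a : AlgGrp.Action (Red.bc f (SekSuwa.GK R lam (p ^ n) h)) P)
    (hP : NonAbH1.IsTorsorFor Scheme.fppfPrecoverage a)
    (P' : Over X) (a' : AlgGrp.Action (Red.bc f (Red.diag R (ZMod (p ^ n)))) P')
    (hP' : NonAbH1.IsTorsorFor Scheme.fppfPrecoverage a')
    (hpush : NonAbH1.IsPushforwardAlongSch ((Over.pullback f).map (SekSuwa.alphaN R lam (p ^ n) h)) a a')
    (htriv : NonAbH1.HasSectionOver P' (𝟙 X)) :
    NonAbH1.HasSectionOver P (𝟙 X) := by
  have hN : 0 < p ^ n := pow_pos (Fact.out : p.Prime).pos n
  haveI : NeZero (p ^ n) := ⟨hN.ne'⟩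
  obtain ⟨⟨hfin1, hfl1, -⟩, -⟩ := Groth.Agent.S14694.result R lam (p ^ n) hN h
  haveI := hfin1
  haveI := hfl1
  haveI hfin2 : IsFinite (Red.diag R (ZMod (p ^ n))).hom := by
    change IsFinite (Spec.map (CommRingCat.ofHom
      (algebraMap R (MonoidAlgebra R (Multiplicative (ZMod (p ^ n)))))))
    rw [IsFinite.SpecMap_iff]
    simpa [RingHom.finite_algebraMap] using
      (inferInstance : Module.Finite R (MonoidAlgebra R (Multiplicative (ZMod (p ^ n)))))
  haveI hfl2 : Flat (Red.diag R (ZMod (p ^ n))).hom := by
    change Flat (Spec.map (CommRingCat.ofHom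
      (algebraMap R (MonoidAlgebra R (Multiplicative (ZMod (p ^ n)))))))
    rw [Flat.SpecMap_iff]
    simpa [RingHom.flat_algebraMap_iff] using
      (inferInstance : Module.Flat R (MonoidAlgebra R (Multiplicative (ZMod (p ^ n)))))
  haveI : IsFinite (Red.bc f (SekSuwa.GK R lam (p ^ n) h)).hom :=
    inferInstanceAs (IsFinite (Limits.pullback.snd (SekSuwa.GK R lam (p ^ n) h).hom f))
  haveI : Flat (Red.bc f (SekSuwa.GK R lam (p ^ n) h)).hom :=
    inferInstanceAs (Flat (Limits.pullback.snd (SekSuwa.GK R lam (p ^ n) h).hom f))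
  haveI : IsFinite (Red.bc f (Red.diag R (ZMod (p ^ n)))).hom :=
    inferInstanceAs (IsFinite (Limits.pullback.snd (Red.diag R (ZMod (p ^ n))).hom f))
  haveI : Flat (Red.bc f (Red.diag R (ZMod (p ^ n)))).hom :=
    inferInstanceAs (Flat (Limits.pullback.snd (Red.diag R (ZMod (p ^ n))).hom f))
  haveI : IsMonHom ((Over.pullback f).map (SekSuwa.alphaN R lam (p ^ n) h)) := inferInstance
  have hg : IsIso ((Over.pullback (X.fromSpecStalk (genericPoint X))).map
      ((Over.pullback f).map (SekSuwa.alphaN R lam (p ^ n) h))) := by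
    apply Groth.Agent.Lib.Helper10.PtsBij.isIso_pullback_map_of_bijective
    intro W
    rw [Groth.Agent.Lib.Helper10.PtsBij.bijective_comp_pullback_map_iff f]
    refine Groth.Agent.Lib.Helper10.PtsBij.bijective_comp_of_left_eq
      (SekSuwa.alphaNHom R lam (p ^ n) h :
        MonoidAlgebra R (Multiplicative (ZMod (p ^ n))) →ₐ[R] SekSuwa.AK R lam (p ^ n) h)
      (SekSuwa.alphaN R lam (p ^ n) h) rfl _ ?_
    letI := (Groth.Agent.Lib.Helper24FlatTF.Phi
      ((Over.map f).obj ((Over.map (X.fromSpecStalk (genericPoint X))).obj W)).hom).toAlgebra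
    refine Groth.Agent.Lib.Helper10.SekSuwaPts.bijective_comp_alphaNHom hN h _ ?_
    exact Groth.Agent.Lib.Helper10.SekSuwaPts.isUnit_Phi_of_flat f lam h.nzd W.hom
  exact Groth.Agent.S14695.result hX _ _ _ hg P a hP P' a' hP' hpush htriv

end Groth.Agent.S14688
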