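import Groth.Statements.S14692
import Mathlib
import Groth.Agent.Lib.Helper24Kummer

set_option autoImplicit false
universe u
open CAlg

namespace Groth.Agent.S14692

/-- Let R be a discrete valuation ring of characteristic zero and residue characteristic p, with
uniformizer π and a primitive p^n-th root of unity ζ (n ≥ 1), and A a Noetherian integrally closed
domain which is a faithfully flat R-algebra, in which πA is a prime ideal and every element that is
a unit modulo π is a unit (as when A is π-adically complete, or local). Let f, g be units of A, j a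
natural number with π^{p^{n−1}(p−1)(j+1)} dividing p (that is, j is less than the valuation of ζ −
1, so that the polynomials ((1 + π^{j}T)^{p^n} − 1)/π^{jp^n} and ((1 + π^{j+1}T)^{p^n} −
1)/π^{(j+1)p^n} have coefficients in R), and f₀ ∈ A with f·g^{p^n} = 1 + π^{j p^n}·f₀; suppose j is
maximal with this property: there is no unit g' of A with f·g'^{p^n} ≡ 1 modulo π^{(j+1)p^n}.
Suppose moreover that the algebra L = A[1/π][Z]/(Z^{p^n} − f) is an integral domain (the
μ_{p^n}-torsor Z^{p^n} = f is connected on the generic fibre) and that, B denoting the integral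
closure of A in L (the normalization of Spec A in that cover), the ideal πB is radical (the
normalization has reduced special fibre). Then f₀ is not congruent modulo πA to a p^n-th power. (The
published statement phrases the hypothesis on j as: the class of the torsor Z^{p^n} = f lies in
H¹(Spec A, G_{π^j,n}) and not in H¹(Spec A, G_{π^{j+1},n}); the conditions on g and g' are its
ring-theoretic form, which is the first assertion of the same lemma; A is there factorial and
π-adically complete, or normal local, which this row keeps only through the consequences used: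
integrally closed, and units lift modulo π.) -/
theorem result
    (R : Type u) [CommRing R] [IsDomain R] [IsDiscreteValuationRing R] [CharZero R]
    (p : ℕ) [Fact p.Prime] [CharP (IsLocalRing.ResidueField R) p] (ϖ : R) (hϖ : Irreducible ϖ)
    (n : ℕ) (hn : 0 < n) (ζ : R) (hζ : IsPrimitiveRoot ζ (p ^ n))
    (A : Type u) [CommRing A] [IsDomain A] [IsNoetherianRing A] [IsIntegrallyClosed A] [Algebra R A]
    [Module.FaithfullyFlat R A]
    (hprime : (Ideal.span {algebraMap R A ϖ}).IsPrime)
    (hlift : ∀ a : A, IsUnit (Ideal.Quotient.mk (Ideal.span {algebraMap R A ϖ}) a) → IsUnit a)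
    (f g : Aˣ) (j : ℕ) (hj : ϖ ^ (p ^ (n - 1) * (p - 1) * (j + 1)) ∣ (p : R)) (f₀ : A)
    (hfg : (f : A) * (g : A) ^ (p ^ n) = 1 + (algebraMap R A ϖ) ^ (j * p ^ n) * f₀)
    (hmax : ∀ (g' : Aˣ) (c : A), (f : A) * (g' : A) ^ (p ^ n) ≠ 1 + (algebraMap R A ϖ) ^ ((j + 1) * p ^ n) * c)
    [IsDomain (AdjoinRoot (Polynomial.X ^ (p ^ n) - Polynomial.C (algebraMap A (Localization.Away (algebraMap R A ϖ)) (f : A))))]
    (hred : (Ideal.span {algebraMap A (integralClosure A (AdjoinRoot (Polynomial.X ^ (p ^ n) - Polynomial.C (algebraMap A (Localization.Away (algebraMap R A ϖ)) (f : A))))) (algebraMap R A ϖ)}).IsRadical)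
    (g₀ : A) : f₀ - g₀ ^ (p ^ n) ∉ Ideal.span {(algebraMap R A ϖ)} := by
  classical
  intro hmem
  obtain ⟨d, hd⟩ := Ideal.mem_span_singleton'.1 hmem
  have hRA : Function.Injective (algebraMap R A) := FaithfulSMul.algebraMap_injective R A
  have hϖ0 : ϖ ≠ 0 := hϖ.ne_zero
  have hπ : algebraMap R A ϖ ≠ 0 := by
    rw [Ne, map_eq_zero_iff _ hRA]; exact hϖ0
  have hq : 0 < p ^ n := pow_pos (Fact.out : p.Prime).pos _
  -- injectivity A → L
  have hle : Submonoid.powers (algebraMap R A ϖ) ≤ nonZeroDivisors A :=
    Submonoid.powers_le.2 (mem_nonZeroDivisors_of_ne_zero hπ)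
  haveI : IsDomain (Localization.Away (algebraMap R A ϖ)) :=
    IsLocalization.isDomain_localization hle
  have hinj1 : Function.Injective (algebraMap A (Localization.Away (algebraMap R A ϖ))) :=
    IsLocalization.injective _ hle
  have hdeg : (Polynomial.X ^ (p ^ n) - Polynomial.C (algebraMap A
      (Localization.Away (algebraMap R A ϖ)) (f : A))).degree ≠ 0 := by
    rw [Polynomial.degree_X_pow_sub_C hq]
    exact_mod_cast hq.ne'
  have hinj2 := AdjoinRoot.of.injective_of_degree_ne_zero hdeg
  have hinj : Function.Injective (algebraMap A (AdjoinRoot (Polynomial.X ^ (p ^ n) -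
      Polynomial.C (algebraMap A (Localization.Away (algebraMap R A ϖ)) (f : A))))) := by
    intro a b hab
    exact hinj1 (hinj2 hab)
  -- ϖ ∣ p
  have hϖp : ϖ ∣ (p : R) := by
    refine Dvd.dvd.trans ?_ hj
    have : p ^ (n - 1) * (p - 1) * (j + 1) ≠ 0 := by
      have := (Fact.out : p.Prime).two_le
      exact Nat.mul_ne_zero (Nat.mul_ne_zero (pow_pos (Fact.out : p.Prime).pos _).ne' (by omega))
        (by omega)
    exact dvd_pow_self ϖ this
  have hpπ : algebraMap R A ϖ ∣ (p : A) := by
    have := map_dvd (algebraMap R A) hϖp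
    rwa [map_natCast] at this
  have hζA : IsPrimitiveRoot (algebraMap R A ζ) (p ^ n) := hζ.map_of_injective hRA
  have hdv : ∀ i : ℕ, algebraMap R A ϖ ^ (j + 1) ∣ algebraMap R A ζ ^ i - 1 := by
    intro i
    have := map_dvd (algebraMap R A)
      (Groth.Agent.Lib.Helper24Kummer.dvd_zeta_pow_sub_one p n hn ζ hζ ϖ (j + 1) hj i)
    rwa [map_pow, map_sub, map_pow, map_one] at this
  have hlift' : ∀ a : A, (∃ a' d : A, a * a' = 1 + algebraMap R A ϖ * d) → IsUnit a := by
    rintro a ⟨a', d', h⟩
    apply hlift
    refine IsUnit.of_mul_eq_one (Ideal.Quotient.mk _ a') ?_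
    rw [← map_mul, h, map_add, map_one, add_eq_left, Ideal.Quotient.eq_zero_iff_mem]
    exact Ideal.mul_mem_right _ _ (Ideal.subset_span rfl)
  have hZ : (AdjoinRoot.root (Polynomial.X ^ (p ^ n) -
      Polynomial.C (algebraMap A (Localization.Away (algebraMap R A ϖ)) (f : A)))) ^ (p ^ n) =
      algebraMap A (AdjoinRoot (Polynomial.X ^ (p ^ n) -
      Polynomial.C (algebraMap A (Localization.Away (algebraMap R A ϖ)) (f : A)))) (f : A) := by
    have h0 := AdjoinRoot.mk_self (f := (Polynomial.X ^ (p ^ n) -
      Polynomial.C (algebraMap A (Localization.Away (algebraMap R A ϖ)) (f : A))))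
    rw [map_sub, map_pow, AdjoinRoot.mk_X, AdjoinRoot.mk_C, sub_eq_zero] at h0
    rw [h0]
    rfl
  have hu : algebraMap A (AdjoinRoot (Polynomial.X ^ (p ^ n) -
      Polynomial.C (algebraMap A (Localization.Away (algebraMap R A ϖ)) (f : A))))
      (algebraMap R A ϖ) * AdjoinRoot.of _ (IsLocalization.Away.invSelf (algebraMap R A ϖ)) = 1 := by
    have h0 := IsLocalization.Away.mul_invSelf (S := Localization.Away (algebraMap R A ϖ))
      (algebraMap R A ϖ)
    have h1 := congrArg (AdjoinRoot.of (Polynomial.X ^ (p ^ n) -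
      Polynomial.C (algebraMap A (Localization.Away (algebraMap R A ϖ)) (f : A)))) h0
    rw [map_mul, map_one] at h1
    exact h1
  exact Groth.Agent.Lib.Helper24Kummer.core hinj (algebraMap R A ϖ) hπ _ hu p hpπ n
    (algebraMap R A ζ) hζA j hdv hlift' f g f₀ hfg hmax _ hZ hred g₀ d (by rw [← hd]; ring)

end Groth.Agent.S14692
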